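import Groth.Statements.S14123
import Mathlib

set_option autoImplicit false
universe u v
open GmQuot

namespace Groth.Agent.S14123

/-- Let `A = ⊕_{d ∈ ℤ} A_d` be a graded commutative ring whose ideal `I₊` generated by the homogeneous
elements of positive degree is finitely generated, `R` a discrete valuation ring with fraction field
`K`, and `φ : A → R` a ring map with `φ(I₊) ≠ 0` and `φ(I₊)` inside the maximal ideal. Then after a
finite extension `K'/K` and a discrete valuation ring `R'` of `K'` dominating `R` there are a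
nonzero non-unit `ϖ ∈ R'` and a ring map `g : A → R'` with `g(a) ϖ^d = φ(a)` for every homogeneous
`a` of degree `d` (so `g` is `φ` rescaled through the grading by `ϖ`), such that `g(I₊) R' = R'`.
(The published statement is phrased for the quotient stack of `Spec A` by the multiplicative group
and its closed substack cut out by `I₊`, in a setting where `A` is Noetherian, being of finite type
over a Noetherian base: an `R`-point whose closed point lies in that substack and whose generic
point does not admits, after a finite extension, an elementary modification avoiding the substack;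
this row is the graded-ring statement the printed argument proves, assuming only that `I₊` is
finitely generated, which is all that argument uses, and with `ϖ` not required to be a uniformizer.) -/
theorem result
    {A : Type u} [CommRing A] (𝒜 : ℤ → AddSubgroup A) [GradedRing 𝒜]
    (hfg : (Ideal.span {a : A | ∃ d : ℤ, 0 < d ∧ a ∈ 𝒜 d}).FG)
    (R : Type v) [CommRing R] [IsDomain R] [IsDiscreteValuationRing R]
    (K : Type v) [Field K] [Algebra R K] [IsFractionRing R K]
    (φ : A →+* R)
    (hle : Ideal.map φ (Ideal.span {a : A | ∃ d : ℤ, 0 < d ∧ a ∈ 𝒜 d}) ≤ IsLocalRing.maximalIdeal R)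
    (hne : Ideal.map φ (Ideal.span {a : A | ∃ d : ℤ, 0 < d ∧ a ∈ 𝒜 d}) ≠ ⊥) :
    ∃ (R' : Type v) (_ : CommRing R') (_ : IsDomain R') (_ : IsDiscreteValuationRing R')
      (K' : Type v) (_ : Field K') (_ : Algebra R' K') (_ : IsFractionRing R' K')
      (_ : Algebra R R') (_ : Algebra K K') (_ : Algebra R K')
      (_ : IsScalarTower R R' K') (_ : IsScalarTower R K K')
      (_ : Module.Finite K K') (_ : IsLocalHom (algebraMap R R'))
      (ϖ : R') (g : A →+* R'),
      ϖ ≠ 0 ∧ ϖ ∈ IsLocalRing.maximalIdeal R' ∧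
      (∀ (d : ℤ) (a : A), a ∈ 𝒜 d →
        algebraMap R' K' (g a) * algebraMap R' K' ϖ ^ d = algebraMap R K' (φ a)) ∧
      Ideal.map g (Ideal.span {a : A | ∃ d : ℤ, 0 < d ∧ a ∈ 𝒜 d}) = ⊤ := by
  classical
  obtain ⟨π, hπ⟩ := IsDiscreteValuationRing.exists_irreducible R
  -- finitely many homogeneous generators of positive degree
  obtain ⟨s, hs, hspan⟩ := Submodule.fg_span_iff_fg_span_finset_subset _ |>.1 hfg
  have hdeg : ∀ a : s, ∃ d : ℕ, 0 < d ∧ (a : A) ∈ 𝒜 (d : ℤ) := by
    rintro ⟨a, ha⟩
    obtain ⟨d, hd, had⟩ := hs ha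
    exact ⟨d.toNat, by omega, by rwa [Int.toNat_of_nonneg hd.le]⟩
  choose deg hdeg0 hdegmem using hdeg
  have hJ : ∀ a : A, a ∈ Ideal.span {a : A | ∃ d : ℤ, 0 < d ∧ a ∈ 𝒜 d} →
      a ∈ Ideal.span (Set.range fun j : s => (j : A)) := fun a ha => by
    rw [Subtype.range_coe_subtype]
    exact hspan.le ha
  obtain ⟨j1, hj1⟩ : ∃ j : s, φ j ≠ 0 := by
    by_contra h
    push Not at h
    refine hne (le_bot_iff.1 (Ideal.map_le_iff_le_comap.2 fun a ha => ?_))
    refine (Ideal.span_le.2 ?_) (hJ a ha)
    rintro _ ⟨j, rfl⟩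
    exact h j
  have hval : ∀ j : s, ∃ (v : ℕ) (u : Rˣ), φ j ≠ 0 → φ j = u * π ^ v := fun j => by
    by_cases h : φ j = 0
    · exact ⟨0, 1, fun h' => absurd h h'⟩
    · obtain ⟨v, u, hu⟩ := IsDiscreteValuationRing.eq_unit_mul_pow_irreducible h hπ
      exact ⟨v, u, fun _ => hu⟩
  choose v u hu using hval
  obtain ⟨j0, hj0, hmin⟩ := Finset.exists_min_image (Finset.univ.filter fun j : s => φ j ≠ 0)
    (fun j => (v j : ℚ) / (deg j : ℚ)) ⟨j1, by simp [hj1]⟩
  simp only [Finset.mem_filter, Finset.mem_univ, true_and] at hj0 hmin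
  set n := deg j0 with hn
  have hn0 : 0 < n := hdeg0 j0
  have hmin' : ∀ j : s, φ j ≠ 0 → v j0 * deg j ≤ v j * n := fun j hj => by
    have h := hmin j hj
    rw [div_le_div_iff₀ (by exact_mod_cast hdeg0 j0) (by exact_mod_cast hdeg0 j)] at h
    exact_mod_cast h
  have hv0 : 0 < v j0 := by
    have : φ j0 ∈ IsLocalRing.maximalIdeal R :=
      hle (Ideal.mem_map_of_mem φ (Ideal.subset_span (hs j0.2)))
    by_contra h
    rw [hu j0 hj0, Nat.eq_zero_of_not_pos h, pow_zero, mul_one] at this
    exact this (u j0).isUnit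
  -- the ramified extension
  let f : Polynomial R := Polynomial.X ^ n - Polynomial.C π
  have hfm : f.Monic := Polynomial.monic_X_pow_sub_C π hn0.ne'
  have hfd : f.natDegree = n := Polynomial.natDegree_X_pow_sub_C
  have hmax : IsLocalRing.maximalIdeal R = Ideal.span {π} := hπ.maximalIdeal_eq
  have hfirr : Irreducible f := by
    refine Polynomial.IsEisensteinAt.irreducible (𝓟 := IsLocalRing.maximalIdeal R) ⟨?_, ?_, ?_⟩
      (IsLocalRing.maximalIdeal.isMaximal R).isPrime hfm.isPrimitive (hfd ▸ hn0)
    · rw [hfm.leadingCoeff]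
      exact fun h => h isUnit_one
    · intro i hi
      rw [hfd] at hi
      simp only [f, Polynomial.coeff_sub, Polynomial.coeff_X_pow, if_neg hi.ne, zero_sub,
        Polynomial.coeff_C]
      split_ifs
      · rw [hmax, Ideal.mem_span_singleton]; exact dvd_neg.2 dvd_rfl
      · simp
    · rw [Polynomial.coeff_sub, Polynomial.coeff_X_pow, if_neg hn0.ne, zero_sub, Polynomial.coeff_C_zero,
        hmax, Ideal.span_singleton_pow, Ideal.mem_span_singleton, dvd_neg]
      intro hd
      obtain ⟨c, hc⟩ := hd
      refine hπ.not_isUnit (IsUnit.of_mul_eq_one c ?_)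
      exact mul_left_cancel₀ hπ.ne_zero (by linear_combination -hc)
  let R' := AdjoinRoot f
  haveI : Fact (Prime f) := ⟨hfirr.prime⟩
  haveI hdom : IsDomain R' := AdjoinRoot.isDomain_of_prime hfirr.prime
  haveI : Module.Finite R R' := hfm.finite_adjoinRoot
  let x : R' := AdjoinRoot.root f
  have hxn : x ^ n = algebraMap R R' π := by
    have h := AdjoinRoot.eval₂_root f
    simp only [f, Polynomial.eval₂_sub, Polynomial.eval₂_pow, Polynomial.eval₂_X,
      Polynomial.eval₂_C, sub_eq_zero] at h
    exact h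
  have hπ0 : IsLocalRing.residue R π = 0 :=
    Ideal.Quotient.eq_zero_iff_mem.2 (hmax ▸ Ideal.mem_span_singleton_self π)
  let χ : R' →+* IsLocalRing.ResidueField R := AdjoinRoot.lift (IsLocalRing.residue R) 0 (by
    simp [f, zero_pow hn0.ne', hπ0])
  have hχof : ∀ c, χ (algebraMap R R' c) = IsLocalRing.residue R c := fun c => AdjoinRoot.lift_of _
  have hχx : χ x = 0 := AdjoinRoot.lift_root _
  have hχsurj : Function.Surjective χ := fun y => by
    obtain ⟨c, rfl⟩ := IsLocalRing.residue_surjective y
    exact ⟨_, hχof c⟩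
  have hχker : RingHom.ker χ = Ideal.span {x} := by
    refine le_antisymm (fun r hr => ?_)
      (Ideal.span_le.2 (Set.singleton_subset_iff.2 hχx))
    obtain ⟨q, rfl⟩ := AdjoinRoot.mk_surjective r
    have hq : AdjoinRoot.mk f q = x * AdjoinRoot.mk f q.divX + algebraMap R R' (q.coeff 0) := by
      conv_lhs => rw [← Polynomial.X_mul_divX_add q]
      rw [map_add, map_mul, AdjoinRoot.mk_X, AdjoinRoot.mk_C]
      rfl
    rw [RingHom.mem_ker, hq, map_add, map_mul, hχx, zero_mul, zero_add, hχof,
      IsLocalRing.residue_eq_zero_iff, hmax, Ideal.mem_span_singleton] at hr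
    obtain ⟨c, hc⟩ := hr
    rw [hq, hc, map_mul, ← hxn]
    refine Ideal.add_mem _ (Ideal.mem_span_singleton.2 (dvd_mul_right _ _))
      (Ideal.mem_span_singleton.2 (dvd_mul_of_dvd_left (dvd_pow_self x hn0.ne') _))
  have hxmax : (Ideal.span {x}).IsMaximal := hχker ▸ RingHom.ker_isMaximal_of_surjective χ hχsurj
  haveI hloc : IsLocalRing R' := IsLocalRing.of_unique_max_ideal ⟨Ideal.span {x}, hxmax, fun M hM => by
    have hc : (M.comap (algebraMap R R')).IsMaximal :=
      Ideal.isMaximal_comap_of_isIntegral_of_isMaximal M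
    have hπM : algebraMap R R' π ∈ M := by
      have : π ∈ M.comap (algebraMap R R') := by
        rw [IsLocalRing.eq_maximalIdeal hc, hmax]
        exact Ideal.mem_span_singleton_self π
      exact this
    rw [← hxn] at hπM
    exact (hxmax.eq_of_le hM.ne_top
      (Ideal.span_le.2 (Set.singleton_subset_iff.2 (hM.isPrime.mem_of_pow_mem _ hπM)))).symm⟩
  have hmax' : IsLocalRing.maximalIdeal R' = Ideal.span {x} := (IsLocalRing.eq_maximalIdeal hxmax).symm
  have hinjR : Function.Injective (algebraMap R R') :=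
    AdjoinRoot.of.injective_of_degree_ne_zero (by
      rw [Polynomial.degree_X_pow_sub_C hn0]
      exact_mod_cast hn0.ne')
  have hx0 : x ≠ 0 := fun h => hπ.ne_zero (hinjR (by rw [← hxn, h, zero_pow hn0.ne', map_zero]))
  have hnf : ¬ IsField R' := fun h => hx0 (by
    have := (IsLocalRing.isField_iff_maximalIdeal_eq.1 h)
    rwa [hmax', Ideal.span_singleton_eq_bot] at this)
  haveI : IsNoetherianRing R' := IsNoetherianRing.of_finite R R'
  haveI hdvr : IsDiscreteValuationRing R' :=
    ((IsDiscreteValuationRing.TFAE R' hnf).out 4 0 rfl rfl).1 ⟨⟨x, hmax'⟩⟩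
  have hlh : IsLocalHom (algebraMap R R') := ⟨fun r hr => by
    have := hr.map χ
    rw [hχof] at this
    exact IsLocalHom.map_nonunit (f := IsLocalRing.residue R) r this⟩
  -- fraction fields
  let K' := FractionRing R'
  have hinjK : Function.Injective (algebraMap R K') := by
    rw [IsScalarTower.algebraMap_eq R R' K']
    exact (IsFractionRing.injective R' K').comp hinjR
  letI algK : Algebra K K' := (IsFractionRing.lift (K := K) hinjK).toAlgebra
  haveI towK : IsScalarTower R K K' := IsScalarTower.of_algebraMap_eq fun r =>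
    (IsFractionRing.lift_algebraMap hinjK r).symm
  haveI hfinK : Module.Finite K K' := by
    let y : K' := algebraMap R' K' x
    have hy : IsIntegral K y :=
      IsIntegral.tower_top ((Algebra.IsIntegral.isIntegral (R := R) x).algebraMap (B := K'))
    haveI : FiniteDimensional K (IntermediateField.adjoin K {y}) :=
      IntermediateField.adjoin.finiteDimensional hy
    have htop : IntermediateField.adjoin K {y} = ⊤ := by
      have hpoly : ∀ r : R', algebraMap R' K' r ∈ IntermediateField.adjoin K {y} := by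
        intro r
        obtain ⟨q, rfl⟩ := AdjoinRoot.mk_surjective r
        induction q using Polynomial.induction_on' with
        | add a b ha hb => rw [map_add, map_add]; exact add_mem ha hb
        | monomial i c =>
          rw [← Polynomial.C_mul_X_pow_eq_monomial, map_mul, map_pow, AdjoinRoot.mk_C, AdjoinRoot.mk_X,
            map_mul, map_pow]
          refine mul_mem ?_ (pow_mem (IntermediateField.mem_adjoin_simple_self K y) i)
          show algebraMap R' K' (algebraMap R R' c) ∈ _
          rw [← IsScalarTower.algebraMap_apply, IsScalarTower.algebraMap_apply R K K']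
          exact IntermediateField.algebraMap_mem _ _
      refine eq_top_iff.2 fun z _ => ?_
      obtain ⟨a, b, -, rfl⟩ := IsFractionRing.div_surjective (A := R') z
      exact div_mem (hpoly a) (hpoly b)
    exact Module.Finite.of_surjective (IntermediateField.adjoin K {y}).val.toLinearMap
      (fun z => ⟨⟨z, htop ▸ IntermediateField.mem_top⟩, rfl⟩)
  let ϖ : R' := x ^ v j0
  -- divisibility in positive degree
  have hgen : ∀ j : s, ϖ ^ deg j ∣ algebraMap R R' (φ j) := fun j => by
    by_cases h : φ j = 0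
    · rw [h, map_zero]; exact dvd_zero _
    rw [hu j h, map_mul, map_pow, ← hxn, ← pow_mul, ← pow_mul]
    exact dvd_mul_of_dvd_right (pow_dvd_pow _ (by rw [mul_comm n]; exact hmin' j h)) _
  have hkey : ∀ (d : ℕ) (a : A), a ∈ 𝒜 (d : ℤ) → ϖ ^ d ∣ algebraMap R R' (φ a) := by
    intro d
    induction d using Nat.strong_induction_on with
    | _ d ih =>
      intro a ha
      rcases Nat.eq_zero_or_pos d with rfl | hd
      · rw [pow_zero]; exact one_dvd _
      have hmem := hJ a (Ideal.subset_span ⟨(d : ℤ), by omega, ha⟩)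
      obtain ⟨c, hc⟩ := Submodule.mem_span_range_iff_exists_fun A |>.1 hmem
      have ha' : a = ∑ j : s, (DirectSum.decompose 𝒜 (c j) ((d : ℤ) - deg j) : A) * j := by
        conv_lhs => rw [← DirectSum.decompose_of_mem_same 𝒜 ha, ← hc, DirectSum.decompose_sum,
          DFinsupp.finsetSum_apply, AddSubmonoidClass.coe_finsetSum]
        refine Finset.sum_congr rfl fun j _ => ?_
        rw [smul_eq_mul, ← DirectSum.coe_decompose_mul_add_of_right_mem 𝒜 (hdegmem j), sub_add_cancel]
      rw [ha', map_sum, map_sum]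
      refine Finset.dvd_sum fun j _ => ?_
      rw [map_mul, map_mul]
      by_cases hdj : d ≤ deg j
      · exact dvd_mul_of_dvd_right ((pow_dvd_pow _ hdj).trans (hgen j)) _
      · push Not at hdj
        have hmem' : (DirectSum.decompose 𝒜 (c j) ((d : ℤ) - deg j) : A) ∈ 𝒜 ((d - deg j : ℕ) : ℤ) := by
          rw [Nat.cast_sub hdj.le]
          exact SetLike.coe_mem _
        rw [show d = (d - deg j) + deg j by omega, pow_add]
        rw [show d - deg j + deg j = d by omega]
        exact mul_dvd_mul (ih _ (by have := hdeg0 j; omega) _ hmem') (hgen j)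
  let Φ : A →+* K' := (algebraMap R K').comp φ
  let z : K' := algebraMap R' K' ϖ
  have hz : z ≠ 0 := (map_ne_zero_iff _ (IsFractionRing.injective R' K')).2 (pow_ne_zero _ hx0)
  let ψ₀ : (DirectSum ℤ fun d => ↥(𝒜 d)) →+* K' := DirectSum.toSemiring
    (fun d => ((AddMonoidHom.mulRight (z ^ (-d))).comp Φ.toAddMonoidHom).comp (𝒜 d).subtype)
    (by show Φ ((1 : A)) * z ^ (-(0 : ℤ)) = 1; simp)
    (fun {i j} a b => by
      show Φ ((a : A) * b) * z ^ (-(i + j)) = (Φ a * z ^ (-i)) * (Φ b * z ^ (-j))
      rw [map_mul, neg_add, zpow_add₀ hz]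
      ring)
  let ψ : A →+* K' := ψ₀.comp (DirectSum.decomposeRingEquiv 𝒜).toRingHom
  have hψ : ∀ (d : ℤ) (a : A), a ∈ 𝒜 d → ψ a = Φ a * z ^ (-d) := by
    intro d a ha
    show ψ₀ (DirectSum.decompose 𝒜 a) = _
    rw [DirectSum.decompose_of_mem 𝒜 ha]
    exact DirectSum.toSemiring_of (A := fun d => ↥(𝒜 d)) _ _ _ d ⟨a, ha⟩
  have hint : ∀ a : A, ψ a ∈ (algebraMap R' K').range := by
    intro a
    induction a using DirectSum.Decomposition.inductionOn 𝒜 with
    | zero => rw [map_zero]; exact zero_mem _
    | add a b ha hb => rw [map_add]; exact add_mem ha hb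
    | @homogeneous d a =>
      rw [hψ d a a.2]
      rcases le_or_gt d 0 with hd | hd
      · obtain ⟨e, he⟩ := Int.eq_ofNat_of_zero_le (neg_nonneg.2 hd)
        refine ⟨algebraMap R R' (φ a) * ϖ ^ e, ?_⟩
        rw [map_mul, map_pow, ← IsScalarTower.algebraMap_apply, he, zpow_natCast]
        rfl
      · obtain ⟨e, rfl⟩ := Int.eq_ofNat_of_zero_le hd.le
        obtain ⟨c, hc⟩ := hkey e a a.2
        refine ⟨c, ?_⟩
        show _ = algebraMap R K' (φ a) * _
        rw [IsScalarTower.algebraMap_apply R R' K', hc, map_mul, map_pow, zpow_neg, zpow_natCast]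
        show _ = z ^ e * algebraMap R' K' c * (z ^ e)⁻¹
        rw [mul_comm (z ^ e), mul_assoc, mul_inv_cancel₀ (pow_ne_zero _ hz), mul_one]
  choose g₀ hg₀ using hint
  have hinj' := IsFractionRing.injective R' K'
  let g : A →+* R' :=
    { toFun := g₀
      map_one' := hinj' (by rw [hg₀, map_one, map_one])
      map_mul' := fun a b => hinj' (by rw [hg₀, map_mul, map_mul, hg₀, hg₀])
      map_zero' := hinj' (by rw [hg₀, map_zero, map_zero])
      map_add' := fun a b => hinj' (by rw [hg₀, map_add, map_add, hg₀, hg₀]) }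
  have hspec : ∀ (d : ℤ) (a : A), a ∈ 𝒜 d →
      algebraMap R' K' (g a) * z ^ d = algebraMap R K' (φ a) := by
    intro d a ha
    show algebraMap R' K' (g₀ a) * _ = _
    rw [hg₀, hψ d a ha, mul_assoc, ← zpow_add₀ hz, neg_add_cancel, zpow_zero, mul_one]
    rfl
  refine ⟨R', inferInstance, hdom, hdvr, K', inferInstance, inferInstance, inferInstance,
    inferInstance, algK, inferInstance, inferInstance, towK, hfinK, hlh, ϖ, g, pow_ne_zero _ hx0,
    hmax' ▸ Ideal.mem_span_singleton.2 (dvd_pow_self x hv0.ne'), hspec, ?_⟩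
  refine Ideal.eq_top_of_isUnit_mem _ (Ideal.mem_map_of_mem g (Ideal.subset_span (hs j0.2))) ?_
  have h := hspec (deg j0 : ℤ) j0 (hdegmem j0)
  rw [IsScalarTower.algebraMap_apply R R' K', zpow_natCast, ← map_pow, ← map_mul] at h
  have h' := hinj' h
  rw [hu j0 hj0, map_mul, map_pow, ← hxn, ← hn, ← pow_mul, ← pow_mul, mul_comm n] at h'
  rw [mul_right_cancel₀ (pow_ne_zero _ hx0) h']
  exact (u j0).isUnit.map _

end Groth.Agent.S14123
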