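import Groth.Statements.S14126
import Groth.Agent.AVMukai.Equiv

set_option autoImplicit false
universe u
open CategoryTheory CategoryTheory.Limits MonoidalCategory CartesianMonoidalCategory MonObj GrpObj AlgebraicGeometry
attribute [local instance] HasDerivedCategory.standard
open AbVar

namespace Groth.Agent.S14126

/-- Let k be a field, A an abelian variety over k (a proper smooth k-group scheme with geometrically
connected fibres), (A^t, φ) a given dual abelian variety of A for the fppf topology with A^t itself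
an abelian variety, and P an invertible module on A ×_k A^t whose class is a Poincaré class. Assume
the derived functors Lpr_1^*, − ⊗^L P and Rpr_{2,*} exist and that Φ_P = Rpr_{2,*}(Lpr_1^*(−) ⊗^L P)
sends objects of D(O_A) with quasi-coherent cohomology sheaves to objects of D(O_{A^t}) with
quasi-coherent cohomology sheaves. Then the induced functor D_QCoh(O_A) → D_QCoh(O_{A^t}) is an
equivalence of categories. -/
theorem result (k : Type u) [Field k]
    (A At : Over (Spec (CommRingCat.of k))) [GrpObj A] [IsProper A.hom] [Smooth A.hom] [GeometricallyConnected A.hom]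
    [GrpObj At] [IsProper At.hom] [Smooth At.hom] [GeometricallyConnected At.hom]
    (φ : ∀ T : Over (Spec (CommRingCat.of k)), PicF.Cl (PicF.XT A.hom T) → (T ⟶ At))
    (hφ : AbDual.IsDualAV Scheme.fppfPrecoverage A At φ)
    (P : (pullback A.hom At.hom).Modules) (hP : PicF.IsInvertible P)
    (hPξ : AbDual.IsPoincareCl A At φ (PicF.cl P))
    [DCoh.HasLpull (pullback.fst A.hom At.hom)] [DCoh.HasLTensorMod P] [DCoh.HasRpush (pullback.snd A.hom At.hom)]
    (h : ∀ M : DCoh.D A.left, DCoh.IsQCohD M → DCoh.IsQCohD ((DCoh.Lpull (pullback.fst A.hom At.hom) ⋙ DCoh.LTensorMod P ⋙ DCoh.Rpush (pullback.snd A.hom At.hom)).obj M)) :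
    (ObjectProperty.lift (DCoh.IsQCohD (X := At.left))
        (ObjectProperty.ι (DCoh.IsQCohD (X := A.left)) ⋙ (DCoh.Lpull (pullback.fst A.hom At.hom) ⋙ DCoh.LTensorMod P ⋙ DCoh.Rpush (pullback.snd A.hom At.hom)))
        (fun M => h M.obj M.property)).IsEquivalence := by
  haveI : GeometricallyReduced A.hom := Rigid.geometricallyReduced_of_smooth _
  haveI : GeometricallyIntegral A.hom := W7Cube.geometricallyIntegral_grp
  haveI : GeometricallyReduced At.hom := Rigid.geometricallyReduced_of_smooth _
  haveI : GeometricallyIntegral At.hom := W7Cube.geometricallyIntegral_grp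
  haveI : IsLocallyNoetherian At.left := LocallyOfFiniteType.isLocallyNoetherian At.hom
  haveI : IsLocallyNoetherian A.left := LocallyOfFiniteType.isLocallyNoetherian A.hom
  obtain ⟨Q, hQ⟩ := AgSymm.exists_poincare hPξ
  have hQx : Q.x = PicGrp.cls (Y := (A ⊗ At).left) P hP := Subtype.ext hQ
  obtain ⟨g, hg, -⟩ := AVMukai.exists_dim A
  let P' := (Scheme.Modules.pullback (pullbackSymmetry At.hom A.hom).hom).obj P
  haveI := KFlat.hasLpull (pullback.fst At.hom A.hom)
  haveI := KFlat.hasLTensorMod P'
  haveI := DerPush.hasRpush_sch (pullback.snd At.hom A.hom)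
  haveI := DerPush.hasRpush_sch ((𝟙 A)⁻¹).left
  haveI := DerPush.hasRpush_sch ((𝟙 At)⁻¹).left
  have e := AVMukai.nonempty_inverse hφ Q hP hQx g hg
  have e' := AVMukai.nonempty_inverse' hφ Q hP hQx g hg
  let Ψ := DCoh.Lpull (pullback.fst At.hom A.hom) ⋙ DCoh.LTensorMod P' ⋙ DCoh.Rpush (pullback.snd At.hom A.hom)
  have hΨ : ∀ E, DCoh.IsQCohD E → DCoh.IsQCohD (Ψ.obj E) :=
    AVMukai.isQCohD_transform _ _ (PicLoc.isInvertible_pullback _ hP)
  haveI := AVMukai.isEquivalence_composite _ Ψ h hΨ ((𝟙 A)⁻¹).left (AVMukai.inv_invol A) _ e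
  haveI := AVMukai.isEquivalence_composite Ψ _ hΨ h ((𝟙 At)⁻¹).left (AVMukai.inv_invol At) _ e'
  exact AVMukai.isEquivalence_of_composites _ (ObjectProperty.lift (DCoh.IsQCohD (X := A.left))
    (ObjectProperty.ι (DCoh.IsQCohD (X := At.left)) ⋙ Ψ) (fun M => hΨ M.obj M.property))

end Groth.Agent.S14126
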