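import Groth.Statements.S18367
import Groth.Agent.CMFlat.Localization

set_option autoImplicit false
universe u
open CategoryTheory CategoryTheory.Limits
open LocAlg

namespace Groth.Agent.S18367

open IsLocalRing

/-- Exactness below the depth, for complexes of free modules with torsion cohomology. -/
theorem exact_below : ∀ (g : ℕ) (R : Type u) [CommRing R] [LocCoh.IsCohenMacaulayLocalRing R],
    ringKrullDim R = (g : WithBot ℕ∞) → ∀ (M : ℕ → Type u) [∀ j, AddCommGroup (M j)] [∀ j, Module R (M j)]
    [∀ j, Module.Free R (M j)] [Subsingleton (M 0)] (d : ∀ j, M j →ₗ[R] M (j + 1)),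
    (∀ j v, d (j + 1) (d j v) = 0) →
    (∀ j, ∀ x ∈ maximalIdeal R, ∀ v, d (j + 1) v = 0 → ∃ n : ℕ, x ^ n • v ∈ LinearMap.range (d j)) →
    ∀ j < g, LinearMap.ker (d (j + 1)) ≤ LinearMap.range (d j) := by
  intro g
  induction g with
  | zero => intro R _ _ _ M _ _ _ _ d _ _ j hj; omega
  | succ g ih =>
    intro R _ _ hg M _ _ _ _ d hdd htor j hj v hv
    have hR := CMFlat.hasRegSeq_of_cm hg
    obtain ⟨rs, hlen, hw, hm⟩ := SerreReg.exists_list_of_hasRegSeq _ hR
    obtain ⟨x, rs, rfl⟩ : ∃ x ys, rs = x :: ys := by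
      cases rs with
      | nil => simp at hlen
      | cons a l => exact ⟨a, l, rfl⟩
    have hreg : IsSMulRegular R x := ((RingTheory.Sequence.isWeaklyRegular_cons_iff R x rs).mp hw).1
    have hxm : x ∈ maximalIdeal R := hm x List.mem_cons_self
    have hregM : ∀ i, IsSMulRegular (M i) x := fun i a b h => (Module.Free.chooseBasis R (M i)).ext_elem fun k => hreg (by
      have := congrArg (fun z => (Module.Free.chooseBasis R (M i)).repr z k) h
      simpa using this)
    obtain ⟨hcm, hdim⟩ := CMFlat.isCohenMacaulayLocalRing_quotient R hxm hreg hg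
    let π : ∀ i, M i →ₗ[R] QuotSMulTop x (M i) := fun i => Submodule.mkQ _
    have hπ : ∀ i w, π i w = 0 → ∃ u, x • u = w := fun i w h => by
      obtain ⟨u, -, hu⟩ := Submodule.mem_smul_pointwise_iff_exists _ _ _ |>.mp ((Submodule.Quotient.mk_eq_zero _).mp h)
      exact ⟨u, hu⟩
    have hπx : ∀ i w, π i (x • w) = 0 := fun i w =>
      (Submodule.Quotient.mk_eq_zero _).mpr (Submodule.smul_mem_pointwise_smul _ _ _ trivial)
    let d' : ∀ i, QuotSMulTop x (M i) →ₗ[R ⧸ Ideal.span {x}] QuotSMulTop x (M (i + 1)) := fun i =>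
      LinearMap.extendScalarsOfSurjective Ideal.Quotient.mk_surjective (QuotSMulTop.map x (d i))
    have hd' : ∀ i w, d' i (π i w) = π (i + 1) (d i w) := fun i w => rfl
    have hex : ∀ k < g, ∀ u, d' (k + 1) (π (k + 1) u) = 0 → ∃ t, d' k (π k t) = π (k + 1) u := by
      intro k hk u hu
      have h := ih (R ⧸ Ideal.span {x}) hdim (fun i => QuotSMulTop x (M i)) d' (fun i w => ?_) (fun i y hy w hw => ?_)
        k hk (LinearMap.mem_ker.mpr hu)
      · obtain ⟨t, ht⟩ := h
        obtain ⟨t, rfl⟩ := Submodule.mkQ_surjective _ t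
        exact ⟨t, ht⟩
      · obtain ⟨w, rfl⟩ := Submodule.mkQ_surjective _ w
        show d' (i + 1) (d' i (π i w)) = 0
        rw [hd', hd', hdd, map_zero]
      · obtain ⟨w, rfl⟩ := Submodule.mkQ_surjective _ w
        obtain ⟨a, rfl⟩ := Ideal.Quotient.mk_surjective y
        have ha : a ∈ maximalIdeal R := fun hu' => hy (hu'.map _)
        obtain ⟨w', hw'⟩ := hπ _ _ ((hd' (i + 1) w).symm.trans hw)
        have hw0 : d (i + 1 + 1) w' = 0 := hregM _ (by
          show x • d (i + 1 + 1) w' = x • (0 : M (i + 1 + 1 + 1))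
          rw [← map_smul, hw', hdd, smul_zero])
        obtain ⟨n, s, hs⟩ := htor (i + 1) a ha w' hw0
        obtain ⟨m, t, ht⟩ := htor i a ha (a ^ n • w - x • s) (by
          rw [map_sub, map_smul, map_smul, hs, ← hw', smul_comm, sub_self])
        refine ⟨m + n, π i t, ?_⟩
        rw [hd', ht, map_smul, map_sub, hπx, sub_zero, map_smul, smul_smul, ← pow_add,
          ← map_pow]
        rfl
    suffices hsat : ∀ w, d (j + 1) w = 0 → x • w ∈ LinearMap.range (d j) → w ∈ LinearMap.range (d j) by
      have hv' : d (j + 1) v = 0 := hv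
      obtain ⟨n, hn⟩ := htor j x hxm v hv'
      have key : ∀ n, ∀ w, d (j + 1) w = 0 → x ^ n • w ∈ LinearMap.range (d j) → w ∈ LinearMap.range (d j) := by
        intro n
        induction n with
        | zero => intro w _ h; simpa using h
        | succ n ihn =>
          intro w hw h
          refine hsat w hw (ihn _ (by rw [map_smul, hw, smul_zero]) ?_)
          rwa [smul_smul, ← pow_succ]
      exact key n v hv' hn
    intro w hw ⟨u, hu⟩
    cases j with
    | zero =>
      rw [Subsingleton.elim u 0, map_zero] at hu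
      rw [hregM _ (hu.symm.trans (smul_zero x).symm)]
      exact zero_mem _
    | succ k =>
      obtain ⟨t, ht⟩ := hex k (by omega) u (by rw [hd', hu, hπx])
      obtain ⟨s, hs⟩ := hπ _ (u - d k t) (by rw [map_sub, ← ht, hd', sub_self])
      refine ⟨s, hregM _ ?_⟩
      show x • d (k + 1) s = x • w
      rw [← map_smul, hs, map_sub, hdd, sub_zero, hu]

theorem exists_pow_smul_eq_zero {R H : Type u} [CommRing R] [IsLocalRing R] [AddCommGroup H] [Module R H]
    [IsArtinian R H] {x : R} (hx : x ∈ maximalIdeal R) (v : H) : ∃ n : ℕ, x ^ n • v = 0 := by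
  let f : ℕ →o (Submodule R H)ᵒᵈ := ⟨fun n => OrderDual.toDual (Submodule.span R {x ^ n • v}), fun a b hab => by
    show Submodule.span R {x ^ b • v} ≤ Submodule.span R {x ^ a • v}
    obtain ⟨c, rfl⟩ := Nat.exists_eq_add_of_le hab
    rw [Submodule.span_singleton_le_iff_mem, Submodule.mem_span_singleton]
    exact ⟨x ^ c, by rw [smul_smul, ← pow_add, add_comm]⟩⟩
  obtain ⟨n, hn⟩ := IsArtinian.monotone_stabilizes f
  have h : x ^ n • v ∈ Submodule.span R {x ^ (n + 1) • v} := by
    have := hn (n + 1) (Nat.le_succ n)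
    exact (show Submodule.span R {x ^ n • v} = Submodule.span R {x ^ (n + 1) • v} from this) ▸
      Submodule.mem_span_singleton_self _
  obtain ⟨r, hr⟩ := Submodule.mem_span_singleton.mp h
  refine ⟨n, ?_⟩
  rw [pow_succ', ← smul_smul, smul_smul] at hr
  have hu : IsUnit (1 - r * x) := (IsLocalRing.isUnit_or_isUnit_one_sub_self _).resolve_left
    fun h => hx (isUnit_of_mul_isUnit_right h)
  rw [← hu.smul_eq_zero, sub_smul, one_smul, hr, sub_self]

theorem torsion_sc {R : Type u} [CommRing R] [IsLocalRing R] (S : ShortComplex (ModuleCat.{u} R))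
    (h : IsFiniteLength R S.homology) {x : R} (hx : x ∈ maximalIdeal R) (v : S.X₂) (hv : S.g.hom v = 0) :
    ∃ n : ℕ, x ^ n • v ∈ LinearMap.range S.f.hom := by
  haveI : IsArtinian R S.homology := (isFiniteLength_iff_isNoetherian_isArtinian.mp h).2
  let e := S.moduleCatHomologyIso.toLinearEquiv
  haveI : IsArtinian R (LinearMap.ker S.g.hom ⧸ LinearMap.range S.moduleCatToCycles) :=
    isArtinian_of_linearEquiv e
  obtain ⟨n, hn⟩ := exists_pow_smul_eq_zero hx
    (Submodule.Quotient.mk (p := LinearMap.range S.moduleCatToCycles) ⟨v, hv⟩)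
  rw [← Submodule.Quotient.mk_smul, Submodule.Quotient.mk_eq_zero] at hn
  obtain ⟨u, hu⟩ := hn
  exact ⟨n, u, congrArg Subtype.val hu⟩

theorem isZero_sc {R : Type u} [CommRing R] (S : ShortComplex (ModuleCat.{u} R))
    (h : LinearMap.ker S.g.hom ≤ LinearMap.range S.f.hom) : IsZero S.homology :=
  (ShortComplex.exact_iff_isZero_homology S).mp ((ShortComplex.moduleCat_exact_iff S).mpr fun v hv => h hv)

/-- Let R be a Cohen–Macaulay local ring of Krull dimension g and K = (K^0 → K^1 → ⋯) a bounded cochain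
complex of finitely generated free R-modules (K^i = 0 for i > N) such that every cohomology module
H^i(K) has finite length. Then H^i(K) = 0 for all i < g. -/
theorem result (R : Type u) [CommRing R]
    [LocCoh.IsCohenMacaulayLocalRing R] (g : ℕ) (hg : ringKrullDim R = g) (K : CochainComplex (ModuleCat.{u} R) ℕ)
    (N : ℕ) (hbd : ∀ i, N < i → IsZero (K.X i)) (hfree : ∀ i, Module.Free R (K.X i) ∧ Module.Finite R (K.X i))
    (hfl : ∀ i, IsFiniteLength R (K.homology i)) (i : ℕ) (hi : i < g) :
    IsZero (K.homology i) := by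
  let M : ℕ → ModuleCat.{u} R := fun j => match j with
    | 0 => ModuleCat.of R PUnit
    | j + 1 => K.X j
  let d : ∀ j, M j →ₗ[R] M (j + 1) := fun j => match j with
    | 0 => 0
    | j + 1 => (K.d j (j + 1)).hom
  haveI : ∀ j, Module.Free R (M j) := fun j => match j with
    | 0 => Module.Free.of_subsingleton R _
    | j + 1 => (hfree j).1
  haveI : Subsingleton (M 0) := inferInstanceAs (Subsingleton PUnit)
  have hfl' : ∀ j k, (ComplexShape.up ℕ).prev j = k → IsFiniteLength R (K.sc' k j (j + 1)).homology :=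
    fun j k hk => (K.homologyIsoSc' k j (j + 1) hk (CochainComplex.next ℕ j)).toLinearEquiv.isFiniteLength (hfl j)
  have key := exact_below g R hg (fun j => M j) d (fun j v => ?_) (fun j x hx v hv => ?_)
  · cases i with
    | zero =>
      refine IsZero.of_iso (isZero_sc (K.sc' 0 0 1) fun v hv => ?_)
        (K.homologyIsoSc' 0 0 1 CochainComplex.prev_nat_zero (CochainComplex.next ℕ 0))
      obtain ⟨u, rfl⟩ := key 0 hi hv
      exact ⟨0, by simp [d]; rfl⟩
    | succ i =>
      exact IsZero.of_iso (isZero_sc (K.sc' i (i + 1) (i + 1 + 1)) fun v hv => key (i + 1) hi hv)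
        (K.homologyIsoSc' i (i + 1) (i + 1 + 1) (CochainComplex.prev_nat_succ i) (CochainComplex.next ℕ (i + 1)))
  · cases j with
    | zero => simp [d]
    | succ j => exact ConcreteCategory.congr_hom (K.d_comp_d j (j + 1) (j + 1 + 1)) v
  · cases j with
    | zero =>
      obtain ⟨n, u, hu⟩ := torsion_sc (K.sc' 0 0 1) (hfl' 0 0 CochainComplex.prev_nat_zero) hx v hv
      refine ⟨n, 0, ?_⟩
      rw [map_zero]
      refine Eq.trans ?_ hu
      show (0 : K.X 0) = (K.d 0 0).hom u
      rw [K.shape 0 0 (by simp)]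
      rfl
    | succ j => exact torsion_sc (K.sc' j (j + 1) (j + 1 + 1)) (hfl' (j + 1) j (CochainComplex.prev_nat_succ j)) hx v hv

end Groth.Agent.S18367
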