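import Groth.Statements.S1413
import Groth.Agent.Grpd.FlatComp

set_option autoImplicit false
universe u
open FlatMor

set_option backward.isDefEq.respectTransparency false

namespace Groth.Agent.S1413

open AlgebraicGeometry CategoryTheory Limits in
/-- Let X → Y → Z be morphisms with X → Y flat and surjective and with the diagonal of X over Z flat.
Then the diagonal of Y over Z is flat. -/
theorem result {X Y Z : Scheme.{u}} (f : X ⟶ Y) (g : Y ⟶ Z) [Flat f] [Surjective f] [Flat (pullback.diagonal (f ≫ g))] :
    Flat (pullback.diagonal g) := by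
  let p : pullback (f ≫ g) (f ≫ g) ⟶ pullback g g :=
    pullback.map _ _ _ _ f f (𝟙 Z) (by simp) (by simp)
  haveI : Flat p := MorphismProperty.pullbackMap (P := @Flat) ‹_› ‹_› (by simp) (by simp)
  have e : pullback.diagonal (f ≫ g) ≫ p = f ≫ pullback.diagonal g := by
    apply pullback.hom_ext <;> simp [p]
  haveI : Flat (f ≫ pullback.diagonal g) := e ▸ inferInstance
  exact Groth.Agent.GrpdLib.flat_of_flat_comp f (pullback.diagonal g)

end Groth.Agent.S1413
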