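import Groth.Statements.S14130
import Groth.Agent.AVEuler.Mumford
import Groth.Agent.AVPoincare.Exists

set_option autoImplicit false
universe u
open CategoryTheory CategoryTheory.Limits MonoidalCategory CartesianMonoidalCategory MonObj GrpObj AlgebraicGeometry
open AbVar

namespace Groth.Agent.S14130

attribute [local instance] W7Cube.law AVDeg.overInst

/-- Let k be an algebraically closed field, A an abelian variety over k (a proper smooth k-group scheme
with geometrically connected fibres), (A^t, φ) a given dual abelian variety of A for the fppf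
topology with A^t an abelian variety, L an invertible O_A-module with an inverse L', and Λ a module
on A ×_k A isomorphic to the Mumford module m^*L ⊗ pr_1^*L' ⊗ pr_2^*L', whose class is assumed
algebraically trivial on every geometric fibre of the second projection. Let φ_L = φ(Λ) : A → A^t be
the morphism classifying Λ (on points, x ↦ t_x^*L ⊗ L'), and assume L is non-degenerate in the sense
that φ_L is finite and flat, of constant rank d (so d is the order of its kernel K(L)). Then χ(A,
L)^2 = d. -/
theorem result (k : Type u) [Field k] [IsAlgClosed k]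
    (A At : Over (Spec (CommRingCat.of k))) [GrpObj A] [IsProper A.hom] [Smooth A.hom] [GeometricallyConnected A.hom]
    [GrpObj At] [IsProper At.hom] [Smooth At.hom] [GeometricallyConnected At.hom]
    (φ : ∀ T : Over (Spec (CommRingCat.of k)), PicF.Cl (PicF.XT A.hom T) → (T ⟶ At))
    (hφ : AbDual.IsDualAV Scheme.fppfPrecoverage A At φ)
    (L : A.left.Modules) (hL : PicF.IsInvertible L) (L' : A.left.Modules) (hL' : Nonempty (CohB1.tensorMod L L' ≅ Coh.structureModule A.left))
    (Λ : (PicF.XT A.hom A).Modules)
    (hΛ : Nonempty (Λ ≅ CohB1.tensorMod (CohB1.tensorMod ((Scheme.Modules.pullback μ[A].left).obj L)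
      ((Scheme.Modules.pullback (fst A A).left).obj L')) ((Scheme.Modules.pullback (snd A A).left).obj L')))
    (hΛ0 : AbDual.IsPicZeroCl A.hom A (PicF.cl Λ))
    [IsFinite (φ A (PicF.cl Λ)).left] [Flat (φ A (PicF.cl Λ)).left]
    (d : ℕ) (hd : ∀ y : ↥At.left, Scheme.Hom.finrank (φ A (PicF.cl Λ)).left y = d) :
    @Curv2.euler k _ A.left ⟨A.hom⟩ L ^ 2 = (d : ℤ) := by
  haveI : GeometricallyReduced A.hom := Rigid.geometricallyReduced_of_smooth _
  haveI : GeometricallyIntegral A.hom := W7Cube.geometricallyIntegral_grp
  haveI : IsCommMonObj A := isCommMonObj_of_isProper_of_geometricallyIntegral A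
  haveI : GeometricallyReduced At.hom := Rigid.geometricallyReduced_of_smooth _
  haveI : GeometricallyIntegral At.hom := W7Cube.geometricallyIntegral_grp
  haveI : IsCommMonObj At := isCommMonObj_of_isProper_of_geometricallyIntegral At
  obtain ⟨e⟩ := hL'
  have hcl := AVEuler.cl_mumford hL e hΛ
  obtain ⟨P, hP, hξ⟩ := AVPoincare.exists_isPoincareCl hφ
  obtain ⟨Q, hQ⟩ := AgSymm.exists_poincare hξ
  have hfin : IsFinite (φ A (PicF.cl Λ)).left := inferInstance
  have hflat : Flat (φ A (PicF.cl Λ)).left := inferInstance
  rw [hcl] at hfin hflat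
  simp only [hcl] at hd
  rw [← AVEuler.χc_cls hL]
  exact AVEuler.χc_sq hφ Q _ d hd

end Groth.Agent.S14130
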