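import Groth.Statements.S14138
import Groth.Agent.HNSplit.Main
import Groth.Agent.W7Cover.GeomConn

set_option autoImplicit false
universe u
open CategoryTheory CategoryTheory.Limits AlgebraicGeometry
open VBCurve

set_option backward.isDefEq.respectTransparency false
set_option backward.isDefEq.respectTransparency.types false

open Groth.Agent

namespace Groth.Agent.S14138

/-- Let C be a smooth proper geometrically connected curve over a field k (proper, smooth and
geometrically connected over k, of dimension one) of genus one, i.e. dim_k H^1(C, O_C) = 1, and E a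
finite locally free O_C-module of rank r ≥ 1 which is indecomposable: E is nonzero and whenever E ≅
E₁ ⊕ E₂ one of the summands is zero. Then E is semistable: for every finite locally free submodule G
of E of rank r' ≥ 1 one has deg G · r ≤ deg E · r', the degree of a rank-n locally free module being
χ(G) − n·χ(O_C). (The published statement is for an elliptic curve; its proof, that the
Harder–Narasimhan filtration splits, uses only genus one, so no rational point is assumed here.) -/
theorem result (k : Type u) [Field k] (X : Scheme.{u}) [X.Over (Spec (CommRingCat.of k))]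
    [IsProper (X ↘ Spec (CommRingCat.of k))] [Smooth (X ↘ Spec (CommRingCat.of k))]
    [GeometricallyConnected (X ↘ Spec (CommRingCat.of k))] (hdim : topologicalKrullDim ↥X = 1)
    (hg : Curv2.genus k X = 1)
    (r : ℕ) (hr : 0 < r) (E : X.Modules) (hE : FlatMod.IsFinLocFreeOfRank r E)
    (hind : ¬ IsZero E ∧ ∀ (E₁ E₂ : X.Modules), Nonempty (E ≅ E₁ ⊞ E₂) → IsZero E₁ ∨ IsZero E₂) :
    (∀ (G : X.Modules) (r' : ℕ) (i : G ⟶ E), Mono i → 0 < r' → FlatMod.IsFinLocFreeOfRank r' G →
      Curv2.deg k X G r' * (r : ℤ) ≤ Curv2.deg k X E r * (r' : ℤ)) := by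
  haveI := W7Slope.isIntegral_of_geomConn k (X := X) hdim
  haveI := CurveRR.isNoetherian_of_proper k X
  have hX := W7Slope.regCurve_of_smooth (k := k) (X := X) hdim
  have h0 := W7Cover.h0_of_geometricallyConnected (k := k) (X := X)
  obtain ⟨E₁, r₁, i₁, hi₁, hr₁, hE₁, hmax, hmax'⟩ := W7Slope.exists_max_slope k hX hr hE
  intro G n j hj hn hG
  rcases Nat.lt_or_ge r₁ r with hlt | hge
  · exfalso
    obtain ⟨m, hC, hrm, -⟩ := W7Slope.isFinLocFree_coker_of_max k hX hE hE₁ i₁ fun P ι hι hP =>
      le_of_mul_le_mul_right (hmax P r₁ ι hι hr₁ hP) (by exact_mod_cast hr₁)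
    have hS : (ShortComplex.mk i₁ (cokernel.π i₁) (cokernel.condition i₁)).ShortExact :=
      { exact := ShortComplex.exact_cokernel i₁ }
    haveI : IsSplitEpi (cokernel.π i₁) := HNSplit.isSplitEpi_of_hom_eq_zero k hdim hX h0 _ hS hE₁ hC
      fun Q hQ hdQ f => HNSplit.hom_coker_twist_eq_zero k hX hE hr₁ hE₁ i₁ hmax hmax' hQ
        (by rw [hg] at hdQ; push_cast at hdQ; omega) f
    have hspl : (ShortComplex.mk i₁ (cokernel.π i₁) (cokernel.condition i₁)).Splitting :=
      ShortComplex.Splitting.ofExactOfSection _ hS.exact (section_ (cokernel.π i₁)) (IsSplitEpi.id _) hS.mono_f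
    rcases hind.2 E₁ (cokernel i₁) ⟨hspl.isoBinaryBiproduct⟩ with hz | hz
    · exact W7Slope.pos_rank_not_isZero k hr₁ hE₁ hz
    · exact W7Slope.pos_rank_not_isZero k (by omega : 0 < m) hC hz
  have h1 := hmax G n j hj hn hG
  have hle := W7Slope.grk_le_of_mono k i₁ (CurveRR.isCoh_of_rank hE)
  rw [W7Slope.grk_of_rank hE₁, W7Slope.grk_of_rank hE] at hle
  obtain rfl : r₁ = r := by omega
  have h2 := W7Slope.deg_le_of_mono k hX hE₁ hE i₁
  nlinarith [mul_le_mul_of_nonneg_right h2.1 (Int.natCast_nonneg n)]

end Groth.Agent.S14138
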