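import Groth.Statements.S14139
import Groth.Agent.W7Slope.Hom

set_option autoImplicit false
universe u
open CategoryTheory CategoryTheory.Limits AlgebraicGeometry
open VBCurve
open Groth.Agent Groth.Agent.CurveRR

set_option backward.isDefEq.respectTransparency false
set_option backward.isDefEq.respectTransparency.types false

namespace Groth.Agent.S14139

/-- Let C be a smooth proper geometrically connected curve over a field k (proper, smooth and
geometrically connected over k, of dimension one), and 0 → E₁ → E → E₂ → 0 a short exact sequence of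
finite locally free O_C-modules of ranks r₁, r, r₂ ≥ 1 whose slopes are all equal: deg E₁ · r = deg
E · r₁ and deg E₂ · r = deg E · r₂, the degree of a rank-n locally free module being χ − n·χ(O_C).
Then E is semistable (deg G · r ≤ deg E · r' for every finite locally free submodule G of E of rank
r' ≥ 1) if and only if both E₁ and E₂ are semistable in the same sense. -/
theorem result (k : Type u) [Field k] (X : Scheme.{u}) [X.Over (Spec (CommRingCat.of k))]
    [IsProper (X ↘ Spec (CommRingCat.of k))] [Smooth (X ↘ Spec (CommRingCat.of k))]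
    [GeometricallyConnected (X ↘ Spec (CommRingCat.of k))] (hdim : topologicalKrullDim ↥X = 1)
    (T : ShortComplex X.Modules) (hT : T.ShortExact)
    (r₁ r r₂ : ℕ) (hr₁ : 0 < r₁) (hr : 0 < r) (hr₂ : 0 < r₂)
    (hE₁ : FlatMod.IsFinLocFreeOfRank r₁ T.X₁) (hE : FlatMod.IsFinLocFreeOfRank r T.X₂) (hE₂ : FlatMod.IsFinLocFreeOfRank r₂ T.X₃)
    (hμ₁ : Curv2.deg k X T.X₁ r₁ * (r : ℤ) = Curv2.deg k X T.X₂ r * (r₁ : ℤ))
    (hμ₂ : Curv2.deg k X T.X₃ r₂ * (r : ℤ) = Curv2.deg k X T.X₂ r * (r₂ : ℤ)) :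
    (∀ (G : X.Modules) (r' : ℕ) (i : G ⟶ T.X₂), Mono i → 0 < r' → FlatMod.IsFinLocFreeOfRank r' G →
      Curv2.deg k X G r' * (r : ℤ) ≤ Curv2.deg k X T.X₂ r * (r' : ℤ)) ↔
      ((∀ (G : X.Modules) (r' : ℕ) (i : G ⟶ T.X₁), Mono i → 0 < r' → FlatMod.IsFinLocFreeOfRank r' G →
      Curv2.deg k X G r' * (r₁ : ℤ) ≤ Curv2.deg k X T.X₁ r₁ * (r' : ℤ)) ∧
       (∀ (G : X.Modules) (r' : ℕ) (i : G ⟶ T.X₃), Mono i → 0 < r' → FlatMod.IsFinLocFreeOfRank r' G →
      Curv2.deg k X G r' * (r₂ : ℤ) ≤ Curv2.deg k X T.X₃ r₂ * (r' : ℤ))) := by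
  haveI := W7Slope.isIntegral_of_geomConn k hdim
  have hX : W7Slope.RegCurve X := W7Slope.regCurve_of_smooth (k := k) hdim
  haveI := isNoetherian_of_proper k X
  haveI : Mono T.f := hT.mono_f
  haveI : Epi T.g := hT.epi_g
  have hr' : (0 : ℤ) < r := by exact_mod_cast hr
  have hg := W7Slope.grk_add hT (isCoh_of_rank hE)
  rw [W7Slope.grk_of_rank hE, W7Slope.grk_of_rank hE₁, W7Slope.grk_of_rank hE₂] at hg
  have hdT := Easy.deg_add (k := k) T hT hE₁ hE hE₂ hg
  refine ⟨fun h => ⟨fun G n i hi hn hG => ?_, fun G n i hi hn hG => ?_⟩, fun ⟨h₁, h₂⟩ G n i hi hn hG => ?_⟩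
  · have h' := h G n (i ≫ T.f) (mono_comp _ _) hn hG
    refine le_of_mul_le_mul_right ?_ hr'
    nlinarith [mul_le_mul_of_nonneg_right h' (Int.natCast_nonneg r₁)]
  · obtain ⟨P, ι, m, hι, hP, hm, hd⟩ := W7Slope.exists_preimage k hX hE hE₂ T.g i hG
    have h' := W7Slope.sub_le k (E := T.X₂) (r := r) h ι hP
    rw [show m = r₁ + n by omega] at h' hd
    have h6 : Curv2.deg k X P (r₁ + n) = Curv2.deg k X T.X₁ r₁ + Curv2.deg k X G n := by omega
    push_cast at h'
    rw [h6] at h'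
    refine le_of_mul_le_mul_right ?_ hr'
    nlinarith [mul_le_mul_of_nonneg_right h' (Int.natCast_nonneg r₂)]
  · obtain ⟨I, p, q, hp, hq, -, hI, hK, hrk, -, hd, -⟩ := W7Slope.exists_image k hX hG hE₂ (i ≫ T.g)
    have hlift : (kernel.ι (i ≫ T.g) ≫ i) ≫ T.g = 0 := by rw [Category.assoc]; exact kernel.condition _
    let j := hT.exact.lift (kernel.ι (i ≫ T.g) ≫ i) hlift
    haveI : Mono j := mono_of_mono_fac (hT.exact.lift_f (kernel.ι (i ≫ T.g) ≫ i) hlift)
    have a := W7Slope.sub_le k (E := T.X₁) (r := r₁) h₁ j hK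
    have b := W7Slope.sub_le k (E := T.X₃) (r := r₂) h₂ q hI
    have hr₁' : (0 : ℤ) < r₁ := by exact_mod_cast hr₁
    have hr₂' : (0 : ℤ) < r₂ := by exact_mod_cast hr₂
    generalize W7Slope.grk (kernel (i ≫ T.g)) = m at hK hrk hd a
    generalize W7Slope.grk I = t at hI hrk hd b
    have a' : Curv2.deg k X (kernel (i ≫ T.g)) m * (r : ℤ) ≤ Curv2.deg k X T.X₂ r * (m : ℤ) := by
      refine le_of_mul_le_mul_right ?_ hr₁'
      nlinarith [mul_le_mul_of_nonneg_right a hr'.le]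
    have b' : Curv2.deg k X I t * (r : ℤ) ≤ Curv2.deg k X T.X₂ r * (t : ℤ) := by
      refine le_of_mul_le_mul_right ?_ hr₂'
      nlinarith [mul_le_mul_of_nonneg_right b hr'.le]
    have hrk' : (n : ℤ) = (m : ℤ) + (t : ℤ) := by exact_mod_cast hrk
    rw [hd, hrk']
    linarith

end Groth.Agent.S14139
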