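import Groth.Statements.S14140
import Groth.Agent.AgVanish.Invariant

set_option autoImplicit false
universe u
open CategoryTheory CategoryTheory.Limits MonoidalCategory CartesianMonoidalCategory MonObj GrpObj AlgebraicGeometry
open AbVar

set_option backward.isDefEq.respectTransparency false
set_option backward.isDefEq.respectTransparency.types false
set_option linter.style.haveILetI false

namespace Groth.Agent.S14140

open Groth.Agent in
attribute [local instance] W7Cube.law

open Groth.Agent

/-- Let k be an algebraically closed field, A an abelian variety over k (a proper smooth k-group scheme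
with geometrically connected fibres), L an ample invertible O_A-module with an inverse L' (L ⊗ L' ≅
O_A), and M an invertible O_A-module in Pic⁰(A), meaning that t_x^*M ≅ M for every k-rational point
x of A, where t_x : A → A is the translation by x (the product of the identity and the constant map
x in the group Hom(A, A)). Then there is a k-rational point x of A with M ≅ t_x^*L ⊗ L'. -/
theorem result (k : Type u) [Field k] [IsAlgClosed k]
    (A : Over (Spec (CommRingCat.of k))) [GrpObj A] [IsProper A.hom] [Smooth A.hom] [GeometricallyConnected A.hom]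
    (L L' : A.left.Modules) (hLa : CohB1.IsAmple L) (hLL' : Nonempty (CohB1.tensorMod L L' ≅ Coh.structureModule A.left))
    (M : A.left.Modules) (hM : PicF.IsInvertible M)
    (hM0 : ∀ x : 𝟙_ (Over (Spec (CommRingCat.of k))) ⟶ A, Nonempty ((Scheme.Modules.pullback (𝟙 A * (toUnit A ≫ x)).left).obj M ≅ M)) :
    ∃ x : 𝟙_ (Over (Spec (CommRingCat.of k))) ⟶ A,
      Nonempty (M ≅ CohB1.tensorMod ((Scheme.Modules.pullback (𝟙 A * (toUnit A ≫ x)).left).obj L) L') := by
  haveI : Flat A.hom := inferInstance
  haveI : GeometricallyReduced A.hom := Rigid.geometricallyReduced_of_smooth _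
  haveI : LocallyOfFinitePresentation A.hom := inferInstance
  haveI : GeometricallyIntegral A.hom := W7Cube.geometricallyIntegral_grp
  obtain ⟨e⟩ := hLL'
  have hL' : PicF.IsInvertible L' := by
    obtain ⟨N, hN, ⟨f⟩⟩ := W7Hull.exists_tensor_inverse hLa.1
    let j : N ≅ L' := (SecTwist.unitorR N).symm ≪≫ PicGrp.tensorModIso (Iso.refl N) e.symm ≪≫
      (TMul.assocIso N L L').symm ≪≫ PicGrp.tensorModIso (TMul.commIso N L ≪≫ f) (Iso.refl L') ≪≫ TMul.leftUnitIso L'
    intro y
    obtain ⟨U, hy, ⟨i⟩⟩ := hN y
    exact ⟨U, hy, ⟨(Scheme.Modules.restrictFunctor U.ι).mapIso j.symm ≪≫ i⟩⟩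
  obtain ⟨x, hx⟩ := AgVanish.exists_translate (PicGrp.cls L hLa.1) (PicGrp.cls M hM) (AVAmple.finite_fixing hLa)
    fun a => (AgVanish.pc_cls_eq_iff hM hM _).2 (hM0 a)
  refine ⟨x, (PicGrp.cls_eq_cls_iff hM (TMul.isInvertible_tensorMod (PicLoc.isInvertible_pullback _ hLa.1) hL')).1 ?_⟩
  have h1 : PicGrp.cls L hLa.1 * PicGrp.cls L' hL' = 1 := (PicGrp.cls_mul_cls_eq_one_iff hLa.1 hL').2 ⟨e⟩
  rw [show PicGrp.cls _ (TMul.isInvertible_tensorMod (PicLoc.isInvertible_pullback _ hLa.1) hL') =
      PicGrp.cls _ (PicLoc.isInvertible_pullback (𝟙 A * (toUnit A ≫ x)).left hLa.1) * PicGrp.cls L' hL' from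
    Subtype.ext (PicGrp.cls_mul_cls_val _ _).symm, ← W7Cube.pull_cls _ L hLa.1]
  change _ = W7Cube.pc _ _ * _
  rw [hx, _root_.mul_assoc, h1, _root_.mul_one]


end Groth.Agent.S14140
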