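import Groth.Statements.S14141
import Groth.Agent.Rigid.Bijective

set_option autoImplicit false
universe u
open CategoryTheory CategoryTheory.Limits AlgebraicGeometry
open AbSch

namespace Groth.Agent.S14141

/-- Let S be a connected Noetherian scheme, f : X → S a proper flat morphism such that for every point s
of S the natural map κ(s) → H^0(X_s, O_{X_s}) on global sections of the fibre is bijective, g : Y →
S a separated morphism and π : X → Y a morphism over S. If for some point s of S the restriction of
π to the fibre X_s is constant, i.e. factors through the projection X_s → Spec κ(s), then π is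
constant over all of S: it factors as f followed by a section S → Y of g. (The published statement
is for arbitrary Noetherian S with the conclusion over the connected component of s; this row
assumes S connected, the reduction made in the first line of the printed proof.) -/
theorem result {X Y S : Scheme.{u}} [IsNoetherian S] [ConnectedSpace ↥S]
    (f : X ⟶ S) [IsProper f] [Flat f]
    (hfib : ∀ s : ↥S, Function.Bijective (algebraMap (S.residueField s) Γ(f.fiber s, ⊤)))
    (g : Y ⟶ S) [IsSeparated g] (π : X ⟶ Y) (hπ : π ≫ g = f) (s : ↥S)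
    (hs : ∃ y : Spec (S.residueField s) ⟶ Y, f.fiberι s ≫ π = f.fiberToSpecResidueField s ≫ y) :
    ∃ σ : S ⟶ Y, σ ≫ g = 𝟙 S ∧ π = f ≫ σ := by

  haveI : LocallyOfFinitePresentation f := inferInstance
  have hg : Groth.Agent.Rigid.GoodFibres f := Groth.Agent.Rigid.goodFibres_of_bijective f fun t => by
    have e := hfib t
    have hb := (Scheme.ΓSpecIso (S.residueField t)).commRingCatIsoToRingEquiv.bijective
    exact (Function.Bijective.of_comp_iff _ (Scheme.ΓSpecIso (S.residueField t)).symm.commRingCatIsoToRingEquiv.bijective).1 e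
  haveI : Surjective f := ⟨fun t => by
    by_contra hne
    haveI : IsEmpty ↥(f.fiber t) := ⟨fun z => hne ⟨f.fiberι t z, by
      have hz : f.fiberι t z ∈ Set.range (f.fiberι t) := ⟨z, rfl⟩
      rw [f.range_fiberι] at hz
      exact hz⟩⟩
    haveI : Subsingleton Γ(f.fiber t, ⊤) :=
      ⟨fun a b => TopCat.Presheaf.section_ext (f.fiber t).sheaf ⊤ a b fun x _ => isEmptyElim x⟩
    exact zero_ne_one ((hfib t).1 (Subsingleton.elim (algebraMap _ Γ(f.fiber t, ⊤) 0) (algebraMap _ _ 1)))⟩
  obtain ⟨y, hy⟩ := hs
  have hcol : (π '' (f ⁻¹' {s})).Subsingleton := by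
    have key : ∀ x, f x = s → π x = y (IsLocalRing.closedPoint _) := by
      intro x hx
      obtain ⟨z, rfl⟩ : x ∈ Set.range (f.fiberι s) := by rw [f.range_fiberι]; exact hx
      rw [← Scheme.Hom.comp_apply, hy, Scheme.Hom.comp_apply]
      exact congrArg _ (Subsingleton.elim (α := PrimeSpectrum _) _ _)
    rintro _ ⟨x, hx, rfl⟩ _ ⟨x', hx', rfl⟩
    rw [key x hx, key x' hx']
  obtain ⟨k, ⟨hk, hk'⟩, -⟩ := Groth.Agent.Rigid.exists_factor_of_connected f hg (𝟙 S) g π
    (by rw [hπ, Category.comp_id]) s hcol
  exact ⟨k, hk, hk'⟩


end Groth.Agent.S14141
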