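import Groth.Statements.S14143
import Groth.Agent.AgVanish.Invariant

set_option autoImplicit false
universe u
open CategoryTheory CategoryTheory.Limits MonoidalCategory CartesianMonoidalCategory MonObj GrpObj AlgebraicGeometry
open AbVar

set_option backward.isDefEq.respectTransparency false
set_option backward.isDefEq.respectTransparency.types false
set_option linter.style.haveILetI false

namespace Groth.Agent.S14143

open Groth.Agent in
attribute [local instance] W7Cube.law

open Groth.Agent

/-- Let k be an algebraically closed field, A an abelian variety over k (a proper smooth k-group scheme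
with geometrically connected fibres), L an invertible O_A-module which is non-degenerate, i.e. only
finitely many k-rational points x satisfy t_x^*L ≅ L (t_x the translation by x), M an invertible
O_A-module lying in Pic⁰(A), i.e. t_x^*M ≅ M for every k-rational point x, and L' an O_A-module
isomorphic to L ⊗ M. Then L' ≅ t_x^*L for some k-rational point x of A; consequently L and L' have
isomorphic cohomology and equal index. (The published statement assumes L and L' algebraically
equivalent non-degenerate line bundles and concludes equality of indices; its proof reduces to L' ⊗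
L^{-1} ∈ Pic⁰ and proves the displayed isomorphism, which is what is stated here.) -/
theorem result (k : Type u) [Field k] [IsAlgClosed k]
    (A : Over (Spec (CommRingCat.of k))) [GrpObj A] [IsProper A.hom] [Smooth A.hom] [GeometricallyConnected A.hom]
    (L : A.left.Modules) (hL : PicF.IsInvertible L) (hnd : (Set.Finite {x : 𝟙_ (Over (Spec (CommRingCat.of k))) ⟶ A |
      Nonempty ((Scheme.Modules.pullback (𝟙 A * (toUnit A ≫ x)).left).obj L ≅ L)}))
    (M : A.left.Modules) (hM : PicF.IsInvertible M)
    (hM0 : ∀ x : 𝟙_ (Over (Spec (CommRingCat.of k))) ⟶ A, Nonempty ((Scheme.Modules.pullback (𝟙 A * (toUnit A ≫ x)).left).obj M ≅ M))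
    (L' : A.left.Modules) (hL' : Nonempty (L' ≅ CohB1.tensorMod L M)) :
    ∃ x : 𝟙_ (Over (Spec (CommRingCat.of k))) ⟶ A, Nonempty (L' ≅ (Scheme.Modules.pullback (𝟙 A * (toUnit A ≫ x)).left).obj L) := by
  haveI : Flat A.hom := inferInstance
  haveI : GeometricallyReduced A.hom := Rigid.geometricallyReduced_of_smooth _
  haveI : LocallyOfFinitePresentation A.hom := inferInstance
  haveI : GeometricallyIntegral A.hom := W7Cube.geometricallyIntegral_grp
  obtain ⟨e⟩ := hL'
  obtain ⟨x, hx⟩ := AgVanish.exists_translate (PicGrp.cls L hL) (PicGrp.cls M hM)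
    (by simpa only [AgVanish.pc_cls_eq_iff] using hnd) fun a => (AgVanish.pc_cls_eq_iff hM hM _).2 (hM0 a)
  refine ⟨x, ?_⟩
  rw [show PicGrp.cls M hM * PicGrp.cls L hL = PicGrp.cls _ (TMul.isInvertible_tensorMod hM hL) from
    Subtype.ext (PicGrp.cls_mul_cls_val _ _), AgVanish.pc_cls_eq_iff] at hx
  obtain ⟨i⟩ := hx
  exact ⟨e ≪≫ TMul.commIso _ _ ≪≫ i.symm⟩


end Groth.Agent.S14143
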