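import Groth.Statements.S14144
import Groth.Agent.AVIndex.Index

set_option autoImplicit false
universe u
open CategoryTheory CategoryTheory.Limits MonoidalCategory CartesianMonoidalCategory MonObj GrpObj AlgebraicGeometry
open AbVar

namespace Groth.Agent.S14144

attribute [local instance] Groth.Agent.W7Cube.law

/-- Let k be an algebraically closed field, A and B abelian varieties over k (proper smooth k-group
schemes with geometrically connected fibres), f : A → B a homomorphism which is an isogeny (finite,
flat and surjective), and L an invertible O_B-module which is non-degenerate: only finitely many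
k-rational points y of B satisfy t_y^*L ≅ L. Then f^*L is non-degenerate on A, and L and f^*L have
the same index: for every j, H^j(B, L) vanishes if and only if H^j(A, f^*L) vanishes. -/
theorem result (k : Type u) [Field k] [IsAlgClosed k]
    (A B : Over (Spec (CommRingCat.of k))) [GrpObj A] [IsProper A.hom] [Smooth A.hom] [GeometricallyConnected A.hom]
    [GrpObj B] [IsProper B.hom] [Smooth B.hom] [GeometricallyConnected B.hom]
    (f : A ⟶ B) [IsMonHom f] [IsFinite f.left] [Flat f.left] [Surjective f.left]
    (L : B.left.Modules) (hL : PicF.IsInvertible L) (hnd : (Set.Finite {x : 𝟙_ (Over (Spec (CommRingCat.of k))) ⟶ B |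
      Nonempty ((Scheme.Modules.pullback (𝟙 B * (toUnit B ≫ x)).left).obj L ≅ L)})) :
    (Set.Finite {x : 𝟙_ (Over (Spec (CommRingCat.of k))) ⟶ A |
      Nonempty ((Scheme.Modules.pullback (𝟙 A * (toUnit A ≫ x)).left).obj ((Scheme.Modules.pullback f.left).obj L) ≅ ((Scheme.Modules.pullback f.left).obj L))}) ∧
      ∀ j : ℕ, Subsingleton (Coh.HH B.left L j) ↔ Subsingleton (Coh.HH A.left ((Scheme.Modules.pullback f.left).obj L) j) := by
  haveI : GeometricallyReduced A.hom := Rigid.geometricallyReduced_of_smooth _
  haveI : GeometricallyIntegral A.hom := W7Cube.geometricallyIntegral_grp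
  haveI : IsCommMonObj A := isCommMonObj_of_isProper_of_geometricallyIntegral A
  haveI : GeometricallyReduced B.hom := Rigid.geometricallyReduced_of_smooth _
  haveI : GeometricallyIntegral B.hom := W7Cube.geometricallyIntegral_grp
  haveI : IsCommMonObj B := isCommMonObj_of_isProper_of_geometricallyIntegral B
  have hnd' : {b : 𝟙_ (Over (Spec (CommRingCat.of k))) ⟶ B |
      W7Cube.pc (PicGrp.cls L hL) (𝟙 B * (toUnit B ≫ b)) = PicGrp.cls L hL}.Finite := by
    simpa only [AgVanish.pc_cls_eq_iff] using hnd
  refine ⟨?_, fun j => Groth.Agent.AVIndex.index_pullback f hL hnd' j⟩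
  refine (Groth.Agent.AVIndex.finite_points_preimage f _
    (Groth.Agent.AVIndex.finite_trivial f _ hnd')).subset fun a ha => ?_
  have ha' := (AgVanish.pc_cls_eq_iff (PicLoc.isInvertible_pullback f.left hL) (PicLoc.isInvertible_pullback f.left hL) _).2 ha
  rw [← W7Cube.pull_cls] at ha'
  change W7Cube.pc (W7Cube.pc (PicGrp.cls L hL) f) _ = W7Cube.pc (PicGrp.cls L hL) f at ha'
  rw [Set.mem_setOf_eq, Set.mem_setOf_eq, W7Cube.pc, map_mul, map_inv, W7Cube.pull_pc, mul_inv_eq_one]
  refine Eq.trans ?_ ha'
  change _ = W7Cube.pull (𝟙 A * (toUnit A ≫ a)).left (W7Cube.pc (PicGrp.cls L hL) f)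
  rw [W7Cube.pull_pc]
  congr 1
  rw [MonObj.comp_mul, MonObj.mul_comp, Category.comp_id, Category.id_comp, Category.assoc, ← Category.assoc f,
    toUnit_unique (f ≫ toUnit B) (toUnit A)]

end Groth.Agent.S14144
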