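import Groth.Statements.S14145
import Groth.Agent.AVIndex.Square

set_option autoImplicit false
universe u
open CategoryTheory CategoryTheory.Limits MonoidalCategory CartesianMonoidalCategory MonObj GrpObj AlgebraicGeometry
open AbVar

namespace Groth.Agent.S14145

attribute [local instance] Groth.Agent.W7Cube.law

/-- Let k be an algebraically closed field, A an abelian variety over k (a proper smooth k-group scheme
with geometrically connected fibres) and L an invertible O_A-module which is non-degenerate: only
finitely many k-rational points x satisfy t_x^*L ≅ L. Then for every m ≥ 1 the index of L^{⊗m²}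
equals that of L: for each j, H^j(A, L) vanishes if and only if H^j(A, L^{⊗m²}) vanishes. (The
published statement is for every power L^n, n > 0; the printed proof treats n a perfect square, the
case stated here.) -/
theorem result (k : Type u) [Field k] [IsAlgClosed k]
    (A : Over (Spec (CommRingCat.of k))) [GrpObj A] [IsProper A.hom] [Smooth A.hom] [GeometricallyConnected A.hom]
    (L : A.left.Modules) (hL : PicF.IsInvertible L) (hnd : (Set.Finite {x : 𝟙_ (Over (Spec (CommRingCat.of k))) ⟶ A |
      Nonempty ((Scheme.Modules.pullback (𝟙 A * (toUnit A ≫ x)).left).obj L ≅ L)}))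
    (m : ℕ) (hm : 0 < m) (j : ℕ) :
    Subsingleton (Coh.HH A.left L j) ↔ Subsingleton (Coh.HH A.left (CohB1.tensorPow L (m ^ 2)) j) := by
  haveI : GeometricallyReduced A.hom := Rigid.geometricallyReduced_of_smooth _
  haveI : GeometricallyIntegral A.hom := W7Cube.geometricallyIntegral_grp
  haveI : IsCommMonObj A := isCommMonObj_of_isProper_of_geometricallyIntegral A
  have hnd' : {b : 𝟙_ (Over (Spec (CommRingCat.of k))) ⟶ A |
      W7Cube.pc (PicGrp.cls L hL) (𝟙 A * (toUnit A ≫ b)) = PicGrp.cls L hL}.Finite := by
    simpa only [AgVanish.pc_cls_eq_iff] using hnd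
  haveI := AVDeg.isMonHom_id_pow (A := A) m
  haveI := AVDeg.isFinite_pow_id (A := A) (n := m) (by omega)
  haveI := AVDeg.surjective_pow_id (A := A) (n := m) (by omega)
  obtain ⟨z, hz⟩ := Groth.Agent.AVIndex.exists_pow_translate (PicGrp.cls L hL) hnd' (n := m) (by omega)
  rw [Groth.Agent.AVIndex.index_pullback (𝟙 A ^ m) hL hnd' j]
  refine (Groth.Agent.AVIndex.hh_translate_iff (TMul.isInvertible_tensorPow hL (m ^ 2)) z
    (PicLoc.isInvertible_pullback (𝟙 A ^ m).left hL) ?_ j).symm
  rw [← W7Cube.pull_cls, show PicGrp.cls _ (TMul.isInvertible_tensorPow hL (m ^ 2)) = PicGrp.cls L hL ^ (m * m) by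
    rw [← sq]; exact Subtype.ext (PicGrp.cls_pow_val hL _).symm]
  exact hz

end Groth.Agent.S14145
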