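import Groth.Statements.S14148
import Groth.Agent.PicZeroInv.Main

set_option backward.isDefEq.respectTransparency false
set_option backward.isDefEq.respectTransparency.types false
set_option synthInstance.maxHeartbeats 400000
set_option maxHeartbeats 1000000

set_option autoImplicit false
universe u
open CategoryTheory CategoryTheory.Limits MonoidalCategory CartesianMonoidalCategory MonObj GrpObj AlgebraicGeometry
attribute [local instance] HasDerivedCategory.standard
open AbVar

namespace Groth.Agent.S14148

/-- Let k be an algebraically closed field, A an abelian variety over k (a proper smooth k-group scheme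
with geometrically connected fibres), (A^t, φ) a given dual abelian variety for the fppf topology
with A^t an abelian variety, P an invertible module on A ×_k A^t whose class is a Poincaré class,
and for a k-rational point x of A^t let M_x denote the restriction of P along A = A × {x} → A ×_k
A^t (these are the degree-zero line bundles on A). Let G be an object of D(O_A) which is bounded
with coherent cohomology sheaves and invariant under tensoring with degree-zero line bundles: G ⊗^L
M_x ≅ G for every x (the derived tensor functors are assumed to exist). Then every cohomology sheaf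
H^i(G) has finite support. -/
theorem result (k : Type u) [Field k] [IsAlgClosed k]
    (A At : Over (Spec (CommRingCat.of k))) [GrpObj A] [IsProper A.hom] [Smooth A.hom] [GeometricallyConnected A.hom]
    [GrpObj At] [IsProper At.hom] [Smooth At.hom] [GeometricallyConnected At.hom]
    (φ : ∀ T : Over (Spec (CommRingCat.of k)), PicF.Cl (PicF.XT A.hom T) → (T ⟶ At))
    (hφ : AbDual.IsDualAV Scheme.fppfPrecoverage A At φ)
    (P : (pullback A.hom At.hom).Modules) (hP : PicF.IsInvertible P)
    (hPξ : AbDual.IsPoincareCl A At φ (PicF.cl P))
    [∀ x : 𝟙_ (Over (Spec (CommRingCat.of k))) ⟶ At,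
      DCoh.HasLTensorMod ((Scheme.Modules.pullback (CartesianMonoidalCategory.lift (𝟙 A) (toUnit A ≫ x)).left).obj P)]
    (G : DCoh.D A.left) (hG : DCoh.IsCohD G) (m n : ℤ) (hGm : DerivedCategory.IsGE G m) (hGn : DerivedCategory.IsLE G n)
    (hinv : ∀ x : 𝟙_ (Over (Spec (CommRingCat.of k))) ⟶ At,
      Nonempty ((DCoh.LTensorMod ((Scheme.Modules.pullback (CartesianMonoidalCategory.lift (𝟙 A) (toUnit A ≫ x)).left).obj P)).obj G ≅ G))
    (i : ℤ) : (CohB1.support (DCoh.HD G i)).Finite := by
  haveI : GeometricallyIntegral A.hom := Groth.Agent.ClosedRep.GeomIntegral.geometricallyIntegral_of_smooth A.hom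
  haveI : GeometricallyIntegral At.hom := Groth.Agent.ClosedRep.GeomIntegral.geometricallyIntegral_of_smooth At.hom
  obtain ⟨Q, hQ⟩ := Groth.Agent.AgSymm.exists_poincare hPξ
  have hQ' : Q.x = PicGrp.cls P hP := Subtype.ext hQ
  letI := @Groth.Agent.W7Cube.law
  refine Groth.Agent.PicZeroInv.finite_support_of_invariant hφ Q (hG i) fun x => ?_
  obtain ⟨e⟩ := hinv x
  have hM := PicLoc.isInvertible_pullback (lift (𝟙 A) (toUnit A ≫ x)).left hP
  obtain ⟨d⟩ := Groth.Agent.PicZeroInv.nonempty_HD_ltmod hM G i
  refine ⟨_, hM, ?_, ⟨d.symm ≪≫ (DerivedCategory.homologyFunctor _ i).mapIso e⟩⟩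
  rw [hQ']
  exact (Groth.Agent.W7Cube.pull_cls _ P hP).symm

end Groth.Agent.S14148
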