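import Groth.Statements.S14149
import Groth.Agent.W7Slope.Hom

set_option autoImplicit false
universe u
open CategoryTheory CategoryTheory.Limits AlgebraicGeometry
open VBCurve
open Groth.Agent Groth.Agent.CurveRR

set_option backward.isDefEq.respectTransparency false
set_option backward.isDefEq.respectTransparency.types false

namespace Groth.Agent.S14149

/-- Let C be a smooth proper geometrically connected curve over a field k (proper, smooth and
geometrically connected over k, of dimension one) and E a finite locally free O_C-module of rank r ≥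
1, the degree of a rank-n locally free module being χ − n·χ(O_C). Then there is a finite locally
free submodule E₁ of E, of some rank r₁ ≥ 1, such that: the slope of E₁ is maximal among finite
locally free submodules of E of positive rank (deg G · r₁ ≤ deg E₁ · r' for every such G of rank
r'); among submodules attaining that slope E₁ has the largest rank; and E₁ is semistable. (This is
the first step of the Harder–Narasimhan filtration, whose existence and uniqueness is the published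
statement; the full filtration is not restated.) -/
theorem result (k : Type u) [Field k] (X : Scheme.{u}) [X.Over (Spec (CommRingCat.of k))]
    [IsProper (X ↘ Spec (CommRingCat.of k))] [Smooth (X ↘ Spec (CommRingCat.of k))]
    [GeometricallyConnected (X ↘ Spec (CommRingCat.of k))] (hdim : topologicalKrullDim ↥X = 1)
    (r : ℕ) (hr : 0 < r) (E : X.Modules) (hE : FlatMod.IsFinLocFreeOfRank r E) :
    ∃ (E₁ : X.Modules) (r₁ : ℕ) (i₁ : E₁ ⟶ E), Mono i₁ ∧ 0 < r₁ ∧ FlatMod.IsFinLocFreeOfRank r₁ E₁ ∧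
      (∀ (G : X.Modules) (r' : ℕ) (j : G ⟶ E), Mono j → 0 < r' → FlatMod.IsFinLocFreeOfRank r' G →
        Curv2.deg k X G r' * (r₁ : ℤ) ≤ Curv2.deg k X E₁ r₁ * (r' : ℤ)) ∧
      (∀ (G : X.Modules) (r' : ℕ) (j : G ⟶ E), Mono j → 0 < r' → FlatMod.IsFinLocFreeOfRank r' G →
        Curv2.deg k X G r' * (r₁ : ℤ) = Curv2.deg k X E₁ r₁ * (r' : ℤ) → r' ≤ r₁) ∧
      (∀ (G : X.Modules) (r' : ℕ) (i : G ⟶ E₁), Mono i → 0 < r' → FlatMod.IsFinLocFreeOfRank r' G →
      Curv2.deg k X G r' * (r₁ : ℤ) ≤ Curv2.deg k X E₁ r₁ * (r' : ℤ)) := by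
  haveI := W7Slope.isIntegral_of_geomConn k hdim
  have hX : W7Slope.RegCurve X := W7Slope.regCurve_of_smooth (k := k) hdim
  haveI := isNoetherian_of_proper k X
  classical
  let P : ℕ → ℤ → Prop := fun n d => ∃ (G : X.Modules) (j : G ⟶ E), Mono j ∧
    FlatMod.IsFinLocFreeOfRank n G ∧ Curv2.deg k X G n = d
  have hbd : ∀ n, ∃ b : ℤ, ∀ d, P n d → d ≤ b := fun n =>
    ⟨(CurveRR.h k E 0 : ℤ) - n * Curv2.euler k X (Coh.structureModule X), fun d ⟨G, j, hj, hG, hd⟩ => by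
      have := W7Slope.cdeg_le_bound k hX.dim (isCoh_of_rank hE) j
      rw [W7Slope.grk_of_rank hG, ← W7Slope.deg_eq hG, hd] at this
      exact this⟩
  let R : Finset ℕ := (Finset.Icc 1 r).filter fun n => ∃ d, P n d
  have hmax : ∀ n ∈ R, ∃ d, P n d ∧ ∀ d', P n d' → d' ≤ d := fun n hn =>
    Int.exists_greatest_of_bdd (hbd n) (Finset.mem_filter.1 hn).2
  choose! D hD hD' using hmax
  have hrR : r ∈ R := Finset.mem_filter.2 ⟨Finset.mem_Icc.2 ⟨hr, le_rfl⟩, _, E, 𝟙 E, inferInstance, hE, rfl⟩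
  obtain ⟨n₀, hn₀, hmax₀⟩ := R.exists_max_image (fun n => (D n : ℚ) / n) ⟨r, hrR⟩
  obtain ⟨r₁, hr₁, hmax₁⟩ := (R.filter fun n => (D n : ℚ) / n = (D n₀ : ℚ) / n₀).exists_max_image id
    ⟨n₀, Finset.mem_filter.2 ⟨hn₀, rfl⟩⟩
  obtain ⟨hr₁R, hr₁eq⟩ := Finset.mem_filter.1 hr₁
  have hr₁pos : 0 < r₁ := (Finset.mem_Icc.1 (Finset.mem_filter.1 hr₁R).1).1
  obtain ⟨E₁, i₁, hi₁, hE₁, hdE₁⟩ := hD r₁ hr₁R
  have key : ∀ (G : X.Modules) (n : ℕ) (j : G ⟶ E), Mono j → 0 < n → FlatMod.IsFinLocFreeOfRank n G →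
      n ∈ R ∧ Curv2.deg k X G n ≤ D n ∧ (D n : ℚ) * r₁ ≤ (D r₁ : ℚ) * n := by
    intro G n j hj hn hG
    have hle := W7Slope.grk_le_of_mono k j (isCoh_of_rank hE)
    rw [W7Slope.grk_of_rank hG, W7Slope.grk_of_rank hE] at hle
    have hnR : n ∈ R := Finset.mem_filter.2 ⟨Finset.mem_Icc.2 ⟨hn, hle⟩, _, G, j, hj, hG, rfl⟩
    refine ⟨hnR, hD' n hnR _ ⟨G, j, hj, hG, rfl⟩, ?_⟩
    have h : (D n : ℚ) / n ≤ (D r₁ : ℚ) / r₁ := by rw [hr₁eq]; exact hmax₀ n hnR
    exact (div_le_div_iff₀ (by exact_mod_cast hn) (by exact_mod_cast hr₁pos)).1 h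
  have hle : ∀ (G : X.Modules) (n : ℕ) (j : G ⟶ E), Mono j → 0 < n → FlatMod.IsFinLocFreeOfRank n G →
      Curv2.deg k X G n * (r₁ : ℤ) ≤ Curv2.deg k X E₁ r₁ * (n : ℤ) := by
    intro G n j hj hn hG
    obtain ⟨-, h1, h2⟩ := key G n j hj hn hG
    rw [hdE₁]
    have h2' : D n * (r₁ : ℤ) ≤ D r₁ * (n : ℤ) := by exact_mod_cast h2
    exact (mul_le_mul_of_nonneg_right h1 (Int.natCast_nonneg r₁)).trans h2'
  refine ⟨E₁, r₁, i₁, hi₁, hr₁pos, hE₁, hle, fun G n j hj hn hG he => ?_,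
    fun G n i hi hn hG => hle G n (i ≫ i₁) (mono_comp _ _) hn hG⟩
  obtain ⟨hnR, h1, h2⟩ := key G n j hj hn hG
  have h2' : D n * (r₁ : ℤ) ≤ D r₁ * (n : ℤ) := by exact_mod_cast h2
  rw [hdE₁] at he
  have h3 : D n * (r₁ : ℤ) = D r₁ * (n : ℤ) :=
    h2'.antisymm (he ▸ mul_le_mul_of_nonneg_right h1 (Int.natCast_nonneg r₁))
  refine hmax₁ n (Finset.mem_filter.2 ⟨hnR, ?_⟩)
  rw [← hr₁eq, div_eq_div_iff (by exact_mod_cast hn.ne') (by exact_mod_cast hr₁pos.ne')]
  exact_mod_cast h3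

end Groth.Agent.S14149
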