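import Groth.Statements.S1415
import Mathlib

set_option autoImplicit false
universe u
open FlatMor

namespace Groth.Agent.S1415


open scoped TensorProduct in
theorem card_primeSpectrum_le (A B K : Type u) [CommRing A] [CommRing B] [Field K] [Algebra A B] [Algebra A K]
    [Module.Finite A B] : ENat.card (PrimeSpectrum (B ⊗[A] K)) ≤ ((⊤ : Submodule A B).spanFinrank : ℕ∞) := by
  rw [ENat.card_congr (PrimeSpectrum.comapEquiv (Algebra.TensorProduct.comm A B K).toRingEquiv).toEquiv]
  haveI : IsArtinianRing (K ⊗[A] B) := IsArtinianRing.of_finite K _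
  haveI := Fintype.ofFinite (PrimeSpectrum (K ⊗[A] B))
  rw [ENat.card_eq_coe_fintype_card, Nat.cast_le]
  calc Fintype.card (PrimeSpectrum (K ⊗[A] B))
      = ∑ _p : PrimeSpectrum (K ⊗[A] B), 1 := by simp
    _ ≤ ∑ p : PrimeSpectrum (K ⊗[A] B), Module.finrank K (Localization.AtPrime p.asIdeal) := by
      refine Finset.sum_le_sum fun p _ => ?_
      haveI : Module.Finite K (Localization.AtPrime p.asIdeal) :=
        Module.Finite.of_surjective (Algebra.algHom K (K ⊗[A] B) (Localization.AtPrime p.asIdeal)).toLinearMap
          (IsArtinianRing.localization_surjective p.asIdeal.primeCompl (Localization.AtPrime p.asIdeal))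
      exact Module.finrank_pos
    _ = Module.finrank K (K ⊗[A] B) := (IsArtinianRing.finrank_eq_sum_primeSpectrum (R := K ⊗[A] B) K).symm
    _ ≤ _ := by
      obtain ⟨s, hsc, hs⟩ := Submodule.FG.exists_span_set_encard_eq_spanFinrank (Module.Finite.fg_top (R := A) (M := B))
      haveI : Finite s := Set.finite_coe_iff.2 (Set.finite_of_encard_eq_coe hsc)
      haveI := Fintype.ofFinite s
      have hsp : Submodule.span K (Set.range fun b : s => (1 : K) ⊗ₜ[A] (b : B)) = ⊤ := by
        rw [← Submodule.baseChange_top (A := K), ← hs, Submodule.baseChange_span]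
        congr 1
        ext t
        simp
      rw [← finrank_top, ← hsp]
      refine (finrank_range_le_card _).trans ?_
      rw [← Nat.cast_le (α := ℕ∞), ← ENat.card_eq_coe_fintype_card]
      exact le_of_eq hsc

open AlgebraicGeometry CategoryTheory Limits in
set_option maxHeartbeats 1000000 in
/-- Let f : X → Y be locally quasi-finite. Then (1) for every y the number of irreducible components and
the number of connected components of the geometric fibre over y agree, and (2) if X is
quasi-compact these numbers are bounded by some natural number. -/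
theorem result {X Y : Scheme.{u}} (f : X ⟶ Y) [LocallyQuasiFinite f] [LocallyOfFiniteType f] :
    (∀ y : Y, MoreMor.nGeomIrredComp f y = MoreMor.nGeomConnComp f y) ∧
      (CompactSpace ↑X → ∃ d : ℕ, ∀ y : Y, MoreMor.nGeomConnComp f y ≤ d) := by
  haveI hd : ∀ y, DiscreteTopology (MoreMor.geomFiber f y) := by
    intro y
    have h1 : LocallyQuasiFinite (f.fiberToSpecResidueField y) :=
      MorphismProperty.pullback_snd _ _ inferInstance
    have h2 : LocallyQuasiFinite (pullback.snd (f.fiberToSpecResidueField y)
        (Spec.map (CommRingCat.ofHom (algebraMap (Y.residueField y) (SeparableClosure (Y.residueField y)))))) :=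
      MorphismProperty.pullback_snd _ _ h1
    haveI : IsLocallyArtinian (MoreMor.geomFiber f y) :=
      @IsLocallyArtinian.of_locallyQuasiFinite _ _ (pullback.snd (f.fiberToSpecResidueField y)
        (Spec.map (CommRingCat.ofHom (algebraMap (Y.residueField y) (SeparableClosure (Y.residueField y)))))) h2
        (inferInstanceAs (IsLocallyArtinian (Spec (CommRingCat.of (SeparableClosure (Y.residueField y))))))
    infer_instance
  have hcc : ∀ y, MoreMor.nGeomConnComp f y = ENat.card (MoreMor.geomFiber f y) := by
    intro y
    refine ENat.card_congr (Equiv.ofBijective ConnectedComponents.mk ⟨?_, ConnectedComponents.surjective_coe⟩).symm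
    intro a b h
    have := ConnectedComponents.coe_eq_coe'.1 h
    rw [connectedComponent_eq_singleton] at this
    exact this
  refine ⟨fun y => ?_, fun hX => ?_⟩
  · rw [hcc]
    have hs : irreducibleComponents (MoreMor.geomFiber f y) = Set.range fun a => {a} := by
      have h1 : ∀ s : Set (MoreMor.geomFiber f y), IsIrreducible s → ∃ a, s = {a} := by
        intro s hs
        obtain ⟨a, ha⟩ := hs.nonempty
        exact ⟨a, Set.eq_singleton_iff_unique_mem.2 ⟨ha, fun b hb => by
          have : _root_.IsPreconnected s := hs.isConnected.isPreconnected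
          exact this.subsingleton hb ha⟩⟩
      ext s
      constructor
      · intro hs
        obtain ⟨a, ha⟩ := h1 s hs.1
        exact ⟨a, ha.symm⟩
      · rintro ⟨a, rfl⟩
        refine ⟨isIrreducible_singleton, fun t ht hle => ?_⟩
        obtain ⟨b, rfl⟩ := h1 t ht
        simp_all
    rw [MoreMor.nGeomIrredComp, hs, ← Set.image_univ,
      Function.Injective.encard_image (fun a b h => by simpa using h), Set.encard_univ]
  · have key : ∀ x : X, ∃ (A B : CommRingCat.{u}) (φ : A ⟶ B) (v : Spec A ⟶ Y) (W : Scheme.{u}) (ι : W ⟶ X)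
        (j : W ⟶ Spec B), φ.hom.Finite ∧ IsOpenImmersion v ∧ IsOpenImmersion ι ∧ IsOpenImmersion j ∧
          ι ≫ f = j ≫ Spec.map φ ≫ v ∧ x ∈ Set.range ι := by
      intro x
      obtain ⟨_, ⟨V : Y.Opens, hV, rfl⟩, hxV, -⟩ := Y.isBasis_affineOpens.exists_subset_of_mem_open
        (Set.mem_univ (f x)) isOpen_univ
      obtain ⟨_, ⟨U : X.Opens, hU, rfl⟩, hxU, hUV⟩ := X.isBasis_affineOpens.exists_subset_of_mem_open
        hxV (f ⁻¹ᵁ V).2
      let ψ := f.appLE V U hUV
      have hft : ψ.hom.FiniteType := HasRingHomProperty.appLE (P := @LocallyOfFiniteType) f inferInstance ⟨V, hV⟩ ⟨U, hU⟩ hUV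
      have hqf : ψ.hom.QuasiFinite := HasRingHomProperty.appLE (P := @LocallyQuasiFinite) f inferInstance ⟨V, hV⟩ ⟨U, hU⟩ hUV
      algebraize [ψ.hom]
      obtain ⟨p, hp⟩ : ∃ p, hU.fromSpec p = x := by
        have : x ∈ Set.range hU.fromSpec := by rw [hU.range_fromSpec]; exact hxU
        exact this
      obtain ⟨S', hfg, r, hr, hbij⟩ :=
        Algebra.QuasiFiniteAt.exists_fg_and_exists_notMem_and_awayMap_bijective (R := Γ(Y, V)) p.asIdeal
      let e := (RingEquiv.ofBijective _ hbij).toCommRingCatIso
      refine ⟨Γ(Y, V), CommRingCat.of S', CommRingCat.ofHom (algebraMap Γ(Y, V) S'), hV.fromSpec,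
        Spec (CommRingCat.of (Localization.Away r.1)),
        Spec.map (CommRingCat.ofHom (algebraMap Γ(X, U) (Localization.Away r.1))) ≫ hU.fromSpec,
        Spec.map e.hom ≫ Spec.map (CommRingCat.ofHom (algebraMap S' (Localization.Away r))), ?_, inferInstance, ?_, ?_, ?_, ?_⟩
      · exact RingHom.finite_algebraMap.2 (Module.Finite.iff_fg.2 hfg)
      · haveI : IsOpenImmersion (Spec.map (CommRingCat.ofHom (algebraMap Γ(X, U) (Localization.Away r.1)))) :=
          IsOpenImmersion.of_isLocalization r.1
        infer_instance
      · haveI : IsOpenImmersion (Spec.map (CommRingCat.ofHom (algebraMap S' (Localization.Away r)))) :=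
          IsOpenImmersion.of_isLocalization r
        infer_instance
      · rw [Category.assoc, ← IsAffineOpen.SpecMap_appLE_fromSpec f hV hU hUV]
        simp only [← Category.assoc, ← Spec.map_comp]
        congr 2
        ext a
        change algebraMap Γ(X, U) (Localization.Away r.1) (S'.val (algebraMap Γ(Y, V) S' a)) =
          Localization.awayMap S'.val.toRingHom r (algebraMap S' (Localization.Away r) (algebraMap Γ(Y, V) S' a))
        simp only [Localization.awayMap, IsLocalization.Away.map, IsLocalization.map_eq]
        rfl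
      · obtain ⟨q, hq⟩ := (PrimeSpectrum.localization_away_comap_range (Localization.Away r.1) r.1).ge (show p ∈ PrimeSpectrum.basicOpen r.1 from hr)
        exact ⟨q, by rw [← hp, ← hq]; rfl⟩
    choose A B φ v W ι j hφ hv hι hj heq hmem using key
    obtain ⟨t, ht⟩ := isCompact_univ.elim_finite_subcover (fun x : X => Set.range (ι x))
      (fun x => (@Scheme.Hom.isOpenEmbedding _ _ (ι x) (hι x)).isOpen_range) (fun x _ => Set.mem_iUnion.2 ⟨x, hmem x⟩)
    refine ⟨∑ x ∈ t, @Submodule.spanFinrank (A x) (B x) _ _ (φ x).hom.toAlgebra.toModule ⊤, fun y => ?_⟩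
    rw [hcc]
    let K := SeparableClosure (Y.residueField y)
    let z : Spec (CommRingCat.of K) ⟶ Y :=
      Spec.map (CommRingCat.ofHom (algebraMap (Y.residueField y) K)) ≫ Y.fromSpecResidueField y
    have hG : ENat.card (MoreMor.geomFiber f y) = ENat.card ↥(pullback f z) :=
      ENat.card_congr (pullbackLeftPullbackSndIso f (Y.fromSpecResidueField y)
        (Spec.map (CommRingCat.ofHom (algebraMap (Y.residueField y) K)))).hom.homeomorph.toEquiv
    have hx : ∀ x, ENat.card ↥(pullback (ι x ≫ f) z) ≤
        (@Submodule.spanFinrank (A x) (B x) _ _ (φ x).hom.toAlgebra.toModule ⊤ : ℕ∞) := by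
      intro x
      haveI := hv x; haveI := hj x
      let w : pullback (ι x ≫ f) z ⟶ pullback (Spec.map (φ x) ≫ v x) z :=
        pullback.map _ _ _ _ (j x) (𝟙 _) (𝟙 _) (by simp [heq x]) (by simp)
      refine (ENat.card_le_card_of_injective (f := w) w.isOpenEmbedding.injective).trans ?_
      rcases isEmpty_or_nonempty ↥(pullback (Spec.map (φ x) ≫ v x) z) with he | ⟨⟨q⟩⟩
      · rw [ENat.card_eq_zero_iff_empty _ |>.2 he]; exact zero_le
      have hrange : Set.range z ⊆ Set.range (v x) := by
        rintro _ ⟨k, rfl⟩
        refine ⟨Spec.map (φ x) (pullback.fst (Spec.map (φ x) ≫ v x) z q), ?_⟩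
        rw [← Scheme.Hom.comp_apply, ← Scheme.Hom.comp_apply, pullback.condition, Scheme.Hom.comp_apply]
        haveI : Subsingleton (Spec (CommRingCat.of K)) := inferInstanceAs (Subsingleton (PrimeSpectrum K))
        rw [Subsingleton.elim (pullback.snd (Spec.map (φ x) ≫ v x) z q) k]
      let z' := IsOpenImmersion.lift (v x) z hrange
      have hz' : z' ≫ v x = z := IsOpenImmersion.lift_fac _ _ _
      obtain ⟨ψ, hψ⟩ := Spec.map_surjective z'
      haveI : Mono (v x) := inferInstance
      let e₁ : pullback (Spec.map (φ x) ≫ v x) z ≅ pullback (Spec.map (φ x)) (Spec.map ψ) :=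
        { hom := pullback.lift (pullback.fst _ _) (pullback.snd _ _) (by
            rw [← cancel_mono (v x), hψ]
            simp only [Category.assoc, hz', pullback.condition])
          inv := pullback.lift (pullback.fst _ _) (pullback.snd _ _) (by
            rw [← hz', ← hψ, pullback.condition_assoc])
          hom_inv_id := by
            apply pullback.hom_ext
            · rw [Category.assoc, Category.id_comp]; erw [pullback.lift_fst, pullback.lift_fst]
            · rw [Category.assoc, Category.id_comp]; erw [pullback.lift_snd, pullback.lift_snd]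
          inv_hom_id := by
            apply pullback.hom_ext
            · rw [Category.assoc, Category.id_comp]; erw [pullback.lift_fst, pullback.lift_fst]
            · rw [Category.assoc, Category.id_comp]; erw [pullback.lift_snd, pullback.lift_snd] }
      letI := (φ x).hom.toAlgebra
      letI := ψ.hom.toAlgebra
      haveI : Module.Finite (A x) (B x) := hφ x
      rw [ENat.card_congr (e₁ ≪≫ pullbackSpecIso (A x) (B x) K).hom.homeomorph.toEquiv]
      exact card_primeSpectrum_le (A x) (B x) K
    rw [hG]
    have hcov : (Set.univ : Set ↥(pullback f z)) ⊆ ⋃ x ∈ t, pullback.fst f z ⁻¹' Set.range (ι x) := by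
      intro q _
      simpa using ht (Set.mem_univ (pullback.fst f z q))
    calc ENat.card ↥(pullback f z) = (Set.univ : Set ↥(pullback f z)).encard := (Set.encard_univ _).symm
      _ ≤ (⋃ x ∈ t, pullback.fst f z ⁻¹' Set.range (ι x)).encard := Set.encard_le_encard hcov
      _ ≤ ∑ x ∈ t, (pullback.fst f z ⁻¹' Set.range (ι x)).encard := Finset.set_encard_biUnion_le _ _
      _ ≤ _ := by
        push_cast
        refine Finset.sum_le_sum fun x _ => le_trans ?_ (hx x)
        have := Scheme.Pullback.range_map (f := ι x ≫ f) (g := z) f z (ι x) (𝟙 _) (𝟙 _) (by simp) (by simp)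
        simp only [Scheme.Hom.id_base, TopCat.coe_id, Set.range_id, Set.preimage_univ, Set.inter_univ] at this
        rw [← this, ← Set.image_univ]
        exact (Set.encard_image_le _ _).trans_eq (Set.encard_univ _)

end Groth.Agent.S1415
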