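import Groth.Statements.S14150
import Groth.Agent.AVDeg.Torsion

set_option autoImplicit false
universe u
open CategoryTheory CategoryTheory.Limits MonoidalCategory CartesianMonoidalCategory MonObj GrpObj AlgebraicGeometry
open AbVar

namespace Groth.Agent.S14150

/-- Let k be an algebraically closed field, A an abelian variety over k (a proper smooth k-group scheme
with geometrically connected fibres) of dimension g, and n ≥ 1 an integer invertible in k. Then the
group A[n](k) of k-rational points of A killed by n is isomorphic to (ℤ/n)^{2g} (existence of a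
group isomorphism; the group of k-points is written multiplicatively). -/
theorem result (k : Type u) [Field k] [IsAlgClosed k]
    (A : Over (Spec (CommRingCat.of k))) [GrpObj A] [IsProper A.hom] [Smooth A.hom] [GeometricallyConnected A.hom] [IsCommMonObj A]
    (g : ℕ) (hg : topologicalKrullDim ↥A.left = g) (n : ℕ) (hn : 0 < n) (hnk : IsUnit (n : k)) :
    Nonempty (AbDual.torsPts A n (𝟙_ (Over (Spec (CommRingCat.of k)))) ≃* Multiplicative (Fin (2 * g) → ZMod n)) := by
  haveI : GeometricallyIntegral A.hom := Groth.Agent.ClosedRep.GeomIntegral.geometricallyIntegral_of_smooth A.hom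
  haveI : NeZero n := ⟨hn.ne'⟩
  obtain ⟨x, hx⟩ := Groth.Agent.AVDeg.exists_good_points hg (n := n) hnk.ne_zero
  obtain ⟨e⟩ := hx.nonempty_equiv (Groth.Agent.AVDeg.natCard_tors hg hnk.ne_zero)
  exact ⟨{ toEquiv := ((Groth.Agent.AVDeg.torsPtsEquiv n).trans e.symm.toEquiv).trans Multiplicative.ofAdd
           map_mul' := fun a b => congrArg Multiplicative.ofAdd (e.symm.map_add
             (Groth.Agent.AVDeg.torsPtsEquiv n a) (Groth.Agent.AVDeg.torsPtsEquiv n b)) }⟩

end Groth.Agent.S14150
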