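import Groth.Statements.S14151
import Groth.Agent.W7Slope.Hom

set_option autoImplicit false
universe u
open CategoryTheory CategoryTheory.Limits AlgebraicGeometry
open VBCurve
open Groth.Agent Groth.Agent.CurveRR

set_option backward.isDefEq.respectTransparency false
set_option backward.isDefEq.respectTransparency.types false

namespace Groth.Agent.S14151

/-- Let C be a smooth proper geometrically connected curve over a field k (proper, smooth and
geometrically connected over k, of dimension one) and E a finite locally free O_C-module of rank r ≥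
1; degrees of rank-n locally free modules are χ − n·χ(O_C) and slopes are compared by
cross-multiplication. Then: E is semistable in the sense of quotients (μ(E) ≤ μ(F) for every locally
free quotient E ↠ F of rank s ≥ 1) if and only if μ(G) ≤ μ(E) for every finite locally free
submodule G of E of rank r' ≥ 1; and E is stable in the sense of quotients (μ(E) < μ(F) for every
such quotient map which is not an isomorphism) if and only if μ(G) < μ(E) for every such submodule
whose inclusion is not an isomorphism. (The printed lemma says every nonzero subsheaf; for the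
strict inequalities the subsheaf and the quotient must be proper, as its proof uses.) -/
theorem result (k : Type u) [Field k] (X : Scheme.{u}) [X.Over (Spec (CommRingCat.of k))]
    [IsProper (X ↘ Spec (CommRingCat.of k))] [Smooth (X ↘ Spec (CommRingCat.of k))]
    [GeometricallyConnected (X ↘ Spec (CommRingCat.of k))] (hdim : topologicalKrullDim ↥X = 1)
    (r : ℕ) (hr : 0 < r) (E : X.Modules) (hE : FlatMod.IsFinLocFreeOfRank r E) :
    ((∀ (F : X.Modules) (s : ℕ) (p : E ⟶ F), Epi p → 0 < s → FlatMod.IsFinLocFreeOfRank s F →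
      Curv2.deg k X E r * (s : ℤ) ≤ Curv2.deg k X F s * (r : ℤ)) ↔
      (∀ (G : X.Modules) (r' : ℕ) (i : G ⟶ E), Mono i → 0 < r' → FlatMod.IsFinLocFreeOfRank r' G →
      Curv2.deg k X G r' * (r : ℤ) ≤ Curv2.deg k X E r * (r' : ℤ))) ∧
    ((∀ (F : X.Modules) (s : ℕ) (p : E ⟶ F), Epi p → 0 < s → FlatMod.IsFinLocFreeOfRank s F → (¬ IsIso p) →
      Curv2.deg k X E r * (s : ℤ) < Curv2.deg k X F s * (r : ℤ)) ↔
      (∀ (G : X.Modules) (r' : ℕ) (i : G ⟶ E), Mono i → 0 < r' → FlatMod.IsFinLocFreeOfRank r' G → (¬ IsIso i) →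
      Curv2.deg k X G r' * (r : ℤ) < Curv2.deg k X E r * (r' : ℤ))) := by
  haveI := W7Slope.isIntegral_of_geomConn k hdim
  have hX : W7Slope.RegCurve X := W7Slope.regCurve_of_smooth (k := k) hdim
  haveI := isNoetherian_of_proper k X
  have hEc := isCoh_of_rank hE
  -- a quotient gives a submodule
  have hquot : ∀ (F : X.Modules) (s : ℕ) (p : E ⟶ F), Epi p → FlatMod.IsFinLocFreeOfRank s F →
      ∃ m : ℕ, FlatMod.IsFinLocFreeOfRank m (kernel p) ∧ r = m + s ∧
        Curv2.deg k X E r = Curv2.deg k X (kernel p) m + Curv2.deg k X F s := by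
    intro F s p hp hF
    have hK := W7Slope.isFinLocFree_sub k hX (kernel.ι p) (W7Slope.isCoh_kernel k hEc (isCoh_of_rank hF) p) hE
    have hg := W7Slope.grk_add (shortExact_ker p) hEc
    change W7Slope.grk E = W7Slope.grk (kernel p) + W7Slope.grk F at hg
    rw [W7Slope.grk_of_rank hE, W7Slope.grk_of_rank hF] at hg
    exact ⟨_, hK, hg, Easy.deg_add (k := k) _ (shortExact_ker p) hK hE hF hg⟩
  refine ⟨⟨fun h G r' i hi hr' hG => ?_, fun h F s p hp hs hF => ?_⟩, ⟨fun h G r' i hi hr' hG hni => ?_, fun h F s p hp hs hF hnp => ?_⟩⟩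
  · obtain ⟨G', Q, i', l, p, w, hS, -, -, hG', hQ, hrk, hle, -, hd⟩ :=
      W7Slope.exists_saturation k hX hE (isCoh_of_rank hG) i
    rw [← W7Slope.deg_eq hG, ← W7Slope.deg_eq hG', W7Slope.grk_of_rank hG] at hle
    rw [← W7Slope.deg_eq hG', ← W7Slope.deg_eq hQ, W7Slope.grk_of_rank hG] at hd
    rw [W7Slope.grk_of_rank hG] at hrk
    generalize W7Slope.grk Q = q at hQ hrk hd
    have hr0 : (0 : ℤ) ≤ r := Int.natCast_nonneg r
    have hrk' : (r : ℤ) = (r' : ℤ) + (q : ℤ) := by exact_mod_cast hrk
    rcases Nat.eq_zero_or_pos q with rfl | hq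
    · rw [W7Slope.deg_rank_zero k hQ, add_zero] at hd
      rw [show r' = r by omega] at hle hd ⊢
      nlinarith
    · haveI : Epi p := hS.epi_g
      have h' := h Q q p inferInstance hq hQ
      rw [hd, hrk'] at h' ⊢
      nlinarith [mul_le_mul_of_nonneg_right hle hr0]
  · obtain ⟨m, hK, hrk, hd⟩ := hquot F s p hp hF
    have h' := W7Slope.sub_le k (E := E) (r := r) h (kernel.ι p) hK
    have hrk' : (r : ℤ) = (m : ℤ) + (s : ℤ) := by exact_mod_cast hrk
    rw [hd, hrk'] at h' ⊢
    linarith
  · obtain ⟨G', Q, i', l, p, w, hS, hli, -, hG', hQ, hrk, hle, heq, hd⟩ :=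
      W7Slope.exists_saturation k hX hE (isCoh_of_rank hG) i
    rw [← W7Slope.deg_eq hG, ← W7Slope.deg_eq hG', W7Slope.grk_of_rank hG] at hle heq
    rw [← W7Slope.deg_eq hG', ← W7Slope.deg_eq hQ, W7Slope.grk_of_rank hG] at hd
    rw [W7Slope.grk_of_rank hG] at hrk hG'
    generalize W7Slope.grk Q = q at hQ hrk hd
    have hr0 : (0 : ℤ) < r := by exact_mod_cast hr
    have hrk' : (r : ℤ) = (r' : ℤ) + (q : ℤ) := by exact_mod_cast hrk
    haveI : Mono i' := hS.mono_f
    rcases Nat.eq_zero_or_pos q with rfl | hq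
    · rw [W7Slope.deg_rank_zero k hQ, add_zero] at hd
      obtain rfl : r' = r := by omega
      haveI := W7Slope.isIso_of_mono k hX hG' hE hd.symm i'
      have hlt : Curv2.deg k X G r' < Curv2.deg k X E r' := by
        refine (hd ▸ hle).lt_of_ne fun he => hni ?_
        haveI := heq (he.trans hd)
        rw [← hli]
        infer_instance
      exact mul_lt_mul_of_pos_right hlt hr0
    · haveI : Epi p := hS.epi_g
      have h' := h Q q p inferInstance hq hQ fun hp => by
        have : i' = 0 := by rw [← cancel_mono p, w, zero_comp]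
        exact W7Slope.pos_rank_not_isZero k hr' hG' (IsZero.of_mono_eq_zero i' this)
      rw [hd, hrk'] at h' ⊢
      nlinarith [mul_le_mul_of_nonneg_right hle hr0.le]
  · obtain ⟨m, hK, hrk, hd⟩ := hquot F s p hp hF
    rcases Nat.eq_zero_or_pos m with rfl | hm
    · haveI := Preadditive.mono_of_isZero_kernel p (W7Slope.isZero_of_rank_zero hK)
      exact absurd (isIso_of_mono_of_epi p) hnp
    have h' := h (kernel p) m (kernel.ι p) inferInstance hm hK fun hι => by
      have : p = 0 := by rw [← cancel_epi (kernel.ι p), kernel.condition, comp_zero]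
      exact W7Slope.pos_rank_not_isZero k hs hF (IsZero.of_epi_eq_zero p this)
    have hrk' : (r : ℤ) = (m : ℤ) + (s : ℤ) := by exact_mod_cast hrk
    rw [hd, hrk'] at h' ⊢
    linarith

end Groth.Agent.S14151
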