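import Groth.Statements.S14155
import Groth.Agent.HNSplit.Twist0
import Groth.Agent.S14138

set_option autoImplicit false
universe u
open CategoryTheory CategoryTheory.Limits AlgebraicGeometry
open VBCurve

set_option backward.isDefEq.respectTransparency false
set_option backward.isDefEq.respectTransparency.types false

open Groth.Agent

namespace Groth.Agent.S14155

/-- Let k be an algebraically closed field, X a smooth proper integral curve over k (proper and smooth
over k, integral, of dimension one) of genus one, i.e. dim_k H^1(X, O_X) = 1 (an elliptic curve once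
a base point is chosen), and F a finite locally free O_X-module of rank r ≥ 1 which is
indecomposable (nonzero, and in any decomposition F ≅ F₁ ⊕ F₂ one summand is zero), of degree d =
χ(F) − r·χ(O_X). Then F is stable — deg G · r < d · r' for every finite locally free submodule G of
F of rank r' ≥ 1 whose inclusion is not an isomorphism — if and only if gcd(d, r) = 1. (The
published corollary also identifies stability with simplicity in two senses; those equivalences are
not restated.) -/
theorem result (k : Type u) [Field k] [IsAlgClosed k]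
    (X : Scheme.{u}) [X.Over (Spec (CommRingCat.of k))] [IsIntegral X]
    [IsProper (X ↘ Spec (CommRingCat.of k))] [Smooth (X ↘ Spec (CommRingCat.of k))]
    (hdim : topologicalKrullDim ↥X = 1) (hg : Curv2.genus k X = 1)
    (r : ℕ) (hr : 0 < r) (F : X.Modules) (hF : FlatMod.IsFinLocFreeOfRank r F)
    (hind : ¬ IsZero F ∧ ∀ (F₁ F₂ : X.Modules), Nonempty (F ≅ F₁ ⊞ F₂) → IsZero F₁ ∨ IsZero F₂) :
    (∀ (G : X.Modules) (r' : ℕ) (i : G ⟶ F), Mono i → 0 < r' → FlatMod.IsFinLocFreeOfRank r' G → (¬ IsIso i) →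
      Curv2.deg k X G r' * (r : ℤ) < Curv2.deg k X F r * (r' : ℤ)) ↔ Int.gcd (Curv2.deg k X F r) (r : ℤ) = 1 := by
  haveI : GeometricallyConnected (X ↘ Spec (CommRingCat.of k)) :=
    HNSplit.geometricallyConnected_of_isAlgClosed (X ↘ Spec (CommRingCat.of k))
  have hX := W7Slope.regCurve_of_smooth (k := k) (X := X) hdim
  haveI := CurveRR.isNoetherian_of_proper k X
  refine ⟨fun hst => ?_, fun hgcd G n i hi hn hG hniso => ?_⟩
  · by_contra hne
    have hg0 : 0 < Int.gcd (Curv2.deg k X F r) r := Int.gcd_pos_of_ne_zero_right _ (by omega)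
    obtain ⟨g, hg_eq⟩ : ∃ g, Int.gcd (Curv2.deg k X F r) r = g := ⟨_, rfl⟩
    rw [hg_eq] at hg0 hne
    obtain ⟨d₀, hd₀⟩ := Int.gcd_dvd_left (Curv2.deg k X F r) r
    obtain ⟨r₀, hr₀⟩ := Int.natCast_dvd_natCast.1 (Int.gcd_dvd_right (Curv2.deg k X F r) r)
    rw [hg_eq] at hd₀ hr₀
    have hcop : IsCoprime d₀ (r₀ : ℤ) := by
      refine Int.isCoprime_iff_gcd_eq_one.2 (Nat.eq_of_mul_eq_mul_left hg0 ?_)
      rw [mul_one]
      conv_rhs => rw [← hg_eq, hd₀, hr₀, Nat.cast_mul, Int.gcd_mul_left]
      simp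
    have hr₀0 : 0 < r₀ := Nat.pos_of_mul_pos_left (hr₀ ▸ hr)
    obtain ⟨F₀, hF₀⟩ := HNSplit.exists_stb k hdim hX hg r₀ hr₀0 d₀ hcop
    obtain ⟨M, f, hM, hdM, hf⟩ := HNSplit.exists_hom_twist k hdim hX hg hr hr₀0 hF hF₀.1 (by
      rw [hd₀, hF₀.2.1, hr₀]; push_cast; ring)
    obtain ⟨I, t, m, p, q, -, hq, -, hI, -, hrk, -, -, hle, -, hpos⟩ :=
      W7Slope.image_slope k hX hF₀.1 (W7Slope.rank_tensor_inv hF hM) hF₀.ss f
    have ht := hpos hf
    obtain ⟨M', hM', ⟨e⟩⟩ := W7Hull.exists_tensor_inverse hM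
    have hdM' : Curv2.deg k X M' 1 = 0 := by
      have h := W7Slope.deg_twist (k := k) hX.dim (CurveRR.isFinLocFreeOfRank_one hM) hM'
      rw [W7Slope.deg_iso (k := k) e, CurveRR.deg_structure, hdM] at h
      push_cast at h
      omega
    haveI := W7Slope.mono_tmap hM' q
    have hg2 : 2 ≤ g := by omega
    have hlt : r₀ < r := by
      rw [hr₀]
      exact lt_mul_of_one_lt_left hr₀0 (by omega)
    have h := hst (CohB1.tensorMod I M') t (CohFinite.tmap q M' ≫ (W7Slope.untw e F).hom) (mono_comp _ _) ht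
      (W7Slope.rank_tensor_inv hI hM') (fun hiso => by
        have h1 := W7Slope.grk_iso (@asIso _ _ _ _ _ hiso)
        rw [W7Slope.grk_of_rank (W7Slope.rank_tensor_inv hI hM'), W7Slope.grk_of_rank hF] at h1
        omega)
    rw [W7Slope.deg_twist (k := k) hX.dim hI hM', hdM', mul_zero, add_zero, hd₀, hr₀] at h
    rw [hF₀.2.1] at hle
    push_cast at h
    have := mul_le_mul_of_nonneg_left hle (Int.natCast_nonneg g)
    linarith
  · have hss := S14138.result k X hdim hg r hr F hF hind G n i hi hn hG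
    have hle := W7Slope.grk_le_of_mono k i (CurveRR.isCoh_of_rank hF)
    rw [W7Slope.grk_of_rank hG, W7Slope.grk_of_rank hF] at hle
    refine lt_of_le_of_ne hss fun heq => ?_
    have hdvd : (r : ℤ) ∣ (n : ℤ) :=
      (Int.isCoprime_iff_gcd_eq_one.2 hgcd).symm.dvd_of_dvd_mul_left ⟨Curv2.deg k X G n, by rw [← heq]; ring⟩
    obtain rfl : n = r := le_antisymm hle (Nat.le_of_dvd hn (Int.natCast_dvd_natCast.1 hdvd))
    exact hniso ((W7Slope.deg_le_of_mono k hX hG hF i).2 (mul_right_cancel₀ (by omega) heq))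

end Groth.Agent.S14155
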