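import Groth.Statements.S14159
import Groth.Agent.AgSymm.Lambda
import Groth.Agent.PicFam.Separated
-- import your own Groth.Agent.* helpers here

set_option autoImplicit false
universe u
open CategoryTheory CategoryTheory.Limits MonoidalCategory CartesianMonoidalCategory MonObj AlgebraicGeometry
open AgPol

set_option backward.isDefEq.respectTransparency false
set_option backward.isDefEq.respectTransparency.types false
set_option linter.style.haveILetI false

namespace Groth.Agent.S14159

open Groth.Agent.W7Cube (pull pull_pull)
open Groth.Agent.W7Cube in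
attribute [local instance] law

/-- Let S be a locally Noetherian scheme, A a projective abelian scheme over S of relative dimension g
with commutative group law, (At, φ) a commutative group scheme with data presenting it as the dual
of A for the fppf topology, ξ a Poincaré class on A ×_S At (normalised along the unit section of A)
and lam : A ⟶ At a polarisation. If L is a module on A whose isomorphism class is the pull back of ξ
along the graph (1, lam) : A ⟶ A ×_S At, then lam · lam (twice lam, in the group of A-valued points
of At) is the homomorphism attached to L through φ. -/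
theorem result (S : Scheme.{u}) [IsLocallyNoetherian S] (A At : Over S) [GrpObj A] [IsCommMonObj A]
    [GrpObj At] [IsCommMonObj At] (g : ℕ) (hA : AgPol.IsAbSch A g) (hproj : RelProj.IsProjective A.hom)
    (φ : AgPol.DualMap A At) (hdual : AbDual.IsDualAV Scheme.fppfPrecoverage A At φ)
    (ξ : PicF.Cl (PicF.XT A.hom At)) (hξ : AbDual.IsPoincareCl A At φ ξ)
    (lam : A ⟶ At) (hpol : AgPol.IsPolarization A At φ lam) (L : A.left.Modules)
    (hL : PicF.cl L = PicF.pullCl (pullback.lift (𝟙 A.left) (lam).left ((Category.id_comp A.hom).trans (Over.w (lam)).symm)) ξ) :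
    AgPol.IsLambda A At φ L (lam * lam) := by
  haveI := hA.smooth
  haveI := hA.proper
  haveI := hA.geomConnected
  haveI : IsMonHom lam := hpol.1
  obtain ⟨P, hP⟩ := Groth.Agent.AgSymm.exists_poincare hξ
  let ℓ := P.graphCls lam
  have hℓ : ℓ.1 = PicF.cl L := by
    rw [hL, ← hP]
    rfl
  obtain ⟨L', hL', hLI⟩ := ℓ.2
  obtain ⟨j⟩ := Groth.Agent.PicFam.nonempty_iso_of_cl_eq (hL'.trans hℓ)
  have hLi : PicF.IsInvertible L := Groth.Agent.ParaFLib.isInvertible_of_iso j hLI
  have hLc : ℓ = PicGrp.cls L hLi := Subtype.ext hℓ
  obtain ⟨N, hN, hNc⟩ := PicGrp.exists_eq_cls (P.cls lam * P.swapCls lam)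
  refine ⟨N, hN, ?_, ?_⟩
  · refine Groth.Agent.PicFam.nonempty_iso_of_cl_eq (congrArg Subtype.val
      (?_ : PicGrp.cls N hN * pull (fst A A).left (PicGrp.cls L hLi) * pull (snd A A).left (PicGrp.cls L hLi) =
        pull μ[A].left (PicGrp.cls L hLi)))
    rw [← hNc, ← hLc]
    exact (Groth.Agent.AgSymm.lambda_graph P hdual lam).symm
  · have h := Groth.Agent.AgSymm.phi_lambdaCls P hdual hpol 1
    rw [pow_one, hNc] at h
    exact h

end Groth.Agent.S14159
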