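import Groth.Statements.S14160
import Groth.Agent.AgSymm.Lambda
import Groth.Agent.AgSymm.Cancel
-- import your own Groth.Agent.* helpers here

set_option autoImplicit false
universe u
open CategoryTheory CategoryTheory.Limits MonoidalCategory CartesianMonoidalCategory MonObj AlgebraicGeometry
open AgPol

set_option backward.isDefEq.respectTransparency false
set_option backward.isDefEq.respectTransparency.types false
set_option linter.style.haveILetI false

namespace Groth.Agent.S14160

open Groth.Agent.W7Cube (pull pull_pull)
open Groth.Agent.W7Cube in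
attribute [local instance] law

/-- Let S be a locally Noetherian scheme, A a projective abelian scheme over S of relative dimension g
with commutative group law, (At, φ) a commutative group scheme with data presenting it as the dual
of A for the fppf topology, ξ a Poincaré class on A ×_S At, and k ≥ 1. If lam₁, lam₂ : A ⟶ At are
polarisations such that ξ pulls back to the same class on A along the graphs of lam₁ ^ k and of lam₂
^ k (powers in the group of A-valued points of At), then lam₁ = lam₂. (The published statement
claims uniqueness among all homomorphisms into the dual; on the square E × E of an elliptic curve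
with its product principal polarisation lam₀, the homomorphism α(x, y) = lam₀(y, −x) has lam₀ + α ≠
lam₀ while the graphs of k·lam₀ and k·(lam₀ + α) pull the Poincaré class back to isomorphic sheaves,
so this row asks lam₁, lam₂ to be polarisations, which is the case the printed argument covers; k =
0 is excluded since both pull backs are then along the unit section.) -/
theorem result (S : Scheme.{u}) [IsLocallyNoetherian S] (A At : Over S) [GrpObj A] [IsCommMonObj A]
    [GrpObj At] [IsCommMonObj At] (g : ℕ) (hA : AgPol.IsAbSch A g) (hproj : RelProj.IsProjective A.hom)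
    (φ : AgPol.DualMap A At) (hdual : AbDual.IsDualAV Scheme.fppfPrecoverage A At φ)
    (ξ : PicF.Cl (PicF.XT A.hom At)) (hξ : AbDual.IsPoincareCl A At φ ξ) (k : ℕ) (hk : 1 ≤ k)
    (lam₁ lam₂ : A ⟶ At) (h₁ : AgPol.IsPolarization A At φ lam₁) (h₂ : AgPol.IsPolarization A At φ lam₂)
    (heq : PicF.pullCl (pullback.lift (𝟙 A.left) (lam₁ ^ k).left ((Category.id_comp A.hom).trans (Over.w (lam₁ ^ k)).symm)) ξ = PicF.pullCl (pullback.lift (𝟙 A.left) (lam₂ ^ k).left ((Category.id_comp A.hom).trans (Over.w (lam₂ ^ k)).symm)) ξ) :
    lam₁ = lam₂ := by
  haveI := hA.smooth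
  haveI := hA.proper
  haveI := hA.geomConnected
  haveI : IsMonHom lam₁ := h₁.1
  haveI : IsMonHom lam₂ := h₂.1
  haveI := Groth.Agent.AgSymm.isMonHom_pow lam₁ k
  haveI := Groth.Agent.AgSymm.isMonHom_pow lam₂ k
  obtain ⟨P, hP⟩ := Groth.Agent.AgSymm.exists_poincare hξ
  have hg : P.graphCls (lam₁ ^ k) = P.graphCls (lam₂ ^ k) := by
    refine Subtype.ext ?_
    rw [← hP] at heq
    exact heq
  have e1 := Groth.Agent.AgSymm.lambda_graph P hdual (lam₁ ^ k)
  have e2 := Groth.Agent.AgSymm.lambda_graph P hdual (lam₂ ^ k)
  rw [hg, e2] at e1
  have h := congrArg (fun c : PicLoc.PicSet _ => φ A c.1) (mul_right_cancel (mul_right_cancel e1))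
  simp only [Groth.Agent.AgSymm.phi_lambdaCls P hdual h₁, Groth.Agent.AgSymm.phi_lambdaCls P hdual h₂, ← pow_add] at h
  exact (Groth.Agent.AgSymm.eq_of_pow_eq (by omega : k + k ≠ 0) h).symm

end Groth.Agent.S14160
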