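import Groth.Statements.S14161
import Groth.Agent.AgDeg.Main

set_option autoImplicit false
set_option backward.isDefEq.respectTransparency false
universe u
open CategoryTheory CategoryTheory.Limits MonoidalCategory CartesianMonoidalCategory MonObj AlgebraicGeometry
open AgPol

namespace Groth.Agent.S14161

/-- Let S be a locally Noetherian scheme, A a projective abelian scheme over S of relative dimension g
with commutative group law and structure morphism π, (At, φ) a commutative group scheme with data
presenting it as the dual of A for the fppf topology, L an invertible module on A which is ample
relative to π, and lam : A ⟶ At the homomorphism attached to L through φ. If π_*L is finite locally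
free of rank r, then lam is finite, flat and locally of finite presentation, of rank r ^ 2 at every
point of At: the degree of lam is the square of the rank of π_*L. -/
theorem result (S : Scheme.{u}) [IsLocallyNoetherian S] (A At : Over S) [GrpObj A] [IsCommMonObj A]
    [GrpObj At] [IsCommMonObj At] (g : ℕ) (hA : AgPol.IsAbSch A g) (hproj : RelProj.IsProjective A.hom)
    (φ : AgPol.DualMap A At) (hdual : AbDual.IsDualAV Scheme.fppfPrecoverage A At φ)
    (L : A.left.Modules) (hL : PicF.IsInvertible L) (hample : RelAmple.IsRelAmple A.hom L)
    (lam : A ⟶ At) (hlam : AgPol.IsLambda A At φ L lam) (r : ℕ)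
    (hr : FlatMod.IsFinLocFreeOfRank r ((Coh.push A.hom).obj L)) :
    AgPol.HasDegSq lam r := by
  haveI := hA.smooth
  haveI := hA.proper
  haveI := hA.geomConnected
  exact Groth.Agent.AgDeg.hasDegSq hdual hL hample hlam hr

end Groth.Agent.S14161
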