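import Groth.Statements.S14163
import Groth.Agent.GraphLocus.Main

set_option autoImplicit false
universe u
open CategoryTheory CategoryTheory.Limits MonoidalCategory CartesianMonoidalCategory MonObj AlgebraicGeometry
open AgPol

namespace Groth.Agent.S14163

/-- Let S be a locally Noetherian scheme, A a projective abelian scheme over S of relative dimension g
with commutative group law, structure morphism π and unit section ε, (At, φ) a commutative group
scheme with data presenting it as the dual of A for the fppf topology, ξ a Poincaré class on A ×_S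
At, L an invertible module on A which is ample relative to π and whose pull back along ε is trivial,
and k ≥ 1. Then there is a closed subscheme S₀ of S such that a locally Noetherian S-scheme T
factors through S₀ if and only if there is a homomorphism lam : A_T ⟶ At_T of T-group schemes such
that lam ^ (2k) is the homomorphism attached to the pulled-back module L_T through the base-changed
dual data and the class of L_T is the pull back of ξ (moved to A_T ×_T At_T) along the graph of lam
^ k. (The published statement asks only for a homomorphism lam with L_T isomorphic to the pull back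
along the graph of lam ^ k; the closed subscheme the printed argument constructs represents that
condition together with the clause on lam ^ (2k), which holds automatically for a polarisation lam
and can fail for other homomorphisms — on the square of an elliptic curve with its product principal
polarisation lam₀ and α(x, y) = lam₀(y, 0), the pull back along the graph of lam₀ + α is ample and
normalised while its attached homomorphism is not divisible by 2 — so the clause is kept here.) -/
theorem result (S : Scheme.{u}) [IsLocallyNoetherian S] (A At : Over S) [GrpObj A] [IsCommMonObj A]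
    [GrpObj At] [IsCommMonObj At] (g : ℕ) (hA : AgPol.IsAbSch A g) (hproj : RelProj.IsProjective A.hom)
    (φ : AgPol.DualMap A At) (hdual : AbDual.IsDualAV Scheme.fppfPrecoverage A At φ)
    (ξ : PicF.Cl (PicF.XT A.hom At)) (hξ : AbDual.IsPoincareCl A At φ ξ)
    (L : A.left.Modules) (hL : PicF.IsInvertible L) (hample : RelAmple.IsRelAmple A.hom L)
    (hrig : PicF.IsTrivialCl (PicF.cl ((Scheme.Modules.pullback η[A].left).obj L))) (k : ℕ) (hk : 1 ≤ k) :
    ∃ (S₀ : Scheme.{u}) (i₀ : S₀ ⟶ S), IsClosedImmersion i₀ ∧
      ∀ T : Over S, IsLocallyNoetherian T.left →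
        ((∃ h : T.left ⟶ S₀, h ≫ i₀ = T.hom) ↔
          ∃ lam : Red.bc T.hom A ⟶ Red.bc T.hom At, IsMonHom lam ∧
            AgPol.IsLambda (Red.bc T.hom A) (Red.bc T.hom At) (AgPol.bcDual T.hom A At φ) ((Scheme.Modules.pullback (pullback.fst A.hom T.hom)).obj L) (lam ^ (2 * k)) ∧
            PicF.cl ((Scheme.Modules.pullback (pullback.fst A.hom T.hom)).obj L) =
              PicF.pullCl (pullback.lift (𝟙 (Red.bc T.hom A).left) (lam ^ k).left
                ((Category.id_comp (Red.bc T.hom A).hom).trans (Over.w (lam ^ k)).symm))
              (PicF.pullCl ((AgPol.bcXTIso T.hom A (Red.bc T.hom At)).hom ≫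
                PicF.XTmap A.hom (Over.homMk (pullback.fst At.hom T.hom) pullback.condition)) ξ)) := by
  letI := fun X : Scheme.{u} => Groth.Agent.W7Cube.law X
  haveI := hA.smooth
  haveI := hA.proper
  haveI := hA.geomConnected
  obtain ⟨P, hP⟩ := Groth.Agent.AgSymm.exists_poincare hξ
  have hc : W7Cube.pull η[A].left (PicGrp.cls L hL) = 1 := by
    rw [W7Cube.pull_cls, PicGrp.cls_eq_one_iff, ← PicGrp.cl_eq_cl_iff]
    exact hrig
  obtain ⟨Z, z, hz, hZ⟩ := GraphLocus.exists_graphLocus P hdual hA.fibreDim hc hk
  refine ⟨Z.left, z.left, hz, fun T hT => ?_⟩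
  have hfac : (∃ h : T.left ⟶ Z.left, h ≫ z.left = T.hom) ↔ ∃ y : T ⟶ Z, y ≫ z = toUnit T := by
    constructor
    · rintro ⟨h, e⟩
      have hw : h ≫ Z.hom = T.hom := by
        rw [← Over.w z]
        exact (congrArg (h ≫ ·) (Category.comp_id z.left)).trans e
      exact ⟨Over.homMk h hw, Over.OverMorphism.ext e⟩
    · rintro ⟨y, e⟩
      exact ⟨y.left, congrArg CommaMorphism.left e⟩
  rw [hfac, hZ T, GraphLocus.exists_graph_iff P hdual T hc]
  refine exists_congr fun lam => and_congr_right fun _ => and_congr ?_ ?_
  · constructor
    · intro h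
      obtain ⟨N, hN, e⟩ := PicGrp.exists_eq_cls
        (GraphLocus.lamCls (A := Red.bc T.hom A) (W7Cube.pull (pullback.fst A.hom T.hom) (PicGrp.cls L hL)))
      refine ⟨N, hN, (GraphLocus.isLambdaSheaf_iff _ _ _ _ (PicLoc.isInvertible_pullback _ hL) N hN).2 ?_, ?_⟩
      · rw [← W7Cube.pull_cls (pullback.fst A.hom T.hom) L hL]
        exact e.symm
      · rw [h, ← GraphLocus.bcDual_lamCls hdual T hc]
        exact congrArg _ (congrArg Subtype.val e).symm
    · rintro ⟨N, hN, hsheaf, hphi⟩
      have e := (GraphLocus.isLambdaSheaf_iff _ _ _ _ (PicLoc.isInvertible_pullback _ hL) N hN).1 hsheaf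
      rw [← W7Cube.pull_cls (pullback.fst A.hom T.hom) L hL] at e
      rw [← hphi, ← GraphLocus.bcDual_lamCls hdual T hc]
      exact congrArg _ (congrArg Subtype.val e)
  · have e : pullback.lift (𝟙 (Red.bc T.hom A).left) (lam ^ k).left
        ((Category.id_comp (Red.bc T.hom A).hom).trans (Over.w (lam ^ k)).symm) =
        (lift (𝟙 (Red.bc T.hom A)) (lam ^ k)).left :=
      pullback.hom_ext
        ((pullback.lift_fst _ _ _).trans (congrArg CommaMorphism.left (lift_fst (𝟙 (Red.bc T.hom A)) (lam ^ k))).symm)
        ((pullback.lift_snd _ _ _).trans (congrArg CommaMorphism.left (lift_snd (𝟙 (Red.bc T.hom A)) (lam ^ k))).symm)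
    rw [e, ← hP]
    exact Subtype.ext_iff

end Groth.Agent.S14163
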