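import Groth.Statements.S1417
import Groth.Agent.InfLift.SchemeSmallExt

set_option autoImplicit false
universe u
open FlatMor

set_option backward.isDefEq.respectTransparency false

namespace Groth.Agent.S1417

open AlgebraicGeometry CategoryTheory Limits in
/-- Let S be locally Noetherian and f : X → S locally of finite type. Then f is smooth if and only if
for every small extension B' → B of Artinian local rings (a surjection whose kernel is generated by
one element annihilated by the maximal ideal), every morphism Spec B → X and every morphism Spec B'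
→ S locally of finite type making the square commute, there is a lift Spec B' → X. -/
theorem result {X S : Scheme.{u}} (f : X ⟶ S) [IsLocallyNoetherian S] [LocallyOfFiniteType f] :
    Smooth f ↔ ∀ (B B' : Type u) [CommRing B] [CommRing B'] [IsArtinianRing B] [IsArtinianRing B'] [IsLocalRing B] [IsLocalRing B']
      (φ : B' →+* B) (ε : B'), Function.Surjective φ → RingHom.ker φ = Ideal.span {ε} → (∀ m ∈ IsLocalRing.maximalIdeal B', ε * m = 0) →
      ∀ (α : Spec (CommRingCat.of B) ⟶ X) (β : Spec (CommRingCat.of B') ⟶ S), LocallyOfFiniteType β →
        Spec.map (CommRingCat.ofHom φ) ≫ β = α ≫ f →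
        ∃ γ : Spec (CommRingCat.of B') ⟶ X, Spec.map (CommRingCat.ofHom φ) ≫ γ = α ∧ γ ≫ f = β := by
  constructor
  · intro hf B B' _ _ _ _ _ _ φ ε hφ hker hm α β _ comm
    exact Groth.Agent.InfLift.exists_lift_of_smooth f φ hφ
      (Groth.Agent.InfLift.sq_zero_of_small (π := φ) ⟨ε, hker, fun a ha => by rw [mul_comm]; exact hm a ha⟩) α β comm
  · intro H
    refine Groth.Agent.InfLift.smooth_of_small_lift f fun B' B _ _ _ _ _ _ π hπ ⟨t, ht, hann⟩ α β hβ comm => ?_
    exact H B B' π t hπ ht (fun m hm => by rw [mul_comm]; exact hann m hm) α β hβ comm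

end Groth.Agent.S1417
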