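import Groth.Statements.S14175
-- import your own Groth.Agent.* helpers here

set_option autoImplicit false
universe u v w
open GalCoh

namespace Groth.Agent.S14175

/-- Let G be a finite cyclic group generated by t, let m be a natural number dividing the order of G,
and let ρ be a linear representation of G on a module V over a commutative ring k such that m·V = 0
and every element of G whose m-th power is the identity acts trivially on V. Then evaluating a
crossed homomorphism at t induces a bijection from the first cohomology of G with values in V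
(crossed homomorphisms f, i.e. f(gh) = ρ(g)f(h) + f(g), modulo the principal ones g ↦ ρ(g)x − x)
onto the coinvariants V_G (the quotient of V by the span of all ρ(g)v − v): the class of f(t) in V_G
vanishes exactly when f is principal, and every class of V_G is the class of f(t) for some crossed
homomorphism f. The bijection depends on the choice of the generator t. -/
theorem result
    {k : Type u} {G : Type v} {V : Type w} [CommRing k] [Group G] [Finite G]
    [AddCommGroup V] [Module k V] (ρ : Representation k G V)
    (t : G) (ht : ∀ g : G, g ∈ Subgroup.zpowers t)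
    (m : ℕ) (hm : m ∣ Nat.card G) (htors : ∀ v : V, m • v = 0)
    (htriv : ∀ g : G, g ^ m = 1 → ∀ v : V, ρ g v = v) :
    (∀ f : G → V, (∀ g h : G, f (g * h) = ρ g (f h) + f g) →
        (Representation.Coinvariants.mk ρ (f t) = 0 ↔ ∃ x : V, ∀ g : G, f g = ρ g x - x)) ∧
    (∀ v : V, ∃ f : G → V, (∀ g h : G, f (g * h) = ρ g (f h) + f g) ∧
        Representation.Coinvariants.mk ρ (f t) = Representation.Coinvariants.mk ρ v) := by
  classical
  have hpow : ∀ g : G, ∃ j : ℕ, t ^ j = g := fun g => (mem_powers_iff_mem_zpowers (x := t)).mpr (ht g)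
  have hn : orderOf t = Nat.card G := orderOf_eq_card_of_forall_mem_zpowers ht
  obtain ⟨q, hq⟩ := hm
  have hρmul : ∀ (g h : G) (x : V), ρ (g * h) x = ρ g (ρ h x) := fun g h x => by rw [map_mul]; rfl
  have hker : ∀ x : V, x ∈ Representation.Coinvariants.ker ρ → ∃ y, ρ t y - y = x := by
    intro x hx
    have hle : Representation.Coinvariants.ker ρ ≤ LinearMap.range (ρ t - 1) := by
      refine Submodule.span_le.mpr ?_
      rintro _ ⟨⟨g, y⟩, rfl⟩
      obtain ⟨j, rfl⟩ := hpow g
      show ρ (t ^ j) y - y ∈ LinearMap.range (ρ t - 1)
      induction j with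
      | zero => simp
      | succ j ih =>
        have : ρ (t ^ (j + 1)) y - y = (ρ t - 1 : V →ₗ[k] V) (ρ (t ^ j) y) + (ρ (t ^ j) y - y) := by
          rw [pow_succ', hρmul, LinearMap.sub_apply, Module.End.one_apply]; abel
        rw [this]
        exact Submodule.add_mem _ ⟨_, rfl⟩ ih
    exact hle hx
  refine ⟨fun f hf => ⟨fun h => ?_, ?_⟩, fun v => ?_⟩
  · obtain ⟨x, hx⟩ := hker _ ((Submodule.Quotient.mk_eq_zero _).mp h)
    refine ⟨x, fun g => ?_⟩
    obtain ⟨j, rfl⟩ := hpow g
    induction j with
    | zero =>
      have h1 := hf 1 1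
      rw [mul_one, map_one, Module.End.one_apply] at h1
      rw [pow_zero, map_one, Module.End.one_apply, sub_self]
      exact left_eq_add.mp h1
    | succ j ih =>
      rw [pow_succ, hf, ih, ← hx, map_sub, hρmul]; abel
  · rintro ⟨x, hx⟩
    refine (Submodule.Quotient.mk_eq_zero _).mpr ?_
    rw [hx]
    exact Submodule.subset_span ⟨(t, x), rfl⟩
  · let S : ℕ → V := fun j => ∑ i ∈ Finset.range j, ρ (t ^ i) v
    have hadd : ∀ a b, S (a + b) = ρ (t ^ a) (S b) + S a := fun a b => by
      simp only [S, Finset.sum_range_add, map_sum, pow_add, hρmul]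
      exact add_comm _ _
    have hq1 : ρ (t ^ q) = 1 := LinearMap.ext fun x => htriv _ (by
      rw [← pow_mul, mul_comm, ← hq, ← hn, pow_orderOf_eq_one]) x
    have hSq : ∀ l, S (l * q) = l • S q := fun l => by
      induction l with
      | zero => simp [S]
      | succ l ih =>
        rw [show (l + 1) * q = q + l * q by ring, hadd, ih, hq1, Module.End.one_apply, succ_nsmul]
    have hSn : S (orderOf t) = 0 := by rw [hn, hq, hSq, htors]
    have hper : ∀ l, S (l * orderOf t) = 0 := fun l => by
      induction l with
      | zero => simp [S]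
      | succ l ih => rw [add_mul, one_mul, hadd, hSn, ih, map_zero, add_zero]
    have hmod : ∀ a, S a = S (a % orderOf t) := fun a => by
      conv_lhs => rw [← Nat.mod_add_div a (orderOf t), mul_comm, hadd, hper, map_zero, zero_add]
    have hwell : ∀ a b, t ^ a = t ^ b → S a = S b := fun a b hab => by
      rw [hmod a, hmod b, pow_eq_pow_iff_modEq.mp hab]
    choose j hj using hpow
    refine ⟨fun g => S (j g), fun g h => ?_, ?_⟩
    · show S (j (g * h)) = ρ g (S (j h)) + S (j g)
      rw [hwell _ (j g + j h) (by rw [hj, pow_add, hj, hj]), hadd, hj]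
    · show Representation.Coinvariants.mk ρ (S (j t)) = _
      rw [hwell _ 1 (by rw [hj, pow_one])]
      simp [S]

end Groth.Agent.S14175
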