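import Groth.Statements.S14176
import Mathlib.GroupTheory.FiniteAbelian.Duality
import Mathlib.GroupTheory.Finiteness
import Mathlib.RingTheory.RootsOfUnity.AlgebraicallyClosed
import Mathlib.Analysis.Complex.Polynomial.Basic
import Mathlib.Topology.Algebra.Group.Quotient


set_option autoImplicit false
set_option linter.style.haveILetI false

universe u
open Pi1

namespace Groth.Agent.S14176

section
open W4c1etcurveeff2
open scoped commutatorElement

/-- homomorphisms to `ZMod n` and to `ℂˣ` agree for groups killed by `n` -/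
noncomputable def dualEquiv (A : Type*) [CommGroup A] (n : ℕ) [NeZero n] (h : ∀ a : A, a ^ n = 1) :
    (A →* Multiplicative (ZMod n)) ≃* (A →* ℂˣ) :=
  let hζ := (Complex.isPrimitiveRoot_exp n (NeZero.ne n)).isUnit_unit (NeZero.ne n)
  let e : rootsOfUnity n ℂ ≃* Multiplicative (ZMod n) :=
    ((AddEquiv.toMultiplicativeLeft hζ.zmodEquivZPowers).trans (MulEquiv.subgroupCongr hζ.zpowers_eq)).symm
  { toFun := fun f => (rootsOfUnity n ℂ).subtype.comp (e.symm.toMonoidHom.comp f)
    invFun := fun f => e.toMonoidHom.comp (f.codRestrict (rootsOfUnity n ℂ) fun a => by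
      rw [mem_rootsOfUnity, ← map_pow, h, map_one])
    left_inv := fun f => MonoidHom.ext fun a => e.apply_symm_apply (f a)
    right_inv := fun f => MonoidHom.ext fun a => congrArg Subtype.val (e.symm_apply_apply ⟨f a, _⟩)
    map_mul' := fun f g => MonoidHom.ext fun a => by simp }

theorem card_dual (A : Type*) [CommGroup A] [Finite A] (n : ℕ) [NeZero n] (h : ∀ a : A, a ^ n = 1) :
    Nat.card (A →* Multiplicative (ZMod n)) = Nat.card A := by
  obtain ⟨e⟩ := CommGroup.monoidHom_mulEquiv_of_hasEnoughRootsOfUnity A ℂ
  rw [Nat.card_congr (dualEquiv A n h).toEquiv, Nat.card_congr e.toEquiv]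

theorem separating (A : Type*) [CommGroup A] [Finite A] (n : ℕ) [NeZero n] (h : ∀ a : A, a ^ n = 1) {a : A} (ha : a ≠ 1) :
    ∃ χ : A →* Multiplicative (ZMod n), χ a ≠ 1 := by
  obtain ⟨φ, hφ⟩ := CommGroup.exists_apply_ne_one_of_hasEnoughRootsOfUnity A ℂ ha
  refine ⟨(dualEquiv A n h).symm φ, fun h1 => hφ ?_⟩
  conv_lhs => rw [← (dualEquiv A n h).apply_symm_apply φ]
  show (rootsOfUnity n ℂ).subtype (_ : rootsOfUnity n ℂ) = 1
  simp [h1]

theorem bidual_bijective (A : Type*) [CommGroup A] [Finite A] (n : ℕ) [NeZero n] (h : ∀ a : A, a ^ n = 1) :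
    Function.Bijective fun a : A => (MonoidHom.mk' (fun χ => χ a) fun _ _ => rfl :
      (A →* Multiplicative (ZMod n)) →* Multiplicative (ZMod n)) := by
  have hd : ∀ χ : A →* Multiplicative (ZMod n), χ ^ n = 1 := fun χ => MonoidHom.ext fun a => by
    rw [MonoidHom.pow_apply, ← map_pow, h, map_one, MonoidHom.one_apply]
  haveI : Finite (A →* Multiplicative (ZMod n)) := Finite.of_injective _ DFunLike.coe_injective
  haveI : Finite ((A →* Multiplicative (ZMod n)) →* Multiplicative (ZMod n)) := Finite.of_injective _ DFunLike.coe_injective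
  refine (Nat.bijective_iff_injective_and_card _).2 ⟨fun a b hab => ?_, ?_⟩
  · by_contra hne
    obtain ⟨χ, hχ⟩ := separating A n h (fun h0 => hne (div_eq_one.1 h0))
    exact hχ (by rw [map_div, div_eq_one]; exact DFunLike.congr_fun hab χ)
  · rw [card_dual _ n hd, card_dual A n h]

theorem main {G : Type u} [Group G] [TopologicalSpace G] [IsTopologicalGroup G]
    (s : Finset G) (hs : Dense ((Subgroup.closure (s : Set G) : Subgroup G) : Set G))
    (n : ℕ) [NeZero n] (S : Subgroup G) (hS : S = powCommClosure G n) :
    (∀ φ : G ≃* G, Continuous φ → Continuous φ.symm → S.map φ.toMonoidHom = S) ∧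
    (∀ g : G, g ∈ S ↔
        ∀ χ : G →* Multiplicative (ZMod n), IsOpen ((χ.ker : Subgroup G) : Set G) → χ g = 1) ∧
    (∀ F : ContChar G n →* Multiplicative (ZMod n), ∃ g : G,
        ∀ χ : ContChar G n, F χ = (χ.1 : G →* Multiplicative (ZMod n)) g) ∧
    (∀ (H : Subgroup G) [H.Normal], IsClosed (H : Set G) →
        Nonempty (G ⧸ H ≃* (ContChar G n →* Multiplicative (ZMod n))) → H = S) := by
  classical
  let P : Subgroup G := Subgroup.closure (Set.range fun g : G => g ^ n) ⊔ commutator G
  have hSP : S = P.topologicalClosure := hS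
  have hmin : ∀ H : Subgroup G, IsClosed (H : Set G) → (∀ g : G, g ^ n ∈ H) → commutator G ≤ H → S ≤ H := fun H hH h1 h2 => by
    rw [hSP]
    exact Subgroup.topologicalClosure_minimal _ (sup_le ((Subgroup.closure_le _).2 (by rintro _ ⟨g, rfl⟩; exact h1 g)) h2) hH
  have hpow : ∀ g : G, g ^ n ∈ S := fun g => hSP ▸ Subgroup.le_topologicalClosure _ (Subgroup.mem_sup_left (Subgroup.subset_closure ⟨g, rfl⟩))
  have hcomm : commutator G ≤ S := fun g hg => hSP ▸ Subgroup.le_topologicalClosure _ (Subgroup.mem_sup_right hg)
  have hclosed : IsClosed (S : Set G) := hSP ▸ Subgroup.isClosed_topologicalClosure _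
  haveI : S.Normal := ⟨fun x hx g => by
    have h1 : ⁅g, x⁆ ∈ S := hcomm (Subgroup.commutator_mem_commutator (Subgroup.mem_top g) (Subgroup.mem_top x))
    have h2 := S.mul_mem h1 hx
    simpa [commutatorElement_def, mul_assoc] using h2⟩
  letI : CommGroup (G ⧸ S) :=
    { (inferInstance : Group (G ⧸ S)) with
      mul_comm := fun a b => by
        induction a using QuotientGroup.induction_on with
        | H x =>
          induction b using QuotientGroup.induction_on with
          | H y =>
            rw [← QuotientGroup.mk_mul, ← QuotientGroup.mk_mul, QuotientGroup.eq]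
            have h1 : ⁅y⁻¹, x⁻¹⁆ ∈ S := hcomm (Subgroup.commutator_mem_commutator (Subgroup.mem_top _) (Subgroup.mem_top _))
            simpa [commutatorElement_def, mul_assoc] using h1 }
  have hexp : ∀ a : G ⧸ S, a ^ n = 1 := fun a => by
    induction a using QuotientGroup.induction_on with
    | H x => rw [← QuotientGroup.mk_pow, QuotientGroup.eq_one_iff]; exact hpow x
  haveI hfin : Finite (G ⧸ S) := by
    let C : Subgroup (G ⧸ S) := (Subgroup.closure (s : Set G)).map (QuotientGroup.mk' S)
    haveI : Group.FG C := by
      rw [Group.fg_iff_subgroup_fg]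
      exact ⟨s.image (QuotientGroup.mk' S), by rw [Finset.coe_image, ← MonoidHom.map_closure]⟩
    haveI : Finite C := CommGroup.finite_of_fg_isMulTorsion C (fun c => isOfFinOrder_iff_pow_eq_one.2 ⟨n, NeZero.pos n, Subtype.ext (by simpa using hexp c)⟩)
    haveI : T1Space (G ⧸ S) := QuotientGroup.t1Space_iff.2 hclosed
    have hd : Dense (C : Set (G ⧸ S)) := by
      have := QuotientGroup.dense_image_mk (G := G) (N := S) (s := (Subgroup.closure (s : Set G) : Set G))
      exact (Function.Surjective.denseRange (QuotientGroup.mk_surjective)).dense_image continuous_quotient_mk' hs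
    have hc : (C : Set (G ⧸ S)) = Set.univ := by
      rw [← ((Set.toFinite (C : Set (G ⧸ S))).isClosed).closure_eq]; exact hd.closure_eq
    exact Set.finite_univ_iff.1 (hc ▸ Set.toFinite _)
  haveI : T1Space (G ⧸ S) := QuotientGroup.t1Space_iff.2 hclosed
  have hopen : IsOpen (S : Set G) := by
    haveI : DiscreteTopology (G ⧸ S) := inferInstance
    have h1 := (isOpen_discrete ({1} : Set (G ⧸ S))).preimage continuous_quotient_mk'
    convert h1 using 1
    ext x
    exact (QuotientGroup.eq_one_iff x).symm
  have hker : ∀ χ : G →* Multiplicative (ZMod n), IsOpen ((χ.ker : Subgroup G) : Set G) → S ≤ χ.ker := fun χ hχ =>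
    hmin _ ((⟨χ.ker, hχ⟩ : OpenSubgroup G).isClosed)
      (fun g => by
        rw [MonoidHom.mem_ker, map_pow]
        refine Multiplicative.toAdd.injective ?_
        rw [toAdd_pow, toAdd_one]
        exact ZModModule.char_nsmul_eq_zero n _)
      (Abelianization.commutator_subset_ker χ)
  let inf : (G ⧸ S →* Multiplicative (ZMod n)) →* ContChar G n :=
    MonoidHom.mk' (fun χ => ⟨χ.comp (QuotientGroup.mk' S), show IsOpen _ from Subgroup.isOpen_mono (H₁ := S)
      (fun g hg => by rw [MonoidHom.mem_ker, MonoidHom.comp_apply, QuotientGroup.mk'_apply, (QuotientGroup.eq_one_iff g).2 hg, map_one]) hopen⟩)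
      fun _ _ => rfl
  have hinf : Function.Bijective inf := by
    refine ⟨fun a b h => QuotientGroup.monoidHom_ext S (congrArg Subtype.val h), fun χ => ?_⟩
    exact ⟨QuotientGroup.lift S χ.1 (hker χ.1 χ.2), Subtype.ext (MonoidHom.ext fun g => rfl)⟩
  let D := MulEquiv.ofBijective inf hinf
  refine ⟨fun φ hφ hφ' => ?_, fun g => ⟨fun hg χ hχ => hker χ hχ hg, fun h => ?_⟩, fun F => ?_, ?_⟩
  · have key : ∀ ψ : G ≃* G, Continuous ψ → S ≤ S.comap ψ.toMonoidHom := fun ψ hψ =>
      hmin _ (hclosed.preimage hψ) (fun g => by rw [Subgroup.mem_comap, map_pow]; exact hpow _)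
        ((Subgroup.map_le_iff_le_comap).1 (le_trans (by rw [commutator_def, Subgroup.map_commutator]; exact Subgroup.commutator_mono le_top le_top) hcomm))
    refine le_antisymm (Subgroup.map_le_iff_le_comap.2 (key φ hφ)) fun x hx => ?_
    exact ⟨φ.symm x, key φ.symm hφ' hx, φ.apply_symm_apply x⟩
  · rw [← QuotientGroup.eq_one_iff]
    by_contra hne
    obtain ⟨χ, hχ⟩ := separating (G ⧸ S) n hexp hne
    exact hχ (h _ (inf χ).2)
  · obtain ⟨a, ha⟩ := (bidual_bijective (G ⧸ S) n hexp).2 (F.comp inf)
    obtain ⟨g, rfl⟩ := QuotientGroup.mk_surjective a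
    refine ⟨g, fun χ => ?_⟩
    obtain ⟨χ', rfl⟩ := hinf.2 χ
    exact (DFunLike.congr_fun ha χ').symm
  · intro H _ hH ⟨e⟩
    have hcm : ∀ a b : G ⧸ H, a * b = b * a := fun a b => e.injective (by rw [map_mul, map_mul, mul_comm])
    have hle : S ≤ H := hmin H hH
      (fun g => by
        rw [← QuotientGroup.eq_one_iff, QuotientGroup.mk_pow]
        refine e.injective (MonoidHom.ext fun χ => ?_)
        rw [map_pow, map_one, MonoidHom.pow_apply, MonoidHom.one_apply]
        refine Multiplicative.toAdd.injective ?_
        rw [toAdd_pow, toAdd_one]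
        exact ZModModule.char_nsmul_eq_zero n _)
      (by
        letI : CommGroup (G ⧸ H) := { (inferInstance : Group (G ⧸ H)) with mul_comm := hcm }
        exact le_of_le_of_eq (Abelianization.commutator_subset_ker (QuotientGroup.mk' H)) (QuotientGroup.ker_mk' H))
    refine le_antisymm (fun g hg => ?_) hle
    haveI : Finite (G ⧸ S →* Multiplicative (ZMod n)) := Finite.of_injective _ DFunLike.coe_injective
    have hcard : Nat.card (G ⧸ H) = Nat.card (G ⧸ S) := by
      rw [Nat.card_congr e.toEquiv, ← Nat.card_congr (D.monoidHomCongrLeft (N := Multiplicative (ZMod n))).toEquiv,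
        card_dual _ n (fun χ => MonoidHom.ext fun a => by rw [MonoidHom.pow_apply, ← map_pow, hexp, map_one, MonoidHom.one_apply]),
        card_dual _ n hexp]
    let p : G ⧸ S →* G ⧸ H := QuotientGroup.map S H (MonoidHom.id G) hle
    haveI : Finite (G ⧸ H) := Finite.of_surjective p fun x => by
      obtain ⟨g, rfl⟩ := QuotientGroup.mk_surjective x; exact ⟨g, rfl⟩
    have hp : Function.Bijective p := (Nat.bijective_iff_surjective_and_card _).2 ⟨fun x => by
      obtain ⟨g, rfl⟩ := QuotientGroup.mk_surjective x; exact ⟨g, rfl⟩, hcard.symm⟩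
    rw [← QuotientGroup.eq_one_iff]
    exact hp.1 (show p g = p 1 by rw [map_one]; exact (QuotientGroup.eq_one_iff g).2 hg)

end


open W4c1etcurveeff2 in
/-- Let G be a topological group in which some finite subset generates a dense subgroup, let n ≥ 1, and
let S be the closure of the subgroup generated by all n-th powers and all commutators. Write D for
the group of continuous homomorphisms from G to the discrete cyclic group ℤ/n, that is,
homomorphisms with open kernel (the first cohomology of G with coefficients in the trivial module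
ℤ/n), and D^∨ for its ℤ/n-dual, the group of homomorphisms D → ℤ/n. Then: S is carried onto itself
by every group automorphism of G that is a homeomorphism; an element g of G lies in S exactly when
every element of D kills g, and every element of D^∨ is evaluation at some element of G, so that
evaluation identifies G/S with D^∨; and S is the only closed normal subgroup H of G with G/H
isomorphic to D^∨. (The published statement is for a topologically finitely generated group, calls S
characteristic and does not restrict the competing subgroups H; this row asks the automorphisms to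
be homeomorphisms and H to be closed, which is what the argument uses: for the integers with the
p-adic topology times a cyclic group of prime order q ≠ p, the subgroup qℤ × ℤ/q is normal, not
closed, and has quotient isomorphic to D^∨ ≅ ℤ/q, while S = ℤ × 0.) -/
theorem result
    {G : Type u} [Group G] [TopologicalSpace G] [IsTopologicalGroup G]
    (s : Finset G) (hs : Dense ((Subgroup.closure (s : Set G) : Subgroup G) : Set G))
    (n : ℕ) [NeZero n] (S : Subgroup G) (hS : S = powCommClosure G n) :
    (∀ φ : G ≃* G, Continuous φ → Continuous φ.symm → S.map φ.toMonoidHom = S) ∧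
    (∀ g : G, g ∈ S ↔
        ∀ χ : G →* Multiplicative (ZMod n), IsOpen ((χ.ker : Subgroup G) : Set G) → χ g = 1) ∧
    (∀ F : ContChar G n →* Multiplicative (ZMod n), ∃ g : G,
        ∀ χ : ContChar G n, F χ = (χ.1 : G →* Multiplicative (ZMod n)) g) ∧
    (∀ (H : Subgroup G) [H.Normal], IsClosed (H : Set G) →
        Nonempty (G ⧸ H ≃* (ContChar G n →* Multiplicative (ZMod n))) → H = S) := by
  exact Groth.Agent.S14176.main s hs n S hS

end Groth.Agent.S14176
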