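import Groth.Statements.S14177
import Mathlib

set_option autoImplicit false
universe u v w
open scoped nonZeroDivisors
open EtAlg

namespace Groth.Agent.S14177

open scoped nonZeroDivisors
open Polynomial
attribute [local instance] FractionRing.liftAlgebra FractionRing.isScalarTower_liftAlgebra

section
variable {A : Type u} {K : Type v} {L : Type w} [CommRing A] [IsDedekindDomain A] [Field K] [Algebra A K]
  [IsFractionRing A K] [Field L] [Algebra K L] [Algebra A L] [IsScalarTower A K L]

lemma exists_scale (n : ℕ) (hn0 : n ≠ 0) (f : K) (hf : f ≠ 0) (I : FractionalIdeal A⁰ K)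
    (hI : FractionalIdeal.spanSingleton A⁰ f = I ^ n) (p : Ideal A) [p.IsPrime] :
    ∃ (c : K) (v : A), c ≠ 0 ∧ algebraMap A K v = c ^ n * f ∧ v ∉ p := by
  classical
  have hI0 : I ≠ 0 := by
    rintro rfl
    rw [zero_pow hn0, FractionalIdeal.spanSingleton_eq_zero_iff] at hI
    exact hf hI
  have hmul : I⁻¹ * I = 1 := inv_mul_cancel₀ hI0
  have : ¬ (I⁻¹ * I ≤ (p : FractionalIdeal A⁰ K)) := by
    rw [hmul]
    intro h
    obtain ⟨a, ha, ha1⟩ := (FractionalIdeal.mem_coeIdeal _).1 (h (FractionalIdeal.one_mem_one _))
    rw [← map_one (algebraMap A K)] at ha1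
    exact Ideal.IsPrime.ne_top ‹_› ((Ideal.eq_top_iff_one _).2 (IsFractionRing.injective A K ha1 ▸ ha))
  rw [FractionalIdeal.mul_le] at this
  push Not at this
  obtain ⟨c, hc, x, hx, hcx⟩ := this
  have hv : c ^ n * f ∈ (1 : FractionalIdeal A⁰ K) := by
    rw [← one_pow n, ← hmul, mul_pow, ← hI]
    exact FractionalIdeal.mul_mem_mul (by
      rw [← FractionalIdeal.mem_coe, FractionalIdeal.coe_pow]
      exact Submodule.pow_mem_pow _ hc n) (FractionalIdeal.mem_spanSingleton_self _ _)
  obtain ⟨v, hv⟩ := (FractionalIdeal.mem_one_iff _).1 hv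
  refine ⟨c, v, ?_, hv, fun hvp => hcx ?_⟩
  · rintro rfl
    exact hcx (by rw [zero_mul, ← FractionalIdeal.mem_coe]; exact Submodule.zero_mem _)
  · have hxn : x ^ n ∈ FractionalIdeal.spanSingleton A⁰ f := by
      rw [hI, ← FractionalIdeal.mem_coe, FractionalIdeal.coe_pow]
      exact Submodule.pow_mem_pow _ hx n
    obtain ⟨a, ha⟩ := (FractionalIdeal.mem_spanSingleton _).1 hxn
    have hcx1 : c * x ∈ (1 : FractionalIdeal A⁰ K) := hmul ▸ FractionalIdeal.mul_mem_mul hc hx
    obtain ⟨b, hb⟩ := (FractionalIdeal.mem_one_iff _).1 hcx1
    refine (FractionalIdeal.mem_coeIdeal _).2 ⟨b, ?_, hb⟩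
    refine Ideal.IsPrime.mem_of_pow_mem ‹_› n ?_
    have : b ^ n = a * v := by
      apply IsFractionRing.injective A K
      rw [map_pow, map_mul, hb, hv, mul_pow, ← ha, Algebra.smul_def]
      ring
    rw [this]
    exact Ideal.mul_mem_left _ _ hvp

lemma unram (n : ℕ) (hn : IsUnit (n : A)) (f : K) (hf : f ≠ 0) (I : FractionalIdeal A⁰ K)
    (hI : FractionalIdeal.spanSingleton A⁰ f = I ^ n) (α : L) (hα : α ^ n = algebraMap K L f)
    (hgen : Algebra.adjoin K {α} = ⊤) [FiniteDimensional K L] [Algebra.IsSeparable K L]
    (P : Ideal (integralClosure A L)) [P.IsPrime] : Algebra.IsUnramifiedAt A P := by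
  have hn0 : n ≠ 0 := by
    rintro rfl
    simp at hn
  haveI : IsDedekindDomain (integralClosure A L) :=
    IsIntegralClosure.isDedekindDomain A K L (integralClosure A L)
  haveI : IsFractionRing (integralClosure A L) L :=
    IsIntegralClosure.isFractionRing_of_finite_extension A K L (integralClosure A L)
  haveI : Module.Finite A (integralClosure A L) := IsIntegralClosure.finite A K L (integralClosure A L)
  haveI : Module.IsTorsionFree A L := by
    refine Module.IsTorsionFree.trans_faithfulSMul A K L
  haveI : Algebra.IsSeparable (FractionRing A) (FractionRing (integralClosure A L)) := by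
    refine Algebra.IsSeparable.of_equiv_equiv (FractionRing.algEquiv A K).symm.toRingEquiv
      (FractionRing.algEquiv (integralClosure A L) L).symm.toRingEquiv ?_
    ext _
    exact IsFractionRing.algEquiv_commutes (FractionRing.algEquiv A K).symm
      (FractionRing.algEquiv (integralClosure A L) L).symm _
  rw [← not_dvd_differentIdeal_iff]
  by_cases hP : P = ⊥
  · subst hP
    rw [← Ideal.zero_eq_bot, zero_dvd_iff]
    exact differentIdeal_ne_bot
  obtain ⟨c, v, hc, hv, hvp⟩ := exists_scale n hn0 f hf I hI (P.under A)
  have hβn : (algebraMap K L c * α) ^ n = algebraMap A L v := by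
    rw [mul_pow, hα, ← map_pow, ← map_mul, ← hv, ← IsScalarTower.algebraMap_apply]
  have hint : IsIntegral A (algebraMap K L c * α) := by
    refine IsIntegral.of_pow (Nat.pos_of_ne_zero hn0) ?_
    rw [hβn]; exact isIntegral_algebraMap
  set β : integralClosure A L := ⟨_, hint⟩ with hβdef
  have hadj : Algebra.adjoin K {algebraMap (integralClosure A L) L β} = ⊤ := by
    rw [← top_le_iff, ← hgen, Algebra.adjoin_le_iff, Set.singleton_subset_iff]
    have h := Subalgebra.mul_mem _ (Subalgebra.algebraMap_mem (Algebra.adjoin K {algebraMap (integralClosure A L) L β}) c⁻¹)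
      (Algebra.subset_adjoin (Set.mem_singleton (algebraMap (integralClosure A L) L β)))
    have h' : algebraMap K L c⁻¹ * algebraMap (integralClosure A L) L β = α := by
      change algebraMap K L c⁻¹ * (algebraMap K L c * α) = α
      rw [← mul_assoc, ← map_mul, inv_mul_cancel₀ hc, map_one, one_mul]
    rwa [h'] at h
  have hmem := aeval_derivative_mem_differentIdeal A K L β hadj
  have hβn' : β ^ n = algebraMap A _ v := Subtype.ext hβn
  obtain ⟨q, hq⟩ : minpoly A β ∣ X ^ n - C v := by
    refine minpoly.isIntegrallyClosed_dvd (Algebra.IsIntegral.isIntegral β) ?_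
    simp [hβn']
  have heq : (n : integralClosure A L) * β ^ (n - 1) =
      aeval β (derivative (minpoly A β)) * aeval β q := by
    have := congrArg (fun r => aeval β (derivative r)) hq
    simpa [derivative_mul, derivative_X_pow] using this
  intro hdvd
  have h1 : (n : integralClosure A L) * β ^ (n - 1) ∈ P := by
    rw [heq]
    exact Ideal.mul_mem_right _ _ (Ideal.le_of_dvd hdvd hmem)
  have hnu : IsUnit (n : integralClosure A L) := by
    rw [← map_natCast (algebraMap A (integralClosure A L))]; exact hn.map _
  have h2 := ((Ideal.unit_mul_mem_iff_mem P hnu).1 h1)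
  have h3 : β ^ n ∈ P := by
    have : β ^ n = β ^ (n - 1) * β := by rw [← pow_succ, Nat.sub_add_cancel (Nat.pos_of_ne_zero hn0)]
    rw [this]; exact Ideal.mul_mem_right _ _ h2
  rw [hβn'] at h3
  exact hvp h3

end


/-- Let A be a Dedekind domain with fraction field K, let n be a natural number invertible in A, let f
be a nonzero element of K whose principal fractional ideal is the n-th power of a fractional ideal I
(the divisor of f is n times a divisor), and let L = K(α) be a field extension of K generated by a
single element α with α^n = f. Then the integral closure of A in L is finite and étale over A. (The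
published statement is for the normalisation of an integral smooth curve over a perfect field in
such an extension of its function field; this row states the same for any Dedekind domain, the case
the local argument covers.) -/
theorem result
    {A : Type u} {K : Type v} {L : Type w} [CommRing A] [IsDedekindDomain A]
    [Field K] [Algebra A K] [IsFractionRing A K]
    [Field L] [Algebra K L] [Algebra A L] [IsScalarTower A K L]
    (n : ℕ) (hn : IsUnit (n : A)) (f : K) (hf : f ≠ 0)
    (I : FractionalIdeal A⁰ K) (hI : FractionalIdeal.spanSingleton A⁰ f = I ^ n)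
    (α : L) (hα : α ^ n = algebraMap K L f) (hgen : IntermediateField.adjoin K {α} = ⊤) :
    Algebra.Etale A (integralClosure A L) ∧ Module.Finite A (integralClosure A L) := by
  have hn0 : n ≠ 0 := by
    rintro rfl
    simp at hn
  have hnK : (n : K) ≠ 0 := by
    rw [← map_natCast (algebraMap A K)]
    exact (hn.map _).ne_zero
  have hint : IsIntegral K α := IsIntegral.of_pow (Nat.pos_of_ne_zero hn0) (hα ▸ isIntegral_algebraMap)
  have hsep : IsSeparable K α := by
    refine (separable_X_pow_sub_C f hnK hf).of_dvd (minpoly.dvd K α ?_)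
    simp [hα]
  have hgen' : Algebra.adjoin K {α} = ⊤ := by
    rw [← IntermediateField.adjoin_simple_toSubalgebra_of_isAlgebraic hint.isAlgebraic, hgen,
      IntermediateField.top_toSubalgebra]
  haveI h1 : FiniteDimensional K (IntermediateField.adjoin K {α}) :=
    IntermediateField.adjoin.finiteDimensional hint
  haveI h2 : Algebra.IsSeparable K (IntermediateField.adjoin K {α}) :=
    (IntermediateField.isSeparable_adjoin_simple_iff_isSeparable K L).2 hsep
  rw [hgen] at h1 h2
  haveI : FiniteDimensional K L := Module.Finite.equiv IntermediateField.topEquiv.toLinearEquiv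
  haveI : Algebra.IsSeparable K L := AlgEquiv.Algebra.isSeparable IntermediateField.topEquiv
  haveI : Module.Finite A (integralClosure A L) := IsIntegralClosure.finite A K L (integralClosure A L)
  refine ⟨?_, inferInstance⟩
  haveI : Module.IsTorsionFree A L := Module.IsTorsionFree.trans_faithfulSMul A K L
  haveI : Module.Flat A (integralClosure A L) := inferInstance
  haveI : Algebra.FinitePresentation A (integralClosure A L) :=
    Algebra.FinitePresentation.of_finiteType.1 inferInstance
  haveI : Algebra.FormallyUnramified A (integralClosure A L) :=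
    Algebra.formallyUnramified_iff_forall.2 fun q => unram n hn f hf I hI α hα hgen' q.asIdeal
  exact Algebra.Etale.of_formallyUnramified_of_flat

end Groth.Agent.S14177
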