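import Groth.Statements.S14178
import Mathlib

set_option autoImplicit false
universe u v w
open scoped nonZeroDivisors
open EtAlg

namespace Groth.Agent.S14178

open FractionalIdeal in
theorem frac_eq_of_pow_eq {A : Type u} {K : Type v} [CommRing A] [IsDedekindDomain A] [Field K] [Algebra A K]
    [IsFractionRing A K] {I J : FractionalIdeal A⁰ K} (hI : I ≠ 0) (hJ : J ≠ 0) {e : ℕ} (he : e ≠ 0)
    (h : I ^ e = J ^ e) : I = J := by
  rw [← finprod_heightOneSpectrum_factorization' K hI, ← finprod_heightOneSpectrum_factorization' K hJ]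
  refine finprod_congr fun v => ?_
  have h1 := congrArg (count K v) h
  rw [count_pow, count_pow] at h1
  rw [mul_left_cancel₀ (Nat.cast_ne_zero.2 he) h1]

theorem mk_principal {A : Type u} {K : Type v} [CommRing A] [IsDedekindDomain A] [Field K] [Algebra A K]
    [IsFractionRing A K] (J : (FractionalIdeal A⁰ K)ˣ) (x : K)
    (hJ : (J : FractionalIdeal A⁰ K) = FractionalIdeal.spanSingleton A⁰ x) : ClassGroup.mk K J = 1 := by
  rw [ClassGroup.mk_def, QuotientGroup.mk'_apply]
  refine (QuotientGroup.eq_one_iff _).2 (mem_principal_ideals_iff.2 ?_)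
  rw [Units.coe_map, MonoidHom.coe_coe, hJ, FractionalIdeal.canonicalEquiv_spanSingleton]
  exact ⟨_, rfl⟩


/-- Let A be a Dedekind domain with fraction field K, let n be a natural number invertible in A such
that K contains a primitive n-th root of unity, let f be a nonzero element of K and I an invertible
fractional ideal of A with (f) = I^n whose class in the ideal class group of A has order exactly n
(the divisor of f is n times a divisor whose class has order n), and let L = K(α) be a field
extension of K generated by a single element α with α^n = f. Then L is Galois over K of degree n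
with cyclic Galois group. (The published statement is for an integral smooth curve over a perfect
field containing a primitive n-th root of unity, with the Picard group of the curve in place of the
class group; this row states it for any Dedekind domain.) -/
theorem result
    {A : Type u} {K : Type v} {L : Type w} [CommRing A] [IsDedekindDomain A]
    [Field K] [Algebra A K] [IsFractionRing A K]
    [Field L] [Algebra K L]
    (n : ℕ) (hn : IsUnit (n : A)) (ζ : K) (hζ : IsPrimitiveRoot ζ n) (f : K) (hf : f ≠ 0)
    (I : (FractionalIdeal A⁰ K)ˣ) (hI : FractionalIdeal.spanSingleton A⁰ f = (I : FractionalIdeal A⁰ K) ^ n)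
    (hord : orderOf (ClassGroup.mk K I) = n)
    (α : L) (hα : α ^ n = algebraMap K L f) (hgen : IntermediateField.adjoin K {α} = ⊤) :
    IsGalois K L ∧ IsCyclic (L ≃ₐ[K] L) ∧ Module.finrank K L = n := by
  classical
  have hn0 : 0 < n := by
    rcases Nat.eq_zero_or_pos n with rfl | h
    · simp at hn
    · exact h
  haveI : NeZero n := ⟨hn0.ne'⟩
  have hα0 : α ≠ 0 := by
    rintro rfl
    rw [zero_pow hn0.ne'] at hα
    exact hf ((map_eq_zero _).1 hα.symm)
  set P : Polynomial K := Polynomial.X ^ n - Polynomial.C f with hP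
  have hPm : P.Monic := Polynomial.monic_X_pow_sub_C f hn0.ne'
  have hint : IsIntegral K α := ⟨P, hPm, by simp [P, hα]⟩
  set g := minpoly K α with hg
  have hgP : g ∣ P := minpoly.dvd K α (by simp [P, hα])
  set d := g.natDegree with hd
  have hd0 : 0 < d := minpoly.natDegree_pos hint
  have hdn : d ≤ n := by
    have := Polynomial.natDegree_le_of_dvd hgP hPm.ne_zero
    rwa [Polynomial.natDegree_X_pow_sub_C] at this
  have hζL : IsPrimitiveRoot (algebraMap K L ζ) n := hζ.map_of_injective (algebraMap K L).injective
  have hPs : (P.map (algebraMap K L)).Splits := by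
    rw [Polynomial.map_sub, Polynomial.map_pow, Polynomial.map_X, Polynomial.map_C]
    exact X_pow_sub_C_splits_of_isPrimitiveRoot hζL hα
  have hgs : (g.map (algebraMap K L)).Splits :=
    hPs.of_dvd (Polynomial.map_ne_zero hPm.ne_zero) (Polynomial.map_dvd _ hgP)
  -- a power of `α` of exponent the degree lies in `K`
  obtain ⟨β, hβ⟩ : ∃ β : K, algebraMap K L β = α ^ d := by
    have hroot : ∀ r ∈ (g.map (algebraMap K L)).roots, ∃ c : K, c ≠ 0 ∧ r = algebraMap K L c * α := by
      intro r hr
      have hr' := (Polynomial.mem_roots'.1 hr).2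
      have h1 : r ^ n = α ^ n := by
        obtain ⟨q, hq⟩ := hgP
        have h2 : Polynomial.aeval r P = 0 := by
          rw [hq, map_mul, show Polynomial.aeval r g = 0 by
            rw [← Polynomial.eval_map_algebraMap]; exact hr', zero_mul]
        simp only [P, map_sub, map_pow, Polynomial.aeval_X, Polynomial.aeval_C, sub_eq_zero] at h2
        rw [h2, hα]
      have h3 : (r / α) ^ n = 1 := by rw [div_pow, h1, div_self (pow_ne_zero _ hα0)]
      obtain ⟨i, _, hi⟩ := hζL.eq_pow_of_pow_eq_one h3
      refine ⟨ζ ^ i, pow_ne_zero _ (hζ.ne_zero hn0.ne'), ?_⟩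
      rw [map_pow, hi, div_mul_cancel₀ _ hα0]
    have hprod : ∀ s : Multiset L, (∀ r ∈ s, ∃ c : K, c ≠ 0 ∧ r = algebraMap K L c * α) →
        ∃ c : K, c ≠ 0 ∧ s.prod = algebraMap K L c * α ^ Multiset.card s := by
      intro s
      induction s using Multiset.induction_on with
      | empty => exact fun _ => ⟨1, one_ne_zero, by simp⟩
      | cons r s ih =>
        intro h
        obtain ⟨c, hc, hc'⟩ := ih fun x hx => h x (Multiset.mem_cons_of_mem hx)
        obtain ⟨e, he, he'⟩ := h r (Multiset.mem_cons_self r s)
        refine ⟨e * c, mul_ne_zero he hc, ?_⟩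
        rw [Multiset.prod_cons, hc', he', Multiset.card_cons, map_mul, pow_succ]; ring
    obtain ⟨c, hc, hc'⟩ := hprod _ hroot
    have hcard : Multiset.card (g.map (algebraMap K L)).roots = d := by
      rw [← hgs.natDegree_eq_card_roots, Polynomial.natDegree_map]
    have hcoef := hgs.coeff_zero_eq_prod_roots_of_monic ((minpoly.monic hint).map _)
    rw [Polynomial.coeff_map, hc', hcard, Polynomial.natDegree_map] at hcoef
    refine ⟨g.coeff 0 / ((-1) ^ d * c), ?_⟩
    have hc0 : algebraMap K L c ≠ 0 := (map_ne_zero _).2 hc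
    rw [map_div₀, hcoef, map_mul, map_pow, map_neg, map_one, hd]
    field_simp
  have hβ0 : β ≠ 0 := by
    rintro rfl
    rw [map_zero] at hβ
    exact pow_ne_zero _ hα0 hβ.symm
  have hfd : β ^ n = f ^ d := (algebraMap K L).injective (by
    rw [map_pow, map_pow, hβ, ← hα, ← pow_mul, ← pow_mul, mul_comm])
  have hI0 : (I : FractionalIdeal A⁰ K) ≠ 0 := I.ne_zero
  have hprinc : FractionalIdeal.spanSingleton A⁰ β = (I : FractionalIdeal A⁰ K) ^ d := by
    refine frac_eq_of_pow_eq (FractionalIdeal.spanSingleton_ne_zero_iff.2 hβ0) (pow_ne_zero _ hI0) hn0.ne' ?_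
    rw [FractionalIdeal.spanSingleton_pow, hfd, ← FractionalIdeal.spanSingleton_pow, hI, ← pow_mul, ← pow_mul,
      mul_comm]
  have hdvd : n ∣ d := by
    rw [← hord]
    refine orderOf_dvd_of_pow_eq_one ?_
    rw [← map_pow]
    exact mk_principal (I ^ d) β (by rw [Units.val_pow_eq_pow_val, hprinc])
  have hdeg : d = n := le_antisymm hdn (Nat.le_of_dvd hd0 hdvd)
  have hgeq : P = g := (Polynomial.eq_of_monic_of_dvd_of_natDegree_le (minpoly.monic hint) hPm hgP
    (by rw [Polynomial.natDegree_X_pow_sub_C, ← hd, hdeg]))
  have hirr : Irreducible (Polynomial.X ^ n - Polynomial.C f) := by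
    rw [← hP, hgeq]; exact minpoly.irreducible hint
  haveI : Polynomial.IsSplittingField K L (Polynomial.X ^ n - Polynomial.C f) := by
    refine ⟨hPs, ?_⟩
    have h1 : Algebra.adjoin K {α} = ⊤ := by
      rw [← IntermediateField.adjoin_simple_toSubalgebra_of_isAlgebraic hint.isAlgebraic, hgen,
        IntermediateField.top_toSubalgebra]
    refine eq_top_iff.2 (h1.ge.trans (Algebra.adjoin_mono (Set.singleton_subset_iff.2 ?_)))
    rw [Polynomial.mem_rootSet]
    exact ⟨hPm.ne_zero, by simp [hα]⟩
  have hprim : (primitiveRoots n K).Nonempty := ⟨ζ, (mem_primitiveRoots hn0).2 hζ⟩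
  haveI : FiniteDimensional K L := Polynomial.IsSplittingField.finiteDimensional L (Polynomial.X ^ n - Polynomial.C f)
  refine ⟨isGalois_of_isSplittingField_X_pow_sub_C hprim hirr L,
    isCyclic_of_isSplittingField_X_pow_sub_C hprim hirr L, ?_⟩
  rw [← IntermediateField.finrank_top', ← hgen, IntermediateField.adjoin.finrank hint, ← hg, ← hd, hdeg]

end Groth.Agent.S14178
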