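import Groth.Statements.S1418
import Groth.Agent.Weighting.Geom

set_option autoImplicit false
universe u
open FlatMor

namespace Groth.Agent.S1418

open AlgebraicGeometry CategoryTheory Limits in
/-- For a cartesian square with π : U → V locally quasi-finite with finite fibres, base change g : V' →
V and h : U' → U, and a function w on U, the fibre integral of w ∘ h along π' equals the fibre
integral of w along π composed with g. -/
theorem result {U V U' V' : Scheme.{u}} (π : U ⟶ V) [LocallyQuasiFinite π] [LocallyOfFiniteType π] (hfin : ∀ v : V, (π ⁻¹' {v}).Finite)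
    (π' : U' ⟶ V') (h : U' ⟶ U) (g : V' ⟶ V) (hc : IsPullback h π' π g) (w : ↑U → ℤ) (v' : V') :
    MoreMor.fibreIntegral π' (w ∘ ⇑h) v' = MoreMor.fibreIntegral π w (g v') := by
  haveI : LocallyQuasiFinite π' := MorphismProperty.of_isPullback (P := @LocallyQuasiFinite) hc inferInstance
  obtain ⟨Ω, _, _, x, hx⟩ := Groth.Agent.Weighting.exists_geomPt v'
  have hbij : Set.BijOn (fun l => l ≫ h) (Groth.Agent.Weighting.Fib π' x) (Groth.Agent.Weighting.Fib π (x ≫ g)) := by
    refine ⟨fun l hl => ?_, fun l hl l' hl' he => ?_, fun m hm => ⟨hc.lift m x hm, hc.lift_snd _ _ _, hc.lift_fst _ _ _⟩⟩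
    · show (l ≫ h) ≫ π = x ≫ g
      rw [Category.assoc, hc.w, ← Category.assoc, hl]
    · exact hc.hom_ext he (Eq.trans hl (Eq.symm hl'))
  have hfib : (Groth.Agent.Weighting.Fib π (x ≫ g)).Finite := Groth.Agent.Weighting.finite_fib π _ (hfin _)
  have hfib' : (Groth.Agent.Weighting.Fib π' x).Finite := hbij.finite_iff_finite.2 hfib
  have hfin' : (π' ⁻¹' {Groth.Agent.Weighting.pt x}).Finite := by
    refine (hfib'.image Groth.Agent.Weighting.pt).subset fun u hu => ?_
    obtain ⟨l, hl, hlu⟩ := Groth.Agent.Weighting.exists_mem_fib_at π' x u hu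
    exact ⟨l, hl, hlu⟩
  rw [← hx, Groth.Agent.Weighting.fibreIntegral_eq π' _ x hfin', ← Groth.Agent.Weighting.pt_comp,
    Groth.Agent.Weighting.fibreIntegral_eq π _ (x ≫ g) (hfin _)]
  exact finsum_mem_eq_of_bijOn _ hbij fun l _ => rfl

end Groth.Agent.S1418
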