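import Groth.Statements.S14181
-- import your own Groth.Agent.* helpers here

set_option autoImplicit false
universe u
open CategoryTheory
open GalCoh

namespace Groth.Agent.S14181

/-- Let G be a group with a finite normal subgroup P, k a commutative ring and A a k-linear
representation of G such that multiplication by the order of P is a bijection of A. Then the
inflation map on 1-cocycles (crossed homomorphisms) Z¹(G/P, A^P) → Z¹(G, A) has a k-linear left
inverse. (The published statement is for the inertia group of a Galois cover of smooth curves at a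
point, its normal Sylow p-subgroup P and a module of n-torsion with n prime to p; the argument uses
only that the order of P acts invertibly, which is the hypothesis taken here.) -/
theorem result
    {k G : Type u} [CommRing k] [Group G] (A : Rep.{u} k G) (P : Subgroup G) [P.Normal] [Finite P]
    (hP : Function.Bijective fun a : A => (Nat.card P : k) • a) :
    ∃ r : ModuleCat.of k (groupCohomology.cocycles₁ A) ⟶
        ModuleCat.of k (groupCohomology.cocycles₁ (A.quotientToInvariants P)),
      (groupCohomology.mapCocycles₁ (QuotientGroup.mk' P) (Rep.ofHom (A.ρ.quotientToInvariants_lift P)) :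
          ModuleCat.of k (groupCohomology.cocycles₁ (A.quotientToInvariants P)) ⟶
            ModuleCat.of k (groupCohomology.cocycles₁ A)) ≫ r = 𝟙 _ := by
  classical
  have := Fintype.ofFinite P
  let e : A ≃ₗ[k] A := LinearEquiv.ofBijective ((Nat.card P : k) • LinearMap.id) hP
  have hsum : ∀ (c : groupCohomology.cocycles₁ A) (q : P),
      A.ρ (q : G) (e.symm (∑ p : P, c p.1)) = e.symm (∑ p : P, c p.1) - c q.1 := by
    intro c q
    apply e.injective
    have h1 : ∀ a : A, e (A.ρ (q : G) a) = A.ρ (q : G) (e a) := fun a => by
      show (Nat.card P : k) • A.ρ (q : G) a = A.ρ (q : G) ((Nat.card P : k) • a)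
      rw [map_smul]
    rw [h1, map_sub, LinearEquiv.apply_symm_apply, map_sum]
    have h2 : ∀ p : P, A.ρ (q : G) (c p.1) = c ((q * p : P) : G) - c q.1 := fun p => by
      rw [Subgroup.coe_mul, (groupCohomology.mem_cocycles₁_iff (c : G → A)).1 c.2, add_sub_cancel_right]
    rw [Finset.sum_congr rfl fun p _ => h2 p, Finset.sum_sub_distrib,
      show ∑ p : P, c ((q * p : P) : G) = ∑ p : P, c p.1 from
        Equiv.sum_comp (Equiv.mulLeft q) (fun p : P => c p.1), Finset.sum_const, Finset.card_univ]
    show _ - _ = _ - (Nat.card P : k) • c q.1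
    rw [Nat.card_eq_fintype_card, Nat.cast_smul_eq_nsmul]
  let d : groupCohomology.cocycles₁ A → G → A := fun c g =>
    c g + A.ρ g (e.symm (∑ p : P, c p.1)) - e.symm (∑ p : P, c p.1)
  have hd : ∀ c g h, d c (g * h) = A.ρ g (d c h) + d c g := fun c g h => by
    simp only [d, map_sub, map_add, map_mul, Module.End.mul_apply,
      (groupCohomology.mem_cocycles₁_iff (c : G → A)).1 c.2 g h]
    abel
  have hd0 : ∀ c (q : G), q ∈ P → d c q = 0 := fun c q hq => by
    simp only [d]; rw [hsum c ⟨q, hq⟩]; abel
  have hdr : ∀ c g (q : G), q ∈ P → d c (g * q) = d c g := fun c g q hq => by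
    rw [hd, hd0 c q hq, map_zero, zero_add]
  have hdinv : ∀ c g (q : P), A.ρ (q : G) (d c g) = d c g := fun c g q => by
    have h := hd c (q : G) g
    rw [hd0 c q q.2, add_zero] at h
    rw [← h, ← hdr c g (g⁻¹ * (q : G) * g)
      (by simpa using Subgroup.Normal.conj_mem ‹P.Normal› _ q.2 g⁻¹)]
    rw [mul_assoc g⁻¹, mul_inv_cancel_left]
  have hout : ∀ c (g : G), d c (QuotientGroup.mk g : G ⧸ P).out = d c g := fun c g => by
    obtain ⟨q, hq⟩ := QuotientGroup.mk_out_eq_mul P g
    rw [hq, hdr c g q q.2]
  let rr : groupCohomology.cocycles₁ A →ₗ[k] groupCohomology.cocycles₁ (A.quotientToInvariants P) :=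
    { toFun := fun c => ⟨fun x => ⟨d c x.out, hdinv c x.out⟩, by
        refine (groupCohomology.mem_cocycles₁_iff _).2 fun x y => ?_
        induction x using QuotientGroup.induction_on with
        | H g => ?_
        induction y using QuotientGroup.induction_on with
        | H h => ?_
        apply Subtype.ext
        show d c (QuotientGroup.mk (g * h) : G ⧸ P).out = A.ρ g (d c _) + d c _
        rw [hout, hout, hout, hd]⟩
      map_add' := fun c c' => Subtype.ext (funext fun x => Subtype.ext (by
        show d (c + c') _ = d c _ + d c' _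
        simp only [d, show ∀ z, (c + c') z = c z + c' z from fun _ => rfl, Finset.sum_add_distrib,
          map_add]
        abel))
      map_smul' := fun a c => Subtype.ext (funext fun x => Subtype.ext (by
        show d (a • c) _ = a • d c _
        simp only [d, show ∀ z, (a • c) z = a • c z from fun _ => rfl, ← Finset.smul_sum,
          map_smul, smul_sub, smul_add])) }
  refine ⟨ModuleCat.ofHom rr, ?_⟩
  ext f : 2
  refine Subtype.ext (funext fun x => Subtype.ext ?_)
  have hc : ∀ g : G, (groupCohomology.mapCocycles₁ (QuotientGroup.mk' P)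
      (Rep.ofHom (A.ρ.quotientToInvariants_lift P)) f) g = (f (QuotientGroup.mk g)).1 := fun g => rfl
  show d (groupCohomology.mapCocycles₁ (QuotientGroup.mk' P)
      (Rep.ofHom (A.ρ.quotientToInvariants_lift P)) f) x.out = (f x).1
  have h0 : ∑ p : P, (groupCohomology.mapCocycles₁ (QuotientGroup.mk' P)
      (Rep.ofHom (A.ρ.quotientToInvariants_lift P)) f) p.1 = 0 :=
    Finset.sum_eq_zero fun p _ => by
      rw [hc, (QuotientGroup.eq_one_iff _).2 p.2, groupCohomology.cocycles₁_map_one]; rfl
  simp only [d]
  rw [h0, map_zero, map_zero, hc]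
  simp only [add_zero, sub_zero]
  rw [QuotientGroup.out_eq']

end Groth.Agent.S14181
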