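import Groth.Statements.S14184
import Groth.Agent.TameRecip.Curve

set_option autoImplicit false
universe u
open CategoryTheory AlgebraicGeometry
open LocSym

namespace Groth.Agent.S14184

/-- Let k be an algebraically closed field and X a smooth proper integral curve over k (structure
morphism c, dimension one); points are k-points and ord_x is the valuation at x. Let n ≥ 1, let Z be
a finite set of points, let f₁, f₂ be nonzero rational functions and D₁, D₁′, D₂ divisors (finitely
supported integer-valued functions on points) with n·D₁ = div(f₁) + D₁′, D₁′ supported on Z, n·D₂ =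
div(f₂), f₂ taking the value 1 at every point of Z, and div(f₁) and D₂ with disjoint supports. Let
v₁(x) ∈ kˣ be the value of f₁ at each point of the support of D₂ and v₂(x) ∈ kˣ the value of f₂ at
each point of the support of D₁. Then the quotient of ∏_x v₁(x)^{D₂(x)} by ∏_x v₂(x)^{D₁(x)} is an
n-th root of unity: its n-th power is 1. (This quotient f₁(D₂)/f₂(D₁) is the generalised Weil
pairing of the classes of (D₁, D₁′, f₁) and D₂; the published statement also normalises f₁, f₂ at a
base point, which is not needed for this assertion.) -/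
theorem result
    (k : Type u) [Field k] [IsAlgClosed k] (X : Scheme.{u}) [IsIntegral X]
    (c : X ⟶ Spec (CommRingCat.of k)) [IsProper c] [Smooth c] (hdim : topologicalKrullDim X = 1)
    (n : ℕ) (hn : 1 ≤ n) (Z : Finset (LocSym.Pt c))
    (f₁ f₂ : X.functionField) (hf₁ : f₁ ≠ 0) (hf₂ : f₂ ≠ 0)
    (D₁ D₁' D₂ : LocSym.Pt c →₀ ℤ)
    (hD₁ : ∀ x : LocSym.Pt c, (n : ℤ) * D₁ x = x.ord f₁ + D₁' x) (hD₁' : D₁'.support ⊆ Z)
    (hD₂ : ∀ x : LocSym.Pt c, (n : ℤ) * D₂ x = x.ord f₂)
    (hf₂Z : ∀ x ∈ Z, LocSym.HasValueAt x f₂ 1)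
    (hdisj : ∀ x : LocSym.Pt c, x.ord f₁ = 0 ∨ D₂ x = 0)
    (v₁ v₂ : LocSym.Pt c → kˣ)
    (hv₁ : ∀ x ∈ D₂.support, LocSym.HasValueAt x f₁ (v₁ x : k))
    (hv₂ : ∀ x ∈ D₁.support, LocSym.HasValueAt x f₂ (v₂ x : k)) :
    ((D₂.prod fun x e => v₁ x ^ e) / (D₁.prod fun x e => v₂ x ^ e)) ^ n = 1 := by
  classical
  have hC : Curve.IsSmoothProperCurve k X c := LocSymLib.isCurve hdim
  haveI := hC.1
  let S := D₁.support ∪ D₂.support
  have hterm : ∀ x : LocSym.Pt c, (v₁ x ^ D₂ x / v₂ x ^ D₁ x) ^ n =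
      TameRecip.symU hC x (Units.mk0 f₁ hf₁) (Units.mk0 f₂ hf₂) := fun x => by
    refine Units.ext ?_
    show _ = TameRecip.sym hC x f₁ f₂
    have hZ : x ∈ Z → D₂ x = 0 ∧ x.ord f₂ = 0 ∧ TameRecip.valAt hC x f₂ = 1 := fun hx => by
      have h0 := TameRecip.ord_of_hasValueAt hC x one_ne_zero (hf₂Z x hx)
      refine ⟨?_, h0, TameRecip.valAt_of_hasValueAt hC x (hf₂Z x hx)⟩
      have h := hD₂ x
      rw [h0, mul_eq_zero] at h
      exact h.resolve_left (by omega)
    have hout : x ∉ Z → (n : ℤ) * D₁ x = x.ord f₁ := fun hx => by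
      rw [hD₁ x, Finsupp.notMem_support_iff.1 (fun h => hx (hD₁' h)), add_zero]
    rw [Units.val_pow_eq_pow_val, Units.val_div_eq_div_val, Units.val_zpow_eq_zpow_val, Units.val_zpow_eq_zpow_val,
      div_pow, ← zpow_natCast, ← zpow_natCast, ← zpow_mul, ← zpow_mul, mul_comm (D₂ x), mul_comm (D₁ x)]
    by_cases h2 : D₂ x = 0
    · have ho : x.ord f₂ = 0 := by rw [← hD₂ x, h2, mul_zero]
      rw [TameRecip.sym_of_ord_right hC x hf₂ ho, h2, mul_zero, zpow_zero, one_div, ← zpow_neg]
      by_cases hx : x ∈ Z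
      · rw [(hZ hx).2.2, one_zpow]
        by_cases h1 : D₁ x = 0
        · rw [h1, mul_zero, neg_zero, zpow_zero]
        · rw [← TameRecip.valAt_of_hasValueAt hC x (hv₂ x (Finsupp.mem_support_iff.2 h1)), (hZ hx).2.2, one_zpow]
      · rw [hout hx]
        by_cases h1 : D₁ x = 0
        · rw [← hout hx, h1, mul_zero, neg_zero, zpow_zero, zpow_zero]
        · rw [TameRecip.valAt_of_hasValueAt hC x (hv₂ x (Finsupp.mem_support_iff.2 h1))]
    · have ho : x.ord f₁ = 0 := (hdisj x).resolve_right h2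
      have hnZ : x ∉ Z := fun hx => h2 (hZ hx).1
      have h1 : D₁ x = 0 := by
        have h := hout hnZ
        rw [ho, mul_eq_zero] at h
        exact h.resolve_left (by omega)
      rw [TameRecip.sym_of_ord_left hC x hf₁ ho,
        TameRecip.valAt_of_hasValueAt hC x (hv₁ x (Finsupp.mem_support_iff.2 h2)), ← hD₂ x, h1, mul_zero, zpow_zero,
        div_one]
  rw [Finsupp.prod_of_support_subset _ (Finset.subset_union_right : D₂.support ⊆ S) _ (fun _ _ => zpow_zero _),
    Finsupp.prod_of_support_subset _ (Finset.subset_union_left : D₁.support ⊆ S) _ (fun _ _ => zpow_zero _),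
    ← Finset.prod_div_distrib, ← Finset.prod_pow, Finset.prod_congr rfl (fun x _ => hterm x),
    ← TameRecip.reciprocity_curve hC (Units.mk0 f₁ hf₁) (Units.mk0 f₂ hf₂)]
  refine (finprod_eq_prod_of_mulSupport_subset _ fun x hx => ?_).symm
  by_contra h
  simp only [S, Finset.coe_union, Set.mem_union, Finset.mem_coe, Finsupp.mem_support_iff, not_or, not_not] at h
  refine hx ?_
  beta_reduce
  rw [← hterm x, h.1, h.2, zpow_zero, zpow_zero, div_one, one_pow]

end Groth.Agent.S14184
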