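import Groth.Statements.S14186
import Groth.Agent.EtCurveHY.Main

set_option autoImplicit false
universe u
open CategoryTheory CategoryTheory.Limits AlgebraicGeometry
open EtDual

namespace Groth.Agent.S14186

/-- Let k be an algebraically closed field, X an integral curve over k (separated and of finite type
over k, of dimension one), z a closed point of X and j : U ⟶ X an open immersion with image X ∖ {z};
let n ≥ 1 be invertible in k and F a finite locally constant abelian sheaf on the small étale site
of U killed by n (a lisse sheaf of ℤ/n-modules). Then, for cohomology with support in z: H⁰_z(X,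
j_!F) vanishes, H⁰_z(X, j_*F) and H¹_z(X, j_*F) vanish, and H^i_z(X, j_!F) and H^i_z(X, j_*F) vanish
for every i ≥ 3. (The published statement also identifies H¹_z(X, j_!F) with H⁰(z, F) and H²_z(X,
j_!F) with H²_z(X, j_*F); this row states only the vanishing assertions. No regularity of X at z is
assumed.) -/
theorem result
    (k : Type u) [Field k] [IsAlgClosed k] (X : Scheme.{u}) (f : X ⟶ Spec (CommRingCat.of k))
    [IsSeparated f] [LocallyOfFiniteType f] [QuasiCompact f] [IsIntegral X]
    (hdim : topologicalKrullDim X = 1)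
    (z : X) (hz : IsClosed ({z} : Set X))
    {U : Scheme.{u}} (j : U ⟶ X) [IsOpenImmersion j] [EtCoh.BCCont j] [EtShriek.JCont j]
    (hU : Set.range j.base = {z}ᶜ)
    (n : ℕ) (hn : 1 ≤ n) (hnk : (n : k) ≠ 0)
    (F : EtCoh.Ab U) (hF : EtCoh.IsFiniteLocallyConstant F) (hFn : EtCoh.KilledBy n F) :
    Subsingleton ((EtDual.HY j 0).obj ((EtShriek.extZero j).obj F)) ∧
    Subsingleton ((EtDual.HY j 0).obj ((EtCoh.push j).obj F)) ∧
    Subsingleton ((EtDual.HY j 1).obj ((EtCoh.push j).obj F)) ∧
    (∀ i : ℕ, 3 ≤ i →
      Subsingleton ((EtDual.HY j i).obj ((EtShriek.extZero j).obj F)) ∧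
      Subsingleton ((EtDual.HY j i).obj ((EtCoh.push j).obj F))) := by
  have hzη : z ≠ genericPoint X := by
    rintro rfl
    have hall : ∀ x : X, x = genericPoint X := fun x => by
      have := (genericPoint_specializes x).mem_closure
      rwa [hz.closure_eq, Set.mem_singleton_iff] at this
    haveI : Subsingleton X := ⟨fun a b => (hall a).trans (hall b).symm⟩
    haveI : Subsingleton (TopologicalSpace.IrreducibleCloseds X) :=
      ⟨fun a b => TopologicalSpace.IrreducibleCloseds.ext
        ((Subsingleton.eq_univ_of_nonempty a.2.nonempty).trans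
          (Subsingleton.eq_univ_of_nonempty b.2.nonempty).symm)⟩
    have h0 : topologicalKrullDim X ≤ 0 := Order.krullDim_nonpos_of_subsingleton
    rw [hdim] at h0
    exact absurd h0 (by decide)
  have hFk : EtPBC.Killed n F := hFn
  exact ⟨EtCurveHY.subsingleton_HY_zero_extZero j F, EtCurveHY.subsingleton_HY_le_one_push j F 0 (by omega),
    EtCurveHY.subsingleton_HY_le_one_push j F 1 le_rfl, fun i hi =>
      ⟨EtCurveHY.subsingleton_HY_ge_three j f hdim.le z hzη hz hU _ hn (EtCurveHY.killed_extZero j hFk) i hi,
       EtCurveHY.subsingleton_HY_ge_three j f hdim.le z hzη hz hU _ hn (EtPBC.killed_push j hFk) i hi⟩⟩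

end Groth.Agent.S14186
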