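import Groth.Statements.S14188
import Mathlib.AlgebraicGeometry.Morphisms.SchemeTheoreticallyDominant
import Mathlib.AlgebraicGeometry.Morphisms.Separated
import Mathlib.AlgebraicGeometry.FunctionField

set_option autoImplicit false
set_option backward.isDefEq.respectTransparency false
set_option linter.style.haveILetI false
universe u
open CategoryTheory CategoryTheory.Limits AlgebraicGeometry
open FlatMor

namespace Groth.Agent.S14188

/-- Let T be an integral scheme with generic point η, let Y and Z be schemes flat over T with Z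
separated over T, and let ψ : Y_η → Z be a T-morphism from the generic fibre Y_η = Y ×_T Spec
O_{T,η} (equivalently, an η-morphism Y_η → Z_η). Let gr : Y_η → Y ×_T Z be the graph of ψ, the
morphism whose components are the projection Y_η → Y and ψ, and let Γ ⊆ Y ×_T Z be the
scheme-theoretic image of gr (the schematic closure of the graph). Then ψ extends to a T-morphism φ
: Y → Z, meaning that the composite Y_η → Y → Z is ψ, if and only if the composite of the inclusion
Γ → Y ×_T Z with the first projection is an isomorphism Γ ≅ Y. -/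
theorem result (T Y Z : Scheme.{u}) [IsIntegral T]
    (pY : Y ⟶ T) (pZ : Z ⟶ T) [Flat pY] [Flat pZ] [IsSeparated pZ]
    (ψ : pullback pY (T.fromSpecStalk (genericPoint T)) ⟶ Z)
    (hψ : ψ ≫ pZ = pullback.fst pY (T.fromSpecStalk (genericPoint T)) ≫ pY)
    (gr : pullback pY (T.fromSpecStalk (genericPoint T)) ⟶ pullback pY pZ)
    (hgr₁ : gr ≫ pullback.fst pY pZ = pullback.fst pY (T.fromSpecStalk (genericPoint T)))
    (hgr₂ : gr ≫ pullback.snd pY pZ = ψ) :
    (∃ φ : Y ⟶ Z, φ ≫ pZ = pY ∧ pullback.fst pY (T.fromSpecStalk (genericPoint T)) ≫ φ = ψ) ↔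
      IsIso (gr.imageι ≫ pullback.fst pY pZ) := by
  let η := T.fromSpecStalk (genericPoint T)
  let j := pullback.fst pY η
  haveI : QuasiCompact η := by
    refine ⟨fun U hU hc => ?_⟩
    haveI : Subsingleton ↥(Spec (T.presheaf.stalk (genericPoint T))) := inferInstanceAs (Subsingleton (PrimeSpectrum T.functionField))
    exact (Set.toFinite _).isCompact
  haveI : IsDominant η := ⟨by
    rw [DenseRange, dense_iff_closure_eq, ← Set.univ_subset_iff, ← genericPoint_spec T]
    refine closure_mono (Set.singleton_subset_iff.mpr ?_)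
    exact ⟨IsLocalRing.closedPoint _, T.fromSpecStalk_closedPoint⟩⟩
  haveI : IsSchemeTheoreticallyDominant η := .of_isDominant _
  haveI : IsSchemeTheoreticallyDominant j := IsSchemeTheoreticallyDominant.pullbackFst pY η
  constructor
  · rintro ⟨φ, hφ, hφ'⟩
    let s : Y ⟶ pullback pY pZ := pullback.lift (𝟙 Y) φ (by rw [Category.id_comp, hφ])
    have hs : s ≫ pullback.fst pY pZ = 𝟙 Y := pullback.lift_fst _ _ _
    haveI : IsClosedImmersion s := by
      haveI : IsClosedImmersion (s ≫ pullback.fst pY pZ) := by rw [hs]; infer_instance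
      exact IsClosedImmersion.of_comp s (pullback.fst pY pZ)
    have hgr : gr = j ≫ s := by
      apply pullback.hom_ext
      · rw [hgr₁, Category.assoc, hs, Category.comp_id]
      · rw [hgr₂, Category.assoc, pullback.lift_snd, hφ']
    have hker : gr.ker = s.ker := by
      rw [hgr, Scheme.Hom.ker_comp, j.ker_eq_bot, Scheme.IdealSheafData.map_bot]
    have h0 : IsIso (s.ker.subschemeι ≫ pullback.fst pY pZ) := by
      have e : s.toImage ≫ s.ker.subschemeι ≫ pullback.fst pY pZ = 𝟙 Y := by
        rw [← Category.assoc]
        show (s.toImage ≫ s.imageι) ≫ _ = _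
        rw [s.toImage_imageι, hs]
      haveI : IsIso s.toImage := inferInstance
      haveI : IsIso (s.toImage ≫ s.ker.subschemeι ≫ pullback.fst pY pZ) := by rw [e]; infer_instance
      exact IsIso.of_isIso_comp_left s.toImage _
    show IsIso (gr.ker.subschemeι ≫ pullback.fst pY pZ)
    rw [hker]
    exact h0
  · intro h
    refine ⟨inv (gr.imageι ≫ pullback.fst pY pZ) ≫ gr.imageι ≫ pullback.snd pY pZ, ?_, ?_⟩
    · rw [Category.assoc, Category.assoc, ← pullback.condition, IsIso.inv_comp_eq, Category.assoc]
    · have e : pullback.fst pY η = gr.toImage ≫ gr.imageι ≫ pullback.fst pY pZ := by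
        rw [gr.toImage_imageι_assoc, hgr₁]
      show pullback.fst pY η ≫ _ = ψ
      rw [e, Category.assoc gr.toImage, IsIso.hom_inv_id_assoc, gr.toImage_imageι_assoc, hgr₂]

end Groth.Agent.S14188
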