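import Groth.Statements.S14189
import Mathlib.AlgebraicGeometry.Morphisms.SchemeTheoreticallyDominant
import Mathlib.AlgebraicGeometry.Sites.Fpqc
import Mathlib.AlgebraicGeometry.FunctionField


set_option autoImplicit false
universe u
open CategoryTheory CategoryTheory.Limits AlgebraicGeometry
open FlatMor

namespace Groth.Agent.S14189

/-- Let T be an integral scheme with generic point η, let Y and Z be schemes flat over T with Z
separated over T, and let ψ : Y_η → Z be a T-morphism from the generic fibre Y_η = Y ×_T Spec
O_{T,η}. Let g : T' → T be flat, surjective and quasi-compact, and let φ' : Y_{T'} → Z_{T'} be a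
T'-morphism which agrees with ψ over T' ×_T η, in the sense that on Y_{T'} ×_Y Y_η = Y ×_T T' ×_T
Spec O_{T,η} the composite of the first projection with φ' and with Z_{T'} → Z equals the composite
of the second projection with ψ. Then ψ extends to a T-morphism φ : Y → Z, one whose composite with
Y_η → Y is ψ. (The published statement is an equivalence and also records that an extension, when it
exists, is unique; the converse direction, that an extension over T base-changes to such a φ' over
any such T', is immediate, and this row states the existence direction only.) -/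
theorem result (T Y Z T' : Scheme.{u}) [IsIntegral T]
    (pY : Y ⟶ T) (pZ : Z ⟶ T) [Flat pY] [Flat pZ] [IsSeparated pZ]
    (ψ : pullback pY (T.fromSpecStalk (genericPoint T)) ⟶ Z)
    (hψ : ψ ≫ pZ = pullback.fst pY (T.fromSpecStalk (genericPoint T)) ≫ pY)
    (g : T' ⟶ T) [Flat g] [Surjective g] [QuasiCompact g]
    (φ' : pullback pY g ⟶ pullback pZ g) (hφ' : φ' ≫ pullback.snd pZ g = pullback.snd pY g)
    (hagree : pullback.fst (pullback.fst pY g) (pullback.fst pY (T.fromSpecStalk (genericPoint T))) ≫ φ' ≫ pullback.fst pZ g =
      pullback.snd (pullback.fst pY g) (pullback.fst pY (T.fromSpecStalk (genericPoint T))) ≫ ψ) :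
    ∃ φ : Y ⟶ Z, φ ≫ pZ = pY ∧ pullback.fst pY (T.fromSpecStalk (genericPoint T)) ≫ φ = ψ := by
  let η := genericPoint T
  let fs := T.fromSpecStalk η
  let q := pullback.fst pY g
  let j := pullback.fst pY fs
  let u := φ' ≫ pullback.fst pZ g
  have hu : u ≫ pZ = q ≫ pY := by
    simp only [u, q, Category.assoc, pullback.condition]
    rw [← Category.assoc, hφ']
  have hfsd : IsSchemeTheoreticallyDominant fs := by
    have : IsDominant fs := by
      rw [isDominant_iff, DenseRange]
      refine Dense.mono (Set.singleton_subset_iff.mpr ?_) (dense_iff_closure_eq.mpr (genericPoint_spec T))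
      rw [Scheme.range_fromSpecStalk]
      exact specializes_rfl
    exact IsSchemeTheoreticallyDominant.of_isDominant fs
  have hfsc : QuasiCompact fs := by
    refine ⟨fun U hU hc => ?_⟩
    let := (Field.toIsField T.functionField).toField
    have hsub : Subsingleton (Spec (T.presheaf.stalk η)) :=
      inferInstanceAs (Subsingleton (PrimeSpectrum T.functionField))
    exact (Set.subsingleton_of_subsingleton).isCompact
  let a₁ := pullback.fst q q
  let a₂ := pullback.snd q q
  let P := a₁ ≫ q ≫ pY
  have hP : Flat P := by
    have : Flat q := inferInstance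
    have : Flat a₁ := inferInstance
    infer_instance
  let k := pullback.fst P fs
  have hk : IsSchemeTheoreticallyDominant k := inferInstance
  have hres : ∀ a : pullback q q ⟶ pullback pY g, a ≫ q = a₁ ≫ q →
      k ≫ a ≫ u = pullback.lift (k ≫ a₁ ≫ q) (pullback.snd P fs)
        (by rw [Category.assoc, Category.assoc]; exact pullback.condition) ≫ ψ := by
    intro a ha
    let m := pullback.lift (k ≫ a₁ ≫ q) (pullback.snd P fs)
      (by rw [Category.assoc, Category.assoc]; exact pullback.condition : (k ≫ a₁ ≫ q) ≫ pY = _ ≫ fs)
    let n : pullback P fs ⟶ pullback q j :=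
      pullback.lift (k ≫ a) m (by simp only [Category.assoc, ha, m, j, pullback.lift_fst])
    have h := congrArg (n ≫ ·) hagree
    simp only [n, ← Category.assoc] at h
    erw [pullback.lift_fst, pullback.lift_snd] at h
    simp only [u, Category.assoc] at h ⊢
    exact h
  have key : a₁ ≫ u = a₂ ≫ u := by
    let c := pullback.lift (a₁ ≫ u) (a₂ ≫ u)
      (((Category.assoc _ _ _).trans (congrArg (a₁ ≫ ·) hu)).trans ((pullback.condition_assoc pY).trans
        ((Category.assoc _ _ _).trans (congrArg (a₂ ≫ ·) hu)).symm) :
        (a₁ ≫ u) ≫ pZ = (a₂ ≫ u) ≫ pZ)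
    let e := pullback.fst c (pullback.diagonal pZ)
    have he : IsClosedImmersion e := inferInstance
    have hfac : k = pullback.lift k (k ≫ a₁ ≫ u) (by
        apply pullback.hom_ext
        · simp only [c, Category.assoc, pullback.diagonal_fst, Category.comp_id, pullback.lift_fst]
        · simp only [c, Category.assoc, pullback.diagonal_snd, Category.comp_id, pullback.lift_snd]
          rw [hres a₁ rfl, hres a₂ pullback.condition.symm]) ≫ e := (pullback.lift_fst _ _ _).symm
    have hiso : IsIso e := by
      rw [IsClosedImmersion.isIso_iff_ker_eq_bot, ← le_bot_iff, ← hk.ker_eq_bot, hfac]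
      exact Scheme.Hom.le_ker_comp _ _
    have hc := pullback.condition (f := c) (g := pullback.diagonal pZ)
    have h1 := congrArg (· ≫ pullback.fst pZ pZ) hc
    have h2 := congrArg (· ≫ pullback.snd pZ pZ) hc
    simp only [Category.assoc, c, pullback.diagonal_fst, pullback.diagonal_snd, pullback.lift_fst,
      pullback.lift_snd, Category.comp_id] at h1 h2
    exact (cancel_epi e).mp (h1.trans h2.symm)
  obtain ⟨h, hh⟩ : ∃ h : Y ⟶ Z, q ≫ h = u := ⟨EffectiveEpi.desc q u (fun {W} a b hab => by
      have h1 := congrArg (pullback.lift a b hab ≫ ·) key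
      simpa only [← Category.assoc, a₁, a₂, pullback.lift_fst, pullback.lift_snd] using h1),
    EffectiveEpi.fac q u _⟩
  refine ⟨h, ?_, ?_⟩
  · rw [← cancel_epi q, ← Category.assoc, hh, hu]
  · show j ≫ h = ψ
    have : Surjective (pullback.snd q j) := inferInstance
    rw [← cancel_epi (pullback.snd q j), ← Category.assoc, ← pullback.condition, Category.assoc, hh]
    simpa only [u, Category.assoc] using hagree

end Groth.Agent.S14189
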