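import Groth.Statements.S14192
import Groth.Agent.ZetaLib.Series

set_option autoImplicit false
open PowerSeries
open StackCount

namespace Groth.Agent.S14192

/-- Let R = Σ_n r_n X^n be a Laurent polynomial with integer coefficients and q > 1 an integer. In the
ring of formal power series in t over ℚ, the exponential of Σ_{v ≥ 1} R(q^v) t^v / v equals the
finite product Π_n (1 - q^n t)^(-r_n). Stated here with denominators cleared: the exponential series
multiplied by Π_{n : r_n > 0} (1 - q^n t)^(r_n) equals Π_{n : r_n < 0} (1 - q^n t)^(-r_n) (each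
factor 1 - q^n t is a unit, so this is equivalent). -/
theorem result (R : LaurentPolynomial ℤ) (q : ℤ) (hq : 1 < q) :
    (PowerSeries.exp ℚ).subst
        (PowerSeries.mk fun v : ℕ => if v = 0 then (0 : ℚ)
          else (R.coeff.sum fun (n : ℤ) (r : ℤ) => (r : ℚ) * (q : ℚ) ^ (n * (v : ℤ))) / (v : ℚ))
      * ∏ n ∈ R.coeff.support, (1 - PowerSeries.C ((q : ℚ) ^ n) * PowerSeries.X) ^ (R.coeff n).toNat
    = ∏ n ∈ R.coeff.support, (1 - PowerSeries.C ((q : ℚ) ^ n) * PowerSeries.X) ^ (-(R.coeff n)).toNat := by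
  set N : ℕ → ℚ := fun v => if v = 0 then 0 else R.coeff.sum fun (n : ℤ) (r : ℤ) => (r : ℚ) * (q : ℚ) ^ (n * (v : ℤ)) with hNdef
  have hmk : (PowerSeries.mk fun v : ℕ => if v = 0 then (0 : ℚ) else
      (R.coeff.sum fun (n : ℤ) (r : ℤ) => (r : ℚ) * (q : ℚ) ^ (n * (v : ℤ))) / (v : ℚ)) =
      PowerSeries.mk fun v => N v / v := by
    ext v
    by_cases hv : v = 0 <;> simp [hNdef, hv]
  rw [hmk]
  obtain ⟨hZ, hZc⟩ := Groth.Agent.WeilLib.logD_exp_subst (K := ℚ) N (by simp [hNdef])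
  have hid : ∀ (e : ℚ →+* ℚ) (F : PowerSeries ℚ), PowerSeries.map e F = F := fun e F => by
    rw [Subsingleton.elim e (RingHom.id ℚ), PowerSeries.map_id]; rfl
  simp only [hid, Rat.cast_id] at hZ hZc
  let G : ℤ → PowerSeries ℚ := fun n => 1 - PowerSeries.C ((q : ℚ) ^ n) * PowerSeries.X ^ 1
  have hG : ∀ n, 1 - PowerSeries.C ((q : ℚ) ^ n) * PowerSeries.X = G n := fun n => by simp [G]
  simp only [hG]
  have hL := hZ.mul (Groth.Agent.WeilLib.LogD.prod R.coeff.support fun n _ =>
    Groth.Agent.ZetaLib.LogD.pow (Groth.Agent.ZetaLib.logD_euler ((q : ℚ) ^ n) Nat.one_pos) (R.coeff n).toNat)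
  have hR := Groth.Agent.WeilLib.LogD.prod R.coeff.support fun n _ =>
    Groth.Agent.ZetaLib.LogD.pow (Groth.Agent.ZetaLib.logD_euler ((q : ℚ) ^ n) Nat.one_pos) (-(R.coeff n)).toNat
  refine Groth.Agent.WeilLib.LogD.unique hL ((congrArg (Groth.Agent.WeilLib.LogD _) ?_).mpr hR) ?_
  · ext m
    simp only [map_add, map_sum, map_nsmul, PowerSeries.coeff_mk]
    simp only [one_dvd, if_true, Nat.div_one, Nat.cast_one, nsmul_eq_mul]
    simp only [hNdef, if_neg (Nat.succ_ne_zero m), Finsupp.sum]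
    rw [← Finset.sum_add_distrib]
    refine Finset.sum_congr rfl fun n _ => ?_
    have hc : (((R.coeff n).toNat : ℚ) - ((-(R.coeff n)).toNat : ℚ)) = ((R.coeff n : ℤ) : ℚ) := by
      exact_mod_cast Int.toNat_sub_toNat_neg (R.coeff n)
    rw [zpow_mul, zpow_natCast]
    linear_combination (-(((q : ℚ) ^ n) ^ (m + 1))) * hc
  · have hc : ∀ n, PowerSeries.constantCoeff (G n) = 1 := fun n =>
      Groth.Agent.ZetaLib.constantCoeff_euler _ Nat.one_pos
    rw [map_mul, hZc, one_mul, map_prod, map_prod]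
    simp only [map_pow, hc, one_pow]

end Groth.Agent.S14192
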