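import Groth.Statements.S14193
import Mathlib
-- import your own Groth.Agent.* helpers here

set_option autoImplicit false
open PowerSeries
open StackCount

namespace Groth.Agent.S14193

open Polynomial in
/-- membership: `F = P / D` with `D` monic integral, non-vanishing at `q ^ v`, `v ≥ 1`. -/
theorem exists_rep (q : ℤ) (hq : 1 < q) (F : RatFunc ℚ)
    (hF : F ∈ Subring.closure
      (({RatFunc.X, (RatFunc.X : RatFunc ℚ)⁻¹} : Set (RatFunc ℚ)) ∪
        Set.range fun n : ℕ => ((RatFunc.X : RatFunc ℚ) ^ (n + 1) - 1)⁻¹)) :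
    ∃ P D : Polynomial ℤ, D.Monic ∧
      (∀ v : ℕ, (D.map (Int.castRingHom ℚ)).eval ((q : ℚ) ^ (v + 1)) ≠ 0) ∧
      F * algebraMap (Polynomial ℚ) (RatFunc ℚ) (D.map (Int.castRingHom ℚ))
        = algebraMap (Polynomial ℚ) (RatFunc ℚ) (P.map (Int.castRingHom ℚ)) := by
  have hq1 : (1 : ℚ) < (q : ℚ) := by exact_mod_cast hq
  induction hF using Subring.closure_induction with
  | mem x hx =>
    rcases hx with (rfl | rfl) | ⟨n, rfl⟩
    · exact ⟨Polynomial.X, 1, monic_one, fun v => by simp, by simp [RatFunc.algebraMap_X]⟩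
    · refine ⟨1, Polynomial.X, monic_X, fun v => ?_, ?_⟩
      · simp only [Polynomial.map_X, eval_X]
        exact pow_ne_zero _ (by positivity)
      · simp [RatFunc.algebraMap_X, RatFunc.X_ne_zero]
    · refine ⟨1, Polynomial.X ^ (n + 1) - 1, ?_, fun v => ?_, ?_⟩
      · simpa using monic_X_pow_sub_C (1 : ℤ) (Nat.succ_ne_zero n)
      · simp only [Polynomial.map_sub, Polynomial.map_pow, Polynomial.map_X, Polynomial.map_one, eval_sub,
          eval_pow, eval_X, eval_one, ← pow_mul]
        have : (1 : ℚ) < (q : ℚ) ^ ((v + 1) * (n + 1)) :=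
          one_lt_pow₀ hq1 (by positivity)
        linarith
      · have hne : (RatFunc.X : RatFunc ℚ) ^ (n + 1) - 1 ≠ 0 := by
          have h : (Polynomial.X ^ (n + 1) - 1 : Polynomial ℚ) ≠ 0 := by
            simpa using X_pow_sub_C_ne_zero (Nat.succ_pos n) (1 : ℚ)
          simpa [RatFunc.algebraMap_X] using RatFunc.algebraMap_ne_zero h
        simpa [RatFunc.algebraMap_X] using inv_mul_cancel₀ hne
  | zero => exact ⟨0, 1, monic_one, fun v => by simp, by simp⟩
  | one => exact ⟨1, 1, monic_one, fun v => by simp, by simp⟩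
  | add x y _ _ hx hy =>
    obtain ⟨P, D, hD, hDe, hx⟩ := hx
    obtain ⟨P', D', hD', hDe', hy⟩ := hy
    refine ⟨P * D' + P' * D, D * D', hD.mul hD', fun v => ?_, ?_⟩
    · simpa using mul_ne_zero (hDe v) (hDe' v)
    · simp only [Polynomial.map_mul, Polynomial.map_add, map_mul, map_add, ← hx, ← hy]
      ring
  | mul x y _ _ hx hy =>
    obtain ⟨P, D, hD, hDe, hx⟩ := hx
    obtain ⟨P', D', hD', hDe', hy⟩ := hy
    refine ⟨P * P', D * D', hD.mul hD', fun v => ?_, ?_⟩
    · simpa using mul_ne_zero (hDe v) (hDe' v)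
    · simp only [Polynomial.map_mul, map_mul, ← hx, ← hy]
      ring
  | neg x _ hx =>
    obtain ⟨P, D, hD, hDe, hx⟩ := hx
    exact ⟨-P, D, hD, hDe, by simp only [Polynomial.map_neg, map_neg, neg_mul, hx]⟩

/-- Rationality of `exp (∑ a_v t^v / v)` gives a linear recurrence for `a`. -/
theorem exists_recurrence (a : ℕ → ℚ)
    (hrat : ∃ P Q : Polynomial ℚ, Q ≠ 0 ∧
      (PowerSeries.exp ℚ).subst
          (PowerSeries.mk fun v : ℕ => if v = 0 then (0 : ℚ) else a v / (v : ℚ))
        * (Q : PowerSeries ℚ) = (P : PowerSeries ℚ)) :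
    ∃ (d : ℕ) (c : ℕ → ℚ) (M : ℕ), c 0 ≠ 0 ∧
      ∀ m, M ≤ m → ∑ j ∈ Finset.range (d + 1), c j * a (m + j) = 0 := by
  obtain ⟨P, Q, hQ, hEQ⟩ := hrat
  set g : PowerSeries ℚ := PowerSeries.mk fun v : ℕ => if v = 0 then (0 : ℚ) else a v / (v : ℚ)
    with hg
  have hg0 : PowerSeries.constantCoeff g = 0 := by
    simp [hg, ← PowerSeries.coeff_zero_eq_constantCoeff]
  have hs : PowerSeries.HasSubst g := PowerSeries.HasSubst.of_constantCoeff_zero' hg0
  set E : PowerSeries ℚ := (PowerSeries.exp ℚ).subst g with hE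
  have hdE : d⁄dX ℚ E = E * d⁄dX ℚ g := by
    rw [hE, PowerSeries.derivative_subst hs, PowerSeries.derivative_exp]
  have hE1 : E ≠ 0 := by
    intro h0
    have h1 : PowerSeries.constantCoeff E = 1 := by
      rw [hE, ← PowerSeries.coeff_zero_eq_constantCoeff_apply, PowerSeries.coeff_subst' hs,
        finsum_eq_single _ 0 fun k hk => by simp [PowerSeries.coeff_zero_eq_constantCoeff_apply,
          hg0, zero_pow hk]]
      simp
    simp [h0] at h1
  have hP : P ≠ 0 := by
    rintro rfl
    have : E * (Q : PowerSeries ℚ) = 0 := by simpa using hEQ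
    rcases mul_eq_zero.mp this with h | h
    · exact hE1 h
    · exact hQ (by exact_mod_cast h)
  set S : Polynomial ℚ := P * Q with hS
  set R : Polynomial ℚ := Polynomial.derivative P * Q - P * Polynomial.derivative Q with hR
  have hSR : d⁄dX ℚ g * (S : PowerSeries ℚ) = (R : PowerSeries ℚ) := by
    have h1 : d⁄dX ℚ (E * (Q : PowerSeries ℚ)) = d⁄dX ℚ (P : PowerSeries ℚ) := by rw [hEQ]
    rw [Derivation.leibniz, hdE, PowerSeries.derivative_coe, PowerSeries.derivative_coe,
      smul_eq_mul, smul_eq_mul] at h1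
    simp only [hS, hR, Polynomial.coe_sub, Polynomial.coe_mul, ← h1, ← hEQ]
    ring
  have hS0 : S ≠ 0 := mul_ne_zero hP hQ
  refine ⟨S.natDegree, fun j => S.coeff (S.natDegree - j), R.natDegree + S.natDegree + 2, ?_, ?_⟩
  · simpa using hS0
  intro m hm
  have hc := congrArg (PowerSeries.coeff (m + S.natDegree - 1)) hSR
  rw [Polynomial.coeff_coe, Polynomial.coeff_eq_zero_of_natDegree_lt (by omega : R.natDegree < _),
    mul_comm, PowerSeries.coeff_mul, Finset.Nat.sum_antidiagonal_eq_sum_range_succ_mk] at hc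
  rw [← Finset.sum_range_reflect]
  refine Eq.trans ?_ hc
  refine Eq.trans ?_ (Finset.sum_subset (s₁ := Finset.range (S.natDegree + 1)) ?_ ?_)
  · refine Finset.sum_congr rfl fun i hi => ?_
    rw [Finset.mem_range] at hi
    have h1 : m + S.natDegree - 1 - i + 1 = m + (S.natDegree + 1 - 1 - i) := by omega
    have h2 : S.natDegree - (S.natDegree + 1 - 1 - i) = i := by omega
    simp only [Polynomial.coeff_coe, PowerSeries.coeff_derivative, hg, PowerSeries.coeff_mk, h2]
    rw [if_neg (Nat.succ_ne_zero _), h1]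
    have h3 : ((m + (S.natDegree + 1 - 1 - i) : ℕ) : ℚ) ≠ 0 := by
      have : 0 < m + (S.natDegree + 1 - 1 - i) := by omega
      exact_mod_cast this.ne'
    have h4 : (((m + S.natDegree - 1 - i : ℕ) : ℚ) + 1) = ((m + (S.natDegree + 1 - 1 - i) : ℕ) : ℚ) := by
      rw [← h1]; push_cast; rfl
    rw [h4, div_mul_cancel₀ _ h3]
  · intro i hi
    simp only [Finset.mem_range] at hi ⊢
    omega
  · intro i _ hi
    simp only [Finset.mem_range, not_lt] at hi
    rw [Polynomial.coeff_coe, Polynomial.coeff_eq_zero_of_natDegree_lt (by omega), zero_mul]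

open Polynomial in
/-- A `q`-difference equation forces the denominator to be a power of `X`. -/
theorem denom_eq_X_pow (q : ℤ) (hq : 1 < q) (F : RatFunc ℚ) (d : ℕ) (c : ℕ → ℚ) (M : ℕ)
    (hc : c 0 ≠ 0) (hM : 1 ≤ M)
    (hne : ∀ v : ℕ, F.denom.eval ((q : ℚ) ^ (v + 1)) ≠ 0)
    (hrec : ∀ m, M ≤ m →
      ∑ j ∈ Finset.range (d + 1), c j * F.eval (RingHom.id ℚ) ((q : ℚ) ^ (m + j)) = 0) :
    F.denom = Polynomial.X ^ F.denom.natDegree := by
  classical
  have hq1 : (1 : ℚ) < (q : ℚ) := by exact_mod_cast hq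
  set A := F.num with hA
  set B := F.denom with hB
  let sc : ℕ → Polynomial ℚ := fun j => Polynomial.C ((q : ℚ) ^ j) * Polynomial.X
  set W : Polynomial ℚ := ∑ j ∈ Finset.range (d + 1),
    Polynomial.C (c j) * A.comp (sc j) * ∏ i ∈ (Finset.range (d + 1)).erase j, B.comp (sc i) with hW
  have hW0 : W = 0 := by
    apply Polynomial.eq_zero_of_infinite_isRoot
    apply Set.Infinite.mono (s := Set.range fun m : ℕ => (q : ℚ) ^ (M + m))
    · rintro _ ⟨m, rfl⟩
      show W.IsRoot _
      have he : ∀ i, (sc i).eval ((q : ℚ) ^ (M + m)) = (q : ℚ) ^ (M + m + i) := fun i => by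
        simp [sc, pow_add]; ring
      have hb : ∀ i, B.eval ((q : ℚ) ^ (M + m + i)) ≠ 0 := fun i => by
        obtain ⟨v, hv⟩ : ∃ v, M + m + i = v + 1 := ⟨M + m + i - 1, by omega⟩
        rw [hv]; exact hne v
      have h0 := hrec (M + m) (Nat.le_add_right _ _)
      rw [IsRoot, hW, eval_finset_sum]
      simp only [eval_mul, eval_prod, eval_C, eval_comp, he]
      have key : ∀ j ∈ Finset.range (d + 1),
          c j * A.eval ((q : ℚ) ^ (M + m + j)) *
            ∏ i ∈ (Finset.range (d + 1)).erase j, B.eval ((q : ℚ) ^ (M + m + i)) =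
          (c j * F.eval (RingHom.id ℚ) ((q : ℚ) ^ (M + m + j))) *
            ∏ i ∈ Finset.range (d + 1), B.eval ((q : ℚ) ^ (M + m + i)) := fun j hj => by
        rw [← Finset.mul_prod_erase _ _ hj]
        have : F.eval (RingHom.id ℚ) ((q : ℚ) ^ (M + m + j)) =
            A.eval ((q : ℚ) ^ (M + m + j)) / B.eval ((q : ℚ) ^ (M + m + j)) := rfl
        rw [this]
        field_simp [hb j]
      rw [Finset.sum_congr rfl key, ← Finset.sum_mul, h0, zero_mul]
    · apply Set.infinite_range_of_injective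
      intro a b hab
      have := (pow_right_strictMono₀ hq1).injective hab
      omega
  let φ : ℚ →+* ℂ := algebraMap ℚ ℂ
  have hBm : B.Monic := RatFunc.monic_denom F
  have hzero : ∀ z ∈ (B.map φ).roots, z = 0 := by
    by_contra hcon
    push Not at hcon
    obtain ⟨z₀, hz₀, hz₀0⟩ := hcon
    have hs : ((B.map φ).roots.toFinset.filter (· ≠ 0)).Nonempty :=
      ⟨z₀, by simp [hz₀0, Multiset.mem_toFinset.mpr hz₀, -Multiset.mem_toFinset]⟩
    obtain ⟨β, hβ, hmax⟩ := Finset.exists_max_image _ (fun z : ℂ => ‖z‖) hs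
    rw [Finset.mem_filter, Multiset.mem_toFinset, mem_roots (hBm.map φ).ne_zero, IsRoot,
      eval_map] at hβ
    obtain ⟨hβr, hβ0⟩ := hβ
    have hsc : ∀ i, (sc i).eval₂ φ β = (q : ℂ) ^ i * β := fun i => by
      rw [show sc i = Polynomial.C ((q : ℚ) ^ i) * Polynomial.X from rfl, eval₂_mul, Polynomial.eval₂_C, Polynomial.eval₂_X, map_pow, map_intCast]
    have h := congrArg (Polynomial.eval₂ φ β) hW0
    rw [hW, eval₂_finsetSum, eval₂_zero, Finset.sum_eq_single 0] at h
    · rw [eval₂_mul, eval₂_mul, eval₂_finsetProd, Polynomial.eval₂_C, eval₂_comp, hsc] at h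
      simp only [mul_eq_zero, Finset.prod_eq_zero_iff] at h
      rcases h with (h | h) | ⟨i, hi, h⟩
      · exact hc (φ.injective (by simpa using h))
      · obtain ⟨u, v, huv⟩ := RatFunc.isCoprime_num_denom F
        have := congrArg (Polynomial.eval₂ φ β) huv
        rw [eval₂_add, eval₂_mul, eval₂_mul, eval₂_one, ← hA, ← hB, hβr] at this
        rw [pow_zero, one_mul] at h
        simp [h] at this
      · rw [Finset.mem_erase] at hi
        rw [eval₂_comp, hsc] at h
        have hne' : (q : ℂ) ^ i * β ≠ 0 :=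
          mul_ne_zero (pow_ne_zero _ (by exact_mod_cast (show q ≠ 0 by omega))) hβ0
        have hmem : (q : ℂ) ^ i * β ∈ (B.map φ).roots.toFinset.filter (· ≠ 0) := by
          rw [Finset.mem_filter, Multiset.mem_toFinset, mem_roots (hBm.map φ).ne_zero, IsRoot,
            eval_map]
          exact ⟨h, hne'⟩
        have hle := hmax _ hmem
        simp only [norm_mul, norm_pow] at hle
        have hqn : (1 : ℝ) < ‖(q : ℂ)‖ := by
          rw [Complex.norm_intCast]
          exact lt_of_lt_of_le (by exact_mod_cast hq) (le_abs_self _)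
        have : 1 * ‖β‖ < ‖(q : ℂ)‖ ^ i * ‖β‖ :=
          mul_lt_mul_of_pos_right (one_lt_pow₀ hqn hi.1) (norm_pos_iff.mpr hβ0)
        linarith
    · intro j hj hj0
      rw [eval₂_mul, eval₂_finsetProd]
      refine mul_eq_zero_of_right _ (Finset.prod_eq_zero (i := 0) (by simp [Ne.symm hj0]) ?_)
      rw [eval₂_comp, hsc, pow_zero, one_mul, hβr]
    · simp
  have hsplit := IsAlgClosed.splits (B.map φ)
  have hprod := hsplit.eq_prod_roots_of_monic (hBm.map φ)
  rw [Multiset.map_congr rfl (fun z hz => by rw [hzero z hz, Polynomial.C_0, sub_zero] :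
      ∀ z ∈ (B.map φ).roots, Polynomial.X - Polynomial.C z = Polynomial.X),
    Multiset.map_const', Multiset.prod_replicate, ← hsplit.natDegree_eq_card_roots,
    Polynomial.natDegree_map] at hprod
  refine Polynomial.map_injective φ φ.injective ?_
  rw [Polynomial.map_pow, Polynomial.map_X]
  exact hprod


/-- Let q > 1 be an integer and let F be an element of the subring of the rational function field ℚ(X)
generated by X, X^(-1) and the fractions 1/(X^n - 1) for n ≥ 1 (so F(q^v) is defined for every v ≥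
1). If the formal power series exp(Σ_{v ≥ 1} F(q^v) t^v / v) in ℚ⟦t⟧ is the expansion of a rational
function, i.e. its product with some non-zero polynomial in t is a polynomial, then F is a Laurent
polynomial with integer coefficients: F · X^a is the image of a polynomial with integer coefficients
for some a. (The published statement also assumes that the series defines a meromorphic function on
the complex plane; that is implied by rationality and is omitted here.) -/
theorem result (q : ℤ) (hq : 1 < q) (F : RatFunc ℚ)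
    (hF : F ∈ Subring.closure
      (({RatFunc.X, (RatFunc.X : RatFunc ℚ)⁻¹} : Set (RatFunc ℚ)) ∪
        Set.range fun n : ℕ => ((RatFunc.X : RatFunc ℚ) ^ (n + 1) - 1)⁻¹))
    (hrat : ∃ P Q : Polynomial ℚ, Q ≠ 0 ∧
      (PowerSeries.exp ℚ).subst
          (PowerSeries.mk fun v : ℕ => if v = 0 then (0 : ℚ)
            else F.eval (RingHom.id ℚ) ((q : ℚ) ^ v) / (v : ℚ))
        * (Q : PowerSeries ℚ) = (P : PowerSeries ℚ)) :
    ∃ (P : Polynomial ℤ) (a : ℕ),
      F * RatFunc.X ^ a = algebraMap (Polynomial ℚ) (RatFunc ℚ) (P.map (Int.castRingHom ℚ)) := by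
  obtain ⟨P, D, hD, hDe, hPD⟩ := exists_rep q hq F hF
  obtain ⟨d, c, M, hc, hrec⟩ :=
    exists_recurrence (fun v => F.eval (RingHom.id ℚ) ((q : ℚ) ^ v)) hrat
  set φ := Int.castRingHom ℚ with hφ
  have hDQ : (D.map φ).Monic := hD.map φ
  have hFeq : F = algebraMap _ (RatFunc ℚ) (P.map φ) / algebraMap _ _ (D.map φ) := by
    rw [eq_div_iff (RatFunc.algebraMap_ne_zero hDQ.ne_zero), hPD]
  have hnum : F.num * D.map φ = P.map φ * F.denom :=
    (RatFunc.num_mul_eq_mul_denom_iff hDQ.ne_zero).mpr hFeq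
  obtain ⟨E, hE⟩ := (RatFunc.denom_dvd hDQ.ne_zero).mpr ⟨_, hFeq⟩
  have hne : ∀ v : ℕ, F.denom.eval ((q : ℚ) ^ (v + 1)) ≠ 0 := fun v h => hDe v (by
    rw [hE, Polynomial.eval_mul, h, zero_mul])
  have hX := denom_eq_X_pow q hq F d c (M + 1) hc (Nat.le_add_left 1 M) hne
    (fun m hm => hrec m (by omega))
  refine ⟨(P * Polynomial.X ^ F.denom.natDegree) /ₘ D, F.denom.natDegree, ?_⟩
  rw [hX] at hnum
  have hA : F.num = (P.map φ * Polynomial.X ^ F.denom.natDegree) /ₘ (D.map φ) := by
    rw [← hnum, mul_comm, Polynomial.mul_divByMonic_cancel_left _ hDQ]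
  rw [Polynomial.map_divByMonic _ hD, Polynomial.map_mul, Polynomial.map_pow, Polynomial.map_X,
    ← hA]
  nth_rewrite 1 [← RatFunc.num_div_denom F]
  rw [hX, map_pow, RatFunc.algebraMap_X, Polynomial.natDegree_X_pow,
    div_mul_cancel₀ _ (pow_ne_zero _ RatFunc.X_ne_zero)]

end Groth.Agent.S14193
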