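import Groth.Statements.S1420
import Groth.Agent.Weighting.Main

set_option autoImplicit false
universe u
open FlatMor

namespace Groth.Agent.S1420

open AlgebraicGeometry CategoryTheory Limits in
/-- A locally quasi-finite morphism with a weighting taking only positive values is universally open. -/
theorem result {X Y : Scheme.{u}} (f : X ⟶ Y) [LocallyQuasiFinite f] [LocallyOfFiniteType f] (w : ↑X → ℤ) (hw : MoreMor.IsWeighting f w) (hpos : ∀ x, 0 < w x) :
    UniversallyOpen f := by
  suffices H : ∀ {X Y : Scheme.{u}} (f : X ⟶ Y) (w : X → ℤ), LocallyOfFiniteType f → LocallyQuasiFinite f →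
      MoreMor.IsWeighting f w → (∀ x, 0 < w x) → IsOpenMap f by
    refine ⟨fun {X' Y'} i₁ i₂ f' hc => ?_⟩
    exact H f' (w ∘ i₁) (MorphismProperty.of_isPullback hc.flip inferInstance) (MorphismProperty.of_isPullback hc.flip inferInstance)
      (Weighting.isWeighting_baseChange hw hc.flip) (fun x => hpos _)
  intro X Y f w _ _ hw hpos
  have key : ∀ {X : Scheme.{u}} (f : X ⟶ Y) (w : X → ℤ), LocallyOfFiniteType f → LocallyQuasiFinite f →
      MoreMor.IsWeighting f w → (∀ x, 0 < w x) → ∀ x, Set.range f ∈ nhds (f x) := by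
    intro X f w _ _ hw hpos x
    obtain ⟨Ω, _, _, xb, rfl⟩ := Weighting.exists_geomPt x
    obtain ⟨V, g, hg, v, W, N, hv, hWfin, hWL, hN, hconst⟩ := Weighting.exists_chart_const hw xb
    refine Filter.mem_of_superset ((Weighting.isOpen_image_etale g N).mem_nhds ⟨_, hN, ?_⟩) ?_
    · rw [← Weighting.pt_comp, hv, Weighting.pt_comp]
    · rintro _ ⟨p, hp, rfl⟩
      obtain ⟨Ω', _, _, v', rfl⟩ := Weighting.exists_geomPt p
      have h0 : ∑ᶠ y ∈ Weighting.L W v', w (Weighting.pt y) ≠ 0 := by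
        rw [hconst Ω' v' hp]; exact (hpos _).ne'
      obtain ⟨y, hy, -⟩ := exists_ne_zero_of_finsum_mem_ne_zero h0
      refine ⟨Weighting.pt y, ?_⟩
      rw [← Weighting.pt_comp, ← Weighting.pt_comp, Weighting.comp_eq_of_mem_L hy]
  intro O hO
  rw [isOpen_iff_mem_nhds]
  rintro _ ⟨x, hx, rfl⟩
  let O' : X.Opens := ⟨O, hO⟩
  refine Filter.mem_of_superset (key (O'.ι ≫ f) (fun z => w (O'.ι z)) inferInstance inferInstance
    (Weighting.isWeighting_restrict hw O') (fun z => hpos _) ⟨x, hx⟩) ?_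
  rintro _ ⟨z, rfl⟩
  exact ⟨_, z.2, rfl⟩

end Groth.Agent.S1420
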