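import Groth.Statements.S14205
import Groth.Agent.Brauer.Period

set_option autoImplicit false
universe u v
open scoped TensorProduct
open Brauer

namespace Groth.Agent.S14205

/-- Let A be a finite-dimensional central simple algebra over a field k with period p: p is the least
positive integer for which the p-fold tensor power of A over k is a full matrix algebra over k. Then
for every r ≥ 1 the r-fold tensor power of A has period p / gcd(p, r) (the order of the r-th
multiple of an element of order p). -/
theorem result (k : Type u) [Field k] (A : Type v) [Ring A] [Algebra k A]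
    [Algebra.IsCentral k A] [IsSimpleRing A] [FiniteDimensional k A] (p : ℕ)
    (hp : CSAGal.IsPeriod k A p) (r : ℕ) (hr : 0 < r) :
    CSAGal.IsPeriod k (CSAGal.tpow k A r) (p / Nat.gcd p r) := by
  open Groth.Agent.Brauer in
  have hA : IsCSA k A := ⟨inferInstance, inferInstance, inferInstance⟩
  open Groth.Agent.Brauer in
  obtain ⟨hp0, hp'⟩ := period_spec hA hp
  have key : ∀ b, Curves.Splits k (CSAGal.tpow k (CSAGal.tpow k A r) b) k ↔ p / Nat.gcd p r ∣ b := by
    intro b
    open Groth.Agent.Brauer in
    rw [show Curves.Splits k (CSAGal.tpow k (CSAGal.tpow k A r) b) k ↔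
      Curves.Splits k (pw k (pw k A r) b) k from Iff.rfl,
      splits_self_iff ((hA.pw r).pw b), ← indDvd_pw_mul, hp']
    obtain ⟨a, ha⟩ := Nat.gcd_dvd_left p r
    obtain ⟨c, hc⟩ := Nat.gcd_dvd_right p r
    have hg : 0 < Nat.gcd p r := Nat.gcd_pos_of_pos_left _ hp0
    have hco : Nat.Coprime a c := by
      have := Nat.coprime_div_gcd_div_gcd hg
      rwa [Nat.div_eq_of_eq_mul_right hg ha, Nat.div_eq_of_eq_mul_right hg hc] at this
    rw [Nat.div_eq_of_eq_mul_right hg ha]
    generalize Nat.gcd p r = g at ha hc hg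
    rw [ha, hc, mul_assoc]
    rw [Nat.mul_dvd_mul_iff_left hg]
    exact ⟨fun h => hco.dvd_of_dvd_mul_left h, fun h => dvd_mul_of_dvd_right h c⟩
  have h0 : 0 < p / Nat.gcd p r :=
    Nat.div_pos (Nat.le_of_dvd hp0 (Nat.gcd_dvd_left p r)) (Nat.gcd_pos_of_pos_left _ hp0)
  exact ⟨h0, (key _).2 dvd_rfl, fun e' h1 h2 h => absurd (Nat.le_of_dvd h1 ((key e').1 h)) (not_le.2 h2)⟩

end Groth.Agent.S14205
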