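import Groth.Statements.S14210
import Groth.Agent.BrSevExist.Main
import Groth.Agent.BrSevExist.SB

set_option autoImplicit false
universe u
open CategoryTheory CategoryTheory.Limits AlgebraicGeometry
open ASBun

namespace Groth.Agent.S14210

/-- For positive integers p, i, d with p ∣ i ∣ d such that every prime dividing i divides p, some field
k carries a central simple k-algebra A of dimension d² with period p (the least p ≥ 1 for which the
p-fold tensor power of A is a full matrix algebra over k) and index i (A is a matrix algebra over a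
division ring of dimension i² over k), together with a k-scheme X which is the Severi–Brauer scheme
of A (for every commutative k-algebra R, the R-points of X over k are identified, naturally in R,
with the left ideals of R ⊗_k A whose quotient is projective of rank d² − d); that is, X is a
Severi–Brauer variety over k of type (p, i, d). -/
theorem result (p i d : ℕ) (hp : 0 < p) (hi : 0 < i) (hd : 0 < d)
    (hpi : p ∣ i) (hid : i ∣ d) (hprimes : ∀ q : ℕ, q.Prime → q ∣ i → q ∣ p) :
    ∃ (k : Type u) (_ : Field k) (A : Type u) (_ : Ring A) (_ : Algebra k A),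
      Algebra.IsCentral k A ∧ IsSimpleRing A ∧ Module.finrank k A = d * d ∧
      CSAGal.IsPeriod k A p ∧ CSAGal.IsIndex k A i ∧
      ∃ (X : Scheme.{u}) (f : X ⟶ Spec (CommRingCat.of k)), BrSev.IsSBOf k A (d * d - d) f := by
  obtain ⟨k, _, D, _, _, hD, hdim, hper⟩ :=
    Groth.Agent.BrSevExist.exists_division_period_index.{u} p i hp hi hpi hprimes
  obtain ⟨m, rfl⟩ := hid
  have hm : 0 < m := pos_of_mul_pos_right hd (Nat.zero_le _)
  haveI : NeZero m := ⟨hm.ne'⟩
  have hA := Groth.Agent.CSALib.isCSA_matrix hD m
  haveI := hA.finite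
  refine ⟨k, inferInstance, Matrix (Fin m) (Fin m) D, inferInstance, inferInstance, hA.central, hA.simple, ?_,
    ?_, ⟨hi, m, D, inferInstance, inferInstance, hm, by rw [hdim, sq], ⟨AlgEquiv.refl⟩⟩,
    Groth.Agent.BrSevExist.exists_isSBOf k _ _⟩
  · rw [Module.finrank_matrix, hdim, Fintype.card_fin]
    ring
  · have hs : ∀ e, Curves.Splits k (CSAGal.tpow k (Matrix (Fin m) (Fin m) D) e) k ↔ p ∣ e := fun e =>
      (Groth.Agent.Brauer.splits_self_iff (hA.pw e)).trans
        (Groth.Agent.Brauer.indDvd_pw_matrix.trans (hper e))
    exact ⟨hp, (hs p).2 dvd_rfl, fun e he hlt h =>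
      absurd (Nat.le_of_dvd he ((hs e).1 h)) (not_le.2 hlt)⟩

end Groth.Agent.S14210
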