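import Groth.Statements.S14211
import Groth.Agent.RedNorm.Subfield
import Groth.Agent.Brauer.Period

set_option autoImplicit false
set_option linter.style.haveILetI false
set_option backward.isDefEq.respectTransparency false
open Groth.Agent
universe u v
open scoped TensorProduct
open Brauer

namespace Groth.Agent.S14211

/-- Let k be a field in which 2 ≠ 0 and A a finite-dimensional central simple k-algebra. Then A has
period 2 and index 2 (its Severi–Brauer variety has type (2, 2, 2m)) if and only if A is isomorphic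
over k to a matrix algebra M_m(Q), m ≥ 1, over a quaternion algebra Q = (a, b)_k (the k-algebra with
basis 1, i, j, ij, i² = a, j² = b, ij = −ji) which is a division ring; moreover such a quaternion
algebra is unique up to k-isomorphism. -/
theorem result (k : Type u) [Field k] (h2 : (2 : k) ≠ 0)
    (A : Type v) [Ring A] [Algebra k A] [Algebra.IsCentral k A] [IsSimpleRing A]
    [FiniteDimensional k A] :
    ((CSAGal.IsPeriod k A 2 ∧ CSAGal.IsIndex k A 2) ↔
      ∃ (a b : k) (m : ℕ), 0 < m ∧ (∀ x : QuaternionAlgebra k a 0 b, x ≠ 0 → IsUnit x) ∧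
        Nonempty (A ≃ₐ[k] Matrix (Fin m) (Fin m) (QuaternionAlgebra k a 0 b))) ∧
    (∀ (a b a' b' : k) (m m' : ℕ),
      (∀ x : QuaternionAlgebra k a 0 b, x ≠ 0 → IsUnit x) →
      (∀ x : QuaternionAlgebra k a' 0 b', x ≠ 0 → IsUnit x) →
      Nonempty (A ≃ₐ[k] Matrix (Fin m) (Fin m) (QuaternionAlgebra k a 0 b)) →
      Nonempty (A ≃ₐ[k] Matrix (Fin m') (Fin m') (QuaternionAlgebra k a' 0 b')) →
      Nonempty (QuaternionAlgebra k a 0 b ≃ₐ[k] QuaternionAlgebra k a' 0 b')) := by
  classical
  have hA : Brauer.IsCSA k A := ⟨inferInstance, inferInstance, inferInstance⟩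
  obtain ⟨m₀, D, _, _, hm₀, hDc, hDf, ⟨e₀⟩⟩ := Brauer.exists_division (k := k) A
  obtain ⟨d, hd0, hd⟩ := Brauer.exists_degree (k := k) D
  have hidx : CSAGal.IsIndex k A d :=
    ⟨Nat.pos_of_ne_zero hd0, m₀, D, inferInstance, inferInstance, Nat.pos_of_ne_zero hm₀, hd, ⟨e₀⟩⟩
  -- a quaternion division part is the division part
  have huniq : ∀ (a b : k) (m : ℕ), (∀ x : QuaternionAlgebra k a 0 b, x ≠ 0 → IsUnit x) →
      Nonempty (A ≃ₐ[k] Matrix (Fin m) (Fin m) (QuaternionAlgebra k a 0 b)) →
      d = 2 ∧ Nonempty (D ≃ₐ[k] QuaternionAlgebra k a 0 b) := by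
    intro a b m hu ⟨e⟩
    have hm : m ≠ 0 := by
      rintro rfl
      haveI : Nontrivial A := inferInstance
      exact not_subsingleton A e.toEquiv.subsingleton
    haveI : Nontrivial (QuaternionAlgebra k a 0 b) := Module.nontrivial_of_finrank_pos (R := k) (by
      rw [QuaternionAlgebra.finrank_eq_four]; norm_num)
    letI : DivisionRing (QuaternionAlgebra k a 0 b) :=
      DivisionRing.ofIsUnitOrEqZero fun x => (em (x = 0)).elim Or.inr fun h => Or.inl (hu x h)
    have hdim : Module.finrank k (QuaternionAlgebra k a 0 b) = 2 ^ 2 := QuaternionAlgebra.finrank_eq_four a 0 b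
    haveI : Algebra.IsCentral k (QuaternionAlgebra k a 0 b) := ⟨fun z hz => by
      have hm' : Matrix.scalar (Fin m) z ∈ Subalgebra.center k (Matrix (Fin m) (Fin m) (QuaternionAlgebra k a 0 b)) :=
        Subalgebra.mem_center_iff.2 fun M => (Matrix.scalar_commute z
          (fun r => (Subalgebra.mem_center_iff.1 hz r).symm) M).eq.symm
      have hc : e.symm (Matrix.scalar (Fin m) z) ∈ Subalgebra.center k A := Subalgebra.mem_center_iff.2 fun y => by
        apply e.injective
        rw [map_mul, map_mul, e.apply_symm_apply]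
        exact Subalgebra.mem_center_iff.1 hm' (e y)
      obtain ⟨r, hr⟩ := Algebra.mem_bot.1 (Algebra.IsCentral.out hc)
      replace hr : algebraMap k (Matrix (Fin m) (Fin m) (QuaternionAlgebra k a 0 b)) r = Matrix.scalar (Fin m) z := by
        rw [← e.apply_symm_apply (Matrix.scalar (Fin m) z), ← hr]
        exact (e.commutes r).symm
      refine Algebra.mem_bot.2 ⟨r, ?_⟩
      have := congrFun (congrFun hr ⟨0, Nat.pos_of_ne_zero hm⟩) ⟨0, Nat.pos_of_ne_zero hm⟩
      simpa [Matrix.algebraMap_matrix_apply, Matrix.scalar] using this⟩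
    have hE : Brauer.Eqv k D (QuaternionAlgebra k a 0 b) :=
      ((Brauer.eqv_matrix m₀ hm₀).symm.trans (.of_algEquiv (e₀.symm.trans e))).trans (Brauer.eqv_matrix m hm)
    obtain rfl := Brauer.unique_of_eqv hd hdim hE
    exact ⟨rfl, Brauer.algEquiv_of_eqv D _ hE (by rw [hd, hdim])⟩
  refine ⟨⟨?_, ?_⟩, fun a b a' b' m m' hu hu' he he' => ?_⟩
  · rintro ⟨-, hi⟩
    obtain rfl : d = 2 := Brauer.isIndex_unique A hidx hi .refl
    obtain ⟨x, hx⟩ : ∃ x : D, x ∉ (algebraMap k D).range := by
      by_contra! hcon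
      have h1 : (⊥ : Subalgebra k D) = ⊤ := top_le_iff.1 fun v _ => Algebra.mem_bot.2 (hcon v)
      rw [Subalgebra.bot_eq_top_iff_finrank_eq_one] at h1
      rw [hd] at h1
      norm_num at h1
    obtain ⟨L, _, _, ι, ⟨l, rfl⟩, _, hL, -⟩ := RedNorm.exists_subfield hd x
    have hl : ∀ r : k, algebraMap k L r ≠ l := fun r h => hx ⟨r, by rw [← h, AlgHom.commutes]⟩
    have hli : LinearIndependent k ![(1 : L), l] := by
      rw [linearIndependent_fin2]
      refine ⟨fun h => hl 0 (by simpa using h.symm), fun r h => ?_⟩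
      simp only [Matrix.cons_val_one, Matrix.cons_val_fin_one, Matrix.cons_val_zero] at h
      have hr : r ≠ 0 := fun h0 => one_ne_zero (α := L) (by rw [← h, h0, zero_smul])
      exact hl r⁻¹ (by rw [Algebra.algebraMap_eq_smul_one, ← h, smul_smul, inv_mul_cancel₀ hr, one_smul])
    have hmem : l * l ∈ Submodule.span k (Set.range ![(1 : L), l]) := by
      rw [hli.span_eq_top_of_card_eq_finrank' (by simp [hL])]; trivial
    rw [Matrix.range_cons, Matrix.range_cons, Matrix.range_empty, Set.union_empty, Set.singleton_union,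
      Submodule.mem_span_pair] at hmem
    obtain ⟨α, β, hαβ⟩ := hmem
    let l' : L := l - algebraMap k L (β / 2)
    let i : D := ι l'
    let a : k := α + (β / 2) * (β / 2)
    have hl' : ∀ r : k, algebraMap k L r ≠ l' := fun r h => hl (r + β / 2) (by rw [map_add, h, sub_add_cancel])
    have hi2 : i * i = a • (1 : D) := by
      rw [← map_mul, ← map_one ι, ← map_smul]
      congr 1
      have h2β : β = β / 2 + β / 2 := by field_simp; ring
      rw [← Algebra.algebraMap_eq_smul_one]
      simp only [l', a, map_add, map_mul]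
      rw [Algebra.smul_def, Algebra.smul_def, mul_one, h2β, map_add] at hαβ
      linear_combination -hαβ
    have hik : ∀ r : k, algebraMap k D r ≠ i := fun r h => hl' r (ι.toRingHom.injective (by
      show ι (algebraMap k L r) = ι l'
      rw [AlgHom.commutes]; exact h))
    have hi0 : i ≠ 0 := fun h => hik 0 (by rw [h, map_zero])
    obtain ⟨y, hy⟩ : ∃ y : D, i * y ≠ y * i := by
      by_contra! hcon
      obtain ⟨r, hr⟩ := Algebra.mem_bot.1 (Algebra.IsCentral.out ((Subalgebra.mem_center_iff (R := k) (a := i)).2 fun y => (hcon y).symm))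
      exact hik r hr
    let j : D := i * y - y * i
    have hij : j * i = -(i * j) := by
      simp only [j, sub_mul, mul_sub, mul_assoc, hi2, ← mul_assoc i i y, smul_mul_assoc, one_mul, mul_smul_comm, mul_one]
      abel
    have hj0 : j ≠ 0 := sub_ne_zero.2 hy
    have h2D : (2 : D) ≠ 0 := fun h => h2 ((algebraMap k D).injective (by rw [map_ofNat, h, map_zero]))
    have hneg : ∀ z : D, z = -z → z = 0 := fun z h =>
      (mul_eq_zero.1 (show (2 : D) * z = 0 by rw [two_mul]; nth_rw 1 [h]; exact neg_add_cancel z)).resolve_left h2D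
    have hindep : ∀ r s t v : k, r • (1 : D) + s • i + t • j + v • (i * j) = 0 → r = 0 ∧ s = 0 ∧ t = 0 ∧ v = 0 := by
      have hpair : ∀ r s : k, r • (1 : D) + s • i = 0 → r = 0 ∧ s = 0 := by
        intro r s h
        by_cases hs : s = 0
        · rw [hs, zero_smul, add_zero, smul_eq_zero] at h
          exact ⟨h.resolve_right one_ne_zero, hs⟩
        · exfalso
          refine hik (-(r / s)) ?_
          rw [Algebra.algebraMap_eq_smul_one, neg_smul, neg_eq_iff_add_eq_zero, div_eq_inv_mul, mul_smul]
          calc s⁻¹ • r • (1 : D) + i = s⁻¹ • (r • (1 : D) + s • i) := by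
                rw [smul_add, smul_smul s⁻¹ s, inv_mul_cancel₀ hs, one_smul]
            _ = 0 := by rw [h, smul_zero]
      intro r s t v h
      have hP : i * (r • (1 : D) + s • i) = (r • (1 : D) + s • i) * i := by
        simp only [mul_add, add_mul, mul_smul_comm, smul_mul_assoc, mul_one, one_mul]
      have hQ : i * (t • j + v • (i * j)) = -((t • j + v • (i * j)) * i) := by
        simp only [mul_add, add_mul, mul_smul_comm, smul_mul_assoc, mul_assoc, hij, mul_neg, smul_neg, neg_add_rev, neg_neg]
        abel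
      have hPQ : r • (1 : D) + s • i = -(t • j + v • (i * j)) := by
        rw [eq_neg_iff_add_eq_zero, ← h]; abel
      have hP0 : (r • (1 : D) + s • i) * i = 0 := hneg _ (by
        calc (r • (1 : D) + s • i) * i = i * (r • (1 : D) + s • i) := hP.symm
          _ = -(i * (t • j + v • (i * j))) := by rw [hPQ, mul_neg]
          _ = -((r • (1 : D) + s • i) * i) := by rw [hQ, hPQ, neg_mul])
      obtain ⟨h1, h2'⟩ := hpair r s ((mul_eq_zero.1 hP0).resolve_right hi0)
      rw [h1, h2', zero_smul, zero_smul, zero_add, zero_add] at h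
      have h3 : (t • (1 : D) + v • i) * j = 0 := by
        rw [add_mul, smul_mul_assoc, smul_mul_assoc, one_mul]; exact h
      obtain ⟨h4, h5⟩ := hpair t v ((mul_eq_zero.1 h3).resolve_right hj0)
      exact ⟨h1, h2', h4, h5⟩
    -- the square of `j` is central
    have hspan : ∀ z : D, ∃ r s t v : k, r • (1 : D) + s • i + t • j + v • (i * j) = z := by
      intro z
      have hli : LinearIndependent k ![(1 : D), i, j, i * j] := Fintype.linearIndependent_iff.2 fun g hg => by
        simp only [Fin.sum_univ_four, Matrix.cons_val_zero, Matrix.cons_val_one, Matrix.cons_val] at hg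
        obtain ⟨h1, h2, h3, h4⟩ := hindep _ _ _ _ hg
        intro q; fin_cases q <;> assumption
      have hz : z ∈ Submodule.span k (Set.range ![(1 : D), i, j, i * j]) := by
        rw [hli.span_eq_top_of_card_eq_finrank' (by simp [hd])]; trivial
      obtain ⟨c, hc⟩ := (Submodule.mem_span_range_iff_exists_fun k).1 hz
      exact ⟨c 0, c 1, c 2, c 3, by simpa [Fin.sum_univ_four] using hc⟩
    obtain ⟨b, hb⟩ : ∃ b : k, j * j = b • (1 : D) := by
      have hc1 : i * (j * j) = j * j * i := by
        rw [mul_assoc j j i, hij, mul_neg, ← mul_assoc, ← mul_assoc, hij, neg_mul, neg_neg]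
      have hcen : ∀ z : D, z * (j * j) = j * j * z := fun z => by
        obtain ⟨r, s, t, v, rfl⟩ := hspan z
        have hI : Commute i (j * j) := hc1
        have hJ : Commute j (j * j) := (mul_assoc j j j).symm
        exact (((((Commute.one_left (j * j)).smul_left r).add_left (hI.smul_left s)).add_left (hJ.smul_left t)).add_left
          ((hI.mul_left hJ).smul_left v)).eq
      obtain ⟨b, hb⟩ := Algebra.mem_bot.1 (Algebra.IsCentral.out ((Subalgebra.mem_center_iff (R := k) (a := j * j)).2 hcen))
      exact ⟨b, by rw [← hb, Algebra.algebraMap_eq_smul_one]⟩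
    let q : QuaternionAlgebra.Basis D a (0 : k) b :=
      { i := i, j := j, k := i * j
        i_mul_i := by rw [hi2, zero_smul, add_zero]
        j_mul_j := hb
        i_mul_j := rfl
        j_mul_i := by rw [hij, zero_smul, zero_sub] }
    have hsurj : Function.Surjective q.liftHom := fun z => by
      obtain ⟨r, s, t, v, rfl⟩ := hspan z
      exact ⟨⟨r, s, t, v⟩, by
        show algebraMap k D r + s • i + t • j + v • (i * j) = _
        rw [Algebra.algebraMap_eq_smul_one]⟩
    have hbij : Function.Bijective q.liftHom := ⟨(LinearMap.injective_iff_surjective_of_finrank_eq_finrank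
      (f := q.liftHom.toLinearMap) (by rw [QuaternionAlgebra.finrank_eq_four, hd]; norm_num)).mpr hsurj, hsurj⟩
    let f := AlgEquiv.ofBijective q.liftHom hbij
    exact ⟨a, b, m₀, Nat.pos_of_ne_zero hm₀, fun x hx => by
      have h := isUnit_iff_ne_zero.2 ((map_ne_zero_iff f f.injective).mpr hx)
      simpa using h.map f.symm, ⟨e₀.trans f.symm.mapMatrix⟩⟩
  · rintro ⟨a, b, m, -, hu, he⟩
    obtain ⟨rfl, -⟩ := huniq a b m hu he
    obtain ⟨-, hind⟩ := Brauer.indDvd_iff_of_isIndex hA hidx
    refine ⟨⟨two_pos, (Brauer.splits_self_iff (hA.pw 2)).2 (Brauer.split_of_indDvd hA ((hind 2).2 ⟨two_pos, dvd_rfl⟩)),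
      fun e' he0 he2 hs => ?_⟩, hidx⟩
    obtain rfl : e' = 1 := by omega
    have h1 := (hind 1).1 (Brauer.indDvd_pw_one.1 ((Brauer.splits_self_iff (hA.pw 1)).1 hs))
    norm_num at h1
  · obtain ⟨-, ⟨f⟩⟩ := huniq a b m hu he
    obtain ⟨-, ⟨f'⟩⟩ := huniq a' b' m' hu' he'
    exact ⟨f.symm.trans f'⟩

end Groth.Agent.S14211
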