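import Groth.Statements.S14230
import Groth.Agent.RootCh.Facets

set_option autoImplicit false
universe u v w x
open RootCh RootCh.Facet

namespace Groth.Agent.S14230

/-- For a finite reduced crystallographic root system over a linearly ordered field and a facet F, the
vectors of F are exactly the linear combinations of the corners of F in which every corner of F
occurs with a strictly positive coefficient (written with a finitely supported coefficient function
supported inside the set of corners). -/
theorem result {ι : Type u} {R : Type v} {M : Type w} {N : Type x}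
    [Field R] [LinearOrder R] [IsStrictOrderedRing R]
    [AddCommGroup M] [Module R M] [AddCommGroup N] [Module R N] [Finite ι]
    (P : RootPairing ι R M N) [P.IsRootSystem] [P.IsCrystallographic] [P.IsReduced] (F : RootCh.Facet P) :
    F.carrier = {ξ : M | ∃ c : M →₀ R, (c.support : Set M) ⊆ F.corners ∧
      (∀ m ∈ F.corners, 0 < c m) ∧ c.sum (fun m r => r • m) = ξ} := by
  classical
  obtain ⟨b, hb⟩ := Groth.Agent.RootCh.cham_nonempty F
  have hc := Groth.Agent.RootCh.corners_eq' hb
  have hinj := Groth.Agent.RootCh.fundWeight_injective b
  ext ξ
  constructor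
  · intro hξ
    let a : b.support → R := fun k => P.coroot' k ξ
    let c : M →₀ R := ∑ k ∈ Groth.Agent.RootCh.supp F b, Finsupp.single (fundWeight b k) (a k)
    refine ⟨c, ?_, ?_, ?_⟩
    · intro m hm
      obtain ⟨k, hk, hmk⟩ := Finset.mem_biUnion.mp (Finsupp.support_finsetSum hm)
      have := Finsupp.support_single_subset hmk
      rw [Finset.mem_singleton] at this
      rw [hc]; exact ⟨k, hk, this.symm⟩
    · intro m hm
      rw [hc] at hm
      obtain ⟨k, hk, rfl⟩ := hm
      simp only [c, Finsupp.finsetSum_apply]
      rw [Finset.sum_eq_single_of_mem k hk]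
      · rw [Finsupp.single_eq_same]
        exact ((Groth.Agent.RootCh.mem_carrier_iff hb ξ).mp hξ k k.2).2
          ((Groth.Agent.RootCh.mem_supp k).mp hk)
      · intro l _ hne
        rw [Finsupp.single_eq_of_ne]
        exact fun e => hne (hinj e.symm)
    · show c.sum (fun m r => r • m) = ξ
      rw [← Finsupp.linearCombination_apply R (v := fun m : M => m)]
      simp only [c, map_sum, Finsupp.linearCombination_single]
      exact (Groth.Agent.RootCh.eq_sum_supp hb hξ).symm
  · rintro ⟨c, hsub, hpos, rfl⟩
    rw [Finsupp.sum_of_support_subset c
      (s := (Groth.Agent.RootCh.supp F b).image (fundWeight b)) ?_ _ (by simp)]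
    · rw [Finset.sum_image hinj.injOn]
      refine Groth.Agent.RootCh.sum_supp_mem_carrier hb (fun k => c (fundWeight b k)) fun k hk => ?_
      exact hpos _ (hc ▸ ⟨k, (Groth.Agent.RootCh.mem_supp k).mpr hk, rfl⟩)
    · intro m hm
      have := hsub hm
      rw [hc] at this
      obtain ⟨k, hk, rfl⟩ := this
      exact Finset.mem_image_of_mem _ hk

end Groth.Agent.S14230
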