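import Groth.Statements.S1424
import Groth.Agent.Weighting.IntegralLevels
import Groth.Agent.Weighting.Main
import Groth.Agent.S1418

set_option autoImplicit false
universe u
open FlatMor

namespace Groth.Agent.S1424

open AlgebraicGeometry CategoryTheory Limits in
/-- Let f be locally quasi-finite and of finite presentation and w a weighting of f. Then every level
set of the fibre integral of w along f is locally constructible in Y. -/
theorem result {X Y : Scheme.{u}} (f : X ⟶ Y) [LocallyQuasiFinite f] [LocallyOfFinitePresentation f] [QuasiCompact f] [QuasiSeparated f]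
    (w : ↑X → ℤ) (hw : MoreMor.IsWeighting f w) (n : ℤ) :
    Topology.IsLocallyConstructible {y : ↑Y | MoreMor.fibreIntegral f w y = n} := by
  intro y
  obtain ⟨SV, hSV, hyV, -⟩ := Y.isBasis_affineOpens.exists_subset_of_mem_open (Set.mem_univ y) isOpen_univ
  obtain ⟨V, hV, rfl⟩ : ∃ V : Y.Opens, IsAffineOpen V ∧ (V : Set Y) = SV := hSV
  haveI : IsAffine V.toScheme := hV
  refine ⟨V, V.isOpen.mem_nhds hyV, V.isOpen, ?_⟩
  have hc := (isPullback_morphismRestrict f V).flip
  haveI : LocallyOfFiniteType f := inferInstance
  haveI : LocallyQuasiFinite (f ∣_ V) := MorphismProperty.of_isPullback hc inferInstance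
  haveI : LocallyOfFinitePresentation (f ∣_ V) := MorphismProperty.of_isPullback hc inferInstance
  haveI : QuasiCompact (f ∣_ V) := MorphismProperty.of_isPullback hc inferInstance
  haveI : QuasiSeparated (f ∣_ V) := MorphismProperty.of_isPullback hc inferInstance
  have h := Groth.Agent.Weighting.isConstructible_level _
    (Groth.Agent.Weighting.constrLC_fibreIntegral (f ∣_ V) (Groth.Agent.Weighting.isWeighting_baseChange hw hc)) n
  have hfun : MoreMor.fibreIntegral (f ∣_ V) (w ∘ ⇑(f ⁻¹ᵁ V).ι) = fun v => MoreMor.fibreIntegral f w (V.ι v) :=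
    funext fun v => Groth.Agent.S1418.result f (fun y => f.finite_preimage_singleton y) _ _ _ hc w v
  rw [hfun] at h
  exact h

end Groth.Agent.S1424
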