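import Groth.Statements.S1425
import Groth.Agent.Weighting.Main

set_option autoImplicit false
universe u
open FlatMor

namespace Groth.Agent.S1425

open AlgebraicGeometry CategoryTheory Limits in
/-- A weighting of a locally quasi-finite morphism taking positive values is upper semicontinuous on X. -/
theorem result {X Y : Scheme.{u}} (f : X ⟶ Y) [LocallyQuasiFinite f] [LocallyOfFiniteType f] (w : ↑X → ℤ) (hw : MoreMor.IsWeighting f w) (hpos : ∀ x, 0 < w x) :
    UpperSemicontinuous w := by
  intro x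
  obtain ⟨Ω, _, _, xb, rfl⟩ := Weighting.exists_geomPt x
  intro c hc
  obtain ⟨V, g, hg, v, W, N, hv, hWfin, hWL, hN, hconst⟩ := Weighting.exists_chart_const hw xb
  haveI : Etale (pullback.fst f g) := MorphismProperty.pullback_fst _ _ hg
  have hmem : xb ∈ Weighting.L W v := hWL ▸ rfl
  obtain ⟨h, hp⟩ := Weighting.mem_L_iff.1 hmem
  let O : (pullback f g).Opens := W ⊓ pullback.snd f g ⁻¹ᵁ N
  refine Filter.mem_of_superset ((Weighting.isOpen_image_etale (pullback.fst f g) O).mem_nhds
    ⟨_, ⟨hp, ?_⟩, ?_⟩) ?_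
  · show pullback.snd f g (Weighting.pt _) ∈ N
    rw [← Weighting.pt_comp, pullback.lift_snd]; exact hN
  · rw [← Weighting.pt_comp, pullback.lift_fst]
  · rintro _ ⟨p, ⟨hpW, hpN⟩, rfl⟩
    show w (pullback.fst f g p) < c
    obtain ⟨Ω', _, _, v', hv'⟩ := Weighting.exists_geomPt (pullback.snd f g p)
    obtain ⟨y, hy, hye, hyp⟩ := Weighting.exists_mem_L_of_mem W v' p hpW hv'.symm
    have hpt : Weighting.pt y = pullback.fst f g p := by
      rw [← hyp, ← Weighting.pt_comp, pullback.lift_fst]
    refine lt_of_le_of_lt ?_ hc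
    rw [← hpt, ← hconst Ω' v' (hv' ▸ hpN), finsum_mem_eq_finite_toFinset_sum _ (Weighting.finite_L W v')]
    exact Finset.single_le_sum (fun z _ => (hpos _).le) ((Set.Finite.mem_toFinset _).2 hy)

end Groth.Agent.S1425
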