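import Groth.Statements.S14252
import Groth.Agent.PerfTor.Basic
import Mathlib.Algebra.Homology.ShortComplex.ModuleCat
import Mathlib.CategoryTheory.Monoidal.Tor
import Mathlib.Algebra.Category.ModuleCat.Projective

set_option autoImplicit false
universe u
open CategoryTheory
open FrobAlg

namespace Groth.Agent.S14252

/-- Let p be a prime, A a commutative ring with p = 0 whose p-th power map is bijective, and B, C two
commutative A-algebras whose p-th power maps are bijective (a diagram C ← A → B of perfect rings of
characteristic p). Then Tor_i^A(B, C) vanishes for all i > 0. -/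
theorem result (p : ℕ) [Fact p.Prime] (A B C : Type u) [CommRing A] [CommRing B] [CommRing C]
    [CharP A p] [Algebra A B] [Algebra A C]
    (hA : Function.Bijective fun a : A => a ^ p) (hB : Function.Bijective fun b : B => b ^ p)
    (hC : Function.Bijective fun c : C => c ^ p) (i : ℕ) (hi : 0 < i) :
    Limits.IsZero (((Tor (ModuleCat.{u} A) i).obj (ModuleCat.of A B)).obj (ModuleCat.of A C)) := by
  obtain ⟨j, rfl⟩ : ∃ j, i = j + 1 := ⟨i - 1, by omega⟩
  let P := projectiveResolution (ModuleCat.of A C)
  let T := (MonoidalCategory.tensoringLeft (ModuleCat.{u} A)).obj (ModuleCat.of A B)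
  refine Limits.IsZero.of_iso ?_ (P.isoLeftDerivedObj T (j + 1))
  refine (HomologicalComplex.exactAt_iff_isZero_homology _ _).1 ?_
  rw [HomologicalComplex.exactAt_iff' _ (j + 2) (j + 1) j (by simp) (by simp), ShortComplex.moduleCat_exact_iff]
  haveI : ∀ n, Module.Projective A (P.complex.X n) := fun n =>
    (IsProjective.iff_projective (P.complex.X n)).2 (P.projective n)
  have hd : ∀ n, Function.Exact (P.complex.d (n + 2) (n + 1)).hom (P.complex.d (n + 1) n).hom := fun n =>
    (ShortComplex.ShortExact.moduleCat_exact_iff_function_exact _).1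
      ((HomologicalComplex.exactAt_iff' _ (n + 2) (n + 1) n (by simp) (by simp)).1 (P.complex_exactAt_succ n))
  have h := PerfTor.exact_tensor (A := A) (B := B) (C := C)
    ⟨CharP.cast_eq_zero A p, hA⟩ ⟨by rw [← map_natCast (algebraMap A B), CharP.cast_eq_zero, map_zero], hB⟩
    ⟨by rw [← map_natCast (algebraMap A C), CharP.cast_eq_zero, map_zero], hC⟩
    (F := fun n => P.complex.X n) (fun n => (P.complex.d (n + 1) n).hom) hd
    (show (P.complex.X 0 : Type u) →ₗ[A] C from (P.π.f 0).hom)
    ((ShortComplex.ShortExact.moduleCat_exact_iff_function_exact _).1 P.exact₀)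
    ((ModuleCat.epi_iff_surjective (P.π.f 0)).1 inferInstance) j
  intro x hx
  exact (h x).1 hx

end Groth.Agent.S14252
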