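import Groth.Statements.S14254
import Groth.Agent.Perfn.Ring

set_option autoImplicit false
universe u
open CategoryTheory AlgebraicGeometry
open FrobAlg

namespace Groth.Agent.S14254

/-- Let p be a prime, φ : A → B a map of commutative rings of characteristic p, i : A → A' and j : B →
B' perfect closures (A' and B' are perfect rings of characteristic p, every element of A' resp. B'
has a p^n-th power in the image of i resp. j, and the kernels of i and j consist of nilpotent
elements), and φ' : A' → B' the induced map, φ' ∘ i = j ∘ φ. Then Spec φ : Spec B ⟶ Spec A is a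
universal homeomorphism if and only if φ' is bijective. (The published statement is for an arbitrary
morphism of schemes over the prime field and its perfection; this row is the case of affine schemes,
the perfection of Spec A being Spec of the perfect closure of A.) -/
theorem result (p : ℕ) [Fact p.Prime]
    {A B A' B' : Type u} [CommRing A] [CommRing B] [CommRing A'] [CommRing B']
    [CharP A p] [CharP B p] [CharP A' p] [CharP B' p] [PerfectRing A' p] [PerfectRing B' p]
    (φ : A →+* B) (i : A →+* A') (j : B →+* B') [IsPerfectClosure i p] [IsPerfectClosure j p]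
    (φ' : A' →+* B') (hφ : φ'.comp i = j.comp φ) :
    FlatMor.IsUnivHomeo (Spec.map (CommRingCat.ofHom φ)) ↔ Function.Bijective φ' := by
  haveI : Fact p.Prime := inferInstance
  have hp : p.Prime := Fact.out
  haveI : ExpChar A p := ExpChar.prime hp
  haveI : ExpChar B p := ExpChar.prime hp
  haveI : ExpChar A' p := ExpChar.prime hp
  haveI : ExpChar B' p := ExpChar.prime hp
  have hA0 : (p : A) = 0 := CharP.cast_eq_zero A p
  have hB0 : (p : B) = 0 := CharP.cast_eq_zero B p
  have hi : Groth.Agent.WeakNorm.UH i := Groth.Agent.Perfn.uh_of_pow i hA0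
    (fun s => by obtain ⟨n, a, h⟩ := IsPRadical.pow_mem i p s; exact ⟨n, a, h.symm⟩)
    (fun a ha => by
      obtain ⟨n, hn⟩ := mem_pNilradical.1 (IsPRadical.ker_le i p (RingHom.mem_ker.mpr ha))
      exact ⟨_, hn⟩)
  have hj : Groth.Agent.WeakNorm.UH j := Groth.Agent.Perfn.uh_of_pow j hB0
    (fun s => by obtain ⟨n, a, h⟩ := IsPRadical.pow_mem j p s; exact ⟨n, a, h.symm⟩)
    (fun a ha => by
      obtain ⟨n, hn⟩ := mem_pNilradical.1 (IsPRadical.ker_le j p (RingHom.mem_ker.mpr ha))
      exact ⟨_, hn⟩)
  constructor
  · intro h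
    have h' : Groth.Agent.WeakNorm.UH φ' := Groth.Agent.WeakNorm.UH.of_comp hi (hφ ▸ Groth.Agent.WeakNorm.UH.comp (show Groth.Agent.WeakNorm.UH φ from h) hj)
    haveI : _root_.IsReduced B' := Groth.Agent.Perfn.isReduced_of_bij hp.one_lt
      (PerfectRing.bijective_frobenius (R := B') (p := p))
    exact Groth.Agent.Perfn.bijective_of_uh (CharP.cast_eq_zero A' p)
      (PerfectRing.bijective_frobenius (R := A') (p := p)) φ' h'
  · intro h
    refine Groth.Agent.Perfn.uh_of_pow φ hA0 (fun b => ?_) (fun a ha => ?_)
    · obtain ⟨a', ha'⟩ := h.2 (j b)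
      obtain ⟨n, a, hn⟩ := IsPRadical.pow_mem i p a'
      have h1 : j (b ^ p ^ n - φ a) = 0 := by
        rw [map_sub, map_pow, ← ha', ← map_pow, ← hn, sub_eq_zero]
        exact RingHom.congr_fun hφ a
      obtain ⟨m, hm⟩ := mem_pNilradical.1 (IsPRadical.ker_le j p (RingHom.mem_ker.mpr h1))
      refine ⟨n + m, a ^ p ^ m, ?_⟩
      rw [Groth.Agent.Perfn.sub_pow_pow hB0, sub_eq_zero, ← pow_mul, ← pow_add] at hm
      rw [hm, map_pow]
    · have h1 : φ' (i a) = 0 := by
        rw [← RingHom.comp_apply, hφ, RingHom.comp_apply, ha, map_zero]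
      obtain ⟨n, hn⟩ := mem_pNilradical.1 (IsPRadical.ker_le i p
        (RingHom.mem_ker.mpr (h.1 (h1.trans (map_zero φ').symm))))
      exact ⟨_, hn⟩

end Groth.Agent.S14254
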