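import Groth.Statements.S14256
import Mathlib

set_option autoImplicit false
universe u
open FrobAlg

namespace Groth.Agent.S14256

/-- Let p be a prime, φ : A → B a map of commutative rings of characteristic p, i : A → A' and j : B →
B' perfect closures (A', B' perfect rings of characteristic p, every element of A' resp. B' has a
p^n-th power in the image of i resp. j, the kernels of i and j consist of nilpotent elements), and
φ' : A' → B' the induced map, φ' ∘ i = j ∘ φ. Then φ is integral if and only if φ' is integral. (The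
published statement is that a morphism of schemes over the prime field is integral exactly when its
perfection is; this row is its affine case, to which the published proof reduces.) -/
theorem result (p : ℕ) [Fact p.Prime]
    {A B A' B' : Type u} [CommRing A] [CommRing B] [CommRing A'] [CommRing B']
    [CharP A p] [CharP B p] [CharP A' p] [CharP B' p] [PerfectRing A' p] [PerfectRing B' p]
    (φ : A →+* B) (i : A →+* A') (j : B →+* B') [IsPerfectClosure i p] [IsPerfectClosure j p]
    (φ' : A' →+* B') (hφ : φ'.comp i = j.comp φ) : φ.IsIntegral ↔ φ'.IsIntegral := by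
  have hp : p ≠ 0 := (Fact.out : p.Prime).ne_zero
  constructor
  · intro hint b'
    obtain ⟨n, b, hb⟩ := IsPRadical.pow_mem j p b'
    obtain ⟨g, hg, hg0⟩ := hint b
    have h1 : φ'.IsIntegralElem (j b) := ⟨g.map i, hg.map i, by
      rw [Polynomial.eval₂_map, hφ, ← Polynomial.hom_eval₂, hg0, map_zero]⟩
    letI := φ'.toAlgebra
    exact IsIntegral.of_pow (pow_pos (Nat.pos_of_ne_zero hp) n) (show IsIntegral A' (b' ^ p ^ n) from hb ▸ h1)
  · intro hint b
    rcases subsingleton_or_nontrivial A' with hA | hA
    · obtain ⟨n, hn⟩ := mem_pNilradical.mp (IsPRadical.ker_le i p (RingHom.mem_ker.mpr (Subsingleton.elim (i 1) 0)))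
      rw [one_pow] at hn
      haveI : Subsingleton B := subsingleton_of_zero_eq_one (by rw [← map_one φ, hn, map_zero])
      rw [Subsingleton.elim b 0]
      exact φ.isIntegralElem_zero
    obtain ⟨g, hg, hg0⟩ := hint (j b)
    have hlift : ∀ k : ℕ, ∃ N : ℕ, g.coeff k ^ p ^ N ∈ i.range := fun k ↦ by
      obtain ⟨N, a, ha⟩ := IsPRadical.pow_mem i p (g.coeff k)
      exact ⟨N, a, ha⟩
    choose N hN using hlift
    let M := (Finset.range (g.natDegree + 1)).sup N
    have hM : (g.map (iterateFrobenius A' p M)) ∈ Polynomial.lifts i := (Polynomial.lifts_iff_coeff_lifts _).mpr fun k ↦ by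
      rw [Polynomial.coeff_map, iterateFrobenius_def]
      by_cases hk : k ∈ Finset.range (g.natDegree + 1)
      · obtain ⟨c, hc⟩ : ∃ c, M = N k + c := Nat.exists_eq_add_of_le (Finset.le_sup hk)
        rw [hc, pow_add, pow_mul]
        obtain ⟨a, ha⟩ := hN k
        exact ⟨a ^ p ^ c, by rw [map_pow, ha]⟩
      · rw [Polynomial.coeff_eq_zero_of_natDegree_lt (by simpa [Nat.lt_succ_iff] using hk), zero_pow (pow_ne_zero _ hp)]
        exact ⟨0, map_zero i⟩
    obtain ⟨q, hq, -, hqm⟩ := Polynomial.lifts_and_degree_eq_and_monic hM (hg.map _)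
    have h2 : j (q.eval₂ φ (b ^ p ^ M)) = 0 := by
      rw [Polynomial.hom_eval₂, ← hφ, ← Polynomial.eval₂_map, hq, Polynomial.eval₂_map, map_pow]
      have hc : φ'.comp (iterateFrobenius A' p M) = (iterateFrobenius B' p M).comp φ' :=
        RingHom.ext fun a ↦ by simp [iterateFrobenius_def]
      rw [hc, ← iterateFrobenius_def, ← Polynomial.hom_eval₂, hg0, map_zero]
    obtain ⟨r, hr⟩ := mem_pNilradical.mp (IsPRadical.ker_le j p (RingHom.mem_ker.mpr h2))
    letI := φ.toAlgebra
    refine IsIntegral.of_pow (pow_pos (Nat.pos_of_ne_zero hp) M) ⟨q ^ p ^ r, hqm.pow _, ?_⟩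
    rw [Polynomial.eval₂_pow]
    exact hr

end Groth.Agent.S14256
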