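import Groth.Statements.S14257
import Groth.Agent.Perfn.Etale

set_option autoImplicit false
universe u
open TensorProduct
open FrobAlg

namespace Groth.Agent.S14257

/-- Let p be a prime, A a commutative ring of characteristic p, B an etale A-algebra of characteristic
p, A → A' and B → B' perfect closures (A', B' perfect rings of characteristic p, every element of A'
resp. B' has a p^n-th power in the image of A resp. B, and the structure maps have kernels
consisting of nilpotent elements), B' viewed as an A-algebra through B, and φ' : A' → B' a map of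
A-algebras. Then the natural map A' ⊗_A B → B', a ⊗ b ↦ φ'(a) b, is bijective. (The published
statement is for an etale morphism X → Y of schemes over the prime field, where X_perf → X ×_Y
Y_perf is an isomorphism; this row is the affine case.) -/
theorem result (p : ℕ) [Fact p.Prime]
    (A B A' B' : Type u) [CommRing A] [CommRing B] [CommRing A'] [CommRing B']
    [CharP A p] [CharP B p] [CharP A' p] [CharP B' p] [PerfectRing A' p] [PerfectRing B' p]
    [Algebra A B] [Algebra.Etale A B] [Algebra A A'] [Algebra B B'] [Algebra A B'] [IsScalarTower A B B']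
    [IsPerfectClosure (algebraMap A A') p] [IsPerfectClosure (algebraMap B B') p]
    (φ' : A' →ₐ[A] B') :
    Function.Bijective (Algebra.TensorProduct.lift φ' (IsScalarTower.toAlgHom A B B')
      (fun a b => Commute.all (φ' a) (IsScalarTower.toAlgHom A B B' b))) := by
  classical

  haveI : ExpChar B' p := ExpChar.prime Fact.out
  haveI : ExpChar A' p := ExpChar.prime Fact.out
  let T := A' ⊗[A] B
  let ψ : T →ₐ[A] B' := Algebra.TensorProduct.lift φ' (IsScalarTower.toAlgHom A B B')
      (fun a b => Commute.all (φ' a) (IsScalarTower.toAlgHom A B B' b))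
  have hψr : ∀ b : B, ψ ((1 : A') ⊗ₜ[A] b) = algebraMap B B' b := fun b => by
    exact (Algebra.TensorProduct.lift_tmul _ _ _ 1 b).trans (by rw [map_one, one_mul]; rfl)
  show Function.Bijective ψ
  have hA0 : (p : A') = 0 := CharP.cast_eq_zero A' p
  have hT0 : (p : T) = 0 := Groth.Agent.Perfn.natCast_eq_zero_of_hom (algebraMap A' T) hA0
  have hT : Function.Bijective fun x : T => x ^ p := by
    haveI hcA : FrobSch.IsCharP (AlgebraicGeometry.Spec (CommRingCat.of A')) p := ⟨by
      rw [← map_natCast (AlgebraicGeometry.Scheme.ΓSpecIso (CommRingCat.of A')).inv.hom p, hA0,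
        map_zero]⟩
    let q := AlgebraicGeometry.Spec.map (CommRingCat.ofHom (algebraMap A' T))
    haveI : FrobSch.IsCharP (AlgebraicGeometry.Spec (CommRingCat.of T)) p := FrobSch.IsCharP.of_hom q p
    haveI : AlgebraicGeometry.Etale q :=
      (AlgebraicGeometry.HasRingHomProperty.Spec_iff (P := @AlgebraicGeometry.Etale)).mpr
        (RingHom.etale_algebraMap.mpr inferInstance)
    have hS : FrobSch.IsPerfect (AlgebraicGeometry.Spec (CommRingCat.of A')) p :=
      Groth.Agent.Perfn.isPerfect_Spec A' (PerfectRing.bijective_frobenius)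
    have h := Groth.Agent.Perfn.bijective_pow_of_isPerfect
      (Groth.Agent.Perfn.isPerfect_of_etale q hS) ⊤
    let e := (AlgebraicGeometry.Scheme.ΓSpecIso (CommRingCat.of T)).commRingCatIsoToRingEquiv
    have h1 : (fun x : T => x ^ p) = e ∘ (fun s => s ^ p) ∘ e.symm := by
      funext x
      show x ^ p = e (e.symm x ^ p)
      rw [map_pow e]
      exact congrArg (· ^ p) (e.apply_symm_apply x).symm
    rw [h1]
    exact e.bijective.comp (h.comp e.symm.bijective)
  have hpow : ∀ n, Function.Bijective fun x : T => x ^ p ^ n :=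
    Groth.Agent.Perfn.pow_pow_bijective hT
  have hinjB : ∀ (n : ℕ) (x y : B'), x ^ p ^ n = y ^ p ^ n → x = y := fun n x y h =>
    (Groth.Agent.Perfn.pow_pow_bijective (p := p)
      (PerfectRing.bijective_frobenius (R := B') (p := p)) n).1 h
  have key : ∀ t : T, ∃ (n : ℕ) (b : B), t ^ p ^ n = (1 : A') ⊗ₜ[A] b := by
    intro t
    induction t using TensorProduct.induction_on with
    | zero => exact ⟨0, 0, by simp⟩
    | tmul a' b =>
      obtain ⟨n, a, ha⟩ := IsPRadical.pow_mem (algebraMap A A') p a'
      refine ⟨n, a • b ^ p ^ n, ?_⟩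
      rw [Algebra.TensorProduct.tmul_pow, ← ha, TensorProduct.tmul_smul, TensorProduct.smul_tmul',
        Algebra.algebraMap_eq_smul_one]
    | add x y hx hy =>
      obtain ⟨n, b, hb⟩ := hx
      obtain ⟨m, c, hc⟩ := hy
      refine ⟨n + m, b ^ p ^ m + c ^ p ^ n, ?_⟩
      haveI : ExpChar T p := by
        rcases subsingleton_or_nontrivial T with h | h
        · exact absurd (Subsingleton.elim (0 : T) 1) (by
            intro h0
            have := congrArg ψ h0
            rw [map_zero, map_one] at this
            haveI hn : Nontrivial B' := CharP.nontrivial_of_char_ne_one (v := p) (Fact.out : p.Prime).ne_one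
            exact zero_ne_one this)
        · haveI : CharP T p := (CharP.charP_iff_prime_eq_zero Fact.out).mpr hT0
          exact ExpChar.prime Fact.out
      rw [add_pow_expChar_pow x y p (n + m), pow_add, pow_mul, hb, mul_comm (p ^ n), pow_mul, hc,
        Algebra.TensorProduct.tmul_pow, Algebra.TensorProduct.tmul_pow, one_pow, one_pow,
        TensorProduct.tmul_add]
  constructor
  · refine (injective_iff_map_eq_zero ψ).mpr fun t ht => ?_
    obtain ⟨n, b, hb⟩ := key t
    have hb0 : algebraMap B B' b = 0 := by
      rw [← hψr, ← hb, map_pow, ht, zero_pow (pow_ne_zero n (Fact.out : p.Prime).ne_zero)]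
    obtain ⟨m, hm⟩ : ∃ m, b ^ p ^ m = 0 := by
      haveI : ExpChar B p := ExpChar.prime Fact.out
      exact mem_pNilradical.1 (IsPRadical.ker_le (algebraMap B B') p (RingHom.mem_ker.mpr hb0))
    refine (hpow (n + m)).1 ?_
    show t ^ p ^ (n + m) = 0 ^ p ^ (n + m)
    rw [pow_add, pow_mul, hb, Algebra.TensorProduct.tmul_pow, hm, TensorProduct.tmul_zero,
      zero_pow (mul_ne_zero (pow_ne_zero n (Fact.out : p.Prime).ne_zero)
        (pow_ne_zero m (Fact.out : p.Prime).ne_zero))]
  · intro s
    obtain ⟨n, b, hb⟩ := IsPRadical.pow_mem (algebraMap B B') p s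
    obtain ⟨r, hr⟩ := (hpow n).2 ((1 : A') ⊗ₜ[A] b)
    refine ⟨r, hinjB n _ _ ?_⟩
    rw [← map_pow, ← hb, ← hψr]
    exact congrArg ψ hr

end Groth.Agent.S14257
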