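import Groth.Statements.S14262
import Mathlib.RingTheory.Flat.EquationalCriterion
import Mathlib.FieldTheory.Perfect

set_option autoImplicit false
universe u
open FrobAlg

namespace Groth.Agent.S14262

/-- Let p be a prime, A a perfect ring of characteristic p and f ∈ A. The radical of the principal ideal
(f) — equivalently the ideal generated by all p^n-th roots of f, n ≥ 0 — is a flat A-module. -/
theorem result (p : ℕ) [Fact p.Prime] (A : Type u) [CommRing A]
    [CharP A p] [PerfectRing A p] (f : A) :
    Module.Flat A ((Ideal.span {f}).radical) := by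
  refine Module.Flat.of_forall_isTrivialRelation fun {l a x} hrel => ?_
  choose k hk using fun i => Ideal.mem_radical_iff.1 (x i).2
  set n : ℕ := ∑ i, k i with hn
  have hp : 1 < p := (Fact.out : p.Prime).one_lt
  let g := (iterateFrobeniusEquiv A p n).symm f
  let g' := (frobeniusEquiv A p).symm g
  have hg : g' ^ p = g := frobeniusEquiv_symm_pow_p A p g
  have hg' : g' ∈ (Ideal.span {f}).radical := ⟨p ^ (n + 1), Ideal.mem_span_singleton.2 (dvd_of_eq (by
    rw [pow_succ', pow_mul, hg]
    exact ((iterateFrobeniusEquiv A p n).apply_symm_apply f).symm))⟩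
  have hb : ∀ i, ∃ b, (x i : A) = g' ^ p * b := fun i => by
    have h1 : (x i : A) ^ (p ^ n) ∈ Ideal.span {f} :=
      Ideal.pow_mem_of_pow_mem _ (hk i) (((Finset.single_le_sum (fun j _ => Nat.zero_le (k j))
        (Finset.mem_univ i)).trans hn.ge).trans (Nat.lt_pow_self hp).le)
    obtain ⟨e, he⟩ := Ideal.mem_span_singleton'.1 h1
    refine ⟨(iterateFrobeniusEquiv A p n).symm e, (iterateFrobeniusEquiv A p n).injective ?_⟩
    rw [hg, map_mul, RingEquiv.apply_symm_apply, RingEquiv.apply_symm_apply]
    exact he.symm.trans (mul_comm _ _)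
  choose b hb using hb
  have hc : g' ^ p * ∑ i, a i * b i = 0 := by
    have h := congrArg Subtype.val hrel
    simp only [Submodule.coe_sum, Submodule.coe_smul, smul_eq_mul, ZeroMemClass.coe_zero] at h
    rw [← h, Finset.mul_sum]
    exact Finset.sum_congr rfl fun i _ => by rw [hb]; ring
  obtain ⟨d, hd⟩ := (bijective_frobenius A p).2 (∑ i, a i * b i)
  rw [frobenius_def] at hd
  have hz : g' * d = 0 := injective_pow_p A p (by
    rw [mul_pow, hd, hc, zero_pow (by omega)])
  refine ⟨1, fun i _ => g' ^ (p - 1) * b i, fun _ => ⟨g', hg'⟩, fun i => Subtype.ext ?_, fun _ => ?_⟩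
  · simp only [Finset.univ_unique, Finset.sum_singleton, SetLike.val_smul, smul_eq_mul]
    rw [hb i, mul_right_comm, ← pow_succ, Nat.sub_add_cancel hp.le]
  · calc ∑ i, a i * (g' ^ (p - 1) * b i) = g' ^ (p - 1) * ∑ i, a i * b i := by
          rw [Finset.mul_sum]; exact Finset.sum_congr rfl fun i _ => by ring
      _ = g' ^ (p - 2) * d ^ (p - 1) * (g' * d) := by
          obtain ⟨q, hq⟩ : ∃ q, p = q + 2 := ⟨p - 2, by omega⟩
          rw [← hd, show p - 1 = q + 1 by omega, show p - 2 = q by omega, hq]
          ring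
      _ = 0 := by rw [hz, mul_zero]

end Groth.Agent.S14262
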