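import Groth.Statements.S14266
import Groth.Agent.DTenMon.BC
import Groth.Agent.DTenMon.DivisorD
import Groth.Agent.DTenPC.EvalTen
import Groth.Agent.DRingKP.Tor


set_option autoImplicit false
universe u
open CategoryTheory CategoryTheory.Limits MonoidalCategory
attribute [local instance] HasDerivedCategory.standard
open DTen

namespace Groth.Agent.S14266

/-- For a commutative ring `R`, a flat `R`-algebra `R'`, an object `K` of `D(R)` that is pseudo-coherent
(isomorphic to a bounded above complex of finite free modules) and an object `M` of `D^+(R)` (its
cohomology vanishes below some degree `n`), the base change morphism `RHom_R(K, M) ⊗^L_R R' ⟶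
RHom_{R'}(K ⊗^L_R R', M ⊗^L_R R')` in `D(R')` (along the structure map `R → R'`) is an isomorphism.
The invertibility of the canonical comparison `RHom_{R'}(K ⊗^L_R R', M ⊗^L_R R')|_R ⟶ RHom_R(K, (M
⊗^L_R R')|_R)`, through whose inverse the morphism is defined, is carried as a hypothesis. (The
existence of the derived tensor products on `D(R)` and `D(R')`, of the internal homs `RHom`, of
derived base change and of the restriction-of-scalars comparison for the derived tensor product,
with the invertibility of the latter's second leg, are assumed as hypotheses; they hold for every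
ring map.) -/
theorem result (R R' : Type u) [CommRing R] [CommRing R'] [Algebra R R']
    [Module.Flat R R']
    [DTen.HasLTen R] [DTen.HasLTen R'] [DTen.HasRHom R] [DTen.HasRHom R'] [DTen.HasLBase (algebraMap R R')]
    [DTen.HasResTen (algebraMap R R')] [DTen.ResLegIso (algebraMap R R')] (K M : Dual.D R)
    [IsIso (DTen.rhomBC (algebraMap R R') K ((DTen.LBase (algebraMap R R')).obj M))]
    (hK : DRing.IsPseudoCoherent' R K) (n : ℤ) (hM : DerivedCategory.IsGE M n) :
    IsIso (DTen.bcRHom (algebraMap R R') K M) := by
  have := DTenLib.hasLTen₃ (A := R)
  have := DTenLib.hasLTen₃ (A := R')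
  have := DTenMon.isSymMonoidal (A := R)
  have := DTenMon.isSymMonoidal (A := R')
  refine DTenMon.isIso_bcRHom_of_evalTen (algebraMap R R') K M ?_
  exact DTenPC.isIso_evalTen _ K M (DRingKP.amp_of_iso ((DTenMon.rSM R').symm ≪≫
    (DTenMon.G₀ R R').mapIso ((DerivedCategory.singleFunctorIsoCompQ (ModuleCat.{u} R') 0).app (ModuleCat.of R' R')))
    ((DRingKP.amp_zero_iff_flat R').2 inferInstance)) hK n hM

end Groth.Agent.S14266
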