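import Groth.Statements.S14270
import Groth.Agent.VdimThree.Extend
import Groth.Agent.VdimThree.Complete
import Groth.Agent.S14269

set_option autoImplicit false
universe u
open Pi1

namespace Groth.Agent.S14270

open AlgebraicGeometry CategoryTheory CategoryTheory.Limits in
/-- Let A be a Noetherian local ring of virtual dimension at least 3, expressed through a presentation
of the adic completion of A as a quotient S/I of a complete regular local ring S of Krull dimension
d by an ideal I generated by a finite set of at most d - 3 elements. Then restriction from finite
etale covers of Spec A to finite etale covers of the punctured spectrum is an equivalence of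
categories (Zariski-Nagata purity for rings of virtual dimension at least 3). (The published
statement also records the isomorphism of etale fundamental groups, which is the usual reformulation
of the equivalence and is not restated here.) -/
theorem result (A : Type u) [CommRing A] [IsNoetherianRing A] [IsLocalRing A]
    (S : Type u) [CommRing S] [IsRegularLocalRing S] [IsAdicComplete (IsLocalRing.maximalIdeal S) S]
    (d : ℕ) (hd : ringKrullDim S = d) (s : Finset S) (hs : s.card + 3 ≤ d)
    (e : AdicCompletion (IsLocalRing.maximalIdeal A) A ≃+* S ⧸ Ideal.span (s : Set S)) :
    (FEt.restrict (FEt.puncturedSpec A).ι).IsEquivalence := by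
  obtain ⟨⟨hfull, hfaith⟩, -⟩ := Groth.Agent.S14269.result A S d hd s (by omega) e
  have hspan : Ideal.ofList s.toList = Ideal.span (s : Set S) := by
    simp only [Ideal.ofList, Finset.mem_toList]; rfl
  let e' := e.trans (Ideal.quotEquivOfEq hspan.symm)
  haveI : IsLocalRing (S ⧸ Ideal.ofList s.toList) := e'.isLocalRing
  have hpur : FEt.PurityHolds (AdicCompletion (IsLocalRing.maximalIdeal A) A) :=
    Groth.Agent.LefEssSurj.purityHolds_congr e'
      (Groth.Agent.VdimThree.purityHolds_quotient hd s.toList (by rw [Finset.length_toList]; exact hs))
  haveI := Groth.Agent.VdimThree.essSurj_pullback_snd A hpur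
  let U := FEt.puncturedSpec A
  let g := Spec.map (CommRingCat.ofHom (algebraMap A (AdicCompletion (IsLocalRing.maximalIdeal A) A)))
  haveI : (FEt.restrict (FEt.puncturedSpec A).ι).EssSurj := ⟨fun V =>
    Groth.Agent.VdimThree.exists_extension_of_completion A V _
      ((FEt.restrict (pullback.snd U.ι g)).objObjPreimageIso ((FEt.restrict (pullback.fst U.ι g)).obj V))⟩
  exact { }

end Groth.Agent.S14270
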