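import Groth.Statements.S14272
import Groth.Agent.SectExtU.Extend

set_option autoImplicit false
set_option linter.style.haveILetI false
set_option backward.isDefEq.respectTransparency false
universe u
open FlatPur

open Groth.Agent

namespace Groth.Agent.S14272

open AlgebraicGeometry CategoryTheory CategoryTheory.Limits in
/-- Let X be a scheme and U an open subscheme whose inclusion is quasi-compact, such that for every
point z of X outside U the maximal ideal of O_{X,z} contains two elements forming a weakly regular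
sequence on that local ring. Then for every X-scheme Y that is affine and of finite presentation
over X, the restriction map from X-sections of Y to U-sections of Y is bijective: every morphism U
-> Y over X extends uniquely to a section X -> Y. -/
theorem result (X : Scheme.{u}) (U : X.Opens) [QuasiCompact U.ι]
    (hZ : ∀ z : X, z ∉ U → ∃ a b : X.presheaf.stalk z, a ∈ IsLocalRing.maximalIdeal (X.presheaf.stalk z) ∧
      b ∈ IsLocalRing.maximalIdeal (X.presheaf.stalk z) ∧ RingTheory.Sequence.IsWeaklyRegular (X.presheaf.stalk z) [a, b])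
    (Y : Scheme.{u}) (f : Y ⟶ X) [IsAffineHom f] [LocallyOfFinitePresentation f]
    (t : (U : Scheme.{u}) ⟶ Y) (ht : t ≫ f = U.ι) :
    ∃! s : X ⟶ Y, s ≫ f = 𝟙 X ∧ U.ι ≫ s = t := by
  classical
  have hreg : ∀ z : X, z ∉ U → ∃ a ∈ IsLocalRing.maximalIdeal (X.presheaf.stalk z),
      IsSMulRegular (X.presheaf.stalk z) a := fun z hz => by
    obtain ⟨a, b, ha, -, hab⟩ := hZ z hz
    exact ⟨a, ha, ((RingTheory.Sequence.isWeaklyRegular_cons_iff _ _ _).1 hab).1⟩
  -- maps agreeing over `U` agree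
  have huniq : ∀ {P : Scheme.{u}} (q : P ⟶ X) [IsOpenImmersion q] (g₁ g₂ : P ⟶ Y), g₁ ≫ f = q → g₂ ≫ f = q →
      (q ⁻¹ᵁ U).ι ≫ g₁ = (q ⁻¹ᵁ U).ι ≫ g₂ → g₁ = g₂ := by
    intro P q _ g₁ g₂ h₁ h₂ h
    haveI : QuasiCompact (q ⁻¹ᵁ U).ι := MorphismProperty.of_isPullback (isPullback_morphismRestrict q U) inferInstance
    refine SectExtU.ext_of_dense (SectExtU.isSchematicallyDense_of_regular fun p hp => ?_) f (h₁.trans h₂.symm) h
    obtain ⟨a, ha, hra⟩ := hreg (q p) hp
    let σ := (asIso (q.stalkMap p)).commRingCatIsoToRingEquiv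
    refine ⟨σ a, map_nonunit (q.stalkMap p).hom a ha, fun m m' hm => σ.symm.injective (hra ?_)⟩
    have h3 := congrArg σ.symm hm
    simpa [smul_eq_mul, map_mul] using h3
  -- the extension over an affine open
  have hloc : ∀ W : X.affineOpens, ∃ σ : (W.1 : Scheme.{u}) ⟶ Y, σ ≫ f = W.1.ι ∧
      ∀ {Z : Scheme.{u}} (α : Z ⟶ W.1) (β : Z ⟶ U), α ≫ W.1.ι = β ≫ U.ι → α ≫ σ = β ≫ t := by
    rintro ⟨W, hW⟩
    have hY : IsAffineOpen (f ⁻¹ᵁ W) := hW.preimage f
    let T : ((W ⊓ U : X.Opens) : Scheme.{u}) ⟶ Y := X.homOfLE inf_le_right ≫ t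
    have hTf : T ≫ f = (W ⊓ U).ι := by simp [T, ht]
    have htop : (⊤ : ((W ⊓ U : X.Opens) : Scheme.{u}).Opens) ≤ T ⁻¹ᵁ (f ⁻¹ᵁ W) := fun x _ => by
      change f (T x) ∈ W
      rw [← Scheme.Hom.comp_apply, hTf]
      exact x.2.1
    let ψ : Γ(Y, f ⁻¹ᵁ W) ⟶ Γ(X, W ⊓ U) := T.appLE (f ⁻¹ᵁ W) ⊤ htop ≫ (W ⊓ U).topIso.hom
    have hqc : IsCompact (W ⊓ U : Set X) := by
      have h := (U.ι.isCompact_preimage hW.isCompact).image U.ι.continuous
      convert h using 1
      ext y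
      exact ⟨fun hy => ⟨⟨y, hy.2⟩, hy.1, rfl⟩, by rintro ⟨z, hz, rfl⟩; exact ⟨hz, z.2⟩⟩
    have hbij : Function.Bijective (X.presheaf.map (homOfLE (inf_le_left : W ⊓ U ≤ W)).op).hom :=
      ⟨(injective_iff_map_eq_zero _).2 fun s hs => SectExtU.eq_zero_of_regular hreg s hs,
        fun s => SectExtU.exists_extend_section hZ hW hqc s⟩
    haveI : IsIso (X.presheaf.map (homOfLE (inf_le_left : W ⊓ U ≤ W)).op) :=
      (ConcreteCategory.isIso_iff_bijective _).2 hbij
    let φ : Γ(Y, f ⁻¹ᵁ W) ⟶ Γ(X, W) := ψ ≫ inv (X.presheaf.map (homOfLE (inf_le_left : W ⊓ U ≤ W)).op)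
    have hcomp : f.app W ≫ φ = 𝟙 _ := by
      rw [← cancel_mono (X.presheaf.map (homOfLE (inf_le_left : W ⊓ U ≤ W)).op)]
      simp only [φ, ψ, Category.assoc, IsIso.inv_hom_id, Category.comp_id, Category.id_comp]
      rw [Scheme.Hom.app_eq_appLE, ← Category.assoc, Scheme.Hom.appLE_comp_appLE]
      simp only [hTf]
      simp [Scheme.Hom.appLE, ← Functor.map_comp]
      rfl
    refine ⟨W.toSpecΓ ≫ Spec.map φ ≫ hY.fromSpec, ?_, ?_⟩
    · rw [Category.assoc, Category.assoc, ← IsAffineOpen.SpecMap_appLE_fromSpec f hW hY le_rfl,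
        ← Spec.map_comp_assoc, Scheme.Hom.appLE_eq_app, hcomp, Spec.map_id, Category.id_comp,
        IsAffineOpen.toSpecΓ_fromSpec]
    · intro Z α β hαβ
      have hZW : Set.range (α ≫ W.ι) ⊆ Set.range (W ⊓ U).ι := by
        rw [Scheme.Opens.range_ι]
        rintro _ ⟨z, rfl⟩
        refine ⟨(α z).2, ?_⟩
        rw [hαβ]
        exact (β z).2
      let c : Z ⟶ ((W ⊓ U : X.Opens) : Scheme.{u}) := IsOpenImmersion.lift (W ⊓ U).ι (α ≫ W.ι) hZW
      have hc : c ≫ (W ⊓ U).ι = α ≫ W.ι := IsOpenImmersion.lift_fac _ _ _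
      have hα : α = c ≫ X.homOfLE inf_le_left := by
        rw [← cancel_mono W.ι, Category.assoc, Scheme.homOfLE_ι, hc]
      have hβ : β = c ≫ X.homOfLE inf_le_right := by
        rw [← cancel_mono U.ι, Category.assoc, Scheme.homOfLE_ι, hc, hαβ]
      rw [hα, hβ, Category.assoc, Category.assoc]
      congr 1
      rw [← Scheme.Opens.toSpecΓ_SpecMap_presheaf_map_assoc _ _ inf_le_left, ← Spec.map_comp_assoc]
      simp only [φ, Category.assoc, IsIso.inv_hom_id, Category.comp_id]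
      change _ = T
      have key : ∀ {P Q : Scheme.{u}} (g : P ⟶ Q) {O : Q.Opens} (hO : IsAffineOpen O) (hle : ⊤ ≤ g ⁻¹ᵁ O),
          P.toSpecΓ ≫ Spec.map (g.appLE O ⊤ hle) ≫ hO.fromSpec = g := by
        intro P Q g O hO hle
        haveI : IsIso (⊤ : P.Opens).ι := inferInstanceAs (IsIso P.topIso.hom)
        rw [← cancel_epi (⊤ : P.Opens).ι, ← Category.assoc, ← Scheme.Opens.toSpecΓ_top,
          Scheme.Opens.toSpecΓ_SpecMap_appLE_assoc, IsAffineOpen.toSpecΓ_fromSpec, Scheme.Hom.resLE_comp_ι]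
      rw [show ψ = T.appLE (f ⁻¹ᵁ W) ⊤ htop ≫ (W ⊓ U).topIso.hom from rfl, Spec.map_comp]
      simp only [Scheme.Opens.toSpecΓ, Category.assoc, ← Spec.map_comp_assoc, Iso.hom_inv_id, Category.comp_id]
      exact key T hY htop
  choose σ hσ hσt using hloc
  let 𝒰 := X.openCoverOfIsOpenCover (fun W : X.affineOpens => W.1) (iSup_affineOpens_eq_top X)
  have hcompat : ∀ a b, pullback.fst (𝒰.f a) (𝒰.f b) ≫ σ a = pullback.snd (𝒰.f a) (𝒰.f b) ≫ σ b := by
    intro a b
    let q := pullback.fst (𝒰.f a) (𝒰.f b) ≫ a.1.ι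
    have hq : q = pullback.snd (𝒰.f a) (𝒰.f b) ≫ b.1.ι := pullback.condition (f := 𝒰.f a) (g := 𝒰.f b)
    haveI : IsOpenImmersion q := inferInstanceAs (IsOpenImmersion (pullback.fst (𝒰.f a) (𝒰.f b) ≫ 𝒰.f a))
    refine huniq q _ _ (by rw [Category.assoc, hσ]) (by rw [Category.assoc, hσ, hq]) ?_
    rw [← Category.assoc, ← Category.assoc, hσt a _ (q ∣_ U) (by rw [morphismRestrict_ι, Category.assoc]),
      hσt b _ (q ∣_ U) (by rw [morphismRestrict_ι, Category.assoc, ← hq])]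
  refine ⟨𝒰.glueMorphisms σ hcompat, ⟨?_, ?_⟩, ?_⟩
  · refine 𝒰.hom_ext _ _ fun a => ?_
    rw [Scheme.Cover.ι_glueMorphisms_assoc, Category.comp_id]
    exact hσ a
  · refine Scheme.Cover.hom_ext (𝒰.pullback₁ U.ι) _ _ fun a => ?_
    change pullback.fst U.ι (𝒰.f a) ≫ U.ι ≫ _ = pullback.fst U.ι (𝒰.f a) ≫ t
    rw [pullback.condition_assoc, Scheme.Cover.ι_glueMorphisms]
    exact hσt a _ _ pullback.condition.symm
  · rintro s ⟨hs, hst⟩
    refine SectExtU.ext_of_dense (SectExtU.isSchematicallyDense_of_regular hreg) f (hs.trans ?_) ?_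
    · symm
      refine 𝒰.hom_ext _ _ fun a => ?_
      rw [Scheme.Cover.ι_glueMorphisms_assoc, Category.comp_id]
      exact hσ a
    · rw [hst]
      symm
      refine Scheme.Cover.hom_ext (𝒰.pullback₁ U.ι) _ _ fun a => ?_
      change pullback.fst U.ι (𝒰.f a) ≫ U.ι ≫ _ = pullback.fst U.ι (𝒰.f a) ≫ t
      rw [pullback.condition_assoc, Scheme.Cover.ι_glueMorphisms]
      exact hσt a _ _ pullback.condition.symm

end Groth.Agent.S14272
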