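import Groth.Statements.S14276
import Groth.Agent.Torsor.Descent
import Groth.Agent.SmSect.Basic

set_option autoImplicit false
set_option backward.isDefEq.respectTransparency false
set_option backward.isDefEq.respectTransparency.types false
universe u
open CategoryTheory AlgebraicGeometry
open NonAbH1

namespace Groth.Agent.S14276

/-- Let X be a scheme and G a group scheme over X which is smooth over X. Then every G-torsor for the
fppf topology is locally trivial for the étale topology on X. Here a torsor is an X-scheme with an
action of G which is a pseudo-torsor and acquires sections on the members of some fppf covering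
family of X, and the conclusion says that it acquires sections on the members of some étale covering
family of X. (The published statement is about torsors in the sense of fppf sheaves; this row states
it for torsors that are schemes.) -/
theorem result {X : Scheme.{u}}
    (G : Over X) [GrpObj G] [Smooth G.hom] (P : Over X) (a : AlgGrp.Action G P)
    (h : NonAbH1.IsTorsorFor Scheme.fppfPrecoverage a) :
    NonAbH1.IsLocallyTrivialFor Scheme.etalePrecoverage P := by
  have hf : NonAbH1.IsTorsorFor Scheme.fpqcPrecoverage a := by
    obtain ⟨h1, R, hR, hs⟩ := h
    exact ⟨h1, R, Scheme.fppfPrecoverage_le_fpqcPrecoverage _ hR, hs⟩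
  haveI : Smooth P.hom := Groth.Agent.Torsor.of_isTorsorFor hf (@Smooth : MorphismProperty Scheme.{u}) inferInstance
  haveI : Surjective P.hom := Groth.Agent.Torsor.surjective_of_isTorsorFor hf
  choose S' g s' hg hgs hsec using fun x : X => (by
    obtain ⟨p, hp⟩ := P.hom.surjective x
    obtain ⟨S', g, s', h1, h2, h3⟩ := Groth.Agent.SmSect.exists_etale_section P.hom p
    exact ⟨S', g, s', h1, h2.trans hp, h3⟩ :
      ∃ (S' : Scheme.{u}) (g : S' ⟶ X) (s' : S'), Etale g ∧ g s' = x ∧ ∃ h : S' ⟶ P.left, h ≫ P.hom = g)
  refine ⟨Presieve.ofArrows S' g, ?_, ?_⟩
  · rw [Scheme.etalePrecoverage, Scheme.ofArrows_mem_precoverage_iff]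
    exact ⟨fun x => ⟨x, s' x, hgs x⟩, hg⟩
  · rintro T f ⟨x⟩
    exact hsec x

end Groth.Agent.S14276
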