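import Groth.Statements.S14280
import Mathlib

set_option linter.style.haveILetI false

set_option autoImplicit false
universe u
open SpSeq

namespace Groth.Agent.S14280

/-- Let E^{p,q} (p, q ≥ 0) be finite-dimensional complex vector spaces each carrying an endomorphism Φ,
and suppose that for a natural number N and functions a, c ≥ 0 (real) and b, d (natural numbers) one
has E^{p,q} = 0 for q > N, |μ| ≤ a(q)c(p) for every eigenvalue μ of Φ on E^{p,q}, and dim E^{p,q} ≤
b(q)d(p). If Σ_p c(p)d(p) converges then the family of traces tr(Φ | E^{p,q}) is absolutely summable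
over all pairs (p, q). (The published statement takes a and b defined on {0, …, N} only; here they
are functions on all natural numbers, which changes nothing since E^{p,q} = 0 for q > N.) -/
theorem result
    (E : ℕ → ℕ → Type u) [∀ p q, AddCommGroup (E p q)] [∀ p q, Module ℂ (E p q)]
    [∀ p q, FiniteDimensional ℂ (E p q)] (Φ : ∀ p q, E p q →ₗ[ℂ] E p q)
    (N : ℕ) (a c : ℕ → ℝ) (b d : ℕ → ℕ) (ha : ∀ q, 0 ≤ a q) (hc : ∀ p, 0 ≤ c p)
    (h1 : ∀ p q, N < q → Subsingleton (E p q))
    (h2 : ∀ p q (μ : ℂ), Module.End.HasEigenvalue (Φ p q) μ → ‖μ‖ ≤ a q * c p)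
    (h3 : ∀ p q, Module.finrank ℂ (E p q) ≤ b q * d p)
    (hsum : Summable fun p : ℕ => c p * (d p : ℝ)) :
    Summable fun pq : ℕ × ℕ => ‖LinearMap.trace ℂ (E pq.1 pq.2) (Φ pq.1 pq.2)‖ := by
  have key : ∀ p q, ‖LinearMap.trace ℂ (E p q) (Φ p q)‖ ≤
      (if q ≤ N then a q * (b q : ℝ) else 0) * (c p * (d p : ℝ)) := by
    intro p q
    by_cases hq : q ≤ N
    · rw [if_pos hq, Module.End.trace_eq_sum_roots_charpoly_of_splits (IsAlgClosed.splits _)]
      have hcard : ((LinearMap.charpoly (Φ p q)).roots.card : ℝ) ≤ (b q : ℝ) * (d p : ℝ) := by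
        have := ((Φ p q).charpoly.card_roots').trans_eq (LinearMap.charpoly_natDegree (Φ p q))
        exact_mod_cast this.trans (h3 p q)
      refine (norm_multiset_sum_le _).trans ((Multiset.sum_le_card_nsmul _ (a q * c p) ?_).trans ?_)
      · intro x hx
        obtain ⟨μ, hμ, rfl⟩ := Multiset.mem_map.mp hx
        exact h2 p q μ ((Module.End.hasEigenvalue_iff_isRoot_charpoly _ μ).mpr
          (Polynomial.mem_roots'.mp hμ).2)
      · rw [Multiset.card_map, nsmul_eq_mul]
        calc _ ≤ (b q : ℝ) * (d p : ℝ) * (a q * c p) :=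
              mul_le_mul_of_nonneg_right hcard (mul_nonneg (ha q) (hc p))
          _ = _ := by ring
    · haveI := h1 p q (not_le.mp hq)
      rw [if_neg hq, zero_mul, Subsingleton.elim (Φ p q) 0, map_zero, norm_zero]
  refine Summable.of_nonneg_of_le (fun _ => norm_nonneg _) (fun pq => key pq.1 pq.2) ?_
  have hq : Summable fun q : ℕ => if q ≤ N then a q * (b q : ℝ) else 0 :=
    summable_of_ne_finset_zero (s := Finset.range (N + 1)) fun q hq => if_neg (by simpa [Nat.lt_succ_iff] using hq)
  have h := hsum.mul_of_nonneg hq (fun p => mul_nonneg (hc p) (Nat.cast_nonneg _))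
    (fun q => by split <;> [exact mul_nonneg (ha q) (Nat.cast_nonneg _); exact le_rfl])
  exact h.congr fun pq => mul_comm _ _

end Groth.Agent.S14280
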