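import Groth.Statements.S14285
import Groth.Agent.S11468
import Mathlib.RingTheory.Filtration
import Mathlib.RingTheory.AdicCompletion.Basic
import Mathlib.AlgebraicGeometry.Noetherian
import Mathlib.AlgebraicGeometry.Morphisms.Proper

set_option autoImplicit false
universe u
open CategoryTheory AlgebraicGeometry
open EllLift

namespace Groth.Agent.S14285


/-- The `n`-th thickening ring. -/
private abbrev Rn (R : Type u) [CommRing R] [IsLocalRing R] (n : ℕ) :=
  R ⧸ IsLocalRing.maximalIdeal R ^ (n + 1)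

/-- Γ of a thickening. -/
private lemma thickening_bijective (R : Type u) [CommRing R] [IsLocalRing R] [IsNoetherianRing R]
    (X X₀ : Scheme.{u}) (g : X ⟶ Spec (CommRingCat.of R)) [Flat g]
    (i : X₀ ⟶ X) (f₀ : X₀ ⟶ Spec (CommRingCat.of (R ⧸ IsLocalRing.maximalIdeal R)))
    (hsq : IsPullback i f₀ g
      (Spec.map (CommRingCat.ofHom (Ideal.Quotient.mk (IsLocalRing.maximalIdeal R)))))
    (h0 : Function.Bijective ((Scheme.ΓSpecIso (CommRingCat.of (R ⧸ IsLocalRing.maximalIdeal R))).inv ≫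
      f₀.appTop)) (n : ℕ) :
    Function.Bijective ((Scheme.ΓSpecIso (CommRingCat.of (Rn R n))).inv ≫
      (Limits.pullback.snd g (Spec.map (CommRingCat.ofHom
        (Ideal.Quotient.mk (IsLocalRing.maximalIdeal R ^ (n + 1)))))).appTop) := by
  classical
  have hne : IsLocalRing.maximalIdeal R ^ (n + 1) ≠ ⊤ := fun h =>
    (IsLocalRing.maximalIdeal.isMaximal R).ne_top
      (top_le_iff.mp (h ▸ Ideal.pow_le_self (Nat.succ_ne_zero n)))
  haveI : Nontrivial (Rn R n) := Ideal.Quotient.nontrivial_iff.2 hne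
  haveI : IsLocalRing (Rn R n) :=
    IsLocalRing.of_surjective' (Ideal.Quotient.mk _) Ideal.Quotient.mk_surjective
  have hmap : (IsLocalRing.maximalIdeal R).map
      (Ideal.Quotient.mk (IsLocalRing.maximalIdeal R ^ (n + 1))) =
      IsLocalRing.maximalIdeal (Rn R n) := by
    refine IsLocalRing.eq_maximalIdeal ?_
    rcases Ideal.map_eq_top_or_isMaximal_of_surjective
      (Ideal.Quotient.mk (IsLocalRing.maximalIdeal R ^ (n + 1))) Ideal.Quotient.mk_surjective
      (IsLocalRing.maximalIdeal.isMaximal R) with h | h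
    · exfalso
      obtain ⟨x, hx, hx1⟩ := (Ideal.mem_map_iff_of_surjective
        (Ideal.Quotient.mk (IsLocalRing.maximalIdeal R ^ (n + 1))) Ideal.Quotient.mk_surjective).1
        (h ▸ Submodule.mem_top : (1 : Rn R n) ∈ _)
      rw [← map_one (Ideal.Quotient.mk (IsLocalRing.maximalIdeal R ^ (n + 1))), Ideal.Quotient.eq] at hx1
      have h1 := Ideal.sub_mem _ hx (Ideal.pow_le_self (Nat.succ_ne_zero n) hx1)
      rw [sub_sub_cancel] at h1
      exact (IsLocalRing.maximalIdeal.isMaximal R).ne_top ((Ideal.eq_top_iff_one _).2 h1)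
    · exact h
  haveI : IsNoetherianRing (Rn R n) :=
    isNoetherianRing_of_surjective R (Rn R n) (Ideal.Quotient.mk _) Ideal.Quotient.mk_surjective
  haveI : IsArtinianRing (Rn R n) := by
    rw [isArtinianRing_iff_isNilpotent_maximalIdeal]
    refine ⟨n + 1, ?_⟩
    rw [← hmap, ← Ideal.map_pow, Ideal.map_quotient_self]
    rfl
  let e : (Rn R n ⧸ IsLocalRing.maximalIdeal (Rn R n)) ≃+* (R ⧸ IsLocalRing.maximalIdeal R) :=
    (Ideal.quotEquivOfEq hmap.symm).trans
      (DoubleQuot.quotQuotEquivQuotOfLE (Ideal.pow_le_self (Nat.succ_ne_zero n)))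
  let fac : CommRingCat.of (Rn R n) ⟶ CommRingCat.of (R ⧸ IsLocalRing.maximalIdeal R) :=
    CommRingCat.ofHom (Ideal.Quotient.factor (Ideal.pow_le_self (Nat.succ_ne_zero n)))
  let mn : CommRingCat.of R ⟶ CommRingCat.of (Rn R n) :=
    CommRingCat.ofHom (Ideal.Quotient.mk (IsLocalRing.maximalIdeal R ^ (n + 1)))
  let m0 : CommRingCat.of R ⟶ CommRingCat.of (R ⧸ IsLocalRing.maximalIdeal R) :=
    CommRingCat.ofHom (Ideal.Quotient.mk (IsLocalRing.maximalIdeal R))
  have hfac : mn ≫ fac = m0 := by ext x; rfl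
  have hw : i ≫ g = (f₀ ≫ Spec.map fac) ≫ Spec.map mn := by
    rw [Category.assoc, ← Spec.map_comp, hfac]; exact hsq.w
  let l : X₀ ⟶ Limits.pullback g (Spec.map mn) := Limits.pullback.lift i (f₀ ≫ Spec.map fac) hw
  have hsq' : IsPullback l f₀ (Limits.pullback.snd g (Spec.map mn)) (Spec.map fac) := by
    refine IsPullback.of_right (h₁₂ := Limits.pullback.fst g (Spec.map mn)) (h₂₂ := Spec.map mn)
      (v₁₃ := g) ?_ (Limits.pullback.lift_snd _ _ _) (IsPullback.of_hasPullback g (Spec.map mn))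
    rw [Limits.pullback.lift_fst, ← Spec.map_comp, hfac]
    exact hsq
  let e' : CommRingCat.of (Rn R n ⧸ IsLocalRing.maximalIdeal (Rn R n)) ≅
      CommRingCat.of (R ⧸ IsLocalRing.maximalIdeal R) := e.toCommRingCatIso
  have he : CommRingCat.ofHom (Ideal.Quotient.mk (IsLocalRing.maximalIdeal (Rn R n))) ≫ e'.hom =
      fac := by
    ext x
    rfl
  have hsq'' : IsPullback l (f₀ ≫ Spec.map e'.hom) (Limits.pullback.snd g (Spec.map mn))
      (Spec.map (CommRingCat.ofHom (Ideal.Quotient.mk (IsLocalRing.maximalIdeal (Rn R n))))) := by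
    refine hsq'.of_iso (Iso.refl _) (Iso.refl _) (Scheme.Spec.mapIso e'.op) (Iso.refl _)
      (by simp) (by simp) (by simp) ?_
    simp [← Spec.map_comp, he]
  haveI : Flat (Limits.pullback.snd g (Spec.map mn)) := inferInstance
  refine Groth.Agent.S11468.result (Rn R n) _ X₀ _ l _ hsq'' ?_
  have h1 : (Scheme.ΓSpecIso (CommRingCat.of (Rn R n ⧸ IsLocalRing.maximalIdeal (Rn R n)))).inv ≫
      (f₀ ≫ Spec.map e'.hom).appTop = e'.hom ≫
        (Scheme.ΓSpecIso (CommRingCat.of (R ⧸ IsLocalRing.maximalIdeal R))).inv ≫ f₀.appTop := by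
    rw [Scheme.Hom.comp_appTop, ← Category.assoc, ← Scheme.ΓSpecIso_inv_naturality, Category.assoc]
  rw [h1]
  refine h0.comp (ConcreteCategory.bijective_of_isIso e'.hom)

/-- A global section that dies on every thickening of the closed fibre of a proper morphism over a
Noetherian local ring is zero. -/
private lemma eq_zero_of_thickenings (R : Type u) [CommRing R] [IsLocalRing R] [IsNoetherianRing R]
    (X : Scheme.{u}) (g : X ⟶ Spec (CommRingCat.of R)) [IsProper g] (x : Γ(X, ⊤))
    (hx : ∀ n, (Limits.pullback.fst g (Spec.map (CommRingCat.ofHom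
        (Ideal.Quotient.mk (IsLocalRing.maximalIdeal R ^ (n + 1)))))).appTop x = 0) : x = 0 := by
  haveI : IsLocallyNoetherian X := LocallyOfFiniteType.isLocallyNoetherian g
  haveI : CompactSpace X := QuasiCompact.compactSpace_of_compactSpace g
  have hcl : ∀ p : X, g p = IsLocalRing.closedPoint R → X.presheaf.germ ⊤ p (TopologicalSpace.Opens.mem_top _) x = 0 := by
    intro p hp
    let φ : CommRingCat.of R ⟶ X.presheaf.stalk p := Spec.preimage (X.fromSpecStalk p ≫ g)
    have hφ : Spec.map φ = X.fromSpecStalk p ≫ g := Spec.map_preimage _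
    let J : Ideal (X.presheaf.stalk p) := (IsLocalRing.maximalIdeal R).map φ.hom
    have hJ : J ≠ ⊤ := by
      refine ne_top_of_le_ne_top (IsLocalRing.maximalIdeal.isMaximal _).ne_top
        (Ideal.map_le_iff_le_comap.2 ?_)
      have h1 : Spec.map φ (IsLocalRing.closedPoint (X.presheaf.stalk p)) =
          IsLocalRing.closedPoint R := by
        rw [hφ]; exact (congrArg g Scheme.fromSpecStalk_closedPoint).trans hp
      exact (congrArg PrimeSpectrum.asIdeal h1).ge
    have hmem : ∀ n : ℕ, X.presheaf.germ ⊤ p (TopologicalSpace.Opens.mem_top _) x ∈ J ^ (n + 1) := by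
      intro n
      let mk' : X.presheaf.stalk p ⟶ CommRingCat.of (X.presheaf.stalk p ⧸ J ^ (n + 1)) :=
        CommRingCat.ofHom (Ideal.Quotient.mk (J ^ (n + 1)))
      let mn : CommRingCat.of R ⟶ CommRingCat.of (Rn R n) :=
        CommRingCat.ofHom (Ideal.Quotient.mk (IsLocalRing.maximalIdeal R ^ (n + 1)))
      let ψ : CommRingCat.of (Rn R n) ⟶ CommRingCat.of (X.presheaf.stalk p ⧸ J ^ (n + 1)) :=
        CommRingCat.ofHom (Ideal.quotientMap (J ^ (n + 1)) φ.hom
          (Ideal.map_le_iff_le_comap.1 (Ideal.map_pow φ.hom _ (n + 1)).le))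
      have hψ : φ ≫ mk' = mn ≫ ψ := by ext r; rfl
      have hw : (Spec.map mk' ≫ X.fromSpecStalk p) ≫ g = Spec.map ψ ≫ Spec.map mn := by
        rw [Category.assoc, ← hφ, ← Spec.map_comp, ← Spec.map_comp, hψ]
      let l := Limits.pullback.lift (f := g) (g := Spec.map mn) _ _ hw
      have h2 : (Spec.map mk' ≫ X.fromSpecStalk p).appTop x = 0 := by
        rw [← Limits.pullback.lift_fst (f := g) (g := Spec.map mn) _ _ hw, Scheme.Hom.comp_appTop,
          CommRingCat.comp_apply, hx n, map_zero]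
      rw [Scheme.Hom.comp_appTop, Scheme.fromSpecStalk_appTop] at h2
      simp only [homOfLE_refl, op_id, CategoryTheory.Functor.map_id, Category.comp_id] at h2
      rw [Category.assoc, ← Scheme.ΓSpecIso_inv_naturality, CommRingCat.comp_apply,
        CommRingCat.comp_apply] at h2
      have h3 := (ConcreteCategory.bijective_of_isIso (Scheme.ΓSpecIso
        (CommRingCat.of (X.presheaf.stalk p ⧸ J ^ (n + 1)))).inv).1 (h2.trans (map_zero _).symm)
      exact Ideal.Quotient.eq_zero_iff_mem.1 h3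
    have h4 : X.presheaf.germ ⊤ p (TopologicalSpace.Opens.mem_top _) x ∈ ⨅ k : ℕ, J ^ k := by
      rw [Submodule.mem_iInf]
      intro k
      exact Ideal.pow_le_pow_right (Nat.le_succ k) (hmem k)
    rw [Ideal.iInf_pow_eq_bot_of_isLocalRing (I := J) hJ] at h4
    exact h4
  apply TopCat.Presheaf.section_ext X.sheaf
  intro y _
  obtain ⟨p, hp1, hp2⟩ := IsClosed.exists_closed_singleton (isClosed_closure (s := ({y} : Set X)))
    ⟨y, subset_closure rfl⟩
  have hgp : g p = IsLocalRing.closedPoint R := by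
    have hc : IsClosed ({g p} : Set (Spec (CommRingCat.of R))) := by
      simpa using g.isClosedMap _ hp2
    have hm : (g p).asIdeal.IsMaximal := (PrimeSpectrum.isClosed_singleton_iff_isMaximal _).1 hc
    exact PrimeSpectrum.ext (IsLocalRing.eq_maximalIdeal hm)
  have hsp : y ⤳ p := specializes_iff_mem_closure.2 hp1
  show X.presheaf.germ ⊤ y (TopologicalSpace.Opens.mem_top _) x = X.presheaf.germ ⊤ y (TopologicalSpace.Opens.mem_top _) 0
  have h5 : X.presheaf.germ ⊤ p (TopologicalSpace.Opens.mem_top _) x = X.presheaf.germ ⊤ p (TopologicalSpace.Opens.mem_top _) 0 := by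
    rw [hcl p hgp, map_zero]
  rw [← X.presheaf.germ_stalkSpecializes (U := ⊤) (TopologicalSpace.Opens.mem_top _) hsp, CommRingCat.comp_apply,
    CommRingCat.comp_apply, h5]

/-- Let R be a complete Noetherian local ring with maximal ideal m and residue field k = R/m, g : X →
Spec R a proper and flat morphism, and i : X₀ → X the fibre of g over the closed point, i.e. a
pullback of g along Spec k → Spec R, with structure map f₀ : X₀ → Spec k. If the induced ring map k
→ Γ(X₀, O_{X₀}) is bijective, then so is R → Γ(X, O_X). -/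
theorem result (R : Type u) [CommRing R]
    [IsLocalRing R] [IsNoetherianRing R] [IsAdicComplete (IsLocalRing.maximalIdeal R) R]
    (X X₀ : Scheme.{u}) (g : X ⟶ Spec (CommRingCat.of R)) [IsProper g] [Flat g]
    (i : X₀ ⟶ X) (f₀ : X₀ ⟶ Spec (CommRingCat.of (R ⧸ IsLocalRing.maximalIdeal R)))
    (hsq : IsPullback i f₀ g
      (Spec.map (CommRingCat.ofHom (Ideal.Quotient.mk (IsLocalRing.maximalIdeal R)))))
    (h0 : Function.Bijective ((Scheme.ΓSpecIso (CommRingCat.of (R ⧸ IsLocalRing.maximalIdeal R))).inv ≫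
      f₀.appTop)) :
    Function.Bijective ((Scheme.ΓSpecIso (CommRingCat.of R)).inv ≫ g.appTop) := by
  classical
  let 𝔪 := IsLocalRing.maximalIdeal R
  let mn : ∀ n, CommRingCat.of R ⟶ CommRingCat.of (Rn R n) := fun n =>
    CommRingCat.ofHom (Ideal.Quotient.mk (𝔪 ^ (n + 1)))
  let j : ∀ n, Limits.pullback g (Spec.map (mn n)) ⟶ X := fun n => Limits.pullback.fst _ _
  let α : R →+* Γ(X, ⊤) := ((Scheme.ΓSpecIso (CommRingCat.of R)).inv ≫ g.appTop).hom
  let β : ∀ n, Rn R n →+* Γ(Limits.pullback g (Spec.map (mn n)), ⊤) := fun n =>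
    ((Scheme.ΓSpecIso (CommRingCat.of (Rn R n))).inv ≫
      (Limits.pullback.snd g (Spec.map (mn n))).appTop).hom
  have hβ : ∀ n, Function.Bijective (β n) := thickening_bijective R X X₀ g i f₀ hsq h0
  have hαβ : ∀ (n : ℕ) (c : R), (j n).appTop (α c) = β n (Ideal.Quotient.mk _ c) := by
    intro n c
    show (((Scheme.ΓSpecIso (CommRingCat.of R)).inv ≫ g.appTop) ≫ (j n).appTop) c = _
    rw [Category.assoc, ← Scheme.Hom.comp_appTop, Limits.pullback.condition,
      Scheme.Hom.comp_appTop, ← Category.assoc, ← Scheme.ΓSpecIso_inv_naturality]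
    rfl
  have hmem : ∀ (n : ℕ) (c : R), (j n).appTop (α c) = 0 → c ∈ 𝔪 ^ (n + 1) := by
    intro n c hc
    rw [hαβ] at hc
    exact Ideal.Quotient.eq_zero_iff_mem.1 ((hβ n).1 (hc.trans (map_zero _).symm))
  have hmem' : ∀ (n : ℕ) (c : R), c ∈ 𝔪 ^ (n + 1) → (j n).appTop (α c) = 0 := by
    intro n c hc
    rw [hαβ, Ideal.Quotient.eq_zero_iff_mem.2 hc, map_zero]
  have hdown : ∀ {m n : ℕ}, m ≤ n → ∀ x : Γ(X, ⊤), (j n).appTop x = 0 → (j m).appTop x = 0 := by
    intro m n h x hx
    let fac : CommRingCat.of (Rn R n) ⟶ CommRingCat.of (Rn R m) :=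
      CommRingCat.ofHom (Ideal.Quotient.factor (Ideal.pow_le_pow_right (by omega)))
    have hfac : mn n ≫ fac = mn m := by ext r; rfl
    have hw : Limits.pullback.fst g (Spec.map (mn m)) ≫ g =
        (Limits.pullback.snd g (Spec.map (mn m)) ≫ Spec.map fac) ≫ Spec.map (mn n) := by
      rw [Category.assoc, ← Spec.map_comp, hfac, Limits.pullback.condition]
    show (Limits.pullback.fst g (Spec.map (mn m))).appTop x = 0
    rw [← Limits.pullback.lift_fst (f := g) (g := Spec.map (mn n)) _ _ hw,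
      Scheme.Hom.comp_appTop, CommRingCat.comp_apply, hx, map_zero]
  show Function.Bijective α
  refine ⟨(injective_iff_map_eq_zero α).2 fun c hc => ?_, fun s => ?_⟩
  · have h1 : ∀ n, c ∈ 𝔪 ^ (n + 1) := fun n => hmem n c (by rw [hc, map_zero])
    exact IsHausdorff.haus (inferInstance : IsHausdorff 𝔪 R) c fun n => by
      rw [SModEq.zero, smul_eq_mul, Ideal.mul_top]
      exact Ideal.pow_le_pow_right (Nat.le_succ n) (h1 n)
  · choose b hb using fun n => (hβ n).2 ((j n).appTop s)
    choose c hc using fun n => Ideal.Quotient.mk_surjective (b n)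
    have hc' : ∀ n, (j n).appTop (s - α (c n)) = 0 := by
      intro n
      rw [map_sub, hαβ, hc, hb, sub_self]
    have hdiff : ∀ {m n : ℕ}, m ≤ n → c m - c n ∈ 𝔪 ^ (m + 1) := by
      intro m n h
      refine hmem m _ ?_
      have h1 := hdown h _ (hc' n)
      have h2 := hc' m
      rw [show α (c m - c n) = (s - α (c n)) - (s - α (c m)) by rw [map_sub]; ring, map_sub, h1, h2,
        sub_self]
    obtain ⟨L, hL⟩ := IsPrecomplete.prec (inferInstance : IsPrecomplete 𝔪 R) (f := c) fun {m n} h => by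
      rw [SModEq.sub_mem, smul_eq_mul, Ideal.mul_top]
      exact Ideal.pow_le_pow_right (Nat.le_succ m) (hdiff h)
    refine ⟨L, (sub_eq_zero.1 (eq_zero_of_thickenings R X g (s - α L) fun n => ?_)).symm⟩
    have h1 := hdown (Nat.le_succ n) _ (hc' (n + 1))
    have h2 := hL (n + 1)
    rw [SModEq.sub_mem, smul_eq_mul, Ideal.mul_top] at h2
    show (j n).appTop (s - α L) = 0
    rw [show s - α L = (s - α (c (n + 1))) + α (c (n + 1) - L) by rw [map_sub]; ring, map_add, h1,
      hmem' n _ h2, add_zero]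

end Groth.Agent.S14285
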