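import Groth.Statements.S14292
import Groth.Agent.WeierLocIso.Basic
-- import your own Groth.Agent.* helpers here

set_option autoImplicit false
universe u
open EllLift

namespace Groth.Agent.S14292

/-- Let A be a commutative ring and W₁, W₂ Weierstrass cubics over A with unit discriminants and the
same j-invariant j, such that j and j - 1728 are both units of A (the modular invariant avoids the
special values 0 and 1728 at every point). Then for every prime ideal p of A there exist an étale
A-algebra B with a prime lying over p and a change of variables over B carrying the base change of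
W₁ to that of W₂; that is, the two elliptic curves become isomorphic on an étale neighbourhood of
every point of Spec A. (The published statement is about Weierstrass curves with possibly nodal,
geometrically irreducible fibres over an arbitrary base scheme whose modular invariant avoids 0,
1728 and ∞; this row is the case of unit discriminant over an affine base.) -/
theorem result (A : Type u) [CommRing A]
    (W₁ W₂ : WeierstrassCurve A) [W₁.IsElliptic] [W₂.IsElliptic] (hj : W₁.j = W₂.j)
    (h0 : IsUnit W₁.j) (h1728 : IsUnit (W₁.j - 1728)) (p : PrimeSpectrum A) :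
    ∃ (B : Type u) (_ : CommRing B) (_ : Algebra A B), Algebra.Etale A B ∧
      p ∈ Set.range (PrimeSpectrum.comap (algebraMap A B)) ∧
      ∃ C : WeierstrassCurve.VariableChange B, C • (W₁.map (algebraMap A B)) = W₂.map (algebraMap A B) := by
  have hjd : ∀ (W : WeierstrassCurve A) [W.IsElliptic], W.c₄ ^ 3 = W.Δ * W.j := fun W _ => by
    rw [WeierstrassCurve.j, ← mul_assoc, ← WeierstrassCurve.coe_Δ', Units.mul_inv, one_mul]
  have hu : ∀ (W : WeierstrassCurve A) [W.IsElliptic], IsUnit W.j → IsUnit (W.j - 1728) →
      IsUnit W.c₄ ∧ IsUnit W.c₆ := fun W _ k0 k1 => by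
    refine ⟨(isUnit_pow_iff three_ne_zero).mp (hjd W ▸ W.isUnit_Δ.mul k0), (isUnit_pow_iff two_ne_zero).mp ?_⟩
    have h : W.c₆ ^ 2 = W.Δ * (W.j - 1728) := by linear_combination W.c_relation + hjd W
    exact h ▸ W.isUnit_Δ.mul k1
  have hR : Groth.Agent.WeierLocIso.Rel W₁ W₂ :=
    ⟨by rw [hjd W₁, hjd W₂, hj]; ring, (hu W₁ h0 h1728).1, (hu W₂ (hj ▸ h0) (hj ▸ h1728)).1,
      (hu W₁ h0 h1728).2, (hu W₂ (hj ▸ h0) (hj ▸ h1728)).2⟩
  obtain ⟨B, _, _, hB, q, hq, hqp, C, hC⟩ := Groth.Agent.WeierLocIso.locIso p.asIdeal W₁ W₂ hR
  exact ⟨B, inferInstance, inferInstance, hB, ⟨⟨q, hq⟩, PrimeSpectrum.ext hqp⟩, C, hC⟩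


end Groth.Agent.S14292
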