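import Groth.Statements.S14294
import Groth.Agent.DegTwoLib.Basic

set_option autoImplicit false
universe u v
open PtDeg

namespace Groth.Agent.S14294

/-- Let A and G be abelian groups, written additively, and f : A → G a map which is pointed of degree 2,
that is f(x+y+z) + f(x) + f(y) + f(z) = f(x+y) + f(x+z) + f(y+z) for all x, y, z in A. If an integer
n satisfies n·x = 0 for every x in A, then 2n·f(x) = 0 for every x in A, and if moreover n is odd
then n·f(x) = 0 for every x in A. -/
theorem result {A : Type u} {G : Type v} [AddCommGroup A] [AddCommGroup G]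
    (f : A → G) (hf : ∀ x y z : A, f (x + y + z) + f x + f y + f z = f (x + y) + f (x + z) + f (y + z))
    (n : ℤ) (hn : ∀ x : A, n • x = 0) :
    (∀ x : A, (2 * n) • f x = 0) ∧ (Odd n → ∀ x : A, n • f x = 0) := by
  have hsum := Groth.Agent.DegTwoLib.zsmul_add_eq_zero f hf n hn
  have h0 : ∀ x : A, (n * (n + 1) / 2) • f x + (n * (n - 1) / 2) • f (-x) = 0 := fun x => by
    rw [← Groth.Agent.DegTwoLib.map_zsmul f hf n x, hn, Groth.Agent.DegTwoLib.map_zero f hf]
  obtain ⟨b, hb⟩ := Int.even_mul_pred_self n
  have e1 : n * (n - 1) / 2 = b := by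
    rw [show n * (n - 1) = b * 2 by linarith, Int.mul_ediv_cancel _ (by norm_num : (2:ℤ) ≠ 0)]
  have e2 : n * (n + 1) / 2 = b + n := by
    rw [show n * (n + 1) = (b + n) * 2 by linarith, Int.mul_ediv_cancel _ (by norm_num : (2:ℤ) ≠ 0)]
  simp only [e1, e2] at h0
  refine ⟨fun x => ?_, fun hodd x => ?_⟩
  · have hx := h0 (-x)
    rw [neg_neg] at hx
    calc (2 * n) • f x = n • (f x + f (-x)) + (((b + n) • f x + b • f (-x)) - ((b + n) • f (-x) + b • f x)) := by
          module
      _ = 0 := by rw [hsum, h0, hx]; simp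
  · obtain ⟨m, rfl⟩ := hodd
    have eb : b = (2 * m + 1) * m := by
      have : b * 2 = ((2 * m + 1) * m) * 2 := by linear_combination -hb
      exact mul_right_cancel₀ (by norm_num : (2:ℤ) ≠ 0) this
    calc (2 * m + 1) • f x = ((b + (2 * m + 1)) • f x + b • f (-x)) - m • ((2 * m + 1) • (f x + f (-x))) := by
          rw [eb]; module
      _ = 0 := by rw [hsum, h0]; simp

end Groth.Agent.S14294
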