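import Groth.Statements.S14307
import Mathlib

set_option autoImplicit false
universe u v
open PtDeg

namespace Groth.Agent.S14307

/-- Let A and G be abelian groups, written additively, f : A → G a map and n ≥ 1. If a tuple x ∈ A^n has
some coordinate equal to 0, then the n-th deviation of f at x, namely Σ_{∅ ≠ I ⊆ {1,…,n}}
(−1)^{n+|I|} f(Σ_{i ∈ I} x_i), equals (−1)^{n+1} f(0). -/
theorem result {A : Type u} {G : Type v} [AddCommGroup A] [AddCommGroup G]
    (f : A → G) (n : ℕ) (hn : 1 ≤ n) (x : Fin n → A) (i : Fin n) (hx : x i = 0) :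
    ∑ I ∈ ((Finset.univ : Finset (Fin n)).powerset.erase ∅), ((-1 : ℤ) ^ (n + I.card)) • f (∑ j ∈ I, x j) =
      ((-1 : ℤ) ^ (n + 1)) • f 0 := by
  classical
  rw [Finset.sum_erase_eq_sub (Finset.empty_mem_powerset _)]
  have hsum : ∀ I ∈ ((Finset.univ : Finset (Fin n)).erase i).powerset,
      ((-1 : ℤ) ^ (n + (insert i I).card)) • f (∑ j ∈ insert i I, x j) =
        -(((-1 : ℤ) ^ (n + I.card)) • f (∑ j ∈ I, x j)) := by
    intro I hI
    have hiI : i ∉ I := fun hi => Finset.notMem_erase i _ (Finset.mem_powerset.1 hI hi)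
    rw [Finset.sum_insert hiI, hx, zero_add, Finset.card_insert_of_notMem hiI, ← add_assoc, pow_succ,
      mul_neg, mul_one, neg_smul]
  conv_lhs => arg 1; rw [← Finset.insert_erase (Finset.mem_univ i),
    Finset.sum_powerset_insert (Finset.notMem_erase i _), Finset.sum_congr rfl hsum, Finset.sum_neg_distrib,
    add_neg_cancel]
  simp [pow_succ]

end Groth.Agent.S14307
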