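import Groth.Statements.S14309
import Mathlib


set_option autoImplicit false
universe u v w x y
open CAlg

namespace Groth.Agent.S14309

/-- Let R be a commutative ring; A, B, C commutative R-algebras; i : A → B and j : A → C jointly
injective R-algebra maps; c a non-zero-divisor of B; u : C → B/(c) a ring map with u ∘ j equal to i
followed by reduction modulo c; ζ in A with i ζ = c and j ζ = 0; η : R[X_σ, Z] → A an R-algebra map
with η(Z) = ζ; a : R[Y_τ] → B a surjective R-algebra map; η_Z : R[X_σ, Z] → R[Y_τ] a surjective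
R-algebra map with a ∘ η_Z = i ∘ η. Fix c̃ in R[Y_τ] with a(c̃) = c, a family (p_h) generating the
kernel of the composite R[X_σ] → R[X_σ, Z] → A → C, a family (q'_h) generating the kernel of a
together with lifts q_h along η_Z, a family (v_h) generating the kernel of η_Z, and elements g'_h of
R[Y_τ] with η_Z(p_h) + g'_h c̃ in the ideal (q'_h), together with lifts g_h along η_Z. Then the
kernel of η is the ideal generated by the elements Z q_h, Z v_h and p_h + Z g_h. (The published
statement is for the rings of cycle classes, with coefficients ℤ[1/6], of a smooth quotient stack, a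
smooth closed substack whose normal bundle has top Chern class c a non-zero-divisor, and the open
complement; this row states the ring-theoretic content for any such square of commutative rings in
which A embeds in B × C.) -/
theorem result
    {R : Type u} [CommRing R] {A : Type v} {B : Type w} {C : Type x}
    [CommRing A] [CommRing B] [CommRing C] [Algebra R A] [Algebra R B] [Algebra R C]
    (i : A →ₐ[R] B) (j : A →ₐ[R] C)
    (hinj : ∀ t : A, i t = 0 → j t = 0 → t = 0)
    (c : B) (hc : c ∈ nonZeroDivisors B) (u : C →+* B ⧸ Ideal.span ({c} : Set B))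
    (hu : ∀ t : A, u (j t) = Ideal.Quotient.mk (Ideal.span ({c} : Set B)) (i t))
    (ζ : A) (hiζ : i ζ = c) (hjζ : j ζ = 0)
    {σ τ ιp ιq ιv : Type y}
    (η : MvPolynomial (Option σ) R →ₐ[R] A) (hη : η (MvPolynomial.X none) = ζ)
    (a : MvPolynomial τ R →ₐ[R] B) (ha : Function.Surjective a)
    (ηZ : MvPolynomial (Option σ) R →ₐ[R] MvPolynomial τ R)
    (hcomm : ∀ t, a (ηZ t) = i (η t)) (hηZ : Function.Surjective ηZ)
    (cZ : MvPolynomial τ R) (hcZ : a cZ = c)
    (p : ιp → MvPolynomial σ R)
    (hp : Ideal.span (Set.range p) =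
      RingHom.ker ((j.comp η).comp (MvPolynomial.rename (Option.some : σ → Option σ))))
    (q' : ιq → MvPolynomial τ R) (hq' : Ideal.span (Set.range q') = RingHom.ker a)
    (q : ιq → MvPolynomial (Option σ) R) (hq : ∀ h, ηZ (q h) = q' h)
    (v : ιv → MvPolynomial (Option σ) R) (hv : Ideal.span (Set.range v) = RingHom.ker ηZ)
    (g' : ιp → MvPolynomial τ R)
    (hg' : ∀ h, ηZ (MvPolynomial.rename (Option.some : σ → Option σ) (p h)) + g' h * cZ ∈
      Ideal.span (Set.range q'))
    (g : ιp → MvPolynomial (Option σ) R) (hg : ∀ h, ηZ (g h) = g' h) :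
    RingHom.ker η = Ideal.span
      (Set.range (fun h : ιq => MvPolynomial.X none * q h) ∪
        Set.range (fun h : ιv => MvPolynomial.X none * v h) ∪
        Set.range (fun h : ιp =>
          MvPolynomial.rename (Option.some : σ → Option σ) (p h) + MvPolynomial.X none * g h)) := by
  classical
  set Z : MvPolynomial (Option σ) R := MvPolynomial.X none with hZ
  set I := Ideal.span (Set.range (fun h : ιq => Z * q h) ∪ Set.range (fun h : ιv => Z * v h) ∪
    Set.range (fun h : ιp => MvPolynomial.rename (Option.some : σ → Option σ) (p h) + Z * g h)) with hI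
  have hiZ : a (ηZ Z) = c := by rw [hcomm, hη, hiζ]
  refine le_antisymm (fun P hP => ?_) (Ideal.span_le.2 ?_)
  · rw [RingHom.mem_ker] at hP
    let ρ : MvPolynomial (Option σ) R →ₐ[R] MvPolynomial σ R :=
      MvPolynomial.aeval fun o => Option.elim o 0 MvPolynomial.X
    have hρ : P - MvPolynomial.rename Option.some (ρ P) ∈ Ideal.span {Z} := by
      rw [← Ideal.Quotient.eq]
      have : Ideal.Quotient.mkₐ R (Ideal.span {Z}) = (Ideal.Quotient.mkₐ R (Ideal.span {Z})).comp
          ((MvPolynomial.rename (Option.some : σ → Option σ)).comp ρ) :=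
        MvPolynomial.algHom_ext fun o => by
          cases o with
          | none =>
            simp only [AlgHom.comp_apply, ρ, MvPolynomial.aeval_X, Option.elim, map_zero]
            exact Ideal.Quotient.eq_zero_iff_mem.2 (Ideal.subset_span rfl)
          | some s => simp [ρ]
      exact AlgHom.congr_fun this P
    obtain ⟨P₁, hP₁⟩ := Ideal.mem_span_singleton'.1 hρ
    have hP0 : ρ P ∈ Ideal.span (Set.range p) := by
      rw [hp, RingHom.mem_ker]
      show j (η (MvPolynomial.rename Option.some (ρ P))) = 0
      rw [show MvPolynomial.rename Option.some (ρ P) = P - P₁ * Z by rw [hP₁]; ring, map_sub, map_sub,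
        hP, map_zero, zero_sub, map_mul, map_mul, hη, hjζ, mul_zero, neg_zero]
    have hren : MvPolynomial.rename Option.some (ρ P) ∈ I ⊔ Ideal.span {Z} := by
      have := Ideal.mem_map_of_mem (MvPolynomial.rename (R := R) (Option.some : σ → Option σ)) hP0
      rw [Ideal.map_span, ← Set.range_comp] at this
      refine Ideal.span_le.2 ?_ this
      rintro _ ⟨h, rfl⟩
      show MvPolynomial.rename Option.some (p h) ∈ I ⊔ Ideal.span {Z}
      rw [show MvPolynomial.rename Option.some (p h) =
        (MvPolynomial.rename Option.some (p h) + Z * g h) + (-g h) * Z by ring]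
      exact Submodule.add_mem_sup (Ideal.subset_span (Or.inr ⟨h, rfl⟩))
        (Ideal.mul_mem_left _ _ (Ideal.subset_span rfl))
    obtain ⟨i₀, hi₀, z, hz, hsum⟩ := Submodule.mem_sup.1 hren
    obtain ⟨P₂, rfl⟩ := Ideal.mem_span_singleton'.1 hz
    have hP' : P = i₀ + (P₂ + P₁) * Z := by linear_combination -hP₁ - hsum
    have hker : I ≤ RingHom.ker η := Ideal.span_le.2 (by
      rintro _ ((⟨h, rfl⟩ | ⟨h, rfl⟩) | ⟨h, rfl⟩)
      · refine hinj _ ?_ ?_
        · rw [map_mul, map_mul, ← hcomm (q h), hq, show a (q' h) = 0 from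
            (hq' ▸ Ideal.subset_span ⟨h, rfl⟩ : q' h ∈ RingHom.ker a), mul_zero]
        · rw [map_mul, map_mul, hη, hjζ, zero_mul]
      · refine hinj _ ?_ ?_
        · rw [map_mul, map_mul, ← hcomm (v h), show ηZ (v h) = 0 from
            (hv ▸ Ideal.subset_span ⟨h, rfl⟩ : v h ∈ RingHom.ker ηZ), map_zero, mul_zero]
        · rw [map_mul, map_mul, hη, hjζ, zero_mul]
      · refine hinj _ ?_ ?_
        · have h1 : a (ηZ (MvPolynomial.rename Option.some (p h)) + g' h * cZ) = 0 :=
            (hq' ▸ hg' h : _ ∈ RingHom.ker a)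
          simp only [map_add, map_mul, ← hcomm]
          rw [hiZ, hg]
          rw [map_add, map_mul, hcZ] at h1
          linear_combination h1
        · have h1 : j (η (MvPolynomial.rename Option.some (p h))) = 0 :=
            (hp ▸ Ideal.subset_span ⟨h, rfl⟩ : p h ∈ RingHom.ker
              ((j.comp η).comp (MvPolynomial.rename (Option.some : σ → Option σ))))
          rw [map_add, map_add, h1, map_mul, map_mul, hη, hjζ, zero_mul, add_zero])
    have hηP₂ : a (ηZ (P₂ + P₁)) = 0 := by
      have : η ((P₂ + P₁) * Z) = 0 := by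
        have h0 : η i₀ = 0 := hker hi₀
        have := hP
        rw [hP', map_add, h0, zero_add] at this
        exact this
      have h2 := congrArg i this
      rw [map_zero, ← hcomm, map_mul, map_mul, hiZ] at h2
      exact mem_nonZeroDivisors_iff_right.1 hc _ h2
    have hmem : P₂ + P₁ ∈ Ideal.span (Set.range q) ⊔ Ideal.span (Set.range v) := by
      rw [hv]
      have : ηZ (P₂ + P₁) ∈ Ideal.map ηZ (Ideal.span (Set.range q)) := by
        rw [Ideal.map_span, ← Set.range_comp,
          show (⇑ηZ ∘ q) = q' from funext hq, hq', RingHom.mem_ker]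
        exact hηP₂
      have := Ideal.mem_comap.2 this
      rwa [Ideal.comap_map_of_surjective ηZ hηZ, ← RingHom.ker_eq_comap_bot] at this
    rw [hP']
    refine I.add_mem hi₀ ?_
    obtain ⟨u₁, hu₁, u₂, hu₂, hu⟩ := Submodule.mem_sup.1 hmem
    rw [← hu, add_mul]
    clear hu
    refine I.add_mem ?_ ?_
    · induction hu₁ using Submodule.span_induction with
      | mem w hw => obtain ⟨h, rfl⟩ := hw; rw [mul_comm]; exact Ideal.subset_span (Or.inl (Or.inl ⟨h, rfl⟩))
      | zero => rw [zero_mul]; exact I.zero_mem
      | add w w' _ _ hw hw' => rw [add_mul]; exact I.add_mem hw hw'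
      | smul r w _ hw => rw [smul_eq_mul, mul_assoc]; exact I.mul_mem_left r hw
    · induction hu₂ using Submodule.span_induction with
      | mem w hw => obtain ⟨h, rfl⟩ := hw; rw [mul_comm]; exact Ideal.subset_span (Or.inl (Or.inr ⟨h, rfl⟩))
      | zero => rw [zero_mul]; exact I.zero_mem
      | add w w' _ _ hw hw' => rw [add_mul]; exact I.add_mem hw hw'
      | smul r w _ hw => rw [smul_eq_mul, mul_assoc]; exact I.mul_mem_left r hw
  · rintro _ ((⟨h, rfl⟩ | ⟨h, rfl⟩) | ⟨h, rfl⟩)
    · show η (Z * q h) = 0
      refine hinj _ ?_ ?_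
      · rw [map_mul, map_mul, ← hcomm (q h), hq, show a (q' h) = 0 from
          (hq' ▸ Ideal.subset_span ⟨h, rfl⟩ : q' h ∈ RingHom.ker a), mul_zero]
      · rw [map_mul, map_mul, hη, hjζ, zero_mul]
    · show η (Z * v h) = 0
      refine hinj _ ?_ ?_
      · rw [map_mul, map_mul, ← hcomm (v h), show ηZ (v h) = 0 from
          (hv ▸ Ideal.subset_span ⟨h, rfl⟩ : v h ∈ RingHom.ker ηZ), map_zero, mul_zero]
      · rw [map_mul, map_mul, hη, hjζ, zero_mul]
    · show η (MvPolynomial.rename Option.some (p h) + Z * g h) = 0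
      refine hinj _ ?_ ?_
      · have h1 : a (ηZ (MvPolynomial.rename Option.some (p h)) + g' h * cZ) = 0 :=
          (hq' ▸ hg' h : _ ∈ RingHom.ker a)
        simp only [map_add, map_mul, ← hcomm]
        rw [hiZ, hg]
        rw [map_add, map_mul, hcZ] at h1
        linear_combination h1
      · have h1 : j (η (MvPolynomial.rename Option.some (p h))) = 0 :=
          (hp ▸ Ideal.subset_span ⟨h, rfl⟩ : p h ∈ RingHom.ker
            ((j.comp η).comp (MvPolynomial.rename (Option.some : σ → Option σ))))
        rw [map_add, map_add, h1, map_mul, map_mul, hη, hjζ, zero_mul, add_zero]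

end Groth.Agent.S14309
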