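import Groth.Statements.S14311
import Groth.Agent.PlaneCurve.Double
-- import your own Groth.Agent.* helpers here

set_option autoImplicit false
universe u
open ArSing

namespace Groth.Agent.S14311

/-- Let k be an algebraically closed field in which 2 ≠ 0, f a polynomial in x = X_0, y = X_1 over k and
a a zero of f in k². Then the gradient and all second partial derivatives of f vanish at a if and
only if the completed local ring k[[x,y]]/(f recentred at a) of the plane curve f = 0 at a is
isomorphic as a k-algebra neither to k[[x,y]]/(y^2 - x^(n+1)) for any natural number n nor to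
k[[x,y]]/(y^2). (Here n = 0, a smooth point, is allowed; with n ≥ 1 only, as in the published
definition of an A-singularity, the equivalence fails at smooth points of the curve. Only 2 ≠ 0 is
assumed of the characteristic; the published setting assumes a characteristic different from 2, 3, 5
and 7.) -/
theorem result
    {k : Type u} [Field k] [IsAlgClosed k] (h2 : (2 : k) ≠ 0) (f : MvPolynomial (Fin 2) k) (a : Fin 2 → k)
    (hfa : MvPolynomial.eval a f = 0) :
    ((∀ i : Fin 2, MvPolynomial.eval a (MvPolynomial.pderiv i f) = 0) ∧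
      ∀ i j : Fin 2, MvPolynomial.eval a (MvPolynomial.pderiv i (MvPolynomial.pderiv j f)) = 0) ↔
    ¬ ((∃ n : ℕ, Nonempty ((MvPowerSeries (Fin 2) k ⧸ Ideal.span
        ({(MvPolynomial.aeval (fun i : Fin 2 => MvPolynomial.X i + MvPolynomial.C (a i)) f).toMvPowerSeries} :
          Set (MvPowerSeries (Fin 2) k))) ≃ₐ[k] ArSing.ring k n)) ∨
        Nonempty ((MvPowerSeries (Fin 2) k ⧸ Ideal.span
        ({(MvPolynomial.aeval (fun i : Fin 2 => MvPolynomial.X i + MvPolynomial.C (a i)) f).toMvPowerSeries} :
          Set (MvPowerSeries (Fin 2) k))) ≃ₐ[k]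
          (MvPowerSeries (Fin 2) k ⧸ Ideal.span ({MvPowerSeries.X 1 ^ 2} : Set (MvPowerSeries (Fin 2) k))))) := by
  rw [← Groth.Agent.PlaneCurve.τ_apply]
  have h0 : MvPowerSeries.constantCoeff (Groth.Agent.PlaneCurve.τ a f) = 0 := by
    rw [Groth.Agent.PlaneCurve.constantCoeff_τ, hfa]
  have h1 : ∀ i, Groth.Agent.PlaneCurve.lc i (Groth.Agent.PlaneCurve.τ a f) =
      MvPolynomial.eval a (MvPolynomial.pderiv i f) := fun i => Groth.Agent.PlaneCurve.lc_τ a i f
  have h12 : ∀ i j, Groth.Agent.PlaneCurve.hess i j (Groth.Agent.PlaneCurve.τ a f) =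
      MvPolynomial.eval a (MvPolynomial.pderiv i (MvPolynomial.pderiv j f)) := fun i j => by
    rw [Groth.Agent.PlaneCurve.hess, Groth.Agent.PlaneCurve.pderiv_τ, Groth.Agent.PlaneCurve.lc_τ]
  constructor
  · rintro ⟨hg, hH⟩
    exact Groth.Agent.PlaneCurve.not_good h2 h0 (fun i => by rw [h1, hg]) (fun i j => by rw [h12, hH])
  · intro hn
    by_contra hh
    refine hn (Groth.Agent.PlaneCurve.good_of_ne h2 h0 fun h => hh ⟨fun i => ?_, fun i j => ?_⟩)
    · rw [← h1]; exact h.1 i
    · rw [← h12]; exact h.2 i j

end Groth.Agent.S14311
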