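import Groth.Statements.S14312
import Groth.Agent.PlaneBezout.Jet
import Groth.Agent.SqfreeForms.Basic

set_option autoImplicit false
universe u
open Curves

namespace Groth.Agent.S14312

/-- Over an algebraically closed field k, a reduced plane quartic — the zero locus in the projective
plane of a square-free homogeneous polynomial f of degree 4 in three variables — has at most 6
singular points, a singular point being a point of the projective plane at which f and its three
first partial derivatives vanish. (No hypothesis on the characteristic of k is imposed here. The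
further assertions describing the quartics with exactly 5 or exactly 6 singular points are not part
of this row.) -/
theorem result
    {k : Type u} [Field k] [IsAlgClosed k] (f : MvPolynomial (Fin 3) k)
    (hf : f.IsHomogeneous 4) (hred : Squarefree f) :
    ∃ s : Finset (Projectivization k (Fin 3 → k)), s.card ≤ 6 ∧
      ∀ p : Projectivization k (Fin 3 → k),
        MvPolynomial.eval p.rep f = 0 →
          (∀ i : Fin 3, MvPolynomial.eval p.rep (MvPolynomial.pderiv i f) = 0) → p ∈ s := by
  classical
  set S : Set (Projectivization k (Fin 3 → k)) :=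
    {p | MvPolynomial.eval p.rep f = 0 ∧ ∀ i : Fin 3, MvPolynomial.eval p.rep (MvPolynomial.pderiv i f) = 0} with hS
  have hf0 : f ≠ 0 := hred.ne_zero
  obtain ⟨c, hc⟩ := SqfreeForms.exists_comb_isRelPrime hred hf0
  set D := ∑ i, MvPolynomial.C (c i) * MvPolynomial.pderiv i f with hD
  have hDhom : D.IsHomogeneous 3 := MvPolynomial.IsHomogeneous.sum _ _ _ fun i _ => (hf.pderiv).C_mul _
  have hD0 : D ≠ 0 := by
    intro h
    rw [h] at hc
    have h1 : IsUnit f := hc dvd_rfl (dvd_zero _)
    have h2 := h1.map (MvPolynomial.constantCoeff : MvPolynomial (Fin 3) k →+* k)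
    rw [MvPolynomial.constantCoeff_eq, hf.coeff_eq_zero (by simp)] at h2
    exact not_isUnit_zero h2
  have key : ∀ t : Finset (Projectivization k (Fin 3 → k)), (↑t : Set _) ⊆ S → t.card ≤ 6 := by
    intro t ht
    let e := t.equivFin.symm
    have := PlaneBezout.card_double_zeros_le 4 3 f D hf hDhom (by omega) (by omega) hf0 hD0 hc
      (fun i => (e i).1.rep) (fun i => (e i).1.rep_nonzero) (fun i j hij h => by
        obtain ⟨r, hr⟩ := Submodule.mem_span_singleton.1 h
        refine hij (e.injective (Subtype.ext ?_))
        rw [← (e i).1.mk_rep, ← (e j).1.mk_rep, Projectivization.mk_eq_mk_iff']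
        exact ⟨r, hr⟩)
      (fun i => (ht (e i).2).1) (fun i => (ht (e i).2).2) (fun i => by
        rw [hD, map_sum]
        refine Finset.sum_eq_zero fun a _ => ?_
        rw [map_mul, (ht (e i).2).2 a, mul_zero])
    omega
  have hfin : S.Finite := by
    by_contra h
    obtain ⟨t, ht, htc⟩ := (Set.Infinite.exists_subset_card_eq h 7)
    have := key t ht
    omega
  exact ⟨hfin.toFinset, key _ (by rw [Set.Finite.coe_toFinset]), fun p h1 h2 => by
    rw [Set.Finite.mem_toFinset]; exact ⟨h1, h2⟩⟩

end Groth.Agent.S14312
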