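import Groth.Statements.S14313
import Groth.Agent.Nakai.FibreNef
import Groth.Agent.Nakai.RealClass
import Groth.Agent.Nakai.HodgeNef
import Groth.Agent.SurfAmple.Curves
import Groth.Agent.SurfAdj.Basic
import Groth.Agent.PtPush.StrictIdeal
import Groth.Agent.PlaneBlow.RatConfig

set_option backward.isDefEq.respectTransparency false
set_option linter.style.haveILetI false
-- import your own Groth.Agent.* helpers here

set_option autoImplicit false
universe u
open CategoryTheory CategoryTheory.Limits AlgebraicGeometry TopologicalSpace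
open Surf

namespace Groth.Agent.S14313

/-- A nef module has nonnegative degree on every effective divisor. -/
theorem inter_ideal_nonpos (k : Type u) [Field k] {S : Scheme.{u}} [S.Over (Spec (CommRingCat.of k))]
    [IsProper (S ↘ Spec (CommRingCat.of k))] [IsIntegral S] (hdim : topologicalKrullDim S = 2) {N : S.Modules}
    (hN : PicF.IsInvertible N) (hn : Nakai.Nef k N) {Y : S.IdealSheafData} (hY : BlowUp.IsEffCartierIdeal Y) :
    Nakai.inter k N (ClSub.idealMod Y) ≤ 0 := by
  haveI := CurveRR.isNoetherian_of_proper k S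
  obtain ⟨N', hN', hNN'⟩ := W7Hull.exists_tensor_inverse hN
  letI : Y.subscheme.Over (Spec (CommRingCat.of k)) := ⟨Y.subschemeι ≫ (S ↘ Spec (CommRingCat.of k))⟩
  have hd1 := SurfAmple.dim_support_le k hdim hY
  have hC : topologicalKrullDim Y.subscheme ≤ ((1 : ℕ) : WithBot ℕ∞) := by
    rw [IsHomeomorph.topologicalKrullDim_eq _ Y.subschemeι.isClosedEmbedding.isEmbedding.toHomeomorph.isHomeomorph,
      Y.range_subschemeι]
    exact hd1
  have h := Intersect.intNum_curve k Y.subschemeι hC hdim.le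
    (by rw [Scheme.IdealSheafData.ker_subschemeι]; exact hY) hN hNN'
  have e1 := Intersect.euler_quot_twist k Y.subschemeι hN
  have e2 := Intersect.euler_quot_twist k Y.subschemeι (A := Coh.structureModule S) TMul.isInvertible_structureModule
  rw [Scheme.IdealSheafData.ker_subschemeι] at e1 e2 h
  rw [CurveRR.euler_eq_of_iso (TMul.commIso (ClSub.quotMod Y) (Coh.structureModule S) ≪≫ TMul.leftUnitIso _),
    CurveRR.euler_eq_of_iso (DerPerf.pullUnitIso Y.subschemeι)] at e2
  have hnY := hn _ (CurveRR.isCoh_idealMod Y).2 ((Nakai.dim_support_quotMod Y).trans_le hd1)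
  rw [e1, e2] at hnY
  have h0 : 0 ≤ FGA.intNum k S 2 ![ClSub.idealMod Y, N'] (Coh.structureModule S) := by
    rw [h, Curv2.deg]
    simpa using hnY
  have h1 : (0 : ℚ) ≤ Nakai.inter k (ClSub.idealMod Y) N' := by
    rw [← Nakai.intNum_eq_inter k hdim.le]
    exact_mod_cast h0
  rw [Nakai.inter_inv_right k hdim.le hN hNN' ((Groth.Agent.S8914.result Y).2 hY), Nakai.inter_comm] at h1
  linarith

theorem sum_le_telescope : ∀ {n : ℕ} (a : Fin n → ℚ) (q : Fin (n + 1) → ℚ),
    (∀ i : Fin n, a i ≤ q i.succ - q i.castSucc) → ∑ i, a i ≤ q (Fin.last n) - q 0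
  | 0, a, q, _ => by simp
  | n + 1, a, q, h => by
    rw [Fin.sum_univ_castSucc]
    have h1 := sum_le_telescope (fun i => a i.castSucc) (fun i => q i.castSucc) fun i => by
      simpa only [Fin.succ_castSucc] using h i.castSucc
    have h2 := h (Fin.last n)
    rw [Fin.succ_last] at h2
    simp only [Fin.castSucc_zero] at h1
    linarith

/-- Let k be an algebraically closed field, S a smooth projective surface over k (integral, proper and
smooth over k, of dimension 2), f : S → C a surjective k-morphism onto a smooth projective curve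
(integral, proper and smooth over k, of dimension 1) and F = f⁻¹(p) the fibre over a closed point p,
with O_S(F) a tensor inverse of its ideal sheaf. Let D be a divisor (L = O_S(D) an invertible
module), Z_1 ≥ Z_2 ≥ ⋯ ≥ Z_n ≥ Z_{n+1} = 0 effective Cartier divisors (ideal sheaves I_1 ⊆ I_2 ⊆ ⋯ ⊆
I_{n+1} = O_S) and μ_1 > μ_2 > ⋯ > μ_n > μ_{n+1} = 0 rational numbers such that every N_i = D − Z_i
− μ_i F (1 ≤ i ≤ n + 1) is a nef ℚ-divisor: (D·Γ) − (Z_i·Γ) − μ_i (F·Γ) ≥ 0 for every integral curve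
Γ ⊆ S, where (L·Γ) = χ(O_Γ ⊗ L) − χ(O_Γ) and (Z_i·Γ) = −(I_i·Γ). Put d_i = N_i·F = (D·F) − (Z_i·F) −
μ_i (F·F). Then D² ≥ Σ_{i=1}^{n} (d_i + d_{i+1})(μ_i − μ_{i+1}); here (L·M) = χ(O_S) − χ(L) − χ(M) +
χ(L ⊗ M) for invertible L, M, packaged as FGA.intNum. (Indices run over Fin (n+1), position i
standing for i + 1.) (The published statement is for the chapter's fibration, with connected fibres,
semi-stable and relatively minimal, over an algebraically closed field of positive characteristic;
this row asks only that f be surjective and allows any algebraically closed field.) -/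
theorem result (k : Type u) [Field k] [IsAlgClosed k]
    (S : Scheme.{u}) [S.Over (Spec (CommRingCat.of k))] [IsProper (S ↘ (Spec (CommRingCat.of k)))]
    [Smooth (S ↘ (Spec (CommRingCat.of k)))] [IsIntegral S] (hdim : topologicalKrullDim S = 2)
    (C : Scheme.{u}) [C.Over (Spec (CommRingCat.of k))] [IsProper (C ↘ (Spec (CommRingCat.of k)))]
    [Smooth (C ↘ (Spec (CommRingCat.of k)))] [IsIntegral C] (hdimC : topologicalKrullDim C = 1)
    (f : S ⟶ C) [f.IsOver (Spec (CommRingCat.of k))] [Surjective f]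
    (p : C) (hp : IsClosed ({p} : Set C))
    (LF : S.Modules) (hLF : ClSub.IsInverseOf LF (ClSub.idealMod (f.fiberι p).ker))
    (L : S.Modules) (hL : PicF.IsInvertible L)
    (n : ℕ) (Z : Fin (n + 1) → S.IdealSheafData) (hZ : ∀ i, FGA.IsEffCartier (Z i))
    (hZmono : Monotone Z) (hZlast : Z (Fin.last n) = ⊤)
    (μ : Fin (n + 1) → ℚ) (hμ : StrictAnti μ) (hμlast : μ (Fin.last n) = 0)
    (hnef : ∀ (i : Fin (n + 1)) (Γ : S.IdealSheafData), IsIntegral Γ.subscheme →
      topologicalKrullDim (Γ.support : Set S) = 1 →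
      (0 : ℚ) ≤ ((Curv2.euler k S (CohB1.tensorMod (ClSub.quotMod Γ) L) - Curv2.euler k S (ClSub.quotMod Γ)) : ℚ) + ((Curv2.euler k S (CohB1.tensorMod (ClSub.quotMod Γ) (ClSub.idealMod (Z i))) - Curv2.euler k S (ClSub.quotMod Γ)) : ℚ)
        - μ i * ((Curv2.euler k S (CohB1.tensorMod (ClSub.quotMod Γ) LF) - Curv2.euler k S (ClSub.quotMod Γ)) : ℚ)) :
    (Finset.univ.sum fun i : Fin n =>
        (((FGA.intNum k S 2 ![L, LF] (Coh.structureModule S) : ℚ) + (FGA.intNum k S 2 ![ClSub.idealMod (Z i.castSucc), LF] (Coh.structureModule S) : ℚ) - μ i.castSucc * (FGA.intNum k S 2 ![LF, LF] (Coh.structureModule S) : ℚ))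
          + ((FGA.intNum k S 2 ![L, LF] (Coh.structureModule S) : ℚ) + (FGA.intNum k S 2 ![ClSub.idealMod (Z i.succ), LF] (Coh.structureModule S) : ℚ) - μ i.succ * (FGA.intNum k S 2 ![LF, LF] (Coh.structureModule S) : ℚ)))
        * (μ i.castSucc - μ i.succ)) ≤ (FGA.intNum k S 2 ![L, L] (Coh.structureModule S) : ℚ) := by
  haveI := CurveRR.isNoetherian_of_proper k S
  have hd := hdim.le
  have hJ : PicF.IsInvertible LF := by
    haveI := CurveRR.isNoetherian_of_proper k C
    have hgp := CurveRR.genericPoint_ne_of_closed (k := k) hdimC hp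
    set J := Scheme.IdealSheafData.vanishingIdeal ⟨{p}, hp⟩ with hJdef
    have hJ : BlowUp.IsEffCartierIdeal J := (Groth.Agent.S8914.result J).1
      (CurveRR.isInvertible_pointIdeal hdimC.le hp hgp
        (SmLocalST.isRegularLocalRing_stalk_of_smooth_field (C ↘ Spec (CommRingCat.of k)) p))
    have hc : BlowUp.IsEffCartierIdeal (J.comap f) := Groth.Agent.S8862.result f J hJ fun ξ hξ hin => by
      rw [← hξ _ (genericPoint_specializes ξ)] at hin
      have hin' : f (genericPoint S) ∈ ({p} : Set C) := by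
        have h' : f (genericPoint S) ∈ (J.support : Set C) := hin
        rwa [hJdef, Scheme.IdealSheafData.coe_support_vanishingIdeal] at h'
      obtain ⟨y, hy⟩ := f.surjective (genericPoint C)
      have h2 : f (genericPoint S) ⤳ f y := (genericPoint_specializes y).map f.continuous
      rw [hy, show f (genericPoint S) = p from hin'] at h2
      exact hgp (h2.mem_closed hp rfl)
    have hK : PicF.IsInvertible (ClSub.idealMod (f.fiberι p).ker) := by
      rw [Nakai.ker_fiberι f hp]; exact (Groth.Agent.S8914.result _).2 hc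
    obtain ⟨e⟩ := hLF
    exact Intersect.isInvertible_inverse hK ⟨TMul.commIso _ _ ≪≫ e⟩
  have hZi := fun i => (Groth.Agent.S8914.result (Z i)).2 (hZ i)
  -- the classes `L - Z_i - μ_i F`
  have hNef : ∀ i, ∃ (N : S.Modules) (m : ℚ), PicF.IsInvertible N ∧ Nakai.Nef k N ∧ 0 < m ∧
      ∀ C : S.Modules, PicF.IsInvertible C → Nakai.inter k N C =
        m * (Nakai.inter k L C + Nakai.inter k (ClSub.idealMod (Z i)) C - μ i * Nakai.inter k LF C) := by
    intro i
    obtain ⟨P, hP, hPC⟩ := Nakai.exists_signed k hd hL ((μ i).den : ℤ)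
    obtain ⟨Q, hQ, hQC⟩ := Nakai.exists_signed k hd (hZi i) ((μ i).den : ℤ)
    obtain ⟨R, hR, hRC⟩ := Nakai.exists_signed k hd hJ (-(μ i).num)
    have hN := TMul.isInvertible_tensorMod (TMul.isInvertible_tensorMod hP hQ) hR
    have hm : (0 : ℚ) < ((μ i).den : ℚ) := by exact_mod_cast (μ i).den_pos
    have hval : ∀ C : S.Modules, PicF.IsInvertible C →
        Nakai.inter k (CohB1.tensorMod (CohB1.tensorMod P Q) R) C = ((μ i).den : ℚ) *
          (Nakai.inter k L C + Nakai.inter k (ClSub.idealMod (Z i)) C - μ i * Nakai.inter k LF C) := by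
      intro C hC
      rw [Nakai.inter_tensor k hd (TMul.isInvertible_tensorMod hP hQ) hR hC, Nakai.inter_tensor k hd hP hQ hC,
        hPC C hC, hQC C hC, hRC C hC]
      push_cast
      rw [mul_sub, mul_add, ← mul_assoc _ (μ i), show ((μ i).den : ℚ) * μ i = (μ i).num from
        (mul_comm _ _).trans (Rat.mul_den_eq_num (μ i))]
      ring
    refine ⟨_, _, hN, (Nakai.nef_iff_curves k hN).2 fun Γ hΓ h1 => ?_, hm, hval⟩
    haveI := hΓ
    have hI := Nakai.inv_of_curve k hdim Γ h1
    have h := hnef i Γ hΓ h1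
    have e : ∀ A : S.Modules, PicF.IsInvertible A →
        ((Curv2.euler k S (CohB1.tensorMod (ClSub.quotMod Γ) A) - Curv2.euler k S (ClSub.quotMod Γ) : ℤ) : ℚ) =
          -Nakai.inter k A (ClSub.idealMod Γ) := fun A hA => by
      rw [Nakai.inter_idealMod k hdim Γ h1 hA, Nakai.degOn, neg_neg]
      push_cast
      rfl
    have h0 : (0 : ℚ) ≤ ((Curv2.euler k S (CohB1.tensorMod (ClSub.quotMod Γ) (CohB1.tensorMod (CohB1.tensorMod P Q) R)) -
        Curv2.euler k S (ClSub.quotMod Γ) : ℤ) : ℚ) := by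
      rw [e _ hN, hval _ hI]
      have eL := e _ hL
      have eZ := e _ (hZi i)
      have eF := e _ hJ
      push_cast at eL eZ eF
      rw [eL, eZ, eF] at h
      nlinarith
    exact_mod_cast h0
  choose N m hN hn hm hval using hNef
  let q : Fin (n + 1) → ℚ := fun i =>
    Nakai.inter k L L + 2 * Nakai.inter k L (ClSub.idealMod (Z i)) +
      Nakai.inter k (ClSub.idealMod (Z i)) (ClSub.idealMod (Z i)) -
      2 * μ i * (Nakai.inter k L LF + Nakai.inter k (ClSub.idealMod (Z i)) LF) + μ i * μ i * Nakai.inter k LF LF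
  have hq0 : 0 ≤ q 0 := by
    have h := Nakai.inter_self_nonneg_of_nef k hd (hN 0) (hn 0)
    rw [hval 0 _ (hN 0), Nakai.inter_comm k L (N 0), Nakai.inter_comm k (ClSub.idealMod (Z 0)) (N 0),
      Nakai.inter_comm k LF (N 0), hval 0 _ hL, hval 0 _ (hZi 0), hval 0 _ hJ,
      Nakai.inter_comm k (ClSub.idealMod (Z 0)) L, Nakai.inter_comm k LF L,
      Nakai.inter_comm k LF (ClSub.idealMod (Z 0))] at h
    refine nonneg_of_mul_nonneg_right (a := m 0 * m 0) ?_ (mul_pos (hm 0) (hm 0))
    simp only [q]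
    linarith
  have hqn : q (Fin.last n) = Nakai.inter k L L := by
    obtain ⟨e⟩ := RatBlow.nonempty_idealMod_top (X := S)
    have h0 : ∀ C : S.Modules, Nakai.inter k (ClSub.idealMod (Z (Fin.last n))) C = 0 := fun C => by
      rw [hZlast, Nakai.inter_iso k ((PicGrp.cl_eq_cl_iff _ _).2 ⟨e⟩), Nakai.inter_one]
    simp only [q, hμlast, Nakai.inter_comm k L (ClSub.idealMod (Z (Fin.last n))), h0]
    ring
  have key := sum_le_telescope (fun i : Fin n =>
    ((Nakai.inter k L LF + Nakai.inter k (ClSub.idealMod (Z i.castSucc)) LF - μ i.castSucc * Nakai.inter k LF LF) +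
      (Nakai.inter k L LF + Nakai.inter k (ClSub.idealMod (Z i.succ)) LF - μ i.succ * Nakai.inter k LF LF)) *
        (μ i.castSucc - μ i.succ)) q (fun i => ?_)
  · simp only [Nakai.intNum_eq_inter k hd]
    linarith
  obtain ⟨Y, hY, -⟩ := PtPush.exists_mul_of_le (hZ i.succ) (hZmono (Fin.castSucc_le_succ i))
  have hYc : BlowUp.IsEffCartierIdeal Y := BlowUpLib.cartier_of_mul_left (J := Z i.succ) (hY ▸ hZ i.castSucc)
  have hYi := (Groth.Agent.S8914.result Y).2 hYc
  obtain ⟨e⟩ := Nakai.nonempty_idealMod_mul hYc (hZ i.succ)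
  have hz : ∀ C : S.Modules, PicF.IsInvertible C → Nakai.inter k (ClSub.idealMod (Z i.castSucc)) C =
      Nakai.inter k (ClSub.idealMod Y) C + Nakai.inter k (ClSub.idealMod (Z i.succ)) C := fun C hC => by
    rw [hY, ← Nakai.inter_iso k ((PicGrp.cl_eq_cl_iff _ _).2 ⟨e⟩), Nakai.inter_tensor k hd hYi (hZi i.succ) hC]
  have n1 := inter_ideal_nonpos k hdim (hN i.castSucc) (hn i.castSucc) hYc
  have n2 := inter_ideal_nonpos k hdim (hN i.succ) (hn i.succ) hYc
  rw [hval _ _ hYi] at n1 n2
  have p1 := nonpos_of_mul_nonpos_right n1 (hm i.castSucc)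
  have p2 := nonpos_of_mul_nonpos_right n2 (hm i.succ)
  simp only [q]
  rw [Nakai.inter_comm k L (ClSub.idealMod (Z i.castSucc)), hz _ hL, hz _ hJ, hz _ (hZi i.castSucc),
    Nakai.inter_comm k (ClSub.idealMod (Z i.succ)) (ClSub.idealMod (Z i.castSucc)), hz _ (hZi i.succ),
    Nakai.inter_comm k (ClSub.idealMod Y) (ClSub.idealMod (Z i.castSucc)), hz _ hYi]
  rw [hz _ hYi] at p1
  rw [Nakai.inter_comm k L (ClSub.idealMod Y)] at p1 p2
  rw [Nakai.inter_comm k LF (ClSub.idealMod Y)] at p1 p2
  rw [Nakai.inter_comm k (ClSub.idealMod (Z i.succ)) (ClSub.idealMod Y)] at p1 p2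
  rw [Nakai.inter_comm k (ClSub.idealMod (Z i.succ)) (ClSub.idealMod Y),
    Nakai.inter_comm k (ClSub.idealMod (Z i.succ)) L]
  linarith

end Groth.Agent.S14313
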