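import Groth.Statements.S14314
import Groth.Agent.Nakai.FibreNef

set_option autoImplicit false
universe u
open CategoryTheory CategoryTheory.Limits AlgebraicGeometry TopologicalSpace
open Surf

namespace Groth.Agent.S14314

/-- Let k be an algebraically closed field, S a smooth projective surface over k (integral, proper and
smooth over k, of dimension 2), f : S → C a surjective k-morphism onto a smooth projective curve and
F = f⁻¹(p) the fibre over a closed point p, with O_S(F) a tensor inverse of its ideal sheaf. Let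
D_1, D_2 be numerically equivalent divisors (invertible modules L_1, L_2 with (L_1·Γ) = (L_2·Γ) for
every integral curve Γ ⊆ S, where (L·Γ) = χ(O_Γ ⊗ L) − χ(O_Γ)), μ_1 ≥ μ_2 rational numbers and Z_1,
Z_2 effective Cartier divisors with common part Z, that is Z_i = Z + Y_i with Z, Y_1, Y_2 effective
Cartier divisors and Y_1, Y_2 without common component (Y_1 ∩ Y_2 finite); in terms of ideal sheaves
I_{Z_i} = I_Z · I_{Y_i}. If N_i = D_i − Z_i − μ_i F is nef for i = 1, 2, that is (D_i·Γ) +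
(I_{Z_i}·Γ) − μ_i (F·Γ) ≥ 0 for every integral curve Γ, then N = D_2 − Z − μ_2 F is nef. (The
published statement is for the chapter's fibration over an algebraically closed field of positive
characteristic; this row asks only that f be surjective and allows any algebraically closed field.) -/
theorem result (k : Type u) [Field k] [IsAlgClosed k]
    (S : Scheme.{u}) [S.Over (Spec (CommRingCat.of k))] [IsProper (S ↘ (Spec (CommRingCat.of k)))]
    [Smooth (S ↘ (Spec (CommRingCat.of k)))] [IsIntegral S] (hdim : topologicalKrullDim S = 2)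
    (C : Scheme.{u}) [C.Over (Spec (CommRingCat.of k))] [IsProper (C ↘ (Spec (CommRingCat.of k)))]
    [Smooth (C ↘ (Spec (CommRingCat.of k)))] [IsIntegral C] (hdimC : topologicalKrullDim C = 1)
    (f : S ⟶ C) [f.IsOver (Spec (CommRingCat.of k))] [Surjective f]
    (p : C) (hp : IsClosed ({p} : Set C))
    (LF : S.Modules) (hLF : ClSub.IsInverseOf LF (ClSub.idealMod (f.fiberι p).ker))
    (L₁ L₂ : S.Modules) (hL₁ : PicF.IsInvertible L₁) (hL₂ : PicF.IsInvertible L₂)
    (hnum : ∀ Γ : S.IdealSheafData, IsIntegral Γ.subscheme → topologicalKrullDim (Γ.support : Set S) = 1 →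
      (Curv2.euler k S (CohB1.tensorMod (ClSub.quotMod Γ) L₁) - Curv2.euler k S (ClSub.quotMod Γ)) = (Curv2.euler k S (CohB1.tensorMod (ClSub.quotMod Γ) L₂) - Curv2.euler k S (ClSub.quotMod Γ)))
    (μ₁ μ₂ : ℚ) (hμ : μ₂ ≤ μ₁)
    (Z Y₁ Y₂ Z₁ Z₂ : S.IdealSheafData) (hZ : FGA.IsEffCartier Z) (hY₁ : FGA.IsEffCartier Y₁) (hY₂ : FGA.IsEffCartier Y₂)
    (hZ₁ : Z₁ = Z * Y₁) (hZ₂ : Z₂ = Z * Y₂) (hY : ((Y₁ ⊔ Y₂).support : Set S).Finite)
    (hnef₁ : (∀ Γ : S.IdealSheafData, IsIntegral Γ.subscheme → topologicalKrullDim (Γ.support : Set S) = 1 →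
      (0 : ℚ) ≤ ((Curv2.euler k S (CohB1.tensorMod (ClSub.quotMod Γ) L₁) - Curv2.euler k S (ClSub.quotMod Γ)) : ℚ) + ((Curv2.euler k S (CohB1.tensorMod (ClSub.quotMod Γ) (ClSub.idealMod Z₁)) - Curv2.euler k S (ClSub.quotMod Γ)) : ℚ)
        - μ₁ * ((Curv2.euler k S (CohB1.tensorMod (ClSub.quotMod Γ) LF) - Curv2.euler k S (ClSub.quotMod Γ)) : ℚ)))
    (hnef₂ : (∀ Γ : S.IdealSheafData, IsIntegral Γ.subscheme → topologicalKrullDim (Γ.support : Set S) = 1 →
      (0 : ℚ) ≤ ((Curv2.euler k S (CohB1.tensorMod (ClSub.quotMod Γ) L₂) - Curv2.euler k S (ClSub.quotMod Γ)) : ℚ) + ((Curv2.euler k S (CohB1.tensorMod (ClSub.quotMod Γ) (ClSub.idealMod Z₂)) - Curv2.euler k S (ClSub.quotMod Γ)) : ℚ)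
        - μ₂ * ((Curv2.euler k S (CohB1.tensorMod (ClSub.quotMod Γ) LF) - Curv2.euler k S (ClSub.quotMod Γ)) : ℚ))) :
    (∀ Γ : S.IdealSheafData, IsIntegral Γ.subscheme → topologicalKrullDim (Γ.support : Set S) = 1 →
      (0 : ℚ) ≤ ((Curv2.euler k S (CohB1.tensorMod (ClSub.quotMod Γ) L₂) - Curv2.euler k S (ClSub.quotMod Γ)) : ℚ) + ((Curv2.euler k S (CohB1.tensorMod (ClSub.quotMod Γ) (ClSub.idealMod Z)) - Curv2.euler k S (ClSub.quotMod Γ)) : ℚ)
        - μ₂ * ((Curv2.euler k S (CohB1.tensorMod (ClSub.quotMod Γ) LF) - Curv2.euler k S (ClSub.quotMod Γ)) : ℚ)) := by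
  haveI := CurveRR.isNoetherian_of_proper k S
  haveI := CurveRR.isNoetherian_of_proper k C
  set J := Scheme.IdealSheafData.vanishingIdeal ⟨{p}, hp⟩ with hJdef
  have hgp : genericPoint C ≠ p := fun h => by
    have hu : ({p} : Set C) = Set.univ := by
      rw [← hp.closure_eq, ← h]
      exact genericPoint_closure _
    haveI : Subsingleton C := ⟨fun a b => ((Set.ext_iff.mp hu a).mpr trivial).trans
      ((Set.ext_iff.mp hu b).mpr trivial).symm⟩
    have h0 := topologicalKrullDim_zero_of_discreteTopology C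
    rw [hdimC] at h0
    exact absurd h0 (by decide)
  have hJ : BlowUp.IsEffCartierIdeal J := (Groth.Agent.S8914.result J).1
    (CurveRR.isInvertible_pointIdeal hdimC.le hp hgp
      (SmLocalST.isRegularLocalRing_stalk_of_smooth_field (C ↘ Spec (CommRingCat.of k)) p))
  have hc : BlowUp.IsEffCartierIdeal (J.comap f) := Groth.Agent.S8862.result f J hJ fun ξ hξ hin => by
    rw [← hξ _ (genericPoint_specializes ξ)] at hin
    have hin' : f (genericPoint S) ∈ ({p} : Set C) := by
      have h' : f (genericPoint S) ∈ (J.support : Set C) := hin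
      rwa [hJdef, Scheme.IdealSheafData.coe_support_vanishingIdeal] at h'
    obtain ⟨y, hy⟩ := f.surjective (genericPoint C)
    have h2 : f (genericPoint S) ⤳ f y := (genericPoint_specializes y).map f.continuous
    rw [hy, show f (genericPoint S) = p from hin'] at h2
    exact hgp (h2.mem_closed hp rfl)
  obtain ⟨eLF⟩ := hLF
  rw [Groth.Agent.Nakai.ker_fiberι f hp] at eLF
  have hJc := (Groth.Agent.S8914.result _).2 hc
  have hF : ∀ Γc : S.IdealSheafData, topologicalKrullDim (Γc.support : Set S) = 1 →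
      Groth.Agent.Nakai.degOn k Γc LF = - Groth.Agent.Nakai.degOn k Γc (ClSub.idealMod (J.comap f)) :=
    fun Γc h1 => Groth.Agent.Nakai.degOn_inv k Γc h1 hJc ⟨TMul.commIso _ _ ≪≫ eLF⟩
  intro Γc hint h1
  haveI := hint
  have hmul : ∀ Y : S.IdealSheafData, FGA.IsEffCartier Y → Groth.Agent.Nakai.degOn k Γc (ClSub.idealMod (Z * Y)) =
      Groth.Agent.Nakai.degOn k Γc (ClSub.idealMod Z) + Groth.Agent.Nakai.degOn k Γc (ClSub.idealMod Y) := fun Y hYc => by
    obtain ⟨e⟩ := Groth.Agent.Nakai.nonempty_idealMod_mul hZ hYc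
    rw [← Groth.Agent.Nakai.degOn_iso k Γc e, Groth.Agent.Nakai.degOn_tensor k Γc h1
      ((Groth.Agent.S8914.result Z).2 hZ) ((Groth.Agent.S8914.result Y).2 hYc)]
  have n₁ : 0 ≤ Groth.Agent.Nakai.degOn k Γc L₁ + Groth.Agent.Nakai.degOn k Γc (ClSub.idealMod Z₁) -
      μ₁ * Groth.Agent.Nakai.degOn k Γc LF := hnef₁ Γc hint h1
  have n₂ : 0 ≤ Groth.Agent.Nakai.degOn k Γc L₂ + Groth.Agent.Nakai.degOn k Γc (ClSub.idealMod Z₂) -
      μ₂ * Groth.Agent.Nakai.degOn k Γc LF := hnef₂ Γc hint h1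
  rw [hZ₁, hmul Y₁ hY₁] at n₁
  rw [hZ₂, hmul Y₂ hY₂] at n₂
  show 0 ≤ Groth.Agent.Nakai.degOn k Γc L₂ + Groth.Agent.Nakai.degOn k Γc (ClSub.idealMod Z) -
      μ₂ * Groth.Agent.Nakai.degOn k Γc LF
  by_cases g2 : Γc.subschemeι (genericPoint Γc.subscheme) ∈ Y₂.support
  swap
  · have h : Groth.Agent.Nakai.degOn k Γc (ClSub.idealMod Y₂) ≤ 0 := by
      simp only [Groth.Agent.Nakai.degOn]
      exact_mod_cast Groth.Agent.Nakai.deg_ideal_nonpos k hY₂ Γc h1 g2
    linarith
  have g1 : Γc.subschemeι (genericPoint Γc.subscheme) ∉ Y₁.support := fun g1 => by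
    have hsub : (Γc.support : Set S) ⊆ ((Y₁ ⊔ Y₂).support : Set S) := by
      rw [← Γc.range_subschemeι]
      rintro _ ⟨y, rfl⟩
      exact ((genericPoint_specializes y).map Γc.subschemeι.continuous).mem_closed
        (Y₁ ⊔ Y₂).support.isClosed (by rw [Scheme.IdealSheafData.support_sup]; exact ⟨g1, g2⟩)
    have := Groth.Agent.Nakai.dim_le_zero_of_finite k Γc (hY.subset hsub)
    rw [h1] at this
    exact absurd this (by decide)
  have h : Groth.Agent.Nakai.degOn k Γc (ClSub.idealMod Y₁) ≤ 0 := by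
    simp only [Groth.Agent.Nakai.degOn]
    exact_mod_cast Groth.Agent.Nakai.deg_ideal_nonpos k hY₁ Γc h1 g1
  have hL : Groth.Agent.Nakai.degOn k Γc L₁ = Groth.Agent.Nakai.degOn k Γc L₂ := by
    simp only [Groth.Agent.Nakai.degOn]
    exact_mod_cast hnum Γc hint h1
  have hpos : 0 ≤ Groth.Agent.Nakai.degOn k Γc LF := by
    rw [hF Γc h1]
    by_cases hin : f (Γc.subschemeι (genericPoint Γc.subscheme)) = p
    · haveI : QuasiCompact (Γc.subschemeι ≫ f) := inferInstance
      refine le_of_eq ?_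
      simp only [Groth.Agent.Nakai.degOn]
      exact_mod_cast (neg_eq_zero.mpr (Groth.Agent.Nakai.deg_fibre_eq_zero k f hp hJ hc Γc h1 hin)).symm
    · rw [neg_nonneg]
      simp only [Groth.Agent.Nakai.degOn]
      refine mod_cast Groth.Agent.Nakai.deg_ideal_nonpos k hc Γc h1 fun hm => hin ?_
      rw [Scheme.IdealSheafData.support_comap] at hm
      have hm' : f (Γc.subschemeι (genericPoint Γc.subscheme)) ∈ (J.support : Set C) := hm
      rwa [hJdef, Scheme.IdealSheafData.coe_support_vanishingIdeal] at hm'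
  nlinarith

end Groth.Agent.S14314
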