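import Groth.Statements.S14315
import Groth.Agent.GoingDown.Dedekind
import Groth.Agent.SmDesc.Scheme
import Groth.Agent.SmLocalST.Basic
import Groth.Agent.InfLift.SchemeSmallExt
import Groth.Agent.RegDual.Scheme
import Groth.Agent.CurveVA.Criterion
-- import your own Groth.Agent.* helpers here

set_option autoImplicit false
universe u
open CategoryTheory CategoryTheory.Limits AlgebraicGeometry TopologicalSpace
open Surf

namespace Groth.Agent.S14315

set_option backward.isDefEq.respectTransparency false
set_option backward.isDefEq.respectTransparency.types false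
set_option linter.style.haveILetI false
set_option maxHeartbeats 1000000

theorem flat_of_gen {X Y : Scheme.{u}} [IsIntegral X] [IsIntegral Y] (f : X ⟶ Y)
    (e : f (genericPoint X) = genericPoint Y) (hdY : topologicalKrullDim Y ≤ 1)
    (hreg : ∀ y : Y, IsRegularLocalRing (Y.presheaf.stalk y)) : Flat f := by
  refine Flat.of_stalkMap f fun x => ?_
  haveI := hreg (f x)
  obtain ⟨_, _⟩ := Groth.Agent.GoingDown.isPrincipalIdealRing_of_regular (R := Y.presheaf.stalk (f x))
    ((Groth.Agent.RegDual.ringKrullDim_stalk_le_topologicalKrullDim (f x)).trans hdY)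
  refine Groth.Agent.GoingDown.flat_stalkMap_of_maximal f x fun ξ hξ _ => ?_
  have h1 : ξ = genericPoint X := (hξ _ ((genericPoint_spec X).specializes (Set.mem_univ ξ))).symm
  rw [h1, e]
  exact fun w hw => (hw.antisymm ((genericPoint_spec Y).specializes (Set.mem_univ w))).eq

/-- Let k be an algebraically closed field, S a smooth projective surface over k (integral, proper and
smooth over k, of dimension 2), f : S → C a surjective k-morphism onto a smooth projective curve C
(integral, proper and smooth over k, of dimension 1), and ψ : C' → C a finite k-morphism from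
another smooth projective curve C' which is unramified at every point of C' lying over a point of C
whose fibre of f is not smooth. Then S ×_C C' is smooth over k. (The published statement takes ψ
separable and f the chapter's generically smooth semi-stable fibration with connected fibres over an
algebraically closed field of positive characteristic; this row assumes only f surjective and ψ
finite, over any algebraically closed field.) -/
theorem result (k : Type u) [Field k] [IsAlgClosed k]
    (S : Scheme.{u}) [S.Over (Spec (CommRingCat.of k))] [IsProper (S ↘ (Spec (CommRingCat.of k)))]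
    [Smooth (S ↘ (Spec (CommRingCat.of k)))] [IsIntegral S] (hdim : topologicalKrullDim S = 2)
    (C : Scheme.{u}) [C.Over (Spec (CommRingCat.of k))] [IsProper (C ↘ (Spec (CommRingCat.of k)))]
    [Smooth (C ↘ (Spec (CommRingCat.of k)))] [IsIntegral C] (hdimC : topologicalKrullDim C = 1)
    (f : S ⟶ C) [f.IsOver (Spec (CommRingCat.of k))] [Surjective f]
    (C' : Scheme.{u}) [C'.Over (Spec (CommRingCat.of k))] [IsProper (C' ↘ (Spec (CommRingCat.of k)))]
    [Smooth (C' ↘ (Spec (CommRingCat.of k)))] [IsIntegral C'] (hdimC' : topologicalKrullDim C' = 1)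
    (ψ : C' ⟶ C) [ψ.IsOver (Spec (CommRingCat.of k))] [IsFinite ψ]
    (hψ : ∀ c : C', ¬ Smooth (f.fiberToSpecResidueField (ψ.base c)) →
      ∃ U : C'.Opens, c ∈ U ∧ FormallyUnramified (U.ι ≫ ψ)) :
    Smooth (pullback.snd f ψ ≫ (C' ↘ (Spec (CommRingCat.of k)))) := by
  let sS := S ↘ Spec (CommRingCat.of k)
  let sC := C ↘ Spec (CommRingCat.of k)
  let sC' := C' ↘ Spec (CommRingCat.of k)
  haveI : IsProper f := by
    haveI : IsProper (f ≫ sC) := by rw [show f ≫ sC = sS from comp_over f (Spec (CommRingCat.of k))]; infer_instance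
    exact IsProper.of_comp f sC
  haveI : IsLocallyNoetherian C := LocallyOfFiniteType.isLocallyNoetherian sC
  haveI : LocallyOfFinitePresentation f := Groth.Agent.InfLift.lfp_of_lft f
  haveI : LocallyOfFinitePresentation ψ := Groth.Agent.InfLift.lfp_of_lft ψ
  haveI : LocallyOfFinitePresentation sC' := inferInstance
  have hreg : ∀ y : C, IsRegularLocalRing (C.presheaf.stalk y) := fun y =>
    Groth.Agent.SmLocalST.isRegularLocalRing_stalk_of_smooth_field sC y
  haveI : IsDominant f := inferInstance
  haveI : Flat f := flat_of_gen f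
    ((((genericPoint_spec S).image f.continuous).eq (by
      rw [Set.image_univ, f.surjective.range_eq, closure_univ]; exact genericPoint_spec C)))
    hdimC.le hreg
  have hψη : ψ (genericPoint C') = genericPoint C := by
    by_contra hne
    have hcl : IsClosed ({ψ (genericPoint C')} : Set C) :=
      Groth.Agent.CurveVA.isClosed_singleton_of_ne_generic (k := k) hdimC hne
    have hsub : (Set.univ : Set C') ⊆ ψ ⁻¹' {ψ (genericPoint C')} := by
      rw [← (genericPoint_spec C').def]
      exact closure_minimal (by simp) (hcl.preimage ψ.continuous)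
    haveI : Finite C' := Set.finite_univ_iff.1 ((ψ.finite_preimage_singleton _).subset hsub)
    haveI : JacobsonSpace C' := LocallyOfFiniteType.jacobsonSpace sC'
    haveI : DiscreteTopology C' := inferInstance
    haveI : Subsingleton C' := ⟨fun a b => by
      have h := IsPreirreducible.subsingleton (X := C')
        (PreirreducibleSpace.isPreirreducible_univ (X := C'))
      exact h (Set.mem_univ a) (Set.mem_univ b)⟩
    have : topologicalKrullDim C' ≤ 0 := topologicalKrullDim_zero_of_discreteTopology C'
    rw [hdimC'] at this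
    exact absurd this (by norm_num)
  haveI : Flat ψ := flat_of_gen ψ hψη hdimC.le hreg
  let q := pullback.snd f ψ ≫ sC'
  have heq : q = pullback.fst f ψ ≫ sS := by
    show pullback.snd f ψ ≫ sC' = _
    rw [show sC' = ψ ≫ sC from (comp_over ψ (Spec (CommRingCat.of k))).symm,
      show sS = f ≫ sC from (comp_over f (Spec (CommRingCat.of k))).symm,
      ← Category.assoc, ← pullback.condition, Category.assoc]
  rw [← Scheme.Hom.smoothLocus_eq_top_iff, eq_top_iff]
  intro x _
  suffices h : ∃ V : (pullback f ψ).Opens, x ∈ V ∧ Smooth (V.ι ≫ q) by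
    obtain ⟨V, hxV, hV⟩ := h
    have h1 : V.ι ⁻¹ᵁ q.smoothLocus = ⊤ := by
      rw [Scheme.Hom.preimage_smoothLocus_eq]
      exact Scheme.Hom.smoothLocus_eq_top (V.ι ≫ q)
    exact h1.ge (show (⟨x, hxV⟩ : V) ∈ (⊤ : V.toScheme.Opens) from trivial)
  by_cases hc : Smooth (f.fiberToSpecResidueField (ψ.base ((pullback.snd f ψ).base x)))
  · haveI := hc
    let y := ψ.base ((pullback.snd f ψ).base x)
    obtain ⟨z, hz⟩ : (pullback.fst f ψ).base x ∈ Set.range (f.fiberι y) := by
      rw [f.range_fiberι]
      show (pullback.fst f ψ ≫ f).base x = _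
      rw [pullback.condition]
      rfl
    let O := f.smoothLocus
    have hO : (pullback.fst f ψ).base x ∈ O :=
      Groth.Agent.SmDesc.mem_smoothLocus_of_flat_fibre (f := f) z hz (by
        rw [Scheme.Hom.smoothLocus_eq_top]; trivial)
    refine ⟨pullback.fst f ψ ⁻¹ᵁ O, hO, ?_⟩
    have sq := ((isPullback_morphismRestrict (pullback.fst f ψ) O).flip.paste_horiz
      (IsPullback.of_hasPullback f ψ).flip)
    haveI : Smooth (O.ι ≫ f) := Groth.Agent.SmDesc.smooth_smoothLocus f
    haveI : Smooth ((pullback.fst f ψ ⁻¹ᵁ O).ι ≫ pullback.snd f ψ) :=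
      MorphismProperty.of_isPullback (P := @Smooth) sq.flip inferInstance
    rw [show (pullback.fst f ψ ⁻¹ᵁ O).ι ≫ q = ((pullback.fst f ψ ⁻¹ᵁ O).ι ≫ pullback.snd f ψ) ≫ sC' from
      (Category.assoc _ _ _).symm]
    infer_instance
  · obtain ⟨U, hU, hunr⟩ := hψ _ hc
    haveI := hunr
    haveI : Etale (U.ι ≫ ψ) := Etale.of_formallyUnramified_of_flat (U.ι ≫ ψ)
    refine ⟨pullback.snd f ψ ⁻¹ᵁ U, hU, ?_⟩
    have sq := ((isPullback_morphismRestrict (pullback.snd f ψ) U).flip.paste_horiz (IsPullback.of_hasPullback f ψ))
    haveI : Etale ((pullback.snd f ψ ⁻¹ᵁ U).ι ≫ pullback.fst f ψ) :=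
      MorphismProperty.of_isPullback (P := @Etale) sq.flip inferInstance
    rw [heq, ← Category.assoc]
    infer_instance

end Groth.Agent.S14315
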