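import Groth.Statements.S1432
import Mathlib

set_option autoImplicit false
universe u
open FlatMor

namespace Groth.Agent.S1432

open AlgebraicGeometry CategoryTheory Limits in
/-- For a quasi-compact morphism f : X → Y, being a closed immersion is equivalent to the following
lifting property: for each injective ring map A → B and each commutative square with Spec B → X on
top and Spec A → Y at the bottom there is a lift Spec A → X making both triangles commute. -/
theorem result {X Y : Scheme.{u}} (f : X ⟶ Y) [QuasiCompact f] :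
    IsClosedImmersion f ↔ ∀ (A B : Type u) [CommRing A] [CommRing B] (φ : A →+* B), Function.Injective φ →
      ∀ (a : Spec (CommRingCat.of B) ⟶ X) (b : Spec (CommRingCat.of A) ⟶ Y), Spec.map (CommRingCat.ofHom φ) ≫ b = a ≫ f →
        ∃ l : Spec (CommRingCat.of A) ⟶ X, Spec.map (CommRingCat.ofHom φ) ≫ l = a ∧ l ≫ f = b := by
  constructor
  · intro hf A B _ _ φ hφ a b w
    let q := pullback.snd f b
    have hq : IsIso q := by
      have h1 : pullback.lift a (Spec.map (CommRingCat.ofHom φ)) w.symm ≫ q = Spec.map (CommRingCat.ofHom φ) :=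
        pullback.lift_snd _ _ _
      obtain ⟨I, ⟨e⟩⟩ : ∃ I : Ideal A, Nonempty (Over.mk q ≅ Over.mk (Spec.map (CommRingCat.ofHom (Ideal.Quotient.mk I)))) := by
        obtain ⟨I, e, he⟩ := IsClosedImmersion.Spec_iff.mp (show IsClosedImmersion q from inferInstance)
        exact ⟨I, ⟨Over.isoMk e (by simpa using he.symm)⟩⟩
      let s := pullback.lift a (Spec.map (CommRingCat.ofHom φ)) w.symm ≫ e.hom.left
      obtain ⟨ψ, hψ⟩ := Spec.map_surjective s
      have hw : e.hom.left ≫ Spec.map (CommRingCat.ofHom (Ideal.Quotient.mk I)) = q := Over.w e.hom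
      have h2 : CommRingCat.ofHom (Ideal.Quotient.mk I) ≫ ψ = CommRingCat.ofHom φ := by
        apply Spec.map_injective
        rw [Spec.map_comp, hψ, Category.assoc, hw, h1]
      have hI : I = ⊥ := by
        refine eq_bot_iff.mpr fun x hx => hφ ?_
        rw [map_zero]
        have h3 := (congr($(h2) x)).symm
        simp only [CommRingCat.hom_ofHom, CommRingCat.hom_comp, RingHom.comp_apply] at h3
        rw [h3, Ideal.Quotient.eq_zero_iff_mem.mpr hx, map_zero]
      subst hI
      haveI : IsIso (CommRingCat.ofHom (Ideal.Quotient.mk (⊥ : Ideal A))) :=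
        (ConcreteCategory.isIso_iff_bijective _).mpr ⟨fun x y h => by simpa [Ideal.Quotient.eq, sub_eq_zero] using h, Ideal.Quotient.mk_surjective⟩
      haveI : IsIso e.hom.left := inferInstanceAs (IsIso ((Over.forget _).map e.hom))
      rw [← hw]
      infer_instance
    refine ⟨inv q ≫ pullback.fst f b, ?_, by rw [Category.assoc, pullback.condition]; simp [q]⟩
    have h1 : pullback.lift a (Spec.map (CommRingCat.ofHom φ)) w.symm ≫ q = Spec.map (CommRingCat.ofHom φ) :=
      pullback.lift_snd _ _ _
    rw [← h1, Category.assoc, IsIso.hom_inv_id_assoc]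
    exact pullback.lift_fst _ _ _
  · intro H
    have hg : IsIso f.toImage := by
      have hcov : (⨆ U : Y.affineOpens, f.imageι ⁻¹ᵁ U.1) = ⊤ := by
        rw [← Scheme.Hom.preimage_iSup, iSup_affineOpens_eq_top]; rfl
      refine IsZariskiLocalAtTarget.of_iSup_eq_top (P := MorphismProperty.isomorphisms Scheme) _ hcov fun U => ?_
      let V := f.imageι ⁻¹ᵁ U.1
      haveI : IsAffine V.toScheme := U.2.preimage f.imageι
      let W := f.toImage ⁻¹ᵁ V
      let g := f.toImage ∣_ V
      show IsIso g
      haveI : CompactSpace W.toScheme := by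
        haveI : QuasiCompact g := inferInstance
        exact QuasiCompact.compactSpace_of_compactSpace g
      let 𝒰 := W.toScheme.affineCover.finiteSubcover
      haveI : ∀ i, IsAffine (𝒰.X i) := fun i => by
        dsimp [𝒰, Scheme.OpenCover.finiteSubcover]; infer_instance
      let p : (∐ 𝒰.X) ⟶ W.toScheme := Sigma.desc 𝒰.f
      haveI : Finite 𝒰.I₀ := Finite.of_fintype _
      haveI : IsAffine (∐ 𝒰.X) := inferInstance
      let T := p ≫ g
      have hinj : Function.Injective T.appTop := by
        have h1 : Function.Injective g.appTop := by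
          rw [morphismRestrict_appTop]
          have h2 : Function.Injective (f.toImage.app V) := f.toImage_app_injective (U := U)
          have h3 : V.ι ''ᵁ ⊤ = V := V.ι_image_top
          have h4 : Function.Injective (f.toImage.app (V.ι ''ᵁ ⊤)) := by rw [h3]; exact h2
          intro x y hxy
          exact h4 ((ConcreteCategory.bijective_of_isIso (X.presheaf.map _)).1 hxy)
        have h5 : Function.Injective p.appTop := fun s t hst => 𝒰.ext_elem s t fun i => by
          have h6 : 𝒰.f i = Sigma.ι 𝒰.X i ≫ p := (Sigma.ι_desc _ _).symm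
          rw [h6, Scheme.Hom.comp_app]
          exact congrArg ((Sigma.ι 𝒰.X i).app _) hst
        rw [Scheme.Hom.comp_appTop]
        exact h5.comp h1
      let a : Spec Γ(∐ 𝒰.X, ⊤) ⟶ X := (∐ 𝒰.X).isoSpec.inv ≫ p ≫ W.ι
      let b : Spec Γ(V.toScheme, ⊤) ⟶ Y := V.toScheme.isoSpec.inv ≫ V.ι ≫ f.imageι
      have w : Spec.map (CommRingCat.ofHom T.appTop.hom) ≫ b = a ≫ f := by
        simp only [CommRingCat.ofHom_hom, a, b, Scheme.isoSpec_inv_naturality_assoc, T, g, Category.assoc,
          morphismRestrict_ι_assoc, Scheme.Hom.toImage_imageι, W]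
      obtain ⟨l, hl1, hl2⟩ := H _ _ T.appTop.hom hinj a b w
      let l' := V.toScheme.isoSpec.hom ≫ l
      have hl2' : l' ≫ f.toImage = V.ι := by
        rw [← cancel_mono f.imageι, Category.assoc, Scheme.Hom.toImage_imageι]
        simp only [l', Category.assoc, hl2, b, Iso.hom_inv_id_assoc]
      have hr : Set.range l' ⊆ Set.range W.ι := by
        rw [Scheme.Opens.range_ι]
        rintro _ ⟨y, rfl⟩
        show f.toImage (l' y) ∈ V
        rw [← Scheme.Hom.comp_apply, hl2']
        exact y.2
      let s := IsOpenImmersion.lift W.ι l' hr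
      have hs : s ≫ W.ι = l' := IsOpenImmersion.lift_fac _ _ _
      refine ⟨⟨s, ?_, ?_⟩⟩
      · refine Scheme.Cover.hom_ext 𝒰 _ _ fun i => ?_
        rw [Category.comp_id, ← cancel_mono W.ι]
        have hTl : T ≫ l' = p ≫ W.ι := by
          simp only [l']
          rw [← Scheme.isoSpec_hom_naturality_assoc, ← CommRingCat.ofHom_hom T.appTop, hl1]
          simp [a]
        have h6 : 𝒰.f i = Sigma.ι 𝒰.X i ≫ p := (Sigma.ι_desc _ _).symm
        rw [Category.assoc, Category.assoc, hs, h6, Category.assoc, Category.assoc, ← hTl]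
        rfl
      · rw [← cancel_mono V.ι, Category.assoc, morphismRestrict_ι, ← Category.assoc, hs, hl2', Category.id_comp]
    rw [← f.toImage_imageι]
    infer_instance

end Groth.Agent.S1432
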