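import Groth.Statements.S14330
import Groth.Agent.DepthExtend.Basic
import Groth.Agent.FinFlatExt.Basic
import Groth.Agent.ResDesc.ResProp
import Groth.Agent.SerrePn.ClosedDepth

set_option linter.style.haveILetI false
set_option backward.isDefEq.respectTransparency false
set_option backward.isDefEq.respectTransparency.types false

set_option autoImplicit false
universe u
open CategoryTheory CategoryTheory.Limits AlgebraicGeometry Opposite
open GrpSch

namespace Groth.Agent.S14330

/-- Let S be a locally Noetherian scheme, f : A → S a smooth morphism, L an invertible O_A-module and V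
an open subscheme of S; for an open W of S consider the restriction of sections of L from f⁻¹(W) to
f⁻¹(W) ∩ f⁻¹(V), that is the component over W of the natural map f_*L → j_*j^*(f_*L), j : V → S the
inclusion. If V is schematically dense in S, all these restrictions are injective. If V is a big
open of S, meaning that the local ring of S at every point outside V has depth at least 2, all these
restrictions are bijective. (The published statement is for a semi-stable group scheme A; its proof
uses only the smoothness of A over S and the local freeness of L, which are the hypotheses kept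
here.) -/
theorem result {S A : Scheme.{u}} [IsLocallyNoetherian S]
    (f : A ⟶ S) [Smooth f] (L : A.Modules) (hL : PicF.IsInvertible L) (V : S.Opens) :
    (CInt.IsSchematicallyDense V →
      ∀ W : S.Opens, Function.Injective (L.val.map (homOfLE (inf_le_left : f ⁻¹ᵁ W ⊓ f ⁻¹ᵁ V ≤ f ⁻¹ᵁ W)).op)) ∧
    ((∀ x : S, x ∉ V → 2 ≤ LocCoh.depth (S.presheaf.stalk x) (S.presheaf.stalk x)) →
      ∀ W : S.Opens, Function.Bijective (L.val.map (homOfLE (inf_le_left : f ⁻¹ᵁ W ⊓ f ⁻¹ᵁ V ≤ f ⁻¹ᵁ W)).op)) := by
  haveI : IsLocallyNoetherian A := LocallyOfFiniteType.isLocallyNoetherian f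
  have hfree := ResDesc.isFinLocFree_of_isInvertible hL
  have hcoh : Coh.IsCoh L := ⟨LocFree.isQCoh_of_isFinLocFree hfree, LocFree.isFT_of_isFinLocFree hfree⟩
  have hdepth : ∀ (m : ℕ) (y : A), (m : ℕ∞) ≤ LocCoh.depth (S.presheaf.stalk (f y)) (S.presheaf.stalk (f y)) →
      (m : ℕ∞) ≤ LocCoh.depth (A.presheaf.stalk y) (L.presheaf.stalk y) := fun m y hy => by
    haveI := RegDual.finite_stalk hcoh y
    haveI := LocFree.free_stalk_of_isFinLocFree hfree y
    exact SerrePn.le_depth_free (hy.trans (FinFlatExt.depth_le_stalk f y)) _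
  refine ⟨fun hV W => ?_, fun hV W => ?_⟩
  · intro a b hab
    have hab' : ZCl.rs L (inf_le_left : f ⁻¹ᵁ W ⊓ f ⁻¹ᵁ V ≤ f ⁻¹ᵁ W) a =
        ZCl.rs L (inf_le_left : f ⁻¹ᵁ W ⊓ f ⁻¹ᵁ V ≤ f ⁻¹ᵁ W) b := hab
    refine ZCl.ext_germ L a b fun y hy => ?_
    obtain ⟨O, hO, hyO, hOW⟩ := exists_isAffineOpen_mem_and_subset (X := A) (U := f ⁻¹ᵁ W) hy
    have hinj := (ZCl.injective_rs_iff_depth L hcoh hO (f ⁻¹ᵁ V)).2 fun z _ hz =>
      hdepth 1 z (by exact_mod_cast (DepthExtend.isSchematicallyDense_iff V).1 hV (f z) hz)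
    have h1 : ZCl.rs L hOW a = ZCl.rs L hOW b := hinj (by
      rw [ZCl.rs_rs, ZCl.rs_rs]
      have h2 := congrArg (ZCl.rs L (le_inf (inf_le_right.trans hOW) inf_le_left :
        f ⁻¹ᵁ V ⊓ O ≤ f ⁻¹ᵁ W ⊓ f ⁻¹ᵁ V)) hab'
      rwa [ZCl.rs_rs, ZCl.rs_rs] at h2)
    exact (ZCl.germ_rs L hOW y hyO a).symm.trans ((congrArg _ h1).trans (ZCl.germ_rs L hOW y hyO b))
  · exact RefStalk.bijective_rs_of_depth hcoh inf_le_left fun y hy hy' =>
      hdepth 2 y (by exact_mod_cast hV (f y) fun h => hy' ⟨hy, h⟩)

end Groth.Agent.S14330
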