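import Groth.Statements.S14334
import Groth.Agent.CompInt.Cohom
import Groth.Agent.SteinGen.GeomConn
import Groth.Agent.S0024

set_option autoImplicit false
universe u
open CategoryTheory CategoryTheory.Limits AlgebraicGeometry
open Coherent

set_option backward.isDefEq.respectTransparency false
set_option backward.isDefEq.respectTransparency.types false

set_option backward.isDefEq.respectTransparency false
set_option backward.isDefEq.respectTransparency.types false
open CategoryTheory CategoryTheory.Limits AlgebraicGeometry Opposite Groth.Agent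

namespace Groth.Agent.S14334

/-- Let k be a field, r ≤ n, and G_1, …, G_r homogeneous forms of positive degrees in the homogeneous
coordinates of P = P^n_k whose common zero scheme X = V(G_1, …, G_r), with its closed immersion ι :
X → P, has dimension n − r, so that X is a global complete intersection in P. Assume n − r ≥ 1. Then
X is geometrically connected over k: for every field K and every morphism Spec K → Spec k, the base
change X ×_{Spec k} Spec K is a connected (in particular nonempty) topological space; in particular
X itself is connected. The structure morphism of X is written as ι followed by the structure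
morphism of P. -/
theorem result (k : Type u) [Field k] (n r : ℕ) (hr : r ≤ n) (a : Fin r → ℕ) (ha : ∀ j, 1 ≤ a j) (G : ∀ j : Fin r, LefPen.Form n k (a j)) (hdim : topologicalKrullDim ↥(LefPen.ciIdeal G).subscheme = ((n - r : ℕ) : WithBot ℕ∞)) (h1 : 1 ≤ n - r) : GeometricallyConnected ((LefPen.ciIdeal G).subschemeι ≫ CohB1.ProjSpace.toSpec n k) := by
  haveI := ProjMor.isProper_toSpec n k
  haveI : IsIso (CohB1.ProjSpace.toSpec n k).appTop := S0024.result n k
  have hci := CompInt.isCI_of_dim G ha hr hdim
  set ι := (LefPen.ciIdeal G).subschemeι with hι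
  have hR := (CompInt.good hci 0).2 h1
  obtain ⟨o⟩ : Nonempty (Twist.twistProjSpace n k 0 ≅ Coh.structureModule (CohB1.ProjSpace n k)) :=
    GrT.nonempty_twist_zero_iso (𝒜 := CohB1.polyGrading n k)
  let adj := Scheme.Modules.pullbackPushforwardAdjunction ι
  have hsurj : Function.Surjective ι.appTop := by
    have hnat := adj.unit.naturality o.hom
    have hu : adj.homEquiv (Coh.structureModule (CohB1.ProjSpace n k)) (Coh.structureModule (LefPen.ciIdeal G).subscheme)
        (PicLoc.pullbackStructureIso ι).hom = SheafOfModules.unitToPushforwardObjUnit ι.toRingCatSheafHom :=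
      Equiv.apply_symm_apply _ _
    rw [adj.homEquiv_unit] at hu
    intro t
    obtain ⟨t₁, ht₁⟩ := CompInt.app_surjective_of_isIso
      ((Scheme.Modules.pushforward ι).map ((Scheme.Modules.pullback ι).map o.hom ≫ (PicLoc.pullbackStructureIso ι).hom)) ⊤ t
    obtain ⟨s, hs⟩ := hR t₁
    refine ⟨o.hom.app ⊤ s, ?_⟩
    have h2 := congrArg (fun φ : Twist.twistProjSpace n k 0 ⟶ (Scheme.Modules.pushforward ι).obj (Coh.structureModule (LefPen.ciIdeal G).subscheme) => φ.app ⊤ s)
      ((congrArg (· ≫ (Scheme.Modules.pushforward ι).map (PicLoc.pullbackStructureIso ι).hom) hnat))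
    simp only [Category.assoc, Functor.id_map, Functor.comp_map, ← Functor.map_comp] at h2
    rw [hu] at h2
    refine Eq.trans ?_ (h2.trans ?_)
    · rfl
    · rw [← ht₁, ← hs]
      rfl
  have htop : Function.Bijective (ι ≫ CohB1.ProjSpace.toSpec n k).appTop := by
    have hs : Function.Surjective (ι ≫ CohB1.ProjSpace.toSpec n k).appTop := by
      rw [Scheme.Hom.comp_appTop]
      exact hsurj.comp (ConcreteCategory.bijective_of_isIso (CohB1.ProjSpace.toSpec n k).appTop).2
    refine ⟨?_, hs⟩
    obtain ⟨z⟩ := hci.nonempty
    haveI : Nontrivial Γ((LefPen.ciIdeal G).subscheme, ⊤) :=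
      RingHom.domain_nontrivial ((LefPen.ciIdeal G).subscheme.presheaf.germ ⊤ z trivial).hom
    have e : Γ(Spec (CommRingCat.of k), ⊤) ≃+* k := (Scheme.ΓSpecIso (CommRingCat.of k)).commRingCatIsoToRingEquiv
    have hinj : Function.Injective ((ι ≫ CohB1.ProjSpace.toSpec n k).appTop.hom.comp e.symm.toRingHom) :=
      RingHom.injective _
    intro p q hpq
    have := hinj (show _ = ((ι ≫ CohB1.ProjSpace.toSpec n k).appTop.hom.comp e.symm.toRingHom) (e q) from
      (show ((ι ≫ CohB1.ProjSpace.toSpec n k).appTop.hom.comp e.symm.toRingHom) (e p) = _ by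
        simpa using hpq))
    exact e.injective this
  refine SteinGen.geometricallyConnected_of_isIso_app _ fun U => ?_
  rw [ConcreteCategory.isIso_iff_bijective]
  obtain rfl | rfl : U = ⊥ ∨ U = ⊤ := by
    by_cases h : (IsLocalRing.closedPoint k : Spec (CommRingCat.of k)) ∈ U
    · exact Or.inr (top_le_iff.1 fun y _ => (Subsingleton.elim (α := PrimeSpectrum k) _ _ : (IsLocalRing.closedPoint k : Spec (CommRingCat.of k)) = y) ▸ h)
    · exact Or.inl (le_bot_iff.1 fun y hy => (h ((Subsingleton.elim (α := PrimeSpectrum k) _ _ : y = (IsLocalRing.closedPoint k : Spec (CommRingCat.of k))) ▸ hy)).elim)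
  · exact ⟨fun p q _ => Subsingleton.elim p q, fun t => ⟨0, Subsingleton.elim (α := Γ((LefPen.ciIdeal G).subscheme, ⊥)) _ t⟩⟩
  · exact htop

end Groth.Agent.S14334
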