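import Groth.Statements.S14335
import Groth.Agent.CompInt.Dim

set_option autoImplicit false
universe u
open CategoryTheory CategoryTheory.Limits AlgebraicGeometry
open Coherent

set_option backward.isDefEq.respectTransparency false
set_option backward.isDefEq.respectTransparency.types false

set_option backward.isDefEq.respectTransparency false
set_option backward.isDefEq.respectTransparency.types false
open CategoryTheory CategoryTheory.Limits AlgebraicGeometry TopologicalSpace Opposite Groth.Agent

namespace Groth.Agent.S14335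

/-- Let k be a field, r ≤ n, and G_1, …, G_r homogeneous forms of positive degrees in the homogeneous
coordinates of P = P^n_k whose common zero scheme X = V(G_1, …, G_r), with its closed immersion ι :
X → P, has dimension n − r, so that X is a global complete intersection in P. Then X is
equidimensional: every irreducible component of X, with the subspace topology, has dimension exactly
n − r. -/
theorem result (k : Type u) [Field k] (n r : ℕ) (hr : r ≤ n) (a : Fin r → ℕ) (ha : ∀ j, 1 ≤ a j) (G : ∀ j : Fin r, LefPen.Form n k (a j)) (hdim : topologicalKrullDim ↥(LefPen.ciIdeal G).subscheme = ((n - r : ℕ) : WithBot ℕ∞)) (Z : Set ↥(LefPen.ciIdeal G).subscheme) (hZ : Z ∈ irreducibleComponents ↥(LefPen.ciIdeal G).subscheme) : topologicalKrullDim ↥Z = ((n - r : ℕ) : WithBot ℕ∞) := by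
  classical
  haveI := ProjMor.isProper_toSpec n k
  haveI : JacobsonSpace (LefPen.ciIdeal G).subscheme :=
    LocallyOfFiniteType.jacobsonSpace ((LefPen.ciIdeal G).subschemeι ≫ CohB1.ProjSpace.toSpec n k)
  haveI : IsLocallyNoetherian (LefPen.ciIdeal G).subscheme :=
    LocallyOfFiniteType.isLocallyNoetherian ((LefPen.ciIdeal G).subschemeι ≫ CohB1.ProjSpace.toSpec n k)
  haveI : CompactSpace (LefPen.ciIdeal G).subscheme := (LefPen.ciIdeal G).subschemeι.isClosedEmbedding.compactSpace
  haveI : IsNoetherian (LefPen.ciIdeal G).subscheme := {}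
  refine le_antisymm ((topologicalKrullDim_subspace_le (LefPen.ciIdeal G).subscheme Z).trans hdim.le) ?_
  have hfin := NoetherianSpace.finite_irreducibleComponents (α := ↥(LefPen.ciIdeal G).subscheme)
  let W : Set (LefPen.ciIdeal G).subscheme := (⋃₀ (irreducibleComponents (LefPen.ciIdeal G).subscheme \ {Z}))ᶜ
  have hW : IsOpen W := (Set.Finite.isClosed_biUnion (f := fun s => s) (hfin.subset (Set.diff_subset (t := {Z})))
    (fun s hs => isClosed_of_mem_irreducibleComponents s (Set.diff_subset hs))).isOpen_compl |> fun h => by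
      rwa [← Set.sUnion_eq_biUnion] at h
  have hne : W.Nonempty := by
    by_contra hW0
    rw [Set.not_nonempty_iff_eq_empty] at hW0
    have hsub : Z ⊆ ⋃₀ (irreducibleComponents (LefPen.ciIdeal G).subscheme \ {Z}) := fun z _ => by
      by_contra hz
      exact Set.eq_empty_iff_forall_notMem.1 hW0 z hz
    obtain ⟨T, hT, hZT⟩ := isIrreducible_iff_sUnion_isClosed.1 hZ.1 (hfin.subset (Set.diff_subset (t := {Z}))).toFinset
      (fun T hT => isClosed_of_mem_irreducibleComponents T (Set.Finite.mem_toFinset _ |>.1 hT).1)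
      (by rwa [Set.Finite.coe_toFinset])
    rw [Set.Finite.mem_toFinset] at hT
    exact hT.2 (Set.Subset.antisymm (hZ.2 hT.1.1 hZT) hZT)
  obtain ⟨x, hxW, hxc⟩ := nonempty_inter_closedPoints hne hW.isLocallyClosed
  letI := specializationOrder (LefPen.ciIdeal G).subscheme
  have hcomp : ∀ z : (LefPen.ciIdeal G).subscheme, x ≤ z → z ∈ Z := fun z hz => by
    by_contra hzZ
    refine hxW ⟨irreducibleComponent z, ⟨irreducibleComponent_mem_irreducibleComponents z, fun h => hzZ
      ((Set.mem_singleton_iff.1 h) ▸ mem_irreducibleComponent)⟩, ?_⟩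
    exact (Scheme.le_iff_specializes.1 hz).mem_closed isClosed_irreducibleComponent mem_irreducibleComponent
  have h1 := CompInt.le_dim_stalk G x hxc
  rw [ringKrullDim_stalk_eq_coheight, Order.coheight_eq_krullDim_Ici] at h1
  let g : Set.Ici x → IrreducibleCloseds ↥Z := fun z =>
    ⟨closure {⟨z.1, hcomp z.1 z.2⟩}, isIrreducible_singleton.closure, isClosed_closure⟩
  have hg : StrictMono g := by
    intro a b hab
    have hspec : (⟨b.1, hcomp b.1 b.2⟩ : ↥Z) ⤳ ⟨a.1, hcomp a.1 a.2⟩ :=
      (subtype_specializes_iff _ _).2 (Scheme.le_iff_specializes.1 hab.le)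
    refine lt_of_le_not_ge hspec.closure_subset fun h => hab.not_ge ?_
    exact Scheme.le_iff_specializes.2 ((subtype_specializes_iff (⟨a.1, hcomp a.1 a.2⟩ : ↥Z) ⟨b.1, hcomp b.1 b.2⟩).1 (specializes_iff_closure_subset.2 (show closure {(⟨b.1, hcomp b.1 b.2⟩ : ↥Z)} ⊆ closure {⟨a.1, hcomp a.1 a.2⟩} from h)))
  have h2 : ((n : ℕ) : WithBot ℕ∞) ≤ topologicalKrullDim ↥Z + (r : WithBot ℕ∞) := by
    refine h1.trans ?_
    gcongr
    exact Order.krullDim_le_of_strictMono g hg
  have hne' : topologicalKrullDim ↥Z ≠ ⊥ := fun h => by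
    rw [h, WithBot.bot_add] at h2
    simp at h2
  obtain ⟨e, he⟩ := CompInt.exists_nat_of_le (show topologicalKrullDim ↥Z ≤ ((n - r : ℕ) : WithBot ℕ∞) from
    (topologicalKrullDim_subspace_le (LefPen.ciIdeal G).subscheme Z).trans hdim.le) hne'
  rw [he] at h2 ⊢
  have h3 : n ≤ e + r := by exact_mod_cast h2
  exact_mod_cast (by omega : n - r ≤ e)

end Groth.Agent.S14335
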