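import Groth.Statements.S14610
import Groth.Agent.FlatCx.Semicontinuous
import Groth.Agent.S6266
import Mathlib.LinearAlgebra.FreeModule.Finite.Basic
import Mathlib.LinearAlgebra.Dimension.RankNullity
import Mathlib.LinearAlgebra.TensorProduct.RightExactness

set_option autoImplicit false
universe u v
open CAlg Groth.Agent
open scoped TensorProduct

namespace Groth.Agent.S14610

open TensorProduct in
/-- Let A be a reduced Noetherian ring, M a finitely generated A-module, F a finitely generated free
A-module and δ : M → F an A-linear map such that the function p ↦ dim_{κ(p)} ker(δ ⊗ κ(p)) is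
locally constant on Spec A. Then M, ker δ and coker δ = F / im δ are projective A-modules, and for
every A-module N the natural map (ker δ) ⊗ N → M ⊗ N is injective with image equal to the kernel of
δ ⊗ N. -/
theorem result (A : Type u) [CommRing A]
    [IsNoetherianRing A] [IsReduced A] (M : Type v) (F : Type v) [AddCommGroup M] [Module A M]
    [Module.Finite A M] [AddCommGroup F] [Module A F] [Module.Finite A F] [Module.Free A F]
    (δ : M →ₗ[A] F)
    (h : IsLocallyConstant (fun x : PrimeSpectrum A =>
      Module.finrank x.asIdeal.ResidueField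
        (LinearMap.ker (δ.baseChange x.asIdeal.ResidueField)))) :
    Module.Projective A M ∧ Module.Projective A (LinearMap.ker δ) ∧
      Module.Projective A (F ⧸ LinearMap.range δ) ∧
      ∀ (N : Type v) [AddCommGroup N] [Module A N],
        Function.Injective (LinearMap.rTensor N (LinearMap.ker δ).subtype) ∧
        Function.Exact (LinearMap.rTensor N (LinearMap.ker δ).subtype) (LinearMap.rTensor N δ) := by
  classical
  obtain ⟨n, π, hπ⟩ := Module.Finite.exists_fin' A M
  let e := (Module.Free.chooseBasis A F).reindex (Fintype.equivFin _)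
  let eF := e.equivFun
  let N := LinearMap.ker π
  let d : (Fin n → A) →ₗ[A] (Fin (Fintype.card (Module.Free.ChooseBasisIndex A F)) → A) := eF.toLinearMap ∘ₗ δ ∘ₗ π
  have key : ∀ x : PrimeSpectrum A, Module.finrank x.asIdeal.ResidueField (LinearMap.ker (δ.baseChange x.asIdeal.ResidueField)) +
      FlatCx.fibreRk N.subtype x + FlatCx.fibreRk d x = n := by
    intro x
    let k := x.asIdeal.ResidueField
    haveI : Nontrivial A := (algebraMap A k).domain_nontrivial
    have hn : Module.finrank k (k ⊗[A] (Fin n → A)) = n := by
      rw [Module.finrank_baseChange, Module.finrank_pi, Fintype.card_fin]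
    have hpk : Function.Surjective (π.baseChange k) := LinearMap.lTensor_surjective k hπ
    have hex : Function.Exact (N.subtype.baseChange k) (π.baseChange k) :=
      @lTensor_exact A N (Fin n → A) M _ _ _ _ _ _ _ N.subtype π k _ _ (LinearMap.exact_subtype_ker_map π) hπ
    have h1 := LinearMap.finrank_range_add_finrank_ker (π.baseChange k)
    rw [LinearMap.range_eq_top.2 hpk, finrank_top, LinearMap.exact_iff.1 hex, hn] at h1
    have h2 := LinearMap.finrank_range_add_finrank_ker (δ.baseChange k)
    have h3 : Module.finrank k (LinearMap.range (d.baseChange k)) = Module.finrank k (LinearMap.range (δ.baseChange k)) := by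
      have e1 : d.baseChange k = (eF.baseChange A k _ _).toLinearMap ∘ₗ (δ.baseChange k ∘ₗ π.baseChange k) := by
        simp only [d, LinearMap.baseChange_comp]
        rfl
      rw [e1, LinearMap.range_comp, LinearMap.range_comp_of_range_eq_top _ (LinearMap.range_eq_top.2 hpk)]
      exact LinearEquiv.finrank_map_eq _ _
    unfold FlatCx.fibreRk
    simp only [k] at h1 h2 h3 ⊢
    rw [h3]
    omega
  have hab : IsLocallyConstant (fun x => FlatCx.fibreRk N.subtype x) ∧ IsLocallyConstant (fun x => FlatCx.fibreRk d x) := by
    simp only [IsLocallyConstant.iff_eventually_eq]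
    have H : ∀ x, ∀ᶠ z in nhds x, FlatCx.fibreRk N.subtype z = FlatCx.fibreRk N.subtype x ∧ FlatCx.fibreRk d z = FlatCx.fibreRk d x := fun x => by
      have ha := (FlatCx.isOpen_le_fibreRk N.subtype (FlatCx.fibreRk N.subtype x)).mem_nhds (x := x) (le_refl (FlatCx.fibreRk N.subtype x))
      have hb := (FlatCx.isOpen_le_fibreRk d (FlatCx.fibreRk d x)).mem_nhds (x := x) (le_refl (FlatCx.fibreRk d x))
      filter_upwards [ha, hb, (IsLocallyConstant.iff_eventually_eq _).mp h x] with z hza hzb hzc
      have hza' : FlatCx.fibreRk N.subtype x ≤ FlatCx.fibreRk N.subtype z := hza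
      have hzb' : FlatCx.fibreRk d x ≤ FlatCx.fibreRk d z := hzb
      have kx := key x
      have kz := key z
      omega
    exact ⟨fun x => (H x).mono fun z hz => hz.1, fun x => (H x).mono fun z hz => hz.2⟩
  have hproj : ∀ {P : Type u} [AddCommGroup P] [Module A P] {l : ℕ} (g : P →ₗ[A] (Fin l → A)),
      IsLocallyConstant (fun x => FlatCx.fibreRk g x) → Module.Projective A ((Fin l → A) ⧸ LinearMap.range g) := fun {P} _ _ {l} g hg => by
    refine ((S6266.result A _).mpr ⟨inferInstance, ?_⟩).2
    have : (fun p : PrimeSpectrum A => Module.finrank p.asIdeal.ResidueField (p.asIdeal.ResidueField ⊗[A] ((Fin l → A) ⧸ LinearMap.range g))) = (fun r => l - r) ∘ fun x => FlatCx.fibreRk g x := by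
      funext x
      let k := x.asIdeal.ResidueField
      haveI : Nontrivial A := (algebraMap A k).domain_nontrivial
      have hs : Function.Surjective ((LinearMap.range g).mkQ.baseChange k) := LinearMap.lTensor_surjective k (Submodule.mkQ_surjective _)
      have hex : Function.Exact (g.baseChange k) ((LinearMap.range g).mkQ.baseChange k) :=
        lTensor_exact k (LinearMap.exact_map_mkQ_range g) (Submodule.mkQ_surjective _)
      have hl : Module.finrank k (k ⊗[A] (Fin l → A)) = l := by
        rw [Module.finrank_baseChange, Module.finrank_pi, Fintype.card_fin]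
      have h1 := LinearMap.finrank_range_add_finrank_ker ((LinearMap.range g).mkQ.baseChange k)
      rw [LinearMap.range_eq_top.2 hs, finrank_top, LinearMap.exact_iff.1 hex, hl] at h1
      show _ = l - FlatCx.fibreRk g x
      unfold FlatCx.fibreRk
      simp only [k] at h1 ⊢
      omega
    rw [this]
    exact hg.comp _
  haveI hM : Module.Projective A M := by
    haveI := hproj N.subtype hab.1
    exact Module.Projective.of_equiv (Submodule.quotEquivOfEq _ _ N.range_subtype ≪≫ₗ π.quotKerEquivOfSurjective hπ)
  haveI hC : Module.Projective A (F ⧸ LinearMap.range δ) := by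
    haveI := hproj d hab.2
    have hr : (LinearMap.range δ).map eF.toLinearMap = LinearMap.range d := by
      rw [show d = eF.toLinearMap ∘ₗ δ ∘ₗ π from rfl, LinearMap.range_comp, LinearMap.range_comp_of_range_eq_top _ (LinearMap.range_eq_top.2 hπ)]
    exact Module.Projective.of_equiv (Submodule.Quotient.equiv (LinearMap.range δ) (LinearMap.range d) eF hr).symm
  obtain ⟨sC, hsC⟩ := (LinearMap.range δ).mkQ.exists_rightInverse_of_surjective (LinearMap.range_eq_top.2 (Submodule.mkQ_surjective _))
  let rF : F →ₗ[A] LinearMap.range δ := LinearMap.codRestrict _ (LinearMap.id - sC ∘ₗ (LinearMap.range δ).mkQ) fun y => by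
    rw [← Submodule.Quotient.mk_eq_zero]
    show (LinearMap.range δ).mkQ (y - sC ((LinearMap.range δ).mkQ y)) = 0
    rw [map_sub, show (LinearMap.range δ).mkQ (sC ((LinearMap.range δ).mkQ y)) = (LinearMap.range δ).mkQ y from LinearMap.congr_fun hsC _, sub_self]
  have hrF : rF ∘ₗ (LinearMap.range δ).subtype = LinearMap.id := by
    ext y
    show (y : F) - sC ((LinearMap.range δ).mkQ (y : F)) = y
    rw [show (LinearMap.range δ).mkQ (y : F) = 0 from (Submodule.Quotient.mk_eq_zero _).mpr y.2, map_zero, sub_zero]
  haveI hI : Module.Projective A (LinearMap.range δ) := Module.Projective.of_split _ rF hrF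
  obtain ⟨t, ht⟩ := δ.rangeRestrict.exists_rightInverse_of_surjective δ.range_rangeRestrict
  have ht' : ∀ z, δ.rangeRestrict (t z) = z := LinearMap.congr_fun ht
  let rM : M →ₗ[A] LinearMap.ker δ := LinearMap.codRestrict _ (LinearMap.id - t ∘ₗ δ.rangeRestrict) fun y => by
    rw [LinearMap.mem_ker, LinearMap.sub_apply, map_sub, LinearMap.id_apply, LinearMap.comp_apply]
    exact sub_eq_zero.mpr (congrArg Subtype.val (ht' (δ.rangeRestrict y))).symm
  have hrM : rM ∘ₗ (LinearMap.ker δ).subtype = LinearMap.id := by
    ext y
    have : δ.rangeRestrict (y : M) = 0 := Subtype.ext (LinearMap.mem_ker.mp y.2)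
    simp [rM, this]
  refine ⟨hM, Module.Projective.of_split _ rM hrM, hC, fun P _ _ => ?_⟩
  have hinj : ∀ {U V : Type v} [AddCommGroup U] [Module A U] [AddCommGroup V] [Module A V] (i : U →ₗ[A] V) (r : V →ₗ[A] U), r ∘ₗ i = LinearMap.id → Function.Injective (i.rTensor P) := fun i r hr => by
    refine Function.LeftInverse.injective (g := r.rTensor P) fun z => ?_
    rw [← LinearMap.rTensor_comp_apply, hr, LinearMap.rTensor_id, LinearMap.id_apply]
  refine ⟨hinj _ rM hrM, fun z => ?_⟩
  have hex : Function.Exact ((LinearMap.ker δ).subtype.rTensor P) (δ.rangeRestrict.rTensor P) :=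
    rTensor_exact P (LinearMap.exact_iff.mpr (by rw [LinearMap.ker_rangeRestrict, Submodule.range_subtype])) δ.surjective_rangeRestrict
  rw [show δ.rTensor P z = (LinearMap.range δ).subtype.rTensor P (δ.rangeRestrict.rTensor P z) by rw [← LinearMap.rTensor_comp_apply]; rfl,
    map_eq_zero_iff _ (hinj _ rF hrF)]
  exact hex z

end Groth.Agent.S14610
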