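import Groth.Statements.S14338
import Groth.Agent.S14610
import Mathlib.RingTheory.Spectrum.Prime.FreeLocus

set_option autoImplicit false
universe u
open CAlg Groth.Agent
open scoped TensorProduct

namespace Groth.Agent.S14338

/-- Let B be a Noetherian ring, K and K' finitely generated flat B-modules and φ : K → K' a B-linear
map; for a prime y of B write κ(y) for its residue field and φ_y for the base change κ(y) ⊗ K → κ(y)
⊗ K'. Assume B is reduced and the number dim_{κ(y)} Im(φ_y) is the same for all primes y of B. Then
the cokernel K'/Im φ and the image Im φ are projective (locally free) B-modules. -/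
theorem result (B : Type u) [CommRing B] [IsNoetherianRing B] (K K' : Type u) [AddCommGroup K] [Module B K] [Module.Finite B K] [Module.Flat B K] [AddCommGroup K'] [Module B K'] [Module.Finite B K'] [Module.Flat B K'] (φ : K →ₗ[B] K') [IsReduced B] (hconst : ∃ c : ℕ, ∀ y : PrimeSpectrum B, Module.finrank y.asIdeal.ResidueField ↥(LinearMap.range (φ.baseChange y.asIdeal.ResidueField)) = c) : Module.Projective B (K' ⧸ LinearMap.range φ) ∧ Module.Projective B ↥(LinearMap.range φ) := by
  classical
  haveI : Module.FinitePresentation B K := Module.finitePresentation_of_finite B K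
  haveI : Module.FinitePresentation B K' := Module.finitePresentation_of_finite B K'
  haveI : Module.Projective B K := Module.Flat.projective_of_finitePresentation
  haveI : Module.Projective B K' := Module.Flat.projective_of_finitePresentation
  obtain ⟨c, hc⟩ := hconst
  obtain ⟨m, p, hp⟩ := Module.Finite.exists_fin' B K'
  obtain ⟨i, hi⟩ := p.exists_rightInverse_of_surjective (LinearMap.range_eq_top.2 hp)
  let δ : K →ₗ[B] (Fin m → B) := i ∘ₗ φ
  have hk : IsLocallyConstant (fun x : PrimeSpectrum B => Module.finrank x.asIdeal.ResidueField (LinearMap.ker (δ.baseChange x.asIdeal.ResidueField))) := by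
    have heq : (fun x : PrimeSpectrum B => Module.finrank x.asIdeal.ResidueField (LinearMap.ker (δ.baseChange x.asIdeal.ResidueField))) = (fun r => r - c) ∘ Module.rankAtStalk (R := B) K := by
      funext x
      let k := x.asIdeal.ResidueField
      have hinj : Function.Injective (i.baseChange k) := by
        refine Function.LeftInverse.injective (g := p.baseChange k) fun z => ?_
        rw [← LinearMap.comp_apply, ← LinearMap.baseChange_comp, hi, LinearMap.baseChange_id, LinearMap.id_apply]
      have hker : LinearMap.ker (δ.baseChange k) = LinearMap.ker (φ.baseChange k) := by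
        rw [LinearMap.baseChange_comp, LinearMap.ker_comp_of_ker_eq_bot _ (LinearMap.ker_eq_bot.2 hinj)]
      have h1 := LinearMap.finrank_range_add_finrank_ker (φ.baseChange k)
      have h2 : Module.rankAtStalk (R := B) K x = Module.finrank k (k ⊗[B] K) := Module.rankAtStalk_eq x
      have h3 := hc x
      show Module.finrank k (LinearMap.ker (δ.baseChange k)) = Module.rankAtStalk (R := B) K x - c
      rw [hker, h2]
      simp only [k] at h1 h3 ⊢
      omega
    rw [heq]
    exact Module.isLocallyConstant_rankAtStalk.comp _
  obtain ⟨-, -, hC, -⟩ := S14610.result B K (Fin m → B) δ hk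
  haveI := hC
  have hle : LinearMap.range φ ≤ (LinearMap.range δ).comap i := by
    rintro _ ⟨x, rfl⟩
    exact ⟨x, rfl⟩
  have hge : LinearMap.range δ ≤ (LinearMap.range φ).comap p := by
    rintro _ ⟨x, rfl⟩
    exact ⟨x, (LinearMap.congr_fun hi (φ x)).symm⟩
  haveI hQ : Module.Projective B (K' ⧸ LinearMap.range φ) := by
    refine Module.Projective.of_split (Submodule.mapQ _ _ i hle) (Submodule.mapQ _ _ p hge) (Submodule.linearMap_qext _ (LinearMap.ext fun y => ?_))
    show Submodule.Quotient.mk (p (i y)) = Submodule.Quotient.mk y
    rw [show p (i y) = y from LinearMap.congr_fun hi y]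
  refine ⟨hQ, ?_⟩
  obtain ⟨s, hs⟩ := (LinearMap.range φ).mkQ.exists_rightInverse_of_surjective (LinearMap.range_eq_top.2 (Submodule.mkQ_surjective _))
  let r : K' →ₗ[B] LinearMap.range φ := LinearMap.codRestrict _ (LinearMap.id - s ∘ₗ (LinearMap.range φ).mkQ) fun y => by
    rw [← Submodule.Quotient.mk_eq_zero]
    show (LinearMap.range φ).mkQ (y - s ((LinearMap.range φ).mkQ y)) = 0
    rw [map_sub, show (LinearMap.range φ).mkQ (s ((LinearMap.range φ).mkQ y)) = (LinearMap.range φ).mkQ y from LinearMap.congr_fun hs _, sub_self]
  refine Module.Projective.of_split (LinearMap.range φ).subtype r ?_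
  ext y
  show (y : K') - s ((LinearMap.range φ).mkQ (y : K')) = y
  rw [show (LinearMap.range φ).mkQ (y : K') = 0 from (Submodule.Quotient.mk_eq_zero _).mpr y.2, map_zero, sub_zero]

end Groth.Agent.S14338
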