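import Groth.Statements.S14339
import Groth.Agent.PlaneGon.Double
import Groth.Agent.AVLine.P1
import Groth.Agent.ProjOverIso.Basic
import Groth.Agent.S10829

set_option autoImplicit false
universe u
open CategoryTheory CategoryTheory.Limits AlgebraicGeometry
open Curves

set_option backward.isDefEq.respectTransparency false
set_option backward.isDefEq.respectTransparency.types false

set_option maxHeartbeats 1000000

namespace Groth.Agent.S14339

/-- Let k be a field, d ≥ 4, and f a nonzero homogeneous form of degree d in the homogeneous coordinates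
of P^2_k whose plane curve X = V_+(f) is smooth over k. Then X is not hyperelliptic: there is no
morphism φ : X → P^1_k over k which is finite and flat of constant rank 2 (a double cover of the
projective line). -/
theorem result (k : Type u) [Field k] (d : ℕ) (hd : 4 ≤ d) (f : LefPen.Form 2 k d) (hf : f ≠ 0) [Smooth ((LefPen.hypIdeal f).subschemeι ≫ CohB1.ProjSpace.toSpec 2 k)] : ¬ ∃ φ : (LefPen.hypIdeal f).subscheme ⟶ CohB1.ProjSpace 1 k, φ ≫ CohB1.ProjSpace.toSpec 1 k = (LefPen.hypIdeal f).subschemeι ≫ CohB1.ProjSpace.toSpec 2 k ∧ IsFinite φ ∧ Flat φ ∧ ∀ y : ↥(CohB1.ProjSpace 1 k), Scheme.Hom.finrank φ y = 2 := by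
  rintro ⟨φ, hφ, hfin, hflat, hn⟩
  haveI := hfin
  haveI := hflat
  letI inst : ((LefPen.hypIdeal f).subscheme).Over (Spec (CommRingCat.of k)) :=
    ⟨(LefPen.hypIdeal f).subschemeι ≫ CohB1.ProjSpace.toSpec 2 k⟩
  haveI : Smooth ((LefPen.hypIdeal f).subscheme ↘ Spec (CommRingCat.of k)) :=
    ‹Smooth ((LefPen.hypIdeal f).subschemeι ≫ CohB1.ProjSpace.toSpec 2 k)›
  obtain ⟨e, he⟩ := Groth.Agent.ProjOverIso.exists_iso 1 k
  letI := Groth.Agent.AVLine.intAlg k
  haveI : Smooth (CohB1.ProjSpace.toSpec 1 k) := by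
    haveI : Smooth (CohB1.ProjSpaceOver.toBase 1 (Spec (CommRingCat.of k))) := Groth.Agent.AVLine.smooth_toBase k
    rw [show CohB1.ProjSpace.toSpec 1 k = e.inv ≫ CohB1.ProjSpaceOver.toBase 1 (Spec (CommRingCat.of k)) by
      rw [← he, Iso.inv_hom_id_assoc]]
    infer_instance
  haveI : Smooth (CohB1.ProjSpace 1 k ↘ Spec (CommRingCat.of k)) := ‹Smooth (CohB1.ProjSpace.toSpec 1 k)›
  haveI : IsProper (CohB1.ProjSpace 1 k ↘ Spec (CommRingCat.of k)) := ProjMor.isProper_toSpec 1 k
  have h0 : CurveRR.h k (Coh.structureModule (CohB1.ProjSpace 1 k)) 0 = 1 := by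
    obtain ⟨i₀⟩ := GrT.nonempty_twist_zero_iso (𝒜 := CohB1.polyGrading 1 k)
    let i : Twist.twistProjSpace 1 k ((0 : ℕ) : ℤ) ≅ Coh.structureModule (CohB1.ProjSpace 1 k) := i₀
    obtain ⟨z⟩ := ProjCech.zero_equiv (R := k) 1 0
    refine (CurveRR.h_eq_of_iso (k := k) i 0).symm.trans (z.finrank_eq.trans ?_)
    rw [(PlaneForms.finite_homogeneous_and_finrank (σ := Fin (1 + 1)) 0).2, Fintype.card_fin]
    rfl
  refine PlaneGon.false_of_double_cover f hf rfl hd (P := CohB1.ProjSpace 1 k) ?_ ?_ φ hφ hn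
  · rw [Groth.Agent.S10829.result k 1]
    rfl
  · rw [h0, CurveRR.h_eq_zero (ProjCech.structureModule_vanish 1 k 1 one_pos)]
    rfl

end Groth.Agent.S14339
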