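import Groth.Statements.S14340
import Groth.Agent.W7Pencil.FieldDeg
import Groth.Agent.W7Cover.GeomConn

set_option autoImplicit false
universe u
open CategoryTheory CategoryTheory.Limits AlgebraicGeometry
open Curves

set_option backward.isDefEq.respectTransparency false
set_option backward.isDefEq.respectTransparency.types false

open Groth.Agent Groth.Agent.CurveRR Groth.Agent.CohFinite

namespace Groth.Agent.S14340

/-- Let k be a field and C a smooth proper geometrically connected curve over k (of dimension one) of
genus g = dim_k H^1(C, O_C) ≥ 2 which is hyperelliptic: there is a morphism f : C → P^1_k over k,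
finite and flat of constant rank 2; let L = f^*O(1) be its g^1_2. Then for every r with 0 ≤ r ≤ g −
1 the k-vector space H^0(C, L^{⊗r}) has dimension r + 1. (The published statement asserts that the
pullback of sections H^0(P^1_k, O(r)) → H^0(C, L^{⊗r}) is an isomorphism and takes C projective;
this row states the equivalent dimension count, that map being injective for the dominant f with
source of dimension r + 1, and takes C proper, which for curves over a field is the same.) -/
theorem result (k : Type u) [Field k] (C : Scheme.{u}) [C.Over (Spec (CommRingCat.of k))] [IsProper (C ↘ Spec (CommRingCat.of k))] [Smooth (C ↘ Spec (CommRingCat.of k))] [GeometricallyConnected (C ↘ Spec (CommRingCat.of k))] (hC : topologicalKrullDim C = 1) (g : ℕ) (hg2 : 2 ≤ g) (hg : Curv2.genus k C = g) (f : C ⟶ CohB1.ProjSpace 1 k) (hf : f ≫ CohB1.ProjSpace.toSpec 1 k = C ↘ Spec (CommRingCat.of k)) [IsFinite f] [Flat f] (hrk : ∀ y : ↥(CohB1.ProjSpace 1 k), Scheme.Hom.finrank f y = 2) (r : ℕ) (hr : r + 1 ≤ g) : Module.finrank k (Coh.HH C (CohB1.tensorPow ((Scheme.Modules.pullback f).obj (Twist.twistProjSpace 1 k 1)) r) 0) = r + 1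 := by
  haveI := W7Slope.isIntegral_of_geomConn (k := k) (X := C) hC
  haveI := isNoetherian_of_proper k C
  haveI := Horrocks.isIntegral_projSpace (k := k) (n := 1)
  have h0 := W7Cover.h0_of_geometricallyConnected (k := k) (X := C)
  obtain ⟨he, -⟩ := W7Pencil.deg_O1_of_cover f hC hf
  have hres : f.residueDegree (genericPoint C) = 2 := W7Pencil.residueDegree_of_finrank f hC hf hrk
  have H := W7Pencil.hyper_of_cover f hC h0 hg hf he hres
  exact ((W7Pencil.pencilOf f he).finrank_space r).symm.trans (H.finrank_space_le (by omega))

end Groth.Agent.S14340
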