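import Groth.Statements.S14341
import Groth.Agent.CurveOmega.RatPt

set_option autoImplicit false
universe u
open CategoryTheory CategoryTheory.Limits AlgebraicGeometry
open Curves

set_option backward.isDefEq.respectTransparency false
set_option backward.isDefEq.respectTransparency.types false

open Groth.Agent

namespace Groth.Agent.S14341

/-- Let k be a field and X a smooth proper geometrically connected curve over k (of dimension one) of
genus dim_k H^1(X, O_X) = 1, with a k-rational point O (a closed point with residue field k); for a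
k-rational point P write I_P for the ideal sheaf of the reduced point P, an invertible ideal with
inverse O_X(P). Then for every invertible O_X-module L of degree 0 there is exactly one k-rational
point P with L ⊗ I_P ≅ I_O, that is L ≅ O_X(P − O): the map P ↦ O_X(P − O) is a bijection from X(k)
onto the isomorphism classes of invertible modules of degree zero. -/
theorem result (k : Type u) [Field k] (X : Scheme.{u}) [X.Over (Spec (CommRingCat.of k))] [IsProper (X ↘ Spec (CommRingCat.of k))] [Smooth (X ↘ Spec (CommRingCat.of k))] [GeometricallyConnected (X ↘ Spec (CommRingCat.of k))] (hX : topologicalKrullDim X = 1) (hg : Curv2.genus k X = 1) (O : X) (hOc : IsClosed ({O} : Set X)) (hO : Function.Bijective (Curv2.resMap k X O)) (L : X.Modules) (hL : PicF.IsInvertible L) (hdeg : Curv2.deg k X L 1 = 0) : ∃! P : {x : X // IsClosed ({x} : Set X) ∧ Function.Bijective (Curv2.resMap k X x)}, Nonempty (CohB1.tensorMod L (ClSub.idealMod (Scheme.IdealSheafData.vanishingIdeal ⟨{P.1}, P.2.1⟩)) ≅ ClSub.idealMod (Scheme.IdealSheafData.vanishingIdeal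 ⟨{O}, hOc⟩)) := by
  haveI := W7Slope.isIntegral_of_geomConn (k := k) (X := X) hX
  haveI := CurveRR.isNoetherian_of_proper k X
  have h0 := W7Cover.h0_of_geometricallyConnected (k := k) (X := X)
  set IO := ClSub.idealMod (Scheme.IdealSheafData.vanishingIdeal ⟨{O}, hOc⟩)
  have hIO : PicF.IsInvertible IO := CurveRR.isInvertible_pointIdeal hX.le hOc (CurveRR.genericPoint_ne_of_closed (k := k) hX hOc)
    (SmLocalST.isRegularLocalRing_stalk_of_smooth_field (X ↘ Spec (CommRingCat.of k)) _)
  obtain ⟨J, hJ, ⟨θ⟩⟩ := W7Hull.exists_tensor_inverse hIO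
  have hJd : Curv2.deg k X J 1 = 1 := by
    have he := CurveRR.euler_ideal_tensor (k := k) hJ _ (CurveRR.point_dim hOc)
    rw [DualGeneric.h0_quotMod_residue k hOc] at he
    letI := Curv2.resAlgebra k X O
    rw [Module.finrank_of_bijective_algebraMap hO, CurveRR.euler_eq_of_iso θ] at he
    rw [Curv2.deg]; push_cast at *; omega
  have hL' := TMul.isInvertible_tensorMod hL hJ
  have hd' : Curv2.deg k X (CohB1.tensorMod L J) 1 = 1 := by
    rw [CurveRR.deg_tensor_inv hX.le hL hJ, hdeg, hJd]; rfl
  have hh : CurveRR.h k (CohB1.tensorMod L J) 0 = 1 := by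
    have := CurveRR.h0_eq_of_deg (k := k) hX.le h0 hL' (by rw [hd', hg]; norm_num)
    rw [hd', hg] at this
    omega
  have toJ : ∀ (I : X.Modules), (CohB1.tensorMod L I ≅ IO) → (CohB1.tensorMod I (CohB1.tensorMod L J) ≅ Coh.structureModule X) :=
    fun I e => (TMul.assocIso I L J).symm ≪≫ PicGrp.tensorModIso (TMul.commIso I L ≪≫ e) (Iso.refl J) ≪≫ θ
  have f : CohB1.tensorMod (CohB1.tensorMod L J) IO ≅ L :=
    TMul.assocIso L J IO ≪≫ PicGrp.tensorModIso (Iso.refl L) (TMul.commIso J IO ≪≫ θ) ≪≫ SecTwist.unitorR L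
  obtain ⟨P, hP, hPr, ⟨eP⟩⟩ := CurveOmega.exists_point_of_deg_one (k := k) hX hL' hd' (by omega)
  refine ⟨⟨P, hP, hPr⟩, ⟨PicGrp.tensorModIso (f.symm ≪≫ TMul.commIso _ IO) (Iso.refl _) ≪≫ TMul.assocIso IO _ _ ≪≫
      PicGrp.tensorModIso (Iso.refl IO) (TMul.commIso _ _ ≪≫ eP) ≪≫ SecTwist.unitorR IO⟩, ?_⟩
  rintro ⟨Q, hQ, hQr⟩ ⟨eQ⟩
  exact Subtype.ext (CurveOmega.point_eq (k := k) hX hL' hh.le hQ hP (toJ _ eQ) eP)

end Groth.Agent.S14341
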