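import Groth.Statements.S14343
import Groth.Agent.BlowBC.Scheme
import Groth.Agent.KoszulLib.Kinds

set_option linter.style.haveILetI false
set_option backward.isDefEq.respectTransparency false
-- import your own Groth.Agent.* helpers here

set_option autoImplicit false
universe u
open CategoryTheory CategoryTheory.Limits AlgebraicGeometry TopologicalSpace
open QuotLF

namespace Groth.Agent.S14343

/-- Let 𝓘 be a Koszul-regular quasi-coherent ideal sheaf on a scheme X (the ideal of a Koszul-regularly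
immersed closed subscheme Z) and let g : X' ⟶ X be a morphism which is Tor-independent with respect
to Z ⟶ X, stated in the following equivalent form: whenever 𝓘(U) is generated on an affine open U by
a Koszul-regular sequence, the image of that sequence in Γ(X', V) is again Koszul-regular for every
affine open V of X' lying over U (for a Koszul-regular ideal the Koszul complex of such a sequence
resolves O_Z on U, so this says exactly that the higher Tor groups of O_Z against O_{X'} vanish).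
Then for every blowing-up b : B ⟶ X of X in 𝓘, the base change B ×_X X' ⟶ X' is a blowing-up of X'
in the inverse image ideal sheaf 𝓘·O_{X'} (the ideal of Z ×_X X'). Blowing-ups are taken through
their universal property. -/
theorem result {X X' B : Scheme.{u}} (𝓘 : X.IdealSheafData)
    (h𝓘 : RegImm.IsRegularIdeal .koszul 𝓘) (g : X' ⟶ X)
    (hg : ∀ (U : X.affineOpens) (rs : List Γ(X, U.1)), LCI.IsKoszulRegularSeq Γ(X, U.1) rs →
      𝓘.ideal U = Ideal.ofList rs → ∀ (V : X'.affineOpens) (e : V.1 ≤ g ⁻¹ᵁ U.1),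
        LCI.IsKoszulRegularSeq Γ(X', V.1) (rs.map fun r => (g.appLE U.1 V.1 e).hom r))
    (b : B ⟶ X) (hb : BlowUp.IsBlowUp b 𝓘) :
    BlowUp.IsBlowUp (pullback.snd b g) (𝓘.comap g) := by
  refine Groth.Agent.BlowBC.isBlowUp_baseChange 𝓘 (IsPullback.of_hasPullback b g).flip hb fun x => ?_
  by_cases hx : g x ∈ 𝓘.support
  · obtain ⟨U, hxU, rs, hrs, hI⟩ := h𝓘 (g x) hx
    obtain ⟨V, hV, hxV, eV⟩ := exists_isAffineOpen_mem_and_subset (X := X') (U := g ⁻¹ᵁ U.1)
      (show x ∈ g ⁻¹ᵁ U.1 from hxU)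
    have h2 := hg U rs hrs hI ⟨V, hV⟩ eV
    have hacy : Wiebe.Acyclic rs.get := KoszulLib.koszul_seq_iff.1 hrs
    have hacy' : Wiebe.Acyclic ((g.appLE U.1 V eV).hom ∘ rs.get) := by
      rw [← KoszulLib.isKoszulRegularSeq_iff_acyclic, ← List.map_ofFn, List.ofFn_get]
      exact h2
    have hI' : 𝓘.ideal U = Ideal.span (Set.range rs.get) := by
      rw [hI, Set.range_list_get]
    refine ⟨U, Γ(X', V), inferInstance, (g.appLE U.1 V eV).hom, hV.fromSpec, rs.length, rs.get, inferInstance,
      hV.range_fromSpec.ge hxV, ?_, hI', fun i h => ?_⟩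
    · exact (U.2.SpecMap_appLE_fromSpec g hV eV).symm
    · obtain ⟨n, hn⟩ : ∃ n, rs.length = n + 1 := ⟨rs.length - 1, by have := i.2; omega⟩
      have key : ∀ {m : ℕ} (a : Fin m → Γ(X, U.1)), m = n + 1 → Wiebe.Acyclic a →
          Wiebe.Acyclic ((g.appLE U.1 V eV).hom ∘ a) → 𝓘.ideal U = Ideal.span (Set.range a) →
          ∀ (i : Fin m) (h : a i ∈ 𝓘.ideal U), BlowBC.Good (g.appLE U.1 V eV).hom (𝓘.ideal U) (a i) h := by
        rintro m a rfl h1 h2 h3 i h
        exact BlowBC.good_of_acyclic _ a h3 h1 h2 i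
      exact key rs.get hn hacy hacy' hI' i h
  · obtain ⟨_, ⟨W, hW, rfl⟩, hxW, hWsub⟩ := X.isBasis_affineOpens.exists_subset_of_mem_open
      (show g x ∈ (𝓘.support : Set X)ᶜ from hx) 𝓘.support.isClosed.isOpen_compl
    have htop : 𝓘.ideal ⟨W, hW⟩ = ⊤ := by
      have h := KoszBlow.map_ideal_fromSpec 𝓘 ⟨W, hW⟩
      rw [BlowUpLib.comap_eq_top 𝓘 hW.fromSpec fun y hy => hWsub
        (by rw [← hW.range_fromSpec]; exact ⟨y, rfl⟩) hy] at h
      simpa [Scheme.IdealSheafData.ideal_top, Ideal.map_top] using h.symm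
    obtain ⟨V, hV, hxV, eV⟩ := exists_isAffineOpen_mem_and_subset (X := X') (U := g ⁻¹ᵁ W)
      (show x ∈ g ⁻¹ᵁ W from hxW)
    exact ⟨⟨W, hW⟩, Γ(X', V), inferInstance, (g.appLE W V eV).hom, hV.fromSpec, 1, fun _ => 1, inferInstance,
      hV.range_fromSpec.ge hxV, (hW.SpecMap_appLE_fromSpec g hV eV).symm, htop.trans (by simp),
      fun i h => BlowBC.good_of_isUnit _ _ _ h isUnit_one⟩

end Groth.Agent.S14343
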