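import Groth.Statements.S14345
import Groth.Agent.FittLib.Proj

set_option autoImplicit false
universe u v
open TensorProduct
open QuotLF

namespace Groth.Agent.S14345

/-- Let R be a commutative ring, M a finitely generated R-module and k ≥ 0. If for an R-algebra A the
module A ⊗_R M admits a quotient that is finite projective of constant rank k (an A-valued point of
the Quot scheme of rank-k locally free quotients of M), then every Fitting ideal Fit_j(M) with j < k
extends to the zero ideal of A; that is, the structure map of the Quot scheme of rank-k locally free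
quotients factors through the closed subscheme cut out by Fit_{k-1}(M). -/
theorem result (R : Type u) [CommRing R]
    (M : Type v) [AddCommGroup M] [Module R M] [Module.Finite R M] (k : ℕ)
    (A : Type u) [CommRing A] [Algebra R A] (N : Module.Grassmannian A (A ⊗[R] M) k)
    (j : ℕ) (hj : j < k) :
    (Fitt.ideal R M j).map (algebraMap R A) = ⊥ := by
  classical
  rw [← FittLib.ideal_baseChange, ← le_bot_iff]
  refine (FittLib.ideal_le_of_surjective N.toSubmodule.mkQ N.toSubmodule.mkQ_surjective j).trans
    (fun c hc => ?_)
  haveI := N.finite_quotient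
  haveI := N.projective_quotient
  rw [Ideal.mem_bot]
  by_contra hne
  obtain ⟨q, hq, hcq⟩ := Ideal.exists_le_maximal
    (Ideal.torsionOf A A c) (by simpa [Ideal.torsionOf_eq_top_iff] using hne)
  haveI := hq.isPrime
  let Q := (A ⊗[R] M) ⧸ N.toSubmodule
  haveI : Module.Free (Localization.AtPrime q) (LocalizedModule q.primeCompl Q) :=
    Module.free_of_flat_of_isLocalRing
  haveI : Module.Finite (Localization.AtPrime q) (LocalizedModule q.primeCompl Q) :=
    Module.Finite.equiv (LocalizedModule.equivTensorProduct q.primeCompl Q).symm
  let b := Module.finBasisOfFinrankEq (Localization.AtPrime q) (LocalizedModule q.primeCompl Q)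
    (N.rankAtStalk_eq ⟨q, hq.isPrime⟩)
  have h0 : algebraMap A (Localization.AtPrime q) c = 0 := by
    have := Ideal.mem_map_of_mem (algebraMap A (Localization.AtPrime q)) hc
    rw [← FittLib.ideal_localizedModule, FittLib.ideal_eq_minors_fin b b.span_eq] at this
    refine (Ideal.mem_bot).mp (FittLib.minors_le (I := ⊥) (fun z e hz => ?_) this)
    have hz0 : ∀ p, z p = 0 := fun p => funext
      (Fintype.linearIndependent_iff.mp b.linearIndependent (z p) (FittLib.mem_rel.mp (hz p)))
    rw [Ideal.mem_bot]
    exact Matrix.det_eq_zero_of_column_eq_zero (⟨0, by omega⟩ : Fin (k - j)) fun i => by simp [hz0]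
  rw [IsLocalization.map_eq_zero_iff q.primeCompl] at h0
  obtain ⟨⟨t, ht⟩, htc⟩ := h0
  exact ht (hcq (by simpa [Ideal.mem_torsionOf_iff] using htc))

end Groth.Agent.S14345
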