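import Groth.Statements.S14346
import Mathlib

set_option linter.style.haveILetI false

set_option autoImplicit false
universe u v
open TensorProduct
open QuotLF

namespace Groth.Agent.S14346

/-- Let R be a commutative ring, M an R-module, k ≥ 0, and A an R-algebra for which A ⊗_R M is finite
projective of constant rank k, i.e. Spec A → Spec R factors through the locally closed stratum where
M is locally free of rank k. Then A ⊗_R M has exactly one rank-k locally free quotient: the zero
submodule has finite projective quotient of constant rank k, and every submodule with such a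
quotient is zero. In other words the Quot scheme of rank-k locally free quotients of M restricted to
that stratum maps isomorphically onto it. -/
theorem result (R : Type u) [CommRing R]
    (M : Type v) [AddCommGroup M] [Module R M] (k : ℕ)
    (A : Type u) [CommRing A] [Algebra R A] [Module.Finite A (A ⊗[R] M)] [Module.Projective A (A ⊗[R] M)]
    (hk : ∀ p : PrimeSpectrum A, Module.rankAtStalk (R := A) (A ⊗[R] M) p = k) :
    (∃ N : Module.Grassmannian A (A ⊗[R] M) k, N.toSubmodule = ⊥) ∧
      ∀ N : Module.Grassmannian A (A ⊗[R] M) k, N.toSubmodule = ⊥ := by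
  refine ⟨⟨{ toSubmodule := ⊥
             finite_quotient := Module.Finite.equiv (Submodule.quotEquivOfEqBot ⊥ rfl).symm
             projective_quotient := Module.Projective.of_equiv (Submodule.quotEquivOfEqBot ⊥ rfl).symm
             rankAtStalk_eq := fun p => by
               rw [Module.rankAtStalk_eq_of_equiv (Submodule.quotEquivOfEqBot ⊥ rfl)]
               exact hk p }, rfl⟩, fun N => ?_⟩
  obtain ⟨s, hs⟩ := Module.projective_lifting_property N.toSubmodule.mkQ LinearMap.id N.toSubmodule.mkQ_surjective
  have hker : LinearMap.ker N.toSubmodule.mkQ = N.toSubmodule := Submodule.ker_mkQ _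
  have hsq : ∀ q, N.toSubmodule.mkQ (s q) = q := fun q => LinearMap.congr_fun hs q
  let pr : (A ⊗[R] M) →ₗ[A] ↥N.toSubmodule := (LinearMap.id - s.comp N.toSubmodule.mkQ).codRestrict _ fun m => by
    refine hker.le ?_
    rw [LinearMap.mem_ker, LinearMap.sub_apply, map_sub]
    exact sub_eq_zero.2 (hsq _).symm
  have hn : ∀ n : ↥N.toSubmodule, N.toSubmodule.mkQ (n : A ⊗[R] M) = 0 := fun n =>
    (Submodule.Quotient.mk_eq_zero _).2 n.2
  let e : (A ⊗[R] M) ≃ₗ[A] ↥N.toSubmodule × ((A ⊗[R] M) ⧸ N.toSubmodule) :=
    { pr.prod N.toSubmodule.mkQ with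
      invFun := fun x => (x.1 : A ⊗[R] M) + s x.2
      left_inv := fun m => sub_add_cancel m _
      right_inv := fun x => by
        have h2 : N.toSubmodule.mkQ ((x.1 : A ⊗[R] M) + s x.2) = x.2 := by rw [map_add, hn, hsq, zero_add]
        refine Prod.ext (Subtype.ext ?_) h2
        show (x.1 : A ⊗[R] M) + s x.2 - s (N.toSubmodule.mkQ ((x.1 : A ⊗[R] M) + s x.2)) = x.1
        rw [h2, add_sub_cancel_right] }
  haveI : Module.Finite A ↥N.toSubmodule := Module.Finite.of_surjective
    ((LinearMap.fst A _ _).comp e.toLinearMap) (Prod.fst_surjective.comp e.surjective)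
  haveI : Module.Projective A ↥N.toSubmodule := Module.Projective.of_split
    (e.symm.toLinearMap.comp (LinearMap.inl A _ _)) ((LinearMap.fst A _ _).comp e.toLinearMap) (by ext x; simp)
  have h0 : Module.rankAtStalk (R := A) ↥N.toSubmodule = 0 := funext fun p => by
    have h1 := congrFun (Module.rankAtStalk_eq_of_equiv (M := A ⊗[R] M) (N := ↥N.toSubmodule × ((A ⊗[R] M) ⧸ N.toSubmodule)) e) p
    rw [Module.rankAtStalk_prod, Pi.add_apply, hk, N.rankAtStalk_eq] at h1
    simp only [Pi.zero_apply]
    omega
  haveI : Subsingleton ↥N.toSubmodule := Module.rankAtStalk_eq_zero_iff_subsingleton.1 h0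
  exact Submodule.eq_bot_of_subsingleton

end Groth.Agent.S14346
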