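import Groth.Statements.S14347
import Groth.Agent.FittLib.Matrix

set_option autoImplicit false
universe u
open QuotLF

namespace Groth.Agent.S14347

/-- Let R be a commutative ring and σ : R^m → R^n an injective linear map with cokernel M, so that M has
a length-one resolution by finite free modules and rank δ = n − m; let K be the cokernel of the dual
map (R^n)^∨ → (R^m)^∨, which is the module Ext¹_R(M, R). Then the Fitting ideals satisfy Fit_{δ +
j}(M) = Fit_j(K) for all j ≥ 0, and Fit_i(M) = 0 for i < δ (the degeneracy loci of M and of K agree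
after the shift by δ). -/
theorem result (R : Type u) [CommRing R] (m n : ℕ)
    (σ : (Fin m → R) →ₗ[R] (Fin n → R)) (hσ : Function.Injective σ) :
    (∀ j : ℕ, Fitt.ideal R ((Fin n → R) ⧸ LinearMap.range σ) (n - m + j) =
        Fitt.ideal R (Module.Dual R (Fin m → R) ⧸ LinearMap.range σ.dualMap) j) ∧
      ∀ i : ℕ, i < n - m → Fitt.ideal R ((Fin n → R) ⧸ LinearMap.range σ) i = ⊥ := by
  classical
  rcases subsingleton_or_nontrivial R with hR | hR
  · exact ⟨fun j => Subsingleton.elim _ _, fun i _ => Subsingleton.elim _ _⟩
  have hmn : m ≤ n := by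
    simpa using card_le_of_injective R σ hσ
  let V : Fin m → Fin n → R := fun j => σ (Pi.single j 1)
  let x : Fin n → (Fin n → R) ⧸ LinearMap.range σ := fun i => Submodule.Quotient.mk (Pi.single i 1)
  have hxv : ∀ v : Fin n → R, ∑ i, v i • x i = Submodule.Quotient.mk v := fun v => by
    simp only [x, ← Submodule.Quotient.mk_smul]
    rw [← Submodule.mkQ_apply _ v]
    simp only [← Submodule.mkQ_apply, ← map_sum]
    congr 1
    exact (pi_eq_sum_univ' v).symm
  have hx : Submodule.span R (Set.range x) = ⊤ := by
    rw [eq_top_iff]
    rintro q -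
    obtain ⟨v, rfl⟩ := Submodule.Quotient.mk_surjective _ q
    exact (Submodule.mem_span_range_iff_exists_fun R).mpr ⟨v, hxv v⟩
  have hV : FittLib.rel R x = Submodule.span R (Set.range V) := by
    ext v
    rw [FittLib.mem_rel, hxv, Submodule.Quotient.mk_eq_zero]
    have : LinearMap.range σ = Submodule.span R (Set.range V) := by
      rw [← Submodule.map_top, ← (Pi.basisFun R (Fin m)).span_eq, Submodule.map_span, ← Set.range_comp]
      congr 2
      funext j
      simp [V]
    rw [this]
  have hM : ∀ k, Fitt.ideal R ((Fin n → R) ⧸ LinearMap.range σ) k = Ideal.span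
      {d | ∃ (f : Fin (n - k) → Fin m) (e : Fin (n - k) → Fin n),
        d = (Matrix.of fun a b => V (f b) (e a)).det} := fun k => by
    rw [FittLib.ideal_eq_minors_fin x hx, FittLib.minors_eq_span_det x V hV]
  constructor
  · intro j
    rw [hM]
    let y : Fin m → Module.Dual R (Fin m → R) ⧸ LinearMap.range σ.dualMap := fun i =>
      Submodule.Quotient.mk (LinearMap.proj i)
    have hdual : ∀ φ : Module.Dual R (Fin m → R), φ = ∑ i, φ (Pi.single i 1) • LinearMap.proj i := by
      intro φ
      ext i
      simp [LinearMap.sum_apply, Pi.single_apply]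
    have hyv : ∀ v : Fin m → R, ∑ i, v i • y i =
        Submodule.Quotient.mk (∑ i, v i • (LinearMap.proj i : Module.Dual R (Fin m → R))) := fun v => by
      simp only [y, ← Submodule.mkQ_apply, ← map_smul, ← map_sum]
    have hy : Submodule.span R (Set.range y) = ⊤ := by
      rw [eq_top_iff]
      rintro q -
      obtain ⟨φ, rfl⟩ := Submodule.Quotient.mk_surjective _ q
      exact (Submodule.mem_span_range_iff_exists_fun R).mpr
        ⟨fun i => φ (Pi.single i 1), by rw [hyv, ← hdual]⟩
    have hW : FittLib.rel R y = Submodule.span R (Set.range fun i : Fin n => fun j => V j i) := by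
      ext v
      rw [FittLib.mem_rel, hyv, Submodule.Quotient.mk_eq_zero, Submodule.mem_span_range_iff_exists_fun]
      constructor
      · rintro ⟨ψ, hψ⟩
        refine ⟨fun i => ψ (Pi.single i 1), funext fun j => ?_⟩
        have := LinearMap.congr_fun hψ (Pi.single j 1)
        simp only [LinearMap.dualMap_apply, LinearMap.sum_apply, LinearMap.smul_apply,
          LinearMap.proj_apply, Pi.single_apply, smul_eq_mul, mul_ite, mul_one, mul_zero,
          Finset.sum_ite_eq', Finset.mem_univ, if_true] at this
        rw [← this]
        conv_rhs => rw [pi_eq_sum_univ' (σ (Pi.single j 1)), map_sum]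
        simp [V, mul_comm]
      · rintro ⟨c, rfl⟩
        refine ⟨∑ i, c i • LinearMap.proj i, ?_⟩
        ext j
        simp [V, Pi.single_apply, mul_comm]
    rw [FittLib.ideal_eq_minors_fin y hy, FittLib.minors_eq_span_det y _ hW,
      show n - (n - m + j) = m - j by omega]
    congr 1
    ext d
    constructor <;> rintro ⟨f, e, rfl⟩ <;> exact ⟨e, f, by rw [← Matrix.det_transpose]; rfl⟩
  · intro i hi
    rw [hM, Ideal.span_eq_bot]
    rintro _ ⟨f, e, rfl⟩
    have : ¬ Function.Injective f := fun hf => by
      have := Fintype.card_le_of_injective f hf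
      simp at this
      omega
    simp only [Function.Injective, not_forall] at this
    obtain ⟨a, b, hab, hne⟩ := this
    exact Matrix.det_zero_of_column_eq hne fun k => by simp [hab]

end Groth.Agent.S14347
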