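import Groth.Statements.S1435
import Groth.Agent.StratCoh.Build

set_option autoImplicit false
set_option linter.style.haveILetI false
set_option backward.isDefEq.respectTransparency false
open Groth.Agent
universe u
open FlatMor

namespace Groth.Agent.S1435

open AlgebraicGeometry CategoryTheory Limits in
/-- A scheme has a finite affine stratification if and only if it is quasi-compact and quasi-separated. -/
theorem result (X : Scheme.{u}) :
    (∃ n : ℕ, MoreMor.HasAffineStratification X n) ↔ CompactSpace ↑X ∧ QuasiSeparatedSpace ↑X := by
  constructor
  · rintro ⟨n, h⟩
    exact ⟨StratCoh.compactSpace_of_strat h, StratCoh.quasiSeparatedSpace_of_strat h⟩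
  · rintro ⟨_, _⟩
    exact StratCoh.exists_strat

end Groth.Agent.S1435
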