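import Groth.Statements.S14351
import Mathlib.RingTheory.Flat.FaithfullyFlat.Basic

set_option autoImplicit false
universe u
open CAlg TensorProduct

namespace Groth.Agent.S14351

/-- For ring maps A → B → C with C faithfully flat over B and C faithfully flat over A, the ring B is
faithfully flat over A. -/
theorem result (A B C : Type u) [CommRing A] [CommRing B]
    [CommRing C] [Algebra A B] [Algebra B C] [Algebra A C] [IsScalarTower A B C]
    [Module.FaithfullyFlat B C] [Module.FaithfullyFlat A C] : Module.FaithfullyFlat A B := by
  haveI hflat : Module.Flat A B := by
    refine Module.Flat.iff_lTensor_preserves_injective_linearMap.2 fun N N' _ _ _ _ f hf => ?_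
    have h1 : Function.Injective (f.lTensor C) := Module.Flat.lTensor_preserves_injective_linearMap f hf
    have h2 : Function.Injective ((f.baseChange B).lTensor C) := by
      intro x y hxy
      have e := fun z => DFunLike.congr_fun (AlgebraTensorModule.lTensor_comp_cancelBaseChange (R := A) (A := B) (B := B) (M := C) f) z
      exact (AlgebraTensorModule.cancelBaseChange A B B C N).injective (h1
        ((e x).trans ((congrArg (AlgebraTensorModule.cancelBaseChange A B B C N') hxy).trans (e y).symm)))
    exact (Module.FaithfullyFlat.lTensor_injective_iff_injective B C (f.baseChange B)).1 h2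
  refine (Module.FaithfullyFlat.iff_flat_and_lTensor_reflects_triviality A B).2 ⟨hflat, fun N _ _ hN => ?_⟩
  haveI : Subsingleton (C ⊗[A] N) :=
    (AlgebraTensorModule.cancelBaseChange A B B C N).symm.injective.subsingleton
  exact Module.FaithfullyFlat.lTensor_reflects_triviality A C N

end Groth.Agent.S14351
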