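import Groth.Statements.S14352
import Groth.Agent.FibCrit.GeomFibre
import Mathlib

set_option autoImplicit false
universe u
open Mor

set_option backward.isDefEq.respectTransparency false
namespace Groth.Agent.S14352

open CategoryTheory CategoryTheory.Limits AlgebraicGeometry in
/-- A morphism of schemes f : X → S which is locally of finite presentation is unramified (formally
unramified) if and only if all its geometric fibres are reduced with discrete underlying space: for
every algebraically closed field K and every S-point Spec K → S, the fibre product X ×_S Spec K is a
reduced scheme whose topological space is discrete. -/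
theorem result {X S : Scheme.{u}} (f : X ⟶ S)
    [LocallyOfFinitePresentation f] :
    FormallyUnramified f ↔
      ∀ (K : Type u) [Field K] [IsAlgClosed K] (s : Spec (CommRingCat.of K) ⟶ S),
        IsReduced (pullback f s) ∧ DiscreteTopology ↥(pullback f s) := by
  refine ⟨fun hf K _ _ s => ?_, fun H => ?_⟩
  · exact (Groth.Agent.FibCrit.unramified_iff_isReduced_discrete (pullback.snd f s)).1
      (MorphismProperty.pullback_snd f s hf)
  · refine Groth.Agent.FibCrit.formallyUnramified_of_fiberToSpecResidueField f fun y => ?_
    let a : Spec (CommRingCat.of (AlgebraicClosure (S.residueField y))) ⟶ Spec (S.residueField y) :=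
      Spec.map (CommRingCat.ofHom (algebraMap (S.residueField y) (AlgebraicClosure (S.residueField y))))
    let s := a ≫ S.fromSpecResidueField y
    have hs : FormallyUnramified (pullback.snd f s) :=
      (Groth.Agent.FibCrit.unramified_iff_isReduced_discrete (pullback.snd f s)).2 (H _ s)
    have hsq := (IsPullback.of_hasPullback (f.fiberToSpecResidueField y) a).paste_horiz
      (IsPullback.of_hasPullback f (S.fromSpecResidueField y))
    have h2 : FormallyUnramified (pullback.snd (f.fiberToSpecResidueField y) a) := by
      rw [show pullback.snd (f.fiberToSpecResidueField y) a = hsq.isoPullback.hom ≫ pullback.snd f s from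
        hsq.isoPullback_hom_snd.symm]
      exact (MorphismProperty.cancel_left_of_respectsIso @FormallyUnramified _ _).2 hs
    have ha : Surjective a ∧ Flat a := by
      haveI : Module.FaithfullyFlat (S.residueField y) (AlgebraicClosure (S.residueField y)) := inferInstance
      exact ⟨⟨PrimeSpectrum.comap_surjective_of_faithfullyFlat⟩,
        HasRingHomProperty.Spec_iff.2 (RingHom.flat_algebraMap_iff.2 inferInstance)⟩
    exact MorphismProperty.of_isPullback_of_descendsAlong (P := @FormallyUnramified)
      (Q := @Surjective ⊓ @Flat ⊓ @QuasiCompact)
      (IsPullback.of_hasPullback (f.fiberToSpecResidueField y) a).flip ⟨ha, inferInstance⟩ h2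

end Groth.Agent.S14352
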