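import Groth.Statements.S14353
import Mathlib.CategoryTheory.ConcreteCategory.EpiMono
-- import your own Groth.Agent.* helpers here

set_option autoImplicit false
universe u
open CategoryTheory CategoryTheory.Limits CategoryTheory.MonoidalCategory
open CAlg

namespace Groth.Agent.S14353Aux

section aux

variable {R : Type u} [CommRing R]

/-- Mittag-Leffler lifting: a compatible family in the images of a map of inverse systems with
Artinian source lifts to a compatible family. -/
theorem exists_compatible_lift (X Y : ℕᵒᵖ ⥤ ModuleCat.{u} R)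
    (hX : ∀ n, IsArtinian R (X.obj n)) (f : X ⟶ Y)
    (y : ∀ n : ℕ, Y.obj (Opposite.op n))
    (hy : ∀ (n m : ℕ) (h : n ≤ m), (Y.map (homOfLE h).op).hom (y m) = y n)
    (hr : ∀ n, ∃ x, (f.app (Opposite.op n)).hom x = y n) :
    ∃ x : ∀ n : ℕ, X.obj (Opposite.op n),
      (∀ (n m : ℕ) (h : n ≤ m), (X.map (homOfLE h).op).hom (x m) = x n) ∧
        ∀ n, (f.app (Opposite.op n)).hom (x n) = y n := by
  classical
  let tr : ∀ {n m : ℕ}, n ≤ m → (X.obj (Opposite.op m) →ₗ[R] X.obj (Opposite.op n)) :=
    fun h => (X.map (homOfLE h).op).hom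
  have trtr : ∀ {n m l : ℕ} (h : n ≤ m) (h' : m ≤ l) z, tr h (tr h' z) = tr (h.trans h') z := by
    intro n m l h h' z
    rw [← LinearMap.comp_apply, ← ModuleCat.hom_comp, ← X.map_comp, ← op_comp, homOfLE_comp]
  have tr0 : ∀ {n : ℕ} z, tr (le_refl n) z = z := by
    intro n z
    change (X.map (homOfLE (le_refl n)).op).hom z = z
    rw [show (homOfLE (le_refl n)).op = 𝟙 (Opposite.op n) from rfl, X.map_id]
    rfl
  have nat : ∀ {n m : ℕ} (h : n ≤ m) z, (f.app (Opposite.op n)).hom (tr h z) =
      (Y.map (homOfLE h).op).hom ((f.app (Opposite.op m)).hom z) := by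
    intro n m h z
    rw [← LinearMap.comp_apply, ← ModuleCat.hom_comp, f.naturality]
    rfl
  let K : ∀ n m : ℕ, n ≤ m → Submodule R (X.obj (Opposite.op n)) := fun n m h =>
    (LinearMap.ker (f.app (Opposite.op m)).hom).map (tr h)
  have hK : ∀ n {m l : ℕ} (h : n ≤ m) (h' : m ≤ l), K n l (h.trans h') ≤ K n m h := by
    intro n m l h h'
    rintro _ ⟨z, hz, rfl⟩
    refine ⟨tr h' z, ?_, trtr h h' z⟩
    change (f.app (Opposite.op m)).hom (tr h' z) = 0
    rw [nat h', show (f.app (Opposite.op l)).hom z = 0 from hz, map_zero]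
  have stab : ∀ n, ∃ m, ∃ h : n ≤ m, ∀ l (h' : m ≤ l), K n m h ≤ K n l (h.trans h') := by
    intro n
    have := hX (Opposite.op n)
    obtain ⟨q, hq⟩ := IsArtinian.monotone_stabilizes (R := R)
      ⟨fun j => OrderDual.toDual (K n (n + j) (Nat.le_add_right n j)),
        fun i j hij => hK n (Nat.le_add_right n i) (by omega)⟩
    refine ⟨n + q, Nat.le_add_right n q, fun l h' => ?_⟩
    have h1 := hq (l - n) (by omega)
    have h2 : K n (n + q) (Nat.le_add_right n q) = K n (n + (l - n)) (Nat.le_add_right n _) :=
      OrderDual.toDual.injective h1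
    rw [h2]
    rintro _ ⟨z, hz, rfl⟩
    have e : n + (l - n) = l := by omega
    generalize hh : Nat.le_add_right n (l - n) = h3 at *
    clear h1 h2 hh
    revert h3 z
    rw [e]
    intro z hz h3
    exact ⟨z, hz, rfl⟩
  choose st hst hstab using stab
  let S : ∀ n, Set (X.obj (Opposite.op n)) := fun n =>
    {u | ∀ l (h : n ≤ l), ∃ z, (f.app (Opposite.op l)).hom z = y l ∧ tr h z = u}
  have hS : ∀ n (z : X.obj (Opposite.op (st n))),
      (f.app (Opposite.op (st n))).hom z = y (st n) → tr (hst n) z ∈ S n := by
    intro n z hz l h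
    obtain ⟨w, hw⟩ := hr (max l (st n))
    let w' := tr (le_max_right l (st n)) w
    have hw' : (f.app (Opposite.op (st n))).hom w' = y (st n) := by
      rw [nat, hw, hy]
    have hd : tr (hst n) (z - w') ∈ K n (st n) (hst n) :=
      ⟨z - w', by simp [hz, hw'], rfl⟩
    obtain ⟨v, hv, hv'⟩ := hstab n _ (le_max_right l (st n)) hd
    refine ⟨tr (le_max_left l (st n)) (w + v), ?_, ?_⟩
    · rw [nat, map_add, hw, show (f.app _).hom v = 0 from hv, add_zero, hy]
    · rw [trtr, map_add]
      have e1 : tr (h.trans (le_max_left l (st n))) w = tr (hst n) w' := (trtr _ _ w).symm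
      have e2 : tr (h.trans (le_max_left l (st n))) v = tr (hst n) (z - w') := hv'
      rw [e1, e2, map_sub, add_sub_cancel]
  have hne : ∀ n, ∃ u, u ∈ S n := fun n => by
    obtain ⟨z, hz⟩ := hr (st n); exact ⟨_, hS n z hz⟩
  have hstep : ∀ n u, u ∈ S n → ∃ u', u' ∈ S (n + 1) ∧ tr (Nat.le_succ n) u' = u := by
    intro n u hu
    let L := max (n + 1) (st (n + 1))
    obtain ⟨z, hz, hzu⟩ := hu L ((Nat.le_succ n).trans (le_max_left _ _))
    refine ⟨tr (hst (n + 1)) (tr (le_max_right (n + 1) (st (n + 1))) z), hS _ _ ?_, ?_⟩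
    · rw [nat, hz, hy]
    · rw [trtr, trtr]; exact hzu
  choose u0 hu0 using hne
  choose nx hnx hnx' using hstep
  let xs : ∀ n, {u // u ∈ S n} := fun n => Nat.rec ⟨u0 0, hu0 0⟩
    (fun m u => ⟨nx m u.1 u.2, hnx m u.1 u.2⟩) n
  refine ⟨fun n => (xs n).1, ?_, fun n => ?_⟩
  · intro n m h
    induction m, h using Nat.le_induction with
    | base => exact tr0 _
    | succ m h ih =>
      change tr _ (xs (m + 1)).1 = (xs n).1
      rw [← trtr h (Nat.le_succ m), show tr (Nat.le_succ m) (xs (m + 1)).1 = (xs m).1 from
        hnx' m _ (xs m).2]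
      exact ih
  · obtain ⟨z, hz, hzu⟩ := (xs n).2 n le_rfl
    change (f.app (Opposite.op n)).hom (xs n).1 = y n
    rw [← hzu, tr0]; exact hz

/-- The inverse system of powers. -/
@[reducible] noncomputable def powSys (M : ℕᵒᵖ ⥤ ModuleCat.{u} R) (a : ℕ) : ℕᵒᵖ ⥤ ModuleCat.{u} R where
  obj n := ModuleCat.of R (Fin a → M.obj n)
  map f := ModuleCat.ofHom (LinearMap.compLeft (M.map f).hom (Fin a))
  map_id n := by ext x; simp
  map_comp f g := by ext x; simp

theorem isArtinian_powSys (M : ℕᵒᵖ ⥤ ModuleCat.{u} R) (hM : ∀ n, IsFiniteLength R (M.obj n))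
    (a : ℕ) (n : ℕᵒᵖ) : IsArtinian R ((powSys M a).obj n) := by
  obtain ⟨_, _⟩ := isFiniteLength_iff_isNoetherian_isArtinian.mp (hM n)
  exact inferInstanceAs (IsArtinian R (Fin a → M.obj n))

theorem sum_smul_proj_apply {a : ℕ} (r : Fin a → R) {L : Type u} [AddCommGroup L] [Module R L]
    (w : Fin a → L) :
    (∑ i, r i • LinearMap.proj i : (Fin a → L) →ₗ[R] L) w = ∑ i, r i • w i := by
  simp [LinearMap.sum_apply, Finset.sum_apply]

theorem sum_tmul_proj_apply {b : ℕ} {N : Type u} [AddCommGroup N] [Module R N] (g : Fin b → N)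
    {L : Type u} [AddCommGroup L] [Module R L] (x : Fin b → L) :
    (∑ j, ((TensorProduct.mk R L N).flip (g j)).comp (LinearMap.proj j) :
      (Fin b → L) →ₗ[R] TensorProduct R L N) x = ∑ j, x j ⊗ₜ[R] g j := by
  simp [LinearMap.sum_apply, Finset.sum_apply]

end aux

end Groth.Agent.S14353Aux

open Groth.Agent.S14353Aux

namespace Groth.Agent.S14353

/-- For a commutative ring R, an inverse system (M_n)_{n ∈ ℕ} of R-modules of finite length and a
finitely presented R-module N, the canonical comparison map (lim_n M_n) ⊗_R N ⟶ lim_n (M_n ⊗_R N) is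
an isomorphism. (The published statement takes N = R/I for a finitely generated ideal I; the
argument covers every finitely presented N, which is the form stated here.) -/
theorem result (R : Type u) [CommRing R]
    (M : ℕᵒᵖ ⥤ ModuleCat.{u} R) (hM : ∀ n : ℕᵒᵖ, IsFiniteLength R (M.obj n))
    (N : Type u) [AddCommGroup N] [Module R N] [Module.FinitePresentation R N] :
    IsIso (limit.post M (tensorRight (ModuleCat.of R N))) := by
  classical
  obtain ⟨b, q, hq⟩ := Module.Finite.exists_fin' R N
  have hqfg : (LinearMap.ker q).FG := Module.FinitePresentation.fg_ker q hq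
  obtain ⟨a, c, hc⟩ := Submodule.fg_iff_exists_fin_generating_family.mp hqfg
  let g : Fin b → N := fun j => q (Pi.single j 1)
  have hqg : ∀ v : Fin b → R, q v = ∑ j, v j • g j := by
    intro v
    conv_lhs => rw [← Finset.univ_sum_single v]
    rw [map_sum]
    refine Finset.sum_congr rfl fun j _ => ?_
    rw [← map_smul, ← Pi.single_smul, smul_eq_mul, mul_one]
  have hqc : ∀ i, ∑ j, c i j • g j = 0 := by
    intro i
    rw [← hqg]
    have : c i ∈ LinearMap.ker q := hc ▸ Submodule.subset_span ⟨i, rfl⟩
    exact this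
  -- exactness of L^a → L^b → L ⊗ N → 0
  have hsurjL : ∀ (L : Type u) [AddCommGroup L] [Module R L] (t : TensorProduct R L N),
      ∃ x : Fin b → L, ∑ j, x j ⊗ₜ[R] g j = t := by
    intro L _ _ t
    obtain ⟨s, rfl⟩ := LinearMap.lTensor_surjective L hq t
    refine ⟨TensorProduct.piScalarRight R R L (Fin b) s, ?_⟩
    induction s using TensorProduct.induction_on with
    | zero => simp
    | tmul l v =>
      rw [LinearMap.lTensor_tmul, hqg, TensorProduct.tmul_sum]
      refine Finset.sum_congr rfl fun j _ => ?_
      simp [TensorProduct.smul_tmul]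
    | add s t hs ht => simp only [map_add, Pi.add_apply, TensorProduct.add_tmul,
        Finset.sum_add_distrib, hs, ht]
  have hexL : ∀ (L : Type u) [AddCommGroup L] [Module R L] (x : Fin b → L),
      ∑ j, x j ⊗ₜ[R] g j = 0 → ∃ w : Fin a → L, x = fun j => ∑ i, c i j • w i := by
    intro L _ _ x hx
    let cm : (Fin a → R) →ₗ[R] (Fin b → R) := Fintype.linearCombination R c
    have hex : Function.Exact cm q := by
      intro v
      rw [← LinearMap.mem_ker, ← hc]
      rw [← Fintype.range_linearCombination]
      rfl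
    let s : TensorProduct R L (Fin b → R) := ∑ j, x j ⊗ₜ[R] (Pi.single j 1)
    have hs : LinearMap.lTensor L q s = 0 := by
      simp only [s, map_sum, LinearMap.lTensor_tmul]
      exact hx
    obtain ⟨t, ht⟩ := (lTensor_exact L hex hq s).mp hs
    refine ⟨TensorProduct.piScalarRight R R L (Fin a) t, funext fun j => ?_⟩
    have hxs : ∀ j, TensorProduct.piScalarRight R R L (Fin b) s j = x j := by
      intro j
      simp [s, map_sum, Finset.sum_apply, Pi.single_apply]
    rw [← hxs, ← ht]
    clear ht
    induction t using TensorProduct.induction_on with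
    | zero => simp
    | tmul l v =>
      simp [cm, Fintype.linearCombination_apply, Finset.sum_apply, Finset.sum_smul, mul_smul,
        smul_comm (v _) (c _ j) l]
    | add s t hs ht => simp only [map_add, Pi.add_apply, smul_add, Finset.sum_add_distrib, hs, ht]
  let T : ℕᵒᵖ ⥤ ModuleCat.{u} R := M ⋙ tensorRight (ModuleCat.of R N)
  -- maps of systems
  let α : powSys M a ⟶ powSys M b :=
    { app := fun n => ModuleCat.ofHom (LinearMap.pi fun j =>
        ∑ i, c i j • LinearMap.proj i)
      naturality := fun n m h => by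
        refine ModuleCat.hom_ext (LinearMap.ext fun w => funext fun j => ?_)
        change (∑ i, c i j • LinearMap.proj i : (Fin a → M.obj m) →ₗ[R] M.obj m) (fun i => (M.map h).hom (w i)) =
          (M.map h).hom ((∑ i, c i j • LinearMap.proj i : (Fin a → M.obj n) →ₗ[R] M.obj n) w)
        rw [sum_smul_proj_apply, sum_smul_proj_apply]
        simp }
  let β : powSys M b ⟶ T :=
    { app := fun n => ModuleCat.ofHom (∑ j, ((TensorProduct.mk R (M.obj n) N).flip (g j)).comp
        (LinearMap.proj j))
      naturality := fun n m h => by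
        refine ModuleCat.hom_ext (LinearMap.ext fun x => ?_)
        change (∑ j, ((TensorProduct.mk R (M.obj m) N).flip (g j)).comp (LinearMap.proj j) :
            (Fin b → M.obj m) →ₗ[R] _) (fun i => (M.map h).hom (x i)) =
          LinearMap.rTensor N (M.map h).hom
            ((∑ j, ((TensorProduct.mk R (M.obj n) N).flip (g j)).comp (LinearMap.proj j) :
              (Fin b → M.obj n) →ₗ[R] _) x)
        rw [sum_tmul_proj_apply, sum_tmul_proj_apply]
        simp }
  have mkel : ∀ x : ∀ n : ℕ, M.obj (Opposite.op n),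
      (∀ (n m : ℕ) (h : n ≤ m), (M.map (homOfLE h).op).hom (x m) = x n) →
        ∃ z : (limit M : ModuleCat.{u} R), ∀ n, (limit.π M (Opposite.op n)).hom z = x n := by
    intro x hx
    let C : Cone M :=
      { pt := ModuleCat.of R R
        π := { app := fun n => ModuleCat.ofHom (LinearMap.toSpanSingleton R _ (x n.unop))
               naturality := fun n m h => by
                 ext
                 simp only [Functor.const_obj_obj, Functor.const_obj_map, Category.id_comp,
                   ModuleCat.hom_comp, ModuleCat.hom_ofHom, LinearMap.comp_apply,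
                   LinearMap.toSpanSingleton_apply_one]
                 rw [show h = (homOfLE (leOfHom h.unop)).op from Quiver.Hom.unop_inj
                   (Subsingleton.elim _ _), hx] } }
    refine ⟨(limit.lift M C).hom (1 : R), fun n => ?_⟩
    rw [← LinearMap.comp_apply, ← ModuleCat.hom_comp, limit.lift_π]
    exact LinearMap.toSpanSingleton_apply_one _ _ _
  have extM : ∀ z z' : (limit M : ModuleCat.{u} R),
      (∀ n, (limit.π M (Opposite.op n)).hom z = (limit.π M (Opposite.op n)).hom z') → z = z' :=
    fun z z' h => Concrete.limit_ext M z z' fun n => h n.unop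
  have hpost : ∀ (n : ℕ) (z : (limit M : ModuleCat.{u} R)) (m : N),
      (limit.π T (Opposite.op n)).hom
        ((limit.post M (tensorRight (ModuleCat.of R N))).hom (z ⊗ₜ[R] m)) =
      (limit.π M (Opposite.op n)).hom z ⊗ₜ[R] m := by
    intro n z m
    rw [← LinearMap.comp_apply, ← ModuleCat.hom_comp, limit.post_π]
    rfl
  have hbij : Function.Bijective (limit.post M (tensorRight (ModuleCat.of R N))).hom := by
    constructor
    · rw [injective_iff_map_eq_zero]
      intro t ht
      obtain ⟨x, rfl⟩ := hsurjL (limit M : ModuleCat.{u} R) t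
      have hx : ∀ n, ∑ j, ((limit.π M (Opposite.op n)).hom (x j)) ⊗ₜ[R] g j = 0 := by
        intro n
        have := congrArg (limit.π T (Opposite.op n)).hom ht
        rw [map_zero, map_sum, map_sum] at this
        simpa only [hpost] using this
      obtain ⟨w, hw, hwx⟩ := exists_compatible_lift (powSys M a) (powSys M b)
        (isArtinian_powSys M hM a) α (fun n j => (limit.π M (Opposite.op n)).hom (x j))
        (fun n m h => funext fun j => by
          change (M.map _).hom _ = _
          rw [← LinearMap.comp_apply, ← ModuleCat.hom_comp, limit.w])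
        (fun n => by
          obtain ⟨w, hw⟩ := hexL _ _ (hx n)
          refine ⟨w, ?_⟩
          rw [hw]; funext j
          change (∑ i, c i j • LinearMap.proj i : (Fin a → M.obj (Opposite.op n)) →ₗ[R] _) w = _
          rw [sum_smul_proj_apply])
      choose W hW using fun i => mkel (fun n => w n i) (fun n m h => congrFun (hw n m h) i)
      have hxW : ∀ j, x j = ∑ i, c i j • W i := by
        intro j
        refine extM _ _ fun n => ?_
        rw [map_sum, ← congrFun (hwx n) j]
        change _ = _
        change (∑ i, c i j • LinearMap.proj i : (Fin a → M.obj (Opposite.op n)) →ₗ[R] _) (w n) = _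
        rw [sum_smul_proj_apply]
        simp [hW]
      simp only [hxW, TensorProduct.sum_tmul, TensorProduct.smul_tmul]
      rw [Finset.sum_comm]
      refine Finset.sum_eq_zero fun i _ => ?_
      rw [← TensorProduct.tmul_sum, hqc, TensorProduct.tmul_zero]
    · intro y
      obtain ⟨x, hx, hxy⟩ := exists_compatible_lift (powSys M b) T
        (isArtinian_powSys M hM b) β (fun n => (limit.π T (Opposite.op n)).hom y)
        (fun n m h => by rw [← LinearMap.comp_apply, ← ModuleCat.hom_comp, limit.w])
        (fun n => by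
          obtain ⟨x, hx⟩ := hsurjL _ ((limit.π T (Opposite.op n)).hom y)
          exact ⟨x, by rw [← hx]; exact sum_tmul_proj_apply g x⟩)
      choose X hX using fun j => mkel (fun n => x n j) (fun n m h => congrFun (hx n m h) j)
      refine ⟨∑ j, X j ⊗ₜ[R] g j, Concrete.limit_ext T _ _ fun n => ?_⟩
      change (limit.π T (Opposite.op n.unop)).hom _ = (limit.π T (Opposite.op n.unop)).hom y
      rw [map_sum, map_sum, ← hxy n.unop]
      simp only [hpost, hX]
      exact (sum_tmul_proj_apply g _).symm
  exact (CategoryTheory.ConcreteCategory.isIso_iff_bijective _).mpr hbij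

end Groth.Agent.S14353
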