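import Groth.Statements.S14360
import Mathlib
open CategoryTheory AlgebraicGeometry

set_option autoImplicit false
universe u
open AlgebraicGeometry
open Variety

set_option backward.isDefEq.respectTransparency false
namespace Groth.Agent.S14360

section
open CategoryTheory AlgebraicGeometry Scheme

variable {X Y : Scheme.{u}} [IsIntegral X] [IsIntegral Y]

noncomputable def toMid (f : X.PartialMap Y) [IsDominant f.hom] (g : Y.PartialMap X) (W : X.Opens)
    (hW : W ≤ (f.comp g).domain) : (W : Scheme.{u}) ⟶ g.domain :=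
  X.homOfLE hW ≫ (f.domain.ι.isoImage _).inv ≫ f.hom ∣_ g.domain

lemma toMid_ι (f : X.PartialMap Y) [IsDominant f.hom] (g : Y.PartialMap X) (W : X.Opens)
    (hW : W ≤ (f.comp g).domain) (h : W ≤ f.domain) : toMid f g W hW ≫ g.domain.ι = X.homOfLE h ≫ f.hom := by
  simp only [toMid, Category.assoc, morphismRestrict_ι]
  rw [← Category.assoc (f.domain.ι.isoImage _).inv, ← Category.assoc]
  congr 1
  rw [← cancel_mono f.domain.ι]
  simp only [Category.assoc, Scheme.Hom.isoImage_inv_ι, Scheme.homOfLE_ι]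
  exact Scheme.homOfLE_ι X hW

lemma toMid_hom (f : X.PartialMap Y) [IsDominant f.hom] (g : Y.PartialMap X) (W : X.Opens) (hd : Dense (W : Set X))
    (hW : W ≤ (f.comp g).domain) : toMid f g W hW ≫ g.hom = ((f.comp g).restrict W hd hW).hom := by
  simp only [toMid, Category.assoc]
  rfl

lemma comp_symm_equiv (e : X.PartialIso Y) [IsDominant e.toPartialMap.hom] :
    (e.toPartialMap.comp e.symm.toPartialMap).equiv (Scheme.PartialMap.id X) := by
  let f := e.toPartialMap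
  let g := e.symm.toPartialMap
  let W := (f.comp g).domain
  have hWs : W ≤ e.source := f.domain.ι_image_le _
  refine ⟨W, (f.comp g).dense_domain, le_rfl, le_top, ?_⟩
  rw [← toMid_hom f g W (f.comp g).dense_domain le_rfl]
  have hl : toMid f g W le_rfl = X.homOfLE hWs ≫ e.iso.hom := by
    rw [← cancel_mono e.target.ι, Category.assoc]
    exact toMid_ι f g W le_rfl hWs
  show toMid f g W le_rfl ≫ e.iso.inv ≫ e.source.ι = _
  rw [hl]
  simp only [Category.assoc, Iso.hom_inv_id_assoc, Scheme.homOfLE_ι]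
  exact (Scheme.homOfLE_ι X _).symm

lemma birational_of (f : X.PartialMap Y) (g : Y.PartialMap X) [IsDominant f.hom] [IsDominant g.hom]
    (h1 : (f.comp g).equiv (Scheme.PartialMap.id X)) (h2 : (g.comp f).equiv (Scheme.PartialMap.id Y)) :
    Scheme.Birational X Y := by
  obtain ⟨W, hWd, hW, hWt, e1⟩ := h1
  obtain ⟨W', hWd', hW', hWt', e2⟩ := h2
  have hWf : W ≤ f.domain := hW.trans (f.domain.ι_image_le _)
  have hWg : W' ≤ g.domain := hW'.trans (g.domain.ι_image_le _)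
  let a := X.homOfLE hWf ≫ f.hom
  let b := Y.homOfLE hWg ≫ g.hom
  have ha := toMid_ι f g W hW hWf
  have hb := toMid_ι g f W' hW' hWg
  have ea : toMid f g W hW ≫ g.hom = W.ι := (toMid_hom f g W hWd hW).trans (e1.trans (Scheme.homOfLE_ι X hWt))
  have eb : toMid g f W' hW' ≫ f.hom = W'.ι := (toMid_hom g f W' hWd' hW').trans (e2.trans (Scheme.homOfLE_ι Y hWt'))
  let U₀ : X.Opens := W.ι ''ᵁ (a ⁻¹ᵁ W')
  have hU₀W : U₀ ≤ W := W.ι_image_le _
  have hU₀f : ∀ x : W, x ∈ a ⁻¹ᵁ W' ↔ W.ι x ∈ U₀ := fun x => ⟨fun h => ⟨x, h, rfl⟩, fun ⟨y, hy, he⟩ => W.ι.isOpenEmbedding.injective he ▸ hy⟩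
  let V₀ : Y.Opens := W'.ι ''ᵁ (b ⁻¹ᵁ U₀)
  have hV₀W : V₀ ≤ W' := W'.ι_image_le _
  let a₀ : (U₀ : Scheme.{u}) ⟶ Y := X.homOfLE hU₀W ≫ a
  let b₀ : (V₀ : Scheme.{u}) ⟶ X := Y.homOfLE hV₀W ≫ b
  have ha₀W : ∀ x : U₀, a₀ x ∈ W' := fun x => (hU₀f (X.homOfLE hU₀W x)).2 (by
    rw [← Scheme.Hom.comp_apply, Scheme.homOfLE_ι]; exact x.2)
  let a₁ : (U₀ : Scheme.{u}) ⟶ W' := IsOpenImmersion.lift W'.ι a₀ (by
    rintro _ ⟨x, rfl⟩; rw [W'.range_ι]; exact ha₀W x)
  have ha₁ : a₁ ≫ W'.ι = a₀ := IsOpenImmersion.lift_fac _ _ _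
  have ha₁b : a₁ ≫ b = U₀.ι := by
    have h3 : a₁ ≫ Y.homOfLE hWg = X.homOfLE hU₀W ≫ toMid f g W hW := by
      rw [← cancel_mono g.domain.ι, Category.assoc, Category.assoc, Scheme.homOfLE_ι, ha₁, ha]
    show a₁ ≫ Y.homOfLE hWg ≫ g.hom = _
    rw [← Category.assoc, h3, Category.assoc, ea, Scheme.homOfLE_ι]
  have hV : ∀ x : U₀, a₀ x ∈ V₀ := fun x => ⟨a₁ x, by
    show b (a₁ x) ∈ U₀
    rw [← Scheme.Hom.comp_apply, ha₁b]
    exact x.2, congrArg (fun φ : (U₀ : Scheme.{u}) ⟶ Y => φ x) ha₁⟩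
  have hU : ∀ y : V₀, b₀ y ∈ U₀ := fun y => by
    obtain ⟨z, hz, hzy⟩ := y.2
    have : Y.homOfLE hV₀W y = z := W'.ι.isOpenEmbedding.injective ((congrArg (fun φ : (V₀ : Scheme.{u}) ⟶ Y => φ y) (Scheme.homOfLE_ι Y hV₀W)).trans hzy.symm)
    show b (Y.homOfLE hV₀W y) ∈ U₀
    rw [this]; exact hz
  let F : (U₀ : Scheme.{u}) ⟶ V₀ := IsOpenImmersion.lift V₀.ι a₀ (by
    rintro _ ⟨x, rfl⟩; rw [V₀.range_ι]; exact hV x)
  let G : (V₀ : Scheme.{u}) ⟶ U₀ := IsOpenImmersion.lift U₀.ι b₀ (by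
    rintro _ ⟨x, rfl⟩; rw [U₀.range_ι]; exact hU x)
  have hF : F ≫ V₀.ι = a₀ := IsOpenImmersion.lift_fac _ _ _
  have hG : G ≫ U₀.ι = b₀ := IsOpenImmersion.lift_fac _ _ _
  have hFG : F ≫ G = 𝟙 _ := by
    rw [← cancel_mono U₀.ι, Category.assoc, hG, Category.id_comp]
    have hF' : F ≫ Y.homOfLE hV₀W = a₁ := by rw [← cancel_mono W'.ι, Category.assoc, Scheme.homOfLE_ι, hF, ha₁]
    rw [← Category.assoc, hF', ha₁b]
  have hGF : G ≫ F = 𝟙 _ := by
    rw [← cancel_mono V₀.ι, Category.assoc, hF, Category.id_comp]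
    have hG' : G ≫ X.homOfLE (hU₀W.trans hWf) = Y.homOfLE hV₀W ≫ toMid g f W' hW' := by
      rw [← cancel_mono f.domain.ι, Category.assoc, Category.assoc, Scheme.homOfLE_ι, hG, hb]
    calc G ≫ a₀ = (G ≫ X.homOfLE (hU₀W.trans hWf)) ≫ f.hom := by
          simp only [a₀, a, Category.assoc, Scheme.homOfLE_homOfLE_assoc]
      _ = V₀.ι := by rw [hG', Category.assoc, eb, Scheme.homOfLE_ι]
  have hne : (U₀ : Set X).Nonempty := by
    haveI : IsDominant (f.restrict W hWd hWf).hom := inferInstance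
    obtain ⟨y, hy, ⟨x, rfl⟩⟩ := (f.restrict W hWd hWf).hom.denseRange.inter_open_nonempty _ W'.2 hWd'.nonempty
    exact ⟨W.ι x, ⟨x, hy, rfl⟩⟩
  obtain ⟨x, hx⟩ := hne
  exact ⟨⟨U₀, U₀.2.dense ⟨x, hx⟩, V₀, V₀.2.dense ⟨_, hV ⟨x, hx⟩⟩, ⟨F, G, hFG, hGF⟩⟩⟩

end


/-- Let X and Y be integral schemes. Then X and Y have isomorphic dense open subschemes if and only if
they are birational in the sense of rational maps, i.e. there exist dominant rational maps f : X ⤏ Y
and g : Y ⤏ X such that the composites g ∘ f and f ∘ g are the identity rational maps of X and of Y. -/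
theorem result (X Y : Scheme.{u})
    [IsIntegral X] [IsIntegral Y] :
    Scheme.Birational X Y ↔
      ∃ (f : X ⤏ Y) (g : Y ⤏ X) (_ : f.IsDominant) (_ : g.IsDominant),
        f.comp g = Scheme.RationalMap.id X ∧ g.comp f = Scheme.RationalMap.id Y := by
  constructor
  · rintro ⟨e⟩
    haveI := Opens.isDominant_ι e.dense_target
    haveI := Opens.isDominant_ι e.symm.dense_target
    haveI : IsDominant e.toPartialMap.hom := by
      show IsDominant (e.iso.hom ≫ e.target.ι)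
      infer_instance
    haveI : IsDominant e.symm.toPartialMap.hom := by
      show IsDominant (e.symm.iso.hom ≫ e.symm.target.ι)
      infer_instance
    refine ⟨e.toRationalMap, e.symm.toRationalMap, inferInstance, inferInstance, ?_, ?_⟩
    · rw [Scheme.RationalMap.toRationalMap_comp, Scheme.PartialMap.toRationalMap_eq_iff]
      exact comp_symm_equiv e
    · rw [Scheme.RationalMap.toRationalMap_comp, Scheme.PartialMap.toRationalMap_eq_iff]
      exact comp_symm_equiv e.symm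
  · rintro ⟨f, g, hf, hg, h1, h2⟩
    obtain ⟨f, rfl⟩ := f.exists_rep
    obtain ⟨g, rfl⟩ := g.exists_rep
    haveI := (Scheme.PartialMap.isDominant_toRationalMap_iff f).1 hf
    haveI := (Scheme.PartialMap.isDominant_toRationalMap_iff g).1 hg
    rw [Scheme.RationalMap.toRationalMap_comp, Scheme.PartialMap.toRationalMap_eq_iff] at h1 h2
    exact birational_of f g h1 h2

end Groth.Agent.S14360
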