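import Groth.Statements.S14363
import Mathlib.RingTheory.Ideal.AssociatedPrime.Basic
import Mathlib.RingTheory.Support

set_option autoImplicit false
universe u
open CAlg TensorProduct

namespace Groth.Agent.S14363

/-- Let A be a Noetherian ring and 0 → M' → M → M'' → 0 a short exact sequence of A-modules. If a prime
p of A is an associated prime of M'' and is not in the support of M', then p is an associated prime
of M. -/
theorem result (A : Type u) [CommRing A] [IsNoetherianRing A]
    (M' M M'' : Type u) [AddCommGroup M'] [Module A M'] [AddCommGroup M] [Module A M]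
    [AddCommGroup M''] [Module A M'']
    (f : M' →ₗ[A] M) (g : M →ₗ[A] M'') (hf : Function.Injective f) (hg : Function.Surjective g)
    (hfg : Function.Exact f g)
    (p : PrimeSpectrum A) (hp : p.asIdeal ∈ associatedPrimes A M'') (hsupp : p ∉ Module.support A M') :
    p.asIdeal ∈ associatedPrimes A M := by
  classical
  obtain ⟨hP, x, hx⟩ := isAssociatedPrime_iff.1 hp
  obtain ⟨m, rfl⟩ := hg x
  have hann : ∀ y : M', ∃ s ∉ p.asIdeal, s • y = 0 := fun y => by
    obtain ⟨s, hs, h⟩ := Module.notMem_support_iff'.1 hsupp y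
    exact ⟨s, hs, h⟩
  have hmem : ∀ a ∈ p.asIdeal, ∃ y : M', f y = a • m := fun a ha => by
    rw [hx, Submodule.mem_colon_singleton, Submodule.mem_bot, ← map_smul] at ha
    exact (hfg _).1 ha
  obtain ⟨S, hS⟩ := (IsNoetherian.noetherian p.asIdeal : p.asIdeal.FG)
  choose! y hy using fun a (ha : a ∈ S) => hmem a (hS ▸ Submodule.subset_span ha)
  choose t ht1 ht2 using hann
  let s := ∏ a ∈ S, t (y a)
  have hs : s ∉ p.asIdeal := fun h => by
    obtain ⟨a, _, ha⟩ := Ideal.IsPrime.prod_mem_iff.1 h
    exact ht1 _ ha
  refine isAssociatedPrime_iff.2 ⟨hP, s • m, le_antisymm ?_ fun c hc => ?_⟩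
  · conv_lhs => rw [← hS]
    refine Submodule.span_le.2 fun a ha => ?_
    obtain ⟨d, hd⟩ := Finset.dvd_prod_of_mem (fun a => t (y a)) ha
    rw [SetLike.mem_coe, Submodule.mem_colon_singleton, Submodule.mem_bot, smul_comm, ← hy a ha, ← map_smul,
      show s = d * t (y a) from hd.trans (mul_comm _ _), mul_smul, ht2, smul_zero, map_zero]
  · rw [Submodule.mem_colon_singleton, Submodule.mem_bot, smul_smul] at hc
    have : c * s ∈ p.asIdeal := by
      rw [hx, Submodule.mem_colon_singleton, Submodule.mem_bot, ← map_smul, hc, map_zero]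
    exact (p.isPrime.mem_or_mem this).resolve_right hs

end Groth.Agent.S14363
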