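import Groth.Statements.S14364
import Groth.Agent.DCohGammaZ.Basic
import Groth.Agent.DQPush.Restrict
import Groth.Agent.S0922

set_option autoImplicit false
set_option backward.isDefEq.respectTransparency false
set_option backward.isDefEq.respectTransparency.types false
universe u
open CategoryTheory CategoryTheory.Limits AlgebraicGeometry
attribute [local instance] HasDerivedCategory.standard
open CxOX

namespace Groth.Agent.S14364

open Pretriangulated Groth.Agent.DQCoh Groth.Agent.PerfGen Groth.Agent.DCohGammaZ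

lemma nonempty_square {A B C D : Scheme.{u}} (a : A ⟶ B) (b : B ⟶ D) (c : A ⟶ C) (d : C ⟶ D) (h : a ≫ b = c ≫ d)
    [DCoh.HasRpush b] :
    Nonempty (DCoh.Rpush a ⋙ DCoh.Rpush b ≅ DCoh.Rpush c ⋙ DCoh.Rpush d) := by
  obtain ⟨e₁⟩ := S0922.result a b
  obtain ⟨e₂⟩ := S0922.result c d
  exact ⟨e₁ ≪≫ eqToIso (by congr 1) ≪≫ e₂.symm⟩

/-- Let f : X ⟶ Y be a finite-type morphism between Noetherian schemes, U ⊆ Y an open subscheme with
closed complement Z, and Z' = f⁻¹(Z), the closed complement of f⁻¹(U) in X. For every K in D(O_X)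
with quasi-coherent cohomology sheaves, the morphism Rf_*(RΓ_{Z'}(K) ⟶ K) factors through the
canonical morphism RΓ_Z(Rf_* K) ⟶ Rf_* K, and every morphism Rf_* RΓ_{Z'}(K) ⟶ RΓ_Z(Rf_* K) giving
such a factorisation is an isomorphism; this is the isomorphism Rf_* RΓ_{Z'} ≅ RΓ_Z Rf_*.
(Throughout, RΓ with support is the total right derived functor of the sheaf of sections supported
in the closed subset. The published statement derives instead the functor of sections killed by some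
power of a defining ideal; on complexes with quasi-coherent cohomology sheaves over a Noetherian
scheme the two derived functors agree.) -/
theorem result {X Y : Scheme.{u}} [IsNoetherian X] [IsNoetherian Y]
    (f : X ⟶ Y) [LocallyOfFiniteType f] (U : Y.Opens)
    [CxOX.HasRgammaZ U.ι] [CxOX.HasRgammaZ (f ⁻¹ᵁ U).ι] [DCoh.HasRpush f]
    (K : DCoh.D X) (hK : DCoh.IsQCohD K) :
    (∃ α : (DCoh.Rpush f).obj ((CxOX.RgammaZ (f ⁻¹ᵁ U).ι).obj K) ⟶ (CxOX.RgammaZ U.ι).obj ((DCoh.Rpush f).obj K),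
        α ≫ (CxOX.RgammaZToId U.ι).app ((DCoh.Rpush f).obj K) =
          (DCoh.Rpush f).map ((CxOX.RgammaZToId (f ⁻¹ᵁ U).ι).app K)) ∧
    ∀ α : (DCoh.Rpush f).obj ((CxOX.RgammaZ (f ⁻¹ᵁ U).ι).obj K) ⟶ (CxOX.RgammaZ U.ι).obj ((DCoh.Rpush f).obj K),
        α ≫ (CxOX.RgammaZToId U.ι).app ((DCoh.Rpush f).obj K) =
          (DCoh.Rpush f).map ((CxOX.RgammaZToId (f ⁻¹ᵁ U).ι).app K) → IsIso α := by
  haveI : DCoh.HasRpush (f ∣_ U) := hasRpush' _
  haveI := DerPush.isRightAdjoint_rpush (f ∣_ U)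
  haveI : PreservesLimitsOfSize.{0, 0} (DCoh.Rpush (f ∣_ U)) := inferInstance
  haveI : (DCoh.Rpush (f ∣_ U)).Additive := Functor.additive_of_preserves_binary_products _
  obtain ⟨G, c, d, hT⟩ := exists_triangle (f ⁻¹ᵁ U).ι K
  obtain ⟨d', hT'⟩ := DerPush.exists_rpush_triangle f _ _ _ hT
  have hA : IsZero ((RD U.ι).obj ((DCoh.Rpush f).obj ((CxOX.RgammaZ (f ⁻¹ᵁ U).ι).obj K))) :=
    ((DCoh.Rpush (f ∣_ U)).map_isZero (isZero_RD_RgammaZ (f ⁻¹ᵁ U).ι K)).of_iso
      ((DQPush.rpushRestrIso f U).app _)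
  obtain ⟨e⟩ := nonempty_square (f ⁻¹ᵁ U).ι f (f ∣_ U) U.ι (morphismRestrict_ι f U).symm
  refine ⟨exists_lift U.ι hA _, fun α hα => isIso_of_triangle U.ι hA hT' (fun B hB g => ?_) α hα⟩
  rw [← cancel_mono (e.hom.app G), zero_comp]
  exact hom_eq_zero U.ι hB _

end Groth.Agent.S14364
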