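import Groth.Statements.S14366
import Groth.Agent.DCohGammaZ.Basic

set_option autoImplicit false
set_option backward.isDefEq.respectTransparency false
set_option backward.isDefEq.respectTransparency.types false
universe u
open CategoryTheory CategoryTheory.Limits AlgebraicGeometry
attribute [local instance] HasDerivedCategory.standard
open CxOX

namespace Groth.Agent.S14366

open Pretriangulated Groth.Agent.DQCoh Groth.Agent.PerfGen Groth.Agent.DCohGammaZ

/-- Let j : X ⟶ X̄ be an open immersion of Noetherian schemes, U ⊆ X an open subscheme with closed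
complement Z, U' ⊆ X̄ the open complement of the closure Z̄ of j(Z) in X̄, and T = U' ∪ j(X), the
open complement of the closed subset Z̄ ∖ j(X). Let Rj_* exist and preserve complexes with
quasi-coherent cohomology, and let an adjunction j^* ⊣ Rj_* between D(O_X̄) and D(O_X) be given.
Then Rj_* and j^* are inverse equivalences between the objects of D_qc(O_X) whose cohomology sheaves
are supported on Z and the objects of D_qc(O_X̄) whose cohomology sheaves are supported on Z̄ and on
which RΓ_{Z̄ ∖ j(X)} vanishes: for F in the first class, Rj_* F has cohomology supported on Z̄ and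
RΓ_{Z̄ ∖ j(X)}(Rj_* F) is zero; the counit j^* Rj_* F ⟶ F is an isomorphism for every F; and for G
in the second class the unit G ⟶ Rj_* j^* G is an isomorphism and j^* G is in the first class.
(Throughout, RΓ with support is the total right derived functor of the sheaf of sections supported
in the closed subset. The published statement derives instead the functor of sections killed by some
power of a defining ideal; on complexes with quasi-coherent cohomology sheaves over a Noetherian
scheme the two derived functors agree.) -/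
theorem result {X Xbar : Scheme.{u}} [IsNoetherian Xbar] [IsNoetherian X]
    (j : X ⟶ Xbar) [IsOpenImmersion j] (U : X.Opens) (U' T : Xbar.Opens)
    (hU' : (U' : Set Xbar) = (closure (j.base '' ((U : Set X)ᶜ)))ᶜ)
    (hT : (T : Set Xbar) = (U' : Set Xbar) ∪ Set.range j.base)
    [DCoh.HasRpush j] [CxOX.HasRgammaZ T.ι] (hj : DCoh.RpushPreservesQCoh j)
    (adj : DCoh.restrictD j ⊣ DCoh.Rpush j) :
    (∀ F : DCoh.D X, DCoh.IsQCohD F → CxOX.IsSuppD U.ι F →
        CxOX.IsSuppD U'.ι ((DCoh.Rpush j).obj F) ∧ IsZero ((CxOX.RgammaZ T.ι).obj ((DCoh.Rpush j).obj F))) ∧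
    (∀ F : DCoh.D X, IsIso (adj.counit.app F)) ∧
    (∀ G : DCoh.D Xbar, DCoh.IsQCohD G → CxOX.IsSuppD U'.ι G → IsZero ((CxOX.RgammaZ T.ι).obj G) →
        IsIso (adj.unit.app G) ∧ DCoh.IsQCohD ((DCoh.restrictD j).obj G) ∧ CxOX.IsSuppD U.ι ((DCoh.restrictD j).obj G)) := by
  have hU : Set.range U.ι.base = (U : Set X) := Scheme.Opens.range_ι U
  have hU'r : (Set.range U'.ι.base)ᶜ = closure (j.base '' ((U : Set X)ᶜ)) := by
    rw [Scheme.Opens.range_ι, hU', compl_compl]
  have hcl : IsClosed (closure (j.base '' ((U : Set X)ᶜ))) := isClosed_closure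
  have hTj : (Set.range T.ι.base)ᶜ ⊆ (Set.range j.base)ᶜ := by
    rw [Scheme.Opens.range_ι, hT, Set.compl_subset_compl]
    exact Set.subset_union_right
  have hcounit : ∀ F : DCoh.D X, IsIso (adj.counit.app F) := fun F => by
    have e := Adjunction.rightAdjointUniq_hom_app_counit adj (adjR j) F
    rw [← e]
    exact @IsIso.comp_isIso _ _ _ _ _ _ _ inferInstance (isIso_counit_app_adjR j F)
  have hsupp : ∀ F : DCoh.D X, SuppD ((U : Set X)ᶜ) F →
      SuppD (closure (j.base '' ((U : Set X)ᶜ))) ((DCoh.Rpush j).obj F) := fun F hF =>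
    suppD_rpush j hcl (suppD_mono (fun x hx => subset_closure (Set.mem_image_of_mem j.base hx) : (U : Set X)ᶜ ⊆ j.base ⁻¹' closure (j.base '' ((U : Set X)ᶜ))) hF)
  refine ⟨fun F _ hF => ⟨?_, ?_⟩, hcounit, fun G hG hGs hGz => ?_⟩
  · have hF' : SuppD ((U : Set X)ᶜ) F := by rw [← hU]; exact hF
    show SuppD (Set.range U'.ι.base)ᶜ _
    rw [hU'r]
    exact hsupp F hF'
  · have hA := isZero_RD_RgammaZ T.ι ((DCoh.Rpush j).obj F)
    have hA' : IsZero ((RD j).obj ((CxOX.RgammaZ T.ι).obj ((DCoh.Rpush j).obj F))) :=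
      (isZero_RD_iff j _).2 (suppD_mono hTj ((isZero_RD_iff T.ι _).1 hA))
    rw [IsZero.iff_id_eq_zero]
    exact lift_unique T.ι hA _ _ (by rw [hom_eq_zero j hA' ((CxOX.RgammaZToId T.ι).app _), comp_zero, comp_zero])
  · have hs : SuppD (closure (j.base '' ((U : Set X)ᶜ))) G := by rw [← hU'r]; exact hGs
    have hs' : SuppD ((U : Set X)ᶜ) ((RD j).obj G) := by
      refine suppD_mono ?_ (suppD_RD j hs)
      intro x hx hxU
      have hUimg : IsOpen (j.base '' (U : Set X)) := j.isOpenEmbedding.isOpenMap _ U.2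
      have hd : j.base '' ((U : Set X)ᶜ) ⊆ (j.base '' (U : Set X))ᶜ := by
        rintro _ ⟨y, hy, rfl⟩ ⟨z, hz, hzy⟩
        exact hy (j.injective hzy ▸ hz)
      exact closure_minimal hd hUimg.isClosed_compl hx ⟨x, hxU, rfl⟩
    refine ⟨?_, isQCohD_RD j hG, ?_⟩
    swap
    · show SuppD (Set.range U.ι.base)ᶜ _
      rw [hU]
      exact hs'
    have hη : IsIso ((adjR j).unit.app G) := by
      obtain ⟨C, g, δ, hC⟩ := distinguished_cocone_triangle ((adjR j).unit.app G)
      have hCj : IsZero ((RD j).obj C) :=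
        (Triangle.isZero₃_iff_isIso₁ _ ((RD j).map_distinguished _ hC)).2 (isIso_map_unit_adjR j G)
      have hCU : IsZero ((RD U'.ι).obj C) := by
        have h1 : IsZero ((RD U'.ι).obj G) := (isZero_RD_iff U'.ι G).2 hGs
        have h2 : IsZero ((RD U'.ι).obj ((DCoh.Rpush j).obj ((RD j).obj G))) := by
          refine (isZero_RD_iff U'.ι _).2 ?_
          rw [hU'r]
          exact hsupp _ hs'
        exact (Triangle.isZero₃_iff_isIso₁ _ ((RD U'.ι).map_distinguished _ hC)).2 (h1.isIso h2 _)
      have hCT : IsZero ((RD T.ι).obj C) := by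
        refine (isZero_RD_iff T.ι C).2 (suppD_mono ?_ (suppD_inter ((isZero_RD_iff j C).1 hCj)
          ((isZero_RD_iff U'.ι C).1 hCU)))
        rw [Scheme.Opens.range_ι, Scheme.Opens.range_ι, hT, Set.compl_union, Set.inter_comm]
      have hinv := inv_rot_of_distTriang _ hC
      have h0 : (Triangle.mk ((adjR j).unit.app G) g δ).invRotate.mor₁ = 0 := by
        obtain ⟨α, hα⟩ := exists_lift T.ι (isZero_RD_shift T.ι hCT (-1))
          (E := G) (Triangle.mk ((adjR j).unit.app G) g δ).invRotate.mor₁
        exact hα.symm.trans (by rw [hGz.eq_of_tgt α 0, zero_comp])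
      have hm : Mono ((adjR j).unit.app G) := (Triangle.mor₁_eq_zero_iff_mono₂ _ hinv).1 h0
      have hδ : δ = 0 := (Triangle.mor₃_eq_zero_iff_mono₁ _ hC).2 hm
      obtain ⟨s, hs⟩ := Triangle.coyoneda_exact₃ _ hC (𝟙 C) (by
        show 𝟙 C ≫ δ = 0
        rw [hδ, comp_zero])
      refine (Triangle.isZero₃_iff_isIso₁ _ hC).1 ((IsZero.iff_id_eq_zero _).2 (hs.trans ?_))
      exact (congrArg (· ≫ g) (hom_eq_zero j hCj s)).trans zero_comp
    rw [← Adjunction.unit_rightAdjointUniq_hom_app (adjR j) adj]
    infer_instance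

end Groth.Agent.S14366
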