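import Groth.Statements.S1437
import Groth.Agent.StratCoh.Build

set_option autoImplicit false
set_option linter.style.haveILetI false
set_option backward.isDefEq.respectTransparency false
open Groth.Agent
universe u
open FlatMor

namespace Groth.Agent.S1437

open AlgebraicGeometry CategoryTheory Limits in
/-- A Noetherian scheme of finite dimension d has affine stratification number at most d: it admits an
affine stratification with index set {0, …, d}. -/
theorem result (X : Scheme.{u}) [IsNoetherian X] (d : ℕ) (hd : topologicalKrullDim ↑X = d) :
    MoreMor.HasAffineStratification X d := by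
  obtain ⟨s, hs1, hs2, hs3⟩ := StratCoh.exists_strat_of_chains (X := X) (d + 1) Set.univ isClosed_univ fun l c hc _ => by
    have h := Unibranch.natCast_le_topologicalKrullDim c hc
    rw [hd] at h
    exact Nat.lt_succ_of_le (by exact_mod_cast h)
  refine ⟨fun x => ⟨s x, hs1 x trivial⟩, fun i => ?_, fun i => ?_⟩
  · simpa [Fin.le_def] using hs2 i
  · obtain ⟨Z, ι, h1, h2, h3, h4⟩ := hs3 i i.2
    exact ⟨Z, ι, h1, h2, h3, by simpa [Fin.ext_iff] using h4⟩

end Groth.Agent.S1437
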