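import Groth.Statements.S14371
import Groth.Agent.CotT.RegQuot
import Groth.Agent.CotT.CI
import Mathlib.RingTheory.KrullDimension.Regular
import Mathlib.RingTheory.RegularLocalRing.Defs

set_option autoImplicit false
universe u
open CAlg

namespace Groth.Agent.S14371

/-- Let R be a regular local ring of dimension n with maximal ideal m and residue field κ, and I, J
ideals of R such that R/I and R/J are regular local rings of dimensions a and b (two subvarieties
smooth at the point). Suppose the quotient R/(I + J) is local with cotangent space m/(m² + I + J) of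
dimension a + b − n over κ (the tangent spaces of the two subvarieties meet in the expected
dimension, i.e. they intersect transversally at the point). Then R/(I + J) is a regular local ring
of dimension a + b − n; in particular I + J is a prime ideal. (The published statement is about the
local rings of a smooth variety over an algebraically closed field at a point where two smooth
closed subvarieties meet transversally, and also states the resulting equalities of tangent spaces
and of ideals; this row is the local-ring form, for an arbitrary regular local ring.) -/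
theorem result {R : Type u} [CommRing R] [IsRegularLocalRing R]
    (I J : Ideal R) [IsRegularLocalRing (R ⧸ I)] [IsRegularLocalRing (R ⧸ J)] [IsLocalRing (R ⧸ (I ⊔ J))]
    (n a b : ℕ) (hn : ringKrullDim R = n) (ha : ringKrullDim (R ⧸ I) = a) (hb : ringKrullDim (R ⧸ J) = b)
    (ht : Module.finrank (IsLocalRing.ResidueField (R ⧸ (I ⊔ J))) (IsLocalRing.CotangentSpace (R ⧸ (I ⊔ J))) + n = a + b) :
    IsRegularLocalRing (R ⧸ (I ⊔ J)) ∧ ringKrullDim (R ⧸ (I ⊔ J)) = ((a + b - n : ℕ) : WithBot ℕ∞) := by
  classical
  haveI : IsRegularRing (R ⧸ I) := Groth.Agent.CotT.isRegularRing_of_local _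
  have hI : I ≠ ⊤ := fun h => by
    subst h
    exact not_subsingleton (R ⧸ (⊤ : Ideal R)) inferInstance
  obtain ⟨r, g, hspan, hg⟩ := Groth.Agent.CotT.exists_wreg_generators I hI
  have hgm : ∀ i, g i ∈ IsLocalRing.maximalIdeal R := fun i =>
    IsLocalRing.le_maximalIdeal hI (hspan ▸ Ideal.subset_span ⟨i, rfl⟩)
  have hreg : RingTheory.Sequence.IsRegular R (List.ofFn g) := by
    refine (IsLocalRing.isRegular_iff_isWeaklyRegular_of_subset_maximalIdeal ?_).2 (Groth.Agent.CotT.isWeaklyRegular_ofFn hg)
    intro x hx
    obtain ⟨i, rfl⟩ := (List.mem_ofFn' g x).1 hx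
    exact hgm i
  have h1 := ringKrullDim_add_length_eq_ringKrullDim_of_isRegular _ hreg
  have hofList : Ideal.ofList (List.ofFn g) = I := by
    rw [← hspan]; unfold Ideal.ofList; congr 1; ext x; simp [List.mem_ofFn']
  rw [hofList, List.length_ofFn, hn, ha] at h1
  replace h1 : a + r = n := by exact_mod_cast h1
  let K := I.map (Ideal.Quotient.mk J)
  have hK : K = Ideal.span ((Finset.univ.image fun i => Ideal.Quotient.mk J (g i) : Finset (R ⧸ J)) : Set (R ⧸ J)) := by
    rw [Finset.coe_image, Finset.coe_univ, Set.image_univ]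
    show Ideal.map _ I = _
    rw [← hspan, Ideal.map_span, ← Set.range_comp]; rfl
  have h2 := ringKrullDim_le_ringKrullDim_quotient_add_card (R := R ⧸ J)
    (Finset.univ.image fun i => Ideal.Quotient.mk J (g i)) (by
      intro x hx
      obtain ⟨i, -, rfl⟩ := Finset.mem_image.1 (Finset.mem_coe.1 hx)
      rw [IsLocalRing.ringJacobson_eq_maximalIdeal, SetLike.mem_coe, IsLocalRing.mem_maximalIdeal, mem_nonunits_iff]
      intro hu
      haveI : IsLocalHom (Ideal.Quotient.mk J) := IsLocalHom.of_surjective _ Ideal.Quotient.mk_surjective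
      exact (IsLocalRing.mem_maximalIdeal _).1 (hgm i) (isUnit_of_map_unit _ _ hu))
  rw [← hK, hb, ringKrullDim_eq_of_ringEquiv (DoubleQuot.quotQuotEquivQuotSup J I),
    ringKrullDim_eq_of_ringEquiv (Ideal.quotEquivOfEq (sup_comm J I))] at h2
  haveI : IsNoetherianRing (R ⧸ (I ⊔ J)) := inferInstance
  have h3 := ringKrullDim_le_spanFinrank_maximalIdeal (R ⧸ (I ⊔ J))
  have hsp := IsLocalRing.spanFinrank_maximalIdeal_eq_finrank_cotangentSpace (R := R ⧸ (I ⊔ J))
  rw [hsp] at h3
  have hcard : (Finset.univ.image fun i => Ideal.Quotient.mk J (g i)).card ≤ r :=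
    Finset.card_image_le.trans (by simp)
  obtain ⟨e, he⟩ : ∃ e : ℕ, ringKrullDim (R ⧸ (I ⊔ J)) = e := by
    have h0 : (0 : WithBot ℕ∞) ≤ ringKrullDim (R ⧸ (I ⊔ J)) := ringKrullDim_nonneg_of_nontrivial
    generalize ringKrullDim (R ⧸ (I ⊔ J)) = t at h0 h3
    induction t using WithBot.recBotCoe with
    | bot => simp at h0
    | coe t =>
      induction t using ENat.recTopCoe with
      | top => exact absurd (top_le_iff.1 (WithBot.coe_le_coe.1 h3)) (ENat.coe_ne_top _)
      | coe e => exact ⟨e, rfl⟩
  rw [he] at h2 h3
  replace h2 : b ≤ e + (Finset.univ.image fun i => Ideal.Quotient.mk J (g i)).card := by exact_mod_cast h2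
  replace h3 : e ≤ Module.finrank (IsLocalRing.ResidueField (R ⧸ (I ⊔ J))) (IsLocalRing.CotangentSpace (R ⧸ (I ⊔ J))) := by
    exact_mod_cast h3
  have hdim : e = a + b - n := by omega
  refine ⟨(isRegularLocalRing_iff _).2 ?_, by rw [he, hdim]⟩
  rw [hsp, he, hdim, show Module.finrank (IsLocalRing.ResidueField (R ⧸ (I ⊔ J))) (IsLocalRing.CotangentSpace (R ⧸ (I ⊔ J))) = a + b - n by omega]

end Groth.Agent.S14371
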