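import Groth.Statements.S14372
import Mathlib
import Groth.Agent.SyntLib.Field

set_option autoImplicit false
universe u
open Fano

namespace Groth.Agent.S14372


section helpers
open MvPolynomial

lemma pderiv_aeval' {k : Type u} [Field k] {N m : ℕ} (s : Fin N → MvPolynomial (Fin m) k)
    (f : MvPolynomial (Fin N) k) (j : Fin m) :
    pderiv j (aeval s f) = ∑ i, aeval s (pderiv i f) * pderiv j (s i) := by
  classical
  induction f using MvPolynomial.induction_on with
  | C a => simp
  | add p q hp hq =>
    simp only [map_add, hp, hq, add_mul, Finset.sum_add_distrib]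
  | mul_X p l hp =>
    rw [map_mul, aeval_X, Derivation.leibniz, smul_eq_mul, smul_eq_mul, hp, Finset.mul_sum]
    have : ∀ i : Fin N, aeval s (pderiv i (p * X l)) * pderiv j (s i) =
        (if l = i then aeval s p * pderiv j (s l) else 0) +
          s l * (aeval s (pderiv i p) * pderiv j (s i)) := by
      intro i
      rw [Derivation.leibniz, smul_eq_mul, smul_eq_mul, map_add, map_mul, map_mul, aeval_X,
        pderiv_X]
      by_cases h : l = i
      · subst h
        simp
        ring
      · simp [Pi.single_eq_of_ne h, h]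
        ring
    rw [Finset.sum_congr rfl (fun i _ => this i), Finset.sum_add_distrib, Finset.sum_ite_eq]
    simp

lemma height_origin {k : Type u} [Field k] (m : ℕ) :
    (vanishingIdeal k ({0} : Set (Fin m → k))).height = (m : ℕ∞) := by
  obtain ⟨a, b, ha, hb, hab⟩ :=
    Groth.Agent.SyntLib.height_add_dim_poly (vanishingIdeal k ({0} : Set (Fin m → k)))
  letI := Ideal.Quotient.field (vanishingIdeal k ({0} : Set (Fin m → k)))
  rw [ringKrullDim_eq_zero_of_field] at hb
  have hb0 : b = 0 := by exact_mod_cast hb.symm
  rw [ha, show a = m by omega]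

/-- `m` variables: polynomials vanishing simultaneously only at the origin span at least `m` dimensions. -/
lemma le_finrank_of_zero_only {k : Type u} [Field k] [IsAlgClosed k] {m : ℕ}
    (S : Submodule k (MvPolynomial (Fin m) k)) [FiniteDimensional k S]
    (h0 : ∀ p ∈ S, eval 0 p = 0)
    (h : ∀ y : Fin m → k, (∀ p ∈ S, eval y p = 0) → y = 0) :
    m ≤ Module.finrank k S := by
  classical
  let b := Module.finBasis k S
  let g : Fin (Module.finrank k S) → MvPolynomial (Fin m) k := fun i => (b i).1
  have hsp : ∀ p ∈ S, p ∈ Ideal.span (Set.range g) := by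
    intro p hp
    have h1 := congrArg Subtype.val (b.sum_repr ⟨p, hp⟩)
    rw [Submodule.coe_sum] at h1
    rw [show p = ∑ i, ((b.repr ⟨p, hp⟩ i) • b i : S).1 from h1.symm]
    refine Ideal.sum_mem _ (fun i _ => ?_)
    rw [Submodule.coe_smul, Algebra.smul_def]
    exact Ideal.mul_mem_left _ _ (Ideal.subset_span ⟨i, rfl⟩)
  have hz : zeroLocus k (Ideal.span (Set.range g)) = ({0} : Set (Fin m → k)) := by
    refine Set.Subset.antisymm (fun y hy => h y (fun p hp => ?_)) ?_
    · exact (mem_zeroLocus_iff.1 hy) p (hsp p hp)
    · rintro y rfl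
      rw [mem_zeroLocus_iff]
      intro p hp
      refine Submodule.span_induction ?_ ?_ ?_ ?_ hp
      · rintro _ ⟨i, rfl⟩; exact h0 _ (b i).2
      · simp
      · intro p q _ _ hp hq; simp_all
      · intro r p _ hp; simp_all
  have hrad : (Ideal.span (Set.range g)).radical = vanishingIdeal k ({0} : Set (Fin m → k)) := by
    rw [← vanishingIdeal_zeroLocus_eq_radical (K := k), hz]
  haveI hM : (vanishingIdeal k ({0} : Set (Fin m → k))).IsPrime := inferInstance
  have hmin : vanishingIdeal k ({0} : Set (Fin m → k)) ∈
      (Ideal.span (Set.range g)).minimalPrimes := by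
    refine ⟨⟨hM, hrad ▸ Ideal.le_radical⟩, fun P hP _ => ?_⟩
    rw [← hrad]
    exact (Ideal.IsPrime.radical_le_iff hP.1).2 hP.2
  have h1 := Groth.Agent.SyntLib.height_le_of_minimal g hmin
  rw [height_origin] at h1
  exact_mod_cast h1

end helpers

/-- Over an algebraically closed field k of arbitrary characteristic, let f be a homogeneous form of
degree d ≥ 2 in n + 1 variables and U a linear subspace of k^(n+1) on which f vanishes, such that at
every nonzero vector of U some partial derivative of f does not vanish (the hypersurface f = 0 in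
P^n contains the r-plane P(U), r + 1 = dim U, and is smooth at every point of it). Then 2 · dim U ≤
n + 1, i.e. r ≤ (n − 1)/2. (The published statement assumes the hypersurface smooth everywhere; this
row assumes smoothness only along P(U).) -/
theorem result (k : Type u) [Field k] [IsAlgClosed k]
    (n d : ℕ) (hd : 2 ≤ d) (f : MvPolynomial (Fin (n + 1)) k) (hf : f.IsHomogeneous d)
    (U : Submodule k (Fin (n + 1) → k)) (hU : ∀ u ∈ U, MvPolynomial.eval u f = 0)
    (hsm : ∀ u ∈ U, u ≠ 0 → ∃ i : Fin (n + 1), MvPolynomial.eval u (MvPolynomial.pderiv i f) ≠ 0) :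
    2 * Module.finrank k ↥U ≤ n + 1 := by
  classical
  let b := Module.finBasis k U
  let s : Fin (n + 1) → MvPolynomial (Fin (Module.finrank k U)) k :=
    fun i => ∑ j, MvPolynomial.C ((b j).1 i) * MvPolynomial.X j
  have hs : ∀ y i, MvPolynomial.eval y (s i) = (∑ j, y j • b j : U).1 i := by
    intro y i
    simp [s, map_sum, Submodule.coe_sum, Finset.sum_apply, mul_comm]
  have heval : ∀ y (p : MvPolynomial (Fin (n + 1)) k),
      MvPolynomial.eval y (MvPolynomial.aeval s p) =
        MvPolynomial.eval (∑ j, y j • b j : U).1 p := by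
    intro y p
    induction p using MvPolynomial.induction_on with
    | C a => simp
    | add p q hp hq => rw [map_add, map_add, hp, hq, map_add]
    | mul_X p l hp =>
      rw [map_mul, map_mul, MvPolynomial.aeval_X, hp, hs, map_mul, MvPolynomial.eval_X]
  have hf0 : MvPolynomial.aeval s f = 0 :=
    MvPolynomial.funext (fun y => by rw [heval, map_zero]; exact hU _ (Subtype.mem _))
  let Φ : (Fin (n + 1) → k) →ₗ[k] MvPolynomial (Fin (Module.finrank k U)) k :=
    Fintype.linearCombination k (fun i => MvPolynomial.aeval s (MvPolynomial.pderiv i f))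
  have hΦ : ∀ x, Φ x = ∑ i, x i • MvPolynomial.aeval s (MvPolynomial.pderiv i f) :=
    fun x => Fintype.linearCombination_apply k _ x
  have hker : U ≤ LinearMap.ker Φ := by
    have hb : ∀ j, (b j).1 ∈ LinearMap.ker Φ := by
      intro j
      rw [LinearMap.mem_ker, hΦ]
      have h1 := pderiv_aeval' s f j
      rw [hf0, map_zero] at h1
      rw [h1]
      refine Finset.sum_congr rfl (fun i _ => ?_)
      have : MvPolynomial.pderiv j (s i) = MvPolynomial.C ((b j).1 i) := by
        simp [s, map_sum, MvPolynomial.pderiv_X, Pi.single_apply]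
      rw [this, MvPolynomial.smul_eq_C_mul, mul_comm]
    intro u hu
    have h2 := congrArg Subtype.val (b.sum_repr ⟨u, hu⟩)
    rw [Submodule.coe_sum] at h2
    rw [← show _ = u from h2]
    exact Submodule.sum_mem _ (fun j _ => Submodule.smul_mem _ _ (hb j))
  have h1 := Φ.finrank_range_add_finrank_ker
  rw [Module.finrank_fin_fun] at h1
  have h2 := Submodule.finrank_mono hker
  have h3 : Module.finrank k U ≤ Module.finrank k (LinearMap.range Φ) := by
    refine le_finrank_of_zero_only _ ?_ ?_
    · rintro _ ⟨x, rfl⟩
      rw [hΦ, map_sum]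
      refine Finset.sum_eq_zero (fun i _ => ?_)
      rw [MvPolynomial.smul_eval, heval]
      have h4 : MvPolynomial.eval 0 (MvPolynomial.pderiv i f) = 0 := by
        rw [MvPolynomial.eval_zero, MvPolynomial.constantCoeff_eq]
        exact (hf.pderiv).coeff_eq_zero (by simp; omega)
      simp only [Pi.zero_apply, zero_smul, Finset.sum_const_zero, ZeroMemClass.coe_zero, h4,
        mul_zero]
    · intro y hy
      by_contra hy0
      have hu : (∑ j, y j • b j : U) ≠ 0 := fun h =>
        hy0 (funext (Fintype.linearIndependent_iff.1 b.linearIndependent y h))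
      obtain ⟨i, hi⟩ := hsm _ (Subtype.mem (∑ j, y j • b j : U))
        (fun h => hu (Subtype.ext h))
      refine hi ?_
      rw [← heval]
      refine hy _ ⟨Pi.single i 1, ?_⟩
      rw [hΦ, Finset.sum_eq_single i]
      · simp
      · intro j _ hj; simp [Pi.single_eq_of_ne hj]
      · simp
  omega

end Groth.Agent.S14372
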