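import Groth.Statements.S14375
import Mathlib
import Groth.Agent.GeomConn.Basic
open CategoryTheory CategoryTheory.Limits AlgebraicGeometry

set_option autoImplicit false
universe u
open CategoryTheory CategoryTheory.Limits AlgebraicGeometry
open Variety

set_option backward.isDefEq.respectTransparency false
namespace Groth.Agent.S14375

/-- Let k be an algebraically closed field, F an irreducible scheme of finite type over k, and f : X → Y
a k-morphism of schemes of finite type over k with Y irreducible which is locally trivial with fibre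
F: every point of Y has an open neighbourhood V such that f⁻¹(V) is isomorphic over V to V ×_k F.
Then X is irreducible. (The published statement is for varieties, i.e. reduced separated schemes;
this row assumes neither.) -/
theorem result (k : Type u) [Field k] [IsAlgClosed k]
    {X Y F : Scheme.{u}} (qX : X ⟶ Spec (CommRingCat.of k)) (qY : Y ⟶ Spec (CommRingCat.of k))
    (qF : F ⟶ Spec (CommRingCat.of k))
    [LocallyOfFiniteType qX] [QuasiCompact qX] [LocallyOfFiniteType qY] [QuasiCompact qY]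
    [LocallyOfFiniteType qF] [QuasiCompact qF] [IrreducibleSpace ↥F] [IrreducibleSpace ↥Y]
    (f : X ⟶ Y) (hf : f ≫ qY = qX)
    (htriv : ∀ y : ↥Y, ∃ V : Y.Opens, y ∈ V ∧
      ∃ e : (↑(f ⁻¹ᵁ V) : Scheme.{u}) ≅ pullback (V.ι ≫ qY) qF, e.hom ≫ pullback.fst (V.ι ≫ qY) qF = f ∣_ V) :
    IrreducibleSpace ↥X := by
  haveI : GeometricallyIrreducible qF := by
    refine ⟨geometrically_iff_of_commRing_of_isClosedUnderIsomorphisms.mpr fun K _ _ => ?_⟩
    have h1 := Groth.Agent.GeomConn.isIrreducible_preimage_fst (k := k) (K := K) qF (IrreducibleSpace.isIrreducible_univ ↥F)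
    rw [Set.preimage_univ] at h1
    exact (irreducibleSpace_def _).mpr h1
  have hopen : IsOpenMap f.base := by
    intro U hU
    refine isOpen_iff_forall_mem_open.2 ?_
    rintro y ⟨x, hxU, rfl⟩
    obtain ⟨V, hV, e, he⟩ := htriv (f.base x)
    refine ⟨f.base '' (U ∩ f ⁻¹ᵁ V), Set.image_mono Set.inter_subset_left, ?_, x, ⟨hxU, hV⟩, rfl⟩
    have h1 : IsOpenMap (f ∣_ V).base := by
      rw [← he, Scheme.Hom.comp_base, TopCat.coe_comp]
      exact (pullback.fst (V.ι ≫ qY) qF).isOpenMap.comp e.hom.homeomorph.isOpenMap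
    have h2 : f.base '' (U ∩ f ⁻¹ᵁ V) = V.ι.base '' ((f ∣_ V).base '' ((f ⁻¹ᵁ V).ι.base ⁻¹' U)) := by
      rw [Set.image_image, show (fun z => V.ι.base ((f ∣_ V).base z)) = f.base ∘ (f ⁻¹ᵁ V).ι.base from funext fun z => by
        show V.ι ((f ∣_ V) z) = f ((f ⁻¹ᵁ V).ι z)
        rw [← Scheme.Hom.comp_apply, ← Scheme.Hom.comp_apply, morphismRestrict_ι],
        Set.image_comp, Set.image_preimage_eq_inter_range, Scheme.Opens.range_ι]
    rw [h2]
    exact V.ι.isOpenEmbedding.isOpenMap _ (h1 _ (hU.preimage (Scheme.Hom.continuous _)))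
  have hfib : ∀ y : ↥Y, IsPreirreducible (f.base ⁻¹' {y}) ∧ (f.base ⁻¹' {y}).Nonempty := by
    intro y
    obtain ⟨V, hV, e, he⟩ := htriv y
    have h1 : IsIrreducible ((pullback.fst (V.ι ≫ qY) qF).base ⁻¹' {⟨y, hV⟩}) :=
      Scheme.Hom.isIrreducible_preimage _ (pullback.fst (V.ι ≫ qY) qF).isOpenMap isIrreducible_singleton
    have h2 := h1.image (e.inv ≫ (f ⁻¹ᵁ V).ι).base (Scheme.Hom.continuous _).continuousOn
    have h3 : (e.inv ≫ (f ⁻¹ᵁ V).ι).base '' ((pullback.fst (V.ι ≫ qY) qF).base ⁻¹' {⟨y, hV⟩}) = f.base ⁻¹' {y} := by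
      have hc : (e.inv ≫ (f ⁻¹ᵁ V).ι) ≫ f = pullback.fst (V.ι ≫ qY) qF ≫ V.ι := by
        rw [Category.assoc, ← morphismRestrict_ι, ← he]; simp
      ext x
      constructor
      · rintro ⟨z, hz, rfl⟩
        rw [Set.mem_preimage, Set.mem_singleton_iff] at hz ⊢
        show f ((e.inv ≫ (f ⁻¹ᵁ V).ι) z) = y
        rw [← Scheme.Hom.comp_apply, hc, Scheme.Hom.comp_apply, hz]
        rfl
      · intro hx
        have hxV : x ∈ f ⁻¹ᵁ V := by
          show f.base x ∈ V
          rw [show f.base x = y from hx]; exact hV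
        refine ⟨e.hom.base ⟨x, hxV⟩, ?_, ?_⟩
        · refine Subtype.ext ?_
          show ((pullback.fst (V.ι ≫ qY) qF) (e.hom ⟨x, hxV⟩)).1 = y
          rw [← Scheme.Hom.comp_apply, he, morphismRestrict_base]
          exact hx
        · show (e.inv ≫ (f ⁻¹ᵁ V).ι) (e.hom ⟨x, hxV⟩) = x
          rw [← Scheme.Hom.comp_apply, Iso.hom_inv_id_assoc]
          rfl
    rw [h3] at h2
    exact ⟨h2.isPreirreducible, h2.nonempty⟩
  refine (irreducibleSpace_def _).mpr ?_
  show IsIrreducible (Set.univ : Set ↥X)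
  rw [← Set.preimage_univ (f := f.base)]
  refine (IrreducibleSpace.isIrreducible_univ ↥Y).preimage_of_isPreirreducible_fiber _ hopen (fun y => (hfib y).1) ?_
  exact ⟨_, Set.mem_univ _, Set.mem_range_self (hfib (Classical.arbitrary _)).2.some⟩

end Groth.Agent.S14375
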