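import Groth.Statements.S1438
import Groth.Agent.StratCoh.Build

set_option autoImplicit false
set_option linter.style.haveILetI false
set_option backward.isDefEq.respectTransparency false
open Groth.Agent
universe u
open FlatMor

namespace Groth.Agent.S1438

open AlgebraicGeometry CategoryTheory Limits in
/-- A separated scheme with an open covering by n + 1 affine opens has affine stratification number at
most n: it admits an affine stratification with index set {0, …, n}. -/
theorem result (X : Scheme.{u}) [X.IsSeparated] (n : ℕ) (U : Fin (n + 1) → X.Opens)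
    (hU : ∀ i, IsAffineOpen (U i)) (hcov : ⨆ i, U i = ⊤) :
    MoreMor.HasAffineStratification X n := by
  have hc : ∀ x : X, ∃ i, x ∈ U i := fun x => TopologicalSpace.Opens.mem_iSup.1 (hcov ▸ trivial : x ∈ ⨆ i, U i)
  exact StratCoh.strat_of_opens U hU hc (fun k : ULift.{u} (Fin (n + 1)) => U k.down) (fun k => hU k.down)
    (fun x => (hc x).elim fun i hi => ⟨⟨i⟩, hi⟩) (fun i k => Or.inr (Or.inr ((hU i).inf (hU k.down))))

end Groth.Agent.S1438
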