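import Groth.Statements.S14383
import Mathlib.RingTheory.Etale.Kaehler
import Mathlib.RingTheory.Flat.LocallyFree
import Mathlib.RingTheory.Smooth.StandardSmoothCotangent
import Mathlib.RingTheory.Localization.BaseChange
import Mathlib.AlgebraicGeometry.Morphisms.Smooth

set_option autoImplicit false
open scoped TensorProduct
open AlgebraicGeometry
universe u
open CAlg

namespace Groth.Agent.S14383

open TensorProduct

/-- Smooth algebras of the same relative dimension, one unramified over the other, are étale. -/
theorem etale_of_rank {K A B : Type u} [CommRing K] [CommRing A] [CommRing B] [Algebra K A] [Algebra K B]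
    [Algebra A B] [IsScalarTower K A B] [Algebra.Smooth K A] [Algebra.Smooth K B]
    [Subsingleton Ω[B⁄A]] (d : ℕ)
    (hA : ∀ p : PrimeSpectrum A, Module.rankAtStalk Ω[A⁄K] p = d)
    (hB : ∀ p : PrimeSpectrum B, Module.rankAtStalk Ω[B⁄K] p = d) : Algebra.Etale A B := by
  have : Algebra.FinitePresentation A B :=
    Algebra.FinitePresentation.of_restrict_scalars_finitePresentation K A B
  have hsurj : Function.Surjective (KaehlerDifferential.mapBaseChange K A B) := fun x =>
    (KaehlerDifferential.exact_mapBaseChange_map K A B x).1 (Subsingleton.elim _ _)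
  have hbij := Module.bijective_of_surjective_of_rankAtStalk_eq hsurj fun m _ => by
    rw [Module.rankAtStalk_baseChange, hA, hB]
  have : Subsingleton (Algebra.H1Cotangent A B) := subsingleton_of_forall_eq 0 fun x => by
    have h0 : Algebra.H1Cotangent.δ K A B x = 0 := hbij.1 (by
      rw [map_zero]
      exact (Algebra.H1Cotangent.exact_δ_mapBaseChange K A B).apply_apply_eq_zero x)
    obtain ⟨y, rfl⟩ := (Algebra.H1Cotangent.exact_map_δ K A B x).1 h0
    rw [Subsingleton.elim y 0, map_zero]
  have : Algebra.FormallyEtale A B := ⟨inferInstance, inferInstance⟩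
  exact { }

/-- The rank of the differentials of a smooth algebra of relative dimension `d`. -/
theorem rank_of_relDim {K B : Type u} [CommRing K] [CommRing B] [Algebra K B] (d : ℕ)
    (h : SmoothOfRelativeDimension d (Spec.map (CommRingCat.ofHom (algebraMap K B)))) :
    Algebra.Smooth K B ∧ ∀ p : PrimeSpectrum B, Module.rankAtStalk Ω[B⁄K] p = d := by
  have hs : Smooth (Spec.map (CommRingCat.ofHom (algebraMap K B))) := SmoothOfRelativeDimension.smooth d _
  have : Algebra.Smooth K B :=
    RingHom.smooth_algebraMap.1 ((HasRingHomProperty.Spec_iff (P := @Smooth)).1 hs)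
  refine ⟨this, fun p => ?_⟩
  obtain ⟨s, hs, hloc⟩ := (HasRingHomProperty.Spec_iff (P := @SmoothOfRelativeDimension d)).1 h
  obtain ⟨t, ht, htp⟩ : ∃ t ∈ s, t ∉ p.asIdeal := by
    by_contra hall
    push Not at hall
    exact p.isPrime.ne_top (top_le_iff.1 (hs.ge.trans (Ideal.span_le.2 hall)))
  let L := Localization.Away t
  have hL : Algebra.IsStandardSmoothOfRelativeDimension d K L := by
    rw [← RingHom.isStandardSmoothOfRelativeDimension_algebraMap]
    exact hloc t ht
  have : Algebra.IsStandardSmooth K L := hL.isStandardSmooth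
  obtain ⟨q, hq⟩ : ∃ q : PrimeSpectrum L, q.comap (algebraMap B L) = p := by
    have : p ∈ Set.range (PrimeSpectrum.comap (algebraMap B L)) := by
      rw [PrimeSpectrum.localization_away_comap_range L t]; exact htp
    exact this
  have : Nontrivial L := q.nontrivial
  have : Algebra.FormallyEtale B L := Algebra.FormallyEtale.of_isLocalization (Submonoid.powers t)
  rw [← hq, ← Module.rankAtStalk_baseChange (S := L) (M := Ω[B⁄K]) q,
    Module.rankAtStalk_eq_of_equiv (KaehlerDifferential.tensorKaehlerEquivOfFormallyEtale K B L),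
    Module.rankAtStalk_eq_finrank_of_free]
  exact Module.finrank_eq_of_rank_eq (Algebra.IsStandardSmoothOfRelativeDimension.rank_kaehlerDifferential d)

/-- Base change kills a module killed by an element becoming invertible. -/
theorem subsingleton_tensor {R B M : Type u} [CommRing R] [CommRing B] [Algebra R B] [AddCommGroup M]
    [Module R M] (e : R) (he : IsUnit (algebraMap R B e)) (h : ∀ y : M, e • y = 0) :
    Subsingleton (B ⊗[R] M) := by
  obtain ⟨u, hu⟩ := he
  refine subsingleton_of_forall_eq 0 fun z => ?_
  induction z with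
  | zero => rfl
  | tmul b y =>
    rw [show b = e • ((↑u⁻¹ : B) * b) by rw [Algebra.smul_def, ← hu, Units.mul_inv_cancel_left],
      TensorProduct.smul_tmul, h, TensorProduct.tmul_zero]
  | add _ _ h1 h2 => rw [h1, h2, add_zero]

/-- Let V be a discrete valuation ring of characteristic zero with uniformizer ϖ, whose residue field k
is perfect of characteristic p > 0, and let A → R be a homomorphism of V-algebras of finite type,
viewed as a morphism f : Spec R → Spec A of schemes of finite type over Spec V. Say f is η-étale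
when there is an open neighbourhood of the closed fibre of Spec R on whose generic fibre f is étale;
for affine Spec R this means: some a ∈ R with (a) + (ϖ) = R has R[1/(aϖ)] étale over A. First: if f
is η-étale then for some n ≥ 0 the submodule p^n Ω_{R/A} of the module of differentials is contained
in ϖ p^n Ω_{R/A} (that is, p^n Ω_{R/A} vanishes along the closed fibre). Conversely: if the generic
fibres Spec(K ⊗_V A) and Spec(K ⊗_V R) are both smooth over K of the same relative dimension d, K
the fraction field of V, then such an n forces f to be η-étale. (The published statement is for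
arbitrary schemes X → Y of finite type over V and also lists an intermediate equivalent condition,
that the restriction of p^n Ω_{X/Y} to the closed fibre as an abelian sheaf vanishes for some n;
this row is the case of affine schemes and states the other two conditions.) -/
theorem result (V : Type u) [CommRing V] [IsDomain V] [IsDiscreteValuationRing V] [CharZero V]
    (ϖ : V) (hϖ : Irreducible ϖ) (p : ℕ) [Fact p.Prime] [CharP (IsLocalRing.ResidueField V) p]
    [PerfectField (IsLocalRing.ResidueField V)]
    (A : Type u) [CommRing A] [Algebra V A] [Algebra.FiniteType V A]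
    (R : Type u) [CommRing R] [Algebra V R] [Algebra.FiniteType V R] [Algebra A R] [IsScalarTower V A R] :
    ((∃ a : R, Ideal.span {a} ⊔ Ideal.span {algebraMap V R ϖ} = ⊤ ∧
        ((algebraMap R (Localization.Away (a * algebraMap V R ϖ))).comp (algebraMap A R)).Etale) →
      ∃ n : ℕ, Ideal.span {((p : R)) ^ n} • (⊤ : Submodule R (Ω[R⁄A])) ≤
        Ideal.span {algebraMap V R ϖ * (p : R) ^ n} • (⊤ : Submodule R (Ω[R⁄A]))) ∧
    (∀ d : ℕ, SmoothOfRelativeDimension d
        (Spec.map (CommRingCat.ofHom (algebraMap (FractionRing V) (FractionRing V ⊗[V] A)))) →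
      SmoothOfRelativeDimension d
        (Spec.map (CommRingCat.ofHom (algebraMap (FractionRing V) (FractionRing V ⊗[V] R)))) →
      (∃ n : ℕ, Ideal.span {((p : R)) ^ n} • (⊤ : Submodule R (Ω[R⁄A])) ≤
        Ideal.span {algebraMap V R ϖ * (p : R) ^ n} • (⊤ : Submodule R (Ω[R⁄A]))) →
      ∃ a : R, Ideal.span {a} ⊔ Ideal.span {algebraMap V R ϖ} = ⊤ ∧
        ((algebraMap R (Localization.Away (a * algebraMap V R ϖ))).comp (algebraMap A R)).Etale) := by
  classical
  obtain ⟨e, v, he⟩ : ∃ (e : ℕ) (v : Vˣ), (p : V) = v * ϖ ^ e :=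
    IsDiscreteValuationRing.eq_unit_mul_pow_irreducible (Nat.cast_ne_zero.2 (Fact.out : p.Prime).ne_zero) hϖ
  have he1 : 1 ≤ e := by
    by_contra h0
    have h1 : IsUnit (p : V) := by rw [he, show e = 0 by omega, pow_zero, mul_one]; exact v.isUnit
    have h2 := h1.map (IsLocalRing.residue V)
    rw [map_natCast, CharP.cast_eq_zero] at h2
    exact not_isUnit_zero h2
  set ϖR := algebraMap V R ϖ with hϖR
  set v' := algebraMap V R (v : V)
  have hp : (p : R) = v' * ϖR ^ e := by rw [← map_natCast (algebraMap V R), he, map_mul, map_pow]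
  haveI : Algebra.FiniteType A R := Algebra.FiniteType.of_restrictScalars_finiteType V A R
  constructor
  · rintro ⟨a, hspan, het⟩
    let R' := Localization.Away (a * ϖR)
    have : Algebra.Etale A R' := by
      rw [← RingHom.etale_algebraMap, IsScalarTower.algebraMap_eq A R R']
      exact het
    have : Algebra.FormallyEtale R R' := Algebra.FormallyEtale.of_isLocalization (Submonoid.powers (a * ϖR))
    have hsub : Subsingleton (R' ⊗[R] Ω[R⁄A]) :=
      (KaehlerDifferential.tensorKaehlerEquivOfFormallyEtale A R R').toEquiv.subsingleton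
    have hkill : ∀ y : Ω[R⁄A], ∃ k : ℕ, (a * ϖR) ^ k • y = 0 := by
      intro y
      have h0 : TensorProduct.mk R R' (Ω[R⁄A]) 1 y = 0 := Subsingleton.elim _ _
      haveI : IsLocalizedModule (Submonoid.powers (a * ϖR)) (TensorProduct.mk R R' (Ω[R⁄A]) 1) :=
        (isLocalizedModule_iff_isBaseChange _ R' _).2 (TensorProduct.isBaseChange _ _ _)
      obtain ⟨⟨_, k, rfl⟩, hk⟩ := (IsLocalizedModule.eq_zero_iff (Submonoid.powers (a * ϖR)) _).1 h0
      exact ⟨k, hk⟩
    obtain ⟨S, hS⟩ := (Module.Finite.fg_top : (⊤ : Submodule R (Ω[R⁄A])).FG)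
    choose kf hkf using hkill
    refine ⟨S.sup kf, ?_⟩
    set N := S.sup kf
    have hall : ∀ y : Ω[R⁄A], (a * ϖR) ^ N • y = 0 := by
      intro y
      have hy : y ∈ Submodule.span R (S : Set (Ω[R⁄A])) := hS ▸ Submodule.mem_top
      induction hy using Submodule.span_induction with
      | mem y hy =>
        obtain ⟨j, hj⟩ := Nat.le.dest (Finset.le_sup (f := kf) hy)
        rw [show N = j + kf y from (hj.symm.trans (add_comm _ _)), pow_add, mul_smul, hkf, smul_zero]
      | zero => rw [smul_zero]
      | add _ _ _ _ h1 h2 => rw [smul_add, h1, h2, add_zero]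
      | smul c _ _ h1 => rw [smul_comm, h1, smul_zero]
    have hco : Ideal.span {a} ^ N ⊔ Ideal.span {ϖR} = ⊤ := Ideal.pow_sup_eq_top hspan
    rw [Ideal.span_singleton_pow] at hco
    obtain ⟨_, hx, _, hy, hxy⟩ := Submodule.mem_sup.1 (hco.ge (Submodule.mem_top (x := (1 : R))))
    obtain ⟨x, rfl⟩ := Ideal.mem_span_singleton'.1 hx
    obtain ⟨z, rfl⟩ := Ideal.mem_span_singleton'.1 hy
    refine Submodule.smul_le.2 fun c hc y _ => ?_
    obtain ⟨c, rfl⟩ := Ideal.mem_span_singleton'.1 hc
    obtain ⟨j, hj⟩ : ∃ j, e * N = N + j := Nat.le.dest (Nat.le_mul_of_pos_left N he1) |>.imp fun _ h => h.symm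
    have hpN : (p : R) ^ N = ϖR ^ N * (v' ^ N * ϖR ^ j) := by
      rw [hp, mul_pow, ← pow_mul, hj, pow_add]; ring
    have : (c * (p : R) ^ N) • y =
        (c * z * (ϖR * (p : R) ^ N)) • y + (c * x * (v' ^ N * ϖR ^ j)) • ((a * ϖR) ^ N • y) := by
      rw [← mul_smul, ← add_smul]
      congr 1
      linear_combination (c * x * a ^ N) * hpN - c * (p : R) ^ N * hxy
    rw [this, hall, smul_zero, add_zero]
    exact Submodule.smul_mem_smul (Ideal.mul_mem_left _ _ (Ideal.mem_span_singleton_self _)) trivial
  · intro d hdA hdR ⟨n, hn⟩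
    obtain ⟨r, hr, hr'⟩ := Submodule.exists_sub_one_mem_and_smul_eq_zero_of_fg_of_le_smul (Ideal.span {ϖR})
      (Ideal.span {((p : R)) ^ n} • (⊤ : Submodule R (Ω[R⁄A])))
      (Submodule.FG.smul (Submodule.fg_span_singleton _) Module.Finite.fg_top)
      (by rw [← Submodule.mul_smul, Ideal.span_singleton_mul_span_singleton]; exact hn)
    refine ⟨r, ?_, ?_⟩
    · rw [Ideal.eq_top_iff_one, show (1 : R) = r - (r - 1) by ring]
      exact sub_mem (Submodule.mem_sup_left (Ideal.mem_span_singleton_self r)) (Submodule.mem_sup_right hr)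
    let K := FractionRing V
    haveI : IsLocalization.Away ϖ K := by
      refine IsLocalization.Away.mk ϖ ?_ (fun z => ?_) fun a b hab => ?_
      · exact (map_ne_zero_iff _ (IsFractionRing.injective V K)).2 hϖ.ne_zero |>.isUnit
      · obtain ⟨a, ⟨b, hb⟩, rfl⟩ := IsLocalization.exists_mk'_eq (nonZeroDivisors V) z
        obtain ⟨m, w, rfl⟩ :=
          IsDiscreteValuationRing.eq_unit_mul_pow_irreducible (nonZeroDivisors.ne_zero hb) hϖ
        refine ⟨m, a * (↑w⁻¹ : V), ?_⟩
        have := IsLocalization.mk'_spec K a ⟨↑w * ϖ ^ m, hb⟩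
        rw [← map_pow, map_mul _ a, ← this, mul_assoc, ← map_mul]
        congr 2
        show ϖ ^ m = ↑w * ϖ ^ m * ↑w⁻¹
        rw [mul_comm (↑w : V), mul_assoc, Units.mul_inv, mul_one]
      · exact ⟨0, by rw [IsFractionRing.injective V _ hab]⟩
    obtain ⟨hsA, hrA⟩ := rank_of_relDim d hdA
    obtain ⟨hsR, hrR⟩ := rank_of_relDim d hdR
    letI : Algebra A (K ⊗[V] A) := Algebra.TensorProduct.rightAlgebra
    letI : Algebra R (K ⊗[V] R) := Algebra.TensorProduct.rightAlgebra
    let KA := K ⊗[V] A
    let KR := K ⊗[V] R
    letI : Algebra KA KR :=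
      (Algebra.TensorProduct.map (AlgHom.id K K) (IsScalarTower.toAlgHom V A R)).toRingHom.toAlgebra
    haveI : IsScalarTower K KA KR :=
      IsScalarTower.of_algebraMap_eq (R := K) (S := KA) (A := KR) fun c =>
        ((Algebra.TensorProduct.map (AlgHom.id K K) (IsScalarTower.toAlgHom V A R)).commutes c).symm
    letI : Algebra A KR := ((algebraMap R KR).comp (algebraMap A R)).toAlgebra
    haveI : IsScalarTower A R KR := IsScalarTower.of_algebraMap_eq fun _ => rfl
    haveI : IsScalarTower A KA KR := IsScalarTower.of_algebraMap_eq fun c => by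
      simp [RingHom.algebraMap_toAlgebra, KA, KR]
    let B := Localization.Away (algebraMap R KR r)
    haveI : Algebra.FormallyEtale KR B :=
      Algebra.FormallyEtale.of_isLocalization (Submonoid.powers (algebraMap R KR r))
    haveI : Algebra.Etale A KA := Algebra.Etale.of_isLocalizationAway (algebraMap V A ϖ)
    haveI : IsLocalization.Away (ϖR * r) B := IsLocalization.Away.mul' KR B ϖR r
    haveI : Algebra.FormallyEtale R B := Algebra.FormallyEtale.of_isLocalization (Submonoid.powers (ϖR * r))
    have hunit : IsUnit (algebraMap R B (r * (p : R) ^ n)) := by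
      have h1 : IsUnit (algebraMap R B (ϖR * r)) := IsLocalization.Away.algebraMap_isUnit _
      rw [map_mul, IsUnit.mul_iff] at h1
      rw [map_mul, map_pow, hp, map_mul, map_pow]
      exact h1.2.mul ((((v.isUnit.map (algebraMap V R)).map (algebraMap R B)).mul (h1.1.pow e)).pow n)
    haveI : Subsingleton (B ⊗[R] Ω[R⁄A]) := subsingleton_tensor _ hunit fun y => by
      rw [mul_smul]
      exact hr' _ (Submodule.smul_mem_smul (Ideal.mem_span_singleton_self _) trivial)
    haveI : Subsingleton Ω[B⁄A] :=
      (KaehlerDifferential.tensorKaehlerEquivOfFormallyEtale A R B).symm.toEquiv.subsingleton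
    haveI : Subsingleton Ω[B⁄KA] := (KaehlerDifferential.map_surjective A KA B).subsingleton
    haveI : Algebra.Etale KR B := Algebra.Etale.of_isLocalizationAway (algebraMap R KR r)
    haveI : Algebra.Smooth KR B := Algebra.Etale.iff_formallyUnramified_and_smooth.1 ‹_› |>.2
    haveI : Algebra.Smooth K B := Algebra.Smooth.comp K KR B
    have hrB : ∀ q : PrimeSpectrum B, Module.rankAtStalk Ω[B⁄K] q = d := fun q => by
      rw [← Module.rankAtStalk_eq_of_equiv (KaehlerDifferential.tensorKaehlerEquivOfFormallyEtale K KR B),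
        Module.rankAtStalk_baseChange, hrR]
    haveI : Algebra.Etale KA B := etale_of_rank d hrA hrB
    haveI : Algebra.Etale A B := Algebra.Etale.comp A KA B
    haveI : IsLocalization.Away (r * ϖR) B := by rw [mul_comm]; infer_instance
    let ε : B ≃ₐ[R] Localization.Away (r * ϖR) :=
      IsLocalization.algEquiv (Submonoid.powers (r * ϖR)) _ _
    haveI : Algebra.Etale A (Localization.Away (r * ϖR)) := Algebra.Etale.of_equiv (ε.restrictScalars A)
    rw [← IsScalarTower.algebraMap_eq A R (Localization.Away (r * ϖR)), RingHom.etale_algebraMap]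
    infer_instance

end Groth.Agent.S14383
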