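import Groth.Statements.S14384
import Mathlib.RingTheory.Kaehler.Basic
import Mathlib.Tactic.LinearCombination

set_option autoImplicit false
set_option backward.isDefEq.respectTransparency false
set_option linter.style.haveILetI false
universe u
open CAlg

namespace Groth.Agent.S14384

/-- Let V be a discrete valuation ring of characteristic zero with uniformizer ϖ, whose residue field is
perfect of characteristic p > 0, let R be a V-algebra of finite type, x'_1, …, x'_d elements of R
defining a morphism f' from Spec R to affine d-space over V, and n ≥ 0 such that p^n Ω_{f'} vanishes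
along the closed fibre, written inside Ω_{R/V} as p^n Ω_{R/V} ⊆ ϖ p^n Ω_{R/V} + Σ_i R dx'_i. If y_1,
…, y_d lie in the subring of R generated by the p^(n+1)-th powers of elements of R, then the
morphism f = f' + (y_1, …, y_d) has the same property: p^n Ω_{R/V} ⊆ ϖ p^n Ω_{R/V} + Σ_i R d(x'_i +
y_i). -/
theorem result (V : Type u) [CommRing V] [IsDomain V] [IsDiscreteValuationRing V] [CharZero V]
    (ϖ : V) (hϖ : Irreducible ϖ) (p : ℕ) [Fact p.Prime] [CharP (IsLocalRing.ResidueField V) p]
    [PerfectField (IsLocalRing.ResidueField V)]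
    (R : Type u) [CommRing R] [Algebra V R] [Algebra.FiniteType V R] (d n : ℕ) (x' : Fin d → R)
    (hx' : Ideal.span {((p : R)) ^ n} • (⊤ : Submodule R (Ω[R⁄V])) ≤
      Ideal.span {algebraMap V R ϖ * (p : R) ^ n} • (⊤ : Submodule R (Ω[R⁄V])) ⊔
        Submodule.span R (Set.range fun i => KaehlerDifferential.D V R (x' i)))
    (y : Fin d → R) (hy : ∀ i, y i ∈ Subring.closure (Set.range fun r : R => r ^ (p ^ (n + 1)))) :
    Ideal.span {((p : R)) ^ n} • (⊤ : Submodule R (Ω[R⁄V])) ≤
      Ideal.span {algebraMap V R ϖ * (p : R) ^ n} • (⊤ : Submodule R (Ω[R⁄V])) ⊔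
        Submodule.span R (Set.range fun i => KaehlerDifferential.D V R (x' i + y i)) := by
  intro z hz
  have hp : ((p : R)) ∈ Ideal.span {algebraMap V R ϖ} := by
    have h1 : ((p : V)) ∈ IsLocalRing.maximalIdeal V := by
      rw [← IsLocalRing.residue_eq_zero_iff, map_natCast]
      exact CharP.cast_eq_zero _ p
    rw [hϖ.maximalIdeal_eq] at h1
    obtain ⟨w, hw⟩ := Ideal.mem_span_singleton'.mp h1
    rw [← map_natCast (algebraMap V R) p, ← hw, map_mul]
    exact Ideal.mul_mem_left _ _ (Ideal.mem_span_singleton_self _)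
  have hs : (p : R) ^ (n + 1) ∈ Ideal.span {algebraMap V R ϖ * (p : R) ^ n} := by
    obtain ⟨w, hw⟩ := Ideal.mem_span_singleton'.mp hp
    exact Ideal.mem_span_singleton'.mpr ⟨w, by rw [pow_succ']; linear_combination (p : R) ^ n * hw⟩
  set J := Ideal.span {algebraMap V R ϖ * (p : R) ^ n} • (⊤ : Submodule R (Ω[R⁄V])) with hJ
  have hD : ∀ r ∈ Subring.closure (Set.range fun r : R => r ^ (p ^ (n + 1))), KaehlerDifferential.D V R r ∈ J := by
    intro r hr
    induction hr using Subring.closure_induction with
    | mem x hx =>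
      obtain ⟨x, rfl⟩ := hx
      rw [Derivation.leibniz_pow, ← Nat.cast_smul_eq_nsmul R, Nat.cast_pow]
      exact Submodule.smul_mem_smul hs trivial
    | zero => simp
    | one => simp
    | add x y _ _ hx hy => rw [map_add]; exact J.add_mem hx hy
    | neg x _ hx => rw [map_neg]; exact J.neg_mem hx
    | mul x y _ _ hx hy =>
      rw [Derivation.leibniz]
      exact J.add_mem (J.smul_mem _ hy) (J.smul_mem _ hx)
  suffices key : J ⊔ Submodule.span R (Set.range fun i => KaehlerDifferential.D V R (x' i)) ≤
      J ⊔ Submodule.span R (Set.range fun i => KaehlerDifferential.D V R (x' i + y i)) from key (hx' hz)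
  refine sup_le le_sup_left (Submodule.span_le.mpr ?_)
  rintro _ ⟨i, rfl⟩
  have : KaehlerDifferential.D V R (x' i) = KaehlerDifferential.D V R (x' i + y i) - KaehlerDifferential.D V R (y i) := by
    rw [map_add, add_sub_cancel_right]
  show KaehlerDifferential.D V R (x' i) ∈ _
  rw [this]
  exact Submodule.sub_mem _ (Submodule.mem_sup_right (Submodule.subset_span ⟨i, rfl⟩)) (Submodule.mem_sup_left (hD _ (hy i)))

end Groth.Agent.S14384
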