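import Groth.Statements.S14385
import Groth.Agent.EtaNoether.Subst
import Groth.Agent.EtaNoether.Etale
import Groth.Agent.IdealRedLib.Fibre
import Groth.Agent.LocalDimBC.Smooth
import Groth.Agent.CMChart.OverField
import Groth.Agent.S5792
-- import your own Groth.Agent.* helpers here

set_option autoImplicit false
open scoped TensorProduct
open AlgebraicGeometry
universe u
open CAlg

namespace Groth.Agent.S14385

open Groth.Agent.EtaNoether

section

variable {V : Type u} [CommRing V] [IsDomain V] [IsDiscreteValuationRing V] {R : Type u} [CommRing R] [Algebra V R]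
  [Module.Flat V R]

/-- More than `dim` elements satisfy a relation which is nonzero in both fibres. -/
theorem exists_relation [Algebra.FiniteType V R] (d : ℕ)
    (hdim : ringKrullDim (FractionRing V ⊗[V] R) ≤ d) {κ : Type} [Fintype κ] (hκ : d < Fintype.card κ) (y : κ → R) :
    ∃ f : MvPolynomial κ V, MvPolynomial.aeval y f = 0 ∧
      MvPolynomial.map (algebraMap V (FractionRing V)) f ≠ 0 ∧
      MvPolynomial.map (algebraMap V (IsLocalRing.ResidueField V)) f ≠ 0 := by
  classical
  set K := FractionRing V
  set B := K ⊗[V] R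
  let ψ : MvPolynomial κ K →ₐ[K] B := MvPolynomial.aeval fun i => (1 : K) ⊗ₜ[V] y i
  have hnot : ¬ Function.Injective ψ := fun hinj => by
    obtain ⟨q, hq, hq0⟩ := Ideal.exists_comap_eq_of_mem_minimalPrimes_of_injective (f := ψ.toRingHom) hinj ⊥
      (by rw [IsDomain.minimalPrimes_eq_singleton_bot]; rfl)
    haveI := hq
    let e := Fintype.equivFin κ
    let φ : MvPolynomial (Fin (Fintype.card κ)) K →ₐ[K] B ⧸ q :=
      (Ideal.Quotient.mkₐ K q).comp (ψ.comp (MvPolynomial.renameEquiv K e.symm).toAlgHom)
    have hφ : Function.Injective φ := by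
      rw [injective_iff_map_eq_zero]
      intro z hz
      have h1 : ψ (MvPolynomial.renameEquiv K e.symm z) ∈ q := Ideal.Quotient.eq_zero_iff_mem.1 hz
      have h2 : MvPolynomial.renameEquiv K e.symm z ∈ q.comap ψ.toRingHom := h1
      rw [hq0, Ideal.mem_bot] at h2
      exact (MvPolynomial.renameEquiv K e.symm).injective (h2.trans (map_zero _).symm)
    have h := ((IdealRedLib.card_le_ringKrullDim (D := B ⧸ q) φ hφ).trans
      (ringKrullDim_le_of_surjective (S := B ⧸ q) (Ideal.Quotient.mk q) Ideal.Quotient.mk_surjective)).trans hdim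
    have h' : Fintype.card κ ≤ d := by exact_mod_cast h
    omega
  rw [injective_iff_map_eq_zero] at hnot
  push Not at hnot
  obtain ⟨g, hg, hg0⟩ := hnot
  obtain ⟨⟨b, hb⟩, hbg⟩ := IsLocalization.exist_integer_multiples (nonZeroDivisors V) g.support fun m => g.coeff m
  choose! c hc using hbg
  let f : MvPolynomial κ V := ∑ m ∈ g.support, MvPolynomial.monomial m (c m)
  have hfg : MvPolynomial.map (algebraMap V K) f = MvPolynomial.C (algebraMap V K b) * g := by
    conv_rhs => rw [MvPolynomial.as_sum g, Finset.mul_sum]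
    simp only [f, map_sum, MvPolynomial.map_monomial, MvPolynomial.C_mul_monomial]
    refine Finset.sum_congr rfl fun m hm => ?_
    rw [hc m hm, Algebra.smul_def]
  have hb0 : algebraMap V K b ≠ 0 := fun h => nonZeroDivisors.ne_zero hb (IsFractionRing.injective V K (h.trans (map_zero _).symm))
  have hf : f ≠ 0 := fun h => by
    rw [h, map_zero] at hfg
    rcases mul_eq_zero.1 hfg.symm with h1 | h1
    · exact hb0 (MvPolynomial.C_injective _ _ (h1.trans (map_zero _).symm))
    · exact hg0 h1
  have hinjR : Function.Injective (Algebra.TensorProduct.includeRight : R →ₐ[V] B) :=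
    Algebra.TensorProduct.includeRight_injective (IsFractionRing.injective V K)
  have hfy : MvPolynomial.aeval y f = 0 := hinjR (by
    rw [map_zero]
    change (1 : K) ⊗ₜ[V] MvPolynomial.aeval y f = 0
    rw [← aeval_one_tmul, ← MvPolynomial.aeval_map_algebraMap K, hfg, map_mul]
    exact mul_eq_zero_of_right _ hg)
  -- remove the powers of the uniformizer
  obtain ⟨π, hπ⟩ := IsDiscreteValuationRing.exists_irreducible V
  have hfin : FiniteMultiplicity (MvPolynomial.C π : MvPolynomial κ V) f := by
    by_contra hh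
    obtain ⟨m, hm⟩ := MvPolynomial.ne_zero_iff.1 hf
    have h1 := FiniteMultiplicity.not_iff_forall.1 hh
    have h2 : ¬ FiniteMultiplicity π (f.coeff m) := by
      refine FiniteMultiplicity.not_iff_forall.2 fun n => ?_
      have := h1 n
      rw [← map_pow, MvPolynomial.C_dvd_iff_dvd_coeff] at this
      exact this m
    exact h2 (FiniteMultiplicity.of_not_isUnit hπ.not_isUnit hm)
  obtain ⟨f₁, hf₁, hf₁π⟩ := hfin.exists_eq_pow_mul_and_not_dvd
  refine ⟨f₁, ?_, ?_, ?_⟩
  · rw [hf₁, map_mul, map_pow, MvPolynomial.aeval_C, ← map_pow, ← Algebra.smul_def] at hfy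
    exact hinjR (by
      have h1 := congrArg (Algebra.TensorProduct.includeRight : R →ₐ[V] B) hfy
      rw [map_smul, map_zero, ← algebraMap_smul K] at h1
      rw [map_zero]
      exact (isUnit_iff_ne_zero.2 fun h => pow_ne_zero _ hπ.ne_zero
        (IsFractionRing.injective V K (h.trans (map_zero _).symm))).smul_eq_zero.1 h1)
  · intro h
    exact hf (by rw [hf₁, MvPolynomial.map_injective _ (IsFractionRing.injective V K) (h.trans (map_zero _).symm),
      mul_zero])
  · intro h
    refine hf₁π ((MvPolynomial.C_dvd_iff_dvd_coeff _ _).2 fun m => ?_)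
    have h1 := congrArg (MvPolynomial.coeff m) h
    rw [MvPolynomial.coeff_map, MvPolynomial.coeff_zero, IsLocalRing.ResidueField.algebraMap_eq,
      IsLocalRing.residue_eq_zero_iff, hπ.maximalIdeal_eq, Ideal.mem_span_singleton] at h1
    exact h1

/-- Normalisation by changes divisible by `p ^ M`. -/
theorem exists_normalisation [Algebra.FiniteType V R] (d : ℕ) (hdim : ringKrullDim (FractionRing V ⊗[V] R) ≤ d)
    (N : ℕ) (hN : 0 < N) (r : ℕ) (t : Fin r → R) (x : Fin d → R)
    (hk : FinFib (V := V) (IsLocalRing.ResidueField V) (Sum.elim x t))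
    (hK : FinFib (V := V) (FractionRing V) (Sum.elim x t)) :
    ∃ x'' : Fin d → R, (∀ i, ∃ ω, KaehlerDifferential.D V R (x'' i) - KaehlerDifferential.D V R (x i) = (N : R) • ω) ∧
      FinFib (V := V) (IsLocalRing.ResidueField V) x'' ∧ FinFib (V := V) (FractionRing V) x'' := by
  induction r generalizing x with
  | zero =>
    let σ : Fin d ≃ Fin d ⊕ Fin 0 := (Equiv.sumEmpty (Fin d) (Fin 0)).symm
    exact ⟨x, fun i => ⟨0, by simp⟩, hk.congr _ σ, hK.congr _ σ⟩
  | succ r ih =>
    let σ : Option (Fin d ⊕ Fin r) ≃ Fin d ⊕ Fin (r + 1) :=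
      { toFun := fun o => o.elim (Sum.inr 0) (Sum.map id Fin.succ)
        invFun := Sum.elim (fun i => some (Sum.inl i)) (Fin.cases none fun j => some (Sum.inr j))
        left_inv := fun o => by rcases o with _ | (i | j) <;> simp
        right_inv := fun o => by
          rcases o with i | j
          · simp
          · cases j using Fin.cases <;> simp }
    let y : Option (Fin d ⊕ Fin r) → R := Sum.elim x t ∘ σ
    obtain ⟨f, hf, hfK, hfk⟩ := exists_relation d hdim (κ := Option (Fin d ⊕ Fin r)) (by simp) y
    obtain ⟨e, he, hinj⟩ := exists_exponents (ι := Fin d ⊕ Fin r) N hN f.support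
    let z : Fin d ⊕ Fin r → R := fun i => y (some i) + y none ^ e i
    have hzk : FinFib (V := V) (IsLocalRing.ResidueField V) z := (hk.congr _ σ).step _ e (fun i => (he i).2) f hf hfk hinj
    have hzK : FinFib (V := V) (FractionRing V) z := (hK.congr _ σ).step _ e (fun i => (he i).2) f hf hfK hinj
    have hz : z = Sum.elim (z ∘ Sum.inl) (z ∘ Sum.inr) := (Sum.elim_comp_inl_inr z).symm
    obtain ⟨x'', hω, h1, h2⟩ := ih (z ∘ Sum.inr) (z ∘ Sum.inl) (hz ▸ hzk) (hz ▸ hzK)
    refine ⟨x'', fun i => ?_, h1, h2⟩
    obtain ⟨ω, hω⟩ := hω i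
    obtain ⟨c, hc⟩ := (he (Sum.inl i)).1
    refine ⟨ω + ((c : R) * t 0 ^ (e (Sum.inl i) - 1)) • KaehlerDifferential.D V R (t 0), ?_⟩
    rw [smul_add, ← hω, smul_smul, ← mul_assoc, ← Nat.cast_mul, ← hc]
    simp [z, y, σ, Derivation.leibniz_pow, mul_smul, Nat.cast_smul_eq_nsmul]
    abel

end

/-- Let V be a discrete valuation ring of characteristic zero with uniformizer ϖ, whose residue field k
is perfect of characteristic p > 0, with fraction field K; let R be a flat V-algebra of finite type
such that the generic fibre Spec(K ⊗_V R) → Spec K is smooth of relative dimension d; and suppose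
some d-tuple x' of elements of R defines a morphism f' from Spec R to affine d-space over V which is
η-étale, meaning that for some a ∈ R with (a) + (ϖ) = R the localisation R[1/(aϖ)] is étale over
V[T_1, …, T_d] via T_i ↦ x'_i (f' is étale on the generic fibre of an open neighbourhood of the
closed fibre). Then there is a d-tuple x in R whose morphism f is η-étale in the same sense and
finite on each fibre: k ⊗_V R is finite over k[T_1, …, T_d] and K ⊗_V R is finite over K[T_1, …,
T_d] via T_i ↦ 1 ⊗ x_i. -/
theorem result (V : Type u) [CommRing V] [IsDomain V] [IsDiscreteValuationRing V] [CharZero V]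
    (ϖ : V) (hϖ : Irreducible ϖ) (p : ℕ) [Fact p.Prime] [CharP (IsLocalRing.ResidueField V) p]
    [PerfectField (IsLocalRing.ResidueField V)]
    (R : Type u) [CommRing R] [Algebra V R] [Module.Flat V R] [Algebra.FiniteType V R] (d : ℕ)
    (hsm : SmoothOfRelativeDimension d
      (Spec.map (CommRingCat.ofHom (algebraMap (FractionRing V) (FractionRing V ⊗[V] R)))))
    (x' : Fin d → R) (hx' : (∃ a : R, Ideal.span {a} ⊔ Ideal.span {algebraMap V R ϖ} = ⊤ ∧
        ((algebraMap R (Localization.Away (a * algebraMap V R ϖ))).comp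
          (MvPolynomial.aeval x' : MvPolynomial (Fin d) V →ₐ[V] R).toRingHom).Etale)) :
    ∃ x : Fin d → R, (∃ a : R, Ideal.span {a} ⊔ Ideal.span {algebraMap V R ϖ} = ⊤ ∧
        ((algebraMap R (Localization.Away (a * algebraMap V R ϖ))).comp
          (MvPolynomial.aeval x : MvPolynomial (Fin d) V →ₐ[V] R).toRingHom).Etale) ∧
      (MvPolynomial.aeval (fun i => (1 : IsLocalRing.ResidueField V) ⊗ₜ[V] x i) :
          MvPolynomial (Fin d) (IsLocalRing.ResidueField V) →ₐ[IsLocalRing.ResidueField V]
            IsLocalRing.ResidueField V ⊗[V] R).toRingHom.Finite ∧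
      (MvPolynomial.aeval (fun i => (1 : FractionRing V) ⊗ₜ[V] x i) :
          MvPolynomial (Fin d) (FractionRing V) →ₐ[FractionRing V] FractionRing V ⊗[V] R).toRingHom.Finite := by
  classical
  obtain ⟨a, ha, het⟩ := hx'
  set L := Localization.Away (a * algebraMap V R ϖ)
  obtain ⟨r, Φ, hΦ⟩ := (Algebra.FiniteType.iff_quotient_mvPolynomial'' (R := V) (S := R)).1 inferInstance
  let t : Fin r → R := fun j => Φ (MvPolynomial.X j)
  have hΦt : Φ = MvPolynomial.aeval t := MvPolynomial.algHom_ext fun j => by simp [t]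
  have hdim : ringKrullDim (FractionRing V ⊗[V] R) ≤ d := by
    rw [← PrimeSpectrum.topologicalKrullDim_eq_ringKrullDim]
    haveI := hsm
    let q := Spec.map (CommRingCat.ofHom (algebraMap (FractionRing V) (FractionRing V ⊗[V] R)))
    haveI : Smooth q := SmoothOfRelativeDimension.smooth d q
    change topologicalKrullDim ↥(Spec (CommRingCat.of (FractionRing V ⊗[V] R))) ≤ _
    rw [S5792.result]
    refine iSup_le fun x => ?_
    rw [← CMChart.fibreDimAt_eq_localDim q x, LocalDimBC.fibreDimAt_of_smoothOfRelativeDimension d q x]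
  have hetL : (MvPolynomial.aeval (fun i => algebraMap R L (x' i)) : MvPolynomial (Fin d) V →ₐ[V] L).toRingHom.Etale := by
    rw [show (MvPolynomial.aeval (fun i => algebraMap R L (x' i)) : MvPolynomial (Fin d) V →ₐ[V] L).toRingHom =
      (algebraMap R L).comp (MvPolynomial.aeval x' : MvPolynomial (Fin d) V →ₐ[V] R).toRingHom from
        RingHom.ext fun q => MvPolynomial.aeval_algebraMap_apply L x' q]
    exact het
  obtain ⟨-, -, hb⟩ := EtaNoether.lin_bijective_of_etale _ hetL
  choose l hl using fun j => hb.2 (KaehlerDifferential.D V L (algebraMap R L (t j)))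
  obtain ⟨⟨_, s, rfl⟩, hs⟩ := IsLocalization.exist_integer_multiples (Submonoid.powers (a * algebraMap V R ϖ))
    (Finset.univ : Finset (Fin r × Fin d)) fun q => l q.1 q.2
  choose c₀ hc₀ using fun q => hs q (Finset.mem_univ q)
  have hclear : ∀ ω : Ω[R⁄V], ∃ c : Fin d → R, (algebraMap R L (a * algebraMap V R ϖ)) ^ s •
      KaehlerDifferential.map V V R L ω = ∑ i, algebraMap R L (c i) • KaehlerDifferential.D V L (algebraMap R L (x' i)) := by
    intro ω
    have hspan : ω ∈ Submodule.span R (Set.range fun j => KaehlerDifferential.D V R (t j)) := by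
      have hω : ω ∈ Submodule.span R (Set.range (KaehlerDifferential.D V R)) := by
        rw [KaehlerDifferential.span_range_derivation]; trivial
      refine Submodule.span_le.2 ?_ hω
      rintro _ ⟨b, rfl⟩
      obtain ⟨q, rfl⟩ := hΦ b
      rw [hΦt, SetLike.mem_coe]
      induction q using MvPolynomial.induction_on with
      | C v => simp
      | add q q' hq hq' => rw [map_add, map_add]; exact add_mem hq hq'
      | mul_X q j hq =>
        rw [map_mul, MvPolynomial.aeval_X, Derivation.leibniz]
        exact add_mem (Submodule.smul_mem _ _ (Submodule.subset_span ⟨j, rfl⟩)) (Submodule.smul_mem _ _ hq)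
    induction hspan using Submodule.span_induction with
    | mem ω hω =>
      obtain ⟨j, rfl⟩ := hω
      refine ⟨fun i => c₀ (j, i), ?_⟩
      rw [KaehlerDifferential.map_D, ← hl j, EtaNoether.lin, Fintype.linearCombination_apply, Finset.smul_sum]
      refine Finset.sum_congr rfl fun i _ => ?_
      rw [hc₀, smul_smul]
      congr 1
      rw [Algebra.smul_def, map_pow]
    | zero => exact ⟨0, by simp⟩
    | add ω ω' _ _ hω hω' =>
      obtain ⟨c, hc⟩ := hω
      obtain ⟨c', hc'⟩ := hω'
      exact ⟨c + c', by rw [map_add, smul_add, hc, hc']; simp [add_smul, Finset.sum_add_distrib]⟩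
    | smul b ω _ hω =>
      obtain ⟨c, hc⟩ := hω
      refine ⟨fun i => b * c i, ?_⟩
      rw [map_smul, ← algebraMap_smul L b, smul_comm, hc, Finset.smul_sum]
      exact Finset.sum_congr rfl fun i _ => by rw [smul_smul, map_mul]
  have hp0 : 0 < p ^ (s + 1) := pow_pos (Fact.out : p.Prime).pos _
  have hsurj : Function.Surjective (MvPolynomial.aeval (Sum.elim x' t) : MvPolynomial (Fin d ⊕ Fin r) V →ₐ[V] R) := by
    intro y
    obtain ⟨q, rfl⟩ := hΦ y
    exact ⟨MvPolynomial.rename Sum.inr q, by rw [MvPolynomial.aeval_rename, hΦt, Sum.elim_comp_inr]⟩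
  obtain ⟨x, hω, hfk, hfK⟩ := exists_normalisation (V := V) (R := R) d hdim (p ^ (s + 1)) hp0 r t x'
    (EtaNoether.finFib_of_surjective _ _ hsurj) (EtaNoether.finFib_of_surjective _ _ hsurj)
  refine ⟨x, ?_, hfk, hfK⟩
  choose ω hω using hω
  choose C hC using fun i => hclear (ω i)
  obtain ⟨v, hv⟩ : ∃ v, v * ϖ = (p : V) := by
    rw [← Ideal.mem_span_singleton', ← hϖ.maximalIdeal_eq, ← IsLocalRing.residue_eq_zero_iff, map_natCast]
    exact CharP.cast_eq_zero _ p
  let π := algebraMap V R ϖ
  let N : Matrix (Fin d) (Fin d) R := a ^ s • (1 : Matrix (Fin d) (Fin d) R) +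
    Matrix.of fun i i' => algebraMap V R v ^ (s + 1) * π * C i i'
  have hπ : Ideal.span {a * N.det} ⊔ Ideal.span {π} = ⊤ := by
    let q := Ideal.Quotient.mk (Ideal.span {π})
    have hqπ : q π = 0 := Ideal.Quotient.eq_zero_iff_mem.2 (Ideal.mem_span_singleton_self _)
    have hua : IsUnit (q a) := by
      obtain ⟨x₁, hx₁, x₂, hx₂, h12⟩ := Submodule.mem_sup.1 ((Ideal.eq_top_iff_one _).1 ha)
      obtain ⟨m, rfl⟩ := Ideal.mem_span_singleton'.1 hx₁
      refine isUnit_iff_exists_inv'.2 ⟨q m, ?_⟩
      rw [← map_mul, ← map_one q, ← h12, map_add, Ideal.Quotient.eq_zero_iff_mem.2 hx₂, add_zero]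
    have hdet : q N.det = (q a ^ s) ^ d := by
      rw [RingHom.map_det, show q.mapMatrix N = q a ^ s • (1 : Matrix (Fin d) (Fin d) _) by
        ext i i'
        simp [N, Matrix.one_apply, hqπ, apply_ite q]]
      simp [Matrix.det_smul]
    obtain ⟨w, hw⟩ := (show IsUnit (q (a * N.det)) by
      rw [map_mul, hdet]; exact hua.mul ((hua.pow s).pow d)).exists_right_inv
    obtain ⟨w, rfl⟩ := Ideal.Quotient.mk_surjective w
    rw [← map_mul, ← map_one q, Ideal.Quotient.eq] at hw
    refine (Ideal.eq_top_iff_one _).2 ?_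
    have h1 := sub_mem (Ideal.mem_sup_left (T := Ideal.span {π})
      (Ideal.mul_mem_right w _ (Ideal.mem_span_singleton_self (a * N.det)))) (Ideal.mem_sup_right hw)
    rwa [sub_sub_cancel] at h1
  refine ⟨a * N.det, hπ, ?_⟩
  set L₃ := Localization.Away (algebraMap R L N.det)
  haveI : IsLocalization.Away (a * N.det * algebraMap V R ϖ) L₃ := by
    rw [show a * N.det * algebraMap V R ϖ = a * algebraMap V R ϖ * N.det by ring]
    exact IsLocalization.Away.mul' L L₃ _ _
  haveI : IsScalarTower V L L₃ := inferInstance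
  have hu : IsUnit (algebraMap R L₃ a) := by
    rw [IsScalarTower.algebraMap_apply R L L₃]
    refine (isUnit_of_dvd_unit (map_dvd (algebraMap R L) (dvd_mul_right a (algebraMap V R ϖ)))
      (IsLocalization.Away.algebraMap_isUnit _)).map _
  obtain ⟨u, hu⟩ := hu
  have het₃ : (MvPolynomial.aeval (fun i => algebraMap R L₃ (x' i)) : MvPolynomial (Fin d) V →ₐ[V] L₃).toRingHom.Etale := by
    haveI : Algebra.Etale L L₃ := Algebra.Etale.of_isLocalizationAway (algebraMap R L N.det)
    rw [show (MvPolynomial.aeval (fun i => algebraMap R L₃ (x' i)) : MvPolynomial (Fin d) V →ₐ[V] L₃).toRingHom =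
        (algebraMap L L₃).comp
          (MvPolynomial.aeval (fun i => algebraMap R L (x' i)) : MvPolynomial (Fin d) V →ₐ[V] L).toRingHom from
      RingHom.ext fun q => by
        simp only [AlgHom.toRingHom_eq_coe, RingHom.comp_apply, RingHom.coe_coe,
          IsScalarTower.algebraMap_apply R L L₃]
        exact MvPolynomial.aeval_algebraMap_apply L₃ _ q]
    exact RingHom.Etale.stableUnderComposition _ _ hetL (RingHom.etale_algebraMap.2 inferInstance)
  have heq : ∀ i, algebraMap R L₃ a ^ s • KaehlerDifferential.D V L₃ (algebraMap R L₃ (x i)) =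
      ∑ i', algebraMap R L₃ (N i i') • KaehlerDifferential.D V L₃ (algebraMap R L₃ (x' i')) := by
    intro i
    have h1 := congrArg (KaehlerDifferential.map V V R L) (hω i)
    rw [map_sub, KaehlerDifferential.map_D, KaehlerDifferential.map_D, map_smul, sub_eq_iff_eq_add] at h1
    have h2 : algebraMap R L a ^ s • KaehlerDifferential.D V L (algebraMap R L (x i)) =
        ∑ i', algebraMap R L (N i i') • KaehlerDifferential.D V L (algebraMap R L (x' i')) := by
      rw [h1, smul_add, ← algebraMap_smul L ((p ^ (s + 1) : ℕ) : R), smul_smul,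
        show algebraMap R L a ^ s * algebraMap R L ((p ^ (s + 1) : ℕ) : R) =
          algebraMap R L (algebraMap V R v ^ (s + 1) * π) * algebraMap R L (a * algebraMap V R ϖ) ^ s by
          rw [Nat.cast_pow, ← map_natCast (algebraMap V R), ← hv]
          simp only [map_mul, map_pow, π]
          ring,
        mul_smul, hC i, Finset.smul_sum]
      simp [N, Matrix.one_apply, apply_ite (algebraMap R L), add_smul, Finset.sum_add_distrib, smul_smul,
        mul_assoc, ite_smul, add_comm, -algebraMap_smul]
    have h3 := congrArg (KaehlerDifferential.map V V L L₃) h2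
    simp only [map_smul, map_sum, KaehlerDifferential.map_D, ← IsScalarTower.algebraMap_apply R L L₃] at h3
    rw [← algebraMap_smul L₃ (algebraMap R L a ^ s), map_pow, ← IsScalarTower.algebraMap_apply] at h3
    refine h3.trans (Finset.sum_congr rfl fun i' _ => ?_)
    rw [← algebraMap_smul L₃ (algebraMap R L (N i i')), ← IsScalarTower.algebraMap_apply]
  have hfin := EtaNoether.etale_of_det_unit (fun i => algebraMap R L₃ (x' i)) (fun i => algebraMap R L₃ (x i)) het₃
    (N.map (algebraMap R L₃)) (by
      rw [← RingHom.mapMatrix_apply, ← RingHom.map_det, IsScalarTower.algebraMap_apply R L L₃]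
      exact IsLocalization.Away.algebraMap_isUnit _)
    ((show IsUnit (algebraMap R L₃ a) from hu ▸ u.isUnit).pow s) heq
  let e : L₃ ≃ₐ[R] Localization.Away (a * N.det * algebraMap V R ϖ) :=
    IsLocalization.algEquiv (Submonoid.powers (a * N.det * algebraMap V R ϖ)) _ _
  rw [show (algebraMap R (Localization.Away (a * N.det * algebraMap V R ϖ))).comp
      (MvPolynomial.aeval x : MvPolynomial (Fin d) V →ₐ[V] R).toRingHom =
      e.toRingEquiv.toRingHom.comp
        (MvPolynomial.aeval (fun i => algebraMap R L₃ (x i)) : MvPolynomial (Fin d) V →ₐ[V] L₃).toRingHom from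
    RingHom.ext fun q => by
      simp only [RingHom.comp_apply, AlgHom.toRingHom_eq_coe, RingHom.coe_coe]
      exact ((congrArg e (MvPolynomial.aeval_algebraMap_apply L₃ x q)).trans (e.commutes _)).symm]
  exact RingHom.Etale.respectsIso.1 _ e.toRingEquiv hfin

end Groth.Agent.S14385
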