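import Groth.Statements.S14386
import Groth.Agent.NodeEtale.Basic
-- import your own Groth.Agent.* helpers here

set_option autoImplicit false
universe u
open CAlg

namespace Groth.Agent.S14386

open MvPolynomial IsLocalRing

variable (V : Type u) [CommRing V] (ϖ : V)

/-- The node. -/
abbrev Q : Type u :=
  MvPolynomial (Fin 2) V ⧸ Ideal.span {(MvPolynomial.X 0 * MvPolynomial.X 1 - MvPolynomial.C ϖ : MvPolynomial (Fin 2) V)}

variable {V ϖ} (h : Q V ϖ)

/-- The coordinates on the neighbourhood. -/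
noncomputable abbrev z (i : Fin 2) : Localization.Away h :=
  algebraMap (Q V ϖ) (Localization.Away h) (Ideal.Quotient.mk _ (MvPolynomial.X i))

theorem aeval_z (p : MvPolynomial (Fin 2) V) :
    aeval (z h) p = algebraMap (Q V ϖ) (Localization.Away h) (Ideal.Quotient.mk _ p) := by
  have : (aeval (z h) : MvPolynomial (Fin 2) V →ₐ[V] Localization.Away h) =
      (IsScalarTower.toAlgHom V (Q V ϖ) (Localization.Away h)).comp (Ideal.Quotient.mkₐ V _) :=
    MvPolynomial.algHom_ext fun i => by simp [z]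
  exact AlgHom.congr_fun this p

theorem z_mul : z h 0 * z h 1 = algebraMap V (Localization.Away h) ϖ := by
  rw [← map_mul, ← map_mul, IsScalarTower.algebraMap_apply V (Q V ϖ) (Localization.Away h),
    ← Ideal.Quotient.mk_algebraMap]
  exact congrArg _ (Ideal.Quotient.eq.2 (Ideal.mem_span_singleton_self _))

/-- Homomorphisms out of the neighbourhood. -/
theorem exists_lift {T : Type u} [CommRing T] [Algebra V T] (a : Fin 2 → T)
    (hrel : a 0 * a 1 = algebraMap V T ϖ) (h₀ : MvPolynomial (Fin 2) V) (hh₀ : Ideal.Quotient.mk _ h₀ = h)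
    (hu : IsUnit (aeval a h₀)) : ∃ g : Localization.Away h →ₐ[V] T, ∀ i, g (z h i) = a i := by
  let q : Q V ϖ →ₐ[V] T := Ideal.Quotient.liftₐ _ (aeval a) fun x hx => by
    obtain ⟨c, rfl⟩ := Ideal.mem_span_singleton'.1 hx
    simp [hrel]
  refine ⟨IsLocalization.liftAlgHom (M := Submonoid.powers h) (S := Localization.Away h) (f := q) ?_, fun i => ?_⟩
  · rintro ⟨_, n, rfl⟩
    rw [map_pow]
    refine IsUnit.pow n ?_
    rwa [← hh₀]
  · simp [z, IsLocalization.liftAlgHom, q]

theorem exists_derivation (h₀ : MvPolynomial (Fin 2) V) (hh₀ : Ideal.Quotient.mk _ h₀ = h) :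
    ∃ D : Derivation V (Localization.Away h) (Localization.Away h), D (z h 0) = z h 0 ∧ D (z h 1) = -z h 1 := by
  let a : Fin 2 → DualNumber (Localization.Away h) :=
    ![TrivSqZeroExt.inl (z h 0) + TrivSqZeroExt.inr (z h 0), TrivSqZeroExt.inl (z h 1) + TrivSqZeroExt.inr (-z h 1)]
  let fst : DualNumber (Localization.Away h) →ₐ[V] Localization.Away h :=
    TrivSqZeroExt.fstHom V (Localization.Away h) (Localization.Away h)
  have hfa : (fun i => fst (a i)) = z h := by
    funext i
    fin_cases i <;> simp [a, fst]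
  have hrel : a 0 * a 1 = algebraMap V (DualNumber (Localization.Away h)) ϖ := by
    rw [TrivSqZeroExt.algebraMap_eq_inl']
    refine TrivSqZeroExt.ext ?_ ?_
    · simp [a, z_mul]
    · simp [a, -algebraMap_smul]
  have hu : IsUnit (aeval a h₀) := by
    refine TrivSqZeroExt.isUnit_iff_isUnit_fst.2 ?_
    change IsUnit (fst (aeval a h₀))
    rw [← AlgHom.comp_apply, comp_aeval, hfa, aeval_z, hh₀]
    exact IsLocalization.Away.algebraMap_isUnit h
  obtain ⟨g, hg⟩ := exists_lift h a hrel h₀ hh₀ hu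
  have hfg : fst.comp g = AlgHom.id V _ := by
    refine AlgHom.coe_ringHom_injective (IsLocalization.ringHom_ext (Submonoid.powers h) ?_)
    refine Ideal.Quotient.ringHom_ext (MvPolynomial.ringHom_ext (fun v => ?_) fun i => ?_)
    · change fst (g (algebraMap (Q V ϖ) _ (algebraMap V (Q V ϖ) v))) = algebraMap (Q V ϖ) _ (algebraMap V (Q V ϖ) v)
      rw [← IsScalarTower.algebraMap_apply, g.commutes, fst.commutes]
    · change fst (g (z h i)) = z h i
      rw [hg]
      exact congrFun hfa i
  refine ⟨Derivation.mk' ((TrivSqZeroExt.sndHom (Localization.Away h) (Localization.Away h)).restrictScalars V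
    ∘ₗ g.toLinearMap) fun x y => ?_, ?_, ?_⟩
  · have hx : (g x).fst = x := AlgHom.congr_fun hfg x
    have hy : (g y).fst = y := AlgHom.congr_fun hfg y
    simp [hx, hy, mul_comm]
  · change TrivSqZeroExt.snd (g (z h 0)) = _
    rw [hg]
    simp [a, -algebraMap_smul]
  · change TrivSqZeroExt.snd (g (z h 1)) = _
    rw [hg]
    simp [a, -algebraMap_smul]

variable [IsLocalRing V]

theorem h₀_const (hm : maximalIdeal V = Ideal.span {ϖ})
    (hh : h ∉ Ideal.span ({Ideal.Quotient.mk _ (MvPolynomial.X 0), Ideal.Quotient.mk _ (MvPolynomial.X 1)} : Set (Q V ϖ)))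
    {h₀ : MvPolynomial (Fin 2) V} (hh₀ : Ideal.Quotient.mk _ h₀ = h) : constantCoeff h₀ ∉ maximalIdeal V := by
  intro hc
  rw [hm, Ideal.mem_span_singleton'] at hc
  obtain ⟨c, hc⟩ := hc
  apply hh
  set J := Ideal.span ({Ideal.Quotient.mk _ (MvPolynomial.X 0), Ideal.Quotient.mk _ (MvPolynomial.X 1)} : Set (Q V ϖ))
  have key : ((Ideal.Quotient.mk J).comp (Ideal.Quotient.mk _)) =
      ((Ideal.Quotient.mk J).comp (algebraMap V (Q V ϖ))).comp (constantCoeff : MvPolynomial (Fin 2) V →+* V) := by
    refine MvPolynomial.ringHom_ext (fun v => by simp only [RingHom.comp_apply, constantCoeff_C]; rfl) fun i => ?_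
    simp only [RingHom.comp_apply, constantCoeff_X, map_zero, Ideal.Quotient.eq_zero_iff_mem]
    fin_cases i <;> exact Ideal.subset_span (by simp)
  have hk := RingHom.congr_fun key h₀
  simp only [RingHom.comp_apply, hh₀] at hk
  rw [← Ideal.Quotient.eq_zero_iff_mem, hk, ← hc, Ideal.Quotient.eq_zero_iff_mem, map_mul]
  refine Ideal.mul_mem_left _ _ ?_
  rw [show algebraMap V (Q V ϖ) ϖ = Ideal.Quotient.mk _ (MvPolynomial.X 0) * Ideal.Quotient.mk _ (MvPolynomial.X 1) by
    rw [← map_mul, ← Ideal.Quotient.mk_algebraMap]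
    exact (Ideal.Quotient.eq.2 (Ideal.mem_span_singleton_self _)).symm]
  exact Ideal.mul_mem_left _ _ (Ideal.subset_span (by simp))

theorem exists_branch (hm : maximalIdeal V = Ideal.span {ϖ}) (h₀ : MvPolynomial (Fin 2) V)
    (hh₀ : Ideal.Quotient.mk _ h₀ = h) (hc : constantCoeff h₀ ∉ maximalIdeal V)
    (D : Derivation V (Localization.Away h) (Localization.Away h)) (i j : Fin 2)
    (hσ : ∀ n, ![i, j] (![i, j] n) = n) (hrel : z h i * z h j = algebraMap V (Localization.Away h) ϖ)
    (hDi : D (z h i) = z h i) (hDj : D (z h j) = -z h j) :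
    ∃ S : NodeEtale.Branch V (Localization.Away h), S.X = z h i ∧ S.Y = z h j ∧ S.D = D := by
  have hinv : ∀ p, aeval ![z h i, z h j] (rename ![i, j] p) = aeval (z h) p := fun p => by
    refine (MvPolynomial.aeval_rename (R := V) (k := ![i, j]) ..).trans ?_
    congr 2
    funext n
    have h1 := hσ n
    simp only [Function.comp_apply]
    conv_rhs => rw [← h1]
    generalize ![i, j] n = m
    fin_cases m <;> rfl
  have hres : ∀ (T : Type u) [Field T] [Algebra V T] (a : Fin 2 → T), a 0 * a 1 = algebraMap V T ϖ →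
      aeval a h₀ ≠ 0 → ∃ g : Localization.Away h →ₐ[V] T, ∀ n, g (z h n) = a n :=
    fun T _ _ a hrel hne => exists_lift h a hrel h₀ hh₀ (isUnit_iff_ne_zero.2 hne)
  have hcont : ∀ (T : Type u) [CommRing T] [Algebra V T] (a : Fin 2 → T) (ev : T →+* ResidueField V),
      (∀ v, ev (algebraMap V T v) = residue V v) → (∀ n, ev (a n) = 0) → aeval a h₀ ≠ 0 := by
    intro T _ _ a ev hev hev0 h0
    apply hc
    have key : ev.comp (aeval a : MvPolynomial (Fin 2) V →ₐ[V] T).toRingHom = (residue V).comp constantCoeff :=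
      MvPolynomial.ringHom_ext (fun v => by simp [hev]) fun n => by simp [hev0]
    rw [← residue_eq_zero_iff]
    exact (RingHom.congr_fun key h₀).symm.trans ((congrArg ev h0).trans (map_zero ev))
  have hϖ0 : residue V ϖ = 0 := (residue_eq_zero_iff ϖ).2 (hm ▸ Ideal.mem_span_singleton_self ϖ)
  set K := FractionRing (Polynomial (ResidueField V))
  have hK : ∀ v : V, algebraMap V K v = algebraMap (Polynomial (ResidueField V)) K (Polynomial.C (residue V v)) :=
    fun v => by rw [IsScalarTower.algebraMap_apply V (Polynomial (ResidueField V)) K]; rfl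
  let t : K := algebraMap _ K (Polynomial.X : Polynomial (ResidueField V))
  have hne : aeval (fun n => if n = j then t else 0) h₀ ≠ 0 := by
    have h1 := hcont (Polynomial (ResidueField V)) (fun n => if n = j then Polynomial.X else 0)
      Polynomial.constantCoeff (fun v => by simp) (fun n => by split <;> simp)
    have h2 : (IsScalarTower.toAlgHom V (Polynomial (ResidueField V)) K).comp
        (aeval fun n => if n = j then Polynomial.X else 0) = aeval fun n => if n = j then t else 0 :=
      MvPolynomial.algHom_ext fun n => by simp [t, apply_ite (algebraMap (Polynomial (ResidueField V)) K)]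
    rw [← AlgHom.congr_fun h2 h₀]
    exact fun h0 => h1 (IsFractionRing.injective _ K (h0.trans (map_zero _).symm))
  have hij : i ≠ j := fun e => by
    subst e
    have h01 := (hσ 0).trans (show (0 : Fin 2) = 0 from rfl)
    have h11 := hσ 1
    fin_cases i <;> simp_all
  obtain ⟨Φ, hΦ⟩ := hres K (fun n => if n = j then t else 0) (by
    have hz : algebraMap V K ϖ = 0 := by simp [hK, hϖ0]
    rw [hz]
    fin_cases j <;> simp) hne
  obtain ⟨Ψ, hΨ⟩ := hres (ResidueField V) 0 (by
    rw [Pi.zero_apply, zero_mul, ResidueField.algebraMap_eq, hϖ0]) (hcont _ 0 (RingHom.id _) (fun _ => rfl) fun _ => rfl)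
  refine ⟨{
      ϖ := ϖ, X := z h i, Y := z h j, rel := hrel, maxIdeal := hm
      h₀ := rename ![i, j] h₀
      h₀_const := by rwa [constantCoeff_rename]
      h₀_unit := by rw [hinv, aeval_z, hh₀]; exact IsLocalization.Away.algebraMap_isUnit h
      gen := fun b => ?_
      D := D, DX := hDi, DY := hDj
      Φ := Φ, ΦX := (hΦ i).trans (if_neg hij), ΦY := (hΦ j).trans (if_pos rfl), ΦC := fun v => (Φ.commutes v).trans (hK v)
      Ψ := Ψ, ΨX := hΨ i, ΨY := hΨ j, ΨC := fun v => Ψ.commutes v }, rfl, rfl, rfl⟩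
  obtain ⟨⟨a, ⟨_, n, rfl⟩⟩, hb⟩ := IsLocalization.surj (Submonoid.powers h) b
  obtain ⟨p, rfl⟩ := Ideal.Quotient.mk_surjective a
  refine ⟨rename ![i, j] p, n, ?_⟩
  rw [hinv, hinv, aeval_z, aeval_z, hh₀, ← map_pow]
  exact hb

theorem isSMulRegular_z [IsDomain V] (hϖ0 : ϖ ≠ 0) (i : Fin 2) : IsSMulRegular (Localization.Away h) (z h i) := by
  refine (show IsSMulRegular (Q V ϖ) (Ideal.Quotient.mk _ (MvPolynomial.X i) : Q V ϖ) from ?_).of_flat_of_isBaseChange
    (IsBaseChange.linearMap (Q V ϖ) (Localization.Away h))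
  rw [isSMulRegular_iff_right_eq_zero_of_smul]
  intro a ha
  obtain ⟨p, rfl⟩ := Ideal.Quotient.mk_surjective a
  rw [smul_eq_mul, ← map_mul, Ideal.Quotient.eq_zero_iff_mem, Ideal.mem_span_singleton'] at ha
  obtain ⟨s, hs⟩ := ha
  let π : MvPolynomial (Fin 2) V →ₐ[V] MvPolynomial (Fin 2) V :=
    aeval fun n => if n = i then 0 else MvPolynomial.X n
  have hπ : π s = 0 := by
    have h1 := congrArg π hs
    have h2 : π (MvPolynomial.X 0 * MvPolynomial.X 1) = 0 := by fin_cases i <;> simp [π]
    rw [map_mul, map_sub, h2, map_mul, show π (MvPolynomial.X i) = 0 by simp [π], zero_mul] at h1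
    refine (mul_eq_zero.1 h1).resolve_right ?_
    simpa [π] using hϖ0
  have h3 : s ∈ Ideal.span {(MvPolynomial.X i : MvPolynomial (Fin 2) V)} := by
    have h4 : (Ideal.Quotient.mkₐ V (Ideal.span {(MvPolynomial.X i : MvPolynomial (Fin 2) V)})).comp π =
        Ideal.Quotient.mkₐ V _ := MvPolynomial.algHom_ext fun n => by
      simp only [AlgHom.comp_apply, π, aeval_X]
      split_ifs with e
      · subst e
        rw [map_zero, Ideal.Quotient.mkₐ_eq_mk]
        exact (Ideal.Quotient.eq_zero_iff_mem.2 (Ideal.mem_span_singleton_self _)).symm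
      · rfl
    rw [← Ideal.Quotient.eq_zero_iff_mem, ← Ideal.Quotient.mkₐ_eq_mk V, ← AlgHom.congr_fun h4 s, AlgHom.comp_apply,
      hπ, map_zero]
  obtain ⟨c, rfl⟩ := Ideal.mem_span_singleton'.1 h3
  rw [Ideal.Quotient.eq_zero_iff_mem]
  exact Ideal.mem_span_singleton'.2 ⟨c, mul_left_cancel₀ (MvPolynomial.X_ne_zero i) (by linear_combination hs)⟩

/-- Let V be a discrete valuation ring of characteristic zero with uniformizer ϖ and perfect residue
field k, let Q = V[x, y]/(xy − ϖ) be the coordinate ring of the standard semistable node over V and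
P its closed point x = y = 0 of the closed fibre, let h ∈ Q with h ∉ (x, y), so that B = Q[1/h] is
the ring of an open neighbourhood of P, and let f ∈ B define a morphism to the affine line over V
which is étale on the generic fibre: B[1/ϖ] is étale over V[T] via T ↦ f. Then df vanishes
identically on one of the two components x = 0, y = 0 of the closed fibre of Spec B: the
differential of the image of f in Ω_{(B/xB)/V} is zero or the differential of the image of f in
Ω_{(B/yB)/V} is zero. If moreover k has characteristic zero, then f contracts that component and the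
morphism is not quasi-finite: V[T] → B, T ↦ f, is not a quasi-finite ring map. -/
theorem result (V : Type u) [CommRing V] [IsDomain V] [IsDiscreteValuationRing V] [CharZero V]
    [PerfectField (IsLocalRing.ResidueField V)] (ϖ : V) (hϖ : Irreducible ϖ)
    (h : (MvPolynomial (Fin 2) V ⧸ Ideal.span {(MvPolynomial.X 0 * MvPolynomial.X 1 - MvPolynomial.C ϖ : MvPolynomial (Fin 2) V)}))
    (hh : h ∉ Ideal.span ({(Ideal.Quotient.mk (Ideal.span {(MvPolynomial.X 0 * MvPolynomial.X 1 - MvPolynomial.C ϖ : MvPolynomial (Fin 2) V)}) (MvPolynomial.X 0 : MvPolynomial (Fin 2) V)), (Ideal.Quotient.mk (Ideal.span {(MvPolynomial.X 0 * MvPolynomial.X 1 - MvPolynomial.C ϖ : MvPolynomial (Fin 2) V)}) (MvPolynomial.X 1 : MvPolynomial (Fin 2) V))} : Set (MvPolynomial (Fin 2) V ⧸ Ideal.span {(MvPolynomial.X 0 * MvPolynomial.X 1 - MvPolynomial.C ϖ : MvPolynomial (Fin 2) V)})))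
    (f : Localization.Away h)
    (hf : ((algebraMap (Localization.Away h)
        (Localization.Away (algebraMap V (Localization.Away h) ϖ))).comp
          (Polynomial.aeval f : Polynomial V →ₐ[V] Localization.Away h).toRingHom).Etale) :
    (KaehlerDifferential.D V (Localization.Away h ⧸ Ideal.span
        ({algebraMap (MvPolynomial (Fin 2) V ⧸ Ideal.span {(MvPolynomial.X 0 * MvPolynomial.X 1 - MvPolynomial.C ϖ : MvPolynomial (Fin 2) V)}) (Localization.Away h) (Ideal.Quotient.mk (Ideal.span {(MvPolynomial.X 0 * MvPolynomial.X 1 - MvPolynomial.C ϖ : MvPolynomial (Fin 2) V)}) (MvPolynomial.X 0 : MvPolynomial (Fin 2) V))} : Set (Localization.Away h)))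
        (Ideal.Quotient.mk _ f) = 0 ∨
     KaehlerDifferential.D V (Localization.Away h ⧸ Ideal.span
        ({algebraMap (MvPolynomial (Fin 2) V ⧸ Ideal.span {(MvPolynomial.X 0 * MvPolynomial.X 1 - MvPolynomial.C ϖ : MvPolynomial (Fin 2) V)}) (Localization.Away h) (Ideal.Quotient.mk (Ideal.span {(MvPolynomial.X 0 * MvPolynomial.X 1 - MvPolynomial.C ϖ : MvPolynomial (Fin 2) V)}) (MvPolynomial.X 1 : MvPolynomial (Fin 2) V))} : Set (Localization.Away h)))
        (Ideal.Quotient.mk _ f) = 0) ∧
    (CharZero (IsLocalRing.ResidueField V) →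
      ¬ (Polynomial.aeval f : Polynomial V →ₐ[V] Localization.Away h).toRingHom.QuasiFinite) := by
  have hm : IsLocalRing.maximalIdeal V = Ideal.span {ϖ} := hϖ.maximalIdeal_eq
  obtain ⟨h₀, hh₀⟩ := Ideal.Quotient.mk_surjective h
  have hc := h₀_const h hm hh hh₀
  obtain ⟨D, hD0, hD1⟩ := exists_derivation h h₀ hh₀
  obtain ⟨S, hSX, hSY, hSD⟩ := exists_branch h hm h₀ hh₀ hc D 0 1 (by decide) (z_mul h) hD0 hD1
  obtain ⟨T, hTX, hTY, hTD⟩ := exists_branch h hm h₀ hh₀ hc (-D) 1 0 (by decide)
    ((mul_comm _ _).trans (z_mul h)) (by simp [hD1]) (by simp [hD0])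
  obtain ⟨c, N, hcN⟩ := NodeEtale.exists_mul_eq_pow ϖ D (z h 0) hD0 (Dvd.intro _ (z_mul h)) f hf
  have hunit : ¬ IsUnit (D f) := fun hu => by
    have h1 := (hu.map S.Ψ).ne_zero
    exact h1 (hSD ▸ S.D_mem_ker f)
  have hp : ∀ (R : NodeEtale.Branch V (Localization.Away h)) x y, x * y ∈ Ideal.span {R.X} →
      x ∈ Ideal.span {R.X} ∨ y ∈ Ideal.span {R.X} := fun R x y hxy => by
    rw [R.mem_span_iff, map_mul, mul_eq_zero] at hxy
    rwa [R.mem_span_iff, R.mem_span_iff]
  rcases NodeEtale.mem_or_mem (isSMulRegular_z h hϖ.ne_zero 0) (isSMulRegular_z h hϖ.ne_zero 1)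
    (hSX ▸ hp S) (hTX ▸ hp T) (hcN.trans (by rw [z_mul])) hunit with h1 | h1
  · have h1' : S.D f ∈ Ideal.span {S.X} := by rw [hSX, hSD]; exact h1
    refine ⟨Or.inl ?_, fun _ => S.not_quasiFinite h1'⟩
    have h2 := S.d_eq_zero h1'
    generalize S.X = x at h2 hSX
    subst hSX
    exact h2
  · have h1' : T.D f ∈ Ideal.span {T.X} := by rw [hTX, hTD]; simpa using h1
    refine ⟨Or.inr ?_, fun _ => T.not_quasiFinite h1'⟩
    have h2 := T.d_eq_zero h1'
    generalize T.X = x at h2 hTX
    subst hTX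
    exact h2

end Groth.Agent.S14386
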