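import Groth.Statements.S1439
import Groth.Agent.Weighting.AICDomain
import Groth.Agent.S1428

set_option autoImplicit false
set_option linter.style.haveILetI false
set_option backward.isDefEq.respectTransparency false
universe u
open FlatMor

namespace Groth.Agent.S1439

open AlgebraicGeometry CategoryTheory Limits

/-- One stratum: a level set of the fibre integral. -/
theorem exists_stratum {X Y : Scheme.{u}} (f : X ⟶ Y) [Surjective f] [LocallyQuasiFinite f]
    [LocallyOfFiniteType f] [QuasiCompact f] [IsAffine X] [Y.IsSeparated] (w : ↑X → ℤ)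
    (hw : MoreMor.IsWeighting f w) (hpos : ∀ x, 0 < w x) (v : ℤ) (hv : ∃ y, MoreMor.fibreIntegral f w y = v) :
    ∃ (Z : Scheme.{u}) (ι : Z ⟶ Y), IsImmersion ι ∧ IsAffine Z ∧
      IsAffineHom ι ∧ Set.range ι = {y | MoreMor.fibreIntegral f w y = v} := by
  have hfin : ∀ y : Y, (f ⁻¹' {y}).Finite := fun y => f.finite_preimage_singleton y
  haveI : IsSeparated f := by
    haveI : IsSeparated (f ≫ terminal.from Y) := inferInstance
    exact IsSeparated.of_comp f (terminal.from Y)
  have hcl : IsClosed {y | MoreMor.fibreIntegral f w y ≤ v} :=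
    (Weighting.lowerSemicontinuous_fibreIntegral hfin hw hpos).isClosed_preimage v
  let I := Scheme.IdealSheafData.vanishingIdeal (X := Y) ⟨_, hcl⟩
  let ι₀ := I.subschemeι
  have hr : Set.range ι₀ = {y | MoreMor.fibreIntegral f w y ≤ v} := by
    rw [I.range_subschemeι]; exact Scheme.IdealSheafData.coe_support_vanishingIdeal _
  haveI : IsSeparated (terminal.from I.subscheme) := by
    rw [terminal.hom_ext (terminal.from I.subscheme) (ι₀ ≫ terminal.from Y)]; infer_instance
  let f₀ := pullback.snd f ι₀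
  have hsq := IsPullback.of_hasPullback f ι₀
  haveI : Surjective f₀ := MorphismProperty.pullback_snd _ _ inferInstance
  haveI : LocallyQuasiFinite f₀ := MorphismProperty.pullback_snd _ _ inferInstance
  haveI : LocallyOfFiniteType f₀ := MorphismProperty.pullback_snd _ _ inferInstance
  haveI : QuasiCompact f₀ := MorphismProperty.pullback_snd _ _ inferInstance
  haveI : IsClosedImmersion (pullback.fst f ι₀) := MorphismProperty.pullback_fst _ _ inferInstance
  haveI : IsAffine (pullback f ι₀) := isAffine_of_isAffineHom (pullback.fst f ι₀)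
  let w₀ : ↑(pullback f ι₀) → ℤ := w ∘ pullback.fst f ι₀
  have hw₀ : MoreMor.IsWeighting f₀ w₀ := Weighting.isWeighting_baseChange hw hsq
  have hfin₀ : ∀ y : I.subscheme, (f₀ ⁻¹' {y}).Finite := fun y => f₀.finite_preimage_singleton y
  have hW₀ : ∀ z, MoreMor.fibreIntegral f₀ w₀ z = MoreMor.fibreIntegral f w (ι₀ z) := fun z =>
    S1418.result f hfin f₀ (pullback.fst f ι₀) ι₀ hsq w z
  have hmax : ∀ z, MoreMor.fibreIntegral f₀ w₀ z ≤ v := fun z => by
    rw [hW₀]; exact hr.subset ⟨z, rfl⟩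
  haveI : IsSeparated f₀ := MorphismProperty.pullback_snd _ _ inferInstance
  have hpos' : ∀ x, 0 < w₀ x := fun x => hpos _
  let U : I.subscheme.Opens := ⟨_, Weighting.isOpen_maxLocus hfin₀ hw₀ hpos' v hmax⟩
  have hUι : IsAffineHom U.ι := by
    refine isAffineHom_of_forall_exists_isAffineOpen _ fun z => ?_
    obtain ⟨V, hV, hzV, -⟩ := exists_isAffineOpen_mem_and_subset (X := I.subscheme) (x := z) (U := ⊤) trivial
    refine ⟨V, hzV, hV, ?_⟩
    haveI : IsAffine V.toScheme := hV
    haveI : IsAffine (f₀ ⁻¹ᵁ V).toScheme := by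
      haveI : IsAffineHom f₀ := by
        haveI : IsAffineHom (f₀ ≫ terminal.from I.subscheme) := inferInstance
        exact MorphismProperty.of_postcomp (W := @IsAffineHom) (W' := @IsSeparated) f₀ (terminal.from I.subscheme)
          inferInstance inferInstance
      exact hV.preimage f₀
    have hsqV := (isPullback_morphismRestrict f₀ V).flip
    have hwV : MoreMor.IsWeighting (f₀ ∣_ V) (w₀ ∘ (f₀ ⁻¹ᵁ V).ι) := Weighting.isWeighting_baseChange hw₀ hsqV
    have hWV : ∀ z : V.toScheme, MoreMor.fibreIntegral (f₀ ∣_ V) (w₀ ∘ (f₀ ⁻¹ᵁ V).ι) z =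
        MoreMor.fibreIntegral f₀ w₀ (V.ι z) := fun z =>
      S1418.result f₀ hfin₀ (f₀ ∣_ V) (f₀ ⁻¹ᵁ V).ι V.ι hsqV w₀ z
    have hUV : IsAffineOpen (V.ι ⁻¹ᵁ U) :=
      Weighting.isAffineOpen_maxLocus (f₀ ∣_ V) hwV (fun _ => hpos _) v (fun z => (hWV z).symm ▸ hmax _) _ fun z => by
        rw [hWV]; rfl
    have h2 : IsAffineOpen (U ⊓ V) := by
      have := hUV.image_of_isOpenImmersion V.ι
      rwa [Scheme.Hom.image_preimage_eq_opensRange_inf, Scheme.Opens.opensRange_ι, inf_comm] at this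
    have h3 := h2.preimage_of_isOpenImmersion U.ι (by rw [Scheme.Opens.opensRange_ι]; exact inf_le_left)
    rwa [show U.ι ⁻¹ᵁ V = U.ι ⁻¹ᵁ (U ⊓ V) from by rw [Scheme.Hom.preimage_inf, Scheme.Opens.ι_preimage_self, top_inf_eq]]
  haveI : IsAffineHom (f₀ ⁻¹ᵁ U).ι := MorphismProperty.of_isPullback (isPullback_morphismRestrict f₀ U) hUι
  haveI : IsAffine (f₀ ⁻¹ᵁ U).toScheme := isAffine_of_isAffineHom (f₀ ⁻¹ᵁ U).ι
  haveI : Surjective (f₀ ∣_ U) := MorphismProperty.of_isPullback (isPullback_morphismRestrict f₀ U).flip ‹Surjective f₀›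
  haveI : IsFinite (f₀ ∣_ U) := Weighting.isFinite_restrict_maxLocus hfin₀ hw₀ hpos' v U fun z hz => hz
  refine ⟨U.toScheme, U.ι ≫ ι₀, inferInstance, AbsApprox.isAffine_of_universallyClosed (f₀ ∣_ U),
    inferInstance, Set.ext fun y => ⟨?_, fun hy => ?_⟩⟩
  · rintro ⟨z, rfl⟩
    have hz : MoreMor.fibreIntegral f₀ w₀ (U.ι z) = v := z.2
    rw [hW₀] at hz
    exact hz
  · obtain ⟨z, rfl⟩ := hr.superset (show MoreMor.fibreIntegral f w y ≤ v from le_of_eq hy)
    exact ⟨⟨z, show MoreMor.fibreIntegral f₀ w₀ z = v from (hW₀ z).trans hy⟩, rfl⟩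

/-- Let f : X → Y be surjective and quasi-finite with X affine and Y separated and nonempty, and let w
be a positive weighting of f. If the fibre integral of w along f takes exactly k distinct values,
then Y has an affine stratification with index set {0, …, k − 1} (its affine stratification number
is at most k − 1). -/
theorem result {X Y : Scheme.{u}} (f : X ⟶ Y) [Surjective f] [LocallyQuasiFinite f] [LocallyOfFiniteType f] [QuasiCompact f]
    [IsAffine X] [Y.IsSeparated] [Nonempty ↑Y] (w : ↑X → ℤ) (hw : MoreMor.IsWeighting f w) (hpos : ∀ x, 0 < w x)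
    (k : ℕ) (hk : (Set.range (MoreMor.fibreIntegral f w)).ncard = k) (hkfin : (Set.range (MoreMor.fibreIntegral f w)).Finite) :
    MoreMor.HasAffineStratification Y (k - 1) := by
  classical
  let W := MoreMor.fibreIntegral f w
  have hfin : ∀ y : Y, (f ⁻¹' {y}).Finite := fun y => f.finite_preimage_singleton y
  haveI : IsSeparated f := by
    haveI : IsSeparated (f ≫ terminal.from Y) := inferInstance
    exact IsSeparated.of_comp f (terminal.from Y)
  have hk1 : hkfin.toFinset.card = k - 1 + 1 := by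
    rw [← Set.ncard_eq_toFinset_card _ hkfin, hk]
    have : 0 < k := hk ▸ (Set.ncard_pos hkfin).2 (Set.range_nonempty _)
    omega
  let e := hkfin.toFinset.orderIsoOfFin hk1
  let s : Y → Fin (k - 1 + 1) := fun y => e.symm ⟨W y, hkfin.mem_toFinset.2 ⟨y, rfl⟩⟩
  have hs : ∀ y, ((e (s y)) : ℤ) = W y := fun y => by simp [s]
  refine ⟨s, fun i => ?_, fun i => ?_⟩
  · have h : {y : Y | s y ≤ i} = W ⁻¹' Set.Iic (e i : ℤ) := by
      ext y
      rw [Set.mem_ofPred_eq, Set.mem_preimage, Set.mem_Iic, ← hs y, Subtype.coe_le_coe, e.le_iff_le]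
    rw [h]
    exact (Weighting.lowerSemicontinuous_fibreIntegral hfin hw hpos).isClosed_preimage _
  · obtain ⟨y₀, hy₀⟩ := hkfin.mem_toFinset.1 (e i).2
    obtain ⟨Z, ι, h1, h2, h3, h4⟩ := exists_stratum f w hw hpos (e i : ℤ) ⟨y₀, hy₀⟩
    refine ⟨Z, ι, h1, h2, h3, h4.trans (Set.ext fun y => ?_)⟩
    show W y = (e i : ℤ) ↔ s y = i
    rw [← hs y]
    exact ⟨fun h => e.injective (Subtype.ext h), fun h => by rw [h]⟩

end Groth.Agent.S1439
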