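import Groth.Statements.S14397
import Mathlib

set_option autoImplicit false
universe u
open DualGr

namespace Groth.Agent.S14397

/-- Let (V, E) with endpoint map E → V × V be a finite multigraph (loops and parallel edges allowed; the
order of the two endpoints is an auxiliary orientation), and let D_1, …, D_n be finite sets of edges
such that every edge lies outside at least one D_i. For each i let Γ_i be the multigraph obtained by
contracting the edges of D_i, and let H₁(Γ, ℤ) → H₁(Γ_i, ℤ) be the map of cycle lattices (integer
edge vectors with zero boundary) given by restriction to the surviving edges. Then the map H₁(Γ, ℤ)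
→ ⊕_i H₁(Γ_i, ℤ) has torsion-free cokernel. (The published statement is about the connected labelled
dual graph of the closed fibre of a nodal curve, smooth outside a normal crossing divisor with
components D_1, …, D_n, over a Noetherian regular strictly local base; Γ_i is the dual graph of the
fibre over the generic point of D_i, the lattices are identified with the character groups of the
toric parts of the Picard schemes of these fibres, and the map is the generization map of character
groups; this row states the assertion about cycle lattices, for any finite multigraph, which is what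
the argument establishes.) -/
theorem result
    {V E : Type u} [Fintype V] [Fintype E] [DecidableEq V] [DecidableEq E]
    (ends : E → V × V) {n : ℕ} (D : Fin n → Finset E) (hcover : ∀ e : E, ∃ i : Fin n, e ∉ D i) :
    IsAddTorsionFree (((i : Fin n) → ↥(DualGr.cycleLattice (DualGr.ctrEnds ends (D i)))) ⧸
      LinearMap.range (LinearMap.pi fun i : Fin n => DualGr.genMap ends (D i))) := by
  classical
  refine ⟨fun m hm a b hab => ?_⟩
  obtain ⟨x, rfl⟩ := Submodule.Quotient.mk_surjective _ a
  obtain ⟨y, rfl⟩ := Submodule.Quotient.mk_surjective _ b
  simp only at hab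
  rw [← Submodule.Quotient.mk_smul, ← Submodule.Quotient.mk_smul, Submodule.Quotient.eq] at hab
  rw [Submodule.Quotient.eq]
  obtain ⟨γ, hγ⟩ := hab
  have hval : ∀ i (e : DualGr.CtrEdge (D i)), γ.1 e.1 = (m : ℤ) * ((x i).1 e - (y i).1 e) := by
    intro i e
    have h : γ.1 e.1 = ((m • x - m • y) i).1 e := congrArg (fun z => (z i).1 e) hγ
    rw [h]
    simp only [Pi.sub_apply, Pi.smul_apply, Submodule.coe_sub, Submodule.coe_smul_of_tower]
    rw [nsmul_eq_mul, nsmul_eq_mul]
    ring
  choose j hj using hcover
  let δ : E → ℤ := fun e => (x (j e)).1 ⟨e, hj e⟩ - (y (j e)).1 ⟨e, hj e⟩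
  have hδ : γ.1 = (m : ℤ) • δ := funext fun e => by
    rw [Pi.smul_apply, smul_eq_mul]; exact hval (j e) ⟨e, hj e⟩
  have hm' : (m : ℤ) ≠ 0 := by exact_mod_cast hm
  have hc : δ ∈ DualGr.cycleLattice ends := by
    have h0 : DualGr.boundaryHom ends γ.1 = 0 := γ.2
    rw [hδ, map_smul] at h0
    exact (smul_eq_zero.1 h0).resolve_left hm'
  refine ⟨⟨δ, hc⟩, funext fun i => Subtype.ext (funext fun e => ?_)⟩
  show δ e.1 = (x i).1 e - (y i).1 e
  refine mul_left_cancel₀ hm' ?_
  rw [← hval i e, hδ, Pi.smul_apply, smul_eq_mul]

end Groth.Agent.S14397
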