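import Groth.Statements.S14400
import Groth.Agent.GalDescHom.Basic

set_option autoImplicit false
universe u
open CategoryTheory CategoryTheory.Limits AlgebraicGeometry
open Desc

namespace Groth.Agent.S14400

/-- Let K/k be a finite Galois extension of fields, X and Y schemes over k with base changes X_K and
Y_K, and g : X_K ⟶ Y_K a morphism over Spec K. Then g is the base change of a k-morphism f : X ⟶ Y
(that is, g followed by the projection Y_K ⟶ Y is the projection X_K ⟶ X followed by f) if and only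
if g commutes with the action of every k-automorphism σ of K on X_K and on Y_K (the identity on X,
resp. Y, and Spec σ on the factor Spec K). In other words the image of the k-morphisms X ⟶ Y among
the K-morphisms X_K ⟶ Y_K is exactly the set of Galois-invariant ones. -/
theorem result (k : Type u) [Field k] (K : Type u) [Field K]
    [Algebra k K] [FiniteDimensional k K] [IsGalois k K]
    (X Y : Scheme.{u}) [X.Over (Spec (CommRingCat.of k))] [Y.Over (Spec (CommRingCat.of k))]
    (g : Curv2.bc k X K ⟶ Curv2.bc k Y K) (hg : g ≫ Curv2.bcSnd k Y K = Curv2.bcSnd k X K) :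
    (∃ f : X ⟶ Y, f ≫ (Y ↘ Spec (CommRingCat.of k)) = X ↘ Spec (CommRingCat.of k) ∧
        g ≫ Curv2.bcFst k Y K = Curv2.bcFst k X K ≫ f) ↔
      ∀ σ : K ≃ₐ[k] K, Curv2.galAct k X K σ ≫ g = g ≫ Curv2.galAct k Y K σ := by
  have hsnd : ∀ (Z : Scheme.{u}) [Z.Over (Spec (CommRingCat.of k))] (σ : K ≃ₐ[k] K),
      Curv2.galAct k Z K σ ≫ pullback.snd _ _ =
        pullback.snd _ _ ≫ Spec.map (CommRingCat.ofHom (σ : K →ₐ[k] K).toRingHom) :=
    fun Z _ σ => pullback.lift_snd _ _ _
  have hfst : ∀ (Z : Scheme.{u}) [Z.Over (Spec (CommRingCat.of k))] (σ : K ≃ₐ[k] K),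
      Curv2.galAct k Z K σ ≫ Curv2.bcFst k Z K = Curv2.bcFst k Z K :=
    fun Z _ σ => (pullback.lift_fst _ _ _).trans (Category.comp_id _)
  constructor
  · rintro ⟨f, -, hf⟩ σ
    apply pullback.hom_ext
    · show (_ ≫ g) ≫ Curv2.bcFst k Y K = (g ≫ _) ≫ Curv2.bcFst k Y K
      rw [Category.assoc, hf, Category.assoc, hfst Y, hf, reassoc_of% hfst X]
    · rw [Category.assoc, Category.assoc, hsnd Y]
      have hg' : g ≫ pullback.snd _ _ = pullback.snd _ _ := hg
      rw [hg', hsnd X, reassoc_of% hg']
  · intro hσ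
    obtain ⟨f, hf, hπ⟩ := Groth.Agent.GalDescHom.exists_desc k K (g ≫ Curv2.bcFst k Y K)
      (by
        show (g ≫ pullback.fst _ _) ≫ _ = pullback.fst _ _ ≫ _
        rw [Category.assoc, pullback.condition, pullback.condition, ← Category.assoc,
          show g ≫ pullback.snd _ _ = pullback.snd _ _ from hg])
      (Curv2.galAct k X K) (hfst X) (hsnd X)
      (fun σ => by rw [reassoc_of% hσ σ, hfst Y])
    exact ⟨f, hf, hπ.symm⟩

end Groth.Agent.S14400
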