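import Groth.Statements.S14404
import Groth.Agent.FlatDim.Comps

set_option autoImplicit false
set_option linter.style.haveILetI false
set_option backward.isDefEq.respectTransparency false
open Groth.Agent
universe u
open CategoryTheory AlgebraicGeometry
open FlatMor

namespace Groth.Agent.S14404

/-- Let k be a field, X and Y irreducible schemes of finite type over k and f : X ⟶ Y a flat k-morphism.
Then dim Y ≤ dim X, and for every point y of Y every irreducible component Z of the scheme-theoretic
fibre of f over y has dim Z + dim Y = dim X; that is, every non-empty fibre has all its irreducible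
components of dimension dim X − dim Y. -/
theorem result (k : Type u) [Field k]
    {X Y : Scheme.{u}} (qX : X ⟶ Spec (CommRingCat.of k)) (qY : Y ⟶ Spec (CommRingCat.of k))
    [LocallyOfFiniteType qX] [QuasiCompact qX] [LocallyOfFiniteType qY] [QuasiCompact qY]
    [IrreducibleSpace X] [IrreducibleSpace Y] (f : X ⟶ Y) (hf : f ≫ qY = qX) [Flat f] :
    topologicalKrullDim Y ≤ topologicalKrullDim X ∧
      ∀ (y : Y), ∀ Z ∈ irreducibleComponents (f.fiber y : Type u),
        topologicalKrullDim Z + topologicalKrullDim Y = topologicalKrullDim X := by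
  obtain ⟨d, hd, hY⟩ := FlatDim.exists_pdim_irreducible qY
  obtain ⟨D, hD, hX⟩ := FlatDim.exists_pdim_irreducible qX
  haveI : LocallyOfFiniteType (f ≫ qY) := hf ▸ inferInstance
  haveI : LocallyOfFiniteType f := locallyOfFiniteType_of_comp f qY
  obtain ⟨ξ, hξ, -⟩ := Unibranch.exists_isMaxPt_specializes (genericPoint ↥X)
  have hle : d ≤ D := (FlatDim.chains_of_equidim f qY hX hY (fun y hy _ => hξ y hy : FlatDim.IsFibMax f ξ)).1
  refine ⟨by rw [hd, hD]; exact_mod_cast hle, fun y Z hZ => ?_⟩
  have h : ∀ Z ∈ irreducibleComponents (X : Type u), topologicalKrullDim Z = ((d + (D - d) : ℕ) : WithBot ℕ∞) := by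
    rw [Nat.add_sub_cancel' hle]
    exact (FlatDim.forall_components_iff qX D).2 hX
  rw [(FlatDim.equidim_iff qX qY f hf (D - d) hY).1 h y Z hZ, hd, hD, ← Nat.cast_add, Nat.sub_add_cancel hle]

end Groth.Agent.S14404
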