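import Groth.Statements.S14408
import Groth.Agent.Intersect.Pos
import Groth.Agent.Intersect.ProjSpace
import Groth.Agent.Intersect.Apps2

set_option autoImplicit false
universe u
open CategoryTheory CategoryTheory.Limits AlgebraicGeometry
open HilbNum

namespace Groth.Agent.S14408

/-- Let k be an algebraically closed field, n a positive integer, F a nonzero coherent O-module on
projective n-space P over k (quasi-coherent of finite type), and P_F a polynomial with rational
coefficients such that P_F(m) = χ(F(m)) = Σ_{j ≤ n} (-1)^j dim_k H^j(P, F ⊗ O(m)) for every integer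
m. Then the degree of P_F equals the dimension of the support of F (the closed set of points where
the stalk of F is nonzero, with the subspace topology). The existence of such a polynomial is not
part of this statement; it enters through the hypothesis on P_F. -/
theorem result (k : Type u) [Field k] [IsAlgClosed k] (n : ℕ) (hn : 0 < n)
    (F : (CohB1.ProjSpace n k).Modules) (hF : Coh.IsCoh F) (hF0 : ¬ IsZero F) (P : Polynomial ℚ)
    (hP : ∀ m : ℤ,
      ((Finset.range (n + 1)).sum fun j => (-1 : ℚ) ^ j *
        (Module.finrank k (Coh.HH (CohB1.ProjSpace n k) (CohB1.tensorMod F (Twist.twistProjSpace n k m)) j) : ℚ)) =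
      P.eval (m : ℚ)) :
    topologicalKrullDim ↥(CohB1.support F) = (P.natDegree : WithBot ℕ∞) := by
  haveI := ProjMor.isProper_toSpec n k
  haveI : IsProper (CohB1.ProjSpace n k ↘ Spec (CommRingCat.of k)) := ProjMor.isProper_toSpec n k
  haveI := CurveRR.isNoetherian_of_proper k (CohB1.ProjSpace n k)
  let O1 := Twist.twistProjSpace n k 1
  have hO1 : CohB1.IsAmple O1 := Intersect.isAmple_twistProj_one n k
  have hO1' : PicF.IsInvertible O1 := hO1.1
  have hN : ∀ (r : ℕ) (m : Fin r → ℕ),
      Nonempty (Intersect.N (fun _ : Fin r => O1) m ≅ CohB1.tensorPow O1 (∑ i, m i)) := by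
    intro r
    induction r with
    | zero =>
      intro m
      rw [Fin.sum_univ_zero]
      exact ⟨Iso.refl _⟩
    | succ r ih =>
      intro m
      obtain ⟨e⟩ := ih fun i => m i.castSucc
      obtain ⟨e'⟩ := TMul.nonempty_powAddIso O1 (∑ i : Fin r, m i.castSucc) (m (Fin.last r))
      rw [Fin.sum_univ_castSucc]
      exact ⟨PicGrp.tensorModIso e (Iso.refl _) ≪≫ e'⟩
  have hdn : topologicalKrullDim ↥(CohB1.support F) ≤ (n : WithBot ℕ∞) :=
    (topologicalKrullDim_subspace_le _ _).trans (Groth.Agent.S10829.result k n).le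
  have hχ : ∀ (r : ℕ) (m : Fin r → ℕ), Intersect.χt k F (fun _ : Fin r => O1) m =
      P.eval (((∑ i, m i : ℕ) : ℕ) : ℚ) := by
    intro r m
    obtain ⟨e⟩ := hN r m
    obtain ⟨e'⟩ := Intersect.nonempty_twist_pow (n := n) (k := k) (∑ i, m i)
    have hP' := hP ((∑ i, m i : ℕ) : ℤ)
    rw [Int.cast_natCast] at hP'
    generalize (∑ i, m i : ℕ) = c at e e' hP' ⊢
    rw [Intersect.χt, CurveRR.euler_eq_of_iso (PicGrp.tensorModIso (Iso.refl F) (e ≪≫ e'.symm)),
      CurveRR.euler_eq_sum _ (n + 1) fun i hi => ?_, ← hP']
    · push_cast [CurveRR.h]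
      rfl
    · exact Groth.Agent.S0458.result (X := (CohB1.ProjSpace n k).toPresheafedSpace.carrier) n
        (Groth.Agent.S10829.result k n).le (Coh.toAb _) i (by omega)
  -- the dimension
  obtain ⟨d, hd⟩ : ∃ d : ℕ, topologicalKrullDim ↥(CohB1.support F) = (d : WithBot ℕ∞) := by
    obtain ⟨x, hx⟩ : (CohB1.support F).Nonempty := by
      by_contra hne
      exact hF0 (Devissage.isZero_of_support (Set.not_nonempty_iff_eq_empty.1 hne))
    have h0 : topologicalKrullDim ↥(CohB1.support F) ≠ ⊥ := fun h => by
      haveI : IsEmpty (TopologicalSpace.IrreducibleCloseds ↥(CohB1.support F)) := Order.krullDim_eq_bot_iff.1 h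
      exact IsEmpty.false (TopologicalSpace.IrreducibleCloseds.mk (closure {(⟨x, hx⟩ : ↥(CohB1.support F))})
        isIrreducible_singleton.closure isClosed_closure)
    obtain ⟨e, he⟩ := WithBot.ne_bot_iff_exists.1 h0
    rw [← he] at hdn
    obtain ⟨d, rfl⟩ := ENat.ne_top_iff_exists.1 (ne_top_of_le_ne_top (ENat.coe_ne_top n) (WithBot.coe_le_coe.1 hdn))
    exact ⟨d, he.symm⟩
  rw [hd, Nat.cast_inj]
  refine le_antisymm ?_ ?_
  · by_contra hlt
    push Not at hlt
    have hmem : Intersect.χt k F (fun _ : Fin d => O1) ∈ Intersect.PS d d := by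
      let Q : MvPolynomial (Fin d) ℚ := Polynomial.aeval (∑ i, MvPolynomial.X i) P
      have hQ : Q.totalDegree < d := by
        refine lt_of_le_of_lt ?_ hlt
        simp only [Q, Polynomial.aeval_eq_sum_range]
        refine MvPolynomial.totalDegree_finsetSum_le fun i hi => ?_
        refine (MvPolynomial.totalDegree_smul_le _ _).trans ((MvPolynomial.totalDegree_pow _ _).trans ?_)
        refine le_trans ?_ (Nat.lt_succ_iff.1 (Finset.mem_range.1 hi))
        refine (Nat.mul_le_mul_left i (MvPolynomial.totalDegree_finsetSum_le fun j _ =>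
          (MvPolynomial.totalDegree_X j).le)).trans (by simp)
      have hev : Intersect.χt k F (fun _ : Fin d => O1) =
          ∑ e ∈ Q.support, Q.coeff e • Intersect.mon (fun i => e i) := by
        funext m
        rw [hχ d m, Finset.sum_apply]
        have : P.eval ((∑ i, m i : ℕ) : ℚ) = MvPolynomial.eval (fun i => (m i : ℚ)) Q := by
          simp only [Q]
          rw [Polynomial.aeval_def, Polynomial.hom_eval₂, map_sum]
          simp [Polynomial.eval₂_eq_eval_map]
          congr 1
          exact (Polynomial.map_id).symm.trans (congrArg (fun φ : ℚ →+* ℚ => P.map φ) (RingHom.ext fun a => by simp))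
        rw [this, MvPolynomial.eval_eq']
        rfl
      rw [hev]
      refine Submodule.sum_mem _ fun e he => Submodule.smul_mem _ _ (Intersect.mon_mem ?_)
      have := MvPolynomial.le_totalDegree he
      rw [Finsupp.sum_fintype _ _ (fun _ => rfl)] at this
      omega
    have hpos := Intersect.alt_pos k d (fun _ => O1) (fun _ => hO1) F hF hd
    rw [Intersect.alt_eq_zero le_rfl hmem, mul_zero] at hpos
    exact lt_irrefl _ hpos
  · obtain ⟨Q, hQ, hev⟩ := Intersect.exists_totalDegree_le k hF hd.le (L := fun _ : Fin 1 => O1) fun _ => hO1'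
    let q : Polynomial ℚ := MvPolynomial.aeval (fun _ : Fin 1 => Polynomial.X) Q
    have hPq : P = q := by
      refine Polynomial.eq_of_infinite_eval_eq _ _ ((Set.infinite_range_of_injective
        Nat.cast_injective).mono ?_)
      rintro _ ⟨m, rfl⟩
      show P.eval (m : ℚ) = q.eval (m : ℚ)
      have h := (hχ 1 fun _ => m).symm.trans (hev fun _ => m)
      rw [Fin.sum_univ_one] at h
      rw [h, ← Polynomial.coe_aeval_eq_eval]
      simp only [q]
      rw [← AlgHom.comp_apply, MvPolynomial.comp_aeval]
      simp [MvPolynomial.aeval_eq_eval]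
    rw [hPq]
    simp only [q, MvPolynomial.aeval_def, MvPolynomial.eval₂_eq]
    refine Polynomial.natDegree_sum_le_of_forall_le _ _ fun e he => ?_
    refine Polynomial.natDegree_C_mul_le _ _ |>.trans ?_
    rw [Finset.prod_pow_eq_pow_sum, Polynomial.natDegree_X_pow]
    exact (MvPolynomial.le_totalDegree he).trans hQ

end Groth.Agent.S14408
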