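import Groth.Statements.S14412
import Mathlib

set_option autoImplicit false
universe u
open CategoryTheory
open CAlg

namespace Groth.Agent.S14412

set_option linter.style.haveILetI false
set_option backward.isDefEq.respectTransparency false
set_option backward.isDefEq.respectTransparency.types false

open Abelian

variable {R : Type u} [CommRing R] (S : Submonoid R)

noncomputable abbrev L : ModuleCat.{u} R ⥤ ModuleCat.{u} (Localization S) := ModuleCat.localizedModuleFunctor.{u} S

/-- The map of localized modules. -/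
noncomputable abbrev Lmap {M N : ModuleCat.{u} R} (f : M ⟶ N) :
    M.localizedModule S →ₗ[Localization S] N.localizedModule S := ((L S).map f).hom

theorem L_map_apply {M N : ModuleCat.{u} R} (f : M ⟶ N) (x : M) :
    Lmap S f (M.localizedModuleMkLinearMap S x) = N.localizedModuleMkLinearMap S (f x) :=
  IsLocalizedModule.map_apply S _ _ _ x

theorem L_map_smul_id (N : ModuleCat.{u} R) (r : R) :
    (L S).map (r • 𝟙 N) = algebraMap R (Localization S) r • 𝟙 ((L S).obj N) := by
  let φ : N.localizedModule S →ₗ[Localization S] N.localizedModule S := Lmap S (r • 𝟙 N)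
  suffices h : ∀ z : N.localizedModule S, φ z = algebraMap R (Localization S) r • z from
    ModuleCat.hom_ext (LinearMap.ext h)
  intro z
  obtain ⟨⟨m, t⟩, rfl⟩ := IsLocalizedModule.mk'_surjective S (N.localizedModuleMkLinearMap S) z
  apply ((Module.End.isUnit_iff _).1 (IsLocalizedModule.map_units (N.localizedModuleMkLinearMap S) t)).1
  simp only [Function.uncurry_apply_pair, Module.algebraMap_end_apply]
  rw [← LinearMap.map_smul_of_tower φ, algebraMap_smul, smul_comm,
    ← Submonoid.smul_def, IsLocalizedModule.mk'_cancel']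
  exact (L_map_apply S (r • 𝟙 N) m).trans (map_smul _ r m)

theorem map_smul_ext {M N : ModuleCat.{u} R} {i : ℕ} (r : R) (e : Ext M N i) :
    (L S).mapExtAddHom M N i (r • e) = algebraMap R (Localization S) r • (L S).mapExtAddHom M N i e := by
  simp only [Functor.mapExtAddHom_apply]
  rw [Ext.smul_eq_comp_mk₀ e, Ext.smul_eq_comp_mk₀ (e.mapExactFunctor (L S)), Ext.mapExactFunctor_comp,
    Ext.mapExactFunctor_mk₀, L_map_smul_id]

theorem exists_smul_map_hom [IsNoetherianRing R] {M N : ModuleCat.{u} R} [Module.Finite R M]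
    (g : (L S).obj M ⟶ (L S).obj N) :
    ∃ (f : M ⟶ N) (s : S), algebraMap R (Localization S) (s : R) • g = (L S).map f := by
  haveI : Module.FinitePresentation R M := Module.finitePresentation_of_finite R M
  let g' : M.localizedModule S →ₗ[Localization S] N.localizedModule S := g.hom
  obtain ⟨h, s, hs⟩ := Module.FinitePresentation.exists_lift_of_isLocalizedModule S
    (N.localizedModuleMkLinearMap S) ((g'.restrictScalars R).comp (M.localizedModuleMkLinearMap S))
  refine ⟨ModuleCat.ofHom h, s, ModuleCat.hom_ext ?_⟩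
  refine LinearMap.restrictScalars_injective R
    (M := M.localizedModule S) (M₂ := N.localizedModule S) ?_
  refine IsLocalizedModule.linearMap_ext S (M.localizedModuleMkLinearMap S) (N.localizedModuleMkLinearMap S)
    (LinearMap.ext fun x => ?_)
  refine Eq.trans ?_ (L_map_apply S (ModuleCat.ofHom h) x).symm
  refine Eq.trans ?_ (LinearMap.congr_fun hs x).symm
  exact (algebraMap_smul (Localization S) (s : R) (g' (M.localizedModuleMkLinearMap S x)))

theorem exists_smul_eq_zero_hom {M N : ModuleCat.{u} R} [Module.Finite R M] (f : M ⟶ N) (hf : (L S).map f = 0) :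
    ∃ s : S, (s : R) • f = 0 := by
  obtain ⟨s, hs⟩ := Module.Finite.exists_smul_of_comp_eq_of_isLocalizedModule S (N.localizedModuleMkLinearMap S)
    f.hom 0 (LinearMap.ext fun x => by
      refine (L_map_apply S f x).symm.trans ?_
      rw [show Lmap S f = 0 from congrArg ModuleCat.Hom.hom hf, LinearMap.comp_zero, LinearMap.zero_apply]
      rfl)
  exact ⟨s, ModuleCat.hom_ext (hs.trans (smul_zero _))⟩

theorem main [IsNoetherianRing R] (N : ModuleCat.{u} R) : ∀ (i : ℕ) (M : ModuleCat.{u} R), Module.Finite R M →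
    (∀ y : Ext ((L S).obj M) ((L S).obj N) i, ∃ (e : Ext M N i) (s : S),
        algebraMap R (Localization S) (s : R) • y = (L S).mapExtAddHom M N i e) ∧
      (∀ e : Ext M N i, (L S).mapExtAddHom M N i e = 0 → ∃ s : S, (s : R) • e = 0)
  | 0, M, hM => by
    refine ⟨fun y => ?_, fun e he => ?_⟩
    · obtain ⟨g, rfl⟩ := (Ext.mk₀_bijective _ _).2 y
      obtain ⟨f, s, hf⟩ := exists_smul_map_hom S g
      refine ⟨Ext.mk₀ f, s, ?_⟩
      rw [Functor.mapExtAddHom_apply, Ext.mapExactFunctor_mk₀, ← hf, Ext.mk₀_smul]
    · obtain ⟨f, rfl⟩ := (Ext.mk₀_bijective _ _).2 e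
      rw [Functor.mapExtAddHom_apply, Ext.mapExactFunctor_mk₀] at he
      obtain ⟨s, hs⟩ := exists_smul_eq_zero_hom S f ((Ext.mk₀_bijective _ _).1 (he.trans (Ext.mk₀_zero _ _).symm))
      exact ⟨s, by rw [← Ext.mk₀_smul, hs, Ext.mk₀_zero]⟩
  | i + 1, M, hM => by
    obtain ⟨n, p, hp⟩ := Module.Finite.exists_fin' R M
    let T : ShortComplex (ModuleCat.{u} R) := p.shortComplexKer
    have hT : T.ShortExact := LinearMap.shortExact_shortComplexKer hp
    haveI : Module.Projective R T.X₂ := inferInstanceAs (Module.Projective R (Fin n → R))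
    haveI : Projective T.X₂ := (IsProjective.iff_projective T.X₂).1 inferInstance
    haveI := ModuleCat.localizedModule_isLocalizedModule T.X₂ S
    haveI h' : Module.Projective (Localization S) (T.X₂.localizedModule S) :=
      Module.projective_of_isLocalizedModule S (T.X₂.localizedModuleMkLinearMap S)
    haveI : Projective (T.map (L S)).X₂ := (IsProjective.iff_projective (T.X₂.localizedModule S)).1 h'
    obtain ⟨hK₁, hK₂⟩ := main N i T.X₁ (inferInstanceAs (Module.Finite R (LinearMap.ker p)))
    obtain ⟨hF₁, -⟩ := main N i T.X₂ (inferInstanceAs (Module.Finite R (Fin n → R)))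
    have hn : 1 + i = i + 1 := Nat.add_comm 1 i
    refine ⟨fun y => ?_, fun e he => ?_⟩
    · obtain ⟨y₁, hy₁⟩ := Ext.contravariant_sequence_exact₃ (hT.map_of_exact (L S)) ((L S).obj N) y
        (Ext.eq_zero_of_projective _) hn
      obtain ⟨e₁, s, hs⟩ := hK₁ y₁
      refine ⟨hT.extClass.comp e₁ hn, s, ?_⟩
      rw [← hy₁, Functor.mapExtAddHom_apply, Ext.mapExactFunctor_comp, Ext.mapExactFunctor_extClass]
      exact (Ext.comp_smul _ y₁ hn _).symm.trans (congrArg (fun q => Ext.comp _ q hn) hs)
    · obtain ⟨e₁, rfl⟩ := Ext.contravariant_sequence_exact₃ hT N e (Ext.eq_zero_of_projective _) hn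
      rw [Functor.mapExtAddHom_apply, Ext.mapExactFunctor_comp, Ext.mapExactFunctor_extClass] at he
      obtain ⟨z, hz⟩ := Ext.contravariant_sequence_exact₁ (hT.map_of_exact (L S)) _ _ hn he
      obtain ⟨w, s, hs⟩ := hF₁ z
      obtain ⟨t, ht⟩ := hK₂ ((s : R) • e₁ - (Ext.mk₀ T.f).comp w (zero_add i)) (by
        rw [map_sub, map_smul_ext, Functor.mapExtAddHom_apply, Functor.mapExtAddHom_apply, Ext.mapExactFunctor_comp,
          Ext.mapExactFunctor_mk₀, sub_eq_zero, ← hz]
        exact (Ext.comp_smul _ z (zero_add i) _).symm.trans (congrArg (fun q => Ext.comp _ q (zero_add i)) hs))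
      refine ⟨t * s, ?_⟩
      rw [smul_sub, sub_eq_zero] at ht
      rw [Submonoid.coe_mul, mul_smul, ← Ext.comp_smul, ← Ext.comp_smul, ht, Ext.comp_smul,
        hT.extClass_comp_assoc, smul_zero]

/-- Let R be a Noetherian commutative ring, S a multiplicative subset of R, and M, N finitely generated
R-modules. For i ≥ 0 consider the map Ext^i_R(M, N) → Ext^i_{S⁻¹R}(S⁻¹M, S⁻¹N) induced on Ext groups
(computed in the categories of modules) by the exact localization functor M ↦ S⁻¹M. Then this map
exhibits its target as the localization S⁻¹ Ext^i_R(M, N): every element of the target, after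
multiplication by some s ∈ S, is the image of an element of Ext^i_R(M, N), and an element of
Ext^i_R(M, N) maps to zero if and only if it is annihilated by some element of S. (Equivalently, the
induced map identifies S⁻¹Ext^i_R(M, N) with Ext^i_{S⁻¹R}(S⁻¹M, S⁻¹N).) -/
theorem result (R : Type u) [CommRing R] [IsNoetherianRing R]
    (S : Submonoid R) (M N : ModuleCat.{u} R) [Module.Finite R M] [Module.Finite R N] (i : ℕ) :
    (∀ y : Abelian.Ext ((ModuleCat.localizedModuleFunctor.{u} S).obj M) ((ModuleCat.localizedModuleFunctor.{u} S).obj N) i,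
        ∃ (e : Abelian.Ext M N i) (s : S),
          algebraMap R (Localization S) (s : R) • y = (ModuleCat.localizedModuleFunctor.{u} S).mapExtAddHom M N i e) ∧
      (∀ e : Abelian.Ext M N i,
        (ModuleCat.localizedModuleFunctor.{u} S).mapExtAddHom M N i e = 0 ↔ ∃ s : S, (s : R) • e = 0) := by
  obtain ⟨h₁, h₂⟩ := main S N i M inferInstance
  refine ⟨h₁, fun e => ⟨h₂ e, fun ⟨s, hs⟩ => ?_⟩⟩
  have h3 := map_smul_ext S (s : R) e
  rw [hs, map_zero] at h3
  exact ((IsLocalization.map_units (Localization S) s).smul_eq_zero).1 h3.symm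

end Groth.Agent.S14412
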