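import Groth.Statements.S9716
import Groth.Agent.LocFree.Props
import Groth.Agent.QC.Localisation
import Mathlib

set_option autoImplicit false
universe u
open CategoryTheory AlgebraicGeometry
open Mor

namespace Groth.Agent.S9716

/-- (1) ⇔ (2): a morphism f : X ⟶ S is affine with direct image f_*O_X a finite locally free O_S-module
(locally on S isomorphic to a finite direct sum of copies of the structure sheaf, of possibly
varying rank) if and only if f is finite, flat and locally of finite presentation. -/
theorem result {X S : Scheme.{u}} (f : X ⟶ S) :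
    (IsAffineHom f ∧ FlatMod.IsFinLocFree ((Scheme.Modules.pushforward f).obj (Coh.structureModule X))) ↔
      Mor2.IsFinLocFree f := by
  set_option backward.isDefEq.respectTransparency false in
  open Groth.Agent in
  constructor
  · rintro ⟨hA, hM⟩
    have h1 : ∀ (U : S.Opens), IsAffineOpen U →
        (f.app U).hom.Finite ∧ (f.app U).hom.Flat ∧ (f.app U).hom.FinitePresentation := by
      intro U hU
      haveI := LocFree.finitePresentation_sections hM hU
      haveI := LocFree.projective_sections hM hU
      letI : Algebra Γ(S, U) Γ(X, f ⁻¹ᵁ U) := (f.app U).hom.toAlgebra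
      let l : Γ((Scheme.Modules.pushforward f).obj (Coh.structureModule X), U) ≃ₗ[Γ(S, U)] Γ(X, f ⁻¹ᵁ U) :=
        { toFun := fun s => (show Γ(X, f ⁻¹ᵁ U) from s)
          invFun := fun s => (show Γ((Scheme.Modules.pushforward f).obj (Coh.structureModule X), U) from s)
          left_inv := fun _ => rfl
          right_inv := fun _ => rfl
          map_add' := fun _ _ => rfl
          map_smul' := fun _ _ => rfl }
      haveI : Module.FinitePresentation Γ(S, U) Γ(X, f ⁻¹ᵁ U) := Module.FinitePresentation.of_equiv l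
      haveI : Module.Projective Γ(S, U) Γ(X, f ⁻¹ᵁ U) := Module.Projective.of_equiv l
      refine ⟨?_, ?_, ?_⟩
      · exact RingHom.finite_algebraMap.mpr (inferInstance : Module.Finite Γ(S, U) Γ(X, f ⁻¹ᵁ U))
      · exact RingHom.flat_algebraMap_iff.mpr (inferInstance : Module.Flat Γ(S, U) Γ(X, f ⁻¹ᵁ U))
      · exact RingHom.finitePresentation_algebraMap.mpr
          (Algebra.FinitePresentation.of_finitePresentation Γ(S, U) Γ(X, f ⁻¹ᵁ U))
    haveI hfin : IsFinite f := { hA with finite_app := fun U hU => (h1 U hU).1 }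
    refine ⟨hfin, ?_, ?_⟩
    · rw [HasRingHomProperty.iff_appLE (P := @Flat)]
      intro U V e
      have hpre : IsAffineOpen (f ⁻¹ᵁ U.1) := U.2.preimage f
      have : f.appLE U.1 V.1 e = f.app U.1 ≫ X.presheaf.map (homOfLE e).op := rfl
      rw [this, CommRingCat.hom_comp]
      exact RingHom.Flat.comp (h1 U.1 U.2).2.1
        (HasRingHomProperty.appLE @Flat (𝟙 X) inferInstance ⟨_, hpre⟩ V (by simpa using e) |> fun h => by
          simpa [Scheme.Hom.appLE] using h)
    · rw [HasRingHomProperty.iff_appLE (P := @LocallyOfFinitePresentation)]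
      intro U V e
      have hpre : IsAffineOpen (f ⁻¹ᵁ U.1) := U.2.preimage f
      have : f.appLE U.1 V.1 e = f.app U.1 ≫ X.presheaf.map (homOfLE e).op := rfl
      rw [this, CommRingCat.hom_comp]
      exact RingHom.FinitePresentation.comp
        (HasRingHomProperty.appLE @LocallyOfFinitePresentation (𝟙 X) inferInstance ⟨_, hpre⟩ V (by simpa using e) |> fun h => by
          simpa [Scheme.Hom.appLE] using h)
        (h1 U.1 U.2).2.2
  · rintro ⟨h1, h2, h3⟩
    refine ⟨inferInstance, LocFree.isFinLocFree_of_affine_projective ?_ fun x => ?_⟩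
    · exact QC.isQCoh_pushforward (hM := QC.isQCoh_unit X) f
    obtain ⟨U, hU, hx⟩ := QC.exists_affine_mem x
    letI : Algebra Γ(S, U) Γ(X, f ⁻¹ᵁ U) := (f.app U).hom.toAlgebra
    let l : Γ((Scheme.Modules.pushforward f).obj (Coh.structureModule X), U) ≃ₗ[Γ(S, U)] Γ(X, f ⁻¹ᵁ U) :=
      { toFun := fun s => (show Γ(X, f ⁻¹ᵁ U) from s)
        invFun := fun s => (show Γ((Scheme.Modules.pushforward f).obj (Coh.structureModule X), U) from s)
        left_inv := fun _ => rfl
        right_inv := fun _ => rfl
        map_add' := fun _ _ => rfl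
        map_smul' := fun _ _ => rfl }
    haveI : Module.Finite Γ(S, U) Γ(X, f ⁻¹ᵁ U) := RingHom.finite_algebraMap.mp (IsFinite.finite_app f U hU)
    haveI : Algebra.FinitePresentation Γ(S, U) Γ(X, f ⁻¹ᵁ U) := by
      refine RingHom.finitePresentation_algebraMap.mp ?_
      rw [RingHom.algebraMap_toAlgebra, Scheme.Hom.app_eq_appLE]
      exact HasRingHomProperty.appLE @LocallyOfFinitePresentation f h3 ⟨U, hU⟩ ⟨_, hU.preimage f⟩ le_rfl
    haveI : Module.Flat Γ(S, U) Γ(X, f ⁻¹ᵁ U) := by
      refine RingHom.flat_algebraMap_iff.mp ?_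
      rw [RingHom.algebraMap_toAlgebra, Scheme.Hom.app_eq_appLE]
      exact HasRingHomProperty.appLE @Flat f h2 ⟨U, hU⟩ ⟨_, hU.preimage f⟩ le_rfl
    haveI : Module.FinitePresentation Γ(S, U) Γ(X, f ⁻¹ᵁ U) :=
      Module.FinitePresentation.of_finite_of_finitePresentation _ _
    exact ⟨U, hU, hx, Module.FinitePresentation.of_equiv l.symm, Module.Flat.of_linearEquiv l⟩

end Groth.Agent.S9716
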