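import Groth.Statements.S14416
import Mathlib.RingTheory.LocalRing.Module
import Mathlib.RingTheory.Support
import Mathlib.RingTheory.Ideal.Quotient.Operations

set_option autoImplicit false
universe u
open scoped TensorProduct
open CAlg

namespace Groth.Agent.S14416

/-- Let B → A be a ring map with A a finitely generated B-module such that for every prime ideal p of B
the fibre κ(p) ⊗_B A has dimension at most one over the residue field κ(p). Then B → A is
surjective. In scheme language: a finite morphism whose degree at every point of the target is 0 or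
1 is a closed immersion. (The published statement assumes the two schemes Noetherian; that
hypothesis plays no role and is dropped here.) -/
theorem result
    (B A : Type u) [CommRing B] [CommRing A] [Algebra B A] [Module.Finite B A]
    (h : ∀ p : PrimeSpectrum B,
      Module.finrank p.asIdeal.ResidueField (p.asIdeal.ResidueField ⊗[B] A) ≤ 1) :
    Function.Surjective (algebraMap B A) := by
  classical
  let C := A ⧸ LinearMap.range (Algebra.linearMap B A)
  let π : A →ₗ[B] C := (LinearMap.range (Algebra.linearMap B A)).mkQ
  suffices h0 : ∀ p : PrimeSpectrum B, p ∉ Module.support B C by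
    haveI : Subsingleton C := Module.support_eq_empty_iff.1 (Set.eq_empty_iff_forall_notMem.2 h0)
    intro a
    exact (Submodule.Quotient.mk_eq_zero _).1 (Subsingleton.elim (π a) 0)
  intro p hp
  let k := p.asIdeal.ResidueField
  haveI : Nontrivial (k ⊗[B] C) := Module.mem_support_iff_nontrivial_residueField_tensorProduct p |>.1 hp
  let T : k ⊗[B] A →ₗ[k] k ⊗[B] C := π.baseChange k
  have hT : Function.Surjective T := LinearMap.lTensor_surjective k (Submodule.mkQ_surjective _)
  have h1 : T (1 ⊗ₜ 1) = 0 := by
    show (1 : k) ⊗ₜ[B] π 1 = 0
    rw [show π 1 = 0 from (Submodule.Quotient.mk_eq_zero _).2 ⟨1, map_one (algebraMap B A)⟩, TensorProduct.tmul_zero]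
  suffices ∀ z, T z = 0 by
    obtain ⟨z, hz⟩ := exists_ne (0 : k ⊗[B] C)
    obtain ⟨y, rfl⟩ := hT z
    exact hz (this y)
  by_cases he : ((1 : k) ⊗ₜ[B] (1 : A)) = 0
  · intro z
    rw [← mul_one z, Algebra.TensorProduct.one_def, he, mul_zero, map_zero]
  · intro z
    have hfr : Module.finrank k (k ⊗[B] A) = 1 := le_antisymm (h p) (Module.finrank_pos_iff_exists_ne_zero.2 ⟨_, he⟩)
    obtain ⟨c, rfl⟩ := (finrank_eq_one_iff_of_nonzero' _ he).1 hfr z
    rw [map_smul, h1, smul_zero]

end Groth.Agent.S14416
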