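import Groth.Statements.S14418
import Mathlib.Algebra.Category.ModuleCat.Basic
import Mathlib.Algebra.Category.ModuleCat.EpiMono
import Mathlib.Algebra.Homology.ShortComplex.ModuleCat
import Mathlib.RingTheory.Nakayama
import Mathlib.RingTheory.Noetherian.Basic

set_option autoImplicit false
set_option backward.isDefEq.respectTransparency false
set_option linter.style.haveILetI false
universe u
open CategoryTheory
open CAlg

namespace Groth.Agent.S14418

open CategoryTheory

/-- The short complex of two composable linear maps. -/
abbrev mkSC {R : Type u} [CommRing R] {M N P : Type u} [AddCommGroup M] [Module R M] [AddCommGroup N] [Module R N]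
    [AddCommGroup P] [Module R P] (f : M →ₗ[R] N) (g : N →ₗ[R] P) (h : LinearMap.range f = LinearMap.ker g) :
    ShortComplex (ModuleCat.{u} R) :=
  ShortComplex.moduleCatMk f g (LinearMap.range_le_ker_iff.mp h.le)

theorem shortExact_mk {R : Type u} [CommRing R] {M N P : Type u} [AddCommGroup M] [Module R M] [AddCommGroup N] [Module R N]
    [AddCommGroup P] [Module R P] (f : M →ₗ[R] N) (g : N →ₗ[R] P) (hf : Function.Injective f)
    (hg : Function.Surjective g) (h : LinearMap.range f = LinearMap.ker g) : (mkSC f g h).ShortExact :=
  ShortComplex.ShortExact.mk' ((ShortComplex.moduleCat_exact_iff_range_eq_ker _).mpr h)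
    ((ModuleCat.mono_iff_injective _).mpr hf) ((ModuleCat.epi_iff_surjective _).mpr hg)


/-- Let B → A be a local homomorphism of Noetherian local rings, n the maximal ideal of B, and T an
additive functor from B-modules to A-modules which is B-linear (T applied to multiplication by b ∈ B
is multiplication by the image of b in A), carries finitely generated B-modules to finitely
generated A-modules, and is half-exact on finitely generated modules (every short exact sequence of
finitely generated B-modules goes to a sequence exact at its middle term). If T(B/n) = 0 then T(N) =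
0 for every finitely generated B-module N. (The published statement takes T defined on finitely
generated modules only; here T is defined on all B-modules while every hypothesis and the conclusion
concern finitely generated modules.) -/
theorem result {B A : Type u} [CommRing B] [CommRing A]
    [IsNoetherianRing B] [IsLocalRing B] [IsNoetherianRing A] [IsLocalRing A] [Algebra B A]
    [IsLocalHom (algebraMap B A)] (T : ModuleCat.{u} B ⥤ ModuleCat.{u} A) [T.Additive]
    (hlin : ∀ (N : ModuleCat.{u} B) (b : B),
      T.map (ModuleCat.ofHom (b • (LinearMap.id : N →ₗ[B] N))) =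
        ModuleCat.ofHom (algebraMap B A b • (LinearMap.id : T.obj N →ₗ[A] T.obj N)))
    (hfin : ∀ N : ModuleCat.{u} B, Module.Finite B N → Module.Finite A (T.obj N))
    (hex : ∀ S : ShortComplex (ModuleCat.{u} B), S.ShortExact → Module.Finite B S.X₁ →
      Module.Finite B S.X₂ → Module.Finite B S.X₃ → (S.map T).Exact)
    (h0 : Limits.IsZero (T.obj (ModuleCat.of B (B ⧸ IsLocalRing.maximalIdeal B))))
    (N : ModuleCat.{u} B) [Module.Finite B N] : Limits.IsZero (T.obj N) := by
  classical
  have sand : ∀ S : ShortComplex (ModuleCat.{u} B), S.ShortExact → Module.Finite B S.X₂ →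
      Limits.IsZero (T.obj S.X₁) → Limits.IsZero (T.obj S.X₃) → Limits.IsZero (T.obj S.X₂) := by
    intro S hS h2 h1 h3
    haveI := h2
    haveI := hS.mono_f
    haveI := hS.epi_g
    have f1 : Module.Finite B S.X₁ := Module.Finite.of_injective S.f.hom ((ModuleCat.mono_iff_injective _).mp inferInstance)
    have f3 : Module.Finite B S.X₃ := Module.Finite.of_surjective S.g.hom ((ModuleCat.epi_iff_surjective _).mp inferInstance)
    exact (hex S hS f1 h2 f3).isZero_of_both_zeros (h1.eq_of_src _ _) (h3.eq_of_tgt _ _)
  have congrZ : ∀ (X Y : ModuleCat.{u} B), (X ≅ Y) → Limits.IsZero (T.obj X) → Limits.IsZero (T.obj Y) :=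
    fun X Y e h => h.of_iso (T.mapIso e).symm
  have main : ∀ K : Submodule B N, Limits.IsZero (T.obj (ModuleCat.of B (N ⧸ K))) := by
    intro K
    induction K using IsNoetherian.induction (R := B) (M := N) with
    | hgt K ih =>
      let Q := N ⧸ K
      -- proper quotients of `Q` are killed
      have hq : ∀ L : Submodule B Q, L ≠ ⊥ → Limits.IsZero (T.obj (ModuleCat.of B (Q ⧸ L))) := by
        intro L hL
        let K' := L.comap K.mkQ
        have hKK' : K ≤ K' := fun x hx => by
          show K.mkQ x ∈ L
          rw [Submodule.mkQ_apply, (Submodule.Quotient.mk_eq_zero K).mpr hx]; exact zero_mem L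
        have hlt : K < K' := by
          refine lt_of_le_of_ne hKK' fun h => hL ?_
          rw [← Submodule.map_comap_eq_of_surjective K.mkQ_surjective L]
          show K'.map K.mkQ = ⊥
          rw [← h, Submodule.mkQ_map_self]
        have e : (Q ⧸ K'.map K.mkQ) ≃ₗ[B] N ⧸ K' := Submodule.quotientQuotientEquivQuotient K K' hKK'
        refine congrZ _ _ (LinearEquiv.toModuleIso ?_).symm (ih K' hlt)
        exact (Submodule.quotEquivOfEq _ _ (Submodule.map_comap_eq_of_surjective K.mkQ_surjective L).symm).trans e
      by_cases hm : ∀ b ∈ IsLocalRing.maximalIdeal B, ∀ x : Q, b • x = 0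
      · by_cases hQ : ∀ x : Q, x = 0
        · haveI : Subsingleton Q := ⟨fun x y => (hQ x).trans (hQ y).symm⟩
          exact T.map_isZero (ModuleCat.isZero_of_subsingleton (ModuleCat.of B Q))
        · push Not at hQ
          obtain ⟨x, hx⟩ := hQ
          let g : (B ⧸ IsLocalRing.maximalIdeal B) →ₗ[B] Q :=
            Submodule.liftQ _ (LinearMap.toSpanSingleton B Q x) fun b hb => hm b hb x
          have hg : Function.Injective g := by
            rw [← LinearMap.ker_eq_bot, Submodule.eq_bot_iff]
            intro z hz
            obtain ⟨b, rfl⟩ := Submodule.mkQ_surjective _ z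
            rw [Submodule.mkQ_apply, Submodule.Quotient.mk_eq_zero]
            by_contra hb
            have hu : IsUnit b := not_not.mp fun h => hb ((IsLocalRing.mem_maximalIdeal b).mpr h)
            exact hx (hu.smul_eq_zero.mp (show b • x = 0 from hz))
          have hL : LinearMap.range g ≠ ⊥ := fun h => hx (by
            have : g (Submodule.Quotient.mk 1) ∈ LinearMap.range g := ⟨_, rfl⟩
            rw [h, Submodule.mem_bot] at this
            rw [show g (Submodule.Quotient.mk 1) = x from one_smul B x] at this
            exact this)
          exact sand _ (shortExact_mk g (LinearMap.range g).mkQ hg (Submodule.mkQ_surjective _) (Submodule.ker_mkQ _).symm)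
            (inferInstanceAs (Module.Finite B Q)) h0 (hq _ hL)
      · push Not at hm
        obtain ⟨b, hb, x, hx⟩ := hm
        let μ : Q →ₗ[B] Q := b • LinearMap.id
        have hR : LinearMap.range μ ≠ ⊥ := fun h => hx (by
          have : μ x ∈ LinearMap.range μ := ⟨x, rfl⟩
          rw [h, Submodule.mem_bot] at this
          exact this)
        have hz3 := hq _ hR
        by_cases hker : LinearMap.ker μ = ⊥
        · have hS := shortExact_mk μ (LinearMap.range μ).mkQ (LinearMap.ker_eq_bot.mp hker) (Submodule.mkQ_surjective _)
            (Submodule.ker_mkQ _).symm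
          set S := mkSC μ (LinearMap.range μ).mkQ (Submodule.ker_mkQ _).symm
          have he := hex S hS (inferInstanceAs (Module.Finite B Q)) (inferInstanceAs (Module.Finite B Q))
            (inferInstanceAs (Module.Finite B (Q ⧸ LinearMap.range μ)))
          haveI := he.epi_f (hz3.eq_of_tgt _ _)
          have hsur : Function.Surjective (T.map (ModuleCat.ofHom μ)).hom :=
            (ModuleCat.epi_iff_surjective _).mp (show Epi (T.map S.f) from inferInstanceAs (Epi (S.map T).f))
          rw [hlin (ModuleCat.of B Q) b] at hsur
          haveI := hfin (ModuleCat.of B Q) (inferInstanceAs (Module.Finite B Q))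
          have htop : (⊤ : Submodule A (T.obj (ModuleCat.of B Q))) = ⊥ := by
            refine Submodule.eq_bot_of_le_smul_of_le_jacobson_bot (Ideal.span {algebraMap B A b}) _
              Module.Finite.fg_top (fun y _ => ?_) ?_
            · obtain ⟨z, rfl⟩ := hsur y
              exact Submodule.smul_mem_smul (Ideal.mem_span_singleton_self _) trivial
            · rw [Ideal.span_le, Set.singleton_subset_iff, SetLike.mem_coe]
              refine IsLocalRing.maximalIdeal_le_jacobson _ ?_
              exact (map_mem_nonunits_iff _ _).mpr hb
          haveI : Subsingleton (T.obj (ModuleCat.of B Q)) := ⟨fun y z => by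
            have hy : y ∈ (⊤ : Submodule A (T.obj (ModuleCat.of B Q))) := trivial
            have hz : z ∈ (⊤ : Submodule A (T.obj (ModuleCat.of B Q))) := trivial
            rw [htop, Submodule.mem_bot] at hy hz
            rw [hy, hz]⟩
          exact ModuleCat.isZero_of_subsingleton _
        · exact sand _ (shortExact_mk (LinearMap.range μ).subtype (LinearMap.range μ).mkQ Subtype.val_injective
            (Submodule.mkQ_surjective _) ((Submodule.range_subtype _).trans (Submodule.ker_mkQ _).symm))
            (inferInstanceAs (Module.Finite B Q)) (congrZ _ _ μ.quotKerEquivRange.toModuleIso (hq _ hker)) hz3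
  exact congrZ _ _ (Submodule.quotEquivOfEqBot ⊥ rfl).toModuleIso (main ⊥)

end Groth.Agent.S14418
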