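import Groth.Statements.S1442
import Groth.Agent.Pinch.Charts

set_option autoImplicit false
universe u
open FlatMor

open CategoryTheory Limits AlgebraicGeometry Groth.Agent
set_option backward.isDefEq.respectTransparency false
namespace Groth.Agent.S1442

open AlgebraicGeometry CategoryTheory Limits in
/-- Let i : Z → X be a closed immersion and j : Z → Y an integral morphism such that for each point y of
Y the fibre of j over y is contained in the preimage of some affine open of X. Then for each y there
are affine opens U of X and V of Y with y ∈ V and with the same preimage in Z. -/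
theorem result {X Y Z : Scheme.{u}} (i : Z ⟶ X) [IsClosedImmersion i] (j : Z ⟶ Y) [IsIntegralHom j]
    (h : ∀ y : Y, ∃ U : X.Opens, IsAffineOpen U ∧ j ⁻¹' {y} ⊆ (i ⁻¹ᵁ U : Set ↑Z)) (y : Y) :
    ∃ (U : X.Opens) (V : Y.Opens), IsAffineOpen U ∧ IsAffineOpen V ∧ y ∈ V ∧ i ⁻¹ᵁ U = j ⁻¹ᵁ V := by
  obtain ⟨U, V, hUV, hy⟩ := Pinch.hasCharts_of_integral i j (fun y => by
    obtain ⟨U, hU, hyU⟩ := h y
    exact ⟨U, hU, fun z hz => hyU hz⟩) y
  exact ⟨U, V, hUV.affX, hUV.affY, hy, hUV.sat⟩

end Groth.Agent.S1442
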