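import Groth.Statements.S14420
import Groth.Agent.LocH.DepthExt
import Groth.Agent.LocH.DepthPrimes
import Groth.Agent.LocH.AdjDepthChange
import Mathlib
-- import your own Groth.Agent.* helpers here

set_option autoImplicit false
universe u
open CategoryTheory
open LocCoh

namespace Groth.Agent.S14420

/-- Let A be a Noetherian local ring and M, N nonzero finitely generated A-modules. Then Ext^i_A(N, M) =
0 for all i < depth M − dim Supp N. Here depth M = d and the Krull dimension of the support of N = r
are given as natural numbers and the conclusion is stated for every i with i + r < d. -/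
theorem result (A : Type u) [CommRing A] [IsNoetherianRing A]
    [IsLocalRing A] (M N : Type u) [AddCommGroup M] [Module A M] [AddCommGroup N] [Module A N]
    [Module.Finite A M] [Module.Finite A N] [Nontrivial M] [Nontrivial N]
    (d r i : ℕ) (hd : LocCoh.depth A M = d) (hr : Module.supportDim A N = r) (hi : i + r < d) :
    Subsingleton (Abelian.Ext (ModuleCat.of A N) (ModuleCat.of A M) i) := by
  let J : Ideal A := Module.annihilator A N
  let m := IsLocalRing.maximalIdeal A
  have hNT : LocCoh.IsPowerTorsion J N := fun x => ⟨1, fun a ha => Module.mem_annihilator.1 (show a ∈ J by simpa using ha) x⟩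
  have hiu : ∀ r : A, r ∉ m → IsUnit r := fun r hr => IsLocalRing.notMem_maximalIdeal.1 hr
  have : IsLocalizedModule m.primeCompl (LinearMap.id : M →ₗ[A] M) :=
    { map_units := fun x => by
        obtain ⟨u, hu⟩ := hiu x x.2
        rw [← hu]
        exact (Units.map (algebraMap A (Module.End A M)).toMonoidHom u).isUnit
      surj := fun y => ⟨⟨y, 1⟩, one_smul _ y⟩
      exists_of_eq := fun {x y} e => ⟨1, congrArg _ e⟩ }
  have hm : LocCoh.depth A M = LocCoh.depth (Localization.AtPrime m) (LocalizedModule m.primeCompl M) :=
    Groth.Agent.LocH.depth_eq_of_isLocalizedModule M m A (fun x => by simpa using hiu x x.2)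
      (fun a => ⟨a, 1, by simp⟩) M LinearMap.id
  have hdep : ((i + 1 : ℕ) : ℕ∞) ≤ LocCoh.idealDepth J M := by
    rw [Groth.Agent.LocH.le_idealDepth_iff_forall_prime]
    intro p hp
    have hpm : p.asIdeal ≤ m := IsLocalRing.le_maximalIdeal p.isPrime.ne_top
    have hdim : ringKrullDim (A ⧸ p.asIdeal) ≤ (r : WithBot ℕ∞) :=
      (ringKrullDim_le_of_surjective (Ideal.Quotient.factor hp) (Ideal.Quotient.factor_surjective hp)).trans
        (Module.supportDim_eq_ringKrullDim_quotient_annihilator A N ▸ hr.le)
    have hne : m.map (Ideal.Quotient.mk p.asIdeal) ≠ ⊤ := by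
      refine (Ideal.map_isPrime_of_surjective Ideal.Quotient.mk_surjective ?_).ne_top
      rwa [Ideal.mk_ker]
    have hht : (m.map (Ideal.Quotient.mk p.asIdeal)).height ≤ (r : ℕ∞) :=
      WithBot.coe_le_coe.1 ((Ideal.height_le_ringKrullDim_of_ne_top hne).trans hdim)
    have h := Groth.Agent.LocH.depth_localization_le M r p.asIdeal m hpm hht
    rw [← hm, hd] at h
    generalize LocCoh.depth (Localization.AtPrime p.asIdeal) (LocalizedModule p.asIdeal.primeCompl M) = e at h ⊢
    induction e with
    | top => exact le_top
    | coe e => exact_mod_cast (by have : d ≤ e + r := (by exact_mod_cast h); omega : i + 1 ≤ e)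
  exact Groth.Agent.LocH.ext_subsingleton_of_H (I := J) (ModuleCat.of A N) hNT i (ModuleCat.of A M) fun j hj =>
    (Groth.Agent.LocH.le_idealDepth_iff J M (i + 1)).1 hdep j (by omega)

end Groth.Agent.S14420
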