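import Groth.Statements.S14421
import Mathlib


set_option autoImplicit false
universe u v
open CategoryTheory
open HomAlg

namespace Groth.Agent.S14421

/-- Let φ : K → J be a morphism of cochain complexes of modules over a ring which is surjective in
degree p − 1. Then the map induced on cohomology in degree p is surjective if and only if the map
induced on cocycles in degree p is surjective. (Stated for cochain complexes indexed by the
integers; the published statement is for three-term complexes in degrees p − 1, p, p + 1, which
embed as such complexes.) -/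
theorem result {R : Type u} [Ring R]
    (K J : CochainComplex (ModuleCat.{v} R) ℤ) (φ : K ⟶ J) (p : ℤ) [Epi (φ.f (p - 1))] :
    Epi (HomologicalComplex.homologyMap φ p) ↔ Epi (HomologicalComplex.cyclesMap φ p) := by
  refine ⟨fun h => ?_, fun h => ?_⟩
  · have hp : (ComplexShape.up ℤ).prev p = p - 1 := CochainComplex.prev ℤ p
    have hφ := (ModuleCat.epi_iff_surjective (φ.f (p - 1))).1 inferInstance
    rw [ModuleCat.epi_iff_surjective] at h ⊢
    intro z
    obtain ⟨c, hc⟩ := h ((J.homologyπ p).hom z)
    obtain ⟨a, rfl⟩ := (ModuleCat.epi_iff_surjective (K.homologyπ p)).1 inferInstance c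
    have h0 : (J.homologyπ p).hom ((HomologicalComplex.cyclesMap φ p).hom a - z) = 0 := by
      rw [map_sub, sub_eq_zero, ← hc]
      exact (congr($(HomologicalComplex.homologyπ_naturality φ p).hom a)).symm
    have hex : (ShortComplex.mk (J.toCycles (p - 1) p) (J.homologyπ p) (by simp)).Exact :=
      ShortComplex.exact_of_g_is_cokernel _ (J.homologyIsCokernel (p - 1) p hp)
    rw [ShortComplex.moduleCat_exact_iff] at hex
    obtain ⟨b, hb⟩ := hex _ h0
    obtain ⟨b', rfl⟩ := hφ b
    refine ⟨a - (K.toCycles (p - 1) p).hom b', ?_⟩
    have e : (HomologicalComplex.cyclesMap φ p).hom ((K.toCycles (p - 1) p).hom b') =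
        (J.toCycles (p - 1) p).hom ((φ.f (p - 1)).hom b') :=
      congr($(show K.toCycles (p - 1) p ≫ HomologicalComplex.cyclesMap φ p = φ.f (p - 1) ≫ J.toCycles (p - 1) p by
        rw [← cancel_mono (J.iCycles p)]; simp).hom b')
    rw [map_sub, e, hb]
    abel
  · have : Epi (K.homologyπ p ≫ HomologicalComplex.homologyMap φ p) := by
      rw [HomologicalComplex.homologyπ_naturality]
      infer_instance
    exact epi_of_epi (K.homologyπ p) _

end Groth.Agent.S14421
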