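import Groth.Statements.S6313
import Groth.Agent.S12205
import Groth.Agent.DRingKP.Tor
import Mathlib.RingTheory.Flat.Basic

set_option autoImplicit false
universe u
open CategoryTheory
open CAlg Groth.Agent

namespace Groth.Agent.S6313

open TensorProduct

/-- injectivity for one projective presentation gives it for every other one -/
theorem injective_transfer {R : Type u} [CommRing R] {R' N F₀ F : Type u} [AddCommGroup R'] [Module R R'] [AddCommGroup N] [Module R N] [AddCommGroup F₀] [Module R F₀]
    [AddCommGroup F] [Module R F] [Module.Projective R F] [Module.Projective R F₀]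
    (π₀ : F₀ →ₗ[R] N) (h₀ : Function.Surjective π₀)
    (hinj : Function.Injective ((LinearMap.ker π₀).subtype.lTensor R'))
    (π : F →ₗ[R] N) (hπ : Function.Surjective π) :
    Function.Injective ((LinearMap.ker π).subtype.lTensor R') := by
  obtain ⟨h, hh⟩ := Module.projective_lifting_property π₀ π h₀
  obtain ⟨l, hl⟩ := Module.projective_lifting_property π π₀ hπ
  let hK : LinearMap.ker π →ₗ[R] LinearMap.ker π₀ := (h ∘ₗ (LinearMap.ker π).subtype).codRestrict _
    fun x => LinearMap.mem_ker.2 ((LinearMap.congr_fun hh x.1).trans x.2)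
  let lK : LinearMap.ker π₀ →ₗ[R] LinearMap.ker π := (l ∘ₗ (LinearMap.ker π₀).subtype).codRestrict _
    fun x => LinearMap.mem_ker.2 ((LinearMap.congr_fun hl x.1).trans x.2)
  let d : F →ₗ[R] LinearMap.ker π := (LinearMap.id - l ∘ₗ h).codRestrict _ fun v => LinearMap.mem_ker.2 (by
    show π (v - l (h v)) = 0
    rw [map_sub, ← LinearMap.comp_apply, hl, ← LinearMap.comp_apply, hh, sub_self])
  have hid : d ∘ₗ (LinearMap.ker π).subtype + lK ∘ₗ hK = LinearMap.id :=
    LinearMap.ext fun x => Subtype.ext (by simp [d, lK, hK])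
  rw [← LinearMap.ker_eq_bot, LinearMap.ker_eq_bot']
  intro x hx
  have h1 : hK.lTensor R' x = 0 := by
    refine hinj ?_
    rw [map_zero, ← LinearMap.comp_apply, ← LinearMap.lTensor_comp,
      show (LinearMap.ker π₀).subtype ∘ₗ hK = h ∘ₗ (LinearMap.ker π).subtype from rfl,
      LinearMap.lTensor_comp, LinearMap.comp_apply, hx, map_zero]
  calc x = (d ∘ₗ (LinearMap.ker π).subtype + lK ∘ₗ hK).lTensor R' x := by
        rw [hid, LinearMap.lTensor_id]; rfl
    _ = 0 := by simp [LinearMap.lTensor_add, LinearMap.lTensor_comp, hx, h1]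

/-- For a ring R and an R-module M, flatness of M over R is equivalent to the vanishing of Tor₁ᴿ(M, R/I)
for every finitely generated ideal I ⊆ R. -/
theorem result (R : Type u) [CommRing R] (M : Type u) [AddCommGroup M] [Module R M] : Module.Flat R M ↔ ∀ I : Ideal R, I.FG → Limits.IsZero (((CategoryTheory.Tor (ModuleCat.{u} R) 1).obj (ModuleCat.of R M)).obj (ModuleCat.of R (R ⧸ I))) := by
  constructor
  · intro h I _
    have h1 : DRing.HasTorDimLE R 0 M := (DRingKP.hasTorDimLE_iff M 0).2 (by simpa using (DRingKP.amp_zero_iff_flat M).2 h)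
    haveI := h1 (R ⧸ I) 1 Nat.one_pos
    exact ModuleCat.isZero_of_subsingleton _
  · intro h
    rw [Module.Flat.iff_lTensor_injective]
    intro I hI
    obtain ⟨F, _, _, π, hF, hπ, hiff⟩ := S12205.exists_presentation (R := R) (M := R ⧸ I)
    have h1 := (hiff M).1 (h I hI)
    let mk' : R →ₗ[R] R ⧸ I := (Ideal.Quotient.mkₐ R I).toLinearMap
    have h2 := injective_transfer π hπ h1 mk' Ideal.Quotient.mk_surjective
    have hker : LinearMap.ker mk' = I := by
      ext a
      exact Ideal.Quotient.eq_zero_iff_mem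
    let e := LinearEquiv.ofEq _ _ hker
    have h3 : I.subtype.lTensor M = (LinearMap.ker mk').subtype.lTensor M ∘ₗ (LinearEquiv.lTensor M e.symm).toLinearMap := by
      rw [LinearEquiv.coe_lTensor, ← LinearMap.lTensor_comp]
      rfl
    rw [h3]
    exact h2.comp (LinearEquiv.injective _)

end Groth.Agent.S6313
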