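import Groth.Statements.S14423
import Groth.Agent.S6313
import Mathlib

set_option autoImplicit false
universe u
open CategoryTheory
open CAlg

namespace Groth.Agent.S14423

/-- Graded freeness criterion: let k be a field, S = k[x_0, …, x_n] with its standard grading by degree,
and M a finitely generated graded S-module. If Tor_1^S(M, k) = 0, where k = S/S_+ (S modulo the
ideal of polynomials with zero constant term) and Tor_1^S(M, ·) is the first left derived functor of
M ⊗_S ·, then M is free with a basis of homogeneous elements, i.e. M is isomorphic as a graded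
module to a finite direct sum of shifted copies S(−d_i). (Here the module is graded in non-negative
degrees; the published statement allows any integer degrees.) -/
theorem result (k : Type u) [Field k] (n : ℕ)
    (M : Type u) [AddCommGroup M] [Module (MvPolynomial (Fin (n + 1)) k) M]
    [Module.Finite (MvPolynomial (Fin (n + 1)) k) M]
    (ℳ : ℕ → AddSubgroup M)
    [SetLike.GradedSMul (MvPolynomial.homogeneousSubmodule (Fin (n + 1)) k) ℳ]
    [DirectSum.Decomposition ℳ]
    (h : Limits.IsZero (((Tor (ModuleCat.{u} (MvPolynomial (Fin (n + 1)) k)) 1).obj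
      (ModuleCat.of (MvPolynomial (Fin (n + 1)) k) M)).obj
      (ModuleCat.of (MvPolynomial (Fin (n + 1)) k)
        (MvPolynomial (Fin (n + 1)) k ⧸
          RingHom.ker (MvPolynomial.constantCoeff : MvPolynomial (Fin (n + 1)) k →+* k))))) :
    ∃ (ι : Type u) (b : Module.Basis ι (MvPolynomial (Fin (n + 1)) k) M),
      ∀ i, SetLike.IsHomogeneousElem ℳ (b i) := by
  classical
  set m : Ideal (MvPolynomial (Fin (n + 1)) k) :=
    RingHom.ker (MvPolynomial.constantCoeff : MvPolynomial (Fin (n + 1)) k →+* k) with hm
  haveI hmax : m.IsMaximal := RingHom.ker_isMaximal_of_surjective _ fun c => ⟨MvPolynomial.C c, MvPolynomial.constantCoeff_C _ c⟩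
  -- Tor vanishing as injectivity
  have htor : Function.Injective ((m.subtype).lTensor M) := by
    obtain ⟨F, _, _, π, hF, hπ, hiff⟩ := Groth.Agent.S12205.exists_presentation
      (R := MvPolynomial (Fin (n + 1)) k) (M := MvPolynomial (Fin (n + 1)) k ⧸ m)
    let mk' := (Ideal.Quotient.mkₐ (MvPolynomial (Fin (n + 1)) k) m).toLinearMap
    have h2 := Groth.Agent.S6313.injective_transfer π hπ ((hiff M).1 h) mk' Ideal.Quotient.mk_surjective
    have hker : LinearMap.ker mk' = m := Submodule.ext fun a => Ideal.Quotient.eq_zero_iff_mem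
    rw [show (m.subtype).lTensor M = (LinearMap.ker mk').subtype.lTensor M ∘ₗ
        (LinearEquiv.lTensor M (LinearEquiv.ofEq _ _ hker).symm).toLinearMap by
      rw [LinearEquiv.coe_lTensor, ← LinearMap.lTensor_comp]; rfl]
    exact h2.comp (LinearEquiv.injective _)
  -- components of products with polynomials
  have hcomp : ∀ (a : MvPolynomial (Fin (n + 1)) k) (j d : ℕ) (z : M), z ∈ ℳ j →
      (DirectSum.decompose ℳ (a • z) d : M) =
        if j ≤ d then MvPolynomial.homogeneousComponent (d - j) a • z else 0 := by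
    intro a j d z hz
    conv_lhs => rw [← MvPolynomial.sum_homogeneousComponent a, Finset.sum_smul, DirectSum.decompose_sum,
      DFinsupp.finsetSum_apply, AddSubmonoidClass.coe_finsetSum]
    have hmem : ∀ i, MvPolynomial.homogeneousComponent i a • z ∈ ℳ (i + j) := fun i =>
      SetLike.GradedSMul.smul_mem (A := MvPolynomial.homogeneousSubmodule (Fin (n + 1)) k)
        (MvPolynomial.homogeneousComponent_mem i a) hz
    by_cases hjd : j ≤ d
    · rw [if_pos hjd]
      rw [Finset.sum_eq_single (d - j)]
      · exact DirectSum.decompose_of_mem_same ℳ (by simpa [Nat.sub_add_cancel hjd] using hmem (d - j))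
      · exact fun i _ hi => DirectSum.decompose_of_mem_ne ℳ (hmem i) (by omega)
      · intro hnot
        rw [Finset.mem_range, not_lt] at hnot
        rw [MvPolynomial.homogeneousComponent_eq_zero _ _ hnot, zero_smul, DirectSum.decompose_zero]
        rfl
    · rw [if_neg hjd]
      exact Finset.sum_eq_zero fun i _ => DirectSum.decompose_of_mem_ne ℳ (hmem i) (by omega)
  -- a homogeneous lift of a basis of `M ⧸ m M`
  letI : Field (MvPolynomial (Fin (n + 1)) k ⧸ m) := Ideal.Quotient.field m
  let H : Set M := {z | SetLike.IsHomogeneousElem ℳ z}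
  let q : M → M ⧸ m • (⊤ : Submodule (MvPolynomial (Fin (n + 1)) k) M) := Submodule.Quotient.mk
  obtain ⟨b, hbH, hbspan, hbli⟩ := exists_linearIndependent (MvPolynomial (Fin (n + 1)) k ⧸ m) (q '' H)
  have hlift : ∀ v : b, ∃ z ∈ H, q z = v := fun v => hbH v.2
  choose x hxH hxq using hlift
  choose deg hdeg using fun v => (hxH v)
  let N : Submodule (MvPolynomial (Fin (n + 1)) k) M := Submodule.span _ (Set.range x)
  have hMN : ∀ z : M, z ∈ N ⊔ m • ⊤ := by
    have hH : ∀ z ∈ H, z ∈ N ⊔ m • ⊤ := by
      intro z hz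
      have h1 : q z ∈ Submodule.span (MvPolynomial (Fin (n + 1)) k) b := by
        have h2 : q z ∈ Submodule.span (MvPolynomial (Fin (n + 1)) k ⧸ m) b :=
          hbspan.symm ▸ Submodule.subset_span ⟨z, hz, rfl⟩
        rwa [← Submodule.restrictScalars_span (MvPolynomial (Fin (n + 1)) k) (MvPolynomial (Fin (n + 1)) k ⧸ m) (Ideal.Quotient.mk_surjective (I := m)),
          Submodule.restrictScalars_mem]
      have hb : b ⊆ q '' (Set.range x) := fun v hv => ⟨x ⟨v, hv⟩, ⟨_, rfl⟩, hxq ⟨v, hv⟩⟩
      have h3 : q z ∈ N.map (Submodule.mkQ (m • (⊤ : Submodule (MvPolynomial (Fin (n + 1)) k) M))) := by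
        rw [Submodule.map_span]
        exact Submodule.span_mono hb h1
      obtain ⟨w, hw, hwz⟩ := h3
      rw [Submodule.mkQ_apply, Submodule.Quotient.eq] at hwz
      exact Submodule.mem_sup.2 ⟨w, hw, z - w, by rw [← neg_sub]; exact Submodule.neg_mem _ hwz, add_sub_cancel _ _⟩
    intro z
    rw [← DirectSum.sum_support_decompose ℳ z]
    exact Submodule.sum_mem _ fun d _ => hH _ ⟨d, SetLike.coe_mem _⟩
  have hNhom : ∀ z ∈ N, ∀ d, (DirectSum.decompose ℳ z d : M) ∈ N := by
    intro z hz d
    obtain ⟨c, rfl⟩ := (Finsupp.mem_span_range_iff_exists_finsupp).1 hz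
    rw [Finsupp.sum, DirectSum.decompose_sum, DFinsupp.finsetSum_apply, AddSubmonoidClass.coe_finsetSum]
    refine Submodule.sum_mem _ fun v _ => ?_
    rw [hcomp _ _ _ _ (hdeg v)]
    split_ifs
    · exact Submodule.smul_mem _ _ (Submodule.subset_span ⟨v, rfl⟩)
    · exact N.zero_mem
  have hN : ∀ d : ℕ, ∀ z ∈ ℳ d, z ∈ N := by
    intro d
    induction d using Nat.strong_induction_on with
    | _ d ih =>
      intro z hz
      obtain ⟨w, hw, r, hr, hwr⟩ := Submodule.mem_sup.1 (hMN z)
      rw [← DirectSum.decompose_of_mem_same ℳ hz, ← hwr, DirectSum.decompose_add, DirectSum.add_apply,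
        AddMemClass.coe_add]
      refine N.add_mem (hNhom w hw d) ?_
      clear hwr
      refine Submodule.smul_induction_on (p := fun r => (DirectSum.decompose ℳ r d : M) ∈ N) hr
        (fun a ha t _ => ?_) (fun a b ha hb => ?_)
      rotate_left
      · rw [DirectSum.decompose_add, DirectSum.add_apply, AddMemClass.coe_add]
        exact N.add_mem ha hb
      ·
        rw [← DirectSum.sum_support_decompose ℳ t, Finset.smul_sum, DirectSum.decompose_sum,
          DFinsupp.finsetSum_apply, AddSubmonoidClass.coe_finsetSum]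
        refine Submodule.sum_mem _ fun j _ => ?_
        rw [hcomp a j d _ (SetLike.coe_mem _)]
        split_ifs with hj
        · rcases hj.lt_or_eq with hj' | hj'
          · exact N.smul_mem _ (ih j hj' _ (SetLike.coe_mem _))
          · subst hj'
            rw [Nat.sub_self, MvPolynomial.homogeneousComponent_zero, ← MvPolynomial.constantCoeff_eq,
              show MvPolynomial.constantCoeff a = 0 from ha, map_zero, zero_smul]
            exact N.zero_mem
        · exact N.zero_mem
  let φ : (b →₀ MvPolynomial (Fin (n + 1)) k) →ₗ[MvPolynomial (Fin (n + 1)) k] M :=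
    Finsupp.linearCombination (MvPolynomial (Fin (n + 1)) k) x
  have hφs : Function.Surjective φ := by
    intro z
    have hz : z ∈ N := by
      rw [← DirectSum.sum_support_decompose ℳ z]
      exact N.sum_mem fun d _ => hN d _ (SetLike.coe_mem _)
    exact Finsupp.mem_span_range_iff_exists_finsupp.1 hz
  have hKm : ∀ c, φ c = 0 → ∀ v, c v ∈ m := by
    intro c hc v
    have h0 : ∑ v ∈ c.support, Ideal.Quotient.mk m (c v) • (Subtype.val v) = 0 := by
      have := congrArg (Submodule.mkQ (m • (⊤ : Submodule (MvPolynomial (Fin (n + 1)) k) M))) hc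
      rw [map_zero, Finsupp.linearCombination_apply, Finsupp.sum, map_sum] at this
      rw [← this]
      refine Finset.sum_congr rfl fun v _ => ?_
      rw [← hxq v]
      rfl
    by_cases hv : v ∈ c.support
    · exact Ideal.Quotient.eq_zero_iff_mem.1 (linearIndependent_iff'.1 hbli _ _ h0 v hv)
    · rw [Finsupp.notMem_support_iff.1 hv]; exact m.zero_mem
  haveI hbfin : Finite b := hbli.finite
  let K := LinearMap.ker φ
  have hK : K ≤ m • K := by
    intro c hc
    let e : b → (b →₀ MvPolynomial (Fin (n + 1)) k) := fun v => Finsupp.single v 1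
    let t : TensorProduct (MvPolynomial (Fin (n + 1)) k) (b →₀ MvPolynomial (Fin (n + 1)) k) m :=
      ∑ v ∈ c.support, TensorProduct.tmul _ (e v) ⟨c v, hKm c hc v⟩
    have ht : φ.rTensor m t = 0 := by
      refine htor ?_
      refine (TensorProduct.rid (MvPolynomial (Fin (n + 1)) k) M).injective ?_
      rw [map_zero, map_zero, map_sum, map_sum, map_sum]
      simp only [LinearMap.rTensor_tmul, LinearMap.lTensor_tmul, TensorProduct.rid_tmul, Submodule.subtype_apply]
      rw [show (0 : M) = φ c from hc.symm, Finsupp.linearCombination_apply, Finsupp.sum]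
      exact Finset.sum_congr rfl fun v _ => by simp [e, φ]
    have hex : Function.Exact K.subtype φ := fun y =>
      ⟨fun hy => ⟨⟨y, hy⟩, rfl⟩, by rintro ⟨z, rfl⟩; exact z.2⟩
    obtain ⟨s, hs⟩ := (rTensor_exact (M := ↥K) ↥m hex hφs t).1 ht
    let μ : TensorProduct (MvPolynomial (Fin (n + 1)) k) (b →₀ MvPolynomial (Fin (n + 1)) k) m →ₗ[MvPolynomial (Fin (n + 1)) k]
        (b →₀ MvPolynomial (Fin (n + 1)) k) :=
      (TensorProduct.rid (MvPolynomial (Fin (n + 1)) k) _).toLinearMap ∘ₗ m.subtype.lTensor _
    have hμ : μ t = c := by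
      conv_rhs => rw [← Finsupp.sum_single c]
      simp [μ, t, e, Finsupp.sum]
    rw [← hμ, ← hs]
    clear hs hμ
    induction s with
    | zero => rw [map_zero, map_zero]; exact Submodule.zero_mem _
    | add a b ha hb => rw [map_add, map_add]; exact Submodule.add_mem _ ha hb
    | tmul a r =>
      show μ ((a : b →₀ MvPolynomial (Fin (n + 1)) k) ⊗ₜ r) ∈ _
      simp only [μ, LinearMap.comp_apply, LinearMap.lTensor_tmul, LinearEquiv.coe_coe, TensorProduct.rid_tmul,
        Submodule.subtype_apply]
      exact Submodule.smul_mem_smul r.2 a.2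
  obtain ⟨r, hr1, hr⟩ := Submodule.exists_sub_one_mem_and_smul_eq_zero_of_fg_of_le_smul m K
    (IsNoetherian.noetherian K) hK
  have hr0 : r ≠ 0 := by
    rintro rfl
    rw [zero_sub] at hr1
    exact hmax.ne_top ((Ideal.eq_top_iff_one m).2 (by simpa using m.neg_mem hr1))
  have hφi : Function.Injective φ := by
    rw [injective_iff_map_eq_zero]
    exact fun c hc => (smul_eq_zero.1 (hr c hc)).resolve_left hr0
  refine ⟨b, Module.Basis.ofRepr (LinearEquiv.ofBijective φ ⟨hφi, hφs⟩).symm, fun v => ⟨deg v, ?_⟩⟩
  have hv : (Module.Basis.ofRepr (LinearEquiv.ofBijective φ ⟨hφi, hφs⟩).symm) v = x v := by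
    show φ (Finsupp.single v 1) = x v
    exact (Finsupp.linearCombination_single _ _ _).trans (one_smul _ _)
  rw [hv]
  exact hdeg v

end Groth.Agent.S14423
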