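import Groth.Statements.S14425
import Mathlib
import Groth.Agent.LocH.DepthPrimes
-- import your own Groth.Agent.* helpers here

set_option autoImplicit false
universe u
open LocCoh

namespace Groth.Agent.S14425

/-- Let (R, m) be a Noetherian local ring, M a nonzero finitely generated R-module and x_1, …, x_n
elements of m generating the ideal a. Then depth(a, M) = n if and only if x_1, …, x_n is an
M-regular sequence (each x_i a non-zero-divisor on M/(x_1, …, x_{i-1})M; the condition (x)M ≠ M is
automatic here). -/
theorem result {R : Type u} [CommRing R] [IsNoetherianRing R] [IsLocalRing R]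
    {M : Type u} [AddCommGroup M] [Module R M] [Module.Finite R M] [Nontrivial M]
    (xs : List R) (hxs : ∀ x ∈ xs, x ∈ IsLocalRing.maximalIdeal R) :
    LocCoh.idealDepth (Ideal.span {x | x ∈ xs}) M = xs.length ↔ RingTheory.Sequence.IsWeaklyRegular M xs := by
  classical
  let I : List R → Ideal R := fun l => Ideal.span {x | x ∈ l}
  have hcd : ∀ (l : List R) (i : ℕ), l.length < i → Subsingleton (LocCoh.H (I l) i M) := fun l i hi => by
    have h := Groth.Agent.LocH.cdLE_card l.toFinset
    rw [show Ideal.span (l.toFinset : Set R) = I l by simp [I, List.coe_toFinset]] at h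
    exact h M i ((List.toFinset_card_le l).trans_lt hi)
  have hne : I xs • (⊤ : Submodule R M) ≠ ⊤ := fun h => top_ne_bot (α := Submodule R M)
    (Submodule.eq_bot_of_le_smul_of_le_jacobson_bot (I xs) (⊤ : Submodule R M) Module.Finite.fg_top h.ge
      ((Ideal.span_le.2 fun x hx => hxs x hx).trans (IsLocalRing.jacobson_eq_maximalIdeal (⊥ : Ideal R) bot_ne_top).ge))
  show LocCoh.idealDepth (I xs) M = _ ↔ _
  constructor
  · intro h
    have hv := (Groth.Agent.LocH.le_idealDepth_iff (I xs) M xs.length).1 h.ge
    clear h hne
    induction xs using List.reverseRecOn with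
    | nil => exact RingTheory.Sequence.IsWeaklyRegular.nil R M
    | append_singleton ys x ih =>
      have hsup : I (ys ++ [x]) = I ys ⊔ Ideal.span {x} := by
        show Ideal.span _ = Ideal.span _ ⊔ _
        rw [← Ideal.span_union]
        congr 1
        ext z
        simp
        try tauto
      have hxm : x ∈ IsLocalRing.maximalIdeal R := hxs x (by simp)
      have hlow := Groth.Agent.LocH.subsingleton_of_sup_span (I ys) (x := x)
        ((IsLocalRing.jacobson_eq_maximalIdeal (⊥ : Ideal R) bot_ne_top).ge hxm) M ys.length
        fun j hj => hsup ▸ hv j (by simp; omega)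
      have hys := ih (fun z hz => hxs z (by simp [hz])) hlow
      obtain ⟨rs', hlen, hreg, hmem⟩ := Groth.Agent.LocH.exists_isWeaklyRegular_append (I (ys ++ [x])) 1 ys M hys
        (fun r hr => Ideal.subset_span (by simp [hr])) fun i hi => hv i (by simpa using hi)
      obtain ⟨r, rfl⟩ := List.length_eq_one_iff.1 hlen
      rw [RingTheory.Sequence.isWeaklyRegular_append_iff] at hreg ⊢
      refine ⟨hys, ?_⟩
      rw [RingTheory.Sequence.isWeaklyRegular_cons_iff] at hreg ⊢
      refine ⟨?_, RingTheory.Sequence.IsWeaklyRegular.nil R _⟩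
      have hr := hmem r (by simp)
      rw [hsup] at hr
      obtain ⟨a, ha, b, hb, hab⟩ := Submodule.mem_sup.1 hr
      obtain ⟨c, rfl⟩ := Ideal.mem_span_singleton'.1 hb
      rw [isSMulRegular_iff_right_eq_zero_of_smul]
      intro z hz
      refine hreg.2.1.right_eq_zero_of_smul ?_
      have haz : a • z = 0 := by
        obtain ⟨w, rfl⟩ := Submodule.Quotient.mk_surjective _ z
        rw [← Submodule.Quotient.mk_smul, Submodule.Quotient.mk_eq_zero]
        exact Submodule.smul_mem_smul ha Submodule.mem_top
      rw [← hab, add_smul, haz, zero_add, mul_smul, hz, smul_zero]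
  · intro h
    obtain ⟨t, ht⟩ := ENat.ne_top_iff_exists.1 (Groth.Agent.LocH.idealDepth_ne_top hne)
    have hge : (xs.length : ℕ∞) ≤ LocCoh.idealDepth (I xs) M := (Groth.Agent.LocH.le_idealDepth_iff _ _ _).2
      fun i hi => Groth.Agent.LocH.subsingleton_of_isWeaklyRegular _ xs M h (fun r hr => Ideal.subset_span hr) i hi
    refine le_antisymm ?_ hge
    rw [← ht, Nat.cast_le]
    by_contra hlt
    exact not_subsingleton_iff_nontrivial.2 ((Groth.Agent.LocH.idealDepth_eq_iff t).1 ht.symm).2 (hcd xs t (not_le.1 hlt))

end Groth.Agent.S14425
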