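import Groth.Statements.S14426
import Groth.Agent.CechX.KoszulDepth
import Groth.Agent.LocH.Depth
import Mathlib
-- import your own Groth.Agent.* helpers here

set_option autoImplicit false
universe u
open Koszul3

namespace Groth.Agent.S14426

open CategoryTheory CategoryTheory.Limits in
/-- Let (R, m) be a Noetherian local ring, M a nonzero finitely generated R-module and x_1, …, x_n
elements of m generating the ideal a. Then depth(a, M) ≤ n; the Koszul cohomology H^p(x; M) vanishes
for every p < depth(a, M); and H^r(x; M) is nonzero for r = depth(a, M). (Cohomological indexing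
with H^n(x; M) = M/(x)M; in homological indexing this reads H_i = 0 for i > n − r and H_{n−r} ≠ 0.
Koszul complex realised by iterated mapping cones, as in the prelude.) -/
theorem result {R : Type u} [CommRing R] [IsNoetherianRing R] [IsLocalRing R]
    (M : Type u) [AddCommGroup M] [Module R M] [Module.Finite R M] [Nontrivial M]
    (xs : List R) (hxs : ∀ x ∈ xs, x ∈ IsLocalRing.maximalIdeal R) :
    LocCoh.idealDepth (Ideal.span {x | x ∈ xs}) M ≤ xs.length ∧
      (∀ p : ℕ, (p : ℕ∞) < LocCoh.idealDepth (Ideal.span {x | x ∈ xs}) M → IsZero (CohIII.koszulH xs (ModuleCat.of R M) p)) ∧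
      (∀ r : ℕ, LocCoh.idealDepth (Ideal.span {x | x ∈ xs}) M = r → ¬ IsZero (CohIII.koszulH xs (ModuleCat.of R M) r)) := by
  let I := Ideal.span {x | x ∈ xs}
  have hI : I ≤ IsLocalRing.maximalIdeal R := Ideal.span_le.2 fun x hx => hxs x hx
  have hIM : I • (⊤ : Submodule R M) ≠ ⊤ := fun h => by
    have := Submodule.eq_bot_of_le_smul_of_le_jacobson_bot I (⊤ : Submodule R M) Module.Finite.fg_top h.ge
      (hI.trans (IsLocalRing.maximalIdeal_le_jacobson _))
    exact top_ne_bot this
  have hK := Groth.Agent.CechX.koszul_of_isWeaklyRegular xs (R := R)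
  have vanish : ∀ p : ℕ, (p : ℕ∞) < LocCoh.idealDepth I M → IsZero (CohIII.koszulH xs (ModuleCat.of R M) p) := by
    intro p hp
    obtain ⟨rs, hlen, hreg, hmem⟩ := Groth.Agent.LocH.exists_isWeaklyRegular I (p + 1) M
      ((Groth.Agent.LocH.le_idealDepth_iff I M (p + 1)).1 (by
        have := Order.add_one_le_of_lt hp
        exact_mod_cast this))
    exact (hK rs (ModuleCat.of R M) hreg hmem).1 _ (by omega)
  refine ⟨?_, vanish, ?_⟩
  · by_contra h
    rw [not_le] at h
    obtain ⟨e⟩ := Groth.Agent.CechX.nonempty_top_equiv (ModuleCat.of R M) xs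
    have h0 := vanish xs.length h
    replace h0 : IsZero ((CohIII.koszulCx (ModuleCat.of R M) xs).homology 0) := sub_self (xs.length : ℤ) ▸ h0
    have : Subsingleton (M ⧸ (Ideal.ofList xs • (⊤ : Submodule R M))) := by
      have := ModuleCat.subsingleton_of_isZero h0
      exact e.symm.toEquiv.subsingleton
    exact hIM (Submodule.Quotient.subsingleton_iff.1 this)
  · intro r hr
    obtain ⟨rs, hlen, hreg, hmem⟩ := Groth.Agent.LocH.exists_isWeaklyRegular I r M
      ((Groth.Agent.LocH.le_idealDepth_iff I M r).1 hr.ge)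
    subst hlen
    refine (hK rs (ModuleCat.of R M) hreg hmem).2 ?_
    let Q := M ⧸ (Ideal.ofList rs • (⊤ : Submodule R M))
    have hQ : ¬ Subsingleton (LocCoh.H I 0 Q) := fun h0 => by
      obtain ⟨ys, hy, hyreg, hymem⟩ := Groth.Agent.LocH.exists_isWeaklyRegular I 1 Q fun i hi => by
        obtain rfl : i = 0 := by omega
        exact h0
      have hle : ((rs.length + 1 : ℕ) : ℕ∞) ≤ LocCoh.idealDepth I M := by
        rw [LocCoh.idealDepth, if_neg hIM]
        refine le_iSup₂_of_le (rs ++ ys) ⟨(RingTheory.Sequence.isWeaklyRegular_append_iff M rs ys).2 ⟨hreg, hyreg⟩,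
          fun a ha => (List.mem_append.1 ha).elim (hmem a) (hymem a)⟩ ?_
        rw [List.length_append, hy]
      rw [hr] at hle
      exact absurd (ENat.natCast_le_natCast.1 hle) (by omega)
    have hT : DRing.torsionSub I Q ≠ ⊥ := fun hb => hQ (by
      have e := ((Groth.Agent.LocH.zeroIso I).app (ModuleCat.of R Q)).toLinearEquiv
      have : Subsingleton ↑((DRing.gammaI I).obj (ModuleCat.of R Q)) :=
        ⟨fun a b => Subtype.ext (((Submodule.eq_bot_iff _).1 hb a.1 a.2).trans ((Submodule.eq_bot_iff _).1 hb b.1 b.2).symm)⟩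
      exact e.toEquiv.subsingleton)
    obtain ⟨q, hq, hq0⟩ := Submodule.exists_mem_ne_zero_of_ne_bot hT
    obtain ⟨n, hn⟩ := hq
    induction n generalizing q with
    | zero => exact absurd ((one_smul R q).symm.trans (hn 1 (by simp))) hq0
    | succ n ih =>
      by_cases hall : ∀ a ∈ I ^ n, a • q = 0
      · exact ih q hq0 hall
      · push Not at hall
        obtain ⟨a, ha, haq⟩ := hall
        exact ⟨a • q, haq, fun f hf => by
          rw [smul_smul]
          exact hn _ (by rw [pow_succ']; exact Ideal.mul_mem_mul (Ideal.subset_span hf) ha)⟩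

end Groth.Agent.S14426
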