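import Groth.Statements.S14427
import Groth.Agent.PlaneForms.Basic

set_option autoImplicit false
universe u
open CAlgX

namespace Groth.Agent.S14427

open Groth.Agent.PlaneForms MvPolynomial

/-- Let k be a field and Λ a set of n ≥ 3 nonzero vectors of k^3 which are pairwise linearly
independent, i.e. n distinct k-rational points of the projective plane. Then the space of
homogeneous forms of degree n − 1 in k[x_0, x_1, x_2] vanishing at every point of Λ — the global
sections of I_Λ(n − 1) — has dimension C(n+1, 2) − n over k, the same for all such Λ. (The published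
statement is over an algebraically closed field; this row allows any field and k-rational points,
which is all its argument uses.) -/
theorem result (k : Type u) [Field k] (n : ℕ) (hn : 3 ≤ n)
    (Λ : Finset (Fin 3 → k)) (hcard : Λ.card = n) (h0 : ∀ v ∈ Λ, v ≠ 0)
    (hdist : ∀ v ∈ Λ, ∀ w ∈ Λ, v ≠ w → LinearIndependent k ![v, w]) :
    Module.finrank k ↥(MvPolynomial.homogeneousSubmodule (Fin 3) k (n - 1) ⊓ ⨅ v ∈ Λ, LinearMap.ker (MvPolynomial.aeval v).toLinearMap) = Nat.choose (n + 1) 2 - n := by
  classical
  obtain ⟨hfin, hrank⟩ := finite_homogeneous_and_finrank (k := k) (σ := Fin 3) (n - 1)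
  haveI := hfin
  set H := homogeneousSubmodule (Fin 3) k (n - 1)
  let E : H →ₗ[k] (Λ → k) :=
    LinearMap.pi fun v : Λ => (MvPolynomial.aeval (v.1)).toLinearMap.comp H.subtype
  have hE : Function.Surjective E := by
    have hsingle : ∀ v : Λ, ∃ f : H, E f = Pi.single v 1 := by
      intro v
      choose l hl1 hl2 using fun w : {w // w ∈ Λ.erase v.1} =>
        exists_functional (notMem_span_singleton (hdist v.1 v.2 w.1
          (Finset.mem_of_mem_erase w.2) (Finset.ne_of_mem_erase w.2).symm))
      obtain ⟨f, hf, hfv⟩ := exists_form (Finset.univ : Finset {w // w ∈ Λ.erase v.1}) l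
      have hc : (Finset.univ : Finset {w // w ∈ Λ.erase v.1}).card = n - 1 := by
        rw [Finset.card_univ, Fintype.card_coe, Finset.card_erase_of_mem v.2, hcard]
      rw [hc] at hf
      refine ⟨(∏ w, l w v.1)⁻¹ • ⟨f, hf⟩, funext fun w => ?_⟩
      rw [map_smul, Pi.smul_apply]
      change _ • MvPolynomial.aeval w.1 f = _
      rw [hfv, smul_eq_mul]
      rcases eq_or_ne w v with rfl | hwv
      · rw [Pi.single_eq_same, inv_mul_cancel₀ (Finset.prod_ne_zero_iff.2 fun u _ => hl1 u)]
      · rw [Pi.single_eq_of_ne hwv]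
        exact mul_eq_zero_of_right _ (Finset.prod_eq_zero (i := (⟨w.1, Finset.mem_erase.2
          ⟨fun h => hwv (Subtype.ext h), w.2⟩⟩ : {u // u ∈ Λ.erase v.1})) (Finset.mem_univ _)
          (hl2 _ _ (Submodule.mem_span_singleton_self _)))
    choose g hg using hsingle
    intro y
    refine ⟨∑ v, y v • g v, funext fun w => ?_⟩
    simp [map_sum, hg, Finset.sum_apply, Pi.single_apply]
  have hker : (H ⊓ ⨅ v ∈ Λ, LinearMap.ker (MvPolynomial.aeval v).toLinearMap) =
      (LinearMap.ker E).map H.subtype := by
    ext f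
    constructor
    · rintro ⟨hf, hv⟩
      refine ⟨⟨f, hf⟩, funext fun v => ?_, rfl⟩
      simp only [SetLike.mem_coe, Submodule.mem_iInf, LinearMap.mem_ker] at hv
      exact hv v.1 v.2
    · rintro ⟨g, hg, rfl⟩
      refine ⟨g.2, ?_⟩
      simp only [SetLike.mem_coe, Submodule.mem_iInf, LinearMap.mem_ker]
      exact fun v hv => congrFun hg ⟨v, hv⟩
  rw [hker, Submodule.finrank_map_subtype_eq]
  have := LinearMap.finrank_range_add_finrank_ker E
  rw [LinearMap.range_eq_top.2 hE, finrank_top, Module.finrank_fintype_fun_eq_card, Fintype.card_coe,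
    hcard, hrank, Fintype.card_fin] at this
  have h2 : (3 + (n - 1) - 1).choose (n - 1) = (n + 1).choose 2 := by
    rw [show 3 + (n - 1) - 1 = n + 1 by omega]
    exact Nat.choose_symm_of_eq_add (by omega)
  omega

end Groth.Agent.S14427
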