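import Groth.Statements.S14428
import Groth.Agent.PlaneForms.Basic

set_option autoImplicit false
universe u
open CAlgX

namespace Groth.Agent.S14428

open Groth.Agent.PlaneForms MvPolynomial

/-- A point outside a non-collinear configuration is detected by a form of degree one less than the
number of points. -/
theorem exists_point {k : Type u} [Field k] {n : ℕ} (hn : 3 ≤ n) (Λ : Finset (Fin 3 → k))
    (hcard : Λ.card = n) (h0 : ∀ v ∈ Λ, v ≠ 0)
    (hline : ¬ ∃ ℓ : (Fin 3 → k) →ₗ[k] k, ℓ ≠ 0 ∧ ∀ v ∈ Λ, ℓ v = 0)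
    (w : Fin 3 → k) (hw0 : w ≠ 0)
    (hall : ∀ f ∈ homogeneousSubmodule (Fin 3) k (n - 1) ⊓
      ⨅ v ∈ Λ, LinearMap.ker (MvPolynomial.aeval v).toLinearMap, MvPolynomial.aeval w f = 0) :
    ∃ v ∈ Λ, ∃ c : k, w = c • v := by
  classical
  by_contra hne
  push Not at hne
  have hw : ∀ v ∈ Λ, w ∉ Submodule.span k {v} := fun v hv h => by
    obtain ⟨c, hc⟩ := Submodule.mem_span_singleton.1 h
    exact hne v hv c hc.symm
  obtain ⟨v₁, hv₁⟩ : Λ.Nonempty := Finset.card_pos.1 (by omega)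
  -- a second point whose line with `v₁` avoids `w`
  obtain ⟨v₂, hv₂, hw₂⟩ : ∃ v₂ ∈ Λ, v₂ ≠ v₁ ∧ w ∉ Submodule.span k {v₁, v₂} := by
    by_contra hcol
    push Not at hcol
    apply hline
    obtain ⟨z, hz⟩ : ∃ z, z ∉ Submodule.span k ({v₁, w} : Set (Fin 3 → k)) := by
      by_contra hz
      push Not at hz
      have htop : Submodule.span k ({v₁, w} : Set (Fin 3 → k)) = ⊤ := Submodule.eq_top_iff'.2 hz
      have := finrank_span_le_card (R := k) ({v₁, w} : Set (Fin 3 → k))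
      rw [htop, finrank_top, Module.finrank_fintype_fun_eq_card, Fintype.card_fin,
        Set.toFinset_insert, Set.toFinset_singleton] at this
      have := this.trans (Finset.card_insert_le _ _)
      simp at this
    obtain ⟨l, hl, hl'⟩ := exists_functional hz
    refine ⟨l, fun h => hl (by rw [h]; rfl), fun v hv => hl' v ?_⟩
    rcases eq_or_ne v v₁ with rfl | hvv
    · exact Submodule.subset_span (Or.inl rfl)
    · obtain ⟨a, b, hab⟩ := Submodule.mem_span_pair.1 (hcol v hv hvv)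
      have hb : b ≠ 0 := fun hb => hw v₁ hv₁ (Submodule.mem_span_singleton.2
        ⟨a, by rw [← hab, hb]; module⟩)
      refine Submodule.mem_span_pair.2 ⟨-(b⁻¹ * a), b⁻¹, ?_⟩
      rw [← hab, smul_add, smul_smul, smul_smul, inv_mul_cancel₀ hb, one_smul]
      module
  obtain ⟨hne₂, hw₂⟩ := hw₂
  obtain ⟨l₀, hl₀, hl₀'⟩ := exists_functional hw₂
  choose l hl hl' using fun v : {v // v ∈ (Λ.erase v₁).erase v₂} =>
    exists_functional (hw v.1 (Finset.mem_of_mem_erase (Finset.mem_of_mem_erase v.2)))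
  let m : Option {v // v ∈ (Λ.erase v₁).erase v₂} → (Fin 3 → k) →ₗ[k] k := fun o => o.elim l₀ l
  obtain ⟨f, hf, hfv⟩ := exists_form Finset.univ m
  have hc : (Finset.univ : Finset (Option {v // v ∈ (Λ.erase v₁).erase v₂})).card = n - 1 := by
    rw [Finset.card_univ, Fintype.card_option, Fintype.card_coe,
      Finset.card_erase_of_mem (Finset.mem_erase.2 ⟨hne₂, hv₂⟩), Finset.card_erase_of_mem hv₁, hcard]
    omega
  rw [hc] at hf
  have hmem : f ∈ homogeneousSubmodule (Fin 3) k (n - 1) ⊓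
      ⨅ v ∈ Λ, LinearMap.ker (MvPolynomial.aeval v).toLinearMap := by
    refine ⟨hf, ?_⟩
    simp only [SetLike.mem_coe, Submodule.mem_iInf, LinearMap.mem_ker, AlgHom.toLinearMap_apply]
    intro v hv
    rw [hfv]
    by_cases h : v = v₁ ∨ v = v₂
    · exact Finset.prod_eq_zero (Finset.mem_univ none)
        (hl₀' v (Submodule.subset_span h))
    · push Not at h
      exact Finset.prod_eq_zero (Finset.mem_univ (some ⟨v,
        Finset.mem_erase.2 ⟨h.2, Finset.mem_erase.2 ⟨h.1, hv⟩⟩⟩))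
        (hl' _ _ (Submodule.mem_span_singleton_self _))
  have := hall f hmem
  rw [hfv] at this
  refine Finset.prod_ne_zero_iff.2 ?_ this
  rintro (_ | v) _
  · exact hl₀
  · exact hl v

/-- Let k be a field, n ≥ 3, and let Λ and Λ' be two sets of n nonzero, pairwise linearly independent
vectors of k^3 (n distinct k-rational points of the projective plane each), neither lying on a line
(no nonzero linear form vanishes on all of Λ, resp. Λ'). If the spaces of homogeneous forms of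
degree n − 1 vanishing on Λ and on Λ' coincide, then Λ and Λ' define the same set of points of the
plane: the assignment Λ ↦ H^0(P^2, I_Λ(n − 1)), with values in a Grassmannian, is injective on
non-collinear sets. (The published statement is over an algebraically closed field; this row allows
any field and k-rational points, which is all its argument uses.) -/
theorem result (k : Type u) [Field k] (n : ℕ) (hn : 3 ≤ n)
    (Λ Λ' : Finset (Fin 3 → k)) (hcard : Λ.card = n) (hcard' : Λ'.card = n)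
    (h0 : ∀ v ∈ Λ, v ≠ 0) (h0' : ∀ v ∈ Λ', v ≠ 0)
    (hdist : ∀ v ∈ Λ, ∀ w ∈ Λ, v ≠ w → LinearIndependent k ![v, w])
    (hdist' : ∀ v ∈ Λ', ∀ w ∈ Λ', v ≠ w → LinearIndependent k ![v, w])
    (hline : ¬ ∃ ℓ : (Fin 3 → k) →ₗ[k] k, ℓ ≠ 0 ∧ ∀ v ∈ Λ, ℓ v = 0)
    (hline' : ¬ ∃ ℓ : (Fin 3 → k) →ₗ[k] k, ℓ ≠ 0 ∧ ∀ v ∈ Λ', ℓ v = 0)
    (heq : (MvPolynomial.homogeneousSubmodule (Fin 3) k (n - 1) ⊓ ⨅ v ∈ Λ, LinearMap.ker (MvPolynomial.aeval v).toLinearMap) = (MvPolynomial.homogeneousSubmodule (Fin 3) k (n - 1) ⊓ ⨅ v ∈ Λ', LinearMap.ker (MvPolynomial.aeval v).toLinearMap)) :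
    (∀ v ∈ Λ, ∃ w ∈ Λ', ∃ c : k, v = c • w) ∧ (∀ w ∈ Λ', ∃ v ∈ Λ, ∃ c : k, w = c • v) := by
  have key : ∀ {A B : Finset (Fin 3 → k)}, A.card = n → (∀ v ∈ A, v ≠ 0) → (∀ v ∈ B, v ≠ 0) →
      (¬ ∃ ℓ : (Fin 3 → k) →ₗ[k] k, ℓ ≠ 0 ∧ ∀ v ∈ A, ℓ v = 0) →
      (MvPolynomial.homogeneousSubmodule (Fin 3) k (n - 1) ⊓ ⨅ v ∈ A, LinearMap.ker (MvPolynomial.aeval v).toLinearMap) = (MvPolynomial.homogeneousSubmodule (Fin 3) k (n - 1) ⊓ ⨅ v ∈ B, LinearMap.ker (MvPolynomial.aeval v).toLinearMap) →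
      ∀ w ∈ B, ∃ v ∈ A, ∃ c : k, w = c • v := by
    intro A B hA hA0 hB0 hl he w hw
    refine exists_point hn A hA hA0 hl w (hB0 w hw) fun f hf => ?_
    rw [he] at hf
    have h2 := hf.2
    simp only [SetLike.mem_coe, Submodule.mem_iInf, LinearMap.mem_ker] at h2
    exact h2 w hw
  exact ⟨key hcard' h0' h0 hline' heq.symm, key hcard h0 h0' hline heq⟩

end Groth.Agent.S14428
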