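import Groth.Statements.S14436
import Mathlib

set_option autoImplicit false
universe u
open CAlg

namespace Groth.Agent.S14436

/-- Let L/K be a finitely generated field extension which is separable in the sense that it has a
transcendence basis a_1, …, a_n over which L is a (finite) separable extension of K(a_1, …, a_n).
Then dim_L Ω_{L/K} = n, the transcendence degree of L over K. -/
theorem result (K L : Type u) [Field K] [Field L] [Algebra K L]
    (hfg : ∃ s : Finset L, IntermediateField.adjoin K (s : Set L) = ⊤)
    (n : ℕ) (a : Fin n → L) (ha : IsTranscendenceBasis K a)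
    (hsep : Algebra.IsSeparable ↥(IntermediateField.adjoin K (Set.range a)) L) :
    Module.finrank L (Ω[L⁄K]) = n := by
  classical
  set M := IntermediateField.adjoin K (Set.range a) with hM
  let eq : FractionRing (MvPolynomial (Fin n) K) ≃ₐ[K] M := ha.1.aevalEquivField
  let φ : MvPolynomial (Fin n) K →ₐ[K] M :=
    eq.toAlgHom.comp (IsScalarTower.toAlgHom K (MvPolynomial (Fin n) K) (FractionRing (MvPolynomial (Fin n) K)))
  letI : Algebra (MvPolynomial (Fin n) K) M := φ.toRingHom.toAlgebra
  letI : Algebra (MvPolynomial (Fin n) K) L := ((algebraMap M L).comp φ.toRingHom).toAlgebra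
  haveI : IsScalarTower (MvPolynomial (Fin n) K) M L := IsScalarTower.of_algebraMap_eq fun _ => rfl
  haveI : IsScalarTower K (MvPolynomial (Fin n) K) M :=
    IsScalarTower.of_algebraMap_eq fun r => (φ.commutes r).symm
  haveI : IsScalarTower K (MvPolynomial (Fin n) K) L := IsScalarTower.of_algebraMap_eq fun r => by
    show algebraMap K L r = algebraMap M L (φ (algebraMap K _ r))
    rw [φ.commutes]
    rfl
  haveI : IsFractionRing (MvPolynomial (Fin n) K) M :=
    IsLocalization.isLocalization_of_algEquiv (nonZeroDivisors (MvPolynomial (Fin n) K))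
      (AlgEquiv.ofRingEquiv (f := eq.toRingEquiv) (fun x => rfl) :
        FractionRing (MvPolynomial (Fin n) K) ≃ₐ[MvPolynomial (Fin n) K] M)
  haveI : Algebra.FormallyEtale (MvPolynomial (Fin n) K) M :=
    Algebra.FormallyEtale.of_isLocalization (nonZeroDivisors (MvPolynomial (Fin n) K))
  haveI : Algebra.FormallyEtale M L := Algebra.FormallyEtale.of_isSeparable M L
  haveI : Algebra.FormallyEtale (MvPolynomial (Fin n) K) L :=
    Algebra.FormallyEtale.comp (MvPolynomial (Fin n) K) M L
  rw [← (KaehlerDifferential.tensorKaehlerEquivOfFormallyEtale K (MvPolynomial (Fin n) K) L).finrank_eq,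
    Module.finrank_baseChange, Module.finrank_eq_card_basis (KaehlerDifferential.mvPolynomialBasis K (Fin n)),
    Fintype.card_fin]

end Groth.Agent.S14436
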