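import Groth.Statements.S14437
import Mathlib

set_option autoImplicit false
universe u
open CAlg

namespace Groth.Agent.S14437

open TensorProduct IsLocalRing in
theorem aux (k : Type*) [Field k] (A B : Type*) [CommRing A] [CommRing B] [IsLocalRing A]
    [IsLocalRing B] [IsNoetherianRing B] [Algebra k A] [Algebra k B] [Algebra A B] [IsScalarTower k A B]
    (hle : maximalIdeal A ≤ Ideal.comap (IsScalarTower.toAlgHom k A B) (maximalIdeal B))
    (hA : Function.Bijective (algebraMap k (ResidueField A))) (hB : Function.Bijective (algebraMap k (ResidueField B))) :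
    Module.finrank (ResidueField B) (TensorProduct B (ResidueField B) (Ω[B⁄A])) +
      Module.finrank k ↥(LinearMap.range (Ideal.mapCotangent (maximalIdeal A) (maximalIdeal B)
        (IsScalarTower.toAlgHom k A B) hle)) = Module.finrank k (CotangentSpace B) := by
  classical
  -- scalars of residues
  let eB : k ≃ₐ[k] ResidueField B := AlgEquiv.ofBijective (Algebra.ofId k (ResidueField B)) hB
  let c : B → k := fun b => eB.symm (residue B b)
  have hc : ∀ b, b - algebraMap k B (c b) ∈ maximalIdeal B := fun b => by
    rw [← residue_eq_zero_iff, map_sub, sub_eq_zero]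
    exact (eB.apply_symm_apply (residue B b)).symm
  have hc' : ∀ b t, b - algebraMap k B t ∈ maximalIdeal B → c b = t := fun b t h => by
    rw [← residue_eq_zero_iff, map_sub, sub_eq_zero] at h
    show eB.symm (residue B b) = t
    rw [h]
    exact eB.symm_apply_apply t
  set R := LinearMap.range (Ideal.mapCotangent (maximalIdeal A) (maximalIdeal B)
        (IsScalarTower.toAlgHom k A B) hle) with hR
  have hsmul : ∀ (b : B) (v : (maximalIdeal B).Cotangent), b • v = c b • v := fun b v => by
    obtain ⟨x, rfl⟩ := Ideal.toCotangent_surjective _ v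
    rw [← algebraMap_smul B (c b), ← map_smul, ← map_smul, Ideal.toCotangent_eq, Submodule.coe_smul,
      Submodule.coe_smul, smul_eq_mul, smul_eq_mul, ← sub_mul, pow_two]
    exact Ideal.mul_mem_mul (hc b) x.2
  let W : Submodule B (maximalIdeal B).Cotangent :=
    { carrier := R
      add_mem' := fun ha hb => R.add_mem ha hb
      zero_mem' := R.zero_mem
      smul_mem' := fun b v hv => by
        show b • v ∈ R
        rw [hsmul b v]
        exact R.smul_mem _ hv }
  -- the derivation
  let d0 : B → (maximalIdeal B).Cotangent ⧸ W := fun b =>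
    W.mkQ ((maximalIdeal B).toCotangent ⟨b - algebraMap k B (c b), hc b⟩)
  have hd0A : ∀ a : A, d0 (algebraMap A B a) = 0 := fun a => by
    obtain ⟨t, ht⟩ := hA.2 (residue A a)
    have hm : a - algebraMap k A t ∈ maximalIdeal A := by
      rw [← residue_eq_zero_iff, map_sub, sub_eq_zero]
      exact ht.symm
    have hct : c (algebraMap A B a) = t := hc' _ _ (by
      have h2 := hle hm
      rw [Ideal.mem_comap, map_sub, AlgHom.commutes] at h2
      exact h2)
    refine (Submodule.Quotient.mk_eq_zero W).mpr
      ⟨(maximalIdeal A).toCotangent ⟨_, hm⟩, ?_⟩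
    rw [Ideal.mapCotangent_toCotangent]
    refine congr_arg _ (Subtype.ext ?_)
    simp [hct, ← IsScalarTower.algebraMap_apply]
  have hadd : ∀ b b', d0 (b + b') = d0 b + d0 b' := fun b b' => by
    have e : c (b + b') = c b + c b' := by simp [c]
    show W.mkQ _ = W.mkQ _ + W.mkQ _
    rw [← map_add, ← map_add]
    refine congr_arg W.mkQ (congr_arg _ (Subtype.ext ?_))
    simp only [Submodule.coe_add, e, map_add]
    ring
  have hmul : ∀ b b', d0 (b * b') = b • d0 b' + b' • d0 b := fun b b' => by
    have e : c (b * b') = c b * c b' := by simp [c]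
    show W.mkQ _ = b • W.mkQ _ + b' • W.mkQ _
    simp only [← map_smul, ← map_add]
    refine congr_arg W.mkQ ?_
    rw [Ideal.toCotangent_eq]
    simp only [Submodule.coe_add, Submodule.coe_smul, smul_eq_mul, e, map_mul, pow_two]
    have := Ideal.mul_mem_mul (hc b) (hc b')
    have e2 : b * b' - algebraMap k B (c b) * algebraMap k B (c b') -
        (b * (b' - algebraMap k B (c b')) + b' * (b - algebraMap k B (c b))) =
        -((b - algebraMap k B (c b)) * (b' - algebraMap k B (c b'))) := by ring
    rw [e2]
    exact neg_mem this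
  let D0 : Derivation A B ((maximalIdeal B).Cotangent ⧸ W) := Derivation.mk'
    { toFun := d0
      map_add' := hadd
      map_smul' := fun a b => by
        show d0 (a • b) = a • d0 b
        rw [Algebra.smul_def, hmul, hd0A, smul_zero, add_zero, algebraMap_smul] }
    (fun b b' => hmul b b')
  let g := D0.liftKaehlerDifferential
  have hkill : maximalIdeal B • (⊤ : Submodule B Ω[B⁄A]) ≤ LinearMap.ker g := by
    refine Submodule.smul_le.mpr fun r hr ω _ => ?_
    rw [LinearMap.mem_ker, map_smul]
    obtain ⟨v, hv⟩ := W.mkQ_surjective (g ω)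
    rw [← hv, ← map_smul, hsmul, hc' r 0 (by simpa using hr), zero_smul, map_zero]
  let ψ : ResidueField B ⊗[B] Ω[B⁄A] →ₗ[B] (maximalIdeal B).Cotangent ⧸ W :=
    (Submodule.liftQ _ g hkill) ∘ₗ
      (TensorProduct.quotTensorEquivQuotSMul (Ω[B⁄A]) (maximalIdeal B)).toLinearMap
  -- the comparison map
  let f : maximalIdeal B →ₗ[B] ResidueField B ⊗[B] Ω[B⁄A] :=
    { toFun := fun x => 1 ⊗ₜ KaehlerDifferential.D A B x
      map_add' := fun x y => by simp [TensorProduct.tmul_add]
      map_smul' := fun r x => by
        have hx : residue B (x : B) = 0 := (residue_eq_zero_iff _).mpr x.2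
        simp [TensorProduct.tmul_add, TensorProduct.smul_tmul', ← Algebra.algebraMap_eq_smul_one, hx] }
  let Φ : (maximalIdeal B).Cotangent →ₗ[B] ResidueField B ⊗[B] Ω[B⁄A] :=
    Submodule.liftQ _ f (by
      refine Submodule.smul_le.mpr fun r hr x _ => ?_
      rw [LinearMap.mem_ker, map_smul, show f x = 1 ⊗ₜ KaehlerDifferential.D A B (x : B) from rfl,
        TensorProduct.smul_tmul', ← Algebra.algebraMap_eq_smul_one,
        show algebraMap B (ResidueField B) r = 0 from (residue_eq_zero_iff _).mpr hr, TensorProduct.zero_tmul])
  have hΦ : ∀ x : maximalIdeal B, Φ ((maximalIdeal B).toCotangent x) = 1 ⊗ₜ KaehlerDifferential.D A B x :=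
    fun _ => rfl
  have hψΦ : ∀ v, ψ (Φ v) = W.mkQ v := by
    intro v
    obtain ⟨x, rfl⟩ := Ideal.toCotangent_surjective _ v
    rw [hΦ]
    show Submodule.liftQ _ g hkill
      (TensorProduct.quotTensorEquivQuotSMul (Ω[B⁄A]) (maximalIdeal B)
        (Ideal.Quotient.mk (maximalIdeal B) 1 ⊗ₜ KaehlerDifferential.D A B (x : B))) = _
    rw [TensorProduct.quotTensorEquivQuotSMul_mk_tmul, one_smul, Submodule.liftQ_apply,
      Derivation.liftKaehlerDifferential_comp_D]
    show d0 (x : B) = _
    refine congr_arg W.mkQ (congr_arg _ (Subtype.ext ?_))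
    simp [hc' (x : B) 0 (by simp)]
  have hsurjA : Function.Surjective (algebraMap A (ResidueField B)) := by
    intro y
    obtain ⟨t, rfl⟩ := hB.2 y
    exact ⟨algebraMap k A t, (IsScalarTower.algebraMap_apply k A (ResidueField B) t).symm⟩
  haveI := KaehlerDifferential.subsingleton_of_surjective A (ResidueField B) hsurjA
  have hΦsurj : Function.Surjective Φ := by
    intro y
    have hy : KaehlerDifferential.mapBaseChange A B (ResidueField B) y = 0 := Subsingleton.elim _ _
    obtain ⟨w, hw⟩ := (KaehlerDifferential.exact_kerCotangentToTensor_mapBaseChange A B (ResidueField B)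
      residue_surjective y).mp hy
    obtain ⟨x, rfl⟩ := Ideal.toCotangent_surjective _ w
    refine ⟨(maximalIdeal B).toCotangent ⟨x.1, ?_⟩, (hΦ _).trans hw⟩
    exact (residue_eq_zero_iff _).mp x.2
  let Φk : (maximalIdeal B).Cotangent →ₗ[k] ResidueField B ⊗[B] Ω[B⁄A] := Φ.restrictScalars k
  have hker : LinearMap.ker Φk = R := by
    ext v
    constructor
    · intro hv
      have h := hψΦ v
      rw [show Φ v = 0 from hv, map_zero] at h
      exact (Submodule.Quotient.mk_eq_zero W).mp h.symm
    · rintro ⟨w, rfl⟩
      obtain ⟨x, rfl⟩ := Ideal.toCotangent_surjective _ w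
      rw [LinearMap.mem_ker, Ideal.mapCotangent_toCotangent]
      show (1 : ResidueField B) ⊗ₜ[B] KaehlerDifferential.D A B (algebraMap A B x.1) = 0
      rw [Derivation.map_algebraMap, TensorProduct.tmul_zero]
  haveI : Module.Finite k (ResidueField B) := Module.Finite.equiv eB.toLinearEquiv
  haveI : Module.Finite k (maximalIdeal B).Cotangent := by
    haveI : Module.Finite B (maximalIdeal B) := Module.Finite.iff_fg.mpr (IsNoetherian.noetherian _)
    haveI : Module.Finite B (maximalIdeal B).Cotangent :=
      Module.Finite.of_surjective _ (maximalIdeal B).toCotangent_surjective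
    obtain ⟨s, hs⟩ := (Module.Finite.fg_top : (⊤ : Submodule B (maximalIdeal B).Cotangent).FG)
    refine ⟨⟨s, eq_top_iff.mpr fun x hxT => ?_⟩⟩
    clear hxT
    have hx : x ∈ Submodule.span B (s : Set (maximalIdeal B).Cotangent) := hs ▸ Submodule.mem_top
    induction hx using Submodule.span_induction with
    | mem y hy => exact Submodule.subset_span hy
    | zero => exact Submodule.zero_mem _
    | add y z _ _ hy hz => exact Submodule.add_mem _ hy hz
    | smul b y _ hy => rw [hsmul]; exact Submodule.smul_mem _ _ hy
  have hfin : Module.finrank (ResidueField B) (ResidueField B ⊗[B] Ω[B⁄A]) =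
      Module.finrank k (ResidueField B ⊗[B] Ω[B⁄A]) := by
    rw [← Module.finrank_mul_finrank k (ResidueField B) (ResidueField B ⊗[B] Ω[B⁄A]),
      ← eB.toLinearEquiv.finrank_eq, Module.finrank_self, one_mul]
  rw [hfin]
  have h := LinearMap.finrank_range_add_finrank_ker Φk
  rw [LinearMap.range_eq_top.mpr (show Function.Surjective Φk from hΦsurj), finrank_top, hker] at h
  exact h

/-- Let k be a field and A → B a local homomorphism of Noetherian local k-algebras with residue fields k
(k → A/m_A and k → B/m_B bijective) — for instance the local rings at a closed point x and at its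
image y under a morphism of schemes of finite type over an algebraically closed k. Then dim_k
(Ω_{B/A} ⊗_B B/m_B) + rank(m_A/m_A² → m_B/m_B²) = dim_k (m_B/m_B²): the fibre at x of the sheaf of
relative differentials is dual to the kernel of the tangent map T_x X → T_y Y. (The published
statement is the canonical isomorphism (Ω_{X/Y})_(x)^∨ ≅ ker(df_x); stated here as the resulting
equality of dimensions. Its second assertion, dim (Ω_{X/Y})_(x) ≥ r when the fibre has an
r-dimensional component through x, is not included.) -/
theorem result (k : Type u) [Field k]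
    (A B : Type u) [CommRing A] [CommRing B] [IsLocalRing A] [IsLocalRing B] [IsNoetherianRing A] [IsNoetherianRing B]
    [Algebra k A] [Algebra k B] [Algebra A B] [IsScalarTower k A B]
    (hle : IsLocalRing.maximalIdeal A ≤ Ideal.comap (IsScalarTower.toAlgHom k A B) (IsLocalRing.maximalIdeal B))
    (hA : Function.Bijective (algebraMap k (IsLocalRing.ResidueField A)))
    (hB : Function.Bijective (algebraMap k (IsLocalRing.ResidueField B))) :
    Module.finrank (IsLocalRing.ResidueField B) (TensorProduct B (IsLocalRing.ResidueField B) (Ω[B⁄A])) +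
      Module.finrank k ↥(LinearMap.range (Ideal.mapCotangent (IsLocalRing.maximalIdeal A) (IsLocalRing.maximalIdeal B)
        (IsScalarTower.toAlgHom k A B) hle)) =
      Module.finrank k (IsLocalRing.CotangentSpace B) := by
  exact aux k A B hle hA hB

end Groth.Agent.S14437
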