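import Groth.Statements.S14438
import Mathlib.RingTheory.Ideal.GoingUp
import Mathlib.RingTheory.Artinian.Module
import Groth.Agent.LenSum2.Basic

set_option autoImplicit false
universe u
open CAlg Groth.Agent

namespace Groth.Agent.S14438

/-- Let (A, m) be a local ring, B a commutative A-algebra which is free of finite rank d as an A-module,
and assume that for every maximal ideal n of B containing mB the induced map of residue fields A/m →
B/n is bijective (as for the points of a fibre of a finite flat morphism of varieties over an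
algebraically closed field). Then the multiplicities of the points of the fibre add up to the
degree: the sum over all such n of the length of the B_n-module (B/mB)_n equals d. -/
theorem result (A B : Type u) [CommRing A] [IsLocalRing A] [CommRing B] [Algebra A B]
    [Module.Free A B] [Module.Finite A B] (d : ℕ) (hd : Module.finrank A B = d)
    (hres : ∀ (n : Ideal B) [n.IsMaximal] (h : Ideal.map (algebraMap A B) (IsLocalRing.maximalIdeal A) ≤ n),
      Function.Bijective (Ideal.quotientMap n (algebraMap A B) (Ideal.map_le_iff_le_comap.mp h))) :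
    finsum (fun n : {n : MaximalSpectrum B // Ideal.map (algebraMap A B) (IsLocalRing.maximalIdeal A) ≤ n.asIdeal} =>
      Module.length (Localization.AtPrime n.1.asIdeal)
        (LocalizedModule n.1.asIdeal.primeCompl (B ⧸ Ideal.map (algebraMap A B) (IsLocalRing.maximalIdeal A)))) = (d : ℕ∞) := by
  classical
  let m := IsLocalRing.maximalIdeal A
  let mB := Ideal.map (algebraMap A B) m
  haveI : IsSimpleModule A (A ⧸ m) := isSimpleModule_iff_isCoatom.mpr (IsLocalRing.maximalIdeal.isMaximal A).out
  let b := (Module.Free.chooseBasis A B).reindex ((Fintype.equivFin _).trans (finCongr ((Module.finrank_eq_card_chooseBasisIndex A B).symm.trans hd)))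
  let π : B →ₗ[A] (Fin d → A ⧸ m) := LinearMap.pi fun i => m.mkQ ∘ₗ b.coord i
  have hπ : Function.Surjective π := fun z => by
    choose y hy using fun i => m.mkQ_surjective (z i)
    exact ⟨b.equivFun.symm y, funext fun i => by
      show m.mkQ (b.repr (b.equivFun.symm y) i) = z i
      rw [← Module.Basis.equivFun_apply, LinearEquiv.apply_symm_apply, hy]⟩
  have hker : LinearMap.ker π = mB.restrictScalars A := by
    rw [show mB.restrictScalars A = m • (⊤ : Submodule A B) from (Ideal.smul_top_eq_map m).symm]
    ext x
    constructor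
    · intro hx
      rw [← b.sum_repr x]
      exact Submodule.sum_mem _ fun i _ => Submodule.smul_mem_smul ((Submodule.Quotient.mk_eq_zero m).mp (congrFun (LinearMap.mem_ker.mp hx) i)) Submodule.mem_top
    · intro hx
      refine Submodule.smul_induction_on hx (fun a ha y _ => ?_) fun y z hy hz => add_mem hy hz
      refine LinearMap.mem_ker.mpr (funext fun i => (Submodule.Quotient.mk_eq_zero m).mpr ?_)
      show b.repr (a • y) i ∈ m
      rw [map_smul, Finsupp.smul_apply, smul_eq_mul]
      exact m.mul_mem_right _ ha
  let e : (B ⧸ mB) ≃ₗ[A] (Fin d → A ⧸ m) :=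
    (Submodule.Quotient.restrictScalarsEquiv A mB).symm ≪≫ₗ (Submodule.quotEquivOfEq _ _ hker.symm) ≪≫ₗ π.quotKerEquivOfSurjective hπ
  have hlen : Module.length A (B ⧸ mB) = d := by
    rw [e.length_eq, Module.length_pi, Module.length_eq_one A (A ⧸ m), mul_one]
    simp
  have hflA : IsFiniteLength A (B ⧸ mB) := Module.length_ne_top_iff.mp (by rw [hlen]; exact ENat.natCast_ne_top d)
  obtain ⟨hN, hAr⟩ := isFiniteLength_iff_isNoetherian_isArtinian.mp hflA
  have hflB : IsFiniteLength B (B ⧸ mB) :=
    isFiniteLength_iff_isNoetherian_isArtinian.mpr ⟨isNoetherian_of_tower A hN, isArtinian_of_tower A hAr⟩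
  have hall : ∀ n : MaximalSpectrum B, mB ≤ n.asIdeal := fun n => by
    rw [Ideal.map_le_iff_le_comap]
    exact (IsLocalRing.eq_maximalIdeal (Ideal.isMaximal_comap_of_isIntegral_of_isMaximal (R := A) n.asIdeal)).ge
  haveI : IsArtinianRing (B ⧸ mB) := isArtinian_of_tower A hAr
  haveI : Finite (MaximalSpectrum B) := by
    refine Finite.of_injective (β := MaximalSpectrum (B ⧸ mB)) (fun n => ⟨n.asIdeal.map (Ideal.Quotient.mk mB), ?_⟩) ?_
    · haveI := n.isMaximal
      exact (Ideal.map_eq_top_or_isMaximal_of_surjective _ Ideal.Quotient.mk_surjective n.isMaximal).resolve_left fun h => n.isMaximal.ne_top (by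
        have := congrArg (Ideal.comap (Ideal.Quotient.mk mB)) h
        rw [Ideal.comap_map_of_surjective' _ Ideal.Quotient.mk_surjective, Ideal.mk_ker, sup_eq_left.mpr (hall n), Ideal.comap_top] at this
        exact this)
    · intro n n' h
      have := congrArg (Ideal.comap (Ideal.Quotient.mk mB)) (congrArg MaximalSpectrum.asIdeal h)
      simp only [Ideal.comap_map_of_surjective' _ Ideal.Quotient.mk_surjective, Ideal.mk_ker, sup_eq_left.mpr (hall _)] at this
      exact MaximalSpectrum.ext this
  haveI := Fintype.ofFinite (MaximalSpectrum B)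
  let S : Finset (PrimeSpectrum B) := Finset.univ.image MaximalSpectrum.toPrimeSpectrum
  have hS : ∀ p : PrimeSpectrum B, p.asIdeal.IsMaximal ↔ p ∈ S := fun p => by
    simp only [S, Finset.mem_image, Finset.mem_univ, true_and]
    exact ⟨fun h => ⟨⟨p.asIdeal, h⟩, rfl⟩, by rintro ⟨n, rfl⟩; exact n.isMaximal⟩
  have key := LenSum2.length_eq_sum_lenAt (A := A) S hS (B ⧸ mB) hflB
  rw [hlen, Finset.sum_image (fun a _ b _ h => MaximalSpectrum.toPrimeSpectrum_injective h)] at key
  let f : MaximalSpectrum B ≃ {n : MaximalSpectrum B // mB ≤ n.asIdeal} := (Equiv.subtypeUnivEquiv hall).symm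
  rw [← finsum_comp_equiv f, finsum_eq_sum_of_fintype, key]
  refine Finset.sum_congr rfl fun n _ => ?_
  have h1 : Module.length A (B ⧸ n.asIdeal) = 1 := by
    haveI := n.isMaximal
    let g : (A ⧸ m) →ₗ[A] B ⧸ n.asIdeal :=
      { toFun := Ideal.quotientMap n.asIdeal (algebraMap A B) (Ideal.map_le_iff_le_comap.mp (hall n))
        map_add' := map_add _
        map_smul' := fun c x => by
          obtain ⟨x, rfl⟩ := Ideal.Quotient.mk_surjective x
          rw [RingHom.id_apply, Algebra.smul_def, Algebra.smul_def, map_mul]
          rfl }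
    rw [← (LinearEquiv.ofBijective g (hres n.asIdeal (hall n))).length_eq, Module.length_eq_one]
  show _ = Module.length A (B ⧸ n.asIdeal) * LenSum2.lenAt n.toPrimeSpectrum (B ⧸ mB)
  rw [h1, one_mul]
  rfl

end Groth.Agent.S14438
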