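import Groth.Statements.S1444
import Groth.Agent.TopH1.Affine
import Groth.Agent.DimField.Limit
-- import your own Groth.Agent.* helpers here

set_option autoImplicit false
universe u
open FlatMor

set_option linter.style.haveILetI false
set_option backward.isDefEq.respectTransparency false
set_option backward.isDefEq.respectTransparency.types false

namespace Groth.Agent.S1444

open AlgebraicGeometry CategoryTheory Limits in
/-- Let f : X → Y be proper with Y affine, all fibres of f of dimension at most 1, and H¹(X_y, O_{X_y})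
= 0 for every point y of Y. Then H¹(X, F) = 0 for every quasi-coherent O_X-module F which is
globally generated (a quotient of a direct sum of copies of the structure sheaf). -/
theorem result {X Y : Scheme.{u}} (f : X ⟶ Y) [IsProper f] [IsAffine Y]
    (hdim : ∀ y : Y, topologicalKrullDim ↑(f.fiber y) ≤ 1) (hH1 : ∀ y : Y, Subsingleton (Coh.HH (f.fiber y) (Coh.structureModule (f.fiber y)) 1))
    (F : X.Modules) (hF : Coh.IsQCoh F) (ι : Type u) (e : (∐ fun _ : ι => Coh.structureModule X) ⟶ F) [Epi e] :
    Subsingleton (Coh.HH X F 1) := by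
  letI : X.Over (Spec (CommRingCat.of Γ(Y, ⊤))) := ⟨f ≫ Y.isoSpec.hom⟩
  haveI : IsProper (X ↘ Spec (CommRingCat.of Γ(Y, ⊤))) := inferInstanceAs (IsProper (f ≫ Y.isoSpec.hom))
  have hd : ∀ a, topologicalKrullDim ↥((X ↘ Spec (CommRingCat.of Γ(Y, ⊤))).fiber a) ≤ ((1 : ℕ) : WithBot ℕ∞) := fun a => by
    have sq : IsPullback (𝟙 X) (f ≫ Y.isoSpec.hom) f Y.isoSpec.inv := IsPullback.of_horiz_isIso ⟨by simp⟩
    change topologicalKrullDim ↥((f ≫ Y.isoSpec.hom).fiber a) ≤ _
    rw [Groth.Agent.DimField.dim_fiber_eq_of_isPullback sq a]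
    exact hdim _
  exact Groth.Agent.TopH1.subsingleton_hh_of_generated Γ(Y, ⊤) 1
    (fun M hM => Groth.Agent.FibVan.subsingleton_hh_affine _ 1 hd M hM 2 (by norm_num))
    (Groth.Agent.TopH1.subsingleton_hh_unit f Y.isoSpec rfl 1 hd fun y _ => hH1 y) hF ι e

end Groth.Agent.S1444
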