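import Groth.Statements.S14442
import Mathlib.Algebra.DirectSum.Decomposition
import Mathlib.Tactic

set_option autoImplicit false
set_option linter.style.haveILetI false

universe u
open GrNak

namespace Groth.Agent.S14442

/-- Let R be a commutative ℕ-graded ring with irrelevant ideal R_+ = ⊕_{i>0} R_i, M an ℕ-graded R-module
and N a graded submodule of M (closed under taking homogeneous components). If M = R_+ M + N then N
= M. (The published statement is for finitely generated ℤ-graded modules over a graded quotient of a
polynomial ring, whose degrees are then bounded below; stated here for non-negatively graded modules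
over any ℕ-graded commutative ring, where the same lowest-degree argument applies without finite
generation.) -/
theorem result {R : Type u} [CommRing R] {σ : Type u} [SetLike σ R] [AddSubmonoidClass σ R]
    (𝒜 : ℕ → σ) [GradedRing 𝒜]
    {M : Type u} [AddCommGroup M] [Module R M] {τ : Type u} [SetLike τ M] [AddSubmonoidClass τ M]
    (ℳ : ℕ → τ) [DirectSum.Decomposition ℳ] [SetLike.GradedSMul 𝒜 ℳ]
    (N : Submodule R M) (hN : ∀ x ∈ N, ∀ i : ℕ, (DirectSum.decompose ℳ x i : M) ∈ N)
    (h : (HomogeneousIdeal.irrelevant 𝒜).toIdeal • (⊤ : Submodule R M) ⊔ N = ⊤) :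
    N = ⊤ := by
  classical
  rw [_root_.eq_top_iff]
  rintro m -
  suffices H : ∀ i, ∀ x ∈ ℳ i, x ∈ N by
    rw [← DirectSum.sum_support_decompose ℳ m]
    exact Submodule.sum_mem _ fun i _ => H i _ (SetLike.coe_mem _)
  intro i
  induction i using Nat.strong_induction_on with
  | _ i ih =>
  intro x hx
  obtain ⟨y, hy, z, hz, hyz⟩ := Submodule.mem_sup.1 (h.symm ▸ Submodule.mem_top : x ∈ _)
  suffices hyN : (DirectSum.decompose ℳ y i : M) ∈ N by
    have := add_mem hyN (hN z hz i)
    rwa [← AddMemClass.coe_add, ← DirectSum.add_apply, ← DirectSum.decompose_add, hyz,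
      DirectSum.decompose_of_mem_same ℳ hx] at this
  clear hyz hx x hz z
  refine Submodule.smul_induction_on hy ?_ ?_
  · intro r hr y _
    rw [← DirectSum.sum_support_decompose 𝒜 r, ← DirectSum.sum_support_decompose ℳ y,
      Finset.sum_smul_sum, DirectSum.decompose_sum, DFinsupp.finsetSum_apply, AddSubmonoidClass.coe_finsetSum]
    refine Submodule.sum_mem _ fun a ha => ?_
    rw [DirectSum.decompose_sum, DFinsupp.finsetSum_apply, AddSubmonoidClass.coe_finsetSum]
    refine Submodule.sum_mem _ fun b hb => ?_
    have hmem : (DirectSum.decompose 𝒜 r a : R) • (DirectSum.decompose ℳ y b : M) ∈ ℳ (a +ᵥ b) :=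
      SetLike.GradedSMul.smul_mem (SetLike.coe_mem _) (SetLike.coe_mem _)
    rw [vadd_eq_add] at hmem
    have ha0 : a ≠ 0 := by
      rintro rfl
      have h0 : (DirectSum.decompose 𝒜 r 0 : R) = 0 := hr
      exact DFinsupp.mem_support_iff.1 ha (Subtype.ext h0)
    by_cases hab : a + b = i
    · subst hab
      rw [DirectSum.decompose_of_mem_same ℳ hmem]
      exact Submodule.smul_mem _ _ (ih b (by omega) _ (SetLike.coe_mem _))
    · rw [DirectSum.decompose_of_mem_ne ℳ hmem hab]
      exact zero_mem _
  · intro p q hp hq
    rw [DirectSum.decompose_add, DirectSum.add_apply, AddMemClass.coe_add]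
    exact add_mem hp hq

end Groth.Agent.S14442
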