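import Groth.Statements.S15741
import Groth.Agent.QC.OmegaAffineSect


set_option linter.style.haveILetI false

set_option autoImplicit false
universe u
open CategoryTheory AlgebraicGeometry
open Mor

namespace Groth.Agent.S15741

/-- For a quasi-separated morphism of schemes `f : X ⟶ Y` and affine opens `U ⊆ X`, `V ⊆ Y` with `U ≤
f⁻¹ V`, the canonical `Γ(X, U)`-linear map from the module of Kähler differentials of the ring `Γ(X,
U)` over `Γ(Y, V)` to the sections over `U` of the sheaf of relative differentials of `f` — the map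
sending `d b` to `d_{X/Y} b` — is an isomorphism. (Quasi-separatedness of `f` is the standing
hypothesis under which the sheaf of relative differentials is named in this library; the published
statement is for an arbitrary morphism of schemes.) -/
theorem result (X Y : Scheme.{u}) (f : X ⟶ Y) [QuasiSeparated f]
    (U : X.affineOpens) (V : Y.affineOpens) (h : U.1 ≤ f ⁻¹ᵁ V.1) :
    IsIso (OmAff.toSect f V.1 U.1 h) := by
  obtain ⟨U, hU⟩ := U
  obtain ⟨V, hV⟩ := V
  change U ≤ f ⁻¹ᵁ V at h
  letI : Algebra Γ(Y, V) Γ(X, U) := (f.appLE V U h).hom.toAlgebra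
  obtain ⟨ψ, T, hψ, -, hT, hs, hd⟩ := Groth.Agent.QC.exists_sectEquiv_omega Γ(Y, V) Γ(X, U) f
    hV.fromSpec hU.fromSpec (hV.SpecMap_appLE_fromSpec f hU h) U
    (by rw [Scheme.Hom.image_top_eq_opensRange, hU.opensRange_fromSpec])
  have hid : ∀ b, ψ b = b := by
    intro b
    rw [hψ]
    have h1 : ∀ e, hU.fromSpec.appLE U ⊤ e ≫ (Scheme.ΓSpecIso _).hom = 𝟙 Γ(X, U) := by
      intro e
      rw [Scheme.Hom.appLE, hU.fromSpec_app_self, Category.assoc, Category.assoc,
        ← Functor.map_comp_assoc, Subsingleton.elim (_ ≫ _) (𝟙 (Opposite.op (⊤ : (Spec Γ(X, U)).Opens))),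
        CategoryTheory.Functor.map_id, Category.id_comp, Iso.inv_hom_id]
    exact congr($(h1 _) b)
  have key : ∀ ω, T (OmAff.toSect f V U h ω) = ω := by
    intro ω
    have hx : ω ∈ Submodule.span Γ(X, U) (Set.range (KaehlerDifferential.D Γ(Y, V) Γ(X, U))) := by
      rw [KaehlerDifferential.span_range_derivation]; trivial
    induction hx using Submodule.span_induction with
    | mem y hy =>
        obtain ⟨b, rfl⟩ := hy
        exact (congrArg T (OmAff.toSect_d f V U h b)).trans ((hd b).trans (by rw [hid]))
    | zero => exact (congrArg T (map_zero _)).trans (map_zero T)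
    | add y z _ _ hy hz =>
        exact (congrArg T (map_add (OmAff.toSect f V U h).hom y z)).trans
          ((map_add T _ _).trans (congrArg₂ (· + ·) hy hz))
    | smul b y _ hy =>
        exact (congrArg T ((OmAff.toSect f V U h).hom.map_smul b y)).trans
          ((hs b _).trans (by rw [hid, hy]; rfl))
  rw [ConcreteCategory.isIso_iff_bijective]
  exact ⟨fun a b hab => (key a).symm.trans ((congrArg T hab).trans (key b)),
    fun m => ⟨T m, hT.1 (key _)⟩⟩


end Groth.Agent.S15741
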