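import Groth.Statements.S14443
import Groth.Agent.S15741
import Groth.Agent.OmegaTrdeg.Basic
import Groth.Agent.WeilLib.Trdeg
import Groth.Agent.SepBC.Closed
import Groth.Agent.LocFree.Rank
import Groth.Agent.OmegaLib.FiniteType
import Groth.Agent.BMCoh.Height

set_option autoImplicit false
universe u
open CategoryTheory CategoryTheory.Limits AlgebraicGeometry
attribute [local instance] FixPt.fiberModule
open Variety

set_option backward.isDefEq.respectTransparency false
set_option backward.isDefEq.respectTransparency.types false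

namespace Groth.Agent.S14443

/-- Let k be an algebraically closed field, f : X → Y a morphism of k-schemes of finite type, x a closed
point of X and Z an irreducible closed subset of the fibre f⁻¹(f(x)) passing through x, of dimension
r. Then dim_k (Ω_{X/Y})_(x) ≥ r, where (Ω_{X/Y})_(x) = Ω_{X/Y,x} ⊗ k(x) is the fibre of the sheaf of
relative differentials at x, a vector space over k(x) = k (x is closed and k algebraically closed),
regarded as a k-module through k → O_{X,x}. (The published statement is for varieties, i.e. X and Y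
reduced and separated; this row assumes neither. Since X is locally of finite type over a field it
is locally Noetherian, so f is quasi-separated; the argument, T_x Z ⊆ ker(df_x) and dim T_x Z ≥ dim
Z, uses neither reducedness nor separatedness.) -/
theorem result (k : Type u) [Field k] [IsAlgClosed k]
    {X Y : Scheme.{u}} [X.Over (Spec (CommRingCat.of k))] [Y.Over (Spec (CommRingCat.of k))]
    [LocallyOfFiniteType (X ↘ Spec (CommRingCat.of k))] [QuasiCompact (X ↘ Spec (CommRingCat.of k))]
    [LocallyOfFiniteType (Y ↘ Spec (CommRingCat.of k))] [QuasiCompact (Y ↘ Spec (CommRingCat.of k))]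
    (f : X ⟶ Y) (hf : f ≫ (Y ↘ Spec (CommRingCat.of k)) = X ↘ Spec (CommRingCat.of k))
    (x : X) (hx : IsClosed ({x} : Set X)) (Z : Set X) (hZ : IsIrreducible Z) (hZc : IsClosed Z) (hxZ : x ∈ Z)
    (hZf : Z ⊆ f.base ⁻¹' {f.base x}) (r : ℕ) (hr : topologicalKrullDim ↥Z = (r : WithBot ℕ∞)) :
    r ≤ Module.finrank k (FixPt.fiber (Omega.sheaf f) x) := by
  classical
  let p := X ↘ Spec (CommRingCat.of k)
  let q := Y ↘ Spec (CommRingCat.of k)
  haveI : IsLocallyNoetherian X := LocallyOfFiniteType.isLocallyNoetherian p
  haveI : LocallyOfFiniteType (f ≫ q) := by rw [hf]; infer_instance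
  haveI : LocallyOfFiniteType f := locallyOfFiniteType_of_comp f q
  set M := Omega.sheaf f with hM'
  obtain ⟨V, hV, hyV, -⟩ := exists_isAffineOpen_mem_and_subset (X := Y) (x := f.base x) (U := ⊤) trivial
  obtain ⟨U, hU, hxU, hUV⟩ := exists_isAffineOpen_mem_and_subset (X := X) (x := x) (U := f ⁻¹ᵁ V) hyV
  have hq : Coh.IsQCoh M := QC.isQCoh_pullback _ (QC.isQCoh_idealMod _)
  have hiso : ∀ (W : X.Opens) (hW : IsAffineOpen W) (h : W ≤ f ⁻¹ᵁ V),
      Function.Bijective (OmAff.toSect f V W h) := fun W hW h => by
    haveI := Groth.Agent.S15741.result X Y f ⟨W, hW⟩ ⟨V, hV⟩ h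
    exact ConcreteCategory.bijective_of_isIso _
  haveI : Module.Finite Γ(X, U) Γ(M, U) := by
    letI := (f.appLE V U hUV).hom.toAlgebra
    haveI : Algebra.FiniteType Γ(Y, V) Γ(X, U) := LocallyOfFiniteType.finiteType_appLE f hV hU (e := hUV)
    haveI : Algebra.EssFiniteType Γ(Y, V) Γ(X, U) := inferInstance
    haveI h0 : Module.Finite Γ(X, U) Ω[Γ(X, U)⁄Γ(Y, V)] := inferInstance
    exact @Module.Finite.of_surjective _ _ _ _ _ _ _ _ _ _ _ h0 _ (hiso U hU hUV).2
  -- the fibre dimension is the rank at `x`
  have hrk : Module.finrank k (FixPt.fiber M x) = LocFree.rk M x := by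
    have hb : Function.Bijective (WeilLib.kStr p x) := WeilLib.kStr_bijective p hx
    let φ : k →+* IsLocalRing.ResidueField (X.presheaf.stalk x) :=
      (IsLocalRing.residue (X.presheaf.stalk x)).comp (Curv2.stalkMap k X x)
    have hres : φ = WeilLib.kStr p x := (SepBC.kStr_eq_resMap (k := k) x).symm
    have hb' : Function.Bijective φ := hres ▸ hb
    let e0 := TensorProduct.quotTensorEquivQuotSMul (M.presheaf.stalk x)
      (IsLocalRing.maximalIdeal (X.presheaf.stalk x))
    let e : FixPt.fiber M x ≃+
        TensorProduct (X.presheaf.stalk x) (IsLocalRing.ResidueField (X.presheaf.stalk x)) (M.presheaf.stalk x) :=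
      e0.symm.toAddEquiv
    have h := rank_eq_of_equiv_equiv (⇑φ) e hb' fun c v => by
      change e0.symm (Curv2.stalkMap k X x c • v) = _
      rw [map_smul]
      exact (algebraMap_smul (IsLocalRing.ResidueField (X.presheaf.stalk x))
        (M := TensorProduct (X.presheaf.stalk x) (IsLocalRing.ResidueField (X.presheaf.stalk x))
          (M.presheaf.stalk x)) (Curv2.stalkMap k X x c) (e v)).symm
    exact congrArg Cardinal.toNat h
  rw [hrk]
  obtain ⟨rr, s, hxr, hspan⟩ := LocFree.exists_spanning hU hq hxU
  -- the generic point of `Z`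
  obtain ⟨z, hz⟩ := QuasiSober.sober hZ hZc
  have hzx : z ⤳ x := specializes_iff_mem_closure.mpr (hz.symm ▸ hxZ)
  let W := X.basicOpen rr
  have hW : IsAffineOpen W := hU.basicOpen rr
  have hWV : W ≤ f ⁻¹ᵁ V := (X.basicOpen_le rr).trans hUV
  have hzW : z ∈ W := hzx.mem_open W.2 hxr
  have hyz : f.base z = f.base x := hZf (hz ▸ subset_closure rfl)
  letI : Algebra k (X.residueField z) := (WeilLib.kStr p z).toAlgebra
  have hdim : Algebra.trdeg k (X.residueField z) = (r : Cardinal.{u}) := by
    obtain ⟨h1, h2⟩ := WeilLib.exists_pdim_eq_trd p z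
    have h3 : topologicalKrullDim (closure ({z} : Set X)) = (r : WithBot ℕ∞) := by rw [hz]; exact hr
    letI := specializationOrder X
    rw [BMCoh.topologicalKrullDim_closure_singleton, h2] at h3
    have h4 : WeilCoh.pdim X z = r := by exact_mod_cast h3
    rw [← h4]
    exact h1
  letI := (f.appLE V W hWV).hom.toAlgebra
  have hTs := hiso W hW hWV
  let ω : Fin (LocFree.rk M x) → Ω[Γ(X, W)⁄Γ(Y, V)] := fun i => (Equiv.ofBijective _ hTs).symm (s i)
  have hω : Submodule.span Γ(X, W) (Set.range ω) = ⊤ := by
    apply Submodule.map_injective_of_injective hTs.1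
    rw [Submodule.map_span, ← Set.range_comp, Submodule.map_top, LinearMap.range_eq_top.2 hTs.2, ← hspan]
    congr 2
    funext i
    exact (Equiv.ofBijective _ hTs).apply_symm_apply (s i)
  let ev := (X.evaluation W z hzW).hom
  letI : Algebra Γ(X, W) (X.residueField z) := ev.toAlgebra
  letI : Algebra Γ(Y, V) (X.residueField z) := (ev.comp (algebraMap Γ(Y, V) Γ(X, W))).toAlgebra
  haveI : IsScalarTower Γ(Y, V) Γ(X, W) (X.residueField z) := IsScalarTower.of_algebraMap_eq' rfl
  have hA : ∀ a : Γ(Y, V), ∃ c : k, ev (f.appLE V W hWV a) = algebraMap k (X.residueField z) c := by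
    intro a
    have hsurj : Function.Surjective (WeilLib.kStr q (f.base z)) := by
      rw [hyz]
      have h1 := WeilLib.kStr_bijective p hx
      intro b
      obtain ⟨c, hc⟩ := h1.2 (f.residueFieldMap x b)
      refine ⟨c, RingHom.injective (f.residueFieldMap x).hom ?_⟩
      rw [← hc]
      exact RingHom.congr_fun (WeilLib.kStr_comp p f q hf x) c
    have hzV : f.base z ∈ V := hWV hzW
    obtain ⟨c, hc⟩ := hsurj (Y.evaluation V (f.base z) hzV a)
    refine ⟨c, ?_⟩
    change _ = WeilLib.kStr p z c
    refine Eq.trans ?_ (RingHom.congr_fun (WeilLib.kStr_comp p f q hf z) c)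
    rw [RingHom.comp_apply, hc]
    refine Eq.trans ?_ (Scheme.evaluation_naturality_apply f z hzV a).symm
    change (X.evaluation W z hzW) ((X.presheaf.map (homOfLE hWV).op) (f.app V a)) = _
    exact ConcreteCategory.congr_hom (TopCat.Presheaf.germ_res X.presheaf (homOfLE hWV) z hzW) (f.app V a) |>
      congrArg (X.residue z)
  let der : Derivation Γ(Y, V) Γ(X, W) (Ω[X.residueField z⁄k]) :=
    Derivation.mk'
      { toFun := fun b => KaehlerDifferential.D k (X.residueField z) (ev b)
        map_add' := fun a b => by rw [map_add, map_add]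
        map_smul' := fun a b => by
          obtain ⟨c, hc⟩ := hA a
          rw [Algebra.smul_def, map_mul, Derivation.leibniz]
          change ev (f.appLE V W hWV a) • _ + ev b • KaehlerDifferential.D k _ (ev (f.appLE V W hWV a)) = _
          rw [hc, Derivation.map_algebraMap, smul_zero, add_zero, ← hc]
          rfl }
      fun a b => by
        change KaehlerDifferential.D k (X.residueField z) (ev (a * b)) = _
        rw [map_mul, Derivation.leibniz]
        rfl
  let L := der.liftKaehlerDifferential
  let S : Submodule (X.residueField z) (Ω[X.residueField z⁄k]) :=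
    Submodule.span _ (Set.range fun i => L (ω i))
  have hev : ∀ b, KaehlerDifferential.D k (X.residueField z) (ev b) ∈ S := by
    intro b
    have hb : ∀ w ∈ Submodule.span Γ(X, W) (Set.range ω), L w ∈ S := by
      intro w hw
      induction hw using Submodule.span_induction with
      | mem w hw => obtain ⟨i, rfl⟩ := hw; exact Submodule.subset_span ⟨i, rfl⟩
      | zero => rw [map_zero]; exact zero_mem _
      | add u v _ _ hu hv => rw [map_add]; exact add_mem hu hv
      | smul a u _ hu =>
        rw [map_smul, ← algebraMap_smul (X.residueField z) a]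
        exact S.smul_mem _ hu
    have := hb (KaehlerDifferential.D Γ(Y, V) Γ(X, W) b) (hω ▸ trivial)
    rwa [Derivation.liftKaehlerDifferential_comp_D] at this
  have htop : S = ⊤ := by
    rw [eq_top_iff, ← KaehlerDifferential.span_range_derivation, Submodule.span_le]
    rintro _ ⟨t, rfl⟩
    obtain ⟨t', rfl⟩ := Scheme.residue_surjective X z t
    letI := (X.presheaf.germ W z hzW).hom.toAlgebra
    haveI := hW.isLocalization_stalk ⟨z, hzW⟩
    obtain ⟨⟨a, b⟩, hab⟩ := IsLocalization.surj (hW.primeIdealOf ⟨z, hzW⟩).asIdeal.primeCompl t'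
    have h1 : X.residue z t' * ev b.1 = ev a := by
      have h2 := congrArg (X.residue z) hab
      rw [map_mul] at h2
      exact h2
    have hb0 : ev b.1 ≠ 0 := fun h0 => by
      have hu := IsLocalization.map_units (X.presheaf.stalk z) b
      exact (hu.map (X.residue z).hom).ne_zero h0
    have h3 := congrArg (KaehlerDifferential.D k (X.residueField z)) h1
    rw [Derivation.leibniz, add_comm, ← eq_sub_iff_add_eq] at h3
    rw [SetLike.mem_coe, ← one_smul (X.residueField z) (KaehlerDifferential.D k _ _), ← inv_mul_cancel₀ hb0,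
      mul_smul, h3]
    exact S.smul_mem _ (sub_mem (hev a) (S.smul_mem _ (hev b.1)))
  haveI : Algebra.EssFiniteType k (X.residueField z) := by
    letI : Algebra k Γ(X, W) := (WeilLib.secStr p W).toAlgebra
    haveI : Algebra.FiniteType k Γ(X, W) := WeilLib.finiteType_secStr p hW
    haveI : IsScalarTower k Γ(X, W) (X.residueField z) :=
      IsScalarTower.of_algebraMap_eq' (WeilLib.evaluation_comp_secStr p hzW).symm
    letI := (X.presheaf.germ W z hzW).hom.toAlgebra
    haveI := hW.isLocalization_stalk ⟨z, hzW⟩
    haveI : Algebra.EssFiniteType Γ(X, W) (X.presheaf.stalk z) :=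
      Algebra.EssFiniteType.of_isLocalization _ (hW.primeIdealOf ⟨z, hzW⟩).asIdeal.primeCompl
    haveI : Algebra.EssFiniteType Γ(X, W) (X.residueField z) :=
      Algebra.EssFiniteType.of_surjective
        ({ (X.residue z).hom with commutes' := fun _ => rfl } : X.presheaf.stalk z →ₐ[Γ(X, W)] X.residueField z)
        (Scheme.residue_surjective X z)
    exact Algebra.EssFiniteType.comp k Γ(X, W) _
  have h5 := OmegaTrdeg.trdeg_le_finrank_omega k (X.residueField z)
  rw [hdim] at h5
  refine le_trans (Nat.cast_le.1 h5) ?_
  rw [← finrank_top, ← htop]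
  exact (finrank_range_le_card fun i => L (ω i)).trans (Fintype.card_fin _).le

end Groth.Agent.S14443
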