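import Groth.Statements.S14447
import Mathlib

set_option autoImplicit false
universe w v u
open AlgGrp

namespace Groth.Agent.S14447

open CategoryTheory CategoryTheory.Limits in
theorem main {C : Type u} [Category.{v} C] [HasFiniteProducts C] [HasCoproducts.{w} C]
    (h : ∀ (I : Type w) (U : C), IsIso (Sigma.desc fun i : I =>
      prod.lift (terminal.from U ≫ Sigma.ι (fun _ : I => ⊤_ C) i) (𝟙 U))) :
    PreservesFiniteProducts (sigmaConst.{w}.obj (⊤_ C)) := by
  let F := sigmaConst.{w}.obj (⊤_ C)
  haveI ht : PreservesLimit (Functor.empty.{0} (Type w)) F := by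
    refine preservesLimit_of_preserves_limit_cone Types.isTerminalPUnit ?_
    refine (isLimitMapConeEmptyConeEquiv F _).symm (IsTerminal.ofIso terminalIsTerminal ?_)
    exact ⟨Sigma.ι (fun _ : PUnit.{w + 1} => ⊤_ C) PUnit.unit, terminal.from _, terminal.hom_ext _ _,
      Sigma.hom_ext _ _ fun x => by
        refine (Category.assoc _ _ _).symm.trans ?_
        refine (congrArg (· ≫ _) (terminal.hom_ext _ (𝟙 _))).trans ?_
        exact (Category.id_comp _).trans (Category.comp_id _).symm⟩
  haveI hb : PreservesLimitsOfShape (Discrete WalkingPair) F := by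
    constructor
    intro K
    suffices PreservesLimit (pair (K.obj ⟨WalkingPair.left⟩) (K.obj ⟨WalkingPair.right⟩)) F from
      preservesLimit_of_iso_diagram F (diagramIsoPair K).symm
    generalize K.obj ⟨WalkingPair.left⟩ = I
    generalize K.obj ⟨WalkingPair.right⟩ = J
    refine preservesLimit_of_preserves_limit_cone
      (Types.binaryProductLimit I J) ?_
    refine (isLimitMapConeBinaryFanEquiv F _ _).symm ?_
    let a : (∐ fun _ : I × J => ⊤_ C) ≅ ∐ fun _ : I => ∐ fun _ : J => ⊤_ C :=
      { hom := Sigma.desc fun x => Sigma.ι (fun _ : J => ⊤_ C) x.2 ≫ Sigma.ι (fun _ : I => ∐ fun _ : J => ⊤_ C) x.1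
        inv := Sigma.desc fun i => Sigma.desc fun j => Sigma.ι (fun _ : I × J => ⊤_ C) (i, j)
        hom_inv_id := Sigma.hom_ext _ _ fun x => by simp
        inv_hom_id := Sigma.hom_ext _ _ fun i => Sigma.hom_ext _ _ fun j => by simp }
    haveI := h I (∐ fun _ : J => ⊤_ C)
    let φ := a ≪≫ asIso (Sigma.desc fun i : I => prod.lift (terminal.from (∐ fun _ : J => ⊤_ C) ≫
      Sigma.ι (fun _ : I => ⊤_ C) i) (𝟙 _))
    refine IsLimit.ofIsoLimit (prodIsProd (F.obj I) (F.obj J)) (BinaryFan.ext φ ?_ ?_).symm
    · refine Sigma.hom_ext _ _ fun x => ?_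
      simp [φ, a, F, sigmaConst, Types.binaryProductCone]
      rw [prod.lift_fst, ← Category.assoc,
        terminal.hom_ext (Sigma.ι (fun _ : J => ⊤_ C) x.2 ≫ terminal.from _) (𝟙 _), Category.id_comp]
    · refine Sigma.hom_ext _ _ fun x => ?_
      simp [φ, a, F, sigmaConst, Types.binaryProductCone]
      rw [prod.lift_snd, Category.comp_id]
  haveI : PreservesLimitsOfShape (Discrete PEmpty.{1}) F := preservesLimitsOfShape_pempty_of_preservesTerminal F
  exact PreservesFiniteProducts.of_preserves_binary_and_terminal F

open CategoryTheory CategoryTheory.Limits in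
/-- Let C be a category with finite products and with all coproducts indexed by sets, and assume that
for every set I and every object U the canonical arrow ∐_{i∈I} U → (∐_{i∈I} pt) × U, whose i-th
component pairs U → pt → ∐_{i∈I} pt (i-th coprojection) with the identity of U, is an isomorphism.
Then the discrete-object functor from sets to C, I ↦ ∐_{i∈I} pt, preserves finite products. (Sets
are the types of one fixed universe, the one indexing the coproducts. The published statement asks
only for the coproducts of copies of one object; this row assumes that C has all coproducts indexed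
by sets, which Mathlib's discrete-object functor sigmaConst requires.) -/
theorem result {C : Type u} [Category.{v} C]
    [HasFiniteProducts C] [HasCoproducts.{w} C]
    (h : ∀ (I : Type w) (U : C), IsIso (Sigma.desc fun i : I =>
      prod.lift (terminal.from U ≫ Sigma.ι (fun _ : I => ⊤_ C) i) (𝟙 U))) :
    PreservesFiniteProducts (sigmaConst.{w}.obj (⊤_ C)) := by
  open CategoryTheory CategoryTheory.Limits in exact main h

end Groth.Agent.S14447
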