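import Groth.Statements.S14453
import Mathlib.AlgebraicGeometry.Sites.AffineEtale
import Mathlib.AlgebraicGeometry.Morphisms.UniversallyOpen
import Mathlib.AlgebraicGeometry.PullbackCarrier

set_option autoImplicit false
universe w u
open CategoryTheory AlgebraicGeometry
open EtCore

namespace Groth.Agent.S14453

section Helpers

open AlgebraicGeometry CategoryTheory CategoryTheory.Limits Opposite

universe v

variable {X : Scheme.{u}}

theorem mem_iff {W : X.Etale} (S : Sieve W) :
    S ∈ X.smallEtaleTopology W ↔ ∀ w : W.left, ∃ (Z : X.Etale) (g : Z ⟶ W) (z : Z.left), S g ∧ g.left z = w := by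
  constructor
  · intro hS w
    obtain ⟨𝒰, _, h, hle⟩ := (Scheme.mem_smallGrothendieckTopology _ _).1 hS
    obtain ⟨i, z, hz⟩ := 𝒰.exists_eq w
    exact ⟨_, _, z, hle _ _ (Presieve.ofArrows.mk i), hz⟩
  · intro h
    choose Z g z hS hz using h
    refine (X.smallEtaleTopology).superset_covering ?_
      ((Scheme.ofArrows_mem_smallEtaleTopology_iff g).2
        (Set.eq_univ_of_forall fun w => Set.mem_iUnion.2 ⟨w, z w, hz w⟩))
    rintro Y f ⟨Y', a, b, ⟨w⟩, rfl⟩
    exact S.downward_closed (hS w) a

theorem mem_zar {U : X.Etale} (S : Sieve U) :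
    S ∈ X.smallGrothendieckTopology (P := @IsOpenImmersion) U ↔
      ∀ x : U.left, ∃ (Y : X.Etale) (f : Y ⟶ U) (y : Y.left), S f ∧ IsOpenImmersion f.left ∧ f.left y = x := by
  rw [Scheme.smallGrothendieckTopology_eq_toGrothendieck_smallPretopology X
    (show @IsOpenImmersion ≤ (@Etale : MorphismProperty Scheme.{u}) from fun _ _ _ h => by
      haveI := h
      infer_instance)]
  exact Scheme.mem_toGrothendieck_smallPretopology _ _

theorem zar_le (X : Scheme.{u}) :
    X.smallGrothendieckTopology (P := @IsOpenImmersion) ≤ X.smallEtaleTopology := fun U S hS =>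
  (mem_iff S).2 fun x => by
    obtain ⟨Y, f, y, hS, -, hy⟩ := (mem_zar S).1 hS x
    exact ⟨Y, f, y, hS, hy⟩

/-- An open subscheme as an object of the small etale site. -/
noncomputable def opn (U : X.Etale) (A : U.left.Opens) : X.Etale :=
  haveI : Etale U.hom := U.prop
  Scheme.Etale.mk (A.ι ≫ U.hom)

/-- Its inclusion. -/
noncomputable def opnι (U : X.Etale) (A : U.left.Opens) : opn U A ⟶ U :=
  MorphismProperty.Over.homMk A.ι rfl

theorem left_comp {U V W : X.Etale} (g : W ⟶ V) (f : V ⟶ U) (w : W.left) : (g ≫ f).left w = f.left (g.left w) :=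
  rfl

theorem exists_common {U V W : X.Etale} (a : V ⟶ U) (b : W ⟶ U) (v : V.left) (w : W.left)
    (h : a.left v = b.left w) :
    ∃ (P : X.Etale) (p : P ⟶ V) (q : P ⟶ W) (z : P.left), p.left z = v ∧ q.left z = w ∧ p ≫ a = q ≫ b := by
  obtain ⟨z, hz₁, hz₂⟩ := Scheme.Pullback.exists_preimage_pullback v w h
  haveI : Etale V.hom := V.prop
  haveI : Etale W.hom := W.prop
  haveI : Etale U.hom := U.prop
  haveI : Etale a.left := by
    haveI : Etale (a.left ≫ U.hom) := by
      have := MorphismProperty.Over.w a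
      rw [this]; infer_instance
    exact MorphismProperty.of_postcomp @Etale a.left U.hom ‹Etale U.hom› ‹_›
  haveI : Etale b.left := by
    haveI : Etale (b.left ≫ U.hom) := by
      have := MorphismProperty.Over.w b
      rw [this]; infer_instance
    exact MorphismProperty.of_postcomp @Etale b.left U.hom ‹Etale U.hom› ‹_›
  refine ⟨Scheme.Etale.mk (pullback.fst a.left b.left ≫ V.hom), MorphismProperty.Over.homMk (pullback.fst _ _) rfl,
    MorphismProperty.Over.homMk (pullback.snd _ _) ?_, z, hz₁, hz₂, MorphismProperty.Over.Hom.ext pullback.condition⟩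
  show pullback.snd a.left b.left ≫ W.hom = pullback.fst a.left b.left ≫ V.hom
  rw [← MorphismProperty.Over.w a, ← MorphismProperty.Over.w b, pullback.condition_assoc]

variable (F : X.Etaleᵒᵖ ⥤ Type v)

theorem map_map {U V W : X.Etale} (g : W ⟶ V) (f : V ⟶ U) (s : F.obj (op U)) :
    F.map g.op (F.map f.op s) = F.map (g ≫ f).op s := by
  simp

variable (hz : Presieve.IsSheaf (X.smallGrothendieckTopology (P := @IsOpenImmersion)) F)
  (ha : ∀ (U V : X.Etale) [IsAffine U.left] [IsAffine V.left] (f : V ⟶ U) [Surjective f.left],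
    Presieve.IsSheafFor F (Presieve.singleton f))

/-- An affine covering by finitely many members of a sieve. -/
theorem exists_affine_cover {U : X.Etale} [IsAffine U.left] (S : Sieve U) (hS : S ∈ X.smallEtaleTopology U) :
    ∃ (V : X.Etale) (f : V ⟶ U) (n : ℕ) (A : Fin n → X.Etale) (j : ∀ i, A i ⟶ V),
      IsAffine V.left ∧ Surjective f.left ∧ (∀ i, IsOpenImmersion (j i).left ∧ S (j i ≫ f)) ∧
        ∀ v, ∃ i a, (j i).left a = v := by
  classical
  choose Z g z hg hz using (mem_iff S).1 hS
  choose A hA hzA using fun u => exists_isAffineOpen_mem_and_subset (U := ⊤)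
    (show z u ∈ (⊤ : (Z u).left.Opens) from trivial)
  let O : U.left → X.Etale := fun u => opn (Z u) (A u)
  let o : ∀ u, O u ⟶ U := fun u => opnι (Z u) (A u) ≫ g u
  have hopen : ∀ u, IsOpen (Set.range (o u).left) := fun u => by
    haveI : Etale (O u).hom := (O u).prop
    haveI : Etale U.hom := U.prop
    haveI : Etale ((o u).left ≫ U.hom) := by
      have := MorphismProperty.Over.w (o u)
      rw [this]; infer_instance
    haveI : Etale (o u).left := MorphismProperty.of_postcomp @Etale (o u).left U.hom ‹Etale U.hom› ‹_›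
    exact (Scheme.Hom.isOpenMap (o u).left).isOpen_range
  have hmem : ∀ u, u ∈ Set.range (o u).left := fun u =>
    ⟨⟨z u, (hzA u).1⟩, (left_comp _ _ _).trans (hz u)⟩
  obtain ⟨t, ht⟩ := isCompact_univ.elim_finite_subcover (fun u => Set.range (o u).left) hopen
    (fun u _ => Set.mem_iUnion.2 ⟨u, hmem u⟩)
  let e := t.equivFin.symm
  let B : Fin t.card → X.Etale := fun i => O (e i).1
  haveI : ∀ i, Etale (B i).hom := fun i => (B i).prop
  haveI : Etale (Sigma.desc fun i => (B i).hom) := IsZariskiLocalAtSource.sigmaDesc (P := @Etale) fun i => (B i).prop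
  let V : X.Etale := Scheme.Etale.mk (Sigma.desc fun i => (B i).hom)
  let j : ∀ i, B i ⟶ V := fun i => MorphismProperty.Over.homMk (Sigma.ι (fun i => (B i).left) i) (Sigma.ι_desc _ _)
  let f : V ⟶ U := MorphismProperty.Over.homMk (Sigma.desc fun i => (o (e i).1).left) (Sigma.hom_ext _ _ fun i =>
    ((Category.assoc _ _ _).symm.trans
      ((congrArg (· ≫ U.hom) (Sigma.ι_desc (fun i => (o (e i).1).left) i)).trans
        (MorphismProperty.Over.w (o (e i).1)))).trans (Sigma.ι_desc (fun i => (B i).hom) i).symm)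
  have hjf : ∀ i, j i ≫ f = o (e i).1 := fun i =>
    MorphismProperty.Over.Hom.ext (Sigma.ι_desc (fun i => (o (e i).1).left) i)
  haveI : ∀ i, IsAffine (B i).left := fun i => hA _
  refine ⟨V, f, t.card, B, j, inferInstanceAs (IsAffine (∐ fun i => (B i).left)), ⟨fun u => ?_⟩,
    fun i => ⟨inferInstanceAs (IsOpenImmersion (Sigma.ι (fun i => (B i).left) i)), ?_⟩, fun v => ?_⟩
  · obtain ⟨w, hw, a, ha⟩ := Set.mem_iUnion₂.1 (ht (Set.mem_univ u))
    obtain ⟨i, rfl⟩ : ∃ i, (e i).1 = w := ⟨t.equivFin ⟨w, hw⟩, by simp [e]⟩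
    exact ⟨(j i).left a, (left_comp (j i) f a).symm.trans ((congrArg (fun m : B i ⟶ U => m.left a) (hjf i)).trans ha)⟩
  · rw [hjf]
    exact S.downward_closed (hg _) _
  · obtain ⟨i, a, ha⟩ := (sigmaOpenCover (fun i => (B i).left)).exists_eq v
    exact ⟨i, a, ha⟩

include hz in
/-- Zariski separatedness. -/
theorem zar_ext {U : X.Etale} {s t : F.obj (op U)}
    (h : ∀ u : U.left, ∃ (Y : X.Etale) (f : Y ⟶ U) (y : Y.left), IsOpenImmersion f.left ∧ f.left y = u ∧
      F.map f.op s = F.map f.op t) : s = t := by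
  let S : Sieve U :=
    { arrows := fun Y f => F.map f.op s = F.map f.op t
      downward_closed := fun {Y Z f} hf g => by rw [← map_map, hf, map_map] }
  exact (hz.isSeparated S ((mem_zar S).2 fun u => by
    obtain ⟨Y, f, y, ho, hy, he⟩ := h u
    exact ⟨Y, f, y, he, ho, hy⟩)).ext fun Y f hf => hf

include hz ha in
/-- Separatedness for etale coverings. -/
theorem etale_ext {U : X.Etale} (S : Sieve U) (hS : S ∈ X.smallEtaleTopology U) {s t : F.obj (op U)}
    (h : ∀ (Y : X.Etale) (f : Y ⟶ U), S f → F.map f.op s = F.map f.op t) : s = t := by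
  refine zar_ext F hz fun u => ?_
  obtain ⟨A, hA, huA, -⟩ := exists_isAffineOpen_mem_and_subset (U := ⊤) (show u ∈ (⊤ : U.left.Opens) from trivial)
  haveI : IsAffine (opn U A).left := hA
  refine ⟨opn U A, opnι U A, ⟨u, huA⟩, inferInstanceAs (IsOpenImmersion A.ι), rfl, ?_⟩
  obtain ⟨V, f, n, B, j, hV, hf, hj, hjs⟩ :=
    exists_affine_cover (S.pullback (opnι U A)) (X.smallEtaleTopology.pullback_stable _ hS)
  haveI := hV
  haveI := hf
  refine (ha (opn U A) V f).isSeparatedFor.ext ?_
  rintro _ _ ⟨⟩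
  refine zar_ext F hz fun v => ?_
  obtain ⟨i, a, hi⟩ := hjs v
  refine ⟨B i, j i, a, (hj i).1, hi, ?_⟩
  rw [map_map, map_map, map_map, map_map]
  exact h _ _ (hj i).2

include hz ha in
theorem isSheaf_of : Presieve.IsSheaf X.smallEtaleTopology F := by
  intro U S hS x hx
  rw [Presieve.compatible_iff_sieveCompatible] at hx
  -- the restriction to an affine open
  have hloc : ∀ u : U.left, ∃ (A : U.left.Opens) (s : F.obj (op (opn U A))), u ∈ A ∧
      ∀ (W : X.Etale) (g : W ⟶ opn U A) (hg : S (g ≫ opnι U A)), F.map g.op s = x (g ≫ opnι U A) hg := by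
    intro u
    obtain ⟨A, hA, huA, -⟩ := exists_isAffineOpen_mem_and_subset (U := ⊤) (show u ∈ (⊤ : U.left.Opens) from trivial)
    haveI : IsAffine (opn U A).left := hA
    obtain ⟨V, f, n, B, j, hV, hf, hj, hjs⟩ :=
      exists_affine_cover (S.pullback (opnι U A)) (X.smallEtaleTopology.pullback_stable _ hS)
    haveI := hV
    haveI := hf
    have hS' : ∀ i, S ((j i ≫ f) ≫ opnι U A) := fun i => (hj i).2
    -- glue on the pieces
    let P : Presieve V := Presieve.ofArrows B j
    obtain ⟨y, hy, -⟩ := (Presieve.isSheafFor_arrows_iff F j).1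
      (by
        rw [Presieve.isSheafFor_iff_generate]
        refine hz _ ((mem_zar _).2 fun v => ?_)
        obtain ⟨i, a, hi⟩ := hjs v
        exact ⟨B i, j i, a, Sieve.le_generate P _ _ ⟨i⟩, (hj i).1, hi⟩)
      (fun i => x _ (hS' i))
      (fun i k Z p q hpq => by
        rw [← hx _ p (hS' i), ← hx _ q (hS' k)]
        congr 1
        simp only [← Category.assoc, hpq])
    -- compatible on the kernel pair
    have hmain : ∀ (W : X.Etale) (a : W ⟶ V) (g : W ⟶ opn U A) (_ : a ≫ f = g) (hg : S (g ≫ opnι U A)),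
        F.map a.op y = x (g ≫ opnι U A) hg := by
      intro W a g hag hg
      let T : Sieve W :=
        { arrows := fun Z k => ∃ i p, p ≫ j i = k ≫ a
          downward_closed := fun {Z Z' k} ⟨i, p, hp⟩ l => ⟨i, l ≫ p, by rw [Category.assoc, hp, Category.assoc]⟩ }
      refine etale_ext F hz ha T ((mem_iff T).2 fun w => ?_) fun Z k hk => ?_
      · obtain ⟨i, b, hb⟩ := hjs (a.left w)
        obtain ⟨P, p, q, z, hp, -, hpq⟩ := exists_common a (j i) w b hb.symm
        exact ⟨P, p, z, ⟨i, q, hpq.symm⟩, hp⟩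
      · obtain ⟨i, p, hp⟩ := hk
        rw [map_map, ← hp, ← map_map F p (j i), hy, ← hx _ p (hS' i), ← hx _ k hg]
        congr 1
        rw [← hag]
        simp only [← Category.assoc, hp]
    have hcompat : ∀ (W : X.Etale) (a b : W ⟶ V), a ≫ f = b ≫ f → F.map a.op y = F.map b.op y := fun W a b hab => by
      refine etale_ext F hz ha (S.pullback ((a ≫ f) ≫ opnι U A)) (X.smallEtaleTopology.pullback_stable _ hS)
        fun Z k hk => ?_
      have hk' : S (((k ≫ a) ≫ f) ≫ opnι U A) := by simpa only [Category.assoc] using (show S _ from hk)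
      rw [map_map, map_map, hmain Z (k ≫ a) _ rfl hk',
        hmain Z (k ≫ b) ((k ≫ a) ≫ f) (by rw [Category.assoc, Category.assoc, hab]) hk']
    obtain ⟨s, hs, -⟩ := Presieve.isSheafFor_singleton.1 (ha (opn U A) V f) y fun a b hab => hcompat _ a b hab
    refine ⟨A, s, huA, fun W g hg => ?_⟩
    let T : Sieve W :=
      { arrows := fun Z k => ∃ a, a ≫ f = k ≫ g
        downward_closed := fun {Z Z' k} ⟨a, ha'⟩ l => ⟨l ≫ a, by rw [Category.assoc, ha', Category.assoc]⟩ }
    refine etale_ext F hz ha T ((mem_iff T).2 fun w => ?_) fun Z k hk => ?_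
    · obtain ⟨v, hv⟩ := hf.surj (g.left w)
      obtain ⟨P, p, q, z, hp, -, hpq⟩ := exists_common g f w v hv.symm
      exact ⟨P, p, z, ⟨q, hpq.symm⟩, hp⟩
    · obtain ⟨a, hak⟩ := hk
      have hkg : S ((k ≫ g) ≫ opnι U A) := by
        rw [Category.assoc]; exact S.downward_closed hg k
      rw [map_map, ← hak, ← map_map F a f, hs, hmain Z a (k ≫ g) hak hkg, ← hx _ k hg]
      congr 1
      all_goals rw [Category.assoc]
  choose A s huA hs using hloc
  let P : Presieve U := Presieve.ofArrows (fun u => opn U (A u)) (fun u => opnι U (A u))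
  obtain ⟨y, hy, -⟩ := (Presieve.isSheafFor_arrows_iff F (fun u => opnι U (A u))).1
    (by
      rw [Presieve.isSheafFor_iff_generate]
      refine hz _ ((mem_zar _).2 fun u => ?_)
      exact ⟨opn U (A u), opnι U (A u), ⟨u, huA u⟩, Sieve.le_generate P _ _ ⟨u⟩,
        inferInstanceAs (IsOpenImmersion (A u).ι), rfl⟩)
    s
    (fun u u' Z p q hpq => by
      refine etale_ext F hz ha (S.pullback (p ≫ opnι U (A u))) (X.smallEtaleTopology.pullback_stable _ hS)
        fun W k hk => ?_
      have hk1 : S ((k ≫ p) ≫ opnι U (A u)) := by simpa only [Category.assoc] using (show S _ from hk)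
      have hk2 : S ((k ≫ q) ≫ opnι U (A u')) := by rwa [Category.assoc, ← hpq, ← Category.assoc]
      rw [map_map, map_map, hs u W _ hk1, hs u' W _ hk2]
      congr 1
      rw [Category.assoc, Category.assoc, hpq])
  refine ⟨y, fun W g hg => ?_, fun y' hy' => etale_ext F hz ha S hS fun W g hg => ?_⟩
  · refine zar_ext F hz fun w => ?_
    let u := g.left w
    let gu : W.left.Opens := g.left ⁻¹ᵁ A u
    let k : opn W gu ⟶ opn U (A u) := MorphismProperty.Over.homMk (g.left ∣_ A u) (by
      show (g.left ∣_ A u) ≫ (A u).ι ≫ U.hom = gu.ι ≫ W.hom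
      rw [← Category.assoc, morphismRestrict_ι, Category.assoc]
      exact congrArg (gu.ι ≫ ·) (MorphismProperty.Over.w g))
    have hk : k ≫ opnι U (A u) = opnι W gu ≫ g := MorphismProperty.Over.Hom.ext (morphismRestrict_ι _ _)
    refine ⟨opn W gu, opnι W gu, ⟨w, huA u⟩, inferInstanceAs (IsOpenImmersion gu.ι), rfl, ?_⟩
    have hkS : S (k ≫ opnι U (A u)) := by rw [hk]; exact S.downward_closed hg _
    rw [map_map, ← hk, ← map_map F k, hy u, hs u _ k hkS, ← hx _ (opnι W gu) hg]
    congr 1
  · rw [hy' g hg]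
    refine (zar_ext F hz fun w => ?_)
    let u := g.left w
    let gu : W.left.Opens := g.left ⁻¹ᵁ A u
    let k : opn W gu ⟶ opn U (A u) := MorphismProperty.Over.homMk (g.left ∣_ A u) (by
      show (g.left ∣_ A u) ≫ (A u).ι ≫ U.hom = gu.ι ≫ W.hom
      rw [← Category.assoc, morphismRestrict_ι, Category.assoc]
      exact congrArg (gu.ι ≫ ·) (MorphismProperty.Over.w g))
    have hk : k ≫ opnι U (A u) = opnι W gu ≫ g := MorphismProperty.Over.Hom.ext (morphismRestrict_ι _ _)
    refine ⟨opn W gu, opnι W gu, ⟨w, huA u⟩, inferInstanceAs (IsOpenImmersion gu.ι), rfl, ?_⟩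
    have hkS : S (k ≫ opnι U (A u)) := by rw [hk]; exact S.downward_closed hg _
    rw [map_map, ← hk, ← map_map F k, hy u, hs u _ k hkS, ← hx _ (opnι W gu) hg]
    congr 1
    exact hk.symm

end Helpers

/-- Let X be a scheme and F a presheaf of sets on the small étale site of X. Then F is an étale sheaf if
and only if F is a sheaf for the Zariski topology on the same category (coverings are jointly
surjective families of open immersions between étale X-schemes) and, for every morphism f : V ⟶ U of
étale X-schemes with U and V affine and f surjective, F satisfies the sheaf condition for the single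
arrow f. -/
theorem result (X : Scheme.{u})
    (F : X.Etaleᵒᵖ ⥤ Type w) :
    Presieve.IsSheaf X.smallEtaleTopology F ↔
      Presieve.IsSheaf (X.smallGrothendieckTopology (P := @IsOpenImmersion)) F ∧
        ∀ (U V : X.Etale) [IsAffine U.left] [IsAffine V.left] (f : V ⟶ U) [Surjective f.left],
          Presieve.IsSheafFor F (Presieve.singleton f) := by
  constructor
  · intro h
    refine ⟨Presieve.isSheaf_of_le _ (zar_le X) h, fun U V _ _ f hf => ?_⟩
    rw [Presieve.isSheafFor_iff_generate]
    refine h _ ((mem_iff _).2 fun w => ?_)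
    obtain ⟨v, hv⟩ := hf.surj w
    exact ⟨V, f, v, Sieve.le_generate (Presieve.singleton f) _ _ (Presieve.singleton_self f), hv⟩
  · rintro ⟨hz, ha⟩
    exact isSheaf_of F hz fun U V _ _ f _ => ha U V f

end Groth.Agent.S14453
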