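import Groth.Statements.S14455
import Groth.Agent.ZetaLib.Twist

set_option autoImplicit false
universe u
open CategoryTheory AlgebraicGeometry
open Zeta

namespace Groth.Agent.S14455

/-- For a scheme X of finite type over a finite field k with q elements, the zeta function of the affine
line over X (a k-scheme through X) is obtained from that of X by the substitution t ↦ qt, that is
Z(𝔸¹_X, t) = Z(X, qt) in ℚ⟦t⟧. (The published statement is the equality ζ(𝔸¹_X, s) = ζ(X, s − 1) of
zeta functions in the variable s; under the substitution t = q^(−s), which turns ζ(Y, s) into Z(Y,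
t) for every Y of finite type over k, it is the identity stated here.) -/
theorem result {k : Type u} [Field k] [Finite k] {X : Scheme.{u}}
    (f : X ⟶ Spec (CommRingCat.of k)) [LocallyOfFiniteType f] [QuasiCompact f] :
    Zeta.zetaFun ((𝔸(PUnit.{u + 1}; X) ↘ X) ≫ f) =
      PowerSeries.rescale (Nat.card k : ℚ) (Zeta.zetaFun f) := by
  set π := (𝔸(PUnit.{u + 1}; X) ↘ X) with hπ
  haveI : QuasiCompact π := by
    rw [hπ]; exact inferInstance
  have hN : ∀ n : ℕ, 0 < n → Zeta.nPts (π ≫ f) n = Nat.card k ^ n * Zeta.nPts f n := by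
    intro n hn
    obtain ⟨K, _, _, _, hK⟩ := Groth.Agent.ZetaLib.exists_ext (k := k) hn
    haveI : Module.Finite k K := Module.Finite.of_finite
    rw [← hK, ← Groth.Agent.S13050.result (π ≫ f) K, ← Groth.Agent.S13050.result f K,
      ← Module.natCard_eq_pow_finrank (K := k)]
    let e : {g : Spec (CommRingCat.of K) ⟶ 𝔸(PUnit.{u + 1}; X) //
        g ≫ π ≫ f = Spec.map (CommRingCat.ofHom (algebraMap k K))} ≃
        (PUnit.{u + 1} → Γ(Spec (CommRingCat.of K), ⊤)) ×
          {h : Spec (CommRingCat.of K) ⟶ X // h ≫ f = Spec.map (CommRingCat.ofHom (algebraMap k K))} :=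
      { toFun := fun g => (fun i => g.1.appTop (AffineSpace.coord X i), ⟨g.1 ≫ π, by rw [Category.assoc]; exact g.2⟩)
        invFun := fun q => ⟨AffineSpace.homOfVector q.2.1 q.1, by
          rw [← Category.assoc, hπ, AffineSpace.homOfVector_over]; exact q.2.2⟩
        left_inv := fun g => Subtype.ext (AffineSpace.hom_ext (AffineSpace.homOfVector_over _ _)
          fun i => AffineSpace.homOfVector_appTop_coord _ _ i)
        right_inv := fun q => Prod.ext (funext fun i => AffineSpace.homOfVector_appTop_coord _ _ i)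
          (Subtype.ext (AffineSpace.homOfVector_over _ _)) }
    show Nat.card _ = Nat.card K * Nat.card _
    rw [Nat.card_congr e, Nat.card_prod, Nat.card_fun, Nat.card_eq_one_iff_unique.mpr ⟨(inferInstance : Subsingleton PUnit.{u + 1}), inferInstance⟩, pow_one,
      Nat.card_congr (Scheme.ΓSpecIso (CommRingCat.of K)).commRingCatIsoToRingEquiv.toEquiv]
  refine Groth.Agent.WeilLib.LogD.unique (Groth.Agent.ZetaLib.logD_zetaFun (π ≫ f)).1
    ((congrArg (Groth.Agent.WeilLib.LogD _) ?_).mpr
      (Groth.Agent.ZetaLib.LogD.rescale (Groth.Agent.ZetaLib.logD_zetaFun f).1 (Nat.card k : ℚ))) ?_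
  · ext m
    simp only [PowerSeries.coeff_mk, hN (m + 1) (Nat.succ_pos m)]
    push_cast
    rfl
  · rw [(Groth.Agent.ZetaLib.logD_zetaFun _).2, ← PowerSeries.coeff_zero_eq_constantCoeff_apply,
      PowerSeries.coeff_rescale, pow_zero, one_mul, PowerSeries.coeff_zero_eq_constantCoeff_apply,
      (Groth.Agent.ZetaLib.logD_zetaFun f).2]

end Groth.Agent.S14455
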