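import Groth.Statements.S14458
import Mathlib.LinearAlgebra.TensorProduct.Quotient
import Mathlib.RingTheory.Artinian.Ring

set_option autoImplicit false
universe u
open CAlg

namespace Groth.Agent.S14458

open TensorProduct in
/-- Let R be an Artinian local ring with residue field k and M an R-module, not necessarily finitely
generated. If M ⊗_R k = 0 then M = 0. -/
theorem result {R : Type u} [CommRing R]
    [IsArtinianRing R] [IsLocalRing R] (M : Type u) [AddCommGroup M] [Module R M]
    (h : Subsingleton ((IsLocalRing.ResidueField R) ⊗[R] M)) : Subsingleton M := by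
  have e := (TensorProduct.quotTensorEquivQuotSMul M (IsLocalRing.maximalIdeal R)).symm.toEquiv
  have hs : Subsingleton (M ⧸ (IsLocalRing.maximalIdeal R • (⊤ : Submodule R M))) := by
    exact @Equiv.subsingleton _ _ e h
  have htop : IsLocalRing.maximalIdeal R • (⊤ : Submodule R M) = ⊤ :=
    Submodule.Quotient.subsingleton_iff.mp hs
  have hn : ∀ n, IsLocalRing.maximalIdeal R ^ n • (⊤ : Submodule R M) = ⊤ := by
    intro n
    induction n with
    | zero => simp
    | succ n ih => rw [pow_succ, Submodule.mul_smul, htop, ih]
  obtain ⟨n, hn0⟩ : IsNilpotent (IsLocalRing.maximalIdeal R) := by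
    rw [← IsLocalRing.jacobson_eq_maximalIdeal (⊥ : Ideal R) bot_ne_top]
    exact IsArtinianRing.isNilpotent_jacobson_bot
  have := hn n
  rw [hn0, Submodule.zero_eq_bot, Submodule.bot_smul] at this
  exact (Submodule.subsingleton_iff R).mp (subsingleton_of_bot_eq_top this)

end Groth.Agent.S14458
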