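import Groth.Statements.S1446
import Groth.Agent.FlatFunLib.RelAssClosure

set_option autoImplicit false
universe u
open FlatMor

namespace Groth.Agent.S1446

open AlgebraicGeometry CategoryTheory Limits in
/-- Let f : X → S be locally of finite type, F a quasi-coherent O_X-module of finite type, and ξ a point
of the relative assassin of F with closure Z. Then there is a nonempty subset V of Z, open in Z,
such that for every point x of V, if x is a generic point of an irreducible component of the fibre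
of V through x then x lies in the relative assassin of F. -/
theorem result {X S : Scheme.{u}} (f : X ⟶ S) [LocallyOfFiniteType f]
    (F : X.Modules) (hF : Coh.IsCoh F) (ξ : X) (hξ : ξ ∈ MoreMor.relAss f F) :
    ∃ V : Set ↑X, V ⊆ closure {ξ} ∧ IsOpen (Subtype.val ⁻¹' V : Set ↑(closure ({ξ} : Set ↑X))) ∧ V.Nonempty ∧
      ∀ (x : X) (hx : x ∈ V), (∃ C ∈ irreducibleComponents ↑(V ∩ f ⁻¹' {f x}), IsGenericPoint (⟨x, hx, rfl⟩ : ↑(V ∩ f ⁻¹' {f x})) C) →
        x ∈ MoreMor.relAss f F := by
  obtain ⟨O, hξO, hO⟩ := FlatFunLib.exists_open_closure_generic_relAss f F hF.1 hF.2 ξ hξ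
  refine ⟨closure {ξ} ∩ O, Set.inter_subset_left, ?_, ⟨ξ, subset_closure rfl, hξO⟩, fun x hx hC => ?_⟩
  · have : (Subtype.val ⁻¹' (closure {ξ} ∩ (O : Set X)) : Set ↑(closure ({ξ} : Set ↑X))) = Subtype.val ⁻¹' (O : Set X) := by
      ext z
      exact ⟨fun h => h.2, fun h => ⟨z.2, h⟩⟩
    rw [this]
    exact O.isOpen.preimage continuous_subtype_val
  · obtain ⟨C, hC, hgen⟩ := hC
    refine hO x hx.2 (specializes_iff_mem_closure.2 hx.1) fun x' hx'O hξx' hfx' hsp => ?_
    let z' : ↑((closure {ξ} ∩ (O : Set X)) ∩ f ⁻¹' {f x}) := ⟨x', ⟨specializes_iff_mem_closure.1 hξx', hx'O⟩, hfx'⟩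
    have hs : z' ⤳ (⟨x, hx, rfl⟩ : ↑((closure {ξ} ∩ (O : Set X)) ∩ f ⁻¹' {f x})) :=
      (subtype_specializes_iff _ _).2 hsp
    have hsub : C ⊆ closure {z'} := hgen.def ▸ closure_minimal
      (Set.singleton_subset_iff.2 (specializes_iff_mem_closure.1 hs)) isClosed_closure
    have hz' : IsGenericPoint z' C :=
      (hC.2 (isIrreducible_singleton.closure) hsub).antisymm hsub
    exact congrArg Subtype.val (hz'.eq hgen)

end Groth.Agent.S1446
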