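import Groth.Statements.S14460
-- import your own Groth.Agent.* helpers here
import Groth.Agent.S0294
import Groth.Agent.EtaleSections.Basic
import Mathlib.AlgebraicGeometry.Limits

set_option autoImplicit false
universe u
open CategoryTheory CategoryTheory.Limits AlgebraicGeometry
open Pi1

namespace Groth.Agent.S14460

/-- Let Y → X be finite étale with Y nonempty and all geometric fibres of the same cardinality n, and
let a finite group G act on Y over X without fixed points (no point of Y with values in a field is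
fixed by a non-identity element). Then G has at most n elements, and it has exactly n elements if
and only if the morphism from the disjoint union of copies of Y indexed by G to Y ×_X Y, given on
the copy indexed by g by the identity and g, is an isomorphism. (For Y empty the bound fails, since
every finite group acts without fixed points on the empty cover, whose fibres have cardinality 0;
this row assumes Y nonempty.) -/
theorem result {X : Scheme.{u}} (Y : FEt.Cat X)
    [Nonempty ↥Y.left] (n : ℕ)
    (hn : ∀ (Ω : Type u) [Field Ω] [IsSepClosed Ω] (ξ : Spec (CommRingCat.of Ω) ⟶ X), Nat.card (FEt.fiberObj ξ Y) = n)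
    (G : Type u) [Group G] [Finite G] (ρ : G →* Aut Y)
    (hfree : ∀ g : G, g ≠ 1 → ∀ (K : Type u) [Field K] (y : Spec (CommRingCat.of K) ⟶ Y.left),
      y ≫ (ρ g).hom.left ≠ y) :
    Nat.card G ≤ n ∧
      (Nat.card G = n ↔ IsIso (Limits.Sigma.desc fun g : G =>
        pullback.lift (𝟙 Y.left) (ρ g).hom.left
          ((Category.id_comp Y.hom).trans (Over.w (ρ g).hom.hom).symm) : (∐ fun _ : G => Y.left) ⟶ pullback Y.hom Y.hom)) := by
  haveI : IsFinite Y.hom := Y.prop.1
  haveI : Etale Y.hom := Y.prop.2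
  obtain ⟨y₀⟩ := (inferInstance : Nonempty ↥Y.left)
  -- the orbit map at a geometric point
  let orb : ∀ (Ω : Type u) [Field Ω] (y : Spec (CommRingCat.of Ω) ⟶ Y.left), G → FEt.fiberObj (y ≫ Y.hom) Y :=
    fun Ω _ y g => ⟨y ≫ (ρ g).hom.left, by rw [Category.assoc]; exact congrArg (y ≫ ·) (Over.w (ρ g).hom.hom)⟩
  have hinj : ∀ (Ω : Type u) [Field Ω] (y : Spec (CommRingCat.of Ω) ⟶ Y.left), Function.Injective (orb Ω y) := by
    intro Ω _ y g h e
    by_contra hne
    have e' : y ≫ (ρ g).hom.left = y ≫ (ρ h).hom.left := congrArg Subtype.val e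
    refine hfree (h⁻¹ * g) (fun h0 => hne (inv_mul_eq_one.1 h0).symm) Ω y ?_
    have hc : (ρ (h⁻¹ * g)).hom = (ρ g).hom ≫ (ρ h).inv := by rw [map_mul, map_inv]; rfl
    rw [hc, show ((ρ g).hom ≫ (ρ h).inv).left = (ρ g).hom.left ≫ (ρ h).inv.left from rfl, ← Category.assoc, e',
      Category.assoc, show (ρ h).hom.left ≫ (ρ h).inv.left = 𝟙 _ from congrArg (fun k : Y ⟶ Y => k.left) (ρ h).hom_inv_id,
      Category.comp_id]
  let gp : ∀ z : ↥Y.left, Spec (CommRingCat.of (AlgebraicClosure (Y.left.residueField z))) ⟶ Y.left := fun z =>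
    Spec.map (CommRingCat.ofHom (algebraMap (Y.left.residueField z) (AlgebraicClosure (Y.left.residueField z)))) ≫
      Y.left.fromSpecResidueField z
  have hle : Nat.card G ≤ n := by
    haveI := Groth.Agent.S0294.result (gp y₀ ≫ Y.hom) Y
    rw [← hn _ (gp y₀ ≫ Y.hom)]
    exact Nat.card_le_card_of_injective _ (hinj _ (gp y₀))
  refine ⟨hle, ?_⟩
  let α : G → (Y.left ⟶ pullback Y.hom Y.hom) := fun g =>
    pullback.lift (𝟙 Y.left) (ρ g).hom.left ((Category.id_comp Y.hom).trans (Over.w (ρ g).hom.hom).symm)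
  haveI : Etale (pullback.fst Y.hom Y.hom) := MorphismProperty.pullback_fst (P := @Etale) _ _ ‹_›
  haveI : ∀ g, IsOpenImmersion (α g) := fun g =>
    Groth.Agent.EtaleSections.isOpenImmersion_section (pullback.fst Y.hom Y.hom) (α g) (pullback.lift_fst _ _ _)
  -- a field point of `Y ×_X Y` in the range of `α g` factors through it
  have hfac : ∀ (Ω : Type u) [Field Ω] (l : Spec (CommRingCat.of Ω) ⟶ pullback Y.hom Y.hom) (g : G),
      l (IsLocalRing.closedPoint Ω) ∈ Set.range (α g) →
      l ≫ pullback.snd _ _ = (l ≫ pullback.fst _ _) ≫ (ρ g).hom.left := by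
    intro Ω _ l g hl
    haveI : Subsingleton (Spec (CommRingCat.of Ω)) := inferInstanceAs (Subsingleton (PrimeSpectrum Ω))
    have hr : Set.range l ⊆ Set.range (α g) := by
      rintro _ ⟨p, rfl⟩
      rwa [Subsingleton.elim p (IsLocalRing.closedPoint Ω)]
    rw [← IsOpenImmersion.lift_fac (α g) l hr]
    simp only [α, Category.assoc, pullback.lift_fst_assoc, pullback.lift_snd, Category.id_comp]
  have hdisj : Pairwise (Function.onFun Disjoint (Set.range <| α ·)) := by
    intro g h hgh
    rw [Function.onFun, Set.disjoint_left]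
    rintro w ⟨a, rfl⟩ hw
    let l : Spec (CommRingCat.of (Y.left.residueField a)) ⟶ pullback Y.hom Y.hom := Y.left.fromSpecResidueField a ≫ α g
    have hla : l (IsLocalRing.closedPoint _) = α g a :=
      congrArg (α g) (Scheme.fromSpecResidueField_apply a _)
    have e1 := hfac _ l g (hla ▸ ⟨a, rfl⟩)
    have e2 := hfac _ l h (hla ▸ hw)
    refine hgh (hinj _ (l ≫ pullback.fst _ _) (Subtype.ext ?_))
    exact e1.symm.trans e2
  haveI hopen : IsOpenImmersion (Limits.Sigma.desc α) := isOpenImmersion_sigmaDesc (fun _ : G => Y.left) α hdisj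
  have hmem : ∀ w, (∃ g, w ∈ Set.range (α g)) ↔ w ∈ Set.range (Limits.Sigma.desc α) := by
    intro w
    constructor
    · rintro ⟨g, a, rfl⟩
      exact ⟨Limits.Sigma.ι (fun _ : G => Y.left) g a, by rw [← Scheme.Hom.comp_apply, Limits.Sigma.ι_desc]⟩
    · rintro ⟨a, rfl⟩
      obtain ⟨⟨g, a⟩, rfl⟩ := (sigmaMk fun _ : G => Y.left).surjective a
      exact ⟨g, a, by rw [sigmaMk_mk, ← Scheme.Hom.comp_apply, Limits.Sigma.ι_desc]⟩
  show Nat.card G = n ↔ IsIso (Limits.Sigma.desc α)
  constructor
  · intro hcard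
    refine isIso_of_isOpenImmersion_of_opensRange_eq_top (Limits.Sigma.desc α) (top_le_iff.1 fun w _ => ?_)
    let W := pullback Y.hom Y.hom
    let Ω := AlgebraicClosure (W.residueField w)
    let l : Spec (CommRingCat.of Ω) ⟶ W :=
      Spec.map (CommRingCat.ofHom (algebraMap (W.residueField w) Ω)) ≫ W.fromSpecResidueField w
    let y := l ≫ pullback.fst _ _
    haveI := Groth.Agent.S0294.result (y ≫ Y.hom) Y
    have hsurj : Function.Surjective (orb Ω y) :=
      ((Nat.bijective_iff_injective_and_card (orb Ω y)).2 ⟨hinj Ω y, by rw [hn Ω (y ≫ Y.hom), hcard]⟩).2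
    obtain ⟨g, hg⟩ := hsurj ⟨l ≫ pullback.snd _ _, by rw [Category.assoc, ← pullback.condition]; simp [y]⟩
    have hl : l = y ≫ α g := by
      apply pullback.hom_ext
      · have h1 : (y ≫ α g) ≫ pullback.fst Y.hom Y.hom = y := by
          rw [Category.assoc]
          exact (congrArg (y ≫ ·) (pullback.lift_fst _ _ _)).trans (Category.comp_id y)
        exact h1.symm
      · have h1 : (y ≫ α g) ≫ pullback.snd Y.hom Y.hom = y ≫ (ρ g).hom.left := by
          rw [Category.assoc]
          exact congrArg (y ≫ ·) (pullback.lift_snd _ _ _)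
        exact (h1.trans (congrArg Subtype.val hg)).symm
    exact (hmem w).1 ⟨g, y (IsLocalRing.closedPoint Ω), by
      rw [← Scheme.Hom.comp_apply, ← hl, Scheme.Hom.comp_apply]
      exact Scheme.fromSpecResidueField_apply w _⟩
  · intro hiso
    let y := gp y₀
    haveI := Groth.Agent.S0294.result (y ≫ Y.hom) Y
    refine (Nat.card_eq_of_bijective (orb _ y) ⟨hinj _ y, fun s => ?_⟩).trans (hn _ (y ≫ Y.hom))
    let l := pullback.lift y s.1 s.2.symm
    obtain ⟨g, hg⟩ := (hmem (l (IsLocalRing.closedPoint _))).2 ((Limits.Sigma.desc α).surjective _)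
    refine ⟨g, Subtype.ext ?_⟩
    have := hfac _ l g hg
    rw [pullback.lift_snd, pullback.lift_fst] at this
    exact this.symm

end Groth.Agent.S14460
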