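import Groth.Statements.S14461
-- import your own Groth.Agent.* helpers here
import Groth.Agent.Purity.CompFF

set_option autoImplicit false
universe u
open CategoryTheory CategoryTheory.Limits AlgebraicGeometry
open Pi1

namespace Groth.Agent.S14461

/-- Let X be a Noetherian scheme and X₀ → X a closed immersion such that, for every finite étale Y → X,
the projection Y ×_X X₀ → Y induces a bijection on connected components. Then restriction of finite
étale covers from X to X₀ is full and faithful. -/
theorem result {X X₀ : Scheme.{u}} [IsNoetherian X]
    (i : X₀ ⟶ X) [IsClosedImmersion i]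
    (h : ∀ Y : FEt.Cat X, Function.Bijective (pullback.fst Y.hom i).continuous.connectedComponentsMap) :
    (FEt.restrict i).Full ∧ (FEt.restrict i).Faithful := by
  refine Groth.Agent.Purity.restrict_full_faithful_of_pi0 i (fun Z π hπ _ => ?_)
    (fun Z π hf he => h (MorphismProperty.Over.mk ⊤ π ⟨hf, he⟩))
  haveI : IsFinite π := hπ
  haveI : IsLocallyNoetherian Z := LocallyOfFiniteType.isLocallyNoetherian π
  haveI : CompactSpace Z := QuasiCompact.compactSpace_of_compactSpace π
  haveI : AlgebraicGeometry.IsNoetherian Z := AlgebraicGeometry.IsNoetherian.mk
  exact Groth.Agent.LocNoethTop.locallyConnectedSpace fun z =>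
    ⟨Set.univ, Filter.univ_mem, TopologicalSpace.NoetherianSpace.set _⟩

end Groth.Agent.S14461
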