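import Groth.Statements.S14469
import Groth.Agent.CurveFam.Omega
import Groth.Agent.W7Cech.NNStatements
import Groth.Agent.K0Coh.Basic
import Groth.Agent.W7Hull.InvNear

set_option autoImplicit false
universe u
open CategoryTheory CategoryTheory.Limits AlgebraicGeometry
open Curves

set_option backward.isDefEq.respectTransparency false
set_option backward.isDefEq.respectTransparency.types false

namespace Groth.Agent.S14469

/-- Let f : C → S be a proper smooth morphism of schemes whose fibres are geometrically connected, of
dimension one and of genus g ≥ 2 (g the dimension of H¹ of the structure sheaf of each fibre over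
its residue field), i.e. a family of smooth curves of genus g, and let n ≥ 2. Then f_*(Ω_{C/S}^{⊗n})
is finite locally free of rank (2n - 1)(g - 1) and R^i f_*(Ω_{C/S}^{⊗n}) = 0 for every i ≥ 1. (The
published statement also asserts that the formation of f_*(Ω_{C/S}^{⊗n}) commutes with every base
change S' → S; this row does not restate that clause.) -/
theorem result {C S : Scheme.{u}} (f : C ⟶ S)
    [IsProper f] [Smooth f] [GeometricallyConnected f]
    (hdim : ∀ s : S, topologicalKrullDim ↥(f.fiber s) = 1) (g : ℕ) (hg : 2 ≤ g)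
    (hgen : ∀ s : S, letI : (f.fiber s).Over (Spec (S.residueField s)) := ⟨f.fiberToSpecResidueField s⟩
      Curv2.genus (S.residueField s) (f.fiber s) = g)
    [HasInjectiveResolutions C.Modules] (n : ℕ) (hn : 2 ≤ n) :
    FlatMod.IsFinLocFreeOfRank ((2 * n - 1) * (g - 1)) ((Coh.push f).obj (CohB1.tensorPow (Omega.sheaf f) n)) ∧
      ∀ i : ℕ, 1 ≤ i → IsZero ((Coh.Rpush f i).obj (CohB1.tensorPow (Omega.sheaf f) n)) := by
  have hI := CurveFam.isInvertible_omega f hdim
  let L := CohB1.tensorPow (Omega.sheaf f) n
  have hL : PicF.IsInvertible L := TMul.isInvertible_tensorPow hI n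
  have hF := W7Hull.isFP_of_isInvertible hL
  have hq := FibDepth.isQCoh_of_isFP hF
  have hfl := W7Hull.isFlatOver_of_isInvertible f hL
  have key := fun s => CurveFam.pluri_fiber f hdim hg hgen hn s
  constructor
  · intro y
    obtain ⟨U, hy, -, ⟨e⟩⟩ := W7Cech.locFree_of_good_nn f hq hF hfl 0 ⊤ (fun V hV _ m =>
      m.good_of_adjacent f 0 (fun q hq' => absurd hq' (Nat.succ_ne_zero q)) fun z _ => (key z).1) y trivial
    have hr : CohIII.fiberRank f L 0 y = (2 * n - 1) * (g - 1) := (key y).2.1
    refine ⟨U, hy, ?_⟩
    rw [← hr]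
    exact ⟨(Scheme.Modules.restrictFunctor U.ι).mapIso
      (((Coh.push f).rightDerivedZeroIsoSelf).app L).symm ≪≫ e⟩
  · intro i hi
    refine K0Coh.isZero_of_restrict_cover (fun _ => ⊤) (fun _ => trivial) fun _ => ?_
    refine W7Cech.isZero_restrict_of_vanish_nn f hq hF hfl i ⊤ fun y _ => ?_
    rcases Nat.lt_or_ge i 2 with h | h
    · obtain rfl : i = 1 := by omega
      exact (key y).1
    · letI : (f.fiber y).Over (Spec (S.residueField y)) := ⟨f.fiberToSpecResidueField y⟩
      haveI : IsProper (f.fiber y ↘ Spec (CommRingCat.of (S.residueField y))) :=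
        MorphismProperty.pullback_snd _ _ ‹IsProper f›
      exact CurveRR.subsingleton_of_two_le (k := S.residueField y) (hdim y).le _ i h

end Groth.Agent.S14469
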