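import Groth.Statements.S14470
import Groth.Agent.CurveDual.Global

set_option autoImplicit false
universe u
open CategoryTheory CategoryTheory.Limits AlgebraicGeometry
open Curves

set_option backward.isDefEq.respectTransparency false
set_option backward.isDefEq.respectTransparency.types false

namespace Groth.Agent.S14470

/-- Let f : C → S be a proper smooth morphism of schemes whose fibres are geometrically connected, of
dimension one and of genus g ≥ 2 (g the dimension of H¹ of the structure sheaf of each fibre over
its residue field), i.e. a family of smooth curves of genus g. Then f_*Ω_{C/S} is finite locally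
free of rank g, R¹f_*Ω_{C/S} is isomorphic to O_S, and R^i f_*Ω_{C/S} = 0 for i ≥ 2. (Only the
existence of an isomorphism R¹f_*Ω_{C/S} ≅ O_S is asserted; the published statement also says that
the formation of f_*Ω_{C/S} commutes with every base change S' → S, a clause this row does not
restate.) -/
theorem result {C S : Scheme.{u}} (f : C ⟶ S)
    [IsProper f] [Smooth f] [GeometricallyConnected f]
    (hdim : ∀ s : S, topologicalKrullDim ↥(f.fiber s) = 1) (g : ℕ) (hg : 2 ≤ g)
    (hgen : ∀ s : S, letI : (f.fiber s).Over (Spec (S.residueField s)) := ⟨f.fiberToSpecResidueField s⟩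
      Curv2.genus (S.residueField s) (f.fiber s) = g)
    [HasInjectiveResolutions C.Modules] :
    FlatMod.IsFinLocFreeOfRank g ((Coh.push f).obj (Omega.sheaf f)) ∧
      Nonempty ((Coh.Rpush f 1).obj (Omega.sheaf f) ≅ Coh.structureModule S) ∧
      ∀ i : ℕ, 2 ≤ i → IsZero ((Coh.Rpush f i).obj (Omega.sheaf f)) := by
  refine ⟨fun y => ?_, CurveDual.nonempty_rpush_omega f hdim, fun i hi => CurveDual.isZero_rpush_omega f hdim hi⟩
  obtain ⟨U, hU, he⟩ := CurveDual.push_omega_locFree f hdim y
  rw [(CurveDual.omega_fiber_facts f hdim y).1, hgen y] at he
  exact ⟨U, hU, he⟩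

end Groth.Agent.S14470
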