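import Groth.Statements.S14471
import Groth.Agent.VanishOrders.Stalk
import Groth.Agent.CurveFF.Basic
import Groth.Agent.CurveRR.Point
import Groth.Agent.CurveRR.Curve
import Groth.Agent.DualGeneric.PointDeg

set_option autoImplicit false
universe u
open CategoryTheory CategoryTheory.Limits AlgebraicGeometry
open Curves

set_option backward.isDefEq.respectTransparency false
set_option backward.isDefEq.respectTransparency.types false

open Groth.Agent

namespace Groth.Agent.S14471

/-- Let k be an algebraically closed field, C a smooth proper curve over k (proper and smooth over k,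
integral, of dimension one), (L, s_0, …, s_r) a linear series g^r_d on C (L an invertible module of
degree d with k-linearly independent global sections s_0, …, s_r spanning a subspace V of Γ(C, L))
and p a closed point of C. For a nonzero σ ∈ V write ord_p σ for the length of the O_{C,p}-module
L_p/(σ_p), the order of vanishing of σ at p. Then σ ↦ ord_p σ takes exactly r + 1 distinct values on
V minus 0. (The published statement is for a smooth projective curve over the complex numbers and a
complex point p; this row states it over any algebraically closed field.) -/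
theorem result (k : Type u) [Field k] [IsAlgClosed k]
    (C : Scheme.{u}) [C.Over (Spec (CommRingCat.of k))] (hC : Curve.IsSmoothProperCurve k C (C ↘ (Spec (CommRingCat.of k))))
    (L : C.Modules) (d r : ℕ) (s : Fin (r + 1) → LinSer.Sect C L) (hL : LinSer.IsLinSer k C L d r s)
    (p : C) (hp : IsClosed ({p} : Set C)) :
    Set.ncard ((fun c : Fin (r + 1) → k =>
        Module.length (C.presheaf.stalk p)
          (↥(L.presheaf.stalk p) ⧸ Submodule.span (C.presheaf.stalk p)
            {(L.presheaf.germ ⊤ p trivial) (∑ i, (Coh.toGlobal (C ↘ Spec (CommRingCat.of k)) (c i)) • s i)})) ''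
        {c : Fin (r + 1) → k | c ≠ 0}) = r + 1 := by
  classical
  obtain ⟨hLi, -, hind⟩ := hL
  haveI : IsProper (C ↘ Spec (CommRingCat.of k)) := hC.1
  haveI := hC.2.2.1
  haveI := CurveFF.stalk_dvr hC hp
  obtain ⟨U, g, hpU, hg⟩ := TMul.exists_isGen hLi p
  have hb := VanishOrders.bijective_smul_germ hg hpU
  let θ := LinearEquiv.ofBijective (LinearMap.toSpanSingleton (C.presheaf.stalk p) _ (WeakAssLib.mgerm L hpU g)) hb
  let ι : k →+* C.presheaf.stalk p := Curv2.stalkMap k C p
  have hι : Function.Surjective ((IsLocalRing.residue (C.presheaf.stalk p)).comp ι) := by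
    letI := Curv2.resAlgebra k C p
    have h1 : Module.finrank k (C.residueField p) = 1 := by
      rw [← DualGeneric.h0_quotMod_residue k hp]; exact CurveRR.h0_quotMod_point hp
    exact ((Algebra.finrank_eq_one_iff_bijective_algebraMap).mp h1).2
  let σ : (Fin (r + 1) → k) → LinSer.Sect C L := fun c => ∑ i, (Coh.toGlobal (C ↘ Spec (CommRingCat.of k)) (c i)) • s i
  let G : Γ(L, ⊤) →+ ↥(L.presheaf.stalk p) := (L.presheaf.germ ⊤ p trivial).hom
  have hsm : ∀ (a : Γ(C, ⊤)) (t : Γ(L, ⊤)), G (a • t) = (C.presheaf.germ ⊤ p trivial).hom a • G t :=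
    fun a t => WeakAssLib.mgerm_smul L (show p ∈ (⊤ : C.Opens) from trivial) a t
  have hadd : ∀ c c', σ (c + c') = σ c + σ c' := fun c c' => by
    simp only [σ, Pi.add_apply, map_add, add_smul, Finset.sum_add_distrib]
  let f : (Fin (r + 1) → k) →+ C.presheaf.stalk p :=
    AddMonoidHom.mk' (fun c => θ.symm (G (σ c))) fun c c' => by rw [hadd, map_add, map_add]
  have hf : ∀ (a : k) c, f (a • c) = ι a * f c := fun a c => by
    have e : σ (a • c) = Coh.toGlobal (C ↘ Spec (CommRingCat.of k)) a • σ c := by
      simp only [σ, Pi.smul_apply, smul_eq_mul, map_mul, mul_smul, Finset.smul_sum]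
    show θ.symm (G (σ (a • c))) = ι a * θ.symm (G (σ c))
    refine (congrArg θ.symm ((congrArg G e).trans (hsm _ _))).trans ?_
    rw [map_smul, smul_eq_mul]
    rfl
  have hinj : Function.Injective f := (injective_iff_map_eq_zero f).mpr fun c hc => by
    have h0 : G (σ c) = 0 := (θ.symm.injective (hc.trans (map_zero θ.symm).symm))
    refine hind c ?_
    refine CurveRR.eq_zero_of_germ_generic hLi (σ c) trivial ?_
    have h1 := congrArg (L.presheaf.stalkSpecializes (genericPoint_specializes p)).hom h0
    rw [map_zero] at h1
    rw [← h1]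
    exact (TopCat.Presheaf.germ_stalkSpecializes_apply (F := L.presheaf) (show p ∈ (⊤ : C.Opens) from trivial) _ (σ c)).symm
  have key := VanishOrders.ncard_orders ι hι f hf hinj (r + 1) ⊤ (by rw [finrank_top, Module.finrank_fin_fun])
  refine Eq.trans (congrArg Set.ncard ?_) key.2
  refine Set.image_congr' (g := fun c => IsDiscreteValuationRing.addVal (C.presheaf.stalk p) (f c)) (fun c => ?_) |>.trans ?_
  · rw [← VanishOrders.length_quot_span_smul hg hpU (f c),
      show f c • WeakAssLib.mgerm L hpU g = G (σ c) from θ.apply_symm_apply _]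
  · congr 1
    ext v
    simp

end Groth.Agent.S14471
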