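import Groth.Statements.S14473
import Groth.Agent.GenusOneInvol.Swap

set_option autoImplicit false
universe u
open CategoryTheory CategoryTheory.Limits AlgebraicGeometry
open Curves

set_option backward.isDefEq.respectTransparency false
set_option backward.isDefEq.respectTransparency.types false

open Groth.Agent

namespace Groth.Agent.S14473

/-- Let k be an algebraically closed field and C a smooth proper connected curve over k (proper and
smooth over k, integral, of dimension one) of genus 1, the genus being the dimension of H¹(C, O_C).
Then the group of k-automorphisms of C is infinite: there are infinitely many automorphisms of the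
scheme C over Spec k. -/
theorem result (k : Type u) [Field k] [IsAlgClosed k]
    (C : Scheme.{u}) [C.Over (Spec (CommRingCat.of k))] (hC : Curve.IsSmoothProperCurve k C (C ↘ (Spec (CommRingCat.of k))))
    (hg : Curv2.genus k C = 1) :
    Infinite {e : C ≅ C // e.hom ≫ (C ↘ (Spec (CommRingCat.of k))) = C ↘ (Spec (CommRingCat.of k))} := by
  obtain ⟨hp, hs, hi, hdim⟩ := hC
  haveI := hp; haveI := hs; haveI := hi
  haveI : CompactSpace C := QuasiCompact.compactSpace_of_compactSpace (C ↘ Spec (CommRingCat.of k))
  obtain ⟨P, hP⟩ := W7OnePole.exists_closed_point (X := C)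
  haveI : Infinite (closedPoints C) := (GenusOneInvol.infinite_closedPoints (k := k) hdim).to_subtype
  choose σ hσ _ hσP _ using fun Q : closedPoints C => GenusOneInvol.exists_swap hdim hg P Q.1 hP Q.2
  refine Infinite.of_injective (fun Q : closedPoints C => ⟨σ Q, hσ Q⟩) fun Q Q' h => ?_
  have h' : σ Q = σ Q' := congrArg Subtype.val h
  exact Subtype.ext ((hσP Q).symm.trans ((congrArg (fun e : C ≅ C => e.hom P) h').trans (hσP Q')))

end Groth.Agent.S14473
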