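import Groth.Statements.S14474
import Groth.Agent.NodeFib.Open
-- import your own Groth.Agent.* helpers here

set_option autoImplicit false
set_option backward.isDefEq.respectTransparency false
set_option backward.isDefEq.respectTransparency.types false
set_option maxHeartbeats 1000000
universe u
open CategoryTheory CategoryTheory.Limits AlgebraicGeometry
open Curves

namespace Groth.Agent.S14474

/-- Let π : C → S be a proper, flat morphism of finite presentation all of whose fibres have every
irreducible component of dimension one (every geometric fibre is a curve). Then the set of points s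
of S such that the fibre C_s, as a scheme over κ(s), has at-worst-nodal singularities (each closed
point has a smooth open neighbourhood or is a node) is open in S. -/
theorem result {C S : Scheme.{u}} (π : C ⟶ S)
    [IsProper π] [Flat π] [LocallyOfFinitePresentation π]
    (hfib : ∀ s : S, ∀ Z ∈ irreducibleComponents (↥(π.fiber s) : Type u), topologicalKrullDim Z = 1) :
    IsOpen {s : S | letI : (π.fiber s).Over (Spec (S.residueField s)) := ⟨π.fiberToSpecResidueField s⟩
      Curv2.AtWorstNodal (S.residueField s) (π.fiber s)} := by
  have h : {s : S | letI : (π.fiber s).Over (Spec (S.residueField s)) := ⟨π.fiberToSpecResidueField s⟩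
      Curv2.AtWorstNodal (S.residueField s) (π.fiber s)} = (π '' {x | ¬NodeFib.Good π x})ᶜ := by
    ext s
    have h1 := NodeFib.curve_iff (K := S.residueField s) (π.fiberToSpecResidueField s)
    simp only [← NodeFib.good_iff_fiber, and_iff_right (hfib s)] at h1
    refine h1.trans ⟨fun h => ?_, fun h p => ?_⟩
    · rintro ⟨x, hx, rfl⟩
      exact hx (π.fiberι_asFiber x ▸ h (π.asFiber x))
    · by_contra hp
      refine h ⟨π.fiberι s p, hp, ?_⟩
      have : π.fiberι s p ∈ Set.range (π.fiberι s) := ⟨p, rfl⟩
      rwa [π.range_fiberι] at this
  rw [h]
  exact (π.isClosedMap _ (NodeFib.isOpen_good π).isClosed_compl).isOpen_compl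

end Groth.Agent.S14474
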