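import Groth.Statements.S14477
import Mathlib
import Groth.Agent.LocIntAnn.Basic

set_option linter.style.haveILetI false

set_option autoImplicit false
universe u
open KaehlerDifferential
open LocInt

namespace Groth.Agent.S14477

/-- Let A → B be a smooth ring map with Ω_{B/A} of rank n at every prime of B, g ∈ B a nonzerodivisor
and R = B/gB, a hypersurface of virtual relative dimension n - 1 over A; let J ⊆ R be the
annihilator of the n-th exterior power of Ω_{R/A} and Z = Spec R/J. Then J is the ideal of R
generated by the classes of the elements φ(dg), φ ranging over the B-linear forms on Ω_{B/A}; where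
Ω_{B/A} is free on dt_1, …, dt_n this says that Z is cut out by the partial derivatives ∂g/∂t_1, …,
∂g/∂t_n. In particular every φ(dg) vanishes in R/J; since Ω_{B/A} is finite projective this says
that dg ⊗ 1 = 0 in Ω_{B/A} ⊗_B R/J, i.e. the map from the conormal module gB/g²B ⊗ R/J to Ω_{B/A}
⊗_B R/J induced by d vanishes, and with the cotangent complex of R over A represented by the
two-term complex (gB/g²B → Ω_{B/A} ⊗_B R) this is the statement that the canonical map from L_Z =
L_1 i^* L_{R/A} to the conormal module restricted to Z is an isomorphism. (The published statement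
also asserts that, for a regular immersion of any codimension into a smooth scheme, this map from
L_Z is a locally split injection; that part is not stated here. The published statement is the
isomorphism alone, which amounts to the inclusion of the ideal generated by the φ(dg) in J; this row
states the equality, whose other inclusion is the local description of Z by the partial derivatives
given with the definition of Z.) -/
theorem result (A B R : Type u) [CommRing A] [CommRing B] [CommRing R]
    [Algebra A B] [Algebra B R] [Algebra A R] [IsScalarTower A B R] [Algebra.Smooth A B] (n : ℕ)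
    (hn : ∀ p : PrimeSpectrum B, Module.rankAtStalk (Ω[B⁄A]) p = n)
    (g : B) (hg : IsSMulRegular B g) (hsurj : Function.Surjective (algebraMap B R))
    (hker : RingHom.ker (algebraMap B R) = Ideal.span {g}) :
    (⋀[R]^n (Ω[R⁄A])).annihilator =
      Ideal.span (Set.range fun φ : Ω[B⁄A] →ₗ[B] B => algebraMap B R (φ (KaehlerDifferential.D A B g))) := by
  classical
  let M := TensorProduct B R (Ω[B⁄A])
  let w : M := 1 ⊗ₜ KaehlerDifferential.D A B g
  have : Module.Finite B (Ω[B⁄A]) := inferInstance
  have : Module.Projective B (Ω[B⁄A]) := inferInstance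
  have hrank : ∀ p : PrimeSpectrum R, Module.rankAtStalk M p = n := fun p ↦ by
    rw [Module.rankAtStalk_baseChange]; exact hn _
  have hker' : LinearMap.ker (KaehlerDifferential.mapBaseChange A B R) = Submodule.span R {w} := by
    refine le_antisymm ?_ ?_
    · intro x hx
      obtain ⟨y, rfl⟩ := (KaehlerDifferential.exact_kerCotangentToTensor_mapBaseChange A B R hsurj x).mp hx
      obtain ⟨⟨z, hz⟩, rfl⟩ := Ideal.toCotangent_surjective _ y
      obtain ⟨b, rfl⟩ := Ideal.mem_span_singleton'.mp (hker ▸ hz)
      rw [KaehlerDifferential.kerCotangentToTensor_toCotangent]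
      show (1 : R) ⊗ₜ[B] KaehlerDifferential.D A B (b * g) ∈ _
      have hg0 : algebraMap B R g = 0 := by
        rw [← RingHom.mem_ker, hker]; exact Ideal.mem_span_singleton_self g
      rw [Derivation.leibniz, TensorProduct.tmul_add, TensorProduct.tmul_smul, TensorProduct.tmul_smul,
        ← algebraMap_smul R g ((1 : R) ⊗ₜ[B] KaehlerDifferential.D A B b), hg0, zero_smul, add_zero,
        ← algebraMap_smul R b]
      exact Submodule.smul_mem _ _ (Submodule.mem_span_singleton_self w)
    · rw [Submodule.span_le, Set.singleton_subset_iff, SetLike.mem_coe, LinearMap.mem_ker]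
      rw [KaehlerDifferential.mapBaseChange_tmul, one_smul, KaehlerDifferential.map_D]
      have hg0 : algebraMap B R g = 0 := by
        rw [← RingHom.mem_ker, hker]; exact Ideal.mem_span_singleton_self g
      rw [hg0, map_zero]
  let e : (M ⧸ Submodule.span R {w}) ≃ₗ[R] Ω[R⁄A] :=
    (Submodule.quotEquivOfEq _ _ hker'.symm) ≪≫ₗ
      (KaehlerDifferential.mapBaseChange A B R).quotKerEquivOfSurjective
        (KaehlerDifferential.mapBaseChange_surjective A B R hsurj)
  let E : (⋀[R]^n (M ⧸ Submodule.span R {w})) ≃ₗ[R] ⋀[R]^n (Ω[R⁄A]) :=
    LinearEquiv.ofLinearMap (exteriorPower.map n e.toLinearMap) (exteriorPower.map n e.symm.toLinearMap)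
      (by rw [← exteriorPower.map_comp, e.comp_symm, exteriorPower.map_id])
      (by rw [← exteriorPower.map_comp, e.symm_comp, exteriorPower.map_id])
  refine (E.annihilator_eq.symm.trans (Groth.Agent.LocIntAnn.annihilator_eq n w hrank)).trans ?_
  refine le_antisymm (Ideal.span_le.mpr ?_) (Ideal.span_le.mpr ?_)
  · rintro _ ⟨ψ, rfl⟩
    obtain ⟨φ, hφ⟩ := Module.projective_lifting_property (Algebra.linearMap B R)
      (ψ.restrictScalars B ∘ₗ TensorProduct.mk B R (Ω[B⁄A]) 1) hsurj
    exact Ideal.subset_span ⟨φ, LinearMap.congr_fun hφ _⟩
  · rintro _ ⟨φ, rfl⟩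
    refine Ideal.subset_span ⟨(Algebra.TensorProduct.rid B R R).toLinearMap ∘ₗ
      φ.baseChange R, ?_⟩
    show (Algebra.TensorProduct.rid B R R) (φ.baseChange R w) = _
    simp only [w, LinearMap.baseChange_tmul]
    rw [Algebra.TensorProduct.rid_tmul, Algebra.smul_def, mul_one]

end Groth.Agent.S14477
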