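import Groth.Statements.S14475
import Groth.Agent.HyperTor.Annih
import Groth.Agent.HyperTor.SmoothAmp
import Groth.Agent.S14477

set_option autoImplicit false
universe u
open CategoryTheory CategoryTheory.Limits KaehlerDifferential
open LocInt

namespace Groth.Agent.S14475

/-- Let A → B be a smooth ring map with Ω_{B/A} of rank n at every prime of B, g ∈ B a nonzerodivisor
and R = B/gB, so that Spec R is a hypersurface of virtual relative dimension n - 1 over Spec A. Let
M be an R-module of flat dimension at most m over A (Tor^A_i(M, P) = 0 for i > m and every A-module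
P) and N an R-module. Then for q ≥ m + n the module Tor^R_q(M, N) (Mathlib's Tor on R-modules,
left-derived in the second variable) is annihilated by the annihilator ideal of the n-th exterior
power of Ω_{R/A}, i.e. it is a module over the closed subscheme Z defined by that ideal. (The
published statement is for a scheme that is locally such a hypersurface, an arbitrary module over it
of tor-dimension at most m over the base, and a bounded complex on a scheme over it; this row is the
affine case with a single module on the hypersurface itself.) -/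
theorem result (A B R : Type u) [CommRing A] [CommRing B] [CommRing R]
    [Algebra A B] [Algebra B R] [Algebra A R] [IsScalarTower A B R] [Algebra.Smooth A B] (n : ℕ)
    (hn : ∀ p : PrimeSpectrum B, Module.rankAtStalk (Ω[B⁄A]) p = n)
    (g : B) (hg : IsSMulRegular B g) (hsurj : Function.Surjective (algebraMap B R))
    (hker : RingHom.ker (algebraMap B R) = Ideal.span {g})
    (m : ℕ) (M N : ModuleCat.{u} R)
    (hM : ∀ (P : ModuleCat.{u} A) (i : ℕ), m < i →
      IsZero (((Tor (ModuleCat.{u} A) i).obj ((ModuleCat.restrictScalars (algebraMap A R)).obj M)).obj P))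
    (q : ℕ) (hq : m + n ≤ q) :
    (⋀[R]^n (Ω[R⁄A])).annihilator ≤ Module.annihilator R (((Tor (ModuleCat.{u} R) q).obj M).obj N) := by
  letI : Module A M := Module.compHom M (algebraMap A R)
  letI : Module B M := Module.compHom M (algebraMap B R)
  haveI : IsScalarTower B R M := IsScalarTower.of_algebraMap_smul fun _ _ => rfl
  haveI : IsScalarTower A B M := IsScalarTower.of_algebraMap_smul fun a x => by
    show algebraMap B R (algebraMap A B a) • x = algebraMap A R a • x
    rw [← IsScalarTower.algebraMap_apply]
  have hA : DRing.HasTorDimLE A m M := fun P _ _ i hi =>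
    ModuleCat.subsingleton_of_isZero (hM (ModuleCat.of A P) i hi)
  have hB := Groth.Agent.HyperTor.torDimLE_of_smooth n hn m M hA
  rw [Groth.Agent.S14477.result A B R n hn g hg hsurj hker, Ideal.span_le]
  rintro _ ⟨φ, rfl⟩
  let D := KaehlerDifferential.D A B
  let δ : B →+ B := ((φ.restrictScalars A).comp D.toLinearMap).toAddMonoidHom
  have hδ : ∀ a b, δ (a * b) = a * δ b + δ a * b := fun a b => by
    show φ (D (a * b)) = a * φ (D b) + φ (D a) * b
    rw [Derivation.leibniz, map_add, map_smul, map_smul, smul_eq_mul, smul_eq_mul, mul_comm b]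
  have key : algebraMap B R (δ g) • 𝟙 (((Tor (ModuleCat.{u} R) q).obj M).obj N) = 0 := by
    rcases Nat.eq_zero_or_pos (m + n) with h0 | hpos
    · rw [h0] at hB
      haveI := Groth.Agent.HyperTor.subsingleton_of_torDimLE_zero g hg hker hB
      have h1 : 𝟙 M = 0 := (ModuleCat.isZero_of_subsingleton M).eq_of_src _ _
      have h2 : 𝟙 (((Tor (ModuleCat.{u} R) q).obj M).obj N) = 0 :=
        ((((Tor (ModuleCat.{u} R) q).flip.obj N).map_id M).symm.trans (congrArg _ h1)).trans
          (Groth.Agent.TorBalance.tor_map_zero N q M M)
      rw [h2, smul_zero]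
    · obtain ⟨d, hd⟩ : ∃ d, m + n = d + 1 := ⟨m + n - 1, by omega⟩
      rw [hd] at hB
      obtain ⟨i, rfl⟩ : ∃ i, q = d + i + 1 := ⟨q - (d + 1), by omega⟩
      exact Groth.Agent.HyperTor.smul_tor_eq_zero g hg hsurj hker δ hδ d M hB N i
  exact Module.mem_annihilator.2 fun x => congrArg (fun f => f.hom x) key

end Groth.Agent.S14475
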