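import Groth.Statements.S14478
import Mathlib.LinearAlgebra.Dual.Lemmas
-- import your own Groth.Agent.* helpers here

set_option autoImplicit false
set_option linter.style.haveILetI false
set_option linter.unusedSimpArgs false
universe u
open CharCyc

namespace Groth.Agent.S14478

/-- Let V be a finite-dimensional vector space over a field k, let W = V × V^∨ with V^∨ the dual space,
and let T ⊆ W be a subspace with dim T = dim V; put V₁ = V ∩ T, where V sits in W as V × 0. Then
there is a complement V₂ of V₁ in V with the following property: for every injective linear map A₁ :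
V₁ → V₁^∨, the map A : V → V^∨ extending A₁ by zero along the decompositions V = V₁ ⊕ V₂ and V^∨ =
V₁^∨ ⊕ V₂^∨ (so A v = A₁(p v) ∘ p, with p : V → V₁ the projection along V₂) has graph Γ ⊆ W with Γ ∩
T = 0. -/
theorem result (k V : Type u) [Field k] [AddCommGroup V] [Module k V]
    [FiniteDimensional k V] (T : Submodule k (V × Module.Dual k V))
    (hT : Module.finrank k T = Module.finrank k V) :
    ∃ (V₂ : Submodule k V) (h : IsCompl (T.comap (LinearMap.inl k V (Module.Dual k V))) V₂),
      ∀ A₁ : T.comap (LinearMap.inl k V (Module.Dual k V)) →ₗ[k]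
          Module.Dual k (T.comap (LinearMap.inl k V (Module.Dual k V))),
        Function.Injective A₁ →
          LinearMap.graph ((Submodule.projectionOnto _ V₂ h).dualMap ∘ₗ A₁ ∘ₗ
              Submodule.projectionOnto _ V₂ h) ⊓ T = ⊥ := by
  set V₁ := T.comap (LinearMap.inl k V (Module.Dual k V)) with hV₁
  let q : T →ₗ[k] Module.Dual k V := (LinearMap.snd k V (Module.Dual k V)) ∘ₗ T.subtype
  set U := (LinearMap.range q).dualCoannihilator with hU
  have hker : Module.finrank k (LinearMap.ker q) = Module.finrank k V₁ := by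
    let e : V₁ →ₗ[k] LinearMap.ker q :=
      LinearMap.codRestrict _ (LinearMap.codRestrict T ((LinearMap.inl k V (Module.Dual k V)) ∘ₗ V₁.subtype)
        (fun c => c.2)) (fun c => by rw [LinearMap.mem_ker]; rfl)
    refine (LinearEquiv.ofBijective e ⟨?_, ?_⟩).finrank_eq.symm
    · intro a b h
      have := congrArg (fun z : LinearMap.ker q => ((z : T) : V × Module.Dual k V).1) h
      exact Subtype.ext this
    · rintro ⟨⟨⟨v, w⟩, hvT⟩, hv⟩
      have hw : w = 0 := by simpa [q] using hv
      subst hw
      exact ⟨⟨v, hvT⟩, rfl⟩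
  have hdimU : Module.finrank k U = Module.finrank k V₁ := by
    have h1 := LinearMap.finrank_range_add_finrank_ker (K := k) (V := ↥T) (V₂ := Module.Dual k V) q
    have h2 := Subspace.finrank_add_finrank_dualCoannihilator_eq (LinearMap.range q)
    rw [← hU] at h2
    omega
  have grow : ∀ (d : ℕ) (W : Submodule k V), W ⊓ V₁ = ⊥ → W ⊓ U = ⊥ →
      Module.finrank k W + Module.finrank k V₁ + d = Module.finrank k V →
      ∃ V₂ : Submodule k V, IsCompl V₁ V₂ ∧ IsCompl U V₂ := by
    intro d
    induction d with
    | zero =>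
      intro W h1 h2 h
      refine ⟨W, IsCompl.of_eq (inf_comm W V₁ ▸ h1) ?_, IsCompl.of_eq (inf_comm W U ▸ h2) ?_⟩
      · refine Submodule.eq_top_of_finrank_eq ?_
        have := Submodule.finrank_sup_add_finrank_inf_eq V₁ W
        rw [inf_comm V₁ W, h1, finrank_bot] at this
        omega
      · refine Submodule.eq_top_of_finrank_eq ?_
        have := Submodule.finrank_sup_add_finrank_inf_eq U W
        rw [inf_comm U W, h2, finrank_bot] at this
        omega
    | succ d ih =>
      intro W h1 h2 h
      have key : ∀ (X : Submodule k V), W ⊓ X = ⊥ → Module.finrank k X = Module.finrank k V₁ → W ⊔ X < ⊤ := by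
        intro X hX hXd
        refine Submodule.lt_top_of_finrank_lt_finrank ?_
        have := Submodule.finrank_sup_add_finrank_inf_eq W X
        rw [hX, finrank_bot] at this
        omega
      have hA := key V₁ h1 rfl
      have hB := key U h2 hdimU
      obtain ⟨x, hxA, hxB⟩ : ∃ x, x ∉ W ⊔ V₁ ∧ x ∉ W ⊔ U := by
        obtain ⟨a, -, ha⟩ := SetLike.exists_of_lt hA
        obtain ⟨b, -, hb⟩ := SetLike.exists_of_lt hB
        by_cases hab : a ∈ W ⊔ U
        · by_cases hba : b ∈ W ⊔ V₁
          · exact ⟨a + b, fun h => ha (by simpa using sub_mem h hba), fun h => hb (by simpa using sub_mem h hab)⟩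
          · exact ⟨b, hba, hb⟩
        · exact ⟨a, ha, hab⟩
      have step : ∀ (X : Submodule k V), W ⊓ X = ⊥ → x ∉ W ⊔ X → (W ⊔ Submodule.span k {x}) ⊓ X = ⊥ := by
        intro X hX hx
        rw [eq_bot_iff]
        rintro z ⟨hz, hzX⟩
        obtain ⟨w, hw, c', hc', rfl⟩ := Submodule.mem_sup.1 hz
        obtain ⟨c, rfl⟩ := Submodule.mem_span_singleton.1 hc'
        rcases eq_or_ne c 0 with rfl | hc
        · have : w ∈ W ⊓ X := ⟨hw, by simpa using hzX⟩
          rw [hX] at this
          simpa using this
        · refine absurd ?_ hx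
          have h3 : c • x ∈ W ⊔ X := by
            have := sub_mem (Submodule.mem_sup_right hzX : w + c • x ∈ W ⊔ X) (Submodule.mem_sup_left hw)
            simpa using this
          simpa [hc] using (W ⊔ X).smul_mem c⁻¹ h3
      refine ih _ (step V₁ h1 hxA) (step U h2 hxB) ?_
      have hx0 : x ≠ 0 := fun h0 => hxA (h0 ▸ zero_mem _)
      have hWx : W ⊓ Submodule.span k {x} = ⊥ := by
        rw [eq_bot_iff]
        rintro z ⟨hzW, hzx⟩
        obtain ⟨c, rfl⟩ := Submodule.mem_span_singleton.1 hzx
        by_contra hz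
        have hc : c ≠ 0 := fun hc => hz (by simp [hc])
        exact hxA (Submodule.mem_sup_left (by simpa [hc] using W.smul_mem c⁻¹ hzW))
      have := Submodule.finrank_sup_add_finrank_inf_eq W (Submodule.span k {x})
      rw [hWx, finrank_bot, finrank_span_singleton hx0] at this
      omega
  obtain ⟨V₂, h, hU2⟩ := grow (Module.finrank k V - Module.finrank k V₁) ⊥ (bot_inf_eq _) (bot_inf_eq _)
    (by have := Submodule.finrank_le V₁; simp; omega)
  refine ⟨V₂, h, fun A₁ hA₁ => ?_⟩
  rw [eq_bot_iff]
  rintro ⟨v, w⟩ ⟨hg, hvT⟩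
  rw [SetLike.mem_coe, LinearMap.mem_graph_iff] at hg
  have hwq : w ∈ LinearMap.range q := ⟨⟨(v, w), hvT⟩, rfl⟩
  have hw0 : w = 0 := by
    refine LinearMap.ext fun x => ?_
    obtain ⟨a, ha, b, hb, rfl⟩ := Submodule.mem_sup.1
      (hU2.sup_eq_top.symm ▸ Submodule.mem_top : x ∈ U ⊔ V₂)
    have h1 : w a = 0 := (Submodule.mem_dualCoannihilator a).1 ha w hwq
    have h2 : w b = 0 := by
      have hp : Submodule.projectionOnto V₁ V₂ h b = 0 :=
        (Submodule.projectionOnto_apply_eq_zero_iff h).2 hb
      simp only at hg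
      simp [hg, hp]
    simp [h1, h2]
  have hp : Submodule.projectionOnto V₁ V₂ h v = 0 := by
    refine hA₁ ?_
    rw [map_zero]
    refine LinearMap.ext fun y => ?_
    have hy := LinearMap.congr_fun (hg.symm.trans hw0) (y : V)
    simpa using hy
  have hv2 : v ∈ V₂ := (Submodule.projectionOnto_apply_eq_zero_iff h).1 hp
  subst hw0
  have hv1 : v ∈ V₁ := hvT
  have : v ∈ V₁ ⊓ V₂ := ⟨hv1, hv2⟩
  rw [h.inf_eq_bot] at this
  simpa using this

end Groth.Agent.S14478
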