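import Groth.Statements.S14479
import Mathlib

set_option autoImplicit false
universe u
open CharCyc

namespace Groth.Agent.S14479

/-- Let V be a finite-dimensional vector space over a field k. If dim V is even or the characteristic of
k is different from 2, there is a bilinear form B on V such that the bilinear form (v, w) ↦ B(v, w)
+ B(w, v) (B plus its transpose, as a map V → V^∨) is nondegenerate. -/
theorem result (k V : Type u) [Field k] [AddCommGroup V] [Module k V]
    [FiniteDimensional k V] (h : Even (Module.finrank k V) ∨ ringChar k ≠ 2) :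
    ∃ B : LinearMap.BilinForm k V, (B + B.flip).Nondegenerate := by
  classical
  let n := Module.finrank k V
  let b := Module.finBasis k V
  suffices hM : ∃ M : Matrix (Fin n) (Fin n) k, (M + M.transpose).det ≠ 0 by
    obtain ⟨M, hM⟩ := hM
    refine ⟨Matrix.toBilin b M, ?_⟩
    have : Matrix.toBilin b M + (Matrix.toBilin b M).flip = Matrix.toBilin b (M + M.transpose) := by
      rw [map_add]
      congr 1
      refine LinearMap.ext_basis b b fun i j => ?_
      simp [Matrix.toBilin_apply, Matrix.transpose_apply, Finsupp.single_apply]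
    rw [this]
    exact (LinearMap.BilinForm.nondegenerate_iff_det_ne_zero b).mpr (by simpa using hM)
  by_cases h2 : (2 : k) = 0
  · obtain ⟨m, hm⟩ : Even n := h.resolve_right fun hc => hc (CharP.ringChar_of_prime_eq_zero Nat.prime_two (by exact_mod_cast h2))
    let e : Fin m ⊕ Fin m ≃ Fin n := finSumFinEquiv.trans (finCongr hm.symm)
    let M₀ : Matrix (Fin m ⊕ Fin m) (Fin m ⊕ Fin m) k := Matrix.fromBlocks 0 1 0 0
    refine ⟨M₀.reindex e e, ?_⟩
    rw [Matrix.transpose_reindex]
    have hsum : M₀.reindex e e + (M₀.transpose).reindex e e = (M₀ + M₀.transpose).reindex e e := by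
      simp [Matrix.reindex_apply, Matrix.submatrix_add]
    rw [hsum, Matrix.det_reindex_self]
    have hsq : (M₀ + M₀.transpose) * (M₀ + M₀.transpose) = 1 := by
      simp [M₀, Matrix.fromBlocks_transpose, Matrix.fromBlocks_add, Matrix.fromBlocks_multiply,
        Matrix.fromBlocks_one]
    exact (Matrix.isUnit_iff_isUnit_det _).mp ⟨⟨_, _, hsq, hsq⟩, rfl⟩ |>.ne_zero
  · refine ⟨1, ?_⟩
    rw [Matrix.transpose_one, show (1 : Matrix (Fin n) (Fin n) k) + 1 = (2 : k) • 1 by rw [two_smul],
      Matrix.det_smul, Matrix.det_one, mul_one]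
    exact pow_ne_zero _ h2

end Groth.Agent.S14479
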