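import Groth.Statements.S1448
import Groth.Agent.SpQS.DegConstr

set_option autoImplicit false
universe u
open FlatMor

namespace Groth.Agent.S1448

/-- a level set of a locally constant function for the constructible topology is compact -/
theorem isCompact_levelSet {R : Type u} [CommRing R] (d : PrimeSpectrum R → ℕ)
    (h : ∀ p, ∃ C : Set (PrimeSpectrum R), Topology.IsConstructible C ∧ p ∈ C ∧ ∀ q ∈ C, d q = d p) (r : ℕ) :
    IsCompact {q | d q = r} := by
  have hopen : ∀ s : Set (PrimeSpectrum R), Topology.IsConstructible s →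
      @IsOpen _ (constructibleTopology (PrimeSpectrum R)) s ∧
        @IsOpen _ (constructibleTopology (PrimeSpectrum R)) sᶜ := by
    intro s hs
    induction hs using Topology.IsConstructible.empty_union_induction with
    | open_retrocompact W hW hWc =>
      exact ⟨hWc.isCompact.isOpen_constructibleTopology_of_isOpen hW,
        IsCompact.isOpen_constructibleTopology_of_isClosed (by rw [compl_compl]; exact hWc.isCompact)
          hW.isClosed_compl⟩
    | union s _ t _ hs ht =>
      refine ⟨@IsOpen.union _ s t (constructibleTopology _) hs.1 ht.1, ?_⟩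
      rw [Set.compl_union]
      exact @IsOpen.inter _ (constructibleTopology _) sᶜ tᶜ hs.2 ht.2
    | compl s _ hs => exact ⟨hs.2, by rw [compl_compl]; exact hs.1⟩
  have hcont : Continuous
      (WithTopology.ofTopology : WithConstructibleTopology (PrimeSpectrum R) → PrimeSpectrum R) := by
    rw [PrimeSpectrum.isTopologicalBasis_basic_opens.continuous_iff]
    rintro _ ⟨a, rfl⟩
    exact WithConstructibleTopology.isOpen_iff.mpr
      ((PrimeSpectrum.isCompact_basicOpen a).isOpen_constructibleTopology_of_isOpen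
        (PrimeSpectrum.basicOpen a).isOpen)
  have hclosed : IsClosed
      ((WithTopology.ofTopology : WithConstructibleTopology (PrimeSpectrum R) → _) ⁻¹' {q | d q = r}) := by
    rw [← isOpen_compl_iff, isOpen_iff_forall_mem_open]
    intro z hz
    obtain ⟨C, hC, hzC, hdC⟩ := h (WithTopology.ofTopology z)
    exact ⟨WithTopology.ofTopology ⁻¹' C, fun w hw hwr => hz ((hdC _ hw).symm.trans hwr),
      WithConstructibleTopology.isOpen_iff.mpr (hopen C hC).1, hzC⟩
  have := hclosed.isCompact.image hcont
  rwa [Set.image_preimage_eq _ (fun q => ⟨WithTopology.toTopology _ q, rfl⟩)] at this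

open AlgebraicGeometry CategoryTheory Limits in
/-- Consider a separated, flat, quasi-compact and locally quasi-finite morphism f : X → S which is
locally of finite presentation. Then there is a function deg : S → ℕ with every sublevel set {deg ≤
r} closed and every level set retrocompact, such that for every morphism g : T → S and every r, deg
∘ g is constant with value r exactly when the base change of f along g is finite locally free of
degree r. -/
theorem result {X S : Scheme.{u}} (f : X ⟶ S) [Flat f] [LocallyOfFinitePresentation f] [IsSeparated f] [LocallyQuasiFinite f] [QuasiCompact f] :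
    ∃ deg : ↑S → ℕ, (∀ r : ℕ, IsClosed {s : ↑S | deg s ≤ r}) ∧ (∀ r : ℕ, IsRetrocompact {s : ↑S | deg s = r}) ∧
      ∀ (T : Scheme.{u}) (g : T ⟶ S) (r : ℕ), Mor2.IsFinLocFreeOfDeg r (pullback.snd f g) ↔ ∀ t : T, deg (g t) = r := by
  have hf := Groth.Agent.SpQS.finFib_of_qc f
  refine ⟨Groth.Agent.SpQS.fdeg f, Groth.Agent.SpQS.isClosed_fdeg_le f hf, fun r => ?_,
    fun T g r => Groth.Agent.SpQS.finLocFreeOfDeg_baseChange_iff f hf g r⟩
  intro W hW hWo
  obtain ⟨t, ht⟩ := hW.elim_finite_subcover (fun V : {V : S.affineOpens // (V.1 : Set S) ⊆ W} => (V.1.1 : Set S))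
    (fun V => V.1.1.isOpen) (fun s hs => by
      obtain ⟨V, hV, hsV, hVW⟩ := exists_isAffineOpen_mem_and_subset (x := s) (U := ⟨W, hWo⟩) hs
      exact Set.mem_iUnion.mpr ⟨⟨⟨V, hV⟩, hVW⟩, hsV⟩)
  have : {s : S | Groth.Agent.SpQS.fdeg f s = r} ∩ W =
      ⋃ V ∈ t, V.1.2.fromSpec '' {q | Groth.Agent.SpQS.fdeg f (V.1.2.fromSpec q) = r} := by
    ext s
    constructor
    · rintro ⟨hs, hsW⟩
      obtain ⟨V, hV, hsV⟩ := Set.mem_iUnion₂.mp (ht hsW)
      rw [← V.1.2.range_fromSpec] at hsV
      obtain ⟨q, rfl⟩ := hsV
      exact Set.mem_iUnion₂.mpr ⟨V, hV, q, hs, rfl⟩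
    · intro hs
      obtain ⟨V, _, q, hq, rfl⟩ := Set.mem_iUnion₂.mp hs
      exact ⟨hq, V.2 (V.1.2.range_fromSpec ▸ Set.mem_range_self q)⟩
  rw [this]
  exact t.isCompact_biUnion fun V _ => (isCompact_levelSet (fun q => Groth.Agent.SpQS.fdeg f (V.1.2.fromSpec q))
    (fun p => Groth.Agent.SpQS.exists_constructible_fdeg f V.1.2 p) r).image V.1.2.fromSpec.continuous

end Groth.Agent.S1448
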