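import Groth.Statements.S14480
import Groth.Agent.FlatDim.DimAdd

set_option autoImplicit false
set_option linter.style.haveILetI false
set_option backward.isDefEq.respectTransparency false
open Groth.Agent
universe u
open CategoryTheory AlgebraicGeometry
open CharCyc

namespace Groth.Agent.S14480

/-- Let k be a field, let π : C → X be a morphism between k-schemes of finite type, and let n be a
natural number. For j ≥ 0 let B_j ⊆ X be the set of points x whose fibre π⁻¹(x) has dimension at
least j (so B_0 is the image of π). Then dim C ≤ n if and only if, for every j, the closure of B_j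
in X has dimension at most n − j. Dimensions are topological Krull dimensions with the empty space
of dimension ⊥, and the inequality is written additively as dim cl(B_j) + j ≤ n. -/
theorem result (k : Type u) [Field k] (C X : Scheme.{u})
    (q : X ⟶ Spec (CommRingCat.of k)) (π : C ⟶ X)
    [LocallyOfFiniteType q] [CompactSpace X] [LocallyOfFiniteType π] [CompactSpace C] (n : ℕ) :
    topologicalKrullDim C ≤ n ↔
      ∀ j : ℕ, topologicalKrullDim (closure {x : X | (j : WithBot ℕ∞) ≤ topologicalKrullDim (π.fiber x)}) +
        (j : WithBot ℕ∞) ≤ n := by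
  haveI : IsLocallyNoetherian X := LocallyOfFiniteType.isLocallyNoetherian q
  haveI : IsLocallyNoetherian C := LocallyOfFiniteType.isLocallyNoetherian (π ≫ q)
  haveI : IsNoetherian C := {}
  haveI : QuasiCompact π := ⟨fun U _ _ => TopologicalSpace.NoetherianSpace.isCompact _⟩
  refine ⟨fun h j => ?_, fun h => (FlatDim.dim_univ_le_iff (π ≫ q)).2 fun x => ?_⟩
  · rw [add_comm]
    refine FlatDim.add_le_of_forall fun d hd => ?_
    obtain ⟨y, hy, hdy⟩ := (FlatDim.natCast_le_dim_iff q isClosed_closure.isLocallyClosed).1 hd
    obtain ⟨x, hxy, hx⟩ := FlatDim.exists_specializes_fibreDimGE π j hy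
    obtain ⟨x', hx', hch⟩ := (FlatDim.natCast_le_fibre_iff π (π x)).1 hx
    obtain ⟨δ, h1, -, hδ⟩ := FlatDim.exists_pdim_eq π q x'
    rw [hx'] at h1 hδ
    have h2 := (FlatDim.dim_univ_le_iff (π ≫ q)).1 h x'
    have h3 := hch.le h1
    have h4 := hdy.trans (FlatDim.pdim_mono q hxy)
    exact Nat.cast_le.2 (by omega)
  · obtain ⟨δ, -, h2, hδ⟩ := FlatDim.exists_pdim_eq π q x
    have hmem : π x ∈ {x : X | (δ : WithBot ℕ∞) ≤ topologicalKrullDim (π.fiber x)} :=
      (FlatDim.natCast_le_fibre_iff π (π x)).2 ⟨x, rfl, h2⟩
    have h3 := (FlatDim.natCast_le_dim_iff q isClosed_closure.isLocallyClosed).2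
      ⟨π x, subset_closure hmem, le_rfl⟩
    have h4 := (add_le_add h3 (le_refl (δ : WithBot ℕ∞))).trans (h δ)
    rw [← Nat.cast_add, Nat.cast_le] at h4
    omega

end Groth.Agent.S14480
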