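import Groth.Statements.S14481
import Groth.Agent.FlatDim.CutDim
import Groth.Agent.FlatDim.DimAdd

set_option autoImplicit false
set_option linter.style.haveILetI false
set_option backward.isDefEq.respectTransparency false
open Groth.Agent Topology
universe u
open CategoryTheory AlgebraicGeometry
open CharCyc

namespace Groth.Agent.S14481

/-- First equivalence: let k be a field, let π : C → X be a morphism between k-schemes of finite type
such that every irreducible component of C has dimension n, and let ι : W → X be a regular immersion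
of codimension c. The following are equivalent: (a) ι meets C properly, that is, whenever P is an
irreducible component of C and Q is an irreducible component of P ×_X W (the subspace P ∩ π⁻¹(ι(W))
of C), one has dim Q = dim P − c; (b) dim C ×_X W ≤ n − c (the subspace π⁻¹(ι(W)) of C). Dimensions
are written additively: dim Q + c = n and dim π⁻¹(ι(W)) + c ≤ n, the empty space having dimension ⊥.
(Stated for each of the four kinds of regular immersion of codimension c — regular, Koszul-regular,
H₁-regular, quasi-regular; the published statement does not distinguish kinds.) -/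
theorem result (k : Type u) [Field k] (C X W : Scheme.{u})
    (q : X ⟶ Spec (CommRingCat.of k)) (π : C ⟶ X) (ι : W ⟶ X)
    [LocallyOfFiniteType q] [CompactSpace X] [LocallyOfFiniteType π] [CompactSpace C]
    (κ : RegImm.Kind) (n c : ℕ) (hι : RegImm.IsRegularImmersionOfCodim κ c ι)
    (hC : ∀ P ∈ irreducibleComponents (C : Type u), topologicalKrullDim P = n) :
    (∀ P ∈ irreducibleComponents (C : Type u), ∀ Q ∈ irreducibleComponents (P ∩ π ⁻¹' Set.range ι : Set C),
        topologicalKrullDim Q + (c : WithBot ℕ∞) = n) ↔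
      topologicalKrullDim (π ⁻¹' Set.range ι : Set C) + (c : WithBot ℕ∞) ≤ n := by
  haveI : IsLocallyNoetherian C := LocallyOfFiniteType.isLocallyNoetherian (π ≫ q)
  haveI := hι.1
  set R : Set C := π ⁻¹' Set.range ι with hRdef
  have hR : IsLocallyClosed R := ι.isLocallyClosed_range.preimage π.continuous
  have hmaxn := (FlatDim.forall_components_iff (π ≫ q) n).1 hC
  have key : ∀ P ∈ irreducibleComponents (C : Type u), ∀ Q ∈ irreducibleComponents (P ∩ R : Set C),
      ∃ g ∈ R, topologicalKrullDim Q = (WeilCoh.pdim C g : WithBot ℕ∞) ∧ n ≤ WeilCoh.pdim C g + c ∧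
        ∀ x ∈ Q, WeilCoh.pdim C (x : C) ≤ WeilCoh.pdim C g := by
    intro P hP Q hQ
    obtain ⟨ζ, hζ, rfl⟩ := Unibranch.exists_isMaxPt hP
    have hS : IsLocallyClosed (closure {ζ} ∩ R) := isClosed_closure.isLocallyClosed.inter hR
    have hQc : IsClosed Q := isClosed_of_mem_irreducibleComponents Q hQ
    let img : Set C := Subtype.val '' Q
    have hirr : IsIrreducible img := hQ.1.image _ continuous_subtype_val.continuousOn
    obtain ⟨g, hg⟩ := quasiSober_iff _ |>.1 inferInstance hirr.closure isClosed_closure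
    obtain ⟨x₀, hx₀⟩ := hirr.nonempty
    have hgS : g ∈ closure {ζ} ∩ R := by
      obtain ⟨O, F, hO, hF, heq⟩ := hS
      have himg : img ⊆ O ∩ F := by rintro _ ⟨x, -, rfl⟩; exact heq.le x.2
      exact heq.ge ⟨(hg.specializes (subset_closure hx₀)).mem_open hO (himg hx₀).1,
        closure_minimal (fun y hy => (himg hy).2) hF hg.mem⟩
    have hgQ : (⟨g, hgS⟩ : ↥(closure {ζ} ∩ R : Set C)) ∈ Q := by
      rw [← hQc.closure_eq]
      exact closure_subtype.2 hg.mem
    have hspec : ∀ x ∈ Q, g ⤳ (x : C) := fun x hx => hg.specializes (subset_closure ⟨x, hx, rfl⟩)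
    have himgeq : img = closure {g} ∩ (closure {ζ} ∩ R) := by
      refine Set.Subset.antisymm ?_ fun y hy => ⟨⟨y, hy.2⟩, ?_, rfl⟩
      · rintro _ ⟨x, hx, rfl⟩
        exact ⟨(hspec x hx).mem_closure, x.2⟩
      · rw [← hQc.closure_eq]
        exact closure_subtype.2 (closure_minimal (Set.singleton_subset_iff.2 hg.mem) isClosed_closure hy.1)
    have himg : IsLocallyClosed img := himgeq ▸ isClosed_closure.isLocallyClosed.inter hS
    have hdim : topologicalKrullDim Q = (WeilCoh.pdim C g : WithBot ℕ∞) := by
      rw [IsHomeomorph.topologicalKrullDim_eq _ ((IsEmbedding.subtypeVal).homeomorphImage Q).isHomeomorph]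
      refine le_antisymm ((FlatDim.dim_le_iff (π ≫ q) himg).2 ?_)
        ((FlatDim.natCast_le_dim_iff (π ≫ q) himg).2 ⟨g, ⟨_, hgQ, rfl⟩, le_rfl⟩)
      rintro _ ⟨x, hx, rfl⟩
      exact FlatDim.pdim_mono (π ≫ q) (hspec x hx)
    obtain ⟨z, hz⟩ := hgS.2
    obtain ⟨U, hzU, hc, rs, hlen, -, hker⟩ := hι.2 z
    have hζg : ζ ⤳ g := specializes_iff_mem_closure.2 hgS.1
    have hgen := FlatDim.genLE_of_cut ι π U hc rs hker hζg (hz ▸ hzU) hgS.2 fun y hζy hyg hy => by
      let y' : ↥(closure {ζ} ∩ R : Set C) := ⟨y, hζy.mem_closure, hy⟩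
      have hle : Q ⊆ closure {y'} := fun w hw =>
        closure_subtype.2 (by
          rw [Set.image_singleton]
          exact (hyg.trans (hspec w hw)).mem_closure)
      have hyQ : y' ∈ Q := hQ.2 isIrreducible_singleton.closure hle (subset_closure rfl)
      exact (hyg.antisymm (hspec y' hyQ)).eq
    rw [hlen] at hgen
    have h1 := DimFormula.hasChain_sub_of_genLE (π ≫ q) (FlatDim.pdim_spec (π ≫ q) ζ).2.1 c hζg hgen
    have h2 := h1.le (FlatDim.pdim_spec (π ≫ q) g).1
    rw [hmaxn ζ hζ] at h2
    exact ⟨g, hgS.2, hdim, by omega, fun x hx => FlatDim.pdim_mono (π ≫ q) (hspec x hx)⟩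
  refine ⟨fun h => ?_, fun h P hP Q hQ => ?_⟩
  · rw [add_comm]
    refine FlatDim.add_le_of_forall fun d hd => ?_
    obtain ⟨x, hx, hdx⟩ := (FlatDim.natCast_le_dim_iff (π ≫ q) hR).1 hd
    have hP := irreducibleComponent_mem_irreducibleComponents x
    let x' : ↥(irreducibleComponent x ∩ R : Set C) := ⟨x, mem_irreducibleComponent, hx⟩
    have hQ := irreducibleComponent_mem_irreducibleComponents x'
    obtain ⟨g, -, hdim, -, hle⟩ := key _ hP _ hQ
    have h1 := h _ hP _ hQ
    rw [hdim, ← Nat.cast_add, Nat.cast_inj] at h1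
    have h2 := hle x' mem_irreducibleComponent
    exact Nat.cast_le.2 (by simp only [x'] at h2; omega)
  · obtain ⟨g, hgR, hdim, hle, -⟩ := key P hP Q hQ
    have h1 := (add_le_add ((FlatDim.natCast_le_dim_iff (π ≫ q) hR).2 ⟨g, hgR, le_rfl⟩) le_rfl).trans h
    rw [hdim, ← Nat.cast_add, Nat.cast_inj]
    rw [← Nat.cast_add, Nat.cast_le] at h1
    omega

end Groth.Agent.S14481
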