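import Groth.Statements.S14482
import Groth.Agent.FlatDim.CutDim
import Groth.Agent.FlatDim.DimAdd

set_option autoImplicit false
open Groth.Agent
universe u
open CategoryTheory AlgebraicGeometry
open CharCyc

namespace Groth.Agent.S14482

/-- Second assertion: let k be a field, let π : C → X be a morphism between k-schemes of finite type
such that every irreducible component of C has dimension n, let ι : W → X be a regular immersion of
codimension c, and for j ≥ 0 let B_j ⊆ X be the set of points whose fibre under π has dimension at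
least j. Assume that every B_j is closed in X. Then dim B_j + j ≤ n for every j, and the condition
dim π⁻¹(ι(W)) + c ≤ n (that is, dim C ×_X W ≤ n − c) holds if and only if dim ι⁻¹(B_j) + c + j ≤ n
for every j (that is, ι meets the sequence (B_j) n-semi-properly). Dimensions are topological Krull
dimensions of subspaces, the empty space having dimension ⊥. (Stated for each of the four kinds of
regular immersion of codimension c — regular, Koszul-regular, H₁-regular, quasi-regular; the
published statement does not distinguish kinds.) -/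
theorem result (k : Type u) [Field k] (C X W : Scheme.{u})
    (q : X ⟶ Spec (CommRingCat.of k)) (π : C ⟶ X) (ι : W ⟶ X)
    [LocallyOfFiniteType q] [CompactSpace X] [LocallyOfFiniteType π] [CompactSpace C]
    (κ : RegImm.Kind) (n c : ℕ) (hι : RegImm.IsRegularImmersionOfCodim κ c ι)
    (hC : ∀ P ∈ irreducibleComponents (C : Type u), topologicalKrullDim P = n)
    (hB : ∀ j : ℕ, IsClosed {x : X | (j : WithBot ℕ∞) ≤ topologicalKrullDim (π.fiber x)}) :
    (∀ j : ℕ, topologicalKrullDim {x : X | (j : WithBot ℕ∞) ≤ topologicalKrullDim (π.fiber x)} + (j : WithBot ℕ∞) ≤ n) ∧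
      (topologicalKrullDim (π ⁻¹' Set.range ι : Set C) + (c : WithBot ℕ∞) ≤ n ↔
        ∀ j : ℕ, topologicalKrullDim (ι ⁻¹' {x : X | (j : WithBot ℕ∞) ≤ topologicalKrullDim (π.fiber x)} : Set W) + (c : WithBot ℕ∞) + (j : WithBot ℕ∞) ≤ n) := by
  haveI := hι.1
  have hall : ∀ x : C, WeilCoh.pdim C x ≤ n := fun x => by
    obtain ⟨ζ, hζ, hζx⟩ := Unibranch.exists_isMaxPt_specializes x
    exact (FlatDim.pdim_mono (π ≫ q) hζx).trans ((FlatDim.forall_components_iff (π ≫ q) n).1 hC ζ hζ).le
  let B : ℕ → Set X := fun j => {x : X | (j : WithBot ℕ∞) ≤ topologicalKrullDim ↥(π.fiber x)}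
  have hBc : ∀ j, IsLocallyClosed (B j) := fun j => (hB j).isLocallyClosed
  have hR : IsLocallyClosed (π ⁻¹' Set.range ι : Set C) := ι.isLocallyClosed_range.preimage π.continuous
  have hpt : ∀ (j : ℕ) (y : X), y ∈ B j → ∃ x : C, π x = y ∧ WeilCoh.pdim X y + j ≤ WeilCoh.pdim C x := by
    intro j y hy
    obtain ⟨x, rfl, hch⟩ := (FlatDim.natCast_le_fibre_iff π y).1 hy
    obtain ⟨δ, hδ1, -, hδ⟩ := FlatDim.exists_pdim_eq π q x
    have := hch.le hδ1
    exact ⟨x, rfl, by omega⟩
  have hW : ∀ j, topologicalKrullDim (ι ⁻¹' B j : Set W) =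
      topologicalKrullDim (Set.range ι ∩ B j : Set X) := fun j => by
    have e : ι '' (ι ⁻¹' B j) = Set.range ι ∩ B j := by
      rw [Set.image_preimage_eq_inter_range, Set.inter_comm]
    rw [IsHomeomorph.topologicalKrullDim_eq _ ((ι.isEmbedding).homeomorphImage (ι ⁻¹' B j)).isHomeomorph, e]
  refine ⟨fun j => ?_, fun h j => ?_, fun h => ?_⟩
  · rw [add_comm]
    refine FlatDim.add_le_of_forall fun d hd => ?_
    obtain ⟨y, hy, hdy⟩ := (FlatDim.natCast_le_dim_iff q (hBc j)).1 hd
    obtain ⟨x, -, hx⟩ := hpt j y hy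
    have := hall x
    exact Nat.cast_le.2 (by omega)
  · show topologicalKrullDim (ι ⁻¹' B j : Set W) + _ + _ ≤ _
    rw [hW, add_assoc, ← Nat.cast_add, add_comm]
    refine FlatDim.add_le_of_forall fun d hd => ?_
    obtain ⟨y, ⟨hyr, hy⟩, hdy⟩ := (FlatDim.natCast_le_dim_iff q (ι.isLocallyClosed_range.inter (hBc j))).1 hd
    obtain ⟨x, hxy, hx⟩ := hpt j y hy
    have h1 := (add_le_add ((FlatDim.natCast_le_dim_iff (π ≫ q) hR).2 ⟨x, (by show π x ∈ Set.range ι; rw [hxy]; exact hyr), le_rfl⟩)
      (le_refl (c : WithBot ℕ∞))).trans h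
    rw [← Nat.cast_add, Nat.cast_le] at h1
    exact Nat.cast_le.2 (by omega)
  · rw [add_comm]
    refine FlatDim.add_le_of_forall fun d hd => ?_
    obtain ⟨x, hx, hdx⟩ := (FlatDim.natCast_le_dim_iff (π ≫ q) hR).1 hd
    obtain ⟨δ, -, hδ2, hδ⟩ := FlatDim.exists_pdim_eq π q x
    have hy : π x ∈ Set.range ι ∩ B δ := ⟨hx, (FlatDim.natCast_le_fibre_iff π (π x)).2 ⟨x, rfl, hδ2⟩⟩
    have h1 := h δ
    change topologicalKrullDim (ι ⁻¹' B δ : Set W) + _ + _ ≤ _ at h1
    rw [hW] at h1
    have h2 := (add_le_add (add_le_add ((FlatDim.natCast_le_dim_iff q (ι.isLocallyClosed_range.inter (hBc δ))).2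
      ⟨_, hy, le_rfl⟩) (le_refl (c : WithBot ℕ∞))) (le_refl (δ : WithBot ℕ∞))).trans h1
    rw [← Nat.cast_add, ← Nat.cast_add, Nat.cast_le] at h2
    exact Nat.cast_le.2 (by omega)

end Groth.Agent.S14482
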