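import Groth.Statements.S14486
import Groth.Agent.ExtFund.Surface
import Groth.Agent.Nakai.CurveConfig

set_option autoImplicit false
universe u
open CategoryTheory CategoryTheory.Limits AlgebraicGeometry
open Surf

set_option backward.isDefEq.respectTransparency false
set_option backward.isDefEq.respectTransparency.types false

namespace Groth.Agent.S14486

/-- Let k be an algebraically closed field and X a projective K3 surface over k: an integral scheme of
dimension two with all local rings regular, admitting a closed immersion into some P^n_k over k,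
whose structure sheaf O_X is a second exterior power of Ω_{X/k} (the canonical sheaf is trivial) and
with H^1(X, O_X) = 0. Let C be a nonsingular curve of genus g on X: an integral closed subscheme of
dimension one with all local rings regular, with ideal sheaf I ⊆ O_X and g = dim_k H^1(C, O_C); let
M be an inverse of I for the tensor product (M = O_X(C)). Then C² = 2g - 2 and h^0(X, O_X(C)) = g +
1. Writing (L·L') for the intersection number χ(O_X) - χ(L) - χ(L') + χ(L ⊗ L') of two invertible
modules (packaged as FGA.intNum), C² = (I·I), so the assertion reads (I·I) = 2g - 2 and dim_k H^0(X,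
M) = g + 1. (A K3 surface is only required to be proper; this row assumes the projective embedding.) -/
theorem result (k : Type u) [Field k] [IsAlgClosed k] (X : Scheme.{u})
    [X.Over (Spec (CommRingCat.of k))] [IsIntegral X] (hdim : topologicalKrullDim X = 2)
    (hreg : ∀ x : X, IsRegularLocalRing (X.presheaf.stalk x))
    (hproj : ∃ (n : ℕ) (ι : X ⟶ CohB1.ProjSpace n k), IsClosedImmersion ι ∧
      ι ≫ CohB1.ProjSpace.toSpec n k = (X ↘ (Spec (CommRingCat.of k))))
    (hK : ExtPow.IsExtPow 2 (Omega.sheaf (X ↘ (Spec (CommRingCat.of k)))) (Coh.structureModule X))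
    (hH1 : Subsingleton (Coh.HH X (Coh.structureModule X) 1))
    (C : Scheme.{u}) (i : C ⟶ X) [IsClosedImmersion i] [IsIntegral C] (hC : topologicalKrullDim C = 1)
    (hCreg : ∀ c : C, IsRegularLocalRing (C.presheaf.stalk c))
    (M : X.Modules) (hM : ClSub.IsInverseOf M (ClSub.idealMod i.ker)) :
    letI : C.Over (Spec (CommRingCat.of k)) := ⟨i ≫ (X ↘ (Spec (CommRingCat.of k)))⟩
    FGA.intNum k X 2 ![ClSub.idealMod i.ker, ClSub.idealMod i.ker] (Coh.structureModule X) =
        2 * (Curv2.genus k C : ℤ) - 2 ∧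
      Module.finrank k (Coh.HH X M 0) = Curv2.genus k C + 1 := by
  letI : C.Over (Spec (CommRingCat.of k)) := ⟨i ≫ (X ↘ (Spec (CommRingCat.of k)))⟩
  obtain ⟨hp, hs⟩ := Groth.Agent.ExtFund.surface_facts hdim hreg hproj
  obtain ⟨n, ι, hi, hι⟩ := hproj
  haveI := hi
  haveI := Groth.Agent.CurveRR.isNoetherian_of_proper k X
  haveI : Smooth (X ↘ Spec (CommRingCat.of k)) := SmoothOfRelativeDimension.smooth 2 _
  obtain ⟨hI, he⟩ := Groth.Agent.ExtFund.curve_facts (k := k) hdim i hC
  have hd : topologicalKrullDim X ≤ ((2 : ℕ) : WithBot ℕ∞) := hdim.le.trans (le_of_eq (by norm_cast))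
  have hMi : PicF.IsInvertible M := Groth.Agent.Intersect.isInvertible_inverse hI ⟨TMul.commIso _ _ ≪≫ hM.some⟩
  have hOO : Groth.Agent.Nakai.inter k (ClSub.idealMod i.ker) (Coh.structureModule X) = 0 := by
    rw [Groth.Agent.Nakai.inter_comm, Groth.Agent.Nakai.inter_one]
  have hrr := Groth.Agent.ExtFund.riemann_roch_smooth ι hι hK hdim _ hI
  have hrrM := Groth.Agent.ExtFund.riemann_roch_smooth ι hι hK hdim _ hMi
  have hMM : Groth.Agent.Nakai.inter k M M =
      Groth.Agent.Nakai.inter k (ClSub.idealMod i.ker) (ClSub.idealMod i.ker) := by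
    have hinv : Nonempty (CohB1.tensorMod (ClSub.idealMod i.ker) M ≅ Coh.structureModule X) :=
      ⟨TMul.commIso _ _ ≪≫ hM.some⟩
    rw [Groth.Agent.Nakai.inter_inv k hd hI hinv hMi, Groth.Agent.Nakai.inter_inv_right k hd hI hinv hI, neg_neg]
  have hIO : FGA.intNum k X 2 ![ClSub.idealMod i.ker, Coh.structureModule X] (Coh.structureModule X) = 0 := by
    exact_mod_cast (Groth.Agent.Nakai.intNum_eq_inter k hd _ _).trans hOO
  have hMO : FGA.intNum k X 2 ![M, Coh.structureModule X] (Coh.structureModule X) = 0 := by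
    have := (Groth.Agent.Nakai.intNum_eq_inter k hd M (Coh.structureModule X)).trans
      ((Groth.Agent.Nakai.inter_comm k _ _).trans (Groth.Agent.Nakai.inter_one k M))
    exact_mod_cast this
  have hMM' : FGA.intNum k X 2 ![M, M] (Coh.structureModule X) =
      FGA.intNum k X 2 ![ClSub.idealMod i.ker, ClSub.idealMod i.ker] (Coh.structureModule X) := by
    rw [← Groth.Agent.Nakai.intNum_eq_inter k hd, ← Groth.Agent.Nakai.intNum_eq_inter k hd] at hMM
    exact_mod_cast hMM
  have heul : ∀ F : X.Modules, Curv2.euler k X F =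
      (Groth.Agent.CurveRR.h k F 0 : ℤ) - Groth.Agent.CurveRR.h k F 1 + Groth.Agent.CurveRR.h k F 2 := fun F => by
    rw [Groth.Agent.CurveRR.euler_eq_sum F 3 (fun j hj => Groth.Agent.S0458.result
      (X := X.toPresheafedSpace.carrier) 2 hd (Coh.toAb F) j (by omega)), Finset.sum_range_succ,
      Finset.sum_range_succ, Finset.sum_range_one]
    ring
  have hdual : ∀ j, j ≤ 2 → Groth.Agent.CurveRR.h k M j = Groth.Agent.CurveRR.h k (ClSub.idealMod i.ker) (2 - j) :=
    fun j hj => (Groth.Agent.ExtFund.h_eq_dual ι hι hK (L' := ClSub.idealMod i.ker) hMi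
      ⟨TMul.commIso _ _ ≪≫ hM.some⟩ j hj).trans (Groth.Agent.CurveRR.h_eq_of_iso (TMul.leftUnitIso _) _)
  have hO : ∀ j, j ≤ 2 → Groth.Agent.CurveRR.h k (Coh.structureModule X) j =
      Groth.Agent.CurveRR.h k (Coh.structureModule X) (2 - j) := fun j hj =>
    (Groth.Agent.ExtFund.h_eq_dual ι hι hK (L' := Coh.structureModule X) TMul.isInvertible_structureModule
      ⟨TMul.leftUnitIso _⟩ j hj).trans (Groth.Agent.CurveRR.h_eq_of_iso (TMul.leftUnitIso _) _)
  haveI : IsIso i.toImage := inferInstance
  haveI : Nonempty i.ker.subscheme := ⟨i.toImage (genericPoint C)⟩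
  haveI : IsIntegral i.ker.subscheme := isIntegral_of_isOpenImmersion (inv i.toImage)
  have hI1 : Groth.Agent.CurveRR.h k (ClSub.idealMod i.ker) 1 = 0 :=
    Groth.Agent.CurveRR.h_eq_zero (Groth.Agent.ConnDiv.subsingleton_h1_ideal (k := k) hH1 i.ker)
  have hI0 : Groth.Agent.CurveRR.h k (ClSub.idealMod i.ker) 0 = 0 := by
    have hS := Groth.Agent.SerrePn.idealSeq_shortExact i.ker
    have hf := Groth.Agent.CurveRR.injective_f (k := k) hS
    have hg := Groth.Agent.ConnDiv.injective_hhMap_quot (k := k) i.ker inferInstance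
    refine Groth.Agent.CurveRR.h_eq_zero (subsingleton_of_forall_eq 0 fun y => hf ?_)
    rw [map_zero]
    refine hg ?_
    rw [map_zero]
    have := Groth.Agent.CurveRR.range_f_eq_ker_g (k := k) hS 0
    exact LinearMap.mem_ker.1 (this ▸ LinearMap.mem_range_self _ y)
  have a0 := Groth.Agent.ConnDiv.h0_structure (k := k) (X := X)
  have a1 : Groth.Agent.CurveRR.h k (Coh.structureModule X) 1 = 0 := Groth.Agent.CurveRR.h_eq_zero hH1
  have a2 := hO 2 le_rfl
  have b0 := hdual 0 (by omega)
  have b1 := hdual 1 (by omega)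
  have b2 := hdual 2 le_rfl
  have e1 := heul (Coh.structureModule X)
  have e2 := heul M
  change _ ∧ Groth.Agent.CurveRR.h k M 0 = _
  norm_num at a2 b0 b1 b2
  constructor <;> omega

end Groth.Agent.S14486
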