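import Groth.Statements.S1449
import Groth.Agent.SpQS.DegLocus

set_option autoImplicit false
set_option backward.isDefEq.respectTransparency false
universe u
open FlatMor

namespace Groth.Agent.S1449

open Groth.Agent.SpQS IsLocalRing
open AlgebraicGeometry CategoryTheory CategoryTheory.Limits TopologicalSpace

/-- some quasi-compact piece over an affine neighbourhood has degree at least `d` at `s` -/
def LocDeg {X S : Scheme.{u}} (f : X ⟶ S) (d : ℕ) (s : S) : Prop :=
  ∃ (U : S.Opens) (_ : IsAffineOpen U) (W : X.Opens) (hW : W ≤ f ⁻¹ᵁ U) (_ : IsCompact (W : Set X)) (hs : s ∈ U),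
    d ≤ fdeg (X.homOfLE hW ≫ f ∣_ U) ⟨s, hs⟩

theorem finFib_piece {X S : Scheme.{u}} (f : X ⟶ S) [LocallyQuasiFinite f] {U : S.Opens} (hU : IsAffineOpen U)
    {W : X.Opens} (hW : W ≤ f ⁻¹ᵁ U) (hc : IsCompact (W : Set X)) :
    FinFib (X.homOfLE hW ≫ f ∣_ U) := by
  haveI : IsAffine U := hU
  haveI : CompactSpace W.toScheme := isCompact_iff_compactSpace.mp hc
  haveI : QuasiCompact (X.homOfLE hW ≫ f ∣_ U) := inferInstance
  exact finFib_of_qc _

theorem isOpen_locDeg {X S : Scheme.{u}} (f : X ⟶ S) [Flat f] [LocallyOfFinitePresentation f] [IsSeparated f]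
    [LocallyQuasiFinite f] (d : ℕ) : IsOpen {s | LocDeg f d s} := by
  refine isOpen_iff_forall_mem_open.mpr ?_
  rintro s ⟨U, hU, W, hW, hWc, hs, hd⟩
  refine ⟨U.ι '' {u | d ≤ fdeg (X.homOfLE hW ≫ f ∣_ U) u}, ?_,
    U.ι.isOpenEmbedding.isOpenMap _ (isOpen_le_fdeg _ (finFib_piece f hU hW hWc) d), ⟨⟨s, hs⟩, hd, rfl⟩⟩
  rintro _ ⟨u, hu, rfl⟩
  exact ⟨U, hU, W, hW, hWc, u.2, hu⟩

/-- the piece over `W` of a base change -/
theorem isPullback_piece {X S T : Scheme.{u}} (f : X ⟶ S) {U : S.Opens} {W : X.Opens} (hW : W ≤ f ⁻¹ᵁ U)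
    (g : T ⟶ S) (g' : T ⟶ U.toScheme) (hg : g' ≫ U.ι = g) :
    IsPullback (pullback.fst f g ∣_ W) ((pullback.fst f g ⁻¹ᵁ W).ι ≫ pullback.snd f g)
      (X.homOfLE hW ≫ f ∣_ U) g' := by
  have h1 : IsPullback (pullback.fst f g ∣_ W) ((pullback.fst f g ⁻¹ᵁ W).ι ≫ pullback.snd f g)
      (W.ι ≫ f) g :=
    (isPullback_morphismRestrict (pullback.fst f g) W).paste_vert (IsPullback.of_hasPullback f g)
  have e : (X.homOfLE hW ≫ f ∣_ U) ≫ U.ι = W.ι ≫ f := by
    rw [Category.assoc, morphismRestrict_ι, Scheme.homOfLE_ι_assoc]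
  refine ⟨⟨?_⟩, ⟨PullbackCone.IsLimit.mk _ (fun c => h1.lift c.fst c.snd (by rw [← e, ← hg, ← Category.assoc, c.condition, Category.assoc]))
    (fun c => h1.lift_fst _ _ _) (fun c => h1.lift_snd _ _ _) (fun c m hm₁ hm₂ => h1.hom_ext ?_ ?_)⟩⟩
  · rw [← cancel_mono U.ι]
    simp only [Category.assoc, hg, morphismRestrict_ι, Scheme.homOfLE_ι_assoc]
    simpa using h1.w
  · rw [hm₁, h1.lift_fst]
  · rw [hm₂, h1.lift_snd]

theorem le_gRank_iff {X S : Scheme.{u}} (f : X ⟶ S) [LocallyQuasiFinite f] {K : Type u} [Field K]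
    (g : Spec (CommRingCat.of K) ⟶ S) (d : ℕ) :
    LocDeg f d (g (closedPoint K)) ↔ (d : Cardinal.{u}) ≤ gRank (pullback.snd f g) := by
  let q := pullback.snd f g
  haveI := discreteTopology_of_lqf q
  constructor
  · rintro ⟨U, hU, W, hW, hWc, hs, hd⟩
    let g' := IsOpenImmersion.lift U.ι g (by
      rintro _ ⟨x, rfl⟩
      rw [show x = closedPoint K from Subsingleton.elim (α := PrimeSpectrum K) _ _, Scheme.Opens.range_ι]
      exact hs)
    have hg : g' ≫ U.ι = g := IsOpenImmersion.lift_fac _ _ _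
    obtain ⟨hfin, hrk⟩ := fdeg_eq _ (finFib_piece f hU hW hWc) g' _ _ (isPullback_piece f hW g g' hg)
    have hpt : g' (closedPoint K) = ⟨g (closedPoint K), hs⟩ := by
      apply U.ι.isOpenEmbedding.injective
      rw [← Scheme.Hom.comp_apply, hg]
      rfl
    refine le_trans ?_ (gRank_open_le q (pullback.fst f g ⁻¹ᵁ W))
    rw [gRank_eq_finrank, hrk, hpt]
    exact_mod_cast hd
  · intro h
    obtain ⟨U, hU, hsU, -⟩ :=
      exists_isAffineOpen_mem_and_subset (x := g (closedPoint K)) (U := (⊤ : S.Opens)) trivial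
    obtain ⟨V, hV, hVd⟩ := exists_qc_open_of_le q h
    have himg : pullback.fst f g '' (V : Set ↥(pullback f g)) ⊆ ((f ⁻¹ᵁ U : X.Opens) : Set X) := by
      rintro _ ⟨z, _, rfl⟩
      show f (pullback.fst f g z) ∈ (U : Set S)
      rw [← Scheme.Hom.comp_apply, pullback.condition, Scheme.Hom.comp_apply,
        show pullback.snd f g z = closedPoint K from Subsingleton.elim (α := PrimeSpectrum K) _ _]
      exact hsU
    obtain ⟨t, ht⟩ := (hV.image (pullback.fst f g).continuous).elim_finite_subcover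
      (fun W : {W : X.affineOpens // W.1 ≤ f ⁻¹ᵁ U} => (W.1.1 : Set X)) (fun W => W.1.1.isOpen)
      (fun x hx => by
        obtain ⟨W, hW, hxW, hWU⟩ := exists_isAffineOpen_mem_and_subset (x := x) (U := f ⁻¹ᵁ U) (himg hx)
        exact Set.mem_iUnion.mpr ⟨⟨⟨W, hW⟩, hWU⟩, hxW⟩)
    let W : X.Opens := ⟨⋃ W ∈ t, (W.1.1 : Set X), isOpen_biUnion fun W _ => W.1.1.isOpen⟩
    have hW : W ≤ f ⁻¹ᵁ U := fun x hx => by
      obtain ⟨W', _, hx'⟩ := Set.mem_iUnion₂.mp hx
      exact W'.2 hx'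
    have hWc : IsCompact (W : Set X) := t.isCompact_biUnion fun W _ => W.1.2.isCompact
    refine ⟨U, hU, W, hW, hWc, hsU, ?_⟩
    let g' := IsOpenImmersion.lift U.ι g (by
      rintro _ ⟨x, rfl⟩
      rw [show x = closedPoint K from Subsingleton.elim (α := PrimeSpectrum K) _ _, Scheme.Opens.range_ι]
      exact hsU)
    have hg : g' ≫ U.ι = g := IsOpenImmersion.lift_fac _ _ _
    obtain ⟨hfin, hrk⟩ := fdeg_eq _ (finFib_piece f hU hW hWc) g' _ _ (isPullback_piece f hW g g' hg)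
    have hpt : g' (closedPoint K) = ⟨g (closedPoint K), hsU⟩ := by
      apply U.ι.isOpenEmbedding.injective
      rw [← Scheme.Hom.comp_apply, hg]
      rfl
    let P := pullback.fst f g ⁻¹ᵁ W
    have hle : V ≤ P := fun z hz => ht (Set.mem_image_of_mem _ hz)
    haveI : DiscreteTopology P.toScheme := P.ι.isEmbedding.discreteTopology
    have h1 := gRank_open_le (P.ι ≫ q) (P.ι ⁻¹ᵁ V)
    haveI : IsFinite (P.ι ≫ q) := hfin
    have h2 : gRank (V.ι ≫ q) ≤ gRank (P.ι ≫ q) := by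
      haveI : IsFinite (V.ι ≫ q) := by
        haveI : DiscreteTopology V.toScheme := V.ι.isEmbedding.discreteTopology
        haveI : Finite V.toScheme := (hV.finite ⟨inferInstance⟩).to_subtype
        exact isFinite_of_finite _
      haveI : DiscreteTopology ((P.ι ⁻¹ᵁ V) : P.toScheme.Opens).toScheme :=
        (P.ι ⁻¹ᵁ V).ι.isEmbedding.discreteTopology
      let j : ((P.ι ⁻¹ᵁ V) : P.toScheme.Opens).toScheme ⟶ V.toScheme := P.ι ∣_ V
      haveI : IsIso j := isIso_of_isOpenImmersion_of_opensRange_eq_top _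
        (TopologicalSpace.Opens.ext (Set.range_eq_univ.2 fun z =>
          ⟨⟨⟨z.1, hle z.2⟩, z.2⟩, V.ι.isOpenEmbedding.injective (by
            rw [← Scheme.Hom.comp_apply, morphismRestrict_ι]; rfl)⟩))
      have e : (P.ι ⁻¹ᵁ V).ι ≫ P.ι ≫ q = j ≫ V.ι ≫ q := by rw [morphismRestrict_ι_assoc]
      rw [e] at h1
      haveI : IsFinite (j ≫ V.ι ≫ q) := inferInstance
      rwa [gRank_eq_finrank (j ≫ V.ι ≫ q), Scheme.Hom.finrank_comp_left_of_isIso,
        ← gRank_eq_finrank] at h1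
    have h3 := hVd.trans h2
    rw [gRank_eq_finrank, hrk, hpt] at h3
    exact_mod_cast h3

open AlgebraicGeometry CategoryTheory Limits in
/-- Consider a separated, flat, locally quasi-finite morphism f : X → S which is locally of finite
presentation. Then there are opens S = U_0 ⊇ U_1 ⊇ U_2 ⊇ ... of S with the property that a morphism
from the spectrum of a field to S lands in U_d exactly when the base change of X to that field has
rank (of its ring of global functions over the field) at least d. -/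
theorem result {X S : Scheme.{u}} (f : X ⟶ S) [Flat f] [LocallyOfFinitePresentation f] [IsSeparated f] [LocallyQuasiFinite f] :
    ∃ U : ℕ → S.Opens, Antitone U ∧ U 0 = ⊤ ∧ ∀ (K : Type u) [Field K] (g : Spec (CommRingCat.of K) ⟶ S) (d : ℕ),
      Set.range ⇑g ⊆ (U d : Set ↑S) ↔ (d : Cardinal.{u}) ≤ (letI := ((Scheme.ΓSpecIso (CommRingCat.of K)).inv ≫ (pullback.snd f g).appTop).hom.toAlgebra
        Module.rank K (Γ(pullback f g, ⊤) : Type u)) := by
  refine ⟨fun d => ⟨{s | LocDeg f d s}, isOpen_locDeg f d⟩, fun d d' hdd => fun s hs => ?_, ?_, fun K _ g d => ?_⟩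
  · obtain ⟨U, hU, W, hW, hWc, hs, hd⟩ := hs
    exact ⟨U, hU, W, hW, hWc, hs, hdd.trans hd⟩
  · ext s
    simp only [TopologicalSpace.Opens.coe_mk, TopologicalSpace.Opens.coe_top, Set.mem_univ, iff_true]
    obtain ⟨U, hU, hsU, -⟩ := exists_isAffineOpen_mem_and_subset (x := s) (U := (⊤ : S.Opens)) trivial
    exact ⟨U, hU, ⊥, bot_le, isCompact_empty, hsU, Nat.zero_le _⟩
  · refine Iff.trans ?_ (le_gRank_iff f g d)
    refine ⟨fun h => h (Set.mem_range_self _), fun h => ?_⟩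
    rintro _ ⟨x, rfl⟩
    rwa [show x = IsLocalRing.closedPoint K from Subsingleton.elim (α := PrimeSpectrum K) _ _]

end Groth.Agent.S1449
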