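import Groth.Statements.S14498
import Mathlib.CategoryTheory.Abelian.Refinements
import Mathlib.CategoryTheory.Abelian.Exact
import Mathlib.Algebra.Homology.ShortComplex.ShortExact
-- import your own Groth.Agent.* helpers here

set_option autoImplicit false
set_option linter.style.haveILetI false
set_option linter.unusedSimpArgs false
universe v u
open AbDiag

namespace Groth.Agent.S14498

open CategoryTheory CategoryTheory.Limits in
/-- In an abelian category, let 0 → F → W → E' → 0 (maps a, b) and 0 → E → W → F' → G → G' → 0 (maps c,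
d, e, g) be exact sequences such that the composite F → W → F' is a monomorphism. Then the composite
E → W → E' is a monomorphism, and there is a short exact sequence 0 → Coker(E → E') → Coker(F → F')
→ Ker(G → G') → 0 whose first map is induced by d (through the quotient map b) and whose second map
is induced by e. -/
theorem result
    {V : Type u} [Category.{v} V] [Abelian V] {F W E' E F' G G' : V}
    (a : F ⟶ W) (b : W ⟶ E') (c : E ⟶ W) (d : W ⟶ F') (e : F' ⟶ G) (g : G ⟶ G')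
    [Mono a] [Epi b] (wab : a ≫ b = 0) (hab : (ShortComplex.mk a b wab).Exact)
    [Mono c] (wcd : c ≫ d = 0) (hcd : (ShortComplex.mk c d wcd).Exact)
    (wde : d ≫ e = 0) (hde : (ShortComplex.mk d e wde).Exact)
    (weg : e ≫ g = 0) (heg : (ShortComplex.mk e g weg).Exact) [Epi g]
    (hmono : Mono (a ≫ d)) :
    Mono (c ≫ b) ∧
      ∃ (φ : cokernel (c ≫ b) ⟶ cokernel (a ≫ d)) (ψ : cokernel (a ≫ d) ⟶ kernel g)
        (w : φ ≫ ψ = 0),
        b ≫ cokernel.π (c ≫ b) ≫ φ = d ≫ cokernel.π (a ≫ d) ∧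
        cokernel.π (a ≫ d) ≫ ψ ≫ kernel.ι g = e ∧
        (ShortComplex.mk φ ψ w).ShortExact := by
  haveI := hmono
  have hm : Mono (c ≫ b) := by
    rw [Preadditive.mono_iff_cancel_zero]
    intro T x hx
    obtain ⟨y, hy⟩ := KernelFork.IsLimit.lift' hab.fIsKernel (x ≫ c) (by simpa using hx)
    have hy' : y ≫ a = x ≫ c := hy
    have : y = 0 := by
      rw [← cancel_mono (a ≫ d), zero_comp, reassoc_of% hy', wcd, comp_zero]
    rw [← cancel_mono c, ← hy', this, zero_comp, zero_comp]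
  refine ⟨hm, ?_⟩
  obtain ⟨d', hd'⟩ := CokernelCofork.IsColimit.desc' hab.gIsCokernel (d ≫ cokernel.π (a ≫ d))
    (by change a ≫ _ = 0; rw [← Category.assoc, cokernel.condition])
  have hd1 : b ≫ d' = d ≫ cokernel.π (a ≫ d) := hd'
  let φ : cokernel (c ≫ b) ⟶ cokernel (a ≫ d) :=
    cokernel.desc _ d' (by rw [Category.assoc, hd1, reassoc_of% wcd, zero_comp])
  let ψ : cokernel (a ≫ d) ⟶ kernel g :=
    cokernel.desc _ (kernel.lift g e weg)
      (by rw [← cancel_mono (kernel.ι g)]; simp [wde])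
  have hφ : b ≫ cokernel.π (c ≫ b) ≫ φ = d ≫ cokernel.π (a ≫ d) := by simp [φ, hd1]
  have hψ : cokernel.π (a ≫ d) ≫ ψ ≫ kernel.ι g = e := by simp [ψ]
  have w : φ ≫ ψ = 0 := by
    rw [← cancel_epi (cokernel.π (c ≫ b)), ← cancel_epi b, ← cancel_mono (kernel.ι g)]
    simp only [Category.assoc, comp_zero, zero_comp]
    rw [reassoc_of% hφ, hψ, wde]
  refine ⟨φ, ψ, w, hφ, hψ, ?_⟩
  haveI : Mono φ := by
    rw [Preadditive.mono_iff_cancel_zero]
    intro T x hx
    obtain ⟨T₁, p₁, hp₁, x₁, hx₁⟩ := surjective_up_to_refinements_of_epi (b ≫ cokernel.π (c ≫ b)) x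
    have h0 : (x₁ ≫ d) ≫ cokernel.π (a ≫ d) = 0 := by
      rw [Category.assoc, ← hφ]
      have := hx₁ =≫ φ
      simp only [Category.assoc, hx, comp_zero] at this
      exact this.symm
    have hex := (ShortComplex.exact_cokernel (a ≫ d))
    obtain ⟨T₂, p₂, hp₂, y, hy⟩ := hex.exact_up_to_refinements (x₁ ≫ d) h0
    have hy' : p₂ ≫ x₁ ≫ d = y ≫ a ≫ d := hy
    obtain ⟨T₃, p₃, hp₃, z, hz⟩ := hcd.exact_up_to_refinements (p₂ ≫ x₁ - y ≫ a)
      (by simp [Preadditive.sub_comp, hy'])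
    have hz' : p₃ ≫ (p₂ ≫ x₁ - y ≫ a) = z ≫ c := hz
    rw [← cancel_epi p₁, ← cancel_epi p₂, ← cancel_epi p₃, comp_zero, comp_zero, comp_zero, hx₁]
    have h1 : p₃ ≫ p₂ ≫ x₁ = z ≫ c + p₃ ≫ y ≫ a := by
      rw [← hz', Preadditive.comp_sub]; abel
    rw [← Category.assoc p₂, ← Category.assoc p₃, h1, Preadditive.add_comp]
    simp only [Category.assoc, reassoc_of% wab, zero_comp, comp_zero, add_zero]
    rw [← Category.assoc c b, cokernel.condition, comp_zero]
  haveI : Epi ψ := by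
    rw [epi_iff_surjective_up_to_refinements]
    intro T x
    obtain ⟨T₁, p₁, hp₁, y, hy⟩ := heg.exact_up_to_refinements (x ≫ kernel.ι g) (by simp)
    refine ⟨T₁, p₁, hp₁, y ≫ cokernel.π (a ≫ d), ?_⟩
    rw [← cancel_mono (kernel.ι g)]
    simp only [Category.assoc, hψ]
    exact hy
  refine ShortComplex.ShortExact.mk ?_
  rw [ShortComplex.exact_iff_exact_up_to_refinements]
  intro T x hx
  obtain ⟨T₁, p₁, hp₁, y, hy⟩ := surjective_up_to_refinements_of_epi (cokernel.π (a ≫ d)) x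
  have hye : y ≫ e = 0 := by
    rw [← hψ, ← Category.assoc, ← hy, Category.assoc]
    have : x ≫ ψ = 0 := hx
    rw [reassoc_of% this, zero_comp, comp_zero]
  obtain ⟨T₂, p₂, hp₂, z, hz⟩ := hde.exact_up_to_refinements y hye
  refine ⟨T₂, p₂ ≫ p₁, epi_comp _ _, z ≫ b ≫ cokernel.π (c ≫ b), ?_⟩
  have hz' : p₂ ≫ y = z ≫ d := hz
  change (p₂ ≫ p₁) ≫ x = (z ≫ b ≫ cokernel.π (c ≫ b)) ≫ φ
  simp only [Category.assoc, hφ, hy]
  rw [reassoc_of% hz']

end Groth.Agent.S14498
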