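import Groth.Statements.S14504
import Mathlib
import Groth.Agent.S11848

set_option autoImplicit false
universe u
open IntTh

namespace Groth.Agent.S14504


section helpers
open Module Groth.Agent.S11848

variable {K : Type u} [Field K] {n d : ℕ} (V : ℕ → Submodule K (Fin n → K))
  (hV : ∀ (j : ℕ) (v : Fin n → K), v ∈ V j ↔ ∀ l : Fin n, j ≤ (l : ℕ) → v l = 0)

include hV

lemma exists_pivots (L : Submodule K (Fin n → K)) (hL : finrank K L = d) :
    ∃ P : Fin d → Fin n, StrictMono P ∧
      (∀ i : Fin d, (i : ℕ) + 1 ≤ finrank K ↥(L ⊓ V ((P i : ℕ) + 1))) ∧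
      (∀ i : Fin d, finrank K ↥(L ⊓ V (P i : ℕ)) ≤ (i : ℕ)) := by
  classical
  have htop : L ⊓ V n = L :=
    inf_of_le_left (fun v _ => (hV n v).2 (fun l hl => absurd l.2 (not_lt.2 hl)))
  have hex : ∀ i : Fin d, ∃ j, j < n ∧ (i : ℕ) + 1 ≤ finrank K ↥(L ⊓ V (j + 1)) := by
    intro i
    cases n with
    | zero =>
      have hi := i.2
      have := Submodule.finrank_le L
      rw [hL, Module.finrank_fin_fun] at this
      omega
    | succ m => exact ⟨m, Nat.lt_succ_self m, by rw [htop, hL]; exact i.2⟩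
  let P : Fin d → Fin n := fun i => ⟨Nat.find (hex i), (Nat.find_spec (hex i)).1⟩
  have hlo : ∀ i : Fin d, (i : ℕ) + 1 ≤ finrank K ↥(L ⊓ V ((P i : ℕ) + 1)) :=
    fun i => (Nat.find_spec (hex i)).2
  have hup : ∀ i : Fin d, finrank K ↥(L ⊓ V (P i : ℕ)) ≤ (i : ℕ) := by
    intro i
    by_cases h0 : (P i : ℕ) = 0
    · have hb : V (P i : ℕ) = ⊥ := by
        rw [Submodule.eq_bot_iff]
        intro v hv
        funext l
        exact (hV _ v).1 hv l (by omega)
      rw [hb, inf_bot_eq, finrank_bot]
      exact Nat.zero_le _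
    · obtain ⟨m, hm⟩ := Nat.exists_eq_succ_of_ne_zero h0
      have hlt : m < Nat.find (hex i) := by
        show m < (P i : ℕ); omega
      have h1 := Nat.find_min (hex i) hlt
      rw [hm]
      by_contra h2
      exact h1 ⟨by have := (P i).2; omega, by
        simpa [Nat.succ_eq_add_one] using Nat.succ_le_of_lt (not_le.1 h2)⟩
  refine ⟨P, fun i j hij => ?_, hlo, hup⟩
  by_contra h
  have h1 : L ⊓ V ((P j : ℕ) + 1) ≤ L ⊓ V ((P i : ℕ) + 1) :=
    inf_le_inf_left L (V_mono V hV (Nat.succ_le_succ (Fin.le_def.1 (not_lt.1 h))))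
  have h2 := Submodule.finrank_mono h1
  have h3 := (finrank_pivot V hV P L hlo hup i).1
  have h4 := hlo j
  have h5 : (i : ℕ) < (j : ℕ) := hij
  omega

end helpers

/-- Let K be a field, d ≤ n, λ = (λ₁ ≥ ⋯ ≥ λ_d) a non-increasing sequence of natural numbers, d_i = n −
d + i − λ_i, and V_j ⊆ K^n the span of the first j standard basis vectors. For a d × n matrix A over
K with linearly independent rows spanning the subspace W: one has dim(W ∩ V_{d_i}) ≥ i for every i =
1, …, d if and only if every d × d minor of A taken on strictly increasing columns j₁ < ⋯ < j_d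
(1-indexed) with j_i > d_i for some i vanishes. (Indices are 0-based in the formal statement: row i
: Fin d stands for i + 1 and column l : Fin n for l + 1.) -/
theorem result (K : Type u) [Field K] (n d : ℕ)
    (hdn : d ≤ n) (V : ℕ → Submodule K (Fin n → K))
    (hV : ∀ (j : ℕ) (v : Fin n → K), v ∈ V j ↔ ∀ l : Fin n, j ≤ (l : ℕ) → v l = 0)
    (lam : Fin d → ℕ) (hlam : Antitone lam) (A : Matrix (Fin d) (Fin n) K)
    (hA : LinearIndependent K (fun i : Fin d => A i)) :
    (∀ i : Fin d, (i : ℕ) + 1 ≤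
        Module.finrank K ↥(Submodule.span K (Set.range fun i : Fin d => A i) ⊓
          V (n - d + ((i : ℕ) + 1) - lam i))) ↔
      ∀ J : Fin d → Fin n, StrictMono J →
        (∃ i : Fin d, n - d + ((i : ℕ) + 1) - lam i < (J i : ℕ) + 1) →
          (A.submatrix id J).det = 0 := by
  classical
  let L := Submodule.span K (Set.range fun i : Fin d => A i)
  have hL : Module.finrank K L = d := by
    show Module.finrank K (Submodule.span K _) = d
    rw [finrank_span_eq_card hA, Fintype.card_fin]
  have hvm : ∀ (x : Fin d → K) (J : Fin d → Fin n) (j : Fin d),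
      Matrix.vecMul x (A.submatrix id J) j = (∑ i, x i • A i) (J j) := by
    intro x J j
    simp [Matrix.vecMul, dotProduct]
  constructor
  · rintro h J hJ ⟨i, hi⟩
    by_contra hdet
    let ev : ↥(L ⊓ V (n - d + ((i : ℕ) + 1) - lam i)) →ₗ[K] (Fin (i : ℕ) → K) :=
      LinearMap.pi (fun j => (LinearMap.proj (J ⟨j, j.2.trans i.2⟩)).comp (Submodule.subtype _))
    have hinj : Function.Injective ev := by
      rw [injective_iff_map_eq_zero]
      rintro ⟨v, hv, hv'⟩ hz
      obtain ⟨x, hx⟩ := (Submodule.mem_span_range_iff_exists_fun K).1 hv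
      have h0 : Matrix.vecMul x (A.submatrix id J) = 0 := by
        funext j
        rw [hvm, hx, Pi.zero_apply]
        by_cases hj : (j : ℕ) < (i : ℕ)
        · exact congrFun hz ⟨j, hj⟩
        · refine (hV _ v).1 hv' (J j) ?_
          have := Fin.le_def.1 (hJ.monotone (Fin.le_def.2 (not_lt.1 hj)))
          omega
      have hx0 : x = 0 := by
        by_contra hne
        exact hdet (Matrix.exists_vecMul_eq_zero_iff.1 ⟨x, hne, h0⟩)
      refine Subtype.ext ?_
      show v = 0
      rw [← hx, hx0]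
      simp
    have h1 := LinearMap.finrank_le_finrank_of_injective hinj
    rw [Module.finrank_fin_fun] at h1
    have h2 : (i : ℕ) + 1 ≤ Module.finrank K ↥(L ⊓ V (n - d + ((i : ℕ) + 1) - lam i)) := h i
    omega
  · intro h i
    by_contra hlt
    obtain ⟨P, hP, hlo, hup⟩ := exists_pivots V hV L hL
    have hc : n - d + ((i : ℕ) + 1) - lam i < (P i : ℕ) + 1 := by
      by_contra hge
      have h1 := Submodule.finrank_mono
        (inf_le_inf_left L (Groth.Agent.S11848.V_mono V hV (not_lt.1 hge)))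
      exact hlt ((hlo i).trans h1)
    obtain ⟨x, hx0, hx⟩ := Matrix.exists_vecMul_eq_zero_iff.2 (h P hP ⟨i, hc⟩)
    apply hx0
    have hd : 0 < d := lt_of_le_of_lt (Nat.zero_le _) i.2
    have hm : d - 1 < d := by omega
    have heq : L ⊓ V ((P ⟨d - 1, hm⟩ : ℕ) + 1) = L := by
      refine Submodule.eq_of_le_of_finrank_eq inf_le_left ?_
      rw [(Groth.Agent.S11848.finrank_pivot V hV P L hlo hup ⟨d - 1, hm⟩).1, hL]
      show d - 1 + 1 = d
      omega
    have hv : (∑ j, x j • A j) ∈ L ⊓ V ((P ⟨d - 1, hm⟩ : ℕ) + 1) := by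
      rw [heq]
      exact Submodule.sum_mem _ (fun j _ =>
        Submodule.smul_mem _ _ (Submodule.subset_span ⟨j, rfl⟩))
    have h0 := Groth.Agent.S11848.eq_zero_of_pivots V hV P hP L hlo hup (d - 1) hm _ hv
      (fun j hj => by rw [← hvm, hx, Pi.zero_apply])
    exact funext (Fintype.linearIndependent_iff.1 hA x h0)

end Groth.Agent.S14504
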