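import Groth.Statements.S14505
import Mathlib

set_option autoImplicit false
universe u
open IntTh

set_option maxHeartbeats 800000
namespace Groth.Agent.S14505

section
open PowerSeries

variable {A : Type*} [CommRing A]

/-- the geometric series -/
private noncomputable def geom (x : A) : PowerSeries A := PowerSeries.mk fun m => x ^ m

private lemma geom_mul (x : A) : geom x * (1 - C x * X) = 1 := by
  ext (_ | m)
  · simp [geom, mul_sub]
  · rw [mul_sub, mul_one, map_sub, ← mul_assoc, coeff_succ_mul_X, coeff_mul_C]
    simp [geom, pow_succ]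

private lemma geom_sub (x y : A) : geom x = geom y + C (x - y) * X * (geom x * geom y) := by
  rw [map_sub]
  linear_combination (geom x) * (geom_mul y).symm - (geom y) * (geom_mul x).symm

private lemma coeff_prod_geom (e : ℕ) : ∀ (β : Fin e → A) (x : A) (j : ℕ),
    coeff (e + j) ((∏ q, (1 + C (β q) * X)) * geom x) = x ^ j * ∏ q, (x + β q) := by
  induction e with
  | zero => intro β x j; simp [geom]
  | succ e ih =>
    intro β x j
    rw [Fin.prod_univ_succ, Fin.prod_univ_succ, add_mul, one_mul, add_mul, map_add,
      show e + 1 + j = e + (j + 1) by omega, ih]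
    rw [show C (β 0) * X * (∏ i : Fin e, (1 + C (β i.succ) * X)) * geom x
      = C (β 0) * (((∏ i : Fin e, (1 + C (β i.succ) * X)) * geom x) * X) by ring, coeff_C_mul,
      show e + (j + 1) = e + j + 1 by omega, coeff_succ_mul_X, ih]
    ring

private lemma det_partialQuot [IsDomain A] (d e : ℕ) (α : Fin d → A) (β : Fin e → A) (hα : Function.Injective α) :
    ∏ i : Fin d, ∏ j : Fin e, (β j - α i) = (Matrix.of fun i j : Fin d => if (i : ℕ) ≤ e + (j : ℕ) then
      coeff (e + (j : ℕ) - (i : ℕ)) ((∏ j : Fin e, (1 + C (β j) * X)) *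
        ∏ l : Fin d, if l ≤ i then mk (fun m => (-α l) ^ m) else 1) else 0).det := by
  set x : Fin d → A := fun i => -α i with hx
  set b : PowerSeries A := ∏ j : Fin e, (1 + C (β j) * X) with hb
  let x' : ℕ → A := fun q => if h : q < d then x ⟨q, h⟩ else 0
  let G : ℕ → PowerSeries A := fun L => ∏ q ∈ Finset.range L, geom (x' q)
  let T : Fin d → ℕ → A := fun i L => ∏ q ∈ Finset.range L, (x i - x' q)
  set M := Matrix.of fun i j : Fin d => coeff (e + (j : ℕ)) (X ^ (i : ℕ) * (b * G ((i : ℕ) + 1))) with hM
  let N : Matrix (Fin d) (Fin d) A := Matrix.of fun i l => T i (l : ℕ)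
  have hx' : ∀ i : Fin d, x' (i : ℕ) = x i := fun i => by simp [x']
  have hT : ∀ (i : Fin d) (L : ℕ), (i : ℕ) < L → T i L = 0 := fun i L h =>
    Finset.prod_eq_zero (Finset.mem_range.2 h) (by rw [hx', sub_self])
  have htel : ∀ (i : Fin d) (L : ℕ), b * geom (x i) = (∑ l ∈ Finset.range L, C (T i l) * (X ^ l * (b * G (l + 1))))
      + C (T i L) * (X ^ L * (b * (G L * geom (x i)))) := by
    intro i L
    induction L with
    | zero => simp [T, G]
    | succ L ih =>
      rw [ih, Finset.sum_range_succ]
      have hG : G (L + 1) = G L * geom (x' L) := Finset.prod_range_succ _ _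
      have hT' : T i (L + 1) = T i L * (x i - x' L) := Finset.prod_range_succ _ _
      rw [hG, hT', map_mul, pow_succ]
      linear_combination (C (T i L) * X ^ L * b * G L) * geom_sub (x i) (x' L)
  have hNM : N * M = Matrix.of fun i j : Fin d => (∏ q, (x i + β q)) * Matrix.vandermonde x i j := by
    ext i j
    rw [Matrix.mul_apply, Matrix.of_apply, Matrix.vandermonde_apply, mul_comm, ← coeff_prod_geom, ← hb, htel i d, hT i d i.2, map_zero,
      zero_mul, add_zero, map_sum, ← Fin.sum_univ_eq_sum_range]
    simp only [coeff_C_mul, N, M, Matrix.of_apply]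
  have hdN : N.det = (Matrix.vandermonde x).det := by
    rw [Matrix.det_of_isLowerTriangular (M := N) (by
      intro i l hil
      exact hT i _ (by simpa using hil)), Matrix.det_vandermonde]
    simp only [N, T, Matrix.of_apply]
    rw [Finset.prod_comm' (s' := fun q => Finset.Ioi q) (t' := Finset.univ) (s := Finset.univ)
      (t := fun i => Finset.Iio i) (by intro a b; simp) |>.symm]
    refine Finset.prod_congr rfl fun i _ => ?_
    rw [← Fin.prod_univ_eq_prod_range (fun q => x i - x' q) (i : ℕ)]
    refine Finset.prod_bij (fun q _ => (⟨(q : ℕ), q.2.trans i.2⟩ : Fin d)) (fun q _ => by simp [Fin.lt_def])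
      (fun _ _ _ _ h => Fin.ext (by simpa using congrArg Fin.val h))
      (fun c hc => ⟨⟨(c : ℕ), Fin.lt_def.1 (Finset.mem_Iio.1 hc)⟩, Finset.mem_univ _, rfl⟩) (fun q _ => ?_)
    show x i - x' (q : ℕ) = x i - x _
    exact congrArg (x i - ·) (dif_pos (q.2.trans i.2))
  have hv : (Matrix.vandermonde x).det ≠ 0 :=
    Matrix.det_vandermonde_ne_zero_iff.2 fun a c h => hα (neg_injective h)
  have hd := congrArg Matrix.det hNM
  rw [Matrix.det_mul, hdN, Matrix.det_mul_column (fun i => ∏ q, (x i + β q)), mul_comm] at hd
  have hkey := mul_right_cancel₀ hv hd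
  refine Eq.trans ?_ (hkey.symm.trans (congrArg Matrix.det (Matrix.ext fun i j => ?_)))
  · exact Finset.prod_congr rfl fun i _ => Finset.prod_congr rfl fun q _ => by simp only [hx]; ring
  · simp only [M, Matrix.of_apply, coeff_X_pow_mul']
    refine if_congr Iff.rfl (congrArg _ (congrArg (b * ·) ?_)) rfl
    rw [← Finset.prod_filter]
    refine (Finset.prod_bij (fun (q : Fin d) _ => (q : ℕ)) (fun q hq => ?_) (fun _ _ _ _ h => Fin.ext h)
      (fun c hc => ⟨⟨c, ?_⟩, ?_, rfl⟩) (fun q _ => ?_)).symm
    · simp only [Finset.mem_filter, Fin.le_def] at hq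
      simp only [Finset.mem_range]
      omega
    · simp only [Finset.mem_range] at hc
      have := i.2
      omega
    · simp only [Finset.mem_range] at hc
      simp only [Finset.mem_filter, Finset.mem_univ, true_and, Fin.le_def]
      omega
    · rw [hx']
      rfl

end


/-- Let R be a commutative ring, α₁, …, α_d, β₁, …, β_e ∈ R, b(t) = ∏ (1 + β_j t), and for k = 1, …, d
let P_k(t) = b(t)/∏_{i ≤ k} (1 + α_i t) ∈ R⟦t⟧, each factor 1 + α_i t being inverted by its
geometric series; write (P_k)_m for the coefficient of t^m, with (P_k)_m = 0 for m < 0. Then ∏_{i,j}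
(β_j − α_i) = det((P_i)_{e+j−i})_{1 ≤ i,j ≤ d}, the d × d determinant whose i-th row is built from
the coefficients of the i-th partial quotient. (Rows and columns are 0-based in the formal
statement, which does not change j − i; the row of index i inverts the factors of index at most i.
The companion form with every row built from the full quotient b/a is stated separately.) -/
theorem result (R : Type u) [CommRing R] (d e : ℕ)
    (α : Fin d → R) (β : Fin e → R) :
    ∏ i : Fin d, ∏ j : Fin e, (β j - α i) =
      (Matrix.of fun i j : Fin d =>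
        if (i : ℕ) ≤ e + (j : ℕ) then
          PowerSeries.coeff (e + (j : ℕ) - (i : ℕ))
            ((∏ j : Fin e, (1 + PowerSeries.C (β j) * PowerSeries.X)) *
              ∏ l : Fin d, if l ≤ i then PowerSeries.mk (fun m => (-α l) ^ m) else 1)
        else 0).det := by
  let φ : MvPolynomial (Fin d ⊕ Fin e) ℤ →+* R := MvPolynomial.eval₂Hom (Int.castRingHom R) (Sum.elim α β)
  have h := congrArg φ (det_partialQuot d e (fun i => (MvPolynomial.X (Sum.inl i) : MvPolynomial (Fin d ⊕ Fin e) ℤ))
    (fun j => MvPolynomial.X (Sum.inr j)) (fun a b hab => Sum.inl_injective (MvPolynomial.X_injective hab)))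
  simp only [map_prod, map_sub, RingHom.map_det, φ, MvPolynomial.eval₂Hom_X', Sum.elim_inl, Sum.elim_inr] at h
  refine h.trans (congrArg Matrix.det (Matrix.ext fun i j => ?_))
  simp only [RingHom.mapMatrix_apply, Matrix.map_apply, Matrix.of_apply]
  split_ifs with hij
  · rw [← PowerSeries.coeff_map]
    congr 1
    simp only [map_mul, map_prod, map_add, map_one, PowerSeries.map_C, PowerSeries.map_X,
      MvPolynomial.eval₂Hom_X', Sum.elim_inr]
    congr 1
    refine Finset.prod_congr rfl fun l _ => ?_
    split_ifs
    · ext m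
      simp
    · exact map_one _
  · exact map_zero _

end Groth.Agent.S14505
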