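import Groth.Statements.S14511
import Mathlib

set_option autoImplicit false
universe u
open CAlgX

namespace Groth.Agent.S14511

/-- Let R be a commutative ring and P ∈ R[x_1, …, x_r] a polynomial of total degree at most r. Then the
coefficient of the monomial x_1 ⋯ x_r in P equals Σ_J (−1)^{|J|} P(δ_J), the sum over all subsets J
⊆ {1, …, r} (the empty one included), where δ_J is the point with coordinate −1 at the indices in J
and 0 at the others. -/
theorem result (R : Type u) [CommRing R] (r : ℕ)
    (P : MvPolynomial (Fin r) R) (hP : P.totalDegree ≤ r) :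
    MvPolynomial.coeff (∑ i : Fin r, Finsupp.single i 1) P =
      ∑ J : Finset (Fin r), (-1 : R) ^ J.card * MvPolynomial.eval (fun j => if j ∈ J then (-1 : R) else 0) P := by
  classical
  have hd : ∀ d ∈ P.support, ∑ J : Finset (Fin r), (-1 : R) ^ J.card *
      ∏ j, (if j ∈ J then (-1 : R) else 0) ^ d j =
      if d = ∑ i : Fin r, Finsupp.single i 1 then 1 else 0 := by
    intro d hd
    have hdeg : ∑ j, d j ≤ r := by
      refine le_trans (le_of_eq ?_) ((MvPolynomial.le_totalDegree hd).trans hP)
      rw [Finsupp.sum_fintype]
      exact fun _ => rfl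
    calc ∑ J : Finset (Fin r), (-1 : R) ^ J.card * ∏ j, (if j ∈ J then (-1 : R) else 0) ^ d j
        = ∑ J : Finset (Fin r), ((∏ j ∈ J, (-1 : R) ^ (d j + 1)) * ∏ j ∈ Finset.univ \ J, (0 : R) ^ d j) := by
          refine Finset.sum_congr rfl fun J _ => ?_
          rw [← Finset.prod_sdiff (Finset.subset_univ J), mul_comm (∏ j ∈ Finset.univ \ J, _), ← mul_assoc]
          congr 1
          · rw [← Finset.prod_const, ← Finset.prod_mul_distrib]
            exact Finset.prod_congr rfl fun j hj => by rw [if_pos hj, pow_succ, mul_comm]
          · exact Finset.prod_congr rfl fun j hj => by rw [if_neg (Finset.mem_sdiff.1 hj).2]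
      _ = ∏ j, ((-1 : R) ^ (d j + 1) + (0 : R) ^ d j) := by
          rw [Finset.prod_add, Finset.powerset_univ]
      _ = _ := by
          split_ifs with he
          · refine Finset.prod_eq_one fun j _ => ?_
            have : d j = 1 := by rw [he]; simp [Finsupp.coe_finsetSum, Finsupp.single_apply]
            rw [this]; simp
          · obtain ⟨j, hj⟩ : ∃ j, d j = 0 := by
              by_contra hne
              push Not at hne
              refine he (Finsupp.ext fun j => ?_)
              have h1 : ∀ i, 1 ≤ d i := fun i => Nat.one_le_iff_ne_zero.2 (hne i)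
              have h2 : (∑ i : Fin r, 1) = ∑ i, d i := le_antisymm (Finset.sum_le_sum fun i _ => h1 i) (by simpa using hdeg)
              have h3 := (Finset.sum_eq_sum_iff_of_le fun i _ => h1 i).1 h2 j (Finset.mem_univ j)
              simp [Finsupp.coe_finsetSum, Finsupp.single_apply, ← h3]
            exact Finset.prod_eq_zero (Finset.mem_univ j) (by rw [hj]; simp)
  calc MvPolynomial.coeff (∑ i : Fin r, Finsupp.single i 1) P
      = ∑ d ∈ P.support, MvPolynomial.coeff d P * (if d = ∑ i : Fin r, Finsupp.single i 1 then 1 else 0) := by
        simp only [mul_ite, mul_one, mul_zero, Finset.sum_ite_eq']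
        by_cases h : (∑ i : Fin r, Finsupp.single i 1) ∈ P.support
        · rw [if_pos h]
        · rw [if_neg h, MvPolynomial.notMem_support_iff.1 h]
    _ = ∑ d ∈ P.support, MvPolynomial.coeff d P * ∑ J : Finset (Fin r), (-1 : R) ^ J.card *
          ∏ j, (if j ∈ J then (-1 : R) else 0) ^ d j :=
        Finset.sum_congr rfl fun d h => by rw [hd d h]
    _ = _ := by
        simp only [Finset.mul_sum, MvPolynomial.eval_eq']
        rw [Finset.sum_comm]
        exact Finset.sum_congr rfl fun J _ => Finset.sum_congr rfl fun d _ => by ring

end Groth.Agent.S14511
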