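import Groth.Statements.S14513
import Groth.Agent.Hurwitz.Basic
import Groth.Agent.CurveRR.Deg

set_option autoImplicit false
universe u
open CategoryTheory CategoryTheory.Limits AlgebraicGeometry
open Curves

set_option backward.isDefEq.respectTransparency false
set_option linter.style.haveILetI false
open Groth.Agent

namespace Groth.Agent.S14513

/-- Let k be an algebraically closed field and f : X → Y a finite, separable morphism of smooth
projective curves over k (X, Y integral, proper and smooth over k, of dimension one; f sends the
generic point to the generic point and the extension K(X)/K(Y) is separable). If X and Y have the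
same genus g = dim_k H^1(O) and g ≥ 2, then f is an isomorphism. (The published statement also
asserts g(X) ≥ g(Y) and that equality holds exactly when f is an isomorphism, both curves are
projective lines, or both have genus one; this row states the equality case for genus at least two.) -/
theorem result (k : Type u) [Field k] [IsAlgClosed k]
    (X : Scheme.{u}) [X.Over (Spec (CommRingCat.of k))] [IsIntegral X] [IsProper (X ↘ (Spec (CommRingCat.of k)))] [Smooth (X ↘ (Spec (CommRingCat.of k)))] (hdimX : topologicalKrullDim X = 1)
    (Y : Scheme.{u}) [Y.Over (Spec (CommRingCat.of k))] [IsIntegral Y] [IsProper (Y ↘ (Spec (CommRingCat.of k)))] [Smooth (Y ↘ (Spec (CommRingCat.of k)))] (hdimY : topologicalKrullDim Y = 1)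
    (f : X ⟶ Y) [IsFinite f] (hf : f ≫ (Y ↘ (Spec (CommRingCat.of k))) = (X ↘ (Spec (CommRingCat.of k))))
    (e : f (genericPoint X) = genericPoint Y)
    (hg : Curv2.genus k X = Curv2.genus k Y) (h2 : 2 ≤ Curv2.genus k Y) :
    letI := ((Y.presheaf.stalkSpecializes (specializes_of_eq e) ≫ f.stalkMap (genericPoint X)).hom).toAlgebra
    Algebra.IsSeparable Y.functionField X.functionField → IsIso f := by
  intro hsep
  obtain ⟨U, hU, hE⟩ := Hurwitz.exists_etale_open k hdimX hdimY f hf e hsep
  haveI := hE
  have h := Hurwitz.hurwitz k hdimX hdimY (CurveRR.h0_structure k X) (CurveRR.h0_structure k Y) f hf e U hU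
  haveI := CurveRR.isNoetherian_of_proper k X
  haveI := CurveRR.isNoetherian_of_proper k Y
  have hgen : ∀ x', f x' = f (genericPoint X) → x' = genericPoint X := fun x' hx' =>
    (Hurwitz.isClosed_of_discrete f (genericPoint_specializes x') hx'.symm).symm
  haveI : Flat f := W7Cover.flat_of_map_genericPoint hdimY.le (fun y => by
    haveI := SmLocalST.isRegularLocalRing_stalk_of_smooth_field (Y ↘ Spec (CommRingCat.of k)) y
    exact RegLoc.isIntegrallyClosed) f e
  haveI : LocallyOfFinitePresentation f := LocallyOfFinitePresentation.iff_locallyOfFiniteType.mpr inferInstance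
  have hd : ∀ y, f.finrank y = f.residueDegree (genericPoint X) := fun y => by
    rw [IsLocallyConstant.apply_eq_of_preconnectedSpace f.isLocallyConstant_finrank y (genericPoint Y),
      W7Cover.finrank_eq_stalk]
    exact DualGeneric.finrank_push_generic f f.isClosedMap e hgen
  have hd1 : 1 ≤ f.residueDegree (genericPoint X) := by
    have hs : Surjective f := ⟨Set.range_eq_univ.1 (Set.eq_univ_of_univ_subset (by
      rw [← (genericPoint_spec Y).def]
      exact f.isClosedMap.isClosed_range.closure_subset_iff.2 (Set.singleton_subset_iff.2 ⟨_, e⟩)))⟩
    exact hd (genericPoint Y) ▸ (Scheme.Hom.one_le_finrank_iff_surjective f).2 hs (genericPoint Y)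
  have hd2 : f.residueDegree (genericPoint X) = 1 := by
    have h2' : (2 : ℤ) ≤ (Curv2.genus k Y : ℤ) := by exact_mod_cast h2
    rw [hg] at h
    by_contra hne
    have h3 : (2 : ℤ) ≤ (f.residueDegree (genericPoint X) : ℤ) := by omega
    nlinarith
  exact (Scheme.Hom.isIso_iff_finrank_eq f).2 (funext fun z => (hd z).trans hd2)

end Groth.Agent.S14513
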