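import Groth.Statements.S14514
import Groth.Agent.Rigid.DimDrop
import Mathlib

set_option autoImplicit false
universe u
open CategoryTheory CategoryTheory.Limits AlgebraicGeometry
open Variety

namespace Groth.Agent.S14514

/-- Let k be an algebraically closed field and f : X → Y a morphism of algebraic varieties over k (X, Y
reduced, separated and of finite type over k) such that Y is irreducible and the image f(X) is dense
in Y. Then X contains an irreducible closed subset Z with dim Z = dim Y such that f(Z) is dense in
Y. -/
theorem result (k : Type u) [Field k] [IsAlgClosed k]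
    (X Y : Scheme.{u}) [X.Over (Spec (CommRingCat.of k))] [Y.Over (Spec (CommRingCat.of k))]
    [IsReduced X] [IsSeparated (X ↘ (Spec (CommRingCat.of k)))] [LocallyOfFiniteType (X ↘ (Spec (CommRingCat.of k)))] [QuasiCompact (X ↘ (Spec (CommRingCat.of k)))]
    [IsReduced Y] [IsSeparated (Y ↘ (Spec (CommRingCat.of k)))] [LocallyOfFiniteType (Y ↘ (Spec (CommRingCat.of k)))] [QuasiCompact (Y ↘ (Spec (CommRingCat.of k)))] [IrreducibleSpace Y]
    (f : X ⟶ Y) (hf : f ≫ (Y ↘ (Spec (CommRingCat.of k))) = (X ↘ (Spec (CommRingCat.of k)))) [IsDominant f] :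
    ∃ Z : Set X, IsClosed Z ∧ IsIrreducible Z ∧ topologicalKrullDim ↥Z = topologicalKrullDim Y ∧
      Dense (f '' Z) := by
  let p := X ↘ (Spec (CommRingCat.of k))
  let q := Y ↘ (Spec (CommRingCat.of k))
  haveI : IsLocallyNoetherian X := LocallyOfFiniteType.isLocallyNoetherian p
  haveI : CompactSpace X := QuasiCompact.compactSpace_of_compactSpace p
  haveI : IsNoetherian X := {}
  haveI : LocallyOfFiniteType (f ≫ q) := by rw [hf]; infer_instance
  haveI : LocallyOfFiniteType f := locallyOfFiniteType_of_comp f q
  haveI : QuasiCompact (f ≫ q) := by rw [hf]; infer_instance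
  haveI : QuasiCompact f := QuasiCompact.of_comp f q
  let η := genericPoint Y
  -- the generic point is in the image
  obtain ⟨ξ, hξ⟩ : ∃ ξ, f ξ = η := by
    have hfin : (irreducibleComponents X).Finite := TopologicalSpace.NoetherianSpace.finite_irreducibleComponents
    have hη : η ∈ closure (Set.range f) := by rw [f.denseRange.closure_range]; trivial
    have hsub : Set.range f ⊆ ⋃ Z ∈ irreducibleComponents X, closure (f '' Z) := by
      rintro _ ⟨x, rfl⟩
      exact Set.mem_iUnion₂.mpr ⟨irreducibleComponent x, irreducibleComponent_mem_irreducibleComponents x,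
        subset_closure ⟨x, mem_irreducibleComponent, rfl⟩⟩
    have h1 := closure_minimal hsub (hfin.isClosed_biUnion fun Z _ => isClosed_closure) hη
    obtain ⟨Z, hZ, hηZ⟩ := Set.mem_iUnion₂.mp h1
    obtain ⟨ξ, hξ⟩ := QuasiSober.sober hZ.1 (isClosed_of_mem_irreducibleComponents Z hZ)
    refine ⟨ξ, ?_⟩
    have h2 : f ξ ⤳ η := by
      refine specializes_iff_mem_closure.mpr (closure_minimal ?_ isClosed_closure hηZ)
      rintro _ ⟨z, hz, rfl⟩
      exact specializes_iff_mem_closure.mp ((hξ.specializes hz).map f.continuous)
    exact (h2.antisymm (genericPoint_specializes _)).eq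
  -- a closed point of the generic fibre
  haveI : Nonempty (f.fiber η) := ⟨(f.fiberHomeo η).symm ⟨ξ, hξ⟩⟩
  haveI : QuasiCompact (f.fiberToSpecResidueField η) :=
    inferInstanceAs (QuasiCompact (pullback.snd f (Y.fromSpecResidueField _)))
  haveI : CompactSpace (f.fiber η) := QuasiCompact.compactSpace_of_compactSpace (f.fiberToSpecResidueField η)
  obtain ⟨w, -, hw⟩ := IsClosed.exists_closed_singleton (isClosed_univ (X := f.fiber η))
    (Set.univ_nonempty)
  let z := f.fiberι η w
  have hz : f z = η := by
    have h : z ∈ Set.range (f.fiberι η) := ⟨w, rfl⟩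
    rw [f.range_fiberι] at h
    exact h
  let I : X.IdealSheafData := Scheme.IdealSheafData.vanishingIdeal ⟨closure {z}, isClosed_closure⟩
  have hrange : Set.range I.subschemeι = closure {z} := by
    rw [I.range_subschemeι, Scheme.IdealSheafData.coe_support_vanishingIdeal]
    rfl
  obtain ⟨z', hz'⟩ : z ∈ Set.range I.subschemeι := by rw [hrange]; exact subset_closure rfl
  let g : I.subscheme ⟶ Y := I.subschemeι ≫ f
  have hgz : g z' = η := by
    show (I.subschemeι ≫ f) z' = η
    rw [Scheme.Hom.comp_apply, hz', hz]
  haveI : LocallyOfFiniteType (I.subschemeι ≫ p) := inferInstance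
  -- the generic fibre of the closure is a point
  haveI : Subsingleton (g.fiber (g z')) := by
    refine ⟨fun a b => ?_⟩
    have key : ∀ c : g.fiber (g z'), g.fiberι (g z') c = z' := by
      intro c
      apply I.subschemeι.isEmbedding.injective
      rw [hz']
      set c' := g.fiberι (g z') c
      have h1 : I.subschemeι c' ∈ closure {z} := hrange ▸ ⟨c', rfl⟩
      have h2 : f (I.subschemeι c') = η := by
        have h : c' ∈ Set.range (g.fiberι (g z')) := ⟨c, rfl⟩
        rw [g.range_fiberι] at h
        rw [← Scheme.Hom.comp_apply, ← hgz]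
        exact h
      obtain ⟨v, hv⟩ : I.subschemeι c' ∈ Set.range (f.fiberι η) := by rw [f.range_fiberι]; exact h2
      have h3 : v ∈ closure ({w} : Set (f.fiber η)) := by
        rw [(f.fiberι η).isEmbedding.closure_eq_preimage_closure_image, Set.image_singleton]
        show f.fiberι η v ∈ closure {f.fiberι η w}
        rw [hv]
        exact h1
      rw [hw.closure_eq] at h3
      rw [← hv, (show v = w from h3)]
    exact (g.fiberι _).isEmbedding.injective ((key a).trans (key b).symm)
  have hdim : topologicalKrullDim ↥(g.fiber (g z')) ≤ 0 := topologicalKrullDim_zero_of_discreteTopology _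
  have hqf := Groth.Agent.Rigid.quasiFiniteAt_of_fiber_dim g z' hdim
  have hpd := Groth.Agent.WeilLib.pdim_eq_of_residueDegree_ne_zero (f := I.subschemeι ≫ p) g q
    (by show (I.subschemeι ≫ f) ≫ q = _; rw [Category.assoc, hf])
    (Groth.Agent.Rigid.residueDegree_ne_zero_of_quasiFiniteAt g hqf)
  rw [hgz] at hpd
  refine ⟨closure {z}, isClosed_closure, isIrreducible_singleton.closure, ?_, ?_⟩
  · have huniv : closure ({z'} : Set I.subscheme) = Set.univ := by
      rw [I.subschemeι.isEmbedding.closure_eq_preimage_closure_image, Set.image_singleton, hz', ← hrange,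
        Set.preimage_range]
    have e1 : topologicalKrullDim ↥(closure {z}) = topologicalKrullDim ↥(closure ({z'} : Set I.subscheme)) := by
      rw [huniv]
      have h := (I.subschemeι.isEmbedding.toHomeomorph.trans (Homeomorph.setCongr hrange))
      exact ((h.symm.trans (Homeomorph.Set.univ _).symm).isHomeomorph.topologicalKrullDim_eq)
    have e2 : topologicalKrullDim Y = topologicalKrullDim ↥(closure ({η} : Set Y)) := by
      rw [(genericPoint_spec Y).def]
      exact ((Homeomorph.Set.univ _).symm.isHomeomorph.topologicalKrullDim_eq)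
    rw [e1, e2, Groth.Agent.BMCoh.topologicalKrullDim_closure_singleton,
      Groth.Agent.BMCoh.topologicalKrullDim_closure_singleton,
      (Groth.Agent.WeilLib.exists_pdim_eq_trd (I.subschemeι ≫ p) z').2,
      (Groth.Agent.WeilLib.exists_pdim_eq_trd q η).2, hpd]
  · rw [dense_iff_closure_eq, Set.eq_univ_iff_forall]
    intro y
    exact closure_mono (s := {η}) (t := f '' closure {z}) (Set.singleton_subset_iff.mpr (show η ∈ f '' closure {z} from ⟨z, subset_closure rfl, hz⟩))
      (specializes_iff_mem_closure.mp (genericPoint_specializes y))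

end Groth.Agent.S14514
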