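import Groth.Statements.S1621
import Groth.Agent.CMChart.OverField

set_option autoImplicit false
universe u
open CategoryTheory CategoryTheory.Limits AlgebraicGeometry
attribute [local instance] Curv2.stalkAlgebra Curv2.resAlgebra
open Variety

namespace Groth.Agent.S1621

/-- Let X be locally of finite type over a field k and x a point whose residue field has transcendence
degree a over k and whose local ring has dimension b. Then the local dimension of X at x is a + b. -/
theorem result (k : Type u) [Field k] (X : Scheme.{u}) [X.Over (Spec (CommRingCat.of k))] [LocallyOfFiniteType (X ↘ (Spec (CommRingCat.of k)))] (x : X) (a b : ℕ)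
    (ha : Algebra.trdeg k (X.residueField x) = a) (hb : ringKrullDim (X.presheaf.stalk x) = b) :
    FlatMor.localDim X x = (a + b : ℕ) := by
  obtain ⟨b', δ, hb', hD, hδ⟩ := CMChart.localDim_over_field X x (k := k)
  rw [hD]
  obtain rfl : b' = b := by exact_mod_cast hb'.symm.trans hb
  obtain rfl : δ = a := by exact_mod_cast hδ.symm.trans ha
  rw [add_comm]

end Groth.Agent.S1621
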