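import Groth.Statements.S14515
import Groth.Agent.S5094
import Groth.Agent.S2852
import Groth.Agent.S1621
import Groth.Agent.BiratGen
import Groth.Agent.SmLocalST.SmoothField
import Groth.Agent.UFDLib.Regular
import Groth.Agent.SectRank.Bound
import Groth.Agent.SectRank.RelDim
import Groth.Agent.WeilLib.Trdeg

set_option autoImplicit false
universe u
open CategoryTheory CategoryTheory.Limits AlgebraicGeometry
open Variety

namespace Groth.Agent.S14515

/-- Let k be an algebraically closed field and f : X → Y a proper, birational morphism over k between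
smooth, irreducible varieties (X, Y integral, separated, of finite type and smooth over k; f
restricts to an isomorphism over some nonempty open subset of Y). Let Exc(f) ⊆ X be the exceptional
locus: the points x such that f restricts to an isomorphism over no open neighbourhood of f(x). Then
Exc(f) has pure codimension one: every irreducible component of Exc(f) has dimension dim X − 1. -/
theorem result (k : Type u) [Field k] [IsAlgClosed k]
    (X Y : Scheme.{u}) [X.Over (Spec (CommRingCat.of k))] [Y.Over (Spec (CommRingCat.of k))]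
    [IsIntegral X] [IsSeparated (X ↘ (Spec (CommRingCat.of k)))] [LocallyOfFiniteType (X ↘ (Spec (CommRingCat.of k)))] [QuasiCompact (X ↘ (Spec (CommRingCat.of k)))] [Smooth (X ↘ (Spec (CommRingCat.of k)))]
    [IsIntegral Y] [IsSeparated (Y ↘ (Spec (CommRingCat.of k)))] [LocallyOfFiniteType (Y ↘ (Spec (CommRingCat.of k)))] [QuasiCompact (Y ↘ (Spec (CommRingCat.of k)))] [Smooth (Y ↘ (Spec (CommRingCat.of k)))]
    (f : X ⟶ Y) (hf : f ≫ (Y ↘ (Spec (CommRingCat.of k))) = (X ↘ (Spec (CommRingCat.of k)))) [IsProper f]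
    (hbir : ∃ V : Y.Opens, (V : Set Y).Nonempty ∧ IsIso (f ∣_ V)) :
    ∀ Z ∈ irreducibleComponents ↥{x : X | ∀ V : Y.Opens, f x ∈ V → ¬ IsIso (f ∣_ V)},
      topologicalKrullDim ↥Z + 1 = topologicalKrullDim X := by
  classical
  intro Z hZ
  let qX := X ↘ Spec (CommRingCat.of k)
  let qY := Y ↘ Spec (CommRingCat.of k)
  haveI : IsLocallyNoetherian X := LocallyOfFiniteType.isLocallyNoetherian qX
  haveI : IsLocallyNoetherian Y := LocallyOfFiniteType.isLocallyNoetherian qY
  obtain ⟨V₀, hV₀, hiso₀⟩ := hbir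
  haveI := hiso₀
  have hgen := Groth.Agent.BiratGen.map_genericPoint f V₀ hV₀
  haveI := Groth.Agent.BiratGen.isIso_stalkMap_genericPoint f V₀ hV₀
  have hnorm : ∀ y : Y, IsIntegrallyClosed (Y.presheaf.stalk y) := fun y => by
    haveI := Groth.Agent.SmLocalST.isRegularLocalRing_stalk_of_smooth_field qY y
    haveI := Groth.Agent.UFDLib.ufd_of_isRegularLocalRing (Y.presheaf.stalk y)
    infer_instance
  have hufd : ∀ y : Y, UniqueFactorizationMonoid (Y.presheaf.stalk y) := fun y => by
    haveI := Groth.Agent.SmLocalST.isRegularLocalRing_stalk_of_smooth_field qY y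
    exact Groth.Agent.UFDLib.ufd_of_isRegularLocalRing (Y.presheaf.stalk y)
  have hopen : ∀ (V : Y.Opens), IsIso (f ∣_ V) → IsOpenImmersion ((f ⁻¹ᵁ V).ι ≫ f) := fun V hV => by
    haveI := hV
    rw [← morphismRestrict_ι]
    infer_instance
  have hmem : ∀ x : X, (∀ V : Y.Opens, f x ∈ V → ¬ IsIso (f ∣_ V)) ↔
      ¬ ∃ W : X.Opens, x ∈ W ∧ IsOpenImmersion (W.ι ≫ f) := by
    intro x
    refine ⟨fun h ⟨W, hxW, hW⟩ => ?_, fun h V hfV hV => h ⟨f ⁻¹ᵁ V, hfV, hopen V hV⟩⟩
    haveI := hW
    have hopn : IsOpen ({f.asFiber x} : Set ↥(f.fiber (f x))) := by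
      have heq : ({f.asFiber x} : Set ↥(f.fiber (f x))) = f.fiberι (f x) ⁻¹' (W : Set X) := by
        ext z
        refine ⟨fun hz => ?_, fun hz => (f.fiberι (f x)).isEmbedding.injective ?_⟩
        · rw [Set.mem_singleton_iff] at hz
          rw [hz, Set.mem_preimage, f.fiberι_asFiber]
          exact hxW
        · rw [f.fiberι_asFiber]
          have h1 : (W.ι ≫ f) ⟨_, hz⟩ = (W.ι ≫ f) ⟨x, hxW⟩ := (f.range_fiberι (f x)).le ⟨z, rfl⟩
          exact congrArg Subtype.val ((W.ι ≫ f).isOpenEmbedding.injective h1)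
      rw [heq]
      exact W.2.preimage (f.fiberι (f x)).continuous
    obtain ⟨U, hU, hUi⟩ := Groth.Agent.S5094.result f hgen inferInstance (f x) (hnorm (f x)) (f.asFiber x) hopn
    exact h U hU hUi
  have hclosed : IsClosed {x : X | ∀ V : Y.Opens, f x ∈ V → ¬ IsIso (f ∣_ V)} := by
    rw [← isOpen_compl_iff, isOpen_iff_forall_mem_open]
    intro x hx
    rw [Set.mem_compl_iff, Set.mem_setOf_eq] at hx
    push Not at hx
    obtain ⟨V, hxV, hV⟩ := hx
    exact ⟨f ⁻¹ᵁ V, fun z hz hz' => hz' V hz hV, (f ⁻¹ᵁ V).2, hxV⟩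
  obtain ⟨ξ, hξ, hdim, hmax⟩ :=
    Groth.Agent.SectRank.exists_generic_component qX hclosed.isLocallyClosed hZ
  have hne : ∃ W : X.Opens, (W : Set X).Nonempty ∧ IsOpenImmersion (W.ι ≫ f) :=
    ⟨f ⁻¹ᵁ V₀, ⟨genericPoint X, by
      show f (genericPoint X) ∈ V₀
      rw [hgen]
      exact ((genericPoint_spec Y).mem_open_set_iff V₀.2).2 (by simpa using hV₀)⟩, hopen V₀ hiso₀⟩
  have h1 := Groth.Agent.S2852.result f hufd hne ξ ((hmem ξ).1 hξ)
    (fun η hη hs => hmax η ((hmem η).2 hη) hs)
  have hr : Groth.Agent.WeilLib.kStr qX ξ = Curv2.resMap k X ξ := by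
    refine RingHom.ext fun c => ?_
    simp only [Groth.Agent.WeilLib.kStr, Groth.Agent.WeilLib.secStr, Scheme.Hom.appLE, qX]
    simp [Curv2.resMap, Curv2.stalkMap, Coh.toGlobal, Scheme.evaluation]
  have htrd := (Groth.Agent.WeilLib.exists_pdim_eq_trd qX ξ).1
  unfold Groth.Agent.WeilLib.trd at htrd
  rw [hr] at htrd
  have h2 := Groth.Agent.S1621.result k X ξ (WeilCoh.pdim X ξ) 1
    htrd (by rw [h1, Nat.cast_one])
  rw [Groth.Agent.SectRank.localDim_eq_dim qX] at h2
  rw [hdim, h2]
  push_cast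
  rfl

end Groth.Agent.S14515
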