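import Groth.Statements.S14517
import Groth.Agent.Castel.Surface

set_option autoImplicit false
universe u
open CategoryTheory CategoryTheory.Limits AlgebraicGeometry
open Surf

set_option backward.isDefEq.respectTransparency false
set_option backward.isDefEq.respectTransparency.types false

namespace Groth.Agent.S14517

/-- Let k be an algebraically closed field, X a smooth projective surface over k (integral, smooth over
k, of dimension two, with a closed immersion over k into some projective space) and C ⊆ X a curve,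
given by a closed immersion i : C → X, with C isomorphic to P^1_k over k and (C·C) = −n for some n >
0, the self-intersection being the alternating Euler-characteristic sum computed in the ideal I_C =
O_X(−C) (the prelude's FGA.intNum). Then there are a projective surface Y over k (integral, of
dimension two, with a closed immersion over k into some projective space), a morphism g : X → Y over
k and a closed point P of Y such that g^{-1}(P) = C as sets and g restricts to an isomorphism over Y
∖ {P}. (The published statement also identifies the completed local ring of Y at P with that of the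
vertex of the affine cone over a rational normal curve of degree n; this row omits that clause.) -/
theorem result (k : Type u) [Field k] [IsAlgClosed k]
    (X : Scheme.{u}) [X.Over (Spec (CommRingCat.of k))] [IsIntegral X] [Smooth (X ↘ (Spec (CommRingCat.of k)))] (hdim : topologicalKrullDim X = 2)
    (hprojX : ∃ (N : ℕ) (ι : X ⟶ CohB1.ProjSpace N k), IsClosedImmersion ι ∧ ι ≫ CohB1.ProjSpace.toSpec N k = (X ↘ (Spec (CommRingCat.of k))))
    (C : Scheme.{u}) (i : C ⟶ X) [IsClosedImmersion i]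
    (e : C ≅ CohB1.ProjSpace 1 k) (he : e.hom ≫ CohB1.ProjSpace.toSpec 1 k = i ≫ (X ↘ (Spec (CommRingCat.of k))))
    (n : ℕ) (hn : 0 < n)
    (hCC : FGA.intNum k X 2 ![ClSub.idealMod i.ker, ClSub.idealMod i.ker] (Coh.structureModule X) = -(n : ℤ)) :
    ∃ (Y : Scheme.{u}) (q : Y ⟶ Spec (CommRingCat.of k)) (g : X ⟶ Y) (P : Y) (hP : IsClosed ({P} : Set Y)),
      g ≫ q = (X ↘ (Spec (CommRingCat.of k))) ∧ IsIntegral Y ∧ topologicalKrullDim Y = 2 ∧
      (∃ (N : ℕ) (ι : Y ⟶ CohB1.ProjSpace N k), IsClosedImmersion ι ∧ ι ≫ CohB1.ProjSpace.toSpec N k = q) ∧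
      (∀ x : X, g x = P ↔ x ∈ Set.range i) ∧
      IsIso (g ∣_ (⟨({P} : Set Y)ᶜ, hP.isOpen_compl⟩ : Y.Opens)) := by
  obtain ⟨N₀, j, hj, hjf⟩ := hprojX
  haveI := hj
  haveI := ProjMor.isProper_toSpec N₀ k
  haveI : IsProper (X ↘ Spec (CommRingCat.of k)) := hjf ▸ inferInstance
  haveI := Groth.Agent.CurveRR.isNoetherian_of_proper k X
  have hL₀ := Groth.Agent.Intersect.isAmple_hyperplane N₀ j
  haveI : IsIntegral (CohB1.ProjSpace 1 k) := Groth.Agent.Horrocks.isIntegral_projSpace
  haveI : Nonempty C := ⟨e.inv (genericPoint (CohB1.ProjSpace 1 k))⟩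
  haveI : IsIntegral C := isIntegral_of_isOpenImmersion e.hom
  have hC1 : topologicalKrullDim C = 1 := by
    rw [e.hom.homeomorph.isHomeomorph.topologicalKrullDim_eq]
    exact Groth.Agent.S10829.result k 1
  have hI := Groth.Agent.Intersect.isEffCartier_curve k hdim i hC1
  let ι₀ := e.inv ≫ i
  have hker : ι₀.ker = i.ker := Scheme.Hom.ker_comp_of_isIso e.inv i
  have hrange : Set.range ι₀ = Set.range i := by
    refine subset_antisymm (fun _ ⟨z, hz⟩ => ⟨e.inv z, hz⟩) fun _ ⟨z, hz⟩ => ?_
    obtain ⟨w, rfl⟩ := e.inv.surjective z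
    exact ⟨w, hz⟩
  have hI₀ : BlowUp.IsEffCartierIdeal ι₀.ker := hker.symm ▸ hI
  have hIi : PicF.IsInvertible (ClSub.idealMod ι₀.ker) := Groth.Agent.Intersect.isInvertible_ideal hI₀
  obtain ⟨M, hMi, ⟨d⟩⟩ := Groth.Agent.W7Hull.exists_tensor_inverse hIi
  have hM : ClSub.IsInverseOf M (ClSub.idealMod ι₀.ker) := ⟨TMul.commIso _ _ ≪≫ d⟩
  obtain ⟨a, ⟨ea⟩, -⟩ := Groth.Agent.PicPn.existsUnique_iso (K := k) le_rfl _ (PicLoc.isInvertible_pullback ι₀ hIi)
  obtain ⟨em⟩ := Groth.Agent.Castel.nonempty_pullback_inverse (I := ι₀.ker) ι₀ hM hMi ea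
  have hq : ι₀ ≫ (X ↘ Spec (CommRingCat.of k)) = CohB1.ProjSpace.toSpec 1 k := by
    rw [Category.assoc, ← he, Iso.inv_hom_id_assoc]
  have hdeg := Groth.Agent.Intersect.intNum_curve k ι₀ (Groth.Agent.S10829.result k 1).le hdim.le hI₀ hMi hM
  rw [show FGA.intNum k X 2 ![ClSub.idealMod ι₀.ker, ClSub.idealMod ι₀.ker] (Coh.structureModule X) = -(n : ℤ) by
    rw [hker]; exact hCC] at hdeg
  have ha : a = n := by
    letI : (CohB1.ProjSpace 1 k).Over (Spec (CommRingCat.of k)) := ⟨ι₀ ≫ (X ↘ Spec (CommRingCat.of k))⟩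
    haveI : IsProper (CohB1.ProjSpace 1 k ↘ Spec (CommRingCat.of k)) := inferInstanceAs (IsProper (ι₀ ≫ _))
    have h1 := Groth.Agent.CurveRR.euler_eq_of_iso (k := k) em
    have h2 := Groth.Agent.Castel.deg_twist_line' k (-a) _ hq
    rw [Curv2.deg] at hdeg h2
    rw [h1] at hdeg
    linarith
  subst ha
  haveI : IsProper (X ↘ Spec (CommRingCat.of k)) := inferInstance
  obtain ⟨Y, b, g, y₀, hbg, hg, hb, hy₀, hfib, happ, hoff, L', hL'⟩ :=
    Groth.Agent.Castel.exists_contraction_deg (R := k) (X ↘ Spec (CommRingCat.of k)) _ hL₀ ι₀ hI₀ hn ea M hM hMi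
  haveI := hg
  haveI := hb
  haveI : IsReduced Y := Groth.Agent.Castel.isReduced_of_app_injective b fun V => (happ V).1
  let V : Y.Opens := ⟨({y₀} : Set Y)ᶜ, hy₀.isOpen_compl⟩
  haveI := hoff V fun h => h rfl
  have hsurj : Function.Surjective b := fun y => by
    by_cases hy : y = y₀
    · obtain ⟨x, hx⟩ : (b ⁻¹' {y₀}).Nonempty := hfib ▸ ⟨ι₀ (genericPoint _), _, rfl⟩
      exact ⟨x, hx.trans hy.symm⟩
    · obtain ⟨x, hx⟩ := (b ∣_ V).surjective ⟨y, hy⟩
      exact ⟨x.1, (morphismRestrict_base_coe b V x).symm.trans (congrArg Subtype.val hx)⟩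
  haveI : IrreducibleSpace Y := hsurj.irreducibleSpace b.continuous
  haveI : IsIntegral Y := isIntegral_of_irreducibleSpace_of_isReduced Y
  have hpre : ((b ⁻¹ᵁ V : X.Opens) : Set X).Nonempty := by
    by_contra hne
    have hu : Set.range i = Set.univ := by
      rw [← hrange, ← hfib]
      refine Set.eq_univ_of_forall fun x => ?_
      by_contra hx
      exact hne ⟨x, hx⟩
    have h1 := (i.isClosedEmbedding.isEmbedding.toHomeomorph.isHomeomorph.topologicalKrullDim_eq).symm.trans hC1
    rw [hu, (Homeomorph.Set.univ X).isHomeomorph.topologicalKrullDim_eq, hdim] at h1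
    exact absurd h1 (by decide)
  obtain ⟨N, dd, r, -, -, hr, hri, -⟩ := Groth.Agent.LefRel.exists_closedImmersion g hL' 0
  refine ⟨Y, g, b, y₀, hy₀, hbg, inferInstance, ?_, ⟨N, r, hri, hr⟩, fun x => ?_, hoff V fun h => h rfl⟩
  · rw [← hdim]
    exact Groth.Agent.Castel.dim_eq_of_iso_off (X ↘ Spec (CommRingCat.of k)) g b V
      (hpre.elim fun x hx => ⟨b x, hx⟩) hpre
  · rw [← hrange, ← hfib]
    rfl

end Groth.Agent.S14517
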