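import Groth.Statements.S14519
import Mathlib
import Groth.Agent.LocalIso.Scheme
import Groth.Agent.SmLocalST.SmoothField
import Groth.Agent.RegDual.Scheme
import Groth.Agent.S2244

set_option autoImplicit false
universe u
open CategoryTheory CategoryTheory.Limits AlgebraicGeometry
open Curves

namespace Groth.Agent.S14519


section helpers

lemma valuationRing_stalk {k : Type u} [Field k] {Y : Scheme.{u}} [AlgebraicGeometry.IsIntegral Y]
    (q : Y ⟶ Spec (CommRingCat.of k)) [Smooth q] (hdim : topologicalKrullDim Y = 1) (y : Y) :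
    ValuationRing (Y.presheaf.stalk y) := by
  haveI := Groth.Agent.SmLocalST.isRegularLocalRing_stalk_of_smooth_field q y
  have h1 : (IsLocalRing.maximalIdeal (Y.presheaf.stalk y)).spanFinrank ≤ 1 := by
    have h2 := (IsRegularLocalRing.spanFinrank_maximalIdeal (R := Y.presheaf.stalk y))
    have h3 := Groth.Agent.RegDual.ringKrullDim_stalk_le_topologicalKrullDim y
    rw [hdim, ← h2] at h3
    exact_mod_cast h3
  refine ((tfae_of_isNoetherianRing_of_isLocalRing_of_isDomain (Y.presheaf.stalk y)).out 5 1).1 ?_
  rw [← IsLocalRing.spanFinrank_maximalIdeal_eq_finrank_cotangentSpace]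
  exact h1

lemma isIso_stalkMap {X Y : Scheme.{u}} [AlgebraicGeometry.IsIntegral X]
    [AlgebraicGeometry.IsIntegral Y] (f : X ⟶ Y) (e : f (genericPoint X) = genericPoint Y)
    (hbir : Function.Bijective (Y.presheaf.stalkSpecializes (specializes_of_eq e) ≫
      f.stalkMap (genericPoint X)).hom) (x : X) [ValuationRing (Y.presheaf.stalk (f x))] :
    IsIso (f.stalkMap x) := by
  have hx : genericPoint X ⤳ x := (genericPoint_spec X).specializes (by trivial)
  have hcomm : ∀ a : Y.presheaf.stalk (f x),
      (Y.presheaf.stalkSpecializes (specializes_of_eq e) ≫ f.stalkMap (genericPoint X)).hom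
        (algebraMap (Y.presheaf.stalk (f x)) Y.functionField a) =
      algebraMap (X.presheaf.stalk x) X.functionField (f.stalkMap x a) := by
    intro a
    refine Eq.trans ?_ (f.stalkSpecializes_stalkMap_apply (genericPoint X) x hx a)
    show f.stalkMap (genericPoint X) (Y.presheaf.stalkSpecializes _ (Y.presheaf.stalkSpecializes _ a)) = _
    exact congrArg _ (ConcreteCategory.congr_hom (Y.presheaf.stalkSpecializes_comp _ _) a)
  have hinjK : Function.Injective (algebraMap (X.presheaf.stalk x) X.functionField) :=
    IsFractionRing.injective _ _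
  have hinj : Function.Injective (f.stalkMap x).hom := fun a b h => by
    refine IsFractionRing.injective (Y.presheaf.stalk (f x)) Y.functionField (hbir.1 ?_)
    rw [hcomm, hcomm]
    exact congrArg _ h
  refine ConcreteCategory.isIso_iff_bijective _ |>.2 ⟨hinj, fun b => ?_⟩
  obtain ⟨z, hz⟩ := hbir.2 (algebraMap (X.presheaf.stalk x) X.functionField b)
  obtain ⟨a, a', ha', rfl⟩ := IsFractionRing.div_surjective (A := Y.presheaf.stalk (f x)) z
  rw [map_div₀, hcomm, hcomm, div_eq_iff] at hz
  swap
  · intro h0
    exact nonZeroDivisors.ne_zero ha' (hinj (((map_eq_zero_iff _ hinjK).1 h0).trans (map_zero _).symm))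
  rw [← map_mul] at hz
  replace hz : f.stalkMap x a = b * f.stalkMap x a' := hinjK hz
  by_cases ha : a = 0
  · refine ⟨0, ?_⟩
    rw [ha, map_zero] at hz
    rcases mul_eq_zero.1 hz.symm with h | h
    · rw [h]; exact map_zero _
    · exact absurd (hinj (h.trans (map_zero _).symm)) (nonZeroDivisors.ne_zero ha')
  rcases ValuationRing.cond a a' with ⟨c, hc | hc⟩
  · -- `a' = a c`
    have h1 : b * f.stalkMap x c = 1 := by
      refine mul_left_cancel₀ (fun h => ha (hinj (h.trans (map_zero _).symm))) (?_ : f.stalkMap x a * _ = f.stalkMap x a * 1)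
      rw [← hc, map_mul] at hz
      linear_combination (norm := ring_nf) -hz
    have hu : IsUnit c := isUnit_of_map_unit (f.stalkMap x).hom c (IsUnit.of_mul_eq_one _ (by rw [mul_comm]; exact h1))
    obtain ⟨u, rfl⟩ := hu
    refine ⟨((u⁻¹ : (Y.presheaf.stalk (f x))ˣ) : Y.presheaf.stalk (f x)), ?_⟩
    calc f.stalkMap x ((u⁻¹ : (Y.presheaf.stalk (f x))ˣ) : Y.presheaf.stalk (f x))
        = (b * f.stalkMap x u) * f.stalkMap x ((u⁻¹ : (Y.presheaf.stalk (f x))ˣ) : Y.presheaf.stalk (f x)) := by
          rw [h1, one_mul]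
      _ = b := by rw [mul_assoc, ← map_mul, Units.mul_inv, map_one, mul_one]
  · -- `a = a' c`
    refine ⟨c, ?_⟩
    refine mul_left_cancel₀ (fun h => nonZeroDivisors.ne_zero ha' (hinj (h.trans (map_zero _).symm)))
      (?_ : f.stalkMap x a' * _ = f.stalkMap x a' * b)
    rw [← hc, map_mul] at hz
    linear_combination (norm := ring_nf) hz

end helpers

/-- Let k be an algebraically closed field and f : X → Y a birational morphism over k between smooth
curves (X, Y integral, separated, of finite type and smooth over k, of dimension one; f sends the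
generic point of X to that of Y and the induced map of function fields K(Y) → K(X) is bijective).
Then f is an open immersion. -/
theorem result (k : Type u) [Field k] [IsAlgClosed k]
    (X Y : Scheme.{u}) [X.Over (Spec (CommRingCat.of k))] [Y.Over (Spec (CommRingCat.of k))]
    [IsIntegral X] [IsSeparated (X ↘ (Spec (CommRingCat.of k)))] [LocallyOfFiniteType (X ↘ (Spec (CommRingCat.of k)))] [QuasiCompact (X ↘ (Spec (CommRingCat.of k)))] [Smooth (X ↘ (Spec (CommRingCat.of k)))] (hdimX : topologicalKrullDim X = 1)
    [IsIntegral Y] [IsSeparated (Y ↘ (Spec (CommRingCat.of k)))] [LocallyOfFiniteType (Y ↘ (Spec (CommRingCat.of k)))] [QuasiCompact (Y ↘ (Spec (CommRingCat.of k)))] [Smooth (Y ↘ (Spec (CommRingCat.of k)))] (hdimY : topologicalKrullDim Y = 1)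
    (f : X ⟶ Y) (hf : f ≫ (Y ↘ (Spec (CommRingCat.of k))) = (X ↘ (Spec (CommRingCat.of k))))
    (e : f (genericPoint X) = genericPoint Y)
    (hbir : Function.Bijective (Y.presheaf.stalkSpecializes (specializes_of_eq e) ≫ f.stalkMap (genericPoint X)).hom) :
    IsOpenImmersion f := by
  haveI : IsSeparated (f ≫ (Y ↘ (Spec (CommRingCat.of k)))) := by rw [hf]; infer_instance
  haveI : IsSeparated f := IsSeparated.of_comp f (Y ↘ (Spec (CommRingCat.of k)))
  haveI : LocallyOfFiniteType (f ≫ (Y ↘ (Spec (CommRingCat.of k)))) := by rw [hf]; infer_instance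
  haveI : LocallyOfFiniteType f := locallyOfFiniteType_of_comp f (Y ↘ (Spec (CommRingCat.of k)))
  have hfin : (irreducibleComponents (Y : Type u)).Finite := by
    haveI : IsLocallyNoetherian Y :=
      LocallyOfFiniteType.isLocallyNoetherian (Y ↘ (Spec (CommRingCat.of k)))
    rw [irreducibleComponents_eq_singleton]
    exact Set.finite_singleton _
  have hloc : ∀ x : X, ∃ U : X.Opens, x ∈ U ∧ IsOpenImmersion (U.ι ≫ f) := fun x => by
    haveI := valuationRing_stalk (Y ↘ (Spec (CommRingCat.of k))) hdimY (f x)
    exact Groth.Agent.LocalIso.exists_isOpenImmersion_affine f hfin x (isIso_stalkMap f e hbir x)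
  exact Groth.Agent.S2244.result f hloc

end Groth.Agent.S14519
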