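import Groth.Statements.S1452
-- import your own Groth.Agent.* helpers here
import Groth.Agent.UnibranchEtale.Scheme
import Groth.Agent.AlgSpLib.SourceDesc

set_option autoImplicit false
universe u
open FlatMor

namespace Groth.Agent.S1452

open AlgebraicGeometry CategoryTheory Limits in
/-- Let f : X → Y and g : Y → Z with Y integral and the local ring of Y at y = f x geometrically
unibranch; assume g ∘ f is étale on an open neighbourhood of x and some generization of x maps to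
the generic point of Y. Then f is étale on an open neighbourhood of x and g is étale on an open
neighbourhood of y. -/
theorem result {X Y Z : Scheme.{u}} (f : X ⟶ Y) (g : Y ⟶ Z) [IsIntegral Y] (x : X)
    (hY : CAlg2.IsGeomUnibranch (Y.presheaf.stalk (f x))) (het : ∃ U : X.Opens, x ∈ U ∧ Etale (U.ι ≫ f ≫ g))
    (hsp : ∃ x' : X, x' ⤳ x ∧ f x' = genericPoint ↑Y) :
    (∃ U : X.Opens, x ∈ U ∧ Etale (U.ι ≫ f)) ∧ ∃ V : Y.Opens, f x ∈ V ∧ Etale (V.ι ≫ g) := by
  obtain ⟨U, hxU, hU⟩ := het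
  obtain ⟨x', hx', hη⟩ := hsp
  have hx'U : x' ∈ U := hx'.mem_open U.2 hxU
  haveI hU' : Etale ((U.ι ≫ f) ≫ g) := by rw [Category.assoc]; exact hU
  haveI : FormallyUnramified ((U.ι ≫ f) ≫ g) := inferInstance
  haveI : LocallyOfFiniteType ((U.ι ≫ f) ≫ g) := inferInstance
  haveI : FormallyUnramified (U.ι ≫ f) := FormallyUnramified.of_comp (U.ι ≫ f) g
  haveI : LocallyOfFiniteType (U.ι ≫ f) := locallyOfFiniteType_of_comp (U.ι ≫ f) g
  obtain ⟨W, hxW, hW⟩ := UnibranchEtale.exists_etale_of_generization (U.ι ≫ f) ⟨x, hxU⟩ hY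
    ⟨⟨x', hx'U⟩, (Topology.IsInducing.subtypeVal.specializes_iff).1 hx', hη⟩
    ⟨⊤, trivial, MorphismProperty.comp_mem @FormallyUnramified _ _ (HasRingHomProperty.of_isOpenImmersion
      (P := @FormallyUnramified) RingHom.FormallyUnramified.holdsForLocalizationAway.containsIdentities)
      ‹FormallyUnramified (U.ι ≫ f)›⟩
  haveI := hW
  refine ⟨⟨U.ι ''ᵁ W, ⟨⟨x, hxU⟩, hxW, rfl⟩, ?_⟩, ?_⟩
  · let e := IsOpenImmersion.isoOfRangeEq (U.ι ''ᵁ W).ι (W.ι ≫ U.ι) (by
      rw [Scheme.Opens.range_ι]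
      simp only [Scheme.Hom.comp_base, TopCat.coe_comp, Set.range_comp, Scheme.Opens.range_ι]
      rfl)
    have he : e.hom ≫ W.ι ≫ U.ι = (U.ι ''ᵁ W).ι := IsOpenImmersion.isoOfRangeEq_hom_fac _ _ _
    rw [← he, Category.assoc, Category.assoc]
    infer_instance
  · let F := W.ι ≫ U.ι ≫ f
    let V : Y.Opens := ⟨Set.range F, F.isOpenMap.isOpen_range⟩
    let F' := IsOpenImmersion.lift V.ι F (by rw [Scheme.Opens.range_ι]; rfl)
    have hF : F' ≫ V.ι = F := IsOpenImmersion.lift_fac _ _ _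
    haveI : Etale (F' ≫ V.ι) := by rw [hF]; exact hW
    haveI : Etale F' := MorphismProperty.of_postcomp (W := @Etale) (W' := @IsOpenImmersion) _ V.ι inferInstance ‹_›
    haveI : Surjective F' := ⟨fun v => by
      obtain ⟨w, hw⟩ := v.2
      refine ⟨w, Subtype.ext ?_⟩
      change V.ι (F' w) = v.1
      rw [← Scheme.Hom.comp_apply, hF]
      exact hw⟩
    haveI : Etale (F' ≫ V.ι ≫ g) := by
      rw [← Category.assoc, hF]
      change Etale ((W.ι ≫ U.ι ≫ f) ≫ g)
      have : Etale (W.ι ≫ (U.ι ≫ f) ≫ g) := inferInstance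
      simpa only [Category.assoc] using this
    exact ⟨V, ⟨⟨⟨x, hxU⟩, hxW⟩, rfl⟩, AlgSpLib.SrcDesc.etale F' (V.ι ≫ g)⟩

end Groth.Agent.S1452
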