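import Groth.Statements.S14520
import Groth.Agent.PtPush.StrictChi
import Groth.Agent.PtPush.StrictIdeal
import Groth.Agent.PtPush.Genus
import Groth.Agent.HurwitzAlg.Chart
import Groth.Agent.Intersect.Surface
import Groth.Agent.S1618
import Groth.Agent.Intersect.CurveOnSurface

set_option autoImplicit false
universe u
open CategoryTheory CategoryTheory.Limits AlgebraicGeometry
open Surf

namespace Groth.Agent.S14520

/-- Let k be an algebraically closed field, X a smooth projective surface over k (integral, smooth over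
k, of dimension two, with a closed immersion over k into some projective space), P a closed point of
X with ideal m_P, f : X' → X the blow-up of X at P (universal property), and C ⊆ X a curve (an
integral closed subscheme of dimension one, closed immersion j) of multiplicity m = ord_P(C) at P:
the ideal of C is contained in m_P^m and not in m_P^{m+1}. Let C' ⊆ X' be the strict transform of C:
an integral closed subscheme of dimension one (closed immersion j') whose generic point is mapped by
f to the generic point of C. Then p_a(C') = p_a(C) − m(m−1)/2, written 2 p_a(C') + m(m−1) = 2 p_a(C)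
with p_a = dim_k H^1(O). -/
theorem result (k : Type u) [Field k] [IsAlgClosed k]
    (X : Scheme.{u}) [X.Over (Spec (CommRingCat.of k))] [IsIntegral X] [Smooth (X ↘ (Spec (CommRingCat.of k)))] (hdim : topologicalKrullDim X = 2)
    (hprojX : ∃ (N : ℕ) (ι : X ⟶ CohB1.ProjSpace N k), IsClosedImmersion ι ∧ ι ≫ CohB1.ProjSpace.toSpec N k = (X ↘ (Spec (CommRingCat.of k))))
    (P : X) (hP : IsClosed ({P} : Set X))
    (X' : Scheme.{u}) (f : X' ⟶ X) (hf : BlowUp.IsBlowUp f (Scheme.IdealSheafData.vanishingIdeal ⟨{P}, hP⟩))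
    (C : Scheme.{u}) [C.Over (Spec (CommRingCat.of k))] [IsIntegral C] (hdimC : topologicalKrullDim C = 1)
    (j : C ⟶ X) [IsClosedImmersion j] (hj : j ≫ (X ↘ (Spec (CommRingCat.of k))) = (C ↘ (Spec (CommRingCat.of k))))
    (m : ℕ) (hm : j.ker ≤ Scheme.IdealSheafData.vanishingIdeal ⟨{P}, hP⟩ ^ m)
    (hm' : ¬ j.ker ≤ Scheme.IdealSheafData.vanishingIdeal ⟨{P}, hP⟩ ^ (m + 1))
    (C' : Scheme.{u}) [C'.Over (Spec (CommRingCat.of k))] [IsIntegral C'] (hdimC' : topologicalKrullDim C' = 1)
    (j' : C' ⟶ X') [IsClosedImmersion j'] (hj' : j' ≫ f ≫ (X ↘ (Spec (CommRingCat.of k))) = (C' ↘ (Spec (CommRingCat.of k))))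
    (hgen : f (j' (genericPoint C')) = j (genericPoint C)) :
    2 * Curv2.genus k C' + m * (m - 1) = 2 * Curv2.genus k C := by
  letI : X'.Over (Spec (CommRingCat.of k)) := ⟨f ≫ (X ↘ (Spec (CommRingCat.of k)))⟩
  obtain ⟨N, ι, hι, hιk⟩ := hprojX
  haveI := ProjMor.isProper_toSpec N k
  haveI : IsProper (X ↘ Spec (CommRingCat.of k)) := by rw [← hιk]; infer_instance
  haveI := CurveRR.isNoetherian_of_proper k X
  have hreg : ∀ y : X, IsRegularLocalRing (X.presheaf.stalk y) := fun y =>
    SmLocalST.isRegularLocalRing_stalk_of_smooth_field (X ↘ Spec (CommRingCat.of k)) y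
  have hp : PtBlow.IsRegPt X P := ⟨hP, hreg P, (Intersect.dim_stalk_closed k hP).trans hdim⟩
  haveI := PtBlow.isProper_blowUp hp hf
  haveI := PtPush.isIntegral_blowUp hp hf
  haveI : IsProper (X' ↘ Spec (CommRingCat.of k)) := inferInstanceAs (IsProper (f ≫ _))
  haveI := CurveRR.isNoetherian_of_proper k X'
  -- dimension of the blow-up
  have hd' : topologicalKrullDim X' = 2 := by
    let V : X.Opens := (PtBlow.pt hp).support.compl
    haveI : IsIso (f ∣_ V) := BlowUpLib.isIso_restrict hf
    have hV : (V : Set X).Nonempty := ⟨_, W7Fib.genericPoint_notMem_support (PtPush.pt_ne_bot hp)⟩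
    have hU : ((f ⁻¹ᵁ V : X'.Opens) : Set X').Nonempty := by
      obtain ⟨v, hv⟩ := hV
      obtain ⟨u, -⟩ := (f ∣_ V).surjective ⟨v, hv⟩
      exact ⟨u.1, u.2⟩
    rw [← Groth.Agent.S1618.result k X' (f ⁻¹ᵁ V) hU, ← hdim, ← Groth.Agent.S1618.result k X V hV]
    exact (f ∣_ V).homeomorph.isHomeomorph.topologicalKrullDim_eq
  have hC := Intersect.isEffCartier_curve k hdim j hdimC
  have hξ : topologicalKrullDim (closure {j (genericPoint C)} : Set X) = ((1 : ℕ) : WithBot ℕ∞) := by
    rw [show closure ({j (genericPoint C)} : Set X) = Set.range j by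
      rw [← Intersect.image_closure j, genericPoint_closure]; exact Set.image_univ,
      ← j.isClosedEmbedding.isEmbedding.toHomeomorph.isHomeomorph.topologicalKrullDim_eq, hdimC]
    rfl
  have hgd := Intersect.ringKrullDim_stalk_curve k hdim hξ
  have hjx : j (genericPoint C) ≠ P := fun h => by
    have := hp.dim
    rw [← h, hgd] at this
    exact absurd this (by decide)
  obtain ⟨hC', hmul⟩ := PtPush.comap_eq_strictTransform hp hf hreg
    (fun Q hQ => (Intersect.dim_stalk_closed k hQ).trans hd') j hC hjx hgd j' hgen hm hm'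
  have h3 := PtPush.euler_strictTransform k hp rfl hreg hf hdim.le hd'.le hC hC' m hmul
  have h4 := PtPush.euler_pullback_blowUp k hp rfl hreg hf (TMul.isInvertible_structureModule (X := X))
  rw [CurveRR.euler_eq_of_iso (k := k) (PicLoc.pullbackStructureIso f)] at h4
  have h5 : (letI : Algebra k (X.residueField P) := Curv2.resAlgebra k X P
      Module.finrank k (X.residueField P)) = 1 := by
    obtain ⟨V, hV, hxV, -⟩ := exists_isAffineOpen_mem_and_subset (show P ∈ (⊤ : X.Opens) from trivial)
    letI : Algebra k (X.residueField P) := Curv2.resAlgebra k X P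
    haveI := HurwitzAlg.finite_residueField (k := k) hV hxV hP
    rw [← (AlgEquiv.ofBijective (Algebra.ofId k (X.residueField P))
      IsAlgClosed.algebraMap_bijective_of_isIntegral).toLinearEquiv.finrank_eq, Module.finrank_self]
  rw [h5, Nat.cast_one, one_mul] at h3
  have a1 := PtPush.euler_ideal_eq_genus k j hj hdimC.le
  have a2 := PtPush.euler_ideal_eq_genus k j' hj' hdimC'.le
  have a3 : (2 * (Curv2.genus k C' : ℤ)) + (m : ℤ) * ((m : ℤ) - 1) = 2 * (Curv2.genus k C : ℤ) := by linarith
  rcases Nat.eq_zero_or_pos m with rfl | hmpos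
  · push_cast at a3
    omega
  · obtain ⟨m', rfl⟩ := Nat.exists_eq_add_of_le hmpos
    rw [Nat.add_sub_cancel_left]
    have : ((2 * Curv2.genus k C' + (1 + m') * m' : ℕ) : ℤ) = ((2 * Curv2.genus k C : ℕ) : ℤ) := by
      push_cast at a3 ⊢
      linarith
    exact_mod_cast this

end Groth.Agent.S14520
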