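import Groth.Statements.S14525
import Groth.Agent.Nakai.HodgeIndex
import Groth.Agent.ProjMor.ProjSpaceBase

set_option autoImplicit false
universe u
open CategoryTheory CategoryTheory.Limits AlgebraicGeometry
open Surf

namespace Groth.Agent.S14525

/-- Let k be an algebraically closed field, X a smooth projective surface over k (integral, smooth over
k, of dimension two, with a closed immersion over k into some projective space), L an invertible
O_X-module with tensor inverse L' such that (L·L) > 0, and M an ample invertible module with tensor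
inverse M'; intersection numbers are the alternating Euler-characteristic sums in the inverses (the
prelude's FGA.intNum, so (L·L) is computed in L', L' and (L·M) in L', M'). Then (L·M) ≠ 0; if (L·M)
> 0 there is c > 0 with dim_k H^0(X, L^{⊗m}) > c·m² for all large m, and if (L·M) < 0 the same holds
for L' in place of L. -/
theorem result (k : Type u) [Field k] [IsAlgClosed k]
    (X : Scheme.{u}) [X.Over (Spec (CommRingCat.of k))] [IsIntegral X] [Smooth (X ↘ (Spec (CommRingCat.of k)))] (hdim : topologicalKrullDim X = 2)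
    (hprojX : ∃ (N : ℕ) (ι : X ⟶ CohB1.ProjSpace N k), IsClosedImmersion ι ∧ ι ≫ CohB1.ProjSpace.toSpec N k = (X ↘ (Spec (CommRingCat.of k))))
    (L L' : X.Modules) (hL : PicF.IsInvertible L) (hLL' : ClSub.IsInverseOf L L')
    (hpos : 0 < FGA.intNum k X 2 ![L', L'] (Coh.structureModule X))
    (M M' : X.Modules) (hM : CohB1.IsAmple M) (hMM' : ClSub.IsInverseOf M M') :
    FGA.intNum k X 2 ![L', M'] (Coh.structureModule X) ≠ 0 ∧
    (0 < FGA.intNum k X 2 ![L', M'] (Coh.structureModule X) →
      ∃ c : ℚ, 0 < c ∧ ∃ m₀ : ℕ, ∀ m : ℕ, m₀ ≤ m →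
        c * (m : ℚ) ^ 2 < (Module.finrank k (Coh.HH X (CohB1.tensorPow L m) 0) : ℚ)) ∧
    (FGA.intNum k X 2 ![L', M'] (Coh.structureModule X) < 0 →
      ∃ c : ℚ, 0 < c ∧ ∃ m₀ : ℕ, ∀ m : ℕ, m₀ ≤ m →
        c * (m : ℚ) ^ 2 < (Module.finrank k (Coh.HH X (CohB1.tensorPow L' m) 0) : ℚ)) := by
  obtain ⟨n, ι, hcl, hι⟩ := hprojX
  haveI := hcl
  haveI : IsProper (CohB1.ProjSpace.toSpec n k) := ProjMor.isProper_toSpec n k
  haveI : IsProper (X ↘ Spec (CommRingCat.of k)) := hι ▸ inferInstance
  have hd : topologicalKrullDim X ≤ ((2 : ℕ) : WithBot ℕ∞) := hdim.le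
  have hL' := Groth.Agent.Intersect.isInvertible_inverse hL hLL'
  have hM' := Groth.Agent.Intersect.isInvertible_inverse hM.1 hMM'
  have h1 : (0 : ℚ) < (FGA.intNum k X 2 ![L', L'] (Coh.structureModule X) : ℚ) := by exact_mod_cast hpos
  rw [Groth.Agent.Nakai.intNum_eq_inter k hd] at h1
  have hLL : Groth.Agent.Nakai.inter k L L = Groth.Agent.Nakai.inter k L' L' := by
    rw [Groth.Agent.Nakai.inter_inv k hd hL hLL' hL', Groth.Agent.Nakai.inter_inv_right k hd hL hLL' hL, neg_neg]
  have hLM : (FGA.intNum k X 2 ![L', M'] (Coh.structureModule X) : ℚ) = -Groth.Agent.Nakai.inter k L' M := by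
    rw [Groth.Agent.Nakai.intNum_eq_inter k hd, Groth.Agent.Nakai.inter_inv_right k hd hM.1 hMM' hL']
  have hLM' : Groth.Agent.Nakai.inter k L' M = -Groth.Agent.Nakai.inter k L M :=
    Groth.Agent.Nakai.inter_inv k hd hL hLL' hM.1
  refine ⟨fun h0 => ?_, fun h => ?_, fun h => ?_⟩
  · have h2 : Groth.Agent.Nakai.inter k L' M = 0 := by
      rw [h0, Int.cast_zero] at hLM; linarith
    exact absurd (Groth.Agent.Nakai.self_nonpos k hdim hL' hM h2) (not_le.2 h1)
  · have h2 : (0 : ℚ) < (FGA.intNum k X 2 ![L', M'] (Coh.structureModule X) : ℚ) := by exact_mod_cast h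
    obtain ⟨n₀, hq⟩ := Groth.Agent.Nakai.eventually_quadratic k hdim hL hM (hLL ▸ h1) (by linarith)
    exact ⟨Groth.Agent.Nakai.inter k L L / 8, by linarith, n₀, hq⟩
  · have h2 : (FGA.intNum k X 2 ![L', M'] (Coh.structureModule X) : ℚ) < 0 := by exact_mod_cast h
    obtain ⟨n₀, hq⟩ := Groth.Agent.Nakai.eventually_quadratic k hdim hL' hM h1 (by linarith)
    exact ⟨Groth.Agent.Nakai.inter k L' L' / 8, by linarith, n₀, hq⟩

end Groth.Agent.S14525
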