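import Groth.Statements.S14535
import Groth.Agent.HopfPoint.Torsor
import Groth.Agent.Rosenlicht.Product
import Groth.Agent.FinHopf.GrpScheme
import Groth.Agent.Torsor.Points
import Groth.Agent.S6003
import Groth.Agent.S6004

set_option autoImplicit false
universe u
open CategoryTheory MonoidalCategory CartesianMonoidalCategory MonObj GrpObj AlgebraicGeometry
open PrincBund

namespace Groth.Agent.S14535

set_option backward.isDefEq.respectTransparency false

theorem amk_surjective {k : Type u} [Field k] {A R : Type u} [CommRing A] [Algebra k A] [CommRing R] [Algebra k R]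
    (q : Groth.Agent.Rosenlicht.aff k R ⟶ Groth.Agent.Rosenlicht.aff k A) :
    ∃ g : A →ₐ[k] R, Groth.Agent.Rosenlicht.amk g = q := by
  obtain ⟨φ, hφ⟩ := Spec.map_surjective (show Spec (CommRingCat.of R) ⟶ Spec (CommRingCat.of A) from q.left)
  refine ⟨AlgHom.mk φ.hom fun c => ?_, Over.OverMorphism.ext hφ⟩
  have h : Spec.map (CommRingCat.ofHom (algebraMap k A) ≫ φ) = Spec.map (CommRingCat.ofHom (algebraMap k R)) := by
    rw [Spec.map_comp, hφ]
    exact Over.w q
  exact RingHom.congr_fun (congrArg CommRingCat.Hom.hom (Spec.map_injective h)) c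

theorem amk_injective {k : Type u} [Field k] {A R : Type u} [CommRing A] [Algebra k A] [CommRing R] [Algebra k R]
    {g g' : A →ₐ[k] R} (h : Groth.Agent.Rosenlicht.amk g = Groth.Agent.Rosenlicht.amk g') : g = g' :=
  AlgHom.coe_ringHom_injective (congrArg CommRingCat.Hom.hom (Spec.map_injective (congrArg CommaMorphism.left h)))

noncomputable def point {k : Type u} [Field k] {B : Type u} [CommRing B] [Algebra k B] (x : B →ₐ[k] k) :
    𝟙_ (Over (Spec (CommRingCat.of k))) ⟶ Groth.Agent.Rosenlicht.aff k B :=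
  Over.homMk (Spec.map (CommRingCat.ofHom x.toRingHom)) (by
    show Spec.map _ ≫ Spec.map _ = 𝟙 _
    rw [← Spec.map_comp, ← Spec.map_id]
    congr 1
    ext : 1
    exact x.comp_algebraMap)

/-- Let k be an algebraically closed field and G an affine group scheme over k, not necessarily of
finite type. Then every principal G-bundle over Spec k, that is every k-scheme with a G-action which
is a pseudo-torsor and acquires sections on the members of some fpqc covering family of Spec k, is
trivial: it has a k-point. -/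
theorem result (k : Type u) [Field k] [IsAlgClosed k]
    (G : Over (Spec (CommRingCat.of k))) [GrpObj G] [IsAffine G.left]
    (P : Over (Spec (CommRingCat.of k))) (a : AlgGrp.Action G P)
    (hP : NonAbH1.IsTorsorFor Scheme.fpqcPrecoverage a) :
    Nonempty (𝟙_ (Over (Spec (CommRingCat.of k))) ⟶ P) := by
  haveI : IsAffineHom G.hom := isAffineHom_of_isAffine G.hom
  haveI : IsIntegral (Spec (CommRingCat.of k)) := inferInstance
  haveI : Subsingleton ↥(Spec (CommRingCat.of k)) := inferInstanceAs (Subsingleton (PrimeSpectrum k))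
  haveI : Flat G.hom := inferInstance
  obtain ⟨hPaff, -⟩ := Groth.Agent.S6004.result G P a hP
  obtain ⟨hps, hsurj, -, -⟩ := (Groth.Agent.S6003.result G P a).1 hP
  haveI : IsAffine P.left := isAffine_of_isAffineHom P.hom
  obtain ⟨A, _, e, he⟩ := Groth.Agent.FinHopf.exists_hopf G
  obtain ⟨⟨B⟩, ⟨f⟩⟩ : (algSpec (CommRingCat.of k)).essImage P := essImage_algSpec.mpr inferInstance
  haveI : Nontrivial B := by
    obtain ⟨x, -⟩ := hsurj.surj (IsLocalRing.closedPoint k)
    have : Nonempty (PrimeSpectrum B) := ⟨f.inv.left.base x⟩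
    exact PrimeSpectrum.nonempty_iff_nontrivial.1 this
  let pA : ∀ {R : Type u} [CommRing R] [Algebra k R], (A →ₐ[k] R) → (Groth.Agent.Rosenlicht.aff k R ⟶ G) :=
    fun g => Groth.Agent.Rosenlicht.amk g ≫ e.hom
  let pB : ∀ {R : Type u} [CommRing R] [Algebra k R], (B →ₐ[k] R) → (Groth.Agent.Rosenlicht.aff k R ⟶ P) :=
    fun p => Groth.Agent.Rosenlicht.amk p ≫ f.hom
  haveI : IsIso e.hom := inferInstance
  have hAs : ∀ {R : Type u} [CommRing R] [Algebra k R] (q : Groth.Agent.Rosenlicht.aff k R ⟶ G), ∃ g, pA g = q := by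
    intro R _ _ q
    obtain ⟨g, hg⟩ := amk_surjective (A := A) (R := R) (q ≫ e.inv)
    exact ⟨g, (congrArg (fun v => v ≫ e.hom) hg).trans ((Category.assoc _ _ _).trans
      (by rw [Iso.inv_hom_id]; exact Category.comp_id q))⟩
  have hBs : ∀ {R : Type u} [CommRing R] [Algebra k R] (q : Groth.Agent.Rosenlicht.aff k R ⟶ P), ∃ g, pB g = q := by
    intro R _ _ q
    obtain ⟨g, hg⟩ := amk_surjective (A := B) (R := R) (q ≫ f.inv)
    exact ⟨g, (congrArg (fun v => v ≫ f.hom) hg).trans ((Category.assoc _ _ _).trans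
      (by rw [Iso.inv_hom_id]; exact Category.comp_id q))⟩
  have hAi : ∀ {R : Type u} [CommRing R] [Algebra k R] (g g' : A →ₐ[k] R), pA g = pA g' → g = g' :=
    fun g g' h => amk_injective (Iso.cancel_iso_hom_right _ _ e |>.1 h)
  have hBi : ∀ {R : Type u} [CommRing R] [Algebra k R] (g g' : B →ₐ[k] R), pB g = pB g' → g = g' :=
    fun g g' h => amk_injective (Iso.cancel_iso_hom_right _ _ f |>.1 h)
  obtain ⟨ρ, hρ⟩ := hBs (lift (pA (Algebra.TensorProduct.includeLeft : A →ₐ[k] TensorProduct k A B))
    (pB (Algebra.TensorProduct.includeRight : B →ₐ[k] TensorProduct k A B)) ≫ a.act)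
  have hact : ∀ {R : Type u} [CommRing R] [Algebra k R] (g : A →ₐ[k] R) (p : B →ₐ[k] R),
      pB (Groth.Agent.HopfPoint.act ρ g p) = Groth.Agent.Torsor.smul a (pA g) (pB p) := by
    intro R _ _ g p
    let l : TensorProduct k A B →ₐ[k] R := Algebra.TensorProduct.lift g p fun _ _ => .all _ _
    show Groth.Agent.Rosenlicht.amk (l.comp ρ) ≫ f.hom = lift _ _ ≫ a.act
    rw [← Groth.Agent.Rosenlicht.amk_comp, Category.assoc, show Groth.Agent.Rosenlicht.amk ρ ≫ f.hom = _ from hρ,
      comp_lift_assoc]
    simp only [pA, pB, ← Category.assoc, Groth.Agent.Rosenlicht.amk_comp]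
    rw [show l.comp Algebra.TensorProduct.includeLeft = g from Algebra.TensorProduct.lift_comp_includeLeft _ _ _,
      show l.comp Algebra.TensorProduct.includeRight = p from AlgHom.ext fun b => by simp [l]]
  obtain ⟨x⟩ := Groth.Agent.HopfPoint.exists_point_torsor (k := k) (A := A) (B := B) ρ
    (fun R _ _ g h p => hBi _ _ (by
      rw [hact, hact, hact, ← Groth.Agent.Torsor.mul_smul]
      congr 1
      have hm := map_mul (Spec.mapMulEquiv (R := k) (S := A) (T := R)) (WithConv.toConv g) (WithConv.toConv h)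
      show (Spec.mapMulEquiv (WithConv.toConv g * WithConv.toConv h)) ≫ e.hom = _
      rw [hm, MonObj.mul_comp]
      rfl))
    (fun R _ _ p q => by
      obtain ⟨g, hg, hu⟩ := (Groth.Agent.Torsor.isPseudoTorsor_iff a).1 hps _ (pB p) (pB q)
      obtain ⟨g', rfl⟩ := hAs g
      exact ⟨g', hBi _ _ ((hact g' p).trans hg), fun y hy => hAi _ _ (hu _ ((hact y p).symm.trans (congrArg pB hy)))⟩)
  exact ⟨point x ≫ pB (AlgHom.id k B)⟩

end Groth.Agent.S14535
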