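import Groth.Statements.S14539
import Groth.Agent.Comod.DualModule
import Groth.Agent.HopfPoint.Basic
import Groth.Agent.HopfCartier.Basic
import Groth.Agent.FinHopf.Sub
import Groth.Agent.HopfRange.Sub

set_option autoImplicit false
universe u v w
open TensorProduct
open PrincBund

namespace Groth.Agent.S14539

open TensorProduct
set_option backward.isDefEq.respectTransparency false

/-- Let k be an algebraically closed field of characteristic 0, A a commutative Hopf algebra over k (the
coordinate ring of an affine group scheme G over k, not necessarily of finite type) and V a right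
A-comodule, of any dimension. If a k-subspace W of V is mapped into itself by the action of every
k-rational point of G (every k-algebra homomorphism A → k, acting on V through the coaction), then W
is a subcomodule of V. -/
theorem result (k : Type u) (A : Type v) [Field k] [IsAlgClosed k]
    [CharZero k] [CommRing A] [HopfAlgebra k A]
    (V : Type w) [AddCommGroup V] [Module k V] [HopfRep.Comod k A V] (W : Submodule k V)
    (hW : ∀ g : A →ₐ[k] k, W.map (HopfRep.Comod.act k A V g) ≤ W) :
    HopfRep.IsSubcomod (k := k) (A := A) W := by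
  have hred : ∀ a : A, IsNilpotent a → a = 0 := by
    intro a ha
    obtain ⟨D, hs, hD, hDs⟩ := Groth.Agent.HopfRange.exists_fg_isSubHopf (k := k) ({a} : Finset A)
    have haD : a ∈ D := hs (by simp)
    haveI : Algebra.FiniteType k D := (Subalgebra.fg_iff_finiteType D).1 hD
    letI := Groth.Agent.FinHopf.subHopf D (fun b hb => hDs.1 b hb) (fun b hb => hDs.2 b hb)
    haveI : IsReduced D := Groth.Agent.HopfCartier.isReduced (k := k)
    obtain ⟨n, hn⟩ := ha
    exact congrArg Subtype.val (IsNilpotent.eq_zero (x := (⟨a, haD⟩ : D)) ⟨n, Subtype.ext (by simpa using hn)⟩)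
  intro w hw
  rw [Groth.Agent.Comod.mem_range_rTensor_iff]
  intro f
  by_contra hc
  obtain ⟨φ, hφ1, hφ2⟩ := Submodule.exists_dual_map_eq_bot_of_notMem hc inferInstance
  rw [← Groth.Agent.Comod.cR_cL] at hφ1
  obtain ⟨G, hG⟩ := Groth.Agent.HopfPoint.exists_point_ne_zero (k := k)
    (a := Groth.Agent.Comod.cL φ (HopfRep.Comod.coact (k := k) (A := A) w))
    fun hn => hφ1 (by rw [hred _ hn, map_zero])
  apply hG
  rw [← AlgHom.toLinearMap_apply, Groth.Agent.Comod.cR_cL]
  have h1 := hW G ⟨w, hw, rfl⟩
  exact (Submodule.mem_bot k).1 (hφ2 ▸ Submodule.mem_map_of_mem h1)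

end Groth.Agent.S14539
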