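import Groth.Statements.S14547
import Groth.Agent.Torsor.Descent

set_option autoImplicit false
universe u
open CategoryTheory MonoidalCategory CartesianMonoidalCategory MonObj GrpObj AlgebraicGeometry
open PrincBund

namespace Groth.Agent.S14547

/-- Let f : X' → X be a faithfully flat quasi-compact morphism of schemes, J a group scheme affine over
X with an action a on an X-scheme P, and a' the induced action of the base change J' = J ×_X X' on
P' = P ×_X X'. Then P with a is a J-torsor for the fpqc topology if and only if P' with a' is a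
J'-torsor for the fpqc topology. (The published statement allows any morphism X' → X that is
covering for the fpqc topology, and an action of a pregroupoid; this row is the case of a faithfully
flat quasi-compact X' → X and the trivial pregroupoid.) -/
theorem result {X X' : Scheme.{u}} (f : X' ⟶ X)
    [Flat f] [Surjective f] [QuasiCompact f]
    {J P : Over X} [GrpObj J] [IsAffineHom J.hom] (a : AlgGrp.Action J P)
    (a' : AlgGrp.Action (Red.bc f J) (Red.bc f P))
    (ha' : Functor.LaxMonoidal.μ (Over.pullback f) J P ≫ (Over.pullback f).map a.act = a'.act) :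
    NonAbH1.IsTorsorFor Scheme.fpqcPrecoverage a ↔ NonAbH1.IsTorsorFor Scheme.fpqcPrecoverage a' := by
  have e : a' = a.bc f := AlgGrp.Action.ext' (by rw [AlgGrp.Action.bc_act]; exact ha'.symm)
  subst e
  refine ⟨fun h ↦ NonAbH1.isTorsorFor_bc f _ h, fun h ↦ ⟨?_, ?_⟩⟩
  · have key : lift (a.bc f).act (snd _ _) ≫ Functor.LaxMonoidal.μ (Over.pullback f) P P =
        Functor.LaxMonoidal.μ (Over.pullback f) J P ≫ (Over.pullback f).map (lift a.act (snd J P)) := by
      rw [← Functor.Monoidal.lift_μ, comp_lift_assoc, Functor.Monoidal.μ_snd, AlgGrp.Action.bc_act]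
    have : IsIso (lift (a.bc f).act (snd _ _)) := h.1
    have : IsIso (Functor.LaxMonoidal.μ (Over.pullback f) J P ≫ (Over.pullback f).map (lift a.act (snd J P))) := by
      rw [← key]; infer_instance
    have : IsIso ((Over.pullback f).map (lift a.act (snd J P))) :=
      IsIso.of_isIso_comp_left (Functor.LaxMonoidal.μ (Over.pullback f) J P) _
    exact Groth.Agent.Torsor.isIso_of_pullback f _
  · obtain ⟨R, hR, hs⟩ := h.2
    obtain ⟨R', hR', hR''⟩ := Groth.Agent.Torsor.exists_comp_covering f hR
    refine ⟨R', hR', fun S' g hg ↦ ?_⟩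
    obtain ⟨g', hg', rfl⟩ := hR'' g hg
    obtain ⟨s, hs'⟩ := hs g' hg'
    refine ⟨s ≫ Limits.pullback.fst P.hom f, ?_⟩
    rw [Category.assoc, Limits.pullback.condition, ← Category.assoc]
    exact congrArg (· ≫ f) hs'

end Groth.Agent.S14547
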