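import Groth.Statements.S1455
import Mathlib
import Groth.Agent.FlatModBC.StratFlat

set_option autoImplicit false
universe u
set_option linter.style.haveILetI false
set_option backward.isDefEq.respectTransparency false
open FlatMor

namespace Groth.Agent.S1455


section
open AlgebraicGeometry CategoryTheory Limits

variable {X S : Scheme.{u}}

/-- The flatness condition on the stratum between two closed subschemes. -/
def Good (f : X ⟶ S) (F : X.Modules) (K L : S.IdealSheafData) : Prop :=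
  FlatMod.IsFlatOver (pullback.snd f ((K.subschemeι ⁻¹ᵁ L.support.compl).ι ≫ K.subschemeι))
    ((Scheme.Modules.pullback (pullback.fst f ((K.subschemeι ⁻¹ᵁ L.support.compl).ι ≫ K.subschemeι))).obj F)

/-- The finite type ideals. -/
def FT (K : S.IdealSheafData) : Prop := ∀ U, (K.ideal U).FG

/-- One step of the stratification. -/
def Step (f : X ⟶ S) (F : X.Modules) (K L : S.IdealSheafData) : Prop := K ≤ L ∧ FT L ∧ Good f F K L

theorem good_of_empty (f : X ⟶ S) (F : X.Modules) (K L : S.IdealSheafData)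
    (h : ∀ x, x ∈ K.support → x ∈ L.support) : Good f F K L := fun x' => by
  have t := (pullback.snd f ((K.subschemeι ⁻¹ᵁ L.support.compl).ι ≫ K.subschemeι)) x'
  exact absurd (h _ t.1.2) t.2

theorem ft_sup {K L : S.IdealSheafData} (hK : FT K) (hL : FT L) : FT (K ⊔ L) := fun U => by
  rw [Scheme.IdealSheafData.ideal_sup]; exact Submodule.FG.sup (hK U) (hL U)

theorem ft_mul {K L : S.IdealSheafData} (hK : FT K) (hL : FT L) : FT (K * L) := fun U => by
  rw [Scheme.IdealSheafData.ideal_mul]; exact Ideal.FG.mul (hK U) (hL U)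

theorem ft_bot : FT (⊥ : S.IdealSheafData) := fun U => by
  rw [Scheme.IdealSheafData.ideal_bot]; exact Submodule.fg_bot

theorem ft_top : FT (⊤ : S.IdealSheafData) := fun U => by
  rw [Scheme.IdealSheafData.ideal_top]; exact Ideal.fg_top _

theorem good_of_chart (f : X ⟶ S) (F : X.Modules) [hq : Coh.IsQCoh F] (U : S.affineOpens)
    (Ws : Finset X.affineOpens) (hWs : (f ⁻¹ᵁ U.1 : Set X) = ⋃ W ∈ Ws, (W.1 : Set X))
    (K L K' : S.IdealSheafData) (hsupp : ∀ x, x ∈ K.support → x ∈ U.1 ∨ x ∈ L.support)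
    (J J' : Ideal Γ(S, U.1)) (h : Γ(S, U.1)) (hb : J * K'.ideal U ≤ K.ideal U)
    (hc' : L.ideal U ≤ K.ideal U ⊔ J' * K'.ideal U) (hd : J' ≤ (J ⊔ Ideal.span {h}).radical)
    (hfree : ∀ W ∈ Ws, ∀ e : W.1 ≤ f ⁻¹ᵁ U.1,
      letI : Module Γ(S, U.1) Γ(F, W.1) := Module.compHom Γ(F, W.1) (f.appLE U.1 W.1 e).hom
      FlatModBC.FreeOn Γ(F, W.1) J h) : Good f F K L := by
  unfold Good
  let g : ((K.subschemeι ⁻¹ᵁ L.support.compl) : Scheme.{u}) ⟶ S :=
    (K.subschemeι ⁻¹ᵁ L.support.compl).ι ≫ K.subschemeι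
  exact FlatModBC.isFlatOver_stratum F
    ((IsPullback.of_hasPullback f g : IsPullback (pullback.fst f g) (pullback.snd f g) f g)) U Ws hWs K L K'
    (K.ker_subschemeι.ge.trans (Scheme.Hom.le_ker_comp _ _)) (fun t => t.2)
    (fun t => (hsupp _ t.1.2).resolve_right t.2) J J' h hb hc' hd hfree

set_option maxHeartbeats 800000 in
theorem reach_affine (f : X ⟶ S) [LocallyOfFinitePresentation f] [QuasiCompact f]
    [CompactSpace ↑S] [QuasiSeparatedSpace ↑S] (F : X.Modules) [hq : Coh.IsQCoh F] (hfp : CohB1.IsFP F)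
    (U : S.affineOpens) (K K' : S.IdealSheafData) (hK : FT K) (hK' : FT K') (hKK' : K ≤ K')
    (hsupp : ∀ x, x ∈ K.support → x ∈ U.1 ∨ x ∈ K'.support) : Relation.ReflTransGen (Step f F) K K' := by
  classical
  obtain ⟨Ws, hWs⟩ : ∃ t : Finset X.affineOpens, (f ⁻¹ᵁ U.1 : Set X) = ⋃ W ∈ t, (W.1 : Set X) := by
    have h := (isCompact_and_isOpen_iff_finite_and_eq_biUnion_affineOpens (X := X)).1
      ⟨f.isCompact_preimage U.2.isCompact, (f ⁻¹ᵁ U.1).2⟩
    obtain ⟨t, ht, ht'⟩ := h
    exact ⟨ht.toFinset, by simpa using ht'⟩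
  let ι := Fin Ws.card
  let w : ι → X.affineOpens := fun k => (Ws.equivFin.symm k).1
  have e : ∀ k, (w k).1 ≤ f ⁻¹ᵁ U.1 := fun k x hx => by
    have : x ∈ (f ⁻¹ᵁ U.1 : Set X) := by
      rw [hWs]; exact Set.mem_biUnion (Ws.equivFin.symm k).2 hx
    exact this
  let B : ι → Type u := fun k => Γ(X, (w k).1)
  let M : ι → Type u := fun k => Γ(F, (w k).1)
  letI : ∀ k, Algebra Γ(S, U.1) (B k) := fun k => (f.appLE U.1 (w k).1 (e k)).hom.toAlgebra
  haveI : ∀ k, Algebra.FinitePresentation Γ(S, U.1) (B k) := fun k =>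
    LocallyOfFinitePresentation.finitePresentation_appLE f U.2 (w k).2 (e k)
  letI : ∀ k, Module Γ(S, U.1) (M k) := fun k =>
    Module.compHom Γ(F, (w k).1) (f.appLE U.1 (w k).1 (e k)).hom
  haveI : ∀ k, IsScalarTower Γ(S, U.1) (B k) (M k) := fun k => IsScalarTower.of_algebraMap_smul fun _ _ => rfl
  haveI : ∀ k, Module.FinitePresentation (B k) (M k) := fun k => LocFree.finitePresentation_sections_of_isFP hq hfp (w k).2
  obtain ⟨l, J, hl, hJtop, hJfg, hJrad, hJmem, hfree⟩ := FlatModBC.exists_strat (A := Γ(S, U.1)) B M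
  choose L₀ hL₀fg hL₀ using fun i => FlatModBC.exists_fg_extend U (J i) (hJfg i)
  obtain ⟨L, hL0, hLs⟩ : ∃ L : ℕ → S.IdealSheafData, L 0 = L₀ 0 ∧ ∀ i, L (i + 1) = L i ⊔ L₀ (i + 1) :=
    ⟨fun i => Nat.rec (L₀ 0) (fun i L => L ⊔ L₀ (i + 1)) i, rfl, fun _ => rfl⟩
  have hLfg : ∀ i, FT (L i) := by
    intro i
    induction i with
    | zero => rw [hL0]; exact hL₀fg 0
    | succ i ih => rw [hLs]; exact ft_sup ih (hL₀fg _)
  obtain ⟨J', hJ'⟩ : ∃ J' : ℕ → Ideal Γ(S, U.1), ∀ i, J' i = (L i).ideal U := ⟨_, fun _ => rfl⟩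
  have hJ'rad : ∀ i, J' i ≤ (Ideal.span {a | a ∈ l.take i}).radical := by
    intro i
    induction i with
    | zero => rw [hJ', hL0, hL₀]; exact hJrad 0
    | succ i ih =>
      rw [hJ', hLs, Scheme.IdealSheafData.ideal_sup]
      rw [hJ'] at ih
      refine sup_le (ih.trans (Ideal.radical_mono (Ideal.span_mono fun a ha => ?_))) ((hL₀ (i + 1)).trans_le (hJrad _))
      exact List.take_subset_take_left l i.le_succ ha
  have hJ'mem : ∀ i, J i ≤ J' i := by
    intro i
    cases i with
    | zero => rw [hJ', hL0, hL₀]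
    | succ i =>
      rw [hJ', hLs, Scheme.IdealSheafData.ideal_sup]
      exact (hL₀ (i + 1)).ge.trans le_sup_right
  obtain ⟨I, hIdef⟩ : ∃ I : ℕ → S.IdealSheafData, ∀ i, I i = K ⊔ L i * K' := ⟨_, fun _ => rfl⟩
  have hI : ∀ i, FT (I i) := fun i => by rw [hIdef]; exact ft_sup hK (ft_mul (hLfg i) hK')
  have hKI : ∀ i, K ≤ I i := fun i => by rw [hIdef]; exact le_sup_left
  have hIK' : ∀ i, I i ≤ K' := fun i => (hIdef i).trans_le <| sup_le hKK' fun V => by
    rw [Scheme.IdealSheafData.ideal_mul]; exact Ideal.mul_le_right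
  have hIU : ∀ i, (I i).ideal U = K.ideal U ⊔ J' i * K'.ideal U := fun i => by
    simp only [hIdef, hJ', Scheme.IdealSheafData.ideal_sup, Scheme.IdealSheafData.ideal_mul, Pi.sup_apply, Pi.mul_apply]
  have first : Step f F K (I 0) := by
    refine ⟨hKI 0, hI 0, good_of_empty f F _ _ fun x hx => ?_⟩
    rw [hIdef, Scheme.IdealSheafData.support_sup, Scheme.IdealSheafData.support_mul]
    refine ⟨hx, (hsupp x hx).imp (fun hxU => ?_) id⟩
    rw [SetLike.mem_coe, Scheme.IdealSheafData.mem_support_iff_of_mem hxU, Scheme.mem_zeroLocus_iff]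
    intro a ha hax
    obtain ⟨n, hn⟩ := hJ'rad 0 ((hJ' 0).ge ha)
    simp only [List.take_zero, List.not_mem_nil, Set.ofPred_false, Ideal.span_empty, Ideal.mem_bot] at hn
    have h0 : x ∈ S.basicOpen (a ^ (n + 1)) := by
      rw [Scheme.basicOpen_pow]; exacts [hax, n.succ_pos]
    rw [pow_succ, hn, zero_mul, Scheme.basicOpen_zero] at h0
    exact h0
  have last : Step f F (I l.length) K' := by
    refine ⟨hIK' _, hK', good_of_empty f F _ _ fun x hx => ?_⟩
    have hx' : x ∈ K.support := Scheme.IdealSheafData.support_antitone (hKI _) hx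
    refine (hsupp x hx').elim (fun hxU => ?_) id
    have hle : K'.ideal U ≤ (I l.length).ideal U := by
      rw [hIU, top_unique (hJtop.ge.trans (hJ'mem _)), Ideal.top_mul]
      exact le_sup_right
    rw [Scheme.IdealSheafData.mem_support_iff_of_mem hxU, Scheme.mem_zeroLocus_iff] at hx ⊢
    exact fun a ha => hx a (hle ha)
  have mid : ∀ i, i < l.length → Step f F (I i) (I (i + 1)) := by
    intro i hi
    have hmono : I i ≤ I (i + 1) := fun V => by
      simp only [hIdef, Scheme.IdealSheafData.ideal_sup, Scheme.IdealSheafData.ideal_mul, Pi.sup_apply, Pi.mul_apply]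
      exact sup_le_sup_left (Ideal.mul_mono_left (by
        rw [hLs, Scheme.IdealSheafData.ideal_sup]; exact le_sup_left)) _
    refine ⟨hmono, hI _, ?_⟩
    refine good_of_chart f F U Ws hWs (I i) (I (i + 1)) K' (fun x hx => ?_) (J i) (J' (i + 1)) l[i] ?_ ?_ ?_ ?_
    · exact (hsupp x (Scheme.IdealSheafData.support_antitone (hKI i) hx)).imp id
        fun h => Scheme.IdealSheafData.support_antitone (hIK' _) h
    · rw [hIU]
      exact (Ideal.mul_mono_left (hJ'mem i)).trans le_sup_right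
    · rw [hIU (i + 1)]
      exact sup_le_sup_right (hKI i U) _
    · refine (hJ'rad (i + 1)).trans (Ideal.radical_mono (Ideal.span_le.2 fun a ha => ?_))
      simp only [List.take_add_one, List.getElem?_eq_getElem hi, Option.toList_some, Set.mem_setOf_eq,
        List.mem_append, List.mem_singleton] at ha
      rcases ha with ha | rfl
      · exact Ideal.mem_sup_left (hJmem i (Ideal.subset_span ha))
      · exact Ideal.mem_sup_right (Ideal.mem_span_singleton_self _)
    · intro W hW e'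
      obtain ⟨k, rfl⟩ : ∃ k, w k = W := ⟨Ws.equivFin ⟨W, hW⟩, by simp [w]⟩
      exact hfree i hi k
  have chain : ∀ i, i ≤ l.length → Relation.ReflTransGen (Step f F) (I i) K' := fun i hi =>
    Nat.decreasingInduction (motive := fun i _ => Relation.ReflTransGen (Step f F) (I i) K')
      (fun i hi ih => ih.head (mid i hi)) (.single last) hi
  exact (chain 0 (Nat.zero_le _)).head first

theorem exists_fin_chain (f : X ⟶ S) (F : X.Modules) {K L : S.IdealSheafData} (hK : FT K)
    (h : Relation.ReflTransGen (Step f F) K L) :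
    ∃ (t : ℕ) (I : Fin (t + 1) → S.IdealSheafData), I 0 = K ∧ I (Fin.last t) = L ∧ (∀ i, FT (I i)) ∧
      ∀ i : Fin t, I i.castSucc ≤ I i.succ ∧ Good f F (I i.castSucc) (I i.succ) := by
  induction h with
  | refl => exact ⟨0, fun _ => K, rfl, rfl, fun _ => hK, fun i => i.elim0⟩
  | @tail b c _ hbc ih =>
    obtain ⟨t, I, h0, hlast, hft, hstep⟩ := ih
    refine ⟨t + 1, Fin.snoc I c, ?_, Fin.snoc_last _ _, fun i => ?_, fun i => ?_⟩
    · rw [show (0 : Fin (t + 1 + 1)) = Fin.castSucc 0 from rfl, Fin.snoc_castSucc, h0]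
    · induction i using Fin.lastCases with
      | last => rw [Fin.snoc_last]; exact hbc.2.1
      | cast i => rw [Fin.snoc_castSucc]; exact hft i
    · induction i using Fin.lastCases with
      | last => rw [Fin.snoc_castSucc, Fin.succ_last, Fin.snoc_last, hlast]; exact ⟨hbc.1, hbc.2.2⟩
      | cast i =>
        rw [Fin.snoc_castSucc, ← Fin.castSucc_succ, Fin.snoc_castSucc]
        exact hstep i

theorem reach (f : X ⟶ S) [LocallyOfFinitePresentation f] [QuasiCompact f]
    [CompactSpace ↑S] [QuasiSeparatedSpace ↑S] (F : X.Modules) [Coh.IsQCoh F] (hfp : CohB1.IsFP F) :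
    Relation.ReflTransGen (Step f F) (⊥ : S.IdealSheafData) ⊤ := by
  classical
  obtain ⟨t, ht⟩ := isCompact_univ.elim_finite_subcover (fun V : S.affineOpens => (V.1 : Set S))
    (fun V => V.1.2) (fun x _ => by
      obtain ⟨V, hV, hxV, -⟩ := exists_isAffineOpen_mem_and_subset (x := x) (U := ⊤) trivial
      exact Set.mem_iUnion.mpr ⟨⟨V, hV⟩, hxV⟩)
  have key : ∀ s : Finset S.affineOpens, ∃ K : S.IdealSheafData, FT K ∧
      (∀ x, x ∈ K.support ↔ ∀ V ∈ s, x ∉ V.1) ∧ Relation.ReflTransGen (Step f F) ⊥ K := by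
    intro s
    induction s using Finset.induction_on with
    | empty => exact ⟨⊥, ft_bot, fun x => by simp [Scheme.IdealSheafData.support_bot]; exact trivial, .refl⟩
    | insert V s _ ih =>
      obtain ⟨K, hK, hsupp, hr⟩ := ih
      obtain ⟨I, -, -, -, -, -, -, hIfg, hI⟩ := QC.exists_ftIdeal V.1 V.2.isCompact
      have hKI : FT (K ⊔ I) := ft_sup hK hIfg
      have hmem : ∀ x, x ∈ (K ⊔ I).support ↔ x ∈ K.support ∧ x ∉ V.1 := fun x => by
        rw [Scheme.IdealSheafData.support_sup]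
        exact and_congr Iff.rfl (Set.ext_iff.1 hI x)
      refine ⟨K ⊔ I, hKI, fun x => ?_, hr.trans (reach_affine f F hfp V K _ hK hKI le_sup_left fun x hx => ?_)⟩
      · rw [hmem, hsupp, Finset.forall_mem_insert, and_comm]
      · by_cases hxV : x ∈ V.1
        · exact Or.inl hxV
        · exact Or.inr ((hmem x).2 ⟨hx, hxV⟩)
  obtain ⟨K, -, hsupp, hr⟩ := key t
  have : K = ⊤ := by
    refine (Scheme.IdealSheafData.support_eq_bot_iff _).1 (eq_bot_iff.2 fun x hx => ?_)
    obtain ⟨V, hV, hxV⟩ := Set.mem_iUnion₂.mp (ht (Set.mem_univ x))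
    exact absurd hxV ((hsupp x).1 hx V hV)
  exact this ▸ hr

end

open AlgebraicGeometry CategoryTheory Limits in
/-- Let f : X → S be of finite presentation with X and S quasi-compact and quasi-separated, and F a
finitely presented quasi-coherent O_X-module. Then there are t ≥ 0 and ideal sheaves I_0 ≤ I_1 ≤ ...
≤ I_t = O_S on S, each of finite type, with I_0 cutting out a thickening of S (its support is all of
S), such that for each i the pullback of F to the part of X over the locally closed stratum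
supp(I_i) ∖ supp(I_{i+1}) is flat over that stratum. -/
theorem result {X S : Scheme.{u}} (f : X ⟶ S) [LocallyOfFinitePresentation f] [QuasiCompact f] [QuasiSeparated f]
    [CompactSpace ↑S] [QuasiSeparatedSpace ↑S] (F : X.Modules) (hq : Coh.IsQCoh F) (hfp : CohB1.IsFP F) :
    ∃ (t : ℕ) (I : Fin (t + 1) → S.IdealSheafData), Monotone I ∧ I (Fin.last t) = ⊤ ∧ ((I 0).support : Set ↑S) = Set.univ ∧
      (∀ i, ∀ U : S.affineOpens, ((I i).ideal U).FG) ∧
      ∀ i : Fin t, FlatMod.IsFlatOver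
        (pullback.snd f (((I i.castSucc).subschemeι ⁻¹ᵁ (I i.succ).support.compl).ι ≫ (I i.castSucc).subschemeι))
        ((Scheme.Modules.pullback (pullback.fst f (((I i.castSucc).subschemeι ⁻¹ᵁ (I i.succ).support.compl).ι ≫ (I i.castSucc).subschemeι))).obj F) := by
  haveI := hq
  obtain ⟨t, I, h0, hlast, hft, hstep⟩ := exists_fin_chain f F ft_bot (reach f F hfp)
  refine ⟨t, I, Fin.monotone_iff_le_succ.2 fun i => (hstep i).1, hlast, ?_, hft, fun i => (hstep i).2⟩
  rw [h0, Scheme.IdealSheafData.support_bot]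
  rfl

end Groth.Agent.S1455
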