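import Groth.Statements.S14576
import Groth.Agent.GammaProd.QAGroup
import Groth.Agent.GrpField.QAAffine
import Groth.Agent.GrpAct.Basic
import Mathlib.AlgebraicGeometry.ZariskisMainTheorem

set_option autoImplicit false
universe u
open CategoryTheory MonoidalCategory CartesianMonoidalCategory MonObj GrpObj AlgebraicGeometry CategoryTheory.Limits
open AlgGrp

namespace Groth.Agent.S14576

/-- Let k be a field and G a k-group scheme of finite type acting on an affine k-scheme X. If the action
is faithful, in the sense that for every k-scheme T a T-valued point of G acting as the identity on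
X_T is the unit, then G is affine. -/
theorem result (k : Type u) [Field k]
    (G X : Over (Spec (CommRingCat.of k))) [GrpObj G] [LocallyOfFiniteType G.hom] [QuasiCompact G.hom] [IsAffine X.left]
    (a : AlgGrp.Action G X)
    (hf : ∀ (T : Over (Spec (CommRingCat.of k))) (g : T ⟶ G),
      (∀ (T' : Over (Spec (CommRingCat.of k))) (t : T' ⟶ T) (x : T' ⟶ X), lift (t ≫ g) x ≫ a.act = x) → g = 1) :
    IsAffine G.left := by
  haveI : IsSeparated G.hom := Groth.Agent.GrpField.isSeparated_hom G
  haveI : CompactSpace G.left := QuasiCompact.compactSpace_of_compactSpace G.hom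
  haveI : G.left.IsSeparated := ⟨by
    have : IsSeparated (G.hom ≫ terminal.from _) := inferInstance
    rwa [terminal.comp_from] at this⟩
  have key : ∀ (T : Over (Spec (CommRingCat.of k))) (g g' : T ⟶ G) (x : T ⟶ X),
      g.left.appTop = g'.left.appTop → lift g x ≫ a.act = lift g' x ≫ a.act := by
    intro T g g' x h
    ext : 1
    apply ext_of_isAffine
    ext φ
    obtain ⟨n, c, d, hcd⟩ := Groth.Agent.GammaProd.exists_sum (p := pullback.fst G.hom X.hom)
      (q := pullback.snd G.hom X.hom) (Groth.Agent.GammaProd.flat_appTop_field X.hom)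
      (IsPullback.of_hasPullback G.hom X.hom) (a.act.left.appTop φ)
    have hpull : ∀ g : T ⟶ G, (lift g x ≫ a.act).left.appTop φ =
        ∑ i, g.left.appTop (c i) * x.left.appTop (d i) := by
      intro g
      rw [Over.comp_left, Groth.Agent.GammaProd.appTop_comp_apply]
      erw [hcd]
      exact Groth.Agent.GammaProd.appTop_sum _ c d (pullback.lift_fst g.left x.left ((Over.w g).trans (Over.w x).symm)) (pullback.lift_snd g.left x.left ((Over.w g).trans (Over.w x).symm))
    erw [hpull g, hpull g']
    exact Finset.sum_congr rfl fun i _ => by rw [h]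
  haveI : Mono G.left.toSpecΓ := ⟨fun {T} p q hpq => by
    have happ : p.appTop = q.appTop := by
      have := congrArg (fun m : T ⟶ Spec Γ(G.left, ⊤) => m.appTop) hpq
      simp only [Scheme.Hom.comp_appTop, Scheme.toSpecΓ_appTop] at this
      exact (cancel_epi _).1 this
    have hhom : p ≫ G.hom = q ≫ G.hom := ext_of_isAffine (by
      rw [Scheme.Hom.comp_appTop, Scheme.Hom.comp_appTop, happ])
    let T₀ : Over (Spec (CommRingCat.of k)) := Over.mk (p ≫ G.hom)
    let g : T₀ ⟶ G := Over.homMk p rfl
    let g' : T₀ ⟶ G := Over.homMk q hhom.symm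
    have h := hf T₀ (g⁻¹ * g') fun T' t x => by
      rw [MonObj.comp_mul, GrpObj.comp_inv, Groth.Agent.GrpAct.mul_smul,
        key T' (t ≫ g') (t ≫ g) x (by
          rw [Over.comp_left, Over.comp_left, Scheme.Hom.comp_appTop, Scheme.Hom.comp_appTop]
          exact congrArg (· ≫ t.left.appTop) happ.symm),
        ← Groth.Agent.GrpAct.mul_smul, inv_mul_cancel, Groth.Agent.GrpAct.one_smul']
    exact (congrArg (fun m : T₀ ⟶ G => m.left) ((inv_mul_eq_one (G := (T₀ ⟶ G))).mp h) : g.left = g'.left)⟩
  haveI : LocallyOfFiniteType G.left.toSpecΓ := by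
    haveI : LocallyOfFiniteType (G.left.toSpecΓ ≫ Spec.map G.hom.appTop) := by
      rw [← Scheme.toSpecΓ_naturality]; infer_instance
    exact locallyOfFiniteType_of_comp _ (Spec.map G.hom.appTop)
  haveI : IsSeparated G.left.toSpecΓ := inferInstance
  haveI : QuasiCompact G.left.toSpecΓ := inferInstance
  haveI : LocallyQuasiFinite G.left.toSpecΓ := inferInstance
  haveI : IsAffine G.left.toSpecΓ.normalization := isAffine_of_isAffineHom G.left.toSpecΓ.fromNormalization
  haveI : G.left.IsQuasiAffine := Scheme.IsQuasiAffine.of_isImmersion G.left.toSpecΓ.toNormalization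
  exact Groth.Agent.GammaProd.isAffine_of_isQuasiAffine k G


end Groth.Agent.S14576
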