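import Groth.Statements.S1458
import Mathlib

set_option autoImplicit false
universe u
open FlatMor

namespace Groth.Agent.S1458

open TensorProduct in
/-- Let A → B be a finite ring map of finite presentation. Then there are a finitely presented A-algebra
A_u and an idempotent e_u of B ⊗_A A_u such that for every A-algebra A' and every idempotent e of B
⊗_A A' there is an A-algebra map A_u → A' whose induced map B ⊗ A_u → B ⊗ A' sends e_u to e. -/
theorem result {A B : Type u} [CommRing A] [CommRing B] [Algebra A B] [Module.Finite A B] [Algebra.FinitePresentation A B] :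
    ∃ (Au : Type u) (_ : CommRing Au) (_ : Algebra A Au) (eu : B ⊗[A] Au), Algebra.FinitePresentation A Au ∧ IsIdempotentElem eu ∧
      ∀ (A' : Type u) [CommRing A'] [Algebra A A'] (e : B ⊗[A] A'), IsIdempotentElem e →
        ∃ φ : Au →ₐ[A] A', Algebra.TensorProduct.map (AlgHom.id A B) φ eu = e := by
  classical
  haveI : Module.FinitePresentation A B := Module.FinitePresentation.of_finite_of_finitePresentation A B
  obtain ⟨n, π, hπ⟩ := Module.Finite.exists_fin' A B
  have hker : (LinearMap.ker π).FG := Module.FinitePresentation.fg_ker π hπ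
  obtain ⟨m, r, hr⟩ := Submodule.fg_iff_exists_fin_generating_family.mp hker
  let rmap : (Fin m → A) →ₗ[A] (Fin n → A) := Fintype.linearCombination A r
  have hex : Function.Exact rmap π := by
    rw [LinearMap.exact_iff, ← hr, Fintype.range_linearCombination]
  have hπr : ∀ l, π (r l) = 0 := fun l => by
    have : r l ∈ LinearMap.ker π := hr ▸ Submodule.subset_span ⟨l, rfl⟩
    exact this
  let b : Fin n → B := fun i => π (Pi.single i 1)
  have hb : ∀ v : Fin n → A, π v = ∑ i, v i • b i := fun v => by
    conv_lhs => rw [pi_eq_sum_univ' v]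
    simp [b]
  choose t ht using fun j k => hπ (b j * b k)
  have sum_eq : ∀ (C : Type u) [CommRing C] [Algebra A C] (w : Fin n → A) (c : C),
      π w ⊗ₜ[A] c = ∑ i, b i ⊗ₜ[A] (w i • c) := fun C _ _ w c => by
    rw [hb, sum_tmul]
    exact Finset.sum_congr rfl fun i _ => by rw [smul_tmul]
  have sq : ∀ (C : Type u) [CommRing C] [Algebra A C] (x : Fin n → C),
      (∑ i, b i ⊗ₜ[A] x i) * (∑ i, b i ⊗ₜ[A] x i) =
        ∑ i, b i ⊗ₜ[A] (∑ j, ∑ k, t j k i • (x j * x k)) := fun C _ _ x => by
    rw [Finset.sum_mul_sum]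
    simp_rw [tmul_sum]
    rw [Finset.sum_comm (s := Finset.univ) (t := Finset.univ)
      (f := fun i j => ∑ k, b i ⊗ₜ[A] (t j k i • (x j * x k)))]
    refine Finset.sum_congr rfl fun j _ => ?_
    rw [Finset.sum_comm (s := Finset.univ) (t := Finset.univ)
      (f := fun i k => b i ⊗ₜ[A] (t j k i • (x j * x k)))]
    refine Finset.sum_congr rfl fun k _ => ?_
    rw [Algebra.TensorProduct.tmul_mul_tmul, ← ht j k, sum_eq]
  let P := MvPolynomial (Fin n ⊕ Fin m) A
  let q : Fin n → P := fun i => (∑ j, ∑ k, t j k i • (MvPolynomial.X (Sum.inl j) * MvPolynomial.X (Sum.inl k)))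
    - MvPolynomial.X (Sum.inl i) - ∑ l, r l i • MvPolynomial.X (Sum.inr l)
  let I : Ideal P := Ideal.span (Set.range q)
  let x : Fin n → P ⧸ I := fun i => Ideal.Quotient.mkₐ A I (MvPolynomial.X (Sum.inl i))
  let y : Fin m → P ⧸ I := fun l => Ideal.Quotient.mkₐ A I (MvPolynomial.X (Sum.inr l))
  have hxy : ∀ i, ∑ j, ∑ k, t j k i • (x j * x k) = x i + ∑ l, r l i • y l := fun i => by
    have h0 : Ideal.Quotient.mkₐ A I (q i) = 0 :=
      Ideal.Quotient.eq_zero_iff_mem.mpr (Ideal.subset_span ⟨i, rfl⟩)
    simp only [q, map_sub, map_sum, map_smul, map_mul] at h0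
    rw [sub_sub, sub_eq_zero] at h0
    exact h0
  refine ⟨P ⧸ I, inferInstance, inferInstance, ∑ i, b i ⊗ₜ x i,
    Algebra.FinitePresentation.quotient (Submodule.fg_span (Set.finite_range q)), ?_, ?_⟩
  · show _ * _ = _
    rw [sq]
    simp_rw [hxy, tmul_add, Finset.sum_add_distrib, tmul_sum]
    rw [Finset.sum_comm, Finset.sum_eq_zero (s := (Finset.univ : Finset (Fin m))) (fun l _ => by
      rw [← sum_eq _ (r l) (y l), hπr, zero_tmul]), add_zero]
  · intro A' _ _ e he
    obtain ⟨a, rfl⟩ : ∃ a : Fin n → A', (∑ i, b i ⊗ₜ[A] a i) = e := by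
      clear he
      induction e using TensorProduct.induction_on with
      | zero => exact ⟨0, by simp⟩
      | tmul v c =>
        obtain ⟨w, rfl⟩ := hπ v
        exact ⟨fun i => w i • c, (sum_eq A' w c).symm⟩
      | add u v hu hv =>
        obtain ⟨au, rfl⟩ := hu
        obtain ⟨av, rfl⟩ := hv
        exact ⟨au + av, by simp [tmul_add, Finset.sum_add_distrib]⟩
    let d : Fin n → A' := fun i => (∑ j, ∑ k, t j k i • (a j * a k)) - a i
    have hd : ∑ i, b i ⊗ₜ[A] d i = 0 := by
      simp only [d, tmul_sub, Finset.sum_sub_distrib, ← sq]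
      rw [he.eq, sub_self]
    have hd' : π.lTensor A' (∑ i, d i ⊗ₜ[A] Pi.single i (1 : A)) = 0 := by
      apply (TensorProduct.comm A A' B).injective
      simpa [b] using hd
    obtain ⟨z, hz⟩ := (lTensor_exact A' hex hπ _).mp hd'
    let c : Fin m → A' := TensorProduct.piScalarRight A A A' (Fin m) z
    have hdc : ∀ i, d i = ∑ l, r l i • c l := by
      intro i
      have h1 : TensorProduct.piScalarRight A A A' (Fin n) (rmap.lTensor A' z) i = ∑ l, r l i • c l := by
        clear hz
        simp only [c]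
        induction z using TensorProduct.induction_on with
        | zero => simp
        | tmul u v =>
          simp [rmap, Fintype.linearCombination_apply, Finset.sum_smul, smul_smul, mul_comm]
        | add u v hu hv =>
          simp only [map_add, Pi.add_apply, smul_add, Finset.sum_add_distrib, hu, hv]
      rw [← h1, hz]
      simp [Pi.single_apply]
    let ψ : P →ₐ[A] A' := MvPolynomial.aeval (Sum.elim a c)
    have hψ : ∀ p ∈ I, ψ p = 0 := by
      intro p hp
      refine (Ideal.span_le.mpr ?_ : I ≤ RingHom.ker ψ) hp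
      rintro _ ⟨i, rfl⟩
      show ψ (q i) = 0
      have hval : ∀ s, ψ (MvPolynomial.X s) = Sum.elim a c s := fun s => MvPolynomial.aeval_X _ _
      simp only [q, map_sub, map_sum, map_smul, map_mul, hval, Sum.elim_inl, Sum.elim_inr]
      rw [← hdc i, sub_eq_zero]
    refine ⟨Ideal.Quotient.liftₐ I ψ hψ, ?_⟩
    rw [map_sum]
    refine Finset.sum_congr rfl fun i _ => ?_
    rw [Algebra.TensorProduct.map_tmul, AlgHom.id_apply]
    exact congrArg (b i ⊗ₜ[A] ·) (MvPolynomial.aeval_X _ _)

end Groth.Agent.S1458
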