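import Groth.Statements.S14580
import Groth.Agent.FinFibImage.Main
import Groth.Agent.LocNoethTop.Basic

set_option autoImplicit false
universe u
open CategoryTheory MonoidalCategory CartesianMonoidalCategory MonObj GrpObj AlgebraicGeometry CategoryTheory.Limits
open AlgGrp

namespace Groth.Agent.S14580

theorem isMaximal_of_integral {A B : Type u} [Field A] [CommRing B] (φ : A →+* B) (hφ : φ.IsIntegral)
    (p : Ideal B) [p.IsPrime] : p.IsMaximal := by
  algebraize [φ]
  haveI : Algebra.IsIntegral A B := ⟨hφ⟩
  exact Ideal.isMaximal_of_isIntegral_of_isMaximal_comap (R := A) p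
    (by simpa [Ideal.eq_bot_of_prime] using (Ideal.bot_isMaximal (K := A)))


/-- Let k be a field, G a proper k-group scheme of finite type and N ⊆ G the kernel of the affinization
morphism G → Spec O(G), i.e. the fibre over the image of the unit section (the largest anti-affine
subgroup scheme of G). Then the image of N in G is the connected component of the identity: as N is
smooth, N is the reduced neutral component G⁰_red, which is therefore a smooth connected algebraic
group. -/
theorem result (k : Type u) [Field k]
    (G : Over (Spec (CommRingCat.of k))) [GrpObj G] [IsProper G.hom] (t : ↥((𝟙_ (Over (Spec (CommRingCat.of k)))).left)) :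
    Set.range ⇑(pullback.fst G.left.toSpecΓ (η[G].left ≫ G.left.toSpecΓ)).base = connectedComponent ((η[G]).left.base t) := by
  let f := G.left.toSpecΓ
  haveI : Subsingleton ↥((𝟙_ (Over (Spec (CommRingCat.of k)))).left) := inferInstanceAs (Subsingleton (PrimeSpectrum k))
  set x := (η[G]).left.base t
  have hrange : Set.range ⇑(η[G].left ≫ G.left.toSpecΓ).base = {f.base x} := by
    refine subset_antisymm ?_ (by rintro _ rfl; exact ⟨t, rfl⟩)
    rintro _ ⟨s, rfl⟩
    rw [Subsingleton.elim s t]; rfl
  rw [show Set.range ⇑(pullback.fst G.left.toSpecΓ (η[G].left ≫ G.left.toSpecΓ)).base =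
    f.base ⁻¹' Set.range ⇑(η[G].left ≫ G.left.toSpecΓ).base from Scheme.Pullback.range_fst _ _, hrange]
  haveI : LocallyOfFiniteType G.hom := inferInstance
  haveI : IsNoetherian G.left := by
    haveI : IsLocallyNoetherian G.left := LocallyOfFiniteType.isLocallyNoetherian G.hom
    haveI : CompactSpace G.left := (quasiCompact_iff_compactSpace G.hom).mp inferInstance
    exact {}
  have hint : ((Scheme.ΓSpecIso (CommRingCat.of k)).inv ≫ G.hom.appTop).hom.IsIntegral :=
    RingHom.isIntegral_respectsIso.2 _ (e := (Scheme.ΓSpecIso _).symm.commRingCatIsoToRingEquiv)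
      (isIntegral_appTop_of_universallyClosed G.hom)
  have hmax : ∀ q : ↥(Spec Γ(G.left, ⊤)), IsClosed ({q} : Set ↥(Spec Γ(G.left, ⊤))) := fun q =>
    (PrimeSpectrum.isClosed_singleton_iff_isMaximal q).mpr (@isMaximal_of_integral _ _ _ _ _ hint q.asIdeal q.2)
  have hconst : ∀ Z ∈ irreducibleComponents ↥G.left, ∀ a ∈ Z, ∀ b ∈ Z, f.base a = f.base b := by
    intro Z hZ a ha b hb
    obtain ⟨g, hg⟩ := QuasiSober.sober hZ.1 (isClosed_of_mem_irreducibleComponents Z hZ)
    have h : ∀ c ∈ Z, f.base c = f.base g := fun c hc => by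
      have h1 : f.base g ⤳ f.base c := (hg.specializes hc).map f.continuous
      have h2 := h1.mem_closure
      rw [(hmax (f.base g)).closure_eq] at h2
      exact h2
    rw [h a ha, h b hb]
  have hclop : IsClopen (f.base ⁻¹' {f.base x}) := by
    refine ⟨(hmax _).preimage f.continuous, ?_⟩
    have : (f.base ⁻¹' {f.base x})ᶜ =
        ⋃ Z ∈ {Z | Z ∈ irreducibleComponents ↥G.left ∧ ¬ Z ⊆ f.base ⁻¹' {f.base x}}, Z := by
      ext p
      simp only [Set.mem_compl_iff, Set.mem_iUnion, exists_prop, Set.mem_setOf_eq]
      constructor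
      · exact fun hp => ⟨irreducibleComponent p, ⟨irreducibleComponent_mem_irreducibleComponents p,
          fun h => hp (h mem_irreducibleComponent)⟩, mem_irreducibleComponent⟩
      · rintro ⟨Z, ⟨hZ, hn⟩, hpZ⟩ hp
        exact hn fun c hc => (hconst Z hZ c hc p hpZ).trans hp
    rw [← isClosed_compl_iff, this]
    exact (TopologicalSpace.NoetherianSpace.finite_irreducibleComponents.subset fun Z hZ => hZ.1).isClosed_biUnion
      fun Z hZ => isClosed_of_mem_irreducibleComponents _ hZ.1
  haveI : LocallyConnectedSpace ↥G.left :=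
    Groth.Agent.LocNoethTop.locallyConnectedSpace fun p => ⟨Set.univ, Filter.univ_mem,
      (Homeomorph.Set.univ _).symm.isEmbedding.isInducing.noetherianSpace⟩
  refine subset_antisymm ?_ (hclop.connectedComponent_subset rfl)
  obtain ⟨e, -, he⟩ := Groth.Agent.FinFibImage.exists_idem_of_isClopen (connectedComponent x)
    ⟨isClosed_connectedComponent, isOpen_connectedComponent⟩
  intro y hy
  have hpre := G.left.toSpecΓ_preimage_basicOpen e
  have hiff : ∀ z, z ∈ connectedComponent x ↔ f.base z ∈ PrimeSpectrum.basicOpen e := fun z => by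
    rw [← he, ← hpre]; rfl
  rw [hiff, show f.base y = f.base x from hy, ← hiff]
  exact mem_connectedComponent


end Groth.Agent.S14580
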