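import Groth.Statements.S14583
import Groth.Agent.Chev.FrobPullback

set_option autoImplicit false
universe u
open CategoryTheory MonoidalCategory CartesianMonoidalCategory MonObj GrpObj AlgebraicGeometry CategoryTheory.Limits
open AlgGrp

namespace Groth.Agent.S14583
open Groth.Agent

/-- Let k ⊆ K be a finite purely inseparable field extension, G a k-group scheme of finite type and h' :
H' → G_K a closed subgroup scheme of the base change of G to K. Then there is a closed subgroup
scheme h : H → G over k such that H' factors through the base change H_K → G_K by a morphism H' →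
H_K which is surjective. (The published statement concludes that H' ⊆ H_K with H_K/H' finite; the
subgroup H produced by its proof, a Frobenius pull-back, has H_K with the same underlying space as
H', which is the form stated here.) -/
theorem result (k K : Type u) [Field k] [Field K] [Algebra k K]
    [Module.Finite k K] [IsPurelyInseparable k K]
    (G : Over (Spec (CommRingCat.of k))) [GrpObj G] [LocallyOfFiniteType G.hom] [QuasiCompact G.hom]
    (H' : Over (Spec (CommRingCat.of K))) [GrpObj H']
    (h' : H' ⟶ Red.bc (Spec.map (CommRingCat.ofHom (algebraMap k K))) G) [IsMonHom h'] [IsClosedImmersion h'.left] :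
    ∃ (H : Over (Spec (CommRingCat.of k))) (_ : GrpObj H) (h : H ⟶ G), IsMonHom h ∧ IsClosedImmersion h.left ∧
      ∃ g : H' ⟶ Red.bc (Spec.map (CommRingCat.ofHom (algebraMap k K))) H, g ≫ (Over.pullback (Spec.map (CommRingCat.ofHom (algebraMap k K)))).map h = h' ∧ Surjective g.left := by
  obtain ⟨p, hp⟩ := CharP.exists k
  rcases CharP.char_is_prime_or_zero k p with hpr | rfl
  · haveI := Fact.mk hpr
    exact Chev.exists_frob_pullback p G H' h'
  · haveI : CharZero k := CharP.charP_to_charZero k
    haveI : IsIso (AVDeg.specMap k K) := by
      haveI : Algebra.IsSeparable k K := Algebra.IsAlgebraic.isSeparable_of_perfectField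
      let e := (RingEquiv.ofBijective _ (IsPurelyInseparable.bijective_algebraMap_of_isSeparable k K)).toCommRingCatIso
      haveI : IsIso (CommRingCat.ofHom (algebraMap k K)) := inferInstanceAs (IsIso e.hom)
      exact inferInstanceAs (IsIso (Spec.map (CommRingCat.ofHom (algebraMap k K))))
    let π := pullback.fst G.hom (AVDeg.specMap k K)
    obtain ⟨H, hH, h, e, hm, -, hc, he⟩ := Chev.exists_desc_subgroup K h' (by
      have h1 : h'.left.ker.comap (inv π) ≤ h'.left.ker.map π := by
        rw [Scheme.IdealSheafData.le_map_iff_comap_le, ← Scheme.IdealSheafData.comap_comp, IsIso.hom_inv_id,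
          Scheme.IdealSheafData.comap_id]
      refine le_trans ?_ (Scheme.IdealSheafData.comap_mono π h1)
      show _ ≤ (h'.left.ker.comap (CategoryTheory.inv π)).comap π
      rw [← Scheme.IdealSheafData.comap_comp, IsIso.hom_inv_id, Scheme.IdealSheafData.comap_id])
    haveI : IsIso e.hom.left := inferInstanceAs (IsIso ((Over.forget _).map e.hom))
    exact ⟨H, hH, h, hm, hc, e.hom, he, inferInstanceAs (Surjective e.hom.left)⟩


end Groth.Agent.S14583
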