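import Groth.Statements.S14587
import Groth.Agent.Assoc.Kernel
import Mathlib

set_option autoImplicit false
universe u
open CategoryTheory MonoidalCategory CartesianMonoidalCategory MonObj GrpObj AlgebraicGeometry CategoryTheory.Limits
open AlgGrp

namespace Groth.Agent.S14587
open CategoryTheory.Limits

/-- morphisms to an unramified scheme agreeing after a surjection are equal -/
theorem eq_of_comp_surjective {S : Scheme.{u}} {X Z Y : Over S} [FormallyUnramified Y.hom] [LocallyOfFiniteType Y.hom]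
    (j : Z ⟶ X) [Surjective j.left] (a b : X ⟶ Y) (h : j ≫ a = j ≫ b) : a = b := by
  let e := (lift a b).left
  let d := pullback.diagonal Y.hom
  have hd : IsOpenImmersion d := inferInstance
  let p := pullback.fst e d
  haveI : Surjective p := ⟨fun x => by
    obtain ⟨z, rfl⟩ := j.left.surjective x
    have he : j.left ≫ e = (j ≫ a).left ≫ d := by
      rw [← Over.comp_left, comp_lift, ← h]
      apply pullback.hom_ext
      · rw [Category.assoc, pullback.diagonal_fst, Category.comp_id]
        exact congrArg (fun k : Z ⟶ Y => k.left) (lift_fst _ _)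
      · rw [Category.assoc, pullback.diagonal_snd, Category.comp_id]
        exact congrArg (fun k : Z ⟶ Y => k.left) (lift_snd _ _)
    exact ⟨pullback.lift j.left (j ≫ a).left he z, by
      rw [← Scheme.Hom.comp_apply, pullback.lift_fst]⟩⟩
  haveI : IsIso p := (isIso_iff_isOpenImmersion_and_epi_base _).2
    ⟨inferInstance, (TopCat.epi_iff_surjective _).2 p.surjective⟩
  have h2 : e = (inv p ≫ pullback.snd e d) ≫ d := by
    rw [Category.assoc, ← pullback.condition, IsIso.inv_hom_id_assoc]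
  ext1
  have ha : e ≫ pullback.fst Y.hom Y.hom = a.left := congrArg (fun k : X ⟶ Y => k.left) (lift_fst a b)
  have hb : e ≫ pullback.snd Y.hom Y.hom = b.left := congrArg (fun k : X ⟶ Y => k.left) (lift_snd a b)
  rw [← ha, ← hb, h2]
  simp [d]

/-- the retraction onto the reduced subgroup and its unramifiedness -/
theorem exists_retraction {k : Type u} [Field k] [PerfectField k] {G Gr : Over (Spec (CommRingCat.of k))}
    [IsFinite G.hom] (r : Gr ⟶ G) [IsClosedImmersion r.left] [IsReduced Gr.left] [Surjective r.left] :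
    FormallyUnramified Gr.hom ∧ ∃ ρ : G ⟶ Gr, r ≫ ρ = 𝟙 Gr := by
  haveI : IsAffine G.left := isAffine_of_isAffineHom G.hom
  haveI : IsFinite Gr.hom := by rw [← Over.w r]; infer_instance
  haveI : IsAffine Gr.left := isAffine_of_isAffineHom Gr.hom
  letI : Algebra k Γ(G.left, ⊤) := ((Scheme.ΓSpecIso (CommRingCat.of k)).inv ≫ G.hom.appTop).hom.toAlgebra
  letI : Algebra k Γ(Gr.left, ⊤) := ((Scheme.ΓSpecIso (CommRingCat.of k)).inv ≫ Gr.hom.appTop).hom.toAlgebra
  let φ : Γ(G.left, ⊤) →ₐ[k] Γ(Gr.left, ⊤) :=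
    { r.left.appTop.hom with
      commutes' := fun c => by
        show r.left.appTop (G.hom.appTop _) = Gr.hom.appTop _
        rw [← CommRingCat.comp_apply, ← Scheme.Hom.comp_appTop, Over.w r] }
  have hfin : ∀ (X : Over (Spec (CommRingCat.of k))) [IsFinite X.hom],
      ((Scheme.ΓSpecIso (CommRingCat.of k)).inv ≫ X.hom.appTop).hom.Finite := fun X _ =>
    RingHom.Finite.comp (IsFinite.finite_app X.hom ⊤ (isAffineOpen_top _))
      (RingHom.Finite.of_surjective _ (ConcreteCategory.bijective_of_isIso (Scheme.ΓSpecIso (CommRingCat.of k)).inv).2)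
  haveI : Module.Finite k Γ(G.left, ⊤) := hfin G
  haveI : Module.Finite k Γ(Gr.left, ⊤) := hfin Gr
  haveI : IsArtinianRing Γ(Gr.left, ⊤) := isArtinian_of_tower k inferInstance
  haveI : IsArtinianRing Γ(G.left, ⊤) := isArtinian_of_tower k inferInstance
  haveI : _root_.IsReduced Γ(Gr.left, ⊤) := inferInstance
  haveI : Algebra.FormallyEtale k Γ(Gr.left, ⊤) := by
    letI : ∀ I : MaximalSpectrum Γ(Gr.left, ⊤), Field (Γ(Gr.left, ⊤) ⧸ I.asIdeal) :=
      fun I => Ideal.Quotient.field I.asIdeal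
    have : ∀ I : MaximalSpectrum Γ(Gr.left, ⊤), Algebra.FormallyEtale k (Γ(Gr.left, ⊤) ⧸ I.asIdeal) := fun I =>
      (Algebra.FormallyEtale.iff_isSeparable _ _).2 inferInstance
    exact .of_equiv ((IsArtinianRing.equivPi Γ(Gr.left, ⊤)).restrictScalars k).symm
  refine ⟨?_, ?_⟩
  · rw [HasRingHomProperty.iff_of_isAffine (P := @FormallyUnramified)]
    have h1 : (((Scheme.ΓSpecIso (CommRingCat.of k)).inv ≫ Gr.hom.appTop).hom).FormallyUnramified :=
      RingHom.formallyUnramified_algebraMap.2 inferInstance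
    have h2 : Gr.hom.appTop = (Scheme.ΓSpecIso (CommRingCat.of k)).hom ≫
        (Scheme.ΓSpecIso (CommRingCat.of k)).inv ≫ Gr.hom.appTop := by simp
    rw [h2, CommRingCat.hom_comp]
    exact RingHom.FormallyUnramified.respectsIso.2 _
      (Scheme.ΓSpecIso (CommRingCat.of k)).commRingCatIsoToRingEquiv h1
  have hsurj : Function.Surjective φ := Scheme.Hom.app_surjective r.left ⊤ (isAffineOpen_top _)
  have hnil : IsNilpotent (RingHom.ker (φ : Γ(G.left, ⊤) →+* Γ(Gr.left, ⊤))) := by
    refine (Ideal.FG.isNilpotent_iff_le_nilradical (IsNoetherian.noetherian _)).2 ?_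
    intro x hx
    rw [mem_nilradical, nilpotent_iff_mem_prime]
    intro p hp
    let P : Spec Γ(G.left, ⊤) := ⟨p, hp⟩
    obtain ⟨q, hq⟩ := r.left.surjective (G.left.isoSpec.inv P)
    have he : Spec.map r.left.appTop (Gr.left.isoSpec.hom q) = P := by
      rw [← Scheme.Hom.comp_apply, Scheme.isoSpec_hom_naturality, Scheme.Hom.comp_apply, hq,
        ← Scheme.Hom.comp_apply, Iso.inv_hom_id]
      rfl
    rw [show p = (Spec.map r.left.appTop (Gr.left.isoSpec.hom q)).asIdeal from
      (congrArg PrimeSpectrum.asIdeal he).symm]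
    show r.left.appTop.hom x ∈ (Gr.left.isoSpec.hom q).asIdeal
    rw [show r.left.appTop.hom x = 0 from hx]
    exact zero_mem _
  let f := Algebra.FormallySmooth.liftOfSurjective (AlgHom.id k Γ(Gr.left, ⊤)) φ hsurj hnil
  have hf : φ.comp f = AlgHom.id k _ := Algebra.FormallySmooth.comp_liftOfSurjective _ φ hsurj hnil
  let F : Γ(Gr.left, ⊤) ⟶ Γ(G.left, ⊤) := CommRingCat.ofHom f.toRingHom
  let ρ : G.left ⟶ Gr.left := G.left.isoSpec.hom ≫ Spec.map F ≫ Gr.left.isoSpec.inv
  have hρ : ρ.appTop = F := by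
    apply Spec.map_injective
    rw [← cancel_epi G.left.isoSpec.hom, Scheme.isoSpec_hom_naturality]
    simp [ρ]
  have hw : ρ ≫ Gr.hom = G.hom := by
    refine ext_of_isAffine ?_
    rw [Scheme.Hom.comp_appTop, hρ]
    rw [← cancel_epi (Scheme.ΓSpecIso (CommRingCat.of k)).inv]
    ext c
    exact f.commutes c
  refine ⟨Over.homMk ρ hw, ?_⟩
  ext1
  refine ext_of_isAffine ?_
  show (r.left ≫ ρ).appTop = _
  rw [Scheme.Hom.comp_appTop, hρ]
  ext a
  exact AlgHom.congr_fun hf a


/-- Let k be a perfect field and G a finite k-group scheme, r : G_red → G its reduced subgroup scheme (a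
homomorphism and closed immersion from a reduced k-group scheme, surjective on underlying spaces)
and i₀ : G⁰ → G its neutral component (a homomorphism and open immersion from a connected k-group
scheme). Then the multiplication morphism G_red × G⁰ → G is an isomorphism, exhibiting G as the
semi-direct product of G⁰ by G_red. -/
theorem result (k : Type u) [Field k] [PerfectField k]
    (G Gr G₀ : Over (Spec (CommRingCat.of k))) [GrpObj G] [GrpObj Gr] [GrpObj G₀] [IsFinite G.hom]
    (r : Gr ⟶ G) [IsMonHom r] [IsClosedImmersion r.left] [IsReduced Gr.left] [Surjective r.left]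
    (i₀ : G₀ ⟶ G) [IsMonHom i₀] [IsOpenImmersion i₀.left] [ConnectedSpace ↥G₀.left] :
    IsIso ((r ⊗ₘ i₀) ≫ μ[G]) := by
  obtain ⟨hun, ρ, hρ⟩ := exists_retraction r
  haveI := hun
  haveI : IsFinite Gr.hom := by rw [← Over.w r]; infer_instance
  haveI : Mono i₀ := (Over.forget _).mono_of_mono_map (inferInstanceAs (Mono i₀.left))
  haveI : IsAffine G.left := isAffine_of_isAffineHom G.hom
  haveI : DiscreteTopology G.left := by
    letI : Algebra k Γ(G.left, ⊤) := ((Scheme.ΓSpecIso (CommRingCat.of k)).inv ≫ G.hom.appTop).hom.toAlgebra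
    haveI : Module.Finite k Γ(G.left, ⊤) :=
      RingHom.Finite.comp (IsFinite.finite_app G.hom ⊤ (isAffineOpen_top _))
        (RingHom.Finite.of_surjective _ (ConcreteCategory.bijective_of_isIso (Scheme.ΓSpecIso (CommRingCat.of k)).inv).2)
    haveI : IsArtinianRing Γ(G.left, ⊤) := isArtinian_of_tower k inferInstance
    haveI : DiscreteTopology ↥(Spec Γ(G.left, ⊤)) := inferInstanceAs (DiscreteTopology (PrimeSpectrum _))
    exact G.left.isoSpec.hom.homeomorph.symm.discreteTopology
  haveI : DiscreteTopology G₀.left := i₀.left.isOpenEmbedding.isEmbedding.discreteTopology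
  haveI : Subsingleton G₀.left := ⟨fun a b => PreconnectedSpace.trivial_of_discrete.elim a b⟩
  haveI : Nonempty (𝟙_ (Over (Spec (CommRingCat.of k)))).left := inferInstanceAs (Nonempty (PrimeSpectrum k))
  haveI : Surjective η[G₀].left := ⟨fun x => ⟨Classical.arbitrary _, Subsingleton.elim _ _⟩⟩
  let δ : G ⟶ G := (ρ ≫ r)⁻¹ * 𝟙 G
  have hrδ : r ≫ δ = 1 := by
    simp only [δ, MonObj.comp_mul, GrpObj.comp_inv, Category.comp_id, reassoc_of% hρ]
    simp
  have hrange : Set.range δ.left ⊆ Set.range i₀.left := by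
    rintro _ ⟨g, rfl⟩
    obtain ⟨q, rfl⟩ := r.left.surjective g
    refine ⟨η[G₀].left ((toUnit Gr).left q), ?_⟩
    have h1 : toUnit Gr ≫ η[G₀] ≫ i₀ = r ≫ δ := by rw [hrδ, IsMonHom.one_hom (f := i₀), Hom.one_def]
    exact congrArg (fun k : Gr ⟶ G => k.left q) h1
  have hfac := IsOpenImmersion.lift_fac i₀.left δ.left hrange
  let h0 : G ⟶ G₀ := Over.homMk (IsOpenImmersion.lift i₀.left δ.left hrange) (by
    rw [← Over.w i₀, reassoc_of% hfac, Over.w δ])
  have hh0 : h0 ≫ i₀ = δ := Over.OverMorphism.ext hfac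
  let Φ := (r ⊗ₘ i₀) ≫ μ[G]
  have hΦ : Φ = (fst Gr G₀ ≫ r) * (snd Gr G₀ ≫ i₀) := by
    show (r ⊗ₘ i₀) ≫ μ[G] = _
    rw [Hom.mul_def]
    congr 1
  have hΦρ : Φ ≫ ρ = fst Gr G₀ := by
    haveI : Surjective (Gr ◁ η[G₀]).left :=
      MorphismProperty.of_isPullback (Groth.Agent.Assoc.isPullback_whiskerLeft (Z := Gr) η[G₀]) ‹Surjective η[G₀].left›
    refine eq_of_comp_surjective (Gr ◁ η[G₀]) _ _ ?_
    have h1 : (Gr ◁ η[G₀]) ≫ Φ = fst Gr _ ≫ r := by
      rw [hΦ, MonObj.comp_mul, whiskerLeft_fst_assoc, whiskerLeft_snd_assoc, IsMonHom.one_hom (f := i₀),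
        show snd Gr (𝟙_ _) ≫ η[G] = toUnit _ ≫ η[G] from congrArg (· ≫ η[G]) (toUnit_unique _ _),
        ← Hom.one_def, _root_.mul_one]
    rw [reassoc_of% h1, hρ, Category.comp_id, whiskerLeft_fst]
  show IsIso Φ
  refine ⟨lift ρ h0, ?_, ?_⟩
  · apply CartesianMonoidalCategory.hom_ext
    · simpa using hΦρ
    · rw [← cancel_mono i₀, Category.assoc, Category.assoc, lift_snd_assoc, hh0, Category.id_comp]
      simp only [δ, MonObj.comp_mul, GrpObj.comp_inv, Category.comp_id, reassoc_of% hΦρ]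
      rw [hΦ, inv_mul_cancel_left]
  · rw [hΦ, MonObj.comp_mul, lift_fst_assoc, lift_snd_assoc, hh0, mul_inv_cancel_left]

end Groth.Agent.S14587
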