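import Groth.Statements.S14589
import Groth.Agent.Chev.AntiAff

set_option autoImplicit false
universe u
open CategoryTheory MonoidalCategory CartesianMonoidalCategory MonObj GrpObj AlgebraicGeometry CategoryTheory.Limits
open AlgGrp

namespace Groth.Agent.S14589
open Groth.Agent

/-- Let k be a field, G a k-group scheme of finite type, i : N → G a closed normal subgroup scheme and q
: G → Q a flat surjective homomorphism of k-group schemes of finite type with kernel N (Q = G/N).
Let j : M → G and j' : M' → Q be the largest anti-affine subgroup schemes of G and of Q (closed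
subgroup schemes of finite type with only constant global functions through which every other such
subgroup scheme factors). Then q maps M onto M': the image of M → G → Q equals the underlying set of
M'. Since M' is smooth, this is the statement that G_ant/(G_ant ∩ N) → (G/N)_ant is an isomorphism. -/
theorem result (k : Type u) [Field k]
    (G : Over (Spec (CommRingCat.of k))) [GrpObj G] [LocallyOfFiniteType G.hom] [QuasiCompact G.hom]
    (N : Over (Spec (CommRingCat.of k))) [GrpObj N] (i : N ⟶ G) [IsMonHom i] [IsClosedImmersion i.left] (hN : AlgGrp.IsNormalHom i)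
    (Q : Over (Spec (CommRingCat.of k))) [GrpObj Q] [LocallyOfFiniteType Q.hom] [QuasiCompact Q.hom]
    (q : G ⟶ Q) [IsMonHom q] [Surjective q.left] [Flat q.left] (hq : AlgGrp.IsKernel i q)
    (M : Over (Spec (CommRingCat.of k))) [GrpObj M] [LocallyOfFiniteType M.hom] [QuasiCompact M.hom] (j : M ⟶ G) [IsMonHom j] [IsClosedImmersion j.left]
    (hM : Function.Bijective ((Scheme.ΓSpecIso (CommRingCat.of k)).inv ≫ M.hom.appTop).hom)
    (hMmax : ∀ (M₁ : Over (Spec (CommRingCat.of k))) [GrpObj M₁] [LocallyOfFiniteType M₁.hom] [QuasiCompact M₁.hom] (j₁ : M₁ ⟶ G) [IsMonHom j₁] [IsClosedImmersion j₁.left],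
      Function.Bijective ((Scheme.ΓSpecIso (CommRingCat.of k)).inv ≫ M₁.hom.appTop).hom → ∃ g : M₁ ⟶ M, g ≫ j = j₁)
    (M' : Over (Spec (CommRingCat.of k))) [GrpObj M'] [LocallyOfFiniteType M'.hom] [QuasiCompact M'.hom] (j' : M' ⟶ Q) [IsMonHom j'] [IsClosedImmersion j'.left]
    (hM' : Function.Bijective ((Scheme.ΓSpecIso (CommRingCat.of k)).inv ≫ M'.hom.appTop).hom)
    (hM'max : ∀ (M₁ : Over (Spec (CommRingCat.of k))) [GrpObj M₁] [LocallyOfFiniteType M₁.hom] [QuasiCompact M₁.hom] (j₁ : M₁ ⟶ Q) [IsMonHom j₁] [IsClosedImmersion j₁.left],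
      Function.Bijective ((Scheme.ΓSpecIso (CommRingCat.of k)).inv ≫ M₁.hom.appTop).hom → ∃ g : M₁ ⟶ M', g ≫ j' = j₁) :
    Set.range ⇑(j ≫ q).left.base = Set.range ⇑j'.left.base := by
  obtain ⟨hH, D', hD', iD', hhm, -, -, -, -, hDm', hDc', hker', hanti', hDl', hDq'⟩ := Chev.exists_anti_kernel Q
  haveI := hhm; haveI := hDm'; haveI := hDc'; haveI := hDl'; haveI := hDq'
  obtain ⟨a, ha⟩ := hM'max D' iD' hanti'
  have hkq : (j ≫ q) ≫ AffHull.toHull Q = toUnit M ≫ η[AffHull.hull Q] := by
    rw [Chev.eq_one_of_anti hM ((j ≫ q) ≫ AffHull.toHull Q), Hom.one_def]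
  let b : M ⟶ M' := hker'.lift (j ≫ q) (toUnit M) hkq ≫ a
  have hb : b ≫ j' = j ≫ q := by rw [Category.assoc, ha, hker'.lift_fst]
  apply Set.Subset.antisymm
  · rintro _ ⟨x, rfl⟩
    exact ⟨b.left x, congrArg (fun φ => φ.left x) hb⟩
  -- the preimage of `M'` in `G`
  let E : Over (Spec (CommRingCat.of k)) := Over.mk (pullback.fst q.left j'.left ≫ G.hom)
  let iE : E ⟶ G := Over.homMk (pullback.fst q.left j'.left) rfl
  let e : E ⟶ M' := Over.homMk (pullback.snd q.left j'.left) (by
    show pullback.snd q.left j'.left ≫ M'.hom = pullback.fst q.left j'.left ≫ G.hom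
    rw [← Over.w j', ← pullback.condition_assoc, Over.w q])
  haveI : IsClosedImmersion iE.left := inferInstanceAs (IsClosedImmersion (pullback.fst q.left j'.left))
  haveI : Mono j' := GrpField.SchImg.mono_of_isClosedImmersion j'
  have hce : e ≫ j' = iE ≫ q := Over.OverMorphism.ext pullback.condition.symm
  have hlift : ∀ {T : Over (Spec (CommRingCat.of k))} (x : T ⟶ G) (y : T ⟶ M'), x ≫ q = y ≫ j' →
      ∃ z : T ⟶ E, z ≫ iE = x := fun {T} x y h =>
    ⟨Over.homMk (pullback.lift x.left y.left (congrArg (fun φ => φ.left) h)) (by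
      show pullback.lift _ _ _ ≫ pullback.fst _ _ ≫ G.hom = _
      rw [pullback.lift_fst_assoc, Over.w]), Over.OverMorphism.ext (pullback.lift_fst _ _ _)⟩
  obtain ⟨hE, hEm⟩ := GrpField.SchImg.exists_grpObj_of_div iE
    (hlift η[G] η[M'] (by rw [IsMonHom.one_hom, IsMonHom.one_hom]))
    fun T x y => hlift ((x ≫ iE)⁻¹ * (y ≫ iE)) ((x ≫ e)⁻¹ * (y ≫ e)) (by
      simp only [MonObj.mul_comp, GrpObj.inv_comp, Category.assoc, hce])
  letI : GrpObj E := hE
  haveI : IsMonHom iE := hEm
  haveI : IsMonHom (e ≫ j') := by rw [hce]; infer_instance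
  haveI : IsMonHom e := Chev.isMonHom_of_comp e j'
  haveI hes : Surjective e.left := MorphismProperty.pullback_snd _ _ ‹Surjective q.left›
  haveI : LocallyOfFiniteType E.hom := by rw [← Over.w iE]; infer_instance
  haveI : QuasiCompact E.hom := by rw [← Over.w iE]; infer_instance
  obtain ⟨hHE, D, hD, iD, hqm, hqf, hqs, hql, hQl, hDm, hDc, hker, hanti, hDl, hDq⟩ := Chev.exists_anti_kernel E
  letI := hHE
  haveI := hqm; haveI := hqf; haveI := hqs; haveI := hql; haveI := hQl
  haveI := hDm; haveI := hDc; haveI := hDl; haveI := hDq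
  haveI : IsClosedImmersion (iD ≫ iE).left := by rw [Over.comp_left]; infer_instance
  obtain ⟨g, hg⟩ := hMmax D (iD ≫ iE) hanti
  haveI := Chev.smooth_of_anti M' hM'
  obtain ⟨hMc, hMcomm⟩ := S3293.result k M' hM'
  haveI := hMc; haveI := hMcomm
  haveI : IsSeparated M'.hom := GrpField.isSeparated_hom M'
  haveI : QuasiCompact (iD ≫ e).left := by
    haveI : QuasiCompact ((iD ≫ e).left ≫ M'.hom) := by rw [Over.w]; infer_instance
    exact QuasiCompact.of_comp _ M'.hom
  obtain ⟨C, hC, c, g₀, hcm, hg₀, hgc, hcc, hgd, hgq, hgs⟩ := GrpField.SchImg.exists_image (iD ≫ e)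
  haveI := hcm; haveI := hcc; haveI := hgs
  obtain ⟨R, hR, r, hrm, hrf, hrs, hrk, hrsep, hRsm, hRq, hRc, -⟩ := Chev.exists_quotient_group' c
    (fun T a x => ⟨x, by rw [_root_.mul_comm a, _root_.mul_assoc, mul_inv_cancel, _root_.mul_one]⟩)
  haveI := hrm; haveI := hrs; haveI := hrsep; haveI := hRsm; haveI := hRq
  have hkill : iD ≫ e ≫ r = 1 := by
    rw [← Category.assoc, ← hgc, Category.assoc, hrk.w, comp_toUnit_assoc, ← Hom.one_def]
  haveI : QuasiCompact (AffHull.toHull E).left := by
    haveI : QuasiCompact ((AffHull.toHull E).left ≫ (AffHull.hull E).hom) := by rw [Over.w]; infer_instance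
    exact QuasiCompact.of_comp _ (AffHull.hull E).hom
  obtain ⟨d, hd⟩ := AdjRep.exists_desc iD (AffHull.toHull E) hker (e ≫ r) hkill
  haveI : IsMonHom (AffHull.toHull E ≫ d) := by rw [hd]; infer_instance
  haveI := Chev.isMonHom_desc (AffHull.toHull E) d
  haveI : Surjective d.left := by
    haveI : Surjective ((AffHull.toHull E).left ≫ d.left) := by
      rw [← Over.comp_left, hd, Over.comp_left]; infer_instance
    exact Surjective.of_comp (AffHull.toHull E).left d.left
  haveI : QuasiCompact d.left := by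
    haveI : QuasiCompact (d.left ≫ R.hom) := by rw [Over.w]; infer_instance
    exact QuasiCompact.of_comp _ R.hom
  haveI : IsReduced R.left := Chev.isReduced_of_smooth' R
  haveI : Flat d.left := GrpField.flat_of_surjective_reduced d
  haveI : IsAffine R.left := (S7983.result k _ R d).1 inferInstance
  have hr : 𝟙 M' ≫ r = toUnit M' ≫ η[R] := by rw [Category.id_comp, Chev.eq_one_of_anti hM' r, Hom.one_def]
  rintro _ ⟨y, rfl⟩
  obtain ⟨x, hx⟩ := g₀.left.surjective ((hrk.lift _ _ hr).left y)
  refine ⟨g.left x, ?_⟩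
  show (j ≫ q).left (g.left x) = j'.left y
  calc (j ≫ q).left (g.left x) = (iD ≫ e ≫ j').left x :=
        congrArg (fun φ => φ.left x) (show g ≫ j ≫ q = iD ≫ e ≫ j' by rw [reassoc_of% hg, hce])
    _ = j'.left (c.left (g₀.left x)) := congrArg (fun φ => j'.left (φ.left x)) hgc.symm
    _ = j'.left y := by
        rw [hx]
        exact congrArg (fun φ => j'.left (φ.left y)) (hrk.lift_fst _ _ hr)


end Groth.Agent.S14589
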