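import Groth.Statements.S1459
import Mathlib
import Groth.Agent.InjFibre.SliceScheme
import Groth.Agent.WeakAssLib.Basic

set_option autoImplicit false
universe u
open FlatMor

namespace Groth.Agent.S1459

open AlgebraicGeometry CategoryTheory Limits in
/-- Let f : X → S be locally of finite presentation and flat at x with image s, and let h_1, …, h_r be
elements of O_{X,x} whose images in O_{X,x} / m_s O_{X,x} form a regular sequence. Then there are an
affine open U ∋ x and sections on U with these germs such that the closed subscheme Z of U they cut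
out is a regular closed immersion whose image contains x, Z → S is flat and locally of finite
presentation, and the base change of Z → U along any S' → S is again a regular closed immersion. -/
theorem result {X S : Scheme.{u}} (f : X ⟶ S) [LocallyOfFinitePresentation f] (x : X)
    (hflat : (f.stalkMap x).hom.Flat) (hs : List ↑(X.presheaf.stalk x))
    (hreg : RingTheory.Sequence.IsRegular (↑(X.presheaf.stalk x) ⧸ Ideal.map (f.stalkMap x).hom (IsLocalRing.maximalIdeal ↑(S.presheaf.stalk (f x))))
      (hs.map (Ideal.Quotient.mk (Ideal.map (f.stalkMap x).hom (IsLocalRing.maximalIdeal ↑(S.presheaf.stalk (f x))))))) :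
    ∃ (U : X.Opens) (hU : IsAffineOpen U) (hx : x ∈ U) (hs' : List Γ(X, U)), hs'.map (X.presheaf.germ U x hx) = hs ∧
      Mor2.IsRegularClosedImmersion (Spec.map (CommRingCat.ofHom (Ideal.Quotient.mk (Ideal.ofList hs'))) ≫ hU.isoSpec.inv) ∧
      x ∈ Set.range ⇑(Spec.map (CommRingCat.ofHom (Ideal.Quotient.mk (Ideal.ofList hs'))) ≫ hU.fromSpec) ∧
      Flat (Spec.map (CommRingCat.ofHom (Ideal.Quotient.mk (Ideal.ofList hs'))) ≫ hU.fromSpec ≫ f) ∧ LocallyOfFinitePresentation (Spec.map (CommRingCat.ofHom (Ideal.Quotient.mk (Ideal.ofList hs'))) ≫ hU.fromSpec ≫ f) ∧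
      ∀ (S' : Scheme.{u}) (g : S' ⟶ S), Mor2.IsRegularClosedImmersion
        (pullback.map (Spec.map (CommRingCat.ofHom (Ideal.Quotient.mk (Ideal.ofList hs'))) ≫ hU.isoSpec.inv ≫ U.ι ≫ f) g (U.ι ≫ f) g (Spec.map (CommRingCat.ofHom (Ideal.Quotient.mk (Ideal.ofList hs'))) ≫ hU.isoSpec.inv) (𝟙 S') (𝟙 S)
          (Category.comp_id _) ((Category.comp_id g).trans (Category.id_comp g).symm)) := by
  obtain ⟨V, hV, U, hU, hx, e, l, hl, hlr, hlf⟩ := InjFibre.exists_slice f x hflat hs hreg.toIsWeaklyRegular
  have hI : Ideal.ofList l ≤ (hU.primeIdealOf ⟨x, hx⟩).asIdeal := by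
    refine Ideal.span_le.2 fun a ha => ?_
    by_contra hq
    have hu := (WeakAssLib.isUnit_germ hU hx hq).map
      (Ideal.Quotient.mk (Ideal.map (f.stalkMap x).hom (IsLocalRing.maximalIdeal ↑(S.presheaf.stalk (f x)))))
    apply hreg.top_ne_smul
    rw [smul_eq_mul, Ideal.mul_top]
    refine (Ideal.eq_top_of_isUnit_mem _ (Ideal.subset_span ?_) hu).symm
    exact List.mem_map_of_mem (by rw [← hl]; exact List.mem_map_of_mem ha)
  obtain ⟨hfl, hlfp⟩ := InjFibre.flat_lfp_slice f hV hU e (Ideal.ofList l) (Submodule.fg_span l.finite_toSet)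
    (by have := hlf l.length le_rfl; rwa [List.take_length] at this)
  refine ⟨U, hU, hx, l, hl, InjFibre.isRegularClosedImmersion_of_isWeaklyRegular hU l hlr, ?_, hfl, hlfp,
    fun S' g => InjFibre.isRegularClosedImmersion_baseChange f hV hU e l hlr hlf g _ _⟩
  rw [Scheme.Hom.comp_base, TopCat.coe_comp, Set.range_comp]
  refine ⟨hU.primeIdealOf ⟨x, hx⟩, ?_, hU.fromSpec_primeIdealOf _⟩
  erw [range_comap_of_surjective _ _ Ideal.Quotient.mk_surjective]
  exact fun a ha => hI (Ideal.Quotient.eq_zero_iff_mem.1 ha)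

end Groth.Agent.S1459
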