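import Groth.Statements.S14593
import Groth.Agent.Chev.Normalise
import Groth.Agent.Chev.AffInter

set_option autoImplicit false
universe u
open CategoryTheory MonoidalCategory CartesianMonoidalCategory MonObj GrpObj AlgebraicGeometry CategoryTheory.Limits
open AlgGrp

namespace Groth.Agent.S14593
open Groth.Agent

/-- Let k be a field, G a smooth k-group scheme of finite type, i₀ : G⁰ → G its neutral component (a
connected open subgroup scheme) and α : G⁰ → A the Albanese homomorphism of G⁰: a flat surjective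
homomorphism onto an abelian variety A (proper, smooth, connected) through which every morphism from
G⁰ to an abelian variety preserving the unit factors uniquely. Let j : N → G⁰ be the kernel of α.
Then N is normal in G, affine and connected; it is the kernel of a flat surjective homomorphism from
G onto a proper k-group scheme of finite type; and it is the smallest normal subgroup scheme of G
with proper quotient: every flat surjective homomorphism from G onto a proper k-group scheme of
finite type kills N. -/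
theorem result (k : Type u) [Field k]
    (G : Over (Spec (CommRingCat.of k))) [GrpObj G] [Smooth G.hom] [QuasiCompact G.hom]
    (G₀ : Over (Spec (CommRingCat.of k))) [GrpObj G₀] (i₀ : G₀ ⟶ G) [IsMonHom i₀] [IsOpenImmersion i₀.left] [ConnectedSpace ↥G₀.left]
    (A : Over (Spec (CommRingCat.of k))) [GrpObj A] [IsProper A.hom] [Smooth A.hom] [ConnectedSpace ↥A.left]
    (α : G₀ ⟶ A) [IsMonHom α] [Surjective α.left] [Flat α.left]
    (hα : ∀ (B : Over (Spec (CommRingCat.of k))) [GrpObj B] [IsProper B.hom] [Smooth B.hom] [ConnectedSpace ↥B.left] (f : G₀ ⟶ B),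
      η[G₀] ≫ f = η[B] → ∃! g : A ⟶ B, α ≫ g = f)
    (N : Over (Spec (CommRingCat.of k))) [GrpObj N] (j : N ⟶ G₀) [IsMonHom j] [IsClosedImmersion j.left] (hN : AlgGrp.IsKernel j α) :
    AlgGrp.IsNormalHom (j ≫ i₀) ∧ IsAffine N.left ∧ ConnectedSpace ↥N.left ∧
      (∃ (Q : Over (Spec (CommRingCat.of k))) (_ : GrpObj Q) (q : G ⟶ Q), IsMonHom q ∧ Surjective q.left ∧ Flat q.left ∧
        AlgGrp.IsKernel (j ≫ i₀) q ∧ IsProper Q.hom) ∧
      ∀ (Q' : Over (Spec (CommRingCat.of k))) [GrpObj Q'] [IsProper Q'.hom] (q' : G ⟶ Q') [IsMonHom q'] [Surjective q'.left] [Flat q'.left],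
        (j ≫ i₀) ≫ q' = 1 := by
  haveI : Smooth G₀.hom := by rw [← Over.w i₀]; infer_instance
  haveI : IsLocallyNoetherian G.left := LocallyOfFiniteType.isLocallyNoetherian G.hom
  haveI : QuasiCompact G₀.hom := by rw [← Over.w i₀]; infer_instance
  haveI : IsSeparated G₀.hom := GrpField.isSeparated_hom G₀
  haveI : IsSeparated G.hom := GrpField.isSeparated_hom G
  haveI : Mono i₀ := by
    haveI : Mono ((Over.forget (Spec (CommRingCat.of k))).map i₀) := inferInstanceAs (Mono i₀.left)
    exact (Over.forget _).mono_of_mono_map this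
  haveI : Mono j := GrpField.SchImg.mono_of_isClosedImmersion j
  obtain ⟨N', hN', iN, A₀, hA₀, α₀, him, hic, -, -, hp₀, hs₀, hc₀, hm₀, -, -, hk₀, hkill₀, -⟩ := Chev.exists_albanese G₀
  haveI := hp₀; haveI := hs₀; haveI := hc₀; haveI := hm₀
  obtain ⟨g, hg, -⟩ := hα A₀ α₀ (IsMonHom.one_hom α₀)
  have hjα₀ : j ≫ α₀ = 1 := by
    rw [← hg, ← Category.assoc, hN.w, Category.assoc]
    have h1 : η[A] ≫ g = η[A₀] := by
      rw [← IsMonHom.one_hom α, Category.assoc, hg, IsMonHom.one_hom]
    rw [h1, Hom.one_def]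
  let w : N ⟶ N' := hk₀.lift j (toUnit N) (by rw [hjα₀, Hom.one_def])
  have hjkill : ∀ (P : Over (Spec (CommRingCat.of k))) [GrpObj P] [IsProper P.hom] (f : G₀ ⟶ P) [IsMonHom f],
      j ≫ f = 1 := fun P _ _ f _ => by
    rw [← show w ≫ iN = j from hk₀.lift_fst _ _ _, Category.assoc, hkill₀ P f, MonObj.comp_one]
  obtain ⟨M, hM, iM, hMm, hMc, hMn, hMcon, ⟨Q, hQ, q, hqm, hqs, hqf, hqk, hQp⟩, hMkill⟩ :=
    Chev.exists_smallest_kernel_connected G
  haveI := hMm; haveI := hMc; haveI := hqm; haveI := hqs; haveI := hqf; haveI := hQp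
  haveI : Mono iM := GrpField.SchImg.mono_of_isClosedImmersion iM
  obtain ⟨R, hR, r, hrm, hRp, hr⟩ := Chev.exists_extend_kernel i₀ α
  haveI := hrm; haveI := hRp
  obtain ⟨y, hy, hyα⟩ := hr iM (hMkill R r)
  let u : M ⟶ N := hN.lift y (toUnit M) (by rw [hyα, Hom.one_def])
  have hu : u ≫ j ≫ i₀ = iM := by rw [← Category.assoc, show u ≫ j = y from hN.lift_fst _ _ _, hy]
  let v : N ⟶ M := hqk.lift (j ≫ i₀) (toUnit N) (by rw [Category.assoc, hjkill Q (i₀ ≫ q), Hom.one_def])
  have hv : v ≫ iM = j ≫ i₀ := hqk.lift_fst _ _ _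
  have e1 : u ≫ v = 𝟙 M := by rw [← cancel_mono iM, Category.assoc, hv, hu, Category.id_comp]
  have e2 : v ≫ u = 𝟙 N := by rw [← cancel_mono (j ≫ i₀), Category.assoc, hu, hv, Category.id_comp]
  obtain ⟨P, hP, f, hfm, hPp, haff⟩ := Chev.exists_proper_affine_kernel G
  haveI := hfm; haveI := hPp
  haveI : IsAffine M.left := haff M iM hMc (hMkill P f)
  haveI : IsIso v := ⟨u, e2, e1⟩
  haveI : IsIso v.left := inferInstanceAs (IsIso ((Over.forget _).map v))
  refine ⟨fun T a b => ?_, IsAffine.of_isIso v.left, (inv v.left).surjective.connectedSpace (inv v.left).continuous,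
    ⟨Q, hQ, q, hqm, hqs, hqf, Chev.isKernel_of_factor hqk v hv u hu, hQp⟩, fun Q' _ _ q' _ _ _ => ?_⟩
  · obtain ⟨n, hn⟩ := hMn T a (b ≫ v)
    refine ⟨n ≫ u, ?_⟩
    rw [Category.assoc, hu, ← hn, Category.assoc, hv]
  · rw [← hv, Category.assoc, hMkill Q' q', MonObj.comp_one]


end Groth.Agent.S14593
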