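import Groth.Statements.S14595
import Groth.Agent.Chev.UnitsAxes
import Groth.Agent.S14584
import Groth.Agent.Chev.SemiAbelian
import Groth.Agent.Chev.SAQuot

set_option autoImplicit false
universe u
open CategoryTheory MonoidalCategory CartesianMonoidalCategory MonObj GrpObj AlgebraicGeometry CategoryTheory.Limits
open AlgGrp

namespace Groth.Agent.S14595
open Groth.Agent
open scoped CategoryTheory.Obj

/-- Let k be a field, X and Y varieties over k (separated, geometrically integral, of finite type) with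
rational points x₀, y₀, G a semi-abelian variety (an extension of a proper smooth connected k-group
scheme by a torus) and f : X × Y → G a k-morphism. Then f(x, y) f(x, y₀)⁻¹ f(x₀, y)⁻¹ f(x₀, y₀) = e
identically, in the group of morphisms X × Y → G. -/
theorem result (k : Type u) [Field k]
    (X Y G : Over (Spec (CommRingCat.of k)))
    [LocallyOfFiniteType X.hom] [QuasiCompact X.hom] [IsSeparated X.hom] [GeometricallyIntegral X.hom]
    [LocallyOfFiniteType Y.hom] [QuasiCompact Y.hom] [IsSeparated Y.hom] [GeometricallyIntegral Y.hom]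
    [GrpObj G] [LocallyOfFiniteType G.hom] [QuasiCompact G.hom] (hG : (∃ (T : Over (Spec (CommRingCat.of k))) (_ : GrpObj T) (i : T ⟶ G) (A : Over (Spec (CommRingCat.of k))) (_ : GrpObj A) (q : G ⟶ A),
        IsMonHom i ∧ IsClosedImmersion i.left ∧ Red.IsTorus T ∧ IsMonHom q ∧ Surjective q.left ∧ Flat q.left ∧
        AlgGrp.IsKernel i q ∧ IsProper A.hom ∧ Smooth A.hom ∧ ConnectedSpace ↥A.left))
    (x₀ : 𝟙_ (Over (Spec (CommRingCat.of k))) ⟶ X) (y₀ : 𝟙_ (Over (Spec (CommRingCat.of k))) ⟶ Y) (f : X ⊗ Y ⟶ G) :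
    f * (fst X Y ≫ lift (𝟙 X) (toUnit X ≫ y₀) ≫ f)⁻¹ * (snd X Y ≫ lift (toUnit Y ≫ x₀) (𝟙 Y) ≫ f)⁻¹ *
      (toUnit (X ⊗ Y) ≫ lift x₀ y₀ ≫ f) = 1 := by
  haveI : Smooth G.hom := (Chev.IsSA.smooth_connected hG).1
  haveI : ConnectedSpace G.left := (Chev.IsSA.smooth_connected hG).2
  haveI : IsCommMonObj G := Chev.IsSA.isCommMonObj hG
  obtain ⟨T, hT, i, A, hA, q, him, hic, htor, hqm, hqs, hqf, hker, hAp, hAs, hAc⟩ := hG
  haveI := him; haveI := hic; haveI := hqm; haveI := hAp; haveI := hAs; haveI := hAc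
  haveI := Chev.geometricallyIntegral_of_group (A := A)
  haveI : IsCommMonObj A := isCommMonObj_of_isProper_of_geometricallyIntegral _
  haveI : Mono i := GrpField.SchImg.mono_of_isClosedImmersion i
  set a := fst X Y ≫ lift (𝟙 X) (toUnit X ≫ y₀) ≫ f with ha
  set b := snd X Y ≫ lift (toUnit Y ≫ x₀) (𝟙 Y) ≫ f with hb
  set c := toUnit (X ⊗ Y) ≫ lift x₀ y₀ ≫ f with hc
  have h0 := S14584.result k X Y A x₀ y₀ (f ≫ q)
  have hq : (f * a⁻¹ * b⁻¹ * c) ≫ q = toUnit _ ≫ η[A] := by
    rw [MonObj.mul_comp, MonObj.mul_comp, MonObj.mul_comp, GrpObj.inv_comp, GrpObj.inv_comp, ← Hom.one_def, ha, hb, hc]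
    simp only [Category.assoc]
    conv_lhs => arg 1; arg 1; arg 1; rw [h0]
    rw [_root_.mul_assoc _ (_ : X ⊗ Y ⟶ A) _]
    simp [mul_comm, mul_left_comm]
  let w := hker.lift _ _ hq
  have hw : w ≫ i = f * a⁻¹ * b⁻¹ * c := hker.lift_fst _ _ _
  have h1 : lift (𝟙 X) (toUnit X ≫ y₀) ≫ w = 1 := by
    rw [← cancel_mono i, Category.assoc, hw, MonObj.one_comp]
    simp only [MonObj.comp_mul, GrpObj.comp_inv, ha, hb, hc, lift_fst_assoc, lift_snd_assoc, comp_toUnit_assoc,
      Category.id_comp, Category.assoc, comp_lift_assoc, Category.comp_id, comp_lift]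
    simp [mul_comm, mul_left_comm]
  have h2 : lift (toUnit Y ≫ x₀) (𝟙 Y) ≫ w = 1 := by
    rw [← cancel_mono i, Category.assoc, hw, MonObj.one_comp]
    simp only [MonObj.comp_mul, GrpObj.comp_inv, ha, hb, hc, lift_fst_assoc, lift_snd_assoc, comp_toUnit_assoc,
      Category.id_comp, Category.assoc, comp_lift_assoc, Category.comp_id, comp_lift]
    simp [mul_comm, mul_left_comm]
  have h3 := Chev.eq_one_of_axes htor x₀ y₀ w h1 h2
  rw [← hw, h3, MonObj.one_comp]

end Groth.Agent.S14595
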