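import Groth.Statements.S14596
import Groth.Agent.Chev.FiniteQuot
import Groth.Agent.GrpField.SchImg

set_option autoImplicit false
universe u
open CategoryTheory MonoidalCategory CartesianMonoidalCategory MonObj GrpObj AlgebraicGeometry CategoryTheory.Limits
open AlgGrp

namespace Groth.Agent.S14596
open Groth.Agent

/-- Let k be a perfect field, G a k-group scheme of finite type and r₀ : G⁰_red → G the reduced neutral
component of G, i.e. a homomorphism and closed immersion from a reduced k-group scheme whose image
is the connected component of the identity. Then the homogeneous space G/G⁰_red is finite, and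
G⁰_red is the smallest closed subgroup scheme H of G such that G/H is finite: every such H contains
G⁰_red. -/
theorem result (k : Type u) [Field k] [PerfectField k]
    (G G₀ : Over (Spec (CommRingCat.of k))) [GrpObj G] [GrpObj G₀] [LocallyOfFiniteType G.hom] [QuasiCompact G.hom]
    [LocallyOfFiniteType G₀.hom] [QuasiCompact G₀.hom]
    (r₀ : G₀ ⟶ G) [IsMonHom r₀] [IsClosedImmersion r₀.left] [IsReduced G₀.left] (t : ↥((𝟙_ (Over (Spec (CommRingCat.of k)))).left))
    (hr₀ : Set.range ⇑r₀.left.base = connectedComponent ((η[G]).left.base t)) :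
    (∀ (X : Over (Spec (CommRingCat.of k))) (a : AlgGrp.Action G X) (o : 𝟙_ (Over (Spec (CommRingCat.of k))) ⟶ X), AGF.IsQuotient r₀ X a o → IsFinite X.hom) ∧
    ∀ (H : Over (Spec (CommRingCat.of k))) [GrpObj H] (h : H ⟶ G) [IsMonHom h] [IsClosedImmersion h.left]
      (X : Over (Spec (CommRingCat.of k))) (a : AlgGrp.Action G X) (o : 𝟙_ (Over (Spec (CommRingCat.of k))) ⟶ X),
      AGF.IsQuotient h X a o → IsFinite X.hom → ∃ g : G₀ ⟶ H, g ≫ h = r₀ := by
  haveI : IsLocallyNoetherian G.left := LocallyOfFiniteType.isLocallyNoetherian G.hom
  haveI : CompactSpace G.left := QuasiCompact.compactSpace_of_compactSpace G.hom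
  haveI : AlgebraicGeometry.IsNoetherian G.left := {}
  haveI : Mono r₀ := GrpField.SchImg.mono_of_isClosedImmersion r₀
  refine ⟨fun X a o hX => ?_, fun H _ h _ _ X a o hX hXf => ?_⟩
  · have hp := Chev.isPullback_orbitMap r₀ a o hX
    obtain ⟨hft, hfl, hsu, -⟩ := hX
    haveI := hft; haveI := hfl; haveI := hsu
    haveI : IsLocallyNoetherian X.left := LocallyOfFiniteType.isLocallyNoetherian X.hom
    haveI : LocallyOfFiniteType (a.orbitMap o).left := by
      haveI : LocallyOfFiniteType ((a.orbitMap o).left ≫ X.hom) := by rw [Over.w]; infer_instance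
      exact locallyOfFiniteType_of_comp _ X.hom
    haveI : LocallyOfFinitePresentation (a.orbitMap o).left := inferInstance
    have ho : IsOpen ({o.left t} : Set X.left) := by
      suffices {o.left t} = (a.orbitMap o).left '' connectedComponent (η[G].left t) by
        rw [this]
        exact (a.orbitMap o).left.isOpenMap _ (LocNoethTop.isOpen_connectedComponent_of_noetherian _)
      rw [← hr₀]
      have hw : r₀.left ≫ (a.orbitMap o).left = (toUnit G₀).left ≫ o.left := by
        rw [← Over.comp_left, hp.w, Over.comp_left]
      ext y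
      constructor
      · rintro rfl
        refine ⟨_, ⟨η[G₀].left t, rfl⟩, ?_⟩
        rw [← Scheme.Hom.comp_apply, hw, Scheme.Hom.comp_apply]
        exact congrArg o.left (Subsingleton.elim (α := PrimeSpectrum k) _ t)
      · rintro ⟨_, ⟨z, rfl⟩, rfl⟩
        rw [← Scheme.Hom.comp_apply, hw, Scheme.Hom.comp_apply]
        exact congrArg o.left (Subsingleton.elim (α := PrimeSpectrum k) _ t)
    haveI := Chev.discrete_of_isOpen_base a o t ho
    haveI : CompactSpace G.left := QuasiCompact.compactSpace_of_compactSpace G.hom
    haveI : CompactSpace X.left := (a.orbitMap o).left.surjective.compactSpace (a.orbitMap o).left.continuous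
    haveI : Finite X.left := finite_of_compact_of_discrete
    haveI : LocallyQuasiFinite X.hom := LocallyQuasiFinite.of_finite_preimage_singleton X.hom fun y => Set.toFinite _
    exact IsFinite.of_locallyQuasiFinite X.hom
  · haveI : Mono h := GrpField.SchImg.mono_of_isClosedImmersion h
    have hp := Chev.isPullback_orbitMap h a o hX
    haveI := SpQS.discrete_of_isFinite X.hom
    refine Chev.exists_lift_range r₀ h ?_
    rw [hr₀]
    have hrange : Set.range h.left = (a.orbitMap o).left ⁻¹' {o.left t} := by
      have hsq : IsPullback h.left (toUnit H).left (a.orbitMap o).left o.left := hp.map (Over.forget _)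
      rw [← hsq.isoPullback_hom_fst, Scheme.Hom.comp_base, TopCat.coe_comp, Set.range_comp,
        Set.range_eq_univ.2 hsq.isoPullback.hom.surjective, Set.image_univ, Scheme.Pullback.range_fst]
      congr 1
      exact Set.eq_singleton_iff_unique_mem.2 ⟨⟨t, rfl⟩, by
        rintro _ ⟨s, rfl⟩; exact congrArg o.left (Subsingleton.elim (α := PrimeSpectrum k) s t)⟩
    refine IsClopen.connectedComponent_subset ?_ ?_
    · rw [hrange]
      exact (isClopen_discrete {o.left t}).preimage (a.orbitMap o).left.continuous
    · exact ⟨η[H].left t, by rw [← Scheme.Hom.comp_apply, ← Over.comp_left, IsMonHom.one_hom]⟩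


end Groth.Agent.S14596
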