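import Groth.Statements.S1460
import Mathlib

set_option autoImplicit false
universe u
open FlatMor

namespace Groth.Agent.S1460

open AlgebraicGeometry CategoryTheory Limits in
/-- Let f : X → S be a morphism of finite presentation between affine schemes. Then f is the base change
of a morphism of finite type f₀ : X₀ → S₀ between affine schemes with S₀ of finite type over ℤ. -/
theorem result {X S : Scheme.{u}} (f : X ⟶ S) [IsAffine X] [IsAffine S] [LocallyOfFinitePresentation f] :
    ∃ (X₀ S₀ : Scheme.{u}) (f₀ : X₀ ⟶ S₀) (g : S ⟶ S₀) (g' : X ⟶ X₀), IsAffine X₀ ∧ IsAffine S₀ ∧ IsPullback g' f f₀ g ∧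
      Algebra.FiniteType ℤ Γ(S₀, ⊤) ∧ LocallyOfFiniteType f₀ := by
  have hfp : f.appTop.hom.FinitePresentation :=
    HasRingHomProperty.appTop (P := @LocallyOfFinitePresentation) f inferInstance
  algebraize [f.appTop.hom]
  let P := Algebra.Presentation.ofFinitePresentation Γ(S, ⊤) Γ(X, ⊤)
  let R₀ := P.Core
  let B₀ := P.ModelOfHasCoeffs R₀
  let e : TensorProduct R₀ Γ(S, ⊤) B₀ ≃ₐ[Γ(S, ⊤)] Γ(X, ⊤) := P.tensorModelOfHasCoeffsEquiv R₀
  let i : X ≅ Spec (CommRingCat.of (TensorProduct R₀ Γ(S, ⊤) B₀)) :=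
    X.isoSpec ≪≫ Scheme.Spec.mapIso e.toRingEquiv.toCommRingCatIso.op
  have key := (isPullback_SpecMap_of_isPushout _ _ _ _
    (CommRingCat.isPushout_tensorProduct R₀ Γ(S, ⊤) B₀)).flip
  refine ⟨Spec (CommRingCat.of B₀), Spec (CommRingCat.of R₀), Spec.map (CommRingCat.ofHom (algebraMap R₀ B₀)),
    S.isoSpec.hom ≫ Spec.map (CommRingCat.ofHom (algebraMap R₀ Γ(S, ⊤))),
    i.hom ≫ Spec.map (CommRingCat.ofHom (Algebra.TensorProduct.includeRight.toRingHom : B₀ →+* TensorProduct R₀ Γ(S, ⊤) B₀)),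
    inferInstance, inferInstance, ?_, ?_, ?_⟩
  · refine key.of_iso i.symm (Iso.refl _) S.isoSpec.symm (Iso.refl _) ?_ ?_ ?_ ?_
    · simp
    · simp only [Iso.symm_hom]
      rw [← cancel_epi i.hom]
      simp only [Iso.hom_inv_id_assoc]
      rw [← cancel_mono S.isoSpec.hom, Category.assoc, Category.assoc, Iso.inv_hom_id, Category.comp_id, ← Scheme.isoSpec_hom_naturality]
      simp only [i, Iso.trans_hom, Category.assoc, Functor.mapIso_hom, Scheme.Spec_map]
      congr 1
      erw [← Spec.map_comp]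
      congr 1
      ext x
      exact e.commutes x
    · simp
    · simp
  · exact Algebra.FiniteType.equiv (inferInstanceAs (Algebra.FiniteType ℤ R₀))
      (AlgEquiv.ofRingEquiv (f := (Scheme.ΓSpecIso (CommRingCat.of R₀)).symm.commRingCatIsoToRingEquiv) (by simp))
  · rw [HasRingHomProperty.Spec_iff (P := @LocallyOfFiniteType)]
    exact RingHom.finiteType_algebraMap.2 inferInstance

end Groth.Agent.S1460
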