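import Groth.Statements.S14606
import Mathlib.RingTheory.Nilpotent.GeometricallyReduced
import Mathlib.RingTheory.FiniteType
import Mathlib.FieldTheory.IsAlgClosed.Basic
import Mathlib.RingTheory.Flat.Basic
import Mathlib.Algebra.CharP.Frobenius
import Mathlib.RingTheory.Noetherian.Nilpotent
import Mathlib.FieldTheory.Perfect
import Mathlib.RingTheory.FiniteStability

set_option autoImplicit false
universe u
open FrobAlg TensorProduct

namespace Groth.Agent.S14606

/-- Let k be a field of characteristic p > 0 and R a finitely generated commutative k-algebra. The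
scheme-theoretic image of the n-th relative Frobenius morphism of Spec R is the spectrum of the
k-subalgebra k[R^(p^n)] generated by all p^n-th powers; for n large enough this image is
geometrically reduced: there is an n such that k[R^(p^n)] is a geometrically reduced k-algebra.
(Stated in affine, ring-theoretic form.) -/
theorem result (k : Type u) [Field k] (p : ℕ) [Fact p.Prime] [CharP k p]
    (R : Type u) [CommRing R] [Algebra k R] [Algebra.FiniteType k R] :
    ∃ n : ℕ, Algebra.IsGeometricallyReduced k ↥(Algebra.adjoin k (Set.range (fun x : R => x ^ (p ^ n)))) := by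
  rcases subsingleton_or_nontrivial R with hR | hR
  · refine ⟨0, (Algebra.isGeometricallyReduced_field_iff _ _).2 ?_⟩
    infer_instance
  let K := AlgebraicClosure k
  haveI : CharP K p := charP_of_injective_algebraMap (algebraMap k K).injective p
  let ι : R →ₐ[k] K ⊗[k] R := Algebra.TensorProduct.includeRight
  have hι : Function.Injective ι := Algebra.TensorProduct.includeRight_injective (algebraMap k K).injective
  haveI : Nontrivial (K ⊗[k] R) := hι.nontrivial
  haveI : CharP (K ⊗[k] R) p := charP_of_injective_algebraMap (algebraMap K (K ⊗[k] R)).injective p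
  haveI : ExpChar (K ⊗[k] R) p := ExpChar.prime Fact.out
  haveI : IsNoetherianRing (K ⊗[k] R) := Algebra.FiniteType.isNoetherianRing K _
  obtain ⟨m, hm⟩ := IsNoetherianRing.isNilpotent_nilradical (K ⊗[k] R)
  refine ⟨m, (Algebra.isGeometricallyReduced_field_iff _ _).2 ?_⟩
  set A := Algebra.adjoin k (Set.range (fun x : R => x ^ (p ^ m))) with hAdef
  refine ⟨fun x hx => ?_⟩
  let j : K ⊗[k] A →ₐ[k] K ⊗[k] R := Algebra.TensorProduct.map (AlgHom.id k K) A.val
  have hj : Function.Injective j :=
    Module.Flat.lTensor_preserves_injective_linearMap (M := K) A.val.toLinearMap Subtype.coe_injective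
  let S : Subring (K ⊗[k] R) := (iterateFrobenius (K ⊗[k] R) p m).range
  have hK : ∀ c : K, c ⊗ₜ[k] (1 : R) ∈ S := fun c => by
    obtain ⟨d, hd⟩ := (iterateFrobeniusEquiv K p m).surjective c
    refine ⟨d ⊗ₜ 1, ?_⟩
    rw [iterateFrobenius_def, Algebra.TensorProduct.tmul_pow, one_pow, ← hd]
    rfl
  have hA : ∀ a ∈ A, ι a ∈ S := fun a ha => by
    refine Algebra.adjoin_induction ?_ ?_ ?_ ?_ ha
    · rintro _ ⟨y, rfl⟩
      exact ⟨ι y, by rw [iterateFrobenius_def, map_pow]⟩
    · intro r
      rw [AlgHom.commutes, Algebra.TensorProduct.algebraMap_apply]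
      exact hK _
    · intro a b _ _ ha hb; rw [map_add]; exact S.add_mem ha hb
    · intro a b _ _ ha hb; rw [map_mul]; exact S.mul_mem ha hb
  have hx' : j x ∈ S := by
    clear hx
    induction x using TensorProduct.induction_on with
    | zero => rw [map_zero]; exact S.zero_mem
    | tmul c a =>
      have := S.mul_mem (hK c) (hA _ a.2)
      rw [show ι (a : R) = (1 : K) ⊗ₜ[k] (a : R) from rfl, Algebra.TensorProduct.tmul_mul_tmul, mul_one, one_mul] at this
      exact this
    | add a b ha hb => rw [map_add]; exact S.add_mem ha hb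
  obtain ⟨y, hy⟩ := hx'
  have hy' : IsNilpotent y := by
    have h := hx.map j
    rw [← hy, iterateFrobenius_def] at h
    exact IsNilpotent.of_pow h
  have h0 : y ^ p ^ m = 0 := by
    have h1 : y ^ m ∈ nilradical (K ⊗[k] R) ^ m := Ideal.pow_mem_pow (mem_nilradical.2 hy') m
    rw [hm] at h1
    exact pow_eq_zero_of_le (Nat.lt_pow_self (Fact.out : p.Prime).one_lt).le h1
  rw [iterateFrobenius_def, h0] at hy
  exact hj (hy.symm.trans (map_zero j).symm)

end Groth.Agent.S14606
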