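import Groth.Statements.S14608
import Mathlib.RingTheory.LocalRing.Module
import Mathlib.RingTheory.Localization.BaseChange
import Mathlib.RingTheory.LocalRing.ResidueField.Ideal
import Mathlib.Tactic.TFAE
import Mathlib.RingTheory.Flat.Localization

set_option autoImplicit false
universe u v
open CAlg

namespace Groth.Agent.S14608

open scoped TensorProduct
noncomputable section

variable {A : Type u} [CommRing A] (p : Ideal A) [p.IsPrime]

/-- A map is injective on the fibre at `p` iff its localisation is injective on the residue field. -/
lemma lTensor_injective_iff {X Y : Type v} [AddCommGroup X] [Module A X] [AddCommGroup Y] [Module A Y]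
    (f : X →ₗ[A] Y) :
    Function.Injective (f.lTensor p.ResidueField) ↔
      Function.Injective ((f.baseChange (Localization.AtPrime p)).lTensor
        (IsLocalRing.ResidueField (Localization.AtPrime p))) := by
  let eX := TensorProduct.AlgebraTensorModule.cancelBaseChange A (Localization.AtPrime p)
    (Localization.AtPrime p) p.ResidueField X
  let eY := TensorProduct.AlgebraTensorModule.cancelBaseChange A (Localization.AtPrime p)
    (Localization.AtPrime p) p.ResidueField Y
  have h : ∀ z, eY ((f.baseChange (Localization.AtPrime p)).lTensor p.ResidueField z) =
      f.lTensor p.ResidueField (eX z) := fun z => by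
    induction z with
    | zero => simp
    | add a b ha hb => simp [ha, hb]
    | tmul m y =>
      induction y with
      | zero => simp
      | add a b ha hb =>
        simp only [TensorProduct.tmul_add, map_add, LinearMap.lTensor_tmul] at ha hb ⊢
        rw [ha, hb]
      | tmul a x => simp [eX, eY, TensorProduct.smul_tmul']
  constructor
  · intro hf a b hab
    exact eX.injective (hf (by rw [← h, ← h]; exact congrArg eY hab))
  · intro hf a b hab
    obtain ⟨a', rfl⟩ := eX.surjective a
    obtain ⟨b', rfl⟩ := eX.surjective b
    rw [← h, ← h] at hab
    exact congrArg eX (hf (eY.injective hab))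

/-- A localised retraction gives injectivity on the fibre. -/
lemma lTensor_injective_of_retraction {X Y : Type v} [AddCommGroup X] [Module A X] [AddCommGroup Y] [Module A Y]
    (f : X →ₗ[A] Y) (r : Localization.AtPrime p ⊗[A] Y →ₗ[Localization.AtPrime p] Localization.AtPrime p ⊗[A] X)
    (hr : r ∘ₗ f.baseChange _ = LinearMap.id) : Function.Injective (f.lTensor p.ResidueField) := by
  rw [lTensor_injective_iff]
  refine Function.HasLeftInverse.injective ⟨r.lTensor _, fun z => ?_⟩
  rw [← LinearMap.comp_apply, ← LinearMap.lTensor_comp, hr, LinearMap.lTensor_id]
  rfl

/-- Localisation as a base change. -/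
def locEquiv (X : Type v) [AddCommGroup X] [Module A X] :
    Localization.AtPrime p ⊗[A] X ≃ₗ[Localization.AtPrime p] LocalizedModule p.primeCompl X :=
  (IsLocalizedModule.isBaseChange p.primeCompl (Localization.AtPrime p)
    (LocalizedModule.mkLinearMap p.primeCompl X)).equiv

end

open TensorProduct in
/-- Let A be a Noetherian ring, M a finitely generated A-module, F a finitely generated free A-module, δ
: M → F an A-linear map and p a prime of A with residue field κ(p). The following are equivalent:
(a) the natural map (ker δ) ⊗ κ(p) → ker(δ ⊗ κ(p)) is surjective (its image is the whole kernel);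
(b) that map is bijective; (c) (F / im δ) localized at p is a free module over the local ring A_p.
Moreover, if these hold then (im δ) localized at p is free over A_p. (The published statement takes
M to be the cokernel of a map of finitely generated free modules; over a Noetherian ring this is
every finitely generated M, which is what this row takes.) -/
theorem result (A : Type u) [CommRing A] [IsNoetherianRing A]
    (M : Type v) (F : Type v) [AddCommGroup M] [Module A M] [Module.Finite A M]
    [AddCommGroup F] [Module A F] [Module.Finite A F] [Module.Free A F]
    (δ : M →ₗ[A] F) (p : Ideal A) [p.IsPrime] :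
    [ Function.Exact (LinearMap.lTensor p.ResidueField (LinearMap.ker δ).subtype)
        (LinearMap.lTensor p.ResidueField δ),
      Function.Exact (LinearMap.lTensor p.ResidueField (LinearMap.ker δ).subtype)
        (LinearMap.lTensor p.ResidueField δ) ∧
        Function.Injective (LinearMap.lTensor p.ResidueField (LinearMap.ker δ).subtype),
      Module.Free (Localization.AtPrime p)
        (LocalizedModule p.primeCompl (F ⧸ LinearMap.range δ)) ].TFAE ∧
    (Function.Exact (LinearMap.lTensor p.ResidueField (LinearMap.ker δ).subtype)
        (LinearMap.lTensor p.ResidueField δ) →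
      Module.Free (Localization.AtPrime p)
        (LocalizedModule p.primeCompl (LinearMap.range δ))) := by
  haveI : Module.Flat A (Localization.AtPrime p) := IsLocalization.flat _ p.primeCompl
  let K := LinearMap.ker δ
  let I := LinearMap.range δ
  let π : M →ₗ[A] I := δ.rangeRestrict
  haveI : Module.Finite A I := Module.Finite.range δ
  have hπs : Function.Surjective π := δ.surjective_rangeRestrict
  have hKI : Function.Exact K.subtype π := by
    rw [LinearMap.exact_iff, LinearMap.ker_rangeRestrict, Submodule.range_subtype]
  have hIC : Function.Exact I.subtype I.mkQ := LinearMap.exact_subtype_mkQ I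
  have hδ : δ = I.subtype ∘ₗ π := rfl
  have hKIk := lTensor_exact p.ResidueField hKI hπs
  have hbci : Function.Injective (I.subtype.baseChange (Localization.AtPrime p)) := by
    intro a b hab
    exact Module.Flat.lTensor_preserves_injective_linearMap (M := Localization.AtPrime p) I.subtype
      Subtype.val_injective hab
  have hbcs : Function.Surjective (I.mkQ.baseChange (Localization.AtPrime p)) :=
    LinearMap.lTensor_surjective _ I.mkQ_surjective
  have hbce : Function.Exact (I.subtype.baseChange (Localization.AtPrime p))
      (I.mkQ.baseChange (Localization.AtPrime p)) := lTensor_exact _ hIC I.mkQ_surjective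
  -- exactness of the fibre is injectivity of the image
  have h1 : Function.Exact (LinearMap.lTensor p.ResidueField K.subtype) (LinearMap.lTensor p.ResidueField δ) ↔
      Function.Injective (I.subtype.lTensor p.ResidueField) := by
    constructor
    · intro h
      rw [injective_iff_map_eq_zero]
      intro y hy
      obtain ⟨m, rfl⟩ := LinearMap.lTensor_surjective p.ResidueField hπs y
      rw [← LinearMap.comp_apply, ← LinearMap.lTensor_comp, ← hδ] at hy
      obtain ⟨k, rfl⟩ := (h m).1 hy
      exact hKIk.apply_apply_eq_zero k
    · intro h m
      rw [hδ, LinearMap.lTensor_comp, LinearMap.comp_apply]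
      refine Iff.trans ⟨fun hm => h (hm.trans (map_zero _).symm), fun hm => by rw [hm, map_zero]⟩ (hKIk m)
  -- injectivity of the image is freeness of the cokernel
  have h2 : Function.Injective (I.subtype.lTensor p.ResidueField) →
      Module.Free (Localization.AtPrime p) (LocalizedModule p.primeCompl (F ⧸ I)) := fun h => by
    haveI := Module.free_of_lTensor_residueField_injective (I.subtype.baseChange (Localization.AtPrime p))
      (I.mkQ.baseChange (Localization.AtPrime p)) hbcs hbce ((lTensor_injective_iff p I.subtype).1 h)
    exact Module.Free.of_equiv (locEquiv p (F ⧸ I))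
  have h3 : Module.Free (Localization.AtPrime p) (LocalizedModule p.primeCompl (F ⧸ I)) →
      Function.Injective (I.subtype.lTensor p.ResidueField) ∧
      Module.Free (Localization.AtPrime p) (LocalizedModule p.primeCompl I) ∧
      Function.Injective (K.subtype.lTensor p.ResidueField) := fun h => by
    haveI := h
    haveI : Module.Free (Localization.AtPrime p) (Localization.AtPrime p ⊗[A] (F ⧸ I)) :=
      Module.Free.of_equiv (locEquiv p (F ⧸ I)).symm
    obtain ⟨r, hr⟩ := ((Function.Exact.split_tfae hbce hbci hbcs).out 0 1).mp
      (Module.projective_lifting_property _ _ hbcs)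
    haveI : Module.Projective (Localization.AtPrime p) (Localization.AtPrime p ⊗[A] I) :=
      Module.Projective.of_split _ _ hr
    haveI : Module.Free (Localization.AtPrime p) (Localization.AtPrime p ⊗[A] I) :=
      Module.free_of_flat_of_isLocalRing
    have hbcK : Function.Injective (K.subtype.baseChange (Localization.AtPrime p)) := fun a b hab =>
      Module.Flat.lTensor_preserves_injective_linearMap (M := Localization.AtPrime p) K.subtype
        Subtype.val_injective hab
    have hbcKe : Function.Exact (K.subtype.baseChange (Localization.AtPrime p))
        (π.baseChange (Localization.AtPrime p)) := lTensor_exact _ hKI hπs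
    have hbcπ : Function.Surjective (π.baseChange (Localization.AtPrime p)) := LinearMap.lTensor_surjective _ hπs
    obtain ⟨r', hr'⟩ := ((Function.Exact.split_tfae hbcKe hbcK hbcπ).out 0 1).mp
      (Module.projective_lifting_property _ _ hbcπ)
    exact ⟨lTensor_injective_of_retraction p _ r hr, Module.Free.of_equiv (locEquiv p I),
      lTensor_injective_of_retraction p _ r' hr'⟩
  refine ⟨?_, fun h => (h3 (h2 (h1.1 h))).2.1⟩
  tfae_have 1 → 3 := fun h => h2 (h1.1 h)
  tfae_have 3 → 2 := fun h => ⟨h1.2 (h3 h).1, (h3 h).2.2⟩
  tfae_have 2 → 1 := fun h => h.1
  tfae_finish

end Groth.Agent.S14608
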