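import Groth.Statements.S14609
import Groth.Agent.FlatCx.Semicontinuous
import Mathlib.LinearAlgebra.FreeModule.Finite.Basic
import Mathlib.LinearAlgebra.Dimension.RankNullity
import Mathlib.LinearAlgebra.TensorProduct.RightExactness

set_option autoImplicit false
universe u v
open CAlg Groth.Agent
open scoped TensorProduct

namespace Groth.Agent.S14609

open TensorProduct in
/-- Let A be a Noetherian ring, M a finitely generated A-module, F a finitely generated free A-module
and δ : M → F an A-linear map. Then the function on Spec A sending a prime p with residue field κ(p)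
to the κ(p)-dimension of the kernel of δ ⊗ κ(p) : M ⊗ κ(p) → F ⊗ κ(p) is upper semicontinuous. -/
theorem result (A : Type u) [CommRing A]
    [IsNoetherianRing A] (M : Type v) (F : Type v) [AddCommGroup M] [Module A M] [Module.Finite A M]
    [AddCommGroup F] [Module A F] [Module.Finite A F] [Module.Free A F] (δ : M →ₗ[A] F) :
    UpperSemicontinuous (fun x : PrimeSpectrum A =>
      Module.finrank x.asIdeal.ResidueField
        (LinearMap.ker (δ.baseChange x.asIdeal.ResidueField))) := by
  classical
  obtain ⟨n, π, hπ⟩ := Module.Finite.exists_fin' A M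
  let e := (Module.Free.chooseBasis A F).reindex (Fintype.equivFin _)
  let eF := e.equivFun
  let N := LinearMap.ker π
  let d : (Fin n → A) →ₗ[A] (Fin (Fintype.card (Module.Free.ChooseBasisIndex A F)) → A) := eF.toLinearMap ∘ₗ δ ∘ₗ π
  have key : ∀ x : PrimeSpectrum A, Module.finrank x.asIdeal.ResidueField (LinearMap.ker (δ.baseChange x.asIdeal.ResidueField)) +
      FlatCx.fibreRk N.subtype x + FlatCx.fibreRk d x = n := by
    intro x
    let k := x.asIdeal.ResidueField
    haveI : Nontrivial A := (algebraMap A k).domain_nontrivial
    have hn : Module.finrank k (k ⊗[A] (Fin n → A)) = n := by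
      rw [Module.finrank_baseChange, Module.finrank_pi, Fintype.card_fin]
    have hpk : Function.Surjective (π.baseChange k) := LinearMap.lTensor_surjective k hπ
    have hex : Function.Exact (N.subtype.baseChange k) (π.baseChange k) :=
      @lTensor_exact A N (Fin n → A) M _ _ _ _ _ _ _ N.subtype π k _ _ (LinearMap.exact_subtype_ker_map π) hπ
    have h1 := LinearMap.finrank_range_add_finrank_ker (π.baseChange k)
    rw [LinearMap.range_eq_top.2 hpk, finrank_top, LinearMap.exact_iff.1 hex, hn] at h1
    have h2 := LinearMap.finrank_range_add_finrank_ker (δ.baseChange k)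
    have h3 : Module.finrank k (LinearMap.range (d.baseChange k)) = Module.finrank k (LinearMap.range (δ.baseChange k)) := by
      have e1 : d.baseChange k = (eF.baseChange A k _ _).toLinearMap ∘ₗ (δ.baseChange k ∘ₗ π.baseChange k) := by
        simp only [d, LinearMap.baseChange_comp]
        rfl
      rw [e1, LinearMap.range_comp, LinearMap.range_comp_of_range_eq_top _ (LinearMap.range_eq_top.2 hpk)]
      exact LinearEquiv.finrank_map_eq _ _
    unfold FlatCx.fibreRk
    simp only [k] at h1 h2 h3 ⊢
    rw [h3]
    omega
  intro x r hr
  have ha := (FlatCx.isOpen_le_fibreRk N.subtype (FlatCx.fibreRk N.subtype x)).mem_nhds (x := x) (le_refl (FlatCx.fibreRk N.subtype x))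
  have hb := (FlatCx.isOpen_le_fibreRk d (FlatCx.fibreRk d x)).mem_nhds (x := x) (le_refl (FlatCx.fibreRk d x))
  filter_upwards [ha, hb] with z hza hzb
  have hza' : FlatCx.fibreRk N.subtype x ≤ FlatCx.fibreRk N.subtype z := hza
  have hzb' : FlatCx.fibreRk d x ≤ FlatCx.fibreRk d z := hzb
  have kx := key x
  have kz := key z
  simp only at hr ⊢
  omega

end Groth.Agent.S14609
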