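import Groth.Statements.S14611
import Mathlib
import Groth.Agent.FlatCx.Exact
import Groth.Agent.LocalCrit.Basic

set_option linter.style.haveILetI false

set_option autoImplicit false
universe u
open FlatCx

namespace Groth.Agent.S14611

open TensorProduct in
theorem tmul_one_eq_zero_iff {A : Type u} [CommRing A] {X : Type u} [AddCommGroup X] [Module A X]
    (J : Ideal A) (x : X) : x ⊗ₜ[A] (1 : A ⧸ J) = 0 ↔ x ∈ J • (⊤ : Submodule A X) := by
  rw [← (TensorProduct.comm A X (A ⧸ J)).map_eq_zero_iff, TensorProduct.comm_tmul,
    Groth.Agent.LocalCrit.one_tmul_eq_zero_iff]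

open TensorProduct in
theorem exists_tmul_one {A : Type u} [CommRing A] {X : Type u} [AddCommGroup X] [Module A X]
    (J : Ideal A) (z : X ⊗[A] (A ⧸ J)) : ∃ x, z = x ⊗ₜ[A] (1 : A ⧸ J) := by
  obtain ⟨x, hx⟩ := Groth.Agent.LocalCrit.exists_one_tmul J (TensorProduct.comm A X (A ⧸ J) z)
  exact ⟨x, (TensorProduct.comm A X (A ⧸ J)).injective (by rw [hx, TensorProduct.comm_tmul])⟩

/-- If every element with image in `m F` differs from a cycle modulo `m`, the cokernel is projective. -/
theorem projective_coker {A : Type u} [CommRing A] {N F : Type u} [AddCommGroup N] [Module A N]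
    [Module.Finite A N] [AddCommGroup F] [Module A F] [Module.Finite A F] [Module.Projective A F]
    (f : N →ₗ[A] F)
    (h : ∀ (m : Ideal A) [m.IsMaximal], ∀ x, f x ∈ m • (⊤ : Submodule A F) →
      ∃ z ∈ m • (⊤ : Submodule A N), f x = f z) :
    Module.Projective A (F ⧸ LinearMap.range f) := by
  have : Module.FinitePresentation A F := Module.finitePresentation_of_projective A F
  have : Module.FinitePresentation A (F ⧸ LinearMap.range f) :=
    Module.finitePresentation_of_surjective (LinearMap.range f).mkQ (Submodule.mkQ_surjective _)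
      (by rw [Submodule.ker_mkQ, LinearMap.range_eq_map]; exact Module.Finite.fg_top.map f)
  refine Module.projective_of_localization_maximal fun m hm ↦ ?_
  let S := m.primeCompl
  let Am := Localization.AtPrime m
  let l := LocalizedModule.map S f
  let g := LocalizedModule.map S (LinearMap.range f).mkQ
  have hex : Function.Exact l g := LocalizedModule.map_exact S f _ (LinearMap.exact_map_mkQ_range f)
  have hg : Function.Surjective g := LocalizedModule.map_surjective S _ (Submodule.mkQ_surjective _)
  have hex' : Function.Exact (LinearMap.range l).subtype g := by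
    rw [LinearMap.exact_iff, Submodule.range_subtype]; exact hex.linearMap_ker_eq
  have : Module.Free Am (LocalizedModule S F) := Module.free_of_flat_of_isLocalRing
  have hsm : ∀ y ∈ (IsLocalRing.maximalIdeal Am) • (⊤ : Submodule Am (LocalizedModule S F)),
      ∃ (z : F) (s : S), z ∈ m • (⊤ : Submodule A F) ∧ y = LocalizedModule.mk z s := by
    intro y hy
    refine Submodule.smul_induction_on hy ?_ ?_
    · intro a ha w _
      obtain ⟨a, s, rfl⟩ := IsLocalization.exists_mk'_eq S a
      rw [IsLocalization.AtPrime.mk'_mem_maximal_iff Am m a s] at ha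
      induction w using LocalizedModule.induction_on with
      | h w t =>
        refine ⟨a • w, s * t, Submodule.smul_mem_smul ha trivial, ?_⟩
        rw [← Localization.mk_eq_mk', LocalizedModule.mk_smul_mk]
    · rintro a b ha hb
      obtain ⟨za, sa, hza, rfl⟩ := ha
      obtain ⟨zb, sb, hzb, rfl⟩ := hb
      refine ⟨sb • za + sa • zb, sa * sb, ?_, LocalizedModule.mk_add_mk⟩
      exact Submodule.add_mem _ (Submodule.smul_mem _ (sb : A) hza) (Submodule.smul_mem _ (sa : A) hzb)
  have hinj : Function.Injective
      ((LinearMap.range l).subtype.lTensor (IsLocalRing.ResidueField Am)) := by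
    refine (Groth.Agent.LocalCrit.quot_lTensor_injective_iff (IsLocalRing.maximalIdeal Am) _).mpr ?_
    rintro ⟨_, ⟨v, rfl⟩⟩ hv
    induction v using LocalizedModule.induction_on with
    | h x s =>
      obtain ⟨y, t, hy, hyt⟩ := hsm _ hv
      change LocalizedModule.map S f (LocalizedModule.mk x s) = _ at hyt
      rw [LocalizedModule.map_mk, LocalizedModule.mk_eq] at hyt
      obtain ⟨u, hu⟩ := hyt
      obtain ⟨z, hz, hfz⟩ := h m ((u * t : S) • x) (by
        rw [Submonoid.smul_def, map_smul, ← Submonoid.smul_def, mul_smul, hu]
        exact Submodule.smul_mem _ (u : A) (Submodule.smul_mem _ (s : A) hy))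
      have hzm : LocalizedModule.mk z (u * t * s) ∈
          (IsLocalRing.maximalIdeal Am) • (⊤ : Submodule Am (LocalizedModule S N)) := by
        generalize u * t * s = d
        refine Submodule.smul_induction_on hz ?_ ?_
        · intro a ha w _
          rw [show LocalizedModule.mk (a • w) d = algebraMap A Am a • LocalizedModule.mk w d by
            rw [algebraMap_smul, LocalizedModule.smul'_mk]]
          exact Submodule.smul_mem_smul ((IsLocalization.AtPrime.to_map_mem_maximal_iff Am m a).mpr ha) trivial
        · intro a b ha hb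
          rw [show LocalizedModule.mk (a + b) d = LocalizedModule.mk a d + LocalizedModule.mk b d from
            (map_add (LocalizedModule.divBy d ∘ₗ LocalizedModule.mkLinearMap S N) a b |> fun e ↦ by
              simpa [LocalizedModule.divBy, LocalizedModule.mk_add_mk, LocalizedModule.smul'_mk] using e)]
          exact Submodule.add_mem _ ha hb
      have hval : (⟨LocalizedModule.map S f (LocalizedModule.mk x s), ⟨_, rfl⟩⟩ : LinearMap.range l) =
          l.rangeRestrict (LocalizedModule.mk z (u * t * s)) := by
        apply Subtype.ext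
        show LocalizedModule.map S f (LocalizedModule.mk x s) =
          LocalizedModule.map S f (LocalizedModule.mk z (u * t * s))
        rw [LocalizedModule.map_mk, LocalizedModule.map_mk, ← hfz, Submonoid.smul_def, map_smul,
          ← Submonoid.smul_def, LocalizedModule.mk_cancel_common_left]
      show (⟨LocalizedModule.map S f (LocalizedModule.mk x s), ⟨_, rfl⟩⟩ : LinearMap.range l) ∈ _
      rw [hval]
      have := Submodule.mem_map_of_mem (f := l.rangeRestrict) hzm
      rw [Submodule.map_smul''] at this
      exact Submodule.smul_mono le_rfl le_top this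
  have : Module.Free Am (LocalizedModule S (F ⧸ LinearMap.range f)) :=
    Module.free_of_lTensor_residueField_injective (LinearMap.range l).subtype g hg hex' hinj
  exact Module.Projective.of_free
open TensorProduct


open CategoryTheory CategoryTheory.Limits in
/-- Let A be a Noetherian ring, Q a cochain complex whose terms are finitely generated projective
A-modules, and d an integer such that H^p(Q) = 0 for every p < d and H^p(Q ⊗_A A/m) = 0 for every p
< d and every maximal ideal m of A. Then Q^d / im(Q^{d-1} → Q^d), the degree-d term of the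
truncation τ_{≥ d} Q, is a projective A-module, so that τ_{≥ d} Q is again a complex of projective
modules. (The published statement also asserts that Q → τ_{≥ d} Q is a quasi-isomorphism when H^p(Q)
= 0 for p < d; this row omits that clause.) -/
theorem result (A : Type u) [CommRing A] [IsNoetherianRing A]
    (Q : CochainComplex (ModuleCat.{u} A) ℤ)
    (hQ : ∀ i, Module.Finite A (Q.X i) ∧ Module.Projective A (Q.X i)) (d : ℤ)
    (h1 : ∀ p < d, IsZero (Q.homology p))
    (h2 : ∀ (m : Ideal A) [m.IsMaximal], ∀ p < d,
      IsZero ((CohIII.tensorObj Q (ModuleCat.of A (A ⧸ m))).homology p)) :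
    Module.Projective A (Q.opcycles d) := by
  classical
  have hi : (ComplexShape.up ℤ).prev d = d - 1 := CochainComplex.prev ℤ d
  haveI := (hQ (d - 1)).1
  haveI := (hQ d).1
  haveI := (hQ d).2
  haveI : Module.Projective A (Groth.Agent.FlatCx.Opc Q (d - 1) d) := by
    refine projective_coker (Q.d (d - 1) d).hom fun m _ x hx ↦ ?_
    have hex : ((CohIII.tensorObj Q (ModuleCat.of A (A ⧸ m))).sc' (d - 2) (d - 1) d).Exact :=
      (HomologicalComplex.exactAt_iff' _ (d - 2) (d - 1) d ((CochainComplex.prev ℤ (d - 1)).trans (by ring))
        ((CochainComplex.next ℤ (d - 1)).trans (by ring))).mp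
        ((HomologicalComplex.exactAt_iff_isZero_homology _ _).mpr (h2 m (d - 1) (by omega)))
    have hcyc : Groth.Agent.FlatCx.dT Q (A ⧸ m) (d - 1) d (x ⊗ₜ[A] (1 : A ⧸ m)) = 0 := by
      rw [LinearMap.rTensor_tmul, tmul_one_eq_zero_iff]
      exact hx
    obtain ⟨w, hw⟩ : x ⊗ₜ[A] (1 : A ⧸ m) ∈ LinearMap.range (Groth.Agent.FlatCx.dT Q (A ⧸ m) (d - 2) (d - 1)) :=
      ((ShortComplex.moduleCat_exact_iff_range_eq_ker _).mp hex).ge hcyc
    obtain ⟨y, rfl⟩ := exists_tmul_one m w
    rw [LinearMap.rTensor_tmul, eq_comm, ← sub_eq_zero, ← TensorProduct.sub_tmul, tmul_one_eq_zero_iff] at hw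
    refine ⟨_, hw, ?_⟩
    have h0 : (Q.d (d - 1) d).hom ((Q.d (d - 2) (d - 1)).hom y) = 0 := by
      rw [← LinearMap.comp_apply, ← ModuleCat.hom_comp, Q.d_comp_d]; rfl
    rw [map_sub, h0, sub_zero]
  exact Module.Projective.of_equiv (Groth.Agent.FlatCx.opcyclesEquiv (P := Q) hi).symm

end Groth.Agent.S14611
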