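import Groth.Statements.S14612
import Mathlib
import Groth.Agent.FlatCx.Dvr

open CategoryTheory CategoryTheory.Limits TensorProduct
open Groth.Agent.FlatCx

set_option linter.style.haveILetI false
set_option backward.isDefEq.respectTransparency false

set_option autoImplicit false
universe u
open FlatCx

namespace Groth.Agent.S14612

open CategoryTheory CategoryTheory.Limits in
/-- Let A be a commutative ring and F a cochain complex of flat A-modules which is bounded above (F^i =
0 for all large i) and whose cohomology H^p(F) vanishes for every p > d. Then the module of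
d-cocycles Z^d = ker(F^d → F^{d+1}) is flat over A; hence the truncation τ_{≤ d} F is again a
complex of flat modules (and τ_{≤ d} F → F is a quasi-isomorphism, which is not restated).
Boundedness cannot be dropped. -/
theorem result (A : Type u) [CommRing A]
    (F : CochainComplex (ModuleCat.{u} A) ℤ) (hF : ∀ i, Module.Flat A (F.X i))
    (hb : ∃ b : ℤ, ∀ i, b < i → IsZero (F.X i)) (d : ℤ) (hac : ∀ p, d < p → IsZero (F.homology p)) :
    Module.Flat A (F.cycles d) := by
  obtain ⟨b, hb⟩ := hb
  suffices H : ∀ (k : ℕ) (n : ℤ), d ≤ n → b + 1 ≤ n + k → Module.Flat A (Zc F n) by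
    haveI := H (b + 1 - d).toNat d le_rfl (by omega)
    exact @Module.Flat.of_linearEquiv A (Zc F d) (F.cycles d) _ _ _ _ _ ‹_›
      (F.sc d).moduleCatCyclesIso.toLinearEquiv
  intro k
  induction k with
  | zero =>
    intro n _ hn
    haveI : Subsingleton (F.X n) := ModuleCat.subsingleton_of_isZero (hb n (by omega))
    infer_instance
  | succ k ih =>
    intro n hdn hn
    have hZ := ih (n + 1) (by omega) (by omega)
    have hnext : ∀ i : ℤ, (ComplexShape.up ℤ).next i = i + 1 := fun i => CochainComplex.next ℤ i
    have hprev : (ComplexShape.up ℤ).prev (n + 1) = n := by simp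
    haveI := hF n
    haveI := hZ
    let g : F.X n →ₗ[A] Zc F (n + 1) := (F.d n (n + 1)).hom.codRestrict _ fun x =>
      congr($(F.d_comp_d n (n + 1) _) x)
    have hex : Function.Exact (Zc F n).subtype g := by
      intro x
      rw [Submodule.coe_subtype, Subtype.range_coe_subtype, Set.mem_setOf_eq]
      show g x = 0 ↔ x ∈ LinearMap.ker (F.d n ((ComplexShape.up ℤ).next n)).hom
      rw [hnext n, LinearMap.mem_ker]
      exact ⟨fun h => congrArg Subtype.val h, fun h => Subtype.ext h⟩
    have hsur : Function.Surjective g := fun z => by
      obtain ⟨w, hw⟩ := (isZero_homology_iff (K := F) (j := n + 1) hprev rfl).mp (hac _ (by omega)) z.1 z.2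
      exact ⟨w, Subtype.ext hw⟩
    exact flat_of_flat_quotient (Submodule.injective_subtype _) hex hsur

end Groth.Agent.S14612
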