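import Groth.Statements.S14614
import Groth.Agent.ConsEngine.Core
import Mathlib.AlgebraicGeometry.Morphisms.FlatMono
import Mathlib.RingTheory.Filtration
import Mathlib.RingTheory.HopkinsLevitzki

set_option autoImplicit false
universe u
open Mor

namespace Groth.Agent.S14614

open CategoryTheory AlgebraicGeometry in
/-- Let S be a locally Noetherian scheme and i : Z → S a closed immersion with the following property:
for every Artinian local ring A with residue field k and every morphism g : Spec A → S, if the
restriction Spec k → Spec A → S of g factors through i then so does g. Then i is also an open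
immersion, i.e. the closed subscheme Z is open in S as a subscheme. (The published hypothesis is an
equivalence; its other direction always holds, so this row assumes only the implication.) -/
theorem result (S : Scheme.{u}) [IsLocallyNoetherian S]
    {Z : Scheme.{u}} (i : Z ⟶ S) [IsClosedImmersion i]
    (h : ∀ (A : Type u) [CommRing A] [IsArtinianRing A] [IsLocalRing A] (g : Spec (CommRingCat.of A) ⟶ S),
      (∃ t : Spec (CommRingCat.of (IsLocalRing.ResidueField A)) ⟶ Z,
          t ≫ i = Spec.map (CommRingCat.ofHom (IsLocalRing.residue A)) ≫ g) →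
        ∃ g' : Spec (CommRingCat.of A) ⟶ Z, g' ≫ i = g) :
    IsOpenImmersion i := by
  haveI : LocallyOfFinitePresentation i := ConsEngine.lfp_of_lft i
  haveI : Flat i := Flat.of_stalkMap i fun z => by
    refine RingHom.Flat.of_bijective ⟨?_, i.stalkMap_surjective z⟩
    rw [injective_iff_map_eq_zero]
    intro x hx
    let R := S.presheaf.stalk (i z)
    suffices H : ∀ n : ℕ, x ∈ IsLocalRing.maximalIdeal R ^ (n + 1) by
      have hb : x ∈ ⨅ n : ℕ, IsLocalRing.maximalIdeal R ^ n := (Submodule.mem_iInf _).2 fun n => by
        rcases n with _ | n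
        · simp
        · exact H n
      rwa [Ideal.iInf_pow_eq_bot_of_isLocalRing _ (IsLocalRing.maximalIdeal.isMaximal R).ne_top,
        Ideal.mem_bot] at hb
    intro n
    let A := R ⧸ IsLocalRing.maximalIdeal R ^ (n + 1)
    haveI : Nontrivial A := Ideal.Quotient.nontrivial_iff.2
      (ne_top_of_le_ne_top (IsLocalRing.maximalIdeal.isMaximal R).ne_top (Ideal.pow_le_self (Nat.succ_ne_zero n)))
    haveI : IsLocalRing A := IsLocalRing.of_surjective' (Ideal.Quotient.mk _) Ideal.Quotient.mk_surjective
    haveI hloc : IsLocalHom (Ideal.Quotient.mk (IsLocalRing.maximalIdeal R ^ (n + 1))) :=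
      IsLocalHom.of_surjective _ Ideal.Quotient.mk_surjective
    have hmax : IsLocalRing.maximalIdeal A = (IsLocalRing.maximalIdeal R).map (Ideal.Quotient.mk _) :=
      (IsLocalRing.map_maximalIdeal_of_surjective _ Ideal.Quotient.mk_surjective).symm
    haveI : IsArtinianRing A := (isArtinianRing_iff_isNilpotent_maximalIdeal A).2
      ⟨n + 1, by rw [hmax, ← Ideal.map_pow, Ideal.map_quotient_self, Ideal.zero_eq_bot]⟩
    let q : R →+* A := Ideal.Quotient.mk _
    haveI : IsLocalHom q := hloc
    let g : Spec (CommRingCat.of A) ⟶ S := Spec.map (CommRingCat.ofHom q) ≫ S.fromSpecStalk (i z)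
    have hker : RingHom.ker (i.stalkMap z).hom ≤ RingHom.ker ((IsLocalRing.residue A).comp q) := fun y hy => by
      rw [RingHom.mem_ker, RingHom.comp_apply, IsLocalRing.residue_eq_zero_iff, IsLocalRing.mem_maximalIdeal,
        mem_nonunits_iff]
      intro hu
      have h1 : IsUnit y := isUnit_of_map_unit q y hu
      have h2 := h1.map (i.stalkMap z).hom
      rw [RingHom.mem_ker.1 hy] at h2
      exact not_isUnit_zero h2
    let φ : Z.presheaf.stalk z →+* IsLocalRing.ResidueField A :=
      RingHom.liftOfSurjective (i.stalkMap z).hom (i.stalkMap_surjective z) ⟨(IsLocalRing.residue A).comp q, hker⟩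
    have hφ : i.stalkMap z ≫ CommRingCat.ofHom φ = CommRingCat.ofHom q ≫ CommRingCat.ofHom (IsLocalRing.residue A) := by
      ext y
      exact RingHom.liftOfRightInverse_comp_apply (i.stalkMap z).hom _
        (Function.rightInverse_surjInv (i.stalkMap_surjective z)) ⟨(IsLocalRing.residue A).comp q, hker⟩ y
    obtain ⟨g', hg'⟩ := h A g ⟨Spec.map (CommRingCat.ofHom φ) ≫ Z.fromSpecStalk z, by
      rw [Category.assoc, ← Scheme.SpecMap_stalkMap_fromSpecStalk, ← Spec.map_comp_assoc]
      erw [hφ]
      rw [Spec.map_comp_assoc]⟩
    have hc : g (IsLocalRing.closedPoint A) = i z := by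
      show S.fromSpecStalk (i z) (Spec.map (CommRingCat.ofHom q) (IsLocalRing.closedPoint A)) = i z
      rw [show Spec.map (CommRingCat.ofHom q) (IsLocalRing.closedPoint A) = IsLocalRing.closedPoint R from
        IsLocalRing.comap_closedPoint q, Scheme.fromSpecStalk_closedPoint]
    have hz : g' (IsLocalRing.closedPoint A) = z := i.isClosedEmbedding.injective (by
      rw [← Scheme.Hom.comp_apply, hg', hc])
    have key : ∀ w : Z, g' (IsLocalRing.closedPoint A) = w →
        ∃ ψ : Z.presheaf.stalk w ⟶ CommRingCat.of A, Spec.map ψ ≫ Z.fromSpecStalk w = g' := by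
      intro w hw
      subst hw
      exact ⟨_, Scheme.Spec_stalkClosedPointTo_fromSpecStalk g'⟩
    obtain ⟨ψ, hψ⟩ := key z hz
    have e : Spec.map (CommRingCat.ofHom q) = Spec.map (i.stalkMap z ≫ ψ) := by
      rw [← cancel_mono (S.fromSpecStalk (i z)), Spec.map_comp_assoc, Scheme.SpecMap_stalkMap_fromSpecStalk,
        ← Category.assoc, hψ, hg']
    have e2 := congrArg (fun m => m.hom x) (Spec.map_injective e)
    rw [CommRingCat.hom_comp, RingHom.comp_apply, hx, map_zero] at e2
    exact Ideal.Quotient.eq_zero_iff_mem.1 e2
  exact IsOpenImmersion.of_flat_of_mono i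

end Groth.Agent.S14614
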