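import Groth.Statements.S14615
import Groth.Agent.S14616

set_option autoImplicit false
universe u
open Formal2
open CategoryTheory

namespace Groth.Agent.S14615

/-- Let … → G_2 → G_1 → G_0 be an inverse system of abelian groups with transition maps t_n : G_{n+1} →
G_n, and suppose that for every i there is j ≥ i such that the composite transition map G_j → G_i is
zero; this is expressed by asking that every sequence (x_n) ∈ ∏ G_n satisfying x_n = t_n(x_{n+1})
for i ≤ n < j has x_i = 0. Then both lim G_n and lim¹ G_n vanish: the map (x_n) ↦ (x_n −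
t_n(x_{n+1})) on ∏ G_n, whose kernel is lim and whose cokernel is lim¹, is injective and surjective. -/
theorem result (G : ℕ → Type u)
    [∀ n, AddCommGroup (G n)] (t : ∀ n, G (n + 1) →+ G n)
    (h : ∀ i : ℕ, ∃ j : ℕ, i ≤ j ∧
      ∀ x : ∀ n, G n, (∀ n, i ≤ n → n < j → x n = t n (x (n + 1))) → x i = 0) :
    Formal2.limZero G t = ⊥ ∧ Function.Surjective (Formal2.towerDiff G t) := by
  constructor
  · rw [eq_bot_iff]
    intro x hx
    rw [AddSubgroup.mem_bot]
    funext i
    obtain ⟨j, -, hj⟩ := h i
    exact hj x fun n _ _ => sub_eq_zero.1 (congrFun (AddMonoidHom.mem_ker.1 hx) n)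
  · refine Groth.Agent.S14616.result G t fun j => ?_
    obtain ⟨N, hN, hz⟩ := h j.unop
    refine ⟨Opposite.op N, (homOfLE hN).op, fun k g => ?_⟩
    let F := Functor.ofOpSequence (X := fun n => AddCommGrpCat.of (G n)) (fun n => AddCommGrpCat.ofHom (t n))
    rintro _ ⟨z, rfl⟩
    have key : (F.map (homOfLE hN).op).hom z = 0 := by
      let x : ∀ n, G n := fun n => if hn : n ≤ N then (F.map (homOfLE hn).op).hom z else 0
      have hx : ∀ n (hn : n ≤ N), x n = (F.map (homOfLE hn).op).hom z := fun n hn => dif_pos hn
      have := hz x (fun n hn1 hn2 => by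
        have hn : n + 1 ≤ N := hn2
        rw [hx _ hn, hx _ hn2.le]
        exact (DFunLike.congr_fun (congrArg AddCommGrpCat.Hom.hom ((F.map_comp (homOfLE hn).op (homOfLE (Nat.le_succ n)).op).trans
          (congrArg (F.map (homOfLE hn).op ≫ ·) (Functor.ofOpSequence_map_homOfLE_succ
            (X := fun n => AddCommGrpCat.of (G n)) (fun n => AddCommGrpCat.ofHom (t n)) n)))) z))
      exact (hx _ hN).symm.trans this
    exact ⟨0, (map_zero (F.map g).hom).trans key.symm⟩

end Groth.Agent.S14615
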