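import Groth.Statements.S14617
import Mathlib

set_option autoImplicit false
universe u
open Formal2

namespace Groth.Agent.S14617

/-- Let 0 → (G'_n) → (G_n) → (G''_n) → 0 be a short exact sequence of inverse systems of abelian groups
indexed by ℕ: maps u_n : G'_n → G_n and v_n : G_n → G''_n commuting with the transition maps, with
u_n injective, v_n surjective and ker v_n = im u_n for every n. Writing lim and lim¹ for the kernel
and cokernel of (x_n) ↦ (x_n − t_n(x_{n+1})) on the product, there is an exact sequence 0 → lim G' →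
lim G → lim G'' → lim¹ G' → lim¹ G → lim¹ G'' → 0 in which the four outer maps are the ones induced
by u and v on products and the connecting map δ sends a compatible sequence (z_n) to the class of
the unique (w_n) with u_n(w_n) = y_n − t_n(y_{n+1}), for any levelwise lift (y_n) of (z_n). -/
theorem result (G' G G'' : ℕ → Type u)
    [∀ n, AddCommGroup (G' n)] [∀ n, AddCommGroup (G n)] [∀ n, AddCommGroup (G'' n)]
    (t' : ∀ n, G' (n + 1) →+ G' n) (t : ∀ n, G (n + 1) →+ G n) (t'' : ∀ n, G'' (n + 1) →+ G'' n)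
    (u : ∀ n, G' n →+ G n) (v : ∀ n, G n →+ G'' n)
    (hu : ∀ n x, t n (u (n + 1) x) = u n (t' n x)) (hv : ∀ n x, t'' n (v (n + 1) x) = v n (t n x))
    (hinj : ∀ n, Function.Injective (u n)) (hsurj : ∀ n, Function.Surjective (v n))
    (hex : ∀ n, (v n).ker = (u n).range) :
    ∃ (α : Formal2.limZero G' t' →+ Formal2.limZero G t) (β : Formal2.limZero G t →+ Formal2.limZero G'' t'')
      (δ : Formal2.limZero G'' t'' →+ Formal2.limOne G' t')
      (ε : Formal2.limOne G' t' →+ Formal2.limOne G t) (ζ : Formal2.limOne G t →+ Formal2.limOne G'' t''),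
      (∀ (x : Formal2.limZero G' t') (n : ℕ), (α x : ∀ n, G n) n = u n ((x : ∀ n, G' n) n)) ∧
      (∀ (x : Formal2.limZero G t) (n : ℕ), (β x : ∀ n, G'' n) n = v n ((x : ∀ n, G n) n)) ∧
      (∀ (z : Formal2.limZero G'' t'') (y : ∀ n, G n) (w : ∀ n, G' n),
          (∀ n, v n (y n) = (z : ∀ n, G'' n) n) → (∀ n, u n (w n) = Formal2.towerDiff G t y n) →
            δ z = (QuotientAddGroup.mk w : Formal2.limOne G' t')) ∧
      (∀ y : ∀ n, G' n, ε (QuotientAddGroup.mk y : Formal2.limOne G' t') =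
          (QuotientAddGroup.mk (fun n => u n (y n)) : Formal2.limOne G t)) ∧
      (∀ y : ∀ n, G n, ζ (QuotientAddGroup.mk y : Formal2.limOne G t) =
          (QuotientAddGroup.mk (fun n => v n (y n)) : Formal2.limOne G'' t'')) ∧
      Function.Injective α ∧ α.range = β.ker ∧ β.range = δ.ker ∧ δ.range = ε.ker ∧ ε.range = ζ.ker ∧
      Function.Surjective ζ := by
  classical
  set D' := Formal2.towerDiff G' t' with hD'
  set D := Formal2.towerDiff G t with hD
  set D'' := Formal2.towerDiff G'' t'' with hD''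
  let U : (∀ n, G' n) →+ (∀ n, G n) := AddMonoidHom.mk' (fun x n => u n (x n)) fun x y => funext fun n => by simp
  let V : (∀ n, G n) →+ (∀ n, G'' n) := AddMonoidHom.mk' (fun x n => v n (x n)) fun x y => funext fun n => by simp
  have hU : ∀ x, D (U x) = U (D' x) := fun x => funext fun n => by
    show u n (x n) - t n (u (n + 1) (x (n + 1))) = u n (x n - t' n (x (n + 1)))
    rw [hu, map_sub]
  have hV : ∀ x, D'' (V x) = V (D x) := fun x => funext fun n => by
    show v n (x n) - t'' n (v (n + 1) (x (n + 1))) = v n (x n - t n (x (n + 1)))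
    rw [hv, map_sub]
  have hUi : Function.Injective U := fun x y h => funext fun n => hinj n (congrFun h n)
  have hVs : Function.Surjective V := fun z => ⟨fun n => (hsurj n (z n)).choose, funext fun n => (hsurj n (z n)).choose_spec⟩
  have hVU : ∀ x, V (U x) = 0 := fun x => funext fun n => by
    have : u n (x n) ∈ (v n).ker := by rw [hex n]; exact ⟨_, rfl⟩
    exact this
  have hVk : ∀ y, V y = 0 → ∃ x, U x = y := fun y hy => by
    have : ∀ n, ∃ x, u n x = y n := fun n => by
      have h : y n ∈ (v n).ker := congrFun hy n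
      rwa [hex n] at h
    choose x hx using this
    exact ⟨x, funext hx⟩
  have hlift : ∀ z : Formal2.limZero G'' t'', ∃ w, ∃ y, V y = z.1 ∧ U w = D y := fun z => by
    obtain ⟨y, hy⟩ := hVs z.1
    obtain ⟨w, hw⟩ := hVk (D y) (by rw [← hV, hy]; exact z.2)
    exact ⟨w, y, hy, hw⟩
  choose W Y hY hW using hlift
  have huniq : ∀ (z : Formal2.limZero G'' t'') y w, V y = z.1 → U w = D y →
      (QuotientAddGroup.mk (W z) : Formal2.limOne G' t') = QuotientAddGroup.mk w := fun z y w hy hw => by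
    obtain ⟨x, hx⟩ := hVk (y - Y z) (by rw [map_sub, hy, hY, sub_self])
    refine (QuotientAddGroup.eq).2 ⟨x, hUi ?_⟩
    rw [← hU, hx, map_sub, ← hw, ← hW, map_add, map_neg]
    abel
  let δ : Formal2.limZero G'' t'' →+ Formal2.limOne G' t' :=
    AddMonoidHom.mk' (fun z => QuotientAddGroup.mk (W z)) fun z z' => by
      rw [← QuotientAddGroup.mk_add]
      refine huniq _ (Y z + Y z') _ ?_ ?_
      · rw [map_add, hY, hY]; rfl
      · rw [map_add, map_add, hW, hW]
  let α : Formal2.limZero G' t' →+ Formal2.limZero G t :=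
    (U.comp (Formal2.limZero G' t').subtype).codRestrict _ fun x => AddMonoidHom.mem_ker.2 (by
      show D (U x.1) = 0
      rw [hU, show D' x.1 = 0 from x.2, map_zero])
  let β : Formal2.limZero G t →+ Formal2.limZero G'' t'' :=
    (V.comp (Formal2.limZero G t).subtype).codRestrict _ fun x => AddMonoidHom.mem_ker.2 (by
      show D'' (V x.1) = 0
      rw [hV, show D x.1 = 0 from x.2, map_zero])
  let ε : Formal2.limOne G' t' →+ Formal2.limOne G t :=
    QuotientAddGroup.map _ _ U (by rintro _ ⟨x, rfl⟩; exact ⟨U x, hU x⟩)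
  let ζ : Formal2.limOne G t →+ Formal2.limOne G'' t'' :=
    QuotientAddGroup.map _ _ V (by rintro _ ⟨x, rfl⟩; exact ⟨V x, hV x⟩)
  have hε : ∀ y, ε (QuotientAddGroup.mk y) = QuotientAddGroup.mk (U y) := fun y => rfl
  have hζ : ∀ y, ζ (QuotientAddGroup.mk y) = QuotientAddGroup.mk (V y) := fun y => rfl
  refine ⟨α, β, δ, ε, ζ, fun _ _ => rfl, fun _ _ => rfl, fun z y w hy hw => huniq z y w (funext hy) (funext hw),
    fun _ => rfl, fun _ => rfl, fun x y h => Subtype.ext (hUi (congrArg Subtype.val h)), ?_, ?_, ?_, ?_, ?_⟩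
  · refine le_antisymm ?_ ?_
    · rintro b ⟨a, rfl⟩
      exact Subtype.ext (hVU a.1)
    · intro b hb
      obtain ⟨x, hx⟩ := hVk b.1 (congrArg Subtype.val hb)
      refine ⟨⟨x, AddMonoidHom.mem_ker.2 (hUi ?_)⟩, Subtype.ext hx⟩
      rw [← hU, hx, map_zero]; exact b.2
  · refine le_antisymm ?_ ?_
    · rintro c ⟨b, rfl⟩
      refine AddMonoidHom.mem_ker.2 ((huniq (β b) b.1 0 rfl ?_).trans rfl)
      rw [map_zero]; exact b.2.symm
    · intro c hc
      obtain ⟨x, hx⟩ := (QuotientAddGroup.eq_zero_iff (W c)).1 hc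
      refine ⟨⟨Y c - U x, AddMonoidHom.mem_ker.2 ?_⟩, Subtype.ext ?_⟩
      · show D (Y c - U x) = 0
        rw [map_sub, hU, hx, hW, sub_self]
      · show V (Y c - U x) = c.1
        rw [map_sub, hY, hVU, sub_zero]
  · refine le_antisymm ?_ ?_
    · rintro e ⟨c, rfl⟩
      refine AddMonoidHom.mem_ker.2 ((hε (W c)).trans ((QuotientAddGroup.eq_zero_iff _).2 ⟨Y c, (hW c).symm⟩))
    · intro e he
      obtain ⟨w, rfl⟩ := QuotientAddGroup.mk_surjective e
      obtain ⟨y, hy⟩ := (QuotientAddGroup.eq_zero_iff (U w)).1 he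
      refine ⟨⟨V y, AddMonoidHom.mem_ker.2 ?_⟩, huniq _ y w rfl hy.symm⟩
      show D'' (V y) = 0
      rw [hV, hy, hVU]
  · refine le_antisymm ?_ ?_
    · rintro f ⟨e, rfl⟩
      obtain ⟨w, rfl⟩ := QuotientAddGroup.mk_surjective e
      refine AddMonoidHom.mem_ker.2 ((hζ (U w)).trans ?_)
      rw [hVU]; rfl
    · intro f hf
      obtain ⟨y, rfl⟩ := QuotientAddGroup.mk_surjective f
      obtain ⟨z, hz⟩ := (QuotientAddGroup.eq_zero_iff (V y)).1 hf
      obtain ⟨y', rfl⟩ := hVs z
      obtain ⟨w, hw⟩ := hVk (y - D y') (by rw [map_sub, ← hV, hz, sub_self])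
      refine ⟨QuotientAddGroup.mk w, (hε w).trans (QuotientAddGroup.eq.2 ⟨y', ?_⟩)⟩
      rw [hw]; abel
  · intro g
    obtain ⟨z, rfl⟩ := QuotientAddGroup.mk_surjective g
    obtain ⟨y, rfl⟩ := hVs z
    exact ⟨QuotientAddGroup.mk y, rfl⟩

end Groth.Agent.S14617
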