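import Groth.Statements.S14618
import Mathlib
import Groth.Agent.SplitMono.Main
import Groth.Agent.ModDesc.Iso

set_option autoImplicit false
universe u
open FlatMor

namespace Groth.Agent.S14618

open CategoryTheory CategoryTheory.Limits AlgebraicGeometry in
/-- Let f : X → S be a morphism of schemes and u : F → V a morphism of O_X-modules with F quasi-coherent
of finite type and V finite locally free. The following are equivalent: (a) u is a locally split
monomorphism, i.e. every point of X has an open neighbourhood U such that the restriction of u to U
has a left inverse; (b) for every point s of S the pullback of u to the fibre X_s = X ×_S Spec κ(s)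
is a locally split monomorphism on X_s; (c) for every point s of S the pullback of u to the
geometric fibre X ×_S Spec k̄, k̄ an algebraic closure of κ(s), is a locally split monomorphism.
Restrictions to opens and to fibres are written as module pullbacks along the corresponding
immersions/projections. (In the published statement X and S are schemes in a terminology where
schemes are separated preschemes; the proof is local on X and on S, so this row assumes no
separatedness.) -/
theorem result {X S : Scheme.{u}} (f : X ⟶ S) {F V : X.Modules} (u : F ⟶ V)
    (hF : Coh.IsQCoh F) (hFt : CohB1.IsFT F) (hV : FlatMod.IsFinLocFree V) :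
    [ ∀ x : X, ∃ U : X.Opens, x ∈ U ∧
        ∃ r : (Scheme.Modules.pullback U.ι).obj V ⟶ (Scheme.Modules.pullback U.ι).obj F,
          (Scheme.Modules.pullback U.ι).map u ≫ r = 𝟙 _,
      ∀ (s : S) (x : f.fiber s), ∃ U : (f.fiber s).Opens, x ∈ U ∧
        ∃ r : (Scheme.Modules.pullback U.ι).obj ((Scheme.Modules.pullback (f.fiberι s)).obj V) ⟶
            (Scheme.Modules.pullback U.ι).obj ((Scheme.Modules.pullback (f.fiberι s)).obj F),
          (Scheme.Modules.pullback U.ι).map ((Scheme.Modules.pullback (f.fiberι s)).map u) ≫ r = 𝟙 _,
      ∀ (s : S) (x : ↑(pullback f (Spec.map (CommRingCat.ofHom (algebraMap (S.residueField s)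
            (AlgebraicClosure (S.residueField s)))) ≫ S.fromSpecResidueField s))),
        ∃ U : Scheme.Opens _, x ∈ U ∧
        ∃ r : (Scheme.Modules.pullback U.ι).obj ((Scheme.Modules.pullback (pullback.fst f
              (Spec.map (CommRingCat.ofHom (algebraMap (S.residueField s) (AlgebraicClosure (S.residueField s)))) ≫
                S.fromSpecResidueField s))).obj V) ⟶
            (Scheme.Modules.pullback U.ι).obj ((Scheme.Modules.pullback (pullback.fst f
              (Spec.map (CommRingCat.ofHom (algebraMap (S.residueField s) (AlgebraicClosure (S.residueField s)))) ≫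
                S.fromSpecResidueField s))).obj F),
          (Scheme.Modules.pullback U.ι).map ((Scheme.Modules.pullback (pullback.fst f
              (Spec.map (CommRingCat.ofHom (algebraMap (S.residueField s) (AlgebraicClosure (S.residueField s)))) ≫
                S.fromSpecResidueField s))).map u) ≫ r = 𝟙 _ ].TFAE := by
  have key : ∀ (s : S) {P : Scheme.{u}} (g : P ⟶ X) (p : P), (∀ q : P, ∃ U : P.Opens, q ∈ U ∧
      ∃ r : (Scheme.Modules.pullback U.ι).obj ((Scheme.Modules.pullback g).obj V) ⟶
        (Scheme.Modules.pullback U.ι).obj ((Scheme.Modules.pullback g).obj F),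
      (Scheme.Modules.pullback U.ι).map ((Scheme.Modules.pullback g).map u) ≫ r = 𝟙 _) →
      SplitMono.SplitAt u (g p) := fun s P g p h =>
    SplitMono.splitAt_of_pullback g p hFt hV (SplitMono.splitAt_of_local (ModDesc.isFT_pullback g hF hFt)
      (DerPerf.isFinLocFree_pullback g hV) p (h p))
  have back : ∀ {P : Scheme.{u}} (g : P ⟶ X), (∀ x, SplitMono.SplitAt u x) → ∀ q : P, ∃ U : P.Opens, q ∈ U ∧
      ∃ r : (Scheme.Modules.pullback U.ι).obj ((Scheme.Modules.pullback g).obj V) ⟶
        (Scheme.Modules.pullback U.ι).obj ((Scheme.Modules.pullback g).obj F),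
      (Scheme.Modules.pullback U.ι).map ((Scheme.Modules.pullback g).map u) ≫ r = 𝟙 _ := fun g h q =>
    SplitMono.exists_retraction _ (ModDesc.isFT_pullback g hF hFt) (DerPerf.isFinLocFree_pullback g hV)
      (SplitMono.splitAt_pullback g q (h (g q)))
  tfae_have 1 → 2 := fun h s => back (f.fiberι s) fun x => SplitMono.splitAt_of_local hFt hV x (h x)
  tfae_have 2 → 3 := fun h s => back _ fun x => by
    rw [← f.fiberι_asFiber x]
    exact key (f x) (f.fiberι (f x)) (f.asFiber x) (h (f x))
  tfae_have 3 → 1 := fun h x => SplitMono.exists_retraction u hFt hV (by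
    let s := f x
    let gs : Spec (CommRingCat.of (AlgebraicClosure (S.residueField s))) ⟶ S :=
      Spec.map (CommRingCat.ofHom (algebraMap (S.residueField s) (AlgebraicClosure (S.residueField s)))) ≫
        S.fromSpecResidueField s
    obtain ⟨p, hp, -⟩ := Scheme.Pullback.exists_preimage_pullback (f := f) (g := gs) x
      (IsLocalRing.closedPoint (AlgebraicClosure (S.residueField s))) (by
        show f x = (S.fromSpecResidueField s) _
        rw [Scheme.fromSpecResidueField_apply])
    rw [← hp]
    exact key s _ p (h s))
  tfae_finish

end Groth.Agent.S14618
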