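import Groth.Statements.S14619
import Groth.Agent.W7Cech.FibreAffine
import Groth.Agent.S14612
import Groth.Agent.DRingKP.Coherent

set_option autoImplicit false
universe u
open Coherent

open CategoryTheory CategoryTheory.Limits AlgebraicGeometry
open scoped TensorProduct ZeroObject
namespace Groth.Agent.S14619

open Groth.Agent in
theorem main (A : Type u) [CommRing A] [IsNoetherianRing A] (X : Scheme.{u})
    [X.Over (Spec (CommRingCat.of A))] [IsProper (X ↘ Spec (CommRingCat.of A))] (F : X.Modules)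
    (hF : Coh.IsCoh F) (hfl : FlatMod.IsFlatOver (X ↘ Spec (CommRingCat.of A)) F) (d' d : ℕ)
    (hd : ∀ p : ℕ, d < p → Subsingleton (Coh.HH X F p))
    (hd' : ∀ (y : ↑(Spec (CommRingCat.of A))) (p : ℕ), p < d' →
      Subsingleton (CohIII.fiberH (X ↘ Spec (CommRingCat.of A)) F y p)) :
    ∃ L : CochainComplex (ModuleCat.{u} A) ℤ, (∀ i, Module.Finite A (L.X i) ∧ Module.Projective A (L.X i)) ∧
      (∀ i : ℤ, i < (d' : ℤ) ∨ (d : ℤ) < i → IsZero (L.X i)) ∧
      ((∀ p : ℕ, Subsingleton (Coh.HH X F p)) → ∀ i, IsZero (L.X i)) ∧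
      ∀ (B : Type u) [CommRing B] [Algebra A B] (p : ℕ),
        Nonempty (Coh.HH (pullback (X ↘ Spec (CommRingCat.of A)) (Spec.map (CommRingCat.ofHom (algebraMap A B))))
          ((Scheme.Modules.pullback (pullback.fst (X ↘ Spec (CommRingCat.of A))
            (Spec.map (CommRingCat.ofHom (algebraMap A B))))).obj F) p ≃+
          CohIII.T L (p : ℤ) (ModuleCat.of A B)) := by
  obtain ⟨L, b, hL, hb, hneg, he, -, hsub⟩ := W7Cech.exists_fibre_model A F hF hfl
  haveI : CompactSpace X := QuasiCompact.compactSpace_of_compactSpace (X ↘ Spec (CommRingCat.of A))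
  haveI : X.IsSeparated := by
    constructor
    rw [← terminal.comp_from (X ↘ Spec (CommRingCat.of A))]
    infer_instance
  obtain ⟨ι, hι, W, hW, hcov⟩ := W7Cech.exists_cover X
  haveI := hι
  have hf : ∀ i, Module.Flat A (L.X i) := W7Cech.flatX L hL
  -- the homology of `L`, and base change
  have hHm : ∀ p : ℕ, Nonempty (L.homology (p : ℤ) ≃ₗ[A] Coh.HH X F p) := fun p => by
    obtain ⟨e, -⟩ := he p
    obtain ⟨e', -⟩ := W7Cech.exists_TEquiv A W hW hcov F hF.1 p
    obtain ⟨eH, -⟩ := W7Cech.exists_hhEquiv A W hW hcov p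
    exact ⟨(FlatCx.homologyHmEquiv L (p : ℤ)) ≪≫ₗ FlatCx.HmEquivT L hf (p : ℤ) ≪≫ₗ
      (e (ModuleCat.of A A)).trans (e' (ModuleCat.of A A)).symm ≪≫ₗ
      (HomologicalComplex.homologyMapIso (W7Cech.ridIso A ((W7Cech.CC A W).obj F)) p).toLinearEquiv ≪≫ₗ
      eH F hF.1⟩
  have hbc : ∀ (B : Type u) [CommRing B] [Algebra A B] (p : ℕ),
      Nonempty (Coh.HH (pullback (X ↘ Spec (CommRingCat.of A)) (Spec.map (CommRingCat.ofHom (algebraMap A B))))
        ((Scheme.Modules.pullback (pullback.fst (X ↘ Spec (CommRingCat.of A))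
          (Spec.map (CommRingCat.ofHom (algebraMap A B))))).obj F) p ≃+
        CohIII.T L (p : ℤ) (ModuleCat.of A B)) := fun B _ _ p => by
    letI : (pullback (X ↘ Spec (CommRingCat.of A)) (Spec.map (CommRingCat.ofHom (algebraMap A B)))).Over
        (Spec (CommRingCat.of B)) := ⟨pullback.snd _ _⟩
    obtain ⟨i⟩ := W7Cech.nonempty_hh_bc A B W hW hcov
      (pullback.fst (X ↘ Spec (CommRingCat.of A)) (Spec.map (CommRingCat.ofHom (algebraMap A B))))
      (IsPullback.of_hasPullback _ _) F hF.1 p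
    obtain ⟨e, -⟩ := he p
    obtain ⟨e', -⟩ := W7Cech.exists_TEquiv A W hW hcov F hF.1 p
    exact ⟨i.trans ((e' (ModuleCat.of A B)).trans (e (ModuleCat.of A B)).symm).toAddEquiv⟩
  have hab : ∀ n : ℤ, b < n → IsZero (L.homology n) := fun n hn =>
    ShortComplex.isZero_homology_of_isZero_X₂ _ (hb n hn)
  have hup : ∀ n : ℤ, (d : ℤ) < n → IsZero (L.homology n) := fun n hn => by
    obtain ⟨p, rfl⟩ : ∃ p : ℕ, n = p := ⟨n.toNat, by omega⟩
    obtain ⟨e⟩ := hHm p
    haveI := hd p (by omega)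
    exact @ModuleCat.isZero_of_subsingleton A _ (L.homology (p : ℤ)) e.injective.subsingleton
  by_cases hall : ∀ p : ℕ, Subsingleton (Coh.HH X F p)
  · have hac : L.Acyclic := fun n => by
      rw [HomologicalComplex.exactAt_iff_isZero_homology]
      rcases lt_or_ge n 0 with hn | hn
      · haveI := ModuleCat.subsingleton_of_isZero (hneg n hn (ModuleCat.of A A))
        haveI : Subsingleton (FlatCx.Hm L n) := (FlatCx.HmEquivT L hf n).injective.subsingleton
        exact @ModuleCat.isZero_of_subsingleton A _ (L.homology n) (FlatCx.homologyHmEquiv L n).injective.subsingleton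
      · obtain ⟨p, rfl⟩ : ∃ p : ℕ, n = p := ⟨n.toNat, by omega⟩
        obtain ⟨e⟩ := hHm p
        haveI := hall p
        exact @ModuleCat.isZero_of_subsingleton A _ (L.homology (p : ℤ)) e.injective.subsingleton
    have hT : ∀ n M, IsZero (CohIII.T L n M) := W7Cech.isZero_T_of_acyclic L hf hac (b + 1) (fun n hn M =>
      W7Cech.isZero_T_of_isZero L n (hb n (by omega)) M)
    have h0 : ∀ i, IsZero ((0 : CochainComplex (ModuleCat.{u} A) ℤ).X i) := fun i =>
      (HomologicalComplex.eval (ModuleCat.{u} A) (ComplexShape.up ℤ) i).map_isZero (isZero_zero _)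
    refine ⟨0, fun i => ?_, fun i _ => h0 i, fun _ => h0, fun B _ _ p => ?_⟩
    · haveI := ModuleCat.subsingleton_of_isZero (h0 i)
      exact ⟨inferInstance, inferInstance⟩
    · obtain ⟨e⟩ := hbc B p
      exact ⟨e.trans ((hT _ _).iso (W7Cech.isZero_T_of_isZero _ _ (h0 _) _)).toLinearEquiv.toAddEquiv⟩
  -- truncations
  let L₁ := L.truncLE (d : ℤ)
  let L₂ := L₁.truncGE (d' : ℤ)
  haveI : L.IsLE (d : ℤ) := (CochainComplex.isLE_iff L _).2 fun i hi =>
    (HomologicalComplex.exactAt_iff_isZero_homology _ _).2 (hup i hi)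
  have hb₁ : ∀ i, (d : ℤ) < i → IsZero (L₁.X i) := fun i hi => L₁.isZero_of_isStrictlyLE (d : ℤ) i hi
  have hX₁ : ∀ i, Module.Finite A (L₁.X i) ∧ Module.Flat A (L₁.X i) := fun i => by
    rcases lt_trichotomy i (d : ℤ) with hi | rfl | hi
    · let e := (L.truncLEXIso (d : ℤ) i hi).toLinearEquiv
      haveI := (hL i).1
      haveI := hf i
      exact ⟨Module.Finite.equiv e.symm, Module.Flat.of_linearEquiv e⟩
    · let e := (L.truncLEXIsoCycles (d : ℤ)).toLinearEquiv
      haveI := (hL (d : ℤ)).1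
      haveI : IsNoetherian A (L.X (d : ℤ)) := isNoetherian_of_isNoetherianRing_of_finite A _
      haveI : Module.Finite A (L.cycles (d : ℤ)) :=
        Module.Finite.of_injective (L.iCycles (d : ℤ)).hom ((ModuleCat.mono_iff_injective _).1 inferInstance)
      haveI := Groth.Agent.S14612.result A L hf ⟨b, hb⟩ (d : ℤ) hup
      exact ⟨Module.Finite.equiv e.symm, Module.Flat.of_linearEquiv e⟩
    · haveI := ModuleCat.subsingleton_of_isZero (hb₁ i hi)
      exact ⟨inferInstance, inferInstance⟩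
  have hq₁ : ∀ M : ModuleCat.{u} A, QuasiIso ((W7Cech.tF M).map (L.ιTruncLE (d : ℤ))) := fun M =>
    DRingKP.quasiIso_tR (L.ιTruncLE (d : ℤ)) hb₁ hb (fun i => (hX₁ i).2) hf M
  have hlow : ∀ n : ℤ, n < (d' : ℤ) → ∀ M, IsZero (CohIII.T L₁ n M) := fun n hn M => by
    refine IsZero.of_iso ?_ ((W7Cech.TNatIso (L.ιTruncLE (d : ℤ)) hq₁ n).app M)
    rcases lt_or_ge n 0 with hn0 | hn0
    · exact hneg n hn0 M
    · obtain ⟨p, rfl⟩ : ∃ p : ℕ, n = p := ⟨n.toNat, by omega⟩
      exact W7Cech.isZero_T_of_dRank L hL (p : ℤ) (fun x => (hsub p x).1 (hd' x p (by omega))) M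
  haveI : L₁.IsGE (d' : ℤ) := (CochainComplex.isGE_iff L₁ _).2 fun i hi => by
    rw [HomologicalComplex.exactAt_iff_isZero_homology]
    haveI := ModuleCat.subsingleton_of_isZero (hlow i hi (ModuleCat.of A A))
    haveI : Subsingleton (FlatCx.Hm L₁ i) :=
      (FlatCx.HmEquivT L₁ (fun i => (hX₁ i).2) i).injective.subsingleton
    exact @ModuleCat.isZero_of_subsingleton A _ (L₁.homology i) (FlatCx.homologyHmEquiv L₁ i).injective.subsingleton
  have hlo₂ : ∀ i, i < (d' : ℤ) → IsZero (L₂.X i) := fun i hi => L₂.isZero_of_isStrictlyGE (d' : ℤ) i hi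
  have hopc : Module.Flat A (L₁.opcycles (d' : ℤ)) := by
    refine (FlatCx.preservesMono_iff_flat_opcycles (fun i => (hX₁ i).2)).1 ?_
    have h := (W7Cech.T_epi_iff_mono_succ L₁ (fun i => (hX₁ i).2) ((d' : ℤ) - 1)).1
      (W7Cech.isZero_T_of_isZero_homology_all L₁ (hlow _ (by omega))).2
    rwa [sub_add_cancel] at h
  have hup₂ : ∀ i, (d : ℤ) < i → IsZero (L₂.X i) := fun i hi => by
    rcases lt_trichotomy (d' : ℤ) i with h | rfl | h
    · exact (hb₁ i hi).of_iso (L₁.truncGEXIso (d' : ℤ) i h)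
    · have hz : IsZero (L₁.opcycles (d' : ℤ)) := by
        haveI := ModuleCat.subsingleton_of_isZero (hb₁ _ hi)
        exact @ModuleCat.isZero_of_subsingleton A _ _
          ((ModuleCat.epi_iff_surjective (L₁.pOpcycles (d' : ℤ))).1 inferInstance).subsingleton
      exact hz.of_iso (L₁.truncGEXIsoOpcycles (d' : ℤ))
    · exact hlo₂ i h
  have hX₂ : ∀ i, Module.Finite A (L₂.X i) ∧ Module.Flat A (L₂.X i) := fun i => by
    rcases lt_trichotomy (d' : ℤ) i with hi | rfl | hi
    · let e := (L₁.truncGEXIso (d' : ℤ) i hi).toLinearEquiv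
      haveI := (hX₁ i).1
      haveI := (hX₁ i).2
      exact ⟨Module.Finite.equiv e.symm, Module.Flat.of_linearEquiv e⟩
    · let e := (L₁.truncGEXIsoOpcycles (d' : ℤ)).toLinearEquiv
      haveI := (hX₁ (d' : ℤ)).1
      haveI : Module.Finite A (L₁.opcycles (d' : ℤ)) := Module.Finite.of_surjective (L₁.pOpcycles (d' : ℤ)).hom
        ((ModuleCat.epi_iff_surjective _).1 inferInstance)
      exact ⟨Module.Finite.equiv e.symm, Module.Flat.of_linearEquiv e⟩
    · haveI := ModuleCat.subsingleton_of_isZero (hlo₂ i hi)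
      exact ⟨inferInstance, inferInstance⟩
  have hq₂ : ∀ M : ModuleCat.{u} A, QuasiIso ((W7Cech.tF M).map (L₁.πTruncGE (d' : ℤ))) := fun M =>
    DRingKP.quasiIso_tR (L₁.πTruncGE (d' : ℤ)) hb₁ hup₂ (fun i => (hX₁ i).2) (fun i => (hX₂ i).2) M
  refine ⟨L₂, fun i => ⟨(hX₂ i).1, ?_⟩, fun i hi => hi.elim (hlo₂ i) (hup₂ i), fun h => absurd h hall, fun B _ _ p => ?_⟩
  · haveI := (hX₂ i).1
    haveI := (hX₂ i).2
    haveI : Module.FinitePresentation A (L₂.X i) := Module.finitePresentation_of_finite A _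
    exact Module.Flat.projective_of_finitePresentation
  · obtain ⟨e⟩ := hbc B p
    exact ⟨e.trans (((W7Cech.TNatIso (L.ιTruncLE (d : ℤ)) hq₁ (p : ℤ)).app (ModuleCat.of A B)).symm ≪≫
      (W7Cech.TNatIso (L₁.πTruncGE (d' : ℤ)) hq₂ (p : ℤ)).app (ModuleCat.of A B)).toLinearEquiv.toAddEquiv⟩


open CategoryTheory CategoryTheory.Limits AlgebraicGeometry in
/-- Let A be a Noetherian ring, X a proper scheme over Spec A and F a coherent O_X-module flat over Spec
A. Suppose H^p(X, F) = 0 for all p > d and H^p(X_y, F|X_y) = 0 for every point y of Spec A and every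
p < d'. Then there is a cochain complex L of finitely generated projective A-modules, with L^i = 0
unless d' ≤ i ≤ d and with L = 0 when all H^p(X, F) vanish, such that for every A-algebra B and
every p the cohomology H^p(X ×_A Spec B, ξ^*F) of the pulled-back module is isomorphic to H^p(L ⊗_A
B). Only the existence of these isomorphisms of abelian groups is asserted (no naturality in B). -/
theorem result (A : Type u) [CommRing A] [IsNoetherianRing A] (X : Scheme.{u}) [X.Over (Spec (CommRingCat.of A))]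
    [IsProper (X ↘ Spec (CommRingCat.of A))] (F : X.Modules) (hF : Coh.IsCoh F)
    (hfl : FlatMod.IsFlatOver (X ↘ Spec (CommRingCat.of A)) F) (d' d : ℕ)
    (hd : ∀ p : ℕ, d < p → Subsingleton (Coh.HH X F p))
    (hd' : ∀ (y : ↑(Spec (CommRingCat.of A))) (p : ℕ), p < d' →
      Subsingleton (CohIII.fiberH (X ↘ Spec (CommRingCat.of A)) F y p)) :
    ∃ L : CochainComplex (ModuleCat.{u} A) ℤ,
      (∀ i, Module.Finite A (L.X i) ∧ Module.Projective A (L.X i)) ∧
      (∀ i : ℤ, i < (d' : ℤ) ∨ (d : ℤ) < i → IsZero (L.X i)) ∧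
      ((∀ p : ℕ, Subsingleton (Coh.HH X F p)) → ∀ i, IsZero (L.X i)) ∧
      ∀ (B : Type u) [CommRing B] [Algebra A B] (p : ℕ),
        Nonempty (Coh.HH (pullback (X ↘ Spec (CommRingCat.of A)) (Spec.map (CommRingCat.ofHom (algebraMap A B))))
            ((Scheme.Modules.pullback (pullback.fst (X ↘ Spec (CommRingCat.of A))
              (Spec.map (CommRingCat.ofHom (algebraMap A B))))).obj F) p ≃+
          CohIII.T L (p : ℤ) (ModuleCat.of A B)) := by
  exact Groth.Agent.S14619.main A X F hF hfl d' d hd hd'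

end Groth.Agent.S14619
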