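import Groth.Statements.S14621
import Groth.Prelude.Def_SGA4c
import Mathlib

set_option autoImplicit false
open CategoryTheory CategoryTheory.Limits
universe u
open CohSite

set_option backward.isDefEq.respectTransparency false
namespace Groth.Agent.S14621

section
open CategoryTheory CategoryTheory.Limits Opposite

variable {C : Type u} [SmallCategory C] [HasPullbacks C] (J : GrothendieckTopology C)
  {I : Type u} [SmallCategory I] [IsFiltered I]

private lemma equalize (G : I ⥤ Cᵒᵖ ⥤ Type u) {T : Type} [Finite T] (W : T → C) {i : I}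
    (a b : ∀ t, (G.obj i).obj (op (W t)))
    (h : ∀ t, (colimit.ι G i).app _ (a t) = (colimit.ι G i).app _ (b t)) :
    ∃ (k : I) (f : i ⟶ k), ∀ t, (G.map f).app _ (a t) = (G.map f).app _ (b t) := by
  classical
  haveI := Fintype.ofFinite T
  suffices ∀ s : Finset T, ∃ (k : I) (f : i ⟶ k), ∀ t ∈ s, (G.map f).app _ (a t) = (G.map f).app _ (b t) by
    obtain ⟨k, f, hf⟩ := this Finset.univ
    exact ⟨k, f, fun t => hf t (Finset.mem_univ t)⟩
  intro s
  induction s using Finset.induction_on with
  | empty => exact ⟨i, 𝟙 _, fun t ht => absurd ht (Finset.notMem_empty t)⟩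
  | insert t s _ ih =>
    obtain ⟨k, f, hf⟩ := ih
    obtain ⟨k', f', hf'⟩ := (Types.FilteredColimit.isColimit_eq_iff'
      (isColimitOfPreserves ((evaluation Cᵒᵖ (Type u)).obj (op (W t))) (colimit.isColimit G)) (a t) (b t)).1 (h t)
    refine ⟨IsFiltered.coeq (f ≫ IsFiltered.leftToMax k k') (f' ≫ IsFiltered.rightToMax k k'),
      f ≫ IsFiltered.leftToMax k k' ≫ IsFiltered.coeqHom _ _, fun u hu => ?_⟩
    rcases Finset.mem_insert.1 hu with rfl | hu
    · rw [← Category.assoc, IsFiltered.coeq_condition, Category.assoc, G.map_comp, NatTrans.comp_app,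
        ConcreteCategory.comp_apply, ConcreteCategory.comp_apply]
      exact congrArg _ hf'
    · rw [G.map_comp, NatTrans.comp_app, ConcreteCategory.comp_apply, ConcreteCategory.comp_apply, hf u hu]

private lemma rep (G : I ⥤ Cᵒᵖ ⥤ Type u) (W : C) (x : (colimit G).obj (op W)) :
    ∃ (i : I) (a : (G.obj i).obj (op W)), (colimit.ι G i).app _ a = x :=
  Types.jointly_surjective_of_isColimit (isColimitOfPreserves ((evaluation Cᵒᵖ (Type u)).obj (op W)) (colimit.isColimit G)) x

private lemma ι_map (G : I ⥤ Cᵒᵖ ⥤ Type u) {i k : I} (f : i ⟶ k) (W : Cᵒᵖ) (a : (G.obj i).obj W) :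
    (colimit.ι G k).app W ((G.map f).app W a) = (colimit.ι G i).app W a :=
  ConcreteCategory.congr_hom (NatTrans.congr_app (colimit.w G f) W) a

private lemma ι_res (G : I ⥤ Cᵒᵖ ⥤ Type u) (i : I) {W W' : C} (g : W' ⟶ W) (a : (G.obj i).obj (op W)) :
    (colimit.ι G i).app _ ((G.obj i).map g.op a) = (colimit G).map g.op ((colimit.ι G i).app _ a) :=
  ConcreteCategory.congr_hom ((colimit.ι G i).naturality g.op) a

variable (hJ : ∀ U : C, ToposFin.IsQCSite J U) (F : I ⥤ Sheaf J (Type u))
include hJ

private lemma colimit_sep {W : C} {S : Sieve W} (hS : S ∈ J W) (x y : (colimit (F ⋙ sheafToPresheaf J (Type u))).obj (op W))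
    (h : ∀ {Z : C} (g : Z ⟶ W), S g → (colimit (F ⋙ sheafToPresheaf J (Type u))).map g.op x
      = (colimit (F ⋙ sheafToPresheaf J (Type u))).map g.op y) : x = y := by
  generalize hG : F ⋙ sheafToPresheaf J (Type u) = G at x y h
  have hF : ∀ l, Presieve.IsSheaf J (G.obj l) := fun l => hG ▸ (isSheaf_iff_isSheaf_of_type J _).1 (F.obj l).2
  obtain ⟨n, V, g, hg, hcov⟩ := hJ W S hS
  obtain ⟨i, a, ha⟩ := rep G W x
  obtain ⟨j, b, hb⟩ := rep G W y
  obtain ⟨k, f, f', -⟩ := IsFilteredOrEmpty.cocone_objs i j
  have hx : x = (colimit.ι G k).app _ ((G.map f).app _ a) := ha.symm.trans (ι_map G f _ a).symm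
  have hy : y = (colimit.ι G k).app _ ((G.map f').app _ b) := hb.symm.trans (ι_map G f' _ b).symm
  rw [hx, hy] at h ⊢
  obtain ⟨l, e, he⟩ := equalize G V (fun t => (G.obj k).map (g t).op ((G.map f).app _ a))
    (fun t => (G.obj k).map (g t).op ((G.map f').app _ b)) (fun t => by rw [ι_res, ι_res, h (g t) (hg t)])
  rw [← ι_map G e, ← ι_map G e _ ((G.map f').app _ b)]
  refine congrArg _ (((hF l).isSeparated _ hcov).ext fun {Z} p hp => ?_)
  obtain ⟨_, q, _, ⟨t⟩, rfl⟩ := hp
  simp only [op_comp, Functor.map_comp, ConcreteCategory.comp_apply]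
  refine congrArg _ ?_
  have h1 := ConcreteCategory.congr_hom ((G.map e).naturality (g t).op)
  exact ((h1 _).symm.trans (he t)).trans (h1 _)

theorem isSheaf_colimit : Presheaf.IsSheaf J (colimit (F ⋙ sheafToPresheaf J (Type u))) := by
  classical
  set G := F ⋙ sheafToPresheaf J (Type u) with hG
  rw [isSheaf_iff_isSheaf_of_type]
  intro W S hS fam hfam
  obtain ⟨n, V, g, hg, hcov⟩ := hJ W S hS
  choose i a ha using fun t => rep G (V t) (fam (g t) (hg t))
  obtain ⟨k, hk⟩ := IsFiltered.sup_objs_exists (Finset.univ.image i)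
  let f : ∀ t, i t ⟶ k := fun t => (hk (Finset.mem_image_of_mem i (Finset.mem_univ t))).some
  let b : ∀ t, (G.obj k).obj (op (V t)) := fun t => (G.map (f t)).app _ (a t)
  have hb : ∀ t, (colimit.ι G k).app _ (b t) = fam (g t) (hg t) := fun t => (ι_map G (f t) _ _).trans (ha t)
  obtain ⟨l, e, he⟩ := equalize G (fun q : Fin n × Fin n => pullback (g q.1) (g q.2))
    (fun q => (G.obj k).map (pullback.fst (g q.1) (g q.2)).op (b q.1))
    (fun q => (G.obj k).map (pullback.snd (g q.1) (g q.2)).op (b q.2)) (fun q => by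
      rw [ι_res, ι_res, hb, hb]
      exact hfam _ _ _ _ pullback.condition)
  let c : ∀ t, (G.obj l).obj (op (V t)) := fun t => (G.map e).app _ (b t)
  have hc : Presieve.Arrows.Compatible (G.obj l) g c := by
    intro t t' Z p p' hp
    have h1 := fun (t : Fin n) (Z : C) (r : Z ⟶ V t) => ConcreteCategory.congr_hom ((G.map e).naturality r.op) (b t)
    have h2 := ((h1 t _ (pullback.fst (g t) (g t'))).symm.trans (he (t, t'))).trans (h1 t' _ (pullback.snd (g t) (g t')))
    have h3 := congrArg ((G.obj l).map (pullback.lift p p' hp).op) h2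
    have hr : ∀ {A B D : C} (u : B ⟶ A) (v : D ⟶ B) (z : (G.obj l).obj (op A)),
        (G.obj l).map v.op ((G.obj l).map u.op z) = (G.obj l).map (v ≫ u).op z := fun u v z => by
      rw [op_comp, Functor.map_comp, ConcreteCategory.comp_apply]
    simp only [ConcreteCategory.comp_apply] at h3
    rw [hr, hr, pullback.lift_fst, pullback.lift_snd] at h3
    exact h3
  obtain ⟨z, hz, -⟩ := (Presieve.isSheafFor_arrows_iff (G.obj l) g).1
    ((Presieve.isSheafFor_iff_generate _).2 ((isSheaf_iff_isSheaf_of_type J _).1 (F.obj l).2 _ hcov)) c hc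
  have hx : ∀ t, (colimit G).map (g t).op ((colimit.ι G l).app _ z) = fam (g t) (hg t) := fun t => by
    rw [← ι_res, hz t]
    exact (ι_map G e _ _).trans (hb t)
  refine ⟨(colimit.ι G l).app _ z, fun Z h hh => ?_, fun y hy => ?_⟩
  · refine colimit_sep J hJ F (J.pullback_stable h hcov) _ _ fun {Z'} q hq => ?_
    obtain ⟨_, d, _, ⟨t⟩, hd⟩ := hq
    rw [← ConcreteCategory.comp_apply, ← Functor.map_comp, ← op_comp, ← hd, op_comp, Functor.map_comp,
      ConcreteCategory.comp_apply, hx]
    exact hfam d q (hg t) hh hd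
  · refine colimit_sep J hJ F hcov _ _ fun {Z} h hh => ?_
    obtain ⟨_, d, _, ⟨t⟩, rfl⟩ := hh
    simp only [op_comp, Functor.map_comp, ConcreteCategory.comp_apply]
    rw [hx t, hy (g t) (hg t)]

theorem preservesColimitsOfShape_of_qc (I : Type u) [SmallCategory I] [IsFiltered I] :
    PreservesColimitsOfShape I (sheafToPresheaf J (Type u)) where
  preservesColimit {F} := by
    let G := F ⋙ sheafToPresheaf J (Type u)
    let c : Cocone F :=
      { pt := ⟨colimit G, isSheaf_colimit J hJ F⟩
        ι := { app := fun i => ⟨colimit.ι G i⟩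
               naturality := fun i j f => Sheaf.hom_ext ((colimit.w G f).trans (Category.comp_id _).symm) } }
    have hc : IsColimit ((sheafToPresheaf J (Type u)).mapCocone c) :=
      IsColimit.ofIsoColimit (colimit.isColimit G) (Cocone.ext (Iso.refl _) (fun i => Category.comp_id _))
    exact preservesColimit_of_preserves_colimit_cocone (isColimitOfReflects (sheafToPresheaf J (Type u)) hc) hc

end


/-- Let C be a small category with pullbacks and J a Grothendieck topology on C in which every object is
quasi-compact in the site sense (every covering sieve contains finitely many morphisms which already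
generate a covering sieve). Then for every small filtered category I the inclusion of sheaves of
sets on (C, J) into presheaves preserves colimits of shape I: filtered colimits of sheaves are
computed objectwise. (Only sheaves of sets are stated; the same holds for sheaves of abelian groups
or modules. All pullbacks in C are assumed.) -/
theorem result {C : Type u} [SmallCategory C]
    [HasPullbacks C] (J : GrothendieckTopology C) (hJ : ∀ U : C, ToposFin.IsQCSite J U)
    (I : Type u) [SmallCategory I] [IsFiltered I] :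
    PreservesColimitsOfShape I (sheafToPresheaf J (Type u)) := by
  exact preservesColimitsOfShape_of_qc J hJ I

end Groth.Agent.S14621
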