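import Groth.Agent.KummerLib.MuConst
import Groth.Prelude.Def_EtGm
import Mathlib.Data.ZMod.Basic
import Mathlib
set_option autoImplicit false
set_option backward.isDefEq.respectTransparency false
open CategoryTheory AlgebraicGeometry
universe u
namespace EtBase
end EtBase
open EtBase

namespace Groth.Agent.S14625

/-- Let A be a strictly henselian local ring, n ≥ 1 an integer invertible in A, and X a scheme over Spec
A. Then the étale sheaf μ_n of n-th roots of unity on X is isomorphic to the constant sheaf with
value ℤ/n. Only the existence of an isomorphism is asserted; it depends on the choice of a primitive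
n-th root of unity in A. -/
theorem result (A : Type u) [CommRing A]
    (hA : EtCoh.IsStrictlyHenselianLocalRing A) (n : ℕ) (hn : 1 ≤ n) (hu : IsUnit (n : A))
    (X : Scheme.{u}) (f : X ⟶ Spec (CommRingCat.of A)) :
    Nonempty (EtCoh.mu X n ≅ EtCoh.const X (ZMod n)) := by
  obtain ⟨_, hsep⟩ := hA
  haveI := hsep
  let k := IsLocalRing.ResidueField A
  let q : A →+* k := IsLocalRing.residue A
  have hnk : (n : k) ≠ 0 := by
    have := (hu.map q).ne_zero
    rwa [map_natCast] at this
  haveI : NeZero (n : k) := ⟨hnk⟩
  obtain ⟨z, hz⟩ := IsSepClosed.exists_root (Polynomial.cyclotomic n k)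
    (by rw [Polynomial.degree_cyclotomic]; exact_mod_cast (Nat.totient_pos.mpr (by omega)).ne')
    (Polynomial.separable_cyclotomic n k)
  obtain ⟨a₀, ha₀⟩ := Ideal.Quotient.mk_surjective (I := IsLocalRing.maximalIdeal A) z
  let g := Polynomial.cyclotomic n A
  have hmap : g.map q = Polynomial.cyclotomic n k := Polynomial.map_cyclotomic n q
  have h₁ : g.eval a₀ ∈ IsLocalRing.maximalIdeal A := by
    rw [← IsLocalRing.residue_eq_zero_iff]
    change q (g.eval a₀) = 0
    rw [← Polynomial.eval₂_hom, ← Polynomial.eval_map, hmap, show q a₀ = z from ha₀]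
    exact hz
  have h₂ : IsUnit (g.derivative.eval a₀) := by
    rw [← IsLocalRing.residue_ne_zero_iff_isUnit]
    change q (g.derivative.eval a₀) ≠ 0
    rw [← Polynomial.eval₂_hom, ← Polynomial.eval_map, ← Polynomial.derivative_map, hmap,
      show q a₀ = z from ha₀]
    exact (Polynomial.separable_cyclotomic n k).aeval_derivative_ne_zero (by simpa using hz)
  obtain ⟨a, ha, -⟩ := HenselianLocalRing.is_henselian g (Polynomial.cyclotomic.monic n A) a₀ h₁ h₂
  let r : A →+* Γ(X, ⊤) := f.appTop.hom.comp (Scheme.ΓSpecIso (CommRingCat.of A)).inv.hom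
  refine KummerLib.nonempty_mu_iso_const n hn ?_ (r a) ?_
  · have := hu.map r
    rwa [map_natCast] at this
  · rw [Polynomial.aeval_def, algebraMap_int_eq, ← Polynomial.eval_map, Polynomial.map_cyclotomic_int,
      ← Polynomial.map_cyclotomic n r, Polynomial.eval_map, Polynomial.eval₂_hom]
    exact (congrArg r ha).trans (map_zero r)

end Groth.Agent.S14625
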