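import Groth.Statements.S1463
import Groth.Agent.GeomFib.Consequences
import Groth.Agent.FibreApprox.Basic

set_option autoImplicit false
universe u
open FlatMor

namespace Groth.Agent.S1463

open AlgebraicGeometry CategoryTheory Limits in
/-- Let f : X → S be a morphism of finite presentation between affine schemes whose fibres are
geometrically connected. Then f is the base change of a morphism of finite type f₀ : X₀ → S₀ between
affine schemes with S₀ of finite type over ℤ, where f₀ can be chosen with the same property. -/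
theorem result {X S : Scheme.{u}} (f : X ⟶ S) [IsAffine X] [IsAffine S] [LocallyOfFinitePresentation f] [GeometricallyConnected f] :
    ∃ (X₀ S₀ : Scheme.{u}) (f₀ : X₀ ⟶ S₀) (g : S ⟶ S₀) (g' : X ⟶ X₀), IsAffine X₀ ∧ IsAffine S₀ ∧ IsPullback g' f f₀ g ∧
      Algebra.FiniteType ℤ Γ(S₀, ⊤) ∧ LocallyOfFiniteType f₀ ∧ GeometricallyConnected f₀ := by
  have key : ∀ {X Y : Scheme.{u}} (f : X ⟶ Y) [LocallyOfFiniteType f] [QuasiCompact f],
      GeometricallyConnected f ↔ ∀ y, MoreMor.nGeomConnComp f y = 1 := by
    intro X Y f _ _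
    simp only [← Groth.Agent.GeomFib.geometricallyConnected_fiber_iff, geometricallyConnected_iff]
    exact geometrically_iff_forall_fiberToSpecResidueField
  obtain ⟨X₀, S₀, f₀, g, g', h1, h2, h3, h4, h5, h6⟩ := Groth.Agent.FibreApprox.exists_model
    (fun f y => MoreMor.nGeomConnComp f y = 1)
    (fun _ _ h y' => by rw [(Groth.Agent.GeomFib.nGeom_baseChange h y').2])
    (fun f _ _ _ => Groth.Agent.GeomFib.isLocallyConstructible_nGeom f (fun f y => MoreMor.nGeomConnComp f y)
      (fun hc y' => (Groth.Agent.GeomFib.nGeom_baseChange hc y').2)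
      (fun f _ _ y => by
        obtain ⟨O, a1, a2⟩ := Groth.Agent.GeomFib.exists_open_nGeom f y
        exact ⟨O, a1, fun y' hy' hs => (a2 y' hy' hs).2⟩) 1) f
    ((key f).mp inferInstance)
  exact ⟨X₀, S₀, f₀, g, g', h1, h2, h3, h4, h5, (key f₀).mpr h6⟩

end Groth.Agent.S1463
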