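import Groth.Statements.S14631
import Groth.Agent.EtSect.Locus
import Mathlib

set_option autoImplicit false
open CategoryTheory CategoryTheory.Limits AlgebraicGeometry
universe u
open EtBase

set_option backward.isDefEq.respectTransparency false

namespace Groth.Agent.S14631

/-- Let X be a quasi-separated scheme and U an étale X-scheme. Then there is a jointly surjective family
of étale U-schemes each of which is quasi-compact and quasi-separated, hence of finite presentation,
over X. (Sheaves on the small étale site are therefore determined by their values on étale X-schemes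
of finite presentation; that equivalence is not stated here.) -/
theorem result (X : Scheme.{u})
    [QuasiSeparatedSpace ↥X] (U : X.Etale) :
    ∃ (ι : Type u) (V : ι → Over U), (∀ i, QuasiCompact (V i).left.hom ∧ QuasiSeparated (V i).left.hom) ∧
      ∀ x : ↥(U.left), ∃ (i : ι) (y : ↥((V i).left.left)), (V i).hom.left.base y = x := by
  have := U.prop
  refine ⟨{W : U.left.Opens // IsAffineOpen W}, fun W => Over.mk
    (MorphismProperty.Over.homMk W.1.ι rfl : Scheme.Etale.mk (W.1.ι ≫ U.hom) ⟶ U), fun W => ?_, fun x => ?_⟩
  · have : IsAffine W.1.toScheme := W.2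
    let f : W.1.toScheme ⟶ X := W.1.ι ≫ U.hom
    have : QuasiSeparated (f ≫ terminal.from X) := by
      rw [terminal.comp_from]; infer_instance
    exact ⟨(inferInstance : QuasiCompact f), (QuasiSeparated.of_comp f (terminal.from X) : _)⟩
  · obtain ⟨W, hW, hxW, -⟩ := exists_isAffineOpen_mem_and_subset (X := U.left) (x := x) (U := ⊤) trivial
    exact ⟨⟨W, hW⟩, (⟨x, hxW⟩ : W), rfl⟩

end Groth.Agent.S14631
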