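import Groth.Statements.S14633
import Groth.Agent.DimZeroFT.Basic
import Groth.Agent.Chev.TorsorNorm
import Groth.Agent.S4628
import Groth.Agent.Rigid.FibreTranslate
import Groth.Agent.Rigid.Smooth
import Mathlib.FieldTheory.IsAlgClosed.AlgebraicClosure

set_option autoImplicit false
universe u
open CategoryTheory MonoidalCategory CartesianMonoidalCategory MonObj GrpObj AlgebraicGeometry CategoryTheory.Limits
open AlgGrp
open CategoryTheory.Limits

namespace Groth.Agent.S14633

/-- Over a field k, let G be a smooth connected k-group scheme of finite type and let Z be a reduced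
k-scheme of finite type of dimension at most 0 (for Z empty the conclusion is immediate). Then every
action of G on Z is trivial: the action morphism G × Z → Z is the second projection. -/
theorem result (k : Type u) [Field k]
    (G Z : Over (Spec (CommRingCat.of k))) [GrpObj G] [Smooth G.hom] [QuasiCompact G.hom] [ConnectedSpace ↥G.left]
    [LocallyOfFiniteType Z.hom] [QuasiCompact Z.hom] [IsReduced Z.left] (hdim : topologicalKrullDim ↥Z.left ≤ 0)
    (a : AlgGrp.Action G Z) : a.act = CartesianMonoidalCategory.snd G Z := by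
  classical
  set_option backward.isDefEq.respectTransparency false in
  haveI : DiscreteTopology Z.left := Groth.Agent.DimZeroFT.discrete_of_dim_le_zero Z.hom hdim
  haveI := Groth.Agent.DimZeroFT.isNoetherian Z.hom
  haveI : Finite Z.left := finite_of_compact_of_discrete
  haveI : IsAffine Z.left := (Groth.Agent.DimZeroFT.isAffine_and_finite Z.hom).1
  haveI : IsSeparated Z.hom := inferInstance
  haveI : LocallyQuasiFinite Z.hom := .of_finite_preimage_singleton _ fun x => Set.toFinite _
  haveI : LocallyOfFiniteType G.hom := inferInstance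
  haveI := Groth.Agent.Rigid.geometricallyConnected_of_section G.hom η[G].left (Over.w η[G])
  haveI := Groth.Agent.Rigid.geometricallyReduced_of_smooth G.hom
  haveI : IsReduced (G ⊗ Z).left := Groth.Agent.S4628.result G.hom Z.hom
  apply Over.OverMorphism.ext
  refine ext_of_fromSpecResidueField_eq _ _ Z.hom Set.univ dense_univ (fun q _ => ?_) (by rw [Over.w, Over.w])
  let κ := (G ⊗ Z).left.residueField q
  letI : Algebra k κ := (((G ⊗ Z).left.residue q).hom.comp (algebraMap k ((G ⊗ Z).left.presheaf.stalk q))).toAlgebra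
  let ρ : (G ⊗ Z).left.presheaf.stalk q →ₐ[k] κ :=
    { toRingHom := ((G ⊗ Z).left.residue q).hom, commutes' := fun c => rfl }
  let r : VecGrp.pt k κ ⟶ G ⊗ Z := VecGrp.ptMap ρ ≫ Groth.Agent.Chev.spt q
  suffices h : r ≫ a.act = r ≫ CartesianMonoidalCategory.snd G Z by
    exact congrArg (fun m => m.left) h
  let Ω := AlgebraicClosure κ
  apply Groth.Agent.Chev.ptMap_cancel (IsScalarTower.toAlgHom k κ Ω)
  suffices H : ∀ w : VecGrp.pt k Ω ⟶ G ⊗ Z, w ≫ a.act = w ≫ CartesianMonoidalCategory.snd G Z from
    (Category.assoc _ _ _).symm.trans ((H (VecGrp.ptMap (IsScalarTower.toAlgHom k κ Ω) ≫ r)).trans (Category.assoc _ _ _))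
  intro w
  let g := w ≫ CartesianMonoidalCategory.fst G Z
  let z := w ≫ CartesianMonoidalCategory.snd G Z
  let P := VecGrp.pt k Ω
  let f : G ⊗ P ⟶ Z ⊗ P := lift (lift (CartesianMonoidalCategory.fst G P) (CartesianMonoidalCategory.snd G P ≫ z) ≫ a.act)
    (CartesianMonoidalCategory.snd G P)
  haveI : ConnectedSpace ↥(G ⊗ P).left :=
    GeometricallyConnected.geometrically_connectedSpace (f := G.hom) P.hom _ _ (IsPullback.of_hasPullback G.hom P.hom)
  let π : (Z ⊗ P).left ⟶ Spec (CommRingCat.of Ω) := (CartesianMonoidalCategory.snd Z P).left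
  haveI : LocallyOfFiniteType π := MorphismProperty.pullback_snd (P := @LocallyOfFiniteType) Z.hom P.hom inferInstance
  haveI : LocallyQuasiFinite π := MorphismProperty.pullback_snd (P := @LocallyQuasiFinite) Z.hom P.hom inferInstance
  haveI : QuasiCompact π := MorphismProperty.pullback_snd (P := @QuasiCompact) Z.hom P.hom inferInstance
  haveI : JacobsonSpace (Z ⊗ P).left := LocallyOfFiniteType.jacobsonSpace π
  haveI : Finite (Z ⊗ P).left := Set.finite_univ_iff.1 (by
    refine (π.finite_preimage_singleton (IsLocalRing.closedPoint Ω)).subset fun y _ => ?_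
    exact @Subsingleton.elim _ (inferInstanceAs (Subsingleton (PrimeSpectrum Ω))) _ _)
  have hs : ∀ g' : P ⟶ G, (lift g' (𝟙 P) ≫ f) = lift (lift g' z ≫ a.act) (𝟙 P) := fun g' => by
    simp only [f, comp_lift, comp_lift_assoc, lift_fst, lift_snd, lift_snd_assoc, Category.id_comp]
  have key : lift g (𝟙 P) ≫ f = lift (1 : P ⟶ G) (𝟙 P) ≫ f := by
    apply Over.OverMorphism.ext
    refine ext_of_apply_closedPoint_eq π ?_ ?_ ?_
    · show (lift g (𝟙 P) ≫ f).left ≫ (CartesianMonoidalCategory.snd Z P).left = _
      rw [← Over.comp_left, hs, lift_snd]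
      rfl
    · show (lift (1 : P ⟶ G) (𝟙 P) ≫ f).left ≫ (CartesianMonoidalCategory.snd Z P).left = _
      rw [← Over.comp_left, hs, lift_snd]
      rfl
    · simp only [Over.comp_left, Scheme.Hom.comp_apply]
      exact PreconnectedSpace.constant ‹ConnectedSpace ↥(G ⊗ P).left›.toPreconnectedSpace f.left.continuous
  rw [hs, hs] at key
  have key' := congrArg (fun m => m ≫ CartesianMonoidalCategory.fst Z P) key
  simp only [lift_fst] at key'
  have h1 : lift (1 : P ⟶ G) z ≫ a.act = z := by
    have h := congrArg (fun m => lift (toUnit P) z ≫ m) a.one_act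
    simp only [lift_whiskerRight_assoc, lift_leftUnitor_hom] at h
    rw [Hom.one_def]
    exact h
  rw [h1] at key'
  simp only [g, z] at key'
  rw [← comp_lift_assoc, lift_fst_snd, Category.id_comp] at key'
  exact key'

end Groth.Agent.S14633
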