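import Groth.Statements.S14637
import Groth.Agent.LineGrp.Gm
import Groth.Prelude.Def_GmPts
-- import your own Groth.Agent.* helpers here

set_option autoImplicit false
universe u
open CategoryTheory MonoidalCategory CartesianMonoidalCategory MonObj GrpObj AlgebraicGeometry CategoryTheory.Limits
open AlgGrp

namespace Groth.Agent.S14637

open LaurentPolynomial

/-- Ring maps out of Laurent polynomials are determined by constants and the variable. -/
theorem lau_hom_ext {k A : Type u} [CommRing k] [CommRing A] {F F' : LaurentPolynomial k →+* A}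
    (hC : ∀ r, F (C r) = F' (C r)) (hT : F (T 1) = F' (T 1)) : F = F' := by
  have h1 : Units.map F.toMonoidHom (LineGrp.Tu (R := k)) = Units.map F'.toMonoidHom LineGrp.Tu :=
    Units.ext hT
  refine RingHom.ext fun p => ?_
  induction p using LaurentPolynomial.induction_on' with
  | add p q hp hq => rw [map_add, map_add, hp, hq]
  | C_mul_T n a =>
    have h2 : ∀ G : LaurentPolynomial k →+* A,
        G (T n) = ((Units.map G.toMonoidHom LineGrp.Tu ^ n : Aˣ) : A) := fun G => by
      rw [← map_zpow, Units.coe_map, LineGrp.Tu_zpow]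
      rfl
    rw [map_mul, map_mul, hC, h2 F, h2 F', h1]

/-- The global functions of a morphism into an affine scheme given by a ring map. -/
theorem appTop_toSpecΓ_map {X : Scheme.{u}} {R : Type u} [CommRing R] (F : R →+* Γ(X, ⊤)) (r : R) :
    (X.toSpecΓ ≫ Spec.map (CommRingCat.ofHom F)).appTop.hom
      ((Scheme.ΓSpecIso (CommRingCat.of R)).inv.hom r) = F r := by
  have h : (Scheme.ΓSpecIso (CommRingCat.of R)).inv ≫
      (X.toSpecΓ ≫ Spec.map (CommRingCat.ofHom F)).appTop = CommRingCat.ofHom F := by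
    rw [Scheme.Hom.comp_appTop, ← Scheme.ΓSpecIso_inv_naturality_assoc, Scheme.toSpecΓ_appTop,
      Iso.inv_hom_id, Category.comp_id]
  exact RingHom.congr_fun (congrArg CommRingCat.Hom.hom h) r

/-- Morphisms to a spectrum are determined by the ring map. -/
theorem hom_ext_spec {X : Scheme.{u}} {R : Type u} [CommRing R] {a b : X ⟶ Spec (CommRingCat.of R)}
    (h : ∀ r : R, a.appTop.hom ((Scheme.ΓSpecIso (CommRingCat.of R)).inv.hom r) =
      b.appTop.hom ((Scheme.ΓSpecIso (CommRingCat.of R)).inv.hom r)) : a = b := by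
  refine ext_of_isAffine ?_
  rw [← cancel_epi (Scheme.ΓSpecIso (CommRingCat.of R)).inv]
  exact CommRingCat.hom_ext (RingHom.ext h)

/-- Over a field k, the only structure of algebraic group on the punctured affine line Spec k[T, T⁻¹]
with unit element the point T = 1 is the multiplicative group. Precisely: let G be a k-group scheme
and e an isomorphism of k-schemes from the underlying scheme of G to Spec k[T, T⁻¹] under which the
unit section has T-coordinate 1; then for every k-scheme S and all S-valued points g, h of G, the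
T-coordinate of g · h (the pull-back of the global function T along the point composed with e) is
the product of the T-coordinates of g and of h. -/
theorem result (k : Type u) [Field k]
    (G : Over (Spec (CommRingCat.of k))) [GrpObj G]
    (e : G.left ≅ Spec (CommRingCat.of (LaurentPolynomial k)))
    (he : e.hom ≫ Spec.map (CommRingCat.ofHom (algebraMap k (LaurentPolynomial k))) = G.hom)
    (hunit : ((η[G]).left ≫ e.hom).appTop.hom ((Scheme.ΓSpecIso (CommRingCat.of (LaurentPolynomial k))).inv.hom (LaurentPolynomial.T 1)) = 1)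
    (S : Over (Spec (CommRingCat.of k))) (g h : S ⟶ G) :
    ((g * h).left ≫ e.hom).appTop.hom ((Scheme.ΓSpecIso (CommRingCat.of (LaurentPolynomial k))).inv.hom (LaurentPolynomial.T 1)) =
      (g.left ≫ e.hom).appTop.hom ((Scheme.ΓSpecIso (CommRingCat.of (LaurentPolynomial k))).inv.hom (LaurentPolynomial.T 1)) * (h.left ≫ e.hom).appTop.hom ((Scheme.ΓSpecIso (CommRingCat.of (LaurentPolynomial k))).inv.hom (LaurentPolynomial.T 1)) := by
  let L := LaurentPolynomial k
  let B := Spec (CommRingCat.of k)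
  let t0 : Γ(Spec (CommRingCat.of L), ⊤) :=
    (Scheme.ΓSpecIso (CommRingCat.of L)).inv.hom (LaurentPolynomial.T 1)
  let c : ∀ {X : Over B}, (X ⟶ G) → Γ(X.left, ⊤) := fun {X} x => (x.left ≫ e.hom).appTop.hom t0
  have hc_comp : ∀ {X Y : Over B} (a : X ⟶ Y) (x : Y ⟶ G), c (a ≫ x) = a.left.appTop.hom (c x) := by
    intro X Y a x
    show ((a.left ≫ x.left) ≫ e.hom).appTop.hom t0 = _
    rw [Category.assoc]
    exact GmPts.appTop_comp_apply _ _ _
  have hconst : ∀ {X : Over B} (x : X.left ⟶ Spec (CommRingCat.of L)),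
      x ≫ Spec.map (CommRingCat.ofHom (algebraMap k L)) = X.hom → ∀ r : k,
        x.appTop.hom ((Scheme.ΓSpecIso (CommRingCat.of L)).inv.hom (algebraMap k L r)) =
          X.hom.appTop.hom ((Scheme.ΓSpecIso (CommRingCat.of k)).inv.hom r) := by
    intro X x hx r
    rw [← hx, GmPts.appTop_comp_apply]
    congr 1
    exact RingHom.congr_fun (congrArg CommRingCat.Hom.hom
      (Scheme.ΓSpecIso_inv_naturality (CommRingCat.ofHom (algebraMap k L)))) r
  have hc_inj : ∀ {X : Over B} (x y : X ⟶ G), c x = c y → x = y := by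
    intro X x y hxy
    ext1
    rw [← cancel_mono e.hom]
    have hw : ∀ z : X ⟶ G, (z.left ≫ e.hom) ≫ Spec.map (CommRingCat.ofHom (algebraMap k L)) = X.hom :=
      fun z => by rw [Category.assoc, he]; exact Over.w z
    have hF : ((Scheme.ΓSpecIso (CommRingCat.of L)).inv ≫ (x.left ≫ e.hom).appTop).hom =
        ((Scheme.ΓSpecIso (CommRingCat.of L)).inv ≫ (y.left ≫ e.hom).appTop).hom := by
      refine lau_hom_ext (fun r => ?_) hxy
      exact (hconst _ (hw x) r).trans (hconst _ (hw y) r).symm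
    exact hom_ext_spec fun r => RingHom.congr_fun hF r
  -- the coordinate as a point of `𝔾ₘ`
  have hunitT : IsUnit (c (𝟙 G)) := by
    exact ((LaurentPolynomial.isUnit_T 1).map (Scheme.ΓSpecIso (CommRingCat.of L)).inv.hom).map
      ((𝟙 G : G ⟶ G).left ≫ e.hom).appTop.hom
  let φ : G ⟶ Red.Gm B := GmPts.ptOfUnit hunitT.unit
  have hφ : ∀ {X : Over B} (x : X ⟶ G), Red.gmFn (x ≫ φ) = c x := by
    intro X x
    rw [GmPts.gmFn_comp, GmPts.gmFn_ptOfUnit]
    exact (hc_comp x (𝟙 G)).symm.trans (by rw [Category.comp_id])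
  let a : k →+* Γ((Red.Gm B).left, ⊤) :=
    ((Scheme.ΓSpecIso (CommRingCat.of k)).inv ≫ (Red.Gm B).hom.appTop).hom
  let F : L →+* Γ((Red.Gm B).left, ⊤) := LaurentPolynomial.eval₂ a (GmPts.unitOfPt (𝟙 (Red.Gm B)))
  let m : (Red.Gm B).left ⟶ Spec (CommRingCat.of L) :=
    (Red.Gm B).left.toSpecΓ ≫ Spec.map (CommRingCat.ofHom F)
  have hm : m ≫ Spec.map (CommRingCat.ofHom (algebraMap k L)) = (Red.Gm B).hom := by
    refine hom_ext_spec fun r => ?_
    rw [GmPts.appTop_comp_apply]
    have hn := RingHom.congr_fun (congrArg CommRingCat.Hom.hom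
      (Scheme.ΓSpecIso_inv_naturality (CommRingCat.ofHom (algebraMap k L)))) r
    refine (congrArg m.appTop.hom hn.symm).trans ?_
    refine (appTop_toSpecΓ_map F _).trans ?_
    show F (algebraMap k L r) = a r
    rw [LaurentPolynomial.algebraMap_apply, Algebra.algebraMap_self, RingHom.id_apply]
    exact LaurentPolynomial.eval₂_C _ _ _
  let ψ : Red.Gm B ⟶ G := Over.homMk (m ≫ e.inv) (by
    rw [Category.assoc, ← he, e.inv_hom_id_assoc, hm])
  have hψ : c ψ = Red.gmFn (𝟙 (Red.Gm B)) := by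
    show ((m ≫ e.inv) ≫ e.hom).appTop.hom t0 = _
    rw [Category.assoc, e.inv_hom_id, Category.comp_id]
    refine (appTop_toSpecΓ_map F _).trans ?_
    show LaurentPolynomial.eval₂ a (GmPts.unitOfPt (𝟙 (Red.Gm B))) (LaurentPolynomial.T 1) = _
    rw [LaurentPolynomial.eval₂_T, zpow_one, GmPts.val_unitOfPt]
  have hψφ : ψ ≫ φ = 𝟙 _ := GmPts.gmFn_injective ((hφ ψ).trans hψ)
  have hφψ : φ ≫ ψ = 𝟙 _ := by
    refine hc_inj _ _ ((hc_comp φ ψ).trans ?_)
    rw [hψ, ← GmPts.gmFn_comp φ (𝟙 _), Category.comp_id, ← hφ (𝟙 G), Category.id_comp]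
  let Φ : G ≅ Red.Gm B := ⟨φ, ψ, hφψ, hψφ⟩
  have hone : η[G] ≫ φ = (1 : 𝟙_ (Over B) ⟶ Red.Gm B) := by
    refine GmPts.gmFn_injective ?_
    dsimp only
    rw [GmPts.gmFn_one, hφ η[G]]
    exact hunit
  have e12 : (GrpObj.ofIso Φ).one = η[Red.Gm B] := by
    refine Eq.trans (?_ : (GrpObj.ofIso Φ).one = η[G] ≫ φ) (hone.trans ?_)
    · rfl
    · rw [Hom.one_def, toUnit_unit, Category.id_comp]
  have hmul := LineGrp.mulU_eq (k := k) (GrpObj.ofIso Φ) inferInstance e12
  haveI : IsMonHom φ := ⟨by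
    refine hone.trans ?_
    rw [Hom.one_def, toUnit_unit, Category.id_comp], by
    have h3 : (ψ ⊗ₘ ψ) ≫ MonObj.mul (X := G) ≫ φ = MonObj.mul (X := Red.Gm B) := hmul
    rw [← h3, ← Category.assoc (φ ⊗ₘ φ), MonoidalCategory.tensorHom_comp_tensorHom, hφψ,
      MonoidalCategory.id_tensorHom_id, Category.id_comp]⟩
  show c (g * h) = c g * c h
  rw [← hφ, ← hφ, ← hφ]
  refine Eq.trans (congrArg Red.gmFn (?_ : (g * h) ≫ φ = (g ≫ φ) * (h ≫ φ))) (GmPts.gmFn_mul _ _)
  exact MonObj.mul_comp g h φ

end Groth.Agent.S14637
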