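import Groth.Statements.S14639
import Mathlib

set_option autoImplicit false
universe u
open Polynomial
open AlgGrp

namespace Groth.Agent.S14639

/-- Classification of the subalgebras of a truncated polynomial ring that are stable under the unipotent
substitutions, which is the algebraic step behind the classification of curves almost homogeneous
under the additive group in characteristic zero. Let k be a field of characteristic zero, N ≥ 0 and
R = k[u]/(u^(N+1)). The additive group acts on R through the substitutions u ↦ u/(1 + a u), a in k.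
If A is a k-subalgebra of R stable under all these substitutions (stated for every k-algebra
endomorphism σ of R with σ(u)(1 + a u) = u for some a in k), then there is an integer n with 1 ≤ n ≤
N + 1 such that A = k ⊕ (u^n): as a k-subspace, A is the span of 1 plus the ideal generated by u^n.
(In positive characteristic p and for N ≥ p + 1, the subalgebra generated by u^p is stable and not
of this form.) -/
theorem result (k : Type u) [Field k] [CharZero k]
    (N : ℕ) (A : Subalgebra k (AdjoinRoot ((Polynomial.X : Polynomial k) ^ (N + 1))))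
    (hA : ∀ (a : k) (σ : AdjoinRoot ((Polynomial.X : Polynomial k) ^ (N + 1)) →ₐ[k] AdjoinRoot ((Polynomial.X : Polynomial k) ^ (N + 1))),
      σ (AdjoinRoot.root ((Polynomial.X : Polynomial k) ^ (N + 1))) * (1 + algebraMap k (AdjoinRoot ((Polynomial.X : Polynomial k) ^ (N + 1))) a * AdjoinRoot.root ((Polynomial.X : Polynomial k) ^ (N + 1))) = AdjoinRoot.root ((Polynomial.X : Polynomial k) ^ (N + 1)) →
        A.map σ ≤ A) :
    ∃ n : ℕ, 1 ≤ n ∧ n ≤ N + 1 ∧
      Subalgebra.toSubmodule A =
        Submodule.span k {1} ⊔ (Ideal.span {AdjoinRoot.root ((Polynomial.X : Polynomial k) ^ (N + 1)) ^ n}).restrictScalars k := by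
  classical
  set u := AdjoinRoot.root ((X : k[X]) ^ (N + 1)) with hu
  have hunil : u ^ (N + 1) = 0 := by
    rw [hu, ← AdjoinRoot.mk_X, ← map_pow]
    exact AdjoinRoot.mk_self
  let ε : AdjoinRoot ((X : k[X]) ^ (N + 1)) →ₐ[k] k := AdjoinRoot.liftAlgHom ((X : k[X]) ^ (N + 1)) (Algebra.ofId k k) 0 (by simp)
  have hεu : ε u = 0 := AdjoinRoot.liftAlgHom_root _ _ _ _
  have hdec : ∀ r : AdjoinRoot ((X : k[X]) ^ (N + 1)), ∃ r', r = algebraMap k _ (ε r) + u * r' := by
    intro r
    obtain ⟨q, rfl⟩ := AdjoinRoot.mk_surjective r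
    refine ⟨AdjoinRoot.mk ((X : k[X]) ^ (N + 1)) q.divX, ?_⟩
    have hq : AdjoinRoot.mk ((X : k[X]) ^ (N + 1)) q = u * AdjoinRoot.mk ((X : k[X]) ^ (N + 1)) q.divX + algebraMap k _ (q.coeff 0) := by
      conv_lhs => rw [← X_mul_divX_add q]
      rw [map_add, map_mul, AdjoinRoot.mk_X, AdjoinRoot.mk_C]
      rfl
    rw [hq, map_add, map_mul, hεu, zero_mul, zero_add, AlgHom.commutes]
    simp only [Algebra.algebraMap_self, RingHom.id_apply]
    ring
  obtain ⟨w, hw⟩ := (IsNilpotent.isUnit_one_add ⟨N + 1, hunil⟩ : IsUnit (1 + u)).exists_right_inv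
  have hεw : ε w = 1 := by
    have := congrArg ε hw
    rwa [map_mul, map_add, map_one, hεu, add_zero, one_mul] at this
  let σ : AdjoinRoot ((X : k[X]) ^ (N + 1)) →ₐ[k] AdjoinRoot ((X : k[X]) ^ (N + 1)) :=
    AdjoinRoot.liftAlgHom ((X : k[X]) ^ (N + 1)) (Algebra.ofId k _) (u * w) (by simp [mul_pow, hunil])
  have hσu : σ u = u * w := AdjoinRoot.liftAlgHom_root _ _ _ _
  have hAσ : A.map σ ≤ A := by
    refine hA 1 σ ?_
    rw [show σ (AdjoinRoot.root ((X : k[X]) ^ (N + 1))) = u * w from hσu, map_one, one_mul, mul_assoc, mul_comm w, hw,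
      mul_one]
  have hεσ : ∀ r, ε (σ r) = ε r := by
    intro r
    have : ε.comp σ = ε := AdjoinRoot.algHom_ext (by
      rw [AlgHom.comp_apply, hσu, map_mul, hεu, zero_mul])
    exact DFunLike.congr_fun this r
  let P : ℕ → Prop := fun m => 1 ≤ m ∧ ∃ h, u ^ m * h ∈ A ∧ ε h ≠ 0
  -- one step up
  have hstep : ∀ m, P m → P (m + 1) := by
    rintro m ⟨hm, h, hh, hεh⟩
    refine ⟨by omega, ?_⟩
    obtain ⟨r, hr⟩ := hdec h
    set c := algebraMap k (AdjoinRoot ((X : k[X]) ^ (N + 1))) (ε h) with hc
    refine ⟨-(c * w * ∑ i ∈ Finset.range m, w ^ i) + (w ^ (m + 1) * σ r - r), ?_, ?_⟩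
    · have hmem : σ (u ^ m * h) - u ^ m * h ∈ A := A.sub_mem (hAσ ⟨_, hh, rfl⟩) hh
      convert hmem using 1
      have hgeom := geom_sum_mul w m
      have hw1 : w - 1 = -(u * w) := by linear_combination hw
      rw [hw1] at hgeom
      conv_rhs => rw [hr, map_mul, map_pow, map_add, map_mul, hσu, show σ c = c from σ.commutes _]
      rw [mul_pow]
      linear_combination (u ^ m * c) * hgeom
    · rw [map_add, map_sub, map_neg, map_mul, map_mul, map_mul, map_sum, map_pow, hεw, hεσ, hc,
        AlgHom.commutes]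
      simp only [map_pow, hεw, one_pow, one_mul, mul_one, sub_self, add_zero, Finset.sum_const,
        Finset.card_range, nsmul_eq_mul, neg_ne_zero, Algebra.algebraMap_self, RingHom.id_apply]
      exact mul_ne_zero hεh (Nat.cast_ne_zero.2 (by omega))
  -- the smallest order
  let Q : ℕ → Prop := fun m => P m ∨ m = N + 1
  have hQ : ∃ m, Q m := ⟨N + 1, Or.inr rfl⟩
  set n := Nat.find hQ with hn
  have hn1 : 1 ≤ n := by
    rcases Nat.find_spec hQ with h | h
    · exact h.1
    · omega
  have hnN : n ≤ N + 1 := Nat.find_le (Or.inr rfl)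
  have hPge : ∀ m, n ≤ m → m ≤ N → P m := by
    intro m hnm hmN
    induction m, hnm using Nat.le_induction with
    | base => exact (Nat.find_spec hQ).resolve_right (by omega)
    | succ m _ ih => exact hstep m (ih (by omega))
  have habove : ∀ j m, m + j = N + 1 → n ≤ m → ∀ r, u ^ m * r ∈ A := by
    intro j
    induction j with
    | zero =>
      intro m hm _ r
      rw [show m = N + 1 by omega, hunil, zero_mul]
      exact A.zero_mem
    | succ j ih =>
      intro m hm hnm r
      obtain ⟨-, h, hh, hεh⟩ := hPge m hnm (by omega)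
      set e := algebraMap k (AdjoinRoot ((X : k[X]) ^ (N + 1))) (ε r / ε h) with he
      obtain ⟨r', hr'⟩ := hdec (r - e * h)
      have h0 : ε (r - e * h) = 0 := by
        rw [map_sub, map_mul, he, AlgHom.commutes]
        simp [div_mul_cancel₀ _ hεh]
      rw [h0, map_zero, zero_add] at hr'
      rw [show u ^ m * r = u ^ (m + 1) * r' + e * (u ^ m * h) by
        linear_combination (u ^ m) * hr']
      exact A.add_mem (ih (m + 1) (by omega) (by omega) r')
        (A.mul_mem (A.algebraMap_mem _) hh)
  refine ⟨n, hn1, hnN, le_antisymm ?_ ?_⟩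
  · intro a ha
    have ha' : a ∈ A := ha
    set g := a - algebraMap k _ (ε a) with hg
    have hgA : g ∈ A := A.sub_mem ha' (A.algebraMap_mem _)
    have hdiv : ∀ m, 1 ≤ m → m ≤ n → ∃ h, g = u ^ m * h := by
      intro m hm hmn
      induction m, hm using Nat.le_induction with
      | base =>
        obtain ⟨r, hr⟩ := hdec a
        exact ⟨r, by rw [hg, pow_one, sub_eq_iff_eq_add', ← hr]⟩
      | succ m hm ih =>
        obtain ⟨h, hh⟩ := ih (by omega)
        obtain ⟨r, hr⟩ := hdec h
        have h0 : ε h = 0 := by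
          by_contra h0
          exact Nat.find_min hQ (show m < n by omega) (Or.inl ⟨hm, h, hh ▸ hgA, h0⟩)
        rw [h0, map_zero, zero_add] at hr
        exact ⟨r, by rw [hh, hr]; ring⟩
    obtain ⟨h, hh⟩ := hdiv n hn1 le_rfl
    refine Submodule.mem_sup.2 ⟨_, Submodule.smul_mem _ (ε a) (Submodule.mem_span_singleton_self 1),
      g, ?_, ?_⟩
    · exact Ideal.mem_span_singleton.2 ⟨h, hh⟩
    · rw [Algebra.smul_def, mul_one, hg, add_sub_cancel]
  · refine sup_le (Submodule.span_le.2 (Set.singleton_subset_iff.2 A.one_mem)) fun a ha => ?_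
    obtain ⟨r, rfl⟩ := Ideal.mem_span_singleton.1 ha
    exact habove (N + 1 - n) n (by omega) le_rfl r

end Groth.Agent.S14639
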