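import Groth.Statements.S14640
import Groth.Agent.GrpComp.OrbitEq
import Groth.Agent.GrpAct.PointAlg
import Groth.Agent.PtsDense.Basic
import Mathlib

set_option autoImplicit false
universe u
open CategoryTheory MonoidalCategory CartesianMonoidalCategory MonObj GrpObj AlgebraicGeometry CategoryTheory.Limits
open AlgGrp

namespace Groth.Agent.S14640


open CategoryTheory.Limits MonoidalCategory CartesianMonoidalCategory MonObj
open Groth.Agent.GrpField Groth.Agent.GrpComp Groth.Agent

/-- the product action -/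
noncomputable def prodAct {S : Scheme.{u}} {G X : Over S} [GrpObj G] (a : AlgGrp.Action G X) :
    AlgGrp.Action (G ⊗ G) (X ⊗ X) where
  act := lift (lift (fst (G ⊗ G) (X ⊗ X) ≫ fst G G) (snd (G ⊗ G) (X ⊗ X) ≫ fst X X) ≫ a.act)
    (lift (fst (G ⊗ G) (X ⊗ X) ≫ snd G G) (snd (G ⊗ G) (X ⊗ X) ≫ snd X X) ≫ a.act)
  one_act := by
    apply CartesianMonoidalCategory.hom_ext <;>
    · simp only [Category.assoc, lift_fst, lift_snd, GrpAct.comp_smul, whiskerRight_fst_assoc,
        whiskerRight_snd_assoc, IsMonHom.one_hom, leftUnitor_hom]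
      rw [show fst (𝟙_ (Over S)) (X ⊗ X) ≫ η[G] = 1 from by rw [Hom.one_def]; exact congrArg (· ≫ η[G]) (toUnit_unique _ _),
        GrpAct.one_smul']
  mul_act := by
    apply CartesianMonoidalCategory.hom_ext <;>
    · simp only [Category.assoc, lift_fst, lift_snd, GrpAct.comp_smul, whiskerRight_fst_assoc,
        whiskerRight_snd_assoc, whiskerLeft_fst_assoc, whiskerLeft_snd_assoc, lift_fst, lift_snd,
        associator_hom_fst_assoc, associator_hom_snd_fst_assoc, associator_hom_snd_snd_assoc,
        IsMonHom.mul_hom]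
      rw [← lift_fst_comp_snd_comp, ← Hom.mul_def, MonObj.comp_mul, GrpAct.mul_smul]

theorem eq_univ_of_mem_range {A : Type*} [TopologicalSpace A] [IrreducibleSpace A] (x : A) :
    irreducibleComponent x = Set.univ :=
  Set.eq_univ_of_univ_subset ((irreducibleComponent_mem_irreducibleComponents x).2
    (IrreducibleSpace.isIrreducible_univ A) (Set.subset_univ _))

theorem irreducibleSpace_three {S : Scheme.{u}} (X F : Over S) [GeometricallyIrreducible X.hom]
    [UniversallyOpen X.hom] [IrreducibleSpace F.left] : IrreducibleSpace ((X ⊗ X) ⊗ F).left := by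
  haveI : IrreducibleSpace (X ⊗ F).left := inferInstanceAs (IrreducibleSpace ↥(pullback X.hom F.hom))
  haveI : IrreducibleSpace (X ⊗ (X ⊗ F)).left :=
    inferInstanceAs (IrreducibleSpace ↥(pullback X.hom (X ⊗ F).hom))
  let e := ((Over.forget S).mapIso (α_ X X F)).hom.homeomorph
  haveI h3 : IrreducibleSpace ((Over.forget S).obj (X ⊗ X ⊗ F)) := ‹IrreducibleSpace (X ⊗ (X ⊗ F)).left›
  show IrreducibleSpace ((Over.forget S).obj ((X ⊗ X) ⊗ F))
  exact e.symm.surjective.irreducibleSpace e.symm.continuous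

/-- Over a field k, let G be a smooth k-group scheme of finite type acting on a variety X (a separated,
geometrically integral k-scheme of finite type), and let i : G° → G be its identity component: a
homomorphism which is an open immersion from a connected k-group scheme whose image is the connected
component of the unit element of G. Let G° act on X through i. Then X is homogeneous under G (the
graph morphism G × X → X × X, (g, x) ↦ (x, g·x), is surjective) if and only if it is homogeneous
under G°, and X is almost homogeneous under G (the graph morphism is dominant) if and only if it is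
almost homogeneous under G°. -/
theorem result (k : Type u) [Field k]
    (G G0 X : Over (Spec (CommRingCat.of k))) [GrpObj G] [Smooth G.hom] [QuasiCompact G.hom]
    [GrpObj G0] (i : G0 ⟶ G) [IsMonHom i] [IsOpenImmersion i.left] [ConnectedSpace ↥G0.left]
    (hi : Set.range i.left.base = connectedComponent ((η[G]).left.base (IsLocalRing.closedPoint k)))
    [IsSeparated X.hom] [LocallyOfFiniteType X.hom] [QuasiCompact X.hom] [GeometricallyIntegral X.hom]
    (a : AlgGrp.Action G X) (a0 : AlgGrp.Action G0 X) (ha0 : a0.act = (i ▷ X) ≫ a.act) :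
    (Surjective (CartesianMonoidalCategory.lift (CartesianMonoidalCategory.snd G X) a.act).left ↔
      Surjective (CartesianMonoidalCategory.lift (CartesianMonoidalCategory.snd G0 X) a0.act).left) ∧
    (IsDominant (CartesianMonoidalCategory.lift (CartesianMonoidalCategory.snd G X) a.act).left ↔
      IsDominant (CartesianMonoidalCategory.lift (CartesianMonoidalCategory.snd G0 X) a0.act).left) := by
  let Φ : G ⊗ X ⟶ X ⊗ X := CartesianMonoidalCategory.lift (CartesianMonoidalCategory.snd G X) a.act
  let Φ0 : G0 ⊗ X ⟶ X ⊗ X := CartesianMonoidalCategory.lift (CartesianMonoidalCategory.snd G0 X) a0.act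
  have hfac : Φ0 = (i ▷ X) ≫ Φ := by
    apply CartesianMonoidalCategory.hom_ext
    · simp [Φ, Φ0]
    · simp [Φ, Φ0, ha0]
  have hsub : Set.range Φ0.left ⊆ Set.range Φ.left := by
    rintro _ ⟨z, rfl⟩
    exact ⟨(i ▷ X).left z, by rw [← Scheme.Hom.comp_apply, ← Over.comp_left, ← hfac]⟩
  have hfac0 : ∀ {T : Over (Spec (CommRingCat.of k))} (g : T ⟶ G),
      (∀ t, g.left t ∈ connectedComponent (ept G)) → ∃ h : T ⟶ G0, h ≫ i = g := by
    intro T g hg
    have hr : Set.range g.left ⊆ Set.range i.left := by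
      rintro _ ⟨t, rfl⟩
      rw [show Set.range i.left = connectedComponent (ept G) from hi]
      exact hg t
    exact ⟨Over.homMk (IsOpenImmersion.lift i.left g.left hr)
      (by rw [← Over.w i, IsOpenImmersion.lift_fac_assoc, Over.w g]),
      Over.OverMorphism.ext (IsOpenImmersion.lift_fac _ _ _)⟩
  haveI : GeometricallyIrreducible X.hom := inferInstance
  haveI : Subsingleton (Spec (CommRingCat.of k)) := inferInstanceAs (Subsingleton (PrimeSpectrum k))
  haveI : IrreducibleSpace X.left := GeometricallyIrreducible.irreducibleSpace X.hom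
    (fun _ _ => @isOpen_discrete _ _ inferInstance _)
  haveI : UniversallyOpen X.hom := inferInstance
  haveI : IrreducibleSpace (X ⊗ X).left := inferInstanceAs (IrreducibleSpace ↥(pullback X.hom X.hom))
  refine ⟨⟨fun hs => ?_, fun hs => ⟨fun y => hsub ((hs.surj y))⟩⟩,
    ⟨fun hd => ?_, fun hd => ⟨hd.1.mono hsub⟩⟩⟩
  · -- homogeneous
    let a2 := prodAct a
    have hΦ2 : Surjective (CartesianMonoidalCategory.lift a2.act (snd (G ⊗ G) (X ⊗ X))).left := ⟨fun z => by
      obtain ⟨T, hT, b, hb⟩ := exists_pt (X := (X ⊗ X) ⊗ (X ⊗ X)) z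
      obtain ⟨t⟩ := IsPt.nonempty T
      obtain ⟨T₁, hT₁, v₁, w₁, hw₁⟩ := exists_lift_pt Φ
        (CartesianMonoidalCategory.lift (b ≫ snd (X ⊗ X) (X ⊗ X) ≫ fst X X) (b ≫ fst (X ⊗ X) (X ⊗ X) ≫ fst X X)) t (hs.surj _)
      obtain ⟨t₁⟩ := IsPt.nonempty T₁
      obtain ⟨T₂, hT₂, v₂, w₂, hw₂⟩ := exists_lift_pt Φ
        (v₁ ≫ CartesianMonoidalCategory.lift (b ≫ snd (X ⊗ X) (X ⊗ X) ≫ snd X X) (b ≫ fst (X ⊗ X) (X ⊗ X) ≫ snd X X)) t₁ (hs.surj _)
      obtain ⟨t₂⟩ := IsPt.nonempty T₂
      have e1 : (v₂ ≫ w₁) ≫ snd G X = v₂ ≫ v₁ ≫ b ≫ snd (X ⊗ X) (X ⊗ X) ≫ fst X X := by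
        simpa [Φ] using congrArg (fun q => v₂ ≫ q ≫ fst X X) hw₁
      have e2 : (v₂ ≫ w₁) ≫ a.act = v₂ ≫ v₁ ≫ b ≫ fst (X ⊗ X) (X ⊗ X) ≫ fst X X := by
        simpa [Φ] using congrArg (fun q => v₂ ≫ q ≫ snd X X) hw₁
      have e3 : w₂ ≫ snd G X = v₂ ≫ v₁ ≫ b ≫ snd (X ⊗ X) (X ⊗ X) ≫ snd X X := by
        simpa [Φ] using congrArg (fun q => q ≫ fst X X) hw₂
      have e4 : w₂ ≫ a.act = v₂ ≫ v₁ ≫ b ≫ fst (X ⊗ X) (X ⊗ X) ≫ snd X X := by
        simpa [Φ] using congrArg (fun q => q ≫ snd X X) hw₂
      let W : T₂ ⟶ (G ⊗ G) ⊗ (X ⊗ X) := CartesianMonoidalCategory.lift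
        (CartesianMonoidalCategory.lift ((v₂ ≫ w₁) ≫ fst G X) (w₂ ≫ fst G X))
        (CartesianMonoidalCategory.lift ((v₂ ≫ w₁) ≫ snd G X) (w₂ ≫ snd G X))
      have hW : W ≫ CartesianMonoidalCategory.lift a2.act (snd (G ⊗ G) (X ⊗ X)) = v₂ ≫ v₁ ≫ b := by
        apply CartesianMonoidalCategory.hom_ext <;> apply CartesianMonoidalCategory.hom_ext <;>
        · simp only [W, a2, prodAct, Category.assoc, lift_fst, lift_snd, lift_fst_assoc, lift_snd_assoc,
            GrpAct.comp_smul]
          first
          | (simp only [← GrpAct.comp_smul, lift_fst_snd, Category.id_comp, ← e2, ← e4, Category.assoc])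
          | (simp only [← e1, ← e3, Category.assoc])
      refine ⟨W.left t₂, ?_⟩
      rw [← Scheme.Hom.comp_apply, ← Over.comp_left, hW, Over.comp_left, Over.comp_left,
        Scheme.Hom.comp_apply, Scheme.Hom.comp_apply, hb]⟩
    obtain ⟨D⟩ := nonempty_idComp (G ⊗ G)
    obtain ⟨x⟩ : Nonempty X.left := inferInstance
    obtain ⟨T₀, hT₀, b₀, -⟩ := exists_pt x
    obtain ⟨K, _, g, v₀, -⟩ := exists_fpt T₀
    obtain ⟨t₀⟩ : Nonempty (Fpt g).left := inferInstanceAs (Nonempty (PrimeSpectrum K))
    let u₀ : Fpt g ⟶ X := v₀ ≫ b₀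
    let u : Fpt g ⟶ X ⊗ X := CartesianMonoidalCategory.lift u₀ u₀
    refine ⟨fun z => ?_⟩
    obtain ⟨w, hw⟩ : z ∈ Set.range (psi a2 D u).left := by
      rw [← component_eq_range_psi a2 hΦ2 D u t₀, eq_univ_of_mem_range]
      trivial
    obtain ⟨T, hT, r, hr⟩ := exists_pt w
    obtain ⟨t⟩ := IsPt.nonempty T
    have hcc : ∀ (π : G ⊗ G ⟶ G) [IsMonHom π] (d : T ⟶ D.obj) (s : T.left),
        (d ≫ D.incl ≫ π).left s ∈ connectedComponent (ept G) := by
      intro π _ d s
      have he : π.left (ept (G ⊗ G)) = ept G := by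
        rw [ept, ← Scheme.Hom.comp_apply, ← Over.comp_left, IsMonHom.one_hom π]; rfl
      rw [← he, Over.comp_left, Over.comp_left, Scheme.Hom.comp_apply, Scheme.Hom.comp_apply]
      refine π.left.continuous.image_connectedComponent_subset _ ⟨_, ?_, rfl⟩
      rw [← D.range]
      exact ⟨_, rfl⟩
    obtain ⟨h₁, hh₁⟩ := hfac0 _ (hcc (fst G G) (r ≫ fst D.obj (Fpt g)))
    obtain ⟨h₂, hh₂⟩ := hfac0 _ (hcc (snd G G) (r ≫ fst D.obj (Fpt g)))
    let y := r ≫ snd D.obj (Fpt g) ≫ u₀
    let P := CartesianMonoidalCategory.lift (h₂ * h₁⁻¹)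
      (CartesianMonoidalCategory.lift (h₁ ≫ i) y ≫ a.act)
    have hP : P ≫ Φ0 = r ≫ psi a2 D u := by
      apply CartesianMonoidalCategory.hom_ext
      · simp [P, Φ0, psi, a2, prodAct, u, y, hh₁]
        rw [← lift_fst_comp_snd_comp, GrpAct.comp_smul]
      · simp only [P, Φ0, ha0, Category.assoc, lift_snd]
        rw [← Category.assoc _ (i ▷ X), lift_whiskerRight, MonObj.mul_comp, GrpObj.inv_comp,
          ← GrpAct.mul_smul, inv_mul_cancel_right]
        simp [psi, a2, prodAct, u, y, hh₂]
        rw [← lift_fst_comp_snd_comp, GrpAct.comp_smul]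
    refine ⟨P.left t, ?_⟩
    rw [← Scheme.Hom.comp_apply, ← Over.comp_left, hP, Over.comp_left, Scheme.Hom.comp_apply, hr, hw]
  · -- almost homogeneous
    let K := AlgebraicClosure k
    let g₀ : Spec (CommRingCat.of K) ⟶ Spec (CommRingCat.of k) :=
      Spec.map (CommRingCat.ofHom (algebraMap k K))
    let F := Fpt g₀
    haveI : Smooth (pullback.snd G.hom g₀) := MorphismProperty.pullback_snd _ _ ‹Smooth G.hom›
    haveI : QuasiCompact (pullback.snd G.hom g₀) := MorphismProperty.pullback_snd _ _ ‹QuasiCompact G.hom›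
    haveI : IsLocallyNoetherian (pullback G.hom g₀) :=
      LocallyOfFiniteType.isLocallyNoetherian (pullback.snd G.hom g₀)
    haveI : CompactSpace ↥(pullback G.hom g₀) :=
      QuasiCompact.compactSpace_of_compactSpace (pullback.snd G.hom g₀)
    haveI : IsNoetherian (pullback G.hom g₀) := {}
    have hfin : (irreducibleComponents ↥(pullback G.hom g₀)).Finite :=
      TopologicalSpace.NoetherianSpace.finite_irreducibleComponents
    have hc : ∀ C ∈ irreducibleComponents ↥(pullback G.hom g₀),
        ∃ c : F ⟶ G, ∀ s, (CartesianMonoidalCategory.lift c (𝟙 F)).left s ∈ C := by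
      intro C hC
      let U : Set ↥(pullback G.hom g₀) := (⋃₀ (irreducibleComponents ↥(pullback G.hom g₀) \ {C}))ᶜ
      have hUC : U ⊆ C := by
        intro w hw
        by_contra h
        exact hw ⟨irreducibleComponent w, ⟨irreducibleComponent_mem_irreducibleComponents w,
          fun e => h ((Set.mem_singleton_iff.1 e) ▸ mem_irreducibleComponent)⟩, mem_irreducibleComponent⟩
      have hUo : IsOpen U := by
        rw [isOpen_compl_iff, Set.sUnion_eq_biUnion]
        exact hfin.diff.isClosed_biUnion fun D hD => isClosed_of_mem_irreducibleComponents _ hD.1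
      have hUne : U.Nonempty := by
        by_contra h
        rw [Set.not_nonempty_iff_eq_empty, Set.compl_empty_iff] at h
        obtain ⟨D, hD, hCD⟩ := (isIrreducible_iff_sUnion_isClosed.1 hC.1) hfin.diff.toFinset
          (fun D hD => isClosed_of_mem_irreducibleComponents _ (hfin.diff.mem_toFinset.1 hD).1)
          (by rw [Set.Finite.coe_toFinset, h]; exact Set.subset_univ _)
        have hD' := hfin.diff.mem_toFinset.1 hD
        exact hD'.2 (Set.mem_singleton_iff.2 (Set.Subset.antisymm (hC.2 hD'.1.1 hCD) hCD))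
      obtain ⟨w, hwU, sec, hsec, hsw⟩ :=
        (PtsDense.dense_rational K (pullback.snd G.hom g₀)).inter_open_nonempty U hUo hUne
      let c : F ⟶ G := Over.homMk (sec ≫ pullback.fst G.hom g₀)
        (by rw [Category.assoc, pullback.condition, reassoc_of% hsec]; rfl)
      refine ⟨c, fun s => ?_⟩
      have e : (CartesianMonoidalCategory.lift c (𝟙 F)).left = sec := by
        apply pullback.hom_ext
        · exact congrArg (fun q => q.left) (lift_fst c (𝟙 F))
        · exact (congrArg (fun q => q.left) (lift_snd c (𝟙 F))).trans hsec.symm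
      haveI : Subsingleton (Spec (CommRingCat.of K)) := inferInstanceAs (Subsingleton (PrimeSpectrum K))
      rw [e, Subsingleton.elim (α := ↥(Spec (CommRingCat.of K))) s (IsLocalRing.closedPoint K), hsw]
      exact hUC hwU
    choose c hc using hc
    haveI : IrreducibleSpace F.left := inferInstanceAs (IrreducibleSpace (PrimeSpectrum K))
    haveI : IrreducibleSpace ((X ⊗ X) ⊗ F).left := irreducibleSpace_three X F
    let τ : ∀ C, C ∈ irreducibleComponents ↥(pullback G.hom g₀) → ((X ⊗ X) ⊗ F ≅ (X ⊗ X) ⊗ F) :=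
      fun C hC => α_ X X F ≪≫ whiskerLeftIso X (trX a (c C hC)) ≪≫ (α_ X X F).symm
    let π := (fst (X ⊗ X) F).left
    haveI : UniversallyOpen g₀ := PointBase.uopen _ _
    haveI : Surjective g₀ := PointBase.surj _ _
    haveI hπo : UniversallyOpen π := MorphismProperty.pullback_fst _ _ ‹UniversallyOpen g₀›
    haveI hπs : Surjective π := MorphismProperty.pullback_fst _ _ ‹Surjective g₀›
    let R := Set.range Φ0.left
    let Q := π ⁻¹' closure R
    have key : π ⁻¹' Set.range Φ.left ⊆ ⋃ C : irreducibleComponents ↥(pullback G.hom g₀),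
        homeo (τ C.1 C.2) '' Q := by
      intro z hz
      obtain ⟨T, hT, b, hb⟩ := exists_pt (X := (X ⊗ X) ⊗ F) z
      obtain ⟨t⟩ := IsPt.nonempty T
      obtain ⟨T', hT', v, w, hw⟩ := exists_lift_pt Φ (b ≫ fst (X ⊗ X) F) t (by
        rw [Over.comp_left, Scheme.Hom.comp_apply, hb]; exact hz)
      obtain ⟨t'⟩ := IsPt.nonempty T'
      let e := v ≫ b ≫ snd (X ⊗ X) F
      let g' := w ≫ fst G X
      let x := w ≫ snd G X
      let C := irreducibleComponent ((CartesianMonoidalCategory.lift g' e).left t')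
      have hC : C ∈ irreducibleComponents ↥(pullback G.hom g₀) :=
        irreducibleComponent_mem_irreducibleComponents _
      have h1 : ∀ s, (CartesianMonoidalCategory.lift (e ≫ c C hC) e).left s ∈ C := fun s => by
        rw [show CartesianMonoidalCategory.lift (e ≫ c C hC) e = e ≫ CartesianMonoidalCategory.lift (c C hC) (𝟙 F) from by simp,
          Over.comp_left, Scheme.Hom.comp_apply]
        exact hc C hC _
      have h2 : ∀ s, (CartesianMonoidalCategory.lift g' e).left s ∈ C := fun s => by
        haveI : Subsingleton T'.left := IsPt.single'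
        rw [Subsingleton.elim s t']; exact mem_irreducibleComponent
      have h3 := div_mem_ept (g₀ := g₀) (C := C) isIrreducible_irreducibleComponent
        isClosed_irreducibleComponent (e ≫ c C hC) g' e h1 h2
      obtain ⟨h, hh⟩ := hfac0 _ h3
      let q : T' ⟶ (X ⊗ X) ⊗ F := CartesianMonoidalCategory.lift
        (CartesianMonoidalCategory.lift h x ≫ Φ0) e
      refine Set.mem_iUnion.2 ⟨⟨C, hC⟩, q.left t', ?_, ?_⟩
      · show π (q.left t') ∈ closure R
        rw [← Scheme.Hom.comp_apply, ← Over.comp_left, lift_fst, Over.comp_left, Scheme.Hom.comp_apply]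
        exact subset_closure ⟨_, rfl⟩
      · have hq : q ≫ (τ C hC).hom = v ≫ b := by
          have hw1 : x = v ≫ b ≫ fst (X ⊗ X) F ≫ fst X X := by
            simpa [x, Φ] using congrArg (fun q => q ≫ fst X X) hw
          have hw2 : CartesianMonoidalCategory.lift g' x ≫ a.act = v ≫ b ≫ fst (X ⊗ X) F ≫ snd X X := by
            simpa [x, g', Φ, GrpAct.comp_smul] using congrArg (fun q => q ≫ snd X X) hw
          have e0 : q ≫ (α_ X X F).hom = CartesianMonoidalCategory.lift x
              (CartesianMonoidalCategory.lift (CartesianMonoidalCategory.lift (h ≫ i) x ≫ a.act) e) := by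
            apply CartesianMonoidalCategory.hom_ext
            · simp [q, Φ0]
            · apply CartesianMonoidalCategory.hom_ext
              · simp [q, Φ0, ha0]
              · simp [q]
          simp only [τ, Iso.trans_hom, whiskerLeftIso_hom, Iso.symm_hom, reassoc_of% e0]
          rw [lift_whiskerLeft_assoc, lift_trX, ← GrpAct.mul_smul, hh, mul_inv_cancel_left, hw2, hw1]
          apply CartesianMonoidalCategory.hom_ext
          · apply CartesianMonoidalCategory.hom_ext <;> simp
          · simp [e]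
        rw [homeo_apply, ← Scheme.Hom.comp_apply, ← Over.comp_left, hq, Over.comp_left,
          Scheme.Hom.comp_apply, hb]
    have hdense : Dense (π ⁻¹' Set.range Φ.left) :=
      (show Dense (Set.range Φ.left) from hd.1).preimage π.isOpenMap
    haveI := hfin.to_subtype
    have hclosed : IsClosed (⋃ C : irreducibleComponents ↥(pullback G.hom g₀), homeo (τ C.1 C.2) '' Q) :=
      isClosed_iUnion_of_finite fun C => (homeo (τ C.1 C.2)).isClosed_image.2 (isClosed_closure.preimage π.continuous)
    have huniv : (⋃ C : irreducibleComponents ↥(pullback G.hom g₀), homeo (τ C.1 C.2) '' Q) = Set.univ :=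
      Set.eq_univ_of_univ_subset (hdense.closure_eq ▸ closure_minimal key hclosed)
    classical
    obtain ⟨S, hS, hSu⟩ := (isIrreducible_iff_sUnion_isClosed.1 (IrreducibleSpace.isIrreducible_univ ↥((X ⊗ X) ⊗ F).left))
      (Set.finite_range fun C : irreducibleComponents ↥(pullback G.hom g₀) => homeo (τ C.1 C.2) '' Q).toFinset
      (fun S hS => by
        obtain ⟨C, rfl⟩ := (Set.finite_range _).mem_toFinset.1 hS
        exact (homeo (τ C.1 C.2)).isClosed_image.2 (isClosed_closure.preimage π.continuous))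
      (by rw [Set.Finite.coe_toFinset, Set.sUnion_range, huniv])
    obtain ⟨C, rfl⟩ := (Set.finite_range _).mem_toFinset.1 hS
    refine ⟨fun p => ?_⟩
    obtain ⟨w, rfl⟩ := π.surjective p
    obtain ⟨w', hw', he⟩ := hSu (Set.mem_univ (homeo (τ C.1 C.2) w))
    rw [(homeo (τ C.1 C.2)).injective he] at hw'
    exact hw'

end Groth.Agent.S14640
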