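import Groth.Statements.S14643
import Groth.Agent.MonoFactor.HomogDim
import Groth.Agent.FppfSource.Scheme
import Mathlib

set_option autoImplicit false
universe u
open CategoryTheory MonoidalCategory CartesianMonoidalCategory MonObj GrpObj AlgebraicGeometry CategoryTheory.Limits
open AlgGrp

namespace Groth.Agent.S14643

open MonObj CartesianMonoidalCategory in
/-- descent of morphisms along an fppf cover -/
theorem exists_desc {S : Scheme.{u}} {G X W : Over S} (q : G ⟶ X)
    (hq : Surjective q.left ∧ Flat q.left ∧ LocallyOfFinitePresentation q.left) (t : G ⟶ W)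
    (h : ∀ (T : Over S) (g₁ g₂ : T ⟶ G), g₁ ≫ q = g₂ ≫ q → g₁ ≫ t = g₂ ≫ t) :
    ∃ f : X ⟶ W, q ≫ f = t := by
  haveI := hq.1; haveI := hq.2.1; haveI := hq.2.2
  have hd : ∀ {T : Scheme.{u}} (g₁ g₂ : T ⟶ G.left), g₁ ≫ q.left = g₂ ≫ q.left → g₁ ≫ t.left = g₂ ≫ t.left := by
    intro T g₁ g₂ e
    let T' : Over S := Over.mk (g₁ ≫ G.hom)
    let x : T' ⟶ G := Over.homMk g₁ rfl
    let y : T' ⟶ G := Over.homMk g₂ (by
      change g₂ ≫ G.hom = g₁ ≫ G.hom
      rw [← Over.w q, ← Category.assoc, ← Category.assoc, e])
    exact congrArg CommaMorphism.left (h T' x y (Over.OverMorphism.ext e))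
  refine ⟨Over.homMk (EffectiveEpi.desc q.left t.left hd) ?_,
    Over.OverMorphism.ext (EffectiveEpi.fac q.left t.left hd)⟩
  apply (cancel_epi q.left).mp
  rw [← Category.assoc, EffectiveEpi.fac, Over.w, Over.w]


/-- the tensor product of two covers is a cover -/
theorem tensor_cover {S : Scheme.{u}} {A B A' B' : Over S} (f : A ⟶ B)
    (hf : Surjective f.left ∧ Flat f.left ∧ LocallyOfFinitePresentation f.left) (g : A' ⟶ B')
    (hg : Surjective g.left ∧ Flat g.left ∧ LocallyOfFinitePresentation g.left) :
    Surjective (f ⊗ₘ g).left ∧ Flat (f ⊗ₘ g).left ∧ LocallyOfFinitePresentation (f ⊗ₘ g).left := by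
  have e : f ⊗ₘ g = (A ◁ g) ≫ (f ▷ B') := by ext <;> simp
  have h1 := @Groth.Agent.MonoFactor.cover_whiskerLeft _ A _ _ g hg.1 hg.2.1 hg.2.2
  have h : IsPullback (fst A B') (f ▷ B') f (fst B B') := by
    refine IsPullback.of_isLimit' ⟨(whiskerRight_fst f B').symm⟩
      (Limits.PullbackCone.IsLimit.mk _ (fun c => lift c.fst (c.snd ≫ snd B B'))
        (fun c => lift_fst _ _) (fun c => ?_) (fun c m h1 h2 => ?_))
    · apply CartesianMonoidalCategory.hom_ext
      · rw [Category.assoc, whiskerRight_fst, lift_fst_assoc]
        exact c.condition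
      · rw [Category.assoc, whiskerRight_snd, lift_snd]
    · apply CartesianMonoidalCategory.hom_ext
      · rw [lift_fst]; exact h1
      · rw [lift_snd, ← h2, Category.assoc, whiskerRight_snd]
  have h' := h.map (Over.forget _)
  rw [e, Over.comp_left]
  exact ⟨MorphismProperty.comp_mem _ _ _ h1.1 (MorphismProperty.of_isPullback (P := @Surjective) h' hf.1),
    MorphismProperty.comp_mem _ _ _ h1.2.1 (MorphismProperty.of_isPullback (P := @Flat) h' hf.2.1),
    MorphismProperty.comp_mem _ _ _ h1.2.2 (MorphismProperty.of_isPullback (P := @LocallyOfFinitePresentation) h' hf.2.2)⟩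

/-- Over a field k, let G be a smooth k-group scheme of finite type acting on a variety X (a separated,
geometrically integral k-scheme of finite type). Let n : N → G be the kernel of the action: a closed
subgroup scheme such that, for every k-scheme T, a T-point of G factors through N exactly when it
acts as the identity on all points of X over T-schemes. Let π : G → Q be a homomorphism onto a
k-group scheme of finite type which is flat and surjective with kernel N (the quotient G/N). Then
there is a unique action of Q on X inducing the given one along π; this action of Q is faithful (a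
T-point of Q acting as the identity on all points of X over T-schemes is the unit); and X is
homogeneous under G (surjective graph morphism (g, x) ↦ (x, g·x)) if and only if it is homogeneous
under Q, and almost homogeneous under G (dominant graph morphism) if and only if it is almost
homogeneous under Q. -/
theorem result (k : Type u) [Field k]
    (G N Q X : Over (Spec (CommRingCat.of k))) [GrpObj G] [Smooth G.hom] [QuasiCompact G.hom]
    [IsSeparated X.hom] [LocallyOfFiniteType X.hom] [QuasiCompact X.hom] [GeometricallyIntegral X.hom] (a : AlgGrp.Action G X)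
    [GrpObj N] (n : N ⟶ G) [IsMonHom n] [IsClosedImmersion n.left]
    (hN : ∀ (T : Over (Spec (CommRingCat.of k))) (g : T ⟶ G),
      (∃ m : T ⟶ N, m ≫ n = g) ↔
        ∀ (T' : Over (Spec (CommRingCat.of k))) (s : T' ⟶ T) (x : T' ⟶ X), CartesianMonoidalCategory.lift (s ≫ g) x ≫ a.act = x)
    [GrpObj Q] [LocallyOfFiniteType Q.hom] [QuasiCompact Q.hom] (π : G ⟶ Q) [IsMonHom π] [Flat π.left] [Surjective π.left]
    (hker : AlgGrp.IsKernel n π) :
    (∃! b : AlgGrp.Action Q X, (π ▷ X) ≫ b.act = a.act) ∧
    ∀ b : AlgGrp.Action Q X, (π ▷ X) ≫ b.act = a.act →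
      (∀ (T : Over (Spec (CommRingCat.of k))) (q : T ⟶ Q),
        (∀ (T' : Over (Spec (CommRingCat.of k))) (s : T' ⟶ T) (x : T' ⟶ X), CartesianMonoidalCategory.lift (s ≫ q) x ≫ b.act = x) → q = 1) ∧
      (Surjective (CartesianMonoidalCategory.lift (CartesianMonoidalCategory.snd G X) a.act).left ↔
        Surjective (CartesianMonoidalCategory.lift (CartesianMonoidalCategory.snd Q X) b.act).left) ∧
      (IsDominant (CartesianMonoidalCategory.lift (CartesianMonoidalCategory.snd G X) a.act).left ↔
        IsDominant (CartesianMonoidalCategory.lift (CartesianMonoidalCategory.snd Q X) b.act).left) := by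
  have : IsLocallyNoetherian Q.left := LocallyOfFiniteType.isLocallyNoetherian Q.hom
  have : LocallyOfFiniteType (π.left ≫ Q.hom) := by rw [Over.w]; infer_instance
  have : LocallyOfFiniteType π.left := locallyOfFiniteType_of_comp π.left Q.hom
  have hπ : Surjective π.left ∧ Flat π.left ∧ LocallyOfFinitePresentation π.left := ⟨‹_›, ‹_›, inferInstance⟩
  have hcov : ∀ W : Over (Spec (CommRingCat.of k)),
      Surjective (π ▷ W).left ∧ Flat (π ▷ W).left ∧ LocallyOfFinitePresentation (π ▷ W).left := by
    intro W
    have h : IsPullback (CartesianMonoidalCategory.fst G W) (π ▷ W) π (CartesianMonoidalCategory.fst Q W) := by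
      refine IsPullback.of_isLimit' ⟨(whiskerRight_fst π W).symm⟩
        (Limits.PullbackCone.IsLimit.mk _ (fun c => CartesianMonoidalCategory.lift c.fst (c.snd ≫ CartesianMonoidalCategory.snd Q W))
          (fun c => lift_fst _ _) (fun c => ?_) (fun c m h1 h2 => ?_))
      · apply CartesianMonoidalCategory.hom_ext
        · rw [Category.assoc, whiskerRight_fst, lift_fst_assoc]
          exact c.condition
        · rw [Category.assoc, whiskerRight_snd, lift_snd]
      · apply CartesianMonoidalCategory.hom_ext
        · rw [lift_fst]; exact h1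
        · rw [lift_snd, ← h2, Category.assoc, whiskerRight_snd]
    have h' := h.map (Over.forget _)
    exact ⟨MorphismProperty.of_isPullback (P := @Surjective) h' hπ.1,
      MorphismProperty.of_isPullback (P := @Flat) h' hπ.2.1,
      MorphismProperty.of_isPullback (P := @LocallyOfFinitePresentation) h' hπ.2.2⟩
  have hkerw := hker.w
  have hker : ∀ {T : Over (Spec (CommRingCat.of k))} (g : T ⟶ G), g ≫ π = 1 → ∃ m : T ⟶ N, m ≫ n = g := by
    intro T g hg
    exact ⟨hker.lift g (toUnit T) (by rw [hg, Hom.one_def]), hker.lift_fst _ _ _⟩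
  obtain ⟨act, hact⟩ := exists_desc (π ▷ X) (hcov X) a.act fun T u v e => by
    have e1 := congrArg (· ≫ CartesianMonoidalCategory.fst Q X) e
    have e2 := congrArg (· ≫ CartesianMonoidalCategory.snd Q X) e
    simp only [Category.assoc, whiskerRight_fst, whiskerRight_snd] at e1 e2
    rw [← Category.assoc, ← Category.assoc] at e1
    obtain ⟨m, hm⟩ := hker ((v ≫ CartesianMonoidalCategory.fst G X)⁻¹ * (u ≫ CartesianMonoidalCategory.fst G X))
      (by rw [MonObj.mul_comp, GrpObj.inv_comp, e1, inv_mul_cancel])
    have hfix := (hN T (m ≫ n)).1 ⟨m, rfl⟩ T (𝟙 T) (u ≫ CartesianMonoidalCategory.snd G X)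
    rw [Category.id_comp, hm, Groth.Agent.GrpAct.mul_smul] at hfix
    have key := congrArg (fun z => CartesianMonoidalCategory.lift (v ≫ CartesianMonoidalCategory.fst G X) z ≫ a.act) hfix
    simp only [← Groth.Agent.GrpAct.mul_smul, mul_inv_cancel_left] at key
    rw [← Category.comp_id u, ← Category.comp_id v, ← lift_fst_snd, comp_lift, comp_lift, key, e2]
  have := Groth.Agent.MonoFactor.epi_of_cover _ (hcov X)
  let b : AlgGrp.Action Q X :=
    { act := act
      one_act := by
        rw [← IsMonHom.one_hom π, comp_whiskerRight, Category.assoc, hact, a.one_act]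
      mul_act := by
        have := Groth.Agent.MonoFactor.epi_of_cover _ (tensor_cover π hπ π hπ)
        have h2 : Surjective ((π ⊗ₘ π) ▷ X).left ∧ Flat ((π ⊗ₘ π) ▷ X).left ∧
            LocallyOfFinitePresentation ((π ⊗ₘ π) ▷ X).left := by
          rw [← tensorHom_id]
          exact tensor_cover _ (tensor_cover π hπ π hπ) _
            ⟨inferInstanceAs (Surjective (𝟙 X.left)), inferInstanceAs (Flat (𝟙 X.left)),
              inferInstanceAs (LocallyOfFinitePresentation (𝟙 X.left))⟩
        have := Groth.Agent.MonoFactor.epi_of_cover _ h2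
        rw [← cancel_epi ((π ⊗ₘ π) ▷ X), ← comp_whiskerRight_assoc, ← IsMonHom.mul_hom, comp_whiskerRight_assoc,
          hact, a.mul_act, ← tensorHom_id, associator_naturality_assoc, tensorHom_id,
          MonoidalCategory.tensorHom_def π (π ▷ X), Category.assoc, ← MonoidalCategory.whiskerLeft_comp_assoc, hact,
          ← whisker_exchange_assoc, hact] }
  refine ⟨⟨b, hact, fun b' hb' => ?_⟩, fun b' hb' => ?_⟩
  · have : b'.act = act := by rw [← cancel_epi (π ▷ X), hb', hact]
    cases b'; cases this; rfl
  · refine ⟨fun T q hq => ?_, ?_⟩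
    · let T' : Over (Spec (CommRingCat.of k)) := Limits.pullback q π
      let t : T' ⟶ T := Limits.pullback.fst q π
      let g : T' ⟶ G := Limits.pullback.snd q π
      have hsq := ((IsPullback.of_hasPullback q π).map (Over.forget _)).flip
      have := Groth.Agent.MonoFactor.epi_of_cover t ⟨MorphismProperty.of_isPullback (P := @Surjective) hsq hπ.1,
        MorphismProperty.of_isPullback (P := @Flat) hsq hπ.2.1,
        MorphismProperty.of_isPullback (P := @LocallyOfFinitePresentation) hsq hπ.2.2⟩
      obtain ⟨m, hm⟩ := (hN T' g).2 fun T'' s x => by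
        rw [← hb', ← Category.assoc, lift_whiskerRight, Category.assoc, ← Limits.pullback.condition,
          ← Category.assoc]
        exact hq T'' (s ≫ t) x
      rw [← cancel_epi t, MonObj.comp_one, Limits.pullback.condition]
      change g ≫ π = 1
      rw [← hm, Category.assoc, hkerw, ← Category.assoc, toUnit_unique (m ≫ _) (toUnit T'), Hom.one_def]
    · have e : (CartesianMonoidalCategory.lift (CartesianMonoidalCategory.snd G X) a.act).left =
          (π ▷ X).left ≫ (CartesianMonoidalCategory.lift (CartesianMonoidalCategory.snd Q X) b'.act).left := by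
        rw [← Over.comp_left, comp_lift, whiskerRight_snd, hb']
      have : Surjective (π ▷ X).left := (hcov X).1
      rw [e]
      refine ⟨⟨fun _ => Surjective.of_comp (π ▷ X).left _, fun _ => inferInstance⟩,
        ⟨fun _ => IsDominant.of_comp (π ▷ X).left _, fun _ => inferInstance⟩⟩

end Groth.Agent.S14643
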