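import Groth.Statements.S14645
import Groth.Agent.MonoFactor.Points
import Mathlib

set_option autoImplicit false
universe u
open CategoryTheory MonoidalCategory CartesianMonoidalCategory MonObj GrpObj AlgebraicGeometry CategoryTheory.Limits
open AlgGrp

namespace Groth.Agent.S14645

/-- Over a field k with algebraic closure K, let G be a smooth k-group scheme of finite type acting on a
variety X (a separated, geometrically integral k-scheme of finite type). Then X is homogeneous under
G, i.e. the graph morphism G × X → X × X, (g, x) ↦ (x, g·x), is surjective, if and only if the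
abstract group G(K) of K-points over k acts transitively on the set X(K): for all K-points x, y of X
there is a K-point g of G with g · x = y. -/
theorem result (k : Type u) [Field k]
    (G X : Over (Spec (CommRingCat.of k))) [GrpObj G] [Smooth G.hom] [QuasiCompact G.hom]
    [IsSeparated X.hom] [LocallyOfFiniteType X.hom] [QuasiCompact X.hom] [GeometricallyIntegral X.hom] (a : AlgGrp.Action G X)
    (K : Type u) [Field K] [Algebra k K] [IsAlgClosure k K] :
    Surjective (CartesianMonoidalCategory.lift (CartesianMonoidalCategory.snd G X) a.act).left ↔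
      ∀ x y : Over.mk (Spec.map (CommRingCat.ofHom (algebraMap k K))) ⟶ X, ∃ g : Over.mk (Spec.map (CommRingCat.ofHom (algebraMap k K))) ⟶ G, CartesianMonoidalCategory.lift g x ≫ a.act = y := by
  haveI : IsAlgClosed K := IsAlgClosure.isAlgClosed k
  let Γ : G ⊗ X ⟶ X ⊗ X := CartesianMonoidalCategory.lift (CartesianMonoidalCategory.snd G X) a.act
  have hlft : ∀ A B : Over (Spec (CommRingCat.of k)), LocallyOfFiniteType A.hom → LocallyOfFiniteType B.hom →
      LocallyOfFiniteType (A ⊗ B).hom := by
    intro A B hA hB
    rw [Over.tensorObj_hom]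
    have := MorphismProperty.pullback_fst (P := @LocallyOfFiniteType) A.hom B.hom hB
    exact MorphismProperty.comp_mem _ _ _ this hA
  have : LocallyOfFiniteType (G ⊗ X).hom := hlft _ _ inferInstance inferInstance
  have : LocallyOfFiniteType (X ⊗ X).hom := hlft _ _ inferInstance inferInstance
  constructor
  · intro hs x y
    have : Surjective Γ.left := hs
    obtain ⟨w, hw⟩ := Groth.Agent.MonoFactor.exists_lift_algClosed_point Γ (CartesianMonoidalCategory.lift x y)
    have e1 := congrArg (· ≫ CartesianMonoidalCategory.fst X X) hw
    have e2 := congrArg (· ≫ CartesianMonoidalCategory.snd X X) hw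
    simp only [Γ, Category.assoc, lift_fst, lift_snd] at e1 e2
    refine ⟨w ≫ CartesianMonoidalCategory.fst G X, ?_⟩
    rw [← e1, ← comp_lift, lift_fst_snd, Category.comp_id, e2]
  · intro h
    have hqc : ∀ A B : Over (Spec (CommRingCat.of k)), QuasiCompact A.hom → QuasiCompact B.hom →
        QuasiCompact (A ⊗ B).hom := by
      intro A B hA hB
      rw [Over.tensorObj_hom]
      have := MorphismProperty.pullback_fst (P := @QuasiCompact) A.hom B.hom hB
      exact MorphismProperty.comp_mem _ _ _ this hA
    have : QuasiCompact (G ⊗ X).hom := hqc _ _ inferInstance inferInstance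
    have : QuasiCompact (X ⊗ X).hom := hqc _ _ inferInstance inferInstance
    have : IsLocallyNoetherian (X ⊗ X).left := LocallyOfFiniteType.isLocallyNoetherian (X ⊗ X).hom
    have : JacobsonSpace (X ⊗ X).left := LocallyOfFiniteType.jacobsonSpace (X ⊗ X).hom
    have : CompactSpace (X ⊗ X).left := QuasiCompact.compactSpace_of_compactSpace (X ⊗ X).hom
    have : LocallyOfFiniteType (Γ.left ≫ (X ⊗ X).hom) := by rw [Over.w]; infer_instance
    have : LocallyOfFiniteType Γ.left := locallyOfFiniteType_of_comp Γ.left (X ⊗ X).hom
    have : QuasiCompact (Γ.left ≫ (X ⊗ X).hom) := by rw [Over.w]; infer_instance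
    have : QuasiCompact Γ.left := QuasiCompact.of_comp Γ.left (X ⊗ X).hom
    refine Groth.Agent.MonoFactor.surjective_of_closedPoints Γ.left fun z hz => ?_
    obtain ⟨p, hp⟩ := Groth.Agent.GrpAct.exists_point (K := K) z hz
    obtain ⟨t⟩ : Nonempty (Spec (CommRingCat.of K)) := inferInstance
    obtain ⟨g, hg⟩ := h (p ≫ CartesianMonoidalCategory.fst X X) (p ≫ CartesianMonoidalCategory.snd X X)
    refine ⟨(CartesianMonoidalCategory.lift g (p ≫ CartesianMonoidalCategory.fst X X)).left t, ?_⟩
    have : CartesianMonoidalCategory.lift g (p ≫ CartesianMonoidalCategory.fst X X) ≫ Γ = p := by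
      apply CartesianMonoidalCategory.hom_ext
      · simp [Γ]
      · simp [Γ, hg]
    rw [← Scheme.Hom.comp_apply, ← Over.comp_left, this, hp]

end Groth.Agent.S14645
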