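import Groth.Statements.S1465
import Groth.Agent.Pinch.Lift
import Groth.Agent.S7181

set_option autoImplicit false
universe u
open FlatMor

open CategoryTheory Limits AlgebraicGeometry Groth.Agent
set_option backward.isDefEq.respectTransparency false
namespace Groth.Agent.S1465

open AlgebraicGeometry CategoryTheory Limits in
/-- Let i : Z → X be a closed immersion and j : Z → Y an integral morphism such that each fibre of j
lies in the preimage of an affine open of X. Let i' : Z' → X', j' : Z' → Y' and f : X' → X, g : Y' →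
Y, h : Z' → Z form cartesian squares over i and j, with f, g, h separated and locally quasi-finite.
Then the pushouts W of (i, j) and W' of (i', j') exist in the category of schemes, the induced W' →
W is separated and locally quasi-finite, and the squares comparing Y' → W', X' → W' with Y → W, X →
W are cartesian. -/
theorem result {X Y Z X' Y' Z' : Scheme.{u}}
    (i : Z ⟶ X) [IsClosedImmersion i] (j : Z ⟶ Y) [IsIntegralHom j]
    (h3 : ∀ y : Y, ∃ U : X.Opens, IsAffineOpen U ∧ j ⁻¹' {y} ⊆ (i ⁻¹ᵁ U : Set ↑Z))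
    (i' : Z' ⟶ X') (j' : Z' ⟶ Y') (f : X' ⟶ X) (g : Y' ⟶ Y) (h : Z' ⟶ Z)
    (hX : IsPullback h i' i f) (hY : IsPullback h j' j g)
    [IsSeparated f] [LocallyQuasiFinite f] [LocallyOfFiniteType f] [IsSeparated g] [LocallyQuasiFinite g] [LocallyOfFiniteType g]
    [IsSeparated h] [LocallyQuasiFinite h] [LocallyOfFiniteType h] :
    ∃ (W W' : Scheme.{u}) (a : Y ⟶ W) (b : X ⟶ W) (a' : Y' ⟶ W') (b' : X' ⟶ W') (k : W' ⟶ W),
      IsPushout j i a b ∧ IsPushout j' i' a' b' ∧ a' ≫ k = g ≫ a ∧ b' ≫ k = f ≫ b ∧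
      IsSeparated k ∧ LocallyQuasiFinite k ∧ LocallyOfFiniteType k ∧ IsPullback g a' a k ∧ IsPullback f b' b k := by
  have hc : Pinch.HasCharts i j := Pinch.hasCharts_of_integral i j fun y => by
    obtain ⟨U, hU, hyU⟩ := h3 y
    exact ⟨U, hU, fun z hz => hyU hz⟩
  haveI : IsClosedImmersion i' := MorphismProperty.of_isPullback hX ‹IsClosedImmersion i›
  haveI : IsIntegralHom j' := MorphismProperty.of_isPullback hY ‹IsIntegralHom j›
  obtain ⟨W, a, b, hp⟩ := Pinch.exists_pinch hc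
  have hc' : Pinch.HasCharts i' j' := Pinch.hasCharts_lift (f := f) (g := g) (c := h) hc hX.w.symm hY.w.symm
  obtain ⟨W', a', b', hp'⟩ := Pinch.exists_pinch hc'
  have hP := Pinch.isPushout_of_isPinch hp
  have hP' := Pinch.isPushout_of_isPinch hp'
  let k := hP'.desc (f ≫ a) (g ≫ b) (by
    rw [← Category.assoc, ← hX.w, Category.assoc, hP.w, ← Category.assoc, hY.w, Category.assoc])
  have ha : a' ≫ k = f ≫ a := hP'.inl_desc _ _ _
  have hb : b' ≫ k = g ≫ b := hP'.inr_desc _ _ _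
  have hpc := Pinch.exists_milnor_piece hc hp hc' hp' hX.flip hY.flip ha hb
  have pa : IsPullback a' f k a := Pinch.isPullback_of_pieces ha fun p => by
    obtain ⟨V, V', eh, ef, eg, hpV, hV, hV', dX, -, -⟩ := hpc p
    exact ⟨V, V', eh, ef, hpV, hV.affW, hV'.affW, hV.affX, hV'.affX, dX⟩
  have pb : IsPullback b' g k b := Pinch.isPullback_of_pieces hb fun p => by
    obtain ⟨V, V', eh, ef, eg, hpV, hV, hV', -, dY, -⟩ := hpc p
    exact ⟨V, V', eh, eg, hpV, hV.affW, hV'.affW, hV.affY, hV'.affY, dY⟩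
  haveI : LocallyOfFiniteType k := Pinch.of_desc (M := @LocallyOfFiniteType) Pinch.desc_finiteType
    (RingHom.finiteType_stableUnderComposition.stableUnderCompositionWithLocalizationAway
      RingHom.finiteType_holdsForLocalizationAway).1 hc hp hc' hp' hX.flip hY.flip ha hb
    (HasRingHomProperty.appLE @LocallyOfFiniteType f ‹_›) (HasRingHomProperty.appLE @LocallyOfFiniteType g ‹_›)
  haveI := Pinch.isAffineHom_a hc hp
  haveI := Pinch.isClosedImmersion_b hc hp
  have hsep : IsSeparated k := (S7181.result i' j' (fun y => by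
    obtain ⟨U, V, hUV, hy⟩ := hc' y
    refine ⟨U, hUV.affX, fun z hz => ?_⟩
    have hz' : j' z = y := hz
    show z ∈ i' ⁻¹ᵁ U
    rw [hUV.sat]
    show j' z ∈ V
    rwa [hz']) a' b' hP' (f ≫ a) (g ≫ b) k ha hb).1 ⟨inferInstance, inferInstance⟩
  have hfin : ∀ (V : W.Opens) (V' : W'.Opens) (A : Scheme.{u}) (A' : Scheme.{u}) (q : A ⟶ W) (q' : A' ⟶ W') (r : A' ⟶ A)
      (_ : LocallyQuasiFinite r) (_ : IsPullback q' r k q),
      IsAffineOpen (q ⁻¹ᵁ V) → IsAffineOpen (q' ⁻¹ᵁ V') → q' ⁻¹ᵁ V' ≤ r ⁻¹ᵁ (q ⁻¹ᵁ V) → ∀ x : A, q x ∈ V →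
      {p : W' | p ∈ V' ∧ k p = q x}.Finite := by
    intro V V' A A' q q' r _ pq hV hV' hle x hx
    haveI : IsAffine (q ⁻¹ᵁ V : Scheme.{u}) := hV
    haveI : IsAffine (q' ⁻¹ᵁ V' : Scheme.{u}) := hV'
    let rr := r.resLE (q ⁻¹ᵁ V) (q' ⁻¹ᵁ V') hle
    haveI : LocallyQuasiFinite rr := by unfold rr; infer_instance
    haveI : QuasiCompact rr := inferInstance
    refine Set.Finite.subset ((rr.finite_preimage_singleton ⟨x, hx⟩).image (fun z => q' z.1)) ?_
    rintro p ⟨hpV, hpx⟩
    obtain ⟨w, hw1, hw2⟩ := Scheme.Pullback.exists_preimage_pullback (f := k) (g := q) p x hpx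
    have h1 : q' (pq.isoPullback.inv w) = p := by
      rw [← Scheme.Hom.comp_apply, IsPullback.isoPullback_inv_fst]; exact hw1
    have h2 : r (pq.isoPullback.inv w) = x := by
      rw [← Scheme.Hom.comp_apply, IsPullback.isoPullback_inv_snd]; exact hw2
    have hm : pq.isoPullback.inv w ∈ q' ⁻¹ᵁ V' := show q' _ ∈ V' from h1.symm ▸ hpV
    exact ⟨⟨_, hm⟩, Subtype.ext ((congr($(Scheme.Hom.resLE_comp_ι r hle) ⟨_, hm⟩)).trans h2), h1⟩
  haveI : LocallyQuasiFinite k := by
    choose V V' eh ef eg hpV hV hV' hdX hdY hd' using hpc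
    refine (IsZariskiLocalAtSource.iff_of_iSup_eq_top (P := @LocallyQuasiFinite) V'
      (top_le_iff.1 fun p _ => TopologicalSpace.Opens.mem_iSup.2 ⟨p, hpV p⟩)).2 fun p₀ => ?_
    refine LocallyQuasiFinite.of_finite_preimage_singleton _ fun w => ?_
    by_cases hw : w ∈ V p₀
    swap
    · refine Set.Finite.subset Set.finite_empty fun z hz => hw ?_
      have e : k z.1 = w := hz
      exact e ▸ eh p₀ z.2
    rcases Pinch.surj_of_top (Pinch.top_of_isPinch hp) w with ⟨x, rfl⟩ | ⟨y, rfl⟩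
    · refine Set.Finite.subset ((hfin (V p₀) (V' p₀) X X' a a' f ‹_› pa (hV p₀).affX (hV' p₀).affX (ef p₀) x hw).preimage
        Subtype.val_injective.injOn) fun z hz => ⟨z.2, hz⟩
    · refine Set.Finite.subset ((hfin (V p₀) (V' p₀) Y Y' b b' g ‹_› pb (hV p₀).affY (hV' p₀).affY (eg p₀) y hw).preimage
        Subtype.val_injective.injOn) fun z hz => ⟨z.2, hz⟩
  exact ⟨W, W', b, a, b', a', k, hP.flip, hP'.flip, hb, ha, hsep, inferInstance, inferInstance, pb.flip, pa.flip⟩

end Groth.Agent.S1465
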