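import Groth.Statements.S14666
import Groth.Agent.Blanchard.Sections
import Groth.Agent.SteinGen.GeomConn

set_option autoImplicit false
universe u
open CategoryTheory CategoryTheory.Limits AlgebraicGeometry
open AbSch

namespace Groth.Agent.S14666

theorem main {X Y S : Scheme.{u}} (ξ : X ⟶ S) [IsProper ξ]
    (h0 : ∀ U : S.Opens, Function.Bijective (ξ.app U).hom) (v : Y ⟶ S) (f : X ⟶ Y) (hf : f ≫ v = ξ) :
    IsOpen {s : ↥S | ∃ y : ↥Y, ∀ x : ↥X, ξ.base x = s → f.base x = y} ∧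
    ∀ (T : Scheme.{u}) (τ : T ⟶ S),
      ((∃ r : T ⟶ Y, r ≫ v = τ ∧ pullback.fst ξ τ ≫ f = pullback.snd ξ τ ≫ r) ↔
        ∀ t : ↥T, τ.base t ∈ {s : ↥S | ∃ y : ↥Y, ∀ x : ↥X, ξ.base x = s → f.base x = y}) := by
  have hi : ∀ U, IsIso (ξ.app U) := fun U => (ConcreteCategory.isIso_iff_bijective _).mpr (h0 U)
  have : GeometricallyConnected ξ := Groth.Agent.SteinGen.geometricallyConnected_of_isIso_app ξ hi
  have : Surjective ξ := inferInstance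
  set U := {s : ↥S | ∃ y : ↥Y, ∀ x : ↥X, ξ.base x = s → f.base x = y}
  -- around a collapsed fibre, `f` factors through `ξ`
  have hloc : ∀ s ∈ U, ∃ (Ω : S.Opens) (g : Ω.toScheme ⟶ Y),
      s ∈ Ω ∧ (ξ ⁻¹ᵁ Ω).ι ≫ f = (ξ ∣_ Ω) ≫ g := by
    rintro s ⟨y, hy⟩
    obtain ⟨V, hV, hyV, -⟩ := exists_isAffineOpen_mem_and_subset (X := Y) (x := y) (U := ⊤) trivial
    let Ω : S.Opens := ⟨_, (ξ.isClosedMap _ (V.2.preimage f.continuous).isClosed_compl).isOpen_compl⟩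
    have hsΩ : s ∈ Ω := by
      rintro ⟨x, hx, hxs⟩
      exact hx (show f x ∈ V from hy x hxs ▸ hyV)
    have : Surjective (ξ ∣_ Ω) := IsZariskiLocalAtTarget.restrict ‹_› Ω
    obtain ⟨g, hg⟩ := Groth.Agent.Blanchard.exists_desc (ξ ∣_ Ω)
      (Groth.Agent.Blanchard.isIso_app_restrict ξ hi Ω) ((ξ ⁻¹ᵁ Ω).ι ≫ f) (fun _ => ⟨⊤, V, trivial, hV, fun z _ => by
        show f ((ξ ⁻¹ᵁ Ω).ι z) ∈ V
        by_contra hc
        exact z.2 ⟨_, hc, rfl⟩⟩)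
    exact ⟨Ω, g, hsΩ, hg.symm⟩
  have hU : IsOpen U := by
    refine isOpen_iff_forall_mem_open.2 fun s hs => ?_
    obtain ⟨Ω, g, hsΩ, hg⟩ := hloc s hs
    refine ⟨Ω, fun s' hs' => ⟨g ⟨s', hs'⟩, fun x hx => ?_⟩, Ω.2, hsΩ⟩
    subst hx
    have e : f x = g ((ξ ∣_ Ω) ⟨x, hs'⟩) := congr($hg ⟨x, hs'⟩)
    rw [e]
    congr 1
    exact Subtype.ext congr($(morphismRestrict_ι ξ Ω) ⟨x, hs'⟩)
  refine ⟨hU, fun T τ => ⟨fun ⟨r, _, hr⟩ t => ⟨r t, fun x hx => ?_⟩, fun ht => ?_⟩⟩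
  · obtain ⟨z, rfl, hz⟩ := Scheme.exists_preimage_of_isPullback (IsPullback.of_hasPullback ξ τ) x t hx
    rw [← hz]
    exact congr($hr z)
  · let Ω : S.Opens := ⟨U, hU⟩
    have : Surjective (ξ ∣_ Ω) := IsZariskiLocalAtTarget.restrict ‹_› Ω
    obtain ⟨g, hg⟩ := Groth.Agent.Blanchard.exists_desc (ξ ∣_ Ω)
      (Groth.Agent.Blanchard.isIso_app_restrict ξ hi Ω) ((ξ ⁻¹ᵁ Ω).ι ≫ f) (fun w => by
        obtain ⟨W, g', hwW, hg'⟩ := hloc _ w.2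
        obtain ⟨V, hV, hyV, -⟩ := exists_isAffineOpen_mem_and_subset (X := Y) (x := g' ⟨_, hwW⟩) (U := ⊤) trivial
        refine ⟨Ω.ι ⁻¹ᵁ (W.ι ''ᵁ (g' ⁻¹ᵁ V)), V, ⟨⟨_, hwW⟩, hyV, rfl⟩, hV, fun z hz => ?_⟩
        obtain ⟨w', hw', he⟩ := hz
        have he' : W.ι w' = ξ ((ξ ⁻¹ᵁ Ω).ι z) := he.trans (congr($(morphismRestrict_ι ξ Ω) z))
        have hz' : (ξ ⁻¹ᵁ Ω).ι z ∈ ξ ⁻¹ᵁ W := show ξ ((ξ ⁻¹ᵁ Ω).ι z) ∈ W from he' ▸ w'.2
        show f ((ξ ⁻¹ᵁ Ω).ι z) ∈ V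
        let zW : (ξ ⁻¹ᵁ W).toScheme := ⟨_, hz'⟩
        have : f ((ξ ⁻¹ᵁ Ω).ι z) = g' ((ξ ∣_ W) zW) := congr($hg' zW)
        rw [this, show (ξ ∣_ W) zW = w' from
          Subtype.ext (congr($(morphismRestrict_ι ξ W) zW).trans he'.symm)]
        exact hw')
    have hgv : g ≫ v = Ω.ι := by
      have : Epi (ξ ∣_ Ω) :=
        Groth.Agent.Blanchard.epi_of_isIso_app _ (Groth.Agent.Blanchard.isIso_app_restrict ξ hi Ω)
      rw [← cancel_epi (ξ ∣_ Ω), reassoc_of% hg, hf, morphismRestrict_ι]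
    let τ' := IsOpenImmersion.lift Ω.ι τ (by
      rw [Scheme.Opens.range_ι]
      rintro _ ⟨t, rfl⟩
      exact ht t)
    refine ⟨τ' ≫ g, by rw [Category.assoc, hgv, IsOpenImmersion.lift_fac], ?_⟩
    let p := IsOpenImmersion.lift (ξ ⁻¹ᵁ Ω).ι (pullback.fst ξ τ) (by
      rw [Scheme.Opens.range_ι]
      rintro _ ⟨z, rfl⟩
      show ξ _ ∈ Ω
      rw [← Scheme.Hom.comp_apply, pullback.condition]
      exact ht _)
    have hp : p ≫ (ξ ⁻¹ᵁ Ω).ι = pullback.fst ξ τ := IsOpenImmersion.lift_fac _ _ _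
    have e : p ≫ (ξ ∣_ Ω) = pullback.snd ξ τ ≫ τ' := by
      rw [← cancel_mono Ω.ι, Category.assoc, morphismRestrict_ι, reassoc_of% hp, Category.assoc,
        IsOpenImmersion.lift_fac, pullback.condition]
    rw [← hp, Category.assoc, ← hg, reassoc_of% e]

/-- Let S be a locally Noetherian scheme, ξ : X ⟶ S a proper morphism all of whose geometric fibres are
integral and for which O_S ⟶ ξ_*O_X is an isomorphism (the map Γ(U, O_S) → Γ(ξ⁻¹U, O_X) is bijective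
for every open U of S), v : Y ⟶ S an arbitrary S-scheme and f : X ⟶ Y a morphism over S. Let U be
the set of points s of S such that f sends every point of the fibre ξ⁻¹(s) to one and the same point
of Y. Then U is open in S, and for every morphism τ : T ⟶ S the base change of f to T factors
through the projection X ×_S T ⟶ T — that is, there is r : T ⟶ Y with r ≫ v = τ and fst ≫ f = snd ≫
r on X ×_S T — if and only if τ maps every point of T into U. -/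
theorem result {X Y S : Scheme.{u}} [IsLocallyNoetherian S]
    (ξ : X ⟶ S) [IsProper ξ] [GeometricallyIntegral ξ]
    (h0 : ∀ U : S.Opens, Function.Bijective (ξ.app U).hom)
    (v : Y ⟶ S) (f : X ⟶ Y) (hf : f ≫ v = ξ) :
    IsOpen {s : ↥S | ∃ y : ↥Y, ∀ x : ↥X, ξ.base x = s → f.base x = y} ∧
    ∀ (T : Scheme.{u}) (τ : T ⟶ S),
      ((∃ r : T ⟶ Y, r ≫ v = τ ∧ pullback.fst ξ τ ≫ f = pullback.snd ξ τ ≫ r) ↔
        ∀ t : ↥T, τ.base t ∈ {s : ↥S | ∃ y : ↥Y, ∀ x : ↥X, ξ.base x = s → f.base x = y}) := by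
  exact main ξ h0 v f hf

end Groth.Agent.S14666
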