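import Groth.Statements.S14670
import Groth.Agent.CMChart.Ring
import Groth.Agent.RegLoc.Normal

set_option autoImplicit false
universe u
open CAlg

namespace Groth.Agent.S14670

/-- Let R be a regular local ring and S an integral domain containing R as a subring over which it is a
finitely generated module, such that the localization of S at each of its maximal ideals is a
Cohen–Macaulay local ring. Then S is a flat R-module. (The published statement does not require S to
be a domain; in that generality it fails — for a discrete valuation ring R with residue field κ the
ring R × κ contains R diagonally, is finite over R with Cohen–Macaulay localizations, and is not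
flat — and the printed argument needs every maximal ideal of S to have height dim R, which holds
when S is a domain by going down.) -/
theorem result (R S : Type u) [CommRing R] [CommRing S]
    [IsRegularLocalRing R] [IsDomain S] [Algebra R S] [Module.Finite R S]
    (hinj : Function.Injective (algebraMap R S))
    (hCM : ∀ (q : Ideal S) [q.IsMaximal], LocCoh.IsCohenMacaulayLocalRing (Localization.AtPrime q)) :
    Module.Flat R S := by
  haveI : IsDomain R := hinj.isDomain
  haveI : IsIntegrallyClosed R := Groth.Agent.RegLoc.isIntegrallyClosed
  haveI : FaithfulSMul R S := (faithfulSMul_iff_algebraMap_injective R S).mpr hinj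
  haveI : Algebra.IsIntegral R S := Algebra.IsIntegral.of_finite R S
  haveI : IsNoetherianRing S := IsNoetherianRing.of_finite R S
  refine Module.flat_of_isLocalized_maximal S S (fun q _ => Localization.AtPrime q)
    (fun q _ => Algebra.linearMap S (Localization.AtPrime q)) fun q _ => ?_
  let p := IsLocalRing.maximalIdeal R
  haveI : (q.under R).IsMaximal := Ideal.isMaximal_comap_of_isIntegral_of_isMaximal q
  have hqp : q.under R = p := IsLocalRing.eq_maximalIdeal inferInstance
  haveI : q.LiesOver p := ⟨hqp.symm⟩
  haveI : IsLocalHom (algebraMap R (Localization.AtPrime q)) := by
    refine ((IsLocalRing.local_hom_TFAE _).out 0 4).mpr ?_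
    rw [IsScalarTower.algebraMap_eq R S (Localization.AtPrime q), ← Ideal.comap_comap]
    show (((IsLocalRing.maximalIdeal (Localization.AtPrime q)).under S).comap (algebraMap R S)) = _
    rw [Localization.AtPrime.under_maximalIdeal]
    exact hqp
  haveI := hCM q
  refine Groth.Agent.CMChart.flat_of_cohenMacaulay (R := R) (S := Localization.AtPrime q) (fun J hJ hJc => ?_) ?_
  · haveI := hJ
    haveI : (J.comap (algebraMap S (Localization.AtPrime q))).IsMaximal := by
      refine Ideal.isMaximal_of_isIntegral_of_isMaximal_comap (R := R) _ ?_
      rw [Ideal.comap_comap, ← IsScalarTower.algebraMap_eq, hJc]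
      exact IsLocalRing.maximalIdeal.isMaximal R
    have h1 : J.comap (algebraMap S (Localization.AtPrime q)) = q :=
      Ideal.IsMaximal.eq_of_le ‹_› (Ideal.IsPrime.ne_top inferInstance) fun z hz => by
        by_contra hzq
        exact hJ.ne_top (Ideal.eq_top_of_isUnit_mem J hz
          (IsLocalization.map_units (Localization.AtPrime q) (⟨z, hzq⟩ : q.primeCompl)))
    rw [← IsLocalization.map_under q.primeCompl (Localization.AtPrime q) J]
    show (J.comap (algebraMap S (Localization.AtPrime q))).map _ = _
    rw [h1]
    exact Localization.AtPrime.map_eq_maximalIdeal
  · rw [← IsLocalRing.maximalIdeal_height_eq_ringKrullDim,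
      IsLocalization.AtPrime.ringKrullDim_eq_height q (Localization.AtPrime q),
      Ideal.height_eq_height_add_of_liesOver_of_hasGoingDown p q]
    exact WithBot.coe_le_coe.mpr le_self_add

end Groth.Agent.S14670
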