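import Groth.Statements.S14674
import Groth.Agent.W7Cube.GroupBase
import Groth.Agent.W7Cube.Group
-- import your own Groth.Agent.* helpers here

set_option autoImplicit false
universe u
open CategoryTheory CategoryTheory.Limits MonoidalCategory CartesianMonoidalCategory MonObj GrpObj AlgebraicGeometry
open AbSch

set_option backward.isDefEq.respectTransparency false
set_option backward.isDefEq.respectTransparency.types false

namespace Groth.Agent.S14674


open Groth.Agent.W7Cube in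
attribute [local instance] law

section
open Groth.Agent.W7Cube MonObj GrpObj

/-- the quadratic recursion -/
lemma quad {G : Type*} [CommGroup G] (P : ℕ → G) (c d : G) (h0 : P 0 = 1) (h1 : P 1 = c)
    (hrec : ∀ n, P (n + 2) * P n = P (n + 1) * P (n + 1) * c * d) :
    ∀ n, P n = c ^ (n * (n + 1) / 2) * d ^ (n * (n - 1) / 2) := by
  intro n
  induction n using Nat.twoStepInduction with
  | zero => simp [h0]
  | one => simp [h1]
  | more n i1 i2 =>
    refine mul_right_cancel (b := P n) ((hrec n).trans ?_)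
    rw [i1, i2]
    have e2 : (n + 1) * (n + 1 + 1) / 2 = n * (n + 1) / 2 + (n + 1) := tri_succ n
    have e1 : (n + 2) * (n + 2 + 1) / 2 = (n + 1) * (n + 1 + 1) / 2 + (n + 2) := tri_succ (n + 1)
    have e3 : (n + 2) * (n + 2 - 1) / 2 = (n + 1) * (n + 1 + 1) / 2 := by rw [Nat.mul_comm]; rfl
    have e4 : (n + 1) * (n + 1 - 1) / 2 = n * (n + 1) / 2 := by rw [Nat.mul_comm]; rfl
    have e5 : n * (n - 1) / 2 + n = n * (n + 1) / 2 := by
      cases n with
      | zero => rfl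
      | succ m => rw [Nat.succ_sub_one, Nat.mul_comm]; exact (tri_succ m).symm
    rw [e4, e3, e1, e2]
    generalize n * (n + 1) / 2 = t at e5 ⊢
    generalize n * (n - 1) / 2 = r at e5 ⊢
    subst e5
    simp only [pow_add, pow_one, pow_two]
    ac_rfl

variable {S : Scheme.{u}} {X : Over S} [GrpObj X] [IsProper X.hom] [Flat X.hom]
  [LocallyOfFinitePresentation X.hom] [GeometricallyReduced X.hom] [GeometricallyConnected X.hom]

omit [GrpObj X] [IsProper X.hom] [Flat X.hom] [LocallyOfFinitePresentation X.hom] [GeometricallyReduced X.hom] [GeometricallyConnected X.hom] in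
lemma pcr_id (c : PicLoc.PicSet X.left) : pcr c (𝟙 X) = c := PicGrp.pullHom_id_apply _ c

omit [IsProper X.hom] [Flat X.hom] [LocallyOfFinitePresentation X.hom] [GeometricallyReduced X.hom] [GeometricallyConnected X.hom] in
lemma pcr_one_eq (c : PicLoc.PicSet X.left) : pcr c (1 : X ⟶ X) = pull X.hom (pull (η[X]).left c) := by
  refine Eq.trans ?_ (pull_pull X.hom (η[X]).left c).symm
  rw [pcr, Hom.one_def, Over.comp_left, Over.toUnit_left]

lemma nat_eq (c : PicLoc.PicSet X.left) (n : ℕ) :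
    pcr c (𝟙 X ^ n) * pcr c (1 : X ⟶ X) ^ (n * n) =
      c ^ (n * (n + 1) / 2) * pcr c (𝟙 X)⁻¹ ^ (n * (n - 1) / 2) * pcr c (1 : X ⟶ X) := by
  have h := quad (fun n => pcr c (𝟙 X ^ n) * (pcr c (1 : X ⟶ X))⁻¹) (c * (pcr c (1 : X ⟶ X))⁻¹)
    (pcr c (𝟙 X)⁻¹ * (pcr c (1 : X ⟶ X))⁻¹) (by simp) (by simp [pcr_id]) (fun n => by
      have h := cube_relR c (𝟙 X ^ (n + 1)) (𝟙 X) (𝟙 X)⁻¹
      rw [mul_assoc (𝟙 X ^ (n + 1)), mul_inv_cancel, _root_.mul_one, ← pow_succ,
        show 𝟙 X ^ (n + 1) * (𝟙 X)⁻¹ = 𝟙 X ^ n by rw [pow_succ, mul_inv_cancel_right], pcr_id] at h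
      generalize pcr c (1 : X ⟶ X) = q at h ⊢
      generalize pcr c (𝟙 X)⁻¹ = d at h ⊢
      generalize pcr c (𝟙 X ^ (n + 1)) = x at h ⊢
      generalize pcr c (𝟙 X ^ n) = y at h ⊢
      have e : pcr c (𝟙 X ^ (n + 1 + 1)) * y = x * x * c * d * q⁻¹ * q⁻¹ := by
        rw [h, mul_inv_cancel_right, mul_inv_cancel_right]
      calc pcr c (𝟙 X ^ (n + 2)) * q⁻¹ * (y * q⁻¹) = pcr c (𝟙 X ^ (n + 1 + 1)) * y * (q⁻¹ * q⁻¹) := by ac_rfl
        _ = x * q⁻¹ * (x * q⁻¹) * (c * q⁻¹) * (d * q⁻¹) := by rw [e]; ac_rfl) n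
  have hab : n * (n + 1) / 2 + n * (n - 1) / 2 = n * n := by
    cases n with
    | zero => rfl
    | succ m =>
      rw [Nat.succ_sub_one, tri_succ, show (m + 1) * m = m * (m + 1) by ring]
      have h2 : 2 ∣ m * (m + 1) := (Nat.even_mul_succ_self m).two_dvd
      have := Nat.div_mul_cancel h2
      nlinarith
  rw [mul_pow, mul_pow, _root_.mul_mul_mul_comm, ← pow_add, hab, inv_pow, mul_inv_eq_iff_eq_mul] at h
  rw [h]
  generalize pcr c (1 : X ⟶ X) = q
  generalize c ^ (n * (n + 1) / 2) = a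
  generalize pcr c (𝟙 X)⁻¹ ^ (n * (n - 1) / 2) = b
  calc a * b * (q ^ (n * n))⁻¹ * q * q ^ (n * n) = a * b * q * ((q ^ (n * n))⁻¹ * q ^ (n * n)) := by ac_rfl
    _ = a * b * q := by rw [inv_mul_cancel, _root_.mul_one]

lemma main (c : PicLoc.PicSet X.left) (n : ℤ) :
    pcr c (𝟙 X ^ n) * pull X.hom (pull (η[X]).left c ^ (n.natAbs ^ 2)) =
      c ^ ((n ^ 2 + n) / 2).toNat * pull (𝟙 X ^ (-1 : ℤ)).left (c ^ ((n ^ 2 - n) / 2).toNat) *
        pull X.hom (pull (η[X]).left c) := by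
  have hnat : ∀ k : ℕ, (((k : ℤ) ^ 2 + k) / 2).toNat = k * (k + 1) / 2 ∧
      (((k : ℤ) ^ 2 - k) / 2).toNat = k * (k - 1) / 2 := fun k => by
    have a1 : (k : ℤ) ^ 2 + k = ((k * (k + 1) : ℕ) : ℤ) := by push_cast; ring
    have a2 : (k : ℤ) ^ 2 - k = ((k * (k - 1) : ℕ) : ℤ) := by
      rcases k with _ | j
      · simp
      · simp only [Nat.succ_sub_one]; push_cast; ring
    constructor
    · rw [a1]; norm_cast
    · rw [a2]; norm_cast
  rw [map_pow, map_pow, ← pcr_one_eq, zpow_neg_one,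
    show pull ((𝟙 X)⁻¹ : X ⟶ X).left c = pcr c (𝟙 X)⁻¹ from rfl]
  rcases Int.eq_nat_or_neg n with ⟨k, rfl | rfl⟩
  · rw [zpow_natCast, Int.natAbs_natCast, sq k, (hnat k).1, (hnat k).2]
    exact nat_eq c k
  · have h := congrArg (pull ((𝟙 X)⁻¹ : X ⟶ X).left) (nat_eq c k)
    rw [map_mul, map_mul, map_mul, map_pow, map_pow, map_pow, pull_pcr, pull_pcr, pull_pcr] at h
    have hk : (𝟙 X)⁻¹ ≫ 𝟙 X ^ k = 𝟙 X ^ (-(k : ℤ)) := by
      rw [MonObj.comp_pow, Category.comp_id, zpow_neg, zpow_natCast, inv_pow]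
    have hi : (𝟙 X)⁻¹ ≫ (𝟙 X)⁻¹ = 𝟙 X := by
      rw [GrpObj.comp_inv, Category.comp_id, _root_.inv_inv]
    rw [hk, hi, MonObj.comp_one, pcr_id, show pull ((𝟙 X)⁻¹ : X ⟶ X).left c = pcr c (𝟙 X)⁻¹ from rfl] at h
    rw [Int.natAbs_neg, Int.natAbs_natCast, sq k, neg_sq, ← sub_eq_add_neg, sub_neg_eq_add, (hnat k).1, (hnat k).2,
      h, mul_comm (pcr c (𝟙 X)⁻¹ ^ _)]

end

/-- Let S be a locally Noetherian scheme, X an abelian scheme over S (an S-group scheme whose structure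
morphism α is proper and flat with geometrically integral fibres) with unit section e : S ⟶ X, L an
invertible O_X-module and n an integer; write [n] for the n-th multiple of the identity in the group
of S-endomorphisms of X. Then [n]^*L ⊗ α^*(e^*L)^{⊗ n²} is isomorphic to L^{⊗(n²+n)/2} ⊗
[-1]^*L^{⊗(n²−n)/2} ⊗ α^*e^*L; equivalently [n]^*L ≅ L^{⊗(n²+n)/2} ⊗ [-1]^*L^{⊗(n²−n)/2} ⊗
[0]^*L^{⊗(1−n²)} with [0]^*L = α^*e^*L (existence of an isomorphism of O_X-modules only). -/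
theorem result {S : Scheme.{u}} [IsLocallyNoetherian S] (X : Over S) [GrpObj X] [IsProper X.hom] [Flat X.hom] [GeometricallyIntegral X.hom]
    (L : X.left.Modules) (hL : PicF.IsInvertible L) (n : ℤ) :
    Nonempty (CohB1.tensorMod ((Scheme.Modules.pullback (𝟙 X ^ n).left).obj L)
        ((Scheme.Modules.pullback X.hom).obj (CohB1.tensorPow ((Scheme.Modules.pullback (η[X]).left).obj L) (n.natAbs ^ 2))) ≅
      CohB1.tensorMod (CohB1.tensorMod (CohB1.tensorPow L ((n ^ 2 + n) / 2).toNat)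
          ((Scheme.Modules.pullback (𝟙 X ^ (-1 : ℤ)).left).obj (CohB1.tensorPow L ((n ^ 2 - n) / 2).toNat)))
        ((Scheme.Modules.pullback X.hom).obj ((Scheme.Modules.pullback (η[X]).left).obj L))) := by
  haveI : LocallyOfFinitePresentation X.hom := Groth.Agent.InfLift.lfp_of_lft X.hom
  haveI := Groth.Agent.W7See.geometricallyConnected_of_geometricallyIntegral X.hom
  refine (PicGrp.cl_eq_cl_iff _ _).1 ?_
  have h := congrArg Subtype.val (main (PicGrp.cls L hL) n)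
  simp only [PicGrp.mul_val, Groth.Agent.W7Cube.pcr, Groth.Agent.W7Cube.pull_cls] at h
  simp only [Groth.Agent.W7Cube.pull, PicGrp.pullHom_apply_val, PicGrp.cls_pow_val, PicGrp.cls_val, PicGrp.mulCl_cl] at h
  exact h

end Groth.Agent.S14674
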