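import Groth.Statements.S14677
import Groth.Agent.AdicBasics.Exact

set_option autoImplicit false
universe u
open CAlg

namespace Groth.Agent.S14677

/-- Completion of a scalar multiple of the identity. -/
theorem map_smul_id {A : Type u} [CommRing A] (I : Ideal A) {M : Type u} [AddCommGroup M] [Module A M]
    (a : A) (x : AdicCompletion I M) :
    AdicCompletion.map I (a • LinearMap.id) x = algebraMap A (AdicCompletion I A) a • x := by
  rw [algebraMap_smul]
  refine AdicCompletion.ext fun n => ?_
  rw [AdicCompletion.map_val_apply]
  obtain ⟨y, hy⟩ := Submodule.Quotient.mk_surjective _ (x.val n)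
  rw [AdicCompletion.val_smul_apply, ← hy]
  rfl

/-- Completion is additive in the map, over a finite family. -/
theorem map_sum_apply {A : Type u} [CommRing A] (I : Ideal A) {M N : Type u} [AddCommGroup M] [Module A M]
    [AddCommGroup N] [Module A N] {ι : Type*} (s : Finset ι) (f : ι → M →ₗ[A] N) (x : AdicCompletion I M) :
    AdicCompletion.map I (∑ i ∈ s, f i) x = ∑ i ∈ s, AdicCompletion.map I (f i) x := by
  refine AdicCompletion.ext fun n => ?_
  rw [AdicCompletion.val_sum_apply]
  simp only [AdicCompletion.map_val_apply]
  obtain ⟨y, hy⟩ := Submodule.Quotient.mk_surjective _ (x.val n)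
  rw [← hy]
  show (Submodule.Quotient.mk ((∑ i ∈ s, f i) y) : N ⧸ (I ^ n • ⊤ : Submodule A N)) = _
  simp only [LinearMap.sum_apply, ← Submodule.mkQ_apply, map_sum]
  rfl

/-- Let A be a Noetherian commutative ring, I and J ideals of A and M a finitely generated A-module.
Then the map of I-adic completions induced by the inclusion of the submodule JM into M is injective
with image exactly J·M̂, where M̂ is the I-adic completion of M; that is, the completion of JM is J
times the completion of M. (The published statement does not say that A is Noetherian; its proof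
uses exactness of completion on finitely generated modules, which needs it, so this row assumes A
Noetherian.) -/
theorem result (A : Type u) [CommRing A] [IsNoetherianRing A] (I J : Ideal A)
    (M : Type u) [AddCommGroup M] [Module A M] [Module.Finite A M] :
    Function.Injective (AdicCompletion.map I (J • (⊤ : Submodule A M)).subtype) ∧
      LinearMap.range (AdicCompletion.map I (J • (⊤ : Submodule A M)).subtype) =
        (J.map (algebraMap A (AdicCompletion I A))) • (⊤ : Submodule (AdicCompletion I A) (AdicCompletion I M)) := by
  set S := (J • (⊤ : Submodule A M))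
  refine ⟨AdicCompletion.map_injective I S.subtype_injective, le_antisymm ?_ ?_⟩
  · obtain ⟨r, j, hj⟩ := Submodule.fg_iff_exists_fin_generating_family.1 (IsNoetherian.noetherian J)
    have hjJ : ∀ k, j k ∈ J := fun k => hj.le (Submodule.subset_span ⟨k, rfl⟩)
    let h : (Fin r → M) →ₗ[A] S := LinearMap.codRestrict S (∑ k, j k • LinearMap.proj k) fun z => by
      rw [LinearMap.sum_apply]
      exact sum_mem fun k _ => Submodule.smul_mem_smul (hjJ k) trivial
    have hh : Function.Surjective h := by
      rintro ⟨x, hx⟩
      suffices ∃ z : Fin r → M, ∑ k, j k • z k = x from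
        this.imp fun z hz => Subtype.ext (by simpa [h] using hz)
      refine Submodule.smul_induction_on hx (fun a ha m _ => ?_) ?_
      · obtain ⟨w, hw⟩ := (Submodule.mem_span_range_iff_exists_fun A).1 (hj.ge ha)
        refine ⟨fun k => w k • m, ?_⟩
        rw [← hw, Finset.sum_smul]
        simp only [smul_eq_mul, smul_smul, mul_comm]
      · rintro x y ⟨z, rfl⟩ ⟨z', rfl⟩
        exact ⟨z + z', by simp [Finset.sum_add_distrib]⟩
    rintro _ ⟨y, rfl⟩
    obtain ⟨x, rfl⟩ := AdicCompletion.map_surjective I hh y
    rw [AdicCompletion.map_comp_apply, LinearMap.subtype_comp_codRestrict, map_sum_apply]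
    refine sum_mem fun k _ => ?_
    rw [show j k • (LinearMap.proj k : (Fin r → M) →ₗ[A] M) = (j k • LinearMap.id) ∘ₗ LinearMap.proj k from rfl,
      ← AdicCompletion.map_comp_apply, map_smul_id]
    exact Submodule.smul_mem_smul (Ideal.mem_map_of_mem _ (hjJ k)) trivial
  · rw [Submodule.smul_le]
    intro c hc x hx
    clear hx
    induction hc using Submodule.span_induction generalizing x with
    | mem c hc =>
      obtain ⟨a, ha, rfl⟩ := hc
      have hS : ∀ m : M, (a • LinearMap.id : M →ₗ[A] M) m ∈ S := fun m =>
        Submodule.smul_mem_smul ha Submodule.mem_top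
      refine ⟨AdicCompletion.map I (LinearMap.codRestrict S _ hS) x, ?_⟩
      rw [AdicCompletion.map_comp_apply, LinearMap.subtype_comp_codRestrict, map_smul_id]
    | zero => rw [zero_smul]; exact zero_mem _
    | add p q _ _ ihp ihq => rw [add_smul]; exact add_mem (ihp x) (ihq x)
    | smul b p _ ihp => rw [smul_eq_mul, ← smul_smul]; exact Submodule.smul_mem _ _ (ihp x)

end Groth.Agent.S14677
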