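import Groth.Statements.S14678
import Groth.Agent.RealizeExt.Basic
import Groth.Agent.DvrDom.Criterion
import Mathlib.AlgebraicGeometry.Morphisms.Flat
import Mathlib.AlgebraicGeometry.Morphisms.FinitePresentation


set_option autoImplicit false
set_option linter.style.haveILetI false

universe u
open CategoryTheory CategoryTheory.Limits AlgebraicGeometry
open EtBase

namespace Groth.Agent.S14678

/-- Let S be a scheme, s a point of S and ℓ a finite field extension of the residue field κ(s). Then,
fppf-locally around s, ℓ occurs as a residue field: there are an affine scheme U', a flat morphism b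
: U' ⟶ S locally of finite presentation (so with open image containing s) and a morphism t : Spec ℓ
⟶ U' over the canonical morphism Spec ℓ ⟶ Spec κ(s) ⟶ S which is a preimmersion, i.e. the inclusion
of a point s' of U' above s together with an identification of κ(s') with ℓ over κ(s); such a point
is closed in its fibre over s. (The published statement gives an affine open neighbourhood U of s
and an fppf morphism U' ⟶ U; this row asks only for a flat, locally finitely presented U' ⟶ S, whose
open image then contains s.) -/
theorem result (S : Scheme.{u}) (s : ↥S)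
    (ℓ : Type u) [Field ℓ] [Algebra (S.residueField s) ℓ] [Module.Finite (S.residueField s) ℓ] :
    ∃ (U' : Scheme.{u}) (b : U' ⟶ S) (t : Spec (CommRingCat.of ℓ) ⟶ U'),
      IsAffine U' ∧ Flat b ∧ LocallyOfFinitePresentation b ∧ IsPreimmersion t ∧
        t ≫ b = Spec.map (CommRingCat.ofHom (algebraMap (S.residueField s) ℓ)) ≫ S.fromSpecResidueField s := by
  obtain ⟨V, hV, hsV, -⟩ := exists_isAffineOpen_mem_and_subset (X := S) (x := s) (U := ⊤) trivial
  letI : Algebra Γ(S, V) (S.residueField s) := (S.evaluation V s hsV).hom.toAlgebra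
  letI : Algebra Γ(S, V) ℓ := ((algebraMap (S.residueField s) ℓ).comp (algebraMap Γ(S, V) (S.residueField s))).toAlgebra
  haveI : IsScalarTower Γ(S, V) (S.residueField s) ℓ := IsScalarTower.of_algebraMap_eq fun _ => rfl
  have hk : ∀ c : S.residueField s, ∃ a b : Γ(S, V), algebraMap Γ(S, V) (S.residueField s) b ≠ 0 ∧
      c = algebraMap Γ(S, V) (S.residueField s) a / algebraMap Γ(S, V) (S.residueField s) b := fun c => by
    obtain ⟨z, rfl⟩ := S.residue_surjective s c
    letI := TopCat.Presheaf.algebra_section_stalk S.presheaf (⟨s, hsV⟩ : V)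
    haveI := hV.isLocalization_stalk ⟨s, hsV⟩
    obtain ⟨⟨a, b⟩, hz⟩ := IsLocalization.surj (hV.primeIdealOf ⟨s, hsV⟩).asIdeal.primeCompl z
    have hb : algebraMap Γ(S, V) (S.residueField s) b ≠ 0 :=
      ((IsLocalization.map_units (S.presheaf.stalk s) b).map (S.residue s).hom).ne_zero
    refine ⟨a, b, hb, ?_⟩
    rw [eq_div_iff hb]
    exact ((map_mul (S.residue s).hom _ _).symm.trans (congrArg (S.residue s).hom hz))
  obtain ⟨B, _, _, hfree, hfp, ψ, hψ⟩ := Groth.Agent.RealizeExt.exists_realize (A := Γ(S, V)) (ℓ := ℓ) (S.residueField s) hk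
  refine ⟨Spec (CommRingCat.of B), Spec.map (CommRingCat.ofHom (algebraMap Γ(S, V) B)) ≫ hV.fromSpec,
    Spec.map (CommRingCat.ofHom ψ.toRingHom), inferInstance, ?_, ?_, hψ, ?_⟩
  · haveI : Flat (Spec.map (CommRingCat.ofHom (algebraMap Γ(S, V) B))) :=
      (HasRingHomProperty.Spec_iff (P := @Flat)).2 (RingHom.flat_algebraMap_iff.2 inferInstance)
    exact MorphismProperty.comp_mem @Flat _ _ inferInstance inferInstance
  · haveI : LocallyOfFinitePresentation (Spec.map (CommRingCat.ofHom (algebraMap Γ(S, V) B))) :=
      (HasRingHomProperty.Spec_iff (P := @LocallyOfFinitePresentation)).2 (RingHom.finitePresentation_algebraMap.2 hfp)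
    exact MorphismProperty.comp_mem @LocallyOfFinitePresentation _ _ inferInstance inferInstance
  · rw [Groth.Agent.DvrDom.fromSpecResidueField_eq hV hsV, ← Category.assoc, ← Category.assoc, ← Spec.map_comp, ← Spec.map_comp]
    congr 2
    ext a
    exact ψ.commutes a

end Groth.Agent.S14678
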