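import Groth.Statements.S14679
import Mathlib.AlgebraicGeometry.PullbackCarrier


set_option autoImplicit false
set_option linter.style.haveILetI false

universe u
open CategoryTheory CategoryTheory.Limits AlgebraicGeometry
open EtBase

namespace Groth.Agent.S14679

/-- Given a morphism of schemes f : X ⟶ Y and a point x ∈ X with image y = f(x), such that the residue
field map κ(y) → κ(x) is bijective; let ℓ be an algebraic extension field of κ(y) and form the base
change X ×_Y Spec ℓ along Spec ℓ ⟶ Spec κ(y) ⟶ Y. Then there is exactly one point of X ×_Y Spec ℓ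
mapping to x under the first projection. (The published statement takes ℓ to be an algebraic closure
of κ(y), noting that any algebraic extension works, and also identifies the local ring at the point
with O_{X,x} ⊗_{O_{Y,y}} ℓ; this row allows any algebraic extension ℓ and states only the first
assertion.) -/
theorem result {X Y : Scheme.{u}} (f : X ⟶ Y) (x : ↥X)
    (hx : Function.Bijective (f.residueFieldMap x).hom)
    (ℓ : Type u) [Field ℓ] [Algebra (Y.residueField (f.base x)) ℓ] [Algebra.IsAlgebraic (Y.residueField (f.base x)) ℓ] :
    ∃! z : ↥(pullback f (Spec.map (CommRingCat.ofHom (algebraMap (Y.residueField (f.base x)) ℓ)) ≫ Y.fromSpecResidueField (f.base x))),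
      (pullback.fst f (Spec.map (CommRingCat.ofHom (algebraMap (Y.residueField (f.base x)) ℓ)) ≫ Y.fromSpecResidueField (f.base x))).base z = x := by
  let g := Spec.map (CommRingCat.ofHom (algebraMap (Y.residueField (f.base x)) ℓ)) ≫ Y.fromSpecResidueField (f.base x)
  have hg : ∀ p, g.base p = f.base x := fun p => by
    show (Y.fromSpecResidueField (f.base x)).base _ = _
    exact Y.fromSpecResidueField_apply _ _
  haveI : IsIso (f.residueFieldMap x) := (ConcreteCategory.isIso_iff_bijective _).2 hx
  let T : Scheme.Pullback.Triplet f g := ⟨x, default, f.base x, rfl, hg _⟩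
  haveI hrfl : IsIso ((Y.residueFieldCongr T.hx).inv ≫ f.residueFieldMap T.x) := by
    show IsIso ((Y.residueFieldCongr (rfl : f.base x = f.base x)).inv ≫ f.residueFieldMap x)
    infer_instance
  haveI : IsIso T.tensorInr := by
    show IsIso (pushout.inr _ _)
    infer_instance
  haveI hsub : Subsingleton ↥(Spec T.tensor) := by
    haveI : IsIso (Spec.map T.tensorInr) := inferInstance
    exact (Spec.map T.tensorInr).homeomorph.injective.subsingleton
  obtain ⟨q⟩ : Nonempty ↥(Spec T.tensor) := inferInstance
  refine ⟨Scheme.Pullback.carrierEquiv.symm ⟨T, q⟩, Scheme.Pullback.carrierEquiv_symm_fst T q, fun z hz => ?_⟩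
  rw [Equiv.eq_symm_apply]
  have h1 : (Scheme.Pullback.carrierEquiv z).1 = T :=
    Scheme.Pullback.Triplet.ext hz (Subsingleton.elim _ _)
  exact Scheme.Pullback.carrierEquiv_eq_iff.2 ⟨h1, Subsingleton.elim _ _⟩

end Groth.Agent.S14679
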