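import Groth.Statements.S14680
import Groth.Agent.AdicBasics.Exact

set_option autoImplicit false
universe u
open CAlg

namespace Groth.Agent.S14680

open AdicCompletion in
/-- A map whose completions vanish, whose range is therefore zero. -/
theorem eq_zero_of_completions {A : Type u} [CommRing A] [IsNoetherianRing A] {M N : Type u}
    [AddCommGroup M] [Module A M] [AddCommGroup N] [Module A N] [Module.Finite A N] (f : M →ₗ[A] N)
    (h : ∀ m : Ideal A, m.IsMaximal → AdicCompletion.map m f = 0) : f = 0 := by
  have hs : Subsingleton (LinearMap.range f) := AdicBasics.subsingleton_of_completions fun m hm => by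
    refine subsingleton_of_forall_eq 0 fun y => ?_
    obtain ⟨x, rfl⟩ := AdicCompletion.map_surjective m f.surjective_rangeRestrict y
    refine AdicCompletion.map_injective m (LinearMap.range f).subtype_injective ?_
    rw [AdicCompletion.map_comp_apply, LinearMap.rangeRestrict, LinearMap.subtype_comp_codRestrict, h m hm, _root_.map_zero]
    rfl
  ext x
  simpa using congrArg Subtype.val (Subsingleton.elim (f.rangeRestrict x) 0)

/-- Let A be a Noetherian commutative ring and f : M' → M, g : M → M'' linear maps between finitely
generated A-modules. Then the sequence 0 → M' → M → M'' → 0 is exact — f injective, the image of f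
equal to the kernel of g, g surjective — if and only if for every maximal ideal m of A the sequence
of m-adic completions 0 → M'^ → M^ → M''^ → 0 (maps induced by f and g) is exact in the same sense. -/
theorem result (A : Type u) [CommRing A] [IsNoetherianRing A]
    (M' M M'' : Type u) [AddCommGroup M'] [Module A M'] [AddCommGroup M] [Module A M] [AddCommGroup M''] [Module A M'']
    [Module.Finite A M'] [Module.Finite A M] [Module.Finite A M''] (f : M' →ₗ[A] M) (g : M →ₗ[A] M'') :
    (Function.Injective f ∧ Function.Exact f g ∧ Function.Surjective g) ↔
      ∀ (m : Ideal A) [m.IsMaximal],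
        Function.Injective (AdicCompletion.map m f) ∧ Function.Exact (AdicCompletion.map m f) (AdicCompletion.map m g) ∧
          Function.Surjective (AdicCompletion.map m g) := by
  constructor
  · rintro ⟨hf, hfg, hg⟩ m hm
    exact ⟨AdicCompletion.map_injective m hf, AdicCompletion.map_exact hf hfg hg,
      AdicCompletion.map_surjective m hg⟩
  intro h
  have hgf : g ∘ₗ f = 0 := eq_zero_of_completions _ fun m hm => by
    rw [← AdicCompletion.map_comp]
    haveI := hm
    exact (h m).2.1.linearMap_comp_eq_zero
  have hf : Function.Injective f := by
    rw [← LinearMap.ker_eq_bot, ← Submodule.range_subtype (LinearMap.ker f), LinearMap.range_eq_bot]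
    refine eq_zero_of_completions _ fun m hm => ?_
    haveI := hm
    refine LinearMap.ext fun x => (h m).1 ?_
    rw [AdicCompletion.map_comp_apply, LinearMap.comp_ker_subtype, AdicCompletion.map_zero,
      LinearMap.zero_apply, LinearMap.zero_apply, _root_.map_zero]
  have hg : Function.Surjective g := by
    rw [← LinearMap.range_eq_top, ← Submodule.ker_mkQ (LinearMap.range g), LinearMap.ker_eq_top]
    refine eq_zero_of_completions _ fun m hm => ?_
    haveI := hm
    refine LinearMap.ext fun y => ?_
    obtain ⟨x, rfl⟩ := (h m).2.2 y
    rw [AdicCompletion.map_comp_apply, LinearMap.range_mkQ_comp, AdicCompletion.map_zero,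
      LinearMap.zero_apply, LinearMap.zero_apply]
  refine ⟨hf, LinearMap.exact_of_comp_eq_zero_of_ker_le_range hgf ?_, hg⟩
  rw [← Submodule.ker_mkQ (LinearMap.range f), LinearMap.le_ker_iff_comp_subtype_eq_zero]
  refine eq_zero_of_completions _ fun m hm => ?_
  haveI := hm
  refine LinearMap.ext fun y => ?_
  obtain ⟨x, hx⟩ := ((h m).2.1 (AdicCompletion.map m (LinearMap.ker g).subtype y)).1 (by
    rw [AdicCompletion.map_comp_apply, LinearMap.comp_ker_subtype, AdicCompletion.map_zero]; rfl)
  rw [← AdicCompletion.map_comp_apply, ← hx, AdicCompletion.map_comp_apply,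
    LinearMap.range_mkQ_comp, AdicCompletion.map_zero, LinearMap.zero_apply, LinearMap.zero_apply]

end Groth.Agent.S14680
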