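import Groth.Statements.S14683
import Mathlib
import Groth.Agent.SekK.ActTriv

set_option autoImplicit false
universe u
open CategoryTheory AlgebraicGeometry MonoidalCategory CartesianMonoidalCategory MonObj GrpObj
open SekSuwa
open CategoryTheory.MonObj CategoryTheory.CartesianMonoidalCategory MonoidalCategory TensorProduct

namespace Groth.Agent.S14683

/-- Let R be a discrete valuation ring of characteristic zero and residue characteristic p, and let λ, μ
∈ R satisfy the divisibility condition under which the finite R-group schemes G_{λ,1} and G_{μ,1}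
(the kernels of the isogenies ψ of the one-parameter groups with law s + t + λst, resp. μ) are
defined. Then every action of G_{μ,1} on G_{λ,1} by group automorphisms is trivial: for every
R-scheme T and all T-valued points g of G_{μ,1} and x of G_{λ,1}, g · x = x. An action by group
automorphisms is an action of the group scheme G_{μ,1} on the scheme G_{λ,1} whose action map is
multiplicative in the second variable on points. (The published statement is made under standing
assumptions that R contains a primitive p²-th root of unity and that λ, μ have positive valuation;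
this row drops both, which the argument does not use.) -/
theorem result (R : Type u) [CommRing R] [IsDomain R] [IsDiscreteValuationRing R] [CharZero R]
    (p : ℕ) [Fact p.Prime] [CharP (IsLocalRing.ResidueField R) p]
    (lam mu : R) (h₁ : SekSuwa.DivCond lam p) (h₂ : SekSuwa.DivCond mu p)
    (a : AlgGrp.Action (SekSuwa.GK R mu p h₂) (SekSuwa.GK R lam p h₁))
    (hmul : ∀ (T : Over (Spec (CommRingCat.of R))) (g : T ⟶ SekSuwa.GK R mu p h₂)
      (x y : T ⟶ SekSuwa.GK R lam p h₁), lift g (x * y) ≫ a.act = (lift g x ≫ a.act) * (lift g y ≫ a.act))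
    (T : Over (Spec (CommRingCat.of R))) (g : T ⟶ SekSuwa.GK R mu p h₂) (x : T ⟶ SekSuwa.GK R lam p h₁) :
    lift g x ≫ a.act = x := by
  rcases eq_or_ne lam 0 with h0 | hlam
  · exact absurd (nonZeroDivisors.ne_zero h₁.1) (not_not.mpr h0)
  have hmu : mu ≠ 0 := nonZeroDivisors.ne_zero h₂.1
  let K := AlgebraicClosure (FractionRing R)
  have hinj : Function.Injective (algebraMap R K) := by
    rw [IsScalarTower.algebraMap_eq R (FractionRing R) K, RingHom.coe_comp]
    exact (algebraMap (FractionRing R) K).injective.comp (IsFractionRing.injective R (FractionRing R))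
  haveI : CharZero K := charZero_of_injective_algebraMap hinj
  let Sp : Over (Spec (CommRingCat.of R)) := (Spec (CommRingCat.of K)).asOver (Spec (CommRingCat.of R))
  let B := SekSuwa.AK R mu p h₂ ⊗[R] SekSuwa.AK R lam p h₁
  let T0 : Over (Spec (CommRingCat.of R)) := (Spec (CommRingCat.of B)).asOver (Spec (CommRingCat.of R))
  -- points
  have hcard : ∀ (l : R) (h : SekSuwa.DivCond l p), l ≠ 0 → Nat.card (Sp ⟶ SekSuwa.GK R l p h) = p :=
    fun l h hl => (Nat.card_congr ((Spec.mapMulEquiv (R := R) (S := SekSuwa.AK R l p h) (T := K)).toEquiv.symm.trans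
      (WithConv.equiv _))).trans (SekK.card_points hinj h hl)
  -- trivial on points
  have hpts : ∀ (g : Sp ⟶ SekSuwa.GK R mu p h₂) (x : Sp ⟶ SekSuwa.GK R lam p h₁), lift g x ≫ a.act = x := by
    intro g x
    refine SekK.smul_eq_self p (hcard mu h₂ hmu) (hcard lam h₁ hlam) (fun g x => lift g x ≫ a.act)
      (fun x => ?_) (fun g g' x => ?_) (fun g x y => hmul _ g x y) g x
    · rw [show lift (1 : Sp ⟶ SekSuwa.GK R mu p h₂) x = lift (toUnit Sp) x ≫ (η ▷ _) by
        rw [lift_whiskerRight, Hom.one_def], Category.assoc, a.one_act, lift_leftUnitor_hom]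
    · rw [show lift (g * g') x = lift (lift g g') x ≫ (μ ▷ _) by rw [lift_whiskerRight, Hom.mul_def],
        Category.assoc, a.mul_act, lift_lift_associator_hom_assoc, lift_whiskerLeft_assoc]
  -- the universal point
  let g₀ : T0 ⟶ SekSuwa.GK R mu p h₂ := Spec.mapMulEquiv (WithConv.toConv
    (Algebra.TensorProduct.includeLeft : SekSuwa.AK R mu p h₂ →ₐ[R] B))
  let x₀ : T0 ⟶ SekSuwa.GK R lam p h₁ := Spec.mapMulEquiv (WithConv.toConv
    (Algebra.TensorProduct.includeRight : SekSuwa.AK R lam p h₁ →ₐ[R] B))
  have hz : lift g₀ x₀ ≫ a.act = x₀ := by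
    apply (Spec.mapMulEquiv (R := R) (S := SekSuwa.AK R lam p h₁) (T := B)).symm.injective
    refine WithConv.ofConv_injective (AlgHom.ext fun c => sub_eq_zero.mp ?_)
    refine SekK.joint_points₂ hinj h₁ hlam (SekK.joint_points hinj h₂ hmu) _ fun f g => ?_
    let L : B →ₐ[R] K := Algebra.TensorProduct.lift f g (fun _ _ => Commute.all _ _)
    let z : Sp ⟶ T0 := Over.homMk (Spec.map (CommRingCat.ofHom L.toRingHom)) (by
      show Spec.map (CommRingCat.ofHom L.toRingHom) ≫ Spec.map (CommRingCat.ofHom (algebraMap R B)) =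
        Spec.map (CommRingCat.ofHom (algebraMap R K))
      rw [← Spec.map_comp]
      congr 1
      exact CommRingCat.hom_ext L.comp_algebraMap)
    have h5 : z.left ≫ (lift g₀ x₀ ≫ a.act).left = z.left ≫ x₀.left :=
      congrArg (fun k => k.left) (show z ≫ lift g₀ x₀ ≫ a.act = z ≫ x₀ by
        rw [comp_lift_assoc, hpts])
    have h6 : ∀ F : T0 ⟶ SekSuwa.GK R lam p h₁, Spec.map (CommRingCat.ofHom
        ((Spec.mapMulEquiv (R := R) (S := SekSuwa.AK R lam p h₁) (T := B)).symm F).ofConv.toRingHom) = F.left :=
      fun F => congrArg (fun k => k.left)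
        ((Spec.mapMulEquiv (R := R) (S := SekSuwa.AK R lam p h₁) (T := B)).apply_symm_apply F)
    rw [← h6 (lift g₀ x₀ ≫ a.act), ← h6 x₀] at h5
    have h7 := congrArg (fun k => k.hom c) (Spec.map_injective ((Spec.map_comp _ _).trans (h5.trans (Spec.map_comp _ _).symm)))
    rw [map_sub, sub_eq_zero]
    exact h7
  haveI : IsIso (lift g₀ x₀).left := by
    have h : (lift g₀ x₀).left = (pullbackSpecIso R (SekSuwa.AK R mu p h₂) (SekSuwa.AK R lam p h₁)).inv := by
      refine Limits.pullback.hom_ext ?_ ?_
      · exact (congrArg (fun k => k.left) (lift_fst g₀ x₀)).trans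
          (pullbackSpecIso_inv_fst R (SekSuwa.AK R mu p h₂) (SekSuwa.AK R lam p h₁)).symm
      · exact (congrArg (fun k => k.left) (lift_snd g₀ x₀)).trans
          (pullbackSpecIso_inv_snd R (SekSuwa.AK R mu p h₂) (SekSuwa.AK R lam p h₁)).symm
    rw [h]
    exact inferInstanceAs (IsIso (pullbackSpecIso R (SekSuwa.AK R mu p h₂) (SekSuwa.AK R lam p h₁)).inv)
  haveI : IsIso (lift g₀ x₀) := by
    have : IsIso ((Over.forget (Spec (CommRingCat.of R))).map (lift g₀ x₀)) :=
      inferInstanceAs (IsIso (lift g₀ x₀).left)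
    exact isIso_of_reflects_iso _ (Over.forget _)
  have hact : a.act = snd _ _ := (cancel_epi (lift g₀ x₀)).mp (hz.trans (lift_snd g₀ x₀).symm)
  rw [hact, lift_snd]

end Groth.Agent.S14683
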