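import Groth.Statements.S14685
import Mathlib
import Groth.Agent.SekK.GenFibre
import Groth.Agent.SekK.Classify
import Groth.Agent.FinHopf.GrpScheme

set_option autoImplicit false
universe u
open CategoryTheory AlgebraicGeometry
open SekSuwa

namespace Groth.Agent.S14685

/-- Let R be a discrete valuation ring of characteristic zero and residue characteristic p containing a
primitive p-th root of unity, with fraction field K, and let G be a finite flat R-group scheme whose
generic fibre is isomorphic, as a K-group scheme, to the constant group ℤ/pℤ. Then G is isomorphic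
as an R-group scheme to G_{λ,1} = Spec R[T]/(((1 + λT)^p − 1)/λ^p) (the kernel of the isogeny ψ on
the one-parameter group with law s + t + λst) for some nonzero λ ∈ R for which that polynomial has
coefficients in R. -/
theorem result (R : Type u) [CommRing R] [IsDomain R] [IsDiscreteValuationRing R] [CharZero R]
    (p : ℕ) [Fact p.Prime] [CharP (IsLocalRing.ResidueField R) p]
    (ζ : R) (hζ : IsPrimitiveRoot ζ p)
    (G : Over (Spec (CommRingCat.of R))) [GrpObj G] [IsFinite G.hom] [Flat G.hom]
    (e : Red.bc (Spec.map (CommRingCat.ofHom (algebraMap R (FractionRing R)))) G ≅ TwC.const (Spec (CommRingCat.of (FractionRing R))) (Multiplicative (ZMod p)))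
    (he : TwC.IsConstGrp (Multiplicative (ZMod p)) (Red.bc (Spec.map (CommRingCat.ofHom (algebraMap R (FractionRing R)))) G) e) :
    ∃ (lam : R) (h : SekSuwa.DivCond lam p), lam ≠ 0 ∧ Nonempty (Grp.mk G ≅ Grp.mk (SekSuwa.GK R lam p h)) := by
  haveI : IsAffine G.left := isAffine_of_isAffineHom G.hom
  obtain ⟨A, iH, e0, he0⟩ := FinHopf.exists_hopf G
  let f := Spec.map (CommRingCat.ofHom (algebraMap R A))
  have hf : f = e0.hom.left ≫ G.hom := (Over.w e0.hom).symm
  haveI : IsIso e0.hom.left := inferInstanceAs (IsIso ((Over.forget _).map e0.hom))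
  have hfin : (algebraMap R A).Finite := by
    have h0 : IsFinite (e0.hom.left ≫ G.hom) := inferInstance
    have : IsFinite f := by rw [hf]; exact h0
    exact (IsFinite.SpecMap_iff _).mp this
  have hflat : (algebraMap R A).Flat := by
    have h0 : Flat (e0.hom.left ≫ G.hom) := inferInstance
    have : Flat f := by rw [hf]; exact h0
    exact (HasRingHomProperty.Spec_iff (P := @Flat)).mp this
  haveI : Module.Finite R A := RingHom.finite_algebraMap.mp hfin
  haveI : Module.Flat R A := RingHom.flat_algebraMap_iff.mp hflat
  haveI : Module.Free R A := Module.free_of_flat_of_isLocalRing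
  haveI := he0
  let P : SekK.Pts R (FractionRing R) A (Multiplicative (ZMod p)) :=
    { χ := SekK.chi G e0 e
      χ_inj := SekK.chi_injective G e0 e
      joint := fun a ha => by
        have h0 := SekK.tmul_eq_zero G e0 e a ha
        exact (Algebra.TensorProduct.includeLeft_injective (S := R)
          (IsFractionRing.injective R (FractionRing R))) (by simpa using h0)
      χ_mul := SekK.chi_mul G e0 e he
      χ_one := SekK.chi_one G e0 e he }
  obtain ⟨lam, h, hlam, φ, hφ⟩ := SekK.exists_bialgHom_AK p hζ P
  refine ⟨lam, h, hlam, ?_⟩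
  haveI : IsIso (SekSuwa.specHom φ).left := by
    rw [SekSuwa.specHom_left]
    have : IsIso (CommRingCat.ofHom (φ : SekSuwa.AK R lam p h →+* A)) :=
      (ConcreteCategory.isIso_iff_bijective _).mpr hφ
    exact inferInstanceAs (IsIso (Spec.map (CommRingCat.ofHom (φ : SekSuwa.AK R lam p h →+* A))))
  haveI : IsIso (SekSuwa.specHom φ) := by
    have : IsIso ((Over.forget (Spec (CommRingCat.of R))).map (SekSuwa.specHom φ)) :=
      inferInstanceAs (IsIso (SekSuwa.specHom φ).left)
    exact isIso_of_reflects_iso _ (Over.forget _)
  exact ⟨Grp.mkIso (e0.symm ≪≫ asIso (SekSuwa.specHom φ)) (by simp) (by simp)⟩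

end Groth.Agent.S14685
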