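import Groth.Statements.S14686
import Mathlib
import Groth.Agent.SekK.GenFibre
import Groth.Agent.SekK.Sq
import Groth.Agent.SekK.Exact
import Groth.Agent.FinHopf.GrpScheme

set_option autoImplicit false
universe u
open CategoryTheory AlgebraicGeometry
open SekSuwa
open CategoryTheory.MonObj CategoryTheory.CartesianMonoidalCategory

namespace Groth.Agent.S14686

/-- Let R be a discrete valuation ring of characteristic zero and residue characteristic p containing a
primitive p²-th root of unity, with fraction field K, and let G be a finite flat R-group scheme of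
order p² (finite locally free of degree p² over Spec R) whose generic fibre is a constant K-group
scheme (so the underlying group has order p²). Then G is an extension of G_{μ,1} by G_{λ,1} for some
nonzero λ, μ ∈ R satisfying the divisibility condition defining these kernels: there are
homomorphisms of R-group schemes G_{λ,1} → G and G → G_{μ,1} whose composite is trivial, with G a
pseudo-torsor under G_{λ,1} over G_{μ,1} and G → G_{μ,1} admitting sections locally for the fppf
topology. -/
theorem result (R : Type u) [CommRing R] [IsDomain R] [IsDiscreteValuationRing R] [CharZero R]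
    (p : ℕ) [Fact p.Prime] [CharP (IsLocalRing.ResidueField R) p]
    (ζ : R) (hζ : IsPrimitiveRoot ζ (p ^ 2))
    (G : Over (Spec (CommRingCat.of R))) [GrpObj G] (hG : Mor2.IsFinLocFreeOfDeg (p ^ 2) G.hom)
    (M : Type) [Group M] [Finite M]
    (e : Red.bc (Spec.map (CommRingCat.ofHom (algebraMap R (FractionRing R)))) G ≅ TwC.const (Spec (CommRingCat.of (FractionRing R))) M)
    (he : TwC.IsConstGrp M (Red.bc (Spec.map (CommRingCat.ofHom (algebraMap R (FractionRing R)))) G) e) :
    ∃ (lam mu : R) (h₁ : SekSuwa.DivCond lam p) (h₂ : SekSuwa.DivCond mu p)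
      (u : SekSuwa.GK R lam p h₁ ⟶ G) (v : G ⟶ SekSuwa.GK R mu p h₂),
      lam ≠ 0 ∧ mu ≠ 0 ∧ NonAbH1.IsExactSeq Scheme.fppfPrecoverage u v := by
  haveI : IsFinite G.hom := hG.1.1
  haveI : Flat G.hom := hG.1.2.1
  haveI : IsAffine G.left := isAffine_of_isAffineHom G.hom
  obtain ⟨A, iH, e0, he0⟩ := FinHopf.exists_hopf G
  haveI := he0
  let f0 := Spec.map (CommRingCat.ofHom (algebraMap R A))
  have hf : f0 = e0.hom.left ≫ G.hom := (Over.w e0.hom).symm
  haveI : IsIso e0.hom.left := inferInstanceAs (IsIso ((Over.forget _).map e0.hom))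
  have hfin : (algebraMap R A).Finite := by
    have h0 : IsFinite (e0.hom.left ≫ G.hom) := inferInstance
    have : IsFinite f0 := by rw [hf]; exact h0
    exact (IsFinite.SpecMap_iff _).mp this
  have hflat : (algebraMap R A).Flat := by
    have h0 : Flat (e0.hom.left ≫ G.hom) := inferInstance
    have : Flat f0 := by rw [hf]; exact h0
    exact (HasRingHomProperty.Spec_iff (P := @Flat)).mp this
  haveI : Module.Finite R A := RingHom.finite_algebraMap.mp hfin
  haveI : Module.Flat R A := RingHom.flat_algebraMap_iff.mp hflat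
  haveI : Module.Free R A := Module.free_of_flat_of_isLocalRing
  haveI : Fintype M := Fintype.ofFinite M
  let P₀ : SekK.Pts R (FractionRing R) A M :=
    { χ := SekK.chi G e0 e
      χ_inj := SekK.chi_injective G e0 e
      joint := fun a ha => by
        have h0 := SekK.tmul_eq_zero G e0 e a ha
        exact (Algebra.TensorProduct.includeLeft_injective (S := R)
          (IsFractionRing.injective R (FractionRing R))) (by simpa using h0)
      χ_mul := SekK.chi_mul G e0 e he
      χ_one := SekK.chi_one G e0 e he }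
  have hM : Nat.card M = p ^ 2 := by
    have s : ↥(Spec (CommRingCat.of R)) := (⊥ : PrimeSpectrum R)
    have h1 : Scheme.Hom.finrank f0 s = p ^ 2 := by
      rw [hf]
      exact (congrFun (Scheme.Hom.finrank_comp_left_of_isIso e0.hom.left G.hom) s).trans (hG.2 s)
    have h2 : Module.rankAtStalk A s = p ^ 2 :=
      (Scheme.Hom.finrank_SpecMap_algebraMap R A s).symm.trans h1
    rw [Module.rankAtStalk_eq_finrank_of_free, Pi.natCast_def,
      Module.finrank_eq_card_basis (Module.Free.chooseBasis R A),
      P₀.card_eq (Module.Free.chooseBasis R A)] at h2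
    rw [Nat.card_eq_fintype_card]
    exact h2
  letI : CommGroup M := IsPGroup.commGroupOfCardEqPrimeSq hM
  let P : SekK.Pts R (FractionRing R) A M := P₀
  obtain ⟨lam, mu, h₁, h₂, f, g, hlam, hmu, hg, hff, hfp, hgf, hker⟩ :=
    SekK.exists_ext_AK p (hζ.pow (pow_pos (Fact.out : p.Prime).pos 2) (pow_two p)) P hM
  have hk := SekK.isKernel_specHom f g hg hgf hker
  let u : SekSuwa.GK R lam p h₁ ⟶ G := SekSuwa.specHom g ≫ e0.hom
  let v : G ⟶ SekSuwa.GK R mu p h₂ := e0.inv ≫ SekSuwa.specHom f
  haveI : IsMonHom u := inferInstanceAs (IsMonHom (SekSuwa.specHom g ≫ e0.hom))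
  haveI : IsMonHom v := inferInstanceAs (IsMonHom (e0.inv ≫ SekSuwa.specHom f))
  have huv : u ≫ v = 1 := by
    show (SekSuwa.specHom g ≫ e0.hom) ≫ e0.inv ≫ SekSuwa.specHom f = 1
    rw [Category.assoc, Iso.hom_inv_id_assoc, ← SekSuwa.specHom_comp, hgf, SekSuwa.specHom_trivial]
  have hkuv : AlgGrp.IsKernel u v :=
    IsPullback.of_iso hk (Iso.refl _) e0 (Iso.refl _) (Iso.refl _)
      (by simp [u]) (by simp) (by simp [v]) (by simp)
  refine ⟨lam, mu, h₁, h₂, u, v, hlam, hmu, inferInstance, inferInstance, huv,
    SekK.isPullback_of_isKernel u v hkuv huv, ?_⟩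
  obtain ⟨T, hT, hsec⟩ := SekK.isLocallyTrivialFor_specHom f hff hfp
  refine ⟨T, hT, fun S' q hq => ?_⟩
  obtain ⟨s, hs⟩ := hsec q hq
  refine ⟨s ≫ e0.hom.left, ?_⟩
  show (s ≫ e0.hom.left) ≫ (e0.inv ≫ SekSuwa.specHom f).left = q
  rw [Over.comp_left, Category.assoc]
  have h0 : e0.hom.left ≫ e0.inv.left = 𝟙 _ := congrArg (fun k => k.left) e0.hom_inv_id
  erw [reassoc_of% h0]
  exact hs

end Groth.Agent.S14686
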