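import Groth.Statements.S14694
import Mathlib
import Groth.Agent.SekK.Basic

set_option autoImplicit false
universe u
open CategoryTheory AlgebraicGeometry
open SekSuwa

namespace Groth.Agent.S14694

/-- For any commutative ring R, λ ∈ R and N ≥ 1 such that λ is a non-zero-divisor and λ^N divides (1 +
λX)^N − 1 in R[X] with quotient P_{λ,N}, the R-group scheme G_{λ,N}, defined as the closed subscheme
of the affine R-group G^(λ) = Spec R[T, 1/(1+λT)] cut out by P_{λ,N}(T), is finite locally free of
degree N over Spec R (its coordinate ring is R[T]/(P_{λ,N}(T)) with P_{λ,N} monic of degree N). (The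
published text states this over a discrete valuation ring with N = p^n: G_{λ,n} is a commutative
finite flat group scheme of rank p^n.) -/
theorem result (R : Type u) [CommRing R] (lam : R) (N : ℕ) (hN : 0 < N) (h : SekSuwa.DivCond lam N) :
    Mor2.IsFinLocFreeOfDeg N (SekSuwa.GK R lam N h).hom := by
  show Mor2.IsFinLocFreeOfDeg N (Spec.map (CommRingCat.ofHom (algebraMap R (SekSuwa.AK R lam N h))))
  haveI hfree : Module.Free R (SekSuwa.AK R lam N h) := .of_basis (SekK.powerBasis h hN).basis
  haveI hfin : Module.Finite R (SekSuwa.AK R lam N h) := .of_basis (SekK.powerBasis h hN).basis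
  haveI : Module.FinitePresentation R (SekSuwa.AK R lam N h) := Module.finitePresentation_of_projective _ _
  haveI hfp : Algebra.FinitePresentation R (SekSuwa.AK R lam N h) :=
    (Module.FinitePresentation.iff_finitePresentation_of_finite R (SekSuwa.AK R lam N h)).mp inferInstance
  refine ⟨⟨?_, ?_, ?_⟩, fun s => ?_⟩
  · exact (IsFinite.SpecMap_iff _).mpr (RingHom.finite_algebraMap.mpr hfin)
  · exact (HasRingHomProperty.Spec_iff (P := @Flat)).mpr (RingHom.flat_algebraMap_iff.mpr inferInstance)
  · exact (HasRingHomProperty.Spec_iff (P := @LocallyOfFinitePresentation)).mpr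
      (RingHom.finitePresentation_algebraMap.mpr hfp)
  · rcases subsingleton_or_nontrivial R with hR | hR
    · haveI := hR
      haveI : IsEmpty ↥(Spec (CommRingCat.of R)) := inferInstanceAs (IsEmpty (PrimeSpectrum R))
      exact (IsEmpty.false s).elim
    · haveI := hR
      refine (Scheme.Hom.finrank_SpecMap_algebraMap R (SekSuwa.AK R lam N h) s).trans ?_
      rw [Module.rankAtStalk_eq_finrank_of_free, Pi.natCast_def,
        Module.finrank_eq_card_basis (SekK.powerBasis h hN).basis, Fintype.card_fin,
        SekK.powerBasis_dim]
      rfl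

end Groth.Agent.S14694
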