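import Groth.Statements.S14693
import Mathlib
import Groth.Agent.SekK.Basic

set_option autoImplicit false
universe u
open CategoryTheory AlgebraicGeometry
open SekSuwa
open CategoryTheory.MonObj CategoryTheory.CartesianMonoidalCategory

namespace Groth.Agent.S14693

/-- For any commutative ring R, λ ∈ R and N such that λ is a non-zero-divisor and λ^N divides (1 + λX)^N
− 1 in R[X] with quotient P_{λ,N}, the closed subgroup scheme G_{λ,N} = Spec R[T]/(P_{λ,N}(T)) of
the affine R-group G^(λ) = Spec R[T, 1/(1+λT)] (group law s + t + λst) is the kernel of the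
homomorphism ψ_{λ,N} : G^(λ) → G^(λ^N), T ↦ P_{λ,N}(T): the square with sides the inclusion G_{λ,N}
→ G^(λ), ψ_{λ,N}, the unit section of G^(λ^N) and G_{λ,N} → Spec R is cartesian. (The published
text, over a discrete valuation ring and with N = p^n, introduces G_{λ,n} as the kernel of the
isogeny ψ_{λ,n}; this row is that assertion for every N, including the degenerate N = 0 where ψ is
trivial and G_{λ,0} = G^(λ).) -/
theorem result (R : Type u) [CommRing R] (lam : R) (N : ℕ) (h : SekSuwa.DivCond lam N) :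
    AlgGrp.IsKernel (SekSuwa.incl R lam N h) (SekSuwa.psi R lam N h) := by
  refine IsPullback.of_map (Over.forget _)
    ((SekSuwa.incl_psi R lam N h).trans Hom.one_def) ?_
  have hu : (toUnit (SekSuwa.GK R lam N h)).left =
      Spec.map (CommRingCat.ofHom (algebraMap R (SekSuwa.AK R lam N h))) := by
    rw [← Category.comp_id (toUnit (SekSuwa.GK R lam N h)).left]
    exact Over.w (toUnit (SekSuwa.GK R lam N h))
  show IsPullback (SekSuwa.incl R lam N h).left (toUnit (SekSuwa.GK R lam N h)).left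
    (SekSuwa.psi R lam N h).left η[SekSuwa.G R (lam ^ N)].left
  rw [hu, SekSuwa.incl, SekSuwa.psi, SekSuwa.specHom_left, SekSuwa.specHom_left,
    one_spec_asOver_spec_left]
  refine isPullback_SpecMap_of_isPushout _ _ _ _ ?_
  have hw : (SekSuwa.AK.mkHom R lam N h : SekSuwa.A R lam →+* SekSuwa.AK R lam N h).comp
      (SekSuwa.psiHom R lam N h : SekSuwa.A R (lam ^ N) →+* SekSuwa.A R lam) =
      (algebraMap R (SekSuwa.AK R lam N h)).comp (Bialgebra.counitAlgHom R (SekSuwa.A R (lam ^ N))).toRingHom := by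
    refine RingHom.ext fun a => ?_
    exact DFunLike.congr_fun (SekSuwa.mkHom_comp_psiHom (R := R) (lam := lam) (N := N) (h := h)) a
  have hker : ∀ c : Limits.PushoutCocone
      (CommRingCat.ofHom (SekSuwa.psiHom R lam N h : SekSuwa.A R (lam ^ N) →+* SekSuwa.A R lam))
      (CommRingCat.ofHom (Bialgebra.counitAlgHom R (SekSuwa.A R (lam ^ N))).toRingHom),
      ∀ a ∈ SekSuwa.kerIdeal lam N h, c.inl.hom a = 0 := by
    intro c
    intro a ha
    obtain ⟨d, rfl⟩ := Ideal.mem_span_singleton'.mp ha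
    have h1 := congrArg (fun g => g.hom SekSuwa.A.t) c.condition
    have h2 : (SekSuwa.psiHom R lam N h) SekSuwa.A.t = SekSuwa.kerGen lam N h := SekSuwa.A.lift_t _ _ (SekSuwa.kerGen_rel (R := R) (lam := lam) (N := N) (h := h))
    simp only [CommRingCat.hom_comp, CommRingCat.hom_ofHom, RingHom.comp_apply] at h1
    have h3 : (SekSuwa.psiHom R lam N h : SekSuwa.A R (lam ^ N) →+* SekSuwa.A R lam) SekSuwa.A.t =
        SekSuwa.kerGen lam N h := h2
    rw [map_mul, ← h3]
    refine mul_eq_zero_of_right _ (h1.trans ?_)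
    have h4 : Bialgebra.counitAlgHom R (SekSuwa.A R (lam ^ N)) SekSuwa.A.t = 0 := SekSuwa.A.counit_t
    exact (congrArg c.inr.hom h4).trans (map_zero _)
  refine ⟨⟨CommRingCat.hom_ext hw⟩, ⟨Limits.PushoutCocone.IsColimit.mk _ (fun c => ?_) (fun c => ?_) (fun c => ?_) ?_⟩⟩
  · exact CommRingCat.ofHom (Ideal.Quotient.lift (SekSuwa.kerIdeal lam N h) c.inl.hom (hker c))
  · exact CommRingCat.hom_ext (RingHom.ext fun a => Ideal.Quotient.lift_mk (SekSuwa.kerIdeal lam N h) _ (hker c))
  · refine CommRingCat.hom_ext (RingHom.ext fun r => ?_)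
    have h1 := congrArg (fun g => g.hom (algebraMap R (SekSuwa.A R (lam ^ N)) r)) c.condition
    simp only [CommRingCat.hom_comp, CommRingCat.hom_ofHom, RingHom.comp_apply] at h1
    have h4 : Bialgebra.counitAlgHom R (SekSuwa.A R (lam ^ N))
        (algebraMap R (SekSuwa.A R (lam ^ N)) r) = r := AlgHom.commutes _ _
    have h5 : (SekSuwa.psiHom R lam N h) (algebraMap R (SekSuwa.A R (lam ^ N)) r) =
        algebraMap R (SekSuwa.A R lam) r :=
      AlgHom.commutes (SekSuwa.psiHom R lam N h : SekSuwa.A R (lam ^ N) →ₐ[R] SekSuwa.A R lam) r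
    refine (Eq.trans ?_ ((congrArg c.inl.hom h5).symm.trans (h1.trans (congrArg c.inr.hom h4))))
    exact Ideal.Quotient.lift_mk (SekSuwa.kerIdeal lam N h) _ (hker c)
  · intro c m hm₁ hm₂
    refine CommRingCat.hom_ext (RingHom.ext fun x => ?_)
    obtain ⟨a, rfl⟩ := Ideal.Quotient.mk_surjective x
    exact (congrArg (fun g => g.hom a) hm₁).trans (Ideal.Quotient.lift_mk (SekSuwa.kerIdeal lam N h) _ (hker c)).symm

end Groth.Agent.S14693
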