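import Groth.Statements.S14689
import Groth.Agent.SekTriv.Fibre

set_option autoImplicit false
set_option linter.style.haveILetI false
set_option synthInstance.maxHeartbeats 400000
set_option maxHeartbeats 800000
universe u
open CategoryTheory AlgebraicGeometry
open SekSuwa

namespace Groth.Agent.S14689

open Limits MonoidalCategory CartesianMonoidalCategory
open Groth.Agent.SekTorsor (fn fn_comp fn_SpecMap fn_toSpecΓ scal bfn bfn_comp bfn_mul bfn_one bfn_eq_rfn isUnit_bfn)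
open Groth.Agent.SekTriv (dfn dfn_comp dfn_ext dfn_mul dfn_one exists_dfn exists_kfn kfn kfn_ext eval_kfn psiPoly_spec')

noncomputable section

section Poly

open Polynomial

/-- bidegree at most `(n, n)` -/
def Bd {A : Type u} [CommRing A] (n : ℕ) (D : A[X][X]) : Prop :=
  D.natDegree ≤ n ∧ ∀ j, (D.coeff j).natDegree ≤ n

theorem Bd.mono {A : Type u} [CommRing A] {n m : ℕ} {D : A[X][X]} (h : Bd n D) (hnm : n ≤ m) : Bd m D :=
  ⟨h.1.trans hnm, fun j => (h.2 j).trans hnm⟩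

theorem Bd.mul {A : Type u} [CommRing A] {n m : ℕ} {D E : A[X][X]} (h : Bd n D) (h' : Bd m E) : Bd (n + m) (D * E) := by
  refine ⟨natDegree_mul_le.trans (add_le_add h.1 h'.1), fun j => ?_⟩
  rw [coeff_mul]
  exact natDegree_sum_le_of_forall_le _ _ fun i _ => natDegree_mul_le.trans (add_le_add (h.2 _) (h'.2 _))

theorem Bd.sum {A : Type u} [CommRing A] {n : ℕ} {ι : Type*} (s : Finset ι) (D : ι → A[X][X]) (h : ∀ i ∈ s, Bd n (D i)) :
    Bd n (∑ i ∈ s, D i) := by
  refine ⟨natDegree_sum_le_of_forall_le _ _ fun i hi => (h i hi).1, fun j => ?_⟩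
  rw [finsetSum_coeff]
  exact natDegree_sum_le_of_forall_le _ _ fun i hi => (h i hi).2 j

/-- A polynomial of small degree which is multiplicative on the roots of a monic polynomial is multiplicative. -/
theorem law_eq {A : Type u} [CommRing A] [Nontrivial A] (Ψ : A[X]) (hΨ : Ψ.Monic) (P : A[X])
    (hP : P.natDegree < Ψ.natDegree) (μ : A)
    (h : (P.eval₂ ((C : A[X] →+* A[X][X]).comp C) (C X + X + C (C μ) * C X * X) -
        C P * P.map C).map (AdjoinRoot.mk Ψ) %ₘ (Ψ.map (AdjoinRoot.of Ψ)) = 0)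
    {S : Type u} [CommRing S] (g : A →+* S) (s t : S) :
    P.eval₂ g (s + t + g μ * s * t) = P.eval₂ g s * P.eval₂ g t := by
  set D : A[X][X] := P.eval₂ ((C : A[X] →+* A[X][X]).comp C) (C X + X + C (C μ) * C X * X) - C P * P.map C with hD
  set d := Ψ.natDegree
  obtain ⟨p, hp⟩ : ∃ p, d = p + 1 := ⟨d - 1, by omega⟩
  have hPp : P.natDegree ≤ p := by omega
  have hC : ∀ a : A, Bd 0 (C (C a) : A[X][X]) := fun a =>
    ⟨(natDegree_C _).le, fun j => by rw [coeff_C]; split_ifs <;> simp⟩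
  have hZ : Bd 1 (C X + X + C (C μ) * C X * X : A[X][X]) := by
    rw [show (C X + X + C (C μ) * C X * X : A[X][X]) = C (1 + C μ * X) * X + C X by simp only [map_add, map_one, map_mul]; ring]
    refine ⟨natDegree_linear_le, fun j => ?_⟩
    rw [coeff_add, coeff_C_mul, coeff_X, coeff_C]
    refine natDegree_add_le_of_degree_le ?_ ?_
    · split_ifs
      · rw [mul_one]
        exact natDegree_add_le_of_degree_le (by simp) ((natDegree_C_mul_le _ _).trans natDegree_X_le)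
      · simp
    · split_ifs
      · exact natDegree_X_le
      · simp
  have hpow : ∀ i, Bd i ((C X + X + C (C μ) * C X * X : A[X][X]) ^ i) := by
    intro i
    induction i with
    | zero => rw [pow_zero, ← map_one C, ← map_one C]; exact hC 1
    | succ i ih => rw [pow_succ]; exact ih.mul hZ
  have h1 : Bd p (P.eval₂ ((C : A[X] →+* A[X][X]).comp C) (C X + X + C (C μ) * C X * X)) := by
    rw [eval₂_eq_sum_range' _ (Nat.lt_succ_of_le hPp)]
    refine Bd.sum _ _ fun i hi => Bd.mono ((hC (P.coeff i)).mul (hpow i)) ?_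
    have := Finset.mem_range.1 hi
    omega
  have h2 : Bd p (C P * P.map C) := by
    refine ⟨(natDegree_C_mul_le _ _).trans (natDegree_map_le.trans hPp), fun j => ?_⟩
    rw [coeff_C_mul, coeff_map]
    exact (natDegree_mul_C_le _ _).trans hPp
  have h3 : Bd p D := ⟨(natDegree_sub_le _ _).trans (max_le h1.1 h2.1),
    fun j => by rw [hD, coeff_sub]; exact (natDegree_sub_le _ _).trans (max_le (h1.2 j) (h2.2 j))⟩
  have hD0 : D = 0 := by
    have e : D.map (AdjoinRoot.mk Ψ) = 0 := by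
      haveI : Nontrivial (AdjoinRoot Ψ) := ⟨1, 0, fun e => hΨ.not_dvd_of_natDegree_lt one_ne_zero
        (by rw [natDegree_one]; omega) (AdjoinRoot.mk_eq_zero.1 (by rw [map_one, e]))⟩
      rw [← h, eq_comm, modByMonic_eq_self_iff (hΨ.map _)]
      refine degree_le_natDegree.trans_lt ?_
      rw [degree_eq_natDegree (hΨ.map _).ne_zero, hΨ.natDegree_map]
      exact_mod_cast (natDegree_map_le.trans h3.1).trans_lt (by omega)
    ext1 j
    have e' : AdjoinRoot.mk Ψ (D.coeff j) = 0 := by rw [← coeff_map, e, coeff_zero]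
    rw [coeff_zero]
    by_contra hne
    exact hΨ.not_dvd_of_natDegree_lt hne ((h3.2 j).trans_lt (by omega)) (AdjoinRoot.mk_eq_zero.1 e')
  have he := congrArg (eval₂RingHom (eval₂RingHom g s) t) hD0
  rw [hD, map_zero, map_sub, map_mul, sub_eq_zero, hom_eval₂] at he
  have eg : (eval₂RingHom (eval₂RingHom g s) t).comp ((C : A[X] →+* A[X][X]).comp C) = g :=
    RingHom.ext fun a => by simp
  rw [eg] at he
  simpa [eval₂_map, eg, show ((eval₂RingHom g s).comp C) = g from RingHom.ext fun a => by simp] using he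

end Poly

section Geom

open scoped MonObj

variable {R R' : Type u} [CommRing R] [CommRing R'] (q : R →+* R') {mu : R} {p : ℕ} {h : SekSuwa.DivCond mu p}

local notation "𝔣" => Spec.map (CommRingCat.ofHom q)

variable {W W' : Over (Spec (CommRingCat.of R'))}

/-- scalars -/
abbrev sS (W : Over (Spec (CommRingCat.of R'))) : R' →+* Γ(W.left, ⊤) := fn W.hom

theorem sS_comp (m : W' ⟶ W) : m.left.appTop.hom.comp (sS W) = sS W' :=
  RingHom.ext fun r => by
    show m.left.appTop (fn W.hom r) = fn W'.hom r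
    rw [← fn_comp, Over.w m]

theorem scal_eq (W : Over (Spec (CommRingCat.of R'))) : scal 𝔣 W = (sS W).comp q := fn_SpecMap q W.hom

/-- coordinate of a point of the finite subgroup -/
abbrev tau (x : W ⟶ Red.bc 𝔣 (SekSuwa.GK R mu p h)) : Γ(W.left, ⊤) :=
  bfn (x ≫ (Over.pullback 𝔣).map (SekSuwa.incl R mu p h))

theorem tau_eq (x : W ⟶ Red.bc 𝔣 (SekSuwa.GK R mu p h)) :
    tau q x = kfn (((Over.mapPullbackAdj 𝔣).homEquiv _ _).symm x) := by
  rw [tau, bfn_eq_rfn, (Over.mapPullbackAdj 𝔣).homEquiv_naturality_right_symm]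

theorem tau_ext {x y : W ⟶ Red.bc 𝔣 (SekSuwa.GK R mu p h)} (e : tau q x = tau q y) : x = y := by
  rw [tau_eq, tau_eq] at e
  exact ((Over.mapPullbackAdj 𝔣).homEquiv _ _).symm.injective (kfn_ext e)

theorem tau_comp (m : W' ⟶ W) (x : W ⟶ Red.bc 𝔣 (SekSuwa.GK R mu p h)) :
    tau q (m ≫ x) = m.left.appTop (tau q x) := by
  rw [tau, Category.assoc, bfn_comp]

theorem tau_eval (x : W ⟶ Red.bc 𝔣 (SekSuwa.GK R mu p h)) :
    ((SekSuwa.psiPoly mu p h).map q).eval₂ (sS W) (tau q x) = 0 := by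
  rw [Polynomial.eval₂_map, ← scal_eq, tau_eq]
  exact eval_kfn (h := h) (T := (Over.map 𝔣).obj W) (((Over.mapPullbackAdj 𝔣).homEquiv W _).symm x)

theorem exists_tau (hp : 0 < p) (b : Γ(W.left, ⊤)) (hb : ((SekSuwa.psiPoly mu p h).map q).eval₂ (sS W) b = 0) :
    ∃ x : W ⟶ Red.bc 𝔣 (SekSuwa.GK R mu p h), tau q x = b := by
  rw [Polynomial.eval₂_map, ← scal_eq] at hb
  have hu : (1 + scal 𝔣 W mu * b) ^ p = 1 := by
    have := psiPoly_spec' (T := (Over.map 𝔣).obj W) (h := h) b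
    rw [show (SekSuwa.psiPoly mu p h).eval₂ (Groth.Agent.SekTriv.sc ((Over.map 𝔣).obj W)) b = 0 from hb, mul_zero] at this
    exact (sub_eq_zero.1 this.symm)
  obtain ⟨g, hg⟩ := exists_kfn (T := (Over.map 𝔣).obj W) (h := h) b (IsUnit.of_pow_eq_one hu hp.ne') hb
  refine ⟨(Over.mapPullbackAdj 𝔣).homEquiv _ _ g, ?_⟩
  rw [tau_eq, Equiv.symm_apply_apply, hg]

theorem tau_mul (x y : W ⟶ Red.bc 𝔣 (SekSuwa.GK R mu p h)) :
    tau q (x * y) = tau q x + tau q y + sS W (q mu) * tau q x * tau q y := by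
  show bfn _ = _
  rw [MonObj.mul_comp, bfn_mul, scal_eq]
  rfl

/-- a test scheme -/
abbrev tst {B : Type u} [CommRing B] (i : R' →+* B) : Over (Spec (CommRingCat.of R')) :=
  Over.mk (Spec.map (CommRingCat.ofHom i))

/-- functions on an affine test scheme -/
abbrev eB (B : Type u) [CommRing B] : B →+* Γ(Spec (CommRingCat.of B), ⊤) := fn (𝟙 _)

theorem sS_tst {B : Type u} [CommRing B] (i : R' →+* B) : sS (tst i) = (eB B).comp i := by
  show fn (Spec.map (CommRingCat.ofHom i)) = _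
  rw [← fn_SpecMap, Category.id_comp]

theorem eB_bijective (B : Type u) [CommRing B] : Function.Bijective (eB B) := by
  have : eB B = (Scheme.ΓSpecIso (CommRingCat.of B)).inv.hom := rfl
  rw [this]
  exact ConcreteCategory.bijective_of_isIso (Scheme.ΓSpecIso (CommRingCat.of B)).inv

theorem exists_tst {B : Type u} [CommRing B] (i : R' →+* B) (k : B →+* Γ(W.left, ⊤)) (hk : k.comp i = sS W) :
    ∃ m : W ⟶ tst i, ∀ b, m.left.appTop (eB B b) = k b := by
  refine ⟨Over.homMk (W.left.toSpecΓ ≫ Spec.map (CommRingCat.ofHom k)) (Groth.Agent.SekTorsor.fn_ext ?_), fun b => ?_⟩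
  · show fn ((_ ≫ _) ≫ Spec.map (CommRingCat.ofHom i)) = fn W.hom
    rw [fn_SpecMap, fn_toSpecΓ]
    exact hk
  · rw [← fn_comp]
    show fn ((W.left.toSpecΓ ≫ Spec.map (CommRingCat.ofHom k)) ≫ 𝟙 _) b = k b
    rw [Category.comp_id, fn_toSpecΓ]

open Polynomial in
theorem main [Nontrivial R'] (hp : 0 < p)
    (φ : Red.bc 𝔣 (SekSuwa.GK R mu p h) ⟶ Red.bc 𝔣 (Red.diag R ℤ)) [IsMonHom φ] :
    ∃ ψ : Red.bc 𝔣 (SekSuwa.G R mu) ⟶ Red.bc 𝔣 (Red.diag R ℤ),
      IsMonHom ψ ∧ (Over.pullback 𝔣).map (SekSuwa.incl R mu p h) ≫ ψ = φ := by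
  haveI : Nontrivial R := q.domain_nontrivial
  set Ψ := (SekSuwa.psiPoly mu p h).map q with hΨdef
  have hΨ : Ψ.Monic := (Groth.Agent.SekK.monic h hp).map q
  have hdeg : Ψ.natDegree = p := by
    rw [hΨdef, (Groth.Agent.SekK.monic h hp).natDegree_map, Groth.Agent.SekK.natDegree_eq h hp]
  obtain ⟨g, hg⟩ := exists_tau q (W := tst (AdjoinRoot.of Ψ)) (h := h) hp (eB _ (AdjoinRoot.root Ψ)) (by
    rw [sS_tst]
    show Ψ.eval₂ ((eB _).comp (AdjoinRoot.of Ψ)) _ = 0
    rw [← hom_eval₂, AdjoinRoot.eval₂_root, map_zero])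
  obtain ⟨c, hc⟩ := (eB_bijective (AdjoinRoot Ψ)).2 (dfn (g ≫ φ))
  obtain ⟨P₀, rfl⟩ := AdjoinRoot.mk_surjective c
  set P := P₀ %ₘ Ψ
  have hPd : P.natDegree < Ψ.natDegree := natDegree_modByMonic_lt _ hΨ (fun e => by
    rw [e, natDegree_one] at hdeg; omega)
  have hmk : AdjoinRoot.mk Ψ P₀ = AdjoinRoot.mk Ψ P := by
    rw [AdjoinRoot.mk_eq_mk]
    exact ⟨P₀ /ₘ Ψ, by linear_combination -(modByMonic_add_div P₀ Ψ)⟩
  rw [hmk] at hc
  -- the character at an arbitrary point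
  have hφ : ∀ {W : Over (Spec (CommRingCat.of R'))} (x : W ⟶ Red.bc 𝔣 (SekSuwa.GK R mu p h)),
      dfn (x ≫ φ) = P.eval₂ (sS W) (tau q x) := by
    intro W x
    obtain ⟨m, hm⟩ := exists_tst (W := W) (AdjoinRoot.of Ψ) (AdjoinRoot.lift (sS W) (tau q x) (tau_eval q x))
      (RingHom.ext fun r => AdjoinRoot.lift_of (tau_eval q x))
    have : m ≫ g = x := tau_ext q (by rw [tau_comp, hg, hm, AdjoinRoot.lift_root])
    rw [← this, Category.assoc, dfn_comp, ← hc, hm, AdjoinRoot.lift_mk, this]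
  -- the functional equation
  obtain ⟨g₁, hg₁⟩ := exists_tau q (W := tst ((AdjoinRoot.of (Ψ.map (AdjoinRoot.of Ψ))).comp (AdjoinRoot.of Ψ))) (h := h) hp
    (eB _ (AdjoinRoot.of (Ψ.map (AdjoinRoot.of Ψ)) (AdjoinRoot.root Ψ))) (by
    rw [sS_tst]
    show Ψ.eval₂ ((eB _).comp ((AdjoinRoot.of _).comp (AdjoinRoot.of Ψ))) _ = 0
    rw [← hom_eval₂, ← hom_eval₂, AdjoinRoot.eval₂_root, map_zero, map_zero])
  obtain ⟨g₂, hg₂⟩ := exists_tau q (W := tst ((AdjoinRoot.of (Ψ.map (AdjoinRoot.of Ψ))).comp (AdjoinRoot.of Ψ))) (h := h) hp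
    (eB _ (AdjoinRoot.root (Ψ.map (AdjoinRoot.of Ψ)))) (by
    rw [sS_tst]
    show Ψ.eval₂ ((eB _).comp ((AdjoinRoot.of _).comp (AdjoinRoot.of Ψ))) _ = 0
    rw [← hom_eval₂, ← Polynomial.eval₂_map, AdjoinRoot.eval₂_root, map_zero])
  have key := hφ (g₁ * g₂)
  rw [MonObj.mul_comp g₁ g₂ φ, dfn_mul, hφ g₁, hφ g₂, tau_mul, hg₁, hg₂, sS_tst] at key
  have hlaw : ∀ {S : Type u} [CommRing S] (k : R' →+* S) (s t : S),
      P.eval₂ k (s + t + k (q mu) * s * t) = P.eval₂ k s * P.eval₂ k t := by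
    intro S _ k s t
    refine law_eq Ψ hΨ P hPd (q mu) ?_ k s t
    rw [modByMonic_eq_zero_iff_dvd (hΨ.map _), ← AdjoinRoot.mk_eq_zero]
    show ((AdjoinRoot.mk (Ψ.map (AdjoinRoot.of Ψ))).comp (mapRingHom (AdjoinRoot.mk Ψ))) _ = 0
    set ΨB := Ψ.map (AdjoinRoot.of Ψ) with hΨB
    set i2 := (AdjoinRoot.of ΨB).comp (AdjoinRoot.of Ψ) with hi2
    set Φ := (AdjoinRoot.mk ΨB).comp (mapRingHom (AdjoinRoot.mk Ψ)) with hΦ
    have key' : P.eval₂ i2 (AdjoinRoot.of ΨB (AdjoinRoot.root Ψ)) * P.eval₂ i2 (AdjoinRoot.root ΨB) =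
        P.eval₂ i2 (AdjoinRoot.of ΨB (AdjoinRoot.root Ψ) + AdjoinRoot.root ΨB +
          i2 (q mu) * AdjoinRoot.of ΨB (AdjoinRoot.root Ψ) * AdjoinRoot.root ΨB) := by
      apply (eB_bijective _).1
      rw [map_mul, hom_eval₂, hom_eval₂, hom_eval₂]
      refine key.trans ?_
      simp only [map_add, map_mul, RingHom.comp_apply]
    have e1 : Φ.comp ((C : R'[X] →+* R'[X][X]).comp C) = i2 := RingHom.ext fun a => by simp [hΦ, hi2]
    have eX : Φ (C X) = AdjoinRoot.of ΨB (AdjoinRoot.root Ψ) := by simp [hΦ]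
    have eY : Φ X = AdjoinRoot.root ΨB := by simp [hΦ]
    have eP : Φ (C P) = P.eval₂ i2 (AdjoinRoot.of ΨB (AdjoinRoot.root Ψ)) := by
      rw [← e1, ← eX, ← hom_eval₂, ← hom_eval₂, eval₂_C_X]
    have eQ : Φ (P.map C) = P.eval₂ i2 (AdjoinRoot.root ΨB) := by
      rw [← e1, ← eY, ← hom_eval₂, ← eval₂_map, eval₂_C_X]
    have eμ : Φ (C (C (q mu))) = i2 (q mu) := RingHom.congr_fun e1 _
    rw [map_sub, sub_eq_zero, map_mul, hom_eval₂, e1, eP, eQ, map_add, map_add, map_mul, map_mul, eX, eY, eμ, key']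
  have hP0 : P.coeff 0 = 1 := by
    have h1 := hφ (W := tst (RingHom.id R')) 1
    rw [MonObj.one_comp φ, dfn_one, tau, MonObj.one_comp, bfn_one, eval₂_at_zero, sS_tst] at h1
    exact (eB_bijective R').1 (by simpa using h1.symm)
  -- the extension
  let G' := Red.bc 𝔣 (SekSuwa.G R mu)
  have hu : IsUnit (P.eval₂ (sS G') (bfn (𝟙 G'))) := by
    have hb := isUnit_bfn (lam := mu) (𝟙 G')
    rw [scal_eq, RingHom.comp_apply] at hb
    set v := (↑hb.unit⁻¹ : Γ(G'.left, ⊤))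
    have hv : (1 + sS G' (q mu) * bfn (𝟙 G')) * v = 1 := hb.mul_val_inv
    refine IsUnit.of_mul_eq_one (P.eval₂ (sS G') (-(bfn (𝟙 G') * v))) ?_
    rw [← hlaw, show bfn (𝟙 G') + -(bfn (𝟙 G') * v) + sS G' (q mu) * bfn (𝟙 G') * -(bfn (𝟙 G') * v) = 0 by
      linear_combination (-bfn (𝟙 G')) * hv, eval₂_at_zero, hP0, map_one]
  obtain ⟨ψ, hψ⟩ := exists_dfn (f := 𝔣) hu.unit
  have hψ' : ∀ {W : Over (Spec (CommRingCat.of R'))} (x : W ⟶ G'), dfn (x ≫ ψ) = P.eval₂ (sS W) (bfn x) := by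
    intro W x
    rw [dfn_comp, hψ, IsUnit.unit_spec]
    show x.left.appTop.hom _ = _
    rw [hom_eval₂, sS_comp x]
    exact congrArg (fun z => P.eval₂ (sS W) z) ((bfn_comp x (𝟙 G')).symm.trans (by rw [Category.comp_id]))
  have hmul : ∀ {W : Over (Spec (CommRingCat.of R'))} (x y : W ⟶ G'), (x * y) ≫ ψ = (x ≫ ψ) * (y ≫ ψ) := by
    intro W x y
    refine dfn_ext ?_
    rw [dfn_mul, hψ', hψ', hψ', bfn_mul, scal_eq, RingHom.comp_apply, hlaw]
  refine ⟨ψ, ⟨?_, ?_⟩, ?_⟩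
  · refine dfn_ext ?_
    rw [MonObj.one_eq_one, MonObj.one_eq_one, hψ', bfn_one, dfn_one, eval₂_at_zero, hP0, map_one]
  · rw [MonObj.mul_eq_mul, hmul, MonObj.mul_eq_mul, MonObj.comp_mul, tensorHom_fst, tensorHom_snd]
  · refine dfn_ext ?_
    have h1 := hφ (𝟙 _)
    rw [Category.id_comp] at h1
    rw [hψ', h1, tau, Category.id_comp]

end Geom

end

/-- Let R be a discrete valuation ring of characteristic zero and residue characteristic p containing a
primitive p²-th root of unity, λ, μ nonzero elements of the maximal ideal of R with μ satisfying the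
divisibility condition under which G_{μ,1} ⊂ G^(μ) = Spec R[T, 1/(1+μT)] (law s + t + μst) is
defined, and S_λ = Spec(R/λR). Then the map Hom_gr(G^(μ)|S_λ, 𝔾_m|S_λ) → Hom_gr(G_{μ,1}|S_λ,
𝔾_m|S_λ) induced by the inclusion G_{μ,1} → G^(μ) is surjective: every homomorphism of S_λ-group
schemes from the base change of G_{μ,1} to the (split) multiplicative group over S_λ is the
restriction of a homomorphism defined on the base change of G^(μ). -/
theorem result (R : Type u) [CommRing R] [IsDomain R] [IsDiscreteValuationRing R] [CharZero R]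
    (p : ℕ) [Fact p.Prime] [CharP (IsLocalRing.ResidueField R) p]
    (ζ : R) (hζ : IsPrimitiveRoot ζ (p ^ 2))
    (lam mu : R) (hlam : lam ≠ 0) (hlam' : lam ∈ IsLocalRing.maximalIdeal R)
    (hmu' : mu ∈ IsLocalRing.maximalIdeal R) (h : SekSuwa.DivCond mu p)
    (φ : Red.bc (Spec.map (CommRingCat.ofHom (Ideal.Quotient.mk (Ideal.span ({lam} : Set R))))) (SekSuwa.GK R mu p h) ⟶ Red.bc (Spec.map (CommRingCat.ofHom (Ideal.Quotient.mk (Ideal.span ({lam} : Set R))))) (Red.diag R ℤ)) [IsMonHom φ] :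
    ∃ ψ : Red.bc (Spec.map (CommRingCat.ofHom (Ideal.Quotient.mk (Ideal.span ({lam} : Set R))))) (SekSuwa.G R mu) ⟶ Red.bc (Spec.map (CommRingCat.ofHom (Ideal.Quotient.mk (Ideal.span ({lam} : Set R))))) (Red.diag R ℤ),
      IsMonHom ψ ∧ (Over.pullback (Spec.map (CommRingCat.ofHom (Ideal.Quotient.mk (Ideal.span ({lam} : Set R)))))).map (SekSuwa.incl R mu p h) ≫ ψ = φ := by
  haveI : Nontrivial (R ⧸ Ideal.span ({lam} : Set R)) := Ideal.Quotient.nontrivial_iff.2 fun e => by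
    rw [Ideal.span_singleton_eq_top] at e
    exact (IsLocalRing.mem_maximalIdeal _).1 hlam' e
  exact main (Ideal.Quotient.mk (Ideal.span ({lam} : Set R))) (Fact.out : p.Prime).pos φ

end Groth.Agent.S14689
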