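import Groth.Prelude.Def_SekSuwa2
import Groth.Prelude.Def_NonAbH2
import Mathlib.RingTheory.DiscreteValuationRing.Basic
import Mathlib.AlgebraicGeometry.Morphisms.Flat
import Mathlib.RingTheory.LocalRing.ResidueField.Defs
import Groth.Prelude.Def_CGrpSh
import Groth.Prelude.Def_Mor2
import Groth.Agent.FinHopf.GrpScheme

set_option backward.isDefEq.respectTransparency false
set_option backward.isDefEq.respectTransparency.types false
-- import your own Groth.Agent.* helpers here

set_option autoImplicit false
universe u
open CategoryTheory AlgebraicGeometry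
open SekSuwa
open CategoryTheory.MonObj CategoryTheory.CartesianMonoidalCategory

namespace Groth.Agent.S14691

/-- Let R be a discrete valuation ring of characteristic zero and residue characteristic p, and G a
commutative finite flat R-group scheme of order m (finite locally free of degree m over Spec R).
Then the endomorphism of Ext¹(G, 𝔾_m) induced by the m-th power map of the multiplicative group —
that is, multiplication by m on this group — is zero. Here Ext¹ is taken between the abelian sheaves
of points of G and of the split multiplicative group on the big fppf site of Spec R. (The published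
statement is made under a standing assumption that R contains a primitive p²-th root of unity; this
row does not assume it, the argument not using it.) -/
theorem result (R : Type u) [CommRing R] [IsDomain R] [IsDiscreteValuationRing R] [CharZero R]
    (p : ℕ) [Fact p.Prime] [CharP (IsLocalRing.ResidueField R) p]
    (G : Over (Spec (CommRingCat.of R))) [GrpObj G] [IsCommMonObj G]
    (m : ℕ) (hG : Mor2.IsFinLocFreeOfDeg m G.hom)
    (x : CGrpSh.ExtS Scheme.fppfPrecoverage G (Red.diag R ℤ) 1) : m • x = 0 := by
  haveI : IsFinite G.hom := hG.1.1
  haveI : Flat G.hom := hG.1.2.1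
  haveI : LocallyOfFinitePresentation G.hom := hG.1.2.2
  have hpow : (𝟙 G : G ⟶ G) ^ m = 1 := Groth.Agent.FinHopf.pow_rank_eq_one G m hG.2
  have hzero : m • (𝟙 (CGrpSh.pts Scheme.fppfPrecoverage G)) = 0 := by
    refine Sheaf.hom_ext (NatTrans.ext (funext fun T => AddCommGrpCat.ext fun y => ULift.ext _ _ ?_))
    let L : (CGrpSh.pts Scheme.fppfPrecoverage G ⟶ CGrpSh.pts Scheme.fppfPrecoverage G) →+
        Additive (T.unop ⟶ G) := AddMonoidHom.mk' (fun φ => (φ.hom.app T y).down) fun _ _ => rfl
    change L (m • 𝟙 _) = 0
    rw [map_nsmul]
    change m • y.down = 0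
    have h1 : y.down.toMul ^ m = 1 := by
      rw [show y.down.toMul ^ m = y.down.toMul ≫ (𝟙 G : G ⟶ G) ^ m from by
        rw [MonObj.comp_pow, Category.comp_id], hpow, MonObj.comp_one]
    exact congrArg Additive.ofMul h1
  rw [← Abelian.Ext.mk₀_id_comp x]
  let L : (CGrpSh.pts Scheme.fppfPrecoverage G ⟶ CGrpSh.pts Scheme.fppfPrecoverage G) →+
      CGrpSh.ExtS Scheme.fppfPrecoverage G (Red.diag R ℤ) 1 :=
    AddMonoidHom.mk' (fun φ => (Abelian.Ext.mk₀ φ).comp x (zero_add 1)) fun a b => by
      simp only [Abelian.Ext.mk₀_add, Abelian.Ext.add_comp]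
  change m • L (𝟙 _) = 0
  rw [← map_nsmul, hzero, map_zero]

end Groth.Agent.S14691
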