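import Groth.Statements.S1470
import Groth.Agent.FlatFunLib.RelAssFlatClosure

set_option autoImplicit false
universe u
open FlatMor

namespace Groth.Agent.S1470

open AlgebraicGeometry CategoryTheory Limits in
/-- Let f : X → S be locally of finite type, F a quasi-coherent O_X-module of finite type, and y a point
of the relative assassin of F with image t; let Y be the closure of y. For a point s of S and a
point x of the fibre of Y over s which is generic in an irreducible component of that fibre, if F is
flat over S at x then x belongs to the relative assassin of F and the local dimension of the fibre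
of Y over s at x equals the dimension of the fibre of Y over t (fibres taken as subspaces of X). -/
theorem result {X S : Scheme.{u}} (f : X ⟶ S) [LocallyOfFiniteType f]
    (F : X.Modules) (hF : Coh.IsCoh F) (y : X) (hy : y ∈ MoreMor.relAss f F) (s : S) (x : X) (hx : x ∈ closure ({y} : Set ↑X)) (hxs : f x = s)
    (hgen : ∃ C ∈ irreducibleComponents ↑(closure ({y} : Set ↑X) ∩ f ⁻¹' {s}), IsGenericPoint (⟨x, hx, hxs⟩ : ↑(closure ({y} : Set ↑X) ∩ f ⁻¹' {s})) C)
    (hfl : FlatMod.IsFlatOverAt f F x) :
    x ∈ MoreMor.relAss f F ∧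
      FlatMor.localDim ↑(closure ({y} : Set ↑X) ∩ f ⁻¹' {s}) ⟨x, hx, hxs⟩ = topologicalKrullDim ↑(closure ({y} : Set ↑X) ∩ f ⁻¹' {f y}) := by
  have hyx : y ⤳ x := specializes_iff_mem_closure.2 hx
  obtain ⟨hxA, hd⟩ := FlatFunLib.relAss_and_resTrdeg_of_flat f F hF.1 hF.2 hy hyx hfl fun w hw hws hsp =>
    FlatFunLib.min_of_isGenericPoint f hx hxs hgen w (specializes_iff_mem_closure.1 hw) (hws.trans hxs) hsp
  refine ⟨hxA, ?_⟩
  obtain ⟨d, hdy, hdle, hdge⟩ := FlatFunLib.exists_resTrdeg_chains f y
  obtain ⟨d', hd', hle', hge'⟩ := FlatFunLib.exists_resTrdeg_chains f x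
  obtain rfl : d' = d := Nat.cast_injective (hd'.symm.trans (hd.trans hdy))
  subst hxs
  obtain ⟨U, hxU, hU⟩ := FlatFunLib.exists_chainsLE_near_max f hyx d' hd' fun w hw hws hsp =>
    FlatFunLib.min_of_isGenericPoint f hx rfl hgen w (specializes_iff_mem_closure.1 hw) hws hsp
  rw [Unibranch.topologicalKrullDim_inter_eq f isClosed_closure.isLocallyClosed _ hdle hdge]
  exact le_antisymm ((Unibranch.localDim_inter_le_iff f isClosed_closure.isLocallyClosed ⟨hx, rfl⟩).mpr ⟨U, hxU, hU⟩)
    ((Unibranch.natCast_le_localDim_inter_iff f isClosed_closure.isLocallyClosed ⟨hx, rfl⟩).mpr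
      fun O hO => (hge'.of_specializes specializes_rfl hO).mono
        (Set.inter_subset_inter_right _ (closure_minimal (Set.singleton_subset_iff.2 hx) isClosed_closure)))

end Groth.Agent.S1470
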