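import Groth.Statements.S14701
import Groth.Agent.PlaneBlow.FibreRational

set_option backward.isDefEq.respectTransparency false
set_option linter.style.haveILetI false

set_option autoImplicit false
universe u
open CategoryTheory CategoryTheory.Limits AlgebraicGeometry
open Resolve

namespace Groth.Agent.S14701

/-- Let k be an algebraically closed field and X an integral normal scheme of dimension two admitting a
closed immersion into some P^n_k over k. Let φ : Y → X be a k-morphism from an integral scheme Y of
dimension two with all local rings regular, itself admitting a closed immersion into some P^m_k over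
k, which restricts to an isomorphism over an open subset U of X with finite complement, and assume
R^1 φ_* O_Y = 0 (first right derived functor of the direct image on abelian sheaves), so that the
singular points of X are rational singularities. Let x be a point of X whose local ring is not
regular and E_1, …, E_n pairwise distinct integral one-dimensional closed subschemes of Y mapped by
φ to x such that every integral one-dimensional closed subscheme of Y mapped to x has the support of
one of them. Then every E_i is isomorphic to the projective line P^1_k, and Σ_{i<j} (E_i · E_j) = n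
- 1, so that the incidence graph of the E_i (connected, as the fibre is connected) is a tree; here
(E_i · E_j) = χ(O_Y) - χ(I_i) - χ(I_j) + χ(I_i ⊗ I_j), I_i the ideal sheaves (packaged as
FGA.intNum). (The published statement is for a resolved model, whose exceptional curves are
nonsingular with normal crossings, and takes rationality in any of five forms it quotes as
equivalent; this row assumes the vanishing of R^1 φ_* O_Y, the first of them, and the passage from
it to the nonpositivity of arithmetic genera of exceptional cycles used in the proof is taken from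
the literature.) -/
theorem result (k : Type u) [Field k] [IsAlgClosed k] (X : Scheme.{u}) [X.Over (Spec (CommRingCat.of k))]
    [IsIntegral X] (hdim : topologicalKrullDim X = 2)
    (hproj : ∃ (n : ℕ) (ι : X ⟶ CohB1.ProjSpace n k), IsClosedImmersion ι ∧ ι ≫ CohB1.ProjSpace.toSpec n k = (X ↘ (Spec (CommRingCat.of k))))
    (hnorm : Pi1.IsNormalScheme X) (U : X.Opens) (hU : ((U : Set X)ᶜ).Finite)
    (Y : Scheme.{u}) (φ : Y ⟶ X) [IsIntegral Y] (hdimY : topologicalKrullDim Y = 2)
    (hregY : ∀ y : Y, IsRegularLocalRing (Y.presheaf.stalk y))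
    (hprojY : ∃ (n : ℕ) (ι : Y ⟶ CohB1.ProjSpace n k), IsClosedImmersion ι ∧ ι ≫ CohB1.ProjSpace.toSpec n k = φ ≫ (X ↘ (Spec (CommRingCat.of k))))
    (hisoY : IsIso (φ ∣_ U))
    (hrat : IsZero ((Coh.RpushAb φ 1).obj (Coh.toAb (Coh.structureModule Y))))
    (x : X) (hx : ¬ IsRegularLocalRing (X.presheaf.stalk x))
    (n : ℕ) (E : Fin n → Y.IdealSheafData) (hEint : ∀ i, IsIntegral (E i).subscheme)
    (hEdim : ∀ i, topologicalKrullDim ((E i).support : Set Y) = 1)
    (hEpt : ∀ i, φ.base '' ((E i).support : Set Y) = {x})
    (hEinj : Function.Injective fun i => ((E i).support : Set Y))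
    (hEall : ∀ F : Y.IdealSheafData, IsIntegral F.subscheme → topologicalKrullDim (F.support : Set Y) = 1 →
      φ.base '' (F.support : Set Y) = {x} → ∃ i, (F.support : Set Y) = (E i).support) :
    letI : Y.Over (Spec (CommRingCat.of k)) := ⟨φ ≫ (X ↘ (Spec (CommRingCat.of k)))⟩
    (∀ i, Nonempty ((E i).subscheme ≅ CohB1.ProjSpace 1 k)) ∧
      (∑ i : Fin n, ∑ j : Fin n,
          if i < j then FGA.intNum k Y 2 ![ClSub.idealMod (E i), ClSub.idealMod (E j)] (Coh.structureModule Y) else 0) =
        (n : ℤ) - 1 := by
  letI : Y.Over (Spec (CommRingCat.of k)) := ⟨φ ≫ (X ↘ (Spec (CommRingCat.of k)))⟩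
  obtain ⟨hne, hcomp⟩ := Groth.Agent.S14698.result k X hdim hproj hnorm U hU Y φ hdimY hregY hprojY hisoY x hx
  have h700 := Groth.Agent.S14700.result k Y hdimY hprojY hregY n E hEint hEdim hEinj
  obtain ⟨m₀, ι, hι, hιk⟩ := hproj
  obtain ⟨m, κ, hκ, hκk⟩ := hprojY
  haveI := ProjMor.isProper_toSpec m₀ k
  haveI := ProjMor.isProper_toSpec m k
  haveI : IsProper (X ↘ Spec (CommRingCat.of k)) := by rw [← hιk]; infer_instance
  haveI : IsProper (φ ≫ (X ↘ Spec (CommRingCat.of k))) := by rw [← hκk]; infer_instance
  haveI : IsProper (Y ↘ Spec (CommRingCat.of k)) := inferInstanceAs (IsProper (φ ≫ (X ↘ Spec (CommRingCat.of k))))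
  haveI : IsProper φ := IsProper.of_comp φ (X ↘ Spec (CommRingCat.of k))
  haveI : Smooth (Y ↘ Spec (CommRingCat.of k)) := Castel.smooth_of_regular_stalks _ hregY
  haveI : JacobsonSpace X := LocallyOfFiniteType.jacobsonSpace (X ↘ Spec (CommRingCat.of k))
  haveI := CurveRR.isNoetherian_of_proper k X
  haveI := CurveRR.isNoetherian_of_proper k Y
  haveI := hisoY
  have hηU : genericPoint X ∈ U := by
    by_contra h
    exact PlaneBlow.ne_genericPoint_of_isClosed k hdim (PlaneBlow.isClosed_of_notMem U hU h) rfl
  obtain ⟨z₀, hz₀⟩ := (φ ∣_ U).surjective ⟨genericPoint X, hηU⟩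
  have hφη : φ (genericPoint Y) = genericPoint X := by
    have h0 : φ z₀.1 = genericPoint X := (morphismRestrict_base_coe φ U z₀).symm.trans (congrArg Subtype.val hz₀)
    have h1 : φ (genericPoint Y) ⤳ genericPoint X := h0 ▸ (genericPoint_specializes z₀.1).map φ.continuous
    exact (h1.antisymm (genericPoint_specializes _)).eq
  have hxU : x ∉ U := fun h => by
    obtain ⟨z, hz⟩ := (φ ∣_ U).surjective ⟨x, h⟩
    have hzx : φ z.1 = x := (morphismRestrict_base_coe φ U z).symm.trans (congrArg Subtype.val hz)
    subst hzx
    haveI : IsIso (φ.stalkMap z.1) := by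
      rw [← MorphismProperty.isomorphisms.iff, ← (MorphismProperty.isomorphisms CommRingCat).arrow_mk_iso_iff
        (morphismRestrictStalkMap φ U ⟨z.1, h⟩)]
      exact inferInstanceAs (IsIso ((φ ∣_ U).stalkMap _))
    haveI := hregY z.1
    exact hx (IsRegularLocalRing.of_ringEquiv (asIso (φ.stalkMap z.1)).commRingCatIsoToRingEquiv.symm)
  have hxc := PlaneBlow.isClosed_of_notMem U hU hxU
  -- the fibre is the union of the curves
  let I : Y.IdealSheafData := ⨅ i, E i
  have hIsupp : (I.support : Set Y) = φ.base ⁻¹' ({x} : Set X) := by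
    ext p
    constructor
    · intro hp
      rw [show I = ∏ i, E i ^ (1 : ℕ) from (PlaneBlow.iInf_eq_prod k hdimY E hEint hEdim hEinj).trans
        (Finset.prod_congr rfl fun i _ => (pow_one _).symm)] at hp
      obtain ⟨i, -, hi⟩ := PlaneBlow.mem_support_prod_pow E (fun _ => 1) hp
      exact (hEpt i).le ⟨p, hi, rfl⟩
    · intro hp
      let F : Set Y := φ.base ⁻¹' ({x} : Set X)
      have hFc : IsClosed F := hxc.preimage φ.continuous
      let Z : Set F := irreducibleComponent (⟨p, hp⟩ : F)
      have hZ : Z ∈ irreducibleComponents F := irreducibleComponent_mem_irreducibleComponents _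
      have hS : IsIrreducible (Subtype.val '' Z) := hZ.1.image _ continuous_subtype_val.continuousOn
      have hSc : IsClosed (Subtype.val '' Z) :=
        hFc.isClosedEmbedding_subtypeVal.isClosedMap _ (isClosed_of_mem_irreducibleComponents Z hZ)
      obtain ⟨ξ, hξ⟩ := QuasiSober.sober hS hSc
      have hξd : topologicalKrullDim (closure {ξ} : Set Y) = ((1 : ℕ) : WithBot ℕ∞) := by
        rw [hξ.def, ← IsHomeomorph.topologicalKrullDim_eq _
          ((Topology.IsEmbedding.subtypeVal (p := fun y => y ∈ F)).homeomorphImage Z).isHomeomorph, hcomp Z hZ]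
        rfl
      obtain ⟨q, -, rfl⟩ : ξ ∈ Subtype.val '' Z := hξ.mem
      obtain ⟨i, hi⟩ := hEall (SurfAmple.curveOf q.1) inferInstance (SurfAmple.support_dim_curveOf hξd) (by
        rw [SurfAmple.support_curveOf, hξ.def]
        refine Set.Subset.antisymm ?_ ?_
        · rintro _ ⟨_, ⟨z, -, rfl⟩, rfl⟩
          exact z.2
        · rintro _ rfl
          exact ⟨p, ⟨_, mem_irreducibleComponent, rfl⟩, hp⟩)
      rw [SurfAmple.support_curveOf, hξ.def] at hi
      exact Scheme.IdealSheafData.support_antitone (iInf_le E i) (hi.le ⟨_, mem_irreducibleComponent, rfl⟩)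
  have hconn : _root_.IsConnected (I.support : Set Y) := by
    haveI : IsIso (φ.stalkMap (genericPoint Y)) := by
      rw [← MorphismProperty.isomorphisms.iff, ← (MorphismProperty.isomorphisms CommRingCat).arrow_mk_iso_iff
        (morphismRestrictStalkMap φ U ⟨genericPoint Y, show φ (genericPoint Y) ∈ U from hφη ▸ hηU⟩)]
      exact inferInstanceAs (IsIso ((φ ∣_ U).stalkMap _))
    haveI := Groth.Agent.S15544.result hnorm φ hφη inferInstance x
    rw [hIsupp]
    exact isConnected_iff_connectedSpace.2 ((φ.fiberHomeo x).surjective.connectedSpace (φ.fiberHomeo x).continuous)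
  obtain ⟨hle, himp⟩ := h700 hconn
  -- the union has Euler characteristic one
  have hq : Curv2.euler k Y (ClSub.quotMod I) = 1 := by
    have hq1 := PlaneBlow.h1_quot_fibre k hdimY φ rfl U hηU hrat hxc I fun p hp => hIsupp.le hp
    obtain ⟨hq2, -⟩ := PlaneBlow.h2_quot_union k hdimY E hEint hEdim hEinj
    have hred : IsReduced I.subscheme := by
      show IsReduced (⨅ i, E i).subscheme
      rw [iInf_congr fun i => (haveI := hEint i; PlaneBlow.eq_vanishingIdeal_support (E i)),
        ← Scheme.IdealSheafData.vanishingIdeal_iSup]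
      exact DvrDom.isReduced_vanishingIdeal_subscheme _
    haveI : ConnectedSpace I.subscheme := by
      rw [← Scheme.IdealSheafData.range_subschemeι] at hconn
      haveI := isConnected_iff_connectedSpace.1 hconn
      exact I.subschemeι.isClosedEmbedding.isEmbedding.toHomeomorph.symm.surjective.connectedSpace
        I.subschemeι.isClosedEmbedding.isEmbedding.toHomeomorph.symm.continuous
    letI : I.subscheme.Over (Spec (CommRingCat.of k)) := ⟨I.subschemeι ≫ (Y ↘ Spec (CommRingCat.of k))⟩
    haveI : IsProper (I.subscheme ↘ Spec (CommRingCat.of k)) :=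
      inferInstanceAs (IsProper (I.subschemeι ≫ (Y ↘ Spec (CommRingCat.of k))))
    have hq0 : CurveRR.h k (ClSub.quotMod I) 0 = 1 := (ConnDiv.h0_quot (k := k) _).trans ConnDiv.h0_of_connected
    rw [SurfAdj.euler_eq3 k hdimY, hq0, hq1, show CurveRR.h k (ClSub.quotMod I) 2 = 0 from hq2]
    rfl
  obtain ⟨hone, htree⟩ := himp hq
  refine ⟨fun i => ?_, htree⟩
  haveI := hEint i
  letI : (E i).subscheme.Over (Spec (CommRingCat.of k)) := ⟨(E i).subschemeι ≫ (Y ↘ Spec (CommRingCat.of k))⟩
  haveI : IsProper ((E i).subscheme ↘ Spec (CommRingCat.of k)) :=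
    inferInstanceAs (IsProper ((E i).subschemeι ≫ (Y ↘ Spec (CommRingCat.of k))))
  haveI : IsNoetherian (E i).subscheme := CurveRR.isNoetherian_of_proper k (E i).subscheme
  have hd1 : topologicalKrullDim (E i).subscheme = 1 := by
    rw [← StabK3.dim_support_ker (E i).subschemeι, Scheme.IdealSheafData.ker_subschemeι]
    exact hEdim i
  refine PlaneBlow.nonempty_iso_projLine k hd1 ?_
  have hc := Nakai.cartier_of_curve k hdimY (E i) (hEdim i)
  have he := hone i
  rw [SurfAdj.euler_eq3 k hdimY, (ConnDiv.h0_quot (k := k) (E i)).trans ConnDiv.h0_structure,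
    CurveRR.h_eq_zero (PlaneBlow.subsingleton_h2_quot k hdimY hc)] at he
  refine (StabK3.h_push k (E i).subschemeι rfl (RefStalk.isCoh_structureModule (X := (E i).subscheme)).1 1).symm.trans ?_
  show CurveRR.h k (ClSub.quotMod (E i)) 1 = 0
  omega

end Groth.Agent.S14701
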