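import Groth.Statements.S14706
import Groth.Agent.BigSiteLib.SmNilMain

set_option autoImplicit false
universe u
open GaDual

namespace Groth.Agent.S14706

open CategoryTheory AlgebraicGeometry in
/-- Let X be an affine scheme, G a smooth commutative X-group scheme which is quasi-compact and
quasi-separated over X (so of finite presentation), and X_red ⟶ X the closed subscheme defined by
the nilradical. Then for every n > 0 the restriction map H^n(X, G) ⟶ H^n(X_red, G) is bijective.
Cohomology is fppf cohomology of the sheaf of points of G on the big fppf site (for smooth
commutative G it agrees with étale cohomology); the target is the cohomology over X_red of the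
restriction of that sheaf to the big fppf site of X_red, which is the sheaf of points of G ×_X
X_red. (The published statement asks only that G be smooth and commutative; its reduction to a
Noetherian base descends G to a finitely generated subring, which uses finite presentation, so G is
taken quasi-compact and quasi-separated over X here.) -/
theorem result (X : Scheme.{u}) [IsAffine X]
    (G : Over X) [GrpObj G] [IsCommMonObj G] [Smooth G.hom] [QuasiCompact G.hom] [QuasiSeparated G.hom]
    (n : ℕ) (hn : 0 < n) :
    Function.Bijective
      (HRes.res Scheme.fppfPrecoverage (CGrpSh.pts Scheme.fppfPrecoverage G) n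
        (Over.mk X.nilradical.subschemeι)) := by
  have hj : ∀ r, X.nilradical.subschemeι.appTop r = 0 → IsNilpotent r := by
    intro r hr
    have h := X.nilradical.ker_subschemeι_app ⟨⊤, isAffineOpen_top X⟩
    have hm : r ∈ RingHom.ker (X.nilradical.subschemeι.app ⊤).hom := hr
    rw [h] at hm
    exact hm
  haveI : Surjective X.nilradical.subschemeι := BigSiteLib.surjective_of_ker_nil _ hj
  obtain ⟨m, rfl⟩ : ∃ m, n = m + 1 := ⟨n - 1, by omega⟩
  exact BigSiteLib.bijective_pull_of_nil _ hj G m

end Groth.Agent.S14706
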