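import Groth.Statements.S1471
import Groth.Agent.RedSepLib.Basic
import Mathlib

set_option autoImplicit false
universe u
open FlatMor

namespace Groth.Agent.S1471

open AlgebraicGeometry CategoryTheory Limits in
/-- Let f : X → Y and η a generic point of an irreducible component of Y. Then the fibre over η of the
composite X_red → X → Y is reduced; since it is a closed subscheme of X_η with the same underlying
set, this says (X_η)_red = (X_red)_η. -/
theorem result {X Y : Scheme.{u}} (f : X ⟶ Y) (η : Y) (W : Set ↑Y) (hW : W ∈ irreducibleComponents ↑Y) (hη : IsGenericPoint η W) :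
    IsReduced ((X.nilradical.subschemeι ≫ f).fiber η) := by
  haveI : IsReduced X.nilradical.subscheme := RedSepLib.isReduced_subscheme_nilradical X
  generalize X.nilradical.subschemeι ≫ f = g
  generalize hZ : X.nilradical.subscheme = Z at g
  haveI : IsReduced Z := hZ ▸ inferInstance
  haveI hflat : Flat (Y.fromSpecStalk η) := by
    have hU := isAffineOpen_opensRange (Y.affineCover.f (Y.affineCover.idx η))
    rw [← hU.fromSpecStalk_eq_fromSpecStalk (Y.affineCover.covers η)]
    delta IsAffineOpen.fromSpecStalk
    haveI : Flat (Spec.map (Y.presheaf.germ _ η (Y.affineCover.covers η))) := by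
      rw [HasRingHomProperty.Spec_iff (P := (@Flat : MorphismProperty Scheme.{u}))]
      letI := TopCat.Presheaf.algebra_section_stalk Y.presheaf (U := (Y.affineCover.f (Y.affineCover.idx η)).opensRange) ⟨η, Y.affineCover.covers η⟩
      haveI := hU.isLocalization_stalk ⟨η, Y.affineCover.covers η⟩
      exact RingHom.flat_algebraMap_iff.2 (IsLocalization.flat _ (hU.primeIdealOf ⟨η, Y.affineCover.covers η⟩).asIdeal.primeCompl)
    infer_instance
  let fss := Y.fromSpecStalk η
  haveI : Flat (pullback.snd fss g) := MorphismProperty.pullback_snd _ _ hflat
  haveI : IsPreimmersion (pullback.snd fss g) := MorphismProperty.pullback_snd _ _ inferInstance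
  haveI : IsReduced (pullback fss g) := by
    have hst : ∀ p, _root_.IsReduced ((pullback fss g).presheaf.stalk p) := by
      intro p
      let φ := ((pullback.snd fss g).stalkMap p).hom
      have hφ : φ.Flat := Flat.stalkMap _ p
      have hs : Function.Surjective φ := (pullback.snd fss g).stalkMap_surjective p
      letI := φ.toAlgebra
      haveI : Module.Flat (Z.presheaf.stalk (pullback.snd fss g p)) ((pullback fss g).presheaf.stalk p) := hφ
      haveI : IsLocalHom (algebraMap (Z.presheaf.stalk (pullback.snd fss g p)) ((pullback fss g).presheaf.stalk p)) :=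
        inferInstanceAs (IsLocalHom φ)
      haveI := Module.FaithfullyFlat.of_flat_of_isLocalHom (A := Z.presheaf.stalk (pullback.snd fss g p)) (B := (pullback fss g).presheaf.stalk p)
      have hi : Function.Injective φ := FaithfulSMul.algebraMap_injective _ _
      exact isReduced_of_injective (RingEquiv.ofBijective φ ⟨hi, hs⟩).symm (RingEquiv.injective _)
    exact isReduced_of_isReduced_stalk _
  let r := Spec.map (Y.residue η)
  haveI : IsClosedImmersion r := IsClosedImmersion.spec_of_surjective _ (Y.residue_surjective η)
  haveI : Surjective r := ⟨fun s => by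
    haveI : Nonempty (Spec (Y.residueField η)) := inferInstance
    obtain ⟨t⟩ := ‹Nonempty (Spec (Y.residueField η))›
    refine ⟨t, (Y.fromSpecStalk η).isEmbedding.injective ?_⟩
    have h1 : ∀ y, y ⤳ η → y = η := by
      intro y hy
      have hW' : W ⊆ closure {y} := by
        rw [← hη.def]
        exact closure_minimal (Set.singleton_subset_iff.2 hy.mem_closure) isClosed_closure
      have : closure {y} = W := le_antisymm (hW.2 isIrreducible_singleton.closure hW') hW'
      exact IsGenericPoint.eq (show IsGenericPoint y W from this) hη
    have h2 : ∀ q, Y.fromSpecStalk η q = η := fun q => h1 _ (by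
      have : Y.fromSpecStalk η q ∈ Set.range (Y.fromSpecStalk η) := ⟨q, rfl⟩
      rwa [Scheme.range_fromSpecStalk] at this)
    rw [h2, h2]⟩
  haveI : IsClosedImmersion (pullback.snd r (pullback.fst fss g)) := MorphismProperty.pullback_snd _ _ inferInstance
  haveI : Surjective (pullback.snd r (pullback.fst fss g)) := MorphismProperty.pullback_snd _ _ inferInstance
  haveI : IsIso (pullback.snd r (pullback.fst fss g)) := isIso_of_isClosedImmersion_of_surjective _
  let e : g.fiber η ≅ pullback fss g :=
    pullbackSymmetry g (Y.fromSpecResidueField η) ≪≫ (pullbackRightPullbackFstIso fss g r).symm ≪≫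
      asIso (pullback.snd r (pullback.fst fss g))
  exact isReduced_of_isOpenImmersion e.hom

end Groth.Agent.S1471
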