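import Groth.Statements.S14717
import Groth.Agent.GITss.Avoid

set_option autoImplicit false
set_option backward.isDefEq.respectTransparency false
universe u
open CategoryTheory MonoidalCategory CartesianMonoidalCategory MonObj GrpObj AlgebraicGeometry Topology
open GIT

namespace Groth.Agent.S14717

/-- Let k be a field of characteristic zero, G a connected reductive algebraic group over k (affine,
smooth, with connected reductive geometric fibre) acting by σ on a finite-type k-scheme X (not
necessarily separated), and L a G-linearised line bundle on X, taken in total-space form (a line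
bundle V → X with a linear atlas and a fibrewise-linear lifting of the action; sections of L^n are
the weight-n functions on V, invariant sections those fixed by the lifted action, X_s the locus over
which s does not vanish identically on the fibre). Let x_1, …, x_m be finitely many semi-stable
points of X. Then there is an invariant section s of some L^n, n ≥ 1, such that X_s is an affine
open containing all the x_i; if moreover all the x_i are stable (no condition on stabilisers), s can
be chosen so that the action of G on X_s is closed. (The published statement is for any reductive G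
in any characteristic; this row is the characteristic-zero case with G connected. L is taken in
total-space form.) -/
theorem result (k : Type u) [Field k] [CharZero k]
    (G X : Over (Spec (CommRingCat.of k))) [GrpObj G] (hG : Red.IsReductive G)
    [LocallyOfFiniteType X.hom] [QuasiCompact X.hom]
    (a : AlgGrp.Action G X) (B : GLinSh.LinBun G a)
    (s : Finset X.left) (hs : ∀ x ∈ s, B.IsSemistablePt x) :
    ∃ (n : ℕ) (f : Γ(B.V.left, ⊤)) (Uf : X.left.Opens), 1 ≤ n ∧ B.IsInvSection n f ∧
      (Uf : Set X.left) = GLinSh.nonvanishing B.π f ∧ IsAffineOpen Uf ∧ (∀ x ∈ s, x ∈ Uf) ∧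
      ((∀ x ∈ s, B.IsStablePt x) → GLinSh.ClosedOrbitsOn a Uf) := by
  classical
  by_cases hst : ∀ x ∈ s, B.IsStablePt x
  · obtain ⟨W, ⟨n, f, hf, hn, hW, haff⟩, hsW, hWp⟩ := Groth.Agent.GITss.exists_semiOpen_finset (B := B)
      (GLinSh.ClosedOrbitsOn a) s fun x hx => (Groth.Agent.GITss.mem_sLocus_iff x).1 (hst x hx)
    refine ⟨n, f, W, hn, hf, by rw [← hW]; rfl, haff, hsW, fun _ => ?_⟩
    refine Groth.Agent.GITss.closedOrbitsOn_of_cover fun y hy => ?_
    obtain ⟨W', hW', hcl, hy'⟩ := hWp y hy
    exact ⟨W', hy', Groth.Agent.GITss.qFamily_semiOpen.stable W' hW', hcl⟩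
  · obtain ⟨W, ⟨n, f, hf, hn, hW, haff⟩, hsW, -⟩ := Groth.Agent.GITss.exists_semiOpen_finset (B := B)
      (fun _ => True) s fun x hx => by
        obtain ⟨W, hW, hxW⟩ := (Groth.Agent.GITss.mem_ssLocus_iff x).1 (hs x hx)
        exact ⟨W, hW, trivial, hxW⟩
    exact ⟨n, f, W, hn, hf, by rw [← hW]; rfl, haff, hsW, fun h => absurd h hst⟩

end Groth.Agent.S14717
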