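import Groth.Statements.S14718
import Groth.Agent.GITLin.PullAtlas
import Groth.Agent.S11441

set_option autoImplicit false
universe u
open CategoryTheory MonoidalCategory CartesianMonoidalCategory MonObj GrpObj AlgebraicGeometry Topology
open GIT

namespace Groth.Agent.S14718

/-- Let k be a field, G a group scheme over k acting by σ on a k-scheme X, φ : X → Y an invariant
k-morphism (φ ∘ σ = φ ∘ p₂) which is affine, and M an ample invertible sheaf on Y. Then there is a
G-linearised line bundle L on X, taken in total-space form, with X = X^ss(L): every point x has an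
invariant section s of some L^n, n ≥ 1, with s(x) ≠ 0 and X_s affine. If moreover (Y, φ) is a
geometric quotient of X by G, then X = X^s(L) for the same L (the action of G on those X_s is
closed; no condition on stabilisers). (The published statement assumes G reductive, X of finite type
and (Y, φ) a categorical quotient with Y quasi-projective; this row keeps only what the construction
uses: φ invariant and affine, M ample. L is taken in total-space form.) -/
theorem result (k : Type u) [Field k]
    (G X Y : Over (Spec (CommRingCat.of k))) [GrpObj G]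
    (a : AlgGrp.Action G X) (φ : X ⟶ Y) (hφ : GIT.IsInvariant a φ) [IsAffineHom φ.left]
    (M : Y.left.Modules) (hM : CohB1.IsAmple M) :
    ∃ B : GLinSh.LinBun G a, B.ssLocus = Set.univ ∧ (GIT.IsGeomQuot a φ → B.sLocus = Set.univ) := by
  obtain ⟨A, C, hA⟩ := GITLin.exists_bundle M hM.1
  refine ⟨GITLin.bunP a φ A C hφ, ?_⟩
  have key : ∀ x : X.left, ∃ (n : ℕ) (f : Γ((GITLin.bunP a φ A C hφ).V.left, ⊤)), 1 ≤ n ∧
      (GITLin.bunP a φ A C hφ).IsInvSection n f ∧ x ∈ GLinSh.nonvanishing (GITLin.bunP a φ A C hφ).π f ∧
      ∃ U : X.left.Opens, (U : Set X.left) = GLinSh.nonvanishing (GITLin.bunP a φ A C hφ).π f ∧ IsAffineOpen U := by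
    intro x
    obtain ⟨n, s, hx, hs⟩ := hM.2.2 (φ.left x)
    obtain ⟨F, hF⟩ := hA (n + 1) s
    have hnv := GITLin.nonvanishing_bunP φ A C F _ hF
    exact ⟨n + 1, _, Nat.succ_pos n, GITLin.isInvSection_bunP a φ A C hφ F
      (fun i => (hF i).imp fun c h => h.1), hnv.symm.subset hx, _, hnv.symm, hs.preimage φ.left⟩
  refine ⟨Set.eq_univ_of_forall fun x => key x, fun hq => Set.eq_univ_of_forall fun x => ?_⟩
  obtain ⟨n, f, hn, hf, hx, U, hU, hUa⟩ := key x
  exact ⟨n, f, hn, hf, hx, U, hU, hUa, fun Ω _ _ T eT g _ =>
    (S11441.result _ G X Y a φ hq Ω T eT g).preimage continuous_subtype_val⟩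

end Groth.Agent.S14718
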