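import Groth.Statements.S1472
import Groth.Agent.NormFib.Basic
import Groth.Agent.S1356

set_option autoImplicit false
universe u
open FlatMor

namespace Groth.Agent.S1472

open AlgebraicGeometry CategoryTheory Limits in
/-- Let h : Y → S be of finite presentation and normal (affine-locally its ring maps are flat with
geometrically normal fibres), let s be a point of S and T an open of the fibre over s which is
geometrically irreducible over the residue field of s. Then there are an affine elementary étale
neighbourhood (S', s') of (S, s) and a quasi-compact open V of the base change of Y to S' such that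
all fibres of V → S' are geometrically integral and the points of V over s' are exactly the points
of the base change over s' whose image in Y lies in T. -/
theorem result {Y S : Scheme.{u}} (h : Y ⟶ S) [LocallyOfFinitePresentation h] [QuasiCompact h] [QuasiSeparated h]
    (hn : ∀ (U : Y.Opens) (V : S.Opens) (hU : IsAffineOpen U) (hV : IsAffineOpen V) (hUV : U ≤ h ⁻¹ᵁ V),
      letI := (h.appLE V U hUV).hom.toAlgebra
      EGA4.IsNormalHom Γ(S, V) Γ(Y, U))
    (s : S) (T : (h.fiber s).Opens) (hT : GeometricallyIrreducible (T.ι ≫ h.fiberToSpecResidueField s)) :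
    ∃ (S' : Scheme.{u}) (g : S' ⟶ S) (s' : S'), IsAffine S' ∧ Hens2.IsEtaleNbhd g s' s ∧
      ∃ V : (pullback h g).Opens, IsCompact (V : Set ↑(pullback h g)) ∧ GeometricallyIntegral (V.ι ≫ pullback.snd h g) ∧
        ∀ y' : ↑(pullback h g), pullback.snd h g y' = s' → (y' ∈ V ↔ pullback.fst h g y' ∈ (h.fiberι s) '' (T : Set ↑(h.fiber s))) := by
  haveI := Groth.Agent.NormFib.IsNormalMor.flat hn
  haveI := Groth.Agent.NormFib.IsNormalMor.geometricallyReduced hn
  haveI : GeometricallyConnected (T.ι ≫ h.fiberToSpecResidueField s) :=
    ⟨fun K _ v Z a b hb => by haveI := hT.geometrically_irreducibleSpace v a b hb; infer_instance⟩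
  obtain ⟨S', g, s', hS', hg, V, hVc, hVconn, hV⟩ := Groth.Agent.S1356.result h s T inferInstance
  haveI := hS'
  haveI := hVconn
  haveI : CompactSpace V.toScheme := isCompact_iff_compactSpace.1 hVc
  haveI : QuasiCompact (V.ι ≫ pullback.snd h g) := inferInstance
  exact ⟨S', g, s', hS', hg, V, hVc,
    Groth.Agent.NormFib.IsNormalMor.geometricallyIntegral_open hn g V, hV⟩

end Groth.Agent.S1472
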