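import Groth.Statements.S14725
import Groth.Agent.GeomQuotAff.Main
import Groth.Agent.GITss.StableReg
import Groth.Agent.S11437
import Groth.Agent.TMul.AmpleBasis

set_option autoImplicit false
set_option backward.isDefEq.respectTransparency false
universe u
open CategoryTheory MonoidalCategory CartesianMonoidalCategory MonObj GrpObj AlgebraicGeometry Topology
open GIT

namespace Groth.Agent.S14725

/-- Let k be an algebraically closed field of characteristic zero, G a connected reductive algebraic
group over k acting by σ on a connected scheme X smooth and of finite type over k (not necessarily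
separated), such that the stabiliser of the generic point xg of X is 0-dimensional (the stabiliser
group scheme of the κ(xg)-valued point xg has dimension 0), and let U be an invariant open subset of
X (σ⁻¹U = p₂⁻¹U) with the action restricted to U. Then the following are equivalent: (ii) a
geometric quotient (Y, φ) of U by G exists with φ affine and Y quasi-projective (of finite type over
k with an ample invertible sheaf); (iii) the action of G on U is proper (Ψ = (σ, p₂) : G × U → U × U
is proper) and a geometric quotient (Y, φ) of U by G exists with Y quasi-projective. (The published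
statement is over any ground field and in any characteristic; this row is the case of an
algebraically closed field of characteristic zero, where the properness criterion it invokes is
proved.) -/
theorem result (k : Type u) [Field k] [IsAlgClosed k] [CharZero k]
    (G X : Over (Spec (CommRingCat.of k))) [GrpObj G] (hG : Red.IsReductive G)
    [LocallyOfFiniteType X.hom] [QuasiCompact X.hom] [Smooth X.hom] [ConnectedSpace X.left]
    (a : AlgGrp.Action G X)
    (xg : X.left) (hxg : closure ({xg} : Set X.left) = Set.univ)
    (hσ : topologicalKrullDim (GLinSh.stab a (Over.homMk (X.left.fromSpecResidueField xg) rfl :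
        Over.mk (X.left.fromSpecResidueField xg ≫ X.hom) ⟶ X)) = 0)
    (U : X.left.Opens) (hinv : a.act.left ⁻¹ᵁ U = (snd G X).left ⁻¹ᵁ U)
    (aU : AlgGrp.Action G (Over.mk (U.ι ≫ X.hom)))
    (jU : Over.mk (U.ι ≫ X.hom) ⟶ X) (hjU : jU.left = U.ι) (haU : aU.act ≫ jU = (G ◁ jU) ≫ a.act) :
    (∃ (Y : Over (Spec (CommRingCat.of k))) (φ : Over.mk (U.ι ≫ X.hom) ⟶ Y),
        GIT.IsGeomQuot aU φ ∧ IsAffineHom φ.left ∧ LocallyOfFiniteType Y.hom ∧
        ∃ M : Y.left.Modules, CohB1.IsAmple M) ↔
      IsProper (GIT.psi aU (𝟙 (Over.mk (U.ι ≫ X.hom)))).left ∧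
        ∃ (Y : Over (Spec (CommRingCat.of k))) (φ : Over.mk (U.ι ≫ X.hom) ⟶ Y),
          GIT.IsGeomQuot aU φ ∧ LocallyOfFiniteType Y.hom ∧ ∃ M : Y.left.Modules, CohB1.IsAmple M := by
  obtain rfl : jU = GITss.inc U := Over.OverMorphism.ext hjU
  obtain ⟨hGaff, hGsm, hGred⟩ := hG
  haveI := hGaff
  haveI := hGsm
  haveI : IsAffine G.left := isAffine_of_isAffineHom G.hom
  haveI : IsLocallyNoetherian X.left := LocallyOfFiniteType.isLocallyNoetherian X.hom
  obtain ⟨_, _⟩ := GITss.finiteType_opn U
  haveI : QuasiSeparated (GITss.opn U).hom := by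
    haveI : IsLocallyNoetherian (U : Scheme.{u}) := LocallyOfFiniteType.isLocallyNoetherian (GITss.opn U).hom
    exact HasAffineProperty.iff_of_isAffine.2 (inferInstanceAs (QuasiSeparatedSpace (U : Scheme.{u})))
  have hY : ∀ (Y : Over (Spec (CommRingCat.of k))) (M : Y.left.Modules), CohB1.IsAmple M →
      QuasiCompact Y.hom ∧ IsSeparated Y.hom := fun Y M hM => by
    haveI := TMul.isSeparated_of_isAmple hM
    exact ⟨HasAffineProperty.iff_of_isAffine.2 hM.2.1, inferInstance⟩
  constructor
  · rintro ⟨Y, φ, h, haff, hft, M, hM⟩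
    haveI := haff
    haveI := hft
    obtain ⟨_, _⟩ := hY Y M hM
    refine ⟨?_, Y, φ, h, hft, M, hM⟩
    haveI : IsSeparated (GITss.opn U).hom := by rw [← Over.w φ]; infer_instance
    have h0 : ∀ y, GITss.sdim aU y = 0 := fun y => by
      have hyg : xg ⤳ U.ι y := specializes_iff_mem_closure.2 (hxg.symm ▸ Set.mem_univ _)
      let g : (GITss.opn U).left := (⟨xg, hyg.mem_open U.2 y.2⟩ : (U : Scheme.{u}))
      rw [← GITss.sdim_eq_of_specializes aU h.inv h.orbit (y := g) (x := y)
        (U.ι.isOpenEmbedding.isInducing.specializes_iff.1 hyg), GITss.sdim_res haU]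
      exact hσ
    haveI : LocallyQuasiFinite
        (Limits.pullback.snd (GIT.psi aU (𝟙 _)).left (lift (𝟙 _) (𝟙 (GITss.opn U))).left) := by
      obtain ⟨_, _⟩ := GITss.finiteType_stabTo aU
      exact LocallyQuasiFinite.of_finite_preimage_singleton (GLinSh.stabTo aU (𝟙 _)) fun y =>
        (GITss.finite_iff_dim_le aU y).2 (by rw [← GITss.sdim_eq, h0])
    exact Groth.Agent.S11437.result k G _ Y ⟨hGaff, hGsm, hGred⟩ aU φ h
  · rintro ⟨hp, Y, φ, h, hft, M, hM⟩
    haveI := hft
    obtain ⟨_, _⟩ := hY Y M hM
    exact ⟨Y, φ, h, GeomQuotAff.isAffineHom_of_proper hp h, hft, M, hM⟩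

end Groth.Agent.S14725
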