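import Groth.Statements.S14726
import Mathlib
import Groth.Agent.ValFP.Content
import Groth.Agent.SmoothRed.Basic

set_option autoImplicit false
universe u
open ValPrufer

namespace Groth.Agent.S14726

/-- Let V be a valuation ring with maximal ideal m, A an integral domain that is a smooth V-algebra, and
p a prime ideal of A minimal among the primes containing mA (a generic point of the special fibre of
Spec A over V). Then A_p is a valuation ring, V → A_p is an injective local homomorphism, and every
nonzero element of A_p is a unit of A_p times the image of an element of V, so that V → A_p induces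
a bijection on value groups. (The published statement takes A faithfully flat and a semilocalisation
of a smooth V-algebra at finitely many primes; the local ring A_p is then a local ring of the smooth
algebra itself at such a prime, and faithful flatness follows from the existence of p, so this row
states the smooth case, which carries the whole content.) -/
theorem result
    (V : Type u) [CommRing V] [IsDomain V] [ValuationRing V]
    (A : Type u) [CommRing A] [IsDomain A] [Algebra V A] [Algebra.Smooth V A]
    (p : Ideal A) [p.IsPrime]
    (hp : p ∈ ((IsLocalRing.maximalIdeal V).map (algebraMap V A)).minimalPrimes) :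
    ValuationRing (Localization.AtPrime p) ∧
      Function.Injective (algebraMap V (Localization.AtPrime p)) ∧
      IsLocalHom (algebraMap V (Localization.AtPrime p)) ∧
      ∀ x : Localization.AtPrime p, x ≠ 0 →
        ∃ (v : V) (w : (Localization.AtPrime p)ˣ), x = algebraMap V (Localization.AtPrime p) v * w := by
  classical
  let B := Localization.AtPrime p
  set I := (IsLocalRing.maximalIdeal V).map (algebraMap V A) with hI
  have hpI : I ≤ p := hp.1.2
  letI : Field (V ⧸ IsLocalRing.maximalIdeal V) := Ideal.Quotient.field _
  haveI : IsReduced (TensorProduct V (V ⧸ IsLocalRing.maximalIdeal V) A) :=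
    SmoothRed.isReduced_of_smooth (V ⧸ IsLocalRing.maximalIdeal V) _
  haveI : IsReduced (A ⧸ I) := isReduced_of_injective
    (((Algebra.TensorProduct.quotIdealMapEquivTensorQuot A (IsLocalRing.maximalIdeal V)).restrictScalars V).trans
      (Algebra.TensorProduct.comm V A _))
    (AlgEquiv.injective _)
  have hrad : I.IsRadical := (Ideal.isRadical_iff_quotient_reduced I).2 inferInstance
  have hinjA : Function.Injective (algebraMap V A) := by
    rw [injective_iff_map_eq_zero]
    intro a ha
    by_contra h
    refine one_ne_zero (α := A) ((smul_eq_zero_iff_right h).1 ?_)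
    rw [← Algebra.algebraMap_eq_smul_one, ha]
  have hinj : Function.Injective (algebraMap V B) := by
    rw [IsScalarTower.algebraMap_eq V A B, RingHom.coe_comp]
    exact (IsLocalization.injective B p.primeCompl_le_nonZeroDivisors).comp hinjA
  haveI : IsDomain B := IsLocalization.isDomain_localization p.primeCompl_le_nonZeroDivisors
  haveI hloc : IsLocalHom (algebraMap V B) := ⟨fun a ha => by
    by_contra h
    refine (IsLocalRing.notMem_maximalIdeal.2 ha) ?_
    rw [IsScalarTower.algebraMap_apply V A B]
    exact (IsLocalization.AtPrime.to_map_mem_maximal_iff B p _).2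
      (hpI (Ideal.mem_map_of_mem _ ((IsLocalRing.mem_maximalIdeal a).2 h)))⟩
  haveI : Module.IsTorsionFree V B := by
    haveI : FaithfulSMul V B := (faithfulSMul_iff_algebraMap_injective V B).2 hinj
    infer_instance
  haveI : Algebra.EssFiniteType V B := Algebra.EssFiniteType.comp V A B
  have hmax : IsLocalRing.maximalIdeal B = I.map (algebraMap A B) := by
    have h1 : (I.map (algebraMap A B)).IsRadical := by
      rintro x ⟨k, hk⟩
      obtain ⟨⟨a, s⟩, has⟩ := IsLocalization.surj p.primeCompl x
      simp only at has
      have h2 : algebraMap A B (a ^ k) ∈ I.map (algebraMap A B) := by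
        rw [map_pow, ← has, mul_pow]
        exact Ideal.mul_mem_right _ _ hk
      obtain ⟨t, ht, hta⟩ := (IsLocalization.algebraMap_mem_map_algebraMap_iff p.primeCompl B _ _).1 h2
      have h3 : t * a ∈ I := hrad ⟨k + 1, by
        rw [mul_pow, show t ^ (k + 1) * a ^ (k + 1) = (t ^ k * a) * (t * a ^ k) by ring]
        exact I.mul_mem_left _ hta⟩
      have h4 : algebraMap A B (t * a) ∈ I.map (algebraMap A B) := Ideal.mem_map_of_mem _ h3
      have hs : IsUnit (algebraMap A B (t * s)) :=
        IsLocalization.map_units B (⟨t, ht⟩ * s : p.primeCompl)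
      refine (Ideal.mul_unit_mem_iff_mem _ hs).1 ?_
      rwa [map_mul, mul_left_comm, has, ← map_mul]
    refine le_antisymm ?_ (Ideal.map_le_iff_le_comap.2 fun a ha =>
      (IsLocalization.AtPrime.to_map_mem_maximal_iff B p a).2 (hpI ha))
    rw [← h1.radical, Ideal.radical_eq_sInf]
    refine le_sInf fun Q hQ => ?_
    haveI := hQ.2
    have hle : (IsLocalRing.maximalIdeal B).comap (algebraMap A B) ≤ Q.comap (algebraMap A B) := by
      rw [show (IsLocalRing.maximalIdeal B).comap (algebraMap A B) = p from
        IsLocalization.AtPrime.under_maximalIdeal B p]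
      refine hp.2 ⟨Ideal.comap_isPrime _ _, Ideal.map_le_iff_le_comap.1 hQ.1⟩ ?_
      refine (Ideal.comap_mono (IsLocalRing.le_maximalIdeal hQ.2.ne_top)).trans ?_
      rw [show (IsLocalRing.maximalIdeal B).comap (algebraMap A B) = p from
        IsLocalization.AtPrime.under_maximalIdeal B p]
    rw [← IsLocalization.map_under p.primeCompl B (IsLocalRing.maximalIdeal B),
      ← IsLocalization.map_under p.primeCompl B Q]
    exact Ideal.map_mono hle
  have hfact : ∀ x : B, x ≠ 0 → ∃ (v : V) (w : Bˣ), x = algebraMap V B v * w := by
    intro x hx
    obtain ⟨c, y, -, hxy, hy⟩ := ValFP.exists_content_local (V := V) B (N := B) x hx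
    have hu : IsUnit y := by
      by_contra hu
      have h := (IsLocalRing.mem_maximalIdeal y).2 hu
      rw [hmax, hI, Ideal.map_map, ← IsScalarTower.algebraMap_eq, ← Submodule.restrictScalars_mem V,
        ← Ideal.smul_top_eq_map] at h
      obtain ⟨γ, hγ, z, hz⟩ := ValFP.exists_smul_of_mem_smul_top h
      exact hy γ hγ z hz
    exact ⟨c, hu.unit, by rw [hxy, Algebra.smul_def, IsUnit.unit_spec]⟩
  refine ⟨?_, hinj, hloc, hfact⟩
  refine ValuationRing.iff_dvd_total.2 ⟨fun x y => ?_⟩
  by_cases hx : x = 0
  · exact Or.inr (hx ▸ dvd_zero y)
  by_cases hy : y = 0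
  · exact Or.inl (hy ▸ dvd_zero x)
  obtain ⟨v, w, rfl⟩ := hfact x hx
  obtain ⟨v', w', rfl⟩ := hfact y hy
  simp only [Units.mul_right_dvd, Units.dvd_mul_right]
  exact (ValuationRing.dvd_total v v').imp (map_dvd (algebraMap V B)) (map_dvd (algebraMap V B))

end Groth.Agent.S14726
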