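import Groth.Statements.S14727
import Mathlib.RingTheory.AdicCompletion.Functoriality
import Mathlib.RingTheory.Ideal.Quotient.Operations
import Mathlib.RingTheory.Localization.AtPrime.Basic
import Mathlib.RingTheory.Spectrum.Maximal.Basic
import Mathlib.Tactic.LinearCombination

set_option autoImplicit false
universe u
open ValPrufer

namespace Groth.Agent.S14727

section
variable {R : Type u} [CommRing R] (I : Ideal R)

/-- the ideal of elements vanishing in `R_m ⧸ I^n R_m` -/
def kerLvl (n : ℕ) (m : Ideal R) [m.IsPrime] : Ideal R :=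
  Submodule.comap (Algebra.linearMap R (Localization.AtPrime m))
    (I ^ n • ⊤ : Submodule R (Localization.AtPrime m))

theorem mem_kerLvl {n : ℕ} {m : Ideal R} [m.IsPrime] {r : R} :
    r ∈ kerLvl I n m ↔ ∃ s, s ∉ m ∧ s * r ∈ I ^ n := by
  rw [kerLvl, Submodule.mem_comap, Ideal.smul_top_eq_map, Submodule.restrictScalars_mem,
    Algebra.linearMap_apply, IsLocalization.algebraMap_mem_map_algebraMap_iff m.primeCompl]
  exact Iff.rfl

theorem isMaximal_above {n : ℕ} (hn : n ≠ 0) (hI : ∀ (p : Ideal R), p.IsPrime → I ≤ p → p.IsMaximal)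
    {m : Ideal R} [m.IsMaximal] {M : Ideal R} (hM : M.IsMaximal)
    (hle : kerLvl I n m ≤ M) : M = m := by
  by_contra hne
  have hIM : I ≤ M := fun a ha => hM.isPrime.mem_of_pow_mem n
    (hle (mem_kerLvl I |>.2 ⟨1, fun h => Ideal.IsMaximal.ne_top ‹m.IsMaximal› ((Ideal.eq_top_iff_one _).2 h),
      by rw [one_mul]; exact Ideal.pow_mem_pow ha n⟩))
  -- some element of `m` outside `M` has a power killed in `R_m ⧸ I^n R_m`
  obtain ⟨a, ham, haM⟩ : ∃ a ∈ m, a ∉ M := by
    by_contra hcon
    push Not at hcon
    exact hne ((Ideal.IsMaximal.eq_of_le ‹m.IsMaximal› hM.ne_top hcon).symm)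
  set J := (I ^ n).map (algebraMap R (Localization.AtPrime m))
  have hrad : algebraMap R (Localization.AtPrime m) a ∈ J.radical := by
    rw [Ideal.radical_eq_sInf, Submodule.mem_sInf]
    rintro P ⟨hJP, hP⟩
    have hPm : Ideal.comap (algebraMap R (Localization.AtPrime m)) P ≤ m :=
      (Ideal.comap_mono (IsLocalRing.le_maximalIdeal hP.ne_top)).trans_eq
        (show Ideal.comap (algebraMap R (Localization.AtPrime m)) _ = m from
          IsLocalization.AtPrime.under_maximalIdeal (Localization.AtPrime m) m)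
    have hmax := hI _ (hP.comap _) (fun x hx => (hP.comap _).mem_of_pow_mem n
      (hJP (Ideal.mem_map_of_mem _ (Ideal.pow_mem_pow hx n))))
    have := hmax.eq_of_le (Ideal.IsMaximal.ne_top ‹m.IsMaximal›) hPm
    exact this.ge ham
  obtain ⟨j, hj⟩ := hrad
  rw [← map_pow, IsLocalization.algebraMap_mem_map_algebraMap_iff m.primeCompl] at hj
  exact haM (hM.isPrime.mem_of_pow_mem j (hle (mem_kerLvl I |>.2 hj)))

/-- injectivity at level `n` -/
theorem mem_pow_of_forall {n : ℕ} (hn : n ≠ 0) {r : R}
    (h : ∀ m : MaximalSpectrum R, I ≤ m.asIdeal → r ∈ kerLvl I n m.asIdeal) : r ∈ I ^ n := by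
  by_contra hr
  have hne : (I ^ n).colon {r} ≠ ⊤ := by
    rw [Ne, Ideal.eq_top_iff_one, Submodule.mem_colon_singleton, one_smul]
    exact hr
  obtain ⟨M, hM, hle⟩ := Ideal.exists_le_maximal _ hne
  have hIM : I ≤ M := fun a ha => hM.isPrime.mem_of_pow_mem n (hle (by
    rw [Submodule.mem_colon_singleton, smul_eq_mul]
    exact Ideal.mul_mem_right _ _ (Ideal.pow_mem_pow ha n)))
  obtain ⟨s, hs, hsr⟩ := (mem_kerLvl I).1 (h ⟨M, hM⟩ hIM)
  exact hs (hle (by rwa [Submodule.mem_colon_singleton, smul_eq_mul]))

/-- surjectivity at level `n` -/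
theorem exists_lift [Finite (MaximalSpectrum R)] {n : ℕ} (hn : n ≠ 0)
    (hI : ∀ (p : Ideal R), p.IsPrime → I ≤ p → p.IsMaximal)
    (z : ∀ m : {m : MaximalSpectrum R // I ≤ m.asIdeal}, Localization.AtPrime m.1.asIdeal) :
    ∃ r : R, ∀ m, algebraMap R _ r - z m ∈ (I ^ n • ⊤ : Submodule R (Localization.AtPrime m.1.asIdeal)) := by
  have hone : ∀ m : {m : MaximalSpectrum R // I ≤ m.asIdeal}, ∃ a : R,
      algebraMap R _ a - z m ∈ (I ^ n • ⊤ : Submodule R (Localization.AtPrime m.1.asIdeal)) := fun m => by
    obtain ⟨⟨r, s⟩, hrs⟩ := IsLocalization.surj m.1.asIdeal.primeCompl (z m)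
    have htop : kerLvl I n m.1.asIdeal ⊔ Ideal.span {(s : R)} = ⊤ := by
      by_contra hne
      obtain ⟨M, hM, hle⟩ := Ideal.exists_le_maximal _ hne
      have := isMaximal_above I hn hI (m := m.1.asIdeal) hM (le_sup_left.trans hle)
      exact s.2 ((SetLike.ext_iff.1 this _).1 (hle (Ideal.mem_sup_right (Ideal.mem_span_singleton_self _))))
    obtain ⟨t, ht, _, hu, htu⟩ := Submodule.mem_sup.1 ((Ideal.eq_top_iff_one _).1 htop)
    obtain ⟨c, rfl⟩ := Ideal.mem_span_singleton'.1 hu
    refine ⟨c * r, ?_⟩
    have heq : algebraMap R _ (c * r) - z m = (- z m) * algebraMap R (Localization.AtPrime m.1.asIdeal) t := by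
      have h1 : algebraMap R (Localization.AtPrime m.1.asIdeal) t +
          algebraMap R _ c * algebraMap R _ (s : R) = 1 := by rw [← map_mul, ← map_add, htu, map_one]
      rw [map_mul, ← hrs]
      linear_combination (z m) * h1
    rw [heq, Ideal.smul_top_eq_map, Submodule.restrictScalars_mem]
    rw [kerLvl, Submodule.mem_comap, Ideal.smul_top_eq_map, Submodule.restrictScalars_mem] at ht
    exact Ideal.mul_mem_left _ _ ht
  choose a ha using hone
  obtain ⟨r, hr⟩ := Ideal.exists_forall_sub_mem_ideal
    (I := fun m : {m : MaximalSpectrum R // I ≤ m.asIdeal} => kerLvl I n m.1.asIdeal) (fun m m' hne => by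
      show IsCoprime (kerLvl I n m.1.asIdeal) (kerLvl I n m'.1.asIdeal)
      rw [Ideal.isCoprime_iff_sup_eq]
      by_contra htop
      obtain ⟨M, hM, hle⟩ := Ideal.exists_le_maximal _ htop
      exact hne (Subtype.ext (MaximalSpectrum.ext ((isMaximal_above I hn hI hM (le_sup_left.trans hle)).symm.trans
        (isMaximal_above I hn hI hM (le_sup_right.trans hle)))))) a
  refine ⟨r, fun m => ?_⟩
  have h1 : algebraMap R (Localization.AtPrime m.1.asIdeal) (r - a m) ∈
      (I ^ n • ⊤ : Submodule R (Localization.AtPrime m.1.asIdeal)) := hr m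
  rw [map_sub] at h1
  simpa using add_mem h1 (ha m)

end

/-- Let R be a semilocal ring (finitely many maximal ideals) and I an ideal of R of co-height zero, i.e.
every prime ideal containing I is maximal. Then the canonical map from the I-adic completion of R to
the product, over the maximal ideals m ⊇ I, of the I-adic completions of the local rings R_m
(equivalently their IR_m-adic completions) is bijective; it is the continuous ring isomorphism of
the source, stated here as bijectivity of the canonical map of completed modules. -/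
theorem result
    (R : Type u) [CommRing R] (hR : Finite (MaximalSpectrum R)) (I : Ideal R)
    (hI : ∀ (p : Ideal R), p.IsPrime → I ≤ p → p.IsMaximal) :
    Function.Bijective (LinearMap.pi (fun m : {m : MaximalSpectrum R // I ≤ m.asIdeal} =>
      AdicCompletion.map I (Algebra.linearMap R (Localization.AtPrime m.1.asIdeal)))) := by
  classical
  have := hR
  set Φ := fun m : {m : MaximalSpectrum R // I ≤ m.asIdeal} =>
    AdicCompletion.map I (Algebra.linearMap R (Localization.AtPrime m.1.asIdeal))
  have hlvl : ∀ n : ℕ, ∀ q : R ⧸ (I ^ n • ⊤ : Submodule R R),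
      (∀ m : {m : MaximalSpectrum R // I ≤ m.asIdeal},
        LinearMap.reduceModIdeal (I ^ n) (Algebra.linearMap R (Localization.AtPrime m.1.asIdeal)) q = 0) → q = 0 := by
    intro n q hq
    obtain ⟨r, rfl⟩ := Submodule.Quotient.mk_surjective _ q
    rw [Submodule.Quotient.mk_eq_zero, smul_eq_mul, Ideal.mul_top]
    rcases eq_or_ne n 0 with rfl | hn
    · simp
    exact mem_pow_of_forall I hn fun m hm =>
      (Submodule.Quotient.mk_eq_zero (I ^ n • ⊤ : Submodule R (Localization.AtPrime m.asIdeal))).1 (hq ⟨m, hm⟩)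
  constructor
  · refine (injective_iff_map_eq_zero _).2 fun x hx => AdicCompletion.ext fun n => hlvl n _ fun m => ?_
    have h := congrArg (fun y => (y m).val n) hx
    exact h
  · intro y
    have hex : ∀ n : ℕ, ∃ q : R ⧸ (I ^ n • ⊤ : Submodule R R), ∀ m : {m : MaximalSpectrum R // I ≤ m.asIdeal},
        LinearMap.reduceModIdeal (I ^ n) (Algebra.linearMap R (Localization.AtPrime m.1.asIdeal)) q = (y m).val n := by
      intro n
      choose z hz using fun m => Submodule.Quotient.mk_surjective _ ((y m).val n)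
      rcases eq_or_ne n 0 with rfl | hn
      · refine ⟨0, fun m => ?_⟩
        rw [map_zero, ← hz m]
        exact ((Submodule.Quotient.mk_eq_zero _).2 (by simp [Ideal.map_top])).symm
      obtain ⟨r, hr⟩ := exists_lift I hn hI z
      refine ⟨Submodule.Quotient.mk r, fun m => ?_⟩
      rw [← hz m]
      exact (Submodule.Quotient.eq _).2 (hr m)
    choose q hq using hex
    refine ⟨⟨q, fun {i j} hij => sub_eq_zero.1 (hlvl i _ fun m => ?_)⟩, funext fun m => AdicCompletion.ext fun n => hq n m⟩
    rw [map_sub, hq, sub_eq_zero, ← (y m).2 hij, ← hq j m]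
    obtain ⟨r, hr⟩ := Submodule.Quotient.mk_surjective _ (q j)
    rw [← hr]
    rfl

end Groth.Agent.S14727
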