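import Groth.Statements.S14731
import Groth.Agent.SmoothModel.Basic

set_option autoImplicit false
universe u
open ValPrufer

namespace Groth.Agent.S14731

/-- In characteristic zero, every field K generated as a field by a finite set is the fraction field of
a subring A of K of finite type and smooth over the integers. -/
theorem result
    (K : Type u) [Field K] [CharZero K] (s : Finset K)
    (hs : Subfield.closure (↑s : Set K) = ⊤) :
    ∃ A : Subring K, Algebra.FiniteType ℤ A ∧ Algebra.Smooth ℤ A ∧ IsFractionRing A K := by
  have := Groth.Agent.SmoothModel.formallySmooth_int K s hs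
  obtain ⟨A, hft, hsm, hfr⟩ := Groth.Agent.SmoothModel.exists_smooth_model ℤ K s
    (Groth.Agent.SmoothModel.exists_div_of_closure ℤ K s hs)
  let e : A ≃ₐ[ℤ] A.toSubring := RingEquiv.toIntAlgEquiv (RingEquiv.refl A)
  exact ⟨A.toSubring, hft.equiv e, Algebra.Smooth.of_equiv e, hfr⟩

end Groth.Agent.S14731
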