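import Groth.Statements.S14732
import Groth.Agent.SmoothModel.Basic
import Mathlib.FieldTheory.Finite.Basic

set_option autoImplicit false
universe u
open ValPrufer

namespace Groth.Agent.S14732

/-- In characteristic p > 0, a field K that is finitely generated over its prime subfield F (a field
with p elements) is the fraction field of an integral scheme smooth over F; concretely, there is an
F-subalgebra A of K, of finite type and smooth over F, whose fraction field is K. -/
theorem result
    (K : Type u) [Field K] (p : ℕ) [Fact p.Prime] [CharP K p] (s : Finset K)
    (hs : Subfield.closure (↑s : Set K) = ⊤) :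
    ∃ A : Subalgebra (⊥ : Subfield K) K, Algebra.FiniteType (⊥ : Subfield K) A ∧
      Algebra.Smooth (⊥ : Subfield K) A ∧ IsFractionRing A K := by
  have hle : (⊥ : Subfield K) ≤ (ZMod.castHom (dvd_refl p) K).fieldRange := bot_le
  have : Finite (⊥ : Subfield K) := by
    have hfin : ((ZMod.castHom (dvd_refl p) K).fieldRange : Set K).Finite := by
      rw [RingHom.coe_fieldRange]
      exact Set.finite_range _
    exact (hfin.subset hle).to_subtype
  have : Algebra.EssFiniteType (⊥ : Subfield K) K :=
    Groth.Agent.SmoothModel.essFiniteType _ K s hs
  have : Algebra.FormallySmooth (⊥ : Subfield K) K := Algebra.FormallySmooth.of_perfectField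
  exact Groth.Agent.SmoothModel.exists_smooth_model _ K s
    (Groth.Agent.SmoothModel.exists_div_of_closure _ K s hs)

end Groth.Agent.S14732
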