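import Groth.Statements.S14733
import Groth.Agent.FlatDim.DimSets

set_option autoImplicit false
set_option linter.style.haveILetI false
set_option backward.isDefEq.respectTransparency false
open Groth.Agent Topology
open CategoryTheory AlgebraicGeometry
universe u
open ValPrufer

namespace Groth.Agent.S14733

/-- Let R be a Prüfer domain (an integral domain whose localisations at primes are valuation rings), X
an irreducible scheme and f : X ⟶ Spec R a dominant morphism of finite type. If the fibre of f over
a point γ of Spec R is nonempty, then it has the same dimension as the fibre over the generic point. -/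
theorem result
    (R : Type u) [CommRing R] [IsDomain R]
    (hR : ∀ (p : Ideal R) [p.IsPrime], ValuationRing (Localization.AtPrime p))
    (X : Scheme.{u}) [IrreducibleSpace X] (f : X ⟶ Spec (CommRingCat.of R))
    [LocallyOfFiniteType f] [QuasiCompact f] [IsDominant f] (γ : Spec (CommRingCat.of R))
    (h0 : Nonempty ↥(f.fiber γ)) :
    topologicalKrullDim ↥(f.fiber γ) =
      topologicalKrullDim ↥(f.fiber (genericPoint (Spec (CommRingCat.of R)))) := by
  obtain ⟨w₀⟩ := h0
  let x₀ := f.fiberι γ w₀
  have hx₀ : f x₀ = γ := (f.range_fiberι γ).le ⟨w₀, rfl⟩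
  set ξ := genericPoint ↥X
  have hξ : f ξ = genericPoint ↥(Spec (CommRingCat.of R)) := by
    have h1 : closure (Set.range f.base) ⊆ closure {f ξ} := closure_minimal
      (by rintro _ ⟨x, rfl⟩; exact ((genericPoint_specializes x).map f.continuous).mem_closure) isClosed_closure
    exact ((specializes_iff_mem_closure.2 (h1 (f.denseRange _))).antisymm
      (genericPoint_specializes _)).eq
  rw [← hξ]
  obtain ⟨e, he1, he2, -⟩ := Unibranch.exists_dim_closure_eq f ξ
  have hgen : topologicalKrullDim ↥(f.fiber (f ξ)) = (e : WithBot ℕ∞) := by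
    refine le_antisymm (Unibranch.natCast_le_iff_of_le_iff.2 fun j hj => ?_)
      ((FlatDim.natCast_le_fibre_iff f _).2 ⟨ξ, rfl, he2⟩)
    obtain ⟨x, -, hx⟩ := (FlatDim.natCast_le_fibre_iff f _).1 hj
    exact (hx.mono (closure_minimal (Set.singleton_subset_iff.2 (genericPoint_specializes x).mem_closure)
      isClosed_closure)).le he1
  rw [hgen]
  refine le_antisymm (Unibranch.natCast_le_iff_of_le_iff.2 fun k hk => ?_) ?_
  · obtain ⟨x, hx, c, hc, hcc⟩ := (FlatDim.natCast_le_fibre_iff f γ).1 hk
    let p : PrimeSpectrum R := γ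
    let Rp := CommRingCat.of (Localization.AtPrime p.asIdeal)
    haveI : IsDomain Rp := IsLocalization.isDomain_localization p.asIdeal.primeCompl_le_nonZeroDivisors
    haveI : ValuationRing Rp := hR p.asIdeal
    let g : Spec Rp ⟶ Spec (CommRingCat.of R) :=
      Spec.map (CommRingCat.ofHom (algebraMap R (Localization.AtPrime p.asIdeal)))
    haveI : IsPreimmersion g := IsPreimmersion.of_isLocalization p.asIdeal.primeCompl
    have hg : ∀ q : PrimeSpectrum R, q.asIdeal ≤ p.asIdeal → q ∈ Set.range g := fun q hq => by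
      show q ∈ Set.range (PrimeSpectrum.comap (algebraMap R (Localization.AtPrime p.asIdeal)))
      rw [PrimeSpectrum.localization_comap_range (Localization.AtPrime p.asIdeal) p.asIdeal.primeCompl]
      exact Set.disjoint_left.2 fun a ha ha' => ha (hq ha')
    let f' := Limits.pullback.snd f g
    let g' := Limits.pullback.fst f g
    have hcomm : ∀ w, f (g' w) = g (f' w) := fun w => by
      rw [← Scheme.Hom.comp_apply, ← Scheme.Hom.comp_apply, Limits.pullback.condition]
    have hlift : ∀ y : X, f y ∈ Set.range g → y ∈ Set.range g' := fun y hy => by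
      rw [Scheme.Pullback.range_fst]; exact hy
    obtain ⟨x', hx'⟩ := hlift x (hx ▸ hg γ le_rfl)
    obtain ⟨ξ', hξ'⟩ := hlift ξ (hg _ (by
      rw [hξ]
      exact (PrimeSpectrum.le_iff_specializes _ p).2 (genericPoint_specializes _)))
    choose c' hc' using fun i => hlift (c i) ((hc i).2.symm ▸ hg γ le_rfl)
    have hsp : ∀ a b, g' a ⤳ g' b → a ⤳ b := fun a b => g'.isEmbedding.isInducing.specializes_iff.1
    have hch : Unibranch.HasChain f' (closure {x'}) (f' x') k := by
      refine ⟨c', fun i => ⟨(hsp _ _ ?_).mem_closure, g.isEmbedding.injective ?_⟩, fun i => ⟨hsp _ _ ?_, fun h => (hcc i).2 ?_⟩⟩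
      · rw [hc', hx']; exact specializes_iff_mem_closure.2 (hc i).1
      · rw [← hcomm, ← hcomm, hc', hx', (hc i).2, hx]
      · rw [hc', hc']; exact (hcc i).1
      · rw [← hc', ← hc', h]
    obtain ⟨d, hd, hdd⟩ := ValFibre.hasChain_of_specializes f'
      (hsp ξ' x' (by rw [hξ', hx']; exact genericPoint_specializes x)) hch
    refine he1 k (fun i => g' (d i)) (fun i => ⟨?_, ?_⟩) fun i => ⟨(hdd i).1.map g'.continuous,
      fun h => (hdd i).2 (g'.isEmbedding.injective h)⟩
    · exact (genericPoint_specializes _).mem_closure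
    · rw [hcomm, (hd i).2, ← hcomm, hξ']
  · obtain ⟨z, hzx, hfz, hz⟩ := FlatDim.exists_isFibMax_specializes f x₀
    obtain ⟨δ, h1, h2, -⟩ := Unibranch.exists_dim_closure_eq f z
    exact le_trans (Nat.cast_le.2 (FlatDim.le_of_isFibMax f hz (genericPoint_specializes z) he2 h1))
      ((FlatDim.natCast_le_fibre_iff f γ).2 ⟨z, hfz.trans hx₀, hfz.trans hx₀ ▸ h2⟩)

end Groth.Agent.S14733
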