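import Groth.Statements.S14734
import Groth.Agent.PruferDim.Main

set_option autoImplicit false
universe u
open ValPrufer
set_option linter.style.haveILetI false
set_option backward.isDefEq.respectTransparency false

namespace Groth.Agent.S14734

/-- Let R be a Prüfer domain (an integral domain whose localisations at primes are valuation rings) of
finite Krull dimension and S an R-algebra of finite type. Then S, and every localisation T of S at a
multiplicative subset, is catenary and of finite Krull dimension. (The published statement is for a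
scheme X of finite type over R and the spectrum of any semilocalisation of X; catenarity is local
and finiteness of dimension is checked on a finite affine cover, so this row states the affine case
together with arbitrary localisations.) -/
theorem result
    (R : Type u) [CommRing R] [IsDomain R]
    (hR : ∀ (p : Ideal R) [p.IsPrime], ValuationRing (Localization.AtPrime p))
    (hdim : ringKrullDim R < ⊤)
    (S : Type u) [CommRing S] [Algebra R S] [Algebra.FiniteType R S]
    (M : Submonoid S) (T : Type u) [CommRing T] [Algebra S T] [IsLocalization M T] :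
    CAlg.IsCatenary S ∧ ringKrullDim S < ⊤ ∧ CAlg.IsCatenary T ∧ ringKrullDim T < ⊤ := by
  obtain ⟨n, f, hf⟩ := Algebra.FiniteType.iff_quotient_mvPolynomial''.1 (inferInstance : Algebra.FiniteType R S)
  obtain ⟨D, hD⟩ : ∃ D : ℕ, ∀ p : PrimeSpectrum R, p.asIdeal.height.toNat ≤ D := by
    cases hk : ringKrullDim R with
    | bot => exact absurd hk (Order.krullDim_ne_bot_iff.mpr (inferInstance : Nonempty (PrimeSpectrum R)))
    | coe d =>
      cases d with
      | top => exact absurd (hk ▸ hdim) (lt_irrefl _)
      | coe d =>
        refine ⟨d, fun p => ?_⟩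
        have h1 : ((Order.height p : ℕ∞) : WithBot ℕ∞) ≤ ringKrullDim R := Order.height_le_krullDim p
        rw [hk, WithBot.coe_le_coe, ← PrimeSpectrum.height_eq_orderHeight] at h1
        obtain ⟨a, ha⟩ := ENat.ne_top_iff_exists.1 (Groth.Agent.PruferDim.height_ne_top hdim p)
        rw [← ha] at h1 ⊢
        rw [ENat.toNat_natCast]
        exact Nat.cast_le.1 h1
  have hlen : ∀ l : LTSeries (PrimeSpectrum S), l.length ≤ n + D := by
    intro l
    have h1 := Groth.Agent.PruferDim.length_le (R := R) hR hdim l
    have h2 := Groth.Agent.PruferDim.rdim_le_gens (R := R) l.head f hf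
    have h3 := hD (PrimeSpectrum.comap (algebraMap R S) l.last)
    simp only [Groth.Agent.PruferDim.delta] at h1
    change (l.last.asIdeal.under R).height.toNat ≤ D at h3
    omega
  have hkd : ∀ (U : Type u) [CommRing U], (∀ l : LTSeries (PrimeSpectrum U), l.length ≤ n + D) →
      ringKrullDim U < ⊤ := fun U _ hU =>
    lt_of_le_of_lt (iSup_le fun l => (Nat.cast_le.2 (hU l) : ((l.length : ℕ) : WithBot ℕ∞) ≤ ((n + D : ℕ) : WithBot ℕ∞)))
      (WithBot.coe_lt_coe.2 (ENat.natCast_lt_top _))
  let φ : PrimeSpectrum T → PrimeSpectrum S := PrimeSpectrum.comap (algebraMap S T)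
  have hmono : StrictMono φ :=
    Monotone.strictMono_of_injective (fun a b h => Ideal.comap_mono h) (PrimeSpectrum.localization_comap_injective T M)
  have hlenT : ∀ l : LTSeries (PrimeSpectrum T), l.length ≤ n + D := fun l => hlen (l.map φ hmono)
  have hcat : ∀ (U : Type u) [CommRing U] (ψ : PrimeSpectrum U → PrimeSpectrum S), StrictMono ψ →
      (∀ a b, a ⋖ b → ψ a ⋖ ψ b) → CAlg.IsCatenary U := by
    intro U _ ψ hψ hcov
    refine ⟨fun p q _ => ⟨n + D, fun s _ _ => hlen (s.map ψ hψ)⟩, fun s t hh hl hs ht => ?_⟩
    have h1 := Groth.Agent.PruferDim.length_eq (R := R) hR hdim (s.map ψ hψ) fun i => hcov _ _ (hs i)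
    have h2 := Groth.Agent.PruferDim.length_eq (R := R) hR hdim (t.map ψ hψ) fun i => hcov _ _ (ht i)
    simp only [LTSeries.head_map, LTSeries.last_map, hh, hl] at h1 h2
    have h3 : (s.map ψ hψ).length = (t.map ψ hψ).length := by omega
    exact h3
  exact ⟨hcat S id strictMono_id fun _ _ h => h, hkd S hlen,
    hcat T φ hmono fun _ _ h => Groth.Agent.PruferDim.comap_localization M h, hkd T hlenT⟩

end Groth.Agent.S14734
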