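import Groth.Statements.S14737
import Groth.Agent.TwistGlue.Main
import Groth.Agent.FormalStalk.Completion
import Groth.Agent.RegLoc.Order

set_option autoImplicit false
universe u
open CategoryTheory MonoidalCategory CartesianMonoidalCategory MonObj AlgebraicGeometry
open ValPrufer

namespace Groth.Agent.S14737

theorem quotPowBijective {R : Type u} [CommRing R] [IsNoetherianRing R] (r : R) :
    EtGlue.QuotPowBijective R (AdicCompletion (Ideal.span {r}) R) r := by
  intro n _
  have hI : (Ideal.span {r} : Ideal R).FG := IsNoetherian.noetherian _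
  have hker := FormalStalk.ker_evalₐ (Ideal.span {r}) hI n
  have hm : Ideal.map (algebraMap R (AdicCompletion (Ideal.span {r}) R)) (Ideal.span {r ^ n}) =
      RingHom.ker (AdicCompletion.evalₐ (Ideal.span {r}) n).toRingHom := by
    rw [hker, ← Ideal.map_pow, Ideal.span_singleton_pow]
  refine ⟨(injective_iff_map_eq_zero _).2 fun z hz => ?_, fun z => ?_⟩
  · obtain ⟨a, rfl⟩ := Ideal.Quotient.mk_surjective z
    rw [Ideal.quotientMap_mk, Ideal.Quotient.eq_zero_iff_mem, hm, RingHom.mem_ker] at hz
    rw [Ideal.Quotient.eq_zero_iff_mem, ← Ideal.span_singleton_pow]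
    exact Ideal.Quotient.eq_zero_iff_mem.1 ((FormalStalk.evalₐ_algebraMap _ n a).symm.trans hz)
  · obtain ⟨y, rfl⟩ := Ideal.Quotient.mk_surjective z
    obtain ⟨a, ha⟩ := Ideal.Quotient.mk_surjective (AdicCompletion.evalₐ (Ideal.span {r}) n y)
    refine ⟨Ideal.Quotient.mk _ a, ?_⟩
    rw [Ideal.quotientMap_mk, Ideal.Quotient.mk_eq_mk_iff_sub_mem, hm, RingHom.mem_ker, map_sub, sub_eq_zero]
    exact (FormalStalk.evalₐ_algebraMap _ n a).trans ha

/-- Let R be a regular local ring with fraction field K, r ∈ R, R̂ the r-adic completion of R, and G a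
reductive R-group scheme. Assume the Grothendieck–Serre statement for R and G: every G-torsor for
the fppf topology over Spec R that has a K-point has a section. Then G(R̂[1/r]) = G(R̂) · G(R[1/r]):
every point g of G over R̂[1/r] is the product, in the group of R̂[1/r]-points, of the restriction
of an R̂-point g₂ and the restriction of an R[1/r]-point g₁; the product is written through the pair
morphism h = (g₂, g₁) into G ×_R G followed by the multiplication of G. (The published statement is
the implication from the Grothendieck–Serre conjecture; only its instance for this R and this G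
enters the proof, so that instance is the hypothesis here.) -/
theorem result (R : Type u) [CommRing R] [IsRegularLocalRing R] (r : R)
    (G : Over (Spec (CommRingCat.of R))) [GrpObj G] (hG : Red.IsReductive G)
    (hGS : ∀ (X : Over (Spec (CommRingCat.of R))) (a : AlgGrp.Action G X),
      NonAbH1.IsTorsorFor Scheme.fppfPrecoverage a →
      NonAbH1.HasSectionOver X (Spec.map (CommRingCat.ofHom (algebraMap R (FractionRing R)))) →
      NonAbH1.HasSectionOver X (𝟙 (Spec (CommRingCat.of R))))
    (g : Spec (CommRingCat.of (Localization.Away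
            (algebraMap R (AdicCompletion (Ideal.span {r}) R) r))) ⟶ G.left)
    (hg : g ≫ G.hom = Spec.map (CommRingCat.ofHom (algebraMap R (Localization.Away
            (algebraMap R (AdicCompletion (Ideal.span {r}) R) r))))) :
    ∃ (g₁ : Spec (CommRingCat.of (Localization.Away r)) ⟶ G.left)
      (g₂ : Spec (CommRingCat.of (AdicCompletion (Ideal.span {r}) R)) ⟶ G.left)
      (h : Spec (CommRingCat.of (Localization.Away
            (algebraMap R (AdicCompletion (Ideal.span {r}) R) r))) ⟶ (G ⊗ G).left),
      g₁ ≫ G.hom = Spec.map (CommRingCat.ofHom (algebraMap R (Localization.Away r))) ∧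
      g₂ ≫ G.hom = Spec.map (CommRingCat.ofHom (algebraMap R (AdicCompletion (Ideal.span {r}) R))) ∧
      h ≫ (fst G G).left = Spec.map (CommRingCat.ofHom (algebraMap (AdicCompletion (Ideal.span {r}) R)
                (Localization.Away (algebraMap R (AdicCompletion (Ideal.span {r}) R) r)))) ≫ g₂ ∧
      h ≫ (snd G G).left = Spec.map (CommRingCat.ofHom (Localization.awayMap
                (algebraMap R (AdicCompletion (Ideal.span {r}) R)) r)) ≫ g₁ ∧
      g = h ≫ (μ[G]).left := by
  haveI : IsDomain R := RegLoc.isDomain R
  haveI : IsAffine G.left := @isAffine_of_isAffineHom _ _ G.hom hG.1 _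
  haveI := hG.2.1
  let c : AdicCompletion (Ideal.span {r}) R →ₐ[R]
      Localization.Away (algebraMap R (AdicCompletion (Ideal.span {r}) R) r) := IsScalarTower.toAlgHom R _ _
  let c₁ : Localization.Away r →ₐ[R] Localization.Away (algebraMap R (AdicCompletion (Ideal.span {r}) R) r) :=
    { Localization.awayMap (algebraMap R (AdicCompletion (Ideal.span {r}) R)) r with
      commutes' := fun x => by
        show Localization.awayMap _ r (algebraMap R (Localization.Away r) x) = _
        rw [EtGlueLib.awayMap_algebraMap]
        exact (IsScalarTower.algebraMap_apply R _ _ x).symm }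
  let gg : TwistGlue.T R (Localization.Away (algebraMap R (AdicCompletion (Ideal.span {r}) R) r)) ⟶ G :=
    Over.homMk g hg
  suffices H : ∃ (x : TwistGlue.T R (AdicCompletion (Ideal.span {r}) R) ⟶ G)
      (y : TwistGlue.T R (Localization.Away r) ⟶ G), gg = (TwistGlue.hom c ≫ x) * (TwistGlue.hom c₁ ≫ y) by
    obtain ⟨x, y, hxy⟩ := H
    refine ⟨y.left, x.left, (lift (TwistGlue.hom c ≫ x) (TwistGlue.hom c₁ ≫ y)).left, Over.w y, Over.w x, ?_, ?_, ?_⟩
    · exact congrArg CommaMorphism.left (lift_fst (TwistGlue.hom c ≫ x) (TwistGlue.hom c₁ ≫ y))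
    · exact congrArg CommaMorphism.left (lift_snd (TwistGlue.hom c ≫ x) (TwistGlue.hom c₁ ≫ y))
    · exact congrArg CommaMorphism.left hxy
  rcases eq_or_ne r 0 with rfl | hr
  · refine ⟨1, 1, Over.OverMorphism.ext ?_⟩
    haveI : Subsingleton (Localization.Away (algebraMap R (AdicCompletion (Ideal.span {(0 : R)}) R) 0)) :=
      IsLocalization.subsingleton (M := Submonoid.powers (algebraMap R (AdicCompletion (Ideal.span {(0 : R)}) R) 0))
        ⟨1, by simp⟩
    haveI : IsEmpty ↥(Spec (CommRingCat.of
        (Localization.Away (algebraMap R (AdicCompletion (Ideal.span {(0 : R)}) R) 0)))) :=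
      inferInstanceAs (IsEmpty (PrimeSpectrum _))
    exact (isInitialOfIsEmpty (X := Spec (CommRingCat.of (Localization.Away (algebraMap R (AdicCompletion (Ideal.span {(0 : R)}) R) 0))))).hom_ext _ _
  · exact TwistGlue.exists_factor (FractionRing R)
      (IsFractionRing.to_map_ne_zero_of_mem_nonZeroDivisors (mem_nonZeroDivisors_of_ne_zero hr)).isUnit
      (mem_nonZeroDivisors_of_ne_zero hr) (quotPowBijective r) G hGS gg c₁

end Groth.Agent.S14737
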