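import Groth.Statements.S14741
import Groth.Agent.CohQC.Relative
import Groth.Agent.ProjMor.ProjSpaceBase
import Groth.Agent.S9576
import Groth.Agent.S0010

set_option autoImplicit false
universe u
open CategoryTheory AlgebraicGeometry
open ValPrufer

namespace Groth.Agent.S14741

/-- Let R be a semilocal Prüfer domain (an integral domain with finitely many maximal ideals whose
localisations at primes are valuation rings) of finite Krull dimension, m ≥ 1, X a closed subscheme
of projective (m-1)-space over R which is flat over R, and F a finitely presented (equivalently,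
coherent) O_X-module. Then H^q(X, F) = 0 for all q > m. -/
theorem result
    (R : Type u) [CommRing R] [IsDomain R]
    (hR : ∀ (p : Ideal R) [p.IsPrime], ValuationRing (Localization.AtPrime p))
    (hfin : Finite (MaximalSpectrum R)) (hdim : ringKrullDim R < ⊤)
    (m : ℕ) (hm : 1 ≤ m) (X : Scheme.{u}) (ι : X ⟶ CohB1.ProjSpace (m - 1) R) [IsClosedImmersion ι]
    [Flat (ι ≫ CohB1.ProjSpace.toSpec (m - 1) R)]
    (F : X.Modules) (hF : CohB1.IsFP F) (q : ℕ) (hq : m < q) :
    Subsingleton (Coh.HH X F q) := by
  open AlgebraicGeometry CategoryTheory in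
  let 𝒜 := CohB1.polyGrading (m - 1) R
  let U : Fin (m - 1 + 1) → (CohB1.ProjSpace (m - 1) R).Opens := fun j => Proj.basicOpen 𝒜 (MvPolynomial.X j)
  have hU : ∀ j, IsAffineOpen (U j) := fun j =>
    ProjLib.isAffineOpen_basicOpen 𝒜 (MvPolynomial.isHomogeneous_X R j) one_pos
  have : IsSeparated (CohB1.ProjSpace.toSpec (m - 1) R) :=
    (ProjMor.isProper_toSpec (m - 1) R).toIsSeparated
  have : (CohB1.ProjSpace (m - 1) R).IsSeparated :=
    ⟨by rw [← Limits.terminal.comp_from (CohB1.ProjSpace.toSpec (m - 1) R)]; infer_instance⟩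
  have : X.IsSeparated := ⟨by rw [← Limits.terminal.comp_from ι]; infer_instance⟩
  haveI := hF
  refine Groth.Agent.S0010.result X (m - 1 + 1) (fun j => ι ⁻¹ᵁ U j) (fun j => (hU j).preimage ι) ?_
    (fun V W hV hW => hV.inf hW) F q (by omega)
  rw [← Scheme.Hom.preimage_iSup, show iSup U = ⊤ from (Groth.Agent.S9576.result (m - 1) R).1, Scheme.Hom.preimage_top]

end Groth.Agent.S14741
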