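import Groth.Statements.S6367
import Groth.Agent.CohMod.Basic

set_option autoImplicit false
universe u
open CAlg Groth.Agent

namespace Groth.Agent.S6367

/-- Let 0 → M₁ → M₂ → M₃ → 0 be a short exact sequence of R-modules (f injective, g surjective, image of
f = kernel of g). If M₁ and M₃ are coherent — finitely generated with every finitely generated
submodule finitely presented — then so is M₂. -/
theorem result (R : Type u) [CommRing R] {M₁ M₂ M₃ : Type u}
    [AddCommGroup M₁] [Module R M₁] [AddCommGroup M₂] [Module R M₂] [AddCommGroup M₃] [Module R M₃]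
    (f : M₁ →ₗ[R] M₂) (g : M₂ →ₗ[R] M₃) (hf : Function.Injective f) (hg : Function.Surjective g)
    (hfg : LinearMap.range f = LinearMap.ker g)
    (h₁ : (Module.Finite R M₁ ∧ ∀ N : Submodule R M₁, N.FG → Module.FinitePresentation R N))
    (h₃ : (Module.Finite R M₃ ∧ ∀ N : Submodule R M₃, N.FG → Module.FinitePresentation R N)) :
    (Module.Finite R M₂ ∧ ∀ N : Submodule R M₂, N.FG → Module.FinitePresentation R N) := by
  haveI := h₁.1
  haveI := h₃.1
  haveI hfin : Module.Finite R M₂ := ⟨Submodule.fg_of_fg_map_of_fg_inf_ker g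
    (by rw [Submodule.map_top, LinearMap.range_eq_top.2 hg]; exact Module.Finite.fg_top)
    (by rw [top_inf_eq, ← hfg, ← Submodule.map_top]; exact Module.Finite.fg_top.map f)⟩
  refine ⟨hfin, fun N hN => ?_⟩
  haveI : Module.Finite R N := Module.Finite.iff_fg.2 hN
  haveI := h₃.2 _ (hN.map g)
  let l : N →ₗ[R] Submodule.map g N := (g.comp N.subtype).codRestrict _ fun x => Submodule.mem_map_of_mem x.2
  have hl : Function.Surjective l := fun y => by
    obtain ⟨x, hx, he⟩ := y.2
    exact ⟨⟨x, hx⟩, Subtype.ext he⟩
  haveI : Module.Finite R (LinearMap.ker l) := Module.Finite.iff_fg.2 (Module.FinitePresentation.fg_ker l hl)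
  -- the kernel embeds into `M₁`
  let eM : M₁ ≃ₗ[R] LinearMap.ker g := (LinearEquiv.ofInjective f hf).trans (LinearEquiv.ofEq _ _ hfg)
  let κ : LinearMap.ker l →ₗ[R] M₁ := eM.symm.toLinearMap.comp
    ((N.subtype.comp (LinearMap.ker l).subtype).codRestrict (LinearMap.ker g) fun x => congrArg Subtype.val (LinearMap.mem_ker.1 x.2))
  have hκ : Function.Injective κ := fun a b h => Subtype.ext (Subtype.ext (congrArg Subtype.val (eM.symm.injective h) : _))
  haveI : Module.FinitePresentation R (LinearMap.ker l) := by
    haveI := CohMod.fp_of_fg_map h₁.2 hκ ⊤ Module.Finite.fg_top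
    exact Module.FinitePresentation.of_equiv Submodule.topEquiv
  exact Module.finitePresentation_of_ker l hl

end Groth.Agent.S6367
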