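import Groth.Statements.S6366
import Groth.Agent.CohMod.Basic
import Groth.Agent.S6367
import Mathlib.LinearAlgebra.Prod
import Mathlib.LinearAlgebra.Pi
import Mathlib.LinearAlgebra.Isomorphisms

set_option autoImplicit false
universe u
open CAlg Groth.Agent

namespace Groth.Agent.S6366

/-- Let R be a coherent ring, i.e. every finitely generated ideal of R is finitely presented. Then an
R-module is coherent (finitely generated, and every finitely generated submodule is finitely
presented) if and only if it is finitely presented. -/
theorem result (R : Type u) [CommRing R]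
    (hR : ∀ I : Ideal R, I.FG → Module.FinitePresentation R I) (M : Type u) [AddCommGroup M] [Module R M] :
    (Module.Finite R M ∧ ∀ N : Submodule R M, N.FG → Module.FinitePresentation R N) ↔ Module.FinitePresentation R M := by
  constructor
  · rintro ⟨hf, h⟩
    haveI := h ⊤ hf.fg_top
    exact Module.FinitePresentation.of_equiv Submodule.topEquiv
  intro hM
  have hpi : ∀ n : ℕ, Module.Finite R (Fin n → R) ∧ ∀ N : Submodule R (Fin n → R), N.FG → Module.FinitePresentation R N := by
    intro n
    induction n with
    | zero => exact ⟨inferInstance, fun N _ => inferInstance⟩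
    | succ n ih =>
      let f : (Fin n → R) →ₗ[R] (Fin (n + 1) → R) :=
        { toFun := fun v => Fin.cons 0 v
          map_add' := fun a b => by ext i; refine Fin.cases ?_ (fun j => ?_) i <;> simp
          map_smul' := fun c a => by ext i; refine Fin.cases ?_ (fun j => ?_) i <;> simp }
      refine S6367.result R f (LinearMap.proj 0) (fun a b h => funext fun j => by simpa [f] using congr_fun h j.succ)
        (fun r => ⟨fun _ => r, rfl⟩) ?_ ih ⟨inferInstance, fun N hN => hR N hN⟩
      ext v
      refine ⟨fun ⟨w, hw⟩ => hw ▸ rfl, fun hv => ⟨Fin.tail v, ?_⟩⟩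
      show Fin.cons 0 (Fin.tail v) = v
      rw [← (show v 0 = 0 from hv)]; exact Fin.cons_self_tail v
  obtain ⟨n, K, e, hK⟩ := Module.FinitePresentation.exists_fin R M
  refine ⟨inferInstance, fun N hN => ?_⟩
  exact CohMod.fp_of_fg_map (fun P hP => CohMod.fp_quotient (hpi n).2 K hK P hP) e.injective N hN

end Groth.Agent.S6366
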