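import Groth.Statements.S14743
import Groth.Agent.Assoc.Kernel

set_option autoImplicit false
universe u
open CategoryTheory MonoidalCategory CartesianMonoidalCategory MonObj GrpObj AlgebraicGeometry
open AlgGrp

namespace Groth.Agent.S14743

/-- Over an algebraically closed field k let L, G, B be commutative k-group schemes, i : L → G and π : G
→ B homomorphisms with i the kernel of π, and suppose that every k-morphism B × B → L is constant
(factors through a k-point of L). If π admits a section which is a morphism of k-schemes, then it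
admits a section which is a homomorphism, so the extension splits. (The published statement is for
algebraic groups, that is, of finite type over k; finiteness plays no role and is not assumed here.) -/
theorem result (k : Type u) [Field k] [IsAlgClosed k]
    (L G B : Over (Spec (CommRingCat.of k))) [GrpObj L] [GrpObj G] [GrpObj B]
    [IsCommMonObj L] [IsCommMonObj G] [IsCommMonObj B]
    (i : L ⟶ G) [IsMonHom i] (π : G ⟶ B) [IsMonHom π] (hker : AlgGrp.IsKernel i π)
    (hconst : ∀ f : B ⊗ B ⟶ L, ∃ l : 𝟙_ (Over (Spec (CommRingCat.of k))) ⟶ L, f = toUnit (B ⊗ B) ≫ l)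
    (s : B ⟶ G) (hs : s ≫ π = 𝟙 B) :
    ∃ s' : B ⟶ G, IsMonHom s' ∧ s' ≫ π = 𝟙 B := by
  let d : B ⊗ B ⟶ G := (fst B B ≫ s) * (snd B B ≫ s) * ((fst B B * snd B B) ≫ s)⁻¹
  have hd : d ≫ π = toUnit _ ≫ η[B] := by
    rw [← Hom.one_def, MonObj.mul_comp, MonObj.mul_comp, GrpObj.inv_comp, Category.assoc, Category.assoc,
      Category.assoc, hs, Category.comp_id, Category.comp_id, Category.comp_id, mul_inv_cancel]
  obtain ⟨l, hl⟩ := hconst (hker.lift d (toUnit _) hd)
  have hdl : d = toUnit _ ≫ l ≫ i := by rw [← Category.assoc, ← hl, hker.lift_fst]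
  let c : B ⟶ G := toUnit B ≫ l ≫ i
  have hc : c ≫ π = 1 := by
    simp only [c, Category.assoc]
    rw [Assoc.kernel_comp_eq_one i π hker, MonObj.comp_one]
  have hm : ∀ {T : Over (Spec (CommRingCat.of k))} (x y : T ⟶ B),
      (x * y) ≫ s = (x ≫ s) * (y ≫ s) * (toUnit T ≫ l ≫ i)⁻¹ := by
    intro T x y
    have h := congrArg (lift x y ≫ ·) hdl
    simp only [d, MonObj.comp_mul, GrpObj.comp_inv, lift_fst_assoc, lift_snd_assoc, lift_fst, lift_snd,
      comp_toUnit_assoc, ← Category.assoc (lift x y) (fst B B * snd B B)] at h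
    rw [← h]
    apply Additive.ofMul.injective
    simp only [ofMul_mul, ofMul_inv]
    abel
  refine ⟨s * c⁻¹, ?_, ?_⟩
  · refine ⟨?_, ?_⟩
    · have h := hm (1 : 𝟙_ (Over (Spec (CommRingCat.of k))) ⟶ B) 1
      rw [_root_.one_mul] at h
      have h1 : (1 : 𝟙_ (Over (Spec (CommRingCat.of k))) ⟶ B) ≫ s = toUnit (𝟙_ _) ≫ l ≫ i := by
        have h' := mul_inv_eq_iff_eq_mul.1 h.symm
        exact mul_left_cancel h'
      change η[B] ≫ (s * c⁻¹) = η[G]
      rw [MonObj.comp_mul, GrpObj.comp_inv, show η[B] = (1 : 𝟙_ _ ⟶ B) by rw [Hom.one_def, toUnit_unique (toUnit _) (𝟙 _), Category.id_comp],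
        h1, comp_toUnit_assoc, mul_inv_cancel, Hom.one_def, toUnit_unique (toUnit _) (𝟙 _), Category.id_comp]
    · have h1 : μ[B] = fst B B * snd B B := by rw [Hom.mul_def, lift_fst_snd, Category.id_comp]
      have h2 : ((s * c⁻¹) ⊗ₘ (s * c⁻¹)) ≫ μ[G] = (fst B B ≫ (s * c⁻¹)) * (snd B B ≫ (s * c⁻¹)) := by
        rw [Hom.mul_def]
        congr 1
      rw [h2, h1, MonObj.comp_mul, GrpObj.comp_inv, hm, MonObj.comp_mul, MonObj.comp_mul, GrpObj.comp_inv,
        GrpObj.comp_inv]
      simp only [c, comp_toUnit_assoc]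
      apply Additive.ofMul.injective
      simp only [ofMul_mul, ofMul_inv]
      abel
  · rw [MonObj.mul_comp, hs, GrpObj.inv_comp, hc, inv_one, _root_.mul_one]

end Groth.Agent.S14743
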