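import Groth.Statements.S14746
import Groth.Agent.LangMap.Main
import Groth.Agent.SubGen.AlgClosed

set_option autoImplicit false
set_option backward.isDefEq.respectTransparency false
set_option linter.style.haveILetI false
universe u
open CategoryTheory MonoidalCategory CartesianMonoidalCategory MonObj GrpObj AlgebraicGeometry CategoryTheory.Limits
open AlgGrp

namespace Groth.Agent.S14746

open SubGen TopologicalSpace

variable {k : Type u} [Field k] [IsAlgClosed k]

/-- An endomorphism of an irreducible variety with finite fibres on rational points has dense constructible image. -/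
theorem exists_open_range {H : Over (Spec (CommRingCat.of k))} [LocallyOfFiniteType H.hom] [QuasiCompact H.hom]
    [IrreducibleSpace H.left] (f : H ⟶ H)
    (hfib : ∀ a : 𝟙_ (Over (Spec (CommRingCat.of k))) ⟶ H,
      Finite {b : 𝟙_ (Over (Spec (CommRingCat.of k))) ⟶ H // b ≫ f = a ≫ f}) :
    ∃ U : Set H.left, IsOpen U ∧ U.Nonempty ∧ U ⊆ Set.range f.left := by
  classical
  haveI : IsLocallyNoetherian H.left := LocallyOfFiniteType.isLocallyNoetherian H.hom
  haveI : JacobsonSpace H.left := LocallyOfFiniteType.jacobsonSpace H.hom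
  haveI : CompactSpace H.left := QuasiCompact.compactSpace_of_compactSpace H.hom
  haveI : LocallyOfFiniteType (f.left ≫ H.hom) := by rw [Over.w f]; infer_instance
  haveI : LocallyOfFiniteType f.left := locallyOfFiniteType_of_comp f.left H.hom
  haveI : QuasiCompact (f.left ≫ H.hom) := by rw [Over.w f]; infer_instance
  haveI : QuasiSeparated H.hom := inferInstance
  haveI : QuasiCompact f.left := QuasiCompact.of_comp f.left H.hom
  obtain ⟨x, -, hx⟩ := nonempty_inter_closedPoints (Z := (Set.univ : Set H.left))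
    ⟨genericPoint H.left, trivial⟩ isClosed_univ.isLocallyClosed
  obtain ⟨a, rfl⟩ := exists_rpt hx
  haveI : Finite {b : 𝟙_ (Over (Spec (CommRingCat.of k))) ⟶ H | b ≫ f = a ≫ f} := hfib a
  let T : Set H.left := rpt '' {b | b ≫ f = a ≫ f ∧ b ≠ a}
  have hTfin : T.Finite := (Set.Finite.subset (Set.toFinite {b | b ≫ f = a ≫ f}) fun b hb => hb.1).image _
  have hTcl : IsClosed T := by
    have : T = ⋃ y ∈ T, {y} := (Set.biUnion_of_singleton T).symm
    rw [this]
    exact hTfin.isClosed_biUnion fun y hy => by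
      obtain ⟨b, -, rfl⟩ := hy
      exact rpt_mem_closedPoints b
  have hsub : Tᶜ ∩ f.left ⁻¹' {f.left (rpt a)} ⊆ {rpt a} := by
    intro y hy
    by_contra hne
    have hlc : IsLocallyClosed (Tᶜ ∩ f.left ⁻¹' {f.left (rpt a)} ∩ {rpt a}ᶜ) :=
      (hTcl.isOpen_compl.isLocallyClosed.inter
        ((show IsClosed ({f.left (rpt a)} : Set H.left) from rpt_mem_closedPoints (a ≫ f)).preimage
          f.left.continuous).isLocallyClosed).inter
        (show IsClosed ({rpt a} : Set H.left) from rpt_mem_closedPoints a).isOpen_compl.isLocallyClosed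
    obtain ⟨z, ⟨⟨hzT, hzf⟩, hza⟩, hz⟩ := nonempty_inter_closedPoints (Z := Tᶜ ∩ f.left ⁻¹' {f.left (rpt a)} ∩ {rpt a}ᶜ) ⟨y, hy, hne⟩ hlc
    obtain ⟨b, rfl⟩ := exists_rpt hz
    exact hzT ⟨b, ⟨rpt_injective (show rpt (b ≫ f) = rpt (a ≫ f) from hzf), fun h => hza (by rw [h]; exact rfl)⟩, rfl⟩
  have haT : rpt a ∈ Tᶜ := by
    rintro ⟨b, ⟨-, hne⟩, hb⟩
    exact hne (rpt_injective hb)
  have hqf : f.left.QuasiFiniteAt (rpt a) := by
    rw [Scheme.Hom.quasiFiniteAt_iff_isOpen_singleton_asFiber]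
    change IsOpen ({f.left.asFiber (rpt a)} : Set ↥(f.left.fiber (f.left (rpt a))))
    convert hTcl.isOpen_compl.preimage (f.left.fiberι (f.left (rpt a))).continuous using 1
    ext z
    rw [Set.mem_singleton_iff]
    constructor
    · rintro rfl
      rwa [Set.mem_preimage, f.left.fiberι_asFiber]
    · intro hz
      refine (f.left.fiberι (f.left (rpt a))).isEmbedding.injective ?_
      rw [f.left.fiberι_asFiber]
      have h : f.left.fiberι (f.left (rpt a)) z ∈ Set.range (f.left.fiberι (f.left (rpt a))) := ⟨z, rfl⟩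
      rw [f.left.range_fiberι] at h
      exact hsub ⟨hz, h⟩
  have hξ : f.left.QuasiFiniteAt (genericPoint H.left) :=
    ((genericPoint_spec H.left).specializes trivial).mem_open f.left.isOpen_quasiFiniteAt hqf
  have h1 := WeilLib.pdim_eq_of_residueDegree_ne_zero H.hom f.left H.hom (Over.w f)
    (Rigid.residueDegree_ne_zero_of_quasiFiniteAt f.left hξ)
  have hgen : f.left (genericPoint H.left) = genericPoint H.left := by
    by_contra hne
    exact absurd h1 (WeilLib.pdim_lt H.hom (genericPoint_specializes (f.left (genericPoint H.left))) hne).ne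
  refine LangMap.exists_open_subset_of_genericPoint ?_ ⟨_, hgen⟩
  rw [← Set.image_univ]
  exact f.left.isConstructible_image .univ

/-- Twisted conjugacy classes with finite stabilisers meet. -/
theorem exists_lang {H : Over (Spec (CommRingCat.of k))} [GrpObj H] [LocallyOfFiniteType H.hom] [QuasiCompact H.hom]
    [ConnectedSpace H.left] (τ : H ⟶ H) [IsMonHom τ] (c : 𝟙_ (Over (Spec (CommRingCat.of k))) ⟶ H)
    (hc : Finite {d : 𝟙_ (Over (Spec (CommRingCat.of k))) ⟶ H // c * (d ≫ τ) * c⁻¹ = d})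
    (h1 : Finite {d : 𝟙_ (Over (Spec (CommRingCat.of k))) ⟶ H // d ≫ τ = d}) :
    ∃ w : 𝟙_ (Over (Spec (CommRingCat.of k))) ⟶ H, w⁻¹ * (w ≫ τ) = c := by
  haveI : GeometricallyIrreducible H.hom := GrpField.geometricallyIrreducible_of_connected H
  haveI hirr : IrreducibleSpace H.left := GeometricallyIrreducible.irreducibleSpace H.hom fun U _ => by
    haveI : Subsingleton (Spec (CommRingCat.of k)) := inferInstanceAs (Subsingleton (PrimeSpectrum k))
    exact isOpen_discrete _
  haveI : JacobsonSpace H.left := LocallyOfFiniteType.jacobsonSpace H.hom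
  let L : (𝟙_ (Over (Spec (CommRingCat.of k))) ⟶ H) → (H ⟶ H) := fun c => (𝟙 H)⁻¹ * (toUnit H ≫ c) * τ
  have hL : ∀ c (b : 𝟙_ (Over (Spec (CommRingCat.of k))) ⟶ H), b ≫ L c = b⁻¹ * c * (b ≫ τ) := by
    intro c b
    simp only [L, MonObj.comp_mul, GrpObj.comp_inv, Category.comp_id]
    rw [← Category.assoc, show b ≫ toUnit H = 𝟙 _ from toUnit_unique _ _, Category.id_comp]
  have hfin : ∀ c : 𝟙_ (Over (Spec (CommRingCat.of k))) ⟶ H,
      Finite {d : 𝟙_ (Over (Spec (CommRingCat.of k))) ⟶ H // c * (d ≫ τ) * c⁻¹ = d} →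
      ∃ U : Set H.left, IsOpen U ∧ U.Nonempty ∧ U ⊆ Set.range (L c).left := by
    intro c hc
    refine exists_open_range (L c) fun a => ?_
    refine Finite.of_injective (fun b => (⟨b.1 * a⁻¹, ?_⟩ : {d // c * (d ≫ τ) * c⁻¹ = d}))
      fun b b' h => Subtype.ext (mul_right_cancel (congrArg Subtype.val h))
    obtain ⟨b, hb⟩ := b
    rw [hL, hL] at hb
    rw [MonObj.mul_comp, GrpObj.inv_comp]
    calc c * ((b ≫ τ) * (a ≫ τ)⁻¹) * c⁻¹ = b * (b⁻¹ * c * (b ≫ τ)) * (a ≫ τ)⁻¹ * c⁻¹ := by group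
      _ = b * a⁻¹ := by rw [hb]; group
  obtain ⟨U, hU, hUne, hUa⟩ := hfin c hc
  obtain ⟨V, hV, hVne, hV1⟩ := hfin 1 (by simpa using h1)
  obtain ⟨z, ⟨hzU, hzV⟩, hz⟩ := nonempty_inter_closedPoints (Z := U ∩ V)
    ⟨_, ((genericPoint_spec H.left).mem_open_set_iff hU).2 (by simpa using hUne),
      ((genericPoint_spec H.left).mem_open_set_iff hV).2 (by simpa using hVne)⟩ (hU.inter hV).isLocallyClosed
  obtain ⟨q, rfl⟩ := exists_rpt hz
  have lifts : ∀ c : 𝟙_ (Over (Spec (CommRingCat.of k))) ⟶ H, rpt q ∈ Set.range (L c).left →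
      ∃ x, x⁻¹ * c * (x ≫ τ) = q := by
    intro c hc
    obtain ⟨v, hv, hvc⟩ := nonempty_inter_closedPoints (Z := (L c).left ⁻¹' {rpt q}) hc
      ((show IsClosed ({rpt q} : Set H.left) from rpt_mem_closedPoints q).preimage (L c).left.continuous).isLocallyClosed
    obtain ⟨x, rfl⟩ := exists_rpt hvc
    exact ⟨x, by rw [← hL]; exact rpt_injective hv⟩
  obtain ⟨x, hx⟩ := lifts c (hUa hzU)
  obtain ⟨y, hy⟩ := lifts 1 (hV1 hzV)
  refine ⟨y * x⁻¹, ?_⟩
  rw [_root_.mul_one] at hy
  rw [MonObj.mul_comp, GrpObj.inv_comp, _root_.mul_inv_rev, _root_.inv_inv]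
  calc x * y⁻¹ * ((y ≫ τ) * (x ≫ τ)⁻¹) = x * (y⁻¹ * (y ≫ τ)) * (x ≫ τ)⁻¹ := by group
    _ = c := by rw [hy, ← hx]; group

/-- Over an algebraically closed field k let G be a k-group scheme of finite type, i : H → G a smooth
connected affine closed subgroup scheme, and X = G/H the quotient with its G-action, base point o
and orbit map G → X. Let σ be an endomorphism of G restricting to a surjective endomorphism τ of H
and compatible with an endomorphism φ of X under the orbit map, and suppose σ has only finitely many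
fixed k-points. Then the number of fixed k-points of σ equals the number of fixed k-points of τ
times the number of fixed k-points of φ. (The published statement allows any subgroup H and any
restriction τ; for the square roots of unity inside the multiplicative group and the cube map the
count fails, and the published proof applies the surjectivity of the Lang map h ↦ h⁻¹τ(h) of H, so H
is taken smooth, connected and affine and τ surjective here.) -/
theorem result (k : Type u) [Field k] [IsAlgClosed k]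
    (G H : Over (Spec (CommRingCat.of k))) [GrpObj G] [GrpObj H] [QuasiCompact G.hom] [LocallyOfFiniteType G.hom]
    (i : H ⟶ G) [IsMonHom i] [IsClosedImmersion i.left] [Smooth H.hom] [ConnectedSpace ↥H.left] [IsAffine H.left]
    (X : Over (Spec (CommRingCat.of k))) (a : AlgGrp.Action G X) (o : 𝟙_ (Over (Spec (CommRingCat.of k))) ⟶ X)
    (hX : AGF.IsQuotient i X a o)
    (σ : G ⟶ G) [IsMonHom σ] (τ : H ⟶ H) [IsMonHom τ] (hτ : τ ≫ i = i ≫ σ) (hτs : Surjective τ.left)
    (φ : X ⟶ X) (hφ : a.orbitMap o ≫ φ = σ ≫ a.orbitMap o)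
    (hfin : Finite {g : 𝟙_ (Over (Spec (CommRingCat.of k))) ⟶ G // g ≫ σ = g}) :
    Nat.card {g : 𝟙_ (Over (Spec (CommRingCat.of k))) ⟶ G // g ≫ σ = g} =
      Nat.card {h : 𝟙_ (Over (Spec (CommRingCat.of k))) ⟶ H // h ≫ τ = h} *
        Nat.card {x : 𝟙_ (Over (Spec (CommRingCat.of k))) ⟶ X // x ≫ φ = x} := by
  haveI : LocallyOfFiniteType X.hom := hX.1
  haveI : LocallyOfFiniteType H.hom := by rw [← Over.w i]; infer_instance
  haveI : QuasiCompact H.hom := by rw [← Over.w i]; infer_instance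
  haveI : JacobsonSpace G.left := LocallyOfFiniteType.jacobsonSpace G.hom
  haveI : Surjective (a.orbitMap o).left := hX.2.2.1
  have hpb := hX.2.2.2
  let π := a.orbitMap o
  have hlift : ∀ (g : 𝟙_ (Over (Spec (CommRingCat.of k))) ⟶ G) (h : 𝟙_ (Over (Spec (CommRingCat.of k))) ⟶ H),
      lift g h ≫ (G ◁ i) ≫ μ[G] = g * (h ≫ i) := fun g h => by
    rw [← Category.assoc, lift_whiskerLeft]; rfl
  have hsame : ∀ (g : 𝟙_ (Over (Spec (CommRingCat.of k))) ⟶ G) (h : 𝟙_ (Over (Spec (CommRingCat.of k))) ⟶ H),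
      (g * (h ≫ i)) ≫ π = g ≫ π := fun g h => by
    rw [← hlift, Category.assoc, ← hpb.w, ← Category.assoc, lift_fst]
  have hdiff : ∀ g g' : 𝟙_ (Over (Spec (CommRingCat.of k))) ⟶ G, g ≫ π = g' ≫ π →
      ∃ h : 𝟙_ (Over (Spec (CommRingCat.of k))) ⟶ H, g * (h ≫ i) = g' := by
    intro g g' h
    obtain ⟨t, ht1, ht2⟩ := hpb.exists_lift g g' h
    refine ⟨t ≫ snd G H, ?_⟩
    rw [← ht2, ← hlift]
    congr 1
    apply CartesianMonoidalCategory.hom_ext <;> simp [ht1]
  haveI : Mono i := Over.mono_of_mono_left i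
  have hiσ : ∀ h : 𝟙_ (Over (Spec (CommRingCat.of k))) ⟶ H, (h ≫ i) ≫ σ = (h ≫ τ) ≫ i := fun h => by
    rw [Category.assoc, ← hτ, Category.assoc]
  have hHfin : Finite {h : 𝟙_ (Over (Spec (CommRingCat.of k))) ⟶ H // h ≫ τ = h} :=
    Finite.of_injective (fun h => (⟨h.1 ≫ i, by rw [hiσ, h.2]⟩ : {g // g ≫ σ = g}))
      fun h h' e => Subtype.ext ((cancel_mono i).1 (congrArg Subtype.val e))
  have hsec : ∀ x : {x : 𝟙_ (Over (Spec (CommRingCat.of k))) ⟶ X // x ≫ φ = x},
      ∃ g : 𝟙_ (Over (Spec (CommRingCat.of k))) ⟶ G, g ≫ σ = g ∧ g ≫ π = x.1 := by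
    rintro ⟨x, hx⟩
    obtain ⟨z, hz⟩ := π.left.surjective (rpt x)
    obtain ⟨v, hv, hvc⟩ := nonempty_inter_closedPoints (Z := π.left ⁻¹' {rpt x}) ⟨z, hz⟩
      ((show IsClosed ({rpt x} : Set X.left) from rpt_mem_closedPoints x).preimage π.left.continuous).isLocallyClosed
    obtain ⟨g, rfl⟩ := exists_rpt hvc
    have hg : g ≫ π = x := rpt_injective hv
    have hgσ : g ≫ π = (g ≫ σ) ≫ π := by
      rw [Category.assoc, ← hφ, ← Category.assoc, hg, hx]
    obtain ⟨c, hc⟩ := hdiff g (g ≫ σ) hgσ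
    have hcfin : Finite {d : 𝟙_ (Over (Spec (CommRingCat.of k))) ⟶ H // c * (d ≫ τ) * c⁻¹ = d} := by
      refine Finite.of_injective (fun d => (⟨g * (d.1 ≫ i) * g⁻¹, ?_⟩ : {g // g ≫ σ = g}))
        fun d d' e => Subtype.ext ((cancel_mono i).1 (mul_left_cancel (mul_right_cancel (congrArg Subtype.val e))))
      have hd := congrArg (· ≫ i) d.2
      simp only [MonObj.mul_comp, GrpObj.inv_comp] at hd
      rw [MonObj.mul_comp, MonObj.mul_comp, GrpObj.inv_comp, hiσ, ← hc, ← hd]
      group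
    obtain ⟨w, hw⟩ := exists_lang τ c hcfin hHfin
    refine ⟨g * (w⁻¹ ≫ i), ?_, by rw [hsame, hg]⟩
    rw [MonObj.mul_comp, ← hc, hiσ, ← hw]
    simp only [MonObj.mul_comp, GrpObj.inv_comp]
    group
  choose s hs1 hs2 using hsec
  rw [← Nat.card_prod]
  symm
  refine Nat.card_eq_of_bijective (fun p => (⟨s p.2 * (p.1.1 ≫ i), ?_⟩ : {g // g ≫ σ = g})) ⟨?_, ?_⟩
  · rw [MonObj.mul_comp, hs1, hiσ, p.1.2]
  · rintro ⟨h, x⟩ ⟨h', x'⟩ e
    have e1 : s x * (h.1 ≫ i) = s x' * (h'.1 ≫ i) := congrArg Subtype.val e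
    have e2 : x = x' := Subtype.ext (by
      rw [← hs2 x, ← hs2 x', ← hsame (s x) h.1, e1, hsame])
    subst e2
    exact Prod.ext (Subtype.ext ((cancel_mono i).1 (mul_left_cancel e1))) rfl
  · rintro ⟨g, hg⟩
    let x : {x : 𝟙_ (Over (Spec (CommRingCat.of k))) ⟶ X // x ≫ φ = x} := ⟨g ≫ π, by
      rw [Category.assoc, hφ, ← Category.assoc, hg]⟩
    obtain ⟨h, hh⟩ := hdiff (s x) g (hs2 x)
    refine ⟨(⟨h, (cancel_mono i).1 ?_⟩, x), Subtype.ext hh⟩
    refine mul_left_cancel (a := s x) ?_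
    rw [← hiσ, hh]
    calc s x * ((h ≫ i) ≫ σ) = (s x * (h ≫ i)) ≫ σ := by rw [MonObj.mul_comp, hs1]
      _ = g := by rw [hh, hg]

end Groth.Agent.S14746
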