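import Groth.Statements.S4691
import Groth.Agent.FlatDim.DimSets
import Groth.Agent.DimFormula.Dims

set_option autoImplicit false
set_option linter.style.haveILetI false
set_option backward.isDefEq.respectTransparency false
open Groth.Agent
universe u
open EGA4

namespace Groth.Agent.S4691

open AlgebraicGeometry CategoryTheory in
/-- Let Y be a locally Noetherian scheme, f : X → Y a morphism locally of finite type and n a natural
number such that every fibre of f has dimension at most n. Then dim X ≤ dim Y + n. -/
theorem result {X Y : Scheme.{u}} (f : X ⟶ Y) [IsLocallyNoetherian Y]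
    [LocallyOfFiniteType f] (n : ℕ) (h : ∀ y : Y, topologicalKrullDim (f.fiber y) ≤ n) :
    topologicalKrullDim X ≤ topologicalKrullDim Y + n := by
  haveI : IsLocallyNoetherian X := LocallyOfFiniteType.isLocallyNoetherian f
  refine Unibranch.le_of_forall_natCast_le fun l hl => ?_
  obtain ⟨c, hc⟩ := Unibranch.exists_chain_of_le_topologicalKrullDim hl
  let ζ := c 0
  let x := c (Fin.last l)
  have hζx : ζ ⤳ x := Unibranch.specializes_of_chain c hc _
  obtain ⟨m, hm1, hm2⟩ := DimFormula.exists_genLE_hasGen (hζx.map f.continuous)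
  obtain ⟨e, he1, he2, -⟩ := Unibranch.exists_dim_closure_eq f ζ
  have hen : e ≤ n := Unibranch.natCast_le_iff_of_le_iff.1 (h (f ζ)) e
    ((FlatDim.natCast_le_fibre_iff f (f ζ)).2 ⟨ζ, rfl, he2⟩)
  have h0 := DimFormula.dimension_inequality f hζx (ζ := ζ) (a := l) ⟨c, hc, specializes_rfl, rfl⟩ hm1
    (d := 0) ⟨fun _ => x, fun _ => ⟨subset_closure rfl, rfl⟩, fun i => i.elim0⟩ he1
  obtain ⟨g, hg, -, -⟩ := hm2
  refine le_trans ?_ (add_le_add (Unibranch.natCast_le_topologicalKrullDim g hg) le_rfl)
  have : l ≤ m + n := by omega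
  exact_mod_cast this

end Groth.Agent.S4691
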