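import Groth.Statements.S14748
import Groth.Agent.EtCdCover.Main
import Groth.Agent.TorusExtDim.Main
import Groth.Agent.ProjNoether.AffineCover
import Groth.Agent.SmDiv.Main
import Groth.Agent.S10958

set_option autoImplicit false
universe u
open CategoryTheory CategoryTheory.Limits MonoidalCategory CartesianMonoidalCategory MonObj GrpObj AlgebraicGeometry
open EtAdic

namespace Groth.Agent.S14748

/-- Let k be an algebraically closed field, ℓ a prime invertible in k, and G a semi-abelian variety over
k: a smooth connected commutative k-group scheme of finite type with a closed subgroup scheme i : T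
→ G which is a split torus of rank n and is the kernel of a flat surjective homomorphism π : G → A
onto an abelian variety A (proper, smooth, connected k-group scheme) of dimension g. Then H^r(G_et,
Z/ℓ^ν) = 0 for every ν and every r > 2g + n. (The published statement is for rational ℓ-adic
coefficients; the vanishing is stated here at each finite level Z/ℓ^ν, which is what the published
proof gives.) -/
theorem result (k : Type u) [Field k] [IsAlgClosed k]
    (ℓ : ℕ) [Fact ℓ.Prime] (hℓ : (ℓ : k) ≠ 0)
    (G T A : Over (Spec (CommRingCat.of k))) [GrpObj G] [GrpObj T] [GrpObj A] [IsCommMonObj G]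
    [Smooth G.hom] [QuasiCompact G.hom] [ConnectedSpace ↥G.left]
    [IsProper A.hom] [Smooth A.hom] [ConnectedSpace ↥A.left]
    (n : ℕ) (hT : Red.IsSplitTorusWith (Fin n → ℤ) T) (i : T ⟶ G) [IsMonHom i] [IsClosedImmersion i.left]
    (π : G ⟶ A) [IsMonHom π] [Flat π.left] [Surjective π.left] (hker : AlgGrp.IsKernel i π)
    (g : ℕ) (hg : topologicalKrullDim ↥A.left = g) (ν r : ℕ) (hr : 2 * g + n < r) :
    Subsingleton (EtAdic.Hmod G.left ℓ r ν) := by
  haveI : IrreducibleSpace A.left := Groth.Agent.SmDiv.irreducibleSpace A.hom
  obtain ⟨N, j, hj, -⟩ := S10958.result k A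
  haveI := hj
  let j' : A.left ⟶ Proj (CohB1.polyGrading N k) := j
  haveI : IsClosedImmersion j' := hj
  haveI : IsImmersion j' := inferInstance
  obtain ⟨U, hU, hcov⟩ := Groth.Agent.ProjNoether.exists_affine_cover
    (𝒜 := CohB1.polyGrading N k) j' g hg.le
  haveI : Mono i := Over.mono_of_mono_left i
  obtain ⟨haff, hdim⟩ := Groth.Agent.TorusExtDim.main hT i π hker hg.le
  haveI := haff
  haveI : IsSeparated (π.left ≫ A.hom) := inferInstance
  haveI : IsSeparated G.hom := by rw [← Over.w π]; infer_instance
  haveI : G.left.IsSeparated := ⟨by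
    rw [terminal.hom_ext (terminal.from G.left) (G.hom ≫ terminal.from _)]
    infer_instance⟩
  have h := Groth.Agent.EtCdCover.kVan_cover (g + n) g G.left G.hom hdim (fun a => π.left ⁻¹ᵁ U a)
    (fun a => (hU a).preimage π.left) (by rw [← Scheme.Hom.preimage_iSup, hcov]; rfl)
  exact h (ℓ ^ ν) (pow_pos (Fact.out : ℓ.Prime).pos ν) _ (Groth.Agent.EtPBC.killed_const _ _) r (by omega)

end Groth.Agent.S14748
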