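import Groth.Statements.S14751
import Groth.Agent.Rigid.Smooth
import Groth.Agent.ClosedRep.Over
import Mathlib.AlgebraicGeometry.Morphisms.Finite
import Groth.Agent.S2501

set_option autoImplicit false
universe u
open CategoryTheory CategoryTheory.Limits MonoidalCategory CartesianMonoidalCategory MonObj GrpObj AlgebraicGeometry
open AlgGrp

namespace Groth.Agent.S14751

/-- Over an algebraically closed field k let G be a group variety (smooth connected k-group scheme of
finite type), i : N → G an affine closed subgroup scheme which is the kernel of a flat surjective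
homomorphism π : G → Q, and j : A → G an abelian subvariety (a smooth connected proper closed
subgroup scheme) with A · N = G, that is, the multiplication A × N → G is surjective. Then the
multiplication A × N → G is a homomorphism and an isogeny (surjective with finite kernel), and so is
the composite A → G → Q. (In the published statement N is the largest connected affine normal
subgroup variety and Q = G/N the Albanese quotient; only the listed properties are used.) -/
theorem result (k : Type u) [Field k] [IsAlgClosed k]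
    (G N A Q : Over (Spec (CommRingCat.of k))) [GrpObj G] [GrpObj N] [GrpObj A] [GrpObj Q]
    [Smooth G.hom] [QuasiCompact G.hom] [ConnectedSpace ↥G.left]
    (i : N ⟶ G) [IsMonHom i] [IsClosedImmersion i.left] [IsAffine N.left]
    (π : G ⟶ Q) [IsMonHom π] [Flat π.left] [Surjective π.left] (hker : AlgGrp.IsKernel i π)
    (j : A ⟶ G) [IsMonHom j] [IsClosedImmersion j.left] [Smooth A.hom] [ConnectedSpace ↥A.left] [IsProper A.hom]
    (hsurj : Surjective ((j ⊗ₘ i) ≫ μ[G]).left) :
    IsMonHom ((j ⊗ₘ i) ≫ μ[G]) ∧ SGA7.IsIsogenyOver ((j ⊗ₘ i) ≫ μ[G]) ∧ SGA7.IsIsogenyOver (j ≫ π) := by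

  haveI : Subsingleton (Spec (CommRingCat.of k)) := inferInstanceAs (Subsingleton (PrimeSpectrum k))
  haveI : IsSeparated G.hom := Groth.Agent.ClosedRep.isSeparated_of_field k G
  haveI : GeometricallyConnected A.hom := Groth.Agent.S2501.result A.hom
  have hg := Groth.Agent.Rigid.goodFibres_of_smooth A.hom
  -- the abelian subvariety is central
  have hcomm : ∀ {T : Over (Spec (CommRingCat.of k))} (a : T ⟶ A) (g : T ⟶ G),
      g * (a ≫ j) = (a ≫ j) * g := by
    intro T a g
    let φ : A ⊗ G ⟶ G := snd A G * (fst A G ≫ j) * (snd A G)⁻¹ * (fst A G ≫ j)⁻¹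
    have hφ : φ = toUnit (A ⊗ G) ≫ (1 : 𝟙_ (Over (Spec (CommRingCat.of k))) ⟶ G) := by
      refine Groth.Agent.Rigid.eq_const_of_axes hg 1 1 (fun s => ?_) φ 1 ?_ ?_
      · rw [show G.hom ⁻¹' {s} = Set.univ from Set.eq_univ_of_forall fun x => Subsingleton.elim _ _]
        exact isPreconnected_univ
      · simp only [φ, MonObj.comp_mul, GrpObj.comp_inv, MonObj.comp_one, lift_fst_assoc, lift_snd,
          Category.id_comp]
        simp
      · simp only [φ, MonObj.comp_mul, GrpObj.comp_inv, MonObj.comp_one, lift_fst_assoc, lift_snd]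
        simp
    have h := congrArg (lift a g ≫ ·) hφ
    simp only [φ, MonObj.comp_mul, GrpObj.comp_inv, MonObj.comp_one, lift_fst_assoc, lift_snd] at h
    exact mul_inv_eq_one.1 (by rwa [_root_.mul_inv_rev, ← _root_.mul_assoc])
  let m := (j ⊗ₘ i) ≫ μ[G]
  have hm : m = (fst A N ≫ j) * (snd A N ≫ i) := by
    rw [Hom.mul_def]
    congr 1
  have hmap : ∀ {T : Over (Spec (CommRingCat.of k))} (p : T ⟶ A ⊗ N),
      p ≫ m = ((p ≫ fst A N) ≫ j) * ((p ≫ snd A N) ≫ i) := fun p => by
    rw [hm, MonObj.comp_mul, Category.assoc, Category.assoc]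
  have hmul : ∀ {T : Over (Spec (CommRingCat.of k))} (p p' : T ⟶ A ⊗ N), (p * p') ≫ m = (p ≫ m) * (p' ≫ m) := by
    intro T p p'
    have e1 : (p * p') ≫ fst A N = (p ≫ fst A N) * (p' ≫ fst A N) := MonObj.mul_comp _ _ _
    have e2 : (p * p') ≫ snd A N = (p ≫ snd A N) * (p' ≫ snd A N) := MonObj.mul_comp _ _ _
    rw [hmap, hmap, hmap, e1, e2, MonObj.mul_comp, MonObj.mul_comp]
    have c := hcomm (p' ≫ fst A N) ((p ≫ snd A N) ≫ i)
    simp only [_root_.mul_assoc]
    congr 1
    rw [← _root_.mul_assoc, ← c, _root_.mul_assoc]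
  have hhom : IsMonHom m := by
    refine ⟨?_, ?_⟩
    · have e : η[A ⊗ N] = (1 : 𝟙_ (Over (Spec (CommRingCat.of k))) ⟶ A ⊗ N) := by
        rw [Hom.one_def, toUnit_unit, Category.id_comp]
      have := hmul (1 : 𝟙_ (Over (Spec (CommRingCat.of k))) ⟶ A ⊗ N) 1
      rw [_root_.mul_one, left_eq_mul] at this
      rw [e, this, Hom.one_def, toUnit_unit, Category.id_comp]
    · have := hmul (fst (A ⊗ N) (A ⊗ N)) (snd (A ⊗ N) (A ⊗ N))
      rw [Hom.mul_def, lift_fst_snd, Category.id_comp] at this
      rw [this, Hom.mul_def]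
      congr 1
  haveI : IsSeparated A.hom := inferInstance
  -- a scheme closed in both factors is finite
  have hfin : ∀ (K' : Over (Spec (CommRingCat.of k))) (θ : K' ⟶ A) (ψ : K' ⟶ N),
      IsClosedImmersion θ.left → IsClosedImmersion ψ.left → IsFinite K'.hom := by
    intro K' θ ψ h1 h2
    rw [IsFinite.iff_isProper_and_isAffineHom]
    refine ⟨?_, ?_⟩
    · rw [← Over.w θ]; infer_instance
    · haveI : IsAffineHom N.hom := inferInstance
      rw [← Over.w ψ]; infer_instance
  have hjπ : Surjective (j ≫ π).left := by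
    have e : m ≫ π = fst A N ≫ j ≫ π := by
      have hi : i ≫ π = 1 := by rw [hker.w]; rfl
      rw [hm, MonObj.mul_comp, Category.assoc, Category.assoc, hi, MonObj.comp_one, _root_.mul_one]
    haveI : Surjective m.left := hsurj
    haveI : Surjective ((fst A N).left ≫ (j ≫ π).left) := by
      rw [← Over.comp_left, ← e, Over.comp_left]; infer_instance
    exact Surjective.of_comp (fst A N).left _
  refine ⟨hhom, ⟨hsurj, fun K' ι' hK' => ?_⟩, ⟨hjπ, fun K' ι' hK' => ?_⟩⟩
  · let θ : K' ⟶ A := ι' ≫ fst A N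
    let ψ : K' ⟶ N := ι' ≫ snd A N
    have h1 : ι' ≫ m = 1 := by rw [hK'.w]; rfl
    have hw : θ ≫ j⁻¹ = ψ ≫ i := by
      rw [hmap] at h1
      rw [GrpObj.comp_inv]
      exact (eq_inv_of_mul_eq_one_right h1).symm
    have hpb : IsPullback θ ψ j⁻¹ i := by
      refine IsPullback.mk' hw (fun T φ φ' e₁ e₂ => ?_) fun T a b e => ?_
      · refine hK'.hom_ext (CartesianMonoidalCategory.hom_ext _ _ ?_ ?_) (toUnit_unique _ _)
        · simpa [θ] using e₁
        · simpa [ψ] using e₂
      · have hT : lift a b ≫ m = toUnit T ≫ η[G] := by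
          rw [hmap, lift_fst, lift_snd, ← Hom.one_def, ← e, GrpObj.comp_inv, mul_inv_cancel]
        refine ⟨hK'.lift (lift a b) (toUnit T) hT, ?_, ?_⟩
        · rw [← Category.assoc, hK'.lift_fst, lift_fst]
        · rw [← Category.assoc, hK'.lift_fst, lift_snd]
    have hpb' := hpb.map (Over.forget _)
    haveI : IsClosedImmersion (j⁻¹ : A ⟶ G).left := by
      have e : (j⁻¹ : A ⟶ G) = j ≫ GrpObj.inv := rfl
      rw [e, Over.comp_left]
      haveI : IsIso (GrpObj.inv (X := G)).left := inferInstanceAs (IsIso ((Over.forget _).map (GrpObj.inv (X := G))))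
      infer_instance
    exact hfin K' θ ψ
      (MorphismProperty.of_isPullback (P := @IsClosedImmersion) hpb'.flip ‹IsClosedImmersion i.left›)
      (MorphismProperty.of_isPullback (P := @IsClosedImmersion) hpb' ‹IsClosedImmersion (j⁻¹ : A ⟶ G).left›)
  · have hw : (ι' ≫ j) ≫ π = toUnit K' ≫ η[Q] := by rw [Category.assoc]; exact hK'.w
    let ψ : K' ⟶ N := hker.lift (ι' ≫ j) (toUnit K') hw
    have hψ : ψ ≫ i = ι' ≫ j := hker.lift_fst _ _ _
    have hpb : IsPullback ι' ψ j i :=
      IsPullback.mk' hψ.symm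
        (fun T φ φ' e₁ _ => hK'.hom_ext e₁ (toUnit_unique _ _))
        (fun T a b e => ⟨hK'.lift a (toUnit T) (by
          rw [← Category.assoc, e, Category.assoc, hker.w, ← Category.assoc, toUnit_unique (b ≫ toUnit N) (toUnit T)]),
          hK'.lift_fst _ _ _, by
          refine hker.hom_ext ?_ (toUnit_unique _ _)
          rw [Category.assoc, hψ, ← Category.assoc, hK'.lift_fst, e]⟩)
    have hpb' := hpb.map (Over.forget _)
    exact hfin K' ι' ψ
      (MorphismProperty.of_isPullback (P := @IsClosedImmersion) hpb'.flip ‹IsClosedImmersion i.left›)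
      (MorphismProperty.of_isPullback (P := @IsClosedImmersion) hpb' ‹IsClosedImmersion j.left›)


end Groth.Agent.S14751
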