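import Groth.Statements.S14754
import Groth.Agent.Chev.SplitTorusHom
import Groth.Agent.Chev.TorusExt
import Groth.Agent.Chev.AntiAff
import Groth.Agent.AdjRep.ToGL

set_option autoImplicit false
universe u
open CategoryTheory CategoryTheory.Limits MonoidalCategory CartesianMonoidalCategory MonObj GrpObj AlgebraicGeometry
open AlgGrp

namespace Groth.Agent.S14754
open Groth.Agent
open scoped CategoryTheory.Obj

/-- Over an algebraically closed field k, every exact sequence of split tori splits: if K, G, Q are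
split tori over k, i : K → G a closed subgroup scheme which is the kernel of a flat surjective
homomorphism π : G → Q, then π has a section which is a homomorphism. -/
theorem result (k : Type u) [Field k] [IsAlgClosed k]
    (K G Q : Over (Spec (CommRingCat.of k))) [GrpObj K] [GrpObj G] [GrpObj Q] (nK nG nQ : ℕ)
    (hK : Red.IsSplitTorusWith (Fin nK → ℤ) K) (hG : Red.IsSplitTorusWith (Fin nG → ℤ) G)
    (hQ : Red.IsSplitTorusWith (Fin nQ → ℤ) Q)
    (i : K ⟶ G) [IsMonHom i] [IsClosedImmersion i.left]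
    (π : G ⟶ Q) [IsMonHom π] [Flat π.left] [Surjective π.left] (hker : AlgGrp.IsKernel i π) :
    ∃ s : Q ⟶ G, IsMonHom s ∧ s ≫ π = 𝟙 Q := by
  obtain ⟨e₁⟩ := hK
  obtain ⟨e₂⟩ := hG
  obtain ⟨e₃⟩ := hQ
  obtain ⟨f₁⟩ := MTBridge.nonempty_DS_iso k (Fin nK → ℤ)
  obtain ⟨f₂⟩ := MTBridge.nonempty_DS_iso k (Fin nG → ℤ)
  obtain ⟨f₃⟩ := MTBridge.nonempty_DS_iso k (Fin nQ → ℤ)
  let eG := e₂ ≪≫ f₂
  let eQ := e₃ ≪≫ f₃
  have aff : ∀ {T : Over (Spec (CommRingCat.of k))} [GrpObj T] {n : ℕ}
      (e : Grp.mk T ≅ Chev.diagGrp k (Multiplicative (Fin n → ℤ))),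
      IsAffine T.left ∧ LocallyOfFiniteType T.hom := by
    intro T _ n e
    haveI : IsIso e.hom.hom.hom.left := inferInstanceAs (IsIso ((Over.forget _).map ((Grp.forget _).map e.hom)))
    haveI : IsAffine (Chev.diagGrp k (Multiplicative (Fin n → ℤ))).X.left := isAffine_Spec _
    refine ⟨IsAffine.of_isIso e.hom.hom.hom.left, ?_⟩
    rw [← Over.w e.hom.hom.hom]
    haveI : LocallyOfFiniteType (Chev.diagGrp k (Multiplicative (Fin n → ℤ))).X.hom :=
      (HasRingHomProperty.Spec_iff (P := @LocallyOfFiniteType)).2 (RingHom.finiteType_algebraMap.2 inferInstance)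
    infer_instance
  haveI := (aff eG).1; haveI := (aff eG).2; haveI := (aff eQ).1; haveI := (aff eQ).2
  haveI : IsLocallyNoetherian Q.left := LocallyOfFiniteType.isLocallyNoetherian Q.hom
  haveI : QuasiCompact π.left := inferInstance
  haveI : LocallyOfFiniteType π.left := by
    haveI : LocallyOfFiniteType (π.left ≫ Q.hom) := by rw [Over.w]; infer_instance
    exact locallyOfFiniteType_of_comp π.left Q.hom
  haveI : LocallyOfFinitePresentation π.left := inferInstance
  haveI : Epi π := AVQuot.epi_of_covering π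
  refine Chev.exists_section_diag (e₁ ≪≫ f₁) eG eQ i π (hker.w.trans Hom.one_def.symm) fun {W} _ χ _ hχ => ?_
  obtain ⟨d, hd⟩ := AdjRep.exists_desc i π hker χ hχ
  haveI : IsMonHom (π ≫ d) := by rw [hd]; infer_instance
  exact ⟨d, Chev.isMonHom_desc π d, hd⟩

end Groth.Agent.S14754
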