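import Groth.Statements.S14758
import Mathlib
import Groth.Agent.EtAcycX.Descend
import Groth.Agent.EtAcycX.Tors
import Groth.Agent.EtAcycX.Restrict

set_option autoImplicit false
universe u
open CategoryTheory CategoryTheory.Limits MonoidalCategory CartesianMonoidalCategory MonObj GrpObj AlgebraicGeometry
open EtAdic

namespace Groth.Agent.S14758

open CategoryTheory CategoryTheory.Abelian CategoryTheory.Limits
set_option backward.isDefEq.respectTransparency false
set_option backward.isDefEq.respectTransparency.types false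
set_option linter.style.haveILetI false
set_option linter.auxLemma false
set_option maxHeartbeats 1000000


attribute [local instance 100000] EtCoh.H._proof_1 Groth.Agent.EtMV.hext
attribute [local instance 200000] Groth.Agent.EtMV.hextAb

theorem pullConst_comp_mod {W Y X : Scheme.{u}} (f : W ⟶ Y) (g : Y ⟶ X) (k : W ⟶ X) (w : f ≫ g = k) (n : ℕ) :
    (EtCoh.pull f).map (EtCore.pullConst g (ZMod n)).hom ≫ (EtCore.pullConst f (ZMod n)).hom =
      EtLimit.ψh f g k w (EtCoh.const X (ZMod n)) ≫ (EtCore.pullConst k (ZMod n)).hom := by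
  let u : AddCommGrpCat.of (ULift.{u + 1} ℤ) ⟶ AddCommGrpCat.of (ULift.{u + 1} (ZMod n)) :=
    AddCommGrpCat.ofHom ((AddEquiv.ulift.symm.toAddMonoidHom.comp (Int.castAddHom (ZMod n))).comp
      AddEquiv.ulift.toAddMonoidHom)
  haveI : Epi u := (AddCommGrpCat.epi_iff_surjective u).2 fun z => by
    obtain ⟨a, ha⟩ := ZMod.intCast_surjective z.down
    exact ⟨ULift.up a, ULift.ext _ _ ha⟩
  haveI : (constantSheaf X.smallEtaleTopology AddCommGrpCat.{u + 1}).IsLeftAdjoint := (EtCore.constAdj X).isLeftAdjoint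
  haveI : (EtCoh.pull f).IsLeftAdjoint := (EtCoh.pullPushAdj f).isLeftAdjoint
  haveI : (EtCoh.pull g).IsLeftAdjoint := (EtCoh.pullPushAdj g).isLeftAdjoint
  let CX := constantSheaf X.smallEtaleTopology AddCommGrpCat.{u + 1}
  let CY := constantSheaf Y.smallEtaleTopology AddCommGrpCat.{u + 1}
  let CW := constantSheaf W.smallEtaleTopology AddCommGrpCat.{u + 1}
  have ng : (EtCoh.pull g).map (CX.map u) ≫ (EtCore.pullConst g (ZMod n)).hom =
      (EtCore.pullConst g ℤ).hom ≫ CY.map u := (EtCore.pullConstIso g).hom.naturality u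
  have nf : (EtCoh.pull f).map (CY.map u) ≫ (EtCore.pullConst f (ZMod n)).hom =
      (EtCore.pullConst f ℤ).hom ≫ CW.map u := (EtCore.pullConstIso f).hom.naturality u
  have nk : (EtCoh.pull k).map (CX.map u) ≫ (EtCore.pullConst k (ZMod n)).hom =
      (EtCore.pullConst k ℤ).hom ≫ CW.map u := (EtCore.pullConstIso k).hom.naturality u
  have nψ := EtLimit.ψh_natural f g k w (CX.map u)
  have hz : (EtCoh.pull f).map (EtCore.pullConst g ℤ).hom ≫ (EtCore.pullConst f ℤ).hom =
      EtLimit.ψh f g k w (EtCoh.const X ℤ) ≫ (EtCore.pullConst k ℤ).hom := by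
    have h := EtLimit.pullConst_comp f g k w
    rw [Iso.inv_comp_eq, ← Functor.mapIso_inv, Iso.inv_comp_eq] at h
    rw [EtLimit.ψh_eq] at h
    rw [h]
    simp
  rw [← cancel_epi ((EtCoh.pull f).map ((EtCoh.pull g).map (CX.map u)))]
  rw [← Functor.map_comp_assoc, ng, Functor.map_comp_assoc, nf, ← Category.assoc, hz, Category.assoc,
    reassoc_of% nψ, nk]

theorem Hmap_comp {W Y X : Scheme.{u}} (ℓ : ℕ) (f : W ⟶ Y) (g : Y ⟶ X) (k : W ⟶ X) (w : f ≫ g = k)
    (hf : PreservesFiniteLimits (EtCoh.pull f)) (hg : PreservesFiniteLimits (EtCoh.pull g))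
    (hk : PreservesFiniteLimits (EtCoh.pull k)) {r ν : ℕ} (x : EtAdic.Hmod X ℓ r ν) :
    EtAdic.Hmap ℓ f hf r ν (EtAdic.Hmap ℓ g hg r ν x) = EtAdic.Hmap ℓ k hk r ν x := by
  have hh : ∀ {A B : Scheme.{u}} (a : A ⟶ B) (ha : PreservesFiniteLimits (EtCoh.pull a))
      (y : EtAdic.Hmod B ℓ r ν), EtAdic.Hmap ℓ a ha r ν y =
        Ext.comp (EtCore.Hpull a (EtCoh.const B (ZMod (ℓ ^ ν))) r y)
          (Ext.mk₀ (EtCore.pullConst a (ZMod (ℓ ^ ν))).hom) (add_zero r) := fun a ha y => rfl
  rw [hh, hh, hh, EtAcycX.Hpull_comp_mk₀, Ext.comp_assoc_of_second_deg_zero, Ext.mk₀_comp_mk₀,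
    ← EtAcycX.Hpull_HpullVia f g k w, EtAcycX.HpullVia_eq, Ext.comp_assoc_of_second_deg_zero, Ext.mk₀_comp_mk₀,
    pullConst_comp_mod f g k w]

/-- Let k be a field, ℓ, ν natural numbers, G and G' commutative k-group schemes and φ, ψ : G → G'
homomorphisms. If x ∈ H^r(G'_et, Z/ℓ^ν) is primitive, that is m^*x = p_1^*x + p_2^*x for the
multiplication m and the projections p_1, p_2 of G' × G', then (φ + ψ)^*x = φ^*x + ψ^*x, where φ + ψ
is the sum in the group of homomorphisms. (The published lemma is for H^r_T(−, L) with T any of the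
Zariski, étale or flat topologies and L any commutative algebraic group as coefficients; this row is
its case T = étale, L = Z/ℓ^ν constant, the one used later.) -/
theorem result (k : Type u) [Field k] (ℓ ν r : ℕ)
    (G G' : Over (Spec (CommRingCat.of k))) [GrpObj G] [GrpObj G'] [IsCommMonObj G] [IsCommMonObj G']
    (φ ψ : G ⟶ G') [IsMonHom φ] [IsMonHom ψ]
    [hm : PreservesFiniteLimits (EtCoh.pull (μ[G']).left)]
    [h1 : PreservesFiniteLimits (EtCoh.pull (fst G' G').left)]
    [h2 : PreservesFiniteLimits (EtCoh.pull (snd G' G').left)]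
    [hφ : PreservesFiniteLimits (EtCoh.pull φ.left)] [hψ : PreservesFiniteLimits (EtCoh.pull ψ.left)]
    [hs : PreservesFiniteLimits (EtCoh.pull (φ * ψ).left)]
    (x : EtAdic.Hmod G'.left ℓ r ν)
    (hx : EtAdic.Hmap ℓ (μ[G']).left hm r ν x =
      EtAdic.Hmap ℓ (fst G' G').left h1 r ν x + EtAdic.Hmap ℓ (snd G' G').left h2 r ν x) :
    EtAdic.Hmap ℓ (φ * ψ).left hs r ν x = EtAdic.Hmap ℓ φ.left hφ r ν x + EtAdic.Hmap ℓ ψ.left hψ r ν x := by
  let L := lift φ ψ
  haveI hL : PreservesFiniteLimits (EtCoh.pull L.left) := EtCohDesc.pull_preservesFiniteLimits _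
  have e : (φ * ψ).left = L.left ≫ (μ[G']).left := by
    rw [Hom.mul_def, Over.comp_left]
  have e1 : L.left ≫ (fst G' G').left = φ.left := by rw [← Over.comp_left, lift_fst]
  have e2 : L.left ≫ (snd G' G').left = ψ.left := by rw [← Over.comp_left, lift_snd]
  rw [← Hmap_comp ℓ L.left (μ[G']).left _ e.symm hL hm hs, hx, map_add,
    Hmap_comp ℓ L.left (fst G' G').left _ e1 hL h1 hφ, Hmap_comp ℓ L.left (snd G' G').left _ e2 hL h2 hψ]

end Groth.Agent.S14758
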