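import Groth.Statements.S14759
import Groth.Agent.Chev.FiniteQuot
import Groth.Agent.Chev.AntiAff
import Groth.Agent.Chev.LevelDesc
import Groth.Agent.GrpComp.Identity
import Groth.Agent.AdjRep.ToGL

set_option autoImplicit false
universe u
open CategoryTheory CategoryTheory.Limits MonoidalCategory CartesianMonoidalCategory MonObj GrpObj AlgebraicGeometry
open AlgGrp

namespace Groth.Agent.S14759
open Groth.Agent

/-- Over a field k, every isogeny φ : G → H of k-group schemes of finite type (a surjective homomorphism
with finite kernel) factors as φ = χ ∘ ψ with ψ : G → Q a purely inseparable isogeny (its kernel is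
connected) followed by a separable isogeny χ : Q → H (its kernel is etale over k). (The published
definition of isogeny asks only for a finite kernel and an image of finite index in H; this row
takes φ surjective, which is the same notion when H is connected.) -/
theorem result (k : Type u) [Field k]
    (G H : Over (Spec (CommRingCat.of k))) [GrpObj G] [GrpObj H]
    [QuasiCompact G.hom] [LocallyOfFiniteType G.hom] [QuasiCompact H.hom] [LocallyOfFiniteType H.hom]
    (φ : G ⟶ H) [IsMonHom φ] (hφ : SGA7.IsIsogenyOver φ) :
    ∃ (Q : Over (Spec (CommRingCat.of k))) (_ : GrpObj Q) (ψ : G ⟶ Q) (χ : Q ⟶ H),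
      IsMonHom ψ ∧ IsMonHom χ ∧ ψ ≫ χ = φ ∧ SGA7.IsIsogenyOver ψ ∧ SGA7.IsIsogenyOver χ ∧
      (∀ (N : Over (Spec (CommRingCat.of k))) (n : N ⟶ G), AlgGrp.IsKernel n ψ → ConnectedSpace ↥N.left) ∧
      (∀ (N : Over (Spec (CommRingCat.of k))) (n : N ⟶ Q), AlgGrp.IsKernel n χ → Etale N.hom) := by
  obtain ⟨hφs, hφk⟩ := hφ
  haveI := hφs
  haveI : IsSeparated G.hom := GrpField.isSeparated_hom G
  haveI : IsSeparated H.hom := GrpField.isSeparated_hom H
  obtain ⟨N, hN, n, hnm, hnc, hnn, hnk⟩ := AdjRep.exists_kernel φ
  haveI := hnm; haveI := hnc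
  haveI : IsFinite N.hom := hφk N n hnk
  haveI : Mono n := GrpField.SchImg.mono_of_isClosedImmersion n
  obtain ⟨N₀, hN₀, a, ham, hac, haf, har, hgi, -, -⟩ := GrpComp.exists_identity_subgroup N
  haveI := ham; haveI := hac; haveI := haf; haveI := hgi
  haveI : Mono a := GrpField.SchImg.mono_of_isClosedImmersion a
  let i : N₀ ⟶ G := a ≫ n
  haveI : IsMonHom i := inferInstanceAs (IsMonHom (a ≫ n))
  haveI : IsClosedImmersion i.left := by show IsClosedImmersion (a ≫ n).left; rw [Over.comp_left]; infer_instance
  haveI : Mono i := GrpField.SchImg.mono_of_isClosedImmersion i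
  -- the identity component of the kernel is normal
  have hin : AlgGrp.IsNormalHom i := by
    obtain ⟨w, hw⟩ := hnn (G ⊗ N₀) (fst G N₀) (snd G N₀ ≫ a)
    have hsub : Set.range w.left ⊆ Set.range a.left := by
      rw [har]
      rintro _ ⟨z, rfl⟩
      let g := (fst G N₀).left z
      let F := Limits.pullback.fst G.hom N₀.hom
      haveI : GeometricallyIrreducible F := inferInstance
      have hF : _root_.IsPreconnected (w.left '' Set.range (F.fiberι g)) :=
        (isPreconnected_range (F.fiberι g).continuous).image _ w.left.continuous.continuousOn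
      have hz : w.left z ∈ w.left '' Set.range (F.fiberι g) :=
        ⟨z, by rw [F.range_fiberι]; rfl, rfl⟩
      let T : Over (Spec (CommRingCat.of k)) := Over.mk (G.left.fromSpecResidueField g ≫ G.hom)
      let u : T ⟶ G := Over.homMk (G.left.fromSpecResidueField g) rfl
      let t : T.left := IsLocalRing.closedPoint (G.left.residueField g)
      let v := lift u (1 : T ⟶ N₀)
      have hv : v.left t ∈ Set.range (F.fiberι g) := by
        rw [F.range_fiberι, Set.mem_preimage, Set.mem_singleton_iff]
        show (v ≫ fst G N₀).left t = g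
        rw [lift_fst]
        exact Scheme.fromSpecResidueField_apply g t
      have hvw : v ≫ w = 1 := by
        rw [← cancel_mono n, Category.assoc, ← hw, MonObj.one_comp, MonObj.comp_mul, MonObj.comp_mul,
          GrpObj.comp_inv, Category.assoc, lift_fst, lift_snd_assoc, MonObj.one_comp]
        group
      have he : w.left (v.left t) = GrpComp.ept N := by
        show (v ≫ w).left t = _
        rw [hvw]
        exact congrArg η[N].left (Subsingleton.elim (α := PrimeSpectrum k) _ _)
      exact hF.subset_connectedComponent ⟨v.left t, hv, he⟩ hz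
    obtain ⟨l, hl⟩ := GrpComp.exists_factor_flat a.left w.left hsub
    let l' : G ⊗ N₀ ⟶ N₀ := Over.homMk l (by rw [← Over.w a, ← Category.assoc, hl, Over.w w])
    have hl' : l' ≫ a = w := Over.OverMorphism.ext hl
    intro T x y
    refine ⟨lift x y ≫ l', ?_⟩
    have h1 := congrArg (lift x y ≫ ·) hw
    simp only [MonObj.comp_mul, GrpObj.comp_inv, lift_fst, Category.assoc, lift_snd_assoc] at h1
    rw [h1]
    simp only [i, Category.assoc]
    rw [← Category.assoc l', hl']
  haveI : LocallyOfFiniteType N₀.hom := by rw [← Over.w i]; infer_instance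
  obtain ⟨Q, hQ, ψ, hψm, hψf, hψs, hψp, hker, hsep, -, -⟩ := S3030.result k N₀ G i hin
  haveI := hψm; haveI := hψf; haveI := hψs; haveI := hψp; haveI := hsep
  haveI : LocallyOfFiniteType Q.hom := by
    haveI : LocallyOfFiniteType (ψ.left ≫ Q.hom) := by rw [Over.w ψ]; infer_instance
    exact S5938.result ψ.left Q.hom
  haveI : QuasiCompact Q.hom := by
    haveI : QuasiCompact (ψ.left ≫ Q.hom) := by rw [Over.w ψ]; infer_instance
    exact ThickLib.quasiCompact_of_comp_surjective ψ.left Q.hom
  haveI : QuasiCompact ψ.left := by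
    haveI : QuasiCompact (ψ.left ≫ Q.hom) := by rw [Over.w ψ]; infer_instance
    exact QuasiCompact.of_comp _ Q.hom
  obtain ⟨χ, hχ⟩ := AdjRep.exists_desc i ψ hker φ (by
    show (a ≫ n) ≫ φ = 1
    rw [Category.assoc, hnk.w, ← Category.assoc, comp_toUnit, Hom.one_def])
  haveI : IsMonHom (ψ ≫ χ) := by rw [hχ]; infer_instance
  haveI := Chev.isMonHom_desc ψ χ
  haveI : Surjective χ.left := by
    haveI : Surjective (ψ.left ≫ χ.left) := by rw [← Over.comp_left, hχ]; infer_instance
    exact Surjective.of_comp ψ.left χ.left
  obtain ⟨M, hM, m, hmm, hmc, -, hmk⟩ := AdjRep.exists_kernel χ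
  haveI := hmm; haveI := hmc
  haveI : LocallyOfFiniteType M.hom := by rw [← Over.w m]; infer_instance
  haveI : QuasiCompact M.hom := by rw [← Over.w m]; infer_instance
  haveI : Mono m := GrpField.SchImg.mono_of_isClosedImmersion m
  -- the map of kernels
  let c : N ⟶ M := hmk.lift (n ≫ ψ) (toUnit N) (by rw [Category.assoc, hχ, hnk.w])
  have hc : c ≫ m = n ≫ ψ := hmk.lift_fst _ _ _
  have hsq : IsPullback n c ψ m := by
    refine IsPullback.mk' hc.symm (fun T φ φ' e₁ _ => (cancel_mono n).1 e₁) fun T x y e => ?_
    have h1 : x ≫ φ = toUnit T ≫ η[H] := by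
      rw [← hχ, ← Category.assoc, e, Category.assoc, hmk.w, comp_toUnit_assoc]
    refine ⟨hnk.lift x _ h1, hnk.lift_fst _ _ _, ?_⟩
    rw [← cancel_mono m, Category.assoc, hc, ← Category.assoc, hnk.lift_fst, e]
  have hsq' : IsPullback n.left c.left ψ.left m.left := hsq.map (Over.forget _)
  haveI : Flat c.left := MorphismProperty.of_isPullback hsq' hψf
  haveI : Surjective c.left := MorphismProperty.of_isPullback hsq' hψs
  haveI : LocallyOfFinitePresentation c.left := MorphismProperty.of_isPullback hsq' hψp
  haveI : CompactSpace N.left := QuasiCompact.compactSpace_of_compactSpace N.hom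
  haveI : DiscreteTopology N.left := SpQS.discrete_of_isFinite N.hom
  haveI : Finite N.left := finite_of_compact_of_discrete
  haveI : Finite M.left := Finite.of_surjective _ c.left.surjective
  haveI : IsFinite M.hom := by
    haveI : LocallyQuasiFinite M.hom := LocallyQuasiFinite.of_finite_preimage_singleton M.hom fun y => Set.toFinite _
    exact IsFinite.of_locallyQuasiFinite M.hom
  have het : Etale M.hom := by
    haveI : IsSeparated M.hom := GrpField.isSeparated_hom M
    haveI := GrpField.isClosedImmersion_eta M
    haveI : DiscreteTopology M.left := SpQS.discrete_of_isFinite M.hom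
    let e := GrpComp.ept M
    let U : M.left.Opens := ⟨{e}, isOpen_discrete _⟩
    have hunit : IsOpenImmersion η[M].left := by
      have hac1 : a ≫ c = 1 := by
        rw [← cancel_mono m, Category.assoc, hc, MonObj.one_comp, ← Category.assoc]
        exact hker.w.trans Hom.one_def.symm
      have hrU : Set.range η[M].left ⊆ Set.range U.ι := by
        rintro _ ⟨s, rfl⟩
        rw [Scheme.Opens.range_ι]
        exact congrArg η[M].left (Subsingleton.elim (α := PrimeSpectrum k) s _)
      let r := IsOpenImmersion.lift U.ι η[M].left hrU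
      have hr : r ≫ U.ι = η[M].left := IsOpenImmersion.lift_fac _ _ _
      haveI : IsClosedImmersion (r ≫ U.ι) := by rw [hr]; infer_instance
      haveI : IsClosedImmersion r := IsClosedImmersion.of_comp r U.ι
      haveI : IsLocallyNoetherian N.left := LocallyOfFiniteType.isLocallyNoetherian N.hom
      let V := c.left ⁻¹ᵁ U
      haveI : Surjective (c.left ∣_ U) := MorphismProperty.of_isPullback (isPullback_morphismRestrict c.left U).flip ‹Surjective c.left›
      haveI : Flat (c.left ∣_ U) := MorphismProperty.of_isPullback (isPullback_morphismRestrict c.left U).flip ‹Flat c.left›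
      haveI : QuasiCompact c.left := by
        haveI : QuasiCompact (c.left ≫ M.hom) := by rw [Over.w c]; infer_instance
        exact QuasiCompact.of_comp _ M.hom
      haveI : IsSchemeTheoreticallyDominant (c.left ∣_ U) := Chev.isSchemeTheoreticallyDominant_of_flat _
      -- the fibre over the unit is the identity component
      have hVa : Set.range V.ι ⊆ Set.range a.left := by
        rw [Scheme.Opens.range_ι]
        intro x hx
        let T : Over (Spec (CommRingCat.of k)) := Over.mk (N.left.fromSpecResidueField x ≫ N.hom)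
        let u : T ⟶ N := Over.homMk (N.left.fromSpecResidueField x) rfl
        haveI : AlgebraicGeometry.IsReduced T.left := inferInstanceAs (IsReduced (Spec (CommRingCat.of _)))
        have h1 : u ≫ c = toUnit T ≫ η[M] := by
          refine Chev.eq_toUnit_comp_of_point η[M] _ (IsLocalRing.closedPoint k) fun s => ?_
          rw [Over.comp_left, Scheme.Hom.comp_apply]
          show c.left (N.left.fromSpecResidueField x s) = e
          rw [Scheme.fromSpecResidueField_apply]
          exact hx
        have h2 : (u ≫ n) ≫ ψ = toUnit T ≫ η[Q] := by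
          rw [Category.assoc, ← hc, ← Category.assoc, h1, Category.assoc, IsMonHom.one_hom]
        obtain ⟨y, hy⟩ : ∃ y : T ⟶ N₀, y ≫ i = u ≫ n := ⟨hker.lift _ _ h2, hker.lift_fst _ _ _⟩
        have hy' : y ≫ a = u := by rw [← cancel_mono n, Category.assoc]; exact hy
        refine ⟨y.left (IsLocalRing.closedPoint (N.left.residueField x)), ?_⟩
        show (y ≫ a).left _ = x
        rw [hy']
        exact Scheme.fromSpecResidueField_apply x _
      obtain ⟨s, hs⟩ := GrpComp.exists_factor_flat a.left V.ι hVa
      have hfac : c.left ∣_ U = (s ≫ N₀.hom) ≫ r := by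
        rw [← cancel_mono U.ι, morphismRestrict_ι, Category.assoc, hr, ← hs, Category.assoc, ← Over.comp_left, hac1,
          Hom.one_def, Over.comp_left, Category.assoc, Over.toUnit_left]
      haveI : IsIso r := by
        refine IsClosedImmersion.isIso_iff_ker_eq_bot.2 (le_bot_iff.1 ?_)
        refine le_trans (Scheme.Hom.le_ker_comp (s ≫ N₀.hom) r) ?_
        rw [← hfac]
        exact (c.left ∣_ U).ker_eq_bot.le
      rw [← hr]; infer_instance
    haveI : IsOpenImmersion (Limits.pullback.diagonal M.hom) := by
      let d : M ⊗ M ⟶ M := (fst M M)⁻¹ * snd M M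
      have hd : IsPullback (lift (𝟙 M) (𝟙 M)) (toUnit M) d η[M] := by
        refine IsPullback.mk' ?_ (fun T φ φ' e₁ _ => ?_) fun T p b e => ?_
        · simp only [d, MonObj.comp_mul, GrpObj.comp_inv, lift_fst, lift_snd, inv_mul_cancel, Hom.one_def]
        · simpa using congrArg (· ≫ fst M M) e₁
        · refine ⟨p ≫ fst M M, ?_, toUnit_unique _ _⟩
          have h1 : (p ≫ fst M M)⁻¹ * (p ≫ snd M M) = 1 := by
            rw [← GrpObj.comp_inv, ← MonObj.comp_mul, show p ≫ ((fst M M)⁻¹ * snd M M) = b ≫ η[M] from e,
              toUnit_unique b (toUnit T), Hom.one_def]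
          rw [comp_lift, Category.comp_id]
          conv_rhs => rw [← lift_comp_fst_snd p]
          rw [inv_mul_eq_one.1 h1]
      have hd' : IsPullback (lift (𝟙 M) (𝟙 M)).left (toUnit M).left d.left η[M].left := hd.map (Over.forget _)
      haveI := MorphismProperty.of_isPullback (P := @IsOpenImmersion) hd'.flip hunit
      have he : Limits.pullback.diagonal M.hom = (lift (𝟙 M) (𝟙 M)).left := by
        apply Limits.pullback.hom_ext
        · exact (Limits.pullback.diagonal_fst _).trans (congrArg (fun φ : M ⟶ M => φ.left) (lift_fst (𝟙 M) (𝟙 M))).symm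
        · exact (Limits.pullback.diagonal_snd _).trans (congrArg (fun φ : M ⟶ M => φ.left) (lift_snd (𝟙 M) (𝟙 M))).symm
      rw [he]; assumption
    haveI : LocallyOfFinitePresentation M.hom := inferInstance
    exact (Etale.iff_flat_and_formallyUnramified).2 ⟨inferInstance, inferInstance, inferInstance⟩
  have hN₀fin : IsFinite N₀.hom := by rw [← Over.w a]; infer_instance
  haveI : IrreducibleSpace N₀.left := GeometricallyIrreducible.irreducibleSpace_of_subsingleton N₀.hom
  refine ⟨Q, hQ, ψ, χ, inferInstance, inferInstance, hχ, ⟨inferInstance, fun N' n' hn' => ?_⟩,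
    ⟨inferInstance, fun N' n' hn' => ?_⟩, fun N' n' hn' => ?_, fun N' n' hn' => ?_⟩
  · rw [← Over.w (hn'.isoIsPullback _ _ hker).hom]
    haveI : IsIso (hn'.isoIsPullback _ _ hker).hom.left :=
      inferInstanceAs (IsIso ((Over.forget _).map (hn'.isoIsPullback _ _ hker).hom))
    infer_instance
  · rw [← Over.w (hn'.isoIsPullback _ _ hmk).hom]
    haveI : IsIso (hn'.isoIsPullback _ _ hmk).hom.left :=
      inferInstanceAs (IsIso ((Over.forget _).map (hn'.isoIsPullback _ _ hmk).hom))
    infer_instance
  · haveI : IsIso (hn'.isoIsPullback _ _ hker).inv.left :=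
      inferInstanceAs (IsIso ((Over.forget _).map (hn'.isoIsPullback _ _ hker).inv))
    exact (hn'.isoIsPullback _ _ hker).inv.left.surjective.connectedSpace
      (hn'.isoIsPullback _ _ hker).inv.left.continuous
  · rw [← Over.w (hn'.isoIsPullback _ _ hmk).hom]
    haveI : IsIso (hn'.isoIsPullback _ _ hmk).hom.left :=
      inferInstanceAs (IsIso ((Over.forget _).map (hn'.isoIsPullback _ _ hmk).hom))
    infer_instance


end Groth.Agent.S14759
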