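import Groth.Statements.S1476
import Groth.Agent.RegMor.Scheme

set_option autoImplicit false
set_option backward.isDefEq.respectTransparency false
set_option backward.isDefEq.respectTransparency.types false
set_option maxHeartbeats 1000000

universe u
open FlatMor

namespace Groth.Agent.S1476

open AlgebraicGeometry CategoryTheory Limits in
/-- Let Y' → Y be flat, locally of finite presentation and surjective and f' the base change of f : X →
Y. Then f has locally Noetherian fibres and is regular (affine-locally: regular ring maps) if and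
only if the same holds for f'. -/
theorem result {X Y X' Y' : Scheme.{u}} (f : X ⟶ Y) (f' : X' ⟶ Y') (g' : X' ⟶ X) (g : Y' ⟶ Y) [Flat g] [LocallyOfFinitePresentation g] [Surjective g]
    (hc : IsPullback g' f' f g) :
    ((∀ y : Y, IsLocallyNoetherian (f.fiber y)) ∧ (∀ (U : X.Opens) (V : Y.Opens) (hU : IsAffineOpen U) (hV : IsAffineOpen V) (hUV : U ≤ f ⁻¹ᵁ V),
        letI := (f.appLE V U hUV).hom.toAlgebra
        CAlg.IsRegularHom Γ(Y, V) Γ(X, U))) ↔
      ((∀ y' : Y', IsLocallyNoetherian (f'.fiber y')) ∧ (∀ (U : X'.Opens) (V : Y'.Opens) (hU : IsAffineOpen U) (hV : IsAffineOpen V) (hUV : U ≤ f' ⁻¹ᵁ V),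
        letI := (f'.appLE V U hUV).hom.toAlgebra
        CAlg.IsRegularHom Γ(Y', V) Γ(X', U))) := by
  have key : ∀ {A B : Scheme.{u}} (h : A ⟶ B),
      ((∀ b : B, IsLocallyNoetherian (h.fiber b)) ∧ (∀ (U : A.Opens) (V : B.Opens) (hU : IsAffineOpen U) (hV : IsAffineOpen V) (hUV : U ≤ h ⁻¹ᵁ V),
        letI := (h.appLE V U hUV).hom.toAlgebra
        CAlg.IsRegularHom Γ(B, V) Γ(A, U))) ↔ Groth.Agent.RegMor.Full (fun R _ => IsRegularRing R) h := fun h =>
    ⟨fun hh => (Groth.Agent.RegMor.regularHom_iff_full h).1 hh.2, fun hh =>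
      ⟨fun b => Groth.Agent.RegMor.isLocallyNoetherian_of_geo
        (((Groth.Agent.RegMor.full_iff Groth.Agent.RegMor.nice_regular h).1 hh).2 b),
        (Groth.Agent.RegMor.regularHom_iff_full h).2 hh⟩⟩
  exact (key f).trans ((Groth.Agent.RegMor.full_baseChange_iff Groth.Agent.RegMor.nice_regular hc).trans (key f').symm)

end Groth.Agent.S1476
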