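import Groth.Statements.S14760
import Groth.Agent.Chev.RatSection
import Groth.Agent.MTBridge.Basic
import Groth.Agent.Blanchard.Descend
import Mathlib.AlgebraicGeometry.Morphisms.LocalFlatDescent

set_option autoImplicit false
universe u
open CategoryTheory CategoryTheory.Limits MonoidalCategory CartesianMonoidalCategory MonObj GrpObj AlgebraicGeometry
open AlgGrp

namespace Groth.Agent.S14760

open Groth.Agent
open scoped CategoryTheory.Obj

set_option backward.isDefEq.respectTransparency false

/-- The shear morphism of a base-changed action. -/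
theorem isIso_shear {S S' : Scheme.{u}} (g : S' ⟶ S) {G X : Over S} [GrpObj G] (a : AlgGrp.Action G X)
    [IsIso (lift a.act (snd G X))] :
    IsIso (lift (Blanchard.pullbackAction g a).act (snd ((Over.pullback g).obj G) ((Over.pullback g).obj X))) := by
  have e : lift (Blanchard.pullbackAction g a).act (snd ((Over.pullback g).obj G) ((Over.pullback g).obj X)) =
      Functor.LaxMonoidal.μ (Over.pullback g) G X ≫ (Over.pullback g).map (lift a.act (snd G X)) ≫ CartesianMonoidalCategory.prodComparison (Over.pullback g) X X := by
    refine CartesianMonoidalCategory.hom_ext _ _ ?_ ?_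
    · simp only [lift_fst, Category.assoc, CartesianMonoidalCategory.prodComparison_fst, ← (Over.pullback g).map_comp]
      rfl
    · simp only [lift_snd, Category.assoc, CartesianMonoidalCategory.prodComparison_snd, ← (Over.pullback g).map_comp, Functor.Monoidal.μ_snd]
  rw [e]
  infer_instance

/-- Let k be an algebraically closed field, L a connected commutative linear group variety over k
(smooth, connected, affine, commutative k-group scheme), Y an integral k-scheme of finite type and π
: X → Y a principal L-bundle: π is flat, surjective and of finite type, and the base change L_Y acts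
on X over Y so that (l, x) ↦ (l·x, x) is an isomorphism L_Y ×_Y X ≅ X ×_Y X. Then π has a section
over some non-empty open subset of Y. (The published statement says π is locally trivial for the
Zariski topology; the published proof constructs a section at the generic point from the vanishing
of H^1 of a field with coefficients in G_a and G_m, which gives exactly a section over a dense open,
the assertion stated here.) -/
theorem result (k : Type u) [Field k] [IsAlgClosed k]
    (L : Over (Spec (CommRingCat.of k))) [GrpObj L] [IsCommMonObj L] [Smooth L.hom] [ConnectedSpace ↥L.left] [IsAffine L.left]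
    {X Y : Scheme.{u}} (qY : Y ⟶ Spec (CommRingCat.of k)) [IsIntegral Y] [LocallyOfFiniteType qY] [QuasiCompact qY]
    (π : X ⟶ Y) [Flat π] [Surjective π] [LocallyOfFiniteType π] [QuasiCompact π]
    (a : AlgGrp.Action (Red.bc qY L) (Over.mk π))
    (htors : IsIso (lift a.act (snd (Red.bc qY L) (Over.mk π)))) :
    ∃ U : Y.Opens, (U : Set ↥Y).Nonempty ∧ ∃ s : (↑U : Scheme.{u}) ⟶ X, s ≫ π = U.ι := by
  let K : Type u := ↥Y.functionField
  letI : Field K := inferInstanceAs (Field ↥Y.functionField)
  let ξ : Spec (CommRingCat.of K) ⟶ Y := Y.fromSpecStalk (genericPoint Y)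
  letI : Algebra k K := (Spec.preimage (ξ ≫ qY)).hom.toAlgebra
  let Ks := SeparableClosure K
  letI : Algebra k Ks := ((algebraMap K Ks).comp (algebraMap k K)).toAlgebra
  haveI : IsScalarTower k K Ks := IsScalarTower.of_algebraMap_eq fun _ => rfl
  have hbase : DualCyc.base k K = ξ ≫ qY := Spec.map_preimage _
  have hG : Chev.GalTorsor.GoodH1 K Ks (Red.bc ξ (Red.bc qY L)) :=
    Chev.GalTorsor.goodH1_of_iso ((MTBridge.bcComp qY ξ L).symm ≪≫ MTBridge.bcCongr hbase.symm L)
      (Chev.SplitH1.good_linear (K := K) (Ks := Ks) L)
  haveI : Smooth π := by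
    let sh := lift a.act (snd (Red.bc qY L) (Over.mk π))
    haveI : IsIso sh.left := ((Over.forget _).mapIso (@asIso _ _ _ _ _ htors)).isIso_hom
    have h1 : sh.left ≫ pullback.snd π π = pullback.snd (Red.bc qY L).hom π :=
      congrArg (fun z => z.left) (lift_snd a.act (snd (Red.bc qY L) (Over.mk π)))
    have hL : Smooth (Red.bc qY L).hom := MorphismProperty.pullback_snd (P := @Smooth) _ _ ‹Smooth L.hom›
    have h2 : Smooth (pullback.snd π π) := by
      rw [← MorphismProperty.cancel_left_of_respectsIso @Smooth sh.left, h1]
      exact MorphismProperty.pullback_snd _ _ hL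
    exact MorphismProperty.of_pullback_snd_of_descendsAlong (P := @Smooth)
      (Q := @Surjective ⊓ @Flat ⊓ @QuasiCompact) (f := π) (g := π)
      ⟨⟨inferInstance, inferInstance⟩, inferInstance⟩ h2
  let P := Red.bc ξ (Over.mk π)
  haveI : Smooth P.hom := MorphismProperty.pullback_snd (P := @Smooth) _ _ ‹Smooth π›
  haveI : Smooth (toUnit P).left := ‹Smooth P.hom›
  haveI : Surjective (toUnit P).left :=
    (MorphismProperty.pullback_snd (P := @Surjective) _ _ ‹Surjective π› : Surjective (pullback.snd π ξ))
  haveI : LocallyOfFiniteType P.hom := inferInstance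
  obtain ⟨x, -⟩ := Chev.GalTorsor.exists_lift_pt (toUnit P) (toUnit (Chev.GalTorsor.pt K Ks))
  haveI := htors
  obtain ⟨s⟩ := Chev.GalTorsor.exists_point hG (Blanchard.pullbackAction ξ a) (isIso_shear ξ a) x
  let sl : Spec (CommRingCat.of K) ⟶ pullback π ξ := s.left
  have hsl : sl ≫ pullback.snd π ξ = 𝟙 _ := Over.w s
  obtain ⟨U, hU, t, ht⟩ := Chev.SplitH1.exists_section_of_generic π (sl ≫ pullback.fst π ξ)
    (by rw [Category.assoc, pullback.condition, reassoc_of% hsl])
  exact ⟨U, hU, t, ht⟩

end Groth.Agent.S14760
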