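import Groth.Statements.S14762
import Groth.Agent.RedQuot.Main
import Groth.Agent.GrpBasic.Perfect
-- import your own Groth.Agent.* helpers here

set_option autoImplicit false
set_option backward.isDefEq.respectTransparency false
universe u
open CategoryTheory CategoryTheory.Limits MonoidalCategory CartesianMonoidalCategory MonObj GrpObj AlgebraicGeometry
open Red

set_option backward.isDefEq.respectTransparency false

namespace Groth.Agent.S14762
open Groth.Agent

/-- Over an algebraically closed field k, every quotient of a reductive group variety is reductive: if G
is a reductive k-group (affine, smooth, connected, with trivial unipotent radical) and π : G → H is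
a flat surjective homomorphism onto a k-group scheme of finite type H, then H is reductive. (The
published lemma also covers the properties complete, semisimple and solvable.) -/
theorem result (k : Type u) [Field k] [IsAlgClosed k]
    (G H : Over (Spec (CommRingCat.of k))) [GrpObj G] [GrpObj H] (hG : Red.IsReductiveOver k G)
    [QuasiCompact H.hom] [LocallyOfFiniteType H.hom]
    (π : G ⟶ H) [IsMonHom π] [Flat π.left] [Surjective π.left] :
    Red.IsReductiveOver k H := by
  obtain ⟨hGa, hGs, hGc, -⟩ := id hG
  haveI := hGa; haveI := hGs; haveI := hGc
  haveI : IsReduced G.left := SmoothRed.isReduced_of_smooth_scheme G.hom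
  haveI : IsReduced H.left := FlatMor.isReduced_of_flat_surjective π.left
  haveI : Smooth H.hom := by
    letI : GrpObj (Over.mk H.hom) := ‹GrpObj H›
    exact GrpBasic.smooth_of_grpObj_algClosed H.hom
  haveI : ConnectedSpace H.left := π.left.surjective.connectedSpace π.left.continuous
  exact RedQuot.isReductiveOver_of_surjective hG π

end Groth.Agent.S14762
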