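import Groth.Statements.S14763
import Groth.Agent.Chev.AffInter
import Groth.Agent.S14751
import Groth.Agent.InfLift.SchemeSmallExt
import Groth.Agent.S7782
import Groth.Agent.S12442
import Groth.Agent.S0383
import Groth.Agent.Chev.Divisible
import Groth.Agent.AlgSpLib.FibreNoeth

set_option autoImplicit false
universe u
open CategoryTheory CategoryTheory.Limits MonoidalCategory CartesianMonoidalCategory MonObj GrpObj AlgebraicGeometry
open AlgGrp

namespace Groth.Agent.S14763
open Groth.Agent

/-- Over an algebraically closed field k let G be a commutative group variety (smooth connected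
commutative k-group scheme of finite type) written as an extension 0 → L → G → A → 0 of an abelian
variety by its largest connected affine subgroup: i : L → G a smooth connected affine closed
subgroup scheme, kernel of a flat surjective homomorphism π : G → A onto an abelian variety A
(proper, smooth, connected). Then the following are equivalent: (a) for some d ≥ 1 there is a
homomorphism s : A → G with π ∘ s equal to multiplication by d on A (the class of the extension is
killed by d: its pullback along multiplication by d splits); (b) there is an abelian subvariety A'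
of G (a smooth connected proper closed subgroup scheme) with A' · L = G, that is, the multiplication
A' × L → G is surjective. (The published statement phrases (a) as the class of G having finite order
in the group of extension classes and (b) as G being isogenous to L × A; the published proof passes
through exactly the two conditions stated here.) -/
theorem result (k : Type u) [Field k] [IsAlgClosed k]
    (G L A : Over (Spec (CommRingCat.of k))) [GrpObj G] [GrpObj L] [GrpObj A] [IsCommMonObj G]
    [Smooth G.hom] [QuasiCompact G.hom] [ConnectedSpace ↥G.left]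
    (i : L ⟶ G) [IsMonHom i] [IsClosedImmersion i.left] [IsAffine L.left] [Smooth L.hom] [ConnectedSpace ↥L.left]
    (π : G ⟶ A) [IsMonHom π] [Flat π.left] [Surjective π.left] (hker : AlgGrp.IsKernel i π)
    [IsProper A.hom] [Smooth A.hom] [ConnectedSpace ↥A.left] :
    (∃ d : ℕ, 0 < d ∧ ∃ s : A ⟶ G, IsMonHom s ∧ s ≫ π = (𝟙 A) ^ d) ↔
      (∃ (A' : Over (Spec (CommRingCat.of k))) (_ : GrpObj A') (j : A' ⟶ G), IsMonHom j ∧ IsClosedImmersion j.left ∧
        Smooth A'.hom ∧ ConnectedSpace ↥A'.left ∧ IsProper A'.hom ∧ Surjective ((j ⊗ₘ i) ≫ μ[G]).left) := by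
  haveI : IsSeparated G.hom := GrpField.isSeparated_hom G
  haveI : QuasiCompact π.left := by
    haveI : QuasiCompact (π.left ≫ A.hom) := by rw [Over.w]; infer_instance
    exact QuasiCompact.of_comp _ A.hom
  constructor
  · rintro ⟨d, hd, s, hsm, hs⟩
    haveI := hsm
    haveI := Chev.geometricallyIntegral_of_group (A := A)
    haveI := Groth.Agent.S0383.result k A d hd
    haveI : QuasiCompact s.left := by
      haveI : QuasiCompact (s.left ≫ G.hom) := by rw [Over.w]; infer_instance
      exact QuasiCompact.of_comp _ G.hom
    obtain ⟨C, hC, c, g, hcm, hg, hgc, hcc, hgd, hgq, hgs⟩ := GrpField.SchImg.exists_image s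
    haveI := hcm; haveI := hg; haveI := hcc; haveI := hgq; haveI := hgs
    haveI : IsSchemeTheoreticallyDominant g.left := hgd
    haveI : LocallyOfFiniteType C.hom := by rw [← Over.w c]; infer_instance
    haveI : IsReduced A.left := Chev.isReduced_of_smooth' A
    haveI : IsReduced C.left := IsSchemeTheoreticallyDominant.isReduced g.left
    haveI : Smooth C.hom := by
      letI : GrpObj (Over.mk C.hom) := hC
      exact GrpBasic.smooth_of_grpObj_perfect C.hom
    haveI : ConnectedSpace C.left := g.left.surjective.connectedSpace g.left.continuous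
    haveI : IsSeparated C.hom := GrpField.isSeparated_hom C
    haveI : UniversallyClosed C.hom := by
      haveI : UniversallyClosed (g.left ≫ C.hom) := by rw [Over.w]; infer_instance
      exact UniversallyClosed.of_comp_surjective g.left C.hom
    haveI : IsProper C.hom := { }
    haveI : Surjective (c ≫ π).left := by
      haveI : Surjective (g.left ≫ (c ≫ π).left) := by
        rw [← Over.comp_left, reassoc_of% hgc, hs]; infer_instance
      exact Surjective.of_comp g.left _
    haveI := Chev.surjective_mul_of_surjective_comp i π hker c
    exact ⟨C, hC, c, hcm, hcc, inferInstance, inferInstance, inferInstance,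
      Chev.surjective_mul_swap i (fun T a x => ⟨x, by rw [_root_.mul_comm a, _root_.mul_assoc, mul_inv_cancel, _root_.mul_one]⟩) c⟩
  · rintro ⟨A', hA', j, hjm, hjc, hjs, hjcon, hjp, hsurj⟩
    letI := hA'
    haveI := hjm; haveI := hjc; haveI := hjs; haveI := hjcon; haveI := hjp
    obtain ⟨-, -, hfs, hfk⟩ := Groth.Agent.S14751.result k G L A' A i π hker j hsurj
    haveI := hfs
    haveI := Chev.geometricallyIntegral_of_group (A := A')
    haveI : IsCommMonObj A' := isCommMonObj_of_isProper_of_geometricallyIntegral A'
    haveI := Chev.geometricallyIntegral_of_group (A := A)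
    haveI : IsCommMonObj A := isCommMonObj_of_isProper_of_geometricallyIntegral A
    obtain ⟨K, hK, ι', hKm, hKc, -, hKk⟩ := AdjRep.exists_kernel (j ≫ π)
    haveI := hKm; haveI := hKc
    haveI : IsFinite K.hom := hfk K ι' hKk
    haveI : Mono ι' := GrpField.SchImg.mono_of_isClosedImmersion ι'
    haveI : IsCommMonObj K := Chev.isCommMonObj_of_mono ι'
    haveI : Flat K.hom := AlgSpLib.flat_of_field K.hom
    haveI : LocallyOfFinitePresentation K.hom := InfLift.lfp_of_lft K.hom
    let r := Scheme.Hom.finrank K.hom (IsLocalRing.closedPoint k)
    haveI : Surjective K.hom := ⟨fun x => ⟨η[K].left x, by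
      rw [← Scheme.Hom.comp_apply, Over.w]; rfl⟩⟩
    have hr0 : 0 < r := (Scheme.Hom.one_le_finrank_iff_surjective K.hom).2 ‹Surjective K.hom› _
    have hr : (𝟙 K) ^ r = (1 : K ⟶ K) := Groth.Agent.S7782.result K r
      (fun s => congrArg _ (Subsingleton.elim (α := PrimeSpectrum k) _ _)) K (𝟙 K)
    haveI := Chev.isMonHom_pow A' r
    have hkill : ι' ≫ (𝟙 A' ^ r) = 1 := by
      have := congrArg (fun φ => φ ≫ ι') hr
      simpa only [MonObj.pow_comp, Category.id_comp, MonObj.one_comp, MonObj.comp_pow, Category.comp_id] using this
    haveI : QuasiCompact (j ≫ π).left := by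
      haveI : QuasiCompact ((j ≫ π).left ≫ A.hom) := by rw [Over.w]; infer_instance
      exact QuasiCompact.of_comp _ A.hom
    haveI : IsReduced A.left := Chev.isReduced_of_smooth' A
    haveI : Flat (j ≫ π).left := GrpField.flat_of_surjective_reduced (j ≫ π)
    haveI : LocallyOfFinitePresentation (j ≫ π).left := by
      haveI : LocallyOfFinitePresentation ((j ≫ π).left ≫ A.hom) := by rw [Over.w]; infer_instance
      exact S12442.result (j ≫ π).left A.hom
    haveI : EffectiveEpi (j ≫ π).left := inferInstance
    haveI : Epi (j ≫ π) := (Over.forget _).epi_of_epi_map (inferInstanceAs (Epi (j ≫ π).left))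
    obtain ⟨s, hs⟩ := AdjRep.exists_desc ι' (j ≫ π) hKk (𝟙 A' ^ r) hkill
    haveI : IsMonHom ((j ≫ π) ≫ s) := by rw [hs]; infer_instance
    haveI := Chev.isMonHom_desc (j ≫ π) s
    refine ⟨r, hr0, s ≫ j, inferInstance, ?_⟩
    rw [← cancel_epi (j ≫ π), Category.assoc s, ← Category.assoc (j ≫ π) s, hs, MonObj.pow_comp, Category.id_comp,
      MonObj.comp_pow, Category.comp_id]


end Groth.Agent.S14763
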