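import Groth.Statements.S14765
import Groth.Agent.SubtrLib.Chain
import Groth.Agent.DvrDom.ClosedProper
import Groth.Agent.FpqcDescent.Immersion
import Mathlib.RingTheory.Flat.TorsionFree
import Mathlib.AlgebraicGeometry.Morphisms.UniversallyOpen
import Mathlib.AlgebraicGeometry.FunctionField

set_option autoImplicit false
universe u
open CategoryTheory CategoryTheory.Limits AlgebraicGeometry
open Subtr

namespace Groth.Agent.S14765

/-- An integral scheme dominating the spectrum of a valuation ring is flat over it. -/
theorem flat_of_genericPoint {V : Type u} [CommRing V] [IsDomain V] [ValuationRing V] {Z : Scheme.{u}}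
    [AlgebraicGeometry.IsIntegral Z] (h : Z ⟶ Spec (CommRingCat.of V))
    (hgen : h (genericPoint Z) = (⟨⊥, Ideal.isPrime_bot⟩ : PrimeSpectrum V)) : Flat h := by
  rw [IsZariskiLocalAtSource.iff_of_openCover (P := @Flat) Z.affineCover]
  intro i
  rcases isEmpty_or_nonempty (Z.affineCover.X i) with he | hne
  · infer_instance
  haveI : AlgebraicGeometry.IsIntegral (Z.affineCover.X i) := isIntegral_of_isOpenImmersion (Z.affineCover.f i)
  haveI : IsAffine (Z.affineCover.X i) := inferInstance
  suffices Flat ((Z.affineCover.X i).isoSpec.inv ≫ Z.affineCover.f i ≫ h) by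
    rwa [MorphismProperty.cancel_left_of_respectsIso @Flat] at this
  obtain ⟨φ, hφ⟩ := Spec.map_surjective ((Z.affineCover.X i).isoSpec.inv ≫ Z.affineCover.f i ≫ h)
  rw [← hφ, HasRingHomProperty.Spec_iff (P := @Flat)]
  let D := Γ(Z.affineCover.X i, ⊤)
  haveI : IsDomain D := inferInstance
  have h1 : Spec.map φ (genericPoint (Spec D)) = (⟨⊥, Ideal.isPrime_bot⟩ : PrimeSpectrum V) := by
    rw [hφ, Scheme.Hom.comp_apply, Scheme.Hom.comp_apply,
      genericPoint_eq_of_isOpenImmersion (Z.affineCover.X i).isoSpec.inv,
      genericPoint_eq_of_isOpenImmersion (Z.affineCover.f i)]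
    exact hgen
  rw [genericPoint_eq_bot_of_affine] at h1
  have hinj : Function.Injective φ.hom :=
    (RingHom.injective_iff_ker_eq_bot _).mpr (congrArg PrimeSpectrum.asIdeal h1)
  letI := φ.hom.toAlgebra
  show Module.Flat V D
  rw [Module.Flat.flat_iff_torsion_eq_bot_of_isBezout, eq_bot_iff]
  rintro m ⟨⟨a, ha⟩, (hm : a • m = 0)⟩
  rw [Algebra.smul_def] at hm
  rcases mul_eq_zero.mp hm with hm | hm
  · exact absurd ((injective_iff_map_eq_zero _).mp hinj a hm) (nonZeroDivisors.ne_zero ha)
  · exact hm


/-- Let V be a valuation ring and f : X ⟶ Spec V any morphism of schemes. The following are equivalent: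
(a) after every base change, every ordered pair of points of the target (a point and a
specialization of it) lifts to an ordered pair of points of the source; (b) every ordered pair of
points of Spec V lifts to an ordered pair of points of X; (c) every point of Spec V is the image of
a point of X lying in the closure of the generic fibre; (d) the pair formed by the closed point and
the generic point of Spec V lifts to points x, x' of X with x a specialization of x'; (e) there are
a valuation ring W and a morphism Spec W ⟶ X whose composite with f is surjective; (f) there is a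
closed subscheme Z of X such that Z ⟶ Spec V is flat and surjective. (The published list also
contains subtrusiveness and universal subtrusiveness, which add submersiveness for the constructible
topology, and the lifting of arbitrary chains of points; this row omits those items and keeps the
lifting property alone in (a).) -/
theorem result (V : Type u) [CommRing V] [IsDomain V] [ValuationRing V]
    {X : Scheme.{u}} (f : X ⟶ Spec (CommRingCat.of V)) :
    List.TFAE [
      Subtr.UnivSSubtrusive f,
      Subtr.IsSSubtrusive f,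
      ∀ y : Spec (CommRingCat.of V), ∃ x : X,
        x ∈ closure (f ⁻¹' {(⟨⊥, Ideal.isPrime_bot⟩ : PrimeSpectrum V)}) ∧ f x = y,
      ∃ x x' : X, x' ⤳ x ∧ f x = IsLocalRing.closedPoint V ∧
        f x' = (⟨⊥, Ideal.isPrime_bot⟩ : PrimeSpectrum V),
      ∃ (W : Type u) (_ : CommRing W) (_ : IsDomain W) (_ : ValuationRing W)
        (g : Spec (CommRingCat.of W) ⟶ X), Surjective (g ≫ f),
      ∃ (Z : Scheme.{u}) (i : Z ⟶ X), IsClosedImmersion i ∧ Flat (i ≫ f) ∧ Surjective (i ≫ f)] := by
  classical
  let ξ : Spec (CommRingCat.of V) := (⟨⊥, Ideal.isPrime_bot⟩ : PrimeSpectrum V)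
  have hcl : ∀ y : Spec (CommRingCat.of V), ξ ⤳ y := fun y => (PrimeSpectrum.le_iff_specializes _ _).mp bot_le
  tfae_have 1 → 2 := fun h => h (X' := X) (Y' := Spec (CommRingCat.of V)) (𝟙 X) (𝟙 _) f (IsPullback.of_vert_isIso ⟨by simp⟩)
  tfae_have 2 → 4 := fun h => h (hcl _)
  tfae_have 4 → 5 := by
    rintro ⟨x, x', hs, hx, hx'⟩
    obtain ⟨W, _, _, _, c, L, hL, hLc⟩ := Groth.Agent.SubtrLib.exists_chain_lift f hs hx hx'
    exact ⟨W, inferInstance, inferInstance, inferInstance, c, ⟨fun p => ⟨L p, hLc p⟩⟩⟩
  tfae_have 5 → 6 := by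
    rintro ⟨W, _, _, _, g, hg⟩
    let w : Spec (CommRingCat.of W) := (⟨⊥, Ideal.isPrime_bot⟩ : PrimeSpectrum W)
    have hw : ∀ p : Spec (CommRingCat.of W), g w ⤳ g p := fun p =>
      ((PrimeSpectrum.le_iff_specializes _ _).mp bot_le : w ⤳ p).map g.continuous
    let I := Scheme.IdealSheafData.vanishingIdeal (X := X) ⟨closure {g w}, isClosed_closure⟩
    have hI : Set.range I.subschemeι = closure {g w} := by
      rw [I.range_subschemeι]
      exact Scheme.IdealSheafData.coe_support_vanishingIdeal _
    haveI : IsReduced I.subscheme := Groth.Agent.DvrDom.isReduced_vanishingIdeal_subscheme _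
    obtain ⟨z₀, hz₀⟩ : g w ∈ Set.range I.subschemeι := hI ▸ subset_closure rfl
    haveI : IrreducibleSpace I.subscheme := by
      have hd : closure ({z₀} : Set I.subscheme) = Set.univ := by
        rw [I.subschemeι.isClosedEmbedding.isEmbedding.isInducing.closure_eq_preimage_closure_image,
          Set.image_singleton, hz₀, ← hI, Set.preimage_range]
      haveI : Nonempty I.subscheme := ⟨z₀⟩
      exact { isPreirreducible_univ := hd ▸ isIrreducible_singleton.closure.2, toNonempty := inferInstance }
    haveI : AlgebraicGeometry.IsIntegral I.subscheme := isIntegral_of_irreducibleSpace_of_isReduced _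
    have hsurj : Surjective (I.subschemeι ≫ f) := ⟨fun y => by
      obtain ⟨p, hp⟩ := hg.surj y
      obtain ⟨z, hz⟩ : g p ∈ Set.range I.subschemeι := hI ▸ (hw p).mem_closure
      exact ⟨z, by rw [Scheme.Hom.comp_apply, hz]; exact hp⟩⟩
    refine ⟨_, I.subschemeι, inferInstance, flat_of_genericPoint _ ?_, hsurj⟩
    obtain ⟨z, hz⟩ := hsurj.surj ξ
    have h1 : (I.subschemeι ≫ f) (genericPoint I.subscheme) ⤳ ξ :=
      hz ▸ (genericPoint_specializes z).map (I.subschemeι ≫ f).continuous
    exact ((hcl _).antisymm h1).eq.symm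
  tfae_have 6 → 1 := by
    rintro ⟨Z, i, _, hfl, hsu⟩ X' Y' p q f' hP y y' hy
    haveI := hfl; haveI := hsu
    obtain ⟨z, hz⟩ := (inferInstance : Surjective (pullback.snd (i ≫ f) q)).surj y
    obtain ⟨z', hz', hzy⟩ := (Flat.generalizingMap (pullback.snd (i ≫ f) q)) (hz.symm ▸ hy)
    let l : pullback (i ≫ f) q ⟶ X' := hP.flip.lift (pullback.fst _ _ ≫ i) (pullback.snd _ _)
      (by rw [Category.assoc, pullback.condition])
    have hl : l ≫ f' = pullback.snd (i ≫ f) q := hP.flip.lift_snd _ _ _
    exact ⟨l z, l z', hz'.map l.continuous, by rw [← Scheme.Hom.comp_apply, hl, hz],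
      by rw [← Scheme.Hom.comp_apply, hl, hzy]⟩
  tfae_have 6 → 3 := by
    rintro ⟨Z, i, _, hfl, hsu⟩ y
    haveI := hfl; haveI := hsu
    obtain ⟨z, hz⟩ := hsu.surj y
    obtain ⟨z', hz', hzy⟩ := (Flat.generalizingMap (i ≫ f)) (hz.symm ▸ hcl y)
    exact ⟨i z, (hz'.map i.continuous).mem_closed isClosed_closure (subset_closure hzy), hz⟩
  tfae_have 3 → 4 := by
    intro h
    obtain ⟨x, hx, hfx⟩ := h (IsLocalRing.closedPoint V)
    let j := Spec.map (CommRingCat.ofHom (algebraMap V (FractionRing V)))
    haveI : IsAffineHom j := inferInstance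
    haveI : QuasiCompact (pullback.fst f j) := inferInstance
    have hr : Set.range (pullback.fst f j) = f ⁻¹' {ξ} := by
      rw [Scheme.Pullback.range_fst]
      congr 1
      ext p
      constructor
      · rintro ⟨r, rfl⟩
        refine PrimeSpectrum.ext ?_
        show r.asIdeal.comap (algebraMap V (FractionRing V)) = ⊥
        have : r.asIdeal = ⊥ := (Ideal.eq_bot_or_top _).resolve_right r.isPrime.ne_top
        rw [this]
        exact Ideal.comap_bot_of_injective _ (IsFractionRing.injective V (FractionRing V))
      · rintro rfl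
        refine ⟨⟨⊥, Ideal.isPrime_bot⟩, PrimeSpectrum.ext ?_⟩
        exact Ideal.comap_bot_of_injective _ (IsFractionRing.injective V (FractionRing V))
    have hx' : x ∈ closure (Set.range (pullback.fst f j)) := by rw [hr]; exact hx
    obtain ⟨r, hr'⟩ := Groth.Agent.FpqcDescent.exists_specializes_of_mem_closure (pullback.fst f j) hx'
    exact ⟨x, _, hr', hfx, hr.subset ⟨r, rfl⟩⟩
  tfae_finish

end Groth.Agent.S14765
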