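import Groth.Statements.S14766
import Mathlib
import Groth.Agent.S14765

set_option autoImplicit false
universe u
open CategoryTheory CategoryTheory.Limits AlgebraicGeometry
open Subtr

namespace Groth.Agent.S14766

/-- Let V be a discrete valuation ring and f : X ⟶ Spec V any morphism of schemes. Then the underlying
continuous map of f is a quotient map (f is submersive) if and only if every ordered pair of points
of Spec V lifts to an ordered pair of points of X. -/
theorem result (V : Type u) [CommRing V] [IsDomain V]
    [IsDiscreteValuationRing V] {X : Scheme.{u}} (f : X ⟶ Spec (CommRingCat.of V)) :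
    Topology.IsQuotientMap f ↔ Subtr.IsSSubtrusive f := by
  constructor
  · intro hq
    refine ((Groth.Agent.S14765.result V f).out 1 2).2 fun y => ?_
    let ξ : Spec (CommRingCat.of V) := (⟨⊥, Ideal.isPrime_bot⟩ : PrimeSpectrum V)
    have hdich : ∀ z : PrimeSpectrum V, z.asIdeal = ⊥ ∨ z.asIdeal = IsLocalRing.maximalIdeal V := fun z => by
      by_cases h : z.asIdeal = ⊥
      · exact Or.inl h
      · exact Or.inr (IsLocalRing.eq_maximalIdeal (z.isPrime.isMaximal h))
    by_cases hy : y = ξ
    · subst hy
      obtain ⟨x, hx⟩ := hq.surjective ξ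
      exact ⟨x, subset_closure hx, hx⟩
    · by_contra hcon
      push Not at hcon
      have hcl : IsClosed (f ⁻¹' {ξ}) := by
        refine isClosed_of_closure_subset fun x hx => ?_
        by_contra hne
        refine hcon x hx (PrimeSpectrum.ext ?_)
        rw [(hdich (f x)).resolve_left fun h => hne (PrimeSpectrum.ext h),
          (hdich y).resolve_left fun h => hy (PrimeSpectrum.ext h)]
      have h2 := hq.isClosed_preimage.1 hcl
      have h3 : IsLocalRing.closedPoint V ∈ ({ξ} : Set (Spec (CommRingCat.of V))) :=
        ((PrimeSpectrum.le_iff_specializes (⟨⊥, Ideal.isPrime_bot⟩ : PrimeSpectrum V) (IsLocalRing.closedPoint V)).1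
          bot_le).mem_closed h2 rfl
      exact IsDiscreteValuationRing.not_a_field' (R := V) (congrArg PrimeSpectrum.asIdeal h3)
  · intro hf
    rw [Topology.isQuotientMap_iff_isClosed]
    refine ⟨fun y => ?_, fun E => ⟨fun hE => hE.preimage f.continuous, fun hE => ?_⟩⟩
    · obtain ⟨x, -, -, hx, -⟩ := hf (specializes_rfl (x := y))
      exact ⟨x, hx⟩
    · have hfin : (Set.univ : Set (PrimeSpectrum V)).Finite := by
        refine Set.Finite.of_finite_image (f := PrimeSpectrum.asIdeal)
          ((Set.toFinite ({⊥, IsLocalRing.maximalIdeal V} : Set (Ideal V))).subset ?_) (fun a _ b _ h => PrimeSpectrum.ext h)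
        rintro _ ⟨z, -, rfl⟩
        by_cases h : z.asIdeal = ⊥
        · exact Or.inl h
        · exact Or.inr (IsLocalRing.eq_maximalIdeal (z.isPrime.isMaximal h))
      have hE' : E = ⋃ e ∈ E, closure {e} := by
        refine Set.Subset.antisymm (fun e he => Set.mem_biUnion he (subset_closure rfl)) (Set.iUnion₂_subset fun e he z hz => ?_)
        obtain ⟨x, x', hxx, hxe, hxz⟩ := hf (specializes_iff_mem_closure.2 hz)
        subst hxe
        exact hxx.mem_closed hE (show f x' ∈ E by rw [hxz]; exact he)
      rw [hE']
      exact (hfin.subset (Set.subset_univ E)).isClosed_biUnion fun e _ => isClosed_closure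

end Groth.Agent.S14766
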