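import Groth.Statements.S14767
import Groth.Agent.SubtrLib.Chain
import Groth.Agent.FpqcDescent.Immersion

set_option autoImplicit false
universe u
open CategoryTheory CategoryTheory.Limits AlgebraicGeometry
open Subtr

namespace Groth.Agent.S14767

/-- Let f : X ⟶ Y be a quasi-compact morphism of schemes. Then f is universally submersive if and only
if, for every valuation ring V and every morphism Spec V ⟶ Y, the base change X ×_Y Spec V ⟶ Spec V
is submersive (its underlying continuous map is a quotient map). (The published statement asks
instead that f be universally submersive for the constructible topologies, which holds for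
quasi-compact surjective morphisms; both sides here force f to be surjective.) -/
theorem result {X Y : Scheme.{u}} (f : X ⟶ Y) [QuasiCompact f] :
    SGA1.UnivSubmersive f ↔
      ∀ (V : Type u) [CommRing V] [IsDomain V] [ValuationRing V] (g : Spec (CommRingCat.of V) ⟶ Y),
        Topology.IsQuotientMap (pullback.snd f g) := by
  refine ⟨fun hf V _ _ _ g => hf (pullback.fst f g) g (pullback.snd f g) (IsPullback.of_hasPullback f g).flip, ?_⟩
  intro h X' Y' p q f' hP
  haveI : QuasiCompact f' := MorphismProperty.of_isPullback hP.flip inferInstance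
  have h' : ∀ (V : Type u) [CommRing V] [IsDomain V] [ValuationRing V] (g : Spec (CommRingCat.of V) ⟶ Y'),
      Topology.IsQuotientMap (pullback.snd f' g) := by
    intro V _ _ _ g
    have hpb : IsPullback (pullback.fst f' g ≫ p) (pullback.snd f' g) f (g ≫ q) :=
      (IsPullback.of_hasPullback f' g).paste_horiz hP.flip
    have e : hpb.isoPullback.hom ≫ pullback.snd f (g ≫ q) = pullback.snd f' g := hpb.isoPullback_hom_snd
    rw [← e, Scheme.Hom.comp_base, TopCat.coe_comp]
    exact (h V (g ≫ q)).comp hpb.isoPullback.hom.homeomorph.isQuotientMap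
  have hsurj : Function.Surjective f' := by
    intro y
    let g : Spec (CommRingCat.of (Y'.residueField y)) ⟶ Y' := Y'.fromSpecResidueField y
    obtain ⟨z, hz⟩ := (h' (Y'.residueField y) g).surjective (IsLocalRing.closedPoint _)
    refine ⟨pullback.fst f' g z, ?_⟩
    rw [← Scheme.Hom.comp_apply, pullback.condition, Scheme.Hom.comp_apply, hz]
    exact Y'.fromSpecResidueField_apply y _
  show Topology.IsQuotientMap f'
  rw [Topology.isQuotientMap_iff_isClosed]
  refine ⟨hsurj, fun E => ⟨fun hE => hE.preimage f'.continuous, fun hE => ?_⟩⟩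
  let I := Scheme.IdealSheafData.vanishingIdeal (X := X') ⟨f' ⁻¹' E, hE⟩
  have hI : Set.range I.subschemeι = f' ⁻¹' E := by
    rw [I.range_subschemeι]
    exact Scheme.IdealSheafData.coe_support_vanishingIdeal _
  have hE' : Set.range (I.subschemeι ≫ f') = E := by
    rw [Scheme.Hom.comp_base, TopCat.coe_comp, Set.range_comp, hI]
    exact Set.image_preimage_eq E hsurj
  have hspec : StableUnderSpecialization E := by
    intro a b hab ha
    obtain ⟨V, _, _, _, g, P, hPm, hPi⟩ := Groth.Agent.SubtrLib.exists_chain_map 1 ![a, b] (by
      intro i j hij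
      fin_cases i <;> fin_cases j <;> first | exact specializes_rfl | exact hab | exact absurd hij (by decide))
    have hq := h' V g
    have hcl : IsClosed (g ⁻¹' E) := by
      rw [← hq.isClosed_preimage, ← Set.preimage_comp,
        show ⇑g ∘ ⇑(pullback.snd f' g) = ⇑f' ∘ ⇑(pullback.fst f' g) from funext fun z =>
          congrArg (fun k : pullback f' g ⟶ Y' => k z) pullback.condition.symm, Set.preimage_comp]
      exact hE.preimage (pullback.fst f' g).continuous
    have h1 : P 0 ⤳ P 1 := (PrimeSpectrum.le_iff_specializes _ _).mp (hPm 0 1 (by decide))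
    have h2 : g (P 0) ∈ E := by rw [hPi]; exact ha
    have h3 : P 1 ∈ g ⁻¹' E := h1.mem_closed hcl h2
    have h4 : g (P 1) = b := hPi 1
    exact h4 ▸ h3
  refine isClosed_of_closure_subset fun y hy => ?_
  rw [← hE'] at hy
  obtain ⟨z, hz⟩ := Groth.Agent.FpqcDescent.exists_specializes_of_mem_closure _ hy
  exact hspec hz (hE'.subset ⟨z, rfl⟩)

end Groth.Agent.S14767
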