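import Groth.Statements.S14772
import Groth.Agent.SubtrLib.FinLift

set_option autoImplicit false
universe u
open CategoryTheory CategoryTheory.Limits AlgebraicGeometry
open Subtr

namespace Groth.Agent.S14772
/-- Lifting of pairs descends along immersions of the base. -/
theorem exists_lift_of_immersion {X Y Z T P : Scheme.{u}} (f : X ⟶ Y) (o : T ⟶ Y)
    (h : Subtr.IsSSubtrusive (pullback.snd f o)) (e : Z ⟶ T) [IsImmersion e]
    (a : P ⟶ Z) (b : P ⟶ X) (sq : IsPullback a b (e ≫ o) f)
    {z' z : Z} (hz : z' ⤳ z) : ∃ w' w : P, w' ⤳ w ∧ a w' = z' ∧ a w = z := by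
  let m : P ⟶ pullback f o := pullback.lift b (a ≫ e) (by rw [Category.assoc]; exact sq.w.symm)
  have hm : IsPullback m a (pullback.snd f o) e := by
    refine IsPullback.of_right (h₁₂ := pullback.fst f o) (v₁₃ := f) (h₂₂ := o) ?_ ?_ (IsPullback.of_hasPullback f o)
    · rw [pullback.lift_fst]; exact sq.flip
    · rw [pullback.lift_snd]
  haveI : IsImmersion m := MorphismProperty.of_isPullback (P := @IsImmersion) hm.flip ‹_›
  obtain ⟨x, x', hx, h1, h2⟩ := h (hz.map e.continuous)
  obtain ⟨w, hw, hw1⟩ := Scheme.exists_preimage_of_isPullback hm x z h1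
  obtain ⟨w', hw', hw'1⟩ := Scheme.exists_preimage_of_isPullback hm x' z' h2
  exact ⟨w', w, m.isEmbedding.isInducing.specializes_iff.mp (by rw [hw, hw']; exact hx), hw'1, hw1⟩

theorem exists_surjective_of_finiteType (R A : Type u) [CommRing R] [CommRing A] [Algebra R A]
    [Algebra.FiniteType R A] : ∃ n : ℕ, 0 < n ∧
      ∃ q : MvPolynomial (ULift.{u} (Fin n)) R →ₐ[R] A, Function.Surjective q := by
  obtain ⟨n, q₀, hq₀⟩ := Algebra.FiniteType.iff_quotient_mvPolynomial''.mp (inferInstance : Algebra.FiniteType R A)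
  refine ⟨n + 1, n.succ_pos, MvPolynomial.aeval fun i => (Fin.cons 0 (fun j => q₀ (MvPolynomial.X j)) : Fin (n + 1) → A) i.down,
    fun a => ?_⟩
  obtain ⟨p, rfl⟩ := hq₀ a
  refine ⟨MvPolynomial.rename (fun j => ULift.up j.succ) p, ?_⟩
  rw [MvPolynomial.aeval_rename]
  exact DFunLike.congr_fun (MvPolynomial.algHom_ext (by simp) : _ = q₀) p


/-- Let f : X ⟶ Y be a quasi-compact morphism of schemes. Then every base change of f has the lifting
property for ordered pairs of points if and only if, for every integer n ≥ 1, the base change X ×_Y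
𝔸ⁿ_Y ⟶ 𝔸ⁿ_Y has it. (The published statement is about universally subtrusive morphisms f, with the
condition that f be universally submersive for the constructible topologies added on both sides, and
does not assume f quasi-compact; this row states the quasi-compact case, where that condition is
automatic once f is surjective.) -/
theorem result {X Y : Scheme.{u}} (f : X ⟶ Y) [QuasiCompact f] :
    Subtr.UnivSSubtrusive f ↔
      ∀ n : ℕ, 0 < n →
        Subtr.IsSSubtrusive (pullback.snd f (AffineSpace (ULift.{u} (Fin n)) Y ↘ Y)) := by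
  refine ⟨fun hf n _ => hf _ _ _ (IsPullback.of_hasPullback f _).flip, fun h => ?_⟩
  rw [Groth.Agent.S14768.result]
  intro V _ _ _ g
  obtain ⟨U, hU, hxU, -⟩ := exists_isAffineOpen_mem_and_subset
    (x := g (IsLocalRing.closedPoint V)) (U := (⊤ : Y.Opens)) trivial
  obtain ⟨l, hl⟩ := HTopV.exists_fac_of_closedPoint_mem g hU.fromSpec (by rw [hU.range_fromSpec]; exact hxU)
  obtain ⟨ρ, rfl⟩ := Spec.map_surjective l
  haveI : CompactSpace ↥(pullback hU.fromSpec f) :=
    QuasiCompact.compactSpace_of_compactSpace (pullback.fst hU.fromSpec f)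
  obtain ⟨w', w, hw, h', hc⟩ := SubtrLib.exists_lift_affine_of_finiteType (pullback.fst hU.fromSpec f) (by
    intro A _ φ hφ z' z hz
    letI := φ.hom.toAlgebra
    haveI : Algebra.FiniteType Γ(Y, U) A := hφ
    obtain ⟨n, hn, q, hq⟩ := exists_surjective_of_finiteType Γ(Y, U) A
    let qc : CommRingCat.of (MvPolynomial (ULift.{u} (Fin n)) Γ(Y, U)) ⟶ CommRingCat.of A :=
      CommRingCat.ofHom q.toRingHom
    haveI : IsClosedImmersion (Spec.map qc) := IsClosedImmersion.spec_of_surjective _ hq
    haveI : IsOpenImmersion (AffineSpace.map (ULift.{u} (Fin n)) hU.fromSpec) :=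
      MorphismProperty.of_isPullback (P := @IsOpenImmersion) (AffineSpace.isPullback_map hU.fromSpec).flip
        inferInstance
    let e : Spec (CommRingCat.of A) ⟶ 𝔸(ULift.{u} (Fin n); Y) :=
      Spec.map qc ≫ (AffineSpace.SpecIso _ Γ(Y, U)).inv ≫ AffineSpace.map _ hU.fromSpec
    haveI : IsImmersion e := by
      haveI : IsImmersion (AffineSpace.map (ULift.{u} (Fin n)) hU.fromSpec) := inferInstance
      infer_instance
    have he : e ≫ (𝔸(ULift.{u} (Fin n); Y) ↘ Y) = Spec.map φ ≫ hU.fromSpec := by
      simp only [e, Category.assoc, AffineSpace.map_over]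
      rw [AffineSpace.SpecIso_inv_over_assoc, ← Category.assoc, ← Spec.map_comp]
      congr 2
      ext r
      exact q.commutes r
    refine exists_lift_of_immersion f _ (h n hn) e (pullback.fst (Spec.map φ) (pullback.fst hU.fromSpec f))
      (pullback.snd _ _ ≫ pullback.snd hU.fromSpec f) ?_ hz
    rw [he]
    exact ((IsPullback.of_hasPullback _ _).flip.paste_horiz (IsPullback.of_hasPullback _ _).flip).flip) _ ρ
  let m : pullback (Spec.map ρ) (pullback.fst hU.fromSpec f) ⟶ pullback f g :=
    pullback.lift (pullback.snd _ _ ≫ pullback.snd _ _) (pullback.fst _ _) (by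
      rw [Category.assoc, ← pullback.condition, ← pullback.condition_assoc, hl])
  refine ((Groth.Agent.S14765.result V (pullback.snd f g)).out 3 1 rfl rfl).mp
    ⟨m w, m w', hw.map m.continuous, ?_, ?_⟩
  · rw [← Scheme.Hom.comp_apply, pullback.lift_snd]; exact hc
  · rw [← Scheme.Hom.comp_apply, pullback.lift_snd]; exact h'


end Groth.Agent.S14772
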