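import Groth.Statements.S14782
import Groth.Agent.FlatBlowUp.Refine
import Groth.Agent.AICCover.Finite

set_option autoImplicit false
set_option backward.isDefEq.respectTransparency false
set_option backward.isDefEq.respectTransparency.types false
universe u
open CategoryTheory CategoryTheory.Limits AlgebraicGeometry
open Subtr

namespace Groth.Agent.S14782

/-- Let Y be a scheme that is affine or Noetherian and f : X ⟶ Y a morphism of finite presentation every
base change of which has the lifting property for ordered pairs of points. Then there are schemes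
X', Y', a morphism h : X' ⟶ X, a quasi-compact surjective morphism p : X' ⟶ Y' that is an open
immersion on an open neighbourhood of every point of X' (a quasi-compact open covering of Y') and a
proper surjective morphism q : Y' ⟶ Y of finite presentation, with h ≫ f = p ≫ q. -/
theorem result {X Y : Scheme.{u}} (f : X ⟶ Y)
    (hY : IsAffine Y ∨ IsNoetherian Y) [LocallyOfFinitePresentation f] [QuasiCompact f] [QuasiSeparated f]
    (hf : Subtr.UnivSSubtrusive f) :
    ∃ (X' Y' : Scheme.{u}) (h : X' ⟶ X) (p : X' ⟶ Y') (q : Y' ⟶ Y), h ≫ f = p ≫ q ∧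
      Surjective p ∧ QuasiCompact p ∧ (∀ x : X', ∃ U : X'.Opens, x ∈ U ∧ IsOpenImmersion (U.ι ≫ p)) ∧
      IsProper q ∧ Surjective q ∧ LocallyOfFinitePresentation q := by
  haveI : CompactSpace Y := by
    rcases hY with h | h <;> infer_instance
  haveI : QuasiSeparatedSpace Y := by
    rcases hY with h | h <;> infer_instance
  obtain ⟨Y', q, X', r, h1, h2, h3, -, -, h6, h7, h8, h9, h10⟩ :=
    Groth.Agent.FlatBlowUp.exists_refinement f hY hf
  haveI : CompactSpace Y' := QuasiCompact.compactSpace_of_compactSpace q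
  haveI : QuasiSeparatedSpace Y' := quasiSeparatedSpace_of_quasiSeparated q
  haveI : UniversallyOpen (r ≫ pullback.snd f q) := inferInstance
  obtain ⟨Z, π, hs, hfin, hfp, hsec⟩ := Groth.Agent.AICCover.exists_finite_cover (r ≫ pullback.snd f q)
  haveI := hs
  haveI := hfin
  haveI := hfp
  haveI : CompactSpace Z := QuasiCompact.compactSpace_of_compactSpace π
  haveI : QuasiSeparatedSpace Z := quasiSeparatedSpace_of_quasiSeparated π
  choose V s hzV hs' using hsec
  have hW : ∀ z : Z, ∃ W : Z.Opens, IsAffineOpen W ∧ z ∈ W ∧ W ≤ V z := fun z =>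
    exists_isAffineOpen_mem_and_subset (hzV z)
  choose W hW hzW hWV using hW
  obtain ⟨t, ht⟩ := (isCompact_univ (X := Z)).elim_finite_subcover (fun z => (W z : Set Z)) (fun z => (W z).2)
    fun z _ => Set.mem_iUnion.2 ⟨z, hzW z⟩
  let F : {z // z ∈ t} → Scheme.{u} := fun k => (W k.1 : Scheme.{u})
  haveI : ∀ k, IsAffine (F k) := fun k => hW k.1
  haveI : CompactSpace ↥(∐ F) := inferInstance
  let p : ∐ F ⟶ Z := Sigma.desc fun k => (W k.1).ι
  refine ⟨∐ F, Z, Sigma.desc (fun k => Z.homOfLE (hWV k.1) ≫ s k.1) ≫ r ≫ pullback.fst f q, p, π ≫ q,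
    ?_, ⟨fun z => ?_⟩, QuasiCompact.of_comp p (terminal.from Z), fun x => ?_, inferInstance, inferInstance,
    inferInstance⟩
  · refine Sigma.hom_ext _ _ fun k => ?_
    simp only [p, Category.assoc, Sigma.ι_desc_assoc]
    rw [pullback.condition, ← Category.assoc r, ← Category.assoc (s k.1), hs' k.1, Category.assoc, Scheme.homOfLE_ι_assoc]
  · obtain ⟨z', hz', hzz⟩ := Set.mem_iUnion₂.1 (ht (Set.mem_univ z))
    exact ⟨Sigma.ι F ⟨z', hz'⟩ ⟨z, hzz⟩, by rw [← Scheme.Hom.comp_apply, Sigma.ι_desc]; rfl⟩
  · obtain ⟨k, y, hy⟩ := (sigmaOpenCover F).exists_eq x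
    refine ⟨(Sigma.ι F k).opensRange, ⟨y, hy⟩, ?_⟩
    haveI : IsOpenImmersion (Sigma.ι F k ≫ p) := by
      rw [Sigma.ι_desc]
      exact inferInstanceAs (IsOpenImmersion (W k.1).ι)
    rw [← Scheme.Hom.isoOpensRange_inv_comp (Sigma.ι F k), Category.assoc]
    infer_instance

end Groth.Agent.S14782
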