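import Groth.Statements.S14783
import Groth.Agent.SubtrLib.Chain
import Groth.Agent.S19530
import Groth.Agent.FpqcDescent.Immersion

set_option autoImplicit false
universe u
open CategoryTheory CategoryTheory.Limits AlgebraicGeometry
open Subtr

namespace Groth.Agent.S14783

/-- A locally closed retrocompact set is the range of a quasi-compact morphism. -/
theorem exists_qc_range {X : Scheme.{u}} (E : Set X) (hE : IsLocallyClosed E) (hEr : IsRetrocompact E) :
    ∃ (Z : Scheme.{u}) (j : Z ⟶ X), QuasiCompact j ∧ Set.range j = E := by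
  let O : X.Opens := ⟨coborder E, hE.isOpen_coborder⟩
  let C : TopologicalSpace.Closeds O.toScheme := ⟨⇑O.ι ⁻¹' closure E, isClosed_closure.preimage O.ι.continuous⟩
  let I := Scheme.IdealSheafData.vanishingIdeal (X := O.toScheme) C
  have hI : Set.range I.subschemeι = (C : Set O.toScheme) := by
    rw [I.range_subschemeι]
    exact Scheme.IdealSheafData.coe_support_vanishingIdeal _
  have hr : Set.range (I.subschemeι ≫ O.ι) = E := by
    rw [Scheme.Hom.comp_base, TopCat.coe_comp, Set.range_comp, hI]
    show ⇑O.ι '' (⇑O.ι ⁻¹' closure E) = E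
    rw [Set.image_preimage_eq_inter_range, Scheme.Opens.range_ι]
    exact (Set.inter_comm _ _).trans (by
      show coborder E ∩ closure E = E
      exact coborder_inter_closure)
  refine ⟨_, I.subschemeι ≫ O.ι, ⟨fun U hU hUc => ?_⟩, hr⟩
  rw [(I.subschemeι ≫ O.ι).isEmbedding.isCompact_iff, Set.image_preimage_eq_inter_range, hr, Set.inter_comm]
  exact hEr hUc hU


/-- Let f : S' ⟶ S be a quasi-compact morphism of schemes every base change of which has the lifting
property for ordered pairs of points, and E ⊆ S any subset. For E to be both locally closed and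
retrocompact it is necessary and sufficient that f⁻¹(E) be both. -/
theorem result {S' S : Scheme.{u}} (f : S' ⟶ S)
    [QuasiCompact f] (hf : Subtr.UnivSSubtrusive f) (E : Set S) :
    (IsLocallyClosed E ∧ IsRetrocompact E) ↔
      (IsLocallyClosed (f ⁻¹' E) ∧ IsRetrocompact (f ⁻¹' E)) := by
  have hsurj : Function.Surjective f := fun y => by
    obtain ⟨x, _, _, hx, -⟩ := hf (X' := S') (Y' := S) (𝟙 S') (𝟙 S) f (IsPullback.of_vert_isIso ⟨by simp⟩)
      (y := y) (y' := y) specializes_rfl
    exact ⟨x, hx⟩
  constructor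
  · rintro ⟨hE, hEr⟩
    refine ⟨hE.preimage f.continuous, fun V hVc hV => ?_⟩
    obtain ⟨Z, j, hj, hr⟩ := exists_qc_range E hE hEr
    have hr' : Set.range (pullback.fst f j) = f ⁻¹' E := by rw [Scheme.Pullback.range_fst, hr]
    rw [← hr', ← Set.image_univ, ← Set.image_inter_preimage, Set.univ_inter]
    exact ((pullback.fst f j).isCompact_preimage (U := ⟨V, hV⟩) hVc).image (pullback.fst f j).continuous
  · rintro ⟨hE, hEr⟩
    obtain ⟨Z, j, hj, hr⟩ := exists_qc_range (f ⁻¹' E) hE hEr
    have hrf : Set.range (j ≫ f) = E := by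
      rw [Scheme.Hom.comp_base, TopCat.coe_comp, Set.range_comp, hr]
      exact Set.image_preimage_eq E hsurj
    have hret : IsRetrocompact E := fun V hVc hV => by
      rw [← hrf, ← Set.image_univ, ← Set.image_inter_preimage, Set.univ_inter]
      exact ((j ≫ f).isCompact_preimage (U := ⟨V, hV⟩) hVc).image (j ≫ f).continuous
    refine ⟨?_, hret⟩
    let T : Set S' := closure (f ⁻¹' E) \ f ⁻¹' E
    have hTc : IsClosed T := by
      have h1 : T = (coborder (f ⁻¹' E))ᶜ := by
        rw [coborder, compl_compl]
      rw [h1]; exact hE.isOpen_coborder.isClosed_compl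
    have hcE : ∀ w ∈ closure E, ∃ e ∈ E, e ⤳ w := fun w hw => by
      rw [← hrf] at hw
      obtain ⟨z, hz⟩ := Groth.Agent.FpqcDescent.exists_specializes_of_mem_closure (j ≫ f) hw
      exact ⟨_, hrf.subset ⟨z, rfl⟩, hz⟩
    have himg : f '' T = closure E \ E := by
      refine Set.Subset.antisymm ?_ ?_
      · rintro _ ⟨t, ⟨ht, ht'⟩, rfl⟩
        exact ⟨map_mem_closure f.continuous ht (fun a ha => ha), ht'⟩
      · rintro w ⟨hw, hw'⟩
        obtain ⟨e, he, hew⟩ := hcE w hw
        obtain ⟨x, hx, hxe⟩ := Groth.Agent.S19530.result f hf 1 ![e, w] (by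
          intro i k hik
          fin_cases i <;> fin_cases k <;> first | exact specializes_rfl | exact hew | exact absurd hik (by decide))
        exact ⟨x 1, ⟨(hx 0 1 (by decide)).mem_closed isClosed_closure
          (subset_closure (show f (x 0) ∈ E by rw [hxe]; exact he)),
          fun h => hw' (by have h5 : f (x 1) = w := hxe 1; exact h5 ▸ h)⟩, hxe 1⟩
    have hcl : IsClosed (closure E \ E) := by
      refine isClosed_of_closure_subset fun w hw => ?_
      let I := Scheme.IdealSheafData.vanishingIdeal (X := S') ⟨T, hTc⟩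
      have hI : Set.range I.subschemeι = T := by
        rw [I.range_subschemeι]
        exact Scheme.IdealSheafData.coe_support_vanishingIdeal _
      have hIf : Set.range (I.subschemeι ≫ f) = closure E \ E := by
        rw [Scheme.Hom.comp_base, TopCat.coe_comp, Set.range_comp, hI]
        exact himg
      rw [← hIf] at hw
      obtain ⟨a, ha⟩ := Groth.Agent.FpqcDescent.exists_specializes_of_mem_closure (I.subschemeι ≫ f) hw
      have hz := hIf.subset ⟨a, rfl⟩
      have hwc : w ∈ closure E := ha.mem_closed isClosed_closure hz.1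
      refine ⟨hwc, fun hwE => hz.2 ?_⟩
      obtain ⟨e, he, hez⟩ := hcE _ hz.1
      obtain ⟨x, hx, hxe⟩ := Groth.Agent.S19530.result f hf 2 ![e, (I.subschemeι ≫ f) a, w] (by
        intro i k hik
        fin_cases i <;> fin_cases k <;> first | exact specializes_rfl | exact hez | exact ha | exact hez.trans ha | exact absurd hik (by decide))
      obtain ⟨U, C, hU, hC, hUC⟩ := hE
      have h2 : x 2 ∈ f ⁻¹' E := by show f (x 2) ∈ E; rw [hxe]; exact hwE
      have h0 : x 0 ∈ f ⁻¹' E := by show f (x 0) ∈ E; rw [hxe]; exact he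
      rw [hUC] at h0 h2
      have h1 : x 1 ∈ f ⁻¹' E := hUC.symm.subset
        ⟨(hx 1 2 (by decide)).mem_open hU h2.1, (hx 0 1 (by decide)).mem_closed hC h0.2⟩
      have h3 : f (x 1) = (I.subschemeι ≫ f) a := hxe 1
      exact h3 ▸ h1
    rw [isLocallyClosed_iff_isOpen_coborder]
    show IsOpen (closure E \ E)ᶜ
    exact hcl.isOpen_compl

end Groth.Agent.S14783
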