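import Groth.Statements.S14784
import Groth.Agent.SubtrLib.Chain
import Groth.Agent.S19530
import Groth.Agent.FpqcDescent.Immersion
import Groth.Agent.ConsEngine.LimClosure
-- import your own Groth.Agent.* helpers here

set_option autoImplicit false
universe u
open CategoryTheory CategoryTheory.Limits AlgebraicGeometry
open Subtr

namespace Groth.Agent.S14784
open Topology
/-- The image of an open set along a morphism locally of finite presentation is ind-constructible. -/
theorem indCons_image {S' S : Scheme.{u}} (f : S' ⟶ S) [LocallyOfFinitePresentation f] (W : S'.Opens) :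
    ProCons.IsIndConstructible (f '' (W : Set S')) := by
  refine ConsTop.indCons_iff_affine.mpr fun A hA => ?_
  obtain ⟨_, _, _, _⟩ := ConsTop.affine_instances hA
  refine (@isOpen_iff_forall_mem_open _ (constructibleTopology ↥(A : Set S)) _).mpr ?_
  rintro ⟨_, hzA⟩ ⟨x, hx, rfl⟩
  obtain ⟨V, hV, hxV, hVle⟩ := exists_isAffineOpen_mem_and_subset (x := x) (U := W ⊓ f ⁻¹ᵁ A) ⟨hx, hzA⟩
  have e : V ≤ f ⁻¹ᵁ A := fun a ha => (hVle ha).2
  haveI : IsAffine V.toScheme := hV
  haveI : IsAffine A.toScheme := hA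
  haveI : LocallyOfFinitePresentation (f.resLE A V e) := by
    rw [Scheme.Hom.resLE]; infer_instance
  have hval : ∀ a : V.toScheme, (f.resLE A V e a).1 = f a.1 := fun a => by
    show (f.resLE A V e ≫ A.ι) a = (V.ι ≫ f) a
    rw [Scheme.Hom.resLE_comp_ι]
  have hc := (ConsTop.isClopen_of_isLocallyConstructible
    ((f.resLE A V e).isLocallyConstructible_image (IsLocallyConstructible.univ))).1
  refine ⟨f.resLE A V e '' Set.univ, ?_, hc, ⟨⟨x, hxV⟩, trivial, Subtype.ext (hval ⟨x, hxV⟩)⟩⟩
  rintro _ ⟨a, -, rfl⟩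
  exact ⟨a.1, (hVle a.2).1, (hval a).symm⟩

/-- Let f : S' ⟶ S be a morphism of schemes of finite presentation every base change of which has the
lifting property for ordered pairs of points, and E ⊆ S a subset. Then E is locally closed if and
only if f⁻¹(E) is locally closed. (The published statement is for algebraic spaces; this row is the
case of schemes.) -/
theorem result {S' S : Scheme.{u}} (f : S' ⟶ S)
    [LocallyOfFinitePresentation f] [QuasiCompact f] [QuasiSeparated f]
    (hf : Subtr.UnivSSubtrusive f) (E : Set S) :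
    IsLocallyClosed E ↔ IsLocallyClosed (f ⁻¹' E) := by
  have hsurj : Function.Surjective f := fun y => by
    obtain ⟨x, _, _, hx, -⟩ := hf (X' := S') (Y' := S) (𝟙 S') (𝟙 S) f (IsPullback.of_vert_isIso ⟨by simp⟩)
      (y := y) (y' := y) specializes_rfl
    exact ⟨x, hx⟩
  refine ⟨fun hE => hE.preimage f.continuous, fun hE => ?_⟩
  let P : Set S := {e | f ⁻¹' {e} ⊆ closure (f ⁻¹' E)}
  let W : S'.Opens := ⟨(closure (f ⁻¹' E))ᶜ, isClosed_closure.isOpen_compl⟩
  have hP : ProCons.IsProConstructible P := by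
    rw [ConsTop.isProConstructible_iff_indCons_compl]
    convert indCons_image f W using 1
    ext e
    show ¬ (f ⁻¹' {e} ⊆ closure (f ⁻¹' E)) ↔ e ∈ f '' (closure (f ⁻¹' E))ᶜ
    rw [Set.not_subset]
    exact ⟨fun ⟨a, ha, ha'⟩ => ⟨a, ha', ha⟩, fun ⟨a, ha', ha⟩ => ⟨a, ha, ha'⟩⟩
  have hEP : E ⊆ P := fun e he a ha => subset_closure (show f a ∈ E from (Set.mem_singleton_iff.mp ha).symm ▸ he)
  have hcE : ∀ w ∈ closure E, ∃ e ∈ P, e ⤳ w := fun w hw =>
    ConsEngine.exists_specializes_of_mem_closure_proCons hP (closure_mono hEP hw)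
  let T : Set S' := closure (f ⁻¹' E) \ f ⁻¹' E
  have hTc : IsClosed T := by
    have h1 : T = (coborder (f ⁻¹' E))ᶜ := by
      rw [coborder, compl_compl]
    rw [h1]; exact hE.isOpen_coborder.isClosed_compl
  have himg : f '' T = closure E \ E := by
    refine Set.Subset.antisymm ?_ ?_
    · rintro _ ⟨t, ⟨ht, ht'⟩, rfl⟩
      exact ⟨map_mem_closure f.continuous ht (fun a ha => ha), ht'⟩
    · rintro w ⟨hw, hw'⟩
      obtain ⟨e, he, hew⟩ := hcE w hw
      obtain ⟨x, hx, hxe⟩ := Groth.Agent.S19530.result f hf 1 ![e, w] (by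
        intro i k hik
        fin_cases i <;> fin_cases k <;> first | exact specializes_rfl | exact hew | exact absurd hik (by decide))
      exact ⟨x 1, ⟨(hx 0 1 (by decide)).mem_closed isClosed_closure
        (he (show f (x 0) = e by rw [hxe]; rfl)),
        fun h => hw' (by have h5 : f (x 1) = w := hxe 1; exact h5 ▸ h)⟩, hxe 1⟩
  have hcl : IsClosed (closure E \ E) := by
    refine isClosed_of_closure_subset fun w hw => ?_
    let I := Scheme.IdealSheafData.vanishingIdeal (X := S') ⟨T, hTc⟩
    have hI : Set.range I.subschemeι = T := by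
      rw [I.range_subschemeι]
      exact Scheme.IdealSheafData.coe_support_vanishingIdeal _
    have hIf : Set.range (I.subschemeι ≫ f) = closure E \ E := by
      rw [Scheme.Hom.comp_base, TopCat.coe_comp, Set.range_comp, hI]
      exact himg
    rw [← hIf] at hw
    obtain ⟨a, ha⟩ := Groth.Agent.FpqcDescent.exists_specializes_of_mem_closure (I.subschemeι ≫ f) hw
    have hz := hIf.subset ⟨a, rfl⟩
    have hwc : w ∈ closure E := ha.mem_closed isClosed_closure hz.1
    refine ⟨hwc, fun hwE => hz.2 ?_⟩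
    obtain ⟨e, he, hez⟩ := hcE _ hz.1
    obtain ⟨x, hx, hxe⟩ := Groth.Agent.S19530.result f hf 2 ![e, (I.subschemeι ≫ f) a, w] (by
      intro i k hik
      fin_cases i <;> fin_cases k <;> first | exact specializes_rfl | exact hez | exact ha | exact hez.trans ha | exact absurd hik (by decide))
    obtain ⟨U, C, hU, hC, hUC⟩ := hE
    have h2 : x 2 ∈ f ⁻¹' E := by show f (x 2) ∈ E; rw [hxe]; exact hwE
    have h0 : x 0 ∈ C := closure_minimal (by rw [hUC]; exact Set.inter_subset_right) hC
      (he (show f (x 0) = e by rw [hxe]; rfl))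
    rw [hUC] at h2
    have h1 : x 1 ∈ f ⁻¹' E := hUC.symm.subset
      ⟨(hx 1 2 (by decide)).mem_open hU h2.1, (hx 0 1 (by decide)).mem_closed hC h0⟩
    have h3 : f (x 1) = (I.subschemeι ≫ f) a := hxe 1
    exact h3 ▸ h1
  rw [isLocallyClosed_iff_isOpen_coborder]
  show IsOpen (closure E \ E)ᶜ
  exact hcl.isOpen_compl


end Groth.Agent.S14784
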