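import Groth.Statements.S14788
import Mathlib
import Groth.Agent.ConsEngine.LimClosure
import Groth.Agent.ConsEngine.LimMaxPt
import Groth.Agent.S15542

set_option autoImplicit false
universe u
open CategoryTheory CategoryTheory.Limits AlgebraicGeometry
open Subtr

namespace Groth.Agent.S14788

/-- (i) ⇔ (iv): a morphism of schemes f : X ⟶ Y has the lifting property for ordered pairs of points if
and only if, for every pro-constructible subset Z ⊆ Y, the image under f of the closure of f⁻¹(Z) is
the closure of Z. (In the published item (iv) the right-hand side is printed as Z itself; the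
closure is meant, as the case of a non-closed point shows and as the proof uses.) -/
theorem result {X Y : Scheme.{u}} (f : X ⟶ Y) :
    Subtr.IsSSubtrusive f ↔
      ∀ Z : Set Y, ProCons.IsProConstructible Z → f '' closure (f ⁻¹' Z) = closure Z := by
  constructor
  · intro hf Z hZ
    refine Set.Subset.antisymm ?_ fun y hy => ?_
    · exact (image_closure_subset_closure_image f.continuous).trans (closure_mono (Set.image_preimage_subset _ _))
    · obtain ⟨y', hy', hyy⟩ := Groth.Agent.ConsEngine.exists_specializes_of_mem_closure_proCons hZ hy
      obtain ⟨x, x', hxx, rfl, rfl⟩ := hf hyy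
      exact ⟨x, hxx.mem_closed isClosed_closure (subset_closure hy'), rfl⟩
  · intro h y y' hyy
    have hZ : ProCons.IsProConstructible ({y'} : Set Y) :=
      Groth.Agent.ConsEngine.proCons_of_finite (Set.finite_singleton y')
    obtain ⟨x, hx, hxy⟩ := (h {y'} hZ).ge (specializes_iff_mem_closure.1 hyy)
    obtain ⟨x', hx', hxx⟩ := Groth.Agent.ConsEngine.exists_specializes_of_mem_closure_proCons
      (Groth.Agent.S15542.result f {y'} hZ) hx
    exact ⟨x, x', hxx, hxy, hx'⟩

end Groth.Agent.S14788
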