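import Groth.Statements.S14789
import Mathlib

set_option autoImplicit false
universe u
open CategoryTheory CategoryTheory.Limits AlgebraicGeometry
open Subtr

namespace Groth.Agent.S14789

/-- Let f : X ⟶ Y be a morphism of schemes with the lifting property for ordered pairs of points, and U
⊆ Y a subset containing every maximal point of Y (every point all of whose generizations are equal
to it). Then the closure of f⁻¹(U) maps onto Y. -/
theorem result {X Y : Scheme.{u}} (f : X ⟶ Y)
    (hf : Subtr.IsSSubtrusive f) (U : Set Y) (hU : ∀ y : Y, (∀ y' : Y, y' ⤳ y → y' = y) → y ∈ U) :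
    f '' closure (f ⁻¹' U) = Set.univ := by
  refine Set.eq_univ_of_forall fun y => ?_
  obtain ⟨T, hT, hyT⟩ : ∃ T ∈ irreducibleComponents Y, y ∈ T :=
    ⟨irreducibleComponent y, irreducibleComponent_mem_irreducibleComponents y, mem_irreducibleComponent⟩
  obtain ⟨η, hη⟩ := QuasiSober.sober hT.1 (isClosed_of_mem_irreducibleComponents T hT)
  have hmax : η ∈ U := hU η fun y' hy' => by
    have hle : T ≤ closure {y'} := by
      rw [← hη.def]
      exact closure_minimal (Set.singleton_subset_iff.2 (specializes_iff_mem_closure.1 hy')) isClosed_closure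
    have h1 : closure ({y'} : Set Y) ⊆ T := hT.2 isIrreducible_singleton.closure hle
    exact (hy'.antisymm (hη.specializes (h1 (subset_closure rfl)))).eq
  obtain ⟨x, x', hxx, rfl, hx'⟩ := hf (hη.specializes hyT)
  exact ⟨x, hxx.mem_closed isClosed_closure (subset_closure (show f x' ∈ U by rw [hx']; exact hmax)), rfl⟩

end Groth.Agent.S14789
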