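import Groth.Statements.S1479
import Groth.Agent.SmSub.Sch
-- import your own Groth.Agent.* helpers here

set_option autoImplicit false
universe u
open FlatMor

set_option linter.style.haveILetI false
set_option backward.isDefEq.respectTransparency false

namespace Groth.Agent.S1479

open AlgebraicGeometry CategoryTheory Limits in
/-- Let X and Y be smooth over S and i : Y → X a closed immersion over S. For every point y of Y there
are an open U of X containing i y, natural numbers m, n, and an étale S-morphism π from U to affine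
(m+n)-space over S such that the closed subscheme Y ∩ U of U is the pullback along π of the
coordinate subspace given by the vanishing of the last n coordinates. -/
theorem result {S X Y : Scheme.{u}} (pX : X ⟶ S) (pY : Y ⟶ S) [Smooth pX] [Smooth pY]
    (i : Y ⟶ X) [IsClosedImmersion i] (w : i ≫ pX = pY) (y : Y) :
    ∃ (U : X.Opens) (m n : ℕ) (π : (U : Scheme.{u}) ⟶ 𝔸(ULift.{u} (Fin m ⊕ Fin n); S)) (ρ : (↑(i ⁻¹ᵁ U) : Scheme.{u}) ⟶ 𝔸(ULift.{u} (Fin m); S)),
      i y ∈ U ∧ Etale π ∧ π ≫ (𝔸(ULift.{u} (Fin m ⊕ Fin n); S) ↘ S) = U.ι ≫ pX ∧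
      IsPullback ρ (i ∣_ U)
        (AffineSpace.homOfVector (𝔸(ULift.{u} (Fin m); S) ↘ S)
          (fun j : ULift.{u} (Fin m ⊕ Fin n) => Sum.elim (fun a => AffineSpace.coord S (ULift.up a)) (fun _ => 0) j.down))
        π := by
  obtain ⟨U₀, U, hU, e, m, n, v, hy, het, hker⟩ := SmSub.exists_chart pX pY i w y
  haveI : IsAffine U.toScheme := hU
  haveI := het
  haveI : IsOpenImmersion (AffineSpace.map (ULift.{u} (Fin m ⊕ Fin n)) U₀.ι) :=
    MorphismProperty.of_isPullback (P := @IsOpenImmersion) (AffineSpace.isPullback_map U₀.ι).flip inferInstance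
  have hπ : AffineSpace.homOfVector (U.ι ≫ pX) v =
      AffineSpace.homOfVector (pX.resLE U₀ U e) v ≫ AffineSpace.map _ U₀.ι := by
    apply AffineSpace.hom_ext
    · simp
    · intro j; simp
  refine ⟨U, m, n, AffineSpace.homOfVector (U.ι ≫ pX) v, _, hy, ?_, AffineSpace.homOfVector_over _ _,
    SmSub.isPullback_coord (i ∣_ U) (U.ι ≫ pX) v hker⟩
  rw [hπ]
  infer_instance

end Groth.Agent.S1479
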