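import Groth.Statements.S14791
import Groth.Agent.LimDesc.Tower
import Groth.Agent.FpqcDescent.Immersion

set_option autoImplicit false
universe u
open CategoryTheory CategoryTheory.Limits AlgebraicGeometry
open Subtr

namespace Groth.Agent.S14791
theorem isSSubtrusive_of_isPullback {X Y T P : Scheme.{u}} {f : X ⟶ Y} {o : T ⟶ Y}
    (h : Subtr.IsSSubtrusive (pullback.snd f o)) {a : P ⟶ X} {b : P ⟶ T} (sq : IsPullback a b f o) :
    Subtr.IsSSubtrusive b := by
  intro y y' hy
  obtain ⟨x, x', hx, h1, h2⟩ := h hy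
  refine ⟨sq.isoPullback.inv x, sq.isoPullback.inv x', hx.map sq.isoPullback.inv.continuous, ?_, ?_⟩
  · rw [← Scheme.Hom.comp_apply, sq.isoPullback_inv_snd]; exact h1
  · rw [← Scheme.Hom.comp_apply, sq.isoPullback_inv_snd]; exact h2

/-- Points in the closure of a fibre of a quasi-compact morphism specialize from the fibre. -/
theorem exists_specializes_of_mem_closure_fibre {X Y : Scheme.{u}} (f : X ⟶ Y) [QuasiCompact f]
    {x : X} {y' : Y} (hy : y' ⤳ f x) (hx : x ∈ closure (f ⁻¹' {y'})) : ∃ x', f x' = y' ∧ x' ⤳ x := by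
  obtain ⟨V, hV, hxV, -⟩ := exists_isAffineOpen_mem_and_subset (x := f x) (U := (⊤ : Y.Opens)) trivial
  haveI : IsAffine V.toScheme := hV
  let g : pullback f V.ι ⟶ V.toScheme := pullback.snd f V.ι
  let p : V.toScheme := ⟨y', hy.mem_open V.2 hxV⟩
  let k := V.toScheme.fromSpecResidueField p
  let j : pullback g k ⟶ pullback f V.ι := pullback.fst g k
  obtain ⟨x₀, hx₀, -⟩ := Scheme.Pullback.exists_preimage_pullback (f := f) (g := V.ι) x ⟨f x, hxV⟩ rfl
  have hj : x₀ ∈ closure (Set.range j) := by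
    rw [Scheme.Pullback.range_fst, Scheme.range_fromSpecResidueField]
    have h1 : g ⁻¹' {p} = pullback.fst f V.ι ⁻¹' (f ⁻¹' {y'}) := by
      ext w
      simp only [Set.mem_preimage, Set.mem_singleton_iff, g, p]
      rw [← Scheme.Hom.comp_apply (pullback.fst f V.ι) f, pullback.condition]
      exact Subtype.ext_iff
    rw [h1, ← (pullback.fst f V.ι).isOpenEmbedding.isOpenMap.preimage_closure_eq_closure_preimage
      (pullback.fst f V.ι).continuous]
    show pullback.fst f V.ι x₀ ∈ closure (f ⁻¹' {y'})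
    rw [hx₀]
    exact hx
  obtain ⟨w, hw⟩ := Groth.Agent.FpqcDescent.exists_specializes_of_mem_closure j hj
  refine ⟨pullback.fst f V.ι (j w), ?_, ?_⟩
  · rw [← Scheme.Hom.comp_apply (pullback.fst f V.ι) f, pullback.condition, Scheme.Hom.comp_apply]
    have : g (j w) = p := by
      rw [← Scheme.Hom.comp_apply, pullback.condition, Scheme.Hom.comp_apply]
      exact Scheme.fromSpecResidueField_apply p _
    rw [show pullback.snd f V.ι (j w) = p from this]
    rfl
  · have := hw.map (pullback.fst f V.ι).continuous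
    rwa [hx₀] at this


/-- Let S = lim S_i be a cofiltered limit of schemes with affine transition morphisms, Y₀ a scheme over
a stage S_{i₀}, f₀ : X₀ ⟶ Y₀ a quasi-compact morphism, and write f_i, f for the base changes of f₀
to the stages S_i and to S (realised as second projections of fibre products). If there is a stage
S_{i₁} such that f_i has the lifting property for ordered pairs of points for every stage S_i over
S_{i₁}, then f has it. (The published statement is about subtrusive morphisms and assumes f a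
quotient map for the constructible topologies; this row keeps only the lifting property and assumes
f₀ quasi-compact, which makes the fibres quasi-compact as the filtered-intersection step of the
argument requires.) -/
theorem result {I : Type u} [SmallCategory I] [IsCofiltered I]
    (D : I ⥤ Scheme.{u}) (c : Limits.Cone D) (hc : Limits.IsLimit c)
    [∀ (i j : I) (a : i ⟶ j), IsAffineHom (D.map a)] (i₀ : I)
    {X₀ Y₀ : Scheme.{u}} (f₀ : X₀ ⟶ Y₀) (g₀ : Y₀ ⟶ D.obj i₀) [QuasiCompact f₀]
    (h : ∃ (i₁ : I) (ψ : i₁ ⟶ i₀), ∀ (i : I) (φ : i ⟶ i₁),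
      Subtr.IsSSubtrusive (pullback.snd f₀ (pullback.fst g₀ (D.map (φ ≫ ψ))))) :
    Subtr.IsSSubtrusive (pullback.snd f₀ (pullback.fst g₀ (c.π.app i₀))) := by
  classical
  obtain ⟨i₁, ψ, h⟩ := h
  let qY := pullback.fst g₀ (c.π.app i₀)
  let f := pullback.snd f₀ qY
  have hY : IsPullback qY (pullback.snd g₀ (c.π.app i₀)) g₀ (c.π.app i₀) := .of_hasPullback _ _
  have hX : IsPullback (pullback.fst f₀ qY) f f₀ qY := .of_hasPullback _ _
  let T := Over i₁
  let st : T → Over i₀ := fun k => Over.mk (k.hom ≫ ψ)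
  let qX := LimDesc.proj D (f₀ ≫ g₀) c (LimDesc.isPullback_comp D g₀ c hY f₀ hX)
  let qT := LimDesc.proj D g₀ c hY
  intro y y' hy
  have hS : ∀ k : T, Subtr.IsSSubtrusive (LimDesc.stageMap D g₀ f₀ (st k)) := fun k =>
    isSSubtrusive_of_isPullback (h k.left k.hom) (LimDesc.isPullback_stageMap D g₀ f₀ (st k))
  let C : T → Set ↥(pullback f₀ qY) := fun k =>
    qX (st k) ⁻¹' closure (LimDesc.stageMap D g₀ f₀ (st k) ⁻¹' {qT (st k) y'})
  let trs : ∀ {k l : T}, (k ⟶ l) → (st k ⟶ st l) := fun {k l} a => Over.homMk a.left (by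
    show a.left ≫ l.hom ≫ ψ = k.hom ≫ ψ
    rw [← Category.assoc, Over.w a])
  have hC : ∀ {k l : T} (a : k ⟶ l), C k ⊆ C l := by
    intro k l a x hx
    have e1 : qX (st l) x = LimDesc.trans D (f₀ ≫ g₀) (trs a) (qX (st k) x) := by
      rw [← Scheme.Hom.comp_apply]
      exact congrArg (fun m : pullback f₀ qY ⟶ _ => m x)
        ((LimDesc.towerCone D (f₀ ≫ g₀) c (LimDesc.isPullback_comp D g₀ c hY f₀ hX)).w (trs a)).symm
    show qX (st l) x ∈ closure _
    rw [e1]
    refine map_mem_closure (LimDesc.trans D (f₀ ≫ g₀) (trs a)).continuous hx fun z hz => ?_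
    show LimDesc.stageMap D g₀ f₀ (st l) (LimDesc.trans D (f₀ ≫ g₀) (trs a) z) = qT (st l) y'
    rw [← Scheme.Hom.comp_apply, LimDesc.trans_stageMap, Scheme.Hom.comp_apply,
      show LimDesc.stageMap D g₀ f₀ (st k) z = qT (st k) y' from hz, ← Scheme.Hom.comp_apply]
    exact congrArg (fun m : pullback g₀ (c.π.app i₀) ⟶ _ => m y')
      ((LimDesc.towerCone D g₀ c hY).w (trs a))
  have hK : IsCompact (f ⁻¹' {y}) := f.isCompact_preimage_singleton y
  obtain ⟨x, hxy, hxC⟩ : (f ⁻¹' {y} ∩ ⋂ k, C k).Nonempty := by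
    refine hK.inter_iInter_nonempty C (fun k => isClosed_closure.preimage (qX (st k)).continuous) fun s => ?_
    obtain ⟨k, hk⟩ := IsCofiltered.inf_objs_exists s
    obtain ⟨z, z', hz, h1, h2⟩ := hS k (hy.map (qT (st k)).continuous)
    obtain ⟨x, hx1, hx2⟩ := Scheme.exists_preimage_of_isPullback
      (LimDesc.isPullback_proj_stageMap D g₀ c hY f₀ hX (st k)) z y h1
    refine ⟨x, hx2, Set.mem_iInter₂.mpr fun l hl => hC (hk hl).some ?_⟩
    show qX (st k) x ∈ closure _
    rw [show qX (st k) x = z from hx1]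
    exact hz.mem_closed isClosed_closure (subset_closure h2)
  have hcl : x ∈ closure (f ⁻¹' {y'}) := by
    rw [mem_closure_iff]
    intro O hO hxO
    obtain ⟨V, hV, hxV, hVO⟩ := exists_isAffineOpen_mem_and_subset (x := x)
      (U := (⟨O, hO⟩ : (pullback f₀ qY).Opens)) hxO
    obtain ⟨j, Vj, -, hVj⟩ := exists_preimage_eq (LimDesc.tower D (f₀ ≫ g₀))
      (LimDesc.towerCone D (f₀ ≫ g₀) c (LimDesc.isPullback_comp D g₀ c hY f₀ hX))
      (LimDesc.isLimitTowerCone D (f₀ ≫ g₀) c _ hc) V hV.isCompact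
    let m := IsCofiltered.min j (Over.mk ψ)
    let a₁ : m ⟶ j := IsCofiltered.minToLeft _ _
    let a₂ : m ⟶ Over.mk ψ := IsCofiltered.minToRight _ _
    let k : T := Over.mk a₂.left
    have hkm : st k ⟶ m := Over.homMk (𝟙 _) (by
      show 𝟙 _ ≫ m.hom = a₂.left ≫ ψ
      rw [Category.id_comp]; exact (Over.w a₂).symm)
    let a := hkm ≫ a₁
    have hw : ∀ w, qX j w = LimDesc.trans D (f₀ ≫ g₀) a (qX (st k) w) := fun w => by
      rw [← Scheme.Hom.comp_apply]
      exact congrArg (fun m : pullback f₀ qY ⟶ _ => m w)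
        ((LimDesc.towerCone D (f₀ ≫ g₀) c (LimDesc.isPullback_comp D g₀ c hY f₀ hX)).w a).symm
    have hxk : qX (st k) x ∈ LimDesc.trans D (f₀ ≫ g₀) a ⁻¹' (Vj : Set ↥((LimDesc.tower D (f₀ ≫ g₀)).obj j)) := by
      show LimDesc.trans D (f₀ ≫ g₀) a (qX (st k) x) ∈ Vj
      rw [← hw]
      rw [← hVj] at hxV
      exact hxV
    obtain ⟨p, hp1, hp2⟩ := mem_closure_iff.mp (Set.mem_iInter.mp hxC k) _
      ((TopologicalSpace.Opens.isOpen Vj).preimage (LimDesc.trans D (f₀ ≫ g₀) a).continuous) hxk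
    obtain ⟨x', hx1, hx2⟩ := Scheme.exists_preimage_of_isPullback
      (LimDesc.isPullback_proj_stageMap D g₀ c hY f₀ hX (st k)) p y' hp2
    refine ⟨x', hVO ?_, hx2⟩
    rw [← hVj]
    show qX j x' ∈ Vj
    rw [hw, show qX (st k) x' = p from hx1]
    exact hp1
  obtain ⟨x', h1, h2⟩ := exists_specializes_of_mem_closure_fibre f
    (show y' ⤳ f x by rw [show f x = y from hxy]; exact hy) hcl
  exact ⟨x, x', h2, hxy, h1⟩


end Groth.Agent.S14791
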