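import Groth.Statements.S14796
import Groth.Agent.WeakNorm.Basic
import Groth.Agent.SmoothRed.Basic
import Mathlib.RingTheory.Localization.BaseChange
import Mathlib.RingTheory.LocalProperties.Reduced
import Mathlib.RingTheory.Etale.Basic
import Mathlib.RingTheory.Smooth.IntegralClosure

set_option autoImplicit false
universe u
open CategoryTheory CategoryTheory.Limits AlgebraicGeometry
open Subtr

namespace Groth.Agent.S14796

open scoped TensorProduct in
/-- The largest universally homeomorphic subalgebra lives in the integral closure. -/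
theorem eq_map_of_isIntegralClosure {A B₀ B : Type u} [CommRing A] [CommRing B₀] [CommRing B] [Algebra A B₀]
    [Algebra A B] [Algebra.IsIntegral A B₀] (hinj₀ : Function.Injective (algebraMap A B₀))
    (j : B₀ →ₐ[A] B) (hj : Function.Injective j) (hint : ∀ b : B, IsIntegral A b → b ∈ j.range)
    (C : Subalgebra A B) (hC : FlatMor.IsUnivHomeo (Spec.map (CommRingCat.ofHom (algebraMap A C))))
    (hmax : ∀ D : Subalgebra A B, FlatMor.IsUnivHomeo (Spec.map (CommRingCat.ofHom (algebraMap A D))) → D ≤ C) :
    C = (Groth.Agent.WeakNorm.eqRed A B₀).map j := by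
  obtain ⟨E, hE, hEu, hEm⟩ := Groth.Agent.WeakNorm.main A B₀ hinj₀
  obtain rfl : Groth.Agent.WeakNorm.eqRed A B₀ = E :=
    SetLike.ext fun b => (Groth.Agent.WeakNorm.mem_eqRed A B₀ b).trans (hE b).symm
  haveI : (FlatMor.IsUnivHomeo : MorphismProperty Scheme.{u}).RespectsIso :=
    inferInstanceAs (MorphismProperty.universally _).RespectsIso
  have transfer : ∀ {D₁ D₂ : Type u} [CommRing D₁] [CommRing D₂] [Algebra A D₁] [Algebra A D₂]
      (e : D₁ ≃ₐ[A] D₂), FlatMor.IsUnivHomeo (Spec.map (CommRingCat.ofHom (algebraMap A D₁))) →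
      FlatMor.IsUnivHomeo (Spec.map (CommRingCat.ofHom (algebraMap A D₂))) := by
    intro D₁ D₂ _ _ _ _ e h
    have he : CommRingCat.ofHom (algebraMap A D₂) =
        CommRingCat.ofHom (algebraMap A D₁) ≫ e.toRingEquiv.toCommRingCatIso.hom :=
      CommRingCat.hom_ext (RingHom.ext fun a => (e.commutes a).symm)
    rw [he, Spec.map_comp]
    exact (MorphismProperty.cancel_left_of_respectsIso _ _ _).mpr h
  have hCi : Algebra.IsIntegral A C := by
    haveI : IsIntegralHom (Spec.map (CommRingCat.ofHom (algebraMap A C))) := by
      rw [IsIntegralHom.iff_universallyClosed_and_isAffineHom]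
      exact ⟨⟨fun X' Y' i₁ i₂ f' hf => (hC i₁ i₂ f' hf).isClosedMap⟩, inferInstance⟩
    have hh : (algebraMap A C).IsIntegral := IsIntegralHom.SpecMap_iff.1 ‹IsIntegralHom (Spec.map (CommRingCat.ofHom (algebraMap A C)))›
    exact algebraMap_isIntegral_iff.1 hh
  have hCle : C ≤ j.range := fun c hc => hint c ((hCi.isIntegral ⟨c, hc⟩).map C.val)
  have hback : (C.comap j).map j = C := le_antisymm (Subalgebra.map_le.mpr le_rfl)
    fun c hc => by obtain ⟨b, rfl⟩ := hCle hc; exact ⟨b, hc, rfl⟩
  refine le_antisymm ?_ (hmax _ (transfer (Subalgebra.equivMapOfInjective _ j hj) hEu))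
  rw [← hback]
  refine Subalgebra.map_mono (hEm _ (transfer ?_ hC))
  exact (Subalgebra.equivOfEq _ _ hback).symm.trans (Subalgebra.equivMapOfInjective (C.comap j) j hj).symm

open scoped TensorProduct in
/-- Base change of the nilpotent-difference equalizer, for an integral extension. -/
theorem mem_eqRed_tensor_iff {A B A' : Type u} [CommRing A] [CommRing B] [CommRing A'] [Algebra A B]
    [Algebra A A'] [Module.Flat A A'] (hA' : (∃ M : Submonoid A, IsLocalization M A') ∨ Algebra.Etale A A')
    (x : A' ⊗[A] B) :
    x ∈ Groth.Agent.WeakNorm.eqRed A' (A' ⊗[A] B) ↔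
      x ∈ Set.range (Algebra.TensorProduct.map (AlgHom.id A A') (Groth.Agent.WeakNorm.eqRed A B).val) := by
  classical
  let C := Groth.Agent.WeakNorm.eqRed A B
  let C' := Groth.Agent.WeakNorm.eqRed A' (A' ⊗[A] B)
  have hE := Groth.Agent.WeakNorm.mem_eqRed A B
  have hE' := Groth.Agent.WeakNorm.mem_eqRed A' (A' ⊗[A] B)
  let Q := TensorProduct A B B ⧸ nilradical (TensorProduct A B B)
  let l : B →ₐ[A] Q := (Ideal.Quotient.mkₐ A _).comp Algebra.TensorProduct.includeLeft
  let r : B →ₐ[A] Q := (Ideal.Quotient.mkₐ A _).comp Algebra.TensorProduct.includeRight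
  let φ : B →ₗ[A] Q := l.toLinearMap - r.toLinearMap
  have hφ : ∀ b, φ b = 0 ↔ b ∈ C := fun b => by
    rw [hE, LinearMap.sub_apply, sub_eq_zero]
    exact (Ideal.Quotient.mk_eq_mk_iff_sub_mem _ _).trans mem_nilradical
  have hexact : Function.Exact (C.val.toLinearMap.lTensor A') (φ.lTensor A') :=
    Module.Flat.lTensor_exact A' fun b => ⟨fun h => ⟨⟨b, (hφ b).1 h⟩, rfl⟩, by rintro ⟨c, rfl⟩; exact (hφ _).2 c.2⟩
  haveI : IsReduced (TensorProduct A A' Q) := by
    haveI : IsReduced Q := (Ideal.isRadical_iff_quotient_reduced _).mp (Ideal.radical_isRadical _)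
    haveI : IsReduced (TensorProduct A Q A') := by
      rcases hA' with ⟨M, hM⟩ | hE
      · letI : Algebra A' (TensorProduct A Q A') := Algebra.TensorProduct.rightAlgebra
        haveI : IsScalarTower A A' (TensorProduct A Q A') := IsScalarTower.of_algebraMap_eq fun a =>
          ((Algebra.TensorProduct.includeRight : A' →ₐ[A] TensorProduct A Q A').commutes a).symm
        haveI : IsLocalization (Algebra.algebraMapSubmonoid Q M) (TensorProduct A Q A') :=
          (Algebra.isLocalization_iff_isPushout (R := A) M A').mpr inferInstance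
        exact isReduced_localizationPreserves (Algebra.algebraMapSubmonoid Q M) (TensorProduct A Q A') inferInstance
      · exact Groth.Agent.SmoothRed.isReduced_of_smooth Q (TensorProduct A Q A')
    exact isReduced_of_injective (Algebra.TensorProduct.comm A A' Q).toAlgHom.toRingHom
      (Algebra.TensorProduct.comm A A' Q).injective
  let L : TensorProduct A A' B →ₐ[A'] TensorProduct A A' Q := Algebra.TensorProduct.map (AlgHom.id A' A') l
  let R : TensorProduct A A' B →ₐ[A'] TensorProduct A A' Q := Algebra.TensorProduct.map (AlgHom.id A' A') r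
  have key : ∀ y, φ.lTensor A' y = L y - R y := by
    intro y
    induction y using TensorProduct.induction_on with
    | zero => simp
    | tmul a b => simp [L, R, φ, TensorProduct.tmul_sub]
    | add p q hp hq => rw [map_add, hp, hq, map_add, map_add]; abel
  constructor
  · intro hx
    have h0 := (((hE' x).1 hx).map (Algebra.TensorProduct.lift L R (fun a b => mul_comm (L a) (R b)))).eq_zero
    rw [map_sub, Algebra.TensorProduct.lift_tmul, Algebra.TensorProduct.lift_tmul, map_one, map_one,
      mul_one, one_mul, ← key] at h0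
    obtain ⟨z, hz⟩ := (hexact x).1 h0
    refine ⟨z, ?_⟩
    rw [← hz]
    clear hz
    induction z using TensorProduct.induction_on with
    | zero => simp
    | tmul a b => simp
    | add p q hp hq => simp only [map_add, hp, hq]
  · rintro ⟨z, rfl⟩
    induction z using TensorProduct.induction_on with
    | zero => simp [hE']
    | tmul a c =>
      let J : TensorProduct A B B →ₐ[A] TensorProduct A' (TensorProduct A A' B) (TensorProduct A A' B) :=
        Algebra.TensorProduct.lift
          ((Algebra.TensorProduct.includeLeft (S := A)).comp Algebra.TensorProduct.includeRight)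
          (((Algebra.TensorProduct.includeRight : TensorProduct A A' B →ₐ[A'] _).restrictScalars A).comp
            Algebra.TensorProduct.includeRight)
          (fun _ _ => Commute.all _ _)
      have h1 : IsNilpotent (((1 : A') ⊗ₜ[A] (c : B)) ⊗ₜ[A'] (1 : TensorProduct A A' B) -
          (1 : TensorProduct A A' B) ⊗ₜ[A'] ((1 : A') ⊗ₜ[A] (c : B))) := by
        have := ((hE (c : B)).1 c.2).map J
        simpa [J, ← Algebra.TensorProduct.one_def] using this
      have h2 : ((1 : A') ⊗ₜ[A] (c : B)) ∈ C' := (hE' _).2 h1
      have h3 := C'.smul_mem h2 a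
      simpa [TensorProduct.smul_tmul'] using h3
    | add p q hp hq => rw [map_add]; exact C'.add_mem hp hq


/-- Let A ⊆ B be a ring extension and A ⟶ A' a ring map that is a localization or étale; put B' = A' ⊗_A
B. Let C ⊆ B be the weak subintegral closure of A in B and C' ⊆ B' that of A' in B' (each the
largest subalgebra whose spectrum maps to the base by a universal homeomorphism, characterised here
by that maximality). Then C' is the image of A' ⊗_A C ⟶ A' ⊗_A B: the weak subintegral closure
commutes with such base changes. -/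
theorem result {A B A' : Type u} [CommRing A] [CommRing B]
    [CommRing A'] [Algebra A B] [Algebra A A'] (hinj : Function.Injective (algebraMap A B))
    (hA' : (∃ M : Submonoid A, IsLocalization M A') ∨ Algebra.Etale A A')
    (C : Subalgebra A B) (hC : FlatMor.IsUnivHomeo (Spec.map (CommRingCat.ofHom (algebraMap A C))))
    (hmax : ∀ D : Subalgebra A B, FlatMor.IsUnivHomeo (Spec.map (CommRingCat.ofHom (algebraMap A D))) → D ≤ C)
    (C' : Subalgebra A' (TensorProduct A A' B)) (hC' : FlatMor.IsUnivHomeo (Spec.map (CommRingCat.ofHom (algebraMap A' C'))))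
    (hmax' : ∀ D : Subalgebra A' (TensorProduct A A' B), FlatMor.IsUnivHomeo (Spec.map (CommRingCat.ofHom (algebraMap A' D))) → D ≤ C') :
    (C' : Set (TensorProduct A A' B)) =
      Set.range (Algebra.TensorProduct.map (AlgHom.id A A') C.val) := by
  haveI : Module.Flat A A' := by
    rcases hA' with ⟨M, hM⟩ | hE
    · exact IsLocalization.flat A' M
    · infer_instance
  let B₀ := integralClosure A B
  have hinj₀ : Function.Injective (algebraMap A B₀) := fun x y h => hinj (congrArg Subtype.val h)
  have hC₀ := eq_map_of_isIntegralClosure hinj₀ B₀.val Subtype.val_injective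
    (fun b hb => ⟨⟨b, hb⟩, rfl⟩) C hC hmax
  let j : TensorProduct A A' B₀ →ₐ[A'] TensorProduct A A' B :=
    Algebra.TensorProduct.map (AlgHom.id A' A') B₀.val
  have hbij : Function.Bijective (TensorProduct.toIntegralClosure A A' B) := by
    rcases hA' with ⟨M, hM⟩ | hE
    · exact TensorProduct.toIntegralClosure_bijective_of_isLocalization M
    · exact TensorProduct.toIntegralClosure_bijective_of_smooth
  have hinjI : Function.Injective (algebraMap A' (TensorProduct A A' B₀)) := by
    have h := (Module.Flat.lTensor_preserves_injective_linearMap (M := A') (Algebra.linearMap A B₀) hinj₀).comp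
      (TensorProduct.rid A A').symm.injective
    intro x y hxy
    refine h ?_
    simpa [Algebra.TensorProduct.algebraMap_apply] using hxy
  have hC₁ := eq_map_of_isIntegralClosure hinjI j
    (Module.Flat.lTensor_preserves_injective_linearMap (M := A') B₀.val.toLinearMap Subtype.val_injective)
    (fun b hb => by
      obtain ⟨y, hy⟩ := hbij.2 ⟨b, hb⟩
      exact ⟨y, congrArg Subtype.val hy⟩) C' hC' hmax'
  have hval : ∀ z, j (Algebra.TensorProduct.map (AlgHom.id A A') (Groth.Agent.WeakNorm.eqRed A B₀).val z) =
      Algebra.TensorProduct.map (AlgHom.id A A') (B₀.val.comp (Groth.Agent.WeakNorm.eqRed A B₀).val) z := by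
    intro z
    induction z using TensorProduct.induction_on with
    | zero => simp
    | tmul a b => simp [j]
    | add p q hp hq => simp only [map_add, hp, hq]
  let e := Subalgebra.equivMapOfInjective (Groth.Agent.WeakNorm.eqRed A B₀) B₀.val Subtype.val_injective
  subst hC₀
  have hcomp : ∀ z, Algebra.TensorProduct.map (AlgHom.id A A') (B₀.val.comp (Groth.Agent.WeakNorm.eqRed A B₀).val) z =
      Algebra.TensorProduct.map (AlgHom.id A A') ((Groth.Agent.WeakNorm.eqRed A B₀).map B₀.val).val
        (Algebra.TensorProduct.map (AlgHom.id A A') e.toAlgHom z) := by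
    intro z
    induction z using TensorProduct.induction_on with
    | zero => simp
    | tmul a b => simp [e]
    | add p q hp hq => simp only [map_add, hp, hq]
  ext y
  constructor
  · intro hy
    obtain ⟨x, hx, rfl⟩ := (hC₁ ▸ hy :)
    obtain ⟨z, rfl⟩ := (mem_eqRed_tensor_iff hA' x).1 hx
    exact ⟨_, (hcomp z).symm.trans (hval z).symm⟩
  · rintro ⟨w, rfl⟩
    obtain ⟨z, rfl⟩ : ∃ z, Algebra.TensorProduct.map (AlgHom.id A A') e.toAlgHom z = w :=
      TensorProduct.map_surjective Function.surjective_id e.surjective w
    rw [hC₁, SetLike.mem_coe]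
    exact ⟨_, (mem_eqRed_tensor_iff hA' _).2 ⟨z, rfl⟩, (hval z).trans (hcomp z)⟩

end Groth.Agent.S14796
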