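import Groth.Statements.S14797
import Groth.Agent.SubDescent.Basic
import Groth.Agent.FpqcDescent.Sep
import Mathlib.AlgebraicGeometry.ZariskisMainTheorem
import Mathlib

set_option autoImplicit false
universe u
open CategoryTheory CategoryTheory.Limits AlgebraicGeometry
open Subtr

namespace Groth.Agent.S14797

/-- Let g : S' ⟶ S be a quasi-compact universally submersive morphism of schemes and f : X ⟶ S an étale
morphism whose base change X ×_S S' ⟶ S' is finite. Then f is finite. (The published statement
treats the properties universally closed, separated and quasi-compact one at a time as well; this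
row is the finite case. It assumes g universally subtrusive, using it only through universal
submersiveness and, for quasi-compactness, through the constructible topology; for quasi-compact g
universal submersiveness suffices by the same proof.) -/
theorem result {X S S' : Scheme.{u}} (g : S' ⟶ S)
    [QuasiCompact g] (hg : SGA1.UnivSubmersive g) (f : X ⟶ S) [Etale f]
    [IsFinite (pullback.snd f g)] : IsFinite f := by
  have H : IsPullback (pullback.fst f g) (pullback.snd f g) f g := .of_hasPullback f g
  have hgs : Function.Surjective g :=
    (hg (𝟙 S') (𝟙 S) g (IsPullback.of_vert_isIso ⟨by simp⟩)).surjective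
  haveI : UniversallyClosed f := SubDescent.universallyClosed_of_isPullback H hg
  haveI : IsSeparated f := SubDescent.isSeparated_of_isPullback H hg
  haveI : QuasiCompact f := ⟨fun U hU hUc => by
    have h1 : IsCompact (pullback.snd f g ⁻¹' (g ⁻¹' U)) :=
      (pullback.snd f g).isCompact_preimage (U := ⟨_, hU.preimage g.continuous⟩)
        (g.isCompact_preimage (U := ⟨U, hU⟩) hUc)
    have h2 : f ⁻¹' U = pullback.fst f g '' (pullback.snd f g ⁻¹' (g ⁻¹' U)) := by
      ext x
      constructor
      · intro hx
        obtain ⟨y, hy⟩ := hgs (f x)
        obtain ⟨z, hz1, hz2⟩ := Scheme.exists_preimage_of_isPullback H x y hy.symm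
        refine ⟨z, ?_, hz1⟩
        show g (pullback.snd f g z) ∈ U
        rw [hz2, hy]
        exact hx
      · rintro ⟨z, hz, rfl⟩
        show f (pullback.fst f g z) ∈ U
        rw [← Scheme.Hom.comp_apply, pullback.condition, Scheme.Hom.comp_apply]
        exact hz
    rw [h2]
    exact h1.image (pullback.fst f g).continuous⟩
  haveI : IsProper f := ⟨⟩
  haveI := Groth.Agent.FpqcDescent.locallyQuasiFinite_of_etale f
  exact IsFinite.of_isProper_of_locallyQuasiFinite f


end Groth.Agent.S14797
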