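import Groth.Statements.S1480
import Groth.Agent.QFStratum.Alg

set_option autoImplicit false
universe u
open FlatMor

namespace Groth.Agent.S1480

open AlgebraicGeometry CategoryTheory Limits Opposite in
theorem exists_affine_ne_zero {X S : Scheme.{u}} (f : X ⟶ S) (g : Γ(X, ⊤)) (hg : g ≠ 0) :
    ∃ (U : S.Opens) (_ : IsAffineOpen U) (V : X.Opens) (_ : IsAffineOpen V) (_ : V ≤ f ⁻¹ᵁ U),
      X.presheaf.map (homOfLE le_top).op g ≠ (0 : Γ(X, V)) := by
  by_contra hc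
  push Not at hc
  apply hg
  have H : ∀ x : X, ∃ W : X.Opens, x ∈ W ∧ X.presheaf.map (homOfLE le_top).op g = (0 : Γ(X, W)) := by
    intro x
    obtain ⟨U, hU, hxU, -⟩ :=
      exists_isAffineOpen_mem_and_subset (x := f x) (U := (⊤ : S.Opens)) trivial
    obtain ⟨V, hV, hxV, hVU⟩ := exists_isAffineOpen_mem_and_subset (x := x) (U := f ⁻¹ᵁ U) hxU
    exact ⟨V, hxV, hc U hU V hV hVU⟩
  choose W hxW hW using H
  apply TopCat.Sheaf.eq_of_locally_eq' X.sheaf W ⊤ (fun x => homOfLE le_top)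
    (fun x _ => TopologicalSpace.Opens.mem_iSup.mpr ⟨x, hxW x⟩)
  intro x
  exact (hW x).trans (map_zero (X.presheaf.map (homOfLE (le_top : W x ≤ ⊤)).op).hom).symm

open AlgebraicGeometry CategoryTheory Limits Opposite in
theorem tower_eq {X S : Scheme.{u}} (f : X ⟶ S) {U U' : S.Opens} {V V' : X.Opens}
    (e : V ≤ f ⁻¹ᵁ U) (e' : V' ≤ f ⁻¹ᵁ U') (i : U' ⟶ U) (j : V' ⟶ V) :
    (X.presheaf.map j.op).hom.comp (f.appLE U V e).hom =
      (f.appLE U' V' e').hom.comp (S.presheaf.map i.op).hom := by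
  rw [← CommRingCat.hom_comp, ← CommRingCat.hom_comp, Scheme.Hom.appLE_map, Scheme.Hom.map_appLE]

theorem ne_zero_of_away {A B B' : Type u} [CommRing A] [CommRing B] [CommRing B'] [Algebra A B]
    [Algebra B B'] (a : A) (g : B) [IsLocalization.Away (algebraMap A B a) B']
    (h : ∀ n : ℕ, algebraMap A B (a ^ n) * g ≠ 0) : algebraMap B B' g ≠ 0 := by
  intro hz
  obtain ⟨⟨_, n, rfl⟩, hn⟩ :=
    (IsLocalization.map_eq_zero_iff (Submonoid.powers (algebraMap A B a)) B' g).mp hz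
  exact h n (by rw [map_pow]; exact hn)

theorem kill_map {A A' B : Type u} [CommRing A] [CommRing A'] [CommRing B] [Algebra A A'] [Algebra A B]
    [Algebra A' B] [IsScalarTower A A' B] (K : Ideal A) (g : B) (h : ∀ x ∈ K, algebraMap A B x * g = 0) :
    ∀ x ∈ K.map (algebraMap A A'), algebraMap A' B x * g = 0 := by
  intro x hx
  suffices hle : K.map (algebraMap A A') ≤ LinearMap.ker ((LinearMap.mulRight A' g).comp
      (Algebra.linearMap A' B)) from hle hx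
  rw [Ideal.map_le_iff_le_comap]
  intro a ha
  show algebraMap A' B (algebraMap A A' a) * g = 0
  rw [← IsScalarTower.algebraMap_apply]
  exact h a ha

open AlgebraicGeometry CategoryTheory Limits in
/-- Let f : X → S be flat, locally of finite presentation and locally quasi-finite, and g a nonzero
global function on X. Then there are affine opens V of X and U of S with f(V) ⊆ U and g nonzero on
V, an ideal F of O_S(U), a positive integer r and an injective O_S(U)-linear map from F^r to O_X(V)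
whose image contains the restriction of g to V. -/
theorem result {X S : Scheme.{u}} (f : X ⟶ S) [Flat f] [LocallyOfFinitePresentation f] [LocallyQuasiFinite f]
    (g : Γ(X, ⊤)) (hg : g ≠ 0) :
    ∃ (U : S.Opens) (hU : IsAffineOpen U) (V : X.Opens) (hV : IsAffineOpen V) (hVU : V ≤ f ⁻¹ᵁ U),
      X.presheaf.map (homOfLE le_top).op g ≠ (0 : Γ(X, V)) ∧
      ∃ (F : Ideal Γ(S, U)) (r : ℕ), 0 < r ∧
        letI := (f.appLE U V hVU).hom.toAlgebra
        ∃ φ : (Fin r → ↥F) →ₗ[Γ(S, U)] Γ(X, V), Function.Injective φ ∧ X.presheaf.map (homOfLE le_top).op g ∈ LinearMap.range φ := by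
  classical
  obtain ⟨U, hU, V, hV, e, hgV⟩ := exists_affine_ne_zero f g hg
  let g₀ : Γ(X, V) := X.presheaf.map (homOfLE le_top).op g
  letI := (f.appLE U V e).hom.toAlgebra
  haveI : Algebra.FinitePresentation Γ(S, U) Γ(X, V) := f.finitePresentation_appLE hU hV e
  haveI : Module.Flat Γ(S, U) Γ(X, V) := f.flat_appLE hU hV e
  haveI : Algebra.QuasiFinite Γ(S, U) Γ(X, V) := LocallyQuasiFinite.quasiFinite_appLE hU hV e
  obtain ⟨a, K, hK, hKill, hne, hfin⟩ := Groth.Agent.QFStratum.exists_stratum (A := Γ(S, U)) (g := g₀) hgV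
  -- first localisation
  let U₁ := S.basicOpen a
  let V₁ := X.basicOpen (f.appLE U V e a)
  have hU₁ : IsAffineOpen U₁ := hU.basicOpen a
  have hV₁ : IsAffineOpen V₁ := hV.basicOpen _
  have e₁ : V₁ ≤ f ⁻¹ᵁ U₁ := by simp [U₁, V₁, Scheme.Hom.appLE]
  letI : Algebra Γ(S, U) Γ(S, U₁) := (S.presheaf.map (homOfLE (S.basicOpen_le a)).op).hom.toAlgebra
  letI : Algebra Γ(X, V) Γ(X, V₁) := (X.presheaf.map (homOfLE (X.basicOpen_le _)).op).hom.toAlgebra
  letI := (f.appLE U₁ V₁ e₁).hom.toAlgebra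
  letI : Algebra Γ(S, U) Γ(X, V₁) := ((algebraMap Γ(X, V) Γ(X, V₁)).comp (algebraMap Γ(S, U) Γ(X, V))).toAlgebra
  haveI : IsScalarTower Γ(S, U) Γ(X, V) Γ(X, V₁) := IsScalarTower.of_algebraMap_eq' rfl
  haveI : IsScalarTower Γ(S, U) Γ(S, U₁) Γ(X, V₁) := IsScalarTower.of_algebraMap_eq' (tower_eq f e e₁ _ _)
  haveI : IsLocalization.Away a Γ(S, U₁) := hU.isLocalization_basicOpen a
  haveI hloc₁ : IsLocalization.Away (algebraMap Γ(S, U) Γ(X, V) a) Γ(X, V₁) := hV.isLocalization_basicOpen _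
  haveI : Algebra.FinitePresentation Γ(S, U₁) Γ(X, V₁) := f.finitePresentation_appLE hU₁ hV₁ e₁
  haveI : Module.Flat Γ(S, U₁) Γ(X, V₁) := f.flat_appLE hU₁ hV₁ e₁
  haveI := hfin Γ(S, U₁) Γ(X, V₁)
  let g₁ : Γ(X, V₁) := algebraMap Γ(X, V) Γ(X, V₁) g₀
  have hg₁ : g₁ ≠ 0 := ne_zero_of_away _ _ hne
  let K₁ := K.map (algebraMap Γ(S, U) Γ(S, U₁))
  have hKill₁ : ∀ x ∈ K₁, algebraMap Γ(S, U₁) Γ(X, V₁) x * g₁ = 0 := by
    refine kill_map K g₁ fun x hx => ?_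
    have h := congrArg (algebraMap Γ(X, V) Γ(X, V₁)) (hKill x hx)
    rw [map_mul, map_zero, ← IsScalarTower.algebraMap_apply, map_mul, mul_assoc] at h
    refine (IsUnit.mul_right_eq_zero ?_).mp h
    rw [IsScalarTower.algebraMap_apply Γ(S, U) Γ(X, V)]
    exact IsLocalization.Away.algebraMap_isUnit _
  obtain ⟨t, hne₁, hfree⟩ := Groth.Agent.QFStratum.exists_free (hK.map _) hg₁ hKill₁
  -- second localisation
  let U₂ := S.basicOpen t
  let V₂ := X.basicOpen (f.appLE U₁ V₁ e₁ t)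
  have hU₂ : IsAffineOpen U₂ := hU₁.basicOpen t
  have hV₂ : IsAffineOpen V₂ := hV₁.basicOpen _
  have e₂ : V₂ ≤ f ⁻¹ᵁ U₂ := by simp [U₂, V₂, Scheme.Hom.appLE]
  letI : Algebra Γ(S, U₁) Γ(S, U₂) := (S.presheaf.map (homOfLE (S.basicOpen_le t)).op).hom.toAlgebra
  letI : Algebra Γ(X, V₁) Γ(X, V₂) := (X.presheaf.map (homOfLE (X.basicOpen_le _)).op).hom.toAlgebra
  letI := (f.appLE U₂ V₂ e₂).hom.toAlgebra
  letI : Algebra Γ(S, U₁) Γ(X, V₂) := ((algebraMap Γ(X, V₁) Γ(X, V₂)).comp (algebraMap Γ(S, U₁) Γ(X, V₁))).toAlgebra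
  haveI : IsScalarTower Γ(S, U₁) Γ(X, V₁) Γ(X, V₂) := IsScalarTower.of_algebraMap_eq' rfl
  haveI : IsScalarTower Γ(S, U₁) Γ(S, U₂) Γ(X, V₂) := IsScalarTower.of_algebraMap_eq' (tower_eq f e₁ e₂ _ _)
  haveI : IsLocalization.Away t Γ(S, U₂) := hU₁.isLocalization_basicOpen t
  haveI hloc₂ : IsLocalization.Away (algebraMap Γ(S, U₁) Γ(X, V₁) t) Γ(X, V₂) := hV₁.isLocalization_basicOpen _
  haveI : Module.Flat Γ(S, U₂) Γ(X, V₂) := f.flat_appLE hU₂ hV₂ e₂
  haveI := (hfree Γ(S, U₂) Γ(X, V₂)).1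
  haveI := (hfree Γ(S, U₂) Γ(X, V₂)).2
  let g₂ : Γ(X, V₂) := algebraMap Γ(X, V₁) Γ(X, V₂) g₁
  have hg₂ : g₂ ≠ 0 := ne_zero_of_away _ _ hne₁
  have hKill₂ : ∀ x ∈ K₁.map (algebraMap Γ(S, U₁) Γ(S, U₂)), algebraMap Γ(S, U₂) Γ(X, V₂) x * g₂ = 0 := by
    refine kill_map K₁ g₂ fun x hx => ?_
    rw [IsScalarTower.algebraMap_apply Γ(S, U₁) Γ(X, V₁) Γ(X, V₂), ← map_mul, hKill₁ x hx, map_zero]
  obtain ⟨F, r, hr, φ, hφ, hgφ⟩ := Groth.Agent.QFStratum.exists_injective_map ((hK.map _).map _) hg₂ hKill₂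
  have hgeq : g₂ = X.presheaf.map (homOfLE (le_top : V₂ ≤ ⊤)).op g := by
    simp only [g₂, g₁, g₀, RingHom.algebraMap_toAlgebra, ← CommRingCat.comp_apply, ← Functor.map_comp]
    rfl
  exact ⟨U₂, hU₂, V₂, hV₂, e₂, hgeq ▸ hg₂, F, r, hr, φ, hφ, hgeq ▸ hgφ⟩

end Groth.Agent.S1480
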