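import Groth.Statements.S14805
import Groth.Agent.CompLatLib.Index

set_option autoImplicit false
open Finset
open CompLat

namespace Groth.Agent.S14805

open Groth.Agent.CompLatLib in
/-- The identity with `DA` as the composite linear map. -/
theorem aux (n : ℕ) (hn : 0 < n) (δ : Fin n → ℤ) (hδ : ∀ i, δ i ≠ 0)
    (A : (Fin n → ℤ) →ₗ[ℤ] (Fin n → ℤ)) (hA : sumL n ∘ₗ diagL δ ∘ₗ A = 0) :
    ((LinearMap.range A).toAddSubgroup.relIndex
        (LinearMap.ker (sumL n ∘ₗ diagL δ)).toAddSubgroup : ℤ) * |∏ i, δ i| =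
      Finset.univ.gcd δ * ((LinearMap.range (diagL δ ∘ₗ A)).toAddSubgroup.relIndex
        (LinearMap.ker (sumL n)).toAddSubgroup : ℤ) := by
  have hN : (LinearMap.range A).toAddSubgroup ≤ (LinearMap.ker (sumL n ∘ₗ diagL δ)).toAddSubgroup := by
    rintro _ ⟨y, rfl⟩
    exact LinearMap.congr_fun hA y
  have h := relIndex_map_diag_mul hn hδ _ hN
  have hmap : (LinearMap.range A).toAddSubgroup.map (diagL δ).toAddMonoidHom =
      (LinearMap.range (diagL δ ∘ₗ A)).toAddSubgroup := by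
    ext x
    exact ⟨fun ⟨_, ⟨y, hy⟩, hx⟩ => ⟨y, by rw [← hx, ← hy]; rfl⟩,
      fun ⟨y, hy⟩ => ⟨A y, ⟨y, rfl⟩, hy⟩⟩
  rw [hmap] at h
  rw [Finset.abs_prod, ← Int.natAbs_of_nonneg (Int.nonneg_of_normalize_eq_self
    (Finset.normalize_gcd (s := Finset.univ) (f := δ)))]
  simp_rw [Int.abs_eq_natAbs]
  exact_mod_cast h

/-- Let n ≥ 1 and let D, D' : ℤⁿ → ℤⁿ be given by diagonal matrices with nonzero diagonal entries (rank
n), A : ℤⁿ → ℤⁿ an integer matrix of rank n - 1, S : ℤⁿ → ℤ the sum of the coordinates and Δ : ℤ →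
ℤⁿ the diagonal embedding; assume S D A = 0 and A D' Δ = 0, and let d > 0 with dℤ = im(S D), i.e. d
is the greatest common divisor of the diagonal entries of D. Then #(ker(S D)/im A) · |det D| = d ·
#(ker S/im(D A)). -/
theorem result (n : ℕ) (hn : 0 < n) (δ δ' : Fin n → ℤ) (hδ : ∀ i, δ i ≠ 0) (hδ' : ∀ i, δ' i ≠ 0)
    (A : Matrix (Fin n) (Fin n) ℤ) (hA : A.rank = n - 1)
    (hSDA : (∑ i : Fin n, (LinearMap.proj i : (Fin n → ℤ) →ₗ[ℤ] ℤ)) ∘ₗ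
        (Matrix.mulVecLin (Matrix.diagonal δ)) ∘ₗ (Matrix.mulVecLin A) = 0)
    (hADΔ : (Matrix.mulVecLin A) ∘ₗ (Matrix.mulVecLin (Matrix.diagonal δ')) ∘ₗ
        (LinearMap.pi fun _ : Fin n => (LinearMap.id : ℤ →ₗ[ℤ] ℤ)) = 0) :
    (Nat.card (LinearMap.ker ((∑ i : Fin n, (LinearMap.proj i : (Fin n → ℤ) →ₗ[ℤ] ℤ)) ∘ₗ (Matrix.mulVecLin (Matrix.diagonal δ))) ⧸
          (LinearMap.range (Matrix.mulVecLin A)).comap (LinearMap.ker ((∑ i : Fin n, (LinearMap.proj i : (Fin n → ℤ) →ₗ[ℤ] ℤ)) ∘ₗ (Matrix.mulVecLin (Matrix.diagonal δ)))).subtype) : ℤ) * |∏ i, δ i| =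
      (univ.gcd δ) * Nat.card (LinearMap.ker (∑ i : Fin n, (LinearMap.proj i : (Fin n → ℤ) →ₗ[ℤ] ℤ)) ⧸ (LinearMap.range ((Matrix.mulVecLin (Matrix.diagonal δ)) ∘ₗ (Matrix.mulVecLin A))).comap (LinearMap.ker (∑ i : Fin n, (LinearMap.proj i : (Fin n → ℤ) →ₗ[ℤ] ℤ))).subtype) := by
  exact aux n hn δ hδ (Matrix.mulVecLin A) hSDA

end Groth.Agent.S14805
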