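import Groth.Statements.S14806
import Groth.Agent.S14805

set_option autoImplicit false
open Finset
open CompLat

namespace Groth.Agent.S14806

open Groth.Agent.CompLatLib in
/-- The twisted identity with the composites as linear maps. -/
theorem aux (n : ℕ) (hn : 0 < n) (δ δ' : Fin n → ℤ) (hδ : ∀ i, δ i ≠ 0) (hδ' : ∀ i, δ' i ≠ 0)
    (A : (Fin n → ℤ) →ₗ[ℤ] (Fin n → ℤ)) (hrk : Module.finrank ℤ (LinearMap.range A) = n - 1)
    (hA : sumL n ∘ₗ diagL δ ∘ₗ A = 0) (hA' : A δ' = 0) :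
    ((LinearMap.range A).toAddSubgroup.relIndex
        (LinearMap.ker (sumL n ∘ₗ diagL δ)).toAddSubgroup : ℤ) * |∏ i, δ i| * |∏ i, δ' i| =
      Finset.univ.gcd δ * Finset.univ.gcd δ' *
        ((LinearMap.range (diagL δ ∘ₗ A ∘ₗ diagL δ')).toAddSubgroup.relIndex
          (LinearMap.ker (sumL n)).toAddSubgroup : ℤ) := by
  have hrk' : Module.finrank ℤ (LinearMap.range (diagL δ ∘ₗ A)) = n - 1 := by
    rw [LinearMap.range_comp]
    exact (Submodule.equivMapOfInjective _ (diagL_injective hδ) _).finrank_eq.symm.trans hrk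
  have hK : (LinearMap.range (diagL δ ∘ₗ A)).toAddSubgroup ≤
      (LinearMap.ker (sumL n)).toAddSubgroup := by
    rintro _ ⟨y, rfl⟩
    exact LinearMap.congr_fun hA y
  have h := relIndex_map_comp_diag_mul hn hδ' (diagL δ ∘ₗ A) hrk'
    (by simp only [LinearMap.comp_apply, hA', map_zero]) _ hK
  rw [LinearMap.comp_assoc] at h
  rw [S14805.aux n hn δ hδ A hA, Finset.abs_prod, mul_assoc, mul_assoc]
  congr 1
  rw [← Int.natAbs_of_nonneg (Int.nonneg_of_normalize_eq_self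
    (Finset.normalize_gcd (s := Finset.univ) (f := δ')))]
  simp_rw [Int.abs_eq_natAbs]
  rw [mul_comm ((Finset.univ.gcd δ').natAbs : ℤ)]
  exact_mod_cast h.symm

/-- Let n ≥ 1, let D, D' : ℤⁿ → ℤⁿ be given by diagonal matrices with nonzero diagonal entries, A : ℤⁿ →
ℤⁿ an integer matrix of rank n - 1, S : ℤⁿ → ℤ the sum of the coordinates and Δ : ℤ → ℤⁿ the
diagonal embedding, with S D A = 0 and A D' Δ = 0; let d, d' be the greatest common divisors of the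
diagonal entries of D and of D' (dℤ = im(S D), d'ℤ = im(S D')). Then #(ker(S D)/im A) · |det D| ·
|det D'| = d d' · #(ker S/im(D A D')). -/
theorem result (n : ℕ) (hn : 0 < n) (δ δ' : Fin n → ℤ) (hδ : ∀ i, δ i ≠ 0) (hδ' : ∀ i, δ' i ≠ 0)
    (A : Matrix (Fin n) (Fin n) ℤ) (hA : A.rank = n - 1)
    (hSDA : (∑ i : Fin n, (LinearMap.proj i : (Fin n → ℤ) →ₗ[ℤ] ℤ)) ∘ₗ
        (Matrix.mulVecLin (Matrix.diagonal δ)) ∘ₗ (Matrix.mulVecLin A) = 0)
    (hADΔ : (Matrix.mulVecLin A) ∘ₗ (Matrix.mulVecLin (Matrix.diagonal δ')) ∘ₗ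
        (LinearMap.pi fun _ : Fin n => (LinearMap.id : ℤ →ₗ[ℤ] ℤ)) = 0) :
    (Nat.card (LinearMap.ker ((∑ i : Fin n, (LinearMap.proj i : (Fin n → ℤ) →ₗ[ℤ] ℤ)) ∘ₗ (Matrix.mulVecLin (Matrix.diagonal δ))) ⧸
          (LinearMap.range (Matrix.mulVecLin A)).comap (LinearMap.ker ((∑ i : Fin n, (LinearMap.proj i : (Fin n → ℤ) →ₗ[ℤ] ℤ)) ∘ₗ (Matrix.mulVecLin (Matrix.diagonal δ)))).subtype) : ℤ) * |∏ i, δ i| * |∏ i, δ' i| =
      (univ.gcd δ) * (univ.gcd δ') * Nat.card (LinearMap.ker (∑ i : Fin n, (LinearMap.proj i : (Fin n → ℤ) →ₗ[ℤ] ℤ)) ⧸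
          (LinearMap.range ((Matrix.mulVecLin (Matrix.diagonal δ)) ∘ₗ (Matrix.mulVecLin A) ∘ₗ (Matrix.mulVecLin (Matrix.diagonal δ')))).comap (LinearMap.ker (∑ i : Fin n, (LinearMap.proj i : (Fin n → ℤ) →ₗ[ℤ] ℤ))).subtype) := by
  refine aux n hn δ δ' hδ hδ' (Matrix.mulVecLin A) hA hSDA ?_
  have h := LinearMap.congr_fun hADΔ (1 : ℤ)
  have hd : Matrix.mulVecLin (Matrix.diagonal δ')
      ((LinearMap.pi fun _ : Fin n => (LinearMap.id : ℤ →ₗ[ℤ] ℤ)) 1) = δ' := by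
    funext i
    rw [Groth.Agent.CompLatLib.diagL_apply]
    simp
  simpa only [LinearMap.comp_apply, hd, LinearMap.zero_apply] using h

end Groth.Agent.S14806
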