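import Groth.Statements.S14813
import Groth.Agent.EulerMult.Cover
import Groth.Agent.Intersect.Num


set_option autoImplicit false
universe u
open CategoryTheory CategoryTheory.Limits AlgebraicGeometry
open FGA

namespace Groth.Agent.S14813

/-- Let k be an arbitrary field and let X and X' be smooth, integral, proper k-schemes, X of dimension
n, with an étale k-morphism φ : X' → X (it is then finite étale); suppose φ is finite locally free
of constant degree d. Then χ(O_{X'}) = d · χ(O_X), where χ denotes the alternating sum of dim_k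
H^i(·, O) over 0 ≤ i ≤ n (X' has dimension n as well). -/
theorem result (k : Type u) [Field k] (X X' : Scheme.{u})
    [X.Over (Spec (CommRingCat.of k))] [X'.Over (Spec (CommRingCat.of k))]
    [IsProper (X ↘ Spec (CommRingCat.of k))] [IsProper (X' ↘ Spec (CommRingCat.of k))] [Smooth (X ↘ Spec (CommRingCat.of k))] [Smooth (X' ↘ Spec (CommRingCat.of k))]
    [IsIntegral X] [IsIntegral X'] (φ : X' ⟶ X) [Etale φ] (hφ : φ ≫ (X ↘ Spec (CommRingCat.of k)) = X' ↘ Spec (CommRingCat.of k))
    (d : ℕ) (hd : Mor2.IsFinLocFreeOfDeg d φ) (n : ℕ) (hn : topologicalKrullDim X = n) :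
    FGA.eulerCharLE k X' (Coh.structureModule X') n = d * FGA.eulerCharLE k X (Coh.structureModule X) n := by
  haveI : IsFinite φ := hd.1.1
  haveI : Nonempty X := inferInstance
  have h1 : FGA.eulerCharLE k X' (Coh.structureModule X') n =
      FGA.eulerCharLE k X ((Scheme.Modules.pushforward φ).obj (Coh.structureModule X')) n := by
    refine Finset.sum_congr rfl fun q _ => ?_
    haveI : (Coh.structureModule X').IsQuasicoherent := Groth.Agent.QC.isQCoh_unit X'
    obtain ⟨e⟩ := Groth.Agent.CohFinite.hh_push_linear k φ hφ (Coh.structureModule X')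
      (Groth.Agent.CohQC.directAcyclic_of_isAffineHom φ _) q
    rw [e.finrank_eq]
  haveI := Groth.Agent.CurveRR.isNoetherian_of_proper k X
  have h2 := Groth.Agent.EulerMult.euler_pullback_of_etale φ hφ hd.2 (Coh.structureModule X)
    Groth.Agent.RefStalk.isCoh_structureModule
  rw [h1, Groth.Agent.Intersect.eulerCharLE_eq k n hn.le, Groth.Agent.Intersect.eulerCharLE_eq k n hn.le,
    Groth.Agent.EulerMult.euler_push_affine φ hφ _ (Groth.Agent.QC.isQCoh_unit X')]
  exact (Groth.Agent.CurveRR.euler_eq_of_iso (Groth.Agent.DerPerf.pullUnitIso φ)).symm.trans h2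

end Groth.Agent.S14813
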