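import Groth.Statements.S14814
import Groth.Agent.PicH1.Family
import Groth.Agent.PicProp.Main
import Groth.Agent.PicNS.Basic
import Groth.Agent.S14811
import Groth.Agent.W7FlatBC.Main
-- import your own Groth.Agent.* helpers here

set_option autoImplicit false
set_option backward.isDefEq.respectTransparency false
set_option backward.isDefEq.respectTransparency.types false
universe u
open CategoryTheory CategoryTheory.Limits AlgebraicGeometry
open Pic13

namespace Groth.Agent.S14814

/-- Take any field k and a proper k-scheme X with H^1(X, O_X) = 0. Then the group of numerically trivial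
invertible sheaves is torsion: every invertible O_X-module L whose restriction to each closed
subscheme of X which is integral of dimension one has degree 0 satisfies L^{⊗d} ≅ O_X for some d ≥
1. -/
theorem result (k : Type u) [Field k] (X : Scheme.{u})
    [X.Over (Spec (CommRingCat.of k))] [IsProper (X ↘ Spec (CommRingCat.of k))]
    (h1 : Subsingleton (Coh.HH X (Coh.structureModule X) 1))
    (L : X.Modules) (hL : PicF.IsInvertible L) (hnum : Pic13.IsNumEquivZero k X L) :
    ∃ d : ℕ, 0 < d ∧ Nonempty (CohB1.tensorPow L d ≅ Coh.structureModule X) := by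
  letI := W7Cube.law X
  let K := AlgebraicClosure k
  let A : Over (Spec (CommRingCat.of k)) := Over.mk (X ↘ Spec (CommRingCat.of k))
  haveI : IsProper A.hom := ‹_›
  let AK := AVDeg.bcK k K A
  haveI : IsProper AK.hom := inferInstanceAs (IsProper (pullback.snd A.hom (AVDeg.specMap k K)))
  letI : AK.left.Over (Spec (CommRingCat.of K)) := ⟨AK.hom⟩
  haveI : IsProper (AK.left ↘ Spec (CommRingCat.of K)) := ‹IsProper AK.hom›
  letI := W7Cube.law AK.left
  letI := W7Cube.law A.left
  haveI : IsProper (Over.mk (AK.left ↘ Spec (CommRingCat.of K))).hom := ‹IsProper AK.hom›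
  let π : AK.left ⟶ X := pullback.fst A.hom (AVDeg.specMap k K)
  let L' : AK.left.Modules := (Scheme.Modules.pullback π).obj L
  have hL' : PicF.IsInvertible L' := PicLoc.isInvertible_pullback π hL
  have hnum' : Pic13.IsNumEquivZero K AK.left L' := (Groth.Agent.S14811.result k X L hL K).1 hnum
  obtain ⟨n, hn, hna⟩ := PicProp.isTau_of_flat1 K (X := AK.left) ⟨hL', PicBdd.degFlat_of_num K hL' hnum'⟩
  refine ⟨n, hn, ?_⟩
  have h1' : Subsingleton (Coh.HH AK.left (Coh.structureModule AK.left) 1) := by
    haveI : CompactSpace X := (quasiCompact_iff_compactSpace (X ↘ Spec (CommRingCat.of k))).1 inferInstance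
    haveI : QuasiSeparatedSpace X := (quasiSeparated_iff_quasiSeparatedSpace (X ↘ Spec (CommRingCat.of k))).1 inferInstance
    obtain ⟨e⟩ := W7FlatBC.nonempty_hh_baseChange k K (X := X) (X' := AK.left) π (IsPullback.of_hasPullback _ _)
      (Coh.structureModule X) (TMul.isQCoh_of_isInvertible TMul.isInvertible_structureModule) 1
    haveI := h1
    exact (e.trans (CohFinite.hhEquiv K (PicLoc.pullbackStructureIso π) 1)).toEquiv.symm.subsingleton
  obtain ⟨T, d, t, t₀, hT, hlft, hqc, hd, hd₀⟩ :=
    (PicRoot.algCl_iff (TMul.isInvertible_tensorPow hL' n)).2 hna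
  haveI := hT
  haveI := hlft
  have h := PicH1.fib_eq (Over.mk (AK.left ↘ Spec (CommRingCat.of K))) h1' d t t₀
  rw [hd, hd₀] at h
  refine (PicGrp.cls_eq_one_iff (TMul.isInvertible_tensorPow hL n)).1 (PicNS.pull_prj_injective K A ?_)
  rw [map_one]
  have e1 : PicGrp.cls (CohB1.tensorPow L n) (TMul.isInvertible_tensorPow hL n) = PicGrp.cls L hL ^ n :=
    (PicNS.cls_pow hL n).symm
  have e2 : PicGrp.cls L' hL' ^ n = 1 := (PicNS.cls_pow hL' n).trans h
  change W7Cube.pull π (PicGrp.cls (CohB1.tensorPow L n) (TMul.isInvertible_tensorPow hL n)) = 1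
  rw [e1, map_pow, W7Cube.pull_cls]
  exact e2

end Groth.Agent.S14814
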