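import Groth.Statements.S14816
import Groth.Agent.FiniteOrbit.Basic

set_option autoImplicit false
universe u
open CategoryTheory MonoidalCategory CartesianMonoidalCategory MonObj GrpObj AlgebraicGeometry
open AbVar

namespace Groth.Agent.S14816

/-- Let k be an algebraically closed field of characteristic p > 0 which is algebraic over its prime
field (every element x satisfies x^(p^n) = x for some n ≥ 1) and let A be an abelian variety over k
(a proper, geometrically integral group scheme over k). Then every k-rational point of A has finite
order in the group A(k) of k-points. -/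
theorem result
    (p : ℕ) [Fact (Nat.Prime p)] (k : Type u) [Field k] [IsAlgClosed k] [CharP k p]
    (halg : ∀ x : k, ∃ n : ℕ, 0 < n ∧ x ^ (p ^ n) = x)
    (A : Over (Spec (CommRingCat.of k))) [GrpObj A] [IsProper A.hom] [GeometricallyIntegral A.hom]
    (a : 𝟙_ (Over (Spec (CommRingCat.of k))) ⟶ A) : IsOfFinOrder a := by
  haveI : CompactSpace A.left := QuasiCompact.compactSpace_of_compactSpace A.hom
  let τ : A ⟶ A := 𝟙 A * (toUnit A ≫ a)
  obtain ⟨S, hS, h0, hstep⟩ := FiniteOrbit.finite_orbit (f := A.hom) p halg τ.left (Over.w τ)
    ⟨(1 : 𝟙_ (Over (Spec (CommRingCat.of k))) ⟶ A).left, Over.w (1 : 𝟙_ (Over (Spec (CommRingCat.of k))) ⟶ A)⟩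
  let P : ℕ → FiniteOrbit.Pts A.hom := fun n => ⟨(a ^ n).left, Over.w (a ^ n)⟩
  have hmem : ∀ n, P n ∈ S := by
    intro n
    induction n with
    | zero => simpa [P] using h0
    | succ n ih =>
      have e : (a ^ n) ≫ τ = a ^ (n + 1) := by
        rw [MonObj.comp_mul, Category.comp_id, ← Category.assoc, toUnit_unique ((a ^ n) ≫ toUnit A) (𝟙 _),
          Category.id_comp, pow_succ]
      have := hstep _ ih
      convert this using 1
      refine Subtype.ext ?_
      simp only [P, ← e, Over.comp_left]
  by_contra hfin
  have hinj : Function.Injective P := fun m n h =>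
    injective_pow_iff_not_isOfFinOrder.2 hfin (Over.OverMorphism.ext (congrArg Subtype.val h))
  exact Set.infinite_range_of_injective hinj (hS.subset (Set.range_subset_iff.2 hmem))

end Groth.Agent.S14816
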