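import Groth.Statements.S14818
import Groth.Agent.NormLB.Degree
import Groth.Agent.DualGeneric.TwistH1
import Groth.Agent.NormAmple.Descend

set_option autoImplicit false
universe u
open CategoryTheory CategoryTheory.Limits AlgebraicGeometry
open PicF

set_option backward.isDefEq.respectTransparency false
set_option backward.isDefEq.respectTransparency.types false

namespace Groth.Agent.S14818

/-- Let X be a connected locally Noetherian scheme, f : X' → X a finite locally free morphism of
constant degree d (a finite flat covering of X of degree d) and L an invertible O_X-module whose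
pullback f^*L is isomorphic to O_{X'}. Then L^{⊗d} ≅ O_X; in particular L has finite order in Pic(X)
dividing the degree of f. -/
theorem result (X X' : Scheme.{u})
    [IsLocallyNoetherian X] [ConnectedSpace X] (f : X' ⟶ X) (d : ℕ) (hf : Mor2.IsFinLocFreeOfDeg d f)
    (L : X.Modules) (hL : PicF.IsInvertible L)
    (htriv : Nonempty ((Scheme.Modules.pullback f).obj L ≅ Coh.structureModule X')) :
    Nonempty (CohB1.tensorPow L d ≅ Coh.structureModule X) := by
  rcases Nat.eq_zero_or_pos d with hd | hd
  · subst hd; exact ⟨Iso.refl _⟩
  obtain ⟨⟨hfin, hflat, hlfp⟩, hr⟩ := hf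
  haveI := hfin; haveI := hflat; haveI := hlfp
  obtain ⟨N₀⟩ := Groth.Agent.NormLB.hasNorm_of_deg hd hr
  let N := Groth.Agent.NormLB.ofNormOfDegree N₀
  obtain ⟨e⟩ := htriv
  have hid : CohB1.genLocus ((Scheme.Modules.pullback f).obj L) e.inv = ⊤ := by
    refine top_le_iff.mp (le_sSup ?_)
    show IsIso _
    infer_instance
  obtain ⟨T, hT⟩ := Groth.Agent.NormAmple.exists_norm_section N hL e.inv
  refine Groth.Agent.DualGeneric.nonempty_iso_of_genLocus_eq_top T (eq_top_iff.mpr fun y _ => (hT y).1 fun x' _ => ?_)
  rw [hid]
  trivial

end Groth.Agent.S14818
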