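import Groth.Statements.S14819
import Groth.Agent.W7Root.Descend

set_option autoImplicit false
universe u
open CategoryTheory CategoryTheory.Limits AlgebraicGeometry
open PicF

set_option backward.isDefEq.respectTransparency false
set_option backward.isDefEq.respectTransparency.types false

namespace Groth.Agent.S14819

/-- Let X be an integral Noetherian scheme which is normal (all local rings integrally closed domains)
and whose ring of global functions Γ(X, O_X) is a field of characteristic p > 0; let L be an
invertible O_X-module of exact order d in Pic(X), i.e. L^{⊗d} ≅ O_X with d ≥ 1 and L^{⊗i} not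
isomorphic to O_X for 0 < i < d, and suppose p divides d. Let X' be a connected scheme such that
every unit of Γ(X', O_{X'}) has a p-th root. Then no finite étale morphism f : X' → X (a finite
étale covering of X by X') satisfies f^*L ≅ O_{X'}. -/
theorem result (X X' : Scheme.{u})
    [IsIntegral X] [IsNoetherian X] (hnorm : Pi1.IsNormalScheme X)
    (hfield : IsField (Γ(X, ⊤) : Type u)) (p : ℕ) [Fact (Nat.Prime p)] [CharP (Γ(X, ⊤) : Type u) p]
    (L : X.Modules) (hL : PicF.IsInvertible L) (d : ℕ) (hd : 0 < d)
    (hord : Nonempty (CohB1.tensorPow L d ≅ Coh.structureModule X))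
    (hmin : ∀ i : ℕ, 0 < i → i < d → IsEmpty (CohB1.tensorPow L i ≅ Coh.structureModule X))
    (hpd : p ∣ d) [ConnectedSpace X']
    (hroot : ∀ u : (Γ(X', ⊤) : Type u), IsUnit u → ∃ v : (Γ(X', ⊤) : Type u), v ^ p = u)
    (f : X' ⟶ X) [IsFinite f] [Etale f] :
    IsEmpty ((Scheme.Modules.pullback f).obj L ≅ Coh.structureModule X') := by
  refine ⟨fun ψ => ?_⟩
  haveI : Nonempty X' := inferInstance
  obtain ⟨i, rfl⟩ := hpd
  have hi : 0 < i := pos_of_mul_pos_right hd (Nat.zero_le _)
  have hid : i < p * i := lt_mul_of_one_lt_left hi (Fact.out : p.Prime).one_lt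
  let M := CohB1.tensorPow L i
  have hM : PicF.IsInvertible M := TMul.isInvertible_tensorPow hL i
  obtain ⟨e⟩ := TMul.nonempty_powMulIso (L := L) i p
  obtain ⟨φ⟩ := hord
  obtain ⟨a⟩ := TMul.nonempty_pullPowIso f L i
  obtain ⟨b⟩ := TMul.nonempty_powCongr ψ i
  obtain ⟨c⟩ := W7Root.nonempty_pow_structure (X := X') i
  obtain ⟨m⟩ := W7Root.nonempty_iso_of_cover f p hnorm hM
    (e ≪≫ eqToIso (by rw [Nat.mul_comm]) ≪≫ φ) (a.symm ≪≫ b ≪≫ c) hroot
  exact (hmin i hi hid).false m

end Groth.Agent.S14819
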