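import Groth.Statements.S14822
import Groth.Agent.DomFib.Basic
import Groth.Agent.Rigid.DimDrop
import Groth.Agent.BMCoh.PtPush

set_option autoImplicit false
universe u
open CategoryTheory CategoryTheory.Limits AlgebraicGeometry
open CohIII
open Groth.Agent

namespace Groth.Agent.S14822

/-- Let k be a field and f : X → Y a surjective k-morphism between integral proper k-schemes of the same
dimension, with Y normal (all local rings integrally closed domains). Then f is a fibration (Γ(U,
O_Y) → Γ(f⁻¹U, O_X) bijective for every open U ⊆ Y) if and only if f is birational: the embedding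
K(Y) → K(X) of function fields given by the stalk map at the generic points is bijective. -/
theorem result (k : Type u) [Field k]
    (X Y : Scheme.{u}) [X.Over (Spec (CommRingCat.of k))] [Y.Over (Spec (CommRingCat.of k))]
    [IsProper (X ↘ Spec (CommRingCat.of k))] [IsProper (Y ↘ Spec (CommRingCat.of k))] [IsIntegral X] [IsIntegral Y]
    (hY : Pi1.IsNormalScheme Y) (f : X ⟶ Y) [Surjective f] (hf : f ≫ (Y ↘ Spec (CommRingCat.of k)) = X ↘ Spec (CommRingCat.of k))
    (hdim : topologicalKrullDim ↥X = topologicalKrullDim ↥Y)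
    (h : f.base (genericPoint ↥X) ⤳ genericPoint ↥Y) :
    (∀ U : Y.Opens, IsIso (f.app U)) ↔ Function.Bijective (CohIII.stalkToFunctionField f (genericPoint ↥Y) h) := by
  haveI : IsProper (f ≫ (Y ↘ Spec (CommRingCat.of k))) := by rw [hf]; infer_instance
  haveI : IsProper f := IsProper.of_comp f (Y ↘ Spec (CommRingCat.of k))
  refine ⟨fun hiso => ⟨DomFib.field_injective f h, fun z => ?_⟩,
    fun hb U => DomFib.bijective_app f h hY (fun x _ => hb.2 x) U⟩
  have hXlt : topologicalKrullDim X < ⊤ := by
    rw [Rigid.topologicalKrullDim_eq_pdim (X ↘ Spec (CommRingCat.of k))]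
    exact WithBot.coe_lt_coe.2 (ENat.coe_lt_top _)
  have hYlt : topologicalKrullDim Y < ⊤ := by
    rw [Rigid.topologicalKrullDim_eq_pdim (Y ↘ Spec (CommRingCat.of k))]
    exact WithBot.coe_lt_coe.2 (ENat.coe_lt_top _)
  have hpd : WeilCoh.pdim X (genericPoint X) = WeilCoh.pdim Y (genericPoint Y) := by
    rw [Rigid.topologicalKrullDim_eq_pdim (X ↘ Spec (CommRingCat.of k)),
      Rigid.topologicalKrullDim_eq_pdim (Y ↘ Spec (CommRingCat.of k))] at hdim
    exact_mod_cast hdim
  have hfib : ∀ x, f x = genericPoint Y → x = genericPoint X := fun x hx => by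
    by_contra hne
    have h1 := BMCoh.pdim_lt_of_specializes hXlt ((genericPoint_spec X).specializes (Set.mem_univ x)) hne
    have h2 := BMCoh.pdim_le_of_isClosedMap hXlt hYlt f f.isClosedMap x
    rw [hx] at h2
    omega
  obtain ⟨V, hηV, hfin⟩ := exists_isFinite_morphismRestrict_of_finite_preimage_singleton f (genericPoint Y)
    ((Set.finite_singleton (genericPoint X)).subset fun x hx => hfib x hx)
  obtain ⟨V', hV', hηV', hV'V⟩ := exists_isAffineOpen_mem_and_subset (X := Y) (U := V) hηV
  haveI : Nonempty V' := ⟨⟨_, hηV'⟩⟩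
  haveI := DomFib.nonempty_preimage f h V'
  have haff : IsAffineOpen (f ⁻¹ᵁ V') := by
    have hW : IsAffineOpen (V.ι ⁻¹ᵁ V') := hV'.preimage_of_isOpenImmersion V.ι (by simpa using hV'V)
    have h2 := (hW.preimage (f ∣_ V)).image_of_isOpenImmersion (f ⁻¹ᵁ V).ι
    rw [image_morphismRestrict_preimage, Scheme.Hom.image_preimage_eq_opensRange_inf, Scheme.Opens.opensRange_ι,
      show V ⊓ V' = V' from inf_eq_right.2 hV'V] at h2
    exact h2
  haveI := functionField_isFractionRing_of_isAffineOpen X (f ⁻¹ᵁ V') haff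
  obtain ⟨a, b, hb, hz⟩ := IsFractionRing.div_surjective Γ(X, f ⁻¹ᵁ V') (K := X.functionField) z
  obtain ⟨a', ha'⟩ := ((ConcreteCategory.isIso_iff_bijective (f.app V')).1 (hiso V')).2 a
  obtain ⟨b', hb'⟩ := ((ConcreteCategory.isIso_iff_bijective (f.app V')).1 (hiso V')).2 b
  refine ⟨Y.germToFunctionField V' a' / (show ↑Y.functionField from Y.germToFunctionField V' b'), ?_⟩
  rw [map_div₀, DomFib.field_germ f h, DomFib.field_germ f h, ha', hb']
  exact hz

end Groth.Agent.S14822
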