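import Groth.Statements.S14825
import Groth.Agent.CurveRR.Deg
import Groth.Agent.W7See.Trivial

set_option autoImplicit false
universe u
open CategoryTheory MonoidalCategory CartesianMonoidalCategory MonObj GrpObj AlgebraicGeometry
open AbVar

namespace Groth.Agent.S14825

/-- In the pointed case, let k be a field and X a proper k-scheme with H^0(X, O_X) one-dimensional and a
k-rational point x₀; let alb : X → A be the Albanese morphism (A an abelian variety over k — proper,
geometrically integral group scheme — with alb(x₀) = 0, universal among pointed k-morphisms from X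
to abelian varieties, the latter being geometrically reduced, connected, proper group schemes). Then
X has Albanese dimension zero, i.e. the image of alb is a single point of A (X is connected, so this
says the image is zero-dimensional), if and only if A is the trivial abelian variety, i.e. A → Spec
k is an isomorphism. (The published statement does not assume a rational point (it works with the
Albanese torsor); this row assumes one.) -/
theorem result (k : Type u) [Field k] (X : Scheme.{u}) [X.Over (Spec (CommRingCat.of k))]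
    [IsProper (X ↘ Spec (CommRingCat.of k))] (h0 : Module.finrank k (Coh.HH X (Coh.structureModule X) 0) = 1)
    (x₀ : 𝟙_ (Over (Spec (CommRingCat.of k))) ⟶ Over.mk (X ↘ Spec (CommRingCat.of k)))
    (A : Over (Spec (CommRingCat.of k))) [GrpObj A] [IsProper A.hom] [GeometricallyIntegral A.hom]
    (alb : Over.mk (X ↘ Spec (CommRingCat.of k)) ⟶ A) (halb : x₀ ≫ alb = η[A])
    (huniv : ∀ (B : Over (Spec (CommRingCat.of k))) [GrpObj B] [IsProper B.hom] [GeometricallyReduced B.hom] [ConnectedSpace ↥B.left]
      (g : Over.mk (X ↘ Spec (CommRingCat.of k)) ⟶ B), x₀ ≫ g = η[B] → ∃! h : A ⟶ B, IsMonHom h ∧ alb ≫ h = g) :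
    (Set.range alb.left.base).Subsingleton ↔ IsIso A.hom := by
  constructor
  · intro hrg
    haveI : GeometricallyReduced A.hom := inferInstance
    haveI : IsIntegral A.left := GeometricallyIntegral.isIntegral_of_subsingleton A.hom
    let Xo : Over (Spec (CommRingCat.of k)) := Over.mk (X ↘ Spec (CommRingCat.of k))
    let e : A.left := η[A].left.base (IsLocalRing.closedPoint k)
    have hcst : alb = toUnit Xo ≫ η[A] := by
      have himg : ∀ x, alb.left.base x = e := fun x => by
        refine hrg ⟨x, rfl⟩ ⟨x₀.left.base (IsLocalRing.closedPoint k), ?_⟩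
        show (x₀ ≫ alb).left.base _ = _
        rw [halb]
      obtain ⟨U', hU, heU, -⟩ := A.left.isBasis_affineOpens.exists_subset_of_mem_open
        (Set.mem_univ e) isOpen_univ
      obtain ⟨U₀, hUa, rfl⟩ := hU
      let U : A.left.Opens := U₀
      haveI : IsAffine (U : Scheme.{u}) := hUa
      have hxU : ∀ x, alb.left.base x ∈ U := fun x => (himg x).symm ▸ heU
      have hsp : ∀ x, (toUnit Xo ≫ η[A]).left.base x = e := by
        intro x
        show η[A].left.base _ = η[A].left.base _
        exact congrArg _ (Subsingleton.elim (α := PrimeSpectrum k) _ _)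
      let l₁ : X ⟶ U := IsOpenImmersion.lift U.ι alb.left (by
        rintro _ ⟨x, rfl⟩; rw [Scheme.Opens.range_ι]; exact hxU x)
      let l₂ : X ⟶ U := IsOpenImmersion.lift U.ι (toUnit Xo ≫ η[A]).left (by
        rintro _ ⟨x, rfl⟩; rw [Scheme.Opens.range_ι]; exact (hsp x).symm ▸ heU)
      have hsurj : Function.Surjective ((Scheme.ΓSpecIso (CommRingCat.of k)).inv ≫
          (X ↘ Spec (CommRingCat.of k)).appTop).hom := by
        let F := ((Scheme.ΓSpecIso (CommRingCat.of k)).inv ≫ (X ↘ Spec (CommRingCat.of k)).appTop).hom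
        letI := CurveRR.secMod k (Coh.structureModule X) ⊤
        have hr : Module.finrank k Γ(Coh.structureModule X, ⊤) = 1 := by rw [CurveRR.finrank_sec]; exact h0
        intro y
        obtain ⟨x₁, hx₁⟩ := (finrank_eq_one_iff_of_nonzero' (K := k) (V := Γ(Coh.structureModule X, ⊤)) (1 : Γ(X, ⊤)) (show (1 : Γ(X, ⊤)) ≠ 0 from by
          haveI : Nonempty X := ⟨x₀.left.base (IsLocalRing.closedPoint k)⟩
          haveI : Nonempty ↥(⊤ : X.Opens) := ⟨⟨Classical.arbitrary X, trivial⟩⟩
          exact one_ne_zero)).1 hr y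
        refine ⟨x₁, ?_⟩
        rw [← hx₁]
        show F x₁ = CurveRR.cst k X ⊤ x₁ * 1
        rw [_root_.mul_one]
        exact (QC.resO_self (le_top : (⊤ : X.Opens) ≤ ⊤) (Coh.toGlobal (X ↘ Spec (CommRingCat.of k)) x₁)).symm
      have hl : l₁ = l₂ := by
        let σ : Spec (CommRingCat.of k) ⟶ X := x₀.left
        have hσ : σ ≫ (X ↘ Spec (CommRingCat.of k)) = 𝟙 _ := Over.w x₀
        refine ext_of_isAffine (CommRingCat.hom_ext (RingHom.ext fun s => ?_))
        obtain ⟨a, ha⟩ := hsurj (l₁.appTop.hom s)
        obtain ⟨b, hb⟩ := hsurj (l₂.appTop.hom s)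
        have hab : σ.appTop.hom (l₁.appTop.hom s) = σ.appTop.hom (l₂.appTop.hom s) := by
          have : σ ≫ l₁ = σ ≫ l₂ := by
            rw [← cancel_mono U.ι, Category.assoc, Category.assoc]
            erw [IsOpenImmersion.lift_fac, IsOpenImmersion.lift_fac]
            show (x₀ ≫ alb).left = (x₀ ≫ toUnit Xo ≫ η[A]).left
            rw [halb, ← Category.assoc x₀, toUnit_unique (x₀ ≫ toUnit Xo) (𝟙 _), Category.id_comp]
          exact congrArg (fun t => t.appTop.hom s) this
        have hre : ∀ c : k, σ.appTop.hom (((Scheme.ΓSpecIso (CommRingCat.of k)).inv ≫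
            (X ↘ Spec (CommRingCat.of k)).appTop).hom c) = (Scheme.ΓSpecIso (CommRingCat.of k)).inv.hom c := fun c =>
          congrArg (fun t => t.appTop.hom ((Scheme.ΓSpecIso (CommRingCat.of k)).inv.hom c)) hσ
        rw [← ha, ← hb] at hab ⊢
        rw [hre, hre] at hab
        rw [(Scheme.ΓSpecIso (CommRingCat.of k)).symm.commRingCatIsoToRingEquiv.injective hab]
      apply Over.OverMorphism.ext
      exact (IsOpenImmersion.lift_fac U.ι alb.left _).symm.trans
        ((congrArg (· ≫ U.ι) hl).trans (IsOpenImmersion.lift_fac U.ι (toUnit Xo ≫ η[A]).left _))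
    obtain ⟨h, -, huq⟩ := huniv A alb halb
    have h1 := huq (𝟙 A) ⟨inferInstance, Category.comp_id _⟩
    have h2 := huq (1 : A ⟶ A) ⟨IsMonHom.mk (by rw [Hom.one_def, ← Category.assoc, toUnit_unique (η[A] ≫ toUnit A) (𝟙 _), Category.id_comp]) (by rw [MonObj.comp_one, show ((1 : A ⟶ A) ⊗ₘ (1 : A ⟶ A)) = lift (fst A A ≫ 1) (snd A A ≫ 1) from by apply CartesianMonoidalCategory.hom_ext <;> simp, ← Hom.mul_def, MonObj.comp_one, MonObj.comp_one, _root_.mul_one]), by
      show alb ≫ toUnit A ≫ η[A] = alb
      rw [← Category.assoc, toUnit_unique (alb ≫ toUnit A) (toUnit Xo)]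
      exact hcst.symm⟩
    have h3 : toUnit A ≫ η[A] = 𝟙 A := h2.trans h1.symm
    refine ⟨η[A].left, ?_, Over.w η[A]⟩
    exact congrArg CommaMorphism.left h3
  · intro hi
    have : Subsingleton A.left := by
      refine ⟨fun a b => A.hom.homeomorph.injective ?_⟩
      exact Subsingleton.elim _ _
    exact Set.subsingleton_of_subsingleton

end Groth.Agent.S14825
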