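import Groth.Statements.S14826
import Mathlib
import Groth.Agent.S7784
import Groth.Agent.Rigid.FibreTranslate
import Groth.Agent.W7See.Trivial

set_option autoImplicit false
set_option backward.isDefEq.respectTransparency false
set_option backward.isDefEq.respectTransparency.types false
universe u
open CategoryTheory MonoidalCategory CartesianMonoidalCategory MonObj GrpObj AlgebraicGeometry
open AbVar

namespace Groth.Agent.S14826

/-- Over a field k (the published statement is over a base scheme S), let X be a proper k-scheme with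
H^0(X, O_X) one-dimensional and a k-rational point x₀, and alb : X → A the Albanese morphism (A an
abelian variety — proper, geometrically integral group scheme — with alb(x₀) = 0, universal among
pointed morphisms from X to geometrically reduced, connected, proper group schemes). Let φ : X → A'
be an arbitrary k-morphism to such an abelian variety A', not necessarily pointed. Then φ factors
through alb by exactly one k-morphism A → A', and that morphism is a homomorphism h followed by the
translation of A' by the k-point φ(x₀): there is a homomorphism h : A → A' with φ = (alb ≫ h) ·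
(constant map with value φ(x₀)) in the group of morphisms into A', and every k-morphism g : A → A'
with alb ≫ g = φ equals h · (constant map A → A' with value φ(x₀)). -/
theorem result (k : Type u) [Field k] (X : Scheme.{u}) [X.Over (Spec (CommRingCat.of k))]
    [IsProper (X ↘ Spec (CommRingCat.of k))] (h0 : Module.finrank k (Coh.HH X (Coh.structureModule X) 0) = 1)
    (x₀ : 𝟙_ (Over (Spec (CommRingCat.of k))) ⟶ Over.mk (X ↘ Spec (CommRingCat.of k)))
    (A : Over (Spec (CommRingCat.of k))) [GrpObj A] [IsProper A.hom] [GeometricallyIntegral A.hom]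
    (alb : Over.mk (X ↘ Spec (CommRingCat.of k)) ⟶ A) (halb : x₀ ≫ alb = η[A])
    (huniv : ∀ (B : Over (Spec (CommRingCat.of k))) [GrpObj B] [IsProper B.hom] [GeometricallyReduced B.hom] [ConnectedSpace ↥B.left]
      (g : Over.mk (X ↘ Spec (CommRingCat.of k)) ⟶ B), x₀ ≫ g = η[B] → ∃! h : A ⟶ B, IsMonHom h ∧ alb ≫ h = g)
    (A' : Over (Spec (CommRingCat.of k))) [GrpObj A'] [IsProper A'.hom] [GeometricallyReduced A'.hom] [ConnectedSpace ↥A'.left]
    (φ : Over.mk (X ↘ Spec (CommRingCat.of k)) ⟶ A') :
    ∃ h : A ⟶ A', IsMonHom h ∧ (alb ≫ h) * (toUnit (Over.mk (X ↘ Spec (CommRingCat.of k))) ≫ x₀ ≫ φ) = φ ∧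
      ∀ g : A ⟶ A', alb ≫ g = φ → g = h * (toUnit A ≫ x₀ ≫ φ) := by
  haveI : GeometricallyConnected A'.hom := Rigid.geometricallyConnected_of_section A'.hom η[A'].left (Over.w η[A'])
  haveI : GeometricallyConnected A.hom := W7See.geometricallyConnected_of_geometricallyIntegral A.hom
  haveI : LocallyOfFinitePresentation A.hom := InfLift.lfp_of_lft A.hom
  haveI : LocallyOfFinitePresentation A'.hom := InfLift.lfp_of_lft A'.hom
  have hp : ∀ {P : Over (Spec (CommRingCat.of k))} (p : 𝟙_ _ ⟶ P) {B : Over (Spec (CommRingCat.of k))} [GrpObj B]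
      (a : 𝟙_ _ ⟶ B), p ≫ toUnit P ≫ a = a :=
    fun {P} p B _ a => by rw [← Category.assoc, toUnit_unique (p ≫ toUnit P) (𝟙 _), Category.id_comp]
  obtain ⟨h, ⟨hh, hhg⟩, huq⟩ := huniv A' (φ * (toUnit _ ≫ x₀ ≫ φ)⁻¹) (by
    rw [MonObj.comp_mul, GrpObj.comp_inv, hp, mul_inv_cancel]; rfl)
  refine ⟨h, hh, by rw [hhg, inv_mul_cancel_right], fun g hg => ?_⟩
  have hη : η[A] ≫ g = x₀ ≫ φ := by rw [← halb, Category.assoc, hg]
  let g' := g * (toUnit A ≫ x₀ ≫ φ)⁻¹
  have hg' : η[A] ≫ g' = η[A'] := by
    rw [MonObj.comp_mul, GrpObj.comp_inv, hp, hη, mul_inv_cancel]; rfl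
  haveI := S7784.result A A' g' hg'
  have hgh : g' = h := huq g' ⟨inferInstance, by
    rw [MonObj.comp_mul, GrpObj.comp_inv, hg, ← Category.assoc alb, comp_toUnit]⟩
  rw [← hgh, inv_mul_cancel_right]

end Groth.Agent.S14826
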