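import Groth.Statements.S14827
import Mathlib

set_option autoImplicit false
set_option backward.isDefEq.respectTransparency false
set_option backward.isDefEq.respectTransparency.types false
universe u
open CategoryTheory MonoidalCategory CartesianMonoidalCategory MonObj GrpObj AlgebraicGeometry
open AbVar

namespace Groth.Agent.S14827

/-- Over a field k (the published statement is over a base scheme S), let X be a proper k-scheme with
H^0(X, O_X) one-dimensional and a k-rational point x₀, and alb : X → A the Albanese morphism for the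
base point x₀ (A an abelian variety — proper, geometrically integral group scheme — with alb(x₀) =
0, universal among pointed morphisms to geometrically reduced, connected, proper group schemes). For
a second k-rational point x₁ let alb' = alb · (constant map with value alb(x₁))⁻¹, i.e. alb followed
by the translation of A by −alb(x₁). Then alb' is the Albanese morphism of X pointed by x₁: alb'(x₁)
= 0, and every k-morphism g : X → B to an abelian variety B with g(x₁) = 0 equals alb' ≫ h for a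
unique homomorphism h : A → B. -/
theorem result (k : Type u) [Field k] (X : Scheme.{u}) [X.Over (Spec (CommRingCat.of k))]
    [IsProper (X ↘ Spec (CommRingCat.of k))] (h0 : Module.finrank k (Coh.HH X (Coh.structureModule X) 0) = 1)
    (x₀ : 𝟙_ (Over (Spec (CommRingCat.of k))) ⟶ Over.mk (X ↘ Spec (CommRingCat.of k)))
    (A : Over (Spec (CommRingCat.of k))) [GrpObj A] [IsProper A.hom] [GeometricallyIntegral A.hom]
    (alb : Over.mk (X ↘ Spec (CommRingCat.of k)) ⟶ A) (halb : x₀ ≫ alb = η[A])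
    (huniv : ∀ (B : Over (Spec (CommRingCat.of k))) [GrpObj B] [IsProper B.hom] [GeometricallyReduced B.hom] [ConnectedSpace ↥B.left]
      (g : Over.mk (X ↘ Spec (CommRingCat.of k)) ⟶ B), x₀ ≫ g = η[B] → ∃! h : A ⟶ B, IsMonHom h ∧ alb ≫ h = g)
    (x₁ : 𝟙_ (Over (Spec (CommRingCat.of k))) ⟶ Over.mk (X ↘ Spec (CommRingCat.of k))) :
    x₁ ≫ (alb * (toUnit (Over.mk (X ↘ Spec (CommRingCat.of k))) ≫ x₁ ≫ alb)⁻¹) = η[A] ∧
    ∀ (B : Over (Spec (CommRingCat.of k))) [GrpObj B] [IsProper B.hom] [GeometricallyReduced B.hom] [ConnectedSpace ↥B.left]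
      (g : Over.mk (X ↘ Spec (CommRingCat.of k)) ⟶ B), x₁ ≫ g = η[B] →
        ∃! h : A ⟶ B, IsMonHom h ∧ (alb * (toUnit (Over.mk (X ↘ Spec (CommRingCat.of k))) ≫ x₁ ≫ alb)⁻¹) ≫ h = g := by
  have hp : ∀ (p : 𝟙_ _ ⟶ (Over.mk (X ↘ Spec (CommRingCat.of k)))) {B : Over (Spec (CommRingCat.of k))} [GrpObj B] (a : 𝟙_ _ ⟶ B), p ≫ toUnit (Over.mk (X ↘ Spec (CommRingCat.of k))) ≫ a = a :=
    fun p B _ a => by rw [← Category.assoc, toUnit_unique (p ≫ toUnit (Over.mk (X ↘ Spec (CommRingCat.of k)))) (𝟙 _), Category.id_comp]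
  refine ⟨by rw [MonObj.comp_mul, GrpObj.comp_inv, hp, mul_inv_cancel]; rfl, ?_⟩
  intro B _ _ _ _ g hg
  let g₀ := g * (toUnit (Over.mk (X ↘ Spec (CommRingCat.of k))) ≫ x₀ ≫ g)⁻¹
  have hg₀ : x₀ ≫ g₀ = η[B] := by
    rw [MonObj.comp_mul, GrpObj.comp_inv, hp, mul_inv_cancel]; rfl
  have h1 : ∀ (h : A ⟶ B) [IsMonHom h],
      (alb * (toUnit (Over.mk (X ↘ Spec (CommRingCat.of k))) ≫ x₁ ≫ alb)⁻¹) ≫ h = (alb ≫ h) * (toUnit (Over.mk (X ↘ Spec (CommRingCat.of k))) ≫ x₁ ≫ alb ≫ h)⁻¹ := fun h _ => by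
    rw [MonObj.mul_comp, GrpObj.inv_comp]; simp only [Category.assoc]
  obtain ⟨h, ⟨hh, hhg⟩, huq⟩ := huniv B g₀ hg₀
  refine ⟨h, ⟨hh, ?_⟩, fun h' ⟨hh', e⟩ => huq h' ⟨hh', ?_⟩⟩
  · haveI := hh
    have h2 : x₁ ≫ g₀ = (x₀ ≫ g)⁻¹ := by
      rw [MonObj.comp_mul, GrpObj.comp_inv, hp, hg]; exact _root_.one_mul _
    rw [h1, hhg, h2, GrpObj.comp_inv, _root_.inv_inv, inv_mul_cancel_right]
  · haveI := hh'
    rw [h1] at e
    have h3 := congrArg (x₀ ≫ ·) e
    simp only [MonObj.comp_mul, GrpObj.comp_inv, hp] at h3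
    have h4 : x₀ ≫ alb ≫ h' = 1 := by rw [← Category.assoc, halb, IsMonHom.one_hom]; rfl
    rw [h4, _root_.one_mul] at h3
    show alb ≫ h' = g * (toUnit _ ≫ x₀ ≫ g)⁻¹
    rw [← h3, GrpObj.comp_inv, _root_.inv_inv, ← e, inv_mul_cancel_right]

end Groth.Agent.S14827
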