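import Groth.Statements.S14830
import Groth.Agent.Rigid.Integral
import Groth.Agent.Rigid.Lemma
import Groth.Agent.Rigid.FibreTranslate

set_option autoImplicit false
universe u
open CategoryTheory MonoidalCategory CartesianMonoidalCategory MonObj GrpObj AlgebraicGeometry
open AbVar

namespace Groth.Agent.S14830

/-- Let k be a field and X, Y proper, geometrically integral k-schemes with k-rational points x₀ and y₀.
Let albX : X → A and albY : Y → B be Albanese morphisms: A, B abelian varieties over k (proper,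
geometrically integral group schemes), albX(x₀) = 0, albY(y₀) = 0, each universal among pointed
k-morphisms into abelian varieties (geometrically reduced, connected, proper group schemes). Then
the product morphism albX × albY : X ×_k Y → A ×_k B is the Albanese morphism of X ×_k Y pointed at
(x₀, y₀): for every abelian variety C and every k-morphism g : X ×_k Y → C with g(x₀, y₀) = 0 there
is a unique homomorphism h : A ×_k B → C with (albX × albY) ≫ h = g. -/
theorem result (k : Type u) [Field k] (X Y : Scheme.{u}) [X.Over (Spec (CommRingCat.of k))] [Y.Over (Spec (CommRingCat.of k))]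
    [IsProper (X ↘ Spec (CommRingCat.of k))] [IsProper (Y ↘ Spec (CommRingCat.of k))]
    [GeometricallyIntegral (X ↘ Spec (CommRingCat.of k))] [GeometricallyIntegral (Y ↘ Spec (CommRingCat.of k))]
    (x₀ : 𝟙_ (Over (Spec (CommRingCat.of k))) ⟶ Over.mk (X ↘ Spec (CommRingCat.of k))) (y₀ : 𝟙_ (Over (Spec (CommRingCat.of k))) ⟶ Over.mk (Y ↘ Spec (CommRingCat.of k)))
    (A : Over (Spec (CommRingCat.of k))) [GrpObj A] [IsProper A.hom] [GeometricallyIntegral A.hom]
    (albX : Over.mk (X ↘ Spec (CommRingCat.of k)) ⟶ A) (halbX : x₀ ≫ albX = η[A])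
    (hunivA : ∀ (C : Over (Spec (CommRingCat.of k))) [GrpObj C] [IsProper C.hom] [GeometricallyReduced C.hom] [ConnectedSpace ↥C.left]
      (g : Over.mk (X ↘ Spec (CommRingCat.of k)) ⟶ C), x₀ ≫ g = η[C] → ∃! h : A ⟶ C, IsMonHom h ∧ albX ≫ h = g)
    (B : Over (Spec (CommRingCat.of k))) [GrpObj B] [IsProper B.hom] [GeometricallyIntegral B.hom]
    (albY : Over.mk (Y ↘ Spec (CommRingCat.of k)) ⟶ B) (halbY : y₀ ≫ albY = η[B])
    (hunivB : ∀ (C : Over (Spec (CommRingCat.of k))) [GrpObj C] [IsProper C.hom] [GeometricallyReduced C.hom] [ConnectedSpace ↥C.left]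
      (g : Over.mk (Y ↘ Spec (CommRingCat.of k)) ⟶ C), y₀ ≫ g = η[C] → ∃! h : B ⟶ C, IsMonHom h ∧ albY ≫ h = g)
    (C : Over (Spec (CommRingCat.of k))) [GrpObj C] [IsProper C.hom] [GeometricallyReduced C.hom] [ConnectedSpace ↥C.left]
    (g : Over.mk (X ↘ Spec (CommRingCat.of k)) ⊗ Over.mk (Y ↘ Spec (CommRingCat.of k)) ⟶ C) (hg : lift x₀ y₀ ≫ g = η[C]) :
    ∃! h : A ⊗ B ⟶ C, IsMonHom h ∧ (albX ⊗ₘ albY) ≫ h = g := by

  let P := Spec (CommRingCat.of k)
  haveI : Subsingleton P := inferInstanceAs (Subsingleton (PrimeSpectrum k))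
  let X' : Over P := Over.mk (X ↘ Spec (CommRingCat.of k))
  let Y' : Over P := Over.mk (Y ↘ Spec (CommRingCat.of k))
  haveI : IsProper X'.hom := inferInstanceAs (IsProper (X ↘ Spec (CommRingCat.of k)))
  haveI : GeometricallyIntegral X'.hom := inferInstanceAs (GeometricallyIntegral (X ↘ Spec (CommRingCat.of k)))
  haveI : GeometricallyIntegral Y'.hom := inferInstanceAs (GeometricallyIntegral (Y ↘ Spec (CommRingCat.of k)))
  haveI : GeometricallyConnected C.hom :=
    Groth.Agent.Rigid.geometricallyConnected_of_section C.hom η[C].left (Over.w η[C])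
  haveI : IsCommMonObj C :=
    Groth.Agent.Rigid.isCommMonObj_of_goodFibres (Groth.Agent.Rigid.goodFibres_of_geometrically C.hom)
      Groth.Agent.Rigid.isPreconnected_fibre
  haveI : IsMonHom (MonObj.one : 𝟙_ (Over P) ⟶ C) := inferInstance
  have eη : ∀ (G : Over P) [GrpObj G], η[G] = (1 : 𝟙_ (Over P) ⟶ G) := fun G _ => by
    rw [Hom.one_def, toUnit_unit, Category.id_comp]
  let gX : X' ⟶ C := lift (𝟙 X') (toUnit X' ≫ y₀) ≫ g
  let gY : Y' ⟶ C := lift (toUnit Y' ≫ x₀) (𝟙 Y') ≫ g
  have hx1 : x₀ ≫ toUnit X' = 𝟙 _ := toUnit_unique _ _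
  have hy1 : y₀ ≫ toUnit Y' = 𝟙 _ := toUnit_unique _ _
  have hgX : x₀ ≫ gX = η[C] := by
    rw [← hg, ← Category.assoc, comp_lift, Category.comp_id, ← Category.assoc x₀, hx1, Category.id_comp]
  have hgY : y₀ ≫ gY = η[C] := by
    rw [← hg, ← Category.assoc, comp_lift, Category.comp_id, ← Category.assoc y₀, hy1, Category.id_comp]
  obtain ⟨hA, ⟨hAm, hAe⟩, hAu⟩ := hunivA C gX hgX
  obtain ⟨hB, ⟨hBm, hBe⟩, hBu⟩ := hunivB C gY hgY
  haveI := hAm
  haveI := hBm
  -- decomposition of `g`
  have hdec : g = (fst X' Y' ≫ gX) * (snd X' Y' ≫ gY) := by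
    let δ : X' ⊗ Y' ⟶ C := g * ((fst X' Y' ≫ gX) * (snd X' Y' ≫ gY))⁻¹
    have h : δ = toUnit (X' ⊗ Y') ≫ (1 : 𝟙_ (Over P) ⟶ C) := by
      refine Groth.Agent.Rigid.eq_const_of_axes (Groth.Agent.Rigid.goodFibres_of_geometricallyIntegral X'.hom)
        x₀ y₀ (fun s => Groth.Agent.Rigid.isPreconnected_fibre_of_geometricallyIntegral Y'.hom s) δ 1 ?_ ?_
      · have e1 : lift (𝟙 X') (toUnit X' ≫ y₀) ≫ fst X' Y' ≫ gX = gX :=
          (lift_fst_assoc _ _ _).trans (Category.id_comp _)
        have e2 : lift (𝟙 X') (toUnit X' ≫ y₀) ≫ snd X' Y' ≫ gY = 1 :=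
          (lift_snd_assoc _ _ _).trans ((Category.assoc _ _ _).trans (by rw [hgY, Hom.one_def]))
        change lift (𝟙 X') (toUnit X' ≫ y₀) ≫ δ = _
        rw [MonObj.comp_one, MonObj.comp_mul, GrpObj.comp_inv, MonObj.comp_mul, e1, e2, _root_.mul_one]
        exact mul_inv_cancel gX
      · have e1 : lift (toUnit Y' ≫ x₀) (𝟙 Y') ≫ fst X' Y' ≫ gX = 1 :=
          (lift_fst_assoc _ _ _).trans ((Category.assoc _ _ _).trans (by rw [hgX, Hom.one_def]))
        have e2 : lift (toUnit Y' ≫ x₀) (𝟙 Y') ≫ snd X' Y' ≫ gY = gY :=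
          (lift_snd_assoc _ _ _).trans (Category.id_comp _)
        change lift (toUnit Y' ≫ x₀) (𝟙 Y') ≫ δ = _
        rw [MonObj.comp_one, MonObj.comp_mul, GrpObj.comp_inv, MonObj.comp_mul, e1, e2, _root_.one_mul]
        exact mul_inv_cancel gY
    rw [MonObj.comp_one] at h
    exact mul_inv_eq_one.1 h
  let h : A ⊗ B ⟶ C := (fst A B ≫ hA) * (snd A B ≫ hB)
  refine ⟨h, ⟨?_, ?_⟩, ?_⟩
  · have hmul : ∀ {T : Over P} (p p' : T ⟶ A ⊗ B), (p * p') ≫ h = (p ≫ h) * (p' ≫ h) := by
      intro T p p'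
      have e1 : (p * p') ≫ fst A B = (p ≫ fst A B) * (p' ≫ fst A B) := MonObj.mul_comp _ _ _
      have e2 : (p * p') ≫ snd A B = (p ≫ snd A B) * (p' ≫ snd A B) := MonObj.mul_comp _ _ _
      simp only [h, MonObj.comp_mul]
      simp only [← Category.assoc, e1, e2, MonObj.mul_comp]
      exact mul_mul_mul_comm _ _ _ _
    refine ⟨?_, ?_⟩
    · have := hmul (1 : 𝟙_ (Over P) ⟶ A ⊗ B) 1
      rw [_root_.mul_one, left_eq_mul] at this
      rw [eη (A ⊗ B), this, eη C]
    · have := hmul (fst (A ⊗ B) (A ⊗ B)) (snd (A ⊗ B) (A ⊗ B))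
      rw [Hom.mul_def, lift_fst_snd, Category.id_comp] at this
      rw [this, Hom.mul_def]
      congr 1
  · simp only [h, MonObj.comp_mul, tensorHom_fst_assoc, tensorHom_snd_assoc, hAe, hBe]
    exact hdec.symm
  · rintro h' ⟨hm', he'⟩
    haveI := hm'
    have hgoodA := Groth.Agent.Rigid.goodFibres_of_geometricallyIntegral A.hom
    have hgoodB := Groth.Agent.Rigid.goodFibres_of_geometricallyIntegral B.hom
    let a' : A ⟶ C := lift (𝟙 A) 1 ≫ h'
    let b' : B ⟶ C := lift 1 (𝟙 B) ≫ h'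
    have ha0 : η[A] ≫ a' = η[C] := by
      rw [← IsMonHom.one_hom (f := h'), ← Category.assoc]
      congr 1
      apply CartesianMonoidalCategory.hom_ext <;> simp [eη]
    have hb0 : η[B] ≫ b' = η[C] := by
      rw [← IsMonHom.one_hom (f := h'), ← Category.assoc]
      congr 1
      apply CartesianMonoidalCategory.hom_ext <;> simp [eη]
    have ea : a' = hA := hAu a' ⟨Groth.Agent.Rigid.isMonHom_of_unit hgoodA
      (fun s => Groth.Agent.Rigid.isPreconnected_fibre_of_geometricallyIntegral A.hom s) a' ha0, by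
        have hh := congrArg (lift (𝟙 X') (toUnit X' ≫ y₀) ≫ ·) he'
        simp only [← Category.assoc, lift_map, Category.id_comp] at hh
        rw [Category.assoc, halbY, ← Hom.one_def] at hh
        rw [← Category.assoc, comp_lift, Category.comp_id, MonObj.comp_one]
        exact hh⟩
    have eb : b' = hB := hBu b' ⟨Groth.Agent.Rigid.isMonHom_of_unit hgoodB
      (fun s => Groth.Agent.Rigid.isPreconnected_fibre_of_geometricallyIntegral B.hom s) b' hb0, by
        have hh := congrArg (lift (toUnit Y' ≫ x₀) (𝟙 Y') ≫ ·) he'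
        simp only [← Category.assoc, lift_map, Category.id_comp] at hh
        rw [Category.assoc, halbX, ← Hom.one_def] at hh
        rw [← Category.assoc, comp_lift, Category.comp_id, MonObj.comp_one]
        exact hh⟩
    have hid : 𝟙 (A ⊗ B) = (fst A B ≫ lift (𝟙 A) 1) * (snd A B ≫ lift 1 (𝟙 B)) := by
      apply CartesianMonoidalCategory.hom_ext
      · rw [MonObj.mul_comp, Category.assoc, Category.assoc, lift_fst, lift_fst, MonObj.comp_one, _root_.mul_one,
          Category.comp_id, Category.id_comp]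
      · rw [MonObj.mul_comp, Category.assoc, Category.assoc, lift_snd, lift_snd, MonObj.comp_one, _root_.one_mul,
          Category.comp_id, Category.id_comp]
    calc h' = 𝟙 (A ⊗ B) ≫ h' := (Category.id_comp _).symm
      _ = h := by rw [hid, MonObj.mul_comp, Category.assoc, Category.assoc]; simp only [h, ← ea, ← eb, a', b']


end Groth.Agent.S14830
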