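import Groth.Statements.S14835
import Groth.Agent.GenusInsep.Bar
import Groth.Agent.GenusInsep.DimFinite
import Groth.Agent.S1585
import Groth.Agent.S1602
import Groth.Agent.NormSmoothBC.Basic
import Groth.Agent.CurveRR.GenusMap

set_option autoImplicit false
universe u
open CategoryTheory CategoryTheory.Limits AlgebraicGeometry
open Curves

set_option backward.isDefEq.respectTransparency false
set_option backward.isDefEq.respectTransparency.types false

namespace Groth.Agent.S14835

/-- Let k be an algebraically closed field, C and B proper curves over k (proper k-schemes of dimension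
one) with B connected and regular (all local rings regular), φ : C → B a k-morphism, and ι : C_i → C
a closed integral one-dimensional subscheme (an integral component) such that the composite C_i → B
is finite. Then dim_k H^1(C, O_C) ≥ dim_k H^1(C_i, O_{C_i}) ≥ dim_k H^1(B, O_B). -/
theorem result (k : Type u) [Field k] [IsAlgClosed k]
    (C B Ci : Scheme.{u}) [C.Over (Spec (CommRingCat.of k))] [B.Over (Spec (CommRingCat.of k))] [Ci.Over (Spec (CommRingCat.of k))]
    [IsProper (C ↘ Spec (CommRingCat.of k))] [IsProper (B ↘ Spec (CommRingCat.of k))]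
    (hC : topologicalKrullDim ↥C = 1) (hB : topologicalKrullDim ↥B = 1) [ConnectedSpace ↥B]
    (hBreg : ∀ b : B, IsRegularLocalRing (B.presheaf.stalk b))
    (φ : C ⟶ B) (hφ : φ ≫ (B ↘ Spec (CommRingCat.of k)) = C ↘ Spec (CommRingCat.of k))
    (ι : Ci ⟶ C) [IsClosedImmersion ι] [IsIntegral Ci] (hCi : topologicalKrullDim ↥Ci = 1)
    (hι : ι ≫ (C ↘ Spec (CommRingCat.of k)) = Ci ↘ Spec (CommRingCat.of k)) [IsFinite (ι ≫ φ)] :
    Module.finrank k (Coh.HH Ci (Coh.structureModule Ci) 1) ≤ Module.finrank k (Coh.HH C (Coh.structureModule C) 1) ∧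
      Module.finrank k (Coh.HH B (Coh.structureModule B) 1) ≤ Module.finrank k (Coh.HH Ci (Coh.structureModule Ci) 1) := by
  haveI := CurveRR.isNoetherian_of_proper k C
  haveI := CurveRR.isNoetherian_of_proper k B
  haveI : IsProper (Ci ↘ Spec (CommRingCat.of k)) := hι ▸ inferInstance
  haveI := CurveRR.isNoetherian_of_proper k Ci
  refine ⟨CurveRR.genus_le_of_surjective k hC.le ι hι ⊤ dense_univ fun W hW _ => ?_, ?_⟩
  · exact (isClosedImmersion_iff_isAffineHom.mp (inferInstance : IsClosedImmersion ι)).2 W hW
  haveI hdom : ∀ b : B, IsDomain (B.presheaf.stalk b) := fun b => by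
    haveI := hBreg b
    exact RegLoc.isDomain (A := B.presheaf.stalk b)
  haveI : IrreducibleSpace B := CurveRR.Easy.irreducibleSpace_of_domain_stalks hdom
  haveI : IsReduced B := by
    haveI : ∀ b : B, _root_.IsReduced (B.presheaf.stalk b) := fun b => by
      haveI := hdom b
      infer_instance
    exact isReduced_of_isReduced_stalk B
  haveI : IsIntegral B := isIntegral_of_irreducibleSpace_of_isReduced B
  haveI : QuasiCompact (Ci.fromSpecStalk (genericPoint Ci)) :=
    inferInstance
  haveI : QuasiSeparated (Ci.fromSpecStalk (genericPoint Ci)) :=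
    inferInstance
  obtain ⟨hfin, hdom', ⟨V, hV, hiso⟩, hint, hnN⟩ := Groth.Agent.S1585.result k Ci
  haveI := hfin
  haveI := hdom'
  haveI := hint
  let ν := Curv2.normalizationι Ci
  letI : (Curv2.normalization Ci).Over (Spec (CommRingCat.of k)) := ⟨ν ≫ (Ci ↘ Spec (CommRingCat.of k))⟩
  haveI : IsProper ((Curv2.normalization Ci) ↘ Spec (CommRingCat.of k)) :=
    inferInstanceAs (IsProper (ν ≫ (Ci ↘ Spec (CommRingCat.of k))))
  have h1 : Curv2.genus k (Curv2.normalization Ci) ≤ Curv2.genus k Ci :=
    Groth.Agent.S1602.result k Ci (Curv2.normalization Ci) hCi.le ν rfl V (V.2.dense hV)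
      ((ν ⁻¹ᵁ V).2.dense (by
        obtain ⟨z, hz⟩ := ν.denseRange.exists_mem_open V.2 hV
        exact ⟨z, hz⟩)) hiso
  have hdN : topologicalKrullDim (Curv2.normalization Ci) = 1 := by
    refine le_antisymm (GenusInsep.topologicalKrullDim_le_of_finite ν hCi.le) ?_
    haveI : JacobsonSpace Ci := LocallyOfFiniteType.jacobsonSpace (Ci ↘ Spec (CommRingCat.of k))
    obtain ⟨P, -, hP⟩ := nonempty_inter_closedPoints (Z := (Set.univ : Set Ci))
      ⟨genericPoint Ci, trivial⟩ isClosed_univ.isLocallyClosed
    obtain ⟨z, hz⟩ : P ∈ Set.range ν := by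
      rw [ν.isClosedMap.isClosed_range.closure_eq.symm, ν.denseRange.closure_range]
      trivial
    have hξ : ν (genericPoint (Curv2.normalization Ci)) = genericPoint Ci :=
      NormSmoothBC.ι_genericPoint
    rw [topologicalKrullDim]
    refine Order.one_le_krullDim_iff.2 ⟨⟨closure {z}, isIrreducible_singleton.closure, isClosed_closure⟩,
      ⟨Set.univ, (irreducibleSpace_def _).1 inferInstance, isClosed_univ⟩, lt_of_le_of_ne (Set.subset_univ _) fun h => ?_⟩
    have h2 : genericPoint (Curv2.normalization Ci) ∈ closure {z} := by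
      rw [show closure ({z} : Set (Curv2.normalization Ci)) = Set.univ from congrArg TopologicalSpace.IrreducibleCloseds.carrier h]
      trivial
    have h3 := (specializes_iff_mem_closure.2 h2).map ν.continuous
    rw [hz, hξ] at h3
    have h4 := h3.mem_closure
    rw [hP.closure_eq] at h4
    exact CurveRR.genericPoint_ne_of_closed (k := k) hCi hP h4
  haveI : IsFinite (ν ≫ ι ≫ φ) := inferInstance
  have hg : (ν ≫ ι ≫ φ) ≫ (B ↘ Spec (CommRingCat.of k)) = Curv2.normalization Ci ↘ Spec (CommRingCat.of k) := by
    rw [Category.assoc, Category.assoc, hφ, hι]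
    rfl
  exact (GenusInsep.genus_le (Curv2.normalization Ci) B hdN hB hnN (GenusInsep.normal_of_regular hBreg)
    (ν ≫ ι ≫ φ) hg (GenusInsep.apply_genericPoint (k := k) hdN hB _)).trans h1

end Groth.Agent.S14835
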