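import Groth.Statements.S14836
import Groth.Agent.W7Cech.UnitIso
import Groth.Agent.QC.IdealMod
import Groth.Agent.GrT.GammaIso

set_option autoImplicit false
universe u
open CategoryTheory CategoryTheory.Limits AlgebraicGeometry
open Formal2

namespace Groth.Agent.S14836

/-- Let k be a field and f : X → Y a k-morphism between proper k-schemes which is a fibration, i.e. O_Y
→ f_*O_X is an isomorphism (Γ(V, O_Y) → Γ(f⁻¹V, O_X) bijective for every open V ⊆ Y). Then N ↦ f^*N
is injective on Picard groups: every invertible O_Y-module whose pullback to X is trivial is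
trivial. -/
theorem result (k : Type u) [Field k] (X Y : Scheme.{u})
    [X.Over (Spec (CommRingCat.of k))] [Y.Over (Spec (CommRingCat.of k))] [IsProper (X ↘ Spec (CommRingCat.of k))] [IsProper (Y ↘ Spec (CommRingCat.of k))]
    (f : X ⟶ Y) (hf : f ≫ (Y ↘ Spec (CommRingCat.of k)) = X ↘ Spec (CommRingCat.of k)) (hfib : ∀ V : Y.Opens, IsIso (f.app V)) :
    Formal2.PicPullbackInjective f := by
  intro L hL hiso
  obtain ⟨e⟩ := hiso
  haveI : IsIso (ClSub.unitToPush f) :=
    GrT.isIso_of_locally _ (fun U a b h => (ConcreteCategory.bijective_of_isIso (f.app U)).1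
      (((Groth.Agent.QC.unitToPush_app f U a).symm.trans h).trans (Groth.Agent.QC.unitToPush_app f U b)))
    fun U t x hx => ⟨U, le_rfl, hx, let ⟨a, ha⟩ := (ConcreteCategory.bijective_of_isIso (f.app U)).2 t
      ⟨a, ((Groth.Agent.QC.unitToPush_app f U a).trans ha).trans (Groth.Agent.QC.res_self _ _ _).symm⟩⟩
  haveI := W7Cech.isIso_unit_of_invertible f (asIso (ClSub.unitToPush f)).symm hL
  exact ⟨asIso ((Scheme.Modules.pullbackPushforwardAdjunction f).unit.app L) ≪≫
    (Scheme.Modules.pushforward f).mapIso e ≪≫ (asIso (ClSub.unitToPush f)).symm⟩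

end Groth.Agent.S14836
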