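import Groth.Statements.S14837
import Groth.Agent.CurveRR.Series
import Groth.Agent.SerrePn.Twists
import Groth.Agent.CohQC.Flasque
import Groth.Agent.SiteCoh.DirectTop
import Groth.Agent.NegTwist.Connected

set_option autoImplicit false
universe u
open CategoryTheory CategoryTheory.Limits AlgebraicGeometry
open Coh

set_option backward.isDefEq.respectTransparency false
set_option backward.isDefEq.respectTransparency.types false

namespace Groth.Agent.S14837

/-- Let k be a field and f : X → Y a k-morphism between proper k-schemes which is a fibration (Γ(V, O_Y)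
→ Γ(f⁻¹V, O_X) bijective for every open V ⊆ Y). Then H^1(Y, O_Y) injects naturally into H^1(X, O_X)
(edge map of the Leray spectral sequence); stated here as the inequality dim_k H^1(Y, O_Y) ≤ dim_k
H^1(X, O_X) of finite dimensions. -/
theorem result (k : Type u) [Field k] (X Y : Scheme.{u})
    [X.Over (Spec (CommRingCat.of k))] [Y.Over (Spec (CommRingCat.of k))] [IsProper (X ↘ Spec (CommRingCat.of k))] [IsProper (Y ↘ Spec (CommRingCat.of k))]
    (f : X ⟶ Y) (hf : f ≫ (Y ↘ Spec (CommRingCat.of k)) = X ↘ Spec (CommRingCat.of k)) (hfib : ∀ V : Y.Opens, IsIso (f.app V)) :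
    Module.finrank k (Coh.HH Y (Coh.structureModule Y) 1) ≤ Module.finrank k (Coh.HH X (Coh.structureModule X) 1) := by
  classical
  -- `O_Y ≅ f_* O_X`
  haveI : IsIso (ClSub.unitToPush f) := by
    refine Scheme.Modules.Hom.isIso_iff_isIso_app.mpr fun U => ?_
    rw [ConcreteCategory.isIso_iff_bijective]
    haveI := hfib U
    exact ConcreteCategory.bijective_of_isIso (f.app U)
  rw [show Module.finrank k (Coh.HH Y (Coh.structureModule Y) 1) = _ from
    Groth.Agent.CurveRR.h_eq_of_iso (k := k) (asIso (ClSub.unitToPush f)) 1]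
  show Module.finrank k (Coh.HH Y ((Scheme.Modules.pushforward f).obj (Coh.structureModule X)) 1) ≤ _
  haveI : EnoughInjectives X.Modules := Groth.Agent.SerrePn.enoughInjectives
  -- an injective envelope of `O_X` and its cokernel
  let i := Injective.ι (Coh.structureModule X)
  let J := Injective.under (Coh.structureModule X)
  let S : ShortComplex X.Modules := ShortComplex.mk i (cokernel.π i) (cokernel.condition i)
  have hS : S.ShortExact := { exact := ShortComplex.exact_cokernel i, mono_f := inferInstance, epi_g := inferInstance }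
  let F := Scheme.Modules.pushforward f
  haveI : PreservesLimits F := (Scheme.Modules.pullbackPushforwardAdjunction f).rightAdjoint_preservesLimits
  haveI : Mono (F.map i) := inferInstance
  let T : ShortComplex Y.Modules := ShortComplex.mk (F.map i) (cokernel.π (F.map i)) (cokernel.condition _)
  have hT : T.ShortExact := { exact := ShortComplex.exact_cokernel _, mono_f := inferInstance, epi_g := inferInstance }
  let ε : cokernel (F.map i) ⟶ F.obj S.X₃ := cokernel.desc _ (F.map S.g) (by rw [← F.map_comp, S.zero, F.map_zero])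
  -- `H^1` of a pushed forward flasque module vanishes
  haveI h1J : Subsingleton (Coh.HH Y T.X₂ 1) := by
    haveI : TopCat.Sheaf.IsFlasque (Coh.toAb J) := Groth.Agent.CohQC.isFlasque_toAb_of_injective J
    haveI : TopCat.Sheaf.IsFlasque ((CohTop.push f.base).obj (Coh.toAb J)) :=
      TopCat.Sheaf.IsFlasque.pushforward_isFlasque (Coh.toAb J) f.base
    haveI := Groth.Agent.SiteCoh.flasque_acyclic ((CohTop.push f.base).obj (Coh.toAb J)) (⊤ : Y.Opens) 0
    exact (Groth.Agent.SiteCoh.huTerminalEquiv (Opens.grothendieckTopology Y) isTerminalTop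
      ((CohTop.push f.base).obj (Coh.toAb J)) 1).toEquiv.subsingleton
  letI := Groth.Agent.CurveRR.secMod k (F.obj S.X₃) ⊤
  letI := Groth.Agent.CurveRR.secMod k S.X₃ ⊤
  let e : Γ(F.obj S.X₃, ⊤) →ₗ[k] Γ(S.X₃, ⊤) :=
    { toFun := fun s => s
      map_add' := fun _ _ => rfl
      map_smul' := fun a s => by
        show (f.app ⊤ (Groth.Agent.CurveRR.cst k Y ⊤ a) • (show Γ(S.X₃, f ⁻¹ᵁ ⊤) from s) : Γ(S.X₃, f ⁻¹ᵁ ⊤)) =
          (show Γ(X, f ⁻¹ᵁ ⊤) from Groth.Agent.CurveRR.cst k X ⊤ a) • (show Γ(S.X₃, f ⁻¹ᵁ ⊤) from s)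
        congr 1
        simp only [Groth.Agent.CurveRR.cst, RingHom.comp_apply, Groth.Agent.QC.resO_self, Coh.toGlobal, ← hf]
        rfl }
  let δK := Groth.Agent.CohFinite.hhδ k hT 0
  let δQ := Groth.Agent.CohFinite.hhδ k hS 0
  let L : Coh.HH Y T.X₃ 0 →ₗ[k] Coh.HH X (Coh.structureModule X) 1 :=
    δQ.comp ((Groth.Agent.CurveRR.secH0 (k := k) S.X₃).toLinearMap.comp
      (e.comp ((Groth.Agent.CurveRR.secH0 (k := k) (F.obj S.X₃)).symm.toLinearMap.comp
        (Groth.Agent.CohFinite.hhMap k ε 0))))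
  have hε : Function.Injective (Groth.Agent.CohFinite.hhMap k ε 0) := by
    haveI : Mono ε := by
      have hex : (S.map F).Exact :=
        (hS.exact.map_of_mono_of_preservesKernel F hS.mono_f inferInstance)
      exact hex.mono_cokernelDesc
    have hinj := Groth.Agent.NegTwist.app_injective_of_mono ε (⊤ : Y.Opens)
    letI := Groth.Agent.CurveRR.secMod k (cokernel (F.map i)) ⊤
    intro x y hxy
    obtain ⟨a, rfl⟩ := (Groth.Agent.CurveRR.secH0 (k := k) (cokernel (F.map i))).surjective x
    obtain ⟨b, rfl⟩ := (Groth.Agent.CurveRR.secH0 (k := k) (cokernel (F.map i))).surjective y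
    rw [Groth.Agent.CurveRR.hhMap_secH0, Groth.Agent.CurveRR.hhMap_secH0] at hxy
    exact congrArg _ (hinj ((Groth.Agent.CurveRR.secH0 (k := k) (F.obj S.X₃)).injective hxy))
  have hker : LinearMap.ker L ≤ LinearMap.ker δK := by
    intro x hx
    letI := Groth.Agent.CurveRR.secMod k T.X₂ ⊤
    letI := Groth.Agent.CurveRR.secMod k T.X₃ ⊤
    letI := Groth.Agent.CurveRR.secMod k S.X₂ ⊤
    rw [← Groth.Agent.CurveRR.range_g_eq_ker_δ hT 0]
    have hx' : (Groth.Agent.CurveRR.secH0 (k := k) S.X₃) (e ((Groth.Agent.CurveRR.secH0 (k := k) (F.obj S.X₃)).symm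
        (Groth.Agent.CohFinite.hhMap k ε 0 x))) ∈ LinearMap.ker δQ := hx
    rw [← Groth.Agent.CurveRR.range_g_eq_ker_δ hS 0] at hx'
    obtain ⟨w, hw⟩ := hx'
    obtain ⟨t, rfl⟩ := (Groth.Agent.CurveRR.secH0 (k := k) S.X₂).surjective w
    rw [Groth.Agent.CurveRR.hhMap_secH0] at hw
    have hw' := (Groth.Agent.CurveRR.secH0 (k := k) S.X₃).injective hw
    refine ⟨Groth.Agent.CurveRR.secH0 (k := k) T.X₂ (show Γ(F.obj J, ⊤) from t), hε ?_⟩
    rw [Groth.Agent.CurveRR.hhMap_secH0, Groth.Agent.CurveRR.hhMap_secH0,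
      ← (Groth.Agent.CurveRR.secH0 (k := k) (F.obj S.X₃)).apply_symm_apply (Groth.Agent.CohFinite.hhMap k ε 0 x)]
    refine congrArg _ ?_
    have h2 : ε.app ⊤ (T.g.app ⊤ (show Γ(F.obj J, ⊤) from t)) = (F.map S.g).app ⊤ (show Γ(F.obj J, ⊤) from t) :=
      ConcreteCategory.congr_hom (congrArg (fun φ => φ.app ⊤) (cokernel.π_desc (F.map i) (F.map S.g) _)) _
    exact h2.trans hw'
  have hsurj : LinearMap.range δK = ⊤ := by
    rw [Groth.Agent.CurveRR.range_δ_eq_ker_f hT 0]
    exact eq_top_iff.mpr fun y _ => @Subsingleton.elim _ h1J _ _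
  haveI : Module.Finite k (Coh.HH X (Coh.structureModule X) 1) :=
    Groth.Agent.CohFinite.finite_proper k X _ (Groth.Agent.NegTwist.isCoh_structureModule (X := X)) 1
  let q : (Coh.HH Y T.X₃ 0 ⧸ LinearMap.ker L) →ₗ[k] Coh.HH Y T.X₁ 1 := (LinearMap.ker L).liftQ δK hker
  have hq : Function.Surjective q := by
    intro y
    obtain ⟨x, hx⟩ : y ∈ LinearMap.range δK := hsurj ▸ trivial
    exact ⟨Submodule.Quotient.mk x, hx⟩
  haveI : Module.Finite k (Coh.HH Y T.X₃ 0 ⧸ LinearMap.ker L) :=
    Module.Finite.equiv L.quotKerEquivRange.symm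
  calc Module.finrank k (Coh.HH Y T.X₁ 1)
      ≤ Module.finrank k (Coh.HH Y T.X₃ 0 ⧸ LinearMap.ker L) :=
        LinearMap.finrank_le_finrank_of_surjective (f := q) hq
    _ = Module.finrank k (LinearMap.range L) := L.quotKerEquivRange.finrank_eq
    _ ≤ _ := Submodule.finrank_le _

end Groth.Agent.S14837
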