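import Groth.Statements.S1484
import Mathlib
-- import your own Groth.Agent.* helpers here

set_option autoImplicit false
universe u
open FlatMor

namespace Groth.Agent.S1484

/-- Let R be a ring, p_1, …, p_r primes of R none of which is contained in another, k_i ⊆ κ(p_i)
subfields over which κ(p_i) is not algebraic, and J an ideal of R contained in none of the p_i. Then
some x ∈ J has image in κ(p_i) transcendental over k_i for every i. -/
theorem result {R : Type u} [CommRing R] {r : ℕ} (p : Fin r → Ideal R) [∀ i, (p i).IsPrime]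
    (hp : ∀ i j, i ≠ j → ¬ p i ≤ p j) (k : ∀ i, Subfield (p i).ResidueField)
    (hk : ∀ i, ¬ Algebra.IsAlgebraic ↥(k i) (p i).ResidueField) (J : Ideal R) (hJ : ∀ i, ¬ J ≤ p i) :
    ∃ x ∈ J, ∀ i, Transcendental ↥(k i) (algebraMap R (p i).ResidueField x) := by
  classical
  have key : ∀ i, ∃ x : R, (x ∈ J ∧ ∀ j, j ≠ i → x ∈ p j) ∧
      Transcendental ↥(k i) (algebraMap R (p i).ResidueField x) := by
    intro i
    obtain ⟨t, ht⟩ : ∃ t, Transcendental ↥(k i) t := by
      by_contra h
      push Not at h
      exact hk i ⟨fun t => not_not.mp (h t)⟩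
    obtain ⟨a, b, hb, rfl⟩ := IsFractionRing.div_surjective (A := R ⧸ p i) t
    obtain ⟨a, rfl⟩ := Ideal.Quotient.mk_surjective a
    obtain ⟨b, rfl⟩ := Ideal.Quotient.mk_surjective b
    have hy : ∃ y : R, Transcendental ↥(k i) (algebraMap R (p i).ResidueField y) := by
      by_contra h
      push Not at h
      have ha := not_not.mp (h a)
      have hb' := not_not.mp (h b)
      refine ht ?_
      rw [div_eq_mul_inv]
      exact ha.mul hb'.inv
    obtain ⟨y, hy⟩ := hy
    have hI : ¬ (J ⊓ (Finset.univ.erase i).inf p ≤ p i) := by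
      intro h
      rcases (Ideal.IsPrime.inf_le inferInstance).mp h with h | h
      · exact hJ i h
      · obtain ⟨j, hj, hle⟩ := (Ideal.IsPrime.inf_le' inferInstance).mp h
        exact hp j i (Finset.ne_of_mem_erase hj) hle
    obtain ⟨z, hz, hzp⟩ := SetLike.not_le_iff_exists.mp hI
    rw [Submodule.mem_inf, Submodule.mem_finsetInf] at hz
    have hz' : z ∈ J ∧ ∀ j, j ≠ i → z ∈ p j := ⟨hz.1, fun j hj => hz.2 j (by simp [hj])⟩
    by_cases halg : IsAlgebraic ↥(k i) (algebraMap R (p i).ResidueField z)
    · refine ⟨z * y, ⟨J.mul_mem_right _ hz'.1, fun j hj => (p j).mul_mem_right _ (hz'.2 j hj)⟩, ?_⟩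
      intro h
      refine hy ?_
      have h0 : algebraMap R (p i).ResidueField z ≠ 0 := fun h0 =>
        hzp ((Ideal.algebraMap_residueField_eq_zero).mp h0)
      have := halg.inv.mul h
      rwa [map_mul, inv_mul_cancel_left₀ h0] at this
    · exact ⟨z, hz', halg⟩
  choose x hx ht using key
  refine ⟨∑ i, x i, Ideal.sum_mem _ fun i _ => (hx i).1, fun i => ?_⟩
  rw [map_sum, Finset.sum_eq_single i]
  · exact ht i
  · intro j _ hj
    exact Ideal.algebraMap_residueField_eq_zero.mpr ((hx j).2 i (Ne.symm hj))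
  · simp

end Groth.Agent.S1484
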