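import Groth.Statements.S14844
import Mathlib.LinearAlgebra.Projection

set_option autoImplicit false
universe u v w w'
open HopfRep

namespace Groth.Agent.S14844

open TensorProduct

open TensorProduct in
/-- Let R be a commutative ring and C an R-coalgebra, flat over R, which is the internal direct sum of
subcoalgebras D_i (submodules whose comultiplication lands in the image of D_i ⊗ D_i, independent
and with supremum C). Then every right C-comodule V is the internal direct sum of the subcomodules
V_i, where V_i is the preimage under the coaction of the image of V ⊗ D_i in V ⊗ C, and the coaction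
maps V_i into the image of V_i ⊗ D_i, so that the comodule structure of V_i reduces to a
D_i-comodule structure. (The published statement is for a flat sheaf of coalgebras over a base
scheme and left comodules on a scheme over it; this row is the case of an affine base with modules
of global sections, for right comodules.) -/
theorem result {R : Type u} {C : Type v} [CommRing R]
    [AddCommGroup C] [Module R C] [Coalgebra R C] [Module.Flat R C]
    {ι : Type w} (D : ι → Submodule R C)
    (hD : ∀ i, ∀ d ∈ D i, CoalgebraStruct.comul (R := R) d ∈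
      LinearMap.range (TensorProduct.map (D i).subtype (D i).subtype))
    (hind : iSupIndep D) (htop : iSup D = ⊤)
    {V : Type w'} [AddCommGroup V] [Module R V] [HopfRep.Comod R C V] :
    (∀ i, HopfRep.IsSubcomod (k := R) (A := C) ((LinearMap.range (LinearMap.lTensor V (D i).subtype)).comap
        (HopfRep.Comod.coact (k := R) (A := C) (V := V)))) ∧
    iSupIndep (fun i => ((LinearMap.range (LinearMap.lTensor V (D i).subtype)).comap
        (HopfRep.Comod.coact (k := R) (A := C) (V := V)))) ∧
    (⨆ i, ((LinearMap.range (LinearMap.lTensor V (D i).subtype)).comap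
        (HopfRep.Comod.coact (k := R) (A := C) (V := V)))) = ⊤ ∧
    ∀ i, ∀ v ∈ ((LinearMap.range (LinearMap.lTensor V (D i).subtype)).comap
        (HopfRep.Comod.coact (k := R) (A := C) (V := V))),
      HopfRep.Comod.coact (k := R) (A := C) v ∈
        LinearMap.range (TensorProduct.map ((LinearMap.range (LinearMap.lTensor V (D i).subtype)).comap
        (HopfRep.Comod.coact (k := R) (A := C) (V := V))).subtype (D i).subtype) := by
  classical
  let ρ := HopfRep.Comod.coact (k := R) (A := C) (V := V)
  let ε := CoalgebraStruct.counit (R := R) (A := C)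
  let Δ := CoalgebraStruct.comul (R := R) (A := C)
  -- the projections
  have hc : ∀ i, ∃ p : C →ₗ[R] C, (∀ d, p d ∈ D i) ∧ (∀ d ∈ D i, p d = d) ∧
      ∀ j ≠ i, ∀ d ∈ D j, p d = 0 := by
    intro i
    have hcomp : IsCompl (D i) (⨆ (j) (_ : j ≠ i), D j) := ⟨hind i, by
      rw [codisjoint_iff, ← iSup_split_single D i, htop]⟩
    refine ⟨(D i).projectionOnto _ hcomp |> (D i).subtype.comp, fun d => Submodule.coe_mem _, ?_, ?_⟩
    · intro d hd
      simp [Submodule.projectionOnto_apply_left hcomp ⟨d, hd⟩]
    · intro j hj d hd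
      simp [(Submodule.projectionOnto_apply_eq_zero_iff hcomp).2
        (le_iSup₂ (f := fun j (_ : j ≠ i) => D j) j hj hd)]
  choose p hp₁ hp₂ hp₃ using hc
  -- the two counit identities
  have k1 : ∀ i, ∀ j, ∀ d ∈ D j, TensorProduct.rid R C ((ε ∘ₗ p i).lTensor C (Δ d)) = p i d := by
    intro i j d hd
    obtain ⟨z, hz⟩ := hD j d hd
    rcases eq_or_ne j i with rfl | hj
    · rw [hp₂ j d hd]
      have h : (ε ∘ₗ p j).lTensor C (Δ d) = ε.lTensor C (Δ d) := by
        change _ = _
        rw [← hz, ← LinearMap.comp_apply, ← LinearMap.comp_apply, LinearMap.lTensor_comp_map, LinearMap.lTensor_comp_map]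
        congr 2
        ext x
        simp [hp₂ j x x.2]
      rw [h]
      simp [ε, Δ]
    · rw [hp₃ i j hj d hd]
      have h : (ε ∘ₗ p i).lTensor C (Δ d) = 0 := by
        rw [← hz, ← LinearMap.comp_apply, LinearMap.lTensor_comp_map,
          show (ε ∘ₗ p i) ∘ₗ (D j).subtype = 0 by ext x; simp [hp₃ i j hj x x.2],
          TensorProduct.map_zero_right, LinearMap.zero_apply]
      rw [h, map_zero]
  have k2 : ∀ i, ∀ j, ∀ d ∈ D j, TensorProduct.lid R C ((ε ∘ₗ p i).rTensor C (Δ d)) = p i d := by
    intro i j d hd
    obtain ⟨z, hz⟩ := hD j d hd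
    rcases eq_or_ne j i with rfl | hj
    · rw [hp₂ j d hd]
      have h : (ε ∘ₗ p j).rTensor C (Δ d) = ε.rTensor C (Δ d) := by
        change _ = _
        rw [← hz, ← LinearMap.comp_apply, ← LinearMap.comp_apply, LinearMap.rTensor_comp_map, LinearMap.rTensor_comp_map]
        congr 2
        ext x
        simp [hp₂ j x x.2]
      rw [h]
      simp [ε, Δ]
    · rw [hp₃ i j hj d hd]
      have h : (ε ∘ₗ p i).rTensor C (Δ d) = 0 := by
        rw [← hz, ← LinearMap.comp_apply, LinearMap.rTensor_comp_map,
          show (ε ∘ₗ p i) ∘ₗ (D j).subtype = 0 by ext x; simp [hp₃ i j hj x x.2],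
          TensorProduct.map_zero_left, LinearMap.zero_apply]
      rw [h, map_zero]
  let q : ι → V →ₗ[R] V := fun i =>
    (TensorProduct.rid R V).toLinearMap ∘ₗ (ε ∘ₗ p i).lTensor V ∘ₗ ρ
  have hassoc : ∀ v, TensorProduct.assoc R V C C (ρ.rTensor C (ρ v)) = Δ.lTensor V (ρ v) :=
    fun v => LinearMap.congr_fun (HopfRep.Comod.coassoc (k := R) (A := C) (V := V)) v
  -- `ρ ∘ q i = (id ⊗ p i) ∘ ρ`
  have hρq : ∀ i v, ρ (q i v) = (p i).lTensor V (ρ v) := by
    intro i v
    have e1 : ∀ z : V ⊗[R] C, ρ (TensorProduct.rid R V ((ε ∘ₗ p i).lTensor V z)) =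
        ((TensorProduct.rid R C).toLinearMap ∘ₗ (ε ∘ₗ p i).lTensor C).lTensor V
          (TensorProduct.assoc R V C C (ρ.rTensor C z)) := by
      intro z
      induction z using TensorProduct.induction_on with
      | zero => simp
      | tmul w c =>
        simp only [LinearMap.lTensor_tmul, TensorProduct.rid_tmul, map_smul, LinearMap.rTensor_tmul]
        generalize ρ w = t
        induction t using TensorProduct.induction_on with
        | zero => simp
        | tmul a b => simp [TensorProduct.tmul_smul]
        | add a b ha hb => rw [smul_add, ha, hb, TensorProduct.add_tmul, map_add, map_add]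
      | add a b ha hb => simp [ha, hb]
    rw [show q i v = TensorProduct.rid R V ((ε ∘ₗ p i).lTensor V (ρ v)) from rfl, e1, hassoc,
      ← LinearMap.lTensor_comp_apply]
    congr 1
    refine congrArg (LinearMap.lTensor V) (LinearMap.ext fun c => ?_)
    have hc : c ∈ (⊤ : Submodule R C) := trivial
    rw [← htop] at hc
    induction hc using Submodule.iSup_induction' with
    | mem j d hd => exact k1 i j d hd
    | zero => simp
    | add a b _ _ ha hb => rw [map_add, map_add, ha, hb]
  have hqρ : ∀ i v, (q i).rTensor C (ρ v) = (p i).lTensor V (ρ v) := by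
    intro i v
    have e1 : ∀ z : V ⊗[R] C, (q i).rTensor C z =
        ((TensorProduct.lid R C).toLinearMap ∘ₗ (ε ∘ₗ p i).rTensor C).lTensor V
          (TensorProduct.assoc R V C C (ρ.rTensor C z)) := by
      intro z
      induction z using TensorProduct.induction_on with
      | zero => simp
      | tmul w c =>
        simp only [q, LinearMap.rTensor_tmul, LinearMap.comp_apply, LinearEquiv.coe_coe]
        generalize ρ w = t
        induction t using TensorProduct.induction_on with
        | zero => simp
        | tmul a b => simp [TensorProduct.smul_tmul, TensorProduct.tmul_smul]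
        | add a b ha hb => simp [TensorProduct.add_tmul, ha, hb]
      | add a b ha hb => simp [ha, hb]
    rw [e1, hassoc, ← LinearMap.lTensor_comp_apply]
    refine congrArg (fun l : C →ₗ[R] C => l.lTensor V (ρ v)) (LinearMap.ext fun c => ?_)
    have hc : c ∈ (⊤ : Submodule R C) := trivial
    rw [← htop] at hc
    induction hc using Submodule.iSup_induction' with
    | mem j d hd => exact k2 i j d hd
    | zero => simp
    | add a b _ _ ha hb => rw [map_add, map_add, ha, hb]
  set W := fun i => (LinearMap.range (LinearMap.lTensor V (D i).subtype)).comap ρ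
  have hpfac : ∀ i, p i = (D i).subtype ∘ₗ (p i).codRestrict (D i) (hp₁ i) := fun i => rfl
  have hqW : ∀ i v, q i v ∈ W i := fun i v => by
    refine ⟨((p i).codRestrict (D i) (hp₁ i)).lTensor V (ρ v), ?_⟩
    rw [← LinearMap.lTensor_comp_apply, ← hpfac, hρq]
  have hρid : ∀ v, TensorProduct.rid R V (ε.lTensor V (ρ v)) = v := fun v => by
    have := LinearMap.congr_fun (HopfRep.Comod.counit_comp (k := R) (A := C) (V := V)) v
    simp only [LinearMap.comp_apply] at this
    rw [show ε.lTensor V (ρ v) = _ from this]
    simp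
  have hp_eq : ∀ i v, v ∈ W i → (p i).lTensor V (ρ v) = ρ v := by
    rintro i v ⟨z, hz⟩
    rw [← hz, ← LinearMap.lTensor_comp_apply]
    congr 2
    exact LinearMap.ext fun d => hp₂ i d d.2
  have hq_eq : ∀ i v, v ∈ W i → q i v = v := by
    intro i v hv
    rw [show q i v = TensorProduct.rid R V ((ε ∘ₗ p i).lTensor V (ρ v)) from rfl,
      LinearMap.lTensor_comp_apply, hp_eq i v hv, hρid]
  have hq_zero : ∀ i j, j ≠ i → ∀ v, v ∈ W j → q i v = 0 := by
    rintro i j hji v ⟨z, hz⟩
    rw [show q i v = TensorProduct.rid R V ((ε ∘ₗ p i).lTensor V (ρ v)) from rfl, ← hz,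
      ← LinearMap.lTensor_comp_apply,
      show (ε ∘ₗ p i) ∘ₗ (D j).subtype = 0 by ext x; simp [hp₃ i j hji x x.2]]
    simp
  have hlast : ∀ i, ∀ v ∈ W i, ρ v ∈ LinearMap.range (TensorProduct.map (W i).subtype (D i).subtype) := by
    intro i v hv
    refine ⟨TensorProduct.map ((q i).codRestrict (W i) (hqW i))
      ((p i).codRestrict (D i) (hp₁ i)) (ρ v), ?_⟩
    rw [← LinearMap.comp_apply, ← TensorProduct.map_comp]
    change TensorProduct.map (q i) (p i) (ρ v) = ρ v
    rw [← LinearMap.rTensor_comp_lTensor, LinearMap.comp_apply, hp_eq i v hv, hqρ, hp_eq i v hv]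
  refine ⟨fun i v hv => ?_, fun i => ?_, eq_top_iff.2 fun v _ => ?_, hlast⟩
  · obtain ⟨z, hz⟩ := hlast i v hv
    exact ⟨(D i).subtype.lTensor _ z, by
      rw [← LinearMap.comp_apply, LinearMap.rTensor_comp_lTensor]; exact hz⟩
  · rw [Submodule.disjoint_def]
    intro v hv hv'
    have h0 : (⨆ (j) (_ : j ≠ i), W j) ≤ LinearMap.ker (q i) :=
      iSup₂_le fun j hj w hw => hq_zero i j hj w hw
    exact (hq_eq i v hv).symm.trans (h0 hv')
  · obtain ⟨S, hS⟩ := TensorProduct.exists_finset (R := R) (ρ v)
    have hsum : ∀ c : C, ∃ F : Finset ι, ∀ F' : Finset ι, F ⊆ F' → ∑ i ∈ F', p i c = c := by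
      intro c
      have hc : c ∈ (⊤ : Submodule R C) := trivial
      rw [← htop] at hc
      induction hc using Submodule.iSup_induction' with
      | mem j d hd =>
        exact ⟨{j}, fun F' hF => by
          rw [Finset.sum_eq_single_of_mem j (hF (Finset.mem_singleton_self j))
            (fun k _ hk => hp₃ k j (Ne.symm hk) d hd), hp₂ j d hd]⟩
      | zero => exact ⟨∅, fun F' _ => by simp⟩
      | add a b _ _ ha hb =>
        obtain ⟨F₁, h₁⟩ := ha
        obtain ⟨F₂, h₂⟩ := hb
        exact ⟨F₁ ∪ F₂, fun F' hF => by
          simp only [map_add, Finset.sum_add_distrib, h₁ F' (Finset.union_subset_left hF),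
            h₂ F' (Finset.union_subset_right hF)]⟩
    choose F hF using hsum
    have hv : v = ∑ i ∈ S.biUnion (fun x => F x.2), q i v := by
      conv_lhs => rw [← hρid v]
      simp only [q, LinearMap.comp_apply, LinearEquiv.coe_coe, hS, map_sum, LinearMap.lTensor_tmul]
      rw [Finset.sum_comm]
      refine Finset.sum_congr rfl fun x hx => ?_
      simp only [TensorProduct.rid_tmul, LinearMap.comp_apply, ← Finset.sum_smul, ← map_sum]
      rw [hF x.2 _ (Finset.subset_biUnion_of_mem (fun x => F x.2) hx)]
    rw [hv]
    exact sum_mem fun i _ => Submodule.mem_iSup_of_mem i (hqW i v)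

end Groth.Agent.S14844
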