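import Groth.Statements.S14846
import Mathlib

set_option autoImplicit false
universe u v w
open Brauer

namespace Groth.Agent.S14846

open TensorProduct in
/-- Let L/K be a Galois extension with group Γ = Aut_K(L), and A a K-algebra which is a simple ring. If
L ⊗_K A is semisimple, then Γ, acting on L ⊗_K A through the first tensor factor, permutes its
simple components, i.e. its minimal nonzero two-sided ideals, transitively: any minimal two-sided
ideal is carried onto any other by some γ ⊗ id. -/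
theorem result
    {K : Type u} {L : Type v} [Field K] [Field L] [Algebra K L] [IsGalois K L]
    {A : Type w} [Ring A] [Algebra K A] [IsSimpleRing A]
    [IsSemisimpleRing (L ⊗[K] A)]
    (I J : TwoSidedIdeal (L ⊗[K] A)) (hI : IsAtom I) (hJ : IsAtom J) :
    ∃ γ : L ≃ₐ[K] L, (J : Set (L ⊗[K] A)) =
      Algebra.TensorProduct.map (γ : L →ₐ[K] L) (AlgHom.id K A) '' (I : Set (L ⊗[K] A)) := by
  classical
  let σ : (L ≃ₐ[K] L) → (L ⊗[K] A ≃ₐ[K] L ⊗[K] A) := fun γ =>
    Algebra.TensorProduct.congr γ AlgEquiv.refl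
  have hσ : ∀ γ x, σ γ x = Algebra.TensorProduct.map (γ : L →ₐ[K] L) (AlgHom.id K A) x := by
    intro γ x
    induction x using TensorProduct.induction_on with
    | zero => simp
    | tmul l a => rfl
    | add x y hx hy => rw [map_add, map_add, hx, hy]
  have hsl : ∀ γ (c : L) x, σ γ (c • x) = γ c • σ γ x := by
    intro γ c x
    induction x using TensorProduct.induction_on with
    | zero => simp
    | tmul l a => simp [σ, TensorProduct.smul_tmul', map_mul]
    | add x y hx hy => rw [smul_add, map_add, map_add, hx, hy, smul_add]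
  have hstt : ∀ γ δ x, σ γ (σ δ x) = σ (δ.trans γ) x := by
    intro γ δ x
    induction x using TensorProduct.induction_on with
    | zero => simp
    | tmul l a => rfl
    | add x y hx hy => rw [map_add, map_add, hx, hy, map_add]
  let W : Submodule L (L ⊗[K] A) := Submodule.span L (⋃ γ, σ γ '' (I : Set (L ⊗[K] A)))
  have hWl : ∀ x y, y ∈ W → x * y ∈ W ∧ y * x ∈ W := by
    intro x y hy
    induction hy using Submodule.span_induction with
    | mem y hy =>
      obtain ⟨γ, i, hi, rfl⟩ := Set.mem_iUnion.1 hy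
      refine ⟨Submodule.subset_span (Set.mem_iUnion.2 ⟨γ, (σ γ).symm x * i, I.mul_mem_left _ _ hi, ?_⟩),
        Submodule.subset_span (Set.mem_iUnion.2 ⟨γ, i * (σ γ).symm x, I.mul_mem_right _ _ hi, ?_⟩)⟩ <;>
      rw [map_mul, AlgEquiv.apply_symm_apply]
    | zero => simp
    | add y z _ _ hy hz => rw [mul_add, add_mul]; exact ⟨add_mem hy.1 hz.1, add_mem hy.2 hz.2⟩
    | smul c y _ hy => rw [mul_smul_comm, smul_mul_assoc]; exact ⟨W.smul_mem c hy.1, W.smul_mem c hy.2⟩
  have hWσ : ∀ γ y, y ∈ W → σ γ y ∈ W := by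
    intro γ y hy
    induction hy using Submodule.span_induction with
    | mem y hy =>
      obtain ⟨δ, i, hi, rfl⟩ := Set.mem_iUnion.1 hy
      exact Submodule.subset_span (Set.mem_iUnion.2 ⟨_, i, hi, (hstt γ δ i).symm⟩)
    | zero => simp
    | add y z _ _ hy hz => rw [map_add]; exact add_mem hy hz
    | smul c y _ hy => rw [hsl]; exact W.smul_mem _ hy
  obtain ⟨i₀, hi₀, hi₀0⟩ : ∃ i ∈ I, i ≠ 0 := by
    by_contra h
    push_neg at h
    exact hI.1 (le_antisymm (fun x hx => (TwoSidedIdeal.mem_bot _).2 (h x hx)) bot_le)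
  -- a nonzero element of minimal support is rational
  obtain ⟨b⟩ : Nonempty (Module.Basis (Module.Basis.ofVectorSpaceIndex K A) K A) :=
    ⟨Module.Basis.ofVectorSpace K A⟩
  let B := Algebra.TensorProduct.basis L b
  have hcoord : ∀ γ x i, B.repr (σ γ x) i = γ (B.repr x i) := by
    intro γ x i
    induction x using TensorProduct.induction_on with
    | zero => simp
    | tmul l a =>
      show B.repr (γ l ⊗ₜ[K] a) i = γ (B.repr (l ⊗ₜ[K] a) i)
      simp [B, Algebra.TensorProduct.basis_repr_tmul, map_mul]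
    | add x y hx hy => simp [map_add, hx, hy]
  have hex : ∃ n, ∃ x ∈ W, x ≠ 0 ∧ (B.repr x).support.card = n :=
    ⟨_, σ AlgEquiv.refl i₀, Submodule.subset_span (Set.mem_iUnion.2 ⟨_, i₀, hi₀, rfl⟩),
      fun h => hi₀0 ((σ AlgEquiv.refl).injective (h.trans (map_zero _).symm)), rfl⟩
  obtain ⟨x, hxW, hx0, hxn⟩ := Nat.find_spec hex
  obtain ⟨i, hi⟩ : (B.repr x).support.Nonempty :=
    Finsupp.support_nonempty_iff.2 (by simpa using hx0)
  rw [Finsupp.mem_support_iff] at hi
  set z := (B.repr x i)⁻¹ • x with hz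
  have hzi : B.repr z i = 1 := by simp [hz, hi]
  have hzW : z ∈ W := W.smul_mem _ hxW
  have hzs : (B.repr z).support = (B.repr x).support := by
    rw [hz, map_smul, Finsupp.support_smul_eq (inv_ne_zero hi)]
  have hzfix : ∀ γ, σ γ z = z := by
    intro γ
    by_contra hne
    have hm := Nat.find_min' hex ⟨σ γ z - z, sub_mem (hWσ γ z hzW) hzW, sub_ne_zero.2 hne, rfl⟩
    have hlt : (B.repr (σ γ z - z)).support.card < (B.repr x).support.card := by
      refine Finset.card_lt_card ((Finset.ssubset_iff_of_subset fun j hj => ?_).2 ⟨i, ?_, ?_⟩)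
      · rw [← hzs, Finsupp.mem_support_iff]
        intro h0
        rw [Finsupp.mem_support_iff] at hj
        exact hj (by simp [hcoord, h0])
      · rwa [Finsupp.mem_support_iff]
      · simp [hcoord, hzi]
    omega
  have hrat : ∀ j, B.repr z j ∈ Set.range (algebraMap K L) := fun j =>
    (InfiniteGalois.mem_range_algebraMap_iff_fixed _).2 fun γ => by rw [← hcoord, hzfix]
  choose c hc using hrat
  let a : A := ∑ j ∈ (B.repr z).support, c j • b j
  have hza : z = (1 : L) ⊗ₜ[K] a := by
    conv_lhs => rw [← B.linearCombination_repr z]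
    rw [Finsupp.linearCombination_apply, Finsupp.sum, TensorProduct.tmul_sum]
    refine Finset.sum_congr rfl fun j _ => ?_
    rw [← hc, Algebra.TensorProduct.basis_apply, algebraMap_smul, TensorProduct.tmul_smul]
  have ha0 : a ≠ 0 := by
    intro h
    rw [h, TensorProduct.tmul_zero] at hza
    rw [hza, map_zero, Finsupp.zero_apply] at hzi
    exact zero_ne_one hzi
  -- simplicity of `A`
  let T : TwoSidedIdeal A := TwoSidedIdeal.mk' {a | (1 : L) ⊗ₜ[K] a ∈ W}
    (by simp) (fun {p q} hp hq => by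
      show (1 : L) ⊗ₜ[K] (p + q) ∈ W
      rw [TensorProduct.tmul_add]; exact add_mem hp hq)
    (fun {p} hp => by
      show (1 : L) ⊗ₜ[K] (-p) ∈ W
      rw [TensorProduct.tmul_neg]; exact neg_mem hp)
    (fun {p q} hq => by simpa using (hWl ((1 : L) ⊗ₜ[K] p) _ hq).1)
    (fun {p q} hp => by simpa using (hWl ((1 : L) ⊗ₜ[K] q) _ hp).2)
  have haT : a ∈ T := by
    rw [TwoSidedIdeal.mem_mk']
    exact (hza ▸ hzW : (1 : L) ⊗ₜ[K] a ∈ W)
  have h1 : (1 : L ⊗[K] A) ∈ W := by
    rcases IsSimpleRing.simple.eq_bot_or_eq_top T with h | h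
    · exact absurd ((TwoSidedIdeal.mem_bot _).1 (h ▸ haT)) ha0
    · have : (1 : A) ∈ T := h ▸ TwoSidedIdeal.mem_top _
      rw [TwoSidedIdeal.mem_mk'] at this
      exact this
  -- some conjugate of `I` meets `J`
  obtain ⟨γ, hγ⟩ : ∃ γ, ∃ j ∈ J, j ≠ 0 ∧ (σ γ).symm j ∈ I := by
    by_contra hcon
    push_neg at hcon
    refine hJ.1 (le_antisymm (fun j hj => (TwoSidedIdeal.mem_bot _).2 ?_) bot_le)
    suffices ∀ w ∈ W, j * w = 0 by simpa using this 1 h1
    intro w hw
    induction hw using Submodule.span_induction with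
    | mem w hw =>
      obtain ⟨γ, i, hi, rfl⟩ := Set.mem_iUnion.1 hw
      by_contra hne
      refine hcon γ _ (J.mul_mem_right _ _ hj) hne ?_
      rw [map_mul, AlgEquiv.symm_apply_apply]
      exact I.mul_mem_left _ _ hi
    | zero => simp
    | add y z _ _ hy hz => rw [mul_add, hy, hz, add_zero]
    | smul c y _ hy => rw [mul_smul_comm, hy, smul_zero]
  obtain ⟨j, hj, hj0, hjI⟩ := hγ
  let J' : TwoSidedIdeal (L ⊗[K] A) := J.comap (σ γ)
  have hmem : ∀ x, x ∈ J' ↔ σ γ x ∈ J := fun x => TwoSidedIdeal.mem_comap _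
  have h2 : J' ⊓ I = I := by
    rcases hI.le_iff.1 (inf_le_right : J' ⊓ I ≤ I) with h | h
    · have : (σ γ).symm j ∈ J' ⊓ I := ⟨(hmem _).2 (by rwa [AlgEquiv.apply_symm_apply]), hjI⟩
      rw [h, TwoSidedIdeal.mem_bot] at this
      exact absurd ((σ γ).symm.injective (this.trans (map_zero _).symm)) hj0
    · exact h
  let I' : TwoSidedIdeal (L ⊗[K] A) := I.comap (σ γ).symm
  have h3 : I' ≤ J := fun x hx => by
    have hx' : (σ γ).symm x ∈ J' ⊓ I := h2.symm ▸ (TwoSidedIdeal.mem_comap _).1 hx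
    simpa using (hmem _).1 hx'.1
  have h4 : I' = J := by
    rcases hJ.le_iff.1 h3 with h | h
    · have : j ∈ I' := (TwoSidedIdeal.mem_comap _).2 hjI
      rw [h, TwoSidedIdeal.mem_bot] at this
      exact absurd this hj0
    · exact h
  refine ⟨γ, Set.ext fun x => ?_⟩
  rw [← h4]
  constructor
  · intro hx
    exact ⟨_, (TwoSidedIdeal.mem_comap _).1 hx, by rw [← hσ, AlgEquiv.apply_symm_apply]⟩
  · rintro ⟨i, hi, rfl⟩
    refine (TwoSidedIdeal.mem_comap _).2 ?_
    rwa [← hσ, AlgEquiv.symm_apply_apply]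

end Groth.Agent.S14846
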