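import Groth.Statements.S14847
import Groth.Agent.Comod.Cosemisimple

set_option autoImplicit false
universe u v
open HopfRep

namespace Groth.Agent.S14847

open TensorProduct in
/-- When K is a field of characteristic zero and G = Spec A is a finite group scheme over K, the
coordinate Hopf algebra A is cosemisimple, i.e. A is the internal direct sum of simple
subcoalgebras. Here a subcoalgebra of A is a subspace B whose comultiplication lands in the image of
B ⊗ B, and a simple subcoalgebra is a nonzero subcoalgebra D whose only subcoalgebras contained in D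
are 0 and D. -/
theorem result {K : Type u} {A : Type v} [Field K] [CharZero K]
    [CommRing A] [HopfAlgebra K A] [Module.Finite K A] :
    ∃ (ι : Type v) (D : ι → Submodule K A), iSupIndep D ∧ iSup D = ⊤ ∧ ∀ i,
        D i ≠ ⊥ ∧ (∀ b ∈ (D i), CoalgebraStruct.comul (R := K) b ∈ LinearMap.range (TensorProduct.map (D i).subtype (D i).subtype)) ∧
        ∀ B : Submodule K A, B ≤ D i → (∀ b ∈ B, CoalgebraStruct.comul (R := K) b ∈ LinearMap.range (TensorProduct.map B.subtype B.subtype)) → B = ⊥ ∨ B = D i := by
  classical
  have : Nontrivial A := (Bialgebra.counitAlgHom K A).toRingHom.domain_nontrivial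
  let N : K := (Module.finrank K A : K)
  have hN : N ≠ 0 := Nat.cast_ne_zero.mpr (Module.finrank_pos).ne'
  let l : A →ₗ[K] K := N⁻¹ • Algebra.trace K A
  have h1 : l 1 = 1 := by
    have : Algebra.trace K A (1 : A) = N := by
      rw [← map_one (algebraMap K A), Algebra.trace_algebraMap]
      simp [N]
    simp [l, this, hN]
  have hl : ∀ a, TensorProduct.rid K A (l.lTensor A (Coalgebra.comul a)) = algebraMap K A (l a) := by
    intro a
    have := Groth.Agent.Comod.trace_integral (k := K) a
    simp [l, LinearMap.lTensor_smul, this, Algebra.smul_def]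
  obtain ⟨s, hs, hsup, hmem⟩ := Groth.Agent.Comod.exists_decomposition_subcoalg (A := A) (k := K)
    (fun {D} hD => Groth.Agent.Comod.exists_isCompl_subcoalg h1 hl hD) (D := ⊤)
    (fun b _ => by
      rw [LinearMap.range_eq_top.mpr
        (TensorProduct.map_surjective (fun x => ⟨⟨x, trivial⟩, rfl⟩) (fun x => ⟨⟨x, trivial⟩, rfl⟩))]
      exact Submodule.mem_top)
  refine ⟨s, fun i => (i : Submodule K A), hs.independent, ?_, fun i => hmem _ i.2⟩
  rw [← hsup, Finset.sup_eq_iSup, iSup_subtype']
  rfl

end Groth.Agent.S14847
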