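import Groth.Statements.S14848
import Mathlib

set_option autoImplicit false
universe u v
open McKay

namespace Groth.Agent.S14848

/-- Let K be a field of characteristic zero, L an extension field of K and ξ ∈ L a primitive n-th root
of unity (n ≥ 1) with ξ + ξ⁻¹ ∈ K, say ξ + ξ⁻¹ = 2c with c ∈ K (the character of the natural
two-dimensional representation of the cyclic group of order n takes values in K). Then the cyclic
group of order n is realisable over K as a subgroup of SL(2, K): there is an element of SL(2, K) of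
order n. -/
theorem result {K : Type u} {L : Type v} [Field K] [Field L]
    [CharZero K] [Algebra K L] (n : ℕ) (hn : 1 ≤ n) (ξ : L) (hξ : IsPrimitiveRoot ξ n) (c : K)
    (hc : algebraMap K L (2 * c) = ξ + ξ⁻¹) :
    ∃ M : Matrix.SpecialLinearGroup (Fin 2) K, orderOf M = n := by
  classical
  rcases (show n = 1 ∨ n = 2 ∨ 3 ≤ n by omega) with rfl | rfl | hn3
  · exact ⟨1, orderOf_one⟩
  · refine ⟨⟨-1, by simp [Matrix.det_fin_two]⟩, orderOf_eq_prime ?_ ?_⟩
    · exact Subtype.ext (by simp [pow_two])
    · intro h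
      have := congrFun (congrFun (congrArg Subtype.val h) 0) 0
      norm_num at this
  have hξ0 : ξ ≠ 0 := hξ.ne_zero (by omega)
  have hne : ξ ≠ ξ⁻¹ := fun h => by
    have h2 : ξ ^ 2 = 1 := by rw [sq]; nth_rewrite 2 [h]; exact mul_inv_cancel₀ hξ0
    have := Nat.le_of_dvd two_pos (hξ.dvd_of_pow_eq_one 2 h2)
    omega
  let M : Matrix.SpecialLinearGroup (Fin 2) K := ⟨!![2 * c, -1; 1, 0], by simp [Matrix.det_fin_two]⟩
  set N : Matrix (Fin 2) (Fin 2) L := (algebraMap K L).mapMatrix M.1 with hN
  let P : Matrix (Fin 2) (Fin 2) L := !![ξ, ξ⁻¹; 1, 1]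
  have hP : IsUnit P.det := by simp [P, Matrix.det_fin_two, sub_eq_zero, hne]
  have hNP : N * P = P * Matrix.diagonal ![ξ, ξ⁻¹] := by
    have hc' : algebraMap K L 2 * algebraMap K L c = ξ + ξ⁻¹ := by rw [← map_mul]; exact hc
    refine Matrix.ext fun i j => ?_
    fin_cases i <;> fin_cases j <;>
      simp [hN, M, P, Matrix.mul_apply, Fin.sum_univ_two, map_ofNat] <;> rw [map_ofNat] at hc' <;> field_simp at hc' ⊢ <;> linear_combination hc'
  have hpow : ∀ k : ℕ, N ^ k * P = P * Matrix.diagonal (fun i => ![ξ, ξ⁻¹] i ^ k) := fun k => by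
    induction k with
    | zero => simp
    | succ k ih =>
      rw [pow_succ', Matrix.mul_assoc, ih, ← Matrix.mul_assoc, hNP, Matrix.mul_assoc, Matrix.diagonal_mul_diagonal]
      exact congrArg _ (congrArg _ (funext fun i => (pow_succ' _ _).symm))
  refine ⟨M, (orderOf_eq_iff (by omega)).2 ⟨?_, fun k hk hk0 h => ?_⟩⟩
  · have h1 : N ^ n = 1 := by
      have h1 := hpow n
      rw [show (fun i => ![ξ, ξ⁻¹] i ^ n) = 1 from funext fun i => by fin_cases i <;> simp [hξ.pow_eq_one],
        show Matrix.diagonal (1 : Fin 2 → L) = 1 from Matrix.diagonal_one, Matrix.mul_one] at h1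
      calc N ^ n = N ^ n * P * P⁻¹ := by rw [Matrix.mul_assoc, Matrix.mul_nonsing_inv P hP, Matrix.mul_one]
        _ = 1 := by rw [h1, Matrix.mul_nonsing_inv P hP]
    rw [hN, ← map_pow, ← map_one (algebraMap K L).mapMatrix] at h1
    exact Subtype.ext (by simpa using Matrix.map_injective (algebraMap K L).injective h1)
  · have hMk : M.1 ^ k = 1 := by simpa using congrArg Subtype.val h
    have h1 := hpow k
    rw [hN, ← map_pow, hMk, map_one, Matrix.one_mul] at h1
    have h2 := congrFun (congrFun h1 1) 0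
    simp [P, Matrix.mul_apply, Fin.sum_univ_two] at h2
    exact absurd (Nat.le_of_dvd hk0 (hξ.dvd_of_pow_eq_one k h2.symm)) (by omega)

end Groth.Agent.S14848
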