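import Groth.Statements.S14849
import Mathlib

set_option autoImplicit false
universe u v
open McKay

namespace Groth.Agent.S14849

/-- Let K be a field of characteristic zero, L an extension field of K, n ≥ 2, and ξ ∈ L a primitive
2n-th root of unity with ξ + ξ⁻¹ = 2c for some c ∈ K. If the Hilbert symbol of -1 and c² - 1 over K
equals 1, i.e. x² - (c² - 1) y² = -1 has a solution in K, then the binary dihedral group of order 4n
(generators σ, τ with τ² = σⁿ = (τσ)²) is isomorphic to a subgroup of SL(2, K). (The published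
statement is an equivalence; this row is the direction realising the group from a solution of the
conic.) -/
theorem result {K : Type u} {L : Type v}
    [Field K] [Field L] [CharZero K] [Algebra K L] (n : ℕ) (hn : 2 ≤ n) (ξ : L)
    (hξ : IsPrimitiveRoot ξ (2 * n)) (c : K) (hc : algebraMap K L (2 * c) = ξ + ξ⁻¹)
    (hsol : ∃ x y : K, x ^ 2 - (c ^ 2 - 1) * y ^ 2 = -1) :
    ∃ f : QuaternionGroup n →* Matrix.SpecialLinearGroup (Fin 2) K, Function.Injective f := by
  obtain ⟨x, y, hxy⟩ := hsol
  have hξ0 : ξ ≠ 0 := hξ.ne_zero (by omega)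
  let σ : Matrix.SpecialLinearGroup (Fin 2) K := ⟨!![c, c ^ 2 - 1; 1, c], by rw [Matrix.det_fin_two_of]; ring⟩
  let τ : Matrix.SpecialLinearGroup (Fin 2) K := ⟨!![x, -(c ^ 2 - 1) * y; y, -x], by
    rw [Matrix.det_fin_two_of]; linear_combination -hxy⟩
  have hm : ∀ m : ℕ, ((σ ^ m : Matrix.SpecialLinearGroup (Fin 2) K) : Matrix (Fin 2) (Fin 2) K).map (algebraMap K L) *
      !![ξ - algebraMap K L c, ξ⁻¹ - algebraMap K L c; 1, 1] =
      !![ξ - algebraMap K L c, ξ⁻¹ - algebraMap K L c; 1, 1] * !![ξ ^ m, 0; 0, ξ⁻¹ ^ m] := by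
    intro m
    induction m with
    | zero => ext i j; fin_cases i <;> fin_cases j <;> simp [Matrix.mul_apply, Fin.sum_univ_two, Matrix.one_apply]
    | succ m ih =>
      rw [pow_succ, Matrix.SpecialLinearGroup.coe_mul, Matrix.map_mul, Matrix.mul_assoc]
      have h1 : (σ : Matrix (Fin 2) (Fin 2) K).map (algebraMap K L) *
          !![ξ - algebraMap K L c, ξ⁻¹ - algebraMap K L c; 1, 1] =
          !![ξ - algebraMap K L c, ξ⁻¹ - algebraMap K L c; 1, 1] * !![ξ, 0; 0, ξ⁻¹] := by
        have h2 : 2 * algebraMap K L c = ξ + ξ⁻¹ := by rw [← hc, map_mul, map_ofNat]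
        have h3 : ξ * ξ⁻¹ = 1 := mul_inv_cancel₀ hξ0
        ext i j
        fin_cases i <;> fin_cases j <;> simp [σ, Matrix.mul_apply, Fin.sum_univ_two]
        · linear_combination ξ * h2 + h3
        · linear_combination ξ⁻¹ * h2 + h3
      rw [h1, ← Matrix.mul_assoc, ih, Matrix.mul_assoc]
      congr 1
      ext i j
      fin_cases i <;> fin_cases j <;> simp [Matrix.mul_apply, Fin.sum_univ_two, pow_succ]
  have hne : ξ ≠ ξ⁻¹ := fun h => by
    have h2 : ξ ^ 2 = 1 := by
      have := mul_inv_cancel₀ hξ0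
      rw [← h] at this
      rw [sq, this]
    have := (hξ.pow_eq_one_iff_dvd 2).1 h2
    exact absurd (Nat.le_of_dvd two_pos this) (by omega)
  have hone : ∀ m : ℕ, σ ^ m = 1 ↔ ξ ^ m = 1 := by
    intro m
    constructor
    · intro h
      have := congrFun (congrFun (hm m) 1) 0
      simpa [h, Matrix.mul_apply, Fin.sum_univ_two, Matrix.one_apply] using this.symm
    · intro h
      let P : Matrix (Fin 2) (Fin 2) L := !![ξ - algebraMap K L c, ξ⁻¹ - algebraMap K L c; 1, 1]
      have hP : IsUnit P.det := by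
        rw [isUnit_iff_ne_zero, Matrix.det_fin_two_of]
        intro h0
        exact hne (by linear_combination h0)
      have h1 : ((σ ^ m : Matrix.SpecialLinearGroup (Fin 2) K) : Matrix (Fin 2) (Fin 2) K).map (algebraMap K L) * P = 1 * P := by
        rw [hm, inv_pow, h, inv_one, Matrix.one_mul]
        have : (!![1, 0; 0, 1] : Matrix (Fin 2) (Fin 2) L) = 1 := Matrix.one_fin_two.symm
        rw [this, Matrix.mul_one]
      have h2 := congrArg (· * P⁻¹) h1
      simp only [Matrix.mul_assoc, Matrix.mul_nonsing_inv _ hP, Matrix.mul_one] at h2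
      refine Subtype.ext (Matrix.map_injective (algebraMap K L).injective (h2.trans ?_))
      simp
  have hn1 : σ ^ n ≠ 1 := fun h => hξ.pow_ne_one_of_pos_of_lt (by omega) (by omega) ((hone n).1 h)
  have h2n : σ ^ (2 * n) = 1 := (hone _).2 hξ.pow_eq_one
  have hinv : ∀ g : Matrix.SpecialLinearGroup (Fin 2) K, g * g = 1 → g ≠ 1 →
      (g : Matrix (Fin 2) (Fin 2) K) = -1 := by
    intro g hg hg1
    have h1 : g⁻¹ = g := inv_eq_of_mul_eq_one_right hg
    have h2 : Matrix.adjugate (g : Matrix (Fin 2) (Fin 2) K) = g := by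
      rw [← Matrix.SpecialLinearGroup.coe_inv, h1]
    rw [Matrix.adjugate_fin_two] at h2
    have e00 := congrFun (congrFun h2 0) 0
    have e01 := congrFun (congrFun h2 0) 1
    have e10 := congrFun (congrFun h2 1) 0
    simp at e00 e01 e10
    have b0 : g.1 0 1 = 0 := by linear_combination (-1 / 2 : K) * e01
    have c0 : g.1 1 0 = 0 := by linear_combination (-1 / 2 : K) * e10
    have hd := g.2
    rw [Matrix.det_fin_two, b0, e00, zero_mul, sub_zero] at hd
    rcases mul_self_eq_one_iff.1 hd with h | h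
    · refine absurd (Subtype.ext ?_) hg1
      ext i j
      fin_cases i <;> fin_cases j <;> simp [b0, c0, h, e00]
    · ext i j
      fin_cases i <;> fin_cases j <;> simp [b0, c0, h, e00]
  have hτ : τ * τ = σ ^ n := by
    refine Subtype.ext ?_
    rw [hinv _ (by rw [← pow_add, ← two_mul, h2n]) hn1]
    show (τ : Matrix (Fin 2) (Fin 2) K) * (τ : Matrix (Fin 2) (Fin 2) K) = -1
    ext i j
    fin_cases i <;> fin_cases j <;> simp [τ, Matrix.SpecialLinearGroup.coe_mul, Matrix.mul_apply, Fin.sum_univ_two]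
    · linear_combination hxy
    · ring
    · ring
    · linear_combination hxy
  have hcomm : σ * τ * σ = τ := by
    refine Subtype.ext ?_
    show (σ : Matrix (Fin 2) (Fin 2) K) * (τ : Matrix (Fin 2) (Fin 2) K) * (σ : Matrix (Fin 2) (Fin 2) K) =
      (τ : Matrix (Fin 2) (Fin 2) K)
    ext i j
    fin_cases i <;> fin_cases j <;> simp [σ, τ, Matrix.SpecialLinearGroup.coe_mul, Matrix.mul_apply, Fin.sum_univ_two] <;> ring
  let φ : ZMod (2 * n) →+ Additive (Matrix.SpecialLinearGroup (Fin 2) K) :=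
    ZMod.lift (2 * n) ⟨zmultiplesHom _ (Additive.ofMul σ), by
      rw [zmultiplesHom_apply, natCast_zsmul, ← ofMul_pow, h2n, ofMul_one]⟩
  let z : ZMod (2 * n) → Matrix.SpecialLinearGroup (Fin 2) K := fun i => (φ i).toMul
  have hz : ∀ i j, z (i + j) = z i * z j := fun i j => by simp [z]
  have hz' : ∀ m : ℤ, z (m : ZMod (2 * n)) = σ ^ m := fun m => by simp [z, φ]
  have hzn : z (n : ZMod (2 * n)) = σ ^ n := by
    rw [← Int.cast_natCast, hz', zpow_natCast]
  have hzτ : ∀ i, z i * τ = τ * z (-i) := by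
    intro i
    obtain ⟨m, rfl⟩ := ZMod.intCast_surjective i
    have hs : SemiconjBy τ σ⁻¹ σ := by
      show τ * σ⁻¹ = σ * τ
      rw [mul_inv_eq_iff_eq_mul, hcomm]
    rw [← Int.cast_neg, hz', hz', zpow_neg, ← inv_zpow]
    exact (hs.zpow_right m).symm
  let f : QuaternionGroup n →* Matrix.SpecialLinearGroup (Fin 2) K := MonoidHom.mk'
    (fun q => match q with | .a i => z i | .xa i => τ * z i) (by
      rintro (i | i) (j | j)
      · exact hz i j
      · show τ * z (j - i) = z i * (τ * z j)
        rw [← mul_assoc, hzτ, mul_assoc, ← hz, neg_add_eq_sub]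
      · show τ * z (i + j) = τ * z i * z j
        rw [hz, mul_assoc]
      · show z ((n : ZMod (2 * n)) + j - i) = τ * z i * (τ * z j)
        rw [← mul_assoc, mul_assoc τ (z i), hzτ, ← mul_assoc, hτ, mul_assoc, ← hz, ← hzn, ← hz]
        congr 1; abel)
  refine ⟨f, (injective_iff_map_eq_one f).2 ?_⟩
  rintro (i | i) h
  · change z i = 1 at h
    have : NeZero (2 * n) := ⟨by omega⟩
    obtain ⟨m, rfl⟩ := ZMod.natCast_zmod_surjective i
    rw [← Int.cast_natCast, hz', zpow_natCast] at h
    rw [← QuaternionGroup.a_zero, (ZMod.natCast_eq_zero_iff _ _).2 ((hξ.pow_eq_one_iff_dvd m).1 ((hone m).1 h))]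
  · exfalso
    change τ * z i = 1 at h
    have h1 : τ = z (-i) := by
      have e : z i * z (-i) = 1 := by rw [← hz, add_neg_cancel]; simp [z]
      have := congrArg (· * z (-i)) h
      simp only [mul_assoc, e, mul_one, one_mul] at this
      exact this
    have h2 : σ * τ = τ * σ := by
      obtain ⟨m, hm'⟩ := ZMod.intCast_surjective (-i)
      rw [h1, ← hm', hz']
      exact (Commute.refl σ).zpow_right m
    have h3 : τ * σ * σ = τ := by rw [← h2, hcomm]
    have h4 : σ * σ = 1 := mul_left_cancel (a := τ) (by rw [mul_one, ← mul_assoc, h3])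
    have h5 := (hone 2).1 (by rw [sq]; exact h4)
    exact absurd (Nat.le_of_dvd two_pos ((hξ.pow_eq_one_iff_dvd 2).1 h5)) (by omega)

end Groth.Agent.S14849
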