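import Groth.Statements.S1485
import Groth.Agent.TopH1.Near
import Groth.Agent.W7FlatBC.Sections
-- import your own Groth.Agent.* helpers here

set_option autoImplicit false
universe u
open FlatMor

set_option linter.style.haveILetI false
set_option backward.isDefEq.respectTransparency false
set_option backward.isDefEq.respectTransparency.types false
set_option maxHeartbeats 1000000
open scoped TensorProduct

namespace Groth.Agent.S1485

open AlgebraicGeometry CategoryTheory Limits in
/-- Let f : X → Y be proper and y a point with fibre of dimension ≤ 1. Suppose there is a morphism g :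
Y' → Y whose image contains y such that, for the base change f' : X' → Y', H^1 of the structure
sheaf vanishes over the preimage of every affine open of Y' (that is, R^1 f'_* O = 0; taking g the
identity covers the case R^1 f_* O_X = 0). Then H^1(X_y, O_{X_y}) = 0. -/
theorem result {X Y Y' : Scheme.{u}} (f : X ⟶ Y) [IsProper f] (y : Y) (hdim : topologicalKrullDim ↑(f.fiber y) ≤ 1)
    (g : Y' ⟶ Y) (hy : y ∈ Set.range ⇑g)
    (hR1 : ∀ U : Y'.Opens, IsAffineOpen U → Subsingleton (Coh.HHon (pullback f g) (Coh.structureModule (pullback f g)) (pullback.snd f g ⁻¹ᵁ U) 1)) :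
    Subsingleton (Coh.HH (f.fiber y) (Coh.structureModule (f.fiber y)) 1) := by
  obtain ⟨y', rfl⟩ := hy
  obtain ⟨V, hV, hyV, hVW⟩ := exists_isAffineOpen_mem_and_subset (X := Y) (x := g y')
    (U := ⟨_, Groth.Agent.S0403.result f ((1 : ℕ) : WithBot ℕ∞)⟩) hdim
  obtain ⟨U, hU, hyU, hUV⟩ := exists_isAffineOpen_mem_and_subset (X := Y') (x := y') (U := g ⁻¹ᵁ V) hyV
  let W := pullback.snd f g ⁻¹ᵁ U
  letI : W.toScheme.Over (Spec (CommRingCat.of Γ(Y', U))) := ⟨((pullback.snd f g) ∣_ U) ≫ hU.isoSpec.hom⟩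
  haveI : IsProper (W.toScheme ↘ Spec (CommRingCat.of Γ(Y', U))) :=
    inferInstanceAs (IsProper (((pullback.snd f g) ∣_ U) ≫ hU.isoSpec.hom))
  -- vanishing in degree two on `W`
  let r : U.toScheme ⟶ V.toScheme := g.resLE V U hUV
  have hXV := (isPullback_morphismRestrict f V).flip
  have big : IsPullback (W.ι ≫ pullback.fst f g) ((pullback.snd f g) ∣_ U) f (r ≫ V.ι) := by
    rw [g.resLE_comp_ι hUV]
    exact (isPullback_morphismRestrict (pullback.snd f g) U).flip.paste_horiz (IsPullback.of_hasPullback f g)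
  let j : W.toScheme ⟶ (f ⁻¹ᵁ V).toScheme := hXV.lift (W.ι ≫ pullback.fst f g) (((pullback.snd f g) ∣_ U) ≫ r)
    (by rw [Category.assoc]; exact big.w)
  have hj : j ≫ (f ⁻¹ᵁ V).ι = W.ι ≫ pullback.fst f g := hXV.lift_fst _ _ _
  have sq₀ : IsPullback j ((pullback.snd f g) ∣_ U) (f ∣_ V) r :=
    IsPullback.of_right (hj ▸ big) (hXV.lift_snd _ _ _) hXV
  haveI : IsAffine V.toScheme := hV
  haveI : IsAffine U.toScheme := hU
  haveI : IsAffineHom j := MorphismProperty.of_isPullback (P := @IsAffineHom) sq₀.flip inferInstance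
  have hvan : ∀ M : W.toScheme.Modules, Coh.IsQCoh M → Subsingleton (Coh.HH W.toScheme M (1 + 1)) := fun M hM => by
    haveI := hM
    refine Groth.Agent.FibVan.subsingleton_hh_push j M _ ?_
    refine Groth.Agent.FibVan.subsingleton_hh_affine ((f ∣_ V) ≫ hV.isoSpec.hom) 1 (fun b => ?_) _
      (Groth.Agent.QC.isQCoh_pushforward j) (1 + 1) (by norm_num)
    have hW : IsPullback (f ⁻¹ᵁ V).ι ((f ∣_ V) ≫ hV.isoSpec.hom) f hV.fromSpec :=
      IsPullback.of_iso hXV (Iso.refl _) (Iso.refl _) hV.isoSpec (Iso.refl _)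
        ((Category.comp_id _).trans (Category.id_comp _).symm) ((Category.id_comp _).symm) (by simp) (by simp)
    rw [Groth.Agent.DimField.dim_fiber_eq_of_isPullback hW b]
    exact hVW (hV.range_fromSpec.subset ⟨b, rfl⟩)
  -- the fibre over `y'`
  let k := Y.residueField (g y')
  let K := Y'.residueField y'
  letI : Algebra k K := (g.residueFieldMap y').hom.toAlgebra
  letI : (f.fiber (g y')).Over (Spec (CommRingCat.of k)) := ⟨f.fiberToSpecResidueField (g y')⟩
  let ψ : Spec (CommRingCat.of K) ⟶ Spec (CommRingCat.of k) := Spec.map (CommRingCat.ofHom (algebraMap k K))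
  let Z := pullback ((f.fiber (g y')) ↘ Spec (CommRingCat.of k)) ψ
  letI : Z.Over (Spec (CommRingCat.of K)) := ⟨pullback.snd _ ψ⟩
  have hψ : ψ ≫ Y.fromSpecResidueField (g y') = Y'.fromSpecResidueField y' ≫ g :=
    Scheme.Hom.SpecMap_residueFieldMap_fromSpecResidueField g y'
  have hZ : IsPullback (pullback.fst _ ψ ≫ f.fiberι (g y')) (Z ↘ Spec (CommRingCat.of K)) f
      (Y'.fromSpecResidueField y' ≫ g) := by
    rw [← hψ]
    exact (IsPullback.of_hasPullback _ ψ).paste_horiz (IsPullback.of_hasPullback f (Y.fromSpecResidueField (g y')))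
  let a : Spec (CommRingCat.of K) ⟶ U.toScheme := IsOpenImmersion.lift U.ι (Y'.fromSpecResidueField y') (by
    rintro _ ⟨z, rfl⟩; exact ⟨⟨y', hyU⟩, (Scheme.fromSpecResidueField_apply y' z).symm⟩)
  have ha : a ≫ U.ι = Y'.fromSpecResidueField y' := IsOpenImmersion.lift_fac _ _ _
  have hWf := (isPullback_morphismRestrict (pullback.snd f g) U).flip.paste_horiz (IsPullback.of_hasPullback f g)
  have hw : (pullback.fst _ ψ ≫ f.fiberι (g y')) ≫ f = ((Z ↘ Spec (CommRingCat.of K)) ≫ a) ≫ U.ι ≫ g := by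
    rw [hZ.w, Category.assoc, reassoc_of% ha]
  let l : Z ⟶ W.toScheme := hWf.lift _ _ hw
  have sqZ : IsPullback l (Z ↘ Spec (CommRingCat.of K)) ((pullback.snd f g) ∣_ U) a := by
    refine IsPullback.of_right ?_ (hWf.lift_snd _ _ hw) hWf
    rw [show l ≫ (W.ι ≫ pullback.fst f g) = pullback.fst _ ψ ≫ f.fiberι (g y') from hWf.lift_fst _ _ hw,
      show a ≫ U.ι ≫ g = Y'.fromSpecResidueField y' ≫ g by rw [reassoc_of% ha]]
    exact hZ
  letI : Algebra Γ(Y', U) K := (Spec.preimage (a ≫ hU.isoSpec.hom)).hom.toAlgebra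
  have hφ : Spec.map (CommRingCat.ofHom (algebraMap Γ(Y', U) K)) = a ≫ hU.isoSpec.hom := Spec.map_preimage _
  have sq : IsPullback l (Z ↘ Spec (CommRingCat.of K)) (W.toScheme ↘ Spec (CommRingCat.of Γ(Y', U)))
      (Spec.map (CommRingCat.ofHom (algebraMap Γ(Y', U) K))) := by
    rw [hφ]
    exact sqZ.of_iso (Iso.refl _) (Iso.refl _) (Iso.refl _) hU.isoSpec
      ((Category.comp_id _).trans (Category.id_comp _).symm) ((Category.comp_id _).trans (Category.id_comp _).symm)
      (Category.id_comp _).symm (Category.id_comp _).symm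
  have h0 := Groth.Agent.TopH1.subsingleton_hh_bc Γ(Y', U) K l sq 1 hvan
    (Groth.Agent.CohQC.hh_subsingleton_of_iso (Scheme.Modules.restrictUnitIso W.ι) 1 (hR1 U hU))
  -- descend along the field extension
  haveI : CompactSpace (f.fiber (g y')) :=
    QuasiCompact.compactSpace_of_compactSpace ((f.fiber (g y')) ↘ Spec (CommRingCat.of k))
  haveI : IsProper ((f.fiber (g y')) ↘ Spec (CommRingCat.of k)) :=
    MorphismProperty.of_isPullback (P := @IsProper) (IsPullback.of_hasPullback f (Y.fromSpecResidueField (g y'))) inferInstance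
  haveI : QuasiSeparatedSpace (f.fiber (g y')) :=
    quasiSeparatedSpace_of_quasiSeparated ((f.fiber (g y')) ↘ Spec (CommRingCat.of k))
  let pZ : Z ⟶ f.fiber (g y') := pullback.fst ((f.fiber (g y')) ↘ Spec (CommRingCat.of k)) ψ
  have hpZ : IsPullback pZ (Z ↘ Spec (CommRingCat.of K)) ((f.fiber (g y')) ↘ Spec (CommRingCat.of k))
      (Spec.map (CommRingCat.ofHom (algebraMap k K))) := IsPullback.of_hasPullback _ _
  obtain ⟨e⟩ := Groth.Agent.W7FlatBC.nonempty_hh_baseChange k K pZ hpZ
    (Coh.structureModule (f.fiber (g y'))) (Groth.Agent.QC.isQCoh_unit _) 1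
  haveI := Groth.Agent.CohQC.hh_subsingleton_of_iso (PicLoc.pullbackStructureIso (pullback.fst _ ψ)).symm 1 h0
  haveI : Subsingleton (K ⊗[k] Coh.HH (f.fiber (g y')) (Coh.structureModule (f.fiber (g y'))) 1) :=
    e.toEquiv.subsingleton
  by_contra hne
  rw [not_subsingleton_iff_nontrivial] at hne
  haveI := Module.FaithfullyFlat.lTensor_nontrivial k K (Coh.HH (f.fiber (g y')) (Coh.structureModule (f.fiber (g y'))) 1)
  exact not_nontrivial (K ⊗[k] Coh.HH (f.fiber (g y')) (Coh.structureModule (f.fiber (g y'))) 1) ‹_›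

end Groth.Agent.S1485
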