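import Groth.Statements.S14850
import Groth.Agent.Comod.Transfer

set_option autoImplicit false
universe u v
open HopfRep

namespace Groth.Agent.S14850

open Groth.Agent.Comod
open scoped Groth.Agent.Comod

open TensorProduct in
/-- Over a field K, a nonzero coalgebra C is simple if and only if C is isotypic as a right comodule
over itself, i.e. C is the internal direct sum of the images of a family of injective comodule maps
from one simple right C-comodule E. Here a subcoalgebra of C is a subspace B whose comultiplication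
lands in the image of B ⊗ B, and C is simple when its only subcoalgebras are 0 and C. (Stated for
the right regular comodule; the published statement allows left or right.) -/
theorem result {K : Type u} {C : Type v} [Field K] [AddCommGroup C]
    [Module K C] [Coalgebra K C] [Nontrivial C] :
    (∀ B : Submodule K C, (∀ b ∈ B, CoalgebraStruct.comul (R := K) b ∈ LinearMap.range (TensorProduct.map B.subtype B.subtype)) → B = ⊥ ∨ B = ⊤) ↔
    ∃ (E : Type v) (_ : AddCommGroup E) (_ : Module K E) (_ : HopfRep.Comod K C E),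
      HopfRep.IsSimpleComod K C E ∧
      ∃ (ι : Type v) (f : ι → (E →ₗ[K] C)),
        (∀ i, Hoch.IsComodHom C (f i) ∧ Function.Injective (f i)) ∧
        iSupIndep (fun i => LinearMap.range (f i)) ∧ (⨆ i, LinearMap.range (f i)) = ⊤ := by
  constructor
  · intro h
    have hD : IsSimpleSubcoalg K C ⊤ :=
      ⟨top_ne_bot, fun b _ => (mem_range_map_iff _ _ _).mpr ⟨fun _ => trivial, fun _ => trivial⟩,
        fun B _ hB => h B hB⟩
    obtain ⟨T, -, hTs, -, hT⟩ := exists_simple_cf_eq hD
    have hss : IsSemisimpleModule (CDual K C) C := isSemisimple_regular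
      (ι := Unit) (D := fun _ => ⊤) (fun _ => hD) iSup_const
    obtain ⟨m, hind, hsup, hsimple⟩ := IsSemisimpleModule.exists_sSupIndep_sSup_simples_eq_top (CDual K C) C
    let cp : Set (Submodule (CDual K C) C) := {n | IsSimpleModule (CDual K C) n ∧ Nonempty (T ≃ₗ[CDual K C] n)}
    have : ∀ n : cp, IsSimpleModule (CDual K C) (n : Submodule (CDual K C) C) := fun n => n.2.1
    have hiso : ∀ n : m, Nonempty (T ≃ₗ[CDual K C] (n : Submodule (CDual K C) C)) := fun n => by
      have := hsimple _ n.2
      obtain ⟨n', ⟨-, ⟨a⟩⟩, ⟨b⟩⟩ := (n : Submodule (CDual K C) C).linearEquiv_of_le_sSup cp fun x _ =>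
        cf_le_sSup_copies T (by rw [hT]; trivial)
      exact ⟨a.trans b.symm⟩
    letI cE := ComodSub.Comod.restr (inferInstance : HopfRep.Comod K C C) (ofDSub T) (isSubcomod_ofDSub T)
    refine ⟨ofDSub T, inferInstance, inferInstance, cE, ?_, m,
      fun n => ((n : Submodule (CDual K C) C).subtype ∘ₗ (hiso n).some.toLinearMap).restrictScalars K, ?_, ?_, ?_⟩
    · rw [isSimpleComod_iff]
      let ψ : ofDSub T →ₗ[CDual K C] T :=
        { toFun := fun x => ⟨x.1, x.2⟩
          map_add' := fun _ _ => rfl
          map_smul' := fun g x => Subtype.ext (dact_restr (isSubcomod_ofDSub T) g x) }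
      exact @IsSimpleModule.congr (CDual K C) _ (ofDSub T) _ _ T _ _
        (LinearEquiv.ofBijective ψ ⟨fun x y h => Subtype.ext (congrArg Subtype.val h :), fun y => ⟨⟨y.1, y.2⟩, rfl⟩⟩) hTs
    · intro n
      refine ⟨isComodHom_iff.mpr fun g x => ?_, fun x y h => ?_⟩
      · show ((hiso n).some ⟨_, _⟩ : C) = dact K C C g ((hiso n).some ⟨x.1, x.2⟩ : C)
        rw [← dmod_smul, ← Submodule.coe_smul, ← map_smul]
        congr 2
        exact Subtype.ext (dact_restr (isSubcomod_ofDSub T) g x)
      · exact Subtype.ext (congrArg Subtype.val ((hiso n).some.injective (Subtype.ext h)) :)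
    · have : ∀ n : m, LinearMap.range (((n : Submodule (CDual K C) C).subtype ∘ₗ
          (hiso n).some.toLinearMap).restrictScalars K) = ofDSub n.1 := fun n => by
        ext x
        refine ⟨fun ⟨y, hy⟩ => hy ▸ ((hiso n).some y).2, fun hx => ⟨(hiso n).some.symm ⟨x, hx⟩, ?_⟩⟩
        show (((hiso n).some ((hiso n).some.symm ⟨x, hx⟩) : n.1) : C) = x
        rw [LinearEquiv.apply_symm_apply]
      exact ((iSupIndep_ofDSub_iff _).mpr ((sSupIndep_iff _).mp hind)).mono fun n => (this n).le
    · rw [eq_top_iff]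
      intro x _
      have hx : x ∈ ofDSub (⨆ n : m, n.1) := by
        rw [mem_ofDSub, ← sSup_eq_iSup', hsup]; trivial
      rw [ofDSub_iSup] at hx
      refine SetLike.le_def.mp (iSup_mono fun n y hy => ?_) hx
      exact ⟨(hiso n).some.symm ⟨y, hy⟩, congrArg Subtype.val ((hiso n).some.apply_symm_apply ⟨y, hy⟩)⟩
  · rintro ⟨E, _, _, _, hE, ι, f, hf, -, htop⟩ B hB
    refine (em (B = ⊥)).imp id fun hB0 => ?_
    have hEs := (isSimpleComod_iff K C E).mp hE
    let F := fun i => toDHom (f i) (hf i).1
    let eF := fun i => LinearEquiv.ofInjective (F i) (hf i).2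
    let B' := subEquiv K C C ⟨B, isSubcomod_of_subcoalgebra hB⟩
    obtain ⟨T, hTB, hTs, -⟩ := exists_simple_le (S := B') fun h => hB0 (congrArg ofDSub h)
    let s : Set (Submodule (CDual K C) C) := Set.range fun i => LinearMap.range (F i)
    have : ∀ m : s, IsSimpleModule (CDual K C) (m : Submodule (CDual K C) C) := by
      rintro ⟨m, i, rfl⟩
      exact IsSimpleModule.congr (R := CDual K C) (eF i).symm
    have hle : T ≤ sSup s := fun x _ => by
      refine SetLike.le_def.mp (?_ : (⊤ : Submodule K C) ≤ ofDSub (sSup s)) Submodule.mem_top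
      rw [← htop, iSup_le_iff]
      rintro i _ ⟨y, rfl⟩
      exact le_sSup (show LinearMap.range (F i) ∈ s from ⟨i, rfl⟩) ⟨y, rfl⟩
    obtain ⟨m, ⟨i₀, rfl⟩, ⟨e⟩⟩ := T.linearEquiv_of_le_sSup s hle
    rw [eq_top_iff, ← htop, iSup_le_iff]
    intro i
    have h1 : cf (V := C) (C := C) (ofDSub (LinearMap.range (F i))) ≤ B := by
      rw [← cf_congr T _ (e ≪≫ₗ (eF i₀).symm ≪≫ₗ eF i)]
      exact cf_le_subcoalgebra hTB hB
    rintro _ ⟨y, rfl⟩
    exact h1 (counit_mem_cf ⟨y, rfl⟩)

end Groth.Agent.S14850
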