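import Groth.Statements.S14851
import Groth.Agent.Comod.Transfer

set_option autoImplicit false
universe u v w w'
open HopfRep

namespace Groth.Agent.S14851

open Groth.Agent.Comod
open scoped Groth.Agent.Comod

open TensorProduct in
/-- The map E ↦ C(E) from isomorphism classes of simple comodules to simple subcoalgebras is injective,
that is: over a field K, two simple right comodules E, E' over a coalgebra C with the same
coefficient space D (the least subspace D' of C such that the coaction lands in E ⊗ D', resp. E' ⊗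
D') are isomorphic as comodules. (The published statement is made for a cosemisimple coalgebra and
for left comodules; the printed argument for this part uses neither restriction.) -/
theorem result {K : Type u} {C : Type v} [Field K]
    [AddCommGroup C] [Module K C] [Coalgebra K C]
    {E : Type w} [AddCommGroup E] [Module K E] [HopfRep.Comod K C E]
    {E' : Type w'} [AddCommGroup E'] [Module K E'] [HopfRep.Comod K C E']
    (hE : HopfRep.IsSimpleComod K C E) (hE' : HopfRep.IsSimpleComod K C E') (D : Submodule K C)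
    (hD : IsLeast {D' : Submodule K C |
      ∀ e : E, HopfRep.Comod.coact (k := K) (A := C) e ∈ LinearMap.range (LinearMap.lTensor E D'.subtype)} D)
    (hD' : IsLeast {D' : Submodule K C |
      ∀ e : E', HopfRep.Comod.coact (k := K) (A := C) e ∈ LinearMap.range (LinearMap.lTensor E' D'.subtype)} D) :
    ∃ e : E ≃ₗ[K] E', Hoch.IsComodHom C e.toLinearMap := by
  obtain rfl := hD.unique isLeast_cf
  have hD2 := hD'.unique isLeast_cf
  have h1 := (isSimpleComod_iff K C E).mp hE
  have h2 := (isSimpleComod_iff K C E').mp hE'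
  have i1 : IsSimpleModule (CDual K C) (⊤ : Submodule (CDual K C) E) :=
    IsSimpleModule.congr (R := CDual K C) Submodule.topEquiv
  have i2 : IsSimpleModule (CDual K C) (⊤ : Submodule (CDual K C) E') :=
    IsSimpleModule.congr (R := CDual K C) Submodule.topEquiv
  have t1 : ofDSub (⊤ : Submodule (CDual K C) E) = ⊤ := ofDSub_eq_top.mpr rfl
  have t2 : ofDSub (⊤ : Submodule (CDual K C) E') = ⊤ := ofDSub_eq_top.mpr rfl
  let B := subEquiv K C C ⟨cf (C := C) (⊤ : Submodule K E),
    isSubcomod_of_subcoalgebra (isSubcoalgebra_cf fun w _ => (mem_range_rTensor_iff _ _).mpr fun _ => trivial)⟩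
  obtain ⟨T, hTB, hT, -⟩ := exists_simple_le (S := B) fun h => by
    have := (cf_simple (⊤ : Submodule (CDual K C) E)).1
    rw [t1] at this
    exact this (congrArg ofDSub h)
  have s1 : ∀ m : {m : Submodule (CDual K C) C | IsSimpleModule (CDual K C) m ∧
      Nonempty ((⊤ : Submodule (CDual K C) E) ≃ₗ[CDual K C] m)},
      IsSimpleModule (CDual K C) (m : Submodule (CDual K C) C) := fun m => m.2.1
  have s2 : ∀ m : {m : Submodule (CDual K C) C | IsSimpleModule (CDual K C) m ∧
      Nonempty ((⊤ : Submodule (CDual K C) E') ≃ₗ[CDual K C] m)},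
      IsSimpleModule (CDual K C) (m : Submodule (CDual K C) C) := fun m => m.2.1
  obtain ⟨m₁, ⟨-, ⟨a₁⟩⟩, ⟨b₁⟩⟩ := T.linearEquiv_of_le_sSup _ (fun x hx =>
    cf_le_sSup_copies (⊤ : Submodule (CDual K C) E) (by rw [t1]; exact hTB hx))
  obtain ⟨m₂, ⟨-, ⟨a₂⟩⟩, ⟨b₂⟩⟩ := T.linearEquiv_of_le_sSup _ (fun x hx =>
    cf_le_sSup_copies (⊤ : Submodule (CDual K C) E') (by rw [t2, ← hD2]; exact hTB hx))
  let g : E ≃ₗ[CDual K C] E' := Submodule.topEquiv.symm ≪≫ₗ a₁ ≪≫ₗ b₁.symm ≪≫ₗ b₂ ≪≫ₗ a₂.symm ≪≫ₗ
    Submodule.topEquiv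
  exact ⟨g.restrictScalars K, isComodHom_ofDHom g.toLinearMap⟩

end Groth.Agent.S14851
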