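import Groth.Statements.S14852
import Groth.Agent.Comod.Transfer

set_option autoImplicit false
universe u v w w'
open HopfRep

namespace Groth.Agent.S14852

open Groth.Agent.Comod
open scoped Groth.Agent.Comod

open TensorProduct in
/-- Over a field K, let C be a cosemisimple coalgebra and D₁ ≠ D₂ simple subcoalgebras of C. If V is a
right C-comodule whose coaction lands in V ⊗ D₁ and W one whose coaction lands in W ⊗ D₂, then the
only comodule map V → W is zero. Here a subcoalgebra of C is a subspace B whose comultiplication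
lands in the image of B ⊗ B, and a simple subcoalgebra is a nonzero subcoalgebra D whose only
subcoalgebras contained in D are 0 and D; cosemisimple means C is the internal direct sum of a
family of simple subcoalgebras. (The published statement is for quasi-coherent G-sheaves on a scheme
with trivial action of G = Spec C; this row is the statement on spaces of sections to which its
proof reduces.) -/
theorem result {K : Type u} {C : Type v} [Field K]
    [AddCommGroup C] [Module K C] [Coalgebra K C]
    (hC : ∃ (ι : Type v) (D : ι → Submodule K C), iSupIndep D ∧ iSup D = ⊤ ∧ ∀ i,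
        D i ≠ ⊥ ∧ (∀ b ∈ (D i), CoalgebraStruct.comul (R := K) b ∈ LinearMap.range (TensorProduct.map (D i).subtype (D i).subtype)) ∧
        ∀ B : Submodule K C, B ≤ D i → (∀ b ∈ B, CoalgebraStruct.comul (R := K) b ∈ LinearMap.range (TensorProduct.map B.subtype B.subtype)) → B = ⊥ ∨ B = D i)
    (D₁ D₂ : Submodule K C) (hne : D₁ ≠ D₂)
    (h₁ : D₁ ≠ ⊥ ∧ (∀ b ∈ D₁, CoalgebraStruct.comul (R := K) b ∈ LinearMap.range (TensorProduct.map D₁.subtype D₁.subtype)) ∧ ∀ B : Submodule K C, B ≤ D₁ → (∀ b ∈ B, CoalgebraStruct.comul (R := K) b ∈ LinearMap.range (TensorProduct.map B.subtype B.subtype)) → B = ⊥ ∨ B = D₁)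
    (h₂ : D₂ ≠ ⊥ ∧ (∀ b ∈ D₂, CoalgebraStruct.comul (R := K) b ∈ LinearMap.range (TensorProduct.map D₂.subtype D₂.subtype)) ∧ ∀ B : Submodule K C, B ≤ D₂ → (∀ b ∈ B, CoalgebraStruct.comul (R := K) b ∈ LinearMap.range (TensorProduct.map B.subtype B.subtype)) → B = ⊥ ∨ B = D₂)
    {V : Type w} [AddCommGroup V] [Module K V] [HopfRep.Comod K C V]
    {W : Type w'} [AddCommGroup W] [Module K W] [HopfRep.Comod K C W]
    (hV : ∀ v : V, HopfRep.Comod.coact (k := K) (A := C) v ∈ LinearMap.range (LinearMap.lTensor V D₁.subtype))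
    (hW : ∀ w : W, HopfRep.Comod.coact (k := K) (A := C) w ∈ LinearMap.range (LinearMap.lTensor W D₂.subtype))
    (φ : V →ₗ[K] W) (hφ : Hoch.IsComodHom C φ) : φ = 0 := by
  refine LinearMap.ext fun v => ?_
  have hmem : ∀ ψ : W →ₗ[K] K,
      cL ψ (HopfRep.Comod.coact (k := K) (A := C) (φ v)) ∈ D₁ ⊓ D₂ := fun ψ => by
    refine ⟨?_, (mem_range_lTensor_iff _ _).mp (hW (φ v)) ψ⟩
    have h := LinearMap.congr_fun hφ v
    rw [LinearMap.comp_apply, LinearMap.comp_apply] at h
    rw [h]
    have e : ∀ t : V ⊗[K] C, cL ψ (φ.rTensor C t) = cL (ψ ∘ₗ φ) t := fun t => by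
      induction t using TensorProduct.induction_on with
      | zero => simp
      | tmul x y => simp
      | add x y hx hy => simp [hx, hy]
    rw [e]
    exact (mem_range_lTensor_iff _ _).mp (hV v) _
  have hbot : D₁ ⊓ D₂ = ⊥ := by
    refine (h₁.2.2 _ inf_le_left (isSubcoalgebra_inf h₁.2.1 h₂.2.1)).resolve_right fun h => hne ?_
    exact ((h₂.2.2 _ (inf_eq_left.mp h) h₁.2.1).resolve_left h₁.1)
  refine (Module.forall_dual_apply_eq_zero_iff K (φ v)).mp fun ψ => ?_
  have h := apply_cL_coact (1 : CDual K C) ψ (φ v)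
  rw [map_one] at h
  refine h.symm.trans ?_
  have h0 : cL ψ (HopfRep.Comod.coact (k := K) (A := C) (φ v)) = 0 := by
    rw [← Submodule.mem_bot K, ← hbot]; exact hmem ψ
  rw [h0, map_zero]

end Groth.Agent.S14852
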