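import Groth.Statements.S14855
import Groth.Agent.H4Easy.Batch24

set_option autoImplicit false
universe u
open CAlg Groth.Agent

namespace Groth.Agent.S14855

/-- Let p be a prime and R a commutative ring which is complete and separated for the p-adic topology.
Then the ring W(R) of p-typical Witt vectors of R is complete and separated for its own p-adic
topology, and it is also complete and separated for the adic topology of the ideal I_R, the kernel
of the projection of W(R) onto the zeroth Witt component. -/
theorem result (p : ℕ) [Fact p.Prime] (R : Type u) [CommRing R]
    [IsAdicComplete (Ideal.span {(p : R)}) R] :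
    IsAdicComplete (Ideal.span {(p : WittVector p R)}) (WittVector p R) ∧
      IsAdicComplete (RingHom.ker (WittVector.constantCoeff : WittVector p R →+* R)) (WittVector p R) := by
  refine ⟨H4Easy.witt_isAdicComplete_p, ?_⟩
  have : RingHom.ker (WittVector.constantCoeff : WittVector p R →+* R) = W4c1extbt610.IV p R := by
    refine le_antisymm (fun x hx => ?_) (Ideal.span_le.mpr ?_)
    · obtain ⟨y, rfl⟩ : ∃ y, WittVector.verschiebung y = x := ⟨x.shift 1, by
        refine WittVector.ext fun k => ?_
        cases k with
        | zero => exact (WittVector.verschiebung_coeff_zero _).trans (RingHom.mem_ker.mp hx).symm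
        | succ k => rw [WittVector.verschiebung_coeff_succ, WittVector.shift_coeff, Nat.add_comm]⟩
      exact Ideal.subset_span ⟨y, rfl⟩
    · rintro _ ⟨y, rfl⟩
      exact RingHom.mem_ker.mpr (WittVector.verschiebung_coeff_zero y)
  rw [this]
  exact H4Easy.witt_isAdicComplete_IV

end Groth.Agent.S14855
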