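import Groth.Statements.S14856
import Mathlib.RingTheory.WittVector.Basic

set_option autoImplicit false
universe u
open CAlg

namespace Groth.Agent.S14856

/-- Let p be a prime and S a commutative ring in which p is a non-zero-divisor. For a p-typical Witt
vector x over S, a natural number m and an integer s ≥ 1, the power p^s divides each of the Witt
components x_0, …, x_m if and only if p^(n+s) divides the n-th ghost component w_n(x) = x_0^(p^n) +
p x_1^(p^(n-1)) + ⋯ + p^n x_n for every n ≤ m. -/
theorem result (p : ℕ) [Fact p.Prime] (S : Type u) [CommRing S]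
    (hS : ∀ y : S, (p : S) * y = 0 → y = 0) (x : WittVector p S) (m s : ℕ) (hs : 1 ≤ s) :
    (∀ i ≤ m, (p : S) ^ s ∣ x.coeff i) ↔
      (∀ n ≤ m, (p : S) ^ (n + s) ∣ WittVector.ghostComponent n x) := by
  have hsum : ∀ n, WittVector.ghostComponent n x = ∑ i ∈ Finset.range (n + 1), (p : S) ^ i * x.coeff i ^ p ^ (n - i) := by
    intro n
    rw [WittVector.ghostComponent_apply, wittPolynomial_eq_sum_C_mul_X_pow, map_sum]
    simp
  have hcancel : ∀ (k : ℕ) (y : S), (p : S) ^ k * y = 0 → y = 0 := by
    intro k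
    induction k with
    | zero => intro y h; rwa [pow_zero, one_mul] at h
    | succ k ih => intro y h; rw [pow_succ, mul_assoc] at h; exact hS y (ih _ h)
  have hterm : ∀ n i, i ≤ n → (p : S) ^ s ∣ x.coeff i → (p : S) ^ (n + s) ∣ (p : S) ^ i * x.coeff i ^ p ^ (n - i) := by
    intro n i hin hd
    refine dvd_trans ?_ (mul_dvd_mul_left _ (pow_dvd_pow_of_dvd hd _))
    rw [← pow_mul, ← pow_add]
    refine pow_dvd_pow _ ?_
    obtain ⟨k, rfl⟩ := Nat.exists_eq_add_of_le hin
    rw [Nat.add_sub_cancel_left]
    have h1 : k < p ^ k := k.lt_pow_self (Fact.out : p.Prime).one_lt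
    have h2 : s * (k + 1) ≤ s * p ^ k := Nat.mul_le_mul_left s h1
    nlinarith
  constructor
  · intro h n hn
    rw [hsum]
    exact Finset.dvd_sum fun i hi => hterm n i (Nat.lt_succ_iff.1 (Finset.mem_range.1 hi)) (h i ((Nat.lt_succ_iff.1 (Finset.mem_range.1 hi)).trans hn))
  · intro h i
    induction i using Nat.strong_induction_on with
    | _ n ih =>
      intro hn
      have h1 := h n hn
      rw [hsum, Finset.sum_range_succ, Nat.sub_self, pow_zero, pow_one] at h1
      have h2 : (p : S) ^ (n + s) ∣ ∑ i ∈ Finset.range n, (p : S) ^ i * x.coeff i ^ p ^ (n - i) :=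
        Finset.dvd_sum fun i hi => hterm n i (Finset.mem_range.1 hi).le (ih i (Finset.mem_range.1 hi) ((Finset.mem_range.1 hi).le.trans hn))
      obtain ⟨c, hc⟩ := (dvd_add_right h2).1 h1
      refine ⟨c, ?_⟩
      rw [← sub_eq_zero]
      refine hcancel n _ ?_
      rw [mul_sub, hc, pow_add, mul_assoc, sub_self]

end Groth.Agent.S14856
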