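import Groth.Statements.S14857
import Mathlib.RingTheory.WittVector.Teichmuller
import Mathlib.NumberTheory.Padics.PadicIntegers
import Mathlib.Tactic.Ring

set_option autoImplicit false
open CAlg

namespace Groth.Agent.S14857

/-- For a prime p, the Teichmüller representative [p^p] of the element p^p of the p-adic integers is
divisible by p in the ring of p-typical Witt vectors W(ℤ_p). -/
theorem result (p : ℕ) [Fact p.Prime] :
    (p : WittVector p ℤ_[p]) ∣ WittVector.teichmuller p ((p : ℤ_[p]) ^ p) := by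
  let g : ℕ → ℤ_[p] := fun n => (p : ℤ_[p]) ^ (p ^ (n + 1) - 1)
  have h2 : 2 ≤ p := (Fact.out : p.Prime).two_le
  have hd : ∀ (n : ℕ) (c : ℕ → ℤ_[p]), ∃ d : ℤ_[p],
      (p : ℤ_[p]) ^ (n + 1) * d = g n - ∑ i ∈ Finset.range n, (p : ℤ_[p]) ^ i * ((p : ℤ_[p]) * c i) ^ p ^ (n - i) := by
    intro n c
    refine dvd_def.1 (dvd_sub (pow_dvd_pow _ ?_) (Finset.dvd_sum fun i hi => ?_)) |>.imp fun d hd => hd.symm
    · have : n + 1 < p ^ (n + 1) := Nat.lt_pow_self (by omega)
      omega
    · rw [Finset.mem_range] at hi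
      rw [mul_pow, ← mul_assoc, ← pow_add]
      refine dvd_mul_of_dvd_left (pow_dvd_pow _ ?_) _
      have : n - i < p ^ (n - i) := Nat.lt_pow_self (by omega)
      omega
  let G : ℕ → ℕ → ℤ_[p] := fun m => Nat.rec (fun _ => 0) (fun n Gn => Function.update Gn n (hd n Gn).choose) m
  have hG : ∀ m i, i < m → G m i = G (i + 1) i := by
    intro m
    induction m with
    | zero => intro i hi; omega
    | succ m ih =>
      intro i hi
      rcases Nat.lt_succ_iff_lt_or_eq.1 hi with h | h
      · show Function.update (G m) m _ i = _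
        rw [Function.update_of_ne h.ne]
        exact ih i h
      · rw [h]
  let w : WittVector p ℤ_[p] := WittVector.mk p fun i => (p : ℤ_[p]) * G (i + 1) i
  have hw : ∀ n, ∑ i ∈ Finset.range (n + 1), (p : ℤ_[p]) ^ i * (w.coeff i) ^ p ^ (n - i) = g n := by
    intro n
    have e1 : G (n + 1) n = (hd n (G n)).choose := Function.update_self _ _ _
    rw [Finset.sum_range_succ, Nat.sub_self, pow_zero, pow_one, WittVector.coeff_mk, e1, ← mul_assoc, ← pow_succ,
      (hd n (G n)).choose_spec, Finset.sum_congr rfl (g := fun i => (p : ℤ_[p]) ^ i * ((p : ℤ_[p]) * G n i) ^ p ^ (n - i))]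
    · ring
    · intro i hi
      rw [hG n i (Finset.mem_range.1 hi)]
  refine ⟨w, ?_⟩
  let f : ℤ_[p] →+* ℚ_[p] := PadicInt.Coe.ringHom
  haveI : Invertible (p : ℚ_[p]) := invertibleOfNonzero (Nat.cast_ne_zero.2 (Fact.out : p.Prime).ne_zero)
  apply WittVector.map_injective f (fun a b h => Subtype.coe_injective h)
  apply (WittVector.ghostMap.bijective_of_invertible p ℚ_[p]).1
  funext n
  rw [WittVector.ghostMap_apply, WittVector.ghostMap_apply, map_mul, map_natCast, map_mul, map_natCast,
    WittVector.map_teichmuller, WittVector.ghostComponent_teichmuller]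
  have e2 : WittVector.ghostComponent n (WittVector.map f w) = f (g n) := by
    rw [← hw n, WittVector.ghostComponent_apply, wittPolynomial_eq_sum_C_mul_X_pow, map_sum, map_sum]
    refine Finset.sum_congr rfl fun i _ => ?_
    simp [WittVector.map_coeff]
  rw [e2, map_pow, map_natCast, map_pow, map_natCast, ← pow_mul, ← pow_succ']
  congr 1
  have : 0 < p ^ (n + 1) := Nat.pow_pos (by omega)
  rw [← pow_succ']
  rw [Nat.sub_add_cancel this]

end Groth.Agent.S14857
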