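import Groth.Statements.S14864
import Mathlib.RingTheory.WittVector.Identities
import Mathlib.RingTheory.WittVector.Domain
import Mathlib.RingTheory.WittVector.Truncated

set_option autoImplicit false
universe u
open CAlg

namespace Groth.Agent.S14864

/-- Let p be a prime and R a commutative ring in which p is nilpotent; write W = W(R) for the p-typical
Witt vectors, I ⊆ W for the kernel of the projection onto the zeroth component, and I_n ⊆ W for the
kernel of the truncation W → W_n(R). The p-adic topology on W equals its I-adic topology — every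
power of the ideal pW contains some power of I and every power of I contains some power of pW — and
this common topology is finer than the V-adic one: every I_n contains some power of pW. -/
theorem result (p : ℕ) [Fact p.Prime] (R : Type u) [CommRing R]
    (hp : IsNilpotent (p : R)) :
    (∀ n : ℕ, ∃ m : ℕ, (RingHom.ker (WittVector.constantCoeff : WittVector p R →+* R)) ^ m ≤ Ideal.span {(p : WittVector p R)} ^ n) ∧
      (∀ n : ℕ, ∃ m : ℕ, Ideal.span {(p : WittVector p R)} ^ m ≤ (RingHom.ker (WittVector.constantCoeff : WittVector p R →+* R)) ^ n) ∧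
        ∀ n : ℕ, ∃ m : ℕ, Ideal.span {(p : WittVector p R)} ^ m ≤ RingHom.ker (WittVector.truncate (p := p) (R := R) n) := by
  obtain ⟨N, hN⟩ := hp
  have hV : ∀ x : WittVector p R, WittVector.constantCoeff x = 0 → ∃ w, x = WittVector.verschiebung w := fun x hx =>
    ⟨x.shift 1, WittVector.eq_iterate_verschiebung (n := 1) fun i hi => by
      obtain rfl : i = 0 := by omega
      exact hx⟩
  have hI2 : ∀ x y : WittVector p R, WittVector.constantCoeff x = 0 → WittVector.constantCoeff y = 0 →
      ∃ z, WittVector.constantCoeff z = 0 ∧ x * y = (p : WittVector p R) * z := by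
    intro x y hx hy
    obtain ⟨a, rfl⟩ := hV x hx
    obtain ⟨b, rfl⟩ := hV y hy
    refine ⟨WittVector.verschiebung (a * b), rfl, ?_⟩
    rw [← WittVector.verschiebung_mul_frobenius, WittVector.frobenius_verschiebung, ← mul_assoc, mul_comm (a * b) _, ← nsmul_eq_mul, ← nsmul_eq_mul, map_nsmul]
  have hpI : ((p : WittVector p R) ^ N) ∈ RingHom.ker (WittVector.constantCoeff : WittVector p R →+* R) := by
    rw [RingHom.mem_ker, map_pow, map_natCast, hN]
  refine ⟨fun n => ⟨n + 1, ?_⟩, fun n => ⟨N * n, ?_⟩, ?_⟩
  · have : ∀ m : ℕ, RingHom.ker (WittVector.constantCoeff : WittVector p R →+* R) ^ (m + 1) ≤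
        Ideal.span {(p : WittVector p R) ^ m} * RingHom.ker (WittVector.constantCoeff : WittVector p R →+* R) := by
      intro m
      induction m with
      | zero => simp
      | succ m ih =>
        rw [pow_succ]
        refine (Ideal.mul_mono ih le_rfl).trans ?_
        rw [mul_assoc, pow_succ (p : WittVector p R), ← Ideal.span_singleton_mul_span_singleton, mul_assoc]
        refine Ideal.mul_mono le_rfl (Ideal.mul_le.mpr fun x hx y hy => ?_)
        obtain ⟨z, hz, e⟩ := hI2 x y hx hy
        rw [e]
        exact Ideal.mul_mem_mul (Ideal.mem_span_singleton_self _) hz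
    exact ((this n).trans Ideal.mul_le_left).trans (Ideal.span_singleton_pow _ n).ge
  · rw [pow_mul, Ideal.span_singleton_pow]
    exact Ideal.pow_right_mono (Ideal.span_le.mpr (by simpa using hpI)) n
  · have key : ∀ n : ℕ, ∃ w : WittVector p R, (p : WittVector p R) ^ (N * n) = (fun t => WittVector.verschiebung t)^[n] w := by
      intro n
      induction n with
      | zero => exact ⟨1, by simp⟩
      | succ n ih =>
        obtain ⟨w, hw⟩ := ih
        obtain ⟨w', hw'⟩ := hV ((p : WittVector p R) ^ N * w) ((RingHom.ker _).mul_mem_right w hpI)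
        have hlin : ∀ (j : ℕ) (c : ℕ) (t : WittVector p R), (c : WittVector p R) * (fun t => WittVector.verschiebung t)^[j] t = (fun t => WittVector.verschiebung t)^[j] ((c : WittVector p R) * t) := by
          intro j c t
          induction j with
          | zero => rfl
          | succ j ihj => rw [Function.iterate_succ_apply', Function.iterate_succ_apply', ← ihj, ← nsmul_eq_mul, ← nsmul_eq_mul, map_nsmul]
        refine ⟨w', ?_⟩
        rw [mul_add, mul_one, pow_add, hw, mul_comm, ← Nat.cast_pow, hlin, Nat.cast_pow, hw', Function.iterate_succ_apply]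
    intro n
    refine ⟨N * n, ?_⟩
    obtain ⟨w, hw⟩ := key n
    rw [Ideal.span_singleton_pow, Ideal.span_singleton_le_iff_mem, WittVector.mem_ker_truncate]
    intro i hi
    rw [hw]
    exact WittVector.iterate_verschiebung_coeff_eq_zero _ hi

end Groth.Agent.S14864
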