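import Groth.Statements.S14860
import Groth.Agent.S14864
import Groth.Agent.FiltProj.Basic
import Mathlib.RingTheory.WittVector.Truncated

set_option autoImplicit false
universe u v
open CAlg

namespace Groth.Agent.S14860

/-- Let p be a prime and R a commutative ring in which p is nilpotent; write W = W(R) for the p-typical
Witt vectors and, for n ≥ 0, I_n ⊆ W for the ideal of Witt vectors whose first n components vanish
(the kernel of the truncation W → W_n(R), so W/I_n = W_n(R)). For a W-module P conditions (i) and
(ii) below are equivalent: (i) P is a projective W-module of finite type; (ii) P is separated for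
the filtration by the submodules I_n P, and for every n the W_n(R)-module P/I_n P is finitely
generated and projective. (The published statement is made for every ℤ_(p)-algebra R, the section's
standing convention; over R = ℚ, where W(ℚ) ≅ ℚ^ℕ by the ghost map, the module ⊕_ℕ ℚ satisfies (ii)
but is not finitely generated, and the published proof uses that I_1 is nilpotent in each W_n(R),
which holds when p is nilpotent in R; so p is taken nilpotent here. The third equivalent condition
of the published statement, freeness Zariski-locally on R, is not rendered.) -/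
theorem result (p : ℕ) [Fact p.Prime] (R : Type u) [CommRing R]
    (hp : IsNilpotent (p : R))
    (P : Type v) [AddCommGroup P] [Module (WittVector p R) P] :
    (Module.Finite (WittVector p R) P ∧ Module.Projective (WittVector p R) P) ↔
      ((⨅ n : ℕ, (RingHom.ker (WittVector.truncate (p := p) (R := R) n) • (⊤ : Submodule (WittVector p R) P))) = ⊥ ∧
        ∀ n : ℕ, Module.Finite (WittVector p R ⧸ RingHom.ker (WittVector.truncate (p := p) (R := R) n))
              (P ⧸ (RingHom.ker (WittVector.truncate (p := p) (R := R) n) • (⊤ : Submodule (WittVector p R) P))) ∧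
            Module.Projective (WittVector p R ⧸ RingHom.ker (WittVector.truncate (p := p) (R := R) n))
              (P ⧸ (RingHom.ker (WittVector.truncate (p := p) (R := R) n) • (⊤ : Submodule (WittVector p R) P)))) := by
  let W := WittVector p R
  let I : ℕ → Ideal W := fun n => RingHom.ker (WittVector.truncate (p := p) (R := R) n)
  have hmem : ∀ (n : ℕ) (x : W), x ∈ I n ↔ ∀ i < n, x.coeff i = 0 := fun n x => WittVector.mem_ker_truncate (p := p) n x
  have hsep : ∀ w : W, (∀ n, w ∈ I n) → w = 0 := fun w h => WittVector.ext fun j => by
    rw [WittVector.zero_coeff]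
    exact (hmem (j + 1) w).1 (h (j + 1)) j (Nat.lt_succ_self j)
  constructor
  · rintro ⟨hfin, hproj⟩
    exact ⟨Groth.Agent.FiltProj.sep_of_projective I hsep P,
      fun n => Groth.Agent.FiltProj.quot_finite_projective (I n) P⟩
  · rintro ⟨hP, hn⟩
    have hdiff : ∀ (n : ℕ) (x y : W), x - y ∈ I n ↔ ∀ i < n, x.coeff i = y.coeff i := by
      intro n x y
      rw [RingHom.sub_mem_ker_iff]
      refine ⟨fun h i hi => ?_, fun h => TruncatedWittVector.ext fun i => ?_⟩
      · have h1 := congrArg (fun t : TruncatedWittVector p n R => t.coeff ⟨i, hi⟩) h
        rw [WittVector.coeff_truncate, WittVector.coeff_truncate] at h1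
        exact h1
      · rw [WittVector.coeff_truncate, WittVector.coeff_truncate]
        exact h i i.2
    refine Groth.Agent.FiltProj.finite_projective_of_filtration I
      (fun w => (hmem 0 w).2 fun i hi => absurd hi (Nat.not_lt_zero i))
      (fun m n h x hx => (hmem m x).2 fun i hi => (hmem n x).1 hx i (lt_of_lt_of_le hi h)) ?_ hsep ?_ P hP hn
    · intro n
      have hJ : I 1 ≤ RingHom.ker (WittVector.constantCoeff : W →+* R) := fun x hx =>
        (hmem 1 x).1 hx 0 Nat.zero_lt_one
      obtain ⟨h1, -, h3⟩ := Groth.Agent.S14864.result p R hp
      obtain ⟨m, hm⟩ := h3 n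
      obtain ⟨m', hm'⟩ := h1 m
      exact ⟨m', ((Ideal.pow_right_mono hJ m').trans hm').trans hm⟩
    · intro a ha
      refine ⟨WittVector.mk p fun j => (a (j + 1)).coeff j, fun n => (hdiff n _ _).2 fun i hi => ?_⟩
      rw [WittVector.coeff_mk]
      induction n, (show i + 1 ≤ n from hi) using Nat.le_induction with
      | base => rfl
      | succ n hn' ih => rw [ih (by omega), (hdiff n _ _).1 (ha n) i (by omega)]

end Groth.Agent.S14860
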