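import Groth.Statements.S14861
import Mathlib

set_option autoImplicit false
universe u
open CAlg

namespace Groth.Agent.S14861

/-- Let p be a prime and R a commutative ring without p-torsion which is complete and separated for the
p-adic topology. Let a be a p-typical Witt vector over R and m, u natural numbers. Suppose that for
every s the equation p^u·x = a has a solution in the truncated Witt ring W_m(R/p^s R), i.e. there is
z ∈ W(R) such that the first m Witt components of p^u·z − a lie in p^s R. Then the equation has a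
solution in W_m(R): there is x ∈ W(R) such that the first m Witt components of p^u·x − a vanish.
(The published statement asks only that R have no p-torsion; R is moreover taken p-adically complete
and separated here, which is the standing situation of the surrounding argument and is what the
published proof uses when it passes to the limit over s.) -/
theorem result (p : ℕ) [Fact p.Prime] (R : Type u) [CommRing R]
    (hR : ∀ y : R, (p : R) * y = 0 → y = 0) [IsAdicComplete (Ideal.span {(p : R)}) R]
    (a : WittVector p R) (m u : ℕ)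
    (h : ∀ s : ℕ, ∃ z : WittVector p R, ∀ i < m, ((p : WittVector p R) ^ u * z - a).coeff i ∈ Ideal.span {(p : R) ^ s}) :
    ∃ x : WittVector p R, ∀ i < m, ((p : WittVector p R) ^ u * x - a).coeff i = 0 := by
  set w : ℕ → WittVector p R → R := fun i d => WittVector.ghostComponent i d with hwdef
  have hw : ∀ i d, w i d = ∑ j ∈ Finset.range (i + 1), (p : R) ^ j * d.coeff j ^ p ^ (i - j) := fun i d => by
    simp [w, WittVector.ghostComponent_apply, wittPolynomial_eq_sum_C_mul_X_pow]
  have tf : ∀ (k : ℕ) (y : R), (p : R) ^ k * y = 0 → y = 0 := by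
    intro k
    induction k with
    | zero => intro y hy; simpa using hy
    | succ k ih => intro y hy; exact hR y (ih _ (by rw [pow_succ, mul_assoc] at hy; exact hy))
  have cancel : ∀ (k N : ℕ) (y : R), (p : R) ^ k * y ∈ Ideal.span {(p : R) ^ (N + k)} → y ∈ Ideal.span {(p : R) ^ N} := by
    intro k N y hy
    obtain ⟨c, hc⟩ := Ideal.mem_span_singleton'.1 hy
    exact Ideal.mem_span_singleton'.2 ⟨c, (sub_eq_zero.1 (tf k (y - c * (p : R) ^ N) (by
      rw [mul_sub, ← hc, pow_add]; ring))).symm⟩
  have mono : ∀ {M N : ℕ}, N ≤ M → Ideal.span {(p : R) ^ M} ≤ Ideal.span {(p : R) ^ N} := fun h =>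
    Ideal.span_singleton_le_span_singleton.2 (pow_dvd_pow _ h)
  have ghost_mem : ∀ (i N : ℕ) (d : WittVector p R), (∀ j ≤ i, d.coeff j ∈ Ideal.span {(p : R) ^ N}) →
      w i d ∈ Ideal.span {(p : R) ^ N} := fun i N d hd => by
    rw [hw]
    exact Ideal.sum_mem _ fun j hj => Ideal.mul_mem_left _ _
      (Ideal.pow_mem_of_mem _ (hd j (Nat.lt_succ_iff.1 (Finset.mem_range.1 hj))) _ (Nat.pow_pos (Fact.out (p := p.Prime)).pos))
  have coeff_mem : ∀ (i N : ℕ) (d : WittVector p R), (∀ j ≤ i, w j d ∈ Ideal.span {(p : R) ^ (N + i * i)}) →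
      d.coeff i ∈ Ideal.span {(p : R) ^ N} := by
    intro i
    induction i using Nat.strong_induction_on with
    | _ i ih =>
      intro N d hd
      refine cancel i N _ ?_
      have hi := mono (show N + i ≤ N + i * i by nlinarith) (hd i le_rfl)
      rw [hw, Finset.sum_range_succ, Nat.sub_self, pow_zero, pow_one] at hi
      refine (Ideal.add_mem_iff_right _ (Ideal.sum_mem _ fun j hj => ?_)).1 hi
      have hj' := Finset.mem_range.1 hj
      refine Ideal.mul_mem_left _ _ (Ideal.pow_mem_of_mem _ (ih j hj' (N + i) d fun j' hj2 => ?_) _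
        (Nat.pow_pos (Fact.out (p := p.Prime)).pos))
      exact mono (by nlinarith) (hd j' (by omega))
  let q : ∀ N : ℕ, WittVector p R →+* TruncatedWittVector p m (R ⧸ Ideal.span {(p : R) ^ N}) := fun N =>
    (WittVector.truncate m).comp (WittVector.map (Ideal.Quotient.mk _))
  have hq : ∀ (N : ℕ) (x y : WittVector p R), q N x = q N y ↔ ∀ i < m, x.coeff i - y.coeff i ∈ Ideal.span {(p : R) ^ N} := by
    intro N x y
    simp only [q, RingHom.comp_apply, TruncatedWittVector.ext_iff, WittVector.coeff_truncate, WittVector.map_coeff,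
      Ideal.Quotient.eq, Fin.forall_iff]
  have hq0 : ∀ (N : ℕ) (x : WittVector p R), q N x = 0 ↔ ∀ i < m, x.coeff i ∈ Ideal.span {(p : R) ^ N} := by
    intro N x
    rw [← map_zero (q N), hq]
    simp only [WittVector.zero_coeff, sub_zero]
  choose z hz using h
  have hzN : ∀ N s, N ≤ s → q N ((p : WittVector p R) ^ u * z s - a) = 0 := fun N s hs =>
    (hq0 N _).2 fun i hi => mono hs (hz s i hi)
  let y : ℕ → WittVector p R := fun N => z (N + u + m * m)
  have hy : ∀ N N', N ≤ N' → ∀ i < m, (y N).coeff i - (y N').coeff i ∈ Ideal.span {(p : R) ^ N} := by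
    intro N N' hN
    rw [← hq, ← sub_eq_zero, ← map_sub, hq0]
    intro i hi
    refine coeff_mem i N _ fun j hj => cancel u _ _ ?_
    have e1 := hzN (N + i * i + u) (N + u + m * m) (by nlinarith)
    have e2 := hzN (N + i * i + u) (N' + u + m * m) (by nlinarith)
    have e3 : ∀ i' < m, ((p : WittVector p R) ^ u * (y N - y N')).coeff i' ∈ Ideal.span {(p : R) ^ (N + i * i + u)} :=
      (hq0 _ _).1 (by
        rw [show (p : WittVector p R) ^ u * (y N - y N') =
          ((p : WittVector p R) ^ u * z (N + u + m * m) - a) - ((p : WittVector p R) ^ u * z (N' + u + m * m) - a) by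
            simp only [y]; ring, map_sub, e1, e2, sub_self])
    have e4 := ghost_mem j _ _ fun j' hj' => e3 j' (by omega)
    simpa only [w, map_mul, map_pow, map_natCast] using e4
  have hL : ∀ i, ∃ L : R, i < m → ∀ N, (y N).coeff i - L ∈ Ideal.span {(p : R) ^ N} := by
    intro i
    by_cases hi : i < m
    · obtain ⟨L, hL⟩ := IsPrecomplete.prec (I := Ideal.span {(p : R)}) (M := R) inferInstance
        (f := fun N => (y N).coeff i) (fun {M N} hMN => by
          rw [SModEq.sub_mem, smul_eq_mul, Ideal.mul_top, Ideal.span_singleton_pow]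
          exact hy M N hMN i hi)
      exact ⟨L, fun _ N => by
        have h1 := hL N
        rwa [SModEq.sub_mem, smul_eq_mul, Ideal.mul_top, Ideal.span_singleton_pow] at h1⟩
    · exact ⟨0, fun h => absurd h hi⟩
  choose L hL using hL
  refine ⟨WittVector.mk p L, fun i hi => IsHausdorff.haus (I := Ideal.span {(p : R)}) inferInstance _ fun N => ?_⟩
  rw [SModEq.zero, smul_eq_mul, Ideal.mul_top, Ideal.span_singleton_pow]
  refine (hq0 N _).1 ?_ i hi
  have hx : q N (WittVector.mk p L) = q N (y N) := Eq.symm ((hq N _ _).2 fun i hi => hL i hi N)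
  rw [map_sub, map_mul, hx, ← map_mul, ← map_sub]
  exact hzN N _ (by omega)

end Groth.Agent.S14861
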