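import Groth.Statements.S14862
import Mathlib

set_option autoImplicit false
universe u
open CAlg

namespace Groth.Agent.S14862

section Aux

variable {p : ℕ} [hp : Fact p.Prime] {S : Type u} [CommRing S]

theorem ghost_eq (n : ℕ) (w : WittVector p S) :
    WittVector.ghostComponent n w = ∑ i ∈ Finset.range (n + 1), (p : S) ^ i * w.coeff i ^ p ^ (n - i) := by
  rw [WittVector.ghostComponent_apply, wittPolynomial_eq_sum_C_mul_X_pow, map_sum]
  simp

theorem coeff_mem_of_ghost (hS : ∀ y : S, (p : S) * y = 0 → y = 0) (v w : WittVector p S) :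
    ∀ (n t : ℕ), (∀ j ≤ n, WittVector.ghostComponent j v - WittVector.ghostComponent j w ∈ Ideal.span {(p : S) ^ t}) →
      v.coeff n - w.coeff n ∈ Ideal.span {(p : S) ^ (t - n * (n + 1))} := by
  intro n
  induction n using Nat.strong_induction_on with
  | _ n ih =>
    intro t ht
    set e := t - n * (n + 1)
    have h1 : (p : S) ^ n * (v.coeff n - w.coeff n) ∈ Ideal.span {(p : S) ^ (e + n)} := by
      by_cases he : t ≤ n * (n + 1)
      · rw [show e = 0 by omega, zero_add]
        exact Ideal.mul_mem_right _ _ (Ideal.mem_span_singleton_self _)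
      · have hle : ∀ {a : ℕ}, e + n ≤ a → ∀ {x : S}, x ∈ Ideal.span {(p : S) ^ a} → x ∈ Ideal.span {(p : S) ^ (e + n)} :=
          fun {a} ha {x} hx => Ideal.span_singleton_le_span_singleton.2 (pow_dvd_pow _ ha) hx
        have hg := ht n le_rfl
        rw [ghost_eq, ghost_eq, Finset.sum_range_succ, Finset.sum_range_succ, Nat.sub_self, pow_zero, pow_one,
          pow_one, add_sub_add_comm, ← mul_sub] at hg
        refine (Ideal.add_mem_iff_right _ ?_).1 (hle (a := t) (by
          have : n ≤ n * (n + 1) := Nat.le_mul_of_pos_right n (Nat.succ_pos n)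
          omega) hg)
        rw [← Finset.sum_sub_distrib]
        refine Ideal.sum_mem _ fun i hi => ?_
        rw [Finset.mem_range] at hi
        rw [← mul_sub]
        refine Ideal.mul_mem_left _ _ (hle (a := t - i * (i + 1)) ?_ ?_)
        · have h2 : (i + 1) * (n + 1) ≤ n * (n + 1) := Nat.mul_le_mul_right _ hi
          have h3 : i * (i + 1) + (n + 1) ≤ (i + 1) * (n + 1) := by
            have := Nat.mul_le_mul_left i (show i + 1 ≤ n + 1 by omega)
            rw [Nat.succ_mul]; omega
          omega
        · have := ih i hi t fun j hj => ht j (by omega)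
          rw [Ideal.mem_span_singleton] at this ⊢
          exact this.trans (sub_dvd_pow_sub_pow _ _ _)
    rw [Ideal.mem_span_singleton] at h1 ⊢
    obtain ⟨q, hq⟩ := h1
    refine ⟨q, ?_⟩
    have hreg : ∀ (m : ℕ) (y : S), (p : S) ^ m * y = 0 → y = 0 := fun m => by
      induction m with
      | zero => intro y hy; simpa using hy
      | succ m im => intro y hy; exact hS y (im _ (by rwa [pow_succ, mul_assoc] at hy))
    refine sub_eq_zero.1 (hreg n _ ?_)
    rw [mul_sub, hq, pow_add]
    ring

theorem ghost_sub_mem (v w : WittVector p S) (I : Ideal S) (n : ℕ) (h : ∀ i ≤ n, v.coeff i - w.coeff i ∈ I) :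
    WittVector.ghostComponent n v - WittVector.ghostComponent n w ∈ I := by
  rw [ghost_eq, ghost_eq, ← Ideal.Quotient.eq, map_sum, map_sum]
  refine Finset.sum_congr rfl fun i hi => ?_
  rw [Finset.mem_range] at hi
  rw [map_mul, map_mul, map_pow _ (v.coeff i), map_pow _ (w.coeff i), Ideal.Quotient.eq.2 (h i (by omega))]

theorem closed (hS : ∀ y : S, (p : S) * y = 0 → y = 0) [IsAdicComplete (Ideal.span {(p : S)}) S] (u : ℕ)
    (x : WittVector p S)
    (hx : ∀ r s : ℕ, x ∈ Ideal.span {(p : WittVector p S) ^ u} ⊔ RingHom.ker (WittVector.truncate (p := p) (R := S) r) ⊔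
          RingHom.ker (WittVector.map (p := p) (Ideal.Quotient.mk (Ideal.span {(p : S) ^ s})))) :
    x ∈ Ideal.span {(p : WittVector p S) ^ u} := by
  have hw : ∀ r s : ℕ, ∃ w : WittVector p S, ∀ n < r,
      x.coeff n - ((p : WittVector p S) ^ u * w).coeff n ∈ Ideal.span {(p : S) ^ s} := by
    intro r s
    let π : WittVector p S →+* TruncatedWittVector p r (S ⧸ Ideal.span {(p : S) ^ s}) :=
      (WittVector.truncate r).comp (WittVector.map (Ideal.Quotient.mk (Ideal.span {(p : S) ^ s})))
    obtain ⟨a, ha, b, hb, rfl⟩ := Submodule.mem_sup.1 (hx r s)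
    obtain ⟨a', ha', c, hc, rfl⟩ := Submodule.mem_sup.1 ha
    obtain ⟨w, rfl⟩ := Ideal.mem_span_singleton.1 ha'
    refine ⟨w, fun n hn => ?_⟩
    have hb0 : π b = 0 := by
      simp only [π, RingHom.comp_apply]
      rw [show WittVector.map _ b = 0 from hb, map_zero]
    have hc0 : π c = 0 := by
      simp only [π, RingHom.comp_apply, ← RingHom.mem_ker, WittVector.mem_ker_truncate]
      intro i hi
      rw [WittVector.map_coeff, (WittVector.mem_ker_truncate r c).1 hc i hi, map_zero]
    have h : π ((p : WittVector p S) ^ u * w + c + b) = π ((p : WittVector p S) ^ u * w) := by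
      rw [map_add, map_add, hb0, hc0, add_zero, add_zero]
    have := congrArg (fun z => TruncatedWittVector.coeff (⟨n, hn⟩ : Fin r) z) h
    simp only [π, RingHom.comp_apply, WittVector.coeff_truncate, WittVector.map_coeff] at this
    exact Ideal.Quotient.eq.1 this
  choose w hw using hw
  have hpu : ∀ (n : ℕ) (z : WittVector p S), WittVector.ghostComponent n ((p : WittVector p S) ^ u * z) =
      (p : S) ^ u * WittVector.ghostComponent n z := fun n z => by rw [map_mul, map_pow, map_natCast]
  have hgx : ∀ r s n, n < r → WittVector.ghostComponent n x - (p : S) ^ u * WittVector.ghostComponent n (w r s) ∈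
      Ideal.span {(p : S) ^ s} := fun r s n hn => by
    rw [← hpu]; exact ghost_sub_mem _ _ _ n fun i hi => hw r s i (by omega)
  have hreg : ∀ (m : ℕ) (y : S), (p : S) ^ m * y = 0 → y = 0 := fun m => by
    induction m with
    | zero => intro y hy; simpa using hy
    | succ m im => intro y hy; exact hS y (im _ (by rwa [pow_succ, mul_assoc] at hy))
  have hgw : ∀ r r' s s' t n, n < r → n < r' → t + u ≤ s → t + u ≤ s' →
      WittVector.ghostComponent n (w r s) - WittVector.ghostComponent n (w r' s') ∈ Ideal.span {(p : S) ^ t} := by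
    intro r r' s s' t n h1 h2 h3 h4
    have a := Ideal.span_singleton_le_span_singleton.2 (pow_dvd_pow (p : S) h3) (hgx r s n h1)
    have b := Ideal.span_singleton_le_span_singleton.2 (pow_dvd_pow (p : S) h4) (hgx r' s' n h2)
    obtain ⟨q, hq⟩ := Ideal.mem_span_singleton.1 (Ideal.sub_mem _ b a)
    refine Ideal.mem_span_singleton.2 ⟨q, sub_eq_zero.1 (hreg u _ ?_)⟩
    rw [pow_add] at hq
    linear_combination hq
  have hmem : ∀ (m : ℕ) {a b : S}, a ≡ b [SMOD (Ideal.span {(p : S)} ^ m • (⊤ : Submodule S S))] ↔
      a - b ∈ Ideal.span {(p : S) ^ m} := fun m {a b} => by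
    rw [SModEq.sub_mem, smul_eq_mul, Ideal.mul_top, Ideal.span_singleton_pow]
  let seq : ℕ → ℕ → S := fun n t => (w (n + 1) (t + u + n * (n + 1))).coeff n
  have hlim : ∀ n, ∃ L, ∀ t, seq n t ≡ L [SMOD (Ideal.span {(p : S)} ^ t • (⊤ : Submodule S S))] := fun n =>
    IsPrecomplete.prec' (seq n) fun {t t'} htt' => by
      rw [hmem]
      have := coeff_mem_of_ghost hS _ _ n (t + n * (n + 1)) fun j hj =>
        hgw (n + 1) (n + 1) (t + u + n * (n + 1)) (t' + u + n * (n + 1)) (t + n * (n + 1)) j (by omega) (by omega)
          (by omega) (by omega)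
      rwa [Nat.add_sub_cancel] at this
  choose L hL using hlim
  refine Ideal.mem_span_singleton.2 ⟨WittVector.mk p L, ?_⟩
  have hzero : ∀ z : S, (∀ t, z ∈ Ideal.span {(p : S) ^ t}) → z = 0 := fun z hz =>
    IsHausdorff.haus' z fun t => by rw [hmem, sub_zero]; exact hz t
  have hgh : ∀ n, WittVector.ghostComponent n x = WittVector.ghostComponent n ((p : WittVector p S) ^ u * WittVector.mk p L) := by
    intro n
    refine sub_eq_zero.1 (hzero _ fun t => ?_)
    rw [hpu]
    let s := t + u + n * (n + 1)
    have h1 := Ideal.span_singleton_le_span_singleton.2 (pow_dvd_pow (p : S) (show t ≤ s by omega))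
      (hgx (n + 1) s n (by omega))
    have h2 : WittVector.ghostComponent n (w (n + 1) s) - WittVector.ghostComponent n (WittVector.mk p L) ∈
        Ideal.span {(p : S) ^ t} := by
      refine ghost_sub_mem _ _ _ n fun i hi => ?_
      have hi2 : i * (i + 1) ≤ n * (n + 1) := Nat.mul_le_mul hi (by omega)
      have a := coeff_mem_of_ghost hS (w (n + 1) s) (w (i + 1) (t + u + i * (i + 1))) i (t + i * (i + 1)) fun j hj =>
        hgw _ _ _ _ _ j (by omega) (by omega) (by omega) (by omega)
      rw [Nat.add_sub_cancel] at a
      have b := (hmem t).1 (hL i t)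
      have := Ideal.add_mem _ a b
      simp only [seq, sub_add_sub_cancel] at this
      exact this
    have := Ideal.add_mem _ h1 (Ideal.mul_mem_left _ ((p : S) ^ u) h2)
    convert this using 1
    ring
  ext n
  refine sub_eq_zero.1 (hzero _ fun t => ?_)
  have := coeff_mem_of_ghost hS x ((p : WittVector p S) ^ u * WittVector.mk p L) n (t + n * (n + 1))
    fun j _ => by rw [hgh j, sub_self]; exact zero_mem _
  rwa [Nat.add_sub_cancel] at this

end Aux

/-- Let p be a prime and S a commutative ring without p-torsion which is complete and separated for the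
p-adic topology; write W = W(S) for the p-typical Witt vectors, I_r ⊆ W for the ideal of Witt
vectors whose first r components vanish (the image of the r-th iterate of the Verschiebung) and
W(p^s S) ⊆ W for the ideal of Witt vectors all of whose components lie in p^s S (the kernel of W(S)
→ W(S/p^s S)). Then for every natural number u the ideal p^u W is closed for the linear topology on
W in which the ideals I_r + W(p^s S) form a neighbourhood basis of zero: the intersection over all r
and s of p^u W + I_r + W(p^s S) equals p^u W. (The published statement asks only that S have no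
p-torsion; S is moreover taken p-adically complete and separated here, the case in which the result
is applied and through which the published proof goes.) -/
theorem result (p : ℕ) [Fact p.Prime] (S : Type u) [CommRing S]
    (hS : ∀ y : S, (p : S) * y = 0 → y = 0) [IsAdicComplete (Ideal.span {(p : S)}) S] (u : ℕ) :
    (⨅ r : ℕ, ⨅ s : ℕ,
        Ideal.span {(p : WittVector p S) ^ u} ⊔ RingHom.ker (WittVector.truncate (p := p) (R := S) r) ⊔
          RingHom.ker (WittVector.map (p := p) (Ideal.Quotient.mk (Ideal.span {(p : S) ^ s})))) =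
      Ideal.span {(p : WittVector p S) ^ u} := by
  refine le_antisymm (fun x hx => closed hS u x fun r s => ?_)
    (le_iInf fun r => le_iInf fun s => le_sup_left.trans le_sup_left)
  exact (Submodule.mem_iInf _).1 ((Submodule.mem_iInf _).1 hx r) s

end Groth.Agent.S14862
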