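import Groth.Statements.S14867
import Groth.Agent.ProjLift.Basic
import Groth.Agent.H4Easy.Batch24

set_option autoImplicit false
universe u
open CAlg

namespace Groth.Agent.S14867

/-- Let p be a prime and S → R a surjective homomorphism of commutative rings such that every element of
its kernel 𝔞 is nilpotent and p is nilpotent in S; write J = W(𝔞) for the kernel of the induced
surjection W(S) → W(R) of rings of p-typical Witt vectors. Then finitely generated projective
modules lift along W(S) → W(R), uniquely up to isomorphism: for every finitely generated projective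
W(R)-module P there is a finitely generated projective W(S)-module P̃ together with a surjection P̃
→ P, semilinear over W(S) → W(R), whose kernel is J·P̃ (that is, an isomorphism W(R) ⊗_{W(S)} P̃ ≅
P); and for any two such pairs (P̃_1, π_1), (P̃_2, π_2) there is a W(S)-linear isomorphism P̃_1 ≅
P̃_2 compatible with π_1 and π_2. -/
theorem result (p : ℕ) [Fact p.Prime] (S R : Type u)
    [CommRing S] [CommRing R] (φ : S →+* R) (hφ : Function.Surjective φ)
    (hnil : ∀ a : S, φ a = 0 → IsNilpotent a) (hp : IsNilpotent (p : S))
    (P : Type u) [AddCommGroup P] [Module (WittVector p R) P]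
    [Module.Finite (WittVector p R) P] [Module.Projective (WittVector p R) P] :
    (∃ (P' : Type u) (_ : AddCommGroup P') (_ : Module (WittVector p S) P'),
        Module.Finite (WittVector p S) P' ∧ Module.Projective (WittVector p S) P' ∧
          ∃ π : P' →ₛₗ[WittVector.map (p := p) φ] P, Function.Surjective π ∧
            LinearMap.ker π = RingHom.ker (WittVector.map (p := p) φ) • (⊤ : Submodule (WittVector p S) P')) ∧
      ∀ (P₁ : Type u) [AddCommGroup P₁] [Module (WittVector p S) P₁]
        [Module.Finite (WittVector p S) P₁] [Module.Projective (WittVector p S) P₁]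
        (P₂ : Type u) [AddCommGroup P₂] [Module (WittVector p S) P₂]
        [Module.Finite (WittVector p S) P₂] [Module.Projective (WittVector p S) P₂]
        (π₁ : P₁ →ₛₗ[WittVector.map (p := p) φ] P) (π₂ : P₂ →ₛₗ[WittVector.map (p := p) φ] P),
        Function.Surjective π₁ →
          LinearMap.ker π₁ = RingHom.ker (WittVector.map (p := p) φ) • (⊤ : Submodule (WittVector p S) P₁) →
        Function.Surjective π₂ →
          LinearMap.ker π₂ = RingHom.ker (WittVector.map (p := p) φ) • (⊤ : Submodule (WittVector p S) P₂) →
        ∃ e : P₁ ≃ₗ[WittVector p S] P₂, ∀ x : P₁, π₂ (e x) = π₁ x := by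
  have hpad : ∀ (T : Type u) [CommRing T], IsNilpotent (p : T) → IsAdicComplete (Ideal.span {(p : T)}) T := by
    intro T _ hT
    obtain ⟨N, hN⟩ := hT
    exact { haus' := fun x hx => by
              have := hx N
              rwa [SModEq.zero, Ideal.span_singleton_pow, hN, Ideal.span_singleton_eq_bot.2 rfl, Submodule.bot_smul,
                Submodule.mem_bot] at this
            prec' := fun f hf => ⟨f N, fun n => by
              rcases le_total n N with h | h
              · exact hf h
              · have h' := hf h
                rw [SModEq.sub_mem, Ideal.span_singleton_pow, hN, Ideal.span_singleton_eq_bot.2 rfl, Submodule.bot_smul,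
                  Submodule.mem_bot, sub_eq_zero] at h'
                rw [h']⟩ }
  have hpR : IsNilpotent (p : R) := by simpa using hp.map φ
  haveI := hpad S hp
  haveI := hpad R hpR
  haveI : IsAdicComplete (W4c1extbt610.IV p S) (WittVector p S) := Groth.Agent.H4Easy.witt_isAdicComplete_IV
  haveI : IsAdicComplete (W4c1extbt610.IV p R) (WittVector p R) := Groth.Agent.H4Easy.witt_isAdicComplete_IV
  have hIV : ∀ (T : Type u) [CommRing T], W4c1extbt610.IV p T = RingHom.ker (WittVector.constantCoeff : WittVector p T →+* T) :=
    fun T _ => le_antisymm (Ideal.span_le.2 (by rintro _ ⟨w, rfl⟩; exact WittVector.verschiebung_coeff_zero w))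
      fun x hx => by
        rw [show x = WittVector.verschiebung (x.shift 1) from WittVector.eq_iterate_verschiebung (n := 1) fun i hi => by
          obtain rfl : i = 0 := by omega
          exact hx]
        exact W4c1extbt610.verschiebung_mem_IV p T _
  have hq : Function.Surjective (WittVector.map (p := p) φ) := WittVector.map_surjective φ hφ
  have hJ : ∀ x ∈ RingHom.ker (WittVector.map (p := p) φ), ∃ m : ℕ, x ^ m ∈ W4c1extbt610.IV p S := fun x hx => by
    obtain ⟨m, hm⟩ := hnil (WittVector.constantCoeff x) (by
      show φ (x.coeff 0) = 0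
      rw [← WittVector.map_coeff, RingHom.mem_ker.1 hx, WittVector.zero_coeff])
    exact ⟨m, by rw [hIV, RingHom.mem_ker, map_pow, hm]⟩
  have hI : (W4c1extbt610.IV p S).map (WittVector.map (p := p) φ) ≤ W4c1extbt610.IV p R :=
    Ideal.map_le_iff_le_comap.2 fun x hx => by
      rw [hIV, RingHom.mem_ker] at hx
      show WittVector.map φ x ∈ W4c1extbt610.IV p R
      rw [hIV, RingHom.mem_ker]
      show (WittVector.map φ x).coeff 0 = 0
      rw [WittVector.map_coeff, show x.coeff 0 = 0 from hx, map_zero]
  refine ⟨Groth.Agent.ProjLift.exists_lift _ _ hq hJ _ hI P, ?_⟩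
  intro P₁ _ _ _ _ P₂ _ _ _ _ π₁ π₂ h₁ k₁ h₂ k₂
  exact Groth.Agent.ProjLift.exists_equiv _ _ hJ P P₁ P₂ π₁ π₂ h₁ k₁ h₂ k₂

end Groth.Agent.S14867
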