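import Groth.Statements.S14869
import Mathlib.LinearAlgebra.TensorProduct.Tower
import Mathlib.LinearAlgebra.TensorProduct.Quotient
import Mathlib.RingTheory.Ideal.Quotient.Operations
import Mathlib.Algebra.Module.Projective
import Mathlib.LinearAlgebra.TensorProduct.RightExactness

set_option autoImplicit false
universe u v w
open CAlg

namespace Groth.Agent.S14869

open TensorProduct in
/-- Let S → R be a surjective homomorphism of commutative rings, let π : P_1 → P_2 be a surjective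
homomorphism of S-modules with P_2 projective, and let π̄ : R ⊗_S P_1 → R ⊗_S P_2 be its base
change. Then every R-linear section σ̄ of π̄ lifts to a section of π: there is an S-linear map σ :
P_2 → P_1 with π ∘ σ = id whose base change R ⊗_S σ is σ̄. -/
theorem result (S R : Type u) [CommRing S] [CommRing R] [Algebra S R]
    (hSR : Function.Surjective (algebraMap S R))
    (P₁ : Type v) [AddCommGroup P₁] [Module S P₁]
    (P₂ : Type w) [AddCommGroup P₂] [Module S P₂] [Module.Projective S P₂]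
    (π : P₁ →ₗ[S] P₂) (hπ : Function.Surjective π)
    (σ' : R ⊗[S] P₂ →ₗ[R] R ⊗[S] P₁) (hσ' : (π.baseChange R).comp σ' = LinearMap.id) :
    ∃ σ : P₂ →ₗ[S] P₁, π.comp σ = LinearMap.id ∧ σ.baseChange R = σ' := by
  let I := RingHom.ker (algebraMap S R)
  have hmk : ∀ (z : R ⊗[S] P₁), ∃ p : P₁, (1 : R) ⊗ₜ[S] p = z := by
    intro z
    induction z with
    | zero => exact ⟨0, TensorProduct.tmul_zero _ _⟩
    | add a b ha hb =>
      obtain ⟨p, hp⟩ := ha; obtain ⟨q, hq⟩ := hb
      exact ⟨p + q, by rw [TensorProduct.tmul_add, hp, hq]⟩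
    | tmul r p =>
      obtain ⟨s, rfl⟩ := hSR r
      exact ⟨s • p, by rw [← TensorProduct.smul_tmul, Algebra.algebraMap_eq_smul_one]⟩
  have hmk2 : ∀ (z : R ⊗[S] P₂), ∃ p : P₂, (1 : R) ⊗ₜ[S] p = z := by
    intro z
    induction z with
    | zero => exact ⟨0, TensorProduct.tmul_zero _ _⟩
    | add a b ha hb =>
      obtain ⟨p, hp⟩ := ha; obtain ⟨q, hq⟩ := hb
      exact ⟨p + q, by rw [TensorProduct.tmul_add, hp, hq]⟩
    | tmul r p =>
      obtain ⟨s, rfl⟩ := hSR r
      exact ⟨s • p, by rw [← TensorProduct.smul_tmul, Algebra.algebraMap_eq_smul_one]⟩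
  let ι₁ : P₁ →ₗ[S] R ⊗[S] P₁ := TensorProduct.mk S R P₁ 1
  let ι₂ : P₂ →ₗ[S] R ⊗[S] P₂ := TensorProduct.mk S R P₂ 1
  obtain ⟨σ₀, hσ₀⟩ := Module.projective_lifting_property ι₁ ((σ'.restrictScalars S) ∘ₗ ι₂) (fun z => hmk z)
  have hd : ∀ x, ι₂ ((LinearMap.id - π ∘ₗ σ₀ : P₂ →ₗ[S] P₂) x) = 0 := by
    intro x
    have h1 : ι₁ (σ₀ x) = σ' (ι₂ x) := LinearMap.congr_fun hσ₀ x
    have h2 : (π.baseChange R) (σ' (ι₂ x)) = ι₂ x := LinearMap.congr_fun hσ' _
    rw [← h1] at h2
    rw [LinearMap.sub_apply, LinearMap.id_apply, LinearMap.comp_apply, map_sub, sub_eq_zero]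
    exact h2.symm
  have hd' : ∀ x, (LinearMap.id - π ∘ₗ σ₀ : P₂ →ₗ[S] P₂) x ∈ I • (⊤ : Submodule S P₂) := by
    intro x
    let ψ : R →ₗ[S] S ⧸ I := ((Ideal.quotientKerAlgEquivOfSurjective (f := Algebra.ofId S R) hSR).symm).toLinearMap
    have h := congrArg (fun z => TensorProduct.quotTensorEquivQuotSMul P₂ I (ψ.rTensor P₂ z)) (hd x)
    simp only [map_zero] at h
    have hψ : ψ 1 = 1 := map_one ((Ideal.quotientKerAlgEquivOfSurjective (f := Algebra.ofId S R) hSR).symm)
    simp only [ι₂, TensorProduct.mk_apply, LinearMap.rTensor_tmul, hψ,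
      TensorProduct.quotTensorEquivQuotSMul_mk_one_tmul] at h
    exact (Submodule.Quotient.mk_eq_zero _).1 h
  let d : P₂ →ₗ[S] (I • (⊤ : Submodule S P₂) : Submodule S P₂) := LinearMap.codRestrict _ (LinearMap.id - π ∘ₗ σ₀) hd'
  let πI : (I • (⊤ : Submodule S P₁) : Submodule S P₁) →ₗ[S] (I • (⊤ : Submodule S P₂) : Submodule S P₂) :=
    LinearMap.codRestrict _ (π ∘ₗ Submodule.subtype _) fun y => by
      have : π y.1 ∈ (I • (⊤ : Submodule S P₁)).map π := ⟨y.1, y.2, rfl⟩
      rw [Submodule.map_smul'', Submodule.map_top, LinearMap.range_eq_top.2 hπ] at this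
      exact this
  have hπI : Function.Surjective πI := by
    rintro ⟨y, hy⟩
    rw [← LinearMap.range_eq_top.2 hπ, ← Submodule.map_top π, ← Submodule.map_smul''] at hy
    obtain ⟨z, hz, rfl⟩ := hy
    exact ⟨⟨z, hz⟩, rfl⟩
  obtain ⟨δ, hδ⟩ := Module.projective_lifting_property πI d hπI
  refine ⟨σ₀ + Submodule.subtype _ ∘ₗ δ, ?_, ?_⟩
  · apply LinearMap.ext
    intro x
    have h := congrArg Subtype.val (LinearMap.congr_fun hδ x)
    change π (σ₀ x + (δ x).1) = x
    have h' : π (δ x).1 = x - π (σ₀ x) := h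
    rw [map_add, h', add_sub_cancel]
  · apply LinearMap.ext
    intro z
    obtain ⟨x, rfl⟩ := hmk2 z
    rw [LinearMap.baseChange_tmul]
    have h0 : (1 : R) ⊗ₜ[S] ((δ x).1) = 0 := by
      refine Submodule.smul_induction_on (δ x).2 (fun i hi m _ => ?_) (fun a b ha hb => ?_)
      · rw [TensorProduct.tmul_smul, TensorProduct.smul_tmul', ← Algebra.algebraMap_eq_smul_one]
        rw [show algebraMap S R i = 0 from hi, TensorProduct.zero_tmul]
      · rw [TensorProduct.tmul_add, ha, hb, add_zero]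
    change (1 : R) ⊗ₜ[S] (σ₀ x + (δ x).1) = _
    rw [TensorProduct.tmul_add, h0, add_zero]
    exact LinearMap.congr_fun hσ₀ x

end Groth.Agent.S14869
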