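import Groth.Statements.S1487
import Groth.Agent.InfLift.SchemeLocal

set_option autoImplicit false
universe u
open FlatMor

namespace Groth.Agent.S1487

open AlgebraicGeometry CategoryTheory Limits in
/-- (1) ⇔ (3): a morphism f : X → Y is formally étale (unique lifting against first order thickenings of
affine schemes, rings in the same universe) if and only if for all affine opens U ⊆ f⁻¹(V) the ring
map O_Y(V) → O_X(U) is formally étale. -/
theorem result {X Y : Scheme.{u}} (f : X ⟶ Y) :
    MoreMor.IsFormallyEtaleHom f ↔ ∀ (U : X.Opens) (V : Y.Opens) (hU : IsAffineOpen U) (hV : IsAffineOpen V) (hUV : U ≤ f ⁻¹ᵁ V),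
      letI := (f.appLE V U hUV).hom.toAlgebra
      Algebra.FormallyEtale Γ(Y, V) Γ(X, U) := by
  constructor
  · intro h U V hU hV e
    let : Algebra Γ(Y, V) Γ(X, U) := (f.appLE V U e).hom.toAlgebra
    have := InfLift.formallyUnramified_of_isFormallyEtaleHom f h
    have hu : Algebra.FormallyUnramified Γ(Y, V) Γ(X, U) := f.formallyUnramified_appLE hV hU e
    refine Algebra.FormallyEtale.iff_formallyUnramified_and_formallySmooth.2 ⟨hu, ?_⟩
    refine Algebra.FormallySmooth.iff_comp_surjective.2 fun B _ _ I hI ψ => ?_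
    obtain ⟨l, ⟨hl₁, hl₂⟩, -⟩ := h B I hI (Spec.map (CommRingCat.ofHom ψ.toRingHom) ≫ hU.fromSpec)
      (Spec.map (CommRingCat.ofHom (algebraMap Γ(Y, V) B)) ≫ hV.fromSpec) (by
        rw [Category.assoc, ← hV.SpecMap_appLE_fromSpec f hU e, ← Category.assoc, ← Category.assoc,
          ← Spec.map_comp, ← Spec.map_comp]
        congr 2
        exact CommRingCat.hom_ext ψ.comp_algebraMap.symm)
    have hr : Set.range l ⊆ Set.range hU.fromSpec := by
      rintro _ ⟨p, rfl⟩
      have := InfLift.surjective_specQuot I hI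
      obtain ⟨q, rfl⟩ := (InfLift.specQuot I).surjective p
      rw [← Scheme.Hom.comp_apply, hl₁, Scheme.Hom.comp_apply]
      exact ⟨_, rfl⟩
    obtain ⟨γ, hγ⟩ : ∃ γ : Γ(X, U) ⟶ CommRingCat.of B, Spec.map γ ≫ hU.fromSpec = l :=
      ⟨Spec.preimage (IsOpenImmersion.lift hU.fromSpec l hr), by rw [Spec.map_preimage, IsOpenImmersion.lift_fac]⟩
    have hγ₂ : f.appLE V U e ≫ γ = CommRingCat.ofHom (algebraMap Γ(Y, V) B) := by
      apply Spec.map_injective
      rw [← cancel_mono hV.fromSpec, Spec.map_comp, Category.assoc, hV.SpecMap_appLE_fromSpec f hU e,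
        reassoc_of% hγ, hl₂]
    refine ⟨AlgHom.mk γ.hom fun r => congrArg (fun q => q.hom r) hγ₂, ?_⟩
    have hγ₁ : γ ≫ CommRingCat.ofHom (Ideal.Quotient.mk I) = CommRingCat.ofHom ψ.toRingHom := by
      apply Spec.map_injective
      rw [← cancel_mono hU.fromSpec, Spec.map_comp, Category.assoc, hγ, hl₁]
    exact AlgHom.ext fun r => congrArg (fun q => q.hom r) hγ₁
  · intro h
    have : FormallyUnramified f := HasRingHomProperty.iff_appLE (P := @FormallyUnramified) |>.mpr fun V U e ↦ by
      let := (f.appLE V.1 U.1 e).hom.toAlgebra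
      have := h U.1 V.1 U.2 V.2 e
      exact RingHom.formallyUnramified_algebraMap.mpr inferInstance
    refine InfLift.isFormallyEtaleHom_of_appLE f fun x ↦ ?_
    obtain ⟨V, hV, hxV, -⟩ := exists_isAffineOpen_mem_and_subset (X := Y) (x := f x) (U := ⊤) trivial
    obtain ⟨U, hU, hxU, e⟩ := exists_isAffineOpen_mem_and_subset (X := X) (x := x) (U := f ⁻¹ᵁ V) hxV
    exact ⟨V, hV, U, hU, e, hxU, h U V hU hV e⟩

end Groth.Agent.S1487
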