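import Groth.Statements.S14877
import Groth.Agent.FpqcDescent.Affine
import Groth.Agent.GrpAct.Basic

set_option autoImplicit false
universe u
open CategoryTheory MonoidalCategory CartesianMonoidalCategory MonObj GrpObj AlgebraicGeometry CategoryTheory.Limits
open AlgGrp

namespace Groth.Agent.S14877

open Groth.Agent in
/-- points form of a trivialisation -/
theorem exists_unique_div {k : Type u} [Field k] {G P X U : Over (Spec (CommRingCat.of k))} [GrpObj G]
    (a : AlgGrp.Action G P) (π : P ⟶ X) (f : U ⟶ X) (s : U ⟶ P)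
    (h : IsPullback (fst U G) (lift (snd U G) (fst U G ≫ s) ≫ a.act) f π)
    {T : Over (Spec (CommRingCat.of k))} (t : T ⟶ U) (x : T ⟶ P) (e : t ≫ f = x ≫ π) :
    ∃ g : T ⟶ G, lift g (t ≫ s) ≫ a.act = x ∧ ∀ g', lift g' (t ≫ s) ≫ a.act = x → g' = g := by
  have key : ∀ g : T ⟶ G, lift t g ≫ lift (snd U G) (fst U G ≫ s) ≫ a.act = lift g (t ≫ s) ≫ a.act := fun g => by
    rw [comp_lift_assoc, lift_snd, lift_fst_assoc]
  let w := h.lift t x e
  have hw : w = lift t (w ≫ snd U G) := by
    conv_lhs => rw [← lift_comp_fst_snd w, h.lift_fst]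
  refine ⟨w ≫ snd U G, ?_, fun g' hg' => ?_⟩
  · rw [← key, ← hw]
    exact h.lift_snd _ _ _
  · have : lift t g' = w := h.hom_ext (by rw [lift_fst, h.lift_fst]) (by rw [key, hg', h.lift_snd])
    rw [← this, lift_snd]

set_option backward.isDefEq.respectTransparency false in
theorem main {k : Type u} [Field k]
    {G P X : Over (Spec (CommRingCat.of k))} [GrpObj G]
    (a : AlgGrp.Action G P) (π : P ⟶ X) (hinv : GIT.IsInvariant a π)
    (hli : ∀ x : ↥X.left, ∃ (U : X.left.Opens) (_ : x ∈ U) (U' : Scheme.{u}) (φ : U' ⟶ ↑U)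
      (_ : IsFinite φ) (_ : Etale φ) (_ : Surjective φ) (s : Over.mk (φ ≫ U.ι ≫ X.hom) ⟶ P),
      s.left ≫ π.left = φ ≫ U.ι ∧
      IsPullback (fst (Over.mk (φ ≫ U.ι ≫ X.hom)) G).left (lift (snd (Over.mk (φ ≫ U.ι ≫ X.hom)) G) (fst (Over.mk (φ ≫ U.ι ≫ X.hom)) G ≫ s) ≫ a.act).left
        (φ ≫ U.ι) π.left) :
    IsIso (GIT.PsiY a π hinv) ∧ Flat π.left := by
  choose U hxU U' φ hfin het hsur s hs hsq using hli
  have hcover : iSup U = ⊤ := top_le_iff.1 fun x _ => TopologicalSpace.Opens.mem_iSup.2 ⟨x, hxU x⟩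
  have hQ : ∀ x, (@Surjective ⊓ @Flat ⊓ @QuasiCompact : MorphismProperty Scheme.{u}) (φ x) := fun x =>
    ⟨⟨hsur x, inferInstance⟩, inferInstance⟩
  refine ⟨?_, ?_⟩
  · let q : Limits.pullback π.left π.left ⟶ X.left := Limits.pullback.fst π.left π.left ≫ π.left
    show MorphismProperty.isomorphisms Scheme.{u} _
    refine IsZariskiLocalAtTarget.of_iSup_eq_top (fun x => q ⁻¹ᵁ U x) ?_ fun x => ?_
    · rw [← Scheme.Hom.preimage_iSup, hcover]; rfl
    let Z := q ⁻¹ᵁ U x
    let r := Limits.pullback.fst (q ∣_ U x) (φ x)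
    have hr : (@Surjective ⊓ @Flat ⊓ @QuasiCompact : MorphismProperty Scheme.{u}) r :=
      ⟨⟨MorphismProperty.pullback_fst _ _ (hQ x).1.1, MorphismProperty.pullback_fst _ _ (hQ x).1.2⟩,
        MorphismProperty.pullback_fst _ _ (hQ x).2⟩
    have sqD : IsPullback (Limits.pullback.snd (GIT.PsiY a π hinv ∣_ Z) r) (Limits.pullback.fst _ _) r
        (GIT.PsiY a π hinv ∣_ Z) := (IsPullback.of_hasPullback _ _).flip
    refine MorphismProperty.of_isPullback_of_descendsAlong
      (P := MorphismProperty.isomorphisms Scheme.{u}) sqD.flip.flip hr ?_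
    -- the base change has exactly one point over each point
    let e₀ : _ ⟶ (G ⊗ P).left := Limits.pullback.fst (GIT.PsiY a π hinv ∣_ Z) r ≫ (GIT.PsiY a π hinv ⁻¹ᵁ Z).ι
    let Uo : Over (Spec (CommRingCat.of k)) := Over.mk (φ x ≫ (U x).ι ≫ X.hom)
    let f : Uo ⟶ X := Over.homMk (φ x ≫ (U x).ι) (by simp [Uo])
    have hsqO : IsPullback (fst Uo G) (lift (snd Uo G) (fst Uo G ≫ s x) ≫ a.act) f π :=
      IsPullback.of_map (Over.forget _) (Over.OverMorphism.ext (hsq x).w) (hsq x)
    let y := r ≫ Z.ι
    let Wo : Over (Spec (CommRingCat.of k)) := Over.mk (y ≫ Limits.pullback.snd π.left π.left ≫ P.hom)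
    let t : Wo ⟶ Uo := Over.homMk (Limits.pullback.snd (q ∣_ U x) (φ x)) (by
      show Limits.pullback.snd _ _ ≫ φ x ≫ (U x).ι ≫ X.hom = y ≫ Limits.pullback.snd π.left π.left ≫ P.hom
      rw [← Limits.pullback.condition_assoc, morphismRestrict_ι_assoc, ← Over.w π]
      simp only [y, r, q, Category.assoc, Limits.pullback.condition_assoc]
      rfl)
    let x₁ : Wo ⟶ P := Over.homMk (y ≫ Limits.pullback.fst π.left π.left) (by
      show _ = y ≫ Limits.pullback.snd π.left π.left ≫ P.hom
      rw [Category.assoc, ← Over.w π, Limits.pullback.condition_assoc])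
    let x₂ : Wo ⟶ P := Over.homMk (y ≫ Limits.pullback.snd π.left π.left) (by simp [Wo])
    have ht₁ : t ≫ f = x₁ ≫ π := Over.OverMorphism.ext (by
      show Limits.pullback.snd _ _ ≫ φ x ≫ (U x).ι = (y ≫ Limits.pullback.fst π.left π.left) ≫ π.left
      rw [← Limits.pullback.condition_assoc, morphismRestrict_ι]
      simp only [y, r, q, Z, Category.assoc])
    have ht₂ : t ≫ f = x₂ ≫ π := ht₁.trans (Over.OverMorphism.ext (by
      show (y ≫ Limits.pullback.fst π.left π.left) ≫ π.left = (y ≫ Limits.pullback.snd π.left π.left) ≫ π.left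
      simp only [y, Category.assoc, Limits.pullback.condition]))
    obtain ⟨g₁, hg₁, -⟩ := exists_unique_div a π f (s x) hsqO t x₁ ht₁
    obtain ⟨g₂, hg₂, -⟩ := exists_unique_div a π f (s x) hsqO t x₂ ht₂
    let w : Wo ⟶ G ⊗ P := lift (g₁ * g₂⁻¹) x₂
    have hwa : w ≫ a.act = x₁ := by
      conv_rhs => rw [← hg₁]
      simp only [w, ← hg₂]
      rw [← Groth.Agent.GrpAct.mul_smul, inv_mul_cancel_right]
    have hw : w.left ≫ GIT.PsiY a π hinv = y := by
      apply Limits.pullback.hom_ext
      · rw [Category.assoc, GIT.PsiY, Limits.pullback.lift_fst]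
        exact congr($(hwa).left)
      · rw [Category.assoc, GIT.PsiY, Limits.pullback.lift_snd]
        exact congr($(lift_snd (g₁ * g₂⁻¹) x₂).left)
    let w' := IsOpenImmersion.lift (GIT.PsiY a π hinv ⁻¹ᵁ Z).ι w.left (by
      rw [Scheme.Opens.range_ι]
      rintro _ ⟨z, rfl⟩
      show GIT.PsiY a π hinv (w.left z) ∈ Z
      rw [← Scheme.Hom.comp_apply, hw]
      exact (r z).2)
    have hw' : w' ≫ (GIT.PsiY a π hinv ∣_ Z) = r := by
      rw [← cancel_mono Z.ι, Category.assoc, morphismRestrict_ι, IsOpenImmersion.lift_fac_assoc, hw]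
    let σ := Limits.pullback.lift (f := GIT.PsiY a π hinv ∣_ Z) (g := r) w' (𝟙 _) (by rw [hw', Category.id_comp])
    let p := Limits.pullback.snd (GIT.PsiY a π hinv ∣_ Z) r
    have hσp : σ ≫ p = 𝟙 _ := Limits.pullback.lift_snd _ _ _
    refine ⟨σ, ?_, hσp⟩
    -- uniqueness
    apply Limits.pullback.hom_ext
    · rw [Category.assoc, Limits.pullback.lift_fst, Category.id_comp,
        ← cancel_mono (GIT.PsiY a π hinv ⁻¹ᵁ Z).ι, Category.assoc, IsOpenImmersion.lift_fac]
      let To : Over (Spec (CommRingCat.of k)) := Over.mk (p ≫ Wo.hom)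
      let pp : To ⟶ Wo := Over.homMk p
      have hee : e₀ ≫ GIT.PsiY a π hinv = p ≫ y := by
        simp only [e₀, y, p, Category.assoc]
        rw [← morphismRestrict_ι, Limits.pullback.condition_assoc]
      have he1 : e₀ ≫ a.act.left = p ≫ x₁.left := by
        have := congr($hee ≫ Limits.pullback.fst π.left π.left)
        simpa [GIT.PsiY, x₁] using this
      have he2 : e₀ ≫ (snd G P).left = p ≫ x₂.left := by
        have := congr($hee ≫ Limits.pullback.snd π.left π.left)
        simpa [GIT.PsiY, x₂] using this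
      let m : To ⟶ G ⊗ P := Over.homMk e₀ (by
        show e₀ ≫ (G ⊗ P).hom = p ≫ Wo.hom
        rw [← Over.w (snd G P), reassoc_of% he2, Over.w x₂])
      have hm1 : m ≫ a.act = pp ≫ x₁ := Over.OverMorphism.ext he1
      have hm2 : m ≫ snd G P = pp ≫ x₂ := Over.OverMorphism.ext he2
      have hdef : m = lift (m ≫ fst G P) (pp ≫ x₂) := by rw [← hm2, lift_comp_fst_snd]
      obtain ⟨c, hc, hcu⟩ := exists_unique_div a π f (s x) hsqO (pp ≫ t) (pp ≫ x₁)
        (by rw [Category.assoc, ht₁, Category.assoc])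
      have h1 : (m ≫ fst G P) * (pp ≫ g₂) = c := hcu _ (by
        rw [Groth.Agent.GrpAct.mul_smul, Category.assoc, ← comp_lift_assoc, hg₂, ← hdef, hm1])
      have h2 : pp ≫ g₁ = c := hcu _ (by rw [Category.assoc, ← comp_lift_assoc, hg₁])
      have : m = pp ≫ w := by
        rw [hdef, comp_lift, MonObj.comp_mul, GrpObj.comp_inv, h2, ← h1, mul_inv_cancel_right]
      exact congr($(this).left).symm
    · rw [Category.assoc, Limits.pullback.lift_snd]
      exact (Category.comp_id _).trans (Category.id_comp _).symm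
  · refine IsZariskiLocalAtTarget.of_iSup_eq_top U hcover fun x => ?_
    let Uo : Over (Spec (CommRingCat.of k)) := Over.mk (φ x ≫ (U x).ι ≫ X.hom)
    have hflat : Flat (fst Uo G).left :=
      MorphismProperty.pullback_fst (P := @Flat) Uo.hom G.hom inferInstance
    have sqU := (isPullback_morphismRestrict π.left (U x)).flip
    let M := (lift (snd Uo G) (fst Uo G ≫ s x) ≫ a.act).left
    have h : IsPullback (sqU.lift M ((fst Uo G).left ≫ φ x) (by rw [Category.assoc, ← (hsq x).w])) (fst Uo G).left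
        (π.left ∣_ U x) (φ x) := by
      refine IsPullback.of_right ?_ (sqU.lift_snd _ _ _) sqU
      rw [sqU.lift_fst]
      exact (hsq x).flip
    exact MorphismProperty.of_isPullback_of_descendsAlong
      (P := @Flat) (Q := (@Surjective ⊓ @Flat ⊓ @QuasiCompact : MorphismProperty Scheme.{u})) h.flip (hQ x) hflat

/-- Over an algebraically closed field k of characteristic zero, let G be an algebraic group (a smooth
k-group scheme of finite type) acting on a variety P (reduced, separated, of finite type over k),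
and let π : P → X be a geometric quotient by this action onto a variety X: π is invariant,
surjective and open, the map (g, p) ↦ (g·p, p) from G × P to P ×_X P is surjective on points, and
for every open U of X the sections of O_X over U are exactly the invariant sections of O_P over
π⁻¹U. Suppose the bundle is locally isotrivial: every point of X has an open neighbourhood U with a
finite étale surjective morphism U' → U and a morphism s : U' → P lifting U' → U → X such that (u,
g) ↦ g·s(u) exhibits U' × G as the fibre product U' ×_X P. Then the bundle is principal: (g, p) ↦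
(g·p, p) is an isomorphism of G × P onto P ×_X P, and π is flat. (The published definition of an
étale covering asks only for a finite étale morphism; this row also requires it to be surjective,
since an empty cover would make every bundle isotrivial.) -/
theorem result (k : Type u) [Field k] [IsAlgClosed k] [CharZero k]
    (G P X : Over (Spec (CommRingCat.of k))) [GrpObj G] [Smooth G.hom] [QuasiCompact G.hom]
    [LocallyOfFiniteType P.hom] [QuasiCompact P.hom] [IsSeparated P.hom] [IsReduced P.left]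
    [LocallyOfFiniteType X.hom] [QuasiCompact X.hom] [IsSeparated X.hom] [IsReduced X.left]
    (a : AlgGrp.Action G P) (π : P ⟶ X) (hinv : GIT.IsInvariant a π)
    (hq : Function.Surjective π.left.base ∧ IsOpenMap π.left.base ∧
      Function.Surjective (GIT.PsiY a π hinv).base ∧
      ∀ U : X.left.Opens, Function.Injective (π.left.app U) ∧
        Set.range (π.left.app U) = {f | GIT.IsInvSection a π U f})
    (hli : ∀ x : ↥X.left, ∃ (U : X.left.Opens) (_ : x ∈ U) (U' : Scheme.{u}) (φ : U' ⟶ ↑U)
      (_ : IsFinite φ) (_ : Etale φ) (_ : Surjective φ) (s : Over.mk (φ ≫ U.ι ≫ X.hom) ⟶ P),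
      s.left ≫ π.left = φ ≫ U.ι ∧
      IsPullback (fst (Over.mk (φ ≫ U.ι ≫ X.hom)) G).left (lift (snd (Over.mk (φ ≫ U.ι ≫ X.hom)) G) (fst (Over.mk (φ ≫ U.ι ≫ X.hom)) G ≫ s) ≫ a.act).left
        (φ ≫ U.ι) π.left) :
    IsIso (GIT.PsiY a π hinv) ∧ Flat π.left := by
  exact main a π hinv hli

end Groth.Agent.S14877
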