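import Groth.Statements.S14878
import Groth.Agent.Assoc2.Twist

set_option autoImplicit false
universe u
open CategoryTheory MonoidalCategory CartesianMonoidalCategory MonObj GrpObj AlgebraicGeometry CategoryTheory.Limits
open AlgGrp

namespace Groth.Agent.S14878

/-- Over an algebraically closed field k of characteristic zero, let G be a connected algebraic group (a
smooth connected k-group scheme of finite type), let H be an algebraic subgroup of G (a smooth
closed subgroup scheme, j : H → G), and let H act on a variety X (reduced, separated, of finite type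
over k) in which every finite set of points is contained in an affine open subset. Let H act on G ×
X by h·(g, x) = (g·h⁻¹, h·x). Then this action has a geometric quotient q : G × X → Q with Q a
variety: q is invariant, surjective and open, the map (h, y) ↦ (h·y, y) from H × (G × X) to (G × X)
×_Q (G × X) is surjective on points, and over every open U of Q the sections of O_Q are exactly the
invariant sections over q⁻¹U. Moreover the H-bundle G × X → Q is principal, that is (h, y) ↦ (h·y,
y) is an isomorphism onto (G × X) ×_Q (G × X) and q is flat, and it is locally isotrivial: every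
point of Q has an open neighbourhood U with a finite étale surjective U' → U and a morphism s : U' →
G × X lifting U' → U → Q such that (u, h) ↦ h·s(u) exhibits U' × H as the fibre product U' ×_Q (G ×
X). -/
theorem result (k : Type u) [Field k] [IsAlgClosed k] [CharZero k]
    (G H X : Over (Spec (CommRingCat.of k))) [GrpObj G] [Smooth G.hom] [QuasiCompact G.hom]
    [ConnectedSpace ↥G.left] [GrpObj H] (j : H ⟶ G) [IsMonHom j] [IsClosedImmersion j.left] [Smooth H.hom]
    [LocallyOfFiniteType X.hom] [QuasiCompact X.hom] [IsSeparated X.hom] [IsReduced X.left]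
    (hF : ∀ F : Finset ↥X.left, ∃ U : X.left.Opens, IsAffineOpen U ∧ (↑F : Set ↥X.left) ⊆ (U : Set ↥X.left))
    (aX : AlgGrp.Action H X) (b : AlgGrp.Action H (G ⊗ X))
    (hb : ∀ (T : Over (Spec (CommRingCat.of k))) (h : T ⟶ H) (g : T ⟶ G) (x : T ⟶ X),
      lift h (lift g x) ≫ b.act = lift (g * (h ≫ j)⁻¹) (lift h x ≫ aX.act)) :
    ∃ (Q : Over (Spec (CommRingCat.of k))) (q : G ⊗ X ⟶ Q) (hinv : GIT.IsInvariant b q),
      (LocallyOfFiniteType Q.hom ∧ QuasiCompact Q.hom ∧ IsSeparated Q.hom ∧ IsReduced Q.left) ∧
      (Function.Surjective q.left.base ∧ IsOpenMap q.left.base ∧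
        Function.Surjective (GIT.PsiY b q hinv).base ∧
        ∀ U : Q.left.Opens, Function.Injective (q.left.app U) ∧
          Set.range (q.left.app U) = {f | GIT.IsInvSection b q U f}) ∧
      (IsIso (GIT.PsiY b q hinv) ∧ Flat q.left) ∧
      ∀ y : ↥Q.left, ∃ (U : Q.left.Opens) (_ : y ∈ U) (U' : Scheme.{u}) (φ : U' ⟶ ↑U)
        (_ : IsFinite φ) (_ : Etale φ) (_ : Surjective φ) (s : Over.mk (φ ≫ U.ι ≫ Q.hom) ⟶ G ⊗ X),
        s.left ≫ q.left = φ ≫ U.ι ∧
        IsPullback (fst (Over.mk (φ ≫ U.ι ≫ Q.hom)) H).left (lift (snd (Over.mk (φ ≫ U.ι ≫ Q.hom)) H) (fst (Over.mk (φ ≫ U.ι ≫ Q.hom)) H ≫ s) ≫ b.act).left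
          (φ ≫ U.ι) q.left := by
  classical
  have hF' : Groth.Agent.Assoc2.FAF X.left := fun F hF0 => by
    obtain ⟨U, hU, hs⟩ := hF hF0.toFinset
    exact ⟨U, hU, by simpa using hs⟩
  obtain ⟨Q, q, hinv, hvar, ⟨hopen, hgq⟩, hprin, hiso⟩ := Groth.Agent.Assoc2.exists_balanced j hF' aX b hb
  exact ⟨Q, q, hinv, hvar, ⟨hgq.surj, hopen, hgq.orbit, hgq.sections⟩, hprin, hiso⟩

end Groth.Agent.S14878
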