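import Groth.Statements.S14879
import Mathlib

set_option autoImplicit false
universe u
open Finset
open AlgGrp

namespace Groth.Agent.S14879

/-- Let k be a field of characteristic zero, n = p + r with p, r ≥ 1, M an n × n matrix over k, A a set
of p row indices and B a set of r row indices, both listed increasingly. For a permutation π of the
indices, with permutation matrix P_π, let Y_A(M·P_π) be the minor of M·P_π on the rows A and the
first p columns, and Z_B(M·P_π) the minor on the rows B and the last r columns. Then the sum over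
all π of sign(π)·Y_A(M·P_π)·Z_B(M·P_π) equals p!·r!·(−1)^N·det M when B is the complement of A,
where N is the number of pairs (a, b) with a in A, b outside A and b < a, and equals 0 otherwise.
Taking det M = 1 this says that the pairing (f, h) ↦ Σ_π sign(π) f(π) h(π) between the spans of the
left p-minors and of the right r-minors is invariant under left translation by matrices of
determinant one and pairs Y_A with the signed complementary minor to p!·r!. (The published statement
asserts that the two families of minors are dual bases for this pairing, that is, the value 1 in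
place of p!·r!; the p!·r! permutations preserving the two column blocks each contribute the same
signed term, so this row carries that factor, which is 1 only for n = 2.) -/
theorem result (k : Type u) [Field k] [CharZero k]
    (p r : ℕ) (hp : 1 ≤ p) (hr : 1 ≤ r) (M : Matrix (Fin (p + r)) (Fin (p + r)) k)
    (A : Finset (Fin (p + r))) (hA : A.card = p) (B : Finset (Fin (p + r))) (hB : B.card = r) :
    ∑ π : Equiv.Perm (Fin (p + r)), (((Equiv.Perm.sign π : ℤˣ) : ℤ) : k) *
      ((M * π.permMatrix k).submatrix (A.orderEmbOfFin hA) (Fin.castAdd r)).det *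
      ((M * π.permMatrix k).submatrix (B.orderEmbOfFin hB) (Fin.natAdd p)).det =
    if B = Aᶜ then ((p.factorial * r.factorial : ℕ) : k) *
      (-1 : k) ^ ((A ×ˢ Aᶜ).filter (fun ab => ab.2 < ab.1)).card * M.det else 0 := by
  classical
  let N := fun π : Equiv.Perm (Fin (p + r)) => M * π.permMatrix k
  have hN : ∀ π i j, N π i j = M i (π.symm j) := fun π i j => by
    simp only [N, Equiv.Perm.permMatrix, PEquiv.mul_toMatrix_toPEquiv, Matrix.submatrix_apply, id]
  let a := A.orderEmbOfFin hA
  let b := B.orderEmbOfFin hB
  let g : Equiv.Perm (Fin p) → Equiv.Perm (Fin r) → Fin (p + r) → Fin (p + r) :=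
    fun s t => Fin.append (a ∘ s) (b ∘ t)
  let g₀ : Fin (p + r) → Fin (p + r) := Fin.append a b
  have hprod : ∀ π, ((N π).submatrix a (Fin.castAdd r)).det * ((N π).submatrix b (Fin.natAdd p)).det =
      ∑ s : Equiv.Perm (Fin p), ∑ t : Equiv.Perm (Fin r),
        ((Equiv.Perm.sign s : ℤ) : k) * ((Equiv.Perm.sign t : ℤ) : k) * ∏ c, M (g s t c) (π.symm c) := by
    intro π
    rw [Matrix.det_apply', Matrix.det_apply', Finset.sum_mul_sum]
    refine Finset.sum_congr rfl fun s _ => Finset.sum_congr rfl fun t _ => ?_
    rw [Fin.prod_univ_add]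
    simp only [Matrix.submatrix_apply, hN, g, Fin.append_left, Fin.append_right, Function.comp_apply]
    ring
  have hsum : ∀ h : Fin (p + r) → Fin (p + r),
      ∑ π : Equiv.Perm (Fin (p + r)), ((Equiv.Perm.sign π : ℤ) : k) * ∏ c, M (h c) (π.symm c) = (M.submatrix h id).det := by
    intro h
    rw [← Matrix.det_transpose, Matrix.det_apply', ← Equiv.sum_comp (Equiv.inv _)]
    refine Finset.sum_congr rfl fun π _ => ?_
    simp [Equiv.Perm.inv_def]
  have hg : ∀ s t, (M.submatrix (g s t) id).det =
      ((Equiv.Perm.sign s : ℤ) : k) * ((Equiv.Perm.sign t : ℤ) : k) * (M.submatrix g₀ id).det := by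
    intro s t
    let st : Equiv.Perm (Fin (p + r)) := finSumFinEquiv.permCongr (Equiv.Perm.sumCongr s t)
    have e : g s t = g₀ ∘ st := by
      funext c
      refine Fin.addCases (fun i => ?_) (fun j => ?_) c
      · simp [g, g₀, st, Equiv.permCongr_apply]
      · simp [g, g₀, st, Equiv.permCongr_apply]
    rw [e, show M.submatrix (g₀ ∘ st) id = (M.submatrix g₀ id).submatrix st id from rfl, Matrix.det_permute,
      Equiv.Perm.sign_permCongr, Equiv.Perm.sign_sumCongr]
    push_cast
    ring
  calc _ = ∑ π : Equiv.Perm (Fin (p + r)), ((Equiv.Perm.sign π : ℤ) : k) *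
        (((N π).submatrix a (Fin.castAdd r)).det * ((N π).submatrix b (Fin.natAdd p)).det) :=
          Finset.sum_congr rfl fun π _ => mul_assoc _ _ _
    _ = ∑ s : Equiv.Perm (Fin p), ∑ t : Equiv.Perm (Fin r), (M.submatrix g₀ id).det := by
      simp only [hprod, Finset.mul_sum]
      rw [Finset.sum_comm]
      refine Finset.sum_congr rfl fun s _ => ?_
      rw [Finset.sum_comm]
      refine Finset.sum_congr rfl fun t _ => ?_
      have hsq : ∀ u : ℤˣ, ((u : ℤ) : k) * ((u : ℤ) : k) = 1 := fun u => by
        rcases Int.units_eq_one_or u with rfl | rfl <;> simp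
      calc ∑ π : Equiv.Perm (Fin (p + r)), ((Equiv.Perm.sign π : ℤ) : k) *
            (((Equiv.Perm.sign s : ℤ) : k) * ((Equiv.Perm.sign t : ℤ) : k) * ∏ c, M (g s t c) (π.symm c))
          = ((Equiv.Perm.sign s : ℤ) : k) * ((Equiv.Perm.sign t : ℤ) : k) *
            ∑ π : Equiv.Perm (Fin (p + r)), ((Equiv.Perm.sign π : ℤ) : k) * ∏ c, M (g s t c) (π.symm c) := by
              rw [Finset.mul_sum]; exact Finset.sum_congr rfl fun π _ => by ring
        _ = _ := by
          rw [hsum, hg]
          linear_combination (M.submatrix g₀ id).det * ((Equiv.Perm.sign t : ℤ) : k) * ((Equiv.Perm.sign t : ℤ) : k) *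
            hsq (Equiv.Perm.sign s) + (M.submatrix g₀ id).det * hsq (Equiv.Perm.sign t)
    _ = ((p.factorial * r.factorial : ℕ) : k) * (M.submatrix g₀ id).det := by
      simp [Finset.card_univ, Fintype.card_perm, mul_assoc]
    _ = _ := ?_
  by_cases hBA : B = Aᶜ
  · rw [if_pos hBA]
    have hinj : Function.Injective g₀ := by
      rw [Fin.append_injective_iff]
      refine ⟨a.injective, b.injective, fun i j h => ?_⟩
      have h1 : a i ∈ A := A.orderEmbOfFin_mem hA i
      have h2 : b j ∈ B := B.orderEmbOfFin_mem hB j
      have h2 := (Finset.ext_iff.1 hBA _).1 h2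
      rw [← h, Finset.mem_compl] at h2
      exact h2 h1
    let σ : Equiv.Perm (Fin (p + r)) := Equiv.ofBijective g₀ (Finite.injective_iff_bijective.1 hinj)
    rw [show M.submatrix g₀ id = M.submatrix σ id from rfl, Matrix.det_permute, mul_assoc, ← mul_assoc]
    rw [← mul_assoc]
    congr 2
    have hσl : ∀ i, σ (Fin.castAdd r i) = a i := fun i => Fin.append_left _ _ i
    have hσr : ∀ j, σ (Fin.natAdd p j) = b j := fun j => Fin.append_right _ _ j
    rw [Equiv.Perm.sign_eq_prod_prod_Ioi]
    push_cast
    have hS : ∀ i j, i < j → (σ i < σ j ↔ ¬ σ j < σ i) := fun i j h => by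
      rw [not_lt, le_iff_eq_or_lt, or_iff_right (fun he => h.ne (σ.injective he))]
    let S := ((A ×ˢ Aᶜ).filter (fun ab => ab.2 < ab.1))
    have e1 : ∀ i j : Fin (p + r), i < j →
        (((if σ i < σ j then (1 : ℤˣ) else -1 : ℤˣ) : ℤ) : k) = if (σ i, σ j) ∈ S then -1 else 1 := by
      intro i j hij
      have hiff : (σ i, σ j) ∈ S ↔ σ j < σ i := by
        simp only [S, Finset.mem_filter, Finset.mem_product, Finset.mem_compl]
        refine ⟨fun h => h.2, fun h => ⟨?_, h⟩⟩
        revert hij h
        refine Fin.addCases (fun i' => ?_) (fun i' => ?_) i <;> refine Fin.addCases (fun j' => ?_) (fun j' => ?_) j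
        · intro hij h
          rw [hσl, hσl, a.lt_iff_lt] at h
          simp only [Fin.lt_def, Fin.val_castAdd] at hij h
          omega
        · intro hij h
          rw [hσl, hσr]
          refine ⟨A.orderEmbOfFin_mem hA i', fun hb => ?_⟩
          have := B.orderEmbOfFin_mem hB j'
          have := (Finset.ext_iff.1 hBA _).1 this
          rw [Finset.mem_compl] at this
          exact this hb
        · intro hij h
          simp only [Fin.lt_def, Fin.val_castAdd, Fin.val_natAdd] at hij
          have := j'.isLt
          omega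
        · intro hij h
          rw [hσr, hσr, b.lt_iff_lt] at h
          simp only [Fin.lt_def, Fin.val_natAdd] at hij h
          omega
      by_cases h : σ i < σ j
      · rw [if_pos h, if_neg (fun hh => absurd (hiff.1 hh) (not_lt.2 h.le))]
        simp
      · rw [if_neg h, if_pos (hiff.2 (by
          by_contra h'
          exact h ((hS i j hij).2 h')))]
        simp
    rw [Finset.prod_sigma']
    rw [Finset.prod_congr rfl (fun x hx => e1 x.1 x.2 (Finset.mem_Ioi.1 (Finset.mem_sigma.1 hx).2)),
      Finset.prod_ite, Finset.prod_const, Finset.prod_const, one_pow, mul_one]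
    congr 1
    refine Finset.card_bij (fun x _ => (σ x.1, σ x.2)) (fun x hx => (Finset.mem_filter.1 hx).2) ?_ ?_
    · rintro ⟨i, j⟩ _ ⟨i', j'⟩ _ h
      simp only [Prod.mk.injEq, σ.injective.eq_iff] at h
      rw [h.1, h.2]
    · rintro ⟨x, y⟩ hxy
      refine ⟨⟨σ.symm x, σ.symm y⟩, ?_, by simp⟩
      simp only [Finset.mem_filter, Finset.mem_sigma, Finset.mem_univ, Finset.mem_Ioi, true_and,
        Equiv.apply_symm_apply]
      refine ⟨?_, hxy⟩
      simp only [S, Finset.mem_filter, Finset.mem_product, Finset.mem_compl] at hxy
      obtain ⟨i, rfl⟩ := σ.surjective x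
      obtain ⟨j, rfl⟩ := σ.surjective y
      simp only [Equiv.symm_apply_apply]
      revert hxy
      refine Fin.addCases (fun i' => ?_) (fun i' => ?_) i <;> refine Fin.addCases (fun j' => ?_) (fun j' => ?_) j
      · intro hxy
        exact absurd (hσl j' ▸ A.orderEmbOfFin_mem hA j') hxy.1.2
      · intro _
        simp only [Fin.lt_def, Fin.val_castAdd, Fin.val_natAdd]
        have := i'.isLt
        omega
      · intro hxy
        exact absurd (hσl j' ▸ A.orderEmbOfFin_mem hA j') hxy.1.2
      · intro hxy
        have h1 : σ (Fin.natAdd p i') ∈ B := hσr i' ▸ B.orderEmbOfFin_mem hB i'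
        have h1 := (Finset.ext_iff.1 hBA _).1 h1
        rw [Finset.mem_compl] at h1
        exact absurd hxy.1.1 h1
  · rw [if_neg hBA]
    refine mul_eq_zero_of_right _ ?_
    have hni : ¬ Function.Injective g₀ := by
      intro hinj
      apply hBA
      refine Finset.eq_of_subset_of_card_le (fun y hy => Finset.mem_compl.2 fun hyA => ?_) (by
        rw [Finset.card_compl, Fintype.card_fin, hA, hB]; omega)
      obtain ⟨j, rfl⟩ : ∃ j, b j = y := by
        have : y ∈ Set.range b := by rw [Finset.range_orderEmbOfFin]; exact hy
        exact this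
      obtain ⟨i, hi⟩ : ∃ i, a i = b j := by
        have : b j ∈ Set.range a := by rw [Finset.range_orderEmbOfFin]; exact hyA
        exact this
      exact (Fin.append_injective_iff.1 hinj).2.2 i j hi
    obtain ⟨i, j, hij, hne⟩ := Function.not_injective_iff.1 hni
    exact Matrix.det_zero_of_row_eq hne (funext fun c => by simp [hij])

end Groth.Agent.S14879
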