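import Groth.Statements.S14881


set_option autoImplicit false
universe u
open CategoryTheory MonoidalCategory CartesianMonoidalCategory MonObj GrpObj AlgebraicGeometry CategoryTheory.Limits
open AlgGrp

namespace Groth.Agent.S14881

/-- Over an algebraically closed field k of characteristic zero, let G be an algebraic group (a smooth
k-group scheme of finite type), X a variety (reduced, separated, of finite type over k) and Γ a
finite group acting on X on the right (x ↦ x·σ, with x·(στ) = (x·σ)·τ). Let σ ↦ λ_σ be a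
Γ-linearization of the trivial principal G-bundle X × G: a right action of Γ on X × G (λ_1 the
identity, λ_{στ} = λ_τ ∘ λ_σ) lying over the action on X and commuting with the action of G by right
multiplication on the second factor. Then there is exactly one 1-cocycle φ : Γ → G(X), φ_{στ} = φ_σ
· (φ_τ ∘ (·σ)), such that λ_σ(x, g) = (x·σ, φ_σ(x)⁻¹·g) for all σ and all points x of X, g of G with
values in any k-scheme. -/
theorem result (k : Type u) [Field k] [IsAlgClosed k] [CharZero k]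
    (G X : Over (Spec (CommRingCat.of k))) [GrpObj G] [Smooth G.hom] [QuasiCompact G.hom]
    [LocallyOfFiniteType X.hom] [QuasiCompact X.hom] [IsSeparated X.hom] [IsReduced X.left]
    (Γ : Type) [Group Γ] [Finite Γ] (ρ : Γ → (X ⟶ X)) (hρ₁ : ρ 1 = 𝟙 X) (hρ : ∀ σ τ : Γ, ρ (σ * τ) = ρ σ ≫ ρ τ)
    (lam : Γ → (X ⊗ G ⟶ X ⊗ G)) (hlam₁ : lam 1 = 𝟙 (X ⊗ G)) (hlam : ∀ σ τ : Γ, lam (σ * τ) = lam σ ≫ lam τ)
    (hfst : ∀ σ : Γ, lam σ ≫ fst X G = fst X G ≫ ρ σ)
    (hG : ∀ (σ : Γ) (T : Over (Spec (CommRingCat.of k))) (x : T ⟶ X) (g h : T ⟶ G),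
      lift x (g * h) ≫ lam σ ≫ snd X G = (lift x g ≫ lam σ ≫ snd X G) * h) :
    ∃! φ : Γ → (X ⟶ G), (∀ σ τ : Γ, φ (σ * τ) = φ σ * (ρ σ ≫ φ τ)) ∧
      ∀ (σ : Γ) (T : Over (Spec (CommRingCat.of k))) (x : T ⟶ X) (g : T ⟶ G),
        lift x g ≫ lam σ = lift (x ≫ ρ σ) ((x ≫ φ σ)⁻¹ * g) := by
  let φ : Γ → (X ⟶ G) := fun σ => (lift (𝟙 X) (1 : X ⟶ G) ≫ lam σ ≫ snd X G)⁻¹
  have hpt : ∀ (σ : Γ) (T : Over (Spec (CommRingCat.of k))) (x : T ⟶ X) (g : T ⟶ G),
      lift x g ≫ lam σ = lift (x ≫ ρ σ) ((x ≫ φ σ)⁻¹ * g) := by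
    intro σ T x g
    apply CartesianMonoidalCategory.hom_ext
    · rw [Category.assoc, hfst, lift_fst, lift_fst_assoc]
    · rw [Category.assoc, lift_snd]
      have h := hG σ T x 1 g
      rw [_root_.one_mul] at h
      rw [h]
      congr 1
      rw [GrpObj.comp_inv, _root_.inv_inv, ← Category.assoc x, comp_lift, Category.comp_id, MonObj.comp_one]
  have huniq : ∀ ψ : Γ → (X ⟶ G), (∀ (σ : Γ) (T : Over (Spec (CommRingCat.of k))) (x : T ⟶ X) (g : T ⟶ G),
      lift x g ≫ lam σ = lift (x ≫ ρ σ) ((x ≫ ψ σ)⁻¹ * g)) → ψ = φ := by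
    intro ψ h
    funext σ
    have h' := congrArg (· ≫ snd X G) (h σ X (𝟙 X) 1)
    simp only [Category.assoc, lift_snd, Category.id_comp, _root_.mul_one] at h'
    rw [← _root_.inv_inv (ψ σ), ← h']
  refine ⟨φ, ⟨fun σ τ => ?_, hpt⟩, fun ψ h => huniq ψ h.2⟩
  have h := congrArg (· ≫ snd X G) (congrArg (lift (𝟙 X) (1 : X ⟶ G) ≫ ·) (hlam σ τ))
  simp only [← Category.assoc (lift (𝟙 X) (1 : X ⟶ G)), hpt, Category.id_comp, lift_snd, _root_.mul_one] at h
  rw [← _root_.inv_inj, h, _root_.mul_inv_rev]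

end Groth.Agent.S14881
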