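import Groth.Statements.S14885

set_option autoImplicit false
universe u v
open CategoryTheory TopologicalSpace Opposite AlgebraicGeometry Topology
open AlgGrp

namespace Groth.Agent.S14885

/-- Let a group Γ act on a ringed space X (a topological space with a sheaf of rings) by automorphisms
τ_g, and let π : X → Y be a Γ-invariant morphism of ringed spaces which exhibits Y as the quotient
ringed space X/Γ: the underlying continuous map of π is a topological quotient map whose fibres are
exactly the Γ-orbits, and for every open subset V of Y the ring map O_Y(V) → O_X(π⁻¹V) is injective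
with image the sections s satisfying τ_g^♯(s) = s for all g. Then (Y, π) is a categorical quotient
for the action in the category of ringed spaces: every morphism of ringed spaces f : X → Z with f ∘
τ_g = f for all g (as morphisms of ringed spaces) factors uniquely as f = f̄ ∘ π. -/
theorem result (X Y : SheafedSpace CommRingCat.{u}) (Γ : Type v) [Group Γ]
    (τ : Γ →* Aut X) (π : X ⟶ Y) (hτ : ∀ g : Γ, (τ g).hom ≫ π = π)
    (h1 : IsQuotientMap π.hom.base)
    (h2 : ∀ x x' : X, π.hom.base x = π.hom.base x' ↔ ∃ g : Γ, (τ g).hom.hom.base x = x')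
    (h3 : ∀ V : Opens Y, Function.Injective (π.hom.c.app (op V)) ∧
      Set.range (π.hom.c.app (op V)) =
        {s | ∀ g : Γ, (τ g).hom.hom.c.app (op ((Opens.map π.hom.base).obj V)) s =
          X.presheaf.map (eqToHom (congrArg (fun f : X ⟶ Y => op ((Opens.map f.hom.base).obj V)) (hτ g).symm)) s})
    (Z : SheafedSpace CommRingCat.{u}) (f : X ⟶ Z) (hf : ∀ g : Γ, (τ g).hom ≫ f = f) :
    ∃! fbar : Y ⟶ Z, π ≫ fbar = f := by
  classical
  let b₀ : Y → Z := fun y => f.hom.base (Classical.choose (h1.surjective y))
  have hb₀ : ∀ x, b₀ (π.hom.base x) = f.hom.base x := fun x => by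
    obtain ⟨g, hg⟩ := (h2 _ x).1 (Classical.choose_spec (h1.surjective (π.hom.base x)))
    show f.hom.base _ = _
    conv_rhs => rw [← hg]
    have h' : ∀ y, ((τ g).hom ≫ f).hom.base y = f.hom.base y := fun y => by rw [hf g]
    exact (h' _).symm
  have hb₀c : Continuous b₀ := h1.continuous_iff.2 (by
    rw [show b₀ ∘ π.hom.base = f.hom.base from funext hb₀]
    exact f.hom.base.hom.continuous)
  let b : Y.carrier ⟶ Z.carrier := TopCat.ofHom ⟨b₀, hb₀c⟩
  have hO : ∀ V : Opens Z, (Opens.map π.hom.base).obj ((Opens.map b).obj V) = (Opens.map f.hom.base).obj V :=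
    fun V => Opens.ext (Set.ext fun x => by
      show b₀ (π.hom.base x) ∈ V ↔ f.hom.base x ∈ V
      rw [hb₀])
  let F : ∀ V : Opens Z, Z.presheaf.obj (op V) ⟶ X.presheaf.obj (op ((Opens.map π.hom.base).obj ((Opens.map b).obj V))) :=
    fun V => f.hom.c.app (op V) ≫ X.presheaf.map (eqToHom (congrArg op (hO V).symm))
  have hmap : ∀ {U V V' W : (Opens X)ᵒᵖ} (a : U ⟶ V) (a' : V ⟶ W) (c : U ⟶ V') (c' : V' ⟶ W) (s : X.presheaf.obj U),
      X.presheaf.map a' (X.presheaf.map a s) = X.presheaf.map c' (X.presheaf.map c s) :=
    fun a a' c c' s => by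
      rw [← CommRingCat.comp_apply, ← CommRingCat.comp_apply, ← Functor.map_comp, ← Functor.map_comp]
      rfl
  have hinv : ∀ (V : Opens Z) (t), F V t ∈ Set.range (π.hom.c.app (op ((Opens.map b).obj V))) := fun V t => by
    rw [(h3 _).2]
    intro g
    have hn := fun {U W : (Opens X)ᵒᵖ} (e : U ⟶ W) (s : X.presheaf.obj U) =>
      congr($((τ g).hom.hom.c.naturality e) s)
    have hc := congr($(PresheafedSpace.congr_app (congrArg (·.hom) (hf g)) (op V)) t)
    simp only [F]
    dsimp at hc hn ⊢
    rw [hn]
    erw [hc]
    exact hmap _ _ _ _ _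
  choose L hL using hinv
  have key : ∀ (V : Opens Z) (t), π.hom.c.app (op ((Opens.map b).obj V)) (L V t) = F V t := hL
  let c : Z.presheaf ⟶ b _* Y.presheaf :=
    { app := fun V => CommRingCat.ofHom
        { toFun := L V.unop
          map_one' := (h3 _).1 (by rw [key, map_one, map_one])
          map_mul' := fun s t => (h3 _).1 (by simp only [key, map_mul])
          map_zero' := (h3 _).1 (by rw [key, map_zero, map_zero])
          map_add' := fun s t => (h3 _).1 (by simp only [key, map_add]) }
      naturality := fun U W e => CommRingCat.hom_ext (RingHom.ext fun t => (h3 _).1 (by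
        have hn := congr($(π.hom.c.naturality ((Opens.map b).map e.unop).op) (L U.unop t))
        have hf' := congr($(f.hom.c.naturality e) t)
        dsimp at hn hf' ⊢
        rw [key]
        refine Eq.trans ?_ hn.symm
        rw [key]
        simp only [F]
        dsimp
        rw [hf']
        simp only [← CommRingCat.comp_apply, Category.assoc, ← Functor.map_comp]
        rfl)) }
  let fbar : Y ⟶ Z := ⟨⟨b, c⟩⟩
  have hbase : (π ≫ fbar).hom.base = f.hom.base := TopCat.hom_ext (ContinuousMap.ext hb₀)
  refine ⟨fbar, SheafedSpace.ext _ _ hbase ?_, fun q hq => ?_⟩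
  · ext V t
    have := key V t
    simp only [F] at this
    dsimp at this ⊢
    show X.presheaf.map _ (π.hom.c.app _ (L V t)) = _
    erw [this]
    erw [← CommRingCat.comp_apply, ← Functor.map_comp]
    exact (congr($(X.presheaf.map_id _) _) : _)
  · have hb : q.hom.base = b := TopCat.hom_ext (ContinuousMap.ext fun y => by
      obtain ⟨x, rfl⟩ := h1.surjective y
      exact (congr($hq |>.hom.base x)).trans (hb₀ x).symm)
    refine SheafedSpace.ext _ _ hb ?_
    obtain ⟨⟨qb, qc⟩⟩ := q
    change qb = b at hb
    cases hb
    ext V t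
    refine (h3 _).1 ?_
    have := congr($(PresheafedSpace.congr_app (congrArg (·.hom) hq) (op V)) t)
    simp [fbar, c] at this ⊢
    erw [key]
    exact this

end Groth.Agent.S14885
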