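import Groth.Statements.S14886
import Groth.Agent.Assoc.TorsorSquare

set_option autoImplicit false
set_option backward.isDefEq.respectTransparency false
universe u
open CategoryTheory MonoidalCategory CartesianMonoidalCategory MonObj GrpObj AlgebraicGeometry CategoryTheory.Limits
open AlgGrp

namespace Groth.Agent.S14886

/-- Over an algebraically closed field k of characteristic zero, let G be a connected algebraic group (a
smooth connected k-group scheme of finite type) and H an algebraic subgroup (a smooth closed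
subgroup scheme, j : H → G). Let π : G → B be the quotient of G by H (a geometric quotient for the
action h·g = g·h⁻¹ which is a principal H-bundle: (h, g) ↦ (g·h⁻¹, g) is an isomorphism H × G ≅ G
×_B G and π is flat). Let X and Y be varieties (reduced, separated, of finite type over k) with
H-actions, in each of which every finite set of points lies in an affine open subset, and let qX : G
× X → QX, qY : G × Y → QY and qXY : G × (X × Y) → QXY be the associated bundles G_H(X), G_H(Y) and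
G_H(X × Y): geometric quotients (invariant, surjective, open, fibre-pair map surjective on points,
sections = invariant sections) which are principal H-bundles, for the actions h·(g, x) = (g·h⁻¹,
h·x), h·(g, y) = (g·h⁻¹, h·y) and h·(g, x, y) = (g·h⁻¹, h·x, h·y), with QX, QY, QXY varieties over B
= G/H through pX, pY, pXY satisfying p ∘ q = π ∘ pr₁. Let fX : QXY → QX and fY : QXY → QY be the
morphisms over B induced by the projections, fX ∘ qXY = qX ∘ (id × pr₁) and fY ∘ qXY = qY ∘ (id ×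
pr₂). Then the square formed by fX, fY, pX, pY is cartesian: G_H(X × Y) is the fibre product of
G_H(X) and G_H(Y) over G/H. -/
theorem result (k : Type u) [Field k] [IsAlgClosed k] [CharZero k]
    (G H : Over (Spec (CommRingCat.of k))) [GrpObj G] [Smooth G.hom] [QuasiCompact G.hom]
    [ConnectedSpace ↥G.left] [GrpObj H] (j : H ⟶ G) [IsMonHom j] [IsClosedImmersion j.left] [Smooth H.hom]
    (B : Over (Spec (CommRingCat.of k))) [LocallyOfFiniteType B.hom] [QuasiCompact B.hom] [IsSeparated B.hom] [IsReduced B.left]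
    (r : AlgGrp.Action H G) (hr : ∀ (T : Over (Spec (CommRingCat.of k))) (h : T ⟶ H) (g : T ⟶ G),
      lift h g ≫ r.act = g * (h ≫ j)⁻¹)
    (π : G ⟶ B) (hπinv : GIT.IsInvariant r π)
    (hπ : (Function.Surjective π.left.base ∧ IsOpenMap π.left.base ∧
      Function.Surjective (GIT.PsiY r π hπinv).base ∧
      (∀ U : B.left.Opens, Function.Injective (π.left.app U) ∧
        Set.range (π.left.app U) = {f | GIT.IsInvSection r π U f}) ∧
      IsIso (GIT.PsiY r π hπinv) ∧ Flat π.left))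
    (X Y : Over (Spec (CommRingCat.of k))) [LocallyOfFiniteType X.hom] [QuasiCompact X.hom] [IsSeparated X.hom] [IsReduced X.left] [LocallyOfFiniteType Y.hom] [QuasiCompact Y.hom] [IsSeparated Y.hom] [IsReduced Y.left]
    (hFX : ∀ F : Finset ↥X.left, ∃ U : X.left.Opens, IsAffineOpen U ∧ (↑F : Set ↥X.left) ⊆ (U : Set ↥X.left))
    (hFY : ∀ F : Finset ↥Y.left, ∃ U : Y.left.Opens, IsAffineOpen U ∧ (↑F : Set ↥Y.left) ⊆ (U : Set ↥Y.left))
    (aX : AlgGrp.Action H X) (aY : AlgGrp.Action H Y)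
    (b : AlgGrp.Action H (G ⊗ X))
    (hb : ∀ (T : Over (Spec (CommRingCat.of k))) (h : T ⟶ H) (g : T ⟶ G) (x : T ⟶ X),
      lift h (lift g x) ≫ b.act = lift (g * (h ≫ j)⁻¹) (lift h x ≫ aX.act))
    (c : AlgGrp.Action H (G ⊗ Y))
    (hc : ∀ (T : Over (Spec (CommRingCat.of k))) (h : T ⟶ H) (g : T ⟶ G) (x : T ⟶ Y),
      lift h (lift g x) ≫ c.act = lift (g * (h ≫ j)⁻¹) (lift h x ≫ aY.act))
    (d : AlgGrp.Action H (G ⊗ (X ⊗ Y)))
    (hd : ∀ (T : Over (Spec (CommRingCat.of k))) (h : T ⟶ H) (g : T ⟶ G) (x : T ⟶ X) (y : T ⟶ Y),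
      lift h (lift g (lift x y)) ≫ d.act = lift (g * (h ≫ j)⁻¹) (lift (lift h x ≫ aX.act) (lift h y ≫ aY.act)))
    (QX QY QXY : Over (Spec (CommRingCat.of k))) [LocallyOfFiniteType QX.hom] [QuasiCompact QX.hom] [IsSeparated QX.hom] [IsReduced QX.left] [LocallyOfFiniteType QY.hom] [QuasiCompact QY.hom] [IsSeparated QY.hom] [IsReduced QY.left] [LocallyOfFiniteType QXY.hom] [QuasiCompact QXY.hom] [IsSeparated QXY.hom] [IsReduced QXY.left]
    (qX : G ⊗ X ⟶ QX) (hqXinv : GIT.IsInvariant b qX) (hqX : (Function.Surjective qX.left.base ∧ IsOpenMap qX.left.base ∧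
      Function.Surjective (GIT.PsiY b qX hqXinv).base ∧
      (∀ U : QX.left.Opens, Function.Injective (qX.left.app U) ∧
        Set.range (qX.left.app U) = {f | GIT.IsInvSection b qX U f}) ∧
      IsIso (GIT.PsiY b qX hqXinv) ∧ Flat qX.left))
    (qY : G ⊗ Y ⟶ QY) (hqYinv : GIT.IsInvariant c qY) (hqY : (Function.Surjective qY.left.base ∧ IsOpenMap qY.left.base ∧
      Function.Surjective (GIT.PsiY c qY hqYinv).base ∧
      (∀ U : QY.left.Opens, Function.Injective (qY.left.app U) ∧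
        Set.range (qY.left.app U) = {f | GIT.IsInvSection c qY U f}) ∧
      IsIso (GIT.PsiY c qY hqYinv) ∧ Flat qY.left))
    (qXY : G ⊗ (X ⊗ Y) ⟶ QXY) (hqXYinv : GIT.IsInvariant d qXY) (hqXY : (Function.Surjective qXY.left.base ∧ IsOpenMap qXY.left.base ∧
      Function.Surjective (GIT.PsiY d qXY hqXYinv).base ∧
      (∀ U : QXY.left.Opens, Function.Injective (qXY.left.app U) ∧
        Set.range (qXY.left.app U) = {f | GIT.IsInvSection d qXY U f}) ∧
      IsIso (GIT.PsiY d qXY hqXYinv) ∧ Flat qXY.left))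
    (pX : QX ⟶ B) (hpX : qX ≫ pX = fst G X ≫ π) (pY : QY ⟶ B) (hpY : qY ≫ pY = fst G Y ≫ π)
    (pXY : QXY ⟶ B) (hpXY : qXY ≫ pXY = fst G (X ⊗ Y) ≫ π)
    (fX : QXY ⟶ QX) (hfX : qXY ≫ fX = (G ◁ fst X Y) ≫ qX) (hfXp : fX ≫ pX = pXY)
    (fY : QXY ⟶ QY) (hfY : qXY ≫ fY = (G ◁ snd X Y) ≫ qY) (hfYp : fY ≫ pY = pXY) :
    IsPullback fX.left fY.left pX.left pY.left := by
  obtain ⟨hπs, -, -, -, hπi, _⟩ := hπ
  obtain ⟨hXs, -, -, -, hXi, _⟩ := hqX
  obtain ⟨hYs, -, -, -, hYi, _⟩ := hqY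
  obtain ⟨hXYs, -, -, -, hXYi, _⟩ := hqXY
  have : Surjective π.left := ⟨hπs⟩
  have : Surjective qX.left := ⟨hXs⟩
  have : Surjective qY.left := ⟨hYs⟩
  have : Surjective qXY.left := ⟨hXYs⟩
  have : QuasiCompact π.left := Groth.Agent.Assoc.quasiCompact_left π
  have : QuasiCompact (G ⊗ (X ⊗ Y)).hom :=
    inferInstanceAs (QuasiCompact (pullback.fst G.hom (pullback.fst X.hom Y.hom ≫ X.hom) ≫ G.hom))
  have : QuasiCompact qXY.left := Groth.Agent.Assoc.quasiCompact_left qXY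
  have sX := Groth.Agent.Assoc.bundle_square j r hr aX b hb π hπi qX hXi pX hpX
  have sY := Groth.Agent.Assoc.bundle_square j r hr aY c hc π hπi qY hYi pY hpY
  have sXY : IsPullback (fst G (X ⊗ Y)) qXY π pXY := by
    refine Groth.Agent.Assoc.torsor_square d r qXY π (fst G (X ⊗ Y)) pXY
      (Groth.Agent.Assoc.sq_of_psiY hXYi) (Groth.Agent.Assoc.sq_of_psiY hπi) (fun T h z => ?_) hpXY
    have e : lift h z = lift h (lift (z ≫ fst G (X ⊗ Y))
        (lift (z ≫ snd G (X ⊗ Y) ≫ fst X Y) (z ≫ snd G (X ⊗ Y) ≫ snd X Y))) := by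
      rw [← Category.assoc z, ← Category.assoc z, lift_comp_fst_snd, lift_comp_fst_snd]
    rw [e, hd, lift_fst, hr]
  have huniq : ∀ {T : Over (Spec (CommRingCat.of k))} (z z' : T ⟶ QXY),
      z ≫ fX = z' ≫ fX → z ≫ fY = z' ≫ fY → z = z' := by
    intro T z z' e₁ e₂
    obtain ⟨T', t, g, _, _, _, hg⟩ := Groth.Agent.Assoc.exists_cover_of π (z ≫ pXY)
    have hg' : g ≫ π = t ≫ z' ≫ pXY := by rw [hg, ← hfXp, reassoc_of% e₁]
    obtain ⟨w, hw₁, hw₂⟩ : ∃ w, w ≫ fst G (X ⊗ Y) = g ∧ w ≫ qXY = t ≫ z :=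
      ⟨sXY.lift g (t ≫ z) (by rw [hg, Category.assoc]), sXY.lift_fst _ _ _, sXY.lift_snd _ _ _⟩
    obtain ⟨w', hw₁', hw₂'⟩ : ∃ w, w ≫ fst G (X ⊗ Y) = g ∧ w ≫ qXY = t ≫ z' :=
      ⟨sXY.lift g (t ≫ z') (by rw [hg', Category.assoc]), sXY.lift_fst _ _ _, sXY.lift_snd _ _ _⟩
    have eX : w ≫ (G ◁ fst X Y) = w' ≫ (G ◁ fst X Y) := sX.hom_ext (by simp [hw₁, hw₁'])
      (by rw [Category.assoc, Category.assoc, ← hfX, reassoc_of% hw₂, reassoc_of% hw₂', e₁])
    have eY : w ≫ (G ◁ snd X Y) = w' ≫ (G ◁ snd X Y) := sY.hom_ext (by simp [hw₁, hw₁'])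
      (by rw [Category.assoc, Category.assoc, ← hfY, reassoc_of% hw₂, reassoc_of% hw₂', e₂])
    have ew : w = w' := CartesianMonoidalCategory.hom_ext _ _ (by rw [hw₁, hw₁'])
      (CartesianMonoidalCategory.hom_ext _ _ (by simpa using eX =≫ snd G X) (by simpa using eY =≫ snd G Y))
    exact Groth.Agent.SpecialExt.cancel_cover t (by rw [← hw₂, ← hw₂', ew])
  have hlift : ∀ {T : Over (Spec (CommRingCat.of k))} (x : T ⟶ QX) (y : T ⟶ QY), x ≫ pX = y ≫ pY →
      ∃ z : T ⟶ QXY, z ≫ fX = x ∧ z ≫ fY = y := by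
    intro T x y e
    obtain ⟨T', t, g, _, _, _, hg⟩ := Groth.Agent.Assoc.exists_cover_of π (x ≫ pX)
    obtain ⟨x₀, hx₁, hx₂⟩ : ∃ w, w ≫ fst G X = g ∧ w ≫ qX = t ≫ x :=
      ⟨sX.lift g (t ≫ x) (by rw [hg, Category.assoc]), sX.lift_fst _ _ _, sX.lift_snd _ _ _⟩
    obtain ⟨y₀, hy₁, hy₂⟩ : ∃ w, w ≫ fst G Y = g ∧ w ≫ qY = t ≫ y :=
      ⟨sY.lift g (t ≫ y) (by rw [hg, e, Category.assoc]), sY.lift_fst _ _ _, sY.lift_snd _ _ _⟩
    let z₀ := lift g (lift (x₀ ≫ snd G X) (y₀ ≫ snd G Y)) ≫ qXY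
    have hzX : z₀ ≫ fX = t ≫ x := by
      rw [Category.assoc, hfX, ← Category.assoc, lift_whiskerLeft, lift_fst, ← hx₁,
        lift_comp_fst_snd, hx₂]
    have hzY : z₀ ≫ fY = t ≫ y := by
      rw [Category.assoc, hfY, ← Category.assoc, lift_whiskerLeft, lift_snd, ← hy₁,
        lift_comp_fst_snd, hy₂]
    obtain ⟨z, hz⟩ := Groth.Agent.SpecialExt.exists_desc t z₀ fun U u u' hu => huniq _ _
      (by simp only [Category.assoc, hzX, reassoc_of% hu])
      (by simp only [Category.assoc, hzY, reassoc_of% hu])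
    exact ⟨z, Groth.Agent.SpecialExt.cancel_cover t (by rw [reassoc_of% hz, hzX]),
      Groth.Agent.SpecialExt.cancel_cover t (by rw [reassoc_of% hz, hzY])⟩
  have main : IsPullback fX fY pX pY := ⟨⟨hfXp.trans hfYp.symm⟩, ⟨PullbackCone.IsLimit.mk _
    (fun s => (hlift s.fst s.snd s.condition).choose)
    (fun s => (hlift s.fst s.snd s.condition).choose_spec.1)
    (fun s => (hlift s.fst s.snd s.condition).choose_spec.2)
    (fun s m h₁ h₂ => huniq _ _ (h₁.trans (hlift s.fst s.snd s.condition).choose_spec.1.symm)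
      (h₂.trans (hlift s.fst s.snd s.condition).choose_spec.2.symm))⟩⟩
  exact main.map (Over.forget _)

end Groth.Agent.S14886
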