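import Groth.Statements.S14888
import Groth.Agent.AtPrimeAway.Basic

set_option autoImplicit false
universe u
open CategoryTheory AlgebraicGeometry
open CAlg

namespace Groth.Agent.S14888

/-- Let R be a valuation ring whose spectrum is finite (finite height) and let f : X → Spec R be locally
of finite type with locally quasi-finite fibres. For every x ∈ X the canonical morphism Spec O_{X,x}
→ X is an open immersion, and the composite Spec O_{X,x} → Spec R is locally of finite type; in
particular O_{X,x} is finitely generated as an R-algebra. (The published statement takes X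
quasi-finite over Spec R; the assertions are local at x, so this row assumes only that X is locally
of finite type with discrete fibres.) -/
theorem result
    (R : Type u) [CommRing R] [IsDomain R] [ValuationRing R] [Finite (PrimeSpectrum R)]
    {X : Scheme.{u}} (f : X ⟶ Spec (CommRingCat.of R)) [LocallyOfFiniteType f] [LocallyQuasiFinite f]
    (x : X) :
    IsOpenImmersion (X.fromSpecStalk x) ∧ LocallyOfFiniteType (X.fromSpecStalk x ≫ f) := by
  obtain ⟨U, hU, hxU, -⟩ := exists_isAffineOpen_mem_and_subset (x := x) (U := ⊤) trivial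
  let f' := (f.appLE ⊤ U le_top).hom
  haveI hR : Finite (PrimeSpectrum Γ(Spec (CommRingCat.of R), ⊤)) :=
    Finite.of_equiv _ (PrimeSpectrum.comapEquiv (AlgebraicGeometry.Scheme.ΓSpecIso (CommRingCat.of R)).commRingCatIsoToRingEquiv.symm).toEquiv
  letI : Algebra Γ(Spec (CommRingCat.of R), ⊤) Γ(X, U) := f'.toAlgebra
  haveI : Algebra.QuasiFinite Γ(Spec (CommRingCat.of R), ⊤) Γ(X, U) :=
    LocallyQuasiFinite.quasiFinite_appLE (f := f) (isAffineOpen_top _) hU le_top
  haveI : Finite (PrimeSpectrum Γ(X, U)) :=
    Algebra.QuasiFinite.finite_primeSpectrum (R := Γ(Spec (CommRingCat.of R), ⊤)) (S := Γ(X, U))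
  letI := TopCat.Presheaf.algebra_section_stalk X.presheaf ⟨x, hxU⟩
  haveI : IsLocalization.AtPrime (X.presheaf.stalk x) (hU.primeIdealOf ⟨x, hxU⟩).asIdeal := hU.isLocalization_stalk ⟨x, hxU⟩
  obtain ⟨g, hg⟩ := Groth.Agent.AtPrimeAway.exists_isLocalization_away (hU.primeIdealOf ⟨x, hxU⟩).asIdeal (X.presheaf.stalk x)
  haveI := hg
  haveI h1 : IsOpenImmersion (Spec.map (X.presheaf.germ U x hxU)) :=
    IsOpenImmersion.of_isLocalization (S := X.presheaf.stalk x) g
  haveI h2 : IsOpenImmersion (X.fromSpecStalk x) := by
    rw [← hU.fromSpecStalk_eq_fromSpecStalk hxU, IsAffineOpen.fromSpecStalk]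
    infer_instance
  exact ⟨h2, inferInstance⟩

end Groth.Agent.S14888
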