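import Groth.Statements.S14891
import Mathlib.RingTheory.Valuation.Extension
import Mathlib.RingTheory.Valuation.ValuationSubring
import Mathlib.RingTheory.AlgebraicIndependent.Basic
import Mathlib.RingTheory.AlgebraicIndependent.Transcendental
import Mathlib.RingTheory.AlgebraicIndependent.TranscendenceBasis
import Mathlib.LinearAlgebra.Dimension.Localization
import Mathlib.LinearAlgebra.Dimension.Constructions

set_option autoImplicit false
universe u
open CAlg

namespace Groth.Agent.S14891

open IsLocalRing

variable {K L Γ₀ Γ₁ : Type u} [Field K] [Field L] [Algebra K L]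
  [LinearOrderedCommGroupWithZero Γ₀] [LinearOrderedCommGroupWithZero Γ₁]

/-- The value of a polynomial in lifts of algebraically independent residues is the value of one of
its coefficients. -/
theorem exists_value_eq (vK : Valuation K Γ₀) (vL : Valuation L Γ₁) [vK.HasExtension vL]
    {κ : Type u} {b : κ → vL.valuationSubring}
    (hb : AlgebraicIndependent (ResidueField vK.valuationSubring)
      (fun j ↦ residue vL.valuationSubring (b j)))
    {q : MvPolynomial κ K} (hq : q ≠ 0) :
    ∃ c : K, c ≠ 0 ∧ vL (MvPolynomial.aeval (fun j ↦ (b j : L)) q) = vL (algebraMap K L c) := by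
  classical
  obtain ⟨m₀, hm₀, hmax⟩ := Finset.exists_max_image q.support (fun m ↦ vK (q.coeff m))
    (MvPolynomial.support_nonempty.2 hq)
  set c := q.coeff m₀ with hcdef
  have hc : c ≠ 0 := MvPolynomial.mem_support_iff.1 hm₀
  have hle : ∀ m, q.coeff m / c ∈ vK.valuationSubring := fun m ↦ by
    rw [Valuation.mem_valuationSubring_iff, map_div₀,
      div_le_one₀ (zero_lt_iff.2 ((Valuation.ne_zero_iff _).2 hc))]
    by_cases hm : m ∈ q.support
    · exact hmax m hm
    · rw [MvPolynomial.notMem_support_iff.1 hm, map_zero]; exact zero_le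
  let u : (κ →₀ ℕ) → vK.valuationSubring := fun m ↦ ⟨q.coeff m / c, hle m⟩
  let q' : MvPolynomial κ vK.valuationSubring :=
    ∑ m ∈ q.support, MvPolynomial.monomial m (u m)
  let qb := MvPolynomial.map (residue vK.valuationSubring) q'
  have hqb : qb ≠ 0 := by
    intro h
    have h2 : qb.coeff m₀ = 0 := by rw [h]; simp
    rw [MvPolynomial.coeff_map] at h2
    have h3 : q'.coeff m₀ = u m₀ := by
      simp only [q', MvPolynomial.coeff_sum, MvPolynomial.coeff_monomial]
      rw [Finset.sum_ite_eq' q.support m₀ u, if_pos hm₀]
    rw [h3] at h2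
    have h4 : u m₀ = 1 := Subtype.ext (div_self hc)
    rw [h4, map_one] at h2
    exact one_ne_zero h2
  let z : vL.valuationSubring := MvPolynomial.aeval b q'
  have hz : residue _ z ≠ 0 := by
    intro h
    refine hqb (hb.eq_zero_of_aeval_eq_zero _ ?_)
    rw [← h]
    simp only [qb, z, MvPolynomial.aeval_def, MvPolynomial.eval₂_map]
    rw [MvPolynomial.eval₂_comp_left (residue vL.valuationSubring)]
    rfl
  refine ⟨c, hc, ?_⟩
  have hzu : IsUnit z := (residue_ne_zero_iff_isUnit z).1 hz
  have hvz : vL (z : L) = 1 :=
    (Valuation.integer.integers vL).one_of_isUnit hzu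
  have key : MvPolynomial.aeval (fun j ↦ (b j : L)) q = (z : L) * algebraMap K L c := by
    have hzL : (z : L) = ∑ m ∈ q.support,
        algebraMap K L (q.coeff m / c) * m.prod fun j e ↦ (b j : L) ^ e := by
      change vL.valuationSubring.subtype (MvPolynomial.aeval b q') = _
      simp only [q', map_sum, MvPolynomial.aeval_monomial, map_mul, Finsupp.prod, map_prod, map_pow]
      rfl
    rw [hzL, Finset.sum_mul]
    conv_lhs => rw [MvPolynomial.as_sum q]
    simp only [map_sum, MvPolynomial.aeval_monomial]
    refine Finset.sum_congr rfl fun m _ ↦ ?_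
    rw [mul_right_comm, ← map_mul, div_mul_cancel₀ _ hc]
  rw [key, map_mul, hvz, one_mul]

/-- Let L/K be an extension of valued fields, i.e. v_L is a valuation on L whose restriction to K is
equivalent to v_K. Write E for the rational rank of the quotient of value groups |L^×|/|K^×| — here
the rank of the abelian group L^× modulo the subgroup generated by the units of the valuation ring
of v_L and the image of K^× — and F for the transcendence degree of the residue field of v_L over
that of v_K. Then E + F ≤ tr.deg(L/K) (an inequality of cardinals). -/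
theorem result
    {K L Γ₀ Γ₁ : Type u} [Field K] [Field L] [Algebra K L]
    [LinearOrderedCommGroupWithZero Γ₀] [LinearOrderedCommGroupWithZero Γ₁]
    (vK : Valuation K Γ₀) (vL : Valuation L Γ₁) [vK.HasExtension vL] :
    Module.rank ℤ (Additive Lˣ ⧸ Subgroup.toAddSubgroup
        (vL.valuationSubring.unitGroup ⊔ (Units.map (algebraMap K L).toMonoidHom).range)) +
      Algebra.trdeg (IsLocalRing.ResidueField vK.valuationSubring)
        (IsLocalRing.ResidueField vL.valuationSubring) ≤ Algebra.trdeg K L := by
  classical
  set G := Additive Lˣ ⧸ Subgroup.toAddSubgroup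
    (vL.valuationSubring.unitGroup ⊔ (Units.map (algebraMap K L).toMonoidHom).range) with hG
  obtain ⟨s, hs, hsli⟩ := exists_set_linearIndependent ℤ G
  obtain ⟨t, ht⟩ := exists_isTranscendenceBasis (ResidueField vK.valuationSubring)
    (ResidueField vL.valuationSubring)
  rw [← hs, ← ht.cardinalMk_eq_trdeg]
  choose a ha using fun i : s ↦ QuotientAddGroup.mk_surjective (i.1 : G)
  choose b hb using fun j : t ↦ residue_surjective (j.1 : ResidueField vL.valuationSubring)
  have hbi : AlgebraicIndependent (ResidueField vK.valuationSubring)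
      (fun j : t ↦ residue vL.valuationSubring (b j)) := by
    simp only [hb]; exact ht.1
  have hbK : AlgebraicIndependent K (fun j : t ↦ (b j : L)) := by
    rw [algebraicIndependent_iff]
    intro q hq
    by_contra hq0
    obtain ⟨c, hc, hv⟩ := exists_value_eq vK vL hbi hq0
    rw [hq, map_zero] at hv
    exact hc ((map_eq_zero (algebraMap K L)).1 ((map_eq_zero vL).1 hv.symm))
  let av : s → L := fun i ↦ ((Additive.toMul (a i) : Lˣ) : L)
  have haK : AlgebraicIndependent (Algebra.adjoin K (Set.range fun j : t ↦ (b j : L))) av := by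
    rw [algebraicIndependent_iff]
    intro p hp
    by_contra hp0
    let cf : (s →₀ ℕ) → L := fun m ↦ (MvPolynomial.coeff m p).1
    have hval : ∀ m ∈ p.support, ∃ c : Kˣ,
        vL (cf m) = vL (algebraMap K L c) := fun m hm ↦ by
      have hmem := (p.coeff m).2
      obtain ⟨q, hq⟩ := (AlgHom.mem_range _).1
        ((SetLike.ext_iff.1 (Algebra.adjoin_range_eq_range_aeval K _) _).1 hmem)
      have hq0 : q ≠ 0 := fun h ↦ MvPolynomial.mem_support_iff.1 hm
        (Subtype.ext (by rw [← hq, h, map_zero]; rfl))
      obtain ⟨c, hc, hv⟩ := exists_value_eq vK vL hbi hq0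
      exact ⟨Units.mk0 c hc, (congrArg vL hq.symm).trans hv⟩
    choose c hc using hval
    let T : (s →₀ ℕ) → L := fun m ↦ cf m * m.prod fun i e ↦ av i ^ e
    have hsum : ∑ m ∈ p.support, T m = 0 := by
      rw [← hp]
      conv_rhs => rw [MvPolynomial.as_sum p]
      simp only [map_sum, MvPolynomial.aeval_monomial]
      rfl
    -- the values of distinct terms are distinct
    have hinj : ∀ m (hm : m ∈ p.support) n (hn : n ∈ p.support), vL (T m) = vL (T n) → m = n := by
      intro m hm n hn hv
      let M : (s →₀ ℕ) → Lˣ := fun m ↦ m.prod fun i e ↦ (Additive.toMul (a i)) ^ e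
      have hM : ∀ m : s →₀ ℕ, ((M m : Lˣ) : L) = m.prod fun i e ↦ av i ^ e := fun m ↦ by
        simp only [M, Finsupp.prod, Units.coe_prod, Units.val_pow_eq_pow_val]; rfl
      let U : Lˣ := Units.map (algebraMap K L).toMonoidHom (c m hm) * M m /
        (Units.map (algebraMap K L).toMonoidHom (c n hn) * M n)
      have hU : U ∈ vL.valuationSubring.unitGroup := by
        rw [ValuationSubring.mem_unitGroup_iff,
          ← (Valuation.isEquiv_valuation_valuationSubring vL).eq_one_iff_eq_one]
        simp only [U, Units.val_div_eq_div_val, Units.val_mul, map_div₀, map_mul, hM, Units.coe_map]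
        have h1 := hc m hm
        have h2 := hc n hn
        simp only [T, map_mul, h1, h2] at hv
        simp only [RingHom.toMonoidHom_eq_coe, MonoidHom.coe_coe]
        rw [hv, div_self]
        rw [← map_mul, ← hM]
        simp
      have hmem : M m / M n ∈
          vL.valuationSubring.unitGroup ⊔ (Units.map (algebraMap K L).toMonoidHom).range := by
        have e : M m / M n = U *
            (Units.map (algebraMap K L).toMonoidHom (c n hn / c m hm)) := by
          have aux : ∀ x y M N : Lˣ, M / N = x * M / (y * N) * (y / x) := fun x y M N ↦ by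
            rw [div_mul_div_comm, mul_right_comm x M y, mul_comm (y * N) x, ← mul_assoc x y N,
              mul_div_mul_left_eq_div]
          rw [map_div]
          exact aux _ _ _ _
        rw [e]
        exact Subgroup.mul_mem_sup hU ⟨_, rfl⟩
      have hG0 : (QuotientAddGroup.mk (Additive.ofMul (M m) - Additive.ofMul (M n)) : G) = 0 :=
        (QuotientAddGroup.eq_zero_iff _).2 hmem
      have hMG : ∀ m : s →₀ ℕ, (QuotientAddGroup.mk (Additive.ofMul (M m)) : G) =
          Finsupp.linearCombination ℤ (fun i : s ↦ (i.1 : G))
            (m.mapRange (Nat.cast : ℕ → ℤ) Nat.cast_zero) := fun m ↦ by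
        rw [Finsupp.linearCombination_apply, Finsupp.sum_mapRange_index (by simp)]
        simp only [M, Finsupp.prod, Finsupp.sum, ofMul_prod, ofMul_pow, ofMul_toMul]
        rw [← QuotientAddGroup.mk'_apply, map_sum]
        simp only [map_nsmul, QuotientAddGroup.mk'_apply, ha, natCast_zsmul]
      rw [QuotientAddGroup.mk_sub, hMG, hMG, sub_eq_zero] at hG0
      exact Finsupp.mapRange_injective _ _ Nat.cast_injective
        (linearIndependent_iff_injective_finsuppLinearCombination.1 hsli hG0)
    obtain ⟨j, hj, hjmax⟩ := Finset.exists_max_image p.support (fun m ↦ vL (T m))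
      (MvPolynomial.support_nonempty.2 hp0)
    have hT0 : T j ≠ 0 := by
      refine mul_ne_zero (fun h ↦ MvPolynomial.mem_support_iff.1 hj (Subtype.ext h)) ?_
      exact Finset.prod_ne_zero_iff.2 fun i _ ↦ pow_ne_zero _ (Units.ne_zero _)
    have := vL.map_sum_eq_of_lt hj (fun m hm ↦ lt_of_le_of_ne (hjmax m (Finset.mem_sdiff.1 hm).1)
      fun e ↦ (Finset.mem_sdiff.1 hm).2 (Finset.mem_singleton.2
        (hinj m (Finset.mem_sdiff.1 hm).1 j hj e)))
    rw [hsum, map_zero] at this
    exact hT0 ((map_eq_zero vL).1 this.symm)
  have := (AlgebraicIndependent.sumElim hbK haK).cardinalMk_le_trdeg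
  rw [Cardinal.mk_sum, Cardinal.lift_id, Cardinal.lift_id] at this
  exact this

end Groth.Agent.S14891
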