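import Groth.Statements.S14892
import Mathlib.RingTheory.Valuation.ValuationSubring
import Mathlib.RingTheory.KrullDimension.Basic
import Mathlib.RingTheory.AlgebraicIndependent.Basic
import Mathlib.FieldTheory.PrimeField
import Mathlib.FieldTheory.Finite.Basic
import Mathlib.RingTheory.Int.Basic
import Mathlib.RingTheory.PrincipalIdealDomain
import Mathlib.RingTheory.UniqueFactorizationDomain.Basic

set_option autoImplicit false
universe u
open CAlg

namespace Groth.Agent.S14892

/-- If the field K has finite transcendence degree d over its prime subfield, then every valuation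
subring of K has height (Krull dimension) at most d + 1. -/
theorem result
    (K : Type u) [Field K] (A : ValuationSubring K) (d : ℕ)
    (hd : Algebra.trdeg (⊥ : Subfield K) K = d) :
    ringKrullDim A ≤ ((d + 1 : ℕ) : WithBot ℕ∞) := by
  classical
  let v := A.valuation
  let F := (⊥ : Subfield K)
  -- a chain with chosen elements has independent values
  have bound : ∀ (s : LTSeries (PrimeSpectrum A)) (x : Fin s.length → A),
      (∀ i, x i ∈ (s i.succ).asIdeal ∧ x i ∉ (s i.castSucc).asIdeal) → ∀ J : Finset (Fin s.length),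
      (∀ c : F, c ≠ 0 → ∃ e : Fin s.length → ℤ, (∀ i ∈ J, e i = 0) ∧ v (c : K) = ∏ i, v (x i : K) ^ e i) → J.card ≤ d := by
    intro s x hx J hc
    have hx0 : ∀ i, (x i : K) ≠ 0 := fun i h => (hx i).2 (by
      rw [show x i = 0 from Subtype.ext h]; exact Ideal.zero_mem _)
    have hv0 : ∀ i, v (x i : K) ≠ 0 := fun i => (Valuation.ne_zero_iff _).mpr (hx0 i)
    let W : (Fin s.length → ℤ) → _ := fun e => ∏ i, v (x i : K) ^ e i
    have hWadd : ∀ e f, W (e + f) = W e * W f := fun e f => by
      simp only [W, Pi.add_apply, zpow_add₀ (hv0 _), Finset.prod_mul_distrib]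
    have hW1 : ∀ e, W e = 1 → e = 0 := by
      intro e he
      by_contra hne
      obtain ⟨i, hi, hmin⟩ := Finset.exists_min_image (Finset.univ.filter fun i => e i ≠ 0) id (by
        by_contra h; rw [Finset.not_nonempty_iff_eq_empty, Finset.filter_eq_empty_iff] at h
        exact hne (funext fun i => by simpa using h (Finset.mem_univ i)))
      simp only [Finset.mem_filter, Finset.mem_univ, true_and, id] at hi hmin
      let P : A := ∏ k, x k ^ (e k).toNat
      let N : A := ∏ k, x k ^ (-e k).toNat
      have hPN : v (P : K) = v (N : K) := by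
        have h1 : W e * v (N : K) = v (P : K) := by
          simp only [W, P, N, SubmonoidClass.coe_finset_prod, SubmonoidClass.coe_pow, map_prod, map_pow, ← Finset.prod_mul_distrib]
          refine Finset.prod_congr rfl fun k _ => ?_
          rw [← zpow_natCast, ← zpow_natCast, ← zpow_add₀ (hv0 k)]
          congr 1; omega
        rw [← h1, he, one_mul]
      have hN0 : (N : K) ≠ 0 := by
        simp only [N, SubmonoidClass.coe_finset_prod, SubmonoidClass.coe_pow]
        exact Finset.prod_ne_zero_iff.mpr fun k _ => pow_ne_zero _ (hx0 k)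
      have hP0 : (P : K) ≠ 0 := by
        simp only [P, SubmonoidClass.coe_finset_prod, SubmonoidClass.coe_pow]
        exact Finset.prod_ne_zero_iff.mpr fun k _ => pow_ne_zero _ (hx0 k)
      have hdiv : ∀ a b : A, (b : K) ≠ 0 → v (a : K) = v (b : K) → ∀ Q : Ideal A, b ∈ Q → a ∈ Q := by
        intro a b hb hab Q hQ
        have hm : (a : K) / (b : K) ∈ A := (A.valuation_le_one_iff _).mp (by
          show v _ ≤ 1
          rw [map_div₀, hab, div_self ((Valuation.ne_zero_iff _).mpr hb)])
        have : a = ⟨_, hm⟩ * b := Subtype.ext (div_mul_cancel₀ (a : K) hb).symm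
        rw [this]; exact Q.mul_mem_left _ hQ
      have hout : ∀ k, i ≤ k → k ≠ i → x k ∉ (s i.succ).asIdeal := fun k hk hk' h =>
        (hx k).2 (s.monotone (Fin.le_def.mpr (show i.val + 1 ≤ k.val by have := Fin.val_ne_of_ne hk'; have := Fin.le_def.mp hk; omega)) h)
      have hnot : ∀ f : Fin s.length → ℤ, f i ≤ 0 → (∀ k, f k ≠ 0 → i ≤ k) → (∏ k, x k ^ (f k).toNat) ∉ (s i.succ).asIdeal := by
        intro f hfi hf hmem
        obtain ⟨k, -, hk⟩ := (Ideal.IsPrime.prod_mem_iff (hp := (s i.succ).isPrime)).mp hmem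
        have hpos : (f k).toNat ≠ 0 := fun h0 => by
          rw [h0, pow_zero] at hk; exact (s i.succ).isPrime.ne_top ((Ideal.eq_top_iff_one _).mpr hk)
        exact hout k (hf k (by omega)) (by rintro rfl; omega) ((s i.succ).isPrime.mem_of_pow_mem _ hk)
      rcases lt_or_gt_of_ne hi with hlt | hgt
      · exact hnot e hlt.le hmin (hdiv P N hN0 hPN _ (Ideal.prod_mem _ (i := i) (Finset.mem_univ _) (Ideal.pow_mem_of_mem _ (hx i).1 _ (by omega))))
      · exact hnot (fun k => -e k) (by show -e i ≤ 0; omega) (fun k hk => hmin k (by intro h0; exact hk (by rw [h0, neg_zero])))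
          (hdiv N P hP0 hPN.symm _ (Ideal.prod_mem _ (i := i) (Finset.mem_univ _) (Ideal.pow_mem_of_mem _ (hx i).1 _ (by omega))))
    have hWinj : Function.Injective W := fun e f hef => by
      have h1 : W (e - f) * W f = W f := by rw [← hWadd, sub_add_cancel, hef]
      have hWf : W f ≠ 0 := Finset.prod_ne_zero_iff.mpr fun k _ => zpow_ne_zero _ (hv0 k)
      exact sub_eq_zero.mp (hW1 _ ((mul_eq_right₀ hWf).mp h1))
    have hind : AlgebraicIndependent F (fun j : J => (x j : K)) := by
      rw [algebraicIndependent_iff]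
      intro q hq
      by_contra hq0
      let T : (J →₀ ℕ) → K := fun m => ((MvPolynomial.coeff m q : F) : K) * m.prod fun j e => (x j : K) ^ e
      let emb : (J →₀ ℕ) → Fin s.length → ℤ := fun m i => if h : i ∈ J then (m ⟨i, h⟩ : ℤ) else 0
      have hTv : ∀ m ∈ q.support, ∃ e : Fin s.length → ℤ, (∀ i ∈ J, e i = 0) ∧ v (T m) = W (e + emb m) := by
        intro m hm
        obtain ⟨e, he, hev⟩ := hc _ (MvPolynomial.mem_support_iff.mp hm)
        refine ⟨e, he, ?_⟩
        rw [hWadd, map_mul, hev]
        congr 1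
        rw [Finsupp.prod_fintype _ _ (fun j => pow_zero _), map_prod]
        show _ = ∏ i, v (x i : K) ^ emb m i
        rw [← Finset.prod_subset (Finset.subset_univ J) (fun i _ hi => by simp [emb, hi]), ← Finset.prod_coe_sort J]
        refine Finset.prod_congr rfl fun j _ => ?_
        simp [emb]
      choose ev hev0 hev using hTv
      have hTinj : ∀ m (hm : m ∈ q.support) m' (hm' : m' ∈ q.support), v (T m) = v (T m') → m = m' := by
        intro m hm m' hm' h
        rw [hev m hm, hev m' hm'] at h
        refine Finsupp.ext fun j => ?_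
        have := congrFun (hWinj h) j
        simpa [emb, hev0 m hm j j.2, hev0 m' hm' j j.2] using this
      obtain ⟨j, hj, hjmax⟩ := Finset.exists_max_image q.support (fun m => v (T m)) (MvPolynomial.support_nonempty.mpr hq0)
      have hsum : ∑ m ∈ q.support, T m = 0 := by
        rw [← hq]
        conv_rhs => rw [MvPolynomial.as_sum q]
        simp only [map_sum, MvPolynomial.aeval_monomial]
        rfl
      have h0 := v.map_sum_eq_of_lt hj (fun m hm => lt_of_le_of_ne (hjmax m (Finset.mem_sdiff.1 hm).1)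
        fun e => (Finset.mem_sdiff.1 hm).2 (Finset.mem_singleton.2 (hTinj m (Finset.mem_sdiff.1 hm).1 j hj e)))
      rw [hsum, map_zero, hev j hj] at h0
      exact Finset.prod_ne_zero_iff.mpr (fun k _ => zpow_ne_zero _ (hv0 k)) h0.symm
    have h2 := hind.lift_cardinalMk_le_trdeg
    rw [hd, Cardinal.mk_coe_finset, Cardinal.lift_natCast, Cardinal.lift_natCast] at h2
    exact_mod_cast h2
  refine iSup_le fun l => ?_
  obtain ⟨s, hls, hhead, hlast⟩ : ∃ s : LTSeries (PrimeSpectrum A), l.length ≤ s.length ∧ s.head.asIdeal = ⊥ ∧ s.last.asIdeal = IsLocalRing.maximalIdeal A := by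
    obtain ⟨s₁, h1, h2⟩ : ∃ s : LTSeries (PrimeSpectrum A), l.length ≤ s.length ∧ s.head.asIdeal = ⊥ := by
      by_cases h : l.head.asIdeal = ⊥
      · exact ⟨l, le_rfl, h⟩
      · exact ⟨l.cons ⟨⊥, Ideal.isPrime_bot⟩ (bot_lt_iff_ne_bot.mpr h : (⊥ : Ideal A) < l.head.asIdeal),
          by simp, by rw [RelSeries.head_cons]⟩
    by_cases h : s₁.last.asIdeal = IsLocalRing.maximalIdeal A
    · exact ⟨s₁, h1, h2, h⟩
    · refine ⟨s₁.snoc ⟨IsLocalRing.maximalIdeal A, inferInstance⟩ (lt_of_le_of_ne (IsLocalRing.le_maximalIdeal s₁.last.isPrime.ne_top) (fun e => h e) : s₁.last.asIdeal < IsLocalRing.maximalIdeal A), h1.trans (by simp), ?_, ?_⟩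
      · rw [RelSeries.head_snoc]; exact h2
      · rw [RelSeries.last_snoc]
  have hx : ∀ i : Fin s.length, ∃ x : A, x ∈ (s i.succ).asIdeal ∧ x ∉ (s i.castSucc).asIdeal := fun i => by
    obtain ⟨x, h1, h2⟩ := SetLike.exists_of_lt (show (s i.castSucc).asIdeal < (s i.succ).asIdeal from s.strictMono Fin.castSucc_lt_succ)
    exact ⟨x, h1, h2⟩
  choose x hx using hx
  suffices hle : s.length ≤ d + 1 by exact_mod_cast hls.trans hle
  let ι : ℤ →+* A := Int.castRingHom A
  by_cases hp : ∃ a : ℤ, a ≠ 0 ∧ ι a ∈ IsLocalRing.maximalIdeal A ∧ ((a : K) ≠ 0)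
  swap
  · refine (le_trans (le_of_eq (by simp)) (bound s x hx Finset.univ fun c hc => ⟨0, fun _ _ => rfl, ?_⟩)).trans (Nat.le_succ d)
    simp only [Pi.zero_apply, zpow_zero, Finset.prod_const_one]
    push Not at hp
    have hint : ∀ a : ℤ, (a : K) ≠ 0 → v (a : K) = 1 := fun a ha => by
      by_cases ha0 : a = 0
      · simp [ha0] at ha
      by_contra h1
      refine ha (hp a ha0 ((A.valuation_lt_one_iff (ι a)).mpr (lt_of_le_of_ne (A.valuation_le_one (ι a)) ?_)))
      simpa [ι] using h1
    rcases CharP.exists' K with hK | ⟨p, hpp, hK⟩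
    · haveI := hK
      obtain ⟨r, hr⟩ : (c : K) ∈ (algebraMap ℚ K).fieldRange := (Subfield.bot_eq_of_charZero (K := K)) ▸ c.2
      have hr0 : r ≠ 0 := by rintro rfl; exact hc (Subtype.ext (by rw [← hr]; simp))
      rw [← hr, show algebraMap ℚ K r = (r.num : K) / ((r.den : ℤ) : K) by push_cast; rw [eq_ratCast, Rat.cast_def], map_div₀,
        hint _ (Int.cast_ne_zero.mpr (Rat.num_ne_zero.mpr hr0)), hint _ (Int.cast_ne_zero.mpr (by exact_mod_cast r.den_nz)), div_one]
    · haveI := hK
      obtain ⟨a, ha⟩ := (mem_bot_iff_intCast p K).mp c.2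
      rw [← ha]; exact hint a (fun h0 => hc (Subtype.ext (by rw [← ha, h0]; rfl)))
  · obtain ⟨a, ha0, ham, haK⟩ := hp
    have hchar : CharZero K := by
      rcases CharP.exists' K with hK | ⟨p, hpp, hK⟩
      · exact hK
      · exfalso
        haveI := hK
        haveI : CharP A p := ⟨fun m => by rw [← CharP.cast_eq_zero_iff K p m, ← Subtype.coe_inj]; simp⟩
        have : (a : ZMod p) ≠ 0 := fun h => haK ((CharP.intCast_eq_zero_iff K p a).mpr ((ZMod.intCast_zmod_eq_zero_iff_dvd a p).mp h))
        obtain ⟨b, hb⟩ := isUnit_iff_exists_inv.mp (Ne.isUnit this)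
        have hu : IsUnit (ι a) := by
          refine IsUnit.of_mul_eq_one (ZMod.castHom dvd_rfl A b) ?_
          rw [show ι a = ZMod.castHom dvd_rfl A (a : ZMod p) from (map_intCast _ a).symm, ← map_mul, hb, map_one]
        exact (IsLocalRing.mem_maximalIdeal _).mp ham hu
    haveI := hchar
    let I : Ideal ℤ := (IsLocalRing.maximalIdeal A).comap ι
    haveI : I.IsPrime := Ideal.IsPrime.comap _
    obtain ⟨p, hpI⟩ : ∃ p : ℤ, I = Ideal.span {p} := ⟨Submodule.IsPrincipal.generator I, (Ideal.span_singleton_generator I).symm⟩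
    have hIne : I ≠ ⊥ := fun h => ha0 (by simpa [h] using (show a ∈ I from ham))
    have hp0 : p ≠ 0 := fun h => hIne (by rw [hpI, h, Ideal.span_singleton_eq_bot])
    have hpprime : Prime p := (Ideal.span_singleton_prime hp0).mp (hpI ▸ ‹I.IsPrime›)
    have hpm : ι p ∈ IsLocalRing.maximalIdeal A := show p ∈ I from hpI ▸ Ideal.mem_span_singleton_self p
    have hex : ∃ j : ℕ, ∀ h : j < s.length + 1, ι p ∈ (s ⟨j, h⟩).asIdeal := ⟨s.length, fun h => hlast ▸ hpm⟩
    let j := Nat.find hex
    have hj0 : j ≠ 0 := by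
      intro h
      have h' := Nat.find_spec hex
      rw [show Nat.find hex = j from rfl, h] at h'
      have h'' : ι p ∈ s.head.asIdeal := h' (Nat.succ_pos _)
      rw [hhead, Ideal.mem_bot, ← Subtype.coe_inj] at h''
      exact hp0 (by simpa [ι] using h'')
    have hjle : j ≤ s.length := Nat.find_min' hex fun h => hlast ▸ hpm
    let i₀ : Fin s.length := ⟨j - 1, by omega⟩
    let x' := Function.update x i₀ (ι p)
    have hx' : ∀ i, x' i ∈ (s i.succ).asIdeal ∧ x' i ∉ (s i.castSucc).asIdeal := fun i => by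
      by_cases hi : i = i₀
      · subst hi
        simp only [x', Function.update_self]
        refine ⟨?_, fun hm => Nat.find_min hex (show j - 1 < j by omega) fun _ => hm⟩
        have := Nat.find_spec hex (by omega)
        convert this using 4
        show j - 1 + 1 = j
        omega
      · simp only [x', Function.update_of_ne hi]; exact hx i
    have hval : ∀ b : ℤ, b ≠ 0 → ∃ k : ℕ, v (b : K) = v (p : K) ^ k := by
      intro b hb
      obtain ⟨k, u, hu, rfl⟩ := WfDvdMonoid.max_power_factor hb hpprime.irreducible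
      refine ⟨k, ?_⟩
      have hu1 : v (u : K) = 1 := by
        refine le_antisymm (A.valuation_le_one (ι u) |> fun h => by simpa only [ι, eq_intCast, SubringClass.coe_intCast] using h) (le_of_not_gt fun hlt => hu ?_)
        have : u ∈ I := (A.valuation_lt_one_iff (ι u)).mpr (by simpa [ι] using hlt)
        rwa [hpI, Ideal.mem_span_singleton] at this
      rw [Int.cast_mul, Int.cast_pow, map_mul, map_pow, hu1, mul_one]
    have h3 := bound s x' hx' (Finset.univ.erase i₀) fun c hc => by
      obtain ⟨r, hr⟩ : (c : K) ∈ (algebraMap ℚ K).fieldRange := (Subfield.bot_eq_of_charZero (K := K)) ▸ c.2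
      have hr0 : r ≠ 0 := by rintro rfl; exact hc (Subtype.ext (by rw [← hr]; simp))
      obtain ⟨k₁, h₁⟩ := hval r.num (Rat.num_ne_zero.mpr hr0)
      obtain ⟨k₂, h₂⟩ := hval r.den (by exact_mod_cast r.den_nz)
      refine ⟨Pi.single i₀ ((k₁ : ℤ) - k₂), fun i hi => Pi.single_eq_of_ne (Finset.ne_of_mem_erase hi) _, ?_⟩
      rw [Finset.prod_eq_single i₀ (fun b _ hb => by rw [Pi.single_eq_of_ne hb, zpow_zero]) (fun h => absurd (Finset.mem_univ _) h), Pi.single_eq_same,
        show (x' i₀ : K) = (p : K) by simp [x', ι], zpow_sub₀ ((Valuation.ne_zero_iff _).mpr (Int.cast_ne_zero.mpr hp0)), zpow_natCast, zpow_natCast, ← h₁, ← h₂,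
        ← hr, show algebraMap ℚ K r = (r.num : K) / ((r.den : ℤ) : K) by push_cast; rw [eq_ratCast, Rat.cast_def], map_div₀]
    rw [Finset.card_erase_of_mem (Finset.mem_univ _), Finset.card_fin] at h3
    omega

end Groth.Agent.S14892
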