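import Groth.Statements.S14901
import Groth.Agent.FlatDim.DimSets
import Groth.Agent.DimFormula.Dims
import Groth.Agent.Unibranch.ComponentTransfer
import Groth.Agent.ConsSet.Basic

set_option autoImplicit false
universe u
open MovLem

set_option backward.isDefEq.respectTransparency false
set_option backward.isDefEq.respectTransparency.types false

open Groth.Agent Topology

namespace Groth.Agent.S14901

open AlgebraicGeometry CategoryTheory in
/-- Let k be a field, let S and X be separated k-schemes of finite type that are locally equidimensional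
(all irreducible components passing through a given point have the same dimension), let f : S → X be
a k-morphism and Z ⊆ X a closed subset. Let d be the dimension of the image f(S), as a subspace of
X. If every point s of S with f(s) ∈ Z satisfies dim O_{S,s} ≥ d + 1 (equivalently: the closed
subset f⁻¹(Z) of S has local codimension at least d + 1 at each of its points), then f⁻¹(Z) is
empty. -/
theorem result (k : Type u) [Field k] (S X : Scheme.{u})
    (pS : S ⟶ Spec (CommRingCat.of k)) (pX : X ⟶ Spec (CommRingCat.of k))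
    [IsSeparated pS] [LocallyOfFiniteType pS] [QuasiCompact pS]
    [IsSeparated pX] [LocallyOfFiniteType pX] [QuasiCompact pX]
    (hS : ∀ (s : S) (A B : Set S), A ∈ irreducibleComponents (S : Type u) → B ∈ irreducibleComponents (S : Type u) →
      s ∈ A → s ∈ B → topologicalKrullDim A = topologicalKrullDim B)
    (hX : ∀ (x : X) (A B : Set X), A ∈ irreducibleComponents (X : Type u) → B ∈ irreducibleComponents (X : Type u) →
      x ∈ A → x ∈ B → topologicalKrullDim A = topologicalKrullDim B)
    (f : S ⟶ X) (hf : f ≫ pX = pS) (Z : Set X) (hZ : IsClosed Z)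
    (h : ∀ s : S, f.base s ∈ Z →
      topologicalKrullDim (Set.range f.base) + 1 ≤ ringKrullDim (S.presheaf.stalk s)) :
    f.base ⁻¹' Z = ∅ := by
  subst hf
  haveI : LocallyOfFiniteType (f ≫ pX) := inferInstance
  haveI : IsLocallyNoetherian X := LocallyOfFiniteType.isLocallyNoetherian pX
  haveI : IsLocallyNoetherian S := LocallyOfFiniteType.isLocallyNoetherian (f ≫ pX)
  haveI : LocallyOfFiniteType f := locallyOfFiniteType_of_comp f pX
  haveI : QuasiCompact f := QuasiCompact.of_comp f pX
  haveI : CompactSpace X := HasAffineProperty.iff_of_isAffine.mp ‹QuasiCompact pX›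
  haveI : IsNoetherian X := {}
  refine Set.eq_empty_iff_forall_notMem.2 fun s hs => ?_
  obtain ⟨z, -, hfz, hz⟩ := FlatDim.exists_isFibMax_specializes f s
  have hzZ : f.base z ∈ Z := by
    change f z ∈ Z
    rw [hfz]
    exact hs
  have hzd := h z hzZ
  obtain ⟨A, hA, -, ξ, -, hξz, hgen⟩ := DimFormula.exists_ringKrullDim_stalk z
  obtain ⟨e, he1, he2, -⟩ := Unibranch.exists_dim_closure_eq f ξ
  obtain ⟨δ, h1, h2, -⟩ := Unibranch.exists_dim_closure_eq f z
  have hed : e ≤ δ := FlatDim.le_of_isFibMax f hz hξz he2 h1
  obtain ⟨m, hm1, g, hg, hg0, hgl⟩ := DimFormula.exists_genLE_hasGen (hξz.map f.continuous)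
  have hineq := DimFormula.dimension_inequality f hξz hgen hm1 h2 he1
  have hAm : A ≤ m := by omega
  have hmp : m ≤ WeilCoh.pdim X (f ξ) := by
    obtain ⟨-, -, hp⟩ := FlatDim.pdim_spec pX (f ξ)
    haveI : QuasiSober ↥(closure ({f ξ} : Set X)) :=
      isClosed_closure.isClosedEmbedding_subtypeVal.quasiSober
    have hmem : ∀ i, g i ∈ closure ({f ξ} : Set X) := fun i =>
      specializes_iff_mem_closure.1 (hg0.trans (Unibranch.specializes_of_chain g hg i))
    have := Unibranch.natCast_le_topologicalKrullDim
      (fun i => (⟨g i, hmem i⟩ : ↥(closure ({f ξ} : Set X))))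
      fun i => ⟨(subtype_specializes_iff _ _).mpr (hg i).1, fun h => (hg i).2 (congrArg Subtype.val h)⟩
    rw [hp] at this
    exact_mod_cast this
  have hR : Topology.IsConstructible (Set.range f.base) := by
    have h' := f.isConstructible_image (s := Set.univ) Topology.IsConstructible.univ
    rw [Set.image_univ] at h'
    exact h'
  obtain ⟨n, L, hL, hLR⟩ := ConsSet.exists_lc_rep hR
  obtain ⟨U, hU, hUR, hUd⟩ := ConsSet.exists_open_of_dense (Z := closure ({f ξ} : Set X))
    isIrreducible_singleton.closure L hL (closure_mono (Set.singleton_subset_iff.2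
      ⟨hLR ▸ ⟨ξ, rfl⟩, subset_closure rfl⟩))
  have hηU : f ξ ∈ U := by
    obtain ⟨y, hy⟩ := Set.nonempty_iff_ne_empty.2 (fun h0 => by
      have := hUd (subset_closure (rfl : f ξ ∈ ({f ξ} : Set X)))
      rw [h0, closure_empty] at this
      exact this : U ∩ closure ({f ξ} : Set X) ≠ ∅)
    exact (specializes_iff_mem_closure.2 hy.2).mem_open hU hy.1
  have hT : IsLocallyClosed (U ∩ closure ({f ξ} : Set X)) := ⟨U, _, hU, isClosed_closure, rfl⟩
  have hTd := (FlatDim.natCast_le_dim_iff pX hT).2 ⟨f ξ, ⟨hηU, subset_closure rfl⟩, hmp⟩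
  have hle : topologicalKrullDim ↥(U ∩ closure ({f ξ} : Set X)) ≤ topologicalKrullDim ↥(Set.range f.base) := by
    have hsub : U ∩ closure ({f ξ} : Set X) ⊆ Set.range f.base := by rw [hLR]; exact hUR
    exact (Topology.IsEmbedding.inclusion hsub).toIsInducing.topologicalKrullDim_le
  have h3 := (add_le_add (hTd.trans hle) (le_refl (1 : WithBot ℕ∞))).trans hzd
  rw [hA] at h3
  have h4 : m + 1 ≤ A := by exact_mod_cast h3
  omega

end Groth.Agent.S14901
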