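import Groth.Statements.S14909
import Mathlib

set_option autoImplicit false
universe u
open Neron

set_option backward.isDefEq.respectTransparency false
namespace Groth.Agent.S14909

open MvPowerSeries

theorem sup_pow_le {S : Type u} [CommRing S] (A I : Ideal S) : ∀ n, (A ⊔ I) ^ n ≤ A ^ n ⊔ I
  | 0 => by simp
  | n + 1 => by
    rw [pow_succ, pow_succ]
    refine (Ideal.mul_mono (sup_pow_le A I n) le_rfl).trans ?_
    rw [Ideal.sup_mul, Ideal.mul_sup]
    exact sup_le (sup_le le_sup_left (le_sup_of_le_right Ideal.mul_le_right)) (le_sup_of_le_right Ideal.mul_le_left)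

theorem pair_pow_le {S : Type u} [CommRing S] (A B : Ideal S) :
    ∀ n, (A ⊔ B) ^ (n + 1) ≤ A ^ 2 ⊔ (A * B ^ n) ⊔ B ^ (n + 1)
  | 0 => by
    simp only [zero_add, pow_one, pow_zero, mul_one]
    exact sup_le (le_sup_of_le_left le_sup_right) le_sup_right
  | n + 1 => by
    rw [pow_succ]
    refine (Ideal.mul_mono (pair_pow_le A B n) le_rfl).trans ?_
    rw [Ideal.mul_sup, Ideal.sup_mul, Ideal.sup_mul, Ideal.sup_mul, Ideal.sup_mul, mul_assoc A (B ^ n) B, ← pow_succ, ← pow_succ]
    refine sup_le (sup_le (sup_le (le_sup_of_le_left (le_sup_of_le_left Ideal.mul_le_left)) ?_) ?_)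
      (sup_le (sup_le (le_sup_of_le_left (le_sup_of_le_left Ideal.mul_le_left)) (le_sup_of_le_left le_sup_right)) le_sup_right)
    · refine le_sup_of_le_left (le_sup_of_le_left ?_)
      rw [mul_right_comm, ← pow_two]
      exact Ideal.mul_le_left
    · rw [mul_comm]
      exact le_sup_of_le_left le_sup_right

/-- Evaluation of two-variable power series at nilpotents of an algebra. -/
theorem exists_eval {R : Type u} [CommRing R] {T : Type u} [CommRing T] [Algebra R T] (X' Y' : T)
    (hX : IsNilpotent X') (hY : IsNilpotent Y') :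
    ∃ φ : MvPowerSeries (Fin 2) R →+* T, φ (X 0) = X' ∧ φ (X 1) = Y' ∧ ∀ r, φ (algebraMap R _ r) = algebraMap R T r := by
  letI : UniformSpace R := ⊥
  letI : UniformSpace T := ⊥
  haveI : DiscreteUniformity R := ⟨rfl⟩
  haveI : DiscreteUniformity T := ⟨rfl⟩
  have ha : HasEval ![X', Y'] := by
    refine ⟨fun i => ?_, by rw [Filter.cofinite_eq_bot]; exact Filter.tendsto_bot⟩
    fin_cases i
    · obtain ⟨k, hk⟩ := hX
      exact tendsto_atTop_of_eventually_const (i₀ := k) fun j hj => pow_eq_zero_of_le hj hk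
    · obtain ⟨k, hk⟩ := hY
      exact tendsto_atTop_of_eventually_const (i₀ := k) fun j hj => pow_eq_zero_of_le hj hk
  refine ⟨eval₂Hom (φ := algebraMap R T) continuous_of_discreteTopology ha, ?_, ?_, fun r => ?_⟩
  · rw [coe_eval₂Hom, eval₂_X]; rfl
  · rw [coe_eval₂Hom, eval₂_X]; rfl
  · rw [coe_eval₂Hom, MvPowerSeries.algebraMap_apply, eval₂_C]
    simp

theorem coeff_of_eq {R : Type u} [CommRing R] [IsDomain R] (d : R) (hd : d ≠ 0) (v : ℕ) (a : R)
    (z : AdjoinRoot (Polynomial.X ^ 2 - Polynomial.C d))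
    (h : algebraMap R (AdjoinRoot (Polynomial.X ^ 2 - Polynomial.C d)) (d ^ v * a) =
      algebraMap R (AdjoinRoot (Polynomial.X ^ 2 - Polynomial.C d)) (d ^ v) * (AdjoinRoot.root (Polynomial.X ^ 2 - Polynomial.C d) * z)) :
    ∃ c, a = d * c := by
  obtain ⟨P, hPz⟩ := AdjoinRoot.mk_surjective z
  rw [← hPz] at h
  clear hPz z
  set f : Polynomial R := Polynomial.X ^ 2 - Polynomial.C d
  have hf : f.Monic := Polynomial.monic_X_pow_sub_C d two_ne_zero
  have hdeg : f.degree = 2 := Polynomial.degree_X_pow_sub_C two_pos d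
  have hP : AdjoinRoot.mk f P = AdjoinRoot.mk f (P %ₘ f) :=
    AdjoinRoot.mk_eq_mk.2 ⟨P /ₘ f, by conv_lhs => arg 1; rw [← Polynomial.modByMonic_add_div P f]
                                      ring⟩
  have hlt : (P %ₘ f).degree < 2 := hdeg ▸ Polynomial.degree_modByMonic_lt P hf
  rw [hP, Polynomial.eq_X_add_C_of_degree_le_one (Order.le_of_lt_succ (by exact_mod_cast hlt) : (P %ₘ f).degree ≤ 1)] at h
  generalize (P %ₘ f).coeff 1 = c₁ at h
  generalize (P %ₘ f).coeff 0 = c₀ at h
  have hsq : AdjoinRoot.mk f (Polynomial.X ^ 2) = AdjoinRoot.mk f (Polynomial.C d) := by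
    rw [AdjoinRoot.mk_eq_mk]
  rw [AdjoinRoot.algebraMap_eq, ← AdjoinRoot.mk_C, ← AdjoinRoot.mk_C, ← AdjoinRoot.mk_X, ← map_mul, ← map_mul,
    show Polynomial.C (d ^ v) * (Polynomial.X * (Polynomial.C c₁ * Polynomial.X + Polynomial.C c₀)) =
      Polynomial.C (d ^ v) * Polynomial.C c₁ * Polynomial.X ^ 2 + Polynomial.C (d ^ v * c₀) * Polynomial.X by
      rw [map_mul]; ring, map_add, map_mul _ _ (Polynomial.X ^ 2), hsq, ← map_mul, ← map_add, ← map_mul, ← map_mul,
    AdjoinRoot.mk_eq_mk] at h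
  have h0 := Polynomial.eq_zero_of_dvd_of_degree_lt h (by
    rw [hdeg]
    refine lt_of_le_of_lt (Polynomial.degree_sub_le _ _) (max_lt ?_ ?_)
    · exact lt_of_le_of_lt Polynomial.degree_C_le (by norm_num)
    · refine lt_of_le_of_lt (Polynomial.degree_add_le _ _) (max_lt ?_ ?_)
      · exact lt_of_le_of_lt Polynomial.degree_C_le (by norm_num)
      · exact lt_of_le_of_lt (Polynomial.degree_C_mul_X_le _) (by norm_num))
  have h1 := congrArg (fun q => Polynomial.coeff q 0) h0
  simp [-map_pow, -map_mul] at h1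
  refine ⟨c₁, mul_left_cancel₀ (pow_ne_zero v hd) ?_⟩
  linear_combination h1

set_option maxHeartbeats 1600000 in
/-- Let R be a discrete valuation ring with uniformizer ϖ, let a₁, a₆ ∈ R with a₁ of valuation v ≥ 1, a₆
of valuation 1, and 2 of valuation at least v (so the residue characteristic is 2; 2 = 0 is
allowed). In the power series ring S = R[[x, y]] let M = (ϖ, x, y) be the maximal ideal and I the
ideal generated by y² + a₁xy − x³ − a₆, 2y + a₁x and 3x² − a₁y, so that S/I is a local ring with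
maximal ideal m = M/I. Then the classes of y^(2v) and x·y^(2v−1) form a basis of the vector space
m^(2v)/m^(2v+1) over the residue field: M^(2v) + I = (y^(2v), x·y^(2v−1)) + I, and whenever a·y^(2v)
+ b·x·y^(2v−1) ∈ M^(2v+1) + I with a, b ∈ R, both a and b lie in the maximal ideal of R. (Generation
holds with any exponent i ≥ 1 in place of 2v: M^i + I = (y^i, x·y^(i−1)) + I.) -/
theorem result (R : Type u) [CommRing R] [IsDomain R] [IsDiscreteValuationRing R]
    (ϖ a₁ a₆ : R) (hϖ : Irreducible ϖ) (v : ℕ) (hv : 1 ≤ v) (u₁ u₆ : Rˣ) (ha₁ : a₁ = u₁ * ϖ ^ v) (ha₆ : a₆ = u₆ * ϖ)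
    (h2 : (2 : R) ∈ IsLocalRing.maximalIdeal R ^ v)
    (x y : MvPowerSeries (Fin 2) R) (hx : x = MvPowerSeries.X 0) (hy : y = MvPowerSeries.X 1)
    (I M : Ideal (MvPowerSeries (Fin 2) R))
    (hI : I = Ideal.span {y ^ 2 + a₁ • (x * y) - x ^ 3 - algebraMap R (MvPowerSeries (Fin 2) R) a₆,
      2 * y + a₁ • x, 3 * x ^ 2 - a₁ • y})
    (hM : M = Ideal.span {algebraMap R (MvPowerSeries (Fin 2) R) ϖ, x, y}) :
    M ^ (2 * v) ⊔ I = Ideal.span {y ^ (2 * v), x * y ^ (2 * v - 1)} ⊔ I ∧
      ∀ a b : R, a • y ^ (2 * v) + b • (x * y ^ (2 * v - 1)) ∈ M ^ (2 * v + 1) ⊔ I →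
        a ∈ IsLocalRing.maximalIdeal R ∧ b ∈ IsLocalRing.maximalIdeal R := by
  have hxM : x ∈ M := hM ▸ Ideal.subset_span (by simp)
  have hyM : y ∈ M := hM ▸ Ideal.subset_span (by simp)
  have hmem : ∀ {z}, z ∈ ({y ^ 2 + a₁ • (x * y) - x ^ 3 - algebraMap R (MvPowerSeries (Fin 2) R) a₆,
      2 * y + a₁ • x, 3 * x ^ 2 - a₁ • y} : Set _) → z ∈ I := fun h => hI ▸ Ideal.subset_span h
  have hmax : IsLocalRing.maximalIdeal R = Ideal.span {ϖ} := Irreducible.maximalIdeal_eq hϖ
  obtain ⟨c2, hc2⟩ : ∃ c, (2 : R) = ϖ ^ v * c := by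
    rw [hmax, Ideal.span_singleton_pow, Ideal.mem_span_singleton] at h2
    exact h2
  have hϖM : algebraMap R (MvPowerSeries (Fin 2) R) ϖ ∈ M ^ 2 ⊔ I := by
    have e : algebraMap R (MvPowerSeries (Fin 2) R) ϖ = algebraMap R _ (↑u₆⁻¹ : R) *
        ((y ^ 2 + a₁ • (x * y) - x ^ 3) - (y ^ 2 + a₁ • (x * y) - x ^ 3 - algebraMap R _ a₆)) := by
      rw [sub_sub_cancel, ← map_mul, ha₆, ← mul_assoc, Units.inv_mul, one_mul]
    rw [e]
    refine Ideal.mul_mem_left _ _ (Ideal.sub_mem _ (Ideal.mem_sup_left ?_) (Ideal.mem_sup_right (hmem (by simp))))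
    refine Ideal.sub_mem _ (Ideal.add_mem _ (Ideal.pow_mem_pow hyM 2) ?_) ?_
    · exact Submodule.smul_of_tower_mem _ _ (pow_two M ▸ Ideal.mul_mem_mul hxM hyM)
    · exact Ideal.pow_le_pow_right (by norm_num) (Ideal.pow_mem_pow hxM 3)
  have hx2 : x ^ 2 ∈ M ^ (2 * v + 1) ⊔ I := by
    have h3 : IsUnit (3 : R) := by
      have : (2 : R) ∈ IsLocalRing.maximalIdeal R := Ideal.pow_le_self (by omega) h2
      by_contra hc
      have h1 := Ideal.sub_mem _ ((IsLocalRing.mem_maximalIdeal _).2 hc) this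
      norm_num at h1
    obtain ⟨w, hw⟩ := h3
    have e : x ^ 2 = algebraMap R _ (↑w⁻¹ : R) * ((3 * x ^ 2 - a₁ • y) + a₁ • y) := by
      rw [sub_add_cancel, ← mul_assoc, ← map_ofNat (algebraMap R (MvPowerSeries (Fin 2) R)) 3, ← map_mul, ← hw,
        Units.inv_mul, map_one, one_mul]
    rw [e]
    refine Ideal.mul_mem_left _ _ (Ideal.add_mem _ (Ideal.mem_sup_right (hmem (by simp))) ?_)
    have h1 : algebraMap R (MvPowerSeries (Fin 2) R) (ϖ ^ v) ∈ M ^ (2 * v) ⊔ I := by
      rw [map_pow, pow_mul]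
      exact sup_pow_le _ _ v (Ideal.pow_mem_pow hϖM v)
    have h2' : algebraMap R (MvPowerSeries (Fin 2) R) (ϖ ^ v) * y ∈ (M ^ (2 * v) ⊔ I) * M := Ideal.mul_mem_mul h1 hyM
    rw [Ideal.sup_mul, ← pow_succ] at h2'
    rw [Algebra.smul_def, ha₁, map_mul, mul_assoc]
    exact Ideal.mul_mem_left _ _ ((sup_le le_sup_left (le_sup_of_le_right Ideal.mul_le_left) : M ^ (2 * v + 1) ⊔ I * M ≤ M ^ (2 * v + 1) ⊔ I) h2')
  set G : Ideal (MvPowerSeries (Fin 2) R) := Ideal.span {y ^ (2 * v), x * y ^ (2 * v - 1)} with hG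
  have hGle : G ≤ M ^ (2 * v) := by
    rw [hG, Ideal.span_le]
    rintro z (rfl | rfl)
    · exact Ideal.pow_mem_pow hyM _
    · obtain ⟨m, hm⟩ : ∃ m, 2 * v = m + 1 := ⟨2 * v - 1, by omega⟩
      show x * y ^ (2 * v - 1) ∈ M ^ (2 * v)
      rw [hm, Nat.add_sub_cancel, pow_succ']
      exact Ideal.mul_mem_mul hxM (Ideal.pow_mem_pow hyM _)
  refine ⟨le_antisymm (sup_le ?_ le_sup_right) (sup_le_sup hGle le_rfl), fun a b hab => ?_⟩
  · refine Submodule.le_of_le_smul_of_le_jacobson_bot (I := M) ?_ ?_ ?_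
    · refine Submodule.FG.pow ?_ _
      rw [hM]
      exact Submodule.fg_span ((Set.finite_singleton _).insert _ |>.insert _)
    · rw [IsLocalRing.jacobson_eq_maximalIdeal _ bot_ne_top, hM, Ideal.span_le]
      rintro z (rfl | rfl | rfl)
      · rw [SetLike.mem_coe, IsLocalRing.mem_maximalIdeal, mem_nonunits_iff, isUnit_iff_constantCoeff,
          MvPowerSeries.algebraMap_apply, constantCoeff_C]
        simpa using hϖ.not_isUnit
      · rw [SetLike.mem_coe, IsLocalRing.mem_maximalIdeal, mem_nonunits_iff, isUnit_iff_constantCoeff, hx, constantCoeff_X]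
        simp
      · rw [SetLike.mem_coe, IsLocalRing.mem_maximalIdeal, mem_nonunits_iff, isUnit_iff_constantCoeff, hy, constantCoeff_X]
        simp
    · rw [smul_eq_mul, ← pow_succ']
      have h1 : M ≤ (Ideal.span {x} ⊔ Ideal.span {y}) ⊔ (M ^ 2 ⊔ I) := by
        conv_lhs => rw [hM]
        rw [Ideal.span_le]
        rintro z (rfl | rfl | rfl)
        · exact Ideal.mem_sup_right hϖM
        · exact Ideal.mem_sup_left (Ideal.mem_sup_left (Ideal.mem_span_singleton_self _))
        · exact Ideal.mem_sup_left (Ideal.mem_sup_right (Ideal.mem_span_singleton_self _))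
      obtain ⟨m, hm⟩ : ∃ m, 2 * v = m + 1 := ⟨2 * v - 1, by omega⟩
      have hxy : Ideal.span {x} ⊔ Ideal.span {y} ≤ M :=
        sup_le ((Ideal.span_singleton_le_iff_mem _).2 hxM) ((Ideal.span_singleton_le_iff_mem _).2 hyM)
      have h3 : M ^ (m + 1) ≤ (Ideal.span {x} ⊔ Ideal.span {y}) ^ (m + 1) ⊔ (M ^ (m + 2) ⊔ I) := by
        have key : ∀ j, M ^ (j + 1) ≤ (Ideal.span {x} ⊔ Ideal.span {y}) ^ (j + 1) ⊔ (M ^ (j + 2) ⊔ I) := by
          intro j
          induction j with
          | zero => simpa using h1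
          | succ j ih =>
            rw [pow_succ]
            refine (Ideal.mul_mono ih le_rfl).trans ?_
            rw [Ideal.sup_mul, Ideal.sup_mul, ← pow_succ M]
            refine sup_le ?_ (sup_le (le_sup_of_le_right le_sup_left) (le_sup_of_le_right (le_sup_of_le_right Ideal.mul_le_left)))
            refine (Ideal.mul_mono le_rfl h1).trans ?_
            rw [Ideal.mul_sup, Ideal.mul_sup _ (M ^ 2), ← pow_succ]
            refine sup_le le_sup_left (sup_le (le_sup_of_le_right (le_sup_of_le_left ?_))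
              (le_sup_of_le_right (le_sup_of_le_right Ideal.mul_le_right)))
            exact (Ideal.mul_mono (Ideal.pow_right_mono hxy _) le_rfl).trans (le_of_eq (pow_add M (j + 1) 2).symm)
        exact key m
      rw [← hm] at h3
      refine h3.trans (sup_le ?_ (sup_le ?_ ?_))
      · rw [hm]
        refine (pair_pow_le _ _ m).trans (sup_le (sup_le ?_ ?_) ?_)
        · rw [Ideal.span_singleton_pow, Ideal.span_singleton_le_iff_mem]
          exact (sup_le le_sup_right (le_sup_of_le_left le_sup_right) : M ^ (2 * v + 1) ⊔ I ≤ _) hx2 |> fun h => by simpa [hm] using h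
        · rw [Ideal.span_singleton_pow, Ideal.span_singleton_mul_span_singleton, Ideal.span_singleton_le_iff_mem]
          exact Ideal.mem_sup_left (Ideal.mem_sup_left (Ideal.subset_span (by simp [hm])))
        · rw [Ideal.span_singleton_pow, Ideal.span_singleton_le_iff_mem]
          exact Ideal.mem_sup_left (Ideal.mem_sup_left (Ideal.subset_span (by simp [hm])))
      · rw [hm]; exact le_sup_right
      · exact le_sup_of_le_left le_sup_right
  · let f : Polynomial R := Polynomial.X ^ 2 - Polynomial.C a₆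
    have ha0 : a₆ ≠ 0 := by rw [ha₆]; exact mul_ne_zero u₆.ne_zero hϖ.ne_zero
    let O := AdjoinRoot f
    let η : O := AdjoinRoot.root f
    have hη : η ^ 2 = algebraMap R O a₆ := by
      have := AdjoinRoot.eval₂_root f
      rwa [Polynomial.eval₂_sub, Polynomial.eval₂_X_pow, Polynomial.eval₂_C, sub_eq_zero] at this
    have hpow : algebraMap R O (a₆ ^ v) = η ^ (2 * v) := by rw [map_pow, pow_mul, hη]
    -- a test algebra kills `I` and `M ^ (2 v + 1)`
    have test : ∀ (T : Type u) [CommRing T] [Algebra R T] (X' Y' : T), Y' ^ 2 = algebraMap R T a₆ → X' ^ 2 = 0 →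
        Y' ^ (2 * v + 1) = 0 → X' * Y' ^ (2 * v) = 0 →
        algebraMap R T a * Y' ^ (2 * v) + algebraMap R T b * (X' * Y' ^ (2 * v - 1)) = 0 := by
      intro T _ _ X' Y' h1 h2' h3 h4
      obtain ⟨φ, φx, φy, φC⟩ := exists_eval (R := R) X' Y' ⟨2, h2'⟩ ⟨2 * v + 1, h3⟩
      have hkill : ∀ z ∈ M ^ (2 * v + 1) ⊔ I, φ z = 0 := by
        have hϖT : algebraMap R T ϖ = algebraMap R T (↑u₆⁻¹ : R) * Y' ^ 2 := by
          rw [h1, ← map_mul, ha₆, ← mul_assoc, Units.inv_mul, one_mul]
        have hv0 : ∀ z, z = X' ∨ z = Y' → algebraMap R T (ϖ ^ v) * z = 0 := fun z hz => by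
          rw [map_pow, hϖT, mul_pow, ← pow_mul, mul_assoc]
          rcases hz with rfl | rfl
          · rw [mul_comm (Y' ^ (2 * v)), h4, mul_zero]
          · rw [← pow_succ, h3, mul_zero]
        have hIle : I ≤ RingHom.ker φ := by
          rw [hI, Ideal.span_le]
          rintro z (rfl | rfl | rfl) <;> rw [SetLike.mem_coe, RingHom.mem_ker]
          · simp only [map_sub, map_add, map_pow, map_mul, Algebra.smul_def, φC, hx, hy, φx, φy, ha₁]
            have := hv0 X' (Or.inl rfl)
            rw [map_pow] at this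
            linear_combination h1 - X' * h2' + algebraMap R T (u₁ : R) * Y' * this
          · simp only [map_add, map_mul, map_ofNat, Algebra.smul_def, φC, hx, hy, φx, φy, ha₁]
            have e1 := hv0 X' (Or.inl rfl)
            have e2 := hv0 Y' (Or.inr rfl)
            have e3 : (2 : T) = algebraMap R T (ϖ ^ v) * algebraMap R T c2 := by rw [← map_mul, ← hc2, map_ofNat]
            linear_combination algebraMap R T (u₁ : R) * e1 + algebraMap R T c2 * e2 + Y' * e3
          · simp only [map_sub, map_pow, map_mul, map_ofNat, Algebra.smul_def, φC, hx, hy, φx, φy, ha₁]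
            have e2 := hv0 Y' (Or.inr rfl)
            rw [map_pow] at e2
            linear_combination 3 * h2' - algebraMap R T (u₁ : R) * e2
        have hMle : Ideal.map φ M ≤ Ideal.span {X'} ⊔ Ideal.span {Y'} := by
          rw [hM, Ideal.map_span, Ideal.span_le]
          rintro z ⟨w, rfl | rfl | rfl, rfl⟩
          · rw [φC, hϖT, pow_two, ← mul_assoc]
            exact Ideal.mem_sup_right (Ideal.mul_mem_left _ _ (Ideal.mem_span_singleton_self _))
          · rw [hx, φx]; exact Ideal.mem_sup_left (Ideal.mem_span_singleton_self _)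
          · rw [hy, φy]; exact Ideal.mem_sup_right (Ideal.mem_span_singleton_self _)
        have hM0 : Ideal.map φ (M ^ (2 * v + 1)) = ⊥ := by
          rw [eq_bot_iff, Ideal.map_pow]
          refine (Ideal.pow_right_mono hMle _).trans ((pair_pow_le _ _ _).trans ?_)
          simp [Ideal.span_singleton_pow, Ideal.span_singleton_mul_span_singleton, h2', h3, h4]
        intro z hz
        refine (RingHom.mem_ker).1 ((sup_le ?_ hIle : M ^ (2 * v + 1) ⊔ I ≤ RingHom.ker φ) hz)
        exact Ideal.map_le_iff_le_comap.1 hM0.le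
      have := hkill _ hab
      rwa [map_add, Algebra.smul_def, Algebra.smul_def, map_mul, map_mul, map_mul, map_pow, map_pow, φC, φC, hx, hy,
        φx, φy] at this
    rw [hmax]
    have hdvd : ∀ c, (∃ d, c = a₆ * d) → c ∈ Ideal.span {ϖ} := by
      rintro c ⟨d, rfl⟩
      rw [ha₆, Ideal.mem_span_singleton]
      exact ⟨u₆ * d, by ring⟩
    constructor
    · let T := O ⧸ Ideal.span {η ^ (2 * v + 1)}
      let q := Ideal.Quotient.mk (Ideal.span {η ^ (2 * v + 1)})
      have h := test T 0 (q η) (by rw [← map_pow, hη]; rfl) (by simp)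
        (by rw [← map_pow, Ideal.Quotient.eq_zero_iff_mem]; exact Ideal.mem_span_singleton_self _) (zero_mul _)
      rw [zero_mul, mul_zero, add_zero, ← map_pow, IsScalarTower.algebraMap_apply R O T a,
        Ideal.Quotient.algebraMap_eq, ← map_mul, Ideal.Quotient.eq_zero_iff_mem, Ideal.mem_span_singleton] at h
      obtain ⟨z, hz⟩ := h
      refine hdvd a (coeff_of_eq a₆ ha0 v a z ?_)
      rw [map_mul, hpow, mul_comm, hz]
      show η ^ (2 * v + 1) * z = η ^ (2 * v) * (η * z)
      ring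
    · let T0 := O ⧸ Ideal.span {η ^ (2 * v)}
      let q := Ideal.Quotient.mk (Ideal.span {η ^ (2 * v)})
      have hq : q η ^ (2 * v) = 0 := by
        rw [← map_pow, Ideal.Quotient.eq_zero_iff_mem]; exact Ideal.mem_span_singleton_self _
      have h := test (DualNumber T0) DualNumber.eps (algebraMap T0 (DualNumber T0) (q η))
        (by rw [← map_pow, ← map_pow, hη]; rfl) (by rw [pow_two, DualNumber.eps_mul_eps])
        (by rw [← map_pow, pow_succ, hq, zero_mul, map_zero]) (by rw [← map_pow, hq, map_zero, mul_zero])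
      rw [← map_pow, hq, map_zero, mul_zero, zero_add, ← map_pow, ← map_pow,
        IsScalarTower.algebraMap_apply R T0 (DualNumber T0), mul_left_comm, ← map_mul] at h
      replace h := congrArg TrivSqZeroExt.snd h
      simp only [TrivSqZeroExt.algebraMap_eq_inl, TrivSqZeroExt.snd_mul, DualNumber.fst_eps, DualNumber.snd_eps,
        TrivSqZeroExt.fst_inl, TrivSqZeroExt.snd_inl, smul_eq_mul, MulOpposite.smul_eq_mul_unop, MulOpposite.unop_op,
        mul_zero, zero_mul, zero_add, add_zero, one_mul, mul_one, TrivSqZeroExt.snd_zero] at h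
      rw [IsScalarTower.algebraMap_apply R O T0, Ideal.Quotient.algebraMap_eq, ← map_mul, Ideal.Quotient.eq_zero_iff_mem,
        Ideal.mem_span_singleton] at h
      obtain ⟨z, hz⟩ := h
      refine hdvd b (coeff_of_eq a₆ ha0 v b z ?_)
      obtain ⟨m, hm⟩ : ∃ m, 2 * v = m + 1 := ⟨2 * v - 1, by omega⟩
      rw [hm, Nat.add_sub_cancel, pow_succ] at hz
      rw [map_mul, hpow, hm]
      show η ^ (m + 1) * algebraMap R O b = η ^ (m + 1) * (η * z)
      linear_combination η * hz

end Groth.Agent.S14909
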