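import Groth.Statements.S14912
import Groth.Agent.NeronGrp.SplitRed

set_option backward.isDefEq.respectTransparency false
set_option backward.isDefEq.respectTransparency.types false
set_option synthInstance.maxHeartbeats 400000
set_option maxHeartbeats 1000000

set_option autoImplicit false
universe u
open CategoryTheory MonoidalCategory CartesianMonoidalCategory MonObj GrpObj AlgebraicGeometry
open Neron

namespace Groth.Agent.S14912

/-- Let R be a complete discrete valuation ring with fraction field K and algebraically closed residue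
field k of characteristic p > 0, and N an R-group scheme which is a Néron model of its generic fibre
N_K, an abelian variety (proper and geometrically integral over K). Then N_K has split reduction —
for every k-point x of the special fibre N_k there is a k-point y in the connected component of x
such that for all n, y^n = 1 if and only if x^n lies in the connected component of the identity — if
and only if this holds for every k-point x such that some x^(p^r) lies in the connected component of
the identity (the p-primary part of the component sequence splits). (The published statement covers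
semi-abelian varieties with their Néron lft-models; this row is the case of an abelian variety.) -/
theorem result (R : Type u) [CommRing R] [IsDomain R]
    [IsDiscreteValuationRing R] [IsAdicComplete (IsLocalRing.maximalIdeal R) R] (K : Type u) [Field K] [Algebra R K]
    [IsFractionRing R K] [IsAlgClosed (IsLocalRing.ResidueField R)] (p : ℕ) [Fact p.Prime] [CharP (IsLocalRing.ResidueField R) p]
    (N : Over (Spec (CommRingCat.of R))) [GrpObj N] [IsCommMonObj N] (hN : SGA7.IsNeron R K N)
    [IsProper ((SGA7.genFib R K).obj N).hom] [GeometricallyIntegral ((SGA7.genFib R K).obj N).hom] :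
    (∀ x : 𝟙_ (Over (Spec (CommRingCat.of (IsLocalRing.ResidueField R)))) ⟶ Red.bc (Spec.map (CommRingCat.ofHom (IsLocalRing.residue R))) N,
        ∃ y : 𝟙_ (Over (Spec (CommRingCat.of (IsLocalRing.ResidueField R)))) ⟶ Red.bc (Spec.map (CommRingCat.ofHom (IsLocalRing.residue R))) N,
          y.left.base (IsLocalRing.closedPoint (IsLocalRing.ResidueField R)) ∈ connectedComponent (x.left.base (IsLocalRing.closedPoint (IsLocalRing.ResidueField R))) ∧
            ∀ n : ℕ, y ^ n = 1 ↔ (x ^ n).left.base (IsLocalRing.closedPoint (IsLocalRing.ResidueField R)) ∈ connectedComponent ((η[Red.bc (Spec.map (CommRingCat.ofHom (IsLocalRing.residue R))) N]).left.base (IsLocalRing.closedPoint (IsLocalRing.ResidueField R)))) ↔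
      ∀ x : 𝟙_ (Over (Spec (CommRingCat.of (IsLocalRing.ResidueField R)))) ⟶ Red.bc (Spec.map (CommRingCat.ofHom (IsLocalRing.residue R))) N,
        (∃ r : ℕ, (x ^ (p ^ r)).left.base (IsLocalRing.closedPoint (IsLocalRing.ResidueField R)) ∈ connectedComponent ((η[Red.bc (Spec.map (CommRingCat.ofHom (IsLocalRing.residue R))) N]).left.base (IsLocalRing.closedPoint (IsLocalRing.ResidueField R)))) →
          ∃ y : 𝟙_ (Over (Spec (CommRingCat.of (IsLocalRing.ResidueField R)))) ⟶ Red.bc (Spec.map (CommRingCat.ofHom (IsLocalRing.residue R))) N,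
          y.left.base (IsLocalRing.closedPoint (IsLocalRing.ResidueField R)) ∈ connectedComponent (x.left.base (IsLocalRing.closedPoint (IsLocalRing.ResidueField R))) ∧
            ∀ n : ℕ, y ^ n = 1 ↔ (x ^ n).left.base (IsLocalRing.closedPoint (IsLocalRing.ResidueField R)) ∈ connectedComponent ((η[Red.bc (Spec.map (CommRingCat.ofHom (IsLocalRing.residue R))) N]).left.base (IsLocalRing.closedPoint (IsLocalRing.ResidueField R))) := by
  open scoped CategoryTheory.Obj in
  haveI : Smooth N.hom := hN.1
  haveI : QuasiCompact N.hom := hN.2.2.1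
  let k := IsLocalRing.ResidueField R
  let q : Spec (CommRingCat.of k) ⟶ Spec (CommRingCat.of R) := Spec.map (CommRingCat.ofHom (IsLocalRing.residue R))
  let Nk := (Over.pullback q).obj N
  haveI : Smooth Nk.hom := inferInstanceAs (Smooth (Limits.pullback.snd N.hom q))
  haveI : QuasiCompact Nk.hom := inferInstanceAs (QuasiCompact (Limits.pullback.snd N.hom q))
  haveI : IsCommMonObj Nk := inferInstanceAs (IsCommMonObj ((Over.pullback q).obj N))
  refine ⟨fun h x _ => h x, fun h x => ?_⟩
  have he : ∀ z : 𝟙_ (Over (Spec (CommRingCat.of k))) ⟶ Nk,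
      z.left (IsLocalRing.closedPoint k) ∈ Groth.Agent.NeronGrp.unitComp Nk ↔
        z.left.base (IsLocalRing.closedPoint k) ∈ _root_.connectedComponent ((η[Nk]).left.base (IsLocalRing.closedPoint k)) :=
    fun z => by rw [Groth.Agent.NeronGrp.unitComp, Groth.Agent.S4070.unit_eq]
  obtain ⟨y, hy, hyn⟩ := Groth.Agent.NeronGrp.exists_split_of_root (G := Nk) x fun M hM hdvd => by
    obtain ⟨r, m, hm, hMe⟩ := Nat.exists_eq_pow_mul_and_not_dvd hM.ne' p (Fact.out : p.Prime).ne_one
    have hxr : ((x ^ m) ^ (p ^ r)).left (IsLocalRing.closedPoint k) ∈ Groth.Agent.NeronGrp.unitComp Nk := by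
      rw [← pow_mul, mul_comm, ← hMe]
      exact (hdvd M).2 dvd_rfl
    obtain ⟨z, hz, hzn⟩ := h (x ^ m) ⟨r, (he _).1 hxr⟩
    have hz1 : z ^ (p ^ r) = 1 := (hzn _).2 ((he _).1 hxr)
    obtain ⟨w, hw, hwm⟩ := Groth.Agent.NeronGrp.exists_pow_eq (G := Nk)
      (fun h0 => hm ((CharP.cast_eq_zero_iff k p m).1 h0)) (z * (x ^ m)⁻¹)
      (Groth.Agent.NeronGrp.mul_inv_mem_unitComp hz)
    refine ⟨w, hw, ?_⟩
    rw [mul_pow, hMe, mul_comm (p ^ r), pow_mul w, hwm, pow_mul x, ← mul_pow, inv_mul_cancel_right]
    exact hz1
  exact ⟨y, hy, fun n => (hyn n).trans (he _)⟩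

end Groth.Agent.S14912
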