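import Groth.Statements.S1493
import Groth.Agent.KoszulLib.Pres
import Groth.Agent.KoszulLib.SchNoeth
import Groth.Agent.RegQuotPoint.Basic
import Groth.Agent.CotT.RegQuot
import Groth.Agent.FlatDepth.Regular
import Mathlib.RingTheory.RegularLocalRing.Polynomial

set_option autoImplicit false
universe u
attribute [local instance] HasDerivedCategory.standard
open FlatMor

namespace Groth.Agent.S1493

open AlgebraicGeometry CategoryTheory Limits in
/-- Let f : X → Y be locally of finite type with X and Y regular (locally Noetherian with regular local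
rings). Then f is a local complete intersection morphism (affine-locally: local complete
intersection ring maps). -/
theorem result {X Y : Scheme.{u}} (f : X ⟶ Y) [LocallyOfFiniteType f] [IsLocallyNoetherian X] [IsLocallyNoetherian Y]
    (hX : ∀ x : X, IsRegularLocalRing ↑(X.presheaf.stalk x)) (hY : ∀ y : Y, IsRegularLocalRing ↑(Y.presheaf.stalk y)) :
    (∀ (U : X.Opens) (V : Y.Opens) (hU : IsAffineOpen U) (hV : IsAffineOpen V) (hUV : U ≤ f ⁻¹ᵁ V),
        letI := (f.appLE V U hUV).hom.toAlgebra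
        LCI.IsLCI Γ(Y, V) Γ(X, U)) := by
  intro U V hU hV hUV
  letI : Algebra Γ(Y, V) Γ(X, U) := (f.appLE V U hUV).hom.toAlgebra
  haveI : Algebra.FiniteType Γ(Y, V) Γ(X, U) := RingHom.finiteType_algebraMap.1
    (HasRingHomProperty.appLE @LocallyOfFiniteType f ‹_› ⟨V, hV⟩ ⟨U, hU⟩ hUV)
  have hreg : ∀ {Z : Scheme.{u}} [IsLocallyNoetherian Z] (_ : ∀ z : Z, IsRegularLocalRing ↑(Z.presheaf.stalk z))
      (W : Z.Opens) (hW : IsAffineOpen W), IsRegularRing Γ(Z, W) := by
    intro Z _ hZ W hW
    haveI : IsNoetherianRing Γ(Z, W) := IsLocallyNoetherian.component_noetherian ⟨W, hW⟩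
    refine isRegularRing_iff.2 fun p hp => ?_
    have hmem : hW.fromSpec ⟨p, hp⟩ ∈ W := by
      rw [← SetLike.mem_coe, ← hW.range_fromSpec]; exact ⟨_, rfl⟩
    letI := TopCat.Presheaf.algebra_section_stalk Z.presheaf (⟨_, hmem⟩ : W)
    haveI := hW.isLocalization_stalk ⟨_, hmem⟩
    have he : (hW.primeIdealOf ⟨_, hmem⟩).asIdeal = p := by
      exact congrArg PrimeSpectrum.asIdeal (hW.fromSpec.isOpenEmbedding.injective (hW.fromSpec_primeIdealOf ⟨_, hmem⟩))
    haveI : IsLocalization.AtPrime ↑(Z.presheaf.stalk (hW.fromSpec ⟨p, hp⟩)) p := by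
      convert hW.isLocalization_stalk ⟨_, hmem⟩
      exact he.symm
    haveI := hZ (hW.fromSpec ⟨p, hp⟩)
    exact IsRegularLocalRing.of_ringEquiv
      (IsLocalization.algEquiv p.primeCompl ↑(Z.presheaf.stalk (hW.fromSpec ⟨p, hp⟩)) (Localization.AtPrime p)).toRingEquiv
  haveI := hreg hY V hV
  haveI := hreg hX U hU
  rw [Groth.Agent.KoszulLib.isLCI_iff]
  refine ⟨inferInstance, fun n φ hφ P => ?_⟩
  by_cases hIP : RingHom.ker φ.toRingHom ≤ P.asIdeal
  swap
  · exact Groth.Agent.KoszulLib.kAt_of_not_le hIP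
  let I := RingHom.ker φ.toRingHom
  let L := Localization.AtPrime P.asIdeal
  haveI : IsRegularRing (MvPolynomial (Fin n) Γ(Y, V) ⧸ I) :=
    Groth.Agent.FlatDepth.isRegularRing_of_equiv _ _
      (RingHom.quotientKerEquivOfSurjective (f := φ.toRingHom) hφ).symm inferInstance
  let Q := P.asIdeal.map (Ideal.Quotient.mk I)
  have hQ : P.asIdeal = Q.comap (Ideal.Quotient.mk I) := by
    rw [Ideal.comap_map_of_surjective' _ Ideal.Quotient.mk_surjective, Ideal.mk_ker]
    exact (sup_eq_left.2 hIP).symm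
  haveI : Q.IsPrime := Ideal.map_isPrime_of_surjective Ideal.Quotient.mk_surjective (by rw [Ideal.mk_ker]; exact hIP)
  obtain ⟨e⟩ := Groth.Agent.RegQuotPoint.nonempty_equiv I Q P.asIdeal hQ
  haveI : IsRegularRing (L ⧸ I.map (algebraMap _ L)) :=
    Groth.Agent.FlatDepth.isRegularRing_of_equiv (Localization.AtPrime Q) _ e (Groth.Agent.CotT.isRegularRing_of_local _)
  have hne : I.map (algebraMap _ L) ≠ ⊤ := by
    intro h
    haveI : Subsingleton (L ⧸ I.map (algebraMap _ L)) := Ideal.Quotient.subsingleton_iff.2 h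
    exact not_subsingleton (Localization.AtPrime Q) e.toEquiv.subsingleton
  obtain ⟨r, b, hb, hw⟩ := Groth.Agent.CotT.exists_wreg_generators (R := L) (I.map (algebraMap _ L)) hne
  refine Groth.Agent.KoszulLib.kAt_of_regular_localization P.asIdeal L hIP (List.ofFn b) ?_
    (Groth.Agent.CotT.isWeaklyRegular_ofFn hw)
  rw [← hb, Ideal.ofList]
  congr 1
  ext v
  simp [List.mem_ofFn]

end Groth.Agent.S1493
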