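import Groth.Statements.S14930
import Groth.Agent.FrobRadicial.Basic

set_option autoImplicit false
universe u
open CategoryTheory CategoryTheory.Limits AlgebraicGeometry
open Variety

namespace Groth.Agent.S14930

/-- Let p be a prime, S a scheme of characteristic p (p is zero in the structure sheaf) and f : X → S a
morphism of schemes. Then the relative Frobenius F_{X/S} : X → X^(p), where X^(p) = X ×_{S,F_S} S is
the base change of X along the absolute Frobenius of S and F_{X/S} is the morphism over S whose
composite with the projection X^(p) → X is the absolute Frobenius of X, is a universal homeomorphism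
(every base change of it is a homeomorphism), is integral, and induces a purely inseparable
extension of residue fields at every point of X. -/
theorem result (p : ℕ) [Fact p.Prime]
    {X S : Scheme.{u}} [FrobSch.IsCharP S p] (f : X ⟶ S) :
    FlatMor.IsUnivHomeo (FrobSch.relFrob f p) ∧ IsIntegralHom (FrobSch.relFrob f p) ∧
      ∀ x : X, ((FrobSch.relFrob f p).residueFieldMap x).hom.IsPurelyInseparable := by
  haveI : FrobSch.IsCharP X p := FrobSch.IsCharP.of_hom f p
  set g := FrobSch.relFrob f p with hg
  set q := pullback.fst f (FrobSch.frob S p) with hq
  have hgq : g ≫ q = FrobSch.frob X p := FrobSch.relFrob_fst f p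
  have hq1 : UniversallyInjective q := MorphismProperty.pullback_fst _ _ inferInstance
  have hq2 : IsIntegralHom q := MorphismProperty.pullback_fst _ _ inferInstance
  have : IsIntegralHom (g ≫ q) := by rw [hgq]; infer_instance
  have hint : IsIntegralHom g := IsIntegralHom.of_comp g q
  have hinj : UniversallyInjective g :=
    ((tfae_universallyInjective g).out 1 0 :
      (∀ (K : Type u) [Field K], Function.Injective (fun t : Spec (CommRingCat.of K) ⟶ X => t ≫ g)) ↔
        UniversallyInjective g).1 fun K _ a b h => by
      refine (((tfae_universallyInjective (FrobSch.frob X p)).out 0 1 :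
        UniversallyInjective (FrobSch.frob X p) ↔ ∀ (K : Type u) [Field K],
          Function.Injective (fun t : Spec (CommRingCat.of K) ⟶ X => t ≫ FrobSch.frob X p)).1 inferInstance K) ?_
      show a ≫ FrobSch.frob X p = b ≫ FrobSch.frob X p
      rw [← hgq, ← Category.assoc, ← Category.assoc, show a ≫ g = b ≫ g from h]
  have hsurj : Surjective g := ⟨fun y => ⟨q.base y, q.injective (by
    show (g ≫ q).base (q.base y) = q.base y
    rw [hgq]
    rfl)⟩⟩
  exact ⟨Groth.Agent.FrobRadicial.isUnivHomeo g, hint,
    (((tfae_universallyInjective g).out 0 2 : UniversallyInjective g ↔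
      Function.Injective g ∧ ∀ x, (g.residueFieldMap x).hom.IsPurelyInseparable).1 hinj).2⟩

end Groth.Agent.S14930
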