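import Groth.Statements.S14932
import Groth.Agent.FrobDeg.Degree
import Groth.Agent.CurveFrob.Basic
import Groth.Agent.Perfn.Etale

set_option autoImplicit false
universe u
open CategoryTheory CategoryTheory.Limits AlgebraicGeometry
open Variety

set_option maxHeartbeats 2000000
set_option linter.style.haveILetI false
set_option backward.isDefEq.respectTransparency false

namespace Groth.Agent.S14932

/-- Let k be a field of characteristic p > 0 and X a variety over k (an integral scheme, separated and
of finite type over k) which is geometrically reduced over k, of dimension d. Then the Frobenius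
twist X^(p) = X ×_{Spec k, F_k} Spec k, the base change of X along the absolute Frobenius of Spec k,
is an integral scheme, and the relative Frobenius F_{X/k} : X → X^(p) has degree p^d: the residue
field of the generic point of X is an extension of degree p^d of the residue field of its image in
X^(p). (The published item also says that X^(p) is separated and of finite type over k and that
F_{X/k} is finite and dominant; these hold for every base change of a separated morphism of finite
type, respectively for the relative Frobenius of every scheme locally of finite type over a base of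
characteristic p, and are not restated. It also states the equivalence of: X^(p) reduced, X
geometrically reduced, X has a nonempty open smooth over k; that equivalence is not part of this
row.) -/
theorem result (k : Type u) [Field k]
    (p : ℕ) [Fact p.Prime] [CharP k p] (X : Scheme.{u}) [X.Over (Spec (CommRingCat.of k))] [IsIntegral X]
    [IsSeparated (X ↘ (Spec (CommRingCat.of k)))] [LocallyOfFiniteType (X ↘ (Spec (CommRingCat.of k)))] [QuasiCompact (X ↘ (Spec (CommRingCat.of k)))]
    [GeometricallyReduced (X ↘ (Spec (CommRingCat.of k)))] (d : ℕ) (hd : topologicalKrullDim X = d) :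
    IsIntegral (FrobSch.frobTwist (X ↘ (Spec (CommRingCat.of k))) p) ∧
      (FrobSch.relFrob (X ↘ (Spec (CommRingCat.of k))) p).residueDegree (genericPoint X) = p ^ d := by
  classical
  let S := Spec (CommRingCat.of k)
  let qX := X ↘ S
  have hpk : (p : k) = 0 := CharP.cast_eq_zero k p
  have hΦ : FrobSch.frob S p = Spec.map (CommRingCat.ofHom (iterateFrobenius k p 1)) := by
    rw [Groth.Agent.Perfn.frob_Spec k hpk]
    congr 2
    ext c
    simp [iterateFrobenius_def, frobenius_def]
  obtain ⟨hinjΦ, hintΦ, hsurjΦ⟩ := Groth.Agent.CurveFrob.frob_univ k p 1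
  rw [← hΦ] at hinjΦ hintΦ hsurjΦ
  let X' := FrobSch.frobTwist qX p
  let q' : X' ⟶ S := pullback.snd qX (FrobSch.frob S p)
  let fst : X' ⟶ X := pullback.fst qX (FrobSch.frob S p)
  haveI : UniversallyInjective fst := MorphismProperty.pullback_fst _ _ hinjΦ
  haveI : IsIntegralHom fst := MorphismProperty.pullback_fst _ _ hintΦ
  haveI : Surjective fst := MorphismProperty.pullback_fst _ _ hsurjΦ
  have hhomeo : IsHomeomorph fst :=
    (isHomeomorph_iff_continuous_isClosedMap_bijective).2 ⟨fst.continuous, fst.isClosedMap, fst.injective, fst.surjective⟩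
  haveI : IrreducibleSpace X' := by
    have h := (IrreducibleSpace.isIrreducible_univ (X : Type u)).image hhomeo.homeomorph.symm
      hhomeo.homeomorph.symm.continuous.continuousOn
    rw [Set.image_univ, hhomeo.homeomorph.symm.surjective.range_eq] at h
    exact (irreducibleSpace_def _).2 h
  haveI : IsReduced X' := GeometricallyReduced.geometrically_isReduced (f := qX) _ _ _ (IsPullback.of_hasPullback qX (FrobSch.frob S p))
  haveI : IsIntegral X' := isIntegral_of_irreducibleSpace_of_isReduced X'
  refine ⟨‹IsIntegral X'›, ?_⟩
  let g : X ⟶ X' := FrobSch.relFrob qX p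
  haveI : FrobSch.IsCharP X p := FrobSch.IsCharP.of_hom qX p
  let η := genericPoint X
  letI aX : Algebra k X.functionField := (Curv2.stalkMap k X η).toAlgebra
  haveI : CharP X.functionField p := charP_of_injective_ringHom (algebraMap k X.functionField).injective p
  -- transcendence degree
  letI := (Groth.Agent.WeilLib.kStr qX η).toAlgebra
  let eK : X.functionField ≃ₐ[k] X.residueField η :=
    AlgEquiv.ofRingEquiv (f := RingEquiv.ofBijective
      (X.residue η).hom ⟨(X.residue η).hom.injective, IsLocalRing.residue_surjective⟩) fun c => by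
        simp [RingHom.algebraMap_toAlgebra, Groth.Agent.CurveFF.kStr_eq, Groth.Agent.CurveFF.stStr,
          Groth.Agent.WeilLib.secStr, Curv2.stalkMap, Coh.toGlobal, Scheme.Hom.appTop, Scheme.Hom.appLE, qX, η]
        rfl
  haveI : Algebra.EssFiniteType k X.functionField :=
    (Algebra.EssFiniteType.iff_of_algEquiv eK).2 (Groth.Agent.WeilLib.essFiniteType_residueField qX η)
  have htr : Algebra.trdeg k X.functionField = d := by
    have h := (Groth.Agent.WeilLib.exists_pdim_eq_trd qX η).1
    rw [show WeilCoh.pdim X η = d by
      rw [WeilCoh.pdim, genericPoint_closure, Groth.Agent.BMCoh.natDim_eq_of_homeomorph (Homeomorph.Set.univ _),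
        WeilCoh.natDim, hd]
      rfl] at h
    exact eK.trdeg_eq.trans h
  haveI : Algebra.IsGeometricallyReduced k X.functionField := (Groth.Agent.S1544.result k X).1 inferInstance
  haveI : ExpChar k p := .prime Fact.out
  obtain ⟨s, hs, hsep⟩ := exists_isTranscendenceBasis_and_isSeparable_of_linearIndepOn_pow_of_essFiniteType
    p Fact.out (fun s hs => Groth.Agent.S2451.linearIndepOn_pow (k := k) (L := X.functionField) p Fact.out s hs)
  have hcard : Nat.card s = d := by
    have h := hs.cardinalMk_eq_trdeg
    rw [htr] at h
    simpa using h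
  haveI : Algebra.IsSeparable (IntermediateField.adjoin k (Set.range (Subtype.val : s → _))) X.functionField := by
    rw [Subtype.range_coe_subtype]; exact hsep
  let L : IntermediateField k X.functionField :=
    IntermediateField.adjoin k (Set.range fun z : X.functionField => z ^ p)
  have hfin : Module.finrank L X.functionField = p ^ d :=
    hcard ▸ Groth.Agent.FrobDeg.finrank_adjoin_pow p (t := (Subtype.val : s → _)) hs
  -- the map of function fields
  let θ : X.functionField →+* L :=
      (frobenius X.functionField p).codRestrict L.toSubring fun z => IntermediateField.subset_adjoin _ _ ⟨z, rfl⟩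
  let incl : CommRingCat.of L ⟶ X.functionField := CommRingCat.ofHom L.toSubring.subtype
  let t : Spec (CommRingCat.of L) ⟶ X' := pullback.lift (Spec.map (CommRingCat.ofHom θ) ≫ X.fromSpecStalk η)
    (Spec.map (CommRingCat.ofHom (algebraMap k L))) (by
      rw [Category.assoc, Groth.Agent.CurveBir.fromSpecStalk_over, hΦ, ← Spec.map_comp, ← Spec.map_comp]
      congr 1
      ext c
      simp [θ, iterateFrobenius_def, frobenius_def, RingHom.algebraMap_toAlgebra, η]
      rfl)
  have hfrob : ∀ (U : X.Opens) (hU : η ∈ U) (a : Γ(X, U)),
      (FrobSch.frob X p).stalkMap η (X.presheaf.germ U _ hU a) = X.presheaf.germ U η hU a ^ p := fun U hU a => by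
    refine (Scheme.Hom.germ_stalkMap_apply (FrobSch.frob X p) U η hU a).trans ?_
    rw [FrobSch.frob_app]
    exact map_pow _ _ _
  have hgt : Spec.map incl ≫ t = X.fromSpecStalk η ≫ g := by
    refine pullback.hom_ext ?_ ?_
    · rw [Category.assoc, Category.assoc, pullback.lift_fst, FrobSch.relFrob_fst,
        ← Scheme.SpecMap_stalkMap_fromSpecStalk, ← Spec.map_comp_assoc]
      show Spec.map _ ≫ X.fromSpecStalk η = Spec.map _ ≫ X.fromSpecStalk η
      congr 2
      refine TopCat.Presheaf.stalk_hom_ext _ fun U hU => ?_
      ext a
      exact (hfrob U hU a).symm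
    · rw [Category.assoc, Category.assoc, pullback.lift_snd, FrobSch.relFrob_snd,
        Groth.Agent.CurveBir.fromSpecStalk_over, ← Spec.map_comp]
      rfl
  let t₀ : X' := t (IsLocalRing.closedPoint L)
  have ht₀ : g η = t₀ := by
    have h := congr($hgt (IsLocalRing.closedPoint X.functionField))
    rw [Scheme.Hom.comp_apply, Scheme.Hom.comp_apply] at h
    rw [show X.fromSpecStalk η (IsLocalRing.closedPoint X.functionField) = η from Scheme.fromSpecStalk_closedPoint] at h
    exact h.symm.trans (congrArg t (Subsingleton.elim (α := PrimeSpectrum L) _ _))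
  have hfac : (X'.presheaf.stalkSpecializes (specializes_of_eq ht₀)) ≫ g.stalkMap η =
      Scheme.stalkClosedPointTo t ≫ incl := by
    apply Spec.map_injective
    rw [← cancel_mono (X'.fromSpecStalk t₀), Spec.map_comp, Spec.map_comp, Category.assoc, Category.assoc,
      Scheme.Spec_stalkClosedPointTo_fromSpecStalk, Scheme.SpecMap_stalkSpecializes_fromSpecStalk,
      Scheme.SpecMap_stalkMap_fromSpecStalk, hgt]
  have hmem : ∀ z : X'.presheaf.stalk (g η), g.stalkMap η z ∈ L := by
    intro z
    have h := congr($hfac ((X'.presheaf.stalkSpecializes (specializes_of_eq ht₀.symm)) z))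
    have hz : X'.presheaf.stalkSpecializes (specializes_of_eq ht₀)
        ((X'.presheaf.stalkSpecializes (specializes_of_eq ht₀.symm)) z) = z := by
      rw [← CommRingCat.comp_apply, TopCat.Presheaf.stalkSpecializes_comp, TopCat.Presheaf.stalkSpecializes_refl]
      rfl
    rw [CommRingCat.comp_apply, hz] at h
    rw [h]
    exact (Scheme.stalkClosedPointTo t _).2
  let R : IntermediateField k X.functionField :=
    { (eK.symm.toRingEquiv.toRingHom.comp (g.residueFieldMap η).hom).fieldRange with
      algebraMap_mem' := fun c => by
        refine ⟨X'.residue (g η) (X'.presheaf.germ ⊤ _ trivial (Coh.toGlobal q' c)), ?_⟩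
        apply eK.injective
        show eK (eK.symm (g.residueFieldMap η _)) = _
        rw [AlgEquiv.apply_symm_apply, ← CommRingCat.comp_apply, Scheme.residue_residueFieldMap, CommRingCat.comp_apply,
          Scheme.Hom.germ_stalkMap_apply]
        show (X.residue η) (X.presheaf.germ ⊤ η trivial (g.app ⊤ (q'.appTop ((Scheme.ΓSpecIso (CommRingCat.of k)).inv c)))) = _
        have h2 : g.app ⊤ (q'.appTop ((Scheme.ΓSpecIso (CommRingCat.of k)).inv c)) =
            qX.appTop ((Scheme.ΓSpecIso (CommRingCat.of k)).inv c) :=
          congr($(congrArg Scheme.Hom.appTop (FrobSch.relFrob_snd qX p)) _)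
        rw [h2]
        rfl }
  have hRL : R = L := by
    refine le_antisymm ?_ (IntermediateField.adjoin_le_iff.2 ?_)
    · rintro _ ⟨w, rfl⟩
      obtain ⟨z, rfl⟩ := Scheme.residue_surjective X' (g η) w
      show eK.symm (g.residueFieldMap η _) ∈ L
      rw [← CommRingCat.comp_apply, Scheme.residue_residueFieldMap, CommRingCat.comp_apply]
      exact (eK.symm_apply_apply _).symm ▸ hmem z
    · rintro _ ⟨z, rfl⟩
      obtain ⟨U, hU, a, rfl⟩ := X.presheaf.exists_germ_eq (x := η) z
      have hU' : fst (g η) ∈ U := by
        rw [← Scheme.Hom.comp_apply, FrobSch.relFrob_fst]; exact hU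
      refine ⟨X'.residue (g η) (X'.presheaf.germ (fst ⁻¹ᵁ U) _ hU' (fst.app U a)), ?_⟩
      show eK.symm (g.residueFieldMap η _) = _
      apply eK.injective
      rw [AlgEquiv.apply_symm_apply, ← CommRingCat.comp_apply, Scheme.residue_residueFieldMap, CommRingCat.comp_apply,
        Scheme.Hom.germ_stalkMap_apply]
      show (X.residue η) _ = X.residue η _
      congr 1
      rw [← CommRingCat.comp_apply (fst.app U), ← Scheme.Hom.comp_app]
      show _ = (X.presheaf.germ U η hU a) ^ p
      rw [← map_pow]
      have key : ∀ (h : X ⟶ X) (_ : h = FrobSch.frob X p) (hh : η ∈ h ⁻¹ᵁ U),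
          X.presheaf.germ (h ⁻¹ᵁ U) η hh (h.app U a) = X.presheaf.germ U η hU (a ^ p) := by
        rintro h rfl hh
        rw [FrobSch.frob_app]
        rfl
      exact key _ (FrobSch.relFrob_fst qX p) _
  let ψ : X'.residueField (g η) →+* X.functionField := eK.symm.toRingEquiv.toRingHom.comp (g.residueFieldMap η).hom
  have hψL : ∀ w, ψ w ∈ L := fun w => by rw [← hRL]; exact ⟨w, rfl⟩
  have hbij : Function.Bijective (ψ.codRestrict L.toSubring hψL) := by
    refine ⟨fun a b h => ψ.injective (congrArg Subtype.val h), fun y => ?_⟩
    obtain ⟨w, hw⟩ : (y : X.functionField) ∈ R := hRL.symm ▸ y.2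
    exact ⟨w, Subtype.ext hw⟩
  letI := (g.residueFieldMap η).hom.toAlgebra
  show Module.finrank (X'.residueField (g η)) (X.residueField η) = p ^ d
  rw [← hfin]
  exact Algebra.finrank_eq_of_equiv_equiv (RingEquiv.ofBijective _ hbij) eK.symm.toRingEquiv (RingHom.ext fun w => rfl)

end Groth.Agent.S14932
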