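import Groth.Statements.S14933
import Groth.Agent.FrobRadicial.Basic

set_option autoImplicit false
universe u
open CategoryTheory CategoryTheory.Limits AlgebraicGeometry
open Variety

namespace Groth.Agent.S14933

/-- Let p be a prime, S a scheme of characteristic p (p is zero in the structure sheaf) and f : X → S a
morphism of schemes, with relative Frobenius F_{X/S} : X → X^(p) = X ×_{S,F_S} S over S. Then the
sheaf of differentials of X over S is also the sheaf of differentials of X over X^(p): if Ω is an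
O_X-module and d : O_X → Ω a universal S-derivation, then d kills every section coming from X^(p),
i.e. there is a derivation O_X → Ω relative to F_{X/S} with the same values as d, and that
derivation is universal among derivations relative to F_{X/S}. -/
theorem result (p : ℕ) [Fact p.Prime]
    {X S : Scheme.{u}} [FrobSch.IsCharP S p] (f : X ⟶ S)
    (Ω : X.Modules) (d : OmegaSh.Der f Ω) (hd : OmegaSh.IsUniversal d) :
    ∃ d' : OmegaSh.Der (FrobSch.relFrob f p) Ω,
      (∀ (U : X.Opens) (s : Γ(X, U)), d'.app U s = d.app U s) ∧ OmegaSh.IsUniversal d' := by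
  haveI : FrobSch.IsCharP X p := FrobSch.IsCharP.of_hom f p
  set g := FrobSch.relFrob f p with hgdef
  set q₁ := pullback.fst f (FrobSch.frob S p) with hq₁
  set q₂ := pullback.snd f (FrobSch.frob S p) with hq₂
  have dmul : ∀ (F : X.Modules) (D : OmegaSh.Der f F) (U : X.Opens) (a b : Γ(X, U)),
      D.app U (a * b) = a • D.app U b + b • D.app U a := fun F D U a b => D.d_mul (X := Opposite.op U) a b
  -- a derivation over `S` kills everything coming from the twist
  have kill : ∀ (F : X.Modules) (D : OmegaSh.Der f F) (V : (FrobSch.frobTwist f p).Opens)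
      (s : Γ(FrobSch.frobTwist f p, V)), D.app (g ⁻¹ᵁ V) (g.app V s) = 0 := by
    intro F D V s
    refine TopCat.Presheaf.IsSheaf.section_ext F.isSheaf fun x hx => ?_
    obtain ⟨US, hUS, hxS, -⟩ := exists_isAffineOpen_mem_and_subset (X := S) (U := ⊤)
      (trivial : (q₁ ≫ f).base (g.base x) ∈ (⊤ : S.Opens))
    obtain ⟨UX, hUX, hxX, hUXle⟩ := exists_isAffineOpen_mem_and_subset (X := X)
      (U := f ⁻¹ᵁ US) (x := q₁.base (g.base x)) hxS
    let W := q₁ ⁻¹ᵁ UX
    have : IsAffineHom (FrobSch.frob S p) := Groth.Agent.FrobRadicial.isAffineHom_frob p S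
    have : IsAffineHom q₁ := MorphismProperty.pullback_fst _ _ inferInstance
    have hW : IsAffineOpen W := hUX.preimage q₁
    have hWS : W ≤ q₂ ⁻¹ᵁ US := by
      intro z hz
      have h1 : (q₁ ≫ f).base z ∈ US := hUXle hz
      rw [pullback.condition] at h1
      exact h1
    have hWeq : W = q₁ ⁻¹ᵁ UX ⊓ q₂ ⁻¹ᵁ US := (inf_eq_left.2 hWS).symm
    have hpo : IsPushout (f.appLE US UX hUXle) ((FrobSch.frob S p).appLE US US le_rfl)
        (q₁.appLE UX W le_rfl) (q₂.appLE US W hWS) :=
      (isIso_pushoutSection_iff (IsPullback.of_hasPullback f (FrobSch.frob S p)) le_rfl hUXle hWeq).1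
        (isIso_pushoutSection_of_isAffineOpen _ _ _ _ hUS hUS hUX)
    let K : Subring Γ(FrobSch.frobTwist f p, W) :=
      { carrier := {s | D.app (g ⁻¹ᵁ W) (g.app W s) = 0}
        zero_mem' := by simp
        one_mem' := by
          show D.app _ (g.app W 1) = 0
          have h := dmul F D (g ⁻¹ᵁ W) 1 1
          rw [mul_one, one_smul, right_eq_add] at h
          rw [map_one, h]
        add_mem' := fun {a b} (ha : D.app _ (g.app W a) = 0) (hb : D.app _ (g.app W b) = 0) => by
          show D.app _ (g.app W (a + b)) = 0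
          rw [map_add, map_add, ha, hb, add_zero]
        neg_mem' := fun {a} (ha : D.app _ (g.app W a) = 0) => by
          show D.app _ (g.app W (-a)) = 0
          rw [map_neg, map_neg, ha, neg_zero]
        mul_mem' := fun {a b} (ha : D.app _ (g.app W a) = 0) (hb : D.app _ (g.app W b) = 0) => by
          show D.app _ (g.app W (a * b)) = 0
          rw [map_mul, dmul, ha, hb, smul_zero, smul_zero, add_zero] }
    have h1 : ∀ a, (q₁.appLE UX W le_rfl).hom a ∈ K := by
      intro a
      show D.app _ (g.app W _) = 0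
      have e : g.app W ((q₁.appLE UX W le_rfl).hom a) = (g ≫ q₁).appLE UX (g ⁻¹ᵁ W) le_rfl a := by
        rw [← Scheme.Hom.appLE_comp_appLE g q₁ UX W (g ⁻¹ᵁ W) le_rfl le_rfl, Scheme.Hom.app_eq_appLE]
        rfl
      rw [e]
      have e2 : (g ≫ q₁).appLE UX (g ⁻¹ᵁ W) le_rfl a =
          (X.presheaf.map (homOfLE (show g ⁻¹ᵁ W ≤ UX from fun z hz => by
            have h : (g ≫ q₁).base z ∈ UX := hz
            rw [FrobSch.relFrob_fst] at h
            exact h)).op).hom (a ^ p) := by
        simp only [hgdef, hq₁, FrobSch.relFrob_fst]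
        rfl
      rw [e2, map_pow]
      have hpow : ∀ (n : ℕ) (c : Γ(X, g ⁻¹ᵁ W)), D.app _ (c ^ (n + 1)) = ((n + 1 : ℕ) : Γ(X, g ⁻¹ᵁ W)) • (c ^ n • D.app _ c) := by
        intro n c
        induction n with
        | zero => simp
        | succ n ih =>
          rw [pow_succ _ (n + 1), dmul, ih, smul_smul, smul_smul, smul_smul, ← add_smul]
          congr 1
          push_cast
          ring
      have hp1 := hpow (p - 1) ((X.presheaf.map (homOfLE (show g ⁻¹ᵁ W ≤ UX from fun z hz => by
            have h : (g ≫ q₁).base z ∈ UX := hz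
            rw [FrobSch.relFrob_fst] at h
            exact h)).op).hom a)
      rw [Nat.sub_add_cancel (Fact.out : p.Prime).pos, FrobSch.natCast_eq_zero_app, zero_smul] at hp1
      exact hp1
    have h2 : ∀ a, (q₂.appLE US W hWS).hom a ∈ K := by
      intro a
      show D.app _ (g.app W _) = 0
      have hle : g ⁻¹ᵁ W ≤ f ⁻¹ᵁ US := fun z hz => by
        have h : (g ≫ q₂).base z ∈ US := hWS hz
        rwa [FrobSch.relFrob_snd] at h
      have e : g.app W ((q₂.appLE US W hWS).hom a) = f.appLE US (g ⁻¹ᵁ W) hle a := by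
        have h := Scheme.Hom.appLE_comp_appLE g q₂ US W (g ⁻¹ᵁ W) hWS le_rfl
        simp only [hgdef, hq₂, FrobSch.relFrob_snd] at h
        rw [← h, Scheme.Hom.app_eq_appLE]
        rfl
      rw [e]
      show D.d (X := Opposite.op (g ⁻¹ᵁ W)) ((X.presheaf.map (homOfLE hle).op).hom (f.app US a)) = 0
      rw [D.d_map (homOfLE hle).op (f.app US a)]
      erw [D.d_app (X := Opposite.op US) a]
      exact map_zero _
    have hK : ∀ s, s ∈ K := by
      let ι₁ : Γ(X, UX) ⟶ CommRingCat.of K := CommRingCat.ofHom ((q₁.appLE UX W le_rfl).hom.codRestrict K h1)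
      let ι₂ : Γ(S, US) ⟶ CommRingCat.of K := CommRingCat.ofHom ((q₂.appLE US W hWS).hom.codRestrict K h2)
      have hc : f.appLE US UX hUXle ≫ ι₁ = (FrobSch.frob S p).appLE US US le_rfl ≫ ι₂ := by
        ext a
        exact congr($(hpo.w) a)
      intro s
      have he : hpo.desc ι₁ ι₂ hc ≫ CommRingCat.ofHom K.subtype = 𝟙 _ := by
        apply hpo.hom_ext
        · rw [hpo.inl_desc_assoc]; rfl
        · rw [hpo.inr_desc_assoc]; rfl
      have he2 : ((hpo.desc ι₁ ι₂ hc).hom s).1 = s := congr($he s)
      have hmem := ((hpo.desc ι₁ ι₂ hc).hom s).2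
      rwa [he2] at hmem
    obtain ⟨r, hrV, hxr⟩ := hW.exists_basicOpen_le (V := V) ⟨g.base x, hx⟩ hxX
    let B := (FrobSch.frobTwist f p).basicOpen r
    have hBW : B ≤ W := Scheme.basicOpen_le _ r
    haveI := hW.isLocalization_basicOpen r
    obtain ⟨n, a, ha⟩ := IsLocalization.Away.surj r
      ((FrobSch.frobTwist f p).presheaf.map (homOfLE hrV).op s : Γ(FrobSch.frobTwist f p, B))
    refine ⟨g ⁻¹ᵁ B, fun z hz => hrV hz, hxr, ?_⟩
    rw [map_zero]
    show F.presheaf.map _ (D.d (X := Opposite.op (g ⁻¹ᵁ V)) (g.app V s)) = 0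
    erw [← D.d_map]
    have hres : ∀ t : Γ(FrobSch.frobTwist f p, W), D.app (g ⁻¹ᵁ B)
        (g.app B ((FrobSch.frobTwist f p).presheaf.map (homOfLE hBW).op t)) = 0 := by
      intro t
      rw [← CategoryTheory.comp_apply, g.naturality, CategoryTheory.comp_apply]
      show D.d (X := Opposite.op (g ⁻¹ᵁ B)) _ = 0
      erw [D.d_map]
      erw [hK t]
      exact map_zero _
    let σ : Γ(FrobSch.frobTwist f p, B) := (FrobSch.frobTwist f p).presheaf.map (homOfLE hrV).op s
    let ρ : Γ(FrobSch.frobTwist f p, B) := (FrobSch.frobTwist f p).presheaf.map (homOfLE hBW).op r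
    have hu : IsUnit (g.app B ρ) := (RingedSpace.isUnit_res_basicOpen _ r).map _
    have hgoal : D.app (g ⁻¹ᵁ B) (g.app B σ) = 0 := by
      have h := hres a
      have ha' : (FrobSch.frobTwist f p).presheaf.map (homOfLE hBW).op a = σ * ρ ^ n := ha.symm
      have hρ : D.app (g ⁻¹ᵁ B) (g.app B (ρ ^ n)) = 0 := by
        have := hres (r ^ n)
        rwa [map_pow] at this
      rw [ha', map_mul, dmul, hρ, smul_zero, zero_add, map_pow] at h
      exact ((hu.pow n).smul_eq_zero).1 h
    convert hgoal using 2
    show D.d (X := Opposite.op (g ⁻¹ᵁ B)) _ = D.d (X := Opposite.op (g ⁻¹ᵁ B)) _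
    congr 1
    exact congr($((g.naturality (homOfLE hrV).op)) s).symm
  let d' : OmegaSh.Der g Ω :=
    { d := d.d
      d_mul := d.d_mul
      d_map := d.d_map
      d_app := fun {V} a => kill Ω d V.unop a }
  refine ⟨d', fun U s => rfl, fun F D' => ?_⟩
  let D : OmegaSh.Der f F :=
    { d := D'.d
      d_mul := D'.d_mul
      d_map := D'.d_map
      d_app := fun {V} a => by
        have h := D'.d_app (X := Opposite.op (q₂ ⁻¹ᵁ V.unop)) (q₂.app V.unop a)
        have hc := Scheme.Hom.congr_app (FrobSch.relFrob_snd f p).symm V.unop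
        have hc2 := congr($hc a)
        show D'.d (f.app V.unop a) = 0
        rw [hc2]
        erw [D'.d_map]
        erw [h]
        exact map_zero _ }
  obtain ⟨α, hα, hu⟩ := hd F D
  refine ⟨α, ?_, fun β hβ => hu β ?_⟩
  · exact PresheafOfModules.Derivation.ext (funext fun U => congr(($hα).d (X := U)))
  · exact PresheafOfModules.Derivation.ext (funext fun U => congr(($hβ).d (X := U)))

end Groth.Agent.S14933
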