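import Groth.Statements.S14935
import Groth.Agent.AVTate.Main
import Groth.Agent.AVTheta.FrobPt

set_option autoImplicit false
universe u
open CategoryTheory MonoidalCategory CartesianMonoidalCategory MonObj GrpObj AlgebraicGeometry
open AbVar

namespace Groth.Agent.S14935

/-- Surjectivity half: let k be a finite field with algebraic closure Ω, l a prime number invertible in
k, and A, B abelian varieties over k (proper, geometrically integral commutative group schemes over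
k). For each k-automorphism τ of Ω let ρ_A(τ), ρ_B(τ) be the ℤ_l-linear endomorphisms of the l-adic
Tate modules of Ω-points T_l A, T_l B acting on every component by the Galois action of τ (this pins
them). Then every ℤ_l-linear map u : T_l A → T_l B commuting with the Galois action (u ∘ ρ_A(τ) =
ρ_B(τ) ∘ u for all τ) is a ℤ_l-linear combination of maps T_l(f) induced by homomorphisms f : A → B.
Together with the injectivity of ℤ_l ⊗ Hom_k(A, B) → Hom(T_l A, T_l B) this says that ℤ_l ⊗ Hom_k(A,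
B) → Hom_G(T_l A, T_l B) is bijective, G the absolute Galois group of k. -/
theorem result (k Ω : Type u) [Field k] [Finite k] [Field Ω] [Algebra k Ω] [IsAlgClosure k Ω]
    (l : ℕ) [Fact l.Prime] (hl : (l : k) ≠ 0) (A B : Over (Spec (CommRingCat.of k)))
    [GrpObj A] [IsCommMonObj A] [IsProper A.hom] [GeometricallyIntegral A.hom]
    [GrpObj B] [IsCommMonObj B] [IsProper B.hom] [GeometricallyIntegral B.hom]
    (ρA : (Ω ≃ₐ[k] Ω) → Module.End ℤ_[l] (AbDual.TateMod A l (SGA7.pt Ω)))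
    (hρA : ∀ (τ : Ω ≃ₐ[k] Ω) (z : AbDual.TateMod A l (SGA7.pt Ω)) (m : ℕ),
      (AbDual.TateMod.component A l (SGA7.pt Ω) m (ρA τ z)).toMul =
        SGA7.galAct τ (AbDual.TateMod.component A l (SGA7.pt Ω) m z).toMul)
    (ρB : (Ω ≃ₐ[k] Ω) → Module.End ℤ_[l] (AbDual.TateMod B l (SGA7.pt Ω)))
    (hρB : ∀ (τ : Ω ≃ₐ[k] Ω) (z : AbDual.TateMod B l (SGA7.pt Ω)) (m : ℕ),
      (AbDual.TateMod.component B l (SGA7.pt Ω) m (ρB τ z)).toMul =
        SGA7.galAct τ (AbDual.TateMod.component B l (SGA7.pt Ω) m z).toMul)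
    (u : AbDual.TateMod A l (SGA7.pt Ω) →ₗ[ℤ_[l]] AbDual.TateMod B l (SGA7.pt Ω))
    (hu : ∀ τ : Ω ≃ₐ[k] Ω, u ∘ₗ ρA τ = ρB τ ∘ₗ u) :
    u ∈ Submodule.span ℤ_[l] {v : AbDual.TateMod A l (SGA7.pt Ω) →ₗ[ℤ_[l]] AbDual.TateMod B l (SGA7.pt Ω) |
      ∃ (f : A ⟶ B) (_ : IsMonHom f), v = AbDual.tateMapₗ (l := l) (T := SGA7.pt Ω) f} := by
  haveI : IsAlgClosed Ω := IsAlgClosure.isAlgClosed k
  haveI := Fintype.ofFinite k
  obtain ⟨p, hp⟩ := CharP.exists k
  obtain ⟨e, hpr, hcard⟩ := FiniteField.card k p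
  haveI := Fact.mk hpr
  have hq : Nat.card k = p ^ (e : ℕ) := by rw [Nat.card_eq_fintype_card]; exact hcard
  haveI : IsMonHom (AVDeg.frobOver p (e : ℕ) hq A) := AVDeg.isMonHom_frobOver hq
  haveI : IsMonHom (AVDeg.frobOver p (e : ℕ) hq B) := AVDeg.isMonHom_frobOver hq
  obtain ⟨σ, hσ, hπσ⟩ := AVTheta.exists_frobAut (k := k) (Ω := Ω)
  have hA : ρA σ = AbDual.tateMapₗ (l := l) (T := SGA7.pt (K := k) Ω) (AVDeg.frobOver p (e : ℕ) hq A) :=
    LinearMap.ext fun z => AbDual.TateMod.ext fun m => Additive.toMul.injective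
      ((hρA σ z m).trans (hπσ A _ (AVDeg.frobOver_base hq A) (AVDeg.le_frobOver hq A)
        (AVDeg.frobOver_app hq A) _).symm)
  have hB : ρB σ = AbDual.tateMapₗ (l := l) (T := SGA7.pt (K := k) Ω) (AVDeg.frobOver p (e : ℕ) hq B) :=
    LinearMap.ext fun z => AbDual.TateMod.ext fun m => Additive.toMul.injective
      ((hρB σ z m).trans (hπσ B _ (AVDeg.frobOver_base hq B) (AVDeg.le_frobOver hq B)
        (AVDeg.frobOver_app hq B) _).symm)
  have h := AVTate.mem_span_of_comm Ω hl _ (AVDeg.frobOver_base hq A) (AVDeg.le_frobOver hq A)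
    (AVDeg.frobOver_app hq A) _ (AVDeg.frobOver_base hq B) (AVDeg.le_frobOver hq B)
    (AVDeg.frobOver_app hq B) u (by rw [← hA, ← hB]; exact hu σ)
  refine Submodule.span_mono ?_ h
  rintro _ ⟨f, rfl⟩
  exact ⟨f.toHom, inferInstance, rfl⟩

end Groth.Agent.S14935
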