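import Groth.Statements.S14937
import Groth.Agent.AVTate.Cons

set_option autoImplicit false
universe u
open CategoryTheory MonoidalCategory CartesianMonoidalCategory MonObj GrpObj AlgebraicGeometry
open AbVar

namespace Groth.Agent.S14937

/-- Lower bound: let A be an abelian variety of dimension g over a finite field k (a proper,
geometrically integral commutative group scheme over k). Then the rank of End_k(A) is at least 2g:
there exist 2g endomorphisms of A (homomorphisms A → A) which are linearly independent over ℤ in the
additive group of k-morphisms A → A (pointwise product). The upper bound 4g² holds over any field. -/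
theorem result (k : Type u) [Field k] [Finite k]
    (A : Over (Spec (CommRingCat.of k)))
    [GrpObj A] [IsCommMonObj A] [IsProper A.hom] [GeometricallyIntegral A.hom]
    (g : ℕ) (hg : topologicalKrullDim A.left = g) :
    ∃ e : Fin (2 * g) → (A ⟶ A), (∀ i, IsMonHom (e i)) ∧
      LinearIndependent ℤ (fun i => Additive.ofMul (e i)) := by
  obtain ⟨πA, hπ, hb, hle, happ⟩ := AVTate.exists_frob A
  obtain ⟨l, hlp, hl⟩ := AVTate.exists_prime_ne_zero k
  haveI := Fact.mk hlp
  obtain ⟨hf, hr⟩ := AVTate.tate_finite_free (X := A) (AlgebraicClosure k) (l := l) hl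
  haveI := hf
  haveI := hr
  obtain ⟨P, hP, hPd, -, hPc⟩ := AVDeg.exists_charpoly_tate (Ω := AlgebraicClosure k) (l := l) hl hg (EndAV.End.of πA)
  have h := AVTate.finrank_end0_eq (AlgebraicClosure k) πA hb hle happ hl hPc
  have hle' := (AVTate.natDegree_le_sum_sq (hP.map (Int.castRingHom ℚ))).1
  rw [hP.natDegree_map, hPd] at hle'
  obtain ⟨e, he, hli, -⟩ := AVTate.exists_end_family A (r := 2 * g)
    (AVTate.finrank_end0 (X := A) ▸ hle'.trans (le_of_eq h.symm))
  exact ⟨e, he, hli⟩

end Groth.Agent.S14937
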