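import Groth.Statements.S14938
import Groth.Agent.AVTate.Cons

set_option autoImplicit false
universe u
open CategoryTheory MonoidalCategory CartesianMonoidalCategory MonObj GrpObj AlgebraicGeometry
open AbVar

namespace Groth.Agent.S14938

/-- Let A be an abelian variety over a finite field k with q elements (a proper, geometrically integral
commutative group scheme over k) and π_A its q-Frobenius endomorphism (the identity on points and
the q-th power map on sections; a homomorphism). If an endomorphism f of A commutes with every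
endomorphism of A, then for some integer N > 0 the multiple N·f is an integral linear combination of
the composition powers π_A^0 = id, π_A, π_A ∘ π_A, …; in other words the centre of ℚ ⊗ End_k(A) is
ℚ[π_A] (the reverse inclusion being that π_A is central). In the statement the group Hom_k(A, A) is
written multiplicatively, so N·f is f^N and the linear combination is a finite product of integer
powers. -/
theorem result (k : Type u) [Field k] [Finite k]
    (A : Over (Spec (CommRingCat.of k)))
    [GrpObj A] [IsCommMonObj A] [IsProper A.hom] [GeometricallyIntegral A.hom]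
    (πA : A ⟶ A) [IsMonHom πA] (hπAb : πA.left.base = 𝟙 _)
    (hπAle : ∀ U : A.left.Opens, U ≤ πA.left ⁻¹ᵁ U)
    (hπAapp : ∀ (U : A.left.Opens) (s : Γ(A.left, U)), (πA.left.appLE U U (hπAle U)).hom s = s ^ Nat.card k)
    (f : A ⟶ A) [IsMonHom f] (hf : ∀ h : A ⟶ A, IsMonHom h → f ≫ h = h ≫ f) :
    ∃ N : ℕ, 0 < N ∧ ∃ (d : ℕ) (a : Fin d → ℤ),
      f ^ N = ∏ i : Fin d, ((fun h : A ⟶ A => h ≫ πA)^[(i : ℕ)] (𝟙 A)) ^ (a i) := by
  have hc : ∀ ψ : EndAV.End A, Commute (EndAV.End.of f) ψ := fun ψ =>
    EndAV.End.ext (hf ψ.toHom inferInstance).symm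
  have hmem : EndAV.toEnd0 (EndAV.End.of f) ∈ EndAV.QAdj (EndAV.End.of πA) := by
    rw [← AVTate.center_end0 πA hπAb hπAle hπAapp]
    exact Subalgebra.mem_center_iff.2 fun y => ((AVDeg.commute_toEnd0 hc y).symm).eq
  obtain ⟨F, hF : Polynomial.aeval _ F = _⟩ := (Algebra.adjoin_singleton_eq_range_aeval ℚ _).le hmem
  obtain ⟨⟨b, hb⟩, hG⟩ := IsLocalization.integerNormalization_map_to_map (nonZeroDivisors ℤ) F
  set G := IsLocalization.integerNormalization (nonZeroDivisors ℤ) F with hGdef
  have hb0 : b ≠ 0 := nonZeroDivisors.ne_zero hb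
  have key : b • EndAV.End.of f = Polynomial.aeval (EndAV.End.of πA) G := by
    refine AVDeg.toEnd0_injective ?_
    rw [map_zsmul, ← hF, ← Polynomial.aeval_algHom_apply]
    conv_rhs => rw [← Polynomial.aeval_map_algebraMap ℚ, hG]
    exact (map_zsmul _ _ _).symm
  have key' : (b.natAbs : ℤ) • EndAV.End.of f =
      Polynomial.aeval (EndAV.End.of πA) (Polynomial.C (b.sign) * G) := by
    rw [map_mul, Polynomial.aeval_C, ← key, ← Algebra.smul_def, smul_smul, Int.sign_mul_self]
  refine ⟨b.natAbs, Int.natAbs_pos.2 hb0, (Polynomial.C (b.sign) * G).natDegree + 1,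
    fun i => (Polynomial.C (b.sign) * G).coeff i, ?_⟩
  rw [Polynomial.aeval_eq_sum_range, ← Fin.sum_univ_eq_sum_range
    (fun i => (Polynomial.C b.sign * G).coeff i • EndAV.End.of πA ^ i)] at key'
  have h := congrArg (AVTate.toAdd A A) key'
  rw [map_zsmul, map_sum] at h
  simp only [map_zsmul] at h
  have h' := congrArg Additive.toMul h
  rw [toMul_sum] at h'
  rw [← zpow_natCast f]
  refine h'.trans (Finset.prod_congr rfl fun i _ => ?_)
  rw [toMul_zsmul]
  show (EndAV.End.of πA ^ (i : ℕ)).toHom ^ _ = _
  congr 1
  generalize (i : ℕ) = j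
  induction j with
  | zero => rfl
  | succ j ih => rw [EndAV.End.toHom_pow_succ, ih, Function.iterate_succ_apply', EndAV.End.toHom_of]

end Groth.Agent.S14938
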