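import Groth.Statements.S14941
import Groth.Agent.AVFin.Polarised

set_option autoImplicit false
universe u
open CategoryTheory CategoryTheory.Limits MonoidalCategory CartesianMonoidalCategory MonObj GrpObj AlgebraicGeometry
open AbVar

namespace Groth.Agent.S14941

/-- Take a finite field k and an abelian variety A over it (a proper, geometrically integral commutative
group scheme over k) and an integer d ≥ 1. Up to isomorphism, only finitely many abelian varieties B
over k are isogenous to A and carry a polarisation of degree d² defined over k. Here: B^t is a given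
dual abelian variety (B^t, φ) for the fppf topology, a polarisation is a homomorphism λ : B → B^t
which on every geometric fibre is of the form Λ(L) = φ_L for an ample invertible sheaf L, its degree
d² means λ is finite locally free of rank d², B isogenous to A means there is a finite surjective
homomorphism A → B, and isomorphism is isomorphism of k-schemes (equivalently of abelian varieties,
after a translation). -/
theorem result (k : Type u) [Field k] [Finite k]
    (A : Over (Spec (CommRingCat.of k)))
    [GrpObj A] [IsCommMonObj A] [IsProper A.hom] [GeometricallyIntegral A.hom]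
    (d : ℕ) (hd : 1 ≤ d) :
    ∃ (n : ℕ) (Bs : Fin n → Over (Spec (CommRingCat.of k))),
      ∀ (B Bt : Over (Spec (CommRingCat.of k))) [GrpObj B] [IsCommMonObj B] [IsProper B.hom] [GeometricallyIntegral B.hom]
        [GrpObj Bt] [IsCommMonObj Bt] (φ : AgPol.DualMap B Bt),
        AbDual.IsDualAV Scheme.fppfPrecoverage B Bt φ →
        ∀ lam : B ⟶ Bt, AgPol.IsPolarization B Bt φ lam → AgPol.HasDegSq lam d →
        (∃ (u : A ⟶ B) (_ : IsMonHom u), IsFinite u.left ∧ Function.Surjective u.left.base) →
        ∃ i : Fin n, Nonempty (B ≅ Bs i) := by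
  haveI : Nonempty A.left := ⟨η[A].left (IsLocalRing.closedPoint k)⟩
  obtain ⟨g, hg⟩ := Groth.Agent.AVDeg.exists_dim A
  obtain ⟨J, hJ, F, hF⟩ := Groth.Agent.AVFin.exists_finite_reps k g (2 ^ g * d)
  haveI := hJ
  refine ⟨Nat.card J, fun i => F ((Finite.equivFin J).symm i), ?_⟩
  intro B Bt _ _ _ _ _ _ φ hdual lam hpol hdeg ⟨u, hu, hfin, hsurj⟩
  haveI : IsFinite u.left := hfin
  haveI : Surjective u.left := ⟨hsurj⟩
  haveI : IsIntegral A.left := GeometricallyIntegral.isIntegral_of_subsingleton A.hom
  haveI : IsIntegral B.left := GeometricallyIntegral.isIntegral_of_subsingleton B.hom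
  have hgB : topologicalKrullDim B.left = (g : WithBot ℕ∞) := (Groth.Agent.GrpField.dim_eq_of_isFinite u).symm.trans hg
  obtain ⟨M, hM, hh⟩ := Groth.Agent.AVFin.exists_ample_of_polarization hdual hpol hd hdeg hgB
  obtain ⟨j, hj⟩ := hF B hgB M hM hh
  exact ⟨Finite.equivFin J j, by dsimp only; rwa [Equiv.symm_apply_apply]⟩

end Groth.Agent.S14941
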