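import Groth.Statements.S15655
import Groth.Agent.AgIsog.Simple
-- import your own Groth.Agent.* helpers here

set_option autoImplicit false
universe u
open CategoryTheory MonoidalCategory CartesianMonoidalCategory MonObj GrpObj AlgebraicGeometry
open AbVar

set_option backward.isDefEq.respectTransparency false
set_option backward.isDefEq.respectTransparency.types false
set_option linter.style.haveILetI false
set_option synthInstance.maxHeartbeats 200000
set_option maxHeartbeats 800000

namespace Groth.Agent.S15655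
open scoped TensorProduct

/-- Proof step: let A be a simple abelian variety over a field k — a proper, geometrically integral
commutative group scheme over k whose only abelian subvarieties over k (geometrically integral
closed subgroup schemes) are the trivial subgroup and A itself. Then every non-zero element of
End⁰(A) = ℚ ⊗_ℤ End_k(A) (End_k(A) the ring of endomorphisms defined over k) is invertible: End⁰(A)
is a division algebra. (The published proposition is the semisimplicity of End⁰(A) for every abelian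
variety; this row states the step of its proof for simple A.) -/
theorem result (k : Type u) [Field k]
    (A : Over (Spec (CommRingCat.of k)))
    [GrpObj A] [IsCommMonObj A] [IsProper A.hom] [GeometricallyIntegral A.hom]
    (hsimple : ∀ (B : Over (Spec (CommRingCat.of k))) [GrpObj B] [GeometricallyIntegral B.hom] (i : B ⟶ A) [IsMonHom i]
      [IsClosedImmersion i.left], Subsingleton B.left ∨ IsIso i) :
    ∀ x : EndAV.End0 A, x ≠ 0 → IsUnit x := by
  have tadd : ∀ f g : EndAV.End A, EndAV.toEnd0 (f + g) = EndAV.toEnd0 f + EndAV.toEnd0 g := fun f g =>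
    TensorProduct.tmul_add (R := ℤ) (1 : ℚ) f g
  have tzero : EndAV.toEnd0 (0 : EndAV.End A) = 0 := TensorProduct.tmul_zero (R := ℤ) (EndAV.End A) (1 : ℚ)
  have tnsmul : ∀ (n : ℕ) (f : EndAV.End A), EndAV.toEnd0 (n • f) = (n : ℚ) • EndAV.toEnd0 f := fun n f => by
    rw [EndAV.toEnd0_apply, EndAV.toEnd0_apply, TensorProduct.tmul_smul, Nat.cast_smul_eq_nsmul]
  have tmulh : ∀ f g : EndAV.End A, EndAV.toEnd0 f * EndAV.toEnd0 g = EndAV.toEnd0 (f * g) := fun f g => by
    rw [EndAV.toEnd0_apply, EndAV.toEnd0_apply, EndAV.toEnd0_apply, Algebra.TensorProduct.tmul_mul_tmul, _root_.one_mul]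
  have tone : EndAV.toEnd0 (1 : EndAV.End A) = 1 := rfl
  have hden : ∀ x : EndAV.End0 A, ∃ (n : ℕ) (f : EndAV.End A), n ≠ 0 ∧ (n : ℚ) • x = EndAV.toEnd0 f := by
    intro x
    induction x using TensorProduct.induction_on with
    | zero => exact ⟨1, 0, one_ne_zero, by rw [smul_zero, tzero]⟩
    | tmul q f =>
      refine ⟨q.den, q.num • f, q.den_nz, ?_⟩
      rw [TensorProduct.smul_tmul', EndAV.toEnd0_apply, TensorProduct.tmul_smul, TensorProduct.smul_tmul',
        smul_eq_mul, _root_.mul_comm, Rat.mul_den_eq_num, zsmul_eq_mul, _root_.mul_one]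
    | add a b ha hb =>
      obtain ⟨n, f, hn, hf⟩ := ha
      obtain ⟨m, g, hm, hg⟩ := hb
      refine ⟨n * m, m • f + n • g, mul_ne_zero hn hm, ?_⟩
      rw [tadd, tnsmul, tnsmul, ← hf, ← hg, smul_smul, smul_smul, Nat.cast_mul, smul_add, _root_.mul_comm (m : ℚ)]
  intro x hx
  obtain ⟨n, φ, hn, hφ⟩ := hden x
  have hφ0 : φ ≠ 0 := fun h => by
    rw [h, tzero] at hφ
    exact hx ((inv_smul_smul₀ (Nat.cast_ne_zero.2 hn : (n : ℚ) ≠ 0) x).symm.trans (by rw [hφ, smul_zero]))
  obtain ⟨K, hK, i, g, hi, -, hgi, hcl, hint, hsurj, hns⟩ :=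
    AgIsog.exists_image_nontrivial φ.toHom fun h => hφ0 (EndAV.End.ext h)
  haveI : IsIso i := (hsimple K i).resolve_left hns
  haveI : IsIso i.left := (Over.forget _).map_isIso i
  haveI : Surjective φ.toHom.left := by
    rw [← hgi, Over.comp_left]
    infer_instance
  obtain ⟨ψ, hψ, d, hd, h1, h2⟩ := AgIsog.exists_quasiInverse φ.toHom
  have e1 : φ * EndAV.End.of ψ = d • (1 : EndAV.End A) := EndAV.End.ext (h2.trans (EndAV.Hom.toHom_nsmul d (1 : EndAV.End A)).symm)
  have e2 : EndAV.End.of ψ * φ = d • (1 : EndAV.End A) := EndAV.End.ext (h1.trans (EndAV.Hom.toHom_nsmul d (1 : EndAV.End A)).symm)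
  have hd' : ((d : ℚ)) ≠ 0 := Nat.cast_ne_zero.2 hd
  have hu : IsUnit (EndAV.toEnd0 φ) := by
    refine ⟨⟨EndAV.toEnd0 φ, (d : ℚ)⁻¹ • EndAV.toEnd0 (EndAV.End.of ψ), ?_, ?_⟩, rfl⟩
    · rw [mul_smul_comm, tmulh, e1, tnsmul, tone, smul_smul, inv_mul_cancel₀ hd', one_smul]
    · rw [smul_mul_assoc, tmulh, e2, tnsmul, tone, smul_smul, inv_mul_cancel₀ hd', one_smul]
  obtain ⟨v, hv⟩ := hu
  have hn' : ((n : ℚ)) ≠ 0 := Nat.cast_ne_zero.2 hn
  have hxv : x = (n : ℚ)⁻¹ • (v : EndAV.End0 A) := by rw [hv, ← hφ, inv_smul_smul₀ hn']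
  refine ⟨⟨x, (n : ℚ) • (↑v⁻¹ : EndAV.End0 A), ?_, ?_⟩, rfl⟩
  · rw [hxv, smul_mul_smul_comm, inv_mul_cancel₀ hn', Units.mul_inv, one_smul]
  · rw [hxv, smul_mul_smul_comm, mul_inv_cancel₀ hn', Units.inv_mul, one_smul]

end Groth.Agent.S15655
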