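import Groth.Statements.S14942
import Groth.Agent.AVDeg.FrobEnd
import Groth.Agent.S15655
import Groth.Agent.S16589

set_option autoImplicit false
universe u
open CategoryTheory MonoidalCategory CartesianMonoidalCategory MonObj GrpObj AlgebraicGeometry
open AbVar

namespace Groth.Agent.S14942

/-- Part 1: let A be a simple abelian variety over a finite field k with q elements — a proper,
geometrically integral commutative group scheme over k whose only abelian subvarieties over k
(geometrically integral closed subgroup schemes) are the trivial subgroup and A itself — with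
q-Frobenius endomorphism π_A (the identity on points, the q-th power map on sections; a
homomorphism). Let Ω be an algebraic closure of k, l a prime invertible in k, and assume (as is the
case) that the l-adic Tate module of Ω-points T_l A is free of finite rank over ℤ_l. Then the
characteristic polynomial of T_l(π_A), which has rational coefficients, is a power of the minimal
polynomial of π_A over ℚ: viewed over ℚ_l it equals h^n for some polynomial h with rational
coefficients irreducible over ℚ and some n. -/
theorem result (k Ω : Type u) [Field k] [Finite k] [Field Ω] [Algebra k Ω] [IsAlgClosure k Ω]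
    (l : ℕ) [Fact l.Prime] (hl : (l : k) ≠ 0) (A : Over (Spec (CommRingCat.of k)))
    [GrpObj A] [IsCommMonObj A] [IsProper A.hom] [GeometricallyIntegral A.hom]
    (hsimple : ∀ (B : Over (Spec (CommRingCat.of k))) [GrpObj B] [GeometricallyIntegral B.hom] (i : B ⟶ A) [IsMonHom i]
      [IsClosedImmersion i.left], Subsingleton B.left ∨ IsIso i)
    (πA : A ⟶ A) [IsMonHom πA] (hπAb : πA.left.base = 𝟙 _)
    (hπAle : ∀ U : A.left.Opens, U ≤ πA.left ⁻¹ᵁ U)
    (hπAapp : ∀ (U : A.left.Opens) (s : Γ(A.left, U)), (πA.left.appLE U U (hπAle U)).hom s = s ^ Nat.card k)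
    [Module.Free ℤ_[l] (AbDual.TateMod A l (SGA7.pt Ω))] [Module.Finite ℤ_[l] (AbDual.TateMod A l (SGA7.pt Ω))] :
    ∃ (h : Polynomial ℚ) (n : ℕ), Irreducible h ∧
      ((AbDual.tateMapₗ (l := l) (T := SGA7.pt Ω) πA).charpoly).map (algebraMap ℤ_[l] ℚ_[l]) =
        (h.map (algebraMap ℚ ℚ_[l])) ^ n := by
  haveI := Groth.Agent.AVDeg.finite_end0 (A := A)
  haveI : Nonempty A.left := ⟨η[A].left (IsLocalRing.closedPoint k)⟩
  obtain ⟨g, hg⟩ := Groth.Agent.AVDeg.exists_dim A
  rcases subsingleton_or_nontrivial (EndAV.End0 A) with h0 | h0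
  · haveI : Subsingleton (EndAV.End A) := (Groth.Agent.AVDeg.toEnd0_injective (A := A)).subsingleton
    haveI : Subsingleton (AbDual.TateMod A l (SGA7.pt (K := k) Ω)) := by
      refine subsingleton_of_forall_eq 0 fun x => ?_
      have h := congrArg (fun φ => EndAV.End.tateRep l (SGA7.pt (K := k) Ω) φ x)
        (Subsingleton.elim (1 : EndAV.End A) 0)
      simp only [map_one, map_zero] at h
      exact h
    refine ⟨Polynomial.X, 0, Polynomial.irreducible_X, ?_⟩
    rw [pow_zero, Polynomial.eq_one_of_monic_natDegree_zero (LinearMap.charpoly_monic _)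
      (by rw [LinearMap.charpoly_natDegree]; exact Module.finrank_zero_of_subsingleton), Polynomial.map_one]
  · have hu := Groth.Agent.S15655.result k A hsimple
    haveI : NoZeroDivisors (EndAV.End0 A) := ⟨fun {a b} hab => or_iff_not_imp_left.2 fun ha => by
      obtain ⟨v, rfl⟩ := hu a ha
      exact (Units.mul_right_eq_zero v).1 hab⟩
    haveI : IsDomain (EndAV.End0 A) := NoZeroDivisors.to_isDomain _
    obtain ⟨P, hP, hPQ⟩ := Groth.Agent.S16589.result k Ω l hl A g hg (EndAV.End.of πA)
      (minpoly.irreducible (IsIntegral.of_finite ℚ _))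
    refine ⟨_, 2 * g / (minpoly ℚ (EndAV.toEnd0 (EndAV.End.of πA))).natDegree,
      minpoly.irreducible (IsIntegral.of_finite ℚ (EndAV.toEnd0 (EndAV.End.of πA))), ?_⟩
    rw [← Polynomial.map_pow, ← hPQ, show (AbDual.tateMapₗ (l := l) (T := SGA7.pt (K := k) Ω) πA).charpoly =
      P.map (Int.castRingHom ℤ_[l]) from hP, Polynomial.map_map, Polynomial.map_map]
    exact congrArg (fun f => P.map f) (RingHom.ext_int _ _)

end Groth.Agent.S14942
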