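import Groth.Statements.S14945
import Groth.Agent.AVTate.Isog
import Groth.Agent.AVTheta.FrobPt

set_option autoImplicit false
universe u
open CategoryTheory MonoidalCategory CartesianMonoidalCategory MonObj GrpObj AlgebraicGeometry
open scoped TensorProduct
open AbVar

namespace Groth.Agent.S14945

/-- Clauses 1 and 2: let k be a finite field with algebraic closure Ω, l a prime invertible in k, and A,
B abelian varieties over k (proper, geometrically integral commutative group schemes over k). For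
each k-automorphism τ of Ω let ρ_A(τ), ρ_B(τ) be the ℤ_l-linear endomorphisms of the l-adic Tate
modules of Ω-points acting on every component by the Galois action of τ (this pins them). Then A and
B are isogenous over k — there are homomorphisms u : A → B, v : B → A and n > 0 with v ∘ u = n_A and
u ∘ v = n_B — if and only if V_l(A) = ℚ_l ⊗ T_l(A) and V_l(B) are isomorphic as Galois
representations: there is a ℚ_l-linear isomorphism e : V_l(A) → V_l(B) with e ∘ (ℚ_l ⊗ ρ_A(τ)) =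
(ℚ_l ⊗ ρ_B(τ)) ∘ e for every τ. -/
theorem result (k Ω : Type u) [Field k] [Finite k] [Field Ω] [Algebra k Ω] [IsAlgClosure k Ω]
    (l : ℕ) [Fact l.Prime] (hl : (l : k) ≠ 0) (A B : Over (Spec (CommRingCat.of k)))
    [GrpObj A] [IsCommMonObj A] [IsProper A.hom] [GeometricallyIntegral A.hom]
    [GrpObj B] [IsCommMonObj B] [IsProper B.hom] [GeometricallyIntegral B.hom]
    (ρA : (Ω ≃ₐ[k] Ω) → Module.End ℤ_[l] (AbDual.TateMod A l (SGA7.pt Ω)))
    (hρA : ∀ (τ : Ω ≃ₐ[k] Ω) (z : AbDual.TateMod A l (SGA7.pt Ω)) (m : ℕ),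
      (AbDual.TateMod.component A l (SGA7.pt Ω) m (ρA τ z)).toMul =
        SGA7.galAct τ (AbDual.TateMod.component A l (SGA7.pt Ω) m z).toMul)
    (ρB : (Ω ≃ₐ[k] Ω) → Module.End ℤ_[l] (AbDual.TateMod B l (SGA7.pt Ω)))
    (hρB : ∀ (τ : Ω ≃ₐ[k] Ω) (z : AbDual.TateMod B l (SGA7.pt Ω)) (m : ℕ),
      (AbDual.TateMod.component B l (SGA7.pt Ω) m (ρB τ z)).toMul =
        SGA7.galAct τ (AbDual.TateMod.component B l (SGA7.pt Ω) m z).toMul) :
    (∃ (u : A ⟶ B) (_ : IsMonHom u) (v : B ⟶ A) (_ : IsMonHom v) (n : ℕ), 0 < n ∧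
        u ≫ v = (𝟙 A) ^ n ∧ v ≫ u = (𝟙 B) ^ n) ↔
      ∃ e : (ℚ_[l] ⊗[ℤ_[l]] AbDual.TateMod A l (SGA7.pt Ω)) ≃ₗ[ℚ_[l]] (ℚ_[l] ⊗[ℤ_[l]] AbDual.TateMod B l (SGA7.pt Ω)),
        ∀ τ : Ω ≃ₐ[k] Ω, (e : (ℚ_[l] ⊗[ℤ_[l]] AbDual.TateMod A l (SGA7.pt Ω)) →ₗ[ℚ_[l]] (ℚ_[l] ⊗[ℤ_[l]] AbDual.TateMod B l (SGA7.pt Ω))) ∘ₗ (ρA τ).baseChange ℚ_[l] =
          ((ρB τ).baseChange ℚ_[l]) ∘ₗ (e : (ℚ_[l] ⊗[ℤ_[l]] AbDual.TateMod A l (SGA7.pt Ω)) →ₗ[ℚ_[l]] (ℚ_[l] ⊗[ℤ_[l]] AbDual.TateMod B l (SGA7.pt Ω))) := by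
  constructor
  · rintro ⟨u, hu, v, hv, n, hn, h1, h2⟩
    refine ⟨LinearEquiv.ofBijective _ (AVTate.bijective_of_isog (l := l) Ω u v hn h1 h2), fun τ => ?_⟩
    have hc : (AbDual.tateMapₗ (l := l) (T := SGA7.pt (K := k) Ω) u) ∘ₗ ρA τ =
        ρB τ ∘ₗ AbDual.tateMapₗ (l := l) (T := SGA7.pt (K := k) Ω) u :=
      LinearMap.ext fun z => AbDual.TateMod.ext fun m => Additive.toMul.injective
        (Eq.trans (b := (AbDual.TateMod.component A l (SGA7.pt (K := k) Ω) m (ρA τ z)).toMul ≫ u) rfl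
          ((congrArg (· ≫ u) (hρA τ z m)).trans ((Category.assoc _ _ _).trans (hρB τ (AbDual.tateMapₗ (l := l) (T := SGA7.pt (K := k) Ω) u z) m).symm)))
    have h := congrArg (LinearMap.baseChange ℚ_[l]) hc
    rw [LinearMap.baseChange_comp, LinearMap.baseChange_comp] at h
    exact h
  · rintro ⟨e, he⟩
    haveI : IsAlgClosed Ω := IsAlgClosure.isAlgClosed k
    haveI := Fintype.ofFinite k
    obtain ⟨p, hp⟩ := CharP.exists k
    obtain ⟨d, hpr, hcard⟩ := FiniteField.card k p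
    haveI := Fact.mk hpr
    have hq : Nat.card k = p ^ (d : ℕ) := by rw [Nat.card_eq_fintype_card]; exact hcard
    haveI : IsMonHom (AVDeg.frobOver p (d : ℕ) hq A) := AVDeg.isMonHom_frobOver hq
    haveI : IsMonHom (AVDeg.frobOver p (d : ℕ) hq B) := AVDeg.isMonHom_frobOver hq
    obtain ⟨σ, hσ, hπσ⟩ := AVTheta.exists_frobAut (k := k) (Ω := Ω)
    have hA : ρA σ = AbDual.tateMapₗ (l := l) (T := SGA7.pt (K := k) Ω) (AVDeg.frobOver p (d : ℕ) hq A) :=
      LinearMap.ext fun z => AbDual.TateMod.ext fun m => Additive.toMul.injective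
        ((hρA σ z m).trans (hπσ A _ (AVDeg.frobOver_base hq A) (AVDeg.le_frobOver hq A)
          (AVDeg.frobOver_app hq A) _).symm)
    have hB : ρB σ = AbDual.tateMapₗ (l := l) (T := SGA7.pt (K := k) Ω) (AVDeg.frobOver p (d : ℕ) hq B) :=
      LinearMap.ext fun z => AbDual.TateMod.ext fun m => Additive.toMul.injective
        ((hρB σ z m).trans (hπσ B _ (AVDeg.frobOver_base hq B) (AVDeg.le_frobOver hq B)
          (AVDeg.frobOver_app hq B) _).symm)
    exact AVTate.exists_isog_of_intertwiner Ω hl _ (AVDeg.frobOver_base hq A) (AVDeg.le_frobOver hq A)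
      (AVDeg.frobOver_app hq A) _ (AVDeg.frobOver_base hq B) (AVDeg.le_frobOver hq B)
      (AVDeg.frobOver_app hq B) e (by rw [← hA, ← hB]; exact he σ)

end Groth.Agent.S14945
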