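import Groth.Statements.S14946
import Groth.Agent.AVTate.Cons

set_option autoImplicit false
universe u
open CategoryTheory MonoidalCategory CartesianMonoidalCategory MonObj GrpObj AlgebraicGeometry
open scoped TensorProduct Classical
open AbVar

namespace Groth.Agent.S14946

/-- Dimension formula: let A be an abelian variety over a finite field k with q elements (a proper,
geometrically integral commutative group scheme over k), π_A its q-Frobenius endomorphism (identity
on points, q-th power on sections; a homomorphism), Ω an algebraic closure of k and l a prime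
invertible in k; assume (as is the case) that the l-adic Tate module of Ω-points T_l A is free of
finite rank over ℤ_l. Factor the characteristic polynomial of V_l(π_A) = ℚ_l ⊗ T_l(π_A) over ℚ_l as
∏ P^{a(P)} with P monic irreducible, and put r = Σ_P a(P)² deg P. Then ℚ ⊗ End_k(A) has dimension r:
there are r endomorphisms of A (homomorphisms A → A), linearly independent over ℤ in the additive
group of k-morphisms A → A (written multiplicatively), such that every endomorphism f has a multiple
f^N, N > 0, which is a product of integer powers of them. (The published statement gives only the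
bounds 2g ≤ dim ℚ ⊗ End_k(A) ≤ 4g²; this row states the equality dim ℚ ⊗ End_k(A) = r from which
they follow.) -/
theorem result (k Ω : Type u) [Field k] [Finite k] [Field Ω] [Algebra k Ω] [IsAlgClosure k Ω]
    (l : ℕ) [Fact l.Prime] (hl : (l : k) ≠ 0) (A : Over (Spec (CommRingCat.of k)))
    [GrpObj A] [IsCommMonObj A] [IsProper A.hom] [GeometricallyIntegral A.hom]
    (πA : A ⟶ A) [IsMonHom πA] (hπAb : πA.left.base = 𝟙 _)
    (hπAle : ∀ U : A.left.Opens, U ≤ πA.left ⁻¹ᵁ U)
    (hπAapp : ∀ (U : A.left.Opens) (s : Γ(A.left, U)), (πA.left.appLE U U (hπAle U)).hom s = s ^ Nat.card k)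
    [Module.Free ℤ_[l] (AbDual.TateMod A l (SGA7.pt Ω))] [Module.Finite ℤ_[l] (AbDual.TateMod A l (SGA7.pt Ω))]
    (r : ℕ)
    (hr : r = ∑ P ∈ (UniqueFactorizationMonoid.normalizedFactors
        ((AbDual.tateMapₗ (l := l) (T := SGA7.pt Ω) πA).baseChange ℚ_[l]).charpoly).toFinset,
        (UniqueFactorizationMonoid.normalizedFactors
          ((AbDual.tateMapₗ (l := l) (T := SGA7.pt Ω) πA).baseChange ℚ_[l]).charpoly).count P ^ 2 * P.natDegree) :
    ∃ e : Fin r → (A ⟶ A), (∀ i, IsMonHom (e i)) ∧ LinearIndependent ℤ (fun i => Additive.ofMul (e i)) ∧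
      ∀ f : A ⟶ A, IsMonHom f → ∃ N : ℕ, 0 < N ∧ ∃ a : Fin r → ℤ, f ^ N = ∏ i, e i ^ a i := by
  have hrank : Module.finrank ℤ (EndAV.End A) = r :=
    (AVTate.finrank_hom_sum Ω hl πA hπAb hπAle hπAapp πA hπAb hπAle hπAapp).trans
      ((Finset.sum_congr rfl fun P _ => by rw [pow_two]).trans hr.symm)
  obtain ⟨e, he, hli, hsp⟩ := AVTate.exists_end_family A hrank.ge
  exact ⟨e, he, hli, fun f hf => ⟨1, one_pos, (hsp hrank.symm f hf).choose,
    (pow_one f).trans (hsp hrank.symm f hf).choose_spec⟩⟩

end Groth.Agent.S14946
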