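import Groth.Statements.S14955
import Groth.Agent.EtMilLib.Basic

set_option autoImplicit false
universe u
open TensorProduct
open EtAlg Groth.Agent
open scoped TensorProduct

namespace Groth.Agent.S14955

/-- Let B' = B ×_A A' be a fibre product of commutative rings with A' → A surjective. Then the square is
also a pushout of commutative rings: the canonical map B ⊗_{B'} A' → A is an isomorphism. -/
theorem result (B' B A' A : Type u) [CommRing B'] [CommRing B] [CommRing A'] [CommRing A]
    [Algebra B' B] [Algebra B' A'] [Algebra B A] [Algebra A' A] [Algebra B' A] [IsScalarTower B' B A] [IsScalarTower B' A' A]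
    (hsq : EtMil.IsFibreSquare B' B A' A) : Algebra.IsPushout B' B A' A := by
  refine ⟨IsBaseChange.of_equiv (LinearEquiv.ofBijective
    (LinearMap.liftBaseChange B (IsScalarTower.toAlgHom B' A' A).toLinearMap) ⟨?_, ?_⟩) fun x => ?_⟩
  · refine (injective_iff_map_eq_zero _).2 fun z hz => ?_
    obtain ⟨a, rfl⟩ := EtMilLib.exists_one_tmul hsq A' z
    rw [LinearMap.liftBaseChange_tmul, one_smul] at hz
    obtain ⟨j, hj, rfl⟩ := (EtMilLib.ker_bijOn hsq).surjOn (RingHom.mem_ker.2 hz)
    rw [Algebra.algebraMap_eq_smul_one, ← TensorProduct.smul_tmul, Algebra.smul_def, mul_one,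
      RingHom.mem_ker.1 hj, TensorProduct.zero_tmul]
  · intro a
    obtain ⟨a', ha'⟩ := hsq.1 a
    exact ⟨1 ⊗ₜ a', by rw [LinearMap.liftBaseChange_tmul, one_smul]; exact ha'⟩
  · show LinearMap.liftBaseChange B (IsScalarTower.toAlgHom B' A' A).toLinearMap (1 ⊗ₜ x) = _
    rw [LinearMap.liftBaseChange_tmul, one_smul]

end Groth.Agent.S14955
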