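import Groth.Statements.S14956
import Groth.Agent.EtMilLib.Glue
import Groth.Agent.Azumaya.Basic

set_option autoImplicit false
universe u
open TensorProduct
open Brauer Groth.Agent
open scoped TensorProduct

namespace Groth.Agent.S14956

/-- Let B' = B ×_A A' be a fibre product of commutative rings with A' → A surjective and D' a B'-algebra
(associative, unital, not necessarily commutative). Then D' is an Azumaya algebra over B' if and
only if B ⊗_{B'} D' is an Azumaya algebra over B and A' ⊗_{B'} D' is an Azumaya algebra over A'.
(The published statement is for a quasi-coherent algebra on the pushout scheme Y of a closed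
immersion and an affine morphism; this row is the case of an affine Y. Azumaya is taken in the
finite-projective-faithful sense.) -/
theorem result (B' B A' A : Type u) [CommRing B'] [CommRing B] [CommRing A'] [CommRing A]
    [Algebra B' B] [Algebra B' A'] [Algebra B A] [Algebra A' A] [Algebra B' A] [IsScalarTower B' B A] [IsScalarTower B' A' A]
    (hsq : EtMil.IsFibreSquare B' B A' A)
    (D' : Type u) [Ring D'] [Algebra B' D'] :
    IsAzumaya B' D' ↔ IsAzumaya B (B ⊗[B'] D') ∧ IsAzumaya A' (A' ⊗[B'] D') := by
  constructor
  · intro h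
    exact ⟨Groth.Agent.Azumaya.isAzumaya_baseChange B D', Groth.Agent.Azumaya.isAzumaya_baseChange A' D'⟩
  · rintro ⟨h1, h2⟩
    haveI := h1
    haveI := h2
    haveI : Module.Finite B (B ⊗[B'] D') := IsAzumaya.toFinite
    haveI : Module.Finite A' (A' ⊗[B'] D') := IsAzumaya.toFinite
    haveI : Module.Projective B (B ⊗[B'] D') := IsAzumaya.toProjective
    haveI : Module.Projective A' (A' ⊗[B'] D') := IsAzumaya.toProjective
    haveI : Module.FinitePresentation B (B ⊗[B'] D') := Module.finitePresentation_of_projective _ _
    haveI : Module.FinitePresentation A' (A' ⊗[B'] D') := Module.finitePresentation_of_projective _ _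
    haveI : Module.Flat B' D' := EtMilLib.flat hsq
    haveI : Module.FinitePresentation B' D' := EtMilLib.finitePresentation hsq D'
    haveI : Module.Projective B' D' := Module.Flat.projective_of_finitePresentation
    refine Groth.Agent.Azumaya.isAzumaya_of_local D' fun m hm => ?_
    by_cases hJ : RingHom.ker (algebraMap B' B) ≤ m
    · refine ⟨B, inferInstance, inferInstance, fun e => hm.ne_top ?_, h1⟩
      rw [← Ideal.comap_map_of_surjective' (algebraMap B' B) (EtMilLib.surj hsq) m |>.trans (sup_eq_left.2 hJ), e,
        Ideal.comap_top]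
    · obtain ⟨j, hj, hjm⟩ := SetLike.not_le_iff_exists.1 hJ
      refine ⟨A', inferInstance, inferInstance, fun e => hjm ?_, h2⟩
      have key : ∀ x ∈ m.map (algebraMap B' A'), EtMilLib.act hsq ⟨j, hj⟩ x ∈ m := fun x hx => by
        refine Submodule.span_induction (p := fun x _ => ∀ a : A', EtMilLib.act hsq ⟨j, hj⟩ (a * x) ∈ m)
          ?_ ?_ ?_ ?_ (hx : x ∈ Submodule.span A' _) 1 |> fun h => by rwa [one_mul] at h
        · rintro _ ⟨b, hb, rfl⟩ a
          rw [EtMilLib.act_eq hsq (k := b * EtMilLib.act hsq ⟨j, hj⟩ a)]
          · exact m.mul_mem_right _ hb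
          · rw [map_mul, (EtMilLib.act_spec hsq _ _).1, mul_zero]
          · rw [map_mul, (EtMilLib.act_spec hsq _ _).2]; ring
        · intro a
          rw [mul_zero, EtMilLib.act_eq hsq (k := 0) (map_zero _) (by rw [map_zero, zero_mul])]
          exact zero_mem m
        · intro x y _ _ hx hy a
          rw [mul_add, EtMilLib.act_eq hsq (k := EtMilLib.act hsq ⟨j, hj⟩ (a * x) + EtMilLib.act hsq ⟨j, hj⟩ (a * y))]
          · exact add_mem (hx a) (hy a)
          · rw [map_add, (EtMilLib.act_spec hsq _ _).1, (EtMilLib.act_spec hsq _ _).1, add_zero]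
          · rw [map_add, (EtMilLib.act_spec hsq _ _).2, (EtMilLib.act_spec hsq _ _).2, add_mul]
        · intro c x _ hx a
          rw [smul_eq_mul, ← mul_assoc]
          exact hx (a * c)
      have h1 := key 1 (e ▸ Submodule.mem_top)
      rwa [EtMilLib.act_eq hsq (k := j) hj (one_mul _).symm] at h1

end Groth.Agent.S14956
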