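import Groth.Statements.S14958
import Groth.Agent.EtMilLib.Basic
import Groth.Agent.EtMilLib.TorEpi

set_option autoImplicit false
universe u
open TensorProduct CategoryTheory CategoryTheory.Limits
open EtAlg Groth.Agent
open scoped TensorProduct

namespace Groth.Agent.S14958

/-- Let B' = B ×_A A' be a fibre product of commutative rings with A' → A surjective and L' a B'-module.
Then L' is a fixed point of the glueing adjunction, i.e. the canonical map from L' to the compatible
pairs in (B ⊗_{B'} L') × (A' ⊗_{B'} L') is injective (it is always surjective), if and only if the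
map Tor_1(L', B) ⊕ Tor_1(L', A') → Tor_1(L', A) over B' induced by B → A and A' → A is surjective.
Here Tor_1(L', –) is the first left derived functor of L' ⊗_{B'} – on B'-modules. -/
theorem result (B' B A' A : Type u) [CommRing B'] [CommRing B] [CommRing A'] [CommRing A]
    [Algebra B' B] [Algebra B' A'] [Algebra B A] [Algebra A' A] [Algebra B' A] [IsScalarTower B' B A] [IsScalarTower B' A' A]
    (hsq : EtMil.IsFibreSquare B' B A' A)
    (L' : Type u) [AddCommGroup L'] [Module B' L'] :
    (∀ l : L', ((1 : B) ⊗ₜ[B'] l : B ⊗[B'] L') = 0 → ((1 : A') ⊗ₜ[B'] l : A' ⊗[B'] L') = 0 → l = 0) ↔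
    Epi (biprod.desc
      (((Tor (ModuleCat.{u} B') 1).obj (ModuleCat.of B' L')).map
        (ModuleCat.ofHom (IsScalarTower.toAlgHom B' B A).toLinearMap))
      (((Tor (ModuleCat.{u} B') 1).obj (ModuleCat.of B' L')).map
        (ModuleCat.ofHom (IsScalarTower.toAlgHom B' A' A).toLinearMap))) := by
  let ι : B' →ₗ[B'] B × A' := (Algebra.linearMap B' B).prod (Algebra.linearMap B' A')
  have hι : Function.Injective ι := fun x y h =>
    EtMilLib.ext hsq (congrArg Prod.fst h) (congrArg Prod.snd h)
  let a : B →ₗ[B'] A := (IsScalarTower.toAlgHom B' B A).toLinearMap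
  let b : A' →ₗ[B'] A := (IsScalarTower.toAlgHom B' A' A).toLinearMap
  have hex : Function.Exact ι (a.comp (LinearMap.fst B' B A') - b.comp (LinearMap.snd B' B A')) := by
    rintro ⟨x, y⟩
    show algebraMap B A x - algebraMap A' A y = 0 ↔ _
    rw [sub_eq_zero]
    constructor
    · intro h
      obtain ⟨z, ⟨h1, h2⟩, -⟩ := hsq.2 x y h
      exact ⟨z, Prod.ext h1 h2⟩
    · rintro ⟨z, hz⟩
      obtain rfl : algebraMap B' B z = x := congrArg Prod.fst hz
      obtain rfl : algebraMap B' A' z = y := congrArg Prod.snd hz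
      exact EtMilLib.comm z
  have hsurj : Function.Surjective (a.comp (LinearMap.fst B' B A') - b.comp (LinearMap.snd B' B A')) := fun z => by
    obtain ⟨y, hy⟩ := hsq.1 (-z)
    refine ⟨(0, y), ?_⟩
    show algebraMap B A 0 - algebraMap A' A y = z
    rw [map_zero, hy, zero_sub, neg_neg]
  refine Iff.trans ?_ (EtMilLib.injective_iff_epi_tor L' B A' A a b ι hι hex hsurj)
  let p : B × A' →ₗ[B'] B := LinearMap.fst B' B A'
  let q : B × A' →ₗ[B'] A' := LinearMap.snd B' B A'
  have hfst : ∀ l : L', TensorProduct.comm B' L' B (p.lTensor L' (ι.lTensor L' (l ⊗ₜ[B'] (1 : B')))) =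
      (1 : B) ⊗ₜ[B'] l := fun l => by
    show algebraMap B' B 1 ⊗ₜ[B'] l = _
    rw [map_one]
  have hsnd : ∀ l : L', TensorProduct.comm B' L' A' (q.lTensor L' (ι.lTensor L' (l ⊗ₜ[B'] (1 : B')))) =
      (1 : A') ⊗ₜ[B'] l := fun l => by
    show algebraMap B' A' 1 ⊗ₜ[B'] l = _
    rw [map_one]
  constructor
  · intro H
    refine (injective_iff_map_eq_zero _).2 fun z hz => ?_
    obtain ⟨l, rfl⟩ := (TensorProduct.rid B' L').symm.surjective z
    rw [TensorProduct.rid_symm_apply] at hz ⊢
    rw [H l (by rw [← hfst, hz, map_zero, map_zero]) (by rw [← hsnd, hz, map_zero, map_zero]), TensorProduct.zero_tmul]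
  · intro H l h1 h2
    have hz : ι.lTensor L' (l ⊗ₜ[B'] (1 : B')) = 0 := by
      refine (TensorProduct.prodRight B' B' L' B A').injective ?_
      rw [map_zero]
      refine Prod.ext ((TensorProduct.comm B' L' B).injective ?_) ((TensorProduct.comm B' L' A').injective ?_)
      · rw [Prod.fst_zero, map_zero, ← h1, ← hfst]; rfl
      · rw [Prod.snd_zero, map_zero, ← h2, ← hsnd]; rfl
    have h3 := congrArg (TensorProduct.rid B' L') (H (hz.trans (map_zero _).symm))
    rwa [TensorProduct.rid_tmul, one_smul, map_zero] at h3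

end Groth.Agent.S14958
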