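import Groth.Statements.S14962
import Groth.Agent.PinchQC.Basic
import Groth.Agent.QC.FiniteType

set_option autoImplicit false
universe u
open AlgebraicGeometry CategoryTheory CategoryTheory.Limits
open Pinch Groth.Agent
open scoped TensorProduct

namespace Groth.Agent.S14962

/-- Let w : X' → X, g : X' → Y', f : X → Y, u : Y' → Y be a cartesian square of schemes with f affine
and u a closed immersion which is a pinching square: for every affine open V of Y, with I(V) the
kernel of Γ(V, O_Y) → Γ(u⁻¹V, O_Y'), the kernel of Γ(V, O_Y) → Γ(f⁻¹V, O_X) meets I(V) in 0 and the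
ideal generated by the image of I(V) in Γ(f⁻¹V, O_X) consists of images of elements of I(V)
(equivalently Γ(V, O_Y) is the fibre product of Γ(u⁻¹V, O_Y') and Γ(f⁻¹V, O_X) over Γ(h⁻¹V, O_X'),
i.e. O_Y = u_*O_Y' ×_{h_*O_X'} f_*O_X). A quasi-coherent O_Y-module G is of finite type if and only
if u*G and f*G are of finite type. (The published clause is for flat modules of finite type;
flatness descends separately and the finiteness part does not use it.) -/
theorem result {X X' Y Y' : Scheme.{u}} (f : X ⟶ Y) (u : Y' ⟶ Y) (w : X' ⟶ X) (g : X' ⟶ Y')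
    (hP : IsPullback w g f u) [IsAffineHom f] [IsClosedImmersion u]
    (hM : ∀ V ∈ Y.affineOpens,
      RingHom.ker (f.app V).hom ⊓ RingHom.ker (u.app V).hom = ⊥ ∧
      ∀ a ∈ Ideal.map (f.app V).hom (RingHom.ker (u.app V).hom),
        ∃ i ∈ RingHom.ker (u.app V).hom, (f.app V).hom i = a)
    (G : Y.Modules) [G.IsQuasicoherent] :
    SheafOfModules.IsFiniteType G ↔
      SheafOfModules.IsFiniteType ((Scheme.Modules.pullback u).obj G) ∧
        SheafOfModules.IsFiniteType ((Scheme.Modules.pullback f).obj G) := by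
  have hG : Coh.IsQCoh G := inferInstanceAs G.IsQuasicoherent
  refine ⟨fun h => ⟨(QC.isCoh_pullback u ⟨hG, h⟩).2, (QC.isCoh_pullback f ⟨hG, h⟩).2⟩, fun ⟨h1, h2⟩ => ?_⟩
  refine (QC.isFT_iff_finite_sections (hM := hG)).2 fun ⟨V, hV⟩ => ?_
  letI := (u.app V).hom.toAlgebra
  letI := (f.app V).hom.toAlgebra
  obtain ⟨A, _, _, _, _, _, _, hsq, ⟨eu⟩, ⟨ef⟩⟩ := PinchQC.exists_chart f u hM G hG hV
  haveI := QC.finite_sections (hV.preimage u) (hM := QC.isQCoh_pullback u hG) h1
  haveI := QC.finite_sections (hV.preimage f) (hM := QC.isQCoh_pullback f hG) h2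
  haveI := Module.Finite.equiv eu.symm
  haveI := Module.Finite.equiv ef.symm
  exact EtMilLib.finite hsq _

end Groth.Agent.S14962
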