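import Groth.Statements.S14963
import Groth.Agent.Azumaya.Basic

set_option autoImplicit false
universe u v w
open TensorProduct
open Brauer

namespace Groth.Agent.S14963

/-- Let R → S be a ring homomorphism with Spec S → Spec R surjective and B an R-algebra which is
finitely generated and projective as an R-module. If S ⊗_R B is an Azumaya S-algebra, then B is an
Azumaya R-algebra. (The published statement is for a surjective morphism of schemes X → Y and a
finite locally free O_Y-algebra; this row is the case of affine X and Y. The converse direction,
base change, is omitted.) -/
theorem result (R : Type u) [CommRing R]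
    (S : Type v) [CommRing S] [Algebra R S]
    (hS : Function.Surjective (PrimeSpectrum.comap (algebraMap R S)))
    (B : Type w) [Ring B] [Algebra R B] [Module.Finite R B] [Module.Projective R B]
    [IsAzumaya S (S ⊗[R] B)] : IsAzumaya R B := by
  refine Groth.Agent.Azumaya.isAzumaya_of_local B fun m hm => ?_
  obtain ⟨q, hq⟩ := hS ⟨m, hm.isPrime⟩
  refine ⟨S, inferInstance, inferInstance, fun e => q.2.ne_top ?_, inferInstance⟩
  rw [eq_top_iff, ← e, Ideal.map_le_iff_le_comap]
  exact le_of_eq (congrArg PrimeSpectrum.asIdeal hq).symm

end Groth.Agent.S14963
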