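import Groth.Statements.S14965
import Groth.Agent.EtMilLib.Glue
import Groth.Agent.S14956

set_option autoImplicit false
universe u
open TensorProduct
open Brauer Groth.Agent
open scoped TensorProduct

namespace Groth.Agent.S14965

/-- Let B' = B ×_A A' be a fibre product of commutative rings with A' → A surjective, N an Azumaya
B-algebra, M' an Azumaya A'-algebra and φ : A ⊗_B N ≅ A ⊗_{A'} M' an isomorphism of A-algebras. If a
B'-algebra D' with B'-algebra homomorphisms π₁ : D' → N and π₂ : D' → M' is the glued algebra N ×_φ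
M', in the sense that (π₁, π₂) is injective with image the pairs (n, m') satisfying φ(1 ⊗ n) = 1 ⊗
m', then D' is an Azumaya B'-algebra. (The published statement is for Azumaya algebras on the
pushout scheme of a closed immersion and an affine morphism, glued as u_*B' ×_{h_*} f_*A; this row
is the case of an affine pushout.) -/
theorem result (B' B A' A : Type u) [CommRing B'] [CommRing B] [CommRing A'] [CommRing A]
    [Algebra B' B] [Algebra B' A'] [Algebra B A] [Algebra A' A] [Algebra B' A] [IsScalarTower B' B A] [IsScalarTower B' A' A]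
    (hsq : EtMil.IsFibreSquare B' B A' A)
    (N : Type u) [Ring N] [Algebra B N] [Algebra B' N] [IsScalarTower B' B N] [IsAzumaya B N]
    (M' : Type u) [Ring M'] [Algebra A' M'] [Algebra B' M'] [IsScalarTower B' A' M'] [IsAzumaya A' M']
    (φ : A ⊗[B] N ≃ₐ[A] A ⊗[A'] M')
    (D' : Type u) [Ring D'] [Algebra B' D'] (π₁ : D' →ₐ[B'] N) (π₂ : D' →ₐ[B'] M')
    (hinj : ∀ d : D', π₁ d = 0 → π₂ d = 0 → d = 0)
    (himg : ∀ (n : N) (m' : M'), φ ((1 : A) ⊗ₜ[B] n) = (1 : A) ⊗ₜ[A'] m' ↔ ∃ d : D', π₁ d = n ∧ π₂ d = m') :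
    IsAzumaya B' D' := by
  let φl := φ.toLinearEquiv
  let e0 : D' →ₗ[B'] EtMil.glue B' φl := (π₁.toLinearMap.prod π₂.toLinearMap).codRestrict _ fun d =>
    (EtMilLib.mem_glue φl).2 ((himg _ _).2 ⟨d, rfl, rfl⟩)
  have he0 : Function.Bijective e0 := by
    refine ⟨(injective_iff_map_eq_zero _).2 fun d hd => hinj d (congrArg (fun z : EtMil.glue B' φl => (z : N × M').1) hd)
      (congrArg (fun z : EtMil.glue B' φl => (z : N × M').2) hd), fun x => ?_⟩
    obtain ⟨d, h1, h2⟩ := (himg _ _).1 x.2
    exact ⟨d, Subtype.ext (Prod.ext h1 h2)⟩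
  let e := LinearEquiv.ofBijective e0 he0
  let fN : B ⊗[B'] D' →ₐ[B] N := Algebra.TensorProduct.lift (Algebra.ofId B N) π₁ fun b d => Algebra.commutes b _
  let fM : A' ⊗[B'] D' →ₐ[A'] M' := Algebra.TensorProduct.lift (Algebra.ofId A' M') π₂ fun b d => Algebra.commutes b _
  have hN : fN.toLinearMap = (LinearMap.liftBaseChange B (EtMil.glueFst B' φl)).comp (e.baseChange B' B).toLinearMap :=
    TensorProduct.AlgebraTensorModule.ext fun b d => by
      show algebraMap B N b * π₁ d = LinearMap.liftBaseChange B (EtMil.glueFst B' φl) (b ⊗ₜ[B'] e0 d)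
      rw [LinearMap.liftBaseChange_tmul, ← Algebra.smul_def]; rfl
  have hM : fM.toLinearMap = (LinearMap.liftBaseChange A' (EtMil.glueSnd B' φl)).comp (e.baseChange B' A').toLinearMap :=
    TensorProduct.AlgebraTensorModule.ext fun b d => by
      show algebraMap A' M' b * π₂ d = LinearMap.liftBaseChange A' (EtMil.glueSnd B' φl) (b ⊗ₜ[B'] e0 d)
      rw [LinearMap.liftBaseChange_tmul, ← Algebra.smul_def]; rfl
  have hNb : Function.Bijective fN := by
    show Function.Bijective fN.toLinearMap
    rw [hN]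
    exact (EtMilLib.fstBC_bijective hsq φl).comp (e.baseChange B' B).bijective
  have hMb : Function.Bijective fM := by
    show Function.Bijective fM.toLinearMap
    rw [hM]
    exact (EtMilLib.sndBC_bijective hsq φl).comp (e.baseChange B' A').bijective
  exact (Groth.Agent.S14956.result B' B A' A hsq D').2
    ⟨IsAzumaya.of_AlgEquiv B _ _ (AlgEquiv.ofBijective fN hNb).symm,
      IsAzumaya.of_AlgEquiv A' _ _ (AlgEquiv.ofBijective fM hMb).symm⟩

end Groth.Agent.S14965
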