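import Groth.Statements.S14966
import Groth.Agent.EtMilLib.Basic

set_option autoImplicit false
universe u
open EtAlg Groth.Agent
open scoped TensorProduct

namespace Groth.Agent.S14966

/-- Let A → A' be an injective homomorphism of commutative rings and let I ⊆ A be the conductor, i.e.
the annihilator of the A-module A'/A. Then the conductor square formed by A → A/I, A → A', A/I →
A'/IA' and A' → A'/IA' is a fibre product square of rings with A' → A'/IA' surjective: A = A/I
×_{A'/IA'} A'. (The published Lemma is for the conductor square of a finite modification of schemes;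
this row is the underlying statement for one injective ring map, which needs no finiteness.) -/
theorem result (A A' : Type u) [CommRing A] [CommRing A'] [Algebra A A']
    (hinj : Function.Injective (algebraMap A A')) :
    EtMil.IsFibreSquare A (A ⧸ Module.annihilator A (A' ⧸ LinearMap.range (Algebra.linearMap A A'))) A'
      (A' ⧸ Ideal.map (algebraMap A A') (Module.annihilator A (A' ⧸ LinearMap.range (Algebra.linearMap A A')))) := by
  set I := Module.annihilator A (A' ⧸ LinearMap.range (Algebra.linearMap A A')) with hI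
  refine ⟨Ideal.Quotient.mk_surjective, fun b a' h => ?_⟩
  obtain ⟨b, rfl⟩ := Ideal.Quotient.mk_surjective b
  have hrange : ∀ x ∈ I.map (algebraMap A A'), ∃ i ∈ I, algebraMap A A' i = x := by
    intro x hx
    have hmul : ∀ i ∈ I, ∀ z : A', ∃ k ∈ I, algebraMap A A' k = algebraMap A A' i * z := by
      intro i hi z
      obtain ⟨k, hk⟩ : algebraMap A A' i * z ∈ LinearMap.range (Algebra.linearMap A A') := by
        rw [← Algebra.smul_def, ← Submodule.Quotient.mk_eq_zero, Submodule.Quotient.mk_smul]
        exact Module.mem_annihilator.1 hi _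
      refine ⟨k, Module.mem_annihilator.2 fun w => ?_, hk⟩
      obtain ⟨w, rfl⟩ := Submodule.Quotient.mk_surjective _ w
      rw [← Submodule.Quotient.mk_smul, Submodule.Quotient.mk_eq_zero, Algebra.smul_def]
      have h2 := Module.mem_annihilator.1 hi (Submodule.Quotient.mk (z * w))
      rw [← Submodule.Quotient.mk_smul, Submodule.Quotient.mk_eq_zero, Algebra.smul_def, ← mul_assoc] at h2
      rwa [show algebraMap A A' k = algebraMap A A' i * z from hk]
    refine Submodule.span_induction ?_ ⟨0, zero_mem _, map_zero _⟩ ?_ ?_ hx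
    · rintro _ ⟨i, hi, rfl⟩; exact ⟨i, hi, rfl⟩
    · rintro _ _ _ _ ⟨i, hi, rfl⟩ ⟨j, hj, rfl⟩; exact ⟨i + j, add_mem hi hj, map_add _ _ _⟩
    · rintro r _ _ ⟨i, hi, rfl⟩
      obtain ⟨k, hk, e⟩ := hmul i hi r
      exact ⟨k, hk, by rw [e, smul_eq_mul, mul_comm]⟩
  have h' : a' - algebraMap A A' b ∈ I.map (algebraMap A A') := Ideal.Quotient.eq.1 h.symm
  obtain ⟨i, hi, hie⟩ := hrange _ h'
  refine ⟨b + i, ⟨?_, ?_⟩, fun y ⟨_, hy⟩ => hinj ?_⟩
  · rw [map_add]
    show Ideal.Quotient.mk I b + Ideal.Quotient.mk I i = _
    rw [Ideal.Quotient.eq_zero_iff_mem.2 hi, add_zero]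
  · rw [map_add, hie, add_sub_cancel]
  · rw [hy, map_add, hie, add_sub_cancel]

end Groth.Agent.S14966
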