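import Groth.Statements.S14972
import Groth.Agent.StabLib.ChainSet
import Groth.Agent.StabLib.Sheaf
import Groth.Agent.PicBdd.Hilb
import Groth.Agent.ProjMor.ProjSpaceBase
import Groth.Agent.Intersect.ProjSpace

set_option autoImplicit false
open CategoryTheory CategoryTheory.Limits AlgebraicGeometry
open Coherent

namespace Groth.Agent.S14972

/-- Over the complex numbers, let E be a coherent sheaf on projective n-space which is pure of dimension
d (its support and the support of every nonzero coherent subsheaf have dimension d). Then there is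
exactly one finite chain of coherent subsheaves 0 = E_0 ⊂ E_1 ⊂ ⋯ ⊂ E_k = E such that each
successive quotient E_j/E_(j-1) is pure of dimension d and p-semistable (every nonzero coherent
subsheaf G of it with Hilbert polynomial ψ satisfies ψ(m)/r(ψ) ≤ φ(m)/r(φ) for all large integers m,
φ being the Hilbert polynomial of the quotient and r denoting d! times the degree-d coefficient) and
the reduced Hilbert polynomials φ/r(φ) of consecutive quotients strictly decrease for large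
arguments. The chain is recorded as a finite set of subobjects of E, totally ordered by inclusion,
containing 0 and E, all of whose members are coherent. (The published statement is for modules over
a sheaf of rings of differential operators and filtrations by submodules stable under it, and does
not assume E pure, although quotients pure of dimension d force it; this row is the case of the
structure sheaf, where every coherent subsheaf is stable, and assumes E pure.) -/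
theorem result (n d : ℕ)
    (E : (CohB1.ProjSpace n ℂ).Modules) (hE : Coh.IsCoh E)
    (hpure : (topologicalKrullDim ↥(CohB1.support E) = (d : WithBot ℕ∞) ∧
          ∀ (G : (CohB1.ProjSpace n ℂ).Modules) (ι : G ⟶ E), Mono ι → Coh.IsCoh G → ¬ IsZero G → topologicalKrullDim ↥(CohB1.support G) = (d : WithBot ℕ∞))) :
    ∃! C : Finset (Subobject E),
      ⊥ ∈ C ∧ ⊤ ∈ C ∧ IsChain (fun A B : Subobject E => A ≤ B) (↑C : Set (Subobject E)) ∧
      (∀ A ∈ C, Coh.IsCoh (A : (CohB1.ProjSpace n ℂ).Modules)) ∧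
      (∀ A ∈ C, ∀ B ∈ C, ∀ hAB : A < B, (∀ D ∈ C, ¬ (A < D ∧ D < B)) →
        (topologicalKrullDim ↥(CohB1.support (cokernel (Subobject.ofLE A B hAB.le))) = (d : WithBot ℕ∞) ∧
          ∀ (G : (CohB1.ProjSpace n ℂ).Modules) (ι : G ⟶ (cokernel (Subobject.ofLE A B hAB.le))), Mono ι → Coh.IsCoh G → ¬ IsZero G → topologicalKrullDim ↥(CohB1.support G) = (d : WithBot ℕ∞)) ∧
        (∀ (G : (CohB1.ProjSpace n ℂ).Modules) (ι : G ⟶ (cokernel (Subobject.ofLE A B hAB.le))), Mono ι → Coh.IsCoh G → ¬ IsZero G →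
          ∀ φ ψ : Polynomial ℚ, (∀ m : ℤ, (Curv2.euler ℂ (CohB1.ProjSpace n ℂ) (CohB1.tensorMod (cokernel (Subobject.ofLE A B hAB.le)) (Twist.twistProjSpace n ℂ m)) : ℚ) = φ.eval (m : ℚ)) → (∀ m : ℤ, (Curv2.euler ℂ (CohB1.ProjSpace n ℂ) (CohB1.tensorMod G (Twist.twistProjSpace n ℂ m)) : ℚ) = ψ.eval (m : ℚ)) →
            W4c2simpsonmod1.RedLE d ψ φ)) ∧
      (∀ A ∈ C, ∀ B ∈ C, ∀ B' ∈ C, ∀ hAB : A < B, ∀ hBB : B < B',
        (∀ D ∈ C, ¬ (A < D ∧ D < B)) → (∀ D ∈ C, ¬ (B < D ∧ D < B')) →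
        ∀ ψ ψ' : Polynomial ℚ, (∀ m : ℤ, (Curv2.euler ℂ (CohB1.ProjSpace n ℂ) (CohB1.tensorMod (cokernel (Subobject.ofLE A B hAB.le)) (Twist.twistProjSpace n ℂ m)) : ℚ) = ψ.eval (m : ℚ)) →
          (∀ m : ℤ, (Curv2.euler ℂ (CohB1.ProjSpace n ℂ) (CohB1.tensorMod (cokernel (Subobject.ofLE B B' hBB.le)) (Twist.twistProjSpace n ℂ m)) : ℚ) = ψ'.eval (m : ℚ)) →
          W4c2simpsonmod1.RedLT d ψ' ψ) := by
  haveI : IsProper (CohB1.ProjSpace n ℂ ↘ Spec (CommRingCat.of ℂ)) := ProjMor.isProper_toSpec n ℂ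
  haveI := Groth.Agent.CurveRR.isNoetherian_of_proper ℂ (CohB1.ProjSpace n ℂ)
  have hL : CohB1.IsAmple (Twist.twistProjSpace n ℂ 1) := Groth.Agent.Intersect.isAmple_twistProj_one n ℂ
  let I := Groth.Agent.StabLib.Sh.inv ℂ hL
  have hpow : ∀ (G : (CohB1.ProjSpace n ℂ).Modules) (m : ℕ),
      Curv2.euler ℂ (CohB1.ProjSpace n ℂ) (CohB1.tensorMod G (Twist.twistProjSpace n ℂ (m : ℤ))) =
        Curv2.euler ℂ (CohB1.ProjSpace n ℂ) (ShStab.twist (CohB1.ProjSpace n ℂ) (Twist.twistProjSpace n ℂ 1) G m) := by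
    intro G m
    obtain ⟨a⟩ := Groth.Agent.Intersect.nonempty_twist_pow ℂ n m
    exact Groth.Agent.CurveRR.euler_eq_of_iso (PicGrp.tensorModIso (Iso.refl G) a)
  have conv : ∀ (G : (CohB1.ProjSpace n ℂ).Modules), Coh.IsCoh G → ∀ φ : Polynomial ℚ,
      (∀ m : ℤ, (Curv2.euler ℂ (CohB1.ProjSpace n ℂ) (CohB1.tensorMod G (Twist.twistProjSpace n ℂ m)) : ℚ) = φ.eval (m : ℚ)) ↔
        φ = I.hp G := by
    intro G hG φ
    obtain ⟨ψ, hψ⟩ := Groth.Agent.PicBdd.exists_hilbert_poly ℂ (𝟙 (CohB1.ProjSpace n ℂ)) hG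
    have hψ' : ∀ m : ℤ, (Curv2.euler ℂ (CohB1.ProjSpace n ℂ) (CohB1.tensorMod G (Twist.twistProjSpace n ℂ m)) : ℚ) = ψ.eval (m : ℚ) := by
      intro m
      rw [← hψ m]
      exact congrArg _ (Groth.Agent.CurveRR.euler_eq_of_iso
        (PicGrp.tensorModIso (Iso.refl G) ((Scheme.Modules.pullbackId _).app _).symm))
    have huniq : ∀ φ : Polynomial ℚ, (∀ m : ℤ, (Curv2.euler ℂ (CohB1.ProjSpace n ℂ) (CohB1.tensorMod G (Twist.twistProjSpace n ℂ m)) : ℚ) = φ.eval (m : ℚ)) →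
        φ = I.hp G := by
      intro φ h
      refine Groth.Agent.StabLib.eq_of_eval_nat fun m => ?_
      have h1 := h (m : ℤ)
      rw [Int.cast_natCast, hpow] at h1
      rw [← h1]
      exact Groth.Agent.StabLib.Sh.isHilbPoly_hp ℂ hL.1 hG m
    refine ⟨huniq φ, fun h => ?_⟩
    rw [h, ← huniq ψ hψ']
    exact hψ'
  have hp : ShStab.IsPure (CohB1.ProjSpace n ℂ) E d := hpure.2
  have hexu := Groth.Agent.StabLib.Sh.existsUnique_HN ℂ hL d E hE hp
  simp only [Groth.Agent.StabLib.Sh.isHN_iff ℂ hL] at hexu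
  have coh_factor : ∀ (A B : Subobject E) (h : A ≤ B), Coh.IsCoh (A : (CohB1.ProjSpace n ℂ).Modules) →
      Coh.IsCoh (B : (CohB1.ProjSpace n ℂ).Modules) → Coh.IsCoh (cokernel (Subobject.ofLE A B h)) :=
    fun A B h hA hB => I.ok_cokernel _ hA hB
  let G : Subobject E → Prop := fun A => Coh.IsCoh (A : (CohB1.ProjSpace n ℂ).Modules)
  let P : ∀ A B : Subobject E, A < B → Prop := fun A B hAB =>
    (topologicalKrullDim ↥(CohB1.support (cokernel (Subobject.ofLE A B hAB.le))) = (d : WithBot ℕ∞) ∧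
          ∀ (G : (CohB1.ProjSpace n ℂ).Modules) (ι : G ⟶ (cokernel (Subobject.ofLE A B hAB.le))), Mono ι → Coh.IsCoh G → ¬ IsZero G → topologicalKrullDim ↥(CohB1.support G) = (d : WithBot ℕ∞)) ∧
        (∀ (G : (CohB1.ProjSpace n ℂ).Modules) (ι : G ⟶ (cokernel (Subobject.ofLE A B hAB.le))), Mono ι → Coh.IsCoh G → ¬ IsZero G →
          ∀ φ ψ : Polynomial ℚ, (∀ m : ℤ, (Curv2.euler ℂ (CohB1.ProjSpace n ℂ) (CohB1.tensorMod (cokernel (Subobject.ofLE A B hAB.le)) (Twist.twistProjSpace n ℂ m)) : ℚ) = φ.eval (m : ℚ)) → (∀ m : ℤ, (Curv2.euler ℂ (CohB1.ProjSpace n ℂ) (CohB1.tensorMod G (Twist.twistProjSpace n ℂ m)) : ℚ) = ψ.eval (m : ℚ)) →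
            W4c2simpsonmod1.RedLE d ψ φ)
  let R : ∀ A B B' : Subobject E, A < B → B < B' → Prop := fun A B B' hAB hBB =>
    ∀ ψ ψ' : Polynomial ℚ, (∀ m : ℤ, (Curv2.euler ℂ (CohB1.ProjSpace n ℂ) (CohB1.tensorMod (cokernel (Subobject.ofLE A B hAB.le)) (Twist.twistProjSpace n ℂ m)) : ℚ) = ψ.eval (m : ℚ)) →
          (∀ m : ℤ, (Curv2.euler ℂ (CohB1.ProjSpace n ℂ) (CohB1.tensorMod (cokernel (Subobject.ofLE B B' hBB.le)) (Twist.twistProjSpace n ℂ m)) : ℚ) = ψ'.eval (m : ℚ)) →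
          W4c2simpsonmod1.RedLT d ψ' ψ
  have cohA : ∀ s : LTSeries (Subobject E), s.last = ⊤ → (∀ i : Fin s.length, Coh.IsCoh (StabCat.factor s i)) →
      ∀ i : Fin (s.length + 1), G (s i) := by
    intro s hl hf i
    obtain ⟨f, hf'⟩ := Groth.Agent.StabLib.OkSub.exists_lift (I := I) (show I.ok E from hE) s hl hf
    have h := (f i.1).2
    rw [hf' i] at h
    exact h
  have key : ∀ s : LTSeries (Subobject E),
      (Groth.Agent.StabLib.SeriesCond P R s ∧ ∀ i : Fin (s.length + 1), G (s i)) ↔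
        Groth.Agent.StabLib.Inv.IsHNo I d s := by
    intro s
    constructor
    · rintro ⟨⟨h0, h1, hP, hR⟩, hG⟩
      have hok : ∀ i : Fin s.length, Coh.IsCoh (StabCat.factor s i) := fun i => coh_factor _ _ _ (hG _) (hG _)
      have hss : ∀ i : Fin s.length, Groth.Agent.StabLib.Inv.SSo I d (StabCat.factor s i) := by
        intro i
        obtain ⟨⟨hd, hpu⟩, hle⟩ := hP i
        have hpu' : Groth.Agent.StabLib.Inv.Pure I d (StabCat.factor s i) :=
          (Groth.Agent.StabLib.Sh.isPure_iff ℂ hL _ d).1 hpu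
        have hn0 : ¬ IsZero (StabCat.factor s i) := fun h => by
          change topologicalKrullDim ↥(CohB1.support (StabCat.factor s i)) = _ at hd
          rw [Groth.Agent.StabLib.Sh.isEmpty_support h, Groth.Agent.StabLib.Sh.dim_empty] at hd
          exact WithBot.bot_ne_coe hd
        refine ⟨hok i, hn0, hpu', fun F ι hι hF hF0 _ => ?_⟩
        exact (Groth.Agent.StabLib.simpson_redLE_iff (hpu'.alpha_pos ι hF hF0) (hpu'.alpha_pos (𝟙 _) (hok i) hn0)).1
          (hle F ι hι hF hF0 _ _ ((conv _ (hok i) _).2 rfl) ((conv F hF _).2 rfl))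
      refine ⟨h0, h1, hss, fun i j hij => ?_⟩
      have e : s i.succ = s j.castSucc := congrArg s.toFun (Fin.ext hij)
      obtain ⟨iso⟩ := Groth.Agent.AbJH.nonempty_quo_congr e.symm rfl (s.step j).le (le_of_eq e |>.trans (s.step j).le)
      have hcoh : Coh.IsCoh (cokernel (Subobject.ofLE (s i.succ) (s j.succ) (le_of_eq e |>.trans (s.step j).le))) :=
        coh_factor _ _ _ (hG _) (hG _)
      have h := hR i j hij (s.step i) (lt_of_eq_of_lt e (s.step j)) _ _ ((conv _ (hok i) _).2 rfl)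
        ((conv _ hcoh (I.hp (StabCat.factor s j))).2 (I.hp_iso iso (hok j)))
      exact (Groth.Agent.StabLib.simpson_redLT_iff (hss j).alpha_pos (hss i).alpha_pos).1 h
    · intro hs
      have hok : ∀ i : Fin s.length, Coh.IsCoh (StabCat.factor s i) := fun i => (hs.2.2.1 i).1
      have hG := cohA s hs.2.1 hok
      refine ⟨⟨hs.1, hs.2.1, fun i => ?_, fun i j hij hl hl' => ?_⟩, hG⟩
      · have hS := hs.2.2.1 i
        have hpu := (Groth.Agent.StabLib.Sh.isPure_iff ℂ hL _ d).2 hS.2.2.1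
        refine ⟨⟨hpu (StabCat.factor s i) (𝟙 (StabCat.factor s i)) inferInstance (hok i) hS.2.1, hpu⟩, fun F ι hι hF hF0 φ ψ hφ hψ => ?_⟩
        rw [(conv _ (hok i) φ).1 hφ, (conv F hF ψ).1 hψ]
        exact (Groth.Agent.StabLib.simpson_redLE_iff (@Groth.Agent.StabLib.Inv.Pure.alpha_pos _ _ _ I d _ hS.2.2.1 F ι hι hF hF0) hS.alpha_pos).2 (@Groth.Agent.StabLib.Inv.SSo.nn_sub _ _ _ I d _ hS F ι hι hF)
      · intro ψ ψ' h h'
        have e : s i.succ = s j.castSucc := congrArg s.toFun (Fin.ext hij)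
        obtain ⟨iso⟩ := Groth.Agent.AbJH.nonempty_quo_congr e.symm rfl (s.step j).le (le_of_eq e |>.trans (s.step j).le)
        have hcoh : Coh.IsCoh (cokernel (Subobject.ofLE (s i.succ) (s j.succ) hl'.le)) := coh_factor _ _ _ (hG _) (hG _)
        rw [(conv _ (hok i) ψ).1 h, (conv _ hcoh ψ').1 h', ← I.hp_iso iso (hok j)]
        exact (Groth.Agent.StabLib.simpson_redLT_iff (hs.2.2.1 j).alpha_pos (hs.2.2.1 i).alpha_pos).2 (hs.2.2.2 i j hij)
  let P' : ∀ A B : Subobject E, A < B → Prop := fun A B h => P A B h ∧ G A ∧ G B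
  have hser : ∀ s : LTSeries (Subobject E), Groth.Agent.StabLib.SeriesCond P' R s ↔ Groth.Agent.StabLib.Inv.IsHNo I d s := by
    intro s
    refine Iff.trans ⟨fun ⟨h0, h1, h2, h3⟩ => ⟨⟨h0, h1, fun i => (h2 i).1, h3⟩, fun i => ?_⟩,
      fun ⟨⟨h0, h1, h2, h3⟩, hG⟩ => ⟨h0, h1, fun i => ⟨h2 i, hG _, hG _⟩, h3⟩⟩ (key s)
    induction i using Fin.lastCases with
    | last =>
      show Coh.IsCoh _
      rw [show s (Fin.last s.length) = ⊤ from h1]
      exact I.ok_iso (asIso (⊤ : Subobject E).arrow).symm hE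
    | cast i => exact (h2 i).2.1
  obtain ⟨C, hC, hu⟩ := Groth.Agent.StabLib.existsUnique_finset G P' R
    (by simp only [hser]; exact hexu) (fun s hs => ((key s).2 ((hser s).1 hs)).2)
  obtain ⟨c1, c2, c3, c4, c5, c6⟩ := hC
  refine ⟨C, ⟨c1, c2, c3, c4, fun A hA B hB h hc => (c5 A hA B hB h hc).1, c6⟩, ?_⟩
  rintro C' ⟨d1, d2, d3, d4, d5, d6⟩
  exact hu C' ⟨d1, d2, d3, d4, fun A hA B hB h hc => ⟨d5 A hA B hB h hc, d4 A hA, d4 B hB⟩, d6⟩

end Groth.Agent.S14972
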