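import Groth.Statements.S14984
import Groth.Agent.TameInt.Basic

set_option autoImplicit false
universe u v w
open HopfRep

namespace Groth.Agent.S14984

open scoped TensorProduct

theorem aux.{u1,u2,v1,w1} {R : Type u1} {C : Type u2} {A : Type v1} {B : Type w1} [CommRing R] [CommRing C] [Algebra R C] [CommRing A]
    [HopfAlgebra R A] [CommRing B] [Algebra R B] [HopfRep.Comod R A B] [GLin.IsCoactAlg R A B] [Algebra C B]
    [IsScalarTower R C B]
    (hfix : ∀ c : C, HopfRep.Comod.coact (k := R) (A := A) (algebraMap C B c) = algebraMap C B c ⊗ₜ (1 : A))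
    (β : C ⊗[R] A →ₗ[C] C ⊗[R] B)
    (hβ : @Hoch.IsComodHom C _ (C ⊗[R] A) _ _ _ (C ⊗[R] A) _ _ (HopfRep.Comod.regular C (C ⊗[R] A)) (C ⊗[R] B) _ _
      (CoactBr.Comod.baseChange R C A B) β) (h1 : β 1 = 1) :
    ∃ α : A →ₗ[R] B, Hoch.IsComodHom A α ∧ α 1 = 1 := by
  let μ : C ⊗[R] B →ₗ[C] B := TensorProduct.AlgebraTensorModule.lift
    { toFun := fun c => c • (LinearMap.id : B →ₗ[R] B)
      map_add' := fun c d => add_smul c d _
      map_smul' := fun c d => mul_smul c d _ }
  have hμ : ∀ (c : C) (x : B), μ (c ⊗ₜ x) = c • x := fun c x => rfl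
  let iA : C ⊗[R] A →ₗ[C] B ⊗[R] A := (LinearMap.toSpanSingleton C B 1).restrictScalars C |> fun f =>
    TensorProduct.AlgebraTensorModule.map f (LinearMap.id : A →ₗ[R] A)
  let mB : B ⊗[C] (B ⊗[R] A) →ₗ[C] B ⊗[R] A :=
    TensorProduct.lift ((LinearMap.lsmul B (B ⊗[R] A)).restrictScalars₁₂ C C)
  let P : (C ⊗[R] B) ⊗[C] (C ⊗[R] A) →ₗ[C] B ⊗[R] A := mB ∘ₗ TensorProduct.map μ iA
  have hP : ∀ (z : C ⊗[R] B) (d : C) (a : A), P (z ⊗ₜ (d ⊗ₜ[R] a)) = (μ z * algebraMap C B d) ⊗ₜ[R] a := by
    intro z d a
    show (μ z) • ((d • (1 : B)) ⊗ₜ[R] a) = _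
    rw [TensorProduct.smul_tmul', smul_eq_mul, Algebra.algebraMap_eq_smul_one]
  let α : A →ₗ[R] B := (μ.restrictScalars R) ∘ₗ (β.restrictScalars R) ∘ₗ TensorProduct.mk R C A 1
  refine ⟨α, LinearMap.ext fun a => ?_, ?_⟩
  · have hb := congrArg P (LinearMap.congr_fun hβ ((1 : C) ⊗ₜ[R] a))
    have h2 : ∀ z : C ⊗[R] B, P ((CoactBr.Comod.baseChange R C A B).coact z) =
        HopfRep.Comod.coact (k := R) (A := A) (μ z) := by
      intro z
      induction z using TensorProduct.induction_on with
      | zero => simp only [map_zero]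
      | add u v hu hv => simp only [map_add, hu, hv]
      | tmul c x =>
        rw [CoactBr.baseChange_coact_tmul, hμ, Algebra.smul_def, GLin.IsCoactAlg.coact_mul, hfix]
        induction HopfRep.Comod.coact (k := R) (A := A) x using TensorProduct.induction_on with
        | zero => simp only [TensorProduct.tmul_zero, map_zero, mul_zero]
        | add u v hu hv => simp only [TensorProduct.tmul_add, mul_add, map_add, hu, hv]
        | tmul u v =>
          rw [TensorProduct.AlgebraTensorModule.tensorTensorTensorComm_tmul, hP, hμ, one_smul,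
            Algebra.TensorProduct.tmul_mul_tmul, one_mul, mul_comm]
    refine (h2 _).symm.trans (hb.trans ?_)
    show P (β.rTensor _ (Coalgebra.comul (R := C) ((1 : C) ⊗ₜ[R] a))) = α.rTensor A (Coalgebra.comul (R := R) a)
    rw [TensorProduct.comul_tmul, CoactBr.comul_self_apply C (1 : C)]
    induction Coalgebra.comul (R := R) a using TensorProduct.induction_on with
    | zero => simp only [TensorProduct.tmul_zero, map_zero]
    | add u v hu hv => simp only [TensorProduct.tmul_add, map_add, hu, hv]
    | tmul u v =>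
      rw [TensorProduct.AlgebraTensorModule.tensorTensorTensorComm_tmul, LinearMap.rTensor_tmul, hP, map_one, mul_one]
      rfl
  · show μ (β ((1 : C) ⊗ₜ (1 : A))) = 1
    rw [← Algebra.TensorProduct.one_def, h1, Algebra.TensorProduct.one_def, hμ, one_smul]


/-- Let `R` be a commutative ring, `A` a commutative Hopf algebra over `R`, flat as an `R`-module, `B` a
commutative `R`-algebra with a coaction of `A` that is an algebra map (an action of `G = Spec A` on
`X = Spec B`), and `C = B^A` the ring of invariants. If the action base-changed along `R → C` — the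
`C`-Hopf algebra `C ⊗ A` coacting on `C ⊗ B` — is tame, i.e. there is a `C`-linear comodule map `β :
C ⊗ A → C ⊗ B` (regular coaction on the source, base-changed coaction on the target) with `β 1 = 1`,
then the original action is tame: there is an `R`-linear comodule map `α : A → B` with `α 1 = 1`.
(The converse is the case `S = C` of stability of tameness under base change. The published lemma
also lists, as a third equivalent condition, tameness of the action of `C ⊗ A` on `B` itself over
`C`; that condition is not stated here.) -/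
theorem result
    (R : Type u) (A : Type v) (B : Type w)
    [CommRing R] [CommRing A] [HopfAlgebra R A] [Module.Flat R A]
    [CommRing B] [Algebra R B] [HopfRep.Comod R A B] [GLin.IsCoactAlg R A B]
    (h : ∃ β : TensorProduct R ↥(GLin.invariants R A B) A →ₗ[↥(GLin.invariants R A B)]
        TensorProduct R ↥(GLin.invariants R A B) B,
      @Hoch.IsComodHom ↥(GLin.invariants R A B) _ (TensorProduct R ↥(GLin.invariants R A B) A) _ _ _
        (TensorProduct R ↥(GLin.invariants R A B) A) _ _
        (HopfRep.Comod.regular ↥(GLin.invariants R A B) (TensorProduct R ↥(GLin.invariants R A B) A))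
        (TensorProduct R ↥(GLin.invariants R A B) B) _ _
        (CoactBr.Comod.baseChange R ↥(GLin.invariants R A B) A B) β ∧ β 1 = 1) :
    ∃ α : A →ₗ[R] B, Hoch.IsComodHom A α ∧ α 1 = 1 := by
  obtain ⟨β, hβ, h1⟩ := h
  exact aux (fun c => c.2) β hβ h1

end Groth.Agent.S14984
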