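import Groth.Statements.S14985
import Groth.Agent.K0Tensor.Main

set_option autoImplicit false
universe u
open CAlg

namespace Groth.Agent.S14985

/-- Let R be a Noetherian commutative ring of finite Krull dimension and P a finitely generated
projective R-module. If the n-th tensor power of P is free for some n ≥ 1, then the direct sum of N
copies of P is free for some N ≥ 1. -/
theorem result (R : Type u) [CommRing R] [IsNoetherianRing R]
    (hdim : ringKrullDim R < ⊤) (P : Type u) [AddCommGroup P] [Module R P] [Module.Finite R P]
    [Module.Projective R P] (n : ℕ) (hn : 1 ≤ n) (hfree : Module.Free R (TensorPower R n P)) :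
    ∃ N : ℕ, 1 ≤ N ∧ Module.Free R (Fin N → P) := by
  exact K0Tensor.exists_pi_free hdim P n hn hfree

end Groth.Agent.S14985
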