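import Groth.Statements.S14986
import Groth.Agent.SpFinCover.CodimOne

set_option autoImplicit false
universe u
open CategoryTheory CategoryTheory.Limits AlgebraicGeometry Topology TopologicalSpace
open AlgSp

namespace Groth.Agent.S14986

/-- Let X be a separated, locally Noetherian algebraic space over a separated scheme S and x_1, …, x_n
finitely many points of X whose local rings have dimension at most 1. Then some affine open
subscheme of X contains all the x_i: there are an affine scheme T over S and a representable open
immersion h_T ⟶ X whose image contains every x_i. (The published statement takes X separated in the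
absolute sense over an arbitrary base; this row asks S to be separated and X separated over S, which
together imply absolute separatedness.) -/
theorem result {S : Scheme.{u}} [S.IsSeparated]
    (X : AlgSp.Space S) (hsep : AlgSp.IsSeparatedSp X.obj) (hN : AlgSp.IsLocNoethSp X.obj)
    (s : Finset (AlgSp.Points X.obj))
    (hs : ∀ x ∈ s, AlgSp.HasAt (fun U u => ringKrullDim ↥(U.presheaf.stalk u) ≤ 1) X.obj x) :
    ∃ (T : Over S) (j : (AlgSp.yon S).obj T ⟶ X.obj), IsAffine T.left ∧
      AlgSp.RepWith @IsOpenImmersion j ∧ ∀ x ∈ s, x ∈ Set.range (AlgSp.Points.ofPt j) := by
  open _root_.AlgSp in
  exact Groth.Agent.SpFinCover.exists_affine_nhd X hsep hN s hs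

end Groth.Agent.S14986
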