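import Groth.Statements.S14988
import Groth.Agent.DerPerf.Tensor
import Groth.Agent.ModSiteTensor.Colimit

set_option autoImplicit false
set_option backward.isDefEq.respectTransparency false
set_option backward.isDefEq.respectTransparency.types false
universe u
open CategoryTheory CategoryTheory.Limits AlgebraicGeometry
open ResProp

namespace Groth.Agent.S14988

/-- In the case of schemes, let f : X ⟶ Y be a morphism of quasi-compact quasi-separated schemes. If
every quasi-coherent module on Y is a quotient of a direct sum of finite locally free modules (Y has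
the resolution property) and some family (W_i) of finite locally free modules on X is f-generating,
i.e. every quasi-coherent module on X is a quotient of a direct sum of modules W_i ⊗ f^*N with N
quasi-coherent on Y, then every quasi-coherent module on X is a quotient of a direct sum of finite
locally free modules (X has the resolution property). (The published statement is for quasi-compact
quasi-separated morphisms of algebraic stacks and assumes the family universally f-generating; this
row is the case of schemes and assumes the family only f-generating, which is what the argument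
uses.) -/
theorem result {X Y : Scheme.{u}}
    [CompactSpace X] [QuasiSeparatedSpace X] [CompactSpace Y] [QuasiSeparatedSpace Y] (f : X ⟶ Y)
    (hY : ∀ N : Y.Modules, Coh.IsQCoh N →
      ∃ (κ : Type u) (V : κ → Y.Modules) (π : (∐ V) ⟶ N), (∀ k, FlatMod.IsFinLocFree (V k)) ∧ Epi π)
    {ι : Type u} (W : ι → X.Modules) (hW : ∀ i, FlatMod.IsFinLocFree (W i))
    (hf : ∀ M : X.Modules, Coh.IsQCoh M →
      ∃ (κ : Type u) (j : κ → ι) (N : κ → Y.Modules)
        (π : (∐ fun k => CohB1.tensorMod (W (j k)) ((Scheme.Modules.pullback f).obj (N k))) ⟶ M),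
        (∀ k, Coh.IsQCoh (N k)) ∧ Epi π) :
    ∀ M : X.Modules, Coh.IsQCoh M →
      ∃ (κ : Type u) (E : κ → X.Modules) (π : (∐ E) ⟶ M), (∀ k, FlatMod.IsFinLocFree (E k)) ∧ Epi π := by
  intro M hM
  obtain ⟨κ, j, N, π, hN, hπ⟩ := hf M hM
  choose κ' V p hV hp using fun k => hY (N k) (hN k)
  let G : κ → (Y.Modules ⥤ X.Modules) := fun k => Scheme.Modules.pullback f ⋙ (KFlat.schB X).obj (W (j k))
  haveI : ∀ k, PreservesColimitsOfSize.{u, u} (G k) := fun k => by
    haveI : PreservesColimitsOfSize.{u, u} (Scheme.Modules.pullback f) :=
      (Scheme.Modules.pullbackPushforwardAdjunction f).leftAdjoint_preservesColimits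
    haveI : PreservesColimitsOfSize.{u, u} ((KFlat.schB X).obj (W (j k))) :=
      Groth.Agent.ModSiteTensor.preservesColimits_tensorBi_obj X.sheaf (W (j k))
    exact comp_preservesColimits _ _
  haveI : ∀ k, (G k).PreservesEpimorphisms := fun k => by
    haveI : PreservesColimitsOfSize.{0, 0} (G k) := preservesSmallestColimits_of_preservesColimits _
    infer_instance
  let E : (Σ k, κ' k) → X.Modules := fun q => (G q.1).obj (V q.1 q.2)
  let F : κ → X.Modules := fun k => CohB1.tensorMod (W (j k)) ((Scheme.Modules.pullback f).obj (N k))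
  let m : ∀ k, (G k).obj (∐ V k) ⟶ F k := fun k => (G k).map (p k)
  haveI : ∀ k, Epi (m k) := fun k => by
    haveI := hp k
    exact inferInstanceAs (Epi ((G k).map (p k)))
  refine ⟨Σ k, κ' k, E, Sigma.desc fun q => (G q.1).map (Sigma.ι (V q.1) q.2) ≫ m q.1 ≫ Sigma.ι F q.1 ≫ π,
    fun q => Groth.Agent.DerPerf.isFinLocFree_tensor (hW _) (Groth.Agent.DerPerf.isFinLocFree_pullback f (hV _ _)), ⟨fun {Z} a b h => ?_⟩⟩
  haveI := hπ
  refine (cancel_epi π).1 (Sigma.hom_ext _ _ fun k => ?_)
  refine (cancel_epi (m k)).1 ?_
  refine (isColimitCofanMkObjOfIsColimit (G k) _ _ (coproductIsCoproduct (V k))).hom_ext fun l => ?_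
  have e := congrArg (Sigma.ι E ⟨k, l.as⟩ ≫ ·) h
  simp only [Sigma.ι_desc_assoc, Category.assoc] at e
  exact e

end Groth.Agent.S14988
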