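import Groth.Statements.S14991
import Groth.Agent.RefStalk.Restrict
import Groth.Agent.RefStalk.Codim
import Groth.Agent.RefStalk.Extend
import Groth.Agent.RegLoc.Normal
import Groth.Agent.GrpAct.DimClosed
import Groth.Agent.DQCoh.PCCalc
import Groth.Agent.FreeCurve.Split
import Groth.Agent.VanLocus.Scheme

set_option autoImplicit false
set_option backward.isDefEq.respectTransparency false
set_option linter.style.haveILetI false
universe u
open CategoryTheory CategoryTheory.Limits AlgebraicGeometry
open ResProp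

namespace Groth.Agent.S14991

/-- Across a regular closed point of dimension two at which the target is free, a finite locally free
module with a map to the target extends. -/
theorem exists_extend {X : Scheme.{u}} [IsIntegral X] [IsLocallyNoetherian X] {F : X.Modules} (hF : Coh.IsCoh F)
    (r : X) (hreg : IsRegularLocalRing (X.presheaf.stalk r)) (hd : ringKrullDim (X.presheaf.stalk r) = 2)
    (hFr : Module.Free (X.presheaf.stalk r) (F.presheaf.stalk r)) (U : X.Opens) (hU : (U : Set X) = {r}ᶜ)
    (E : (U : Scheme.{u}).Modules) (π : E ⟶ F.restrict U.ι) (hE : FlatMod.IsFinLocFree E) [Epi π] :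
    ∃ (G : X.Modules) (θ : G ⟶ F), FlatMod.IsFinLocFree G ∧
      Epi ((Scheme.Modules.restrictFunctor U.ι).map θ) := by
  haveI := hreg
  haveI : IsDomain (X.presheaf.stalk r) := inferInstance
  haveI : IsIntegrallyClosed (X.presheaf.stalk r) := Groth.Agent.RegLoc.isIntegrallyClosed
  have hnr : ∀ x, x ∉ U → x = r := fun x hx => by
    by_contra h
    exact hx (hU.ge h)
  have hdep : ∀ x, x ∉ U → (2 : ℕ∞) ≤ LocCoh.depth (X.presheaf.stalk x) (X.presheaf.stalk x) := fun x hx => by
    obtain rfl := hnr x hx
    refine Groth.Agent.Catenary.two_le_depth_of_normal ?_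
    rw [hd]; decide
  haveI := hFr
  haveI := Groth.Agent.RegDual.finite_stalk hF r
  haveI := Groth.Agent.RefStalk.isIso_unit_of_depth hF U fun x hx => by
    obtain rfl := hnr x hx
    exact Groth.Agent.RefStalk.two_le_depth_of_isReflexiveAt hF x inferInstance (hdep x hx)
  have hEc : Coh.IsCoh E := Groth.Agent.FreeCurve.isCoh_of_isFinLocFree hE
  obtain ⟨hGc, hGr⟩ := Groth.Agent.RefStalk.pushforward_isReflexive U hdep hEc fun x => by
    haveI := Groth.Agent.LocFree.free_stalk_of_isFinLocFree hE x
    haveI := Groth.Agent.RegDual.finite_stalk hEc x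
    infer_instance
  let adj := Scheme.Modules.restrictAdjunction U.ι
  let θ : (Scheme.Modules.pushforward U.ι).obj E ⟶ F :=
    (Scheme.Modules.pushforward U.ι).map π ≫ inv (adj.unit.app F)
  refine ⟨_, θ, Groth.Agent.RegDual.isFinLocFree_of_free_stalk hGc fun x => ?_, ?_⟩
  · by_cases hx : x ∈ U
    · exact (Groth.Agent.RefStalk.isFinLocFree_restrict_iff hGc U).1
        (Groth.Agent.DQCoh.isFinLocFree_of_iso' (asIso (adj.counit.app E)).symm hE) x hx
    · obtain rfl := hnr x hx
      haveI := hGr x
      haveI := Groth.Agent.RegDual.finite_stalk hGc x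
      exact Groth.Agent.RegDual.free_of_isReflexive _ hd.le _
  · have h1 : (Scheme.Modules.restrictFunctor U.ι).map θ = adj.counit.app E ≫ π := by
      have hinv : (Scheme.Modules.restrictFunctor U.ι).map (inv (adj.unit.app F)) =
          adj.counit.app ((Scheme.Modules.restrictFunctor U.ι).obj F) := by
        rw [Functor.map_inv]
        exact IsIso.inv_eq_of_hom_inv_id (adj.left_triangle_components F)
      rw [Functor.map_comp, hinv]
      exact adj.counit.naturality π
    rw [h1]
    exact epi_comp _ _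

/-- In the case of schemes, let X be an integral scheme of dimension 2, separated and of finite type
over a field k and regular in codimension 1, F a coherent module on X, and p ≠ q regular closed
points of X near each of which F is finite locally free. If F restricted to X minus q and F
restricted to X minus p are both quotients of finite locally free modules, then F is a quotient of a
finite locally free module on X. (The published statement is for algebraic spaces and also assumes F
locally free off a closed subset of codimension 2, an assumption the argument does not use; this row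
is the case of schemes without it.) -/
theorem result {k : Type u} [Field k] (X : Scheme.{u})
    [X.Over (Spec (CommRingCat.of k))] [IsIntegral X] [IsSeparated (X ↘ Spec (CommRingCat.of k))]
    [LocallyOfFiniteType (X ↘ Spec (CommRingCat.of k))] [QuasiCompact (X ↘ Spec (CommRingCat.of k))]
    (hdim : topologicalKrullDim ↥X = 2)
    (hR1 : ∀ x : X, ringKrullDim ↥(X.presheaf.stalk x) ≤ 1 → IsRegularLocalRing ↥(X.presheaf.stalk x))
    (F : X.Modules) (hF : Coh.IsCoh F) (p q : X) (hpq : p ≠ q)
    (hp : IsClosed ({p} : Set X)) (hq : IsClosed ({q} : Set X))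
    (hpreg : IsRegularLocalRing ↥(X.presheaf.stalk p)) (hqreg : IsRegularLocalRing ↥(X.presheaf.stalk q))
    (hFp : ∃ W : X.Opens, p ∈ W ∧ FlatMod.IsFinLocFree (F.restrict W.ι))
    (hFq : ∃ W : X.Opens, q ∈ W ∧ FlatMod.IsFinLocFree (F.restrict W.ι))
    (Up Uq : X.Opens) (hUp : (Up : Set X) = {p}ᶜ) (hUq : (Uq : Set X) = {q}ᶜ)
    (hp' : ∃ (E : (↑Up : Scheme.{u}).Modules) (π : E ⟶ F.restrict Up.ι), FlatMod.IsFinLocFree E ∧ Epi π)
    (hq' : ∃ (E : (↑Uq : Scheme.{u}).Modules) (π : E ⟶ F.restrict Uq.ι), FlatMod.IsFinLocFree E ∧ Epi π) :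
    ∃ (E : X.Modules) (π : E ⟶ F), FlatMod.IsFinLocFree E ∧ Epi π := by
  let s := X ↘ Spec (CommRingCat.of k)
  haveI : IsLocallyNoetherian X := LocallyOfFiniteType.isLocallyNoetherian s
  have hdim' : ∀ r : X, IsClosed ({r} : Set X) → ringKrullDim (X.presheaf.stalk r) = 2 := fun r hr => by
    rw [Groth.Agent.GrpAct.dim_stalk_closed_eq s r hr, hdim]
  have hfree : ∀ r : X, (∃ W : X.Opens, r ∈ W ∧ FlatMod.IsFinLocFree (F.restrict W.ι)) →
      Module.Free (X.presheaf.stalk r) (F.presheaf.stalk r) := fun r ⟨W, hW, h⟩ =>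
    (Groth.Agent.RefStalk.isFinLocFree_restrict_iff hF W).1 h r hW
  obtain ⟨E₁, π₁, hE₁, he₁⟩ := hp'
  obtain ⟨E₂, π₂, hE₂, he₂⟩ := hq'
  obtain ⟨G₁, θ₁, hG₁, hθ₁⟩ := exists_extend hF p hpreg (hdim' p hp) (hfree p hFp) Up hUp E₁ π₁ hE₁
  obtain ⟨G₂, θ₂, hG₂, hθ₂⟩ := exists_extend hF q hqreg (hdim' q hq) (hfree q hFq) Uq hUq E₂ π₂ hE₂
  refine ⟨G₁ ⊞ G₂, biprod.desc θ₁ θ₂, Groth.Agent.DQCoh.isFinLocFree_biprod hG₁ hG₂,
    Preadditive.epi_of_cancel_zero _ fun {N} g hg => ?_⟩
  have h1 : θ₁ ≫ g = 0 := by
    rw [← biprod.inl_desc θ₁ θ₂, Category.assoc, hg, comp_zero]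
  have h2 : θ₂ ≫ g = 0 := by
    rw [← biprod.inr_desc θ₁ θ₂, Category.assoc, hg, comp_zero]
  have key : ∀ (U : X.Opens) {G : X.Modules} (θ : G ⟶ F), Epi ((Scheme.Modules.restrictFunctor U.ι).map θ) →
      θ ≫ g = 0 → (Scheme.Modules.pullback U.ι).map g = 0 := by
    intro U G θ hθ h
    haveI := hθ
    have h3 : (Scheme.Modules.restrictFunctor U.ι).map g = 0 := by
      rw [← cancel_epi ((Scheme.Modules.restrictFunctor U.ι).map θ), ← Functor.map_comp, h, comp_zero,
        Functor.map_zero]
    have hn := (Scheme.Modules.restrictFunctorIsoPullback U.ι).hom.naturality g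
    rw [h3, zero_comp] at hn
    exact (cancel_epi ((Scheme.Modules.restrictFunctorIsoPullback U.ι).hom.app F)).1 (hn.symm.trans comp_zero.symm)
  refine Groth.Agent.VanLocus.eq_zero_of_restrict g (fun b : Bool => if b then Up else Uq) (fun x => ?_) fun b => ?_
  · by_cases hx : x = p
    · exact ⟨false, hUq.ge (by rw [hx]; exact hpq)⟩
    · exact ⟨true, hUp.ge hx⟩
  · cases b
    · exact key Uq θ₂ hθ₂ h2
    · exact key Up θ₁ hθ₁ h1

end Groth.Agent.S14991
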