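import Groth.Statements.S14994
import Mathlib.RingTheory.Localization.Integer
import Mathlib.RingTheory.Localization.FractionRing
import Mathlib.Algebra.Module.Torsion.Basic
import Mathlib.Algebra.Module.LocalizedModule.IsLocalization
import Mathlib.LinearAlgebra.Dual.Lemmas
import Mathlib.RingTheory.Finiteness.Basic
import Mathlib.RingTheory.Localization.BaseChange

set_option autoImplicit false
universe u
open CAlg
open scoped TensorProduct

namespace Groth.Agent.S14994

/-- Let A be a Noetherian integrally closed domain, M a finitely generated torsion-free A-module, N a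
submodule of M and ι : M → M** the canonical map to the double dual. Write N** → M** for the double
dual of the inclusion N → M. Then every m ∈ M whose image ι(m) lies in the image of N** is a torsion
element modulo N: some nonzero a ∈ A satisfies a·m ∈ N. In other words the preimage of N** under ι
is contained in the saturation of N in M (the preimage of the torsion submodule of M/N), and the two
coincide when M/N is torsion-free. (The published statement asserts equality of the preimage with
the saturation for every N; for N = xA inside M = A = k[x] the saturation is all of M while N** has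
image xA = N under the identification M** = M, so only the inclusion stated here holds, and it is
the inclusion later used, for saturated N, where the two sides agree.) -/
theorem result (A : Type u) [CommRing A] [IsDomain A]
    [IsNoetherianRing A] [IsIntegrallyClosed A]
    (M : Type u) [AddCommGroup M] [Module A M] [Module.Finite A M] [NoZeroSMulDivisors A M]
    (N : Submodule A M) :
    (LinearMap.range N.subtype.dualMap.dualMap).comap (Module.Dual.eval A M) ≤
      (Submodule.torsion A (M ⧸ N)).comap N.mkQ := by
  classical
  intro m hm
  obtain ⟨F, hF⟩ := hm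
  by_contra hnt
  let K := FractionRing A
  let Q := M ⧸ N
  let j : Q →ₗ[A] K ⊗[A] Q := TensorProduct.mk A K Q 1
  have : IsLocalizedModule (nonZeroDivisors A) j := (isLocalizedModule_iff_isBaseChange (nonZeroDivisors A) K j).2 (TensorProduct.isBaseChange A Q K)
  have hj : j (N.mkQ m) ≠ 0 := fun h0 => by
    obtain ⟨s, hs⟩ := (IsLocalizedModule.eq_zero_iff (nonZeroDivisors A) j).1 h0
    exact hnt ⟨s, hs⟩
  obtain ⟨ψ, hψ⟩ : ∃ ψ : Module.Dual K (K ⊗[A] Q), ψ (j (N.mkQ m)) ≠ 0 := by
    by_contra h
    push Not at h
    exact hj ((Module.forall_dual_apply_eq_zero_iff K _).1 h)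
  obtain ⟨G, hG⟩ := (inferInstance : Module.Finite A Q).fg_top
  obtain ⟨⟨b, hb⟩, hint⟩ := IsLocalization.exist_integer_multiples_of_finset (nonZeroDivisors A) (G.image fun g => ψ (j g))
  let h := b • ((ψ.restrictScalars A).comp j)
  have hrange : ∀ q, h q ∈ LinearMap.range (Algebra.linearMap A K) := by
    intro q
    have hq : q ∈ Submodule.span A (G : Set Q) := hG ▸ Submodule.mem_top
    refine (Submodule.span_le (p := Submodule.comap h (LinearMap.range (Algebra.linearMap A K)))).2 (fun g hg => ?_) hq
    obtain ⟨a, ha⟩ := hint _ (Finset.mem_image_of_mem _ hg)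
    exact ⟨a, ha⟩
  let e := LinearEquiv.ofInjective (Algebra.linearMap A K) (IsFractionRing.injective A K)
  let φ : Module.Dual A M := (e.symm.toLinearMap.comp (h.codRestrict _ hrange)).comp N.mkQ
  have hφN : φ.comp N.subtype = 0 := LinearMap.ext fun x => by
    show φ (x : M) = 0
    have h1 : N.mkQ (x : M) = 0 := (Submodule.Quotient.mk_eq_zero N).2 x.2
    simp only [φ, LinearMap.comp_apply, h1, map_zero]
  have h1 : φ m = 0 := by
    have h2 := LinearMap.congr_fun hF φ
    rw [Module.Dual.eval_apply] at h2
    rw [← h2, LinearMap.dualMap_apply, show N.subtype.dualMap φ = 0 from hφN, map_zero]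
  have h2 : h (N.mkQ m) = 0 := by
    have h3 : e (φ m) = h.codRestrict _ hrange (N.mkQ m) := e.apply_symm_apply _
    rw [h1, map_zero] at h3
    exact congrArg Subtype.val h3.symm
  have h3 : algebraMap A K b * ψ (j (N.mkQ m)) = 0 := by
    rw [← Algebra.smul_def]; exact h2
  exact hψ ((IsLocalization.map_units K (⟨b, hb⟩ : nonZeroDivisors A)).mul_right_eq_zero.1 h3)

end Groth.Agent.S14994
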