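import Groth.Statements.S14997
import Mathlib

set_option autoImplicit false
open HilbPol

namespace Groth.Agent.S14997

open Polynomial in
/-- Let d and ℓ be natural numbers with ℓ + 1 ≤ d, let a be a nonzero rational number and let P, Q be
polynomials with rational coefficients, both of degree exactly d. For a polynomial R of degree e
write R(m) = Σ_i α_i(R) m^i / i! (so α_i(R) = i! · coeff_i(R)) and let r_ℓ(R) ∈ ℚ^ℓ be the vector
(α_{e−1}(R)/α_e(R), …, α_{e−ℓ}(R)/α_e(R)) of the ℓ coefficients after the leading one of the reduced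
polynomial R/α_e(R), ordered lexicographically. The polynomials P(m) − P(m − a) and Q(m) − Q(m − a)
have degree d − 1, and r_ℓ(P) ≤ r_ℓ(Q) lexicographically if and only if r_ℓ(P(m) − P(m − a)) ≤
r_ℓ(Q(m) − Q(m − a)) lexicographically (hence the same with strict inequalities, by exchanging P and
Q). When P and Q are the Hilbert polynomials of pure d-dimensional coherent sheaves E → F on a
polarized projective scheme and D is a hypersurface section of degree a containing no associated
point of E or F, the Hilbert polynomials of E|_D and F|_D are P(m) − P(m − a) and Q(m) − Q(m − a),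
and the two sides are the comparisons of the ℓ-truncated reduced Hilbert polynomials p_ℓ(E) ≥ p_ℓ(F)
and p_ℓ(E|_D) ≥ p_ℓ(F|_D). (The published statement is phrased for the sheaves; this row is the
statement about their Hilbert polynomials that the displayed coefficient formula yields.) -/
theorem result (d ℓ : ℕ) (hℓ : ℓ + 1 ≤ d) (a : ℚ) (ha : a ≠ 0)
    (P Q : ℚ[X]) (hP : P.natDegree = d) (hQ : Q.natDegree = d) (hP0 : P ≠ 0) (hQ0 : Q ≠ 0) :
    toLex (fun j : Fin ℓ => ((P).coeff (d - 1 - (j : ℕ)) * (Nat.factorial (d - 1 - (j : ℕ)) : ℚ)) / ((P).coeff (d) * (Nat.factorial (d) : ℚ))) ≤ toLex (fun j : Fin ℓ => ((Q).coeff (d - 1 - (j : ℕ)) * (Nat.factorial (d - 1 - (j : ℕ)) : ℚ)) / ((Q).coeff (d) * (Nat.factorial (d) : ℚ))) ↔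
      toLex (fun j : Fin ℓ => ((P - P.comp (X - C a)).coeff ((d - 1) - 1 - (j : ℕ)) * (Nat.factorial ((d - 1) - 1 - (j : ℕ)) : ℚ)) / ((P - P.comp (X - C a)).coeff ((d - 1)) * (Nat.factorial ((d - 1)) : ℚ))) ≤
        toLex (fun j : Fin ℓ => ((Q - Q.comp (X - C a)).coeff ((d - 1) - 1 - (j : ℕ)) * (Nat.factorial ((d - 1) - 1 - (j : ℕ)) : ℚ)) / ((Q - Q.comp (X - C a)).coeff ((d - 1)) * (Nat.factorial ((d - 1)) : ℚ))) := by
  classical
  let α : ℚ[X] → ℕ → ℚ := fun R m => R.coeff m * (Nat.factorial m : ℚ)
  let w : ℕ → ℚ := fun i => -((-a) ^ i / (Nat.factorial i : ℚ))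
  have hdiff : ∀ (R : ℚ[X]), R.natDegree = d → ∀ t, t + 1 ≤ d →
      α (R - R.comp (X - C a)) (d - 1 - t) = ∑ i ∈ Finset.range (t + 1), w (t + 1 - i) * α R (d - i) := by
    intro R hR t ht
    set k := d - 1 - t with hk
    have hcomp : R.comp (X - C a) = taylor (-a) R := by rw [taylor_apply, map_neg, sub_eq_add_neg]
    have hT : (taylor (-a) R).coeff k = ∑ i ∈ Finset.range (t + 2), ((i + k).choose k : ℚ) * R.coeff (i + k) * (-a) ^ i := by
      rw [taylor_coeff, eval_eq_sum_range' (n := t + 2)]
      · refine Finset.sum_congr rfl fun i _ => ?_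
        rw [hasseDeriv_coeff]
      · refine lt_of_le_of_lt (natDegree_hasseDeriv_le _ _) ?_
        omega
    simp only [α, w]
    rw [coeff_sub, hcomp, hT, Finset.sum_range_succ' _ (t + 1), Nat.zero_add, Nat.choose_self, Nat.cast_one, one_mul,
      pow_zero, mul_one, sub_add_cancel_right, ← Finset.sum_range_reflect (fun i => -((-a) ^ (t + 1 - i) / _) * _) (t + 1),
      neg_mul, Finset.sum_mul, ← Finset.sum_neg_distrib]
    refine Finset.sum_congr rfl fun i hi => ?_
    rw [Finset.mem_range] at hi
    rw [show t + 1 - (t + 1 - 1 - i) = i + 1 by omega, show d - (t + 1 - 1 - i) = i + 1 + k by omega]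
    have hf := Nat.choose_mul_factorial_mul_factorial (show k ≤ i + 1 + k by omega)
    rw [Nat.add_sub_cancel] at hf
    rw [← hf]
    push_cast
    field_simp
  have hlead : ∀ (R : ℚ[X]), R.natDegree = d → R ≠ 0 → α R d ≠ 0 := fun R hR h0 => by
    simp only [α]
    refine mul_ne_zero ?_ (by exact_mod_cast Nat.factorial_ne_zero d)
    rw [← hR]; exact leadingCoeff_ne_zero.2 h0
  let c : ℚ[X] → ℕ → ℚ := fun R i => α R (d - i) / α R d
  have hb : ∀ (R : ℚ[X]), R.natDegree = d → R ≠ 0 → ∀ j : ℕ, j + 2 ≤ d →
      α (R - R.comp (X - C a)) (d - 1 - 1 - j) / α (R - R.comp (X - C a)) (d - 1) =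
        c R (j + 1) + ∑ i ∈ Finset.range (j + 1), w (j + 2 - i) / a * c R i := by
    intro R hR h0 j hj
    have hl := hlead R hR h0
    have e0 : α (R - R.comp (X - C a)) (d - 1) = a * α R d := by
      have := hdiff R hR 0 (by omega)
      simpa [w] using this
    have e1 := hdiff R hR (j + 1) (by omega)
    rw [show d - 1 - (j + 1) = d - 1 - 1 - j by omega, Finset.sum_range_succ] at e1
    rw [e0, e1, show j + 1 + 1 - (j + 1) = 1 by omega, add_div, Finset.sum_div, add_comm]
    refine congrArg₂ (· + ·) ?_ (Finset.sum_congr rfl fun i _ => ?_)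
    · simp only [c, w]; field_simp; simp
    · simp only [c]; rw [div_mul_div_comm]
  have hxy : ∀ (x y x' y' : Fin ℓ → ℚ) , (∀ j, (∀ i, i < j → x i = y i) → x' j - y' j = x j - y j) →
      (toLex x ≤ toLex y ↔ toLex x' ≤ toLex y') := by
    intro x y x' y' hstep
    have heq : ∀ j : Fin ℓ, (∀ i, i < j → x i = y i) ↔ (∀ i, i < j → x' i = y' i) := by
      intro j
      constructor
      · intro h i hi
        have := hstep i fun l hl => h l (hl.trans hi)
        linarith [h i hi]
      · intro h i
        induction hm : (i : ℕ) using Nat.strong_induction_on generalizing i with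
        | _ m ih =>
          intro hi
          have := hstep i fun l hl => ih l (hm ▸ hl) l rfl (hl.trans hi)
          linarith [h i hi]
    have hlt : toLex x < toLex y ↔ toLex x' < toLex y' := by
      constructor
      · rintro ⟨j, hj, hlt⟩
        refine ⟨j, (heq j).1 hj, ?_⟩
        have h2 := hstep j hj
        simp only [Pi.toLex_apply] at hlt ⊢
        linarith
      · rintro ⟨j, hj, hlt⟩
        have hj' := (heq j).2 hj
        refine ⟨j, hj', ?_⟩
        have h2 := hstep j hj'
        simp only [Pi.toLex_apply] at hlt ⊢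
        linarith
    have he : x = y ↔ x' = y' := by
      constructor
      · intro h; funext i
        have := hstep i fun l _ => congrFun h l
        linarith [congrFun h i]
      · intro h
        have key : ∀ m : ℕ, ∀ i : Fin ℓ, (i : ℕ) = m → x i = y i := by
          intro m
          induction m using Nat.strong_induction_on with
          | _ m ih =>
            intro i hi
            have := hstep i fun l hl => ih l (hi ▸ hl) l rfl
            linarith [congrFun h i]
        exact funext fun i => key i i rfl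
    rw [le_iff_lt_or_eq, le_iff_lt_or_eq]
    exact or_congr hlt ((toLex.injective.eq_iff).trans (he.trans toLex.injective.eq_iff.symm))
  refine hxy _ _ _ _ fun j hj => ?_
  have hj2 : (j : ℕ) + 2 ≤ d := by omega
  show α (P - P.comp (X - C a)) (d - 1 - 1 - j) / α (P - P.comp (X - C a)) (d - 1) -
      α (Q - Q.comp (X - C a)) (d - 1 - 1 - j) / α (Q - Q.comp (X - C a)) (d - 1) = _
  rw [hb P hP hP0 j hj2, hb Q hQ hQ0 j hj2]
  have hsum : ∑ i ∈ Finset.range ((j : ℕ) + 1), w ((j : ℕ) + 2 - i) / a * c P i =
      ∑ i ∈ Finset.range ((j : ℕ) + 1), w ((j : ℕ) + 2 - i) / a * c Q i := by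
    refine Finset.sum_congr rfl fun i hi => congrArg _ ?_
    rw [Finset.mem_range] at hi
    rcases Nat.eq_zero_or_pos i with rfl | hpos
    · simp only [c, Nat.sub_zero]
      rw [div_self (hlead P hP hP0), div_self (hlead Q hQ hQ0)]
    · have := hj ⟨i - 1, by omega⟩ (show i - 1 < (j : ℕ) by omega)
      simp only [c, α]
      rwa [show d - i = d - 1 - (i - 1) by omega]
  rw [hsum, add_sub_add_right_eq_sub]
  simp only [c, α, show d - ((j : ℕ) + 1) = d - 1 - j by omega]

end Groth.Agent.S14997
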