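import Groth.Statements.S14998
import Groth.Agent.DvrDom.Valuative
import Groth.Agent.NoethSober.Basic
import Groth.Agent.RedSepLib.Basic
import Groth.Agent.CMFlat.BaseField
import Groth.Agent.FieldPow.Tangent
import Mathlib.AlgebraicGeometry.Morphisms.FinitePresentation
-- import your own Groth.Agent.* helpers here

set_option autoImplicit false
universe u
open CategoryTheory CategoryTheory.Limits AlgebraicGeometry
open AlgGrp

namespace Groth.Agent.S14998

open IsLocalRing Groth.Agent.DvrDom

/-- The inclusion of an injective ring map is dominant on spectra. -/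
theorem isDominant_specMap {A K : Type u} [CommRing A] [CommRing K] (φ : A →+* K)
    (h : Function.Injective φ) : IsDominant (Spec.map (CommRingCat.ofHom φ)) := by
  refine ⟨?_⟩
  show DenseRange (PrimeSpectrum.comap φ)
  rw [PrimeSpectrum.denseRange_comap_iff_ker_le_nilRadical, (RingHom.injective_iff_ker_eq_bot φ).1 h]
  exact bot_le

/-- Morphisms out of a local scheme agreeing after a local injective change of rings are equal. -/
theorem eq_of_local_comp {T : Scheme.{u}} {A R : Type u} [CommRing A] [IsLocalRing A] [CommRing R]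
    [IsLocalRing R] (ψ : A →+* R) [IsLocalHom ψ] (hψ : Function.Injective ψ)
    (g₁ g₂ : Spec (CommRingCat.of A) ⟶ T)
    (h : Spec.map (CommRingCat.ofHom ψ) ≫ g₁ = Spec.map (CommRingCat.ofHom ψ) ≫ g₂) : g₁ = g₂ := by
  have hc : Spec.map (CommRingCat.ofHom ψ) (closedPoint R) = closedPoint A := comap_closedPoint ψ
  have hpt : g₁ (closedPoint A) = g₂ (closedPoint A) := by
    rw [← hc, ← Scheme.Hom.comp_apply, h, Scheme.Hom.comp_apply]
  obtain ⟨σ₁, hσ₁⟩ := Cartier.exists_Spec_map_fromSpecStalk (A := CommRingCat.of A) g₁ hpt
  obtain ⟨σ₂, hσ₂⟩ := Cartier.exists_Spec_map_fromSpecStalk (A := CommRingCat.of A) g₂ rfl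
  refine hσ₁.symm.trans (Eq.trans ?_ hσ₂)
  congr 2
  have h2 : σ₁ ≫ CommRingCat.ofHom ψ = σ₂ ≫ CommRingCat.ofHom ψ := by
    apply Spec.map_injective
    rw [← cancel_mono (T.fromSpecStalk (g₂ (closedPoint A))), Spec.map_comp, Spec.map_comp, Category.assoc,
      Category.assoc, hσ₁, hσ₂, h]
  exact CommRingCat.hom_ext (RingHom.ext fun a => hψ (congrArg (fun t => t.hom a) h2))

/-- A point with values in a discrete valuation ring whose generic fibre is defined over the
fraction field of a dominated valuation ring is defined over that ring. -/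
theorem exists_descend_point {S : Scheme.{u}} (A : Type u) [CommRing A] [IsDomain A] [ValuationRing A]
    {L : Type u} [Field L] (φ : FractionRing A →+* L) (R : ValuationSubring L)
    (hR : ∀ a, φ (algebraMap A (FractionRing A) a) ∈ R)
    (hm : ∀ a ∈ maximalIdeal A, R.valuation (φ (algebraMap A (FractionRing A) a)) < 1)
    (s : Spec (CommRingCat.of (FractionRing A)) ⟶ S) (i : Spec (CommRingCat.of R) ⟶ S)
    (hi : Spec.map (CommRingCat.ofHom R.subtype) ≫ i = Spec.map (CommRingCat.ofHom φ) ≫ s) :
    ∃ l : Spec (CommRingCat.of A) ⟶ S,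
      Spec.map (CommRingCat.ofHom ((φ.comp (algebraMap A (FractionRing A))).codRestrict R.toSubring hR)) ≫ l = i ∧
      genericMap A ≫ l = s := by
  let K := FractionRing A
  let y' : S := i (closedPoint R)
  obtain ⟨σ, hσ⟩ := Cartier.exists_Spec_map_fromSpecStalk (A := CommRingCat.of R) i (rfl : _ = y')
  have hs0 : s (closedPoint K) = i (Spec.map (CommRingCat.ofHom R.subtype) (closedPoint L)) := by
    rw [← Scheme.Hom.comp_apply, hi, Scheme.Hom.comp_apply]
    congr 1
    exact Subsingleton.elim (α := PrimeSpectrum (FractionRing A)) _ _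
  have hspec : s (closedPoint K) ⤳ y' := by
    rw [hs0]
    exact (specializes_closedPoint _).map i.continuous
  obtain ⟨σK, hσK⟩ := Cartier.exists_Spec_map_fromSpecStalk (A := CommRingCat.of K) s
    (rfl : _ = s (closedPoint K))
  let toK : S.presheaf.stalk y' ⟶ CommRingCat.of K := S.presheaf.stalkSpecializes hspec ≫ σK
  have htoK : Spec.map toK ≫ S.fromSpecStalk y' = s := by
    rw [Spec.map_comp, Category.assoc, Scheme.SpecMap_stalkSpecializes_fromSpecStalk, hσK]
  have key : toK ≫ CommRingCat.ofHom φ = σ ≫ CommRingCat.ofHom R.subtype := by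
    apply Spec.map_injective
    rw [← cancel_mono (S.fromSpecStalk y')]
    have e1 : Spec.map (toK ≫ CommRingCat.ofHom φ) ≫ S.fromSpecStalk y' = Spec.map (CommRingCat.ofHom φ) ≫ s := by
      rw [Spec.map_comp_assoc, htoK]
    have e2 : Spec.map (σ ≫ CommRingCat.ofHom R.subtype) ≫ S.fromSpecStalk y' =
        Spec.map (CommRingCat.ofHom R.subtype) ≫ i :=
      (Spec.map_comp_assoc σ (CommRingCat.ofHom R.subtype) _).trans
        (congrArg (fun z => Spec.map (CommRingCat.ofHom R.subtype) ≫ z) hσ)
    exact e1.trans (hi.symm.trans e2.symm)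
  have key' : ∀ a, φ (toK.hom a) = R.subtype (σ.hom a) := fun a => congrArg (fun t => t.hom a) key
  have hmem : ∀ a, toK.hom a ∈ (algebraMap A K).range := by
    intro a
    by_contra hc
    rcases ValuationRing.isInteger_or_isInteger A (toK.hom a) with h | ⟨b, hb⟩
    · exact hc h
    · have hb1 : b ∈ maximalIdeal A := by
        rw [mem_maximalIdeal, mem_nonunits_iff]
        intro hu
        obtain ⟨b', hb'⟩ := isUnit_iff_exists_inv.1 hu
        refine hc ⟨b', ?_⟩
        have : algebraMap A K b * algebraMap A K b' = 1 := by rw [← map_mul, hb', map_one]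
        rw [hb] at this
        exact (inv_mul_eq_one₀ (fun h0 => hc ⟨0, by rw [map_zero, h0]⟩)).1 this |>.symm
      have h1 := hm b hb1
      have h2 : R.valuation (φ (toK.hom a)) ≤ 1 := by
        rw [key', ValuationSubring.valuation_le_one_iff]
        exact (σ.hom a).2
      have h0 : toK.hom a ≠ 0 := fun h0 => hc ⟨0, by rw [map_zero, h0]⟩
      have h3 : R.valuation (φ (toK.hom a)) * R.valuation (φ (algebraMap A K b)) = 1 := by
        rw [← map_mul, ← map_mul, hb, mul_inv_cancel₀ h0, map_one, map_one]
      have h4 : R.valuation (φ (toK.hom a)) * R.valuation (φ (algebraMap A K b)) < 1 :=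
        lt_of_le_of_lt (mul_le_of_le_one_left zero_le' h2) h1
      exact h4.ne h3
  let τ : S.presheaf.stalk y' →+* A :=
    (RingEquiv.ofBijective (algebraMap A K).rangeRestrict
      ⟨fun a b e => IsFractionRing.injective A K (congrArg Subtype.val e),
        (algebraMap A K).rangeRestrict_surjective⟩).symm.toRingHom.comp
      (toK.hom.codRestrict (algebraMap A K).range hmem)
  have hτ : ∀ a, algebraMap A K (τ a) = toK.hom a := fun a =>
    congrArg Subtype.val ((RingEquiv.ofBijective (algebraMap A K).rangeRestrict
      ⟨fun a b e => IsFractionRing.injective A K (congrArg Subtype.val e),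
        (algebraMap A K).rangeRestrict_surjective⟩).apply_symm_apply _)
  refine ⟨Spec.map (CommRingCat.ofHom τ) ≫ S.fromSpecStalk y', ?_, ?_⟩
  · rw [← Spec.map_comp_assoc, show CommRingCat.ofHom τ ≫
      CommRingCat.ofHom ((φ.comp (algebraMap A (FractionRing A))).codRestrict R.toSubring hR) = σ from ?_, hσ]
    refine CommRingCat.hom_ext (RingHom.ext fun a => Subtype.ext ?_)
    show φ (algebraMap A K (τ a)) = R.subtype (σ.hom a)
    rw [hτ, key']
  · rw [← Spec.map_comp_assoc, show CommRingCat.ofHom τ ≫
      CommRingCat.ofHom (algebraMap A (FractionRing A)) = toK from ?_, htoK]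
    exact CommRingCat.hom_ext (RingHom.ext hτ)

/-- Let k be a field and G a group scheme over k (a group object of schemes over Spec k) acting on a
k-scheme R of finite type. Let f : R → S and q : S → T be morphisms of k-schemes of finite type such
that q is separated, f is invariant under the action, and the composite p = q ∘ f is G-universally
closed: p is invariant and for every discrete valuation ring A over k with fraction field K, every
K-point of R and A-point of T over k forming a commutative square with p admit an A-point of R over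
T restricting on Spec K to a translate of the given K-point by a K-point of G. Then the
set-theoretic image f(R) is closed in S, and the reduced closed subscheme of S with underlying set
f(R) is proper over T. (The published statement fixes a connected algebraic group over the complex
numbers; this row allows any group scheme over any field, which is what the printed argument uses.) -/
theorem result (k : Type u) [Field k]
    (G R S T : Over (Spec (CommRingCat.of k))) [GrpObj G]
    [LocallyOfFiniteType R.hom] [CompactSpace ↥R.left] [LocallyOfFiniteType S.hom] [CompactSpace ↥S.left]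
    [LocallyOfFiniteType T.hom] [CompactSpace ↥T.left]
    (a : AlgGrp.Action G R) (f : R ⟶ S) (q : S ⟶ T) [IsSeparated q.left]
    (hf : W4c2lssmoduli.IsInvariantMor a f) (hp : W4c2lssmoduli.IsGUnivClosed a (f ≫ q)) :
    IsClosed (Set.range f.left.base) ∧
      IsProper ((Scheme.IdealSheafData.vanishingIdeal
          (⟨closure (Set.range f.left.base), isClosed_closure⟩ : TopologicalSpace.Closeds ↥S.left)).subschemeι ≫ q.left) := by
  haveI : IsLocallyNoetherian R.left := LocallyOfFiniteType.isLocallyNoetherian R.hom
  haveI : IsLocallyNoetherian S.left := LocallyOfFiniteType.isLocallyNoetherian S.hom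
  haveI : IsLocallyNoetherian T.left := LocallyOfFiniteType.isLocallyNoetherian T.hom
  haveI : LocallyOfFiniteType f.left := by
    haveI : LocallyOfFiniteType (f.left ≫ S.hom) := by rw [Over.w f]; infer_instance
    exact locallyOfFiniteType_of_comp f.left S.hom
  haveI : LocallyOfFiniteType q.left := by
    haveI : LocallyOfFiniteType (q.left ≫ T.hom) := by rw [Over.w q]; infer_instance
    exact locallyOfFiniteType_of_comp q.left T.hom
  haveI : LocallyOfFinitePresentation f.left := inferInstance
  haveI : QuasiCompact f.left := inferInstance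
  haveI : IsNoetherian S.left := {}
  -- lifting along `f` through a translate
  have lift_pt : ∀ (A : Type u) [CommRing A] [IsDomain A] [IsDiscreteValuationRing A]
      (L : Type u) [Field L] [Algebra A L] [IsFractionRing A L]
      (sA : Spec (CommRingCat.of A) ⟶ Spec (CommRingCat.of k)) (x : Spec (CommRingCat.of L) ⟶ R.left)
      (y : Spec (CommRingCat.of A) ⟶ T.left),
      x ≫ R.hom = Spec.map (CommRingCat.ofHom (algebraMap A L)) ≫ sA → y ≫ T.hom = sA →
      x ≫ f.left ≫ q.left = Spec.map (CommRingCat.ofHom (algebraMap A L)) ≫ y →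
      ∃ i : Spec (CommRingCat.of A) ⟶ S.left, (∃ i' : Spec (CommRingCat.of A) ⟶ R.left, i' ≫ f.left = i) ∧
        i ≫ q.left = y ∧ Spec.map (CommRingCat.ofHom (algebraMap A L)) ≫ i = x ≫ f.left := by
    intro A _ _ _ L _ _ _ sA x y hx hy hxy
    let g : Over.mk (Spec.map (CommRingCat.ofHom (algebraMap A L)) ≫ sA) ⟶ R := Over.homMk x hx
    let h : Over.mk sA ⟶ T := Over.homMk y hy
    obtain ⟨i, γ, hi, hγ⟩ := hp.2 A L sA g h (Over.OverMorphism.ext hxy)
    refine ⟨i.left ≫ f.left, ⟨i.left, rfl⟩, ?_, ?_⟩
    · rw [Category.assoc]; exact congrArg CommaMorphism.left hi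
    · have h2 : (CartesianMonoidalCategory.lift γ g ≫ a.act) ≫ f = g ≫ f := by
        rw [Category.assoc, hf, ← Category.assoc, CartesianMonoidalCategory.lift_snd]
      have h3 := congrArg (fun z => (z ≫ f).left) hγ
      simp only [h2] at h3
      exact (Category.assoc _ _ _).symm.trans h3
  -- the image is closed
  have hclosed : IsClosed (Set.range f.left.base) := by
    refine Groth.Agent.NoethSober.isClosed_of_stableUnderSpecialization ?_ ?_
    · have h := f.left.isConstructible_image (s := Set.univ) Topology.IsConstructible.univ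
      rwa [Set.image_univ] at h
    rintro _ y' hspec ⟨x, rfl⟩
    by_cases hne : y' = f.left x
    · exact ⟨x, hne.symm⟩
    obtain ⟨A, g, hA, hgc, hg⟩ := exists_dvr_through f.left x y' hspec hne
    let sA : Spec (CommRingCat.of A) ⟶ Spec (CommRingCat.of k) := g ≫ S.hom
    obtain ⟨i, ⟨i', hi'⟩, hiq, hgen⟩ := lift_pt A (R.left.residueField x) sA (R.left.fromSpecResidueField x)
      (g ≫ q.left)
      (by
        rw [show (algebraMap A (R.left.residueField x)) = A.subtype from rfl, ← Category.assoc, hg,
          Category.assoc, Over.w f])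
      (by rw [Category.assoc, Over.w q])
      (by
        rw [show (algebraMap A (R.left.residueField x)) = A.subtype from rfl, ← Category.assoc, ← hg,
          Category.assoc])
    haveI : IsDominant (Spec.map (CommRingCat.ofHom (algebraMap A (R.left.residueField x)))) :=
      isDominant_specMap _ (IsFractionRing.injective A (R.left.residueField x))
    have heq : i = g := by
      refine ext_of_isDominant_of_isSeparated q.left hiq
        (Spec.map (CommRingCat.ofHom (algebraMap A (R.left.residueField x)))) ?_
      rw [hgen]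
      exact hg.symm
    refine ⟨i' (closedPoint A), ?_⟩
    rw [← hgc, ← heq, ← hi', Scheme.Hom.comp_apply]
  refine ⟨hclosed, ?_⟩
  let Ic := Scheme.IdealSheafData.vanishingIdeal
    (⟨closure (Set.range f.left.base), isClosed_closure⟩ : TopologicalSpace.Closeds ↥S.left)
  let ι := Ic.subschemeι
  let m := ι ≫ q.left
  show IsProper m
  have hrange : Set.range ι = Set.range f.left.base := by
    rw [Scheme.IdealSheafData.range_subschemeι, Scheme.IdealSheafData.coe_support_vanishingIdeal]
    exact hclosed.closure_eq
  haveI : CompactSpace ↥Ic.subscheme := ι.isClosedEmbedding.compactSpace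
  haveI : QuasiCompact m := inferInstance
  haveI : IsSeparated m := inferInstance
  haveI : LocallyOfFiniteType m := inferInstance
  refine isProper_of_dvr m fun A _ _ _ z y hzy => ?_
  haveI : IsDominant (genericMap A) := isDominant_specMap _ (IsFractionRing.injective A (FractionRing A))
  suffices hex : ∃ l : Spec (CommRingCat.of A) ⟶ Ic.subscheme, l ≫ m = y ∧ genericMap A ≫ l = z by
    obtain ⟨l, h1, h2⟩ := hex
    exact ⟨l, ⟨h1, h2⟩, fun l' h => ext_of_isDominant_of_isSeparated m (h.1.trans h1.symm) (genericMap A)
      (h.2.trans h2.symm)⟩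
  -- an extension over which the generic point lifts
  let s := z ≫ ι
  let v := Limits.pullback.snd f.left s
  obtain ⟨x₀, hx₀⟩ : s (closedPoint (FractionRing A)) ∈ Set.range f.left.base := by
    rw [← hrange]
    exact ⟨z (closedPoint (FractionRing A)), (Scheme.Hom.comp_apply z ι _).symm⟩
  obtain ⟨p, -, -⟩ := Scheme.Pullback.exists_preimage_pullback (f := f.left) (g := s) x₀
    (closedPoint (FractionRing A)) hx₀
  letI : (Limits.pullback f.left s).Over (Spec (CommRingCat.of (FractionRing A))) := ⟨v⟩
  haveI : LocallyOfFiniteType ((Limits.pullback f.left s) ↘ Spec (CommRingCat.of (FractionRing A))) :=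
    inferInstanceAs (LocallyOfFiniteType v)
  let L := (Limits.pullback f.left s).residueField p
  let φ : FractionRing A →+* L := (CMFlat.resHom (FractionRing A) (Limits.pullback f.left s) p).hom
  have hφ : Spec.map (CommRingCat.ofHom φ) = (Limits.pullback f.left s).fromSpecResidueField p ≫ v := by
    rw [show CommRingCat.ofHom φ = CMFlat.resHom (FractionRing A) (Limits.pullback f.left s) p from rfl,
      CMFlat.resHom, Spec.map_preimage]
    rfl
  have hφE : φ.EssFiniteType := CMFlat.essFiniteType_resHom (FractionRing A) (Limits.pullback f.left s) p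
  let u : Spec (CommRingCat.of L) ⟶ R.left := (Limits.pullback f.left s).fromSpecResidueField p ≫ Limits.pullback.fst f.left s
  have hu : u ≫ f.left = Spec.map (CommRingCat.ofHom φ) ≫ s := by
    rw [hφ, Category.assoc, Category.assoc, Limits.pullback.condition]
  obtain ⟨π, hπ⟩ := IsDiscreteValuationRing.exists_irreducible A
  have hπ0 : (φ.comp (algebraMap A (FractionRing A))) π ≠ 0 := fun h =>
    hπ.ne_zero ((map_eq_zero_iff _ (IsFractionRing.injective A (FractionRing A))).1
      ((map_eq_zero φ).1 h))
  have hE : (φ.comp (algebraMap A (FractionRing A))).EssFiniteType :=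
    RingHom.EssFiniteType.comp (by
      rw [RingHom.essFiniteType_algebraMap]
      exact .of_isLocalization _ (nonZeroDivisors A)) hφE
  obtain ⟨W, hW, hWmem, hWm⟩ := exists_dvr_dominating_hom (A := A)
    (φ.comp (algebraMap A (FractionRing A))) hE ((IsLocalRing.mem_maximalIdeal π).2 hπ.not_isUnit) hπ0
  let ψ : A →+* W := (φ.comp (algebraMap A (FractionRing A))).codRestrict W.toSubring hWmem
  have hψinj : Function.Injective ψ := fun a b h =>
    IsFractionRing.injective A (FractionRing A) (φ.injective (congrArg Subtype.val h))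
  haveI : IsLocalHom ψ := by
    refine ⟨fun a ha => ?_⟩
    by_contra hu
    have h1 := hWm a ((IsLocalRing.mem_maximalIdeal a).2 hu)
    exact (W.valuation_lt_one_iff (ψ a)).mpr h1 ha
  let y₁ : Spec (CommRingCat.of W) ⟶ T.left := Spec.map (CommRingCat.ofHom ψ) ≫ y
  have hsq : u ≫ f.left ≫ q.left = Spec.map (CommRingCat.ofHom (algebraMap W L)) ≫ y₁ := by
    rw [← Category.assoc, hu, Category.assoc, show s ≫ q.left = genericMap A ≫ y from
      (Category.assoc _ _ _).trans hzy, show (algebraMap W L) = W.subtype from rfl, ← Category.assoc,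
      ← Category.assoc, ← Spec.map_comp, ← Spec.map_comp]
    rfl
  obtain ⟨i, ⟨i', hi'⟩, hiq, hgen⟩ := lift_pt W L (y₁ ≫ T.hom) u y₁ (by
    rw [← Category.assoc, ← hsq]
    simp only [Category.assoc]
    rw [Over.w q, Over.w f]) rfl hsq
  obtain ⟨l, hl1, hl2⟩ := exists_descend_point A φ W hWmem hWm s i (by rw [← hu]; exact hgen)
  have hlrange : Set.range l ⊆ Set.range ι := by
    rw [hrange]
    rintro _ ⟨b, rfl⟩
    have hb : b ⤳ closedPoint A := specializes_closedPoint b
    by_cases hbc : b = closedPoint A
    · refine ⟨i' (closedPoint W), ?_⟩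
      rw [hbc, ← comap_closedPoint ψ]
      show _ = l (Spec.map (CommRingCat.ofHom ψ) (closedPoint W))
      rw [← Scheme.Hom.comp_apply, ← Scheme.Hom.comp_apply, hl1, hi']
    · have hb2 : b = genericMap A (closedPoint (FractionRing A)) := by
        rcases eq_or_ne (b : PrimeSpectrum A).asIdeal ⊥ with h | h
        · apply PrimeSpectrum.ext
          rw [h]
          exact ((RingHom.injective_iff_ker_eq_bot _).1 (IsFractionRing.injective A (FractionRing A))).symm.trans
            (by rw [RingHom.ker_eq_comap_bot]; congr 1; exact (IsLocalRing.maximalIdeal_eq_bot).symm)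
        · exact absurd (PrimeSpectrum.ext (IsLocalRing.eq_maximalIdeal
            ((b : PrimeSpectrum A).2.isMaximal h))) hbc
      rw [hb2, ← Scheme.Hom.comp_apply, hl2]
      exact ⟨x₀, hx₀⟩
  obtain ⟨l₀, hl₀⟩ := Groth.Agent.RedSepLib.exists_lift_of_isReduced l ι hlrange
  refine ⟨l₀, ?_, ?_⟩
  · refine eq_of_local_comp ψ hψinj _ _ ?_
    rw [show l₀ ≫ m = l ≫ q.left from by rw [← hl₀]; exact (Category.assoc _ _ _).symm, ← Category.assoc, hl1]
    exact hiq
  · rw [← cancel_mono ι, Category.assoc, hl₀, hl2]

end Groth.Agent.S14998
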