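import Groth.Statements.S14999
import Groth.Agent.InvFinite.Criterion
import Groth.Agent.Nagata.Reduced
import Groth.Agent.Nagata.Japanese
import Groth.Agent.GeomProp.NormalColim

set_option autoImplicit false
set_option backward.isDefEq.respectTransparency false
set_option linter.style.haveILetI false
universe u
open CategoryTheory CategoryTheory.Limits AlgebraicGeometry
open AlgGrp

namespace Groth.Agent.S14999

theorem fromSpecStalk_comp {X : Scheme.{u}} (x : X) {A : CommRingCat.{u}} (f : X ⟶ Spec A) :
    X.fromSpecStalk x ≫ f = Spec.map (((Scheme.ΓSpecIso A).inv ≫ f.appTop) ≫ X.presheaf.germ ⊤ x trivial) := by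
  have h := Scheme.toSpecΓ_naturality f
  rw [← SpecMap_ΓSpecIso_hom] at h
  have hf : f = X.toSpecΓ ≫ Spec.map ((Scheme.ΓSpecIso A).inv ≫ f.appTop) := by
    rw [Spec.map_comp, ← reassoc_of% h, ← Spec.map_comp, Iso.inv_hom_id, Spec.map_id, Category.comp_id]
  conv_lhs => rw [hf]
  rw [Scheme.fromSpecStalk_toSpecΓ_assoc, ← Spec.map_comp]

variable {k : Type u} [Field k] {G Y : Over (Spec (CommRingCat.of k))} [GrpObj G] {A : Type u} [CommRing A]
  [Algebra k A]

theorem germ_mem_of_invariant [IsIntegral Y.left] {a : AlgGrp.Action G Y}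
    {p : Y ⟶ Over.mk (Spec.map (CommRingCat.ofHom (algebraMap k A)))} (hp : W4c2lssmoduli.IsGUnivClosed a p)
    (V : ValuationSubring Y.left.functionField) [IsDiscreteValuationRing V]
    (hV : ∀ c : A, Y.left.presheaf.germ ⊤ (genericPoint Y.left) trivial
      (((Scheme.ΓSpecIso (CommRingCat.of A)).inv ≫ p.left.appTop) c) ∈ V)
    (s : Γ(Y.left, ⊤))
    (hs : a.act.left.appTop s = (CartesianMonoidalCategory.snd G Y).left.appTop s) :
    Y.left.presheaf.germ ⊤ (genericPoint Y.left) trivial s ∈ V := by
  let φ : CommRingCat.of k ⟶ CommRingCat.of A := CommRingCat.ofHom (algebraMap k A)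
  let θ : A →+* Y.left.functionField :=
    (((Scheme.ΓSpecIso (CommRingCat.of A)).inv ≫ p.left.appTop) ≫ Y.left.presheaf.germ ⊤ (genericPoint Y.left) trivial).hom
  let ψ : A →+* V := θ.codRestrict V.toSubring hV
  let sA : Spec (CommRingCat.of V) ⟶ Spec (CommRingCat.of k) := Spec.map (φ ≫ CommRingCat.ofHom ψ)
  let jK := Spec.map (CommRingCat.ofHom (algebraMap V Y.left.functionField))
  have hψ : CommRingCat.ofHom ψ ≫ CommRingCat.ofHom (algebraMap V Y.left.functionField) =
      ((Scheme.ΓSpecIso (CommRingCat.of A)).inv ≫ p.left.appTop) ≫ Y.left.presheaf.germ ⊤ (genericPoint Y.left) trivial := rfl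
  have hg : Y.left.fromSpecStalk (genericPoint Y.left) ≫ p.left = jK ≫ Spec.map (CommRingCat.ofHom ψ) := by
    rw [fromSpecStalk_comp, ← Spec.map_comp, hψ]
  let h : Over.mk sA ⟶ Over.mk (Spec.map φ) := Over.homMk (Spec.map (CommRingCat.ofHom ψ)) (by
    show Spec.map (CommRingCat.ofHom ψ) ≫ Spec.map φ = sA
    rw [← Spec.map_comp])
  let g : Over.mk (jK ≫ sA) ⟶ Y := Over.homMk (Y.left.fromSpecStalk (genericPoint Y.left)) (by
    show Y.left.fromSpecStalk (genericPoint Y.left) ≫ Y.hom = jK ≫ sA
    rw [← Over.w p]
    show Y.left.fromSpecStalk (genericPoint Y.left) ≫ p.left ≫ Spec.map φ = _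
    rw [reassoc_of% hg, ← Spec.map_comp])
  obtain ⟨i, γ, -, hi⟩ := hp.2 V Y.left.functionField sA g h (by
    ext : 1
    exact hg)
  have h1 : jK ≫ i.left = (CartesianMonoidalCategory.lift γ g).left ≫ a.act.left := congrArg CommaMorphism.left hi
  have h2 : (CartesianMonoidalCategory.lift γ g).left ≫ (CartesianMonoidalCategory.snd G Y).left =
      Y.left.fromSpecStalk (genericPoint Y.left) :=
    congrArg CommaMorphism.left (CartesianMonoidalCategory.lift_snd γ g)
  have h3 : jK.appTop (i.left.appTop s) = (Y.left.fromSpecStalk (genericPoint Y.left)).appTop s := by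
    have h1' := congrArg (fun q => (Scheme.Hom.appTop q) s) h1
    have h2' := congrArg (fun q => (Scheme.Hom.appTop q) s) h2
    simp only [Scheme.Hom.comp_appTop, CommRingCat.comp_apply] at h1' h2'
    rw [hs] at h1'
    exact h1'.trans h2'
  rw [Scheme.fromSpecStalk_appTop] at h3
  have h4 := congrArg (Scheme.ΓSpecIso Y.left.functionField).hom h3
  simp only [CommRingCat.comp_apply] at h4
  have h5 : (Scheme.ΓSpecIso Y.left.functionField).hom (jK.appTop (i.left.appTop s)) =
      algebraMap V Y.left.functionField ((Scheme.ΓSpecIso (CommRingCat.of V)).hom (i.left.appTop s)) :=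
    ConcreteCategory.congr_hom (Scheme.ΓSpecIso_naturality (CommRingCat.ofHom (algebraMap V Y.left.functionField))) _
  have h6 : Y.left.presheaf.germ ⊤ (genericPoint Y.left) trivial s =
      algebraMap V Y.left.functionField ((Scheme.ΓSpecIso (CommRingCat.of V)).hom (i.left.appTop s)) := by
    rw [← h5, h4]
    simp
  rw [h6]
  exact SetLike.coe_mem _

end Groth.Agent.S14999

namespace Groth.Agent.S14999

/-- Let k be a field, A a finitely generated k-algebra and G a group scheme over k acting on an integral
k-scheme Y of finite type; let p : Y → Spec A be a morphism over k which is G-universally closed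
(invariant under the action, and for every discrete valuation ring over k with fraction field K
every commutative square of a K-point of Y and a point of Spec A with values in that ring lifts, up
to translation of the K-point by a K-point of G, to a point of Y with values in the ring). Call a
global function s on Y invariant when its pullbacks along the action morphism and along the
projection G ×_k Y → Y agree. Then the invariant global functions form a finite A-module: there are
finitely many invariant functions such that every invariant function is a linear combination of them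
with coefficients from A (acting on Γ(Y, O_Y) through p). (The published statement is for an
integral G-stable closed subscheme Y of a G-universally closed scheme over Spec A, with k the
complex numbers and G a connected algebraic group; such a Y is itself G-universally closed over Spec
A, and the printed argument uses only a field k and a group scheme G.) -/
theorem result (k : Type u) [Field k]
    (G Y : Over (Spec (CommRingCat.of k))) [GrpObj G]
    [LocallyOfFiniteType Y.hom] [CompactSpace ↥Y.left] [IsIntegral Y.left]
    (A : Type u) [CommRing A] [Algebra k A] [Algebra.FiniteType k A]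
    (a : AlgGrp.Action G Y)
    (p : Y ⟶ Over.mk (Spec.map (CommRingCat.ofHom (algebraMap k A))))
    (hp : W4c2lssmoduli.IsGUnivClosed a p) :
    ∃ t : Finset ↑Γ(Y.left, ⊤),
      (∀ s ∈ t, a.act.left.appTop s = (CartesianMonoidalCategory.snd G Y).left.appTop s) ∧
      ∀ s : ↑Γ(Y.left, ⊤), a.act.left.appTop s = (CartesianMonoidalCategory.snd G Y).left.appTop s →
        ∃ c : ↑Γ(Y.left, ⊤) → A,
          s = ∑ x ∈ t, ((Scheme.ΓSpecIso (CommRingCat.of A)).inv ≫ p.left.appTop) (c x) * x := by
  classical
  let φ : CommRingCat.of k ⟶ CommRingCat.of A := CommRingCat.ofHom (algebraMap k A)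
  let ιA : CommRingCat.of A ⟶ Γ(Y.left, ⊤) := (Scheme.ΓSpecIso (CommRingCat.of A)).inv ≫ p.left.appTop
  let θ := Y.left.presheaf.germ ⊤ (genericPoint Y.left) trivial
  have hθ : Function.Injective θ := germ_injective_of_isIntegral Y.left _ _
  letI : Algebra A Γ(Y.left, ⊤) := ιA.hom.toAlgebra
  letI : Algebra A Y.left.functionField := (ιA ≫ θ).hom.toAlgebra
  letI : Algebra k Y.left.functionField := (φ ≫ ιA ≫ θ).hom.toAlgebra
  haveI : IsScalarTower k A Y.left.functionField := IsScalarTower.of_algebraMap_eq fun _ => rfl
  haveI : IsNoetherianRing A := Algebra.FiniteType.isNoetherianRing k A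
  obtain ⟨W, hW, hηW, -⟩ := exists_isAffineOpen_mem_and_subset (X := Y.left) (U := ⊤) (x := genericPoint Y.left) trivial
  haveI : Nonempty W := ⟨⟨_, hηW⟩⟩
  haveI := functionField_isFractionRing_of_isAffineOpen Y.left W hW
  let ιW : CommRingCat.of k ⟶ Γ(Y.left, W) := (Scheme.ΓSpecIso (CommRingCat.of k)).inv ≫ Y.hom.appLE ⊤ W le_top
  letI : Algebra k Γ(Y.left, W) := ιW.hom.toAlgebra
  haveI : Algebra.FiniteType k Γ(Y.left, W) := by
    show ιW.hom.FiniteType
    exact (HasRingHomProperty.appLE @LocallyOfFiniteType Y.hom inferInstance ⟨⊤, isAffineOpen_top _⟩ ⟨W, hW⟩ le_top).comp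
      (RingHom.FiniteType.of_surjective _ (Scheme.ΓSpecIso (CommRingCat.of k)).symm.commRingCatIsoToRingEquiv.surjective)
  have hkK : ιW ≫ Y.left.germToFunctionField W = φ ≫ ιA ≫ θ := by
    have hY : Y.hom.appTop = (Spec.map φ).appTop ≫ p.left.appTop := by
      rw [← Over.w p, Scheme.Hom.comp_appTop]
      rfl
    show ((Scheme.ΓSpecIso (CommRingCat.of k)).inv ≫ Y.hom.appTop ≫ Y.left.presheaf.map (homOfLE le_top).op) ≫ _ = _
    rw [hY]
    simp only [Category.assoc]
    rw [← reassoc_of% (Scheme.ΓSpecIso_inv_naturality φ)]
    simp only [Scheme.germToFunctionField, TopCat.Presheaf.germ_res]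
    rfl
  haveI : IsScalarTower k Γ(Y.left, W) Y.left.functionField :=
    IsScalarTower.of_algebraMap_eq fun c => (ConcreteCategory.congr_hom hkK c).symm
  haveI : Algebra.EssFiniteType Γ(Y.left, W) Y.left.functionField :=
    Algebra.EssFiniteType.of_isLocalization Y.left.functionField (nonZeroDivisors Γ(Y.left, W))
  haveI : Algebra.EssFiniteType k Y.left.functionField := Algebra.EssFiniteType.comp k Γ(Y.left, W) Y.left.functionField
  haveI : Algebra.EssFiniteType A Y.left.functionField := Algebra.EssFiniteType.of_comp k A Y.left.functionField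
  haveI : Module.Finite A (integralClosure A Y.left.functionField) := Nagata.finite_closure_reduced
    (Nagata.isNagata_of_finiteType (R := k) (GeomProp.isN2_quotient_field k))
  obtain ⟨t0, ht0⟩ := Algebra.FiniteType.out (R := k) (A := Γ(Y.left, W))
  let S : Set Y.left.functionField := algebraMap Γ(Y.left, W) Y.left.functionField '' t0
  have hS : Subfield.closure (Set.range (algebraMap A Y.left.functionField) ∪ S) = ⊤ := by
    refine top_le_iff.1 fun z _ => ?_
    obtain ⟨b, c, -, rfl⟩ := IsFractionRing.div_surjective (A := Γ(Y.left, W)) z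
    have hW' : ∀ b : Γ(Y.left, W), algebraMap Γ(Y.left, W) Y.left.functionField b ∈
        Subfield.closure (Set.range (algebraMap A Y.left.functionField) ∪ S) := fun b => by
      have hb : b ∈ Algebra.adjoin k (t0 : Set Γ(Y.left, W)) := ht0 ▸ Algebra.mem_top
      induction hb using Algebra.adjoin_induction with
      | mem y hy => exact Subfield.subset_closure (Or.inr ⟨y, hy, rfl⟩)
      | algebraMap c =>
        rw [← IsScalarTower.algebraMap_apply]
        exact Subfield.subset_closure (Or.inl ⟨algebraMap k A c, rfl⟩)
      | add y z _ _ hy hz => rw [map_add]; exact add_mem hy hz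
      | mul y z _ _ hy hz => rw [map_mul]; exact mul_mem hy hz
    exact div_mem (hW' b) (hW' c)
  have hinv : ∀ c : A, a.act.left.appTop (ιA c) = (CartesianMonoidalCategory.snd G Y).left.appTop (ιA c) := fun c => by
    have h := congrArg CommaMorphism.left hp.1
    exact congrArg (fun q => (Scheme.Hom.appTop q) ((Scheme.ΓSpecIso (CommRingCat.of A)).inv c)) h
  let M : Submodule A Γ(Y.left, ⊤) :=
    { carrier := {s | a.act.left.appTop s = (CartesianMonoidalCategory.snd G Y).left.appTop s}
      zero_mem' := (map_zero a.act.left.appTop.hom).trans (map_zero (CartesianMonoidalCategory.snd G Y).left.appTop.hom).symm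
      add_mem' := fun {x y} hx hy => by
        rw [Set.mem_ofPred_eq] at hx hy ⊢
        rw [map_add, map_add, hx, hy]
      smul_mem' := fun c x hx => by
        rw [Set.mem_ofPred_eq] at hx ⊢
        show a.act.left.appTop (ιA c * x) = (CartesianMonoidalCategory.snd G Y).left.appTop (ιA c * x)
        rw [map_mul, map_mul, hx, hinv] }
  have hint : ∀ s ∈ M, IsIntegral A (θ s) := fun s hs =>
    InvFinite.isIntegral_of_forall_dvr S (t0.finite_toSet.image _) hS _ fun V _ hV =>
      germ_mem_of_invariant hp V hV s hs
  let f : M →ₗ[A] integralClosure A Y.left.functionField :=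
    { toFun := fun s => ⟨θ s.1, hint s.1 s.2⟩
      map_add' := fun x y => Subtype.ext (map_add θ.hom x.1 y.1)
      map_smul' := fun c x => Subtype.ext (map_mul θ.hom (ιA c) x.1) }
  haveI : IsNoetherian A (integralClosure A Y.left.functionField) := isNoetherian_of_isNoetherianRing_of_finite A _
  haveI : Module.Finite A M := Module.Finite.of_injective f fun x y h =>
    Subtype.ext (hθ (congrArg Subtype.val h))
  obtain ⟨t, ht⟩ := Module.Finite.iff_fg.1 (inferInstance : Module.Finite A M)
  refine ⟨t, fun s hs => (ht ▸ Submodule.subset_span hs : s ∈ M), fun s hs => ?_⟩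
  have hsM : s ∈ Submodule.span A (t : Set Γ(Y.left, ⊤)) := ht.symm ▸ hs
  obtain ⟨c, -, hc⟩ := Submodule.mem_span_finset.1 hsM
  exact ⟨c, hc.symm⟩

end Groth.Agent.S14999
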