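import Groth.Statements.S15002
import Groth.Agent.StabLib.Simple
import Groth.Agent.PicBdd.Hilb
import Groth.Agent.Intersect.ProjSpace
import Groth.Agent.TMul.Pullback
import Groth.Agent.TMul.RelAmple
import Groth.Agent.CohFinite.Ample

set_option autoImplicit false
universe u
open CategoryTheory CategoryTheory.Limits AlgebraicGeometry
open Coherent

namespace Groth.Agent.S15002

open Polynomial in
/-- Let k be an algebraically closed field and X an integral scheme, smooth and proper over k, with a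
closed immersion ι into projective N-space over k compatible with the structure maps; write E(m) = E
⊗ ι^*O(m). Let 1 ≤ ℓ ≤ d and let E be a coherent O_X-module whose Hilbert polynomial P (χ(E(m)) =
P(m) for all integers m) is nonzero of degree d, which is pure of dimension d (every nonzero
coherent subsheaf of E has support of Krull dimension d) and ℓ-stable: writing R(m) = Σ_i α_i(R)
m^i/i! for a polynomial R, for every coherent subsheaf F of E with Hilbert polynomial Q such that 0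
< α_d(Q) < α_d(P), the vector (α_{d−1}(Q)/α_d(Q), …, α_{d−ℓ}(Q)/α_d(Q)) is strictly smaller than
(α_{d−1}(P)/α_d(P), …, α_{d−ℓ}(P)/α_d(P)) in the lexicographic order. Then E is simple: every
endomorphism φ of E is multiplication by a scalar, i.e. there is c ∈ k with φ(s) = c·s for every
local section s of E. (The published statement gives more generally, for such E, that the
endomorphisms of the restriction of E to the complement of any closed subset meeting the support of
E in codimension at least ℓ + 1 are the scalars; this row is the case of the empty closed subset.) -/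
theorem result (k : Type u) [Field k] [IsAlgClosed k]
    (X : Scheme.{u}) [X.Over (Spec (CommRingCat.of k))] [IsIntegral X]
    [Smooth (X ↘ Spec (CommRingCat.of k))] [IsProper (X ↘ Spec (CommRingCat.of k))]
    (N : ℕ) (ι : X ⟶ CohB1.ProjSpace N k) [IsClosedImmersion ι] (hι : ι ≫ CohB1.ProjSpace.toSpec N k = X ↘ Spec (CommRingCat.of k))
    (d ℓ : ℕ) (hℓ : 1 ≤ ℓ) (hℓd : ℓ ≤ d)
    (E : X.Modules) (hE : Coh.IsCoh E) (P : ℚ[X]) (hPd : P.natDegree = d) (hP0 : P ≠ 0)
    (hP : ∀ m : ℤ, (Curv2.euler k X (Pic13.twistOn k ι E m) : ℚ) = P.eval (m : ℚ))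
    (hpure : ∀ (F : X.Modules) (j : F ⟶ E), Mono j → Coh.IsCoh F → ¬ IsZero F →
      topologicalKrullDim (CohB1.support F) = (d : WithBot ℕ∞))
    (hst : ∀ (F : X.Modules) (j : F ⟶ E), Mono j → Coh.IsCoh F → ∀ Q : ℚ[X],
      (∀ m : ℤ, (Curv2.euler k X (Pic13.twistOn k ι F m) : ℚ) = Q.eval (m : ℚ)) →
        0 < Q.coeff d → Q.coeff d < P.coeff d →
          toLex (fun j : Fin ℓ => ((Q).coeff (d - 1 - (j : ℕ)) * (Nat.factorial (d - 1 - (j : ℕ)) : ℚ)) / ((Q).coeff d * (Nat.factorial d : ℚ))) < toLex (fun j : Fin ℓ => ((P).coeff (d - 1 - (j : ℕ)) * (Nat.factorial (d - 1 - (j : ℕ)) : ℚ)) / ((P).coeff d * (Nat.factorial d : ℚ))))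
    (φ : E ⟶ E) :
    ∃ c : k, ∀ (V : X.Opens) (s : E.val.obj (Opposite.op V)),
      (φ.val.app (Opposite.op V)) s = (X.ringCatSheaf.obj.map (homOfLE (le_top : V ≤ ⊤)).op (Coh.toGlobal (X ↘ Spec (CommRingCat.of k)) c : X.ringCatSheaf.obj.obj (Opposite.op ⊤))) • s := by
  have hι' : (X ↘ Spec (CommRingCat.of k)) = ι ≫ CohB1.ProjSpace.toSpec N k := hι.symm
  have hL : CohB1.IsAmple ((Scheme.Modules.pullback ι).obj (Twist.twistProjSpace N k 1)) :=
    TMul.isAmple_pullback_of_isAffineHom ι (Groth.Agent.Intersect.isAmple_twistProj_one N k)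
  haveI := Groth.Agent.CurveRR.isNoetherian_of_proper k X
  let I := Groth.Agent.StabLib.Sh.inv k hL
  have conv : ∀ F : X.Modules, Coh.IsCoh F → ∀ Q : ℚ[X],
      (∀ m : ℤ, (Curv2.euler k X (Pic13.twistOn k ι F m) : ℚ) = Q.eval (m : ℚ)) → Q = I.hp F := by
    intro F hF Q hQ
    refine Groth.Agent.StabLib.eq_of_eval_nat fun m => ?_
    obtain ⟨a⟩ := Groth.Agent.Intersect.nonempty_twist_pow k N m
    obtain ⟨b⟩ := TMul.nonempty_pullPowIso ι (Twist.twistProjSpace N k 1) m
    have h1 := hQ m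
    have h2 := Groth.Agent.StabLib.Sh.isHilbPoly_hp k hL.1 hF m
    rw [Int.cast_natCast] at h1
    rw [← h1, ← show _ = (I.hp F).eval (m : ℚ) from h2]
    exact congrArg _ (Groth.Agent.CurveRR.euler_eq_of_iso
      (PicGrp.tensorModIso (Iso.refl F) ((Scheme.Modules.pullback ι).mapIso a ≪≫ b.symm)))
  have hPe := conv E hE P hP
  have h0 : ¬ IsZero E := fun h => hP0 (hPe.trans (I.hp_zero h hE))
  have hp : Groth.Agent.StabLib.Inv.Pure I d E :=
    (Groth.Agent.StabLib.Sh.isPure_iff k hL E d).1 hpure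
  refine Groth.Agent.StabLib.Sh.scalar_of_isIso k hL hE h0 (fun ψ hψ => ?_) φ
  have hE' : I.ok E := hE
  have hK := I.ok_kernel ψ hE' hE'
  have hI := Groth.Agent.StabLib.Inv.ok_image hE' hE' ψ
  have e := Groth.Agent.StabLib.Inv.hp_image hE' hE' ψ
  have haI := hp.alpha_pos (Abelian.image.ι ψ) hI (Groth.Agent.StabLib.Inv.not_isZero_image hE' hE' ψ hψ)
  by_cases hK0 : IsZero (kernel ψ)
  · haveI : Mono ψ := Preadditive.mono_of_isZero_kernel ψ hK0
    have e' := Groth.Agent.StabLib.Inv.hp_cokernel I ψ hE' hE'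
    rw [left_eq_add] at e'
    have hz := (Groth.Agent.StabLib.Inv.hp_eq_zero_iff I (I.ok_cokernel ψ hE' hE')).1 e'
    haveI : Epi ψ := Abelian.epi_of_cokernel_π_eq_zero _ (hz.eq_of_tgt _ _)
    exact isIso_of_mono_of_epi ψ
  exfalso
  have haK := hp.alpha_pos (kernel.ι ψ) hK hK0
  have hfac : (0 : ℚ) < (d.factorial : ℚ) := Nat.cast_pos.2 d.factorial_pos
  simp only [StabCat.alpha, mul_pos_iff_of_pos_left hfac] at haI haK
  have key : ∀ (F : X.Modules) (j : F ⟶ E), Mono j → Coh.IsCoh F → 0 < (I.hp F).coeff d →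
      (I.hp F).coeff d < P.coeff d →
      toLex (fun j : Fin ℓ => ((I.hp F).coeff (d - 1 - (j : ℕ)) * (Nat.factorial (d - 1 - (j : ℕ)) : ℚ)) / ((I.hp F).coeff d * (Nat.factorial d : ℚ))) < toLex (fun j : Fin ℓ => ((P).coeff (d - 1 - (j : ℕ)) * (Nat.factorial (d - 1 - (j : ℕ)) : ℚ)) / ((P).coeff d * (Nat.factorial d : ℚ))) := by
    intro F j hj hF h1 h2
    obtain ⟨Q, hQ⟩ := Groth.Agent.PicBdd.exists_hilbert_poly k ι hF
    have e2 := conv F hF Q hQ
    subst e2
    exact hst F j hj hF _ hQ h1 h2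
  rw [← hPe] at e
  obtain ⟨i₁, hi₁, hi₁'⟩ := key _ (kernel.ι ψ) inferInstance hK haK
    (by rw [e, Polynomial.coeff_add]; linarith)
  obtain ⟨i₂, hi₂, hi₂'⟩ := key _ (Abelian.image.ι ψ) inferInstance hI haI
    (by rw [e, Polynomial.coeff_add]; linarith)
  simp only [e, Polynomial.coeff_add] at hi₁ hi₁' hi₂ hi₂'
  have mediant : ∀ a b a' b' : ℚ, 0 < b → 0 < b' →
      (a / b ≤ (a + a') / (b + b') → a' / b' ≤ (a + a') / (b + b') →
        a / b = (a + a') / (b + b') ∧ a' / b' = (a + a') / (b + b')) := by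
    intro a b a' b' hb hb' h1 h2
    rw [div_le_div_iff₀ hb (add_pos hb hb')] at h1
    rw [div_le_div_iff₀ hb' (add_pos hb hb')] at h2
    constructor <;> rw [div_eq_div_iff (ne_of_gt (by assumption)) (ne_of_gt (add_pos hb hb'))] <;>
      linarith
  have hbK := mul_pos haK hfac
  have hbI := mul_pos haI hfac
  simp only [add_mul] at hi₁ hi₁' hi₂ hi₂'
  rcases le_total i₁ i₂ with h | h
  · refine (ne_of_lt hi₁') (mediant _ _ _ _ hbK hbI hi₁'.le ?_).1
    rcases h.eq_or_lt with h | h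
    · rw [h]; exact hi₂'.le
    · exact (hi₂ _ h).le
  · refine (ne_of_lt hi₂') (mediant _ _ _ _ hbK hbI ?_ hi₂'.le).2
    rcases h.eq_or_lt with h | h
    · rw [h]; exact hi₁'.le
    · exact (hi₁ _ h).le

end Groth.Agent.S15002
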