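import Groth.Statements.S15008
import Groth.Agent.TFExt.Canonical

set_option autoImplicit false
universe u
open CategoryTheory
open TFCurv

namespace Groth.Agent.S15008

/-- Let O be a one-dimensional Noetherian local domain with algebraically closed residue field whose
integral closure O~ in its fraction field K is a finite O-module, and suppose O is not Gorenstein.
If w is an O-submodule of K with O ⊆ w ⊆ O~ whose injective dimension as an O-module is at most one
(a canonical ideal placed between O and O~), then length(w/O) + length(O~/C) = 2 · length(O~/O),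
where C is the conductor of O in O~. -/
theorem result (O : Type u) [CommRing O] [IsDomain O] [IsNoetherianRing O] [IsLocalRing O] (hdim : ringKrullDim O = 1) [IsAlgClosed (IsLocalRing.ResidueField O)] (K : Type u) [Field K] [Algebra O K] [IsFractionRing O K] (hfin : Module.Finite O ↥(integralClosure O K)) (hG : ¬ LocCoh.IsGorensteinLocalRing O) (ω : Submodule O K) (hω1 : (1 : Submodule O K) ≤ ω) (hω2 : ω ≤ (Subalgebra.toSubmodule (integralClosure O K))) (hωinj : HasInjectiveDimensionLT (ModuleCat.of O ↥ω) 2) : Module.length O (↥ω ⧸ Submodule.comap ω.subtype (1 : Submodule O K)) + Module.length O (↥(integralClosure O K) ⧸ ((1 : Submodule O K).colon (Subalgebra.toSubmodule (integralClosure O K))) • (⊤ : Submodule O ↥(integralClosure O K))) = 2 * Module.length O (↥(integralClosure O K) ⧸ Submodule.comap (Subalgebra.toSubmodule (integralClosure O K)).subtype (1 : Submodule O K)) := by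
  classical
  haveI : Ring.KrullDimLE 1 O := by rw [Ring.krullDimLE_iff, hdim]; norm_num
  have hnf : ¬ IsField O := fun h => by
    rw [ringKrullDim_eq_zero_of_isField h] at hdim
    exact zero_ne_one hdim
  set B := integralClosure O K
  set T := Subalgebra.toSubmodule B with hT
  have hTfg : T.FG := Module.Finite.iff_fg.1 hfin
  have hωfg : ω.FG := by
    haveI : Module.Finite O ↥T := hfin
    exact Module.Finite.iff_fg.1 (Module.Finite.of_injective (Submodule.inclusion hω2) (Submodule.inclusion_injective hω2))
  have hω : Groth.Agent.TFExt.IsLat ω := ⟨fun h => one_ne_zero (eq_bot_iff.2 (h ▸ hω1) : (1 : Submodule O K) = ⊥), hωfg⟩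
  set C := (1 : Submodule O K) / T with hC
  have hC1 : C ≤ 1 := fun x hx => by simpa using Submodule.mem_div_iff_forall_mul_mem.1 hx 1 B.one_mem
  have hone : (1 : Submodule O K) ≤ T := fun x hx => by
    obtain ⟨a, rfl⟩ := Submodule.mem_one.1 hx
    exact B.algebraMap_mem a
  have hcolon : ((1 : Submodule O K).colon T) • (⊤ : Submodule O ↥B) = C.comap T.subtype := by
    refine le_antisymm (Submodule.smul_le.2 fun r hr z _ => ?_) fun z hz => ?_
    · show r • (z : K) ∈ C
      refine Submodule.mem_div_iff_forall_mul_mem.2 fun y hy => ?_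
      rw [smul_mul_assoc]
      exact Submodule.mem_colon.1 hr _ (B.mul_mem z.2 hy)
    · have hz' : (z : K) ∈ C := hz
      obtain ⟨a, ha⟩ := Submodule.mem_one.1 (hC1 hz')
      have hac : a ∈ (1 : Submodule O K).colon T := Submodule.mem_colon.2 fun p hp => by
        rw [Algebra.smul_def, ha]
        exact Submodule.mem_div_iff_forall_mul_mem.1 hz' p hp
      have e : a • (1 : ↥B) = z := Subtype.ext (by
        rw [Subalgebra.coe_smul, Subalgebra.coe_one, Algebra.smul_def, mul_one]; exact ha)
      exact e ▸ Submodule.smul_mem_smul hac Submodule.mem_top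
  rw [hcolon]
  show Groth.Agent.TFExt.len ω 1 + Groth.Agent.TFExt.len T C = 2 * Groth.Agent.TFExt.len T 1
  have hd := Groth.Agent.TFExt.div_eq_conductor hnf hω hωinj hω1 B hω2
  have hd1 : ω / (1 : Submodule O K) = ω := le_antisymm
    (fun y hy => by simpa using Submodule.mem_div_iff_forall_mul_mem.1 hy 1 (Submodule.mem_one.2 ⟨1, map_one _⟩))
    (fun y hy => Submodule.mem_div_iff_forall_mul_mem.2 fun z hz => by
      obtain ⟨q, rfl⟩ := Submodule.mem_one.1 hz
      rw [mul_comm, ← Algebra.smul_def]; exact ω.smul_mem q hy)
  have key := Groth.Agent.TFExt.len_div hnf hω hωinj (Groth.Agent.TFExt.isLat_one (O := O) (K := K)) hTfg hone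
  rw [hd1, hd, ← hC, Groth.Agent.TFExt.len_trans hC1 hω1] at key
  rw [Groth.Agent.TFExt.len_trans hC1 hone, two_mul, ← add_assoc, add_comm (Groth.Agent.TFExt.len ω 1), key]

end Groth.Agent.S15008
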