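import Groth.Statements.S15011
import Mathlib

set_option autoImplicit false
universe u
open TFCurv

namespace Groth.Agent.S15011

open scoped nonZeroDivisors
open IsLocalRing

section
variable {O : Type u} [CommRing O]

lemma len_comp {X Y F : Type u} [AddCommGroup X] [Module O X] [AddCommGroup Y] [Module O Y]
    [AddCommGroup F] [Module O F] (f : X →ₗ[O] F) (hf : Function.Injective f) (φ : Y →ₗ[O] X) :
    Module.length O (F ⧸ LinearMap.range (f ∘ₗ φ)) =
      Module.length O (X ⧸ LinearMap.range φ) + Module.length O (F ⧸ LinearMap.range f) := by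
  refine Module.length_eq_add_of_exact
    (Submodule.mapQ (LinearMap.range φ) (LinearMap.range (f ∘ₗ φ)) f (by
      rintro _ ⟨y, rfl⟩; exact ⟨y, rfl⟩))
    (Submodule.factor (LinearMap.range_comp_le_range φ f)) ?_ ?_ ?_
  · rw [injective_iff_map_eq_zero]
    intro q hq
    obtain ⟨x, rfl⟩ := Submodule.Quotient.mk_surjective _ q
    obtain ⟨y, hy⟩ : f x ∈ LinearMap.range (f ∘ₗ φ) :=
      (Submodule.Quotient.mk_eq_zero _).1 (by simpa using hq)
    exact (Submodule.Quotient.mk_eq_zero _).2 ⟨y, hf hy⟩
  · exact Submodule.factor_surjective _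
  · intro q
    obtain ⟨z, rfl⟩ := Submodule.Quotient.mk_surjective _ q
    constructor
    · intro hz
      obtain ⟨x, hx⟩ : z ∈ LinearMap.range f := (Submodule.Quotient.mk_eq_zero _).1 (by simpa using hz)
      exact ⟨Submodule.Quotient.mk x, by simp [hx]⟩
    · rintro ⟨x, hx⟩
      obtain ⟨x, rfl⟩ := Submodule.Quotient.mk_surjective _ x
      rw [← hx]
      simp

lemma len_cancel {M F : Type u} [AddCommGroup M] [Module O M] [AddCommGroup F] [Module O F]
    (f : M →ₗ[O] F) (hf : Function.Injective f) (x : O) (hx : Function.Injective (x • LinearMap.id : F →ₗ[O] F))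
    (hfin : Module.length O (F ⧸ LinearMap.range f) ≠ ⊤) :
    Module.length O (M ⧸ LinearMap.range (x • LinearMap.id : M →ₗ[O] M)) =
      Module.length O (F ⧸ LinearMap.range (x • LinearMap.id : F →ₗ[O] F)) := by
  have h1 := len_comp f hf (x • LinearMap.id : M →ₗ[O] M)
  have h2 := len_comp (x • LinearMap.id : F →ₗ[O] F) hx f
  have e : f ∘ₗ (x • LinearMap.id : M →ₗ[O] M) = (x • LinearMap.id : F →ₗ[O] F) ∘ₗ f := by
    ext m; simp
  rw [e, h2, add_comm] at h1
  exact ((WithTop.add_right_cancel hfin) h1).symm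

lemma len_pi_quot {B : Type u} [AddCommGroup B] [Module O B] (r : ℕ) (x : O) :
    Module.length O ((Fin r → B) ⧸ LinearMap.range (x • LinearMap.id : (Fin r → B) →ₗ[O] (Fin r → B))) =
      r * Module.length O (B ⧸ LinearMap.range (x • LinearMap.id : B →ₗ[O] B)) := by
  let g : (Fin r → B) →ₗ[O] (Fin r → B ⧸ LinearMap.range (x • LinearMap.id : B →ₗ[O] B)) :=
    LinearMap.pi fun i => (Submodule.mkQ _) ∘ₗ LinearMap.proj i
  have hg : Function.Surjective g := fun y =>
    ⟨fun i => (y i).out, funext fun i => by simp [g]⟩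
  have hk : LinearMap.ker g = LinearMap.range (x • LinearMap.id : (Fin r → B) →ₗ[O] (Fin r → B)) := by
    ext z
    constructor
    · intro hz
      have h : ∀ i, ∃ b, x • b = z i := fun i => by
        simpa [g] using (Submodule.Quotient.mk_eq_zero _).1 (congrFun hz i)
      choose b hb using h
      exact ⟨b, funext fun i => by simp [hb]⟩
    · rintro ⟨b, rfl⟩
      refine funext fun i => (Submodule.Quotient.mk_eq_zero _).2 ⟨b i, ?_⟩
      simp
  rw [← hk, (g.quotKerEquivOfSurjective hg).length_eq, Module.length_pi, ENat.card_eq_coe_fintype_card,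
    Fintype.card_fin]

lemma spanFinrank_le_length [IsLocalRing O] {M : Type u} [AddCommGroup M] [Module O M]
    [Module.Finite O M] {x : O} (hx : x ∈ maximalIdeal O) :
    ((⊤ : Submodule O M).spanFinrank : ℕ∞) ≤
      Module.length O (M ⧸ LinearMap.range (x • LinearMap.id : M →ₗ[O] M)) := by
  rw [IsLocalRing.spanFinrank_eq_finrank_quotient _ Module.Finite.fg_top]
  let f : M →ₗ[O] (↥(⊤ : Submodule O M) ⧸ (maximalIdeal O) • (⊤ : Submodule O ↥(⊤ : Submodule O M))) :=
    Submodule.mkQ _ ∘ₗ Submodule.topEquiv.symm.toLinearMap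
  have hle : LinearMap.range (x • LinearMap.id : M →ₗ[O] M) ≤ LinearMap.ker f := by
    rintro _ ⟨m, rfl⟩
    simp only [LinearMap.mem_ker, LinearMap.smul_apply, LinearMap.id_apply, map_smul]
    rw [← Submodule.Quotient.mk_out (f m), ← Submodule.Quotient.mk_smul, Submodule.Quotient.mk_eq_zero]
    exact Submodule.smul_mem_smul hx Submodule.mem_top
  have hs : Function.Surjective (Submodule.liftQ _ f hle) := by
    rw [← LinearMap.range_eq_top, Submodule.range_liftQ, LinearMap.range_eq_top]
    exact (Submodule.mkQ_surjective _).comp Submodule.topEquiv.symm.surjective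
  refine le_trans ?_ (Module.length_le_of_surjective _ hs)
  haveI : (maximalIdeal O).IsMaximal := inferInstance
  letI := Ideal.Quotient.field (maximalIdeal O)
  rw [Module.length_eq_of_surjective (R := O ⧸ maximalIdeal O) Ideal.Quotient.mk_surjective,
    Module.length_eq_finrank (O ⧸ maximalIdeal O)]

lemma exists_generator [IsLocalRing O] [IsNoetherianRing O] [Infinite (ResidueField O)]
    {B : Type u} [CommRing B] [IsDomain B] [IsPrincipalIdealRing B] [Algebra O B]
    [FaithfulSMul O B] [Algebra.IsIntegral O B] (hm : maximalIdeal O ≠ ⊥)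
    (hfinM : {P : Ideal B | P.IsMaximal}.Finite) :
    ∃ x : O, x ∈ maximalIdeal O ∧ x ≠ 0 ∧
      (maximalIdeal O).map (algebraMap O B) = Ideal.span {algebraMap O B x} := by
  classical
  obtain ⟨g, hg⟩ := (IsPrincipalIdealRing.principal ((maximalIdeal O).map (algebraMap O B))).principal
  replace hg : (maximalIdeal O).map (algebraMap O B) = Ideal.span {g} := hg
  have hg0 : g ≠ 0 := by
    rintro rfl
    rw [Ideal.span_singleton_eq_bot.2 rfl,
      Ideal.map_eq_bot_iff_of_injective (FaithfulSMul.algebraMap_injective O B)] at hg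
    exact hm hg
  haveI : Finite {P : Ideal B | P.IsMaximal} := hfinM.to_subtype
  let W : {P : Ideal B | P.IsMaximal} → Submodule O (maximalIdeal O) := fun P =>
    Submodule.comap (maximalIdeal O).subtype (Ideal.comap (algebraMap O B) (P.1 * Ideal.span {g}))
  have hW : ∀ P, W P ≠ ⊤ := by
    intro P h
    have hle : Ideal.span {g} ≤ P.1 * Ideal.span {g} := by
      rw [← hg, Ideal.map_le_iff_le_comap]
      intro a ha
      have := (h.symm ▸ Submodule.mem_top : (⟨a, ha⟩ : maximalIdeal O) ∈ W P)
      simpa [W, hg] using this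
    obtain ⟨b, hb, hbg⟩ := Ideal.mem_mul_span_singleton.1 (hle (Ideal.mem_span_singleton_self g))
    have : b = 1 := mul_right_cancel₀ hg0 (by rw [hbg, one_mul])
    exact P.2.ne_top ((Ideal.eq_top_iff_one _).2 (this ▸ hb))
  let V : {P : Ideal B | P.IsMaximal} → Submodule (ResidueField O) (CotangentSpace O) := fun P =>
    Submodule.span (ResidueField O) (((W P).map (maximalIdeal O).toCotangent : Submodule O _) : Set (CotangentSpace O))
  have hV : ∀ P, V P ≠ ⊤ := by
    intro P h
    apply hW P
    have h' := congrArg (Submodule.restrictScalars O) h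
    rw [Submodule.restrictScalars_span _ _ IsLocalRing.residue_surjective, Submodule.span_eq,
      Submodule.restrictScalars_top] at h'
    have h'' := congrArg (Submodule.comap (maximalIdeal O).toCotangent) h'
    rw [Submodule.comap_map_eq, Submodule.comap_top] at h''
    refine top_le_iff.1 (Submodule.le_of_le_smul_of_le_jacobson_bot
      (I := maximalIdeal O) ?_ (by rw [IsLocalRing.jacobson_eq_maximalIdeal ⊥ bot_ne_top]) ?_)
    · exact IsNoetherian.noetherian _
    · refine h''.ge.trans (sup_le_sup_left (fun z hz => ?_) _)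
      exact (Submodule.Quotient.mk_eq_zero _).1 hz
  obtain ⟨v, hv⟩ : ∃ v : CotangentSpace O, ∀ P, v ∉ V P := by
    by_contra h
    push Not at h
    obtain ⟨P, hP⟩ := Subspace.exists_eq_top_of_iUnion_eq_univ (p := V)
      (Set.eq_univ_of_forall fun v => Set.mem_iUnion.2 (h v))
    exact hV P hP
  obtain ⟨a, rfl⟩ := (maximalIdeal O).toCotangent_surjective v
  obtain ⟨b, hb⟩ := Ideal.mem_span_singleton'.1 (hg ▸ Ideal.mem_map_of_mem (algebraMap O B) a.2)
  have hbu : IsUnit b := by
    by_contra hu
    obtain ⟨P, hP, hbP⟩ := exists_max_ideal_of_mem_nonunits hu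
    refine hv ⟨P, hP⟩ (Submodule.subset_span ⟨a, ?_, rfl⟩)
    show algebraMap O B a ∈ P * Ideal.span {g}
    exact Ideal.mem_mul_span_singleton.2 ⟨b, hbP, hb⟩
  refine ⟨a, a.2, ?_, ?_⟩
  · intro h0
    rw [h0, map_zero] at hb
    exact mul_ne_zero hbu.ne_zero hg0 hb
  · rw [hg, ← hb]
    exact (Ideal.span_singleton_mul_left_unit hbu g).symm

lemma quot_finite_length [IsDomain O] [IsNoetherianRing O] [Ring.KrullDimLE 1 O]
    {G : Type u} [AddCommGroup G] [Module O G] [Module.Finite O G] (t : O) (ht : t ≠ 0)
    (h : ∀ y : G, t • y = 0) : Module.length O G ≠ ⊤ := by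
  obtain ⟨s, hs⟩ := (Module.Finite.fg_top : (⊤ : Submodule O G).FG)
  let F : ((↥s : Type u) → O ⧸ Ideal.span {t}) →ₗ[O] G :=
    ∑ i : (↥s : Type u), (Submodule.liftQ (Ideal.span {t}) (LinearMap.toSpanSingleton O G (i : G)) (by
      intro a ha
      obtain ⟨c, rfl⟩ := Ideal.mem_span_singleton'.1 ha
      simp [mul_smul, h])) ∘ₗ LinearMap.proj i
  have hF : Function.Surjective F := by
    rw [← LinearMap.range_eq_top, ← top_le_iff, ← hs, Submodule.span_le]
    intro y hy
    classical
    refine ⟨Pi.single ⟨y, hy⟩ 1, ?_⟩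
    simp only [F, LinearMap.coe_sum, Finset.sum_apply, LinearMap.comp_apply, LinearMap.proj_apply]
    rw [Finset.sum_eq_single ⟨y, hy⟩]
    · rw [Pi.single_eq_same, ← map_one (Ideal.Quotient.mk (Ideal.span {t})), ← Ideal.Quotient.mk_eq_mk,
        Submodule.liftQ_apply]
      simp
    · intro i _ hi
      rw [Pi.single_eq_of_ne hi, map_zero]
    · simp
  refine ne_top_of_le_ne_top ?_ (Module.length_le_of_surjective F hF)
  rw [Module.length_pi, ENat.card_eq_coe_fintype_card]
  refine WithTop.mul_ne_top (ENat.coe_ne_top _) ?_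
  refine Module.length_ne_top_iff.2 ?_
  exact isFiniteLength_quotient_span_singleton O (mem_nonZeroDivisors_of_ne_zero ht)

lemma rank_le {B : Type u} {K : Type u} [Field K] [CommRing B] [Algebra B K] [IsFractionRing B K]
    {V : Type u} [AddCommGroup V] [Module B V] [Module K V] [IsScalarTower B K V] [Module.Finite K V]
    (F : Submodule B V) {r : ℕ} (b : Module.Basis (Fin r) B F) : r ≤ Module.finrank K V := by
  have li : LinearIndependent B (fun i => ((b i : F) : V)) :=
    LinearIndependent.map' b.linearIndependent F.subtype F.ker_subtype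
  rw [LinearIndependent.iff_fractionRing B K] at li
  simpa using li.fintype_card_le_finrank

lemma core [IsDomain O] [IsNoetherianRing O] [IsLocalRing O] [Ring.KrullDimLE 1 O]
    {B : Type u} [CommRing B] [IsDomain B] [Algebra O B] [Module.Finite O B] [FaithfulSMul O B]
    {G : Type u} [AddCommGroup G] [Module B G] [Module O G] [IsScalarTower O B G]
    [Module.IsTorsionFree B G] [Module.Finite O G]
    (M : Type u) [AddCommGroup M] [Module O M] [Module.Finite O M]
    {r : ℕ} (bG : Module.Basis (Fin r) B G) (n : ℕ) (hr : r ≤ n)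
    {x : O} (hxm : x ∈ maximalIdeal O) (hx0 : x ≠ 0)
    (hxmap : (maximalIdeal O).map (algebraMap O B) = Ideal.span {algebraMap O B x})
    (f : M →ₗ[O] G) (hf : Function.Injective f)
    (hsat : ∀ y : G, ∃ c : O⁰, c • y ∈ LinearMap.range f) :
    ((⊤ : Submodule O M).spanFinrank : ℕ∞) ≤
      (n : ℕ∞) * Module.length O (B ⧸ (maximalIdeal O) • (⊤ : Submodule O B)) := by
  classical
  have hquot : Module.length O (G ⧸ LinearMap.range f) ≠ ⊤ := by
    obtain ⟨s, hs⟩ := (Module.Finite.fg_top : (⊤ : Submodule O G).FG)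
    obtain ⟨t, ht⟩ : ∃ t : O⁰, ∀ y ∈ s, t • y ∈ LinearMap.range f := by
      choose c hc using hsat
      refine ⟨∏ y ∈ s, c y, fun y hy => ?_⟩
      rw [← Finset.prod_erase_mul s c hy, mul_smul]
      exact Submodule.smul_of_tower_mem _ _ (hc y)
    refine quot_finite_length (t : O) (nonZeroDivisors.coe_ne_zero t) fun q => ?_
    obtain ⟨y, rfl⟩ := Submodule.Quotient.mk_surjective _ q
    rw [← Submodule.Quotient.mk_smul, Submodule.Quotient.mk_eq_zero]
    have : (⊤ : Submodule O G) ≤ (LinearMap.range f).comap ((t : O) • LinearMap.id) := by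
      rw [← hs, Submodule.span_le]
      exact fun y hy => ht y hy
    exact this Submodule.mem_top
  have hxF : Function.Injective (x • LinearMap.id : G →ₗ[O] G) := by
    rw [injective_iff_map_eq_zero]
    intro y hy
    have : (algebraMap O B x) • y = 0 := by rw [algebraMap_smul]; exact hy
    exact (smul_eq_zero.1 this).resolve_left
      ((map_ne_zero_iff _ (FaithfulSMul.algebraMap_injective O B)).2 hx0)
  refine (spanFinrank_le_length hxm).trans ?_
  rw [len_cancel f hf x hxF hquot]
  let e : G ≃ₗ[O] (Fin r → B) := bG.equivFun.restrictScalars O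
  have he : (LinearMap.range (x • LinearMap.id : G →ₗ[O] G)).map e.toLinearMap =
      LinearMap.range (x • LinearMap.id : (Fin r → B) →ₗ[O] _) := by
    rw [← LinearMap.range_comp]
    have : e.toLinearMap ∘ₗ (x • LinearMap.id) = (x • LinearMap.id) ∘ₗ e.toLinearMap := by
      ext y; simp
    rw [this, LinearMap.range_comp_of_range_eq_top _ (LinearEquiv.range e)]
  rw [(Submodule.Quotient.equiv _ _ e he).length_eq, len_pi_quot]
  have hB : LinearMap.range (x • LinearMap.id : B →ₗ[O] B) = maximalIdeal O • (⊤ : Submodule O B) := by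
    rw [Ideal.smul_top_eq_map, hxmap]
    ext b
    rw [Submodule.restrictScalars_mem, Ideal.mem_span_singleton']
    exact ⟨fun ⟨c, hc⟩ => ⟨c, by rw [← hc]; simp [Algebra.smul_def, mul_comm]⟩,
      fun ⟨c, hc⟩ => ⟨c, by rw [← hc]; simp [Algebra.smul_def, mul_comm]⟩⟩
  rw [hB]
  exact mul_le_mul_left (Nat.cast_le.2 hr) _

lemma core_sub [IsDomain O] [IsNoetherianRing O] [IsLocalRing O] [Ring.KrullDimLE 1 O]
    {B : Type u} [CommRing B] [IsDomain B] [Algebra O B] [Module.Finite O B] [FaithfulSMul O B]
    {V : Type u} [AddCommGroup V] [Module B V] [Module O V] [IsScalarTower O B V] [Module.IsTorsionFree B V]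
    (M : Type u) [AddCommGroup M] [Module O M] [Module.Finite O M]
    (F : Submodule B V) [Module.Finite B F]
    {r : ℕ} (bF : Module.Basis (Fin r) B F) (n : ℕ) (hr : r ≤ n)
    {x : O} (hxm : x ∈ maximalIdeal O) (hx0 : x ≠ 0)
    (hxmap : (maximalIdeal O).map (algebraMap O B) = Ideal.span {algebraMap O B x})
    (j : M →ₗ[O] V) (hj : Function.Injective j) (hjF : ∀ m, j m ∈ F)
    (hsat : ∀ y : F, ∃ (c : O⁰) (m : M), j m = c • (y : V)) :
    ((⊤ : Submodule O M).spanFinrank : ℕ∞) ≤
      (n : ℕ∞) * Module.length O (B ⧸ (maximalIdeal O) • (⊤ : Submodule O B)) := by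
  haveI : Module.Finite O F := Module.Finite.trans B F
  let f : M →ₗ[O] F :=
    { toFun := fun m => ⟨j m, hjF m⟩
      map_add' := fun a b => Subtype.ext (map_add j a b)
      map_smul' := fun a b => Subtype.ext (map_smul j a b) }
  refine core (G := F) M bF n hr hxm hx0 hxmap f
    (fun a b h => hj (congrArg Subtype.val h)) fun y => ?_
  obtain ⟨c, m, hm⟩ := hsat y
  exact ⟨c, m, Subtype.ext hm⟩

lemma bound [IsDomain O] [IsNoetherianRing O] [IsLocalRing O] [Ring.KrullDimLE 1 O]
    {K : Type u} [Field K] [Algebra O K] [IsFractionRing O K]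
    {B : Type u} [CommRing B] [IsDomain B] [IsPrincipalIdealRing B] [Algebra O B] [Module.Finite O B]
    [FaithfulSMul O B] [Algebra B K] [IsScalarTower O B K] [IsFractionRing B K]
    (M : Type u) [AddCommGroup M] [Module O M] [Module.Finite O M] [NoZeroSMulDivisors O M]
    (n : ℕ) (hn : Module.finrank K (TensorProduct O K M) = n)
    {x : O} (hxm : x ∈ maximalIdeal O) (hx0 : x ≠ 0)
    (hxmap : (maximalIdeal O).map (algebraMap O B) = Ideal.span {algebraMap O B x}) :
    ((⊤ : Submodule O M).spanFinrank : ℕ∞) ≤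
      (n : ℕ∞) * Module.length O (B ⧸ (maximalIdeal O) • (⊤ : Submodule O B)) := by
  classical
  let j : M →ₗ[O] TensorProduct O K M := TensorProduct.mk O K M 1
  haveI hloc : IsLocalizedModule O⁰ j := inferInstance
  haveI : Module.IsTorsionFree O M := inferInstance
  have hj : Function.Injective j := by
    rw [injective_iff_map_eq_zero]
    intro m hm
    obtain ⟨c, hc⟩ := (IsLocalizedModule.eq_zero_iff O⁰ j).1 hm
    exact (smul_eq_zero.1 hc).resolve_left (nonZeroDivisors.coe_ne_zero c)
  let F : Submodule B (TensorProduct O K M) := Submodule.span B (LinearMap.range j : Set _)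
  haveI : Module.Finite B F := by
    obtain ⟨s, hs⟩ := (Module.Finite.fg_top : (⊤ : Submodule O M).FG)
    refine Module.Finite.iff_fg.2 ⟨s.image j, ?_⟩
    rw [Finset.coe_image]
    refine le_antisymm (Submodule.span_mono (Set.image_subset_range _ _)) (Submodule.span_le.2 ?_)
    rw [LinearMap.range_eq_map, ← hs, Submodule.map_span]
    exact Submodule.span_le_restrictScalars O B _
  haveI : Module.IsTorsionFree B (TensorProduct O K M) := Module.IsTorsionFree.trans_faithfulSMul B K _
  haveI : Module.IsTorsionFree B F := inferInstance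
  haveI : Module.Free B F := Module.free_of_finite_type_torsion_free' (R := B) (M := F)
  let bF := Module.finBasis B F
  have hr : Module.finrank B F ≤ n := by
    rw [← hn]
    exact rank_le (K := K) F bF
  refine core_sub M F bF n hr hxm hx0 hxmap j hj (fun m => Submodule.subset_span ⟨m, rfl⟩) fun y => ?_
  obtain ⟨⟨m, c⟩, hc⟩ := IsLocalizedModule.surj O⁰ j (y : TensorProduct O K M)
  exact ⟨c, m, hc.symm⟩

end


/-- Let O be a one-dimensional Noetherian local domain with maximal ideal m and algebraically closed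
residue field, whose integral closure O~ in its fraction field K is a finite O-module; put e =
length(O~/m O~), the multiplicity of O. Then a finitely generated torsion-free O-module of rank n
can be generated by at most n·e elements. -/
theorem result (O : Type u) [CommRing O] [IsDomain O] [IsNoetherianRing O] [IsLocalRing O] (hdim : ringKrullDim O = 1) [IsAlgClosed (IsLocalRing.ResidueField O)] (K : Type u) [Field K] [Algebra O K] [IsFractionRing O K] (hfin : Module.Finite O ↥(integralClosure O K)) (M : Type u) [AddCommGroup M] [Module O M] [Module.Finite O M] [NoZeroSMulDivisors O M] (n : ℕ) (hn : Module.finrank K (TensorProduct O K M) = n) : ((⊤ : Submodule O M).spanFinrank : ℕ∞) ≤ (n : ℕ∞) * Module.length O (↥(integralClosure O K) ⧸ (IsLocalRing.maximalIdeal O) • (⊤ : Submodule O ↥(integralClosure O K))) := by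
  classical
  haveI : Ring.KrullDimLE 1 O := by
    rw [Ring.krullDimLE_iff, hdim]
    norm_num
  haveI : Ring.DimensionLEOne O := ⟨fun {p} hp hP => Ring.krullDimLE_one_iff_of_noZeroDivisors.1 ‹_› p hp hP⟩
  haveI : FaithfulSMul O K := (faithfulSMul_iff_algebraMap_injective O K).2 (IsFractionRing.injective O K)
  let B := ↥(integralClosure O K)
  haveI : Module.Finite O B := hfin
  haveI : IsFractionRing B K := integralClosure.isFractionRing_of_finite_extension (A := O) (K := K) K
  haveI : FaithfulSMul O B := (faithfulSMul_iff_algebraMap_injective O B).2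
    fun a b h => IsFractionRing.injective O K (congrArg Subtype.val h)
  haveI : IsNoetherianRing B := IsNoetherianRing.of_finite O B
  haveI : IsIntegrallyClosed B := (isIntegrallyClosed_iff K).2 fun {x} hx =>
    ⟨⟨x, isIntegral_trans (R := O) x hx⟩, rfl⟩
  haveI : IsDedekindDomain B := {}
  have hfinM : {P : Ideal B | P.IsMaximal}.Finite := by
    refine (Algebra.QuasiFinite.finite_primesOver (R := O) (maximalIdeal O)).subset fun P hP => ?_
    haveI : P.IsMaximal := hP
    exact ⟨hP.isPrime, ⟨(IsLocalRing.eq_maximalIdeal (Ideal.isMaximal_comap_of_isIntegral_of_isMaximal P)).symm⟩⟩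
  haveI : IsPrincipalIdealRing B := IsPrincipalIdealRing.of_finite_maximals hfinM
  have hm : maximalIdeal O ≠ ⊥ := by
    intro h
    rw [← IsLocalRing.isField_iff_maximalIdeal_eq] at h
    rw [ringKrullDim_eq_zero_of_isField h] at hdim
    exact zero_ne_one hdim
  haveI : Infinite (ResidueField O) := IsAlgClosed.instInfinite
  obtain ⟨x, hxm, hx0, hxmap⟩ := exists_generator (O := O) (B := B) hm hfinM
  exact bound M n hn hxm hx0 hxmap

end Groth.Agent.S15011
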