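import Groth.Statements.S15009
import Mathlib
import Groth.Agent.S15011
open scoped nonZeroDivisors Matrix
open IsLocalRing

set_option autoImplicit false
universe u
open TFCurv

namespace Groth.Agent.S15009


variable {O : Type u} [CommRing O] [IsDomain O] [IsNoetherianRing O] [IsLocalRing O]
  {B : Type u} [CommRing B] [IsDomain B] [IsPrincipalIdealRing B] [Algebra O B] [Module.Finite O B]

/-- A residue field of a finite algebra over a local ring with algebraically closed residue field is the residue field. -/
theorem residue_surjective_of_finite [IsAlgClosed (ResidueField O)] (P : Ideal B) [P.IsMaximal] :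
    Function.Surjective ((Ideal.Quotient.mk P).comp (algebraMap O B)) := by
  letI := Ideal.Quotient.field P
  have hcomap : maximalIdeal O ≤ RingHom.ker ((Ideal.Quotient.mk P).comp (algebraMap O B)) := by
    rw [← RingHom.comap_ker, Ideal.mk_ker]
    exact (IsLocalRing.eq_maximalIdeal (Ideal.isMaximal_comap_of_isIntegral_of_isMaximal P)).ge
  letI : Algebra (ResidueField O) (B ⧸ P) := (Ideal.Quotient.lift _ _ hcomap).toAlgebra
  haveI : IsScalarTower O (ResidueField O) (B ⧸ P) := IsScalarTower.of_algebraMap_eq fun _ => rfl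
  haveI : Module.Finite (ResidueField O) (B ⧸ P) := Module.Finite.of_restrictScalars_finite O _ _
  intro y
  obtain ⟨c, hc⟩ := (IsAlgClosed.algebraMap_bijective_of_isIntegral (k := ResidueField O) (K := B ⧸ P)).2 y
  obtain ⟨a, rfl⟩ := IsLocalRing.residue_surjective c
  exact ⟨a, hc⟩

/-- Among combinations of a spanning family, some are a basis modulo every maximal ideal. -/
theorem exists_good [IsAlgClosed (ResidueField O)] (hfinM : {P : Ideal B | P.IsMaximal}.Finite) {n N : ℕ}
    (R : Matrix (Fin N) (Fin n) B) (A : Matrix (Fin n) (Fin N) B) (hAR : A * R = 1) :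
    ∃ C : Matrix (Fin N) (Fin n) O, IsUnit (A * C.map (algebraMap O B)).det := by
  classical
  haveI : Finite {P : Ideal B | P.IsMaximal} := hfinM.to_subtype
  haveI : Fintype {P : Ideal B | P.IsMaximal} := Fintype.ofFinite _
  haveI : Infinite (ResidueField O) := IsAlgClosed.instInfinite
  have lift : ∀ (P : {P : Ideal B | P.IsMaximal}) (b : B), ∃ a : O, b - algebraMap O B a ∈ P.1 := fun P b => by
    haveI : P.1.IsMaximal := P.2
    obtain ⟨a, ha⟩ := residue_surjective_of_finite (O := O) P.1 (Ideal.Quotient.mk P.1 b)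
    exact ⟨a, Ideal.Quotient.eq.1 (show Ideal.Quotient.mk P.1 b = Ideal.Quotient.mk P.1 (algebraMap O B a) from ha.symm)⟩
  choose red hred using lift
  let pol : {P : Ideal B | P.IsMaximal} → MvPolynomial (Fin N × Fin n) (ResidueField O) := fun P =>
    ((Matrix.of fun i l => MvPolynomial.C (residue O (red P (A i l)))) * Matrix.of fun l i => MvPolynomial.X (l, i)).det
  have key : ∀ (P : {P : Ideal B | P.IsMaximal}) (C : Matrix (Fin N) (Fin n) O),
      MvPolynomial.eval (fun p => residue O (C p.1 p.2)) (pol P) = 0 ↔ (A * C.map (algebraMap O B)).det ∈ P.1 := by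
    intro P C
    have e1 : MvPolynomial.eval (fun p => residue O (C p.1 p.2)) (pol P) = residue O ((Matrix.of fun i l => red P (A i l)) * C).det := by
      simp only [pol]
      rw [RingHom.map_det, RingHom.map_det]
      congr 1
      ext a b
      rw [RingHom.mapMatrix_apply, RingHom.mapMatrix_apply, Matrix.map_apply, Matrix.map_apply]
      show MvPolynomial.eval _ (∑ l : Fin N, MvPolynomial.C (residue O (red P (A a l))) * MvPolynomial.X (l, b)) = residue O (∑ l : Fin N, red P (A a l) * C l b)
      simp
    have hprime : P.1.IsMaximal := P.2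
    rw [e1, IsLocalRing.residue_eq_zero_iff, ← IsLocalRing.eq_maximalIdeal (Ideal.isMaximal_comap_of_isIntegral_of_isMaximal (R := O) P.1),
      Ideal.mem_comap, RingHom.map_det, ← Ideal.Quotient.eq_zero_iff_mem, ← Ideal.Quotient.eq_zero_iff_mem,
      RingHom.map_det, RingHom.map_det]
    refine Eq.congr_left (congrArg Matrix.det ?_)
    ext a b
    simp only [RingHom.mapMatrix_apply, Matrix.map_apply, Matrix.mul_apply, map_sum, map_mul, Matrix.of_apply]
    exact Finset.sum_congr rfl fun l _ => by rw [Ideal.Quotient.eq.2 (hred P (A a l))]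
  have hne : ∀ P, pol P ≠ 0 := fun P h0 => by
    have := (key P (R.map (red P))).1 (by rw [h0, map_zero])
    refine P.2.ne_top ((Ideal.eq_top_iff_one _).2 ?_)
    rw [← Ideal.Quotient.eq_zero_iff_mem] at this ⊢
    rw [RingHom.map_det] at this
    have e3 : (Ideal.Quotient.mk P.1).mapMatrix (A * (R.map (red P)).map (algebraMap O B)) = (Ideal.Quotient.mk P.1).mapMatrix (A * R) := by
      ext a b
      simp only [RingHom.mapMatrix_apply, Matrix.map_apply, Matrix.mul_apply, map_sum, map_mul]
      exact Finset.sum_congr rfl fun l _ => by rw [Ideal.Quotient.eq.2 (hred P (R l b))]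
    rw [e3, hAR, map_one, Matrix.det_one] at this
    rw [map_one]
    exact this
  have hprod : ∏ P, pol P ≠ 0 := Finset.prod_ne_zero_iff.2 fun P _ => hne P
  obtain ⟨c, hc⟩ : ∃ c, MvPolynomial.eval c (∏ P, pol P) ≠ 0 := by
    by_contra h
    push Not at h
    exact hprod (MvPolynomial.funext fun c => by rw [h c, map_zero])
  choose lc hlc using fun p => IsLocalRing.residue_surjective (c p)
  refine ⟨Matrix.of fun l i => lc (l, i), ?_⟩
  by_contra hu
  obtain ⟨P, hP, hmem⟩ := exists_max_ideal_of_mem_nonunits hu
  have := (key ⟨P, hP⟩ _).2 hmem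
  rw [map_prod, Finset.prod_ne_zero_iff] at hc
  refine hc ⟨P, hP⟩ (Finset.mem_univ _) ?_
  rw [← this]
  congr 2
  exact (funext hlc).symm

/-- Torsion-free modules sit between `O^n` and `B^n`. -/
theorem exists_between [IsAlgClosed (ResidueField O)] [FaithfulSMul O B] {K : Type u} [Field K] [Algebra O K] [IsFractionRing O K]
    [Algebra B K] [IsScalarTower O B K] [IsFractionRing B K] (hfinM : {P : Ideal B | P.IsMaximal}.Finite)
    (M : Type u) [AddCommGroup M] [Module O M] [Module.Finite O M] [NoZeroSMulDivisors O M]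
    (n : ℕ) (hn : Module.finrank K (TensorProduct O K M) = n) :
    ∃ φ : M →ₗ[O] (Fin n → K), Function.Injective φ ∧ (∀ i, (Pi.single i 1 : Fin n → K) ∈ LinearMap.range φ) ∧
      ∀ m i, ∃ b : B, algebraMap B K b = φ m i := by
  classical
  let j : M →ₗ[O] TensorProduct O K M := TensorProduct.mk O K M 1
  haveI hloc : IsLocalizedModule O⁰ j := inferInstance
  have hj : Function.Injective j := by
    rw [injective_iff_map_eq_zero]
    intro m hm
    obtain ⟨c, hc⟩ := (IsLocalizedModule.eq_zero_iff O⁰ j).1 hm
    exact (smul_eq_zero.1 hc).resolve_left (nonZeroDivisors.coe_ne_zero c)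
  obtain ⟨N, s, hs⟩ := Module.Finite.exists_fin (R := O) (M := M)
  let F : Submodule B (TensorProduct O K M) := Submodule.span B (Set.range (j ∘ s))
  haveI : Module.Finite B F := Module.Finite.span_of_finite B (Set.finite_range _)
  haveI : Module.IsTorsionFree B (TensorProduct O K M) := Module.IsTorsionFree.trans_faithfulSMul B K _
  haveI : Module.IsTorsionFree B F := inferInstance
  haveI : Module.Free B F := Module.free_of_finite_type_torsion_free' (R := B) (M := F)
  let bF := Module.finBasis B F
  have hjF : ∀ m, j m ∈ F := fun m => by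
    have hm : m ∈ Submodule.span O (Set.range s) := hs ▸ Submodule.mem_top
    have := Submodule.mem_map_of_mem (f := j) hm
    rw [Submodule.map_span, ← Set.range_comp] at this
    exact Submodule.span_le_restrictScalars O B _ this
  have hrk : Module.finrank B F = n := by
    refine le_antisymm (hn ▸ S15011.rank_le (K := K) F bF) ?_
    rw [← hn]
    have htop : Submodule.span K (Set.range fun i => ((bF i : F) : TensorProduct O K M)) = ⊤ := by
      refine eq_top_iff.2 fun y _ => ?_
      obtain ⟨⟨m, c⟩, hc⟩ := IsLocalizedModule.surj O⁰ j y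
      have h1 : j m ∈ Submodule.span K (Set.range fun i => ((bF i : F) : TensorProduct O K M)) := by
        have h2 := Submodule.mem_map_of_mem (f := F.subtype) (bF.mem_span ⟨j m, hjF m⟩)
        rw [Submodule.map_span, ← Set.range_comp] at h2
        exact Submodule.span_le_restrictScalars B K _ h2
      have hc0 : algebraMap O K (c : O) ≠ 0 := (map_ne_zero_iff _ (IsFractionRing.injective O K)).2 (nonZeroDivisors.coe_ne_zero c)
      rw [show j m = algebraMap O K (c : O) • y from hc.symm.trans (algebraMap_smul K (c : O) y).symm,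
        Submodule.smul_mem_iff _ hc0] at h1
      exact h1
    rw [← finrank_top K (TensorProduct O K M), ← htop]
    exact (finrank_range_le_card _).trans (Fintype.card_fin _).le
  let b := bF.reindex (finCongr hrk)
  let cm : M → Fin n → B := fun m i => b.repr ⟨j m, hjF m⟩ i
  let cmL : M →ₗ[O] (Fin n → B) :=
    { toFun := cm
      map_add' := fun x y => funext fun i => by
        show b.repr ⟨j (x + y), _⟩ i = b.repr ⟨j x, _⟩ i + b.repr ⟨j y, _⟩ i
        rw [show (⟨j (x + y), hjF (x + y)⟩ : F) = ⟨j x, hjF x⟩ + ⟨j y, hjF y⟩ from Subtype.ext (map_add j x y), map_add]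
        rfl
      map_smul' := fun c x => funext fun i => by
        show b.repr ⟨j (c • x), _⟩ i = c • b.repr ⟨j x, _⟩ i
        rw [show (⟨j (c • x), hjF (c • x)⟩ : F) = algebraMap O B c • ⟨j x, hjF x⟩ from Subtype.ext (by
          rw [Submodule.coe_smul, algebraMap_smul]; exact map_smul j c x), map_smul, Finsupp.smul_apply, algebraMap_smul] }
  have hcm : Function.Injective cmL := fun x y h => hj (congrArg Subtype.val (b.repr.injective (Finsupp.ext (congrFun h))))
  let A : Matrix (Fin n) (Fin N) B := Matrix.of fun i l => cm (s l) i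
  obtain ⟨R, hR⟩ : ∃ R : Matrix (Fin N) (Fin n) B, A * R = 1 := by
    have h1 : ∀ i, ∃ r : Fin N → B, ∑ l, r l • j (s l) = (b i : TensorProduct O K M) :=
      fun i => (Submodule.mem_span_range_iff_exists_fun B).1 (b i).2
    choose r hr using h1
    refine ⟨Matrix.of fun l i => r i l, ?_⟩
    ext i k
    have h2 : (∑ l, r k l • (⟨j (s l), hjF (s l)⟩ : F)) = b k := Subtype.ext (by rw [Submodule.coe_sum]; exact hr k)
    have h3 := congrArg (fun v => b.repr v i) h2
    simp only [map_sum, map_smul, Finsupp.finsetSum_apply, Finsupp.smul_apply, Module.Basis.repr_self, Finsupp.single_apply] at h3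
    rw [Matrix.mul_apply, Matrix.one_apply]
    rw [if_congr (eq_comm) rfl rfl, ← h3]
    exact Finset.sum_congr rfl fun l _ => mul_comm _ _
  obtain ⟨C, hC⟩ := exists_good (O := O) hfinM R A hR
  let T := (A * C.map (algebraMap O B))⁻¹
  let φ : M →ₗ[O] (Fin n → K) :=
    ((IsScalarTower.toAlgHom O B K).toLinearMap.compLeft (Fin n)) ∘ₗ (T.mulVecLin.restrictScalars O) ∘ₗ cmL
  refine ⟨φ, fun x y h => ?_, fun i => ⟨∑ l, C l i • s l, ?_⟩, fun m i => ⟨_, rfl⟩⟩
  · refine hcm (Matrix.mulVec_injective_of_isUnit ((Matrix.isUnit_iff_isUnit_det _).2 (Matrix.isUnit_nonsing_inv_det _ hC)) ?_)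
    exact funext fun i => IsFractionRing.injective B K (congrFun h i)
  · have e : cmL (∑ l, C l i • s l) = (A * C.map (algebraMap O B)) *ᵥ Pi.single i 1 := by
      rw [map_sum, Matrix.mulVec_single_one]
      ext a
      simp only [Finset.sum_apply, map_smul, Pi.smul_apply, Matrix.col_apply, Matrix.mul_apply, Matrix.map_apply]
      exact Finset.sum_congr rfl fun l _ => by rw [Algebra.smul_def, mul_comm]; rfl
    show (fun a => algebraMap B K ((T *ᵥ cmL (∑ l, C l i • s l)) a)) = Pi.single i 1
    rw [e, Matrix.mulVec_mulVec, Matrix.nonsing_inv_mul _ hC, Matrix.one_mulVec]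
    funext a
    by_cases h : a = i
    · subst h; simp
    · simp [Pi.single_eq_of_ne h]

/-- Let O be a one-dimensional Noetherian local domain with algebraically closed residue field whose
integral closure O~ in its fraction field K is a finite O-module. A finitely generated torsion-free
O-module M of rank n (that is, K ⊗ M has K-dimension n) is isomorphic to an O-submodule M' of K^n
with O^n ⊆ M' ⊆ O~^n. -/
theorem result (O : Type u) [CommRing O] [IsDomain O] [IsNoetherianRing O] [IsLocalRing O] (hdim : ringKrullDim O = 1) [IsAlgClosed (IsLocalRing.ResidueField O)] (K : Type u) [Field K] [Algebra O K] [IsFractionRing O K] (hfin : Module.Finite O ↥(integralClosure O K)) (M : Type u) [AddCommGroup M] [Module O M] [Module.Finite O M] [NoZeroSMulDivisors O M] (n : ℕ) (hn : Module.finrank K (TensorProduct O K M) = n) : ∃ M' : Submodule O (Fin n → K), Submodule.pi Set.univ (fun _ : Fin n => (1 : Submodule O K)) ≤ M' ∧ M' ≤ Submodule.pi Set.univ (fun _ : Fin n => (Subalgebra.toSubmodule (integralClosure O K))) ∧ Nonempty (M ≃ₗ[O] ↥M') :=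 by
  classical
  haveI : Ring.KrullDimLE 1 O := by
    rw [Ring.krullDimLE_iff, hdim]
    norm_num
  haveI : Ring.DimensionLEOne O := ⟨fun {p} hp hP => Ring.krullDimLE_one_iff_of_noZeroDivisors.1 ‹_› p hp hP⟩
  haveI : FaithfulSMul O K := (faithfulSMul_iff_algebraMap_injective O K).2 (IsFractionRing.injective O K)
  let B := ↥(integralClosure O K)
  haveI : Module.Finite O B := hfin
  haveI : IsFractionRing B K := integralClosure.isFractionRing_of_finite_extension (A := O) (K := K) K
  haveI : FaithfulSMul O B := (faithfulSMul_iff_algebraMap_injective O B).2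
    fun a b h => IsFractionRing.injective O K (congrArg Subtype.val h)
  haveI : IsNoetherianRing B := IsNoetherianRing.of_finite O B
  haveI : IsIntegrallyClosed B := (isIntegrallyClosed_iff K).2 fun {x} hx =>
    ⟨⟨x, isIntegral_trans (R := O) x hx⟩, rfl⟩
  haveI : IsDedekindDomain B := {}
  have hfinM : {P : Ideal B | P.IsMaximal}.Finite := by
    refine (Algebra.QuasiFinite.finite_primesOver (R := O) (maximalIdeal O)).subset fun P hP => ?_
    haveI : P.IsMaximal := hP
    exact ⟨hP.isPrime, ⟨(IsLocalRing.eq_maximalIdeal (Ideal.isMaximal_comap_of_isIntegral_of_isMaximal P)).symm⟩⟩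
  haveI : IsPrincipalIdealRing B := IsPrincipalIdealRing.of_finite_maximals hfinM
  obtain ⟨φ, hinj, hsing, hint⟩ := exists_between (O := O) (B := B) (K := K) hfinM M n hn
  refine ⟨LinearMap.range φ, fun x hx => ?_, ?_, ⟨LinearEquiv.ofInjective φ hinj⟩⟩
  · have : x = ∑ i, Pi.single i (x i) := (Finset.univ_sum_single x).symm
    rw [this]
    refine Submodule.sum_mem _ fun i _ => ?_
    obtain ⟨a, ha⟩ := Submodule.mem_one.1 (hx i (Set.mem_univ _))
    rw [← ha, show (Pi.single i (algebraMap O K a) : Fin n → K) = a • Pi.single i (1 : K) by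
      rw [← Pi.single_smul, Algebra.smul_def, mul_one]]
    exact Submodule.smul_mem _ a (hsing i)
  · rintro _ ⟨m, rfl⟩ i -
    obtain ⟨b, hb⟩ := hint m i
    rw [← hb]
    exact b.2

end Groth.Agent.S15009
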