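import Groth.Statements.S1501
import Groth.Agent.S2153
import Groth.Agent.TMul.RelAmpleOps
import Groth.Agent.DerPerf.Local

set_option autoImplicit false
universe u
open FlatMor

namespace Groth.Agent.S1501

open AlgebraicGeometry CategoryTheory Limits in
/-- Let (f, f') : (X ⊂ X') → (S ⊂ S') be a morphism of thickenings (iX : X → X' and iS : S → S'
thickenings with f ≫ iS = iX ≫ f') and L' an invertible O_{X'}-module with pullback L to X. Then L'
is ample relative to f' if and only if L is ample relative to f. -/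
theorem result {X X' S S' : Scheme.{u}} (iX : X ⟶ X') (iS : S ⟶ S') (f : X ⟶ S) (f' : X' ⟶ S')
    (hX : MoreMor.IsThickening iX) (hS : MoreMor.IsThickening iS) (w : iX ≫ f' = f ≫ iS)
    (L' : X'.Modules) (hL' : PicF.IsInvertible L') :
    RelAmple.IsRelAmple f' L' ↔ RelAmple.IsRelAmple f ((Scheme.Modules.pullback iX).obj L') := by
  haveI := hX.1
  haveI := hX.2
  haveI := hS.1
  haveI := hS.2
  have key : ∀ W' : S'.Opens, iX ⁻¹ᵁ (f' ⁻¹ᵁ W') = f ⁻¹ᵁ (iS ⁻¹ᵁ W') := fun W' => by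
    rw [← Scheme.Hom.comp_preimage, ← Scheme.Hom.comp_preimage, w]
  have hamp : ∀ W' : S'.Opens, CohB1.IsAmple (L'.restrict (f' ⁻¹ᵁ W').ι) ↔
      CohB1.IsAmple (((Scheme.Modules.pullback iX).obj L').restrict (iX ⁻¹ᵁ (f' ⁻¹ᵁ W')).ι) := by
    intro W'
    haveI : IsClosedImmersion (iX ∣_ (f' ⁻¹ᵁ W')) := IsZariskiLocalAtTarget.restrict hX.1 _
    haveI : Surjective (iX ∣_ (f' ⁻¹ᵁ W')) := IsZariskiLocalAtTarget.restrict (P := @Surjective) hX.2 _
    have hh : IsHomeomorph (iX ∣_ (f' ⁻¹ᵁ W')).base := (isHomeomorph_iff_isEmbedding_surjective).2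
      ⟨(iX ∣_ (f' ⁻¹ᵁ W')).isClosedEmbedding.isEmbedding, (iX ∣_ (f' ⁻¹ᵁ W')).surjective⟩
    have hinv : PicF.IsInvertible (L'.restrict (f' ⁻¹ᵁ W').ι) := TMul.isInvertible_restrict (f' ⁻¹ᵁ W').ι hL'
    let e := (Groth.Agent.DerPerf.pullRestrictIso iX (f' ⁻¹ᵁ W')).app L'
    constructor
    · intro h
      exact TMul.isAmple_congr e.symm ((Groth.Agent.S2153.result _ hh _ hinv).2 h)
    · intro h
      exact (Groth.Agent.S2153.result _ hh _ hinv).1 (TMul.isAmple_congr e h)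
  constructor
  · intro h
    haveI : QuasiCompact (f ≫ iS) := by
      rw [← w]; haveI := h.1; infer_instance
    haveI : QuasiCompact f := QuasiCompact.of_comp f iS
    refine TMul.isRelAmple_of_exists (PicLoc.isInvertible_pullback _ hL') fun y => ?_
    obtain ⟨W', hW', hy, -⟩ := exists_isAffineOpen_mem_and_subset (X := S') (x := iS.base y) (U := ⊤) trivial
    refine ⟨iS ⁻¹ᵁ W', hy, ?_⟩
    exact key W' ▸ (hamp W').1 (h.2 ⟨W', hW'⟩)
  · intro h
    haveI := h.1
    haveI : QuasiCompact f' := by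
      refine ⟨fun U hU hUc => ?_⟩
      have h1 := (f ≫ iS).isCompact_preimage (U := ⟨U, hU⟩) hUc
      rw [← w] at h1
      have h2 := h1.image iX.continuous
      convert h2 using 1
      exact (Set.image_preimage_eq (⇑f' ⁻¹' U) iX.surjective).symm
    refine ⟨inferInstance, fun W' => (hamp W'.1).2 ?_⟩
    rw [key W'.1]
    exact h.2 ⟨iS ⁻¹ᵁ W'.1, W'.2.preimage iS⟩

end Groth.Agent.S1501
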