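import Groth.Statements.S15010
import Mathlib

set_option autoImplicit false
universe u
open TFCurv

namespace Groth.Agent.S15010

open scoped nonZeroDivisors

lemma key {O : Type u} [CommRing O] [IsDomain O] {K : Type u} [Field K] [Algebra O K] [IsFractionRing O K]
    {n : ℕ} {M N : Submodule O (Fin n → K)}
    (hM1 : Submodule.pi Set.univ (fun _ : Fin n => (1 : Submodule O K)) ≤ M)
    (hN2 : N ≤ Submodule.pi Set.univ (fun _ : Fin n => (Subalgebra.toSubmodule (integralClosure O K))))
    (φ : ↥M →ₗ[O] ↥N) : ∃ A : Matrix (Fin n) (Fin n) ↥(integralClosure O K),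
      ∀ x : ↥M, ((φ x : ↥N) : Fin n → K) = (A.map (algebraMap ↥(integralClosure O K) K)).mulVec (x : Fin n → K) := by
  classical
  have he : ∀ j, (Pi.single j 1 : Fin n → K) ∈ M := fun j => hM1 fun i _ => by
    rcases eq_or_ne i j with rfl | h
    · rw [Pi.single_eq_same]; exact Submodule.mem_one.2 ⟨1, map_one _⟩
    · rw [Pi.single_eq_of_ne h]; exact Submodule.zero_mem _
  refine ⟨fun i j => ⟨(φ ⟨_, he j⟩ : Fin n → K) i, hN2 (φ ⟨_, he j⟩).2 i (Set.mem_univ _)⟩, fun x => ?_⟩
  obtain ⟨c, hc⟩ := IsLocalization.exist_integer_multiples O⁰ Finset.univ (x : Fin n → K)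
  have hc' : ∀ i, ∃ a : O, algebraMap O K a = (c : O) • (x : Fin n → K) i := fun i => hc i (Finset.mem_univ _)
  choose a ha using hc'
  have hx : (c : O) • x = ∑ j, a j • (⟨_, he j⟩ : M) := by
    apply Subtype.ext
    ext i
    simp only [Submodule.coe_smul, Submodule.coe_sum, Finset.sum_apply, Pi.smul_apply]
    rw [Finset.sum_eq_single i]
    · rw [Pi.single_eq_same, ← ha i, Algebra.smul_def, mul_one]
    · intro j _ hj
      rw [Pi.single_eq_of_ne hj.symm, smul_zero]
    · simp
  have hφ : (c : O) • ((φ x : ↥N) : Fin n → K) = ∑ j, a j • ((φ ⟨_, he j⟩ : ↥N) : Fin n → K) := by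
    rw [← Submodule.coe_smul, ← map_smul, hx, map_sum, Submodule.coe_sum]
    simp only [map_smul, Submodule.coe_smul]
  have hc0 : algebraMap O K (c : O) ≠ 0 :=
    (map_ne_zero_iff _ (IsFractionRing.injective O K)).2 (nonZeroDivisors.coe_ne_zero c)
  ext i
  refine mul_left_cancel₀ hc0 ?_
  have h1 := congrFun hφ i
  simp only [Pi.smul_apply, Finset.sum_apply] at h1
  simp only [Algebra.smul_def] at h1
  rw [h1, Matrix.mulVec, dotProduct, Finset.mul_sum]
  refine Finset.sum_congr rfl fun j _ => ?_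
  rw [ha j, Algebra.smul_def]
  change _ * ((φ ⟨_, he j⟩ : ↥N) : Fin n → K) i = algebraMap O K c * ((((φ ⟨_, he j⟩ : ↥N) : Fin n → K) i) * (x : Fin n → K) j)
  ring


/-- Let O be a one-dimensional Noetherian local domain with algebraically closed residue field whose
integral closure O~ in its fraction field K is a finite O-module. If M and N are O-submodules of K^n
with O^n ⊆ M ⊆ O~^n and O^n ⊆ N ⊆ O~^n, then every O-linear isomorphism M → N is the restriction of
x ↦ A·x for an invertible n × n matrix A with entries in O~. -/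
theorem result (O : Type u) [CommRing O] [IsDomain O] [IsNoetherianRing O] [IsLocalRing O] (hdim : ringKrullDim O = 1) [IsAlgClosed (IsLocalRing.ResidueField O)] (K : Type u) [Field K] [Algebra O K] [IsFractionRing O K] (hfin : Module.Finite O ↥(integralClosure O K)) (n : ℕ) (M N : Submodule O (Fin n → K)) (hM1 : Submodule.pi Set.univ (fun _ : Fin n => (1 : Submodule O K)) ≤ M) (hM2 : M ≤ Submodule.pi Set.univ (fun _ : Fin n => (Subalgebra.toSubmodule (integralClosure O K)))) (hN1 : Submodule.pi Set.univ (fun _ : Fin n => (1 : Submodule O K)) ≤ N) (hN2 : N ≤ Submodule.pi Set.univ (fun _ : Fin n => (Subalgebra.toSubmodule (integralClosure O K)))) (φ : ↥M ≃ₗ[O] ↥N) : ∃ A : Matrix (Fin n) (Fin n) ↥(integralClosure O K), IsUnit A ∧ ∀ x : ↥M, ((φ x : ↥N) : Fin n → K) = (A.map (algebraMap ↥(integralClosure O K) K)).mulVec (x : Fin n → K) := by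
  classical
  obtain ⟨A, hA⟩ := key hM1 hN2 φ.toLinearMap
  obtain ⟨B, hB⟩ := key hN1 hM2 φ.symm.toLinearMap
  refine ⟨A, ?_, hA⟩
  have he : ∀ j, (Pi.single j 1 : Fin n → K) ∈ N := fun j => hN1 fun i _ => by
    rcases eq_or_ne i j with rfl | h
    · rw [Pi.single_eq_same]; exact Submodule.mem_one.2 ⟨1, map_one _⟩
    · rw [Pi.single_eq_of_ne h]; exact Submodule.zero_mem _
  have hAB : A * B = 1 := by
    apply Matrix.map_injective (f := algebraMap ↥(integralClosure O K) K) Subtype.val_injective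
    dsimp only
    rw [Matrix.map_mul, Matrix.map_one _ (map_zero _) (map_one _)]
    refine Matrix.ext_of_mulVec_single fun j => ?_
    rw [← Matrix.mulVec_mulVec, Matrix.one_mulVec]
    have h1 := hA (φ.symm ⟨_, he j⟩)
    rw [LinearEquiv.coe_toLinearMap, φ.apply_symm_apply] at h1
    have h2 := hB ⟨_, he j⟩
    rw [LinearEquiv.coe_toLinearMap] at h2
    rw [h2] at h1
    exact h1.symm
  exact ⟨⟨A, B, hAB, mul_eq_one_comm.1 hAB⟩, rfl⟩

end Groth.Agent.S15010
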