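import Groth.Statements.S15013
import Mathlib

set_option autoImplicit false
universe u
open CategoryTheory
open TFCurv

namespace Groth.Agent.S15013

/-- Let O be a one-dimensional Noetherian local domain with algebraically closed residue field whose
integral closure O~ in its fraction field K is a finite O-module, and let w be a canonical ideal of
O, taken here as a nonzero finitely generated O-submodule of K whose injective dimension as an
O-module is at most one. Then Ext^i_O(M, w) vanishes for all i ≥ 1 and every finitely generated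
torsion-free O-module M. -/
theorem result (O : Type u) [CommRing O] [IsDomain O] [IsNoetherianRing O] [IsLocalRing O] (hdim : ringKrullDim O = 1) [IsAlgClosed (IsLocalRing.ResidueField O)] (K : Type u) [Field K] [Algebra O K] [IsFractionRing O K] (hfin : Module.Finite O ↥(integralClosure O K)) (ω : Submodule O K) (hω0 : ω ≠ ⊥) (hωfg : ω.FG) (hωinj : HasInjectiveDimensionLT (ModuleCat.of O ↥ω) 2) (M : Type u) [AddCommGroup M] [Module O M] [Module.Finite O M] [NoZeroSMulDivisors O M] (i : ℕ) (hi : 1 ≤ i) : Subsingleton (Abelian.Ext (ModuleCat.of O M) (ModuleCat.of O ↥ω) i) := by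
  classical
  obtain ⟨S, hS⟩ := (inferInstance : Module.Finite O M).fg_top
  obtain ⟨s, hli, hmax⟩ := exists_maximal_linearIndepOn O (fun x : S => (x : M))
  choose! a ha0 ha using hmax
  let N := Submodule.span O ((fun x : S => (x : M)) '' s)
  let c : O := ∏ x : S, if x ∈ s then 1 else a x
  have hc0 : c ≠ 0 := Finset.prod_ne_zero_iff.2 fun x _ => by
    split_ifs with h
    · exact one_ne_zero
    · exact ha0 x h
  have hc : ∀ m : M, c • m ∈ N := by
    intro m
    have hm : m ∈ Submodule.span O (S : Set M) := hS ▸ Submodule.mem_top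
    induction hm using Submodule.span_induction with
    | mem y hy =>
      obtain ⟨d, hd⟩ : (if (⟨y, hy⟩ : S) ∈ s then (1 : O) else a ⟨y, hy⟩) ∣ c :=
        Finset.dvd_prod_of_mem _ (Finset.mem_univ _)
      rw [hd, mul_comm, mul_smul]
      refine N.smul_mem _ ?_
      split_ifs with h
      · rw [one_smul]; exact Submodule.subset_span ⟨_, h, rfl⟩
      · exact ha _ h
    | zero => simp
    | add y z _ _ hy hz => rw [smul_add]; exact add_mem hy hz
    | smul r y _ hy => rw [smul_comm]; exact N.smul_mem r hy
  have hN : N = Submodule.span O (Set.range fun x : s => ((x : S) : M)) := by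
    simp only [N, Set.image_eq_range]
  let b := Module.Basis.span (R := O) hli
  haveI : Finite s := Subtype.finite
  let φ : M →ₗ[O] N := (LinearMap.lsmul O M c).codRestrict N hc
  let j : M →ₗ[O] (s → O) := (b.equivFun.toLinearMap).comp ((LinearEquiv.ofEq _ _ hN).toLinearMap.comp φ)
  have hj : Function.Injective j := by
    refine b.equivFun.injective.comp ((LinearEquiv.ofEq _ _ hN).injective.comp ?_)
    intro x y hxy
    exact (smul_right_injective M hc0) (congrArg Subtype.val hxy)
  let sc : ShortComplex (ModuleCat.{u} O) := ShortComplex.mk (ModuleCat.ofHom j)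
    (ModuleCat.ofHom (LinearMap.range j).mkQ) (by ext x; simp)
  have hsc : sc.ShortExact :=
    { exact := (ShortComplex.ShortExact.moduleCat_exact_iff_function_exact sc).2 (LinearMap.exact_map_mkQ_range j)
      mono_f := (ModuleCat.mono_iff_injective _).2 hj
      epi_g := (ModuleCat.epi_iff_surjective _).2 (Submodule.mkQ_surjective _) }
  haveI : Projective sc.X₂ := ModuleCat.projective_of_free (Pi.basisFun O s)
  refine ⟨fun x y => ?_⟩
  suffices h : ∀ z : Abelian.Ext (ModuleCat.of O M) (ModuleCat.of O ↥ω) i, z = 0 from (h x).trans (h y).symm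
  intro z
  obtain ⟨z₂, hz₂⟩ := Abelian.Ext.contravariant_sequence_exact₁ hsc _ z (n₁ := 1 + i) rfl
    (Abelian.Ext.eq_zero_of_hasInjectiveDimensionLT _ 2 (by omega))
  obtain ⟨i, rfl⟩ := Nat.exists_eq_succ_of_ne_zero (show i ≠ 0 by omega)
  rw [← hz₂, Abelian.Ext.eq_zero_of_projective z₂, Abelian.Ext.comp_zero]

end Groth.Agent.S15013
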