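import Groth.Statements.S15035
import Mathlib
import Groth.Agent.S15009
import Groth.Agent.S15013
import Groth.Agent.Goren.Basic
import Groth.Agent.DomDual.Basic
open CategoryTheory
open scoped nonZeroDivisors
open IsLocalRing

set_option autoImplicit false
universe u
open TFCurv

set_option backward.isDefEq.respectTransparency false
namespace Groth.Agent.S15035


variable {O : Type u} [CommRing O] [IsDomain O]

/-- Functionals extend along an injection with torsion-free cokernel when `Ext¹(-, O)` vanishes on those. -/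
theorem exists_extension (H : ∀ (C : Type u) [AddCommGroup C] [Module O C] [Module.Finite O C] [NoZeroSMulDivisors O C],
      Subsingleton (Abelian.Ext (ModuleCat.of O C) (ModuleCat.of O O) 1))
    {A F : Type u} [AddCommGroup A] [Module O A] [AddCommGroup F] [Module O F] [Module.Finite O F]
    (f : A →ₗ[O] F) (hf : Function.Injective f) [NoZeroSMulDivisors O (F ⧸ LinearMap.range f)]
    (ψ : Module.Dual O A) : ∃ φ : Module.Dual O F, φ.comp f = ψ := by
  let sc : ShortComplex (ModuleCat.{u} O) := ShortComplex.mk (ModuleCat.ofHom f)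
    (ModuleCat.ofHom (LinearMap.range f).mkQ) (by ext x; simp)
  have hsc : sc.ShortExact :=
    { exact := (ShortComplex.ShortExact.moduleCat_exact_iff_function_exact sc).2 (LinearMap.exact_map_mkQ_range f)
      mono_f := (ModuleCat.mono_iff_injective _).2 hf
      epi_g := (ModuleCat.epi_iff_surjective _).2 (Submodule.mkQ_surjective _) }
  haveI := H (F ⧸ LinearMap.range f)
  obtain ⟨x₂, hx₂⟩ := Abelian.Ext.contravariant_sequence_exact₁ hsc (ModuleCat.of O O)
    (Abelian.Ext.mk₀ (ModuleCat.ofHom ψ)) (n₁ := 1) rfl (Subsingleton.elim _ _)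
  obtain ⟨φ, rfl⟩ := (Abelian.Ext.mk₀_bijective sc.X₂ (ModuleCat.of O O)).2 x₂
  rw [Abelian.Ext.mk₀_comp_mk₀] at hx₂
  exact ⟨φ.hom, congrArg ModuleCat.Hom.hom ((Abelian.Ext.mk₀_bijective sc.X₁ (ModuleCat.of O O)).1 hx₂)⟩

/-- If `Ext¹(-, O)` vanishes on finite torsion-free modules, these modules are reflexive. -/
theorem eval_bijective (H : ∀ (C : Type u) [AddCommGroup C] [Module O C] [Module.Finite O C] [NoZeroSMulDivisors O C],
      Subsingleton (Abelian.Ext (ModuleCat.of O C) (ModuleCat.of O O) 1))
    (M : Type u) [AddCommGroup M] [Module O M] [Module.Finite O M] [NoZeroSMulDivisors O M] :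
    Function.Bijective (Module.Dual.eval O M) := by
  haveI : Module.IsTorsionFree O M := inferInstance
  refine ⟨Groth.Agent.DomDual.eval_injective (R := O) M, fun ξ => ?_⟩
  obtain ⟨a, p, hp⟩ := Module.Finite.exists_fin' O M
  haveI : NoZeroSMulDivisors O (Module.Dual O (Fin a → O) ⧸ LinearMap.range p.dualMap) := by
    refine ⟨fun {c x} h => or_iff_not_imp_left.2 fun hc => ?_⟩
    obtain ⟨χ, rfl⟩ := Submodule.Quotient.mk_surjective _ x
    rw [← Submodule.Quotient.mk_smul, Submodule.Quotient.mk_eq_zero] at h
    obtain ⟨θ, hθ⟩ := h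
    have hker : LinearMap.ker p ≤ LinearMap.ker χ := fun y hy => by
      have h1 := LinearMap.congr_fun hθ y
      rw [LinearMap.dualMap_apply, LinearMap.mem_ker.1 hy, map_zero, LinearMap.smul_apply] at h1
      exact LinearMap.mem_ker.2 ((smul_eq_zero.1 h1.symm).resolve_left hc)
    rw [Submodule.Quotient.mk_eq_zero]
    refine ⟨((LinearMap.ker p).liftQ χ hker).comp (p.quotKerEquivOfSurjective hp).symm.toLinearMap, LinearMap.ext fun y => ?_⟩
    show (LinearMap.ker p).liftQ χ hker ((p.quotKerEquivOfSurjective hp).symm (p y)) = χ y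
    rw [show (p.quotKerEquivOfSurjective hp).symm (p y) = Submodule.Quotient.mk y from
      (LinearEquiv.symm_apply_eq _).2 rfl]
    rfl
  obtain ⟨Ξ, hΞ⟩ := exists_extension H p.dualMap (LinearMap.dualMap_injective_of_surjective hp) ξ
  obtain ⟨x, rfl⟩ := (Module.bijective_dual_eval O (Fin a → O)).2 Ξ
  refine ⟨p x, ?_⟩
  rw [← hΞ]
  rfl

/-- A finite torsion-free module with reflexive dual data sits between the conductor powers and `O^n`. -/
theorem exists_between_dual [IsNoetherianRing O] [IsLocalRing O] [IsAlgClosed (ResidueField O)]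
    {B : Type u} [CommRing B] [IsDomain B] [IsPrincipalIdealRing B] [Algebra O B] [Module.Finite O B]
    [FaithfulSMul O B] {K : Type u} [Field K] [Algebra O K] [IsFractionRing O K]
    [Algebra B K] [IsScalarTower O B K] [IsFractionRing B K] (hfinM : {P : Ideal B | P.IsMaximal}.Finite)
    (M : Type u) [AddCommGroup M] [Module O M] [Module.Finite O M] [NoZeroSMulDivisors O M]
    (hrefl : Function.Bijective (Module.Dual.eval O M))
    (n : ℕ) (hn : Module.finrank K (TensorProduct O K M) = n)
    (D : Submodule O K) (hD : ∀ d ∈ D, ∀ b : B, ∃ a : O, algebraMap O K a = d * algebraMap B K b)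
    (hD0 : ∃ c : O, c ≠ 0 ∧ algebraMap O K c ∈ D) :
    ∃ M'' : Submodule O (Fin n → K), Submodule.pi Set.univ (fun _ : Fin n => D) ≤ M'' ∧
      M'' ≤ Submodule.pi Set.univ (fun _ : Fin n => (1 : Submodule O K)) ∧ Nonempty (M ≃ₗ[O] ↥M'') := by
  classical
  haveI : Module.IsTorsionFree O M := inferInstance
  haveI : Module.Finite O (Module.Dual O M) := inferInstance
  haveI : NoZeroSMulDivisors O (Module.Dual O M) := ⟨fun {c x} h => or_iff_not_imp_left.2 fun hc =>
    LinearMap.ext fun y => (smul_eq_zero.1 (LinearMap.congr_fun h y)).resolve_left hc⟩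
  obtain ⟨φ, hinj, hsing, hint⟩ := Groth.Agent.S15009.exists_between (O := O) (B := B) (K := K) hfinM
    (Module.Dual O M) (Module.finrank K (TensorProduct O K (Module.Dual O M))) rfl
  generalize Module.finrank K (TensorProduct O K (Module.Dual O M)) = r at φ
  choose ε hε using hsing
  let g : M →ₗ[O] (Fin r → O) := LinearMap.pi ε
  have hg : Function.Injective g := by
    rw [injective_iff_map_eq_zero]
    intro m hm
    refine hrefl.1 (LinearMap.ext fun χ => ?_)
    rw [map_zero, LinearMap.zero_apply, Module.Dual.eval_apply]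
    obtain ⟨⟨s, hs⟩, hints⟩ := IsLocalization.exist_integer_multiples O⁰ (Finset.univ : Finset (Fin r)) (φ χ)
    have hints' : ∀ i, ∃ a : O, algebraMap O K a = s • φ χ i := fun i => hints i (Finset.mem_univ _)
    choose a ha using hints'
    have h1 : φ (s • χ) = φ (∑ i, a i • ε i) := by
      rw [map_smul, map_sum]
      simp only [map_smul, hε]
      funext i
      rw [Finset.sum_apply, Pi.smul_apply, ← ha i, Finset.sum_eq_single i]
      · rw [Pi.smul_apply, Pi.single_eq_same, Algebra.smul_def, mul_one]
      · intro j _ hj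
        rw [Pi.smul_apply, Pi.single_eq_of_ne (Ne.symm hj), smul_zero]
      · intro h
        exact absurd (Finset.mem_univ i) h
    have h2 := LinearMap.congr_fun (hinj h1) m
    rw [LinearMap.smul_apply, LinearMap.sum_apply, Finset.sum_eq_zero (fun i _ => by
      rw [LinearMap.smul_apply, show ε i m = 0 from congrFun hm i, smul_zero])] at h2
    exact (smul_eq_zero.1 h2).resolve_left (nonZeroDivisors.ne_zero hs)
  let ι : (Fin r → O) →ₗ[O] (Fin r → K) := (Algebra.linearMap O K).compLeft (Fin r)
  have hι : Function.Injective ι := fun x y h => funext fun i => IsFractionRing.injective O K (congrFun h i)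
  have hsur : ∀ x : Fin r → K, (∀ i, x i ∈ D) → ∃ m, ι (g m) = x := by
    intro x hx
    let lhs : Module.Dual O M →ₗ[O] K := ∑ i, (LinearMap.mulLeft O (x i)).comp ((LinearMap.proj i).comp φ)
    have hlhs : ∀ χ, lhs χ = ∑ i, x i * φ χ i := fun χ => LinearMap.sum_apply _ _ _
    have hmem : ∀ χ, lhs χ ∈ LinearMap.range (Algebra.linearMap O K) := fun χ => by
      rw [hlhs]
      refine Submodule.sum_mem _ fun i _ => ?_
      obtain ⟨b, hb⟩ := hint χ i
      obtain ⟨a, ha⟩ := hD _ (hx i) b
      exact ⟨a, by rw [← hb]; exact ha⟩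
    let e := LinearEquiv.ofInjective (Algebra.linearMap O K) (IsFractionRing.injective O K)
    obtain ⟨m, hm⟩ := hrefl.2 (e.symm.toLinearMap.comp (lhs.codRestrict _ hmem))
    refine ⟨m, funext fun j => ?_⟩
    have h1 : ε j m = e.symm (lhs.codRestrict _ hmem (ε j)) := LinearMap.congr_fun hm (ε j)
    show algebraMap O K (ε j m) = x j
    rw [h1, show algebraMap O K (e.symm (lhs.codRestrict _ hmem (ε j))) = lhs (ε j) from
      congrArg Subtype.val (e.apply_symm_apply (lhs.codRestrict _ hmem (ε j))), hlhs, hε,
      Finset.sum_eq_single j]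
    · rw [Pi.single_eq_same, mul_one]
    · intro i _ hi
      rw [Pi.single_eq_of_ne hi, mul_zero]
    · intro h
      exact absurd (Finset.mem_univ j) h
  have hrn : r = n := by
    haveI : IsLocalizedModule O⁰ (TensorProduct.mk O K M 1) :=
      (isLocalizedModule_iff_isBaseChange O⁰ K _).2 (TensorProduct.isBaseChange O M K)
    have hM : Module.finrank O M = n := by
      rw [← hn]
      exact (IsBaseChange.finrank_eq (TensorProduct.isBaseChange O M K)).symm
    obtain ⟨c, hc0, hcD⟩ := hD0
    have hc : ∀ v : Fin r → O, ∃ m, g m = c • v := fun v => by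
      obtain ⟨m, hm⟩ := hsur (ι (c • v)) fun i => by
        show algebraMap O K (c • v i) ∈ D
        rw [smul_eq_mul, mul_comm, map_mul, ← Algebra.smul_def]
        exact Submodule.smul_mem _ _ hcD
      exact ⟨m, hι hm⟩
    let p : (Fin r → O) →ₗ[O] M := (LinearEquiv.ofInjective g hg).symm.toLinearMap.comp
      ((c • LinearMap.id : (Fin r → O) →ₗ[O] (Fin r → O)).codRestrict (LinearMap.range g) fun v => hc v)
    have hp : Function.Injective p := by
      refine (LinearEquiv.ofInjective g hg).symm.injective.comp fun v w h => ?_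
      exact smul_right_injective _ hc0 (congrArg Subtype.val h)
    have h1 := LinearMap.finrank_le_finrank_of_injective hp
    have h2 := LinearMap.finrank_le_finrank_of_injective hg
    rw [Module.finrank_fin_fun] at h1 h2
    omega
  subst hrn
  have hιg : Function.Injective (ι.comp g) := hι.comp hg
  refine ⟨LinearMap.range (ι.comp g), fun x hx => ?_, ?_, ⟨LinearEquiv.ofInjective _ hιg⟩⟩
  · obtain ⟨m, hm⟩ := hsur x fun i => hx i (Set.mem_univ _)
    exact ⟨m, hm⟩
  · rintro _ ⟨m, rfl⟩ i -
    exact Submodule.mem_one.2 ⟨ε i m, rfl⟩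

/-- Let O be a one-dimensional Gorenstein local domain with algebraically closed residue field whose
integral closure O~ in its fraction field K is a finite O-module, and C ⊆ O the conductor of O in
O~. Then every finitely generated torsion-free O-module of rank n is isomorphic to an O-submodule
M'' of K^n with C^n ⊆ M'' ⊆ O^n. (For a general O the published statement places M'' between (O~*)^n
and ω^n for the canonical ideal ω; only the Gorenstein case ω = O, O~* = C is stated.) -/
theorem result (O : Type u) [CommRing O] [IsDomain O] [LocCoh.IsGorensteinLocalRing O] (hdim : ringKrullDim O = 1) [IsAlgClosed (IsLocalRing.ResidueField O)] (K : Type u) [Field K] [Algebra O K] [IsFractionRing O K] (hfin : Module.Finite O ↥(integralClosure O K)) (M : Type u) [AddCommGroup M] [Module O M] [Module.Finite O M] [NoZeroSMulDivisors O M] (n : ℕ) (hn : Module.finrank K (TensorProduct O K M) = n) : ∃ M'' : Submodule O (Fin n → K), Submodule.pi Set.univ (fun _ : Fin n => (((1 : Submodule O K).colon (Subalgebra.toSubmodule (integralClosure O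 K))) • (1 : Submodule O K))) ≤ M'' ∧ M'' ≤ Submodule.pi Set.univ (fun _ : Fin n => (1 : Submodule O K)) ∧ Nonempty (M ≃ₗ[O] ↥M'') := by
  classical
  haveI : Ring.KrullDimLE 1 O := by
    rw [Ring.krullDimLE_iff, hdim]
    norm_num
  haveI : Ring.DimensionLEOne O := ⟨fun {p} hp hP => Ring.krullDimLE_one_iff_of_noZeroDivisors.1 ‹_› p hp hP⟩
  haveI : FaithfulSMul O K := (faithfulSMul_iff_algebraMap_injective O K).2 (IsFractionRing.injective O K)
  let B := ↥(integralClosure O K)
  haveI : Module.Finite O B := hfin
  haveI : IsFractionRing B K := integralClosure.isFractionRing_of_finite_extension (A := O) (K := K) K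
  haveI : FaithfulSMul O B := (faithfulSMul_iff_algebraMap_injective O B).2
    fun a b h => IsFractionRing.injective O K (congrArg Subtype.val h)
  haveI : IsNoetherianRing B := IsNoetherianRing.of_finite O B
  haveI : IsIntegrallyClosed B := (isIntegrallyClosed_iff K).2 fun {x} hx =>
    ⟨⟨x, isIntegral_trans (R := O) x hx⟩, rfl⟩
  haveI : IsDedekindDomain B := {}
  have hfinM : {P : Ideal B | P.IsMaximal}.Finite := by
    refine (Algebra.QuasiFinite.finite_primesOver (R := O) (maximalIdeal O)).subset fun P hP => ?_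
    haveI : P.IsMaximal := hP
    exact ⟨hP.isPrime, ⟨(IsLocalRing.eq_maximalIdeal (Ideal.isMaximal_comap_of_isIntegral_of_isMaximal P)).symm⟩⟩
  haveI : IsPrincipalIdealRing B := IsPrincipalIdealRing.of_finite_maximals hfinM
  have hone : LinearMap.range (Algebra.linearMap O K) = (1 : Submodule O K) := Submodule.one_eq_range.symm
  let e : O ≃ₗ[O] ↥(1 : Submodule O K) :=
    (LinearEquiv.ofInjective _ (IsFractionRing.injective O K)).trans (LinearEquiv.ofEq _ _ hone)
  have hinjdim : HasInjectiveDimensionLT (ModuleCat.of O O) 2 :=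
    Goren.hasInjectiveDimensionLE O (n := 1) (Goren.resVanish_dim O (d := 1) (by rw [hdim]; rfl))
  haveI : HasInjectiveDimensionLT (ModuleCat.of O ↥(1 : Submodule O K)) 2 :=
    hasInjectiveDimensionLT_of_iso e.toModuleIso 2
  have H : ∀ (C : Type u) [AddCommGroup C] [Module O C] [Module.Finite O C] [NoZeroSMulDivisors O C],
      Subsingleton (Abelian.Ext (ModuleCat.of O C) (ModuleCat.of O O) 1) := by
    intro C _ _ _ _
    haveI := Groth.Agent.S15013.result O hdim K hfin (1 : Submodule O K) one_ne_zero
      (Submodule.one_eq_span (R := O) (A := K) ▸ Submodule.fg_span_singleton 1) inferInstance C 1 le_rfl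
    refine Function.Injective.subsingleton (β := Abelian.Ext (ModuleCat.of O C) (ModuleCat.of O ↥(1 : Submodule O K)) 1)
      (f := fun z => z.comp (Abelian.Ext.mk₀ e.toModuleIso.hom) (add_zero 1)) fun z w h => ?_
    have h1 := congrArg (fun z => z.comp (Abelian.Ext.mk₀ e.toModuleIso.inv) (add_zero 1)) h
    simp only [Abelian.Ext.comp_assoc_of_second_deg_zero, Abelian.Ext.mk₀_comp_mk₀, Iso.hom_inv_id,
      Abelian.Ext.comp_mk₀_id] at h1
    exact h1
  refine exists_between_dual (B := B) hfinM M (eval_bijective H M) n hn _ ?_ ?_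
  · intro d hd b
    refine Submodule.smul_induction_on hd ?_ ?_
    · intro c hc y hy
      obtain ⟨t, rfl⟩ := Submodule.mem_one.1 hy
      obtain ⟨a, ha⟩ := Submodule.mem_one.1 (Submodule.mem_colon.1 hc (b : K) b.2)
      refine ⟨t * a, ?_⟩
      rw [map_mul, ha, Algebra.smul_def, Algebra.smul_def]
      show algebraMap O K t * (algebraMap O K c * (b : K)) = algebraMap O K c * algebraMap O K t * (b : K)
      ring
    · rintro x y ⟨a, ha⟩ ⟨a', ha'⟩
      exact ⟨a + a', by rw [map_add, ha, ha', add_mul]⟩
  · obtain ⟨s, hs⟩ := hfin.fg_top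
    obtain ⟨⟨c, hc⟩, hint⟩ := IsLocalization.exist_integer_multiples O⁰ s (fun x : B => (x : K))
    refine ⟨c, nonZeroDivisors.ne_zero hc, ?_⟩
    have hcol : c ∈ (1 : Submodule O K).colon (Subalgebra.toSubmodule (integralClosure O K) : Set K) := by
      rw [Submodule.mem_colon]
      intro y hy
      have hy' : (⟨y, hy⟩ : B) ∈ Submodule.span O (s : Set B) := hs ▸ Submodule.mem_top
      refine (Submodule.span_le (p := Submodule.comap (c • (integralClosure O K).val.toLinearMap) (1 : Submodule O K))).2
        (fun g hg => ?_) hy'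
      obtain ⟨a, ha⟩ := hint g hg
      exact Submodule.mem_one.2 ⟨a, ha⟩
    rw [show algebraMap O K c = c • (1 : K) by rw [Algebra.smul_def, mul_one]]
    exact Submodule.smul_mem_smul hcol (Submodule.mem_one.2 ⟨1, map_one _⟩)

end Groth.Agent.S15035
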