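import Groth.Statements.S15012
import Mathlib
import Groth.Agent.S15035
open scoped nonZeroDivisors
open IsLocalRing

set_option autoImplicit false
universe u
open TFCurv

set_option backward.isDefEq.respectTransparency false
set_option maxHeartbeats 1600000
namespace Groth.Agent.S15012


variable {O : Type u} [CommRing O] {X Y : Type u} [AddCommGroup X] [Module O X] [AddCommGroup Y] [Module O Y]

/-- The length of `T ⧸ S` for submodules `S`, `T`. -/
noncomputable def relLen (T S : Submodule O X) : ℕ∞ := Module.length O (↥T ⧸ S.comap T.subtype)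

theorem rel_add {S T U : Submodule O X} (h1 : S ≤ T) (h2 : T ≤ U) : relLen U S = relLen T S + relLen U T := by
  have h := Groth.Agent.S15011.len_comp (Submodule.inclusion h2) (Submodule.inclusion_injective h2) (Submodule.inclusion h1)
  have e : LinearMap.range (Submodule.inclusion h2 ∘ₗ Submodule.inclusion h1) = S.comap U.subtype := by
    rw [show Submodule.inclusion h2 ∘ₗ Submodule.inclusion h1 = Submodule.inclusion (h1.trans h2) from rfl]
    exact Submodule.range_inclusion _ _ _
  rw [Submodule.range_inclusion, Submodule.range_inclusion,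
    (Submodule.quotEquivOfEq _ _ e).length_eq] at h
  exact h

theorem rel_map (f : X →ₗ[O] Y) (hf : Function.Injective f) (T S : Submodule O X) :
    relLen (T.map f) (S.map f) = relLen T S := by
  refine (Submodule.Quotient.equiv _ _ (Submodule.equivMapOfInjective f hf T) ?_).length_eq.symm
  ext ⟨y, x, hx, rfl⟩
  constructor
  · rintro ⟨⟨x', hx'⟩, h1, h2⟩
    exact ⟨x', h1, congrArg Subtype.val h2⟩
  · rintro ⟨x', hx', h⟩
    obtain rfl := hf h
    exact ⟨⟨x', hx⟩, hx', Subtype.ext rfl⟩

theorem rel_top (S : Submodule O X) : relLen ⊤ S = Module.length O (X ⧸ S) := by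
  refine (Submodule.Quotient.equiv _ _ (Submodule.topEquiv (R := O) (M := X)) ?_).length_eq
  ext x
  exact ⟨fun ⟨y, hy, h⟩ => h ▸ hy, fun hx => ⟨⟨x, trivial⟩, hx, rfl⟩⟩

theorem rel_self (T : Submodule O X) : relLen T T = 0 := by
  rw [relLen, Module.length_eq_zero_iff, Submodule.Quotient.subsingleton_iff]
  exact Submodule.comap_subtype_self T

/-- Between a submodule of finite colength and the top, every colength occurs when the residue fields are trivial. -/
theorem exists_colength {B : Type u} [CommRing B] [Algebra O B] [Module B X] [IsScalarTower O B X] [IsNoetherian B X]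
    (hres : ∀ P : Ideal B, P.IsMaximal → Function.Surjective ((Ideal.Quotient.mk P).comp (algebraMap O B)))
    (L0 : Submodule B X) : ∀ d : ℕ, (d : ℕ∞) ≤ relLen ⊤ (L0.restrictScalars O) →
      ∃ L : Submodule B X, L0 ≤ L ∧ relLen ⊤ (L.restrictScalars O) = d := by
  intro d
  induction d with
  | zero => exact fun _ => ⟨⊤, le_top, by rw [Submodule.restrictScalars_top, rel_self]; rfl⟩
  | succ d ih =>
    intro hd
    obtain ⟨L, hL, hlen⟩ := ih (le_trans (by exact_mod_cast Nat.le_succ d) hd)
    have hlt : L0 ≠ L := by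
      rintro rfl
      rw [hlen] at hd
      exact absurd (by exact_mod_cast hd) (Nat.not_succ_le_self d)
    obtain ⟨N, ⟨hN0, hNL⟩, hmax⟩ := set_has_maximal_iff_noetherian.2 (inferInstance : IsNoetherian B X)
      {N : Submodule B X | L0 ≤ N ∧ N < L} ⟨L0, le_rfl, lt_of_le_of_ne hL hlt⟩
    refine ⟨N, hN0, ?_⟩
    rw [rel_add (T := L.restrictScalars O) (show N.restrictScalars O ≤ L.restrictScalars O from hNL.le) le_top, hlen]
    suffices h : relLen (L.restrictScalars O) (N.restrictScalars O) = 1 by rw [h, add_comm]; norm_cast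
    obtain ⟨x, hxL, hxN⟩ := SetLike.exists_of_lt hNL
    let P : Ideal B := N.comap (LinearMap.toSpanSingleton B X x)
    have hP : P.IsMaximal := by
      refine Ideal.isMaximal_iff.2 ⟨fun h => hxN (by simpa [P] using h), fun J b hPJ hb hbJ => ?_⟩
      have hb' : b • x ∉ N := fun h => hb h
      have hsup : N ⊔ Submodule.span B {b • x} = L := by
        by_contra hne
        refine hmax _ ⟨hN0.trans le_sup_left, lt_of_le_of_ne (sup_le hNL.le ?_) hne⟩
          (lt_of_le_of_ne le_sup_left fun h => hb' ?_)
        · rw [Submodule.span_singleton_le_iff_mem]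
          exact L.smul_mem b hxL
        · rw [h]
          exact le_sup_right (α := Submodule B X) (Submodule.mem_span_singleton_self _)
      obtain ⟨z, hz, w, hw, hzw⟩ := Submodule.mem_sup.1 (hsup.symm ▸ hxL : x ∈ N ⊔ Submodule.span B {b • x})
      obtain ⟨c, rfl⟩ := Submodule.mem_span_singleton.1 hw
      have h1 : (1 - c * b) ∈ P := by
        show (1 - c * b) • x ∈ N
        rw [sub_smul, one_smul, mul_smul]
        convert hz using 1
        rw [sub_eq_iff_eq_add, hzw]
      have h2 := J.add_mem (hPJ h1) (J.mul_mem_left c hbJ)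
      rwa [sub_add_cancel] at h2
    let F : O →ₗ[O] (↥(L.restrictScalars O) ⧸ (N.restrictScalars O).comap (L.restrictScalars O).subtype) :=
      LinearMap.toSpanSingleton O _ (Submodule.Quotient.mk ⟨x, hxL⟩)
    have hFker : ∀ a : O, F a = 0 ↔ algebraMap O B a • x ∈ N := fun a => by
      rw [LinearMap.toSpanSingleton_apply, ← Submodule.Quotient.mk_smul, Submodule.Quotient.mk_eq_zero, algebraMap_smul]
      rfl
    have hFsurj : Function.Surjective F := by
      intro q
      obtain ⟨⟨y, hy⟩, rfl⟩ := Submodule.Quotient.mk_surjective _ q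
      have hsup : N ⊔ Submodule.span B {x} = L := by
        by_contra hne
        refine hmax _ ⟨hN0.trans le_sup_left, lt_of_le_of_ne (sup_le hNL.le ?_) hne⟩
          (lt_of_le_of_ne le_sup_left fun h => hxN ?_)
        · rwa [Submodule.span_singleton_le_iff_mem]
        · rw [h]
          exact le_sup_right (α := Submodule B X) (Submodule.mem_span_singleton_self _)
      obtain ⟨z, hz, w, hw, hzw⟩ := Submodule.mem_sup.1 (hsup.symm ▸ hy : y ∈ N ⊔ Submodule.span B {x})
      obtain ⟨b, rfl⟩ := Submodule.mem_span_singleton.1 hw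
      obtain ⟨a, ha⟩ := hres P hP (Ideal.Quotient.mk P b)
      refine ⟨a, ?_⟩
      rw [LinearMap.toSpanSingleton_apply, ← Submodule.Quotient.mk_smul, Submodule.Quotient.eq]
      show a • x - y ∈ N
      have h1 : (algebraMap O B a - b) • x ∈ N := Ideal.Quotient.eq.1 ha
      rw [← hzw, ← algebraMap_smul B a x, show algebraMap O B a • x - (z + b • x) = (algebraMap O B a - b) • x - z by
        rw [sub_smul]; abel]
      exact N.sub_mem h1 hz
    have hkerMax : Ideal.IsMaximal (LinearMap.ker F : Ideal O) := by
      letI := Ideal.Quotient.field P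
      have he : (LinearMap.ker F : Ideal O) = RingHom.ker ((Ideal.Quotient.mk P).comp (algebraMap O B)) := Ideal.ext fun a => by
        rw [LinearMap.mem_ker, hFker, RingHom.mem_ker, RingHom.comp_apply, Ideal.Quotient.eq_zero_iff_mem]
        rfl
      exact he ▸ RingHom.ker_isMaximal_of_surjective _ (hres P hP)
    haveI : IsSimpleModule O (↥(L.restrictScalars O) ⧸ (N.restrictScalars O).comap (L.restrictScalars O).subtype) :=
      isSimpleModule_iff_quot_maximal.2 ⟨_, hkerMax, ⟨(F.quotKerEquivOfSurjective hFsurj).symm⟩⟩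
    exact Module.length_eq_one O _

/-- Let O be a one-dimensional Gorenstein local domain with algebraically closed residue field whose
integral closure O~ in its fraction field K is a finite O-module, and let C ⊆ O be the conductor of
O in O~. Every finitely generated torsion-free O-module of rank n is isomorphic to an O-submodule M'
of K^n with C^n ⊆ M' ⊆ O~^n and length(M'/C^n) = n · length(O/C); that is, every isomorphism class
of rank-n torsion-free modules is represented by a submodule of (O~/C)^n of the same length as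
(O/C)^n. -/
theorem result (O : Type u) [CommRing O] [IsDomain O] [LocCoh.IsGorensteinLocalRing O] (hdim : ringKrullDim O = 1) [IsAlgClosed (IsLocalRing.ResidueField O)] (K : Type u) [Field K] [Algebra O K] [IsFractionRing O K] (hfin : Module.Finite O ↥(integralClosure O K)) (M : Type u) [AddCommGroup M] [Module O M] [Module.Finite O M] [NoZeroSMulDivisors O M] (n : ℕ) (hn : Module.finrank K (TensorProduct O K M) = n) : ∃ M' : Submodule O (Fin n → K), Submodule.pi Set.univ (fun _ : Fin n => (((1 : Submodule O K).colon (Subalgebra.toSubmodule (integralClosure O K))) • (1 : Submodule O K))) ≤ M' ∧ M' ≤ Submodule.pi Set.univ (fun _ : Fin n => (Subalgebra.toSubmodule (integralClosure O K))) ∧ Nonempty (M ≃ₗ[O] ↥M') ∧ Module.length O (↥M' ⧸ Submodule.comap M'.subtype (Submodule.pi Set.univ (fun _ : Fin n => (((1 : Submodule O K).colon (Subalgebra.toSubmodule (integralClosure O K))) • (1 : Submodule O K))))) = (n : ℕ∞) * Module.length O (O ⧸ ((1 : Submodule O K).colon (Subalgebra.toSubmodule (integralClosure O K)))) := by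
  classical
  obtain ⟨M'', hC1, h1, ⟨eM⟩⟩ := Groth.Agent.S15035.result O hdim K hfin M n hn
  haveI : Ring.KrullDimLE 1 O := by
    rw [Ring.krullDimLE_iff, hdim]
    norm_num
  haveI : Ring.DimensionLEOne O := ⟨fun {p} hp hP => Ring.krullDimLE_one_iff_of_noZeroDivisors.1 ‹_› p hp hP⟩
  haveI : FaithfulSMul O K := (faithfulSMul_iff_algebraMap_injective O K).2 (IsFractionRing.injective O K)
  let B := ↥(integralClosure O K)
  haveI : Module.Finite O B := hfin
  haveI : IsFractionRing B K := integralClosure.isFractionRing_of_finite_extension (A := O) (K := K) K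
  haveI : FaithfulSMul O B := (faithfulSMul_iff_algebraMap_injective O B).2
    fun a b h => IsFractionRing.injective O K (congrArg Subtype.val h)
  haveI : IsNoetherianRing B := IsNoetherianRing.of_finite O B
  haveI : IsIntegrallyClosed B := (isIntegrallyClosed_iff K).2 fun {x} hx =>
    ⟨⟨x, isIntegral_trans (R := O) x hx⟩, rfl⟩
  haveI : IsDedekindDomain B := {}
  have hfinM : {P : Ideal B | P.IsMaximal}.Finite := by
    refine (Algebra.QuasiFinite.finite_primesOver (R := O) (maximalIdeal O)).subset fun P hP => ?_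
    haveI : P.IsMaximal := hP
    exact ⟨hP.isPrime, ⟨(IsLocalRing.eq_maximalIdeal (Ideal.isMaximal_comap_of_isIntegral_of_isMaximal P)).symm⟩⟩
  haveI : IsPrincipalIdealRing B := IsPrincipalIdealRing.of_finite_maximals hfinM
  -- the conductor
  generalize hDdef : ((1 : Submodule O K).colon (Subalgebra.toSubmodule (integralClosure O K))) • (1 : Submodule O K) = D at hC1 ⊢
  have hDiff : ∀ d : K, d ∈ D ↔ ∀ b : B, d * (b : K) ∈ (1 : Submodule O K) := by
    intro d
    constructor
    · intro hd b
      rw [← hDdef] at hd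
      refine Submodule.smul_induction_on hd ?_ ?_
      · intro c hc y hy
        obtain ⟨t, rfl⟩ := Submodule.mem_one.1 hy
        have h2 := Submodule.smul_mem (1 : Submodule O K) t (Submodule.mem_colon.1 hc (b : K) b.2)
        convert h2 using 1
        rw [Algebra.smul_def, Algebra.smul_def, Algebra.smul_def]
        ring
      · intro x y hx hy
        rw [add_mul]
        exact add_mem hx hy
    · intro h
      obtain ⟨a, ha⟩ := Submodule.mem_one.1 (by simpa using h 1)
      rw [← hDdef, show d = a • (1 : K) by rw [Algebra.smul_def, mul_one, ha]]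
      refine Submodule.smul_mem_smul (Submodule.mem_colon.2 fun y hy => ?_) (Submodule.mem_one.2 ⟨1, map_one _⟩)
      rw [Algebra.smul_def, ha]
      exact h ⟨y, hy⟩
  have hDcolon : ∀ a : O, algebraMap O K a ∈ D ↔ a ∈ (1 : Submodule O K).colon (Subalgebra.toSubmodule (integralClosure O K) : Set K) := by
    intro a
    rw [hDiff, Submodule.mem_colon]
    constructor
    · intro h y hy
      rw [Algebra.smul_def]
      exact h ⟨y, hy⟩
    · intro h b
      rw [← Algebra.smul_def]
      exact h (b : K) b.2
  have hDmul : ∀ d ∈ D, ∀ b : B, d * (b : K) ∈ D := fun d hd b => (hDiff _).2 fun b' => by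
    rw [mul_assoc]
    exact (hDiff d).1 hd (b * b')
  obtain ⟨c, hc0, hcD⟩ : ∃ c : O, c ≠ 0 ∧ algebraMap O K c ∈ D := by
    obtain ⟨s, hs⟩ := hfin.fg_top
    obtain ⟨⟨c, hc⟩, hint⟩ := IsLocalization.exist_integer_multiples O⁰ s (fun x : B => (x : K))
    refine ⟨c, nonZeroDivisors.ne_zero hc, (hDiff _).2 fun y => ?_⟩
    rw [← Algebra.smul_def]
    have hy' : y ∈ Submodule.span O (s : Set B) := hs ▸ Submodule.mem_top
    refine (Submodule.span_le (p := Submodule.comap (c • (integralClosure O K).val.toLinearMap) (1 : Submodule O K))).2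
      (fun g hg => ?_) hy'
    obtain ⟨a, ha⟩ := hint g hg
    exact Submodule.mem_one.2 ⟨a, ha⟩
  -- the lattices inside `B^n`
  let ι : (Fin n → B) →ₗ[O] (Fin n → K) := (integralClosure O K).val.toLinearMap.compLeft (Fin n)
  have hι : Function.Injective ι := fun x y h => funext fun i => Subtype.ext (congrFun h i)
  let jP : (Fin n → O) →ₗ[O] (Fin n → B) := (Algebra.linearMap O B).compLeft (Fin n)
  have hjP : Function.Injective jP := fun x y h => funext fun i => FaithfulSMul.algebraMap_injective O B (congrFun h i)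
  let PX : Submodule O (Fin n → B) := LinearMap.range jP
  let CX : Submodule O (Fin n → B) := (Submodule.pi Set.univ fun _ : Fin n => D).comap ι
  let M2 : Submodule O (Fin n → B) := M''.comap ι
  have hCM : CX ≤ M2 := fun x hx => hC1 hx
  have hMP : M2 ≤ PX := fun x hx => by
    have h2 : ∀ i, ∃ a, algebraMap O K a = (x i : K) := fun i => Submodule.mem_one.1 (h1 hx i (Set.mem_univ _))
    choose a ha using h2
    exact ⟨a, funext fun i => Subtype.ext (ha i)⟩
  have hM2map : M2.map ι = M'' := Submodule.map_comap_eq_self fun x hx => by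
    have h2 : ∀ i, ∃ a, algebraMap O K a = x i := fun i => Submodule.mem_one.1 (h1 hx i (Set.mem_univ _))
    choose a ha using h2
    exact ⟨jP a, funext fun i => ha i⟩
  have hC_stab : ∀ (f : (Fin n → B) →ₗ[B] (Fin n → B)), CX.map (f.restrictScalars O) ≤ CX := by
    rintro f _ ⟨x, hx, rfl⟩ i -
    show ((f x i : B) : K) ∈ D
    rw [show f x = ∑ j, x j • f (Pi.single j 1) by
      conv_lhs => rw [pi_eq_sum_univ' x]
      rw [map_sum]
      simp only [map_smul]]
    rw [Finset.sum_apply, AddSubmonoidClass.coe_finsetSum]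
    exact Submodule.sum_mem _ fun j _ => hDmul _ (hx j (Set.mem_univ _)) _
  have hfinC : relLen ⊤ CX ≠ ⊤ := by
    rw [rel_top]
    refine Groth.Agent.S15011.quot_finite_length c hc0 fun q => ?_
    obtain ⟨x, rfl⟩ := Submodule.Quotient.mk_surjective _ q
    rw [← Submodule.Quotient.mk_smul, Submodule.Quotient.mk_eq_zero]
    intro i _
    show ((c • x i : B) : K) ∈ D
    rw [Subalgebra.coe_smul, Algebra.smul_def]
    exact hDmul _ hcD _
  have hPC : relLen PX CX = (n : ℕ∞) * Module.length O (O ⧸ ((1 : Submodule O K).colon (Subalgebra.toSubmodule (integralClosure O K) : Set K))) := by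
    have e : (Submodule.pi Set.univ fun _ : Fin n => ((1 : Submodule O K).colon (Subalgebra.toSubmodule (integralClosure O K) : Set K))).map jP = CX := by
      apply le_antisymm
      · rintro _ ⟨a, ha, rfl⟩ i -
        exact (hDcolon (a i)).2 (ha i (Set.mem_univ _))
      · intro x hx
        obtain ⟨a, rfl⟩ := hMP (hCM hx)
        exact ⟨a, fun i _ => (hDcolon (a i)).1 (hx i (Set.mem_univ _)), rfl⟩
    rw [← e, show PX = Submodule.map jP ⊤ from (Submodule.map_top jP).symm, rel_map jP hjP, rel_top,
      (Submodule.quotientPi fun _ : Fin n => ((1 : Submodule O K).colon (Subalgebra.toSubmodule (integralClosure O K) : Set K))).length_eq,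
      Module.length_pi_of_fintype, Finset.sum_const, Finset.card_univ, Fintype.card_fin, nsmul_eq_mul]
  -- a spanning set of `B M''`
  haveI : NoZeroSMulDivisors O ↥M'' := eM.symm.injective.noZeroSMulDivisors _ (map_zero _) (map_smul _)
  haveI : Module.Finite O ↥M'' := Module.Finite.equiv eM
  obtain ⟨φ, hφ, hsing, hint⟩ := Groth.Agent.S15009.exists_between (O := O) (B := B) (K := K) hfinM ↥M'' n
    ((LinearEquiv.baseChange O K _ _ eM).finrank_eq.symm.trans hn)
  choose v hv using hsing
  have hvB : ∀ j, ∃ y, ι y = (v j : Fin n → K) := fun j => by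
    have h2 : (v j : Fin n → K) ∈ M2.map ι := hM2map.symm ▸ (v j).2
    obtain ⟨y, -, hy⟩ := h2
    exact ⟨y, hy⟩
  choose vB hvB using hvB
  let V : (Fin n → B) →ₗ[B] (Fin n → B) := Fintype.linearCombination B vB
  let VO := V.restrictScalars O
  have hιV : ∀ y : Fin n → B, ι (VO y) = ∑ j, (y j : K) • (v j : Fin n → K) := fun y => by
    show ι (Fintype.linearCombination B vB y) = _
    rw [Fintype.linearCombination_apply, map_sum]
    exact Finset.sum_congr rfl fun j _ => by rw [← hvB j]; rfl
  have hφe : ∀ a : Fin n → O, φ (∑ j, a j • v j) = fun i => algebraMap O K (a i) := fun a => by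
    rw [map_sum]
    simp only [map_smul, hv]
    funext i
    rw [Finset.sum_apply, Finset.sum_eq_single i]
    · rw [Pi.smul_apply, Pi.single_eq_same, Algebra.smul_def, mul_one]
    · intro j _ hj
      rw [Pi.smul_apply, Pi.single_eq_of_ne (Ne.symm hj), smul_zero]
    · intro h
      exact absurd (Finset.mem_univ i) h
  have hclear : ∀ y : Fin n → B, ∃ (s : O) (a : Fin n → O), s ≠ 0 ∧ (∀ i, algebraMap O K (a i) = s • (y i : K)) ∧
      s • ι (VO y) = ((∑ j, a j • v j : ↥M'') : Fin n → K) := fun y => by
    obtain ⟨⟨s, hs⟩, hi⟩ := IsLocalization.exist_integer_multiples O⁰ (Finset.univ : Finset (Fin n)) (fun i => (y i : K))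
    have hi' : ∀ i, ∃ a : O, algebraMap O K a = s • (y i : K) := fun i => hi i (Finset.mem_univ _)
    choose a ha using hi'
    refine ⟨s, a, nonZeroDivisors.ne_zero hs, ha, ?_⟩
    rw [hιV, Finset.smul_sum, AddSubmonoidClass.coe_finsetSum]
    refine Finset.sum_congr rfl fun j _ => ?_
    rw [Submodule.coe_smul, ← smul_assoc, ← ha j, algebraMap_smul]
  have hV : Function.Injective VO := by
    rw [injective_iff_map_eq_zero]
    intro y hy
    obtain ⟨s, a, hs, ha, h2⟩ := hclear y
    rw [hy, map_zero, smul_zero] at h2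
    have h3 := hφe a
    rw [show (∑ j, a j • v j : ↥M'') = 0 from Subtype.ext h2.symm, map_zero] at h3
    funext i
    refine Subtype.ext ((smul_eq_zero.1 ?_).resolve_left hs)
    rw [← ha i]
    exact (congrFun h3 i).symm
  have hMV : M2 ≤ LinearMap.range VO := by
    intro x hx
    have h2 : ∀ i, ∃ b : B, (b : K) = φ ⟨ι x, hx⟩ i := hint ⟨ι x, hx⟩
    choose b hb using h2
    refine ⟨b, hι ?_⟩
    obtain ⟨s, a, hs, ha, h2⟩ := hclear b
    refine smul_right_injective _ hs ?_
    show s • ι (VO b) = s • ι x
    rw [h2, ← Submodule.coe_smul s (⟨ι x, hx⟩ : ↥M'')]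
    refine congrArg Subtype.val (hφ ?_)
    rw [hφe, map_smul]
    funext i
    rw [ha, hb, Pi.smul_apply]
  have hVP : PX.map VO ≤ M2 := by
    rintro _ ⟨_, ⟨a, rfl⟩, rfl⟩
    show ι (VO (jP a)) ∈ M''
    rw [hιV]
    refine Submodule.sum_mem _ fun j _ => ?_
    show (algebraMap O K (a j)) • (v j : Fin n → K) ∈ M''
    rw [algebraMap_smul]
    exact M''.smul_mem _ (v j).2
  have hfin1 : relLen ⊤ PX ≠ ⊤ := fun h => hfinC (by rw [rel_add (hCM.trans hMP) le_top, h, add_top])
  have hlenV : relLen ⊤ (LinearMap.range VO) = relLen PX (PX.map VO) := by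
    have e1 := rel_add (hVP.trans hMP) (le_top : PX ≤ ⊤)
    have e2 := rel_add (show PX.map VO ≤ LinearMap.range VO from LinearMap.map_le_range) (le_top : LinearMap.range VO ≤ ⊤)
    rw [e1, ← Submodule.map_top VO, rel_map VO hV, add_comm] at e2
    rw [← Submodule.map_top VO]
    exact ((WithTop.add_left_cancel hfin1) e2).symm
  have hd : relLen PX M2 ≤ relLen ⊤ (LinearMap.range VO) := by
    rw [hlenV, rel_add hVP hMP]
    exact le_add_self
  have hdfin : relLen PX M2 ≠ ⊤ := fun h => hfinC (by
    rw [rel_add (hCM.trans hMP) le_top, rel_add hCM hMP, h, add_top, top_add])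
  obtain ⟨d, hd'⟩ := ENat.ne_top_iff_exists.1 hdfin
  have hres : ∀ P : Ideal B, P.IsMaximal → Function.Surjective ((Ideal.Quotient.mk P).comp (algebraMap O B)) :=
    fun P hP => by haveI := hP; exact Groth.Agent.S15009.residue_surjective_of_finite P
  obtain ⟨L, hL0, hL⟩ := exists_colength (O := O) hres (LinearMap.range V) d (by
    rw [hd']
    exact hd.trans_eq (congrArg (relLen ⊤) rfl))
  have hrk : Module.finrank B ↥L = n := by
    apply le_antisymm
    · have h2 := Submodule.finrank_le L
      rwa [Module.finrank_fin_fun] at h2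
    · have h2 := Submodule.finrank_mono hL0
      rwa [LinearMap.finrank_range_of_inj (show Function.Injective V from hV), Module.finrank_fin_fun] at h2
  let W : (Fin n → B) →ₗ[B] (Fin n → B) := L.subtype ∘ₗ (Module.finBasisOfFinrankEq B ↥L hrk).equivFun.symm.toLinearMap
  let WO := W.restrictScalars O
  have hW : Function.Injective WO := L.injective_subtype.comp (LinearEquiv.injective _)
  have hWrange : LinearMap.range WO = L.restrictScalars O := by
    ext x
    constructor
    · rintro ⟨y, rfl⟩
      exact ((Module.finBasisOfFinrankEq B ↥L hrk).equivFun.symm y).2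
    · intro hx
      refine ⟨(Module.finBasisOfFinrankEq B ↥L hrk).equivFun ⟨x, hx⟩, ?_⟩
      show (((Module.finBasisOfFinrankEq B ↥L hrk).equivFun.symm _ : ↥L) : Fin n → B) = x
      rw [LinearEquiv.symm_apply_apply]
  let M1 : Submodule O (Fin n → B) := M2.comap WO
  have hM1map : M1.map WO = M2 := Submodule.map_comap_eq_self (by
    rw [hWrange]
    intro x hx
    obtain ⟨y, rfl⟩ := hMV hx
    exact hL0 ⟨y, rfl⟩)
  have hCM1 : CX ≤ M1 := fun x hx => hCM (hC_stab W ⟨x, hx, rfl⟩)
  have hWC : relLen CX (CX.map WO) = d := by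
    have e1 := rel_add (hC_stab W) (le_top : CX ≤ ⊤)
    have e2 := rel_add (show CX.map WO ≤ LinearMap.range WO from LinearMap.map_le_range) (le_top : LinearMap.range WO ≤ ⊤)
    rw [e1, ← Submodule.map_top WO, rel_map WO hW, add_comm] at e2
    rw [← hL, ← hWrange, ← Submodule.map_top WO]
    exact (WithTop.add_left_cancel hfinC) e2
  have hmain : relLen M1 CX = relLen PX CX := by
    rw [← rel_map WO hW, hM1map, rel_add (hC_stab W) hCM, hWC, hd', add_comm, ← rel_add hCM hMP]
  refine ⟨M1.map ι, fun x hx => ?_, ?_, ⟨eM.trans ((LinearEquiv.ofEq _ _ hM2map.symm).trans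
    ((Submodule.equivMapOfInjective ι hι M2).symm.trans ((LinearEquiv.ofEq _ _ hM1map.symm).trans
      ((Submodule.equivMapOfInjective WO hW M1).symm.trans (Submodule.equivMapOfInjective ι hι M1)))))⟩, ?_⟩
  · have h2 : ∀ i, ∃ b : B, (b : K) = x i := fun i => by
      have h3 := (hDiff _).1 (hx i (Set.mem_univ _)) 1
      obtain ⟨a, ha⟩ := Submodule.mem_one.1 h3
      exact ⟨algebraMap O B a, ha.trans (mul_one _)⟩
    choose b hb using h2
    exact ⟨b, hCM1 fun i _ => by show (b i : K) ∈ D; rw [hb]; exact hx i (Set.mem_univ _), funext hb⟩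
  · rintro _ ⟨y, -, rfl⟩ i -
    exact (y i).2
  · show relLen (M1.map ι) (Submodule.pi Set.univ fun _ : Fin n => D) = _
    rw [← hPC, ← hmain, ← rel_map ι hι M1 CX]
    congr 1
    refine (Submodule.map_comap_eq_self fun x hx => ?_).symm
    have h2 : ∀ i, ∃ b : B, (b : K) = x i := fun i => by
      have h3 := (hDiff _).1 (hx i (Set.mem_univ _)) 1
      obtain ⟨a, ha⟩ := Submodule.mem_one.1 h3
      exact ⟨algebraMap O B a, ha.trans (mul_one _)⟩
    choose b hb using h2
    exact ⟨b, funext hb⟩

end Groth.Agent.S15012
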