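import Groth.Statements.S15014
import Groth.Agent.TFExt.DualExt
import Groth.Agent.S15013

set_option autoImplicit false
universe u
open CategoryTheory
open TFCurv

namespace Groth.Agent.S15014

/-- Let O be a one-dimensional Noetherian local domain with algebraically closed residue field whose
integral closure O~ in its fraction field K is a finite O-module, and w a canonical ideal (a nonzero
finitely generated O-submodule of K of injective dimension at most one). For a finitely generated
torsion-free O-module M with dual M* = Hom_O(M, w), the groups Ext^i_O(M, M) and Ext^i_O(M*, M*) are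
isomorphic for every i ≥ 0 (existence of an additive isomorphism only). -/
theorem result (O : Type u) [CommRing O] [IsDomain O] [IsNoetherianRing O] [IsLocalRing O] (hdim : ringKrullDim O = 1) [IsAlgClosed (IsLocalRing.ResidueField O)] (K : Type u) [Field K] [Algebra O K] [IsFractionRing O K] (hfin : Module.Finite O ↥(integralClosure O K)) (ω : Submodule O K) (hω0 : ω ≠ ⊥) (hωfg : ω.FG) (hωinj : HasInjectiveDimensionLT (ModuleCat.of O ↥ω) 2) (M : Type u) [AddCommGroup M] [Module O M] [Module.Finite O M] [NoZeroSMulDivisors O M] (i : ℕ) : Nonempty (Abelian.Ext (ModuleCat.of O M) (ModuleCat.of O M) i ≃+ Abelian.Ext (ModuleCat.of O (M →ₗ[O] ↥ω)) (ModuleCat.of O (M →ₗ[O] ↥ω)) i) := by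
  classical
  haveI : Ring.KrullDimLE 1 O := by rw [Ring.krullDimLE_iff, hdim]; norm_num
  have hnf : ¬ IsField O := fun h => by
    rw [ringKrullDim_eq_zero_of_isField h] at hdim
    exact zero_ne_one hdim
  have hω : Groth.Agent.TFExt.IsLat ω := ⟨hω0, hωfg⟩
  haveI : Module.Finite O ↥ω := Module.Finite.iff_fg.2 hωfg
  haveI : Module.IsTorsionFree O K := inferInstance
  haveI : Module.IsTorsionFree O ↥ω := inferInstance
  haveI : Module.IsTorsionFree O M := inferInstance
  have H : Groth.Agent.TFExt.VanishExt O ↥ω := fun C _ _ _ _ j hj => by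
    haveI : NoZeroSMulDivisors O C := ⟨fun {c x} h => smul_eq_zero.1 h⟩
    exact Groth.Agent.S15013.result O hdim K hfin ω hω0 hωfg hωinj C j hj
  obtain ⟨y, hy, hy0⟩ := ω.exists_mem_ne_zero_of_ne_bot hω0
  have hd1 : ω / (1 : Submodule O K) = ω := le_antisymm
    (fun z hz => by simpa using Submodule.mem_div_iff_forall_mul_mem.1 hz 1 (Submodule.mem_one.2 ⟨1, map_one _⟩))
    (fun z hz => Submodule.mem_div_iff_forall_mul_mem.2 fun w hw => by
      obtain ⟨q, rfl⟩ := Submodule.mem_one.1 hw
      rw [mul_comm, ← Algebra.smul_def]; exact ω.smul_mem q hz)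
  have hone := Groth.Agent.TFExt.div_div hnf hω hωinj (Groth.Agent.TFExt.isLat_one (O := O) (K := K))
  rw [hd1] at hone
  have hEnd : ∀ φ : ↥ω →ₗ[O] ↥ω, ∃ a : O, ∀ x, φ x = a • x := fun φ => by
    have hmul := Groth.Agent.TFExt.hom_eq_mul hy hy0 (ω.subtype.comp φ)
    have hmem : (φ ⟨y, hy⟩ : K) / y ∈ ω / ω := Submodule.mem_div_iff_forall_mul_mem.2 fun z hz => by
      have e : (φ ⟨z, hz⟩ : K) = (φ ⟨y, hy⟩ : K) / y * z := hmul ⟨z, hz⟩
      exact e ▸ (φ ⟨z, hz⟩).2
    rw [hone] at hmem
    obtain ⟨a, ha⟩ := Submodule.mem_one.1 hmem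
    refine ⟨a, fun x => Subtype.ext ?_⟩
    rw [Submodule.coe_smul, Algebra.smul_def, ha]
    exact hmul x
  exact Groth.Agent.TFExt.ext_dual_equiv H ⟨⟨y, hy⟩, fun h => hy0 (congrArg Subtype.val h)⟩ hEnd i M M

end Groth.Agent.S15014
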