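import Groth.Statements.S15015
import Groth.Agent.Semigroup.Basic

set_option autoImplicit false
universe u
open TFCurv

namespace Groth.Agent.S15015

/-- Let k be an algebraically closed field and A ≠ k[[t]] a k-subalgebra of k[[t]] that is closed in the
t-adic topology, over which k[[t]] is a finite module, and such that every power series is carried
into A by multiplication with some nonzero element of A (so k[[t]] lies in the fraction field of A
and is its normalisation, as for the complete local ring of a unibranch curve singularity), and let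
Γ ⊆ ℕ be the set of t-orders of the nonzero elements of A (its value semigroup). Then ℕ ∖ Γ is
finite and the k-dimension of k[[t]]/A equals the number of gaps of Γ. -/
theorem result (k : Type u) [Field k] [IsAlgClosed k] (A : Subalgebra k (PowerSeries k)) (hA : Module.Finite ↥A (PowerSeries k)) (hcl : ∀ f : PowerSeries k, (∀ n : ℕ, ∃ g ∈ A, (n : ℕ∞) ≤ PowerSeries.order (f - g)) → f ∈ A) (hsing : A ≠ ⊤) (hbir : ∀ f : PowerSeries k, ∃ a ∈ A, a ≠ 0 ∧ a * f ∈ A) (Γ : Set ℕ) (hΓ : ∀ n : ℕ, n ∈ Γ ↔ ∃ f ∈ A, PowerSeries.order f = n) : Γᶜ.Finite ∧ Module.finrank k (PowerSeries k ⧸ Subalgebra.toSubmodule A) = Γᶜ.ncard := by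
  classical
  have hmul : ∀ a b, a ∈ Γ → b ∈ Γ → a + b ∈ Γ := by
    intro a b ha hb
    obtain ⟨f, hf, hfo⟩ := (hΓ a).mp ha
    obtain ⟨g, hg, hgo⟩ := (hΓ b).mp hb
    exact (hΓ _).mpr ⟨f * g, A.mul_mem hf hg, by rw [PowerSeries.order_mul, hfo, hgo]; push_cast; rfl⟩
  have h0 : 0 ∈ Γ := (hΓ 0).mpr ⟨1, A.one_mem, by simp⟩
  obtain ⟨a, haA, ha0, haX⟩ := hbir PowerSeries.X
  obtain ⟨o, ho⟩ := ENat.ne_top_iff_exists.mp (fun htop => ha0 (PowerSeries.order_eq_top.mp htop))
  have ho1 : o ∈ Γ := (hΓ o).mpr ⟨a, haA, ho.symm⟩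
  have ho2 : o + 1 ∈ Γ := (hΓ _).mpr ⟨_, haX, by
    rw [PowerSeries.order_mul, PowerSeries.order_X, ← ho]; push_cast; rfl⟩
  have hmuls : ∀ x, x ∈ Γ → ∀ m, m * x ∈ Γ := fun x hx m => by
    induction m with
    | zero => simpa using h0
    | succ m ih => rw [add_mul, one_mul]; exact hmul _ _ ih hx
  obtain ⟨c, hc⟩ : ∃ c, ∀ n, c ≤ n → n ∈ Γ := by
    rcases Nat.eq_zero_or_pos o with rfl | hop
    · exact ⟨0, fun n _ => by simpa using hmuls 1 (by simpa using ho2) n⟩
    refine ⟨o * o, fun n hn => ?_⟩
    have hq : o ≤ n / o := (Nat.le_div_iff_mul_le hop).mpr hn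
    have hr : n % o < o := Nat.mod_lt _ hop
    have hd := Nat.div_add_mod n o
    obtain ⟨k', hk'⟩ : ∃ k', n / o = n % o + k' := ⟨n / o - n % o, by omega⟩
    rw [show n = k' * o + n % o * (o + 1) by rw [hk'] at hd; nlinarith]
    exact hmul _ _ (hmuls _ ho1 _) (hmuls _ ho2 _)
  have hfin : Γᶜ.Finite := (Set.finite_Iio c).subset fun n hn => not_le.mp fun h => hn (hc n h)
  refine ⟨hfin, ?_⟩
  haveI := hfin.fintype
  let L : (↥Γᶜ → k) →ₗ[k] PowerSeries k :=
    { toFun := fun v => ∑ g, v g • PowerSeries.X ^ (g : ℕ)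
      map_add' := fun v w => by simp [add_smul, Finset.sum_add_distrib]
      map_smul' := fun r v => by simp [smul_smul, Finset.smul_sum] }
  have hcoeff : ∀ v (g : ↥Γᶜ), PowerSeries.coeff (g : ℕ) (L v) = v g := by
    intro v g
    show PowerSeries.coeff (g : ℕ) (∑ g', v g' • PowerSeries.X ^ (g' : ℕ)) = v g
    rw [map_sum, Finset.sum_eq_single g (fun g' _ hne => ?_) (by simp)]
    · simp [PowerSeries.coeff_X_pow]
    · simp [PowerSeries.coeff_X_pow, Subtype.coe_inj, Ne.symm hne]
  have hsupp : ∀ v i, i ∈ Γ → PowerSeries.coeff i (L v) = 0 := by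
    intro v i hi
    show PowerSeries.coeff i (∑ g', v g' • PowerSeries.X ^ (g' : ℕ)) = 0
    rw [map_sum]
    refine Finset.sum_eq_zero fun g _ => ?_
    simp [PowerSeries.coeff_X_pow, show i ≠ (g : ℕ) from fun h => g.2 (h ▸ hi)]
  let q := (Subalgebra.toSubmodule A).mkQ ∘ₗ L
  have hinj : Function.Injective q := by
    rw [← LinearMap.ker_eq_bot, LinearMap.ker_eq_bot']
    intro v hv
    have hmem : L v ∈ A := (Submodule.Quotient.mk_eq_zero _).mp hv
    by_contra hne
    have hLne : L v ≠ 0 := fun h => hne (funext fun g => by rw [← hcoeff v g, h]; simp)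
    obtain ⟨n, hn⟩ := ENat.ne_top_iff_exists.mp (fun htop => hLne (PowerSeries.order_eq_top.mp htop))
    exact (PowerSeries.order_eq_nat.mp hn.symm).1 (hsupp v n ((hΓ n).mpr ⟨_, hmem, hn.symm⟩))
  have hsurj : Function.Surjective q := by
    have key : ∀ j, ∀ f : PowerSeries k, ((c - j : ℕ) : ℕ∞) ≤ f.order →
        f ∈ Subalgebra.toSubmodule A ⊔ LinearMap.range L := by
      intro j
      induction j with
      | zero =>
        intro f hf
        exact Submodule.mem_sup_left (Groth.Agent.Semigroup.mem_of_le_order A hcl Γ hΓ c hc f (by simpa using hf))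
      | succ j ih =>
        intro f hf
        rcases Nat.lt_or_ge j c with hj | hj
        swap
        · exact ih f (by rw [show c - j = c - (j + 1) by omega]; exact hf)
        have hstep : ∀ (e : PowerSeries k), ((c - (j + 1) : ℕ) : ℕ∞) ≤ e.order →
            PowerSeries.coeff (c - (j + 1)) e = PowerSeries.coeff (c - (j + 1)) f →
            e ∈ Subalgebra.toSubmodule A ⊔ LinearMap.range L →
            f ∈ Subalgebra.toSubmodule A ⊔ LinearMap.range L := by
          intro e he hec hem
          have h : f - e ∈ Subalgebra.toSubmodule A ⊔ LinearMap.range L := by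
            refine ih _ (PowerSeries.nat_le_order _ _ fun i hi => ?_)
            rw [map_sub]
            rcases eq_or_lt_of_le (show i ≤ c - (j + 1) by omega) with rfl | hlt
            · rw [hec, sub_self]
            · rw [PowerSeries.coeff_of_lt_order i (lt_of_lt_of_le (by exact_mod_cast hlt) hf),
                PowerSeries.coeff_of_lt_order i (lt_of_lt_of_le (by exact_mod_cast hlt) he), sub_zero]
          simpa using add_mem h hem
        by_cases hΓn : c - (j + 1) ∈ Γ
        · obtain ⟨g, hg, hgo⟩ := (hΓ _).mp hΓn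
          have h1 := (PowerSeries.order_eq_nat.mp hgo).1
          refine hstep ((PowerSeries.coeff (c - (j + 1)) f / PowerSeries.coeff (c - (j + 1)) g) • g)
            (PowerSeries.nat_le_order _ _ fun i hi => ?_) ?_
            (Submodule.mem_sup_left (Submodule.smul_mem _ _ hg))
          · simp [(PowerSeries.order_eq_nat.mp hgo).2 i hi]
          · rw [map_smul, smul_eq_mul, div_mul_cancel₀ _ h1]
        · refine hstep (L (Pi.single ⟨_, hΓn⟩ (PowerSeries.coeff (c - (j + 1)) f)))
            (PowerSeries.nat_le_order _ _ fun i hi => ?_) ?_ (Submodule.mem_sup_right ⟨_, rfl⟩)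
          · by_cases hiΓ : i ∈ Γ
            · exact hsupp _ i hiΓ
            · rw [hcoeff _ ⟨i, hiΓ⟩, Pi.single_eq_of_ne]
              intro h
              have : i = c - (j + 1) := congrArg Subtype.val h
              omega
          · rw [hcoeff _ ⟨_, hΓn⟩, Pi.single_eq_same]
    intro x
    obtain ⟨f, rfl⟩ := Submodule.Quotient.mk_surjective _ x
    obtain ⟨y, hy, _, ⟨v, rfl⟩, hyz⟩ := Submodule.mem_sup.mp (key c f (by simp))
    refine ⟨v, ?_⟩
    show Submodule.Quotient.mk (L v) = _
    rw [← hyz, Submodule.Quotient.mk_add, (Submodule.Quotient.mk_eq_zero _).mpr hy, zero_add]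
  rw [← (LinearEquiv.ofBijective q ⟨hinj, hsurj⟩).finrank_eq, Module.finrank_fintype_fun_eq_card,
    Set.ncard_eq_toFinset_card', Set.toFinset_card]

end Groth.Agent.S15015
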