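import Groth.Statements.S15016
import Groth.Agent.Semigroup.Basic

set_option autoImplicit false
universe u
open TFCurv

namespace Groth.Agent.S15016

/-- Let k be an algebraically closed field and A ≠ k[[t]] a k-subalgebra of k[[t]] that is closed in the
t-adic topology and over which k[[t]] is a finite module (as for the complete local ring of a
unibranch curve singularity inside its normalisation), and let Γ ⊆ ℕ be the set of t-orders of the
nonzero elements of A (its value semigroup); let c be the conductor of Γ, so that every n ≥ c lies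
in Γ and c − 1 does not. Then for a power series f, f · k[[t]] ⊆ A holds exactly when the order of f
is at least c: the conductor of A in k[[t]] is t^c · k[[t]], of codimension c. -/
theorem result (k : Type u) [Field k] [IsAlgClosed k] (A : Subalgebra k (PowerSeries k)) (hA : Module.Finite ↥A (PowerSeries k)) (hcl : ∀ f : PowerSeries k, (∀ n : ℕ, ∃ g ∈ A, (n : ℕ∞) ≤ PowerSeries.order (f - g)) → f ∈ A) (hsing : A ≠ ⊤) (Γ : Set ℕ) (hΓ : ∀ n : ℕ, n ∈ Γ ↔ ∃ f ∈ A, PowerSeries.order f = n) (c : ℕ) (hc : ∀ n : ℕ, c ≤ n → n ∈ Γ) (hc0 : c ≠ 0) (hc1 : c - 1 ∉ Γ) (f : PowerSeries k) : (∀ g : PowerSeries k, g * f ∈ A) ↔ (c : ℕ∞) ≤ PowerSeries.order f := by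
  constructor
  · intro h
    by_contra hlt
    push_neg at hlt
    have hne : f ≠ 0 := fun h0 => by rw [h0, PowerSeries.order_zero] at hlt; exact not_top_lt hlt
    obtain ⟨o, ho⟩ := ENat.ne_top_iff_exists.mp (fun htop => hne (PowerSeries.order_eq_top.mp htop))
    have hoc : o < c := by rw [← ho] at hlt; exact_mod_cast hlt
    refine hc1 ((hΓ _).mpr ⟨_, h (PowerSeries.X ^ (c - 1 - o)), ?_⟩)
    rw [PowerSeries.order_mul, PowerSeries.order_X_pow, ← ho]
    exact_mod_cast (show c - 1 - o + o = c - 1 by omega)
  · intro h g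
    refine Groth.Agent.Semigroup.mem_of_le_order A hcl Γ hΓ c hc _ ?_
    rw [PowerSeries.order_mul]
    exact le_add_left h

end Groth.Agent.S15016
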