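import Groth.Statements.S15017
import Groth.Agent.Semigroup.Basic

set_option autoImplicit false
open TFCurv

namespace Groth.Agent.S15017

/-- Let Γ be a numerical semigroup (a submonoid of (ℕ, +) with finite complement), Γ ≠ ℕ, with conductor
c (every n ≥ c lies in Γ, c − 1 does not). If Γ is symmetric (for x < c, x is a gap exactly when c −
1 − x ∈ Γ) and has multiplicity greater than 2 (neither 1 nor 2 lies in Γ), then Γ is generated by
its elements smaller than c: every minimal generator of Γ is less than the conductor. -/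
theorem result (Γ : AddSubmonoid ℕ) (c : ℕ) (hc : ∀ n : ℕ, c ≤ n → n ∈ Γ) (hc0 : c ≠ 0) (hc1 : c - 1 ∉ Γ) (hsymm : ∀ x : ℕ, x < c → (x ∉ Γ ↔ c - 1 - x ∈ Γ)) (he : (1 : ℕ) ∉ Γ ∧ (2 : ℕ) ∉ Γ) : AddSubmonoid.closure {γ : ℕ | γ ∈ Γ ∧ γ < c} = Γ := by
  classical
  refine le_antisymm (AddSubmonoid.closure_le.mpr fun γ hγ => hγ.1) fun n hn => ?_
  have hex : ∃ e, e ∈ Γ ∧ e ≠ 0 := ⟨c, hc c le_rfl, hc0⟩
  obtain ⟨he1, he0⟩ := Nat.find_spec hex
  have hmin : ∀ γ : ℕ, γ ∈ Γ → γ ≠ 0 → Nat.find hex ≤ γ := fun γ h h0 => Nat.find_min' hex ⟨h, h0⟩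
  have he2 : 2 < Nat.find hex := by
    by_contra h
    rcases Nat.lt_or_ge (Nat.find hex) 2 with h2 | h2
    · exact he.1 ((show Nat.find hex = 1 by omega) ▸ he1)
    · exact he.2 ((show Nat.find hex = 2 by omega) ▸ he1)
  induction n using Nat.strong_induction_on with
  | _ n ih =>
    rcases Nat.lt_or_ge n c with h | h
    · exact AddSubmonoid.subset_closure ⟨hn, h⟩
    · obtain ⟨γ, hγ, h0, h1, h2⟩ :=
        Groth.Agent.Semigroup.decompose Γ c hc hc0 hc1 hsymm _ he1 he0 hmin he2 n h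
      rw [show n = γ + (n - γ) by omega]
      exact add_mem (ih γ h1 hγ) (ih (n - γ) (by omega) h2)

end Groth.Agent.S15017
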