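import Groth.Statements.S15018
import Mathlib

set_option autoImplicit false
open TFCurv

namespace Groth.Agent.S15018

/-- Let Γ be a numerical semigroup (a submonoid of (ℕ, +) with finite complement), Γ ≠ ℕ, with conductor
c (every n ≥ c lies in Γ, c − 1 does not). Then Γ is symmetric (for x < c, x is a gap exactly when c
− 1 − x ∈ Γ) if and only if there is exactly one gap n of Γ such that Γ ∪ {n} is again stable under
adding elements of Γ, i.e. n + γ ∈ Γ for every nonzero γ ∈ Γ. -/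
theorem result (Γ : AddSubmonoid ℕ) (c : ℕ) (hc : ∀ n : ℕ, c ≤ n → n ∈ Γ) (hc0 : c ≠ 0) (hc1 : c - 1 ∉ Γ) : (∀ x : ℕ, x < c → (x ∉ Γ ↔ c - 1 - x ∈ Γ)) ↔ ∃! n : ℕ, n ∉ Γ ∧ ∀ γ : ℕ, γ ∈ Γ → γ ≠ 0 → n + γ ∈ Γ := by
  classical
  have hF : c - 1 ∉ Γ ∧ ∀ γ : ℕ, γ ∈ Γ → γ ≠ 0 → c - 1 + γ ∈ Γ :=
    ⟨hc1, fun γ _ h => hc _ (by omega)⟩
  constructor
  · intro hsymm
    refine ⟨c - 1, hF, fun n hn => ?_⟩
    by_contra hne
    have hnc : n < c := not_le.mp fun h => hn.1 (hc n h)
    have h := hn.2 _ ((hsymm n hnc).mp hn.1) (by omega)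
    rw [show n + (c - 1 - n) = c - 1 by omega] at h
    exact hc1 h
  · rintro hu x hx
    constructor
    · intro hxg
      let T := (Finset.range c).filter fun n => n ∉ Γ ∧ x ≤ n ∧ n - x ∈ Γ
      have hT : T.Nonempty := ⟨x, by simp [T, hx, hxg]⟩
      obtain ⟨n, hnT, hmax⟩ := T.exists_max_image id hT
      obtain ⟨hnr, hn1, hn2, hn3⟩ := Finset.mem_filter.mp hnT
      have hn : n = c - 1 := hu.unique ⟨hn1, fun γ hγ h0 => by
        by_contra hg
        have hlt : n + γ < c := not_le.mp fun h => hg (hc _ h)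
        have := hmax (n + γ) (Finset.mem_filter.mpr ⟨Finset.mem_range.mpr hlt, hg, by omega,
          by rw [show n + γ - x = n - x + γ by omega]; exact add_mem hn3 hγ⟩)
        simp only [id] at this
        omega⟩ hF
      exact hn ▸ hn3
    · intro h1 h2
      exact hc1 (by rw [show c - 1 = x + (c - 1 - x) by omega]; exact add_mem h2 h1)

end Groth.Agent.S15018
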