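import Groth.Statements.S15019
import Mathlib

set_option autoImplicit false
open TFCurv

namespace Groth.Agent.S15019

/-- Let Γ be a numerical semigroup (a submonoid of (ℕ, +) with finite complement), Γ ≠ ℕ, with conductor
c (every n ≥ c lies in Γ, c − 1 does not), let e be its multiplicity (the least nonzero element of
Γ), and let S ⊆ ℕ be a Γ-module in normal form: 0 ∈ S and γ + s ∈ S for all γ ∈ Γ, s ∈ S. Then the
set of gaps n of S with S ∪ {n} again a Γ-module (n + γ ∈ S for every nonzero γ ∈ Γ) has at most e −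
1 elements, and so does the set of nonzero s ∈ S with S ∖ {s} again a Γ-module (s − γ ∉ S for every
nonzero γ ∈ Γ with γ ≤ s). -/
theorem result (Γ : AddSubmonoid ℕ) (c : ℕ) (hc : ∀ n : ℕ, c ≤ n → n ∈ Γ) (hc0 : c ≠ 0) (hc1 : c - 1 ∉ Γ) (e : ℕ) (he : e ∈ Γ) (he0 : e ≠ 0) (hemin : ∀ γ : ℕ, γ ∈ Γ → γ ≠ 0 → e ≤ γ) (S : Set ℕ) (hS0 : (0 : ℕ) ∈ S) (hS : ∀ γ : ℕ, γ ∈ Γ → ∀ s : ℕ, s ∈ S → γ + s ∈ S) : {n : ℕ | n ∉ S ∧ ∀ γ : ℕ, γ ∈ Γ → γ ≠ 0 → n + γ ∈ S}.encard ≤ ((e - 1 : ℕ) : ℕ∞) ∧ {s : ℕ | s ∈ S ∧ s ≠ 0 ∧ ∀ γ : ℕ, γ ∈ Γ → γ ≠ 0 → γ ≤ s → s - γ ∉ S}.encard ≤ ((e - 1 : ℕ) : ℕ∞) := by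
  have hmul : ∀ k : ℕ, k * e ∈ Γ := fun k => by simpa using Γ.nsmul_mem he k
  have hΓS : ∀ γ ∈ Γ, γ ∈ S := fun γ hγ => by simpa using hS γ hγ 0 hS0
  have bound : ∀ T : Set ℕ, (∀ n ∈ T, n % e ≠ 0) →
      (∀ m ∈ T, ∀ n ∈ T, m % e = n % e → m < n → False) → T.encard ≤ ((e - 1 : ℕ) : ℕ∞) := by
    intro T h0 hinj
    calc T.encard ≤ ((Finset.Ico 1 e : Finset ℕ) : Set ℕ).encard :=
          Set.encard_le_encard_of_injOn (f := fun n => n % e)
            (fun n hn => by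
              have := Nat.mod_lt n (Nat.pos_of_ne_zero he0); have := h0 n hn
              simp only [Finset.coe_Ico, Set.mem_Ico]; omega)
            (fun m hm n hn h => by
              rcases lt_trichotomy m n with hl | hl | hl
              · exact (hinj m hm n hn h hl).elim
              · exact hl
              · exact (hinj n hn m hm h.symm hl).elim)
      _ = _ := by rw [Set.encard_coe_eq_coe_finsetCard, Nat.card_Ico]
  constructor
  · refine bound _ (fun n ⟨hn, _⟩ h => hn (hΓS n ?_)) ?_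
    · rw [← Nat.div_add_mod n e, h, add_zero, mul_comm]; exact hmul _
    · rintro m ⟨_, hm⟩ n ⟨hn, _⟩ h hl
      obtain ⟨k, hk⟩ := (Nat.modEq_iff_dvd' hl.le).1 h
      have := hm (k * e) (hmul k) (by rintro h'; rw [mul_comm] at hk; omega)
      rw [show m + k * e = n by rw [mul_comm] at hk; omega] at this
      exact hn this
  · refine bound _ (fun s ⟨_, hs0, hs⟩ h => ?_) ?_
    · have hsΓ : s ∈ Γ := by rw [← Nat.div_add_mod s e, h, add_zero, mul_comm]; exact hmul _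
      exact hs s hsΓ hs0 le_rfl (by simpa using hS0)
    · rintro m ⟨hm, _⟩ n ⟨_, _, hn⟩ h hl
      obtain ⟨k, hk⟩ := (Nat.modEq_iff_dvd' hl.le).1 h
      rw [mul_comm] at hk
      exact hn (k * e) (hmul k) (by omega) (by omega) (by rwa [show n - k * e = m by omega])

end Groth.Agent.S15019
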