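import Groth.Statements.S17879
import Groth.Agent.Nagata.Divisor
import Groth.Agent.Nagata.Reduce
import Groth.Agent.Nagata.Noether
import Groth.Agent.S1571
-- import your own Groth.Agent.* helpers here

set_option autoImplicit false
set_option backward.isDefEq.respectTransparency false
set_option backward.isDefEq.respectTransparency.types false
universe u
open CategoryTheory AlgebraicGeometry
open Lim

namespace Groth.Agent.S17879

open AlgebraicGeometry CategoryTheory Limits
open Groth.Agent.AbsApprox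

/-- Let f : Y → X be a morphism of schemes with X and Y quasi-compact and quasi-separated. Then f is
separated if and only if it is the composite of an affine morphism Y → Z and a proper morphism Z →
X, for some scheme Z. -/
theorem result {X Y : Scheme.{u}} (f : Y ⟶ X)
    [CompactSpace X] [QuasiSeparatedSpace X] [CompactSpace Y] [QuasiSeparatedSpace Y] :
    IsSeparated f ↔
      ∃ (Z : Scheme.{u}) (g : Y ⟶ Z) (h : Z ⟶ X), IsAffineHom g ∧ IsProper h ∧ g ≫ h = f := by
  constructor
  · intro hf
    haveI := hf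
    haveI := Groth.Agent.Nagata.isNoetherian_spec_int.{u}
    obtain ⟨J, _, _, _, E, ρ, hρ, hE1, hE2, -⟩ := hasApprox X
    obtain ⟨I, _, _, _, D, π, hl, h1, h2, -⟩ := hasApprox Y
    haveI : IsCofiltered Jᵒᵖ := isCofiltered_op_of_isFiltered _
    haveI : IsCofiltered Iᵒᵖ := isCofiltered_op_of_isFiltered _
    haveI : ∀ {i j : Jᵒᵖ} (f : i ⟶ j), IsAffineHom (E.map f) := fun f => hE1 _ _ f
    haveI : ∀ {i j : Iᵒᵖ} (f : i ⟶ j), IsAffineHom (D.map f) := fun f => h1 _ _ f
    haveI : ∀ i, CompactSpace (D.obj i) := fun i => (h2 i).1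
    haveI : ∀ i, QuasiSeparatedSpace (D.obj i) := fun i => quasiSeparatedSpace_of_lft (h2 i).2
    obtain ⟨l₀⟩ := (inferInstance : Nonempty Jᵒᵖ)
    let S₀ := E.obj l₀
    let a : X ⟶ S₀ := ρ.app l₀
    haveI : IsAffineHom a := isAffineHom_π_app E (Cone.mk X ρ) hρ l₀
    haveI : LocallyOfFiniteType (Limits.IsTerminal.from specULiftZIsTerminal S₀) := (hE2 l₀).2
    haveI : CompactSpace S₀ := (hE2 l₀).1
    haveI : IsLocallyNoetherian S₀ := isLocallyNoetherian_of_lft (hE2 l₀).2
    haveI : IsNoetherian S₀ := {}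
    obtain ⟨i₀, g₀, hg₀, hsep₀⟩ := Groth.Agent.Nagata.exists_stage D (Cone.mk Y π) hl (f ≫ a)
    haveI := hsep₀
    haveI : LocallyOfFiniteType g₀ := by
      haveI : LocallyOfFiniteType (g₀ ≫ Limits.IsTerminal.from specULiftZIsTerminal S₀) := by
        rw [specULiftZIsTerminal.hom_ext (g₀ ≫ _) (Limits.IsTerminal.from specULiftZIsTerminal (D.obj i₀))]
        exact (h2 _).2
      exact locallyOfFiniteType_of_comp g₀ (Limits.IsTerminal.from specULiftZIsTerminal S₀)
    haveI : QuasiCompact g₀ := quasiCompact_of_compactSpace g₀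
    obtain ⟨Z₀, j, p, _, _, _, hjp⟩ := Groth.Agent.Nagata.exists_compactification g₀
    haveI : QuasiCompact (j ≫ p) := hjp ▸ inferInstance
    haveI : QuasiCompact j := QuasiCompact.of_comp j p
    obtain ⟨Z₁, τ, j', Ed, _, _, hτ, hEd, hEs⟩ := Groth.Agent.Nagata.exists_divisor j p
    haveI hja : IsAffineHom j' := by
      let O : Z₁.Opens := Ed.support.compl
      haveI : IsAffineHom O.ι := (Groth.Agent.S1571.result Z₁ Ed hEd).1
      have hO : Set.range j' = Set.range O.ι := by
        rw [Scheme.Opens.range_ι]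
        show Set.range j' = ((Ed.support : Set Z₁))ᶜ
        rw [hEs, compl_compl]
      rw [← IsOpenImmersion.isoOfRangeEq_hom_fac j' O.ι hO]
      infer_instance
    haveI : IsAffineHom (π.app i₀) := isAffineHom_π_app D (Cone.mk Y π) hl i₀
    haveI : IsAffineHom (pullback.fst (τ ≫ p) a) := MorphismProperty.pullback_fst (P := @IsAffineHom) _ _ ‹IsAffineHom a›
    let G : Y ⟶ pullback (τ ≫ p) a := pullback.lift (π.app i₀ ≫ j') f (by
      rw [Category.assoc, reassoc_of% hτ, hjp]
      exact hg₀)
    haveI : IsAffineHom (G ≫ pullback.fst (τ ≫ p) a) := by rw [pullback.lift_fst]; infer_instance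
    exact ⟨_, G, pullback.snd (τ ≫ p) a, IsAffineHom.of_comp G (pullback.fst (τ ≫ p) a), inferInstance,
      pullback.lift_snd _ _ _⟩
  · rintro ⟨Z, g, h, _, _, rfl⟩
    infer_instance

end Groth.Agent.S17879
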