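import Groth.Statements.S1502
import Groth.Agent.AmpleCover.Basic
import Groth.Agent.AbsApprox.Immersion
import Groth.Agent.S17879
-- import your own Groth.Agent.* helpers here

set_option autoImplicit false
set_option backward.isDefEq.respectTransparency false
set_option backward.isDefEq.respectTransparency.types false
universe u
open FlatMor

namespace Groth.Agent.S1502

open Groth.Agent.AbsApprox

open AlgebraicGeometry CategoryTheory Limits in
/-- Let X be quasi-compact and quasi-separated. Then there is a morphism f : Y → X which is proper, of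
finite presentation and completely decomposed (every point of X is the image of a point with trivial
residue field extension) such that Y has an ample family of invertible modules. -/
theorem result (X : Scheme.{u}) [CompactSpace ↑X] [QuasiSeparatedSpace ↑X] :
    ∃ (Y : Scheme.{u}) (f : Y ⟶ X), IsProper f ∧ LocallyOfFinitePresentation f ∧
      (∀ x : X, ∃ y : Y, f y = x ∧ Function.Bijective (f.residueFieldMap y)) ∧ MoreMor.HasAmpleFamily Y := by
  haveI := Groth.Agent.Nagata.isNoetherian_spec_int.{u}
  obtain ⟨J, _, _, _, E, ρ, hρ, hE1, hE2, -⟩ := hasApprox X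
  haveI : IsCofiltered Jᵒᵖ := isCofiltered_op_of_isFiltered _
  haveI : ∀ {i j : Jᵒᵖ} (f : i ⟶ j), IsAffineHom (E.map f) := fun f => hE1 _ _ f
  obtain ⟨l₀⟩ := (inferInstance : Nonempty Jᵒᵖ)
  let S₀ := E.obj l₀
  let a : X ⟶ S₀ := ρ.app l₀
  haveI : IsAffineHom a := isAffineHom_π_app E (Cone.mk X ρ) hρ l₀
  haveI : CompactSpace S₀ := (hE2 l₀).1
  haveI : IsLocallyNoetherian S₀ := isLocallyNoetherian_of_lft (hE2 l₀).2
  haveI : IsNoetherian S₀ := {}
  obtain ⟨Y₀, f₀, _, hY₀, hpts⟩ := Groth.Agent.AmpleCover.exists_cover_closeds (X := S₀) ⊤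
  haveI : LocallyOfFinitePresentation f₀ := lfp_of_lft_noetherian f₀
  haveI : IsAffineHom (pullback.fst f₀ a) := MorphismProperty.pullback_fst (P := @IsAffineHom) _ _ ‹IsAffineHom a›
  refine ⟨pullback f₀ a, pullback.snd f₀ a, inferInstance, inferInstance, fun x => ?_,
    Groth.Agent.ResDesc.hasAmpleFamily_of_quasiAffine_over (pullback.fst f₀ a) (Or.inl inferInstance) hY₀⟩
  obtain ⟨y, hy, hb⟩ := hpts (a x) (Set.mem_univ _)
  let α : Y₀.residueField y ≅ S₀.residueField (f₀ y) :=
    (@asIso _ _ _ _ (f₀.residueFieldMap y) ((ConcreteCategory.isIso_iff_bijective _).2 hb)).symm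
  let z : Spec (X.residueField x) ⟶ Y₀ :=
    Spec.map (α.hom ≫ (S₀.residueFieldCongr hy).hom ≫ a.residueFieldMap x) ≫ Y₀.fromSpecResidueField y
  refine Groth.Agent.AmpleCover.exists_point_of_lift _ (pullback.lift z (X.fromSpecResidueField x) ?_)
    (pullback.lift_snd _ _ _)
  rw [Category.assoc, ← Scheme.Hom.SpecMap_residueFieldMap_fromSpecResidueField, ← Spec.map_comp_assoc,
    ← Scheme.Hom.SpecMap_residueFieldMap_fromSpecResidueField, ← Category.assoc (f₀.residueFieldMap y),
    show f₀.residueFieldMap y ≫ α.hom = 𝟙 _ from α.inv_hom_id, Category.id_comp, Spec.map_comp, Category.assoc,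
    Scheme.residueFieldCongr_fromSpecResidueField]

end Groth.Agent.S1502
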