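import Groth.Statements.S15020
import Mathlib

set_option autoImplicit false
open TFCurv

namespace Groth.Agent.S15020

/-- Let Γ be a numerical semigroup (a submonoid of (ℕ, +) with finite complement), Γ ≠ ℕ, with conductor
c (every n ≥ c lies in Γ, c − 1 does not), and let S ⊆ ℕ be a Γ-module in normal form (0 ∈ S and γ +
s ∈ S for all γ ∈ Γ, s ∈ S) with conductor c(S): every n ≥ c(S) lies in S and either c(S) = 0 or
c(S) − 1 ∉ S. Then the number of elements of S smaller than c(S) is at most the number of gaps of Γ. -/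
theorem result (Γ : AddSubmonoid ℕ) (c : ℕ) (hc : ∀ n : ℕ, c ≤ n → n ∈ Γ) (hc0 : c ≠ 0) (hc1 : c - 1 ∉ Γ) (S : Set ℕ) (hS0 : (0 : ℕ) ∈ S) (hS : ∀ γ : ℕ, γ ∈ Γ → ∀ s : ℕ, s ∈ S → γ + s ∈ S) (cS : ℕ) (hcS : ∀ n : ℕ, cS ≤ n → n ∈ S) (hcS1 : cS = 0 ∨ cS - 1 ∉ S) : {s : ℕ | s ∈ S ∧ s < cS}.ncard ≤ (↑Γ : Set ℕ)ᶜ.ncard := by
  have hfin : (↑Γ : Set ℕ)ᶜ.Finite := (Set.finite_Iio c).subset fun n hn => not_le.mp fun h => hn (hc n h)
  refine Set.ncard_le_ncard_of_injOn (fun s => cS - 1 - s) (fun s ⟨hs, hlt⟩ h => ?_) ?_ hfin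
  · rcases hcS1 with h1 | h1
    · omega
    · refine h1 ?_
      have h2 := hS _ (h : cS - 1 - s ∈ Γ) s hs
      rwa [show cS - 1 - s + s = cS - 1 by omega] at h2
  · intro a ha b hb hab
    have := ha.2; have := hb.2
    simp only at hab
    omega

end Groth.Agent.S15020
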