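import Groth.Statements.S15022
import Groth.Agent.S19528

set_option autoImplicit false
universe u
open CategoryTheory
open TFCurv

namespace Groth.Agent.S15022

/-- Let k be an algebraically closed field and A ≠ k[[t]] a k-subalgebra of k[[t]] that is closed in the
t-adic topology and over which k[[t]] is a finite module (as for the complete local ring of a
unibranch curve singularity inside its normalisation), and let Γ ⊆ ℕ be the set of t-orders of the
nonzero elements of A (its value semigroup); let c be the conductor of Γ (every n ≥ c lies in Γ, c −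
1 does not) and suppose A is not Gorenstein. If w is an A-submodule of k[[t]] with 1 ∈ w whose
injective dimension as an A-module is at most one (a canonical ideal of A placed between A and
k[[t]]), then the value set of w is the dual of Γ: a natural number n is the t-order of some element
of w exactly when n ≥ c or c − 1 − n is a gap of Γ. (The published statement does not exclude the
Gorenstein case; this row assumes that A is not Gorenstein.) -/
theorem result (k : Type u) [Field k] [IsAlgClosed k] (A : Subalgebra k (PowerSeries k)) (hA : Module.Finite ↥A (PowerSeries k)) (hcl : ∀ f : PowerSeries k, (∀ n : ℕ, ∃ g ∈ A, (n : ℕ∞) ≤ PowerSeries.order (f - g)) → f ∈ A) (hsing : A ≠ ⊤) (Γ : Set ℕ) (hΓ : ∀ n : ℕ, n ∈ Γ ↔ ∃ f ∈ A, PowerSeries.order f = n) (c : ℕ) (hc : ∀ n : ℕ, c ≤ n → n ∈ Γ) (hc0 : c ≠ 0) (hc1 : c - 1 ∉ Γ) (hG : ¬ LocCoh.IsGorensteinLocalRing ↥A) (ω : Submodule ↥A (PowerSeries k)) (hω1 : (1 : PowerSeries k) ∈ ω) (hωfg : ω.FG) (hωinj : HasInjectiveDimensionLT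 (ModuleCat.of ↥A ↥ω) 2) (n : ℕ) : (∃ f ∈ ω, PowerSeries.order f = n) ↔ (c ≤ n ∨ c - 1 - n ∉ Γ) := by
  have h := Groth.Agent.S19528.result k A hA hcl hsing Γ hΓ c hc hc0 hc1 hG ω hω1 hωfg hωinj
    (1 : Submodule ↥A (PowerSeries k)) (Submodule.one_eq_span (R := ↥A) (A := PowerSeries k) ▸ Submodule.fg_span_singleton 1)
    (Submodule.mem_one.2 ⟨1, map_one _⟩) n
  refine Iff.trans ⟨?_, ?_⟩ (h.trans (or_congr_right (not_congr ⟨?_, ?_⟩)))
  · rintro ⟨f, hf, hfo⟩
    refine ⟨f, hfo, fun m hm => ?_⟩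
    obtain ⟨a, rfl⟩ := Submodule.mem_one.1 hm
    rw [mul_comm, ← Algebra.smul_def]
    exact ω.smul_mem a hf
  · rintro ⟨u, hu, hum⟩
    exact ⟨u, by simpa using hum 1 (Submodule.mem_one.2 ⟨1, map_one _⟩), hu⟩
  · rintro ⟨m, hm, hmo⟩
    obtain ⟨a, rfl⟩ := Submodule.mem_one.1 hm
    exact (hΓ _).2 ⟨_, a.2, hmo⟩
  · intro hm
    obtain ⟨f, hf, hfo⟩ := (hΓ _).1 hm
    exact ⟨f, Submodule.mem_one.2 ⟨⟨f, hf⟩, rfl⟩, hfo⟩

end Groth.Agent.S15022
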