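import Groth.Statements.S15024
import Mathlib
import Groth.Agent.W7Tor.Basic
open CategoryTheory TensorProduct
open scoped nonZeroDivisors
open IsLocalRing

set_option autoImplicit false
universe u
open CategoryTheory
open TFCurv

set_option backward.isDefEq.respectTransparency false
namespace Groth.Agent.S15024


variable {O : Type u} [CommRing O] [IsDomain O]

/-- A finite-length module over a domain that is not a field is killed by a nonzero element. -/
theorem exists_killed [IsNoetherianRing O] [IsLocalRing O] (hdim : ringKrullDim O = 1) {T : Type u} [AddCommGroup T] [Module O T]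
    (hT : IsFiniteLength O T) : ∃ c : O, c ≠ 0 ∧ ∀ t : T, c • t = 0 := by
  obtain ⟨hn, ha⟩ := isFiniteLength_iff_isNoetherian_isArtinian.1 hT
  have hnot : ¬ IsArtinianRing O := fun h => by
    have h0 := (ringKrullDimZero_iff_ringKrullDim_eq_zero (R := O)).1 inferInstance
    rw [hdim] at h0
    exact one_ne_zero h0
  obtain ⟨s, hs⟩ := (inferInstance : Module.Finite O T).fg_top
  by_contra h
  push Not at h
  have hinj : Function.Injective (LinearMap.pi fun x : s => LinearMap.toSpanSingleton O T (x : T)) := by
    rw [injective_iff_map_eq_zero]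
    intro c hc
    by_contra hc0
    obtain ⟨t, ht⟩ := h c hc0
    have hmem : t ∈ Submodule.span O (s : Set T) := hs ▸ Submodule.mem_top
    have hle : Submodule.span O (s : Set T) ≤ LinearMap.ker (LinearMap.lsmul O T c) :=
      Submodule.span_le.2 fun x hx => LinearMap.mem_ker.2 (congrFun hc ⟨x, hx⟩)
    exact ht (LinearMap.mem_ker.1 (hle hmem))
  exact hnot (isArtinian_of_injective _ hinj)

theorem exists_inverse_up_to [IsNoetherianRing O] [IsLocalRing O] (hdim : ringKrullDim O = 1) {A F : Type u}
    [AddCommGroup A] [Module O A] [AddCommGroup F] [Module O F] (g : A →ₗ[O] F) (hg : Function.Injective g)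
    (hT : IsFiniteLength O (F ⧸ LinearMap.range g)) :
    ∃ c : O, c ≠ 0 ∧ ∃ h : F →ₗ[O] A, h ∘ₗ g = c • LinearMap.id := by
  obtain ⟨c, hc0, hc⟩ := exists_killed hdim hT
  have hmem : ∀ x, (c • LinearMap.id : F →ₗ[O] F) x ∈ LinearMap.range g := fun x => by
    have h := hc (Submodule.Quotient.mk x)
    rwa [← Submodule.Quotient.mk_smul, Submodule.Quotient.mk_eq_zero] at h
  refine ⟨c, hc0, (LinearEquiv.ofInjective g hg).symm.toLinearMap.comp ((c • LinearMap.id).codRestrict _ hmem), ?_⟩
  refine LinearMap.ext fun x => hg ?_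
  show g ((LinearEquiv.ofInjective g hg).symm _) = g (c • x)
  rw [← LinearEquiv.ofInjective_apply (f := g) (h := hg), LinearEquiv.apply_symm_apply, map_smul]
  rfl

/-- `X ⊗ O^n` is torsion-free for torsion-free `X`. -/
theorem smul_eq_zero_tensor {X : Type u} [AddCommGroup X] [Module O X] [Module.IsTorsionFree O X] (n : ℕ)
    {c : O} (hc : c ≠ 0) {z : X ⊗[O] (Fin n → O)} (hz : c • z = 0) : z = 0 := by
  apply (TensorProduct.piScalarRight O O X (Fin n)).injective
  rw [map_zero]
  refine smul_right_injective _ hc ?_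
  show c • (TensorProduct.piScalarRight O O X (Fin n) z) = c • 0
  rw [← map_smul, hz, map_zero, smul_zero]

theorem lTensor_injective [IsNoetherianRing O] [IsLocalRing O] (hdim : ringKrullDim O = 1) {X : Type u} [AddCommGroup X]
    [Module O X] [Module.IsTorsionFree O X] {M : Type u} [AddCommGroup M] [Module O M] (n : ℕ)
    (f : (Fin n → O) →ₗ[O] M) (hf : Function.Injective f) (hT : IsFiniteLength O (M ⧸ LinearMap.range f)) :
    Function.Injective (f.lTensor X) := by
  obtain ⟨c, hc0, h, hh⟩ := exists_inverse_up_to hdim f hf hT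
  rw [injective_iff_map_eq_zero]
  intro z hz
  refine smul_eq_zero_tensor n hc0 ?_
  have h1 : h.lTensor X (f.lTensor X z) = c • z := by
    rw [← LinearMap.comp_apply, ← LinearMap.lTensor_comp, hh, LinearMap.lTensor_smul, LinearMap.lTensor_id]
    rfl
  rw [← h1, hz, map_zero]

/-- Let O be a one-dimensional Noetherian local domain with algebraically closed residue field whose
integral closure O~ in its fraction field K is a finite O-module, M a finitely generated
torsion-free O-module and f : O^n → M an injective O-linear map whose cokernel T has finite length.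
Then Tor_1^O(O~, M) and Tor_1^O(O~, T) are isomorphic (existence of an isomorphism only), and O~ ⊗_O
f : O~ ⊗ O^n → O~ ⊗ M is injective, so that 0 → O~^n → O~ ⊗ M → O~ ⊗ T → 0 is exact. -/
theorem result (O : Type u) [CommRing O] [IsDomain O] [IsNoetherianRing O] [IsLocalRing O] (hdim : ringKrullDim O = 1) [IsAlgClosed (IsLocalRing.ResidueField O)] (K : Type u) [Field K] [Algebra O K] [IsFractionRing O K] (hfin : Module.Finite O ↥(integralClosure O K)) (M : Type u) [AddCommGroup M] [Module O M] [Module.Finite O M] [NoZeroSMulDivisors O M] (n : ℕ) (f : (Fin n → O) →ₗ[O] M) (hf : Function.Injective f) (hT : IsFiniteLength O (M ⧸ LinearMap.range f)) : Nonempty (((Tor (ModuleCat.{u} O) 1).obj (ModuleCat.of O ↥(integralClosure O K))).obj (ModuleCat.of O M) ≅ ((Tor (ModuleCat.{u} O) 1).obj (ModuleCat.of O ↥(integralClosure O K))).obj (ModuleCat.of O (M ⧸ LinearMap.range f))) ∧ Function.Injective (LinearMap.lTensor ↥(integralClosure O K) f) := by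
  classical
  haveI : Module.IsTorsionFree O ↥(integralClosure O K) :=
    Function.Injective.moduleIsTorsionFree _ (Subtype.val_injective (p := fun x => x ∈ integralClosure O K)) fun _ _ => rfl
  have hinj := lTensor_injective (X := ↥(integralClosure O K)) hdim n f hf hT
  refine ⟨?_, hinj⟩
  obtain ⟨F, _, _, π, _, hπ, ⟨i⟩⟩ := Groth.Agent.W7Tor.exists_presentation (R := O) ↥(integralClosure O K) M
  let π' : F →ₗ[O] M ⧸ LinearMap.range f := (LinearMap.range f).mkQ.comp π
  have hπ' : Function.Surjective π' := (Submodule.mkQ_surjective _).comp hπ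
  obtain ⟨i'⟩ := Groth.Agent.W7Tor.tor_iso (R := O) ↥(integralClosure O K) π' hπ'
  have hle : LinearMap.ker π ≤ LinearMap.ker π' := fun x hx => by
    show Submodule.Quotient.mk (π x) = 0
    rw [LinearMap.mem_ker.1 hx]
    exact Submodule.Quotient.mk_zero _
  let j : LinearMap.ker π →ₗ[O] LinearMap.ker π' := Submodule.inclusion hle
  have hmem : ∀ x : LinearMap.ker π', (π.comp (LinearMap.ker π').subtype) x ∈ LinearMap.range f :=
    fun x => (Submodule.Quotient.mk_eq_zero _).1 (LinearMap.mem_ker.1 x.2)
  let q : LinearMap.ker π' →ₗ[O] (Fin n → O) :=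
    (LinearEquiv.ofInjective f hf).symm.toLinearMap.comp ((π.comp (LinearMap.ker π').subtype).codRestrict _ hmem)
  have hfq : f.comp q = π.comp (LinearMap.ker π').subtype := LinearMap.ext fun x =>
    congrArg Subtype.val ((LinearEquiv.ofInjective f hf).apply_symm_apply ((π.comp (LinearMap.ker π').subtype).codRestrict _ hmem x))
  have hq : Function.Surjective q := fun a => by
    obtain ⟨x, hx⟩ := hπ (f a)
    refine ⟨⟨x, LinearMap.mem_ker.2 ((Submodule.Quotient.mk_eq_zero _).2 ⟨a, hx.symm⟩)⟩, hf ?_⟩
    exact (LinearMap.congr_fun hfq _).trans hx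
  have hex : Function.Exact j q := fun x => by
    constructor
    · intro hx
      refine ⟨⟨x.1, LinearMap.mem_ker.2 ?_⟩, Subtype.ext rfl⟩
      have h1 := LinearMap.congr_fun hfq x
      rw [LinearMap.comp_apply, hx, map_zero] at h1
      exact h1.symm
    · rintro ⟨y, rfl⟩
      refine hf ?_
      rw [map_zero, ← LinearMap.comp_apply, hfq]
      exact LinearMap.mem_ker.1 y.2
  obtain ⟨s, hs⟩ := Module.projective_lifting_property q LinearMap.id hq
  let r : LinearMap.ker π' →ₗ[O] LinearMap.ker π :=
    ((LinearMap.ker π').subtype.comp (LinearMap.id - s.comp q)).codRestrict _ fun x => LinearMap.mem_ker.2 (by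
      show (π.comp (LinearMap.ker π').subtype) (x - s (q x)) = 0
      rw [← hfq, LinearMap.comp_apply, map_sub, ← LinearMap.comp_apply q s, hs, LinearMap.id_apply, sub_self, map_zero])
  have hrj : r.comp j = LinearMap.id := LinearMap.ext fun x => Subtype.ext (by
    show ((j x - s (q (j x)) : LinearMap.ker π') : F) = x
    rw [hex.apply_apply_eq_zero, map_zero, sub_zero]
    rfl)
  have hsub : (LinearMap.ker π').subtype.comp j = (LinearMap.ker π).subtype := rfl
  let φ : LinearMap.ker ((LinearMap.ker π).subtype.lTensor ↥(integralClosure O K)) →ₗ[O]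
      LinearMap.ker ((LinearMap.ker π').subtype.lTensor ↥(integralClosure O K)) :=
    ((j.lTensor ↥(integralClosure O K)).comp (LinearMap.ker ((LinearMap.ker π).subtype.lTensor _)).subtype).codRestrict _
      fun x => LinearMap.mem_ker.2 (by
        rw [LinearMap.comp_apply, ← LinearMap.comp_apply, ← LinearMap.lTensor_comp, hsub]
        exact x.2)
  refine ⟨i ≪≫ LinearEquiv.toModuleIso (LinearEquiv.ofBijective φ ⟨fun x y h => Subtype.ext ?_, fun z => ?_⟩) ≪≫ i'.symm⟩
  · have h1 := congrArg (fun w => r.lTensor ↥(integralClosure O K) w) (congrArg Subtype.val h)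
    simpa [φ, ← LinearMap.comp_apply, ← LinearMap.lTensor_comp, hrj] using h1
  · have h1 : q.lTensor ↥(integralClosure O K) z.1 = 0 := hinj (by
      rw [map_zero, ← LinearMap.comp_apply, ← LinearMap.lTensor_comp, hfq, LinearMap.lTensor_comp, LinearMap.comp_apply,
        LinearMap.mem_ker.1 z.2, map_zero])
    obtain ⟨y, hy⟩ := ((lTensor_exact ↥(integralClosure O K) hex hq) z.1).1 h1
    refine ⟨⟨y, LinearMap.mem_ker.2 ?_⟩, Subtype.ext hy⟩
    rw [← hsub, LinearMap.lTensor_comp, LinearMap.comp_apply, hy]
    exact z.2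

end Groth.Agent.S15024
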