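import Groth.Statements.S15025
import Mathlib
import Groth.Agent.W7Tor.Basic
import Groth.Agent.S15024
open CategoryTheory TensorProduct
open scoped nonZeroDivisors
open IsLocalRing

set_option autoImplicit false
universe u
open CategoryTheory
open TFCurv

set_option backward.isDefEq.respectTransparency false
namespace Groth.Agent.S15025

/-- Let O be a one-dimensional Noetherian local domain with algebraically closed residue field whose
integral closure O~ in its fraction field K is a finite O-module, M a finitely generated
torsion-free O-module and g : M → O^n an injective O-linear map whose cokernel T' has finite length.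
Then the torsion submodule of O~ ⊗_O M is O-linearly isomorphic to Tor_1^O(O~, T') (existence of an
isomorphism only). -/
theorem result (O : Type u) [CommRing O] [IsDomain O] [IsNoetherianRing O] [IsLocalRing O] (hdim : ringKrullDim O = 1) [IsAlgClosed (IsLocalRing.ResidueField O)] (K : Type u) [Field K] [Algebra O K] [IsFractionRing O K] (hfin : Module.Finite O ↥(integralClosure O K)) (M : Type u) [AddCommGroup M] [Module O M] [Module.Finite O M] [NoZeroSMulDivisors O M] (n : ℕ) (g : M →ₗ[O] (Fin n → O)) (hg : Function.Injective g) (hT : IsFiniteLength O ((Fin n → O) ⧸ LinearMap.range g)) : Nonempty (↥(Submodule.torsion O (TensorProduct O ↥(integralClosure O K) M)) ≃ₗ[O] ↑(((Tor (ModuleCat.{u} O) 1).obj (ModuleCat.of O ↥(integralClosure O K))).obj (ModuleCat.of O ((Fin n → O) ⧸ LinearMap.range g)))) := by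
  classical
  haveI : Module.IsTorsionFree O ↥(integralClosure O K) :=
    Function.Injective.moduleIsTorsionFree _ (Subtype.val_injective (p := fun x => x ∈ integralClosure O K)) fun _ _ => rfl
  let π := (LinearMap.range g).mkQ
  obtain ⟨i⟩ := Groth.Agent.W7Tor.tor_iso (R := O) ↥(integralClosure O K) π (Submodule.mkQ_surjective _)
  refine ⟨LinearEquiv.trans (?_ : ↥(Submodule.torsion O (↥(integralClosure O K) ⊗[O] M)) ≃ₗ[O]
    ↥(LinearMap.ker ((LinearMap.ker π).subtype.lTensor ↥(integralClosure O K)))) i.toLinearEquiv.symm⟩
  let e : M ≃ₗ[O] LinearMap.ker π :=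
    (LinearEquiv.ofInjective g hg).trans (LinearEquiv.ofEq _ _ (Submodule.ker_mkQ _).symm)
  have hcomp : (LinearMap.ker π).subtype.comp e.toLinearMap = g := rfl
  have hker : Submodule.torsion O (↥(integralClosure O K) ⊗[O] M) = LinearMap.ker (g.lTensor ↥(integralClosure O K)) := by
    ext z
    constructor
    · rintro ⟨⟨c, hc⟩, hz⟩
      refine Groth.Agent.S15024.smul_eq_zero_tensor n (nonZeroDivisors.ne_zero hc) ?_
      rw [← map_smul, show c • z = 0 from hz, map_zero]
    · intro hz
      obtain ⟨c, hc0, h, hh⟩ := Groth.Agent.S15024.exists_inverse_up_to hdim g hg hT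
      refine ⟨⟨c, mem_nonZeroDivisors_of_ne_zero hc0⟩, ?_⟩
      show c • z = 0
      rw [show c • z = (c • LinearMap.id : M →ₗ[O] M).lTensor ↥(integralClosure O K) z by
        rw [LinearMap.lTensor_smul, LinearMap.lTensor_id]; rfl, ← hh, LinearMap.lTensor_comp, LinearMap.comp_apply,
        LinearMap.mem_ker.1 hz, map_zero]
  refine (LinearEquiv.ofEq _ _ hker).trans ((e.lTensor ↥(integralClosure O K)).ofSubmodules _ _ ?_)
  have hg2 : g.lTensor ↥(integralClosure O K) = ((LinearMap.ker π).subtype.lTensor ↥(integralClosure O K)).comp
      (e.toLinearMap.lTensor ↥(integralClosure O K)) := by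
    rw [← LinearMap.lTensor_comp, hcomp]
  rw [hg2, LinearMap.ker_comp]
  exact Submodule.map_comap_eq_of_surjective (e.lTensor ↥(integralClosure O K)).surjective _

end Groth.Agent.S15025
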