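import Groth.Statements.S15028
import Groth.Agent.W7Slope.Basic

set_option autoImplicit false
universe u
open CategoryTheory CategoryTheory.Limits AlgebraicGeometry
open TFCurv

set_option backward.isDefEq.respectTransparency false
set_option backward.isDefEq.respectTransparency.types false

open Groth.Agent

namespace Groth.Agent.S15028

/-- Let X be an integral proper curve (integral, proper, of dimension one) over an algebraically closed
field k, and let f : E → F be a monomorphism of coherent torsion-free O_X-modules which is
generically an isomorphism (the stalk of its cokernel at the generic point vanishes), with E of rank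
n at the generic point. Then deg E ≤ deg F, degrees being taken as modules of rank n (Euler
characteristic minus n times that of O_X), and equality holds if and only if f is an isomorphism.
(The published statement covers in the same words bundles with parabolic structure and a weight α <
1; only the case without parabolic structure is stated here.) -/
theorem result (k : Type u) [Field k] [IsAlgClosed k] (X : Scheme.{u}) [X.Over (Spec (CommRingCat.of k))] [IsIntegral X] [IsProper (X ↘ Spec (CommRingCat.of k))] (hdim : topologicalKrullDim X = 1) (E F : X.Modules) (hEc : Coh.IsCoh E) (hFc : Coh.IsCoh F) (hEt : TorSh.IsTorsionFree E) (hFt : TorSh.IsTorsionFree F) (n : ℕ) (hn : Module.finrank (X.presheaf.stalk (genericPoint X)) (E.presheaf.stalk (genericPoint X)) = n) (f : E ⟶ F) [Mono f] (hgen : Subsingleton ((cokernel f).presheaf.stalk (genericPoint X))) : Curv2.deg k X E n ≤ Curv2.deg k X F n ∧ (Curv2.deg k X E n = Curv2.deg k X F n ↔ IsIso f) := by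
  haveI := CurveRR.isNoetherian_of_proper k X
  letI : Field (X.presheaf.stalk (genericPoint X)) := inferInstanceAs (Field X.functionField)
  haveI := hgen
  have hS : (ShortComplex.mk f (cokernel.π f) (cokernel.condition f)).ShortExact :=
    { exact := ShortComplex.exact_cokernel f }
  have h0 := W7Slope.grk_add hS hFc
  change W7Slope.grk F = W7Slope.grk E + W7Slope.grk (cokernel f) at h0
  have hc : W7Slope.grk (cokernel f) = 0 := Module.finrank_zero_of_subsingleton
  have hE : W7Slope.grk E = n := hn
  have hF : W7Slope.grk F = n := by omega
  obtain ⟨h1, h2⟩ := W7Slope.cdeg_le_of_mono (k := k) hdim.le f hEc hFc (hE.trans hF.symm)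
  simp only [W7Slope.cdeg, hE, hF] at h1 h2
  refine ⟨h1, h2, fun hi => ?_⟩
  haveI := hi
  rw [Curv2.deg, Curv2.deg, CurveRR.euler_eq_of_iso (asIso f)]

end Groth.Agent.S15028
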