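import Groth.Statements.S15029
import Mathlib

set_option autoImplicit false
open TFCurv

namespace Groth.Agent.S15029

/-- Let Γ be a numerical semigroup (a submonoid of (ℕ, +) with finite complement), Γ ≠ ℕ, with conductor
c (every n ≥ c lies in Γ, c − 1 does not), and let S ⊆ ℕ be a Γ-module in normal form (0 ∈ S and γ +
s ∈ S for γ ∈ Γ, s ∈ S). If S ≠ ℕ then some gap n of S can be added (n + γ ∈ S for every nonzero γ ∈
Γ, so S ∪ {n} is a Γ-module), and if S ≠ Γ then some s ∈ S outside Γ can be removed (s − γ ∉ S for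
every nonzero γ ∈ Γ with γ ≤ s, so S ∖ {s} is a Γ-module containing Γ); iterating, S is joined to ℕ
and to Γ by chains in the diagram of Γ-modules, which is therefore connected. -/
theorem result (Γ : AddSubmonoid ℕ) (c : ℕ) (hc : ∀ n : ℕ, c ≤ n → n ∈ Γ) (hc0 : c ≠ 0) (hc1 : c - 1 ∉ Γ) (S : Set ℕ) (hS0 : (0 : ℕ) ∈ S) (hS : ∀ γ : ℕ, γ ∈ Γ → ∀ s : ℕ, s ∈ S → γ + s ∈ S) : (S ≠ Set.univ → ∃ n : ℕ, n ∉ S ∧ ∀ γ : ℕ, γ ∈ Γ → γ ≠ 0 → n + γ ∈ S) ∧ ((↑Γ : Set ℕ) ≠ S → ∃ s : ℕ, s ∈ S ∧ s ∉ Γ ∧ ∀ γ : ℕ, γ ∈ Γ → γ ≠ 0 → γ ≤ s → s - γ ∉ S) := by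
  classical
  have hΓS : (↑Γ : Set ℕ) ⊆ S := fun γ hγ => by simpa using hS γ hγ 0 hS0
  constructor
  · intro hne
    have hex : ∃ n, n ∉ S := by
      by_contra h
      push_neg at h
      exact hne (Set.eq_univ_of_forall h)
    obtain ⟨n0, hn0⟩ := hex
    let T := (Finset.range c).filter fun n => n ∉ S
    have hT : T.Nonempty := ⟨n0, by
      simp only [T, Finset.mem_filter, Finset.mem_range]
      exact ⟨not_le.mp fun h => hn0 (hΓS (hc _ h)), hn0⟩⟩
    obtain ⟨n, hn, hmax⟩ := T.exists_max_image id hT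
    refine ⟨n, (Finset.mem_filter.mp hn).2, fun γ _ h0 => ?_⟩
    by_contra hg
    have := hmax (n + γ) (Finset.mem_filter.mpr ⟨Finset.mem_range.mpr
      (not_le.mp fun h => hg (hΓS (hc _ h))), hg⟩)
    simp only [id] at this
    omega
  · intro hne
    have hex : ∃ s, s ∈ S ∧ s ∉ Γ := by
      by_contra h
      push_neg at h
      exact hne (Set.Subset.antisymm hΓS h)
    obtain ⟨h1, h2⟩ := Nat.find_spec hex
    refine ⟨Nat.find hex, h1, h2, fun γ hγ h0 hle hmem => ?_⟩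
    have h3 : Nat.find hex - γ ∈ Γ := by
      by_contra h4
      exact Nat.find_min hex (show Nat.find hex - γ < Nat.find hex by omega) ⟨hmem, h4⟩
    apply h2
    rw [show Nat.find hex = Nat.find hex - γ + γ by omega]
    exact add_mem h3 hγ

end Groth.Agent.S15029
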