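import Groth.Statements.S1503
import Groth.Agent.PCMor.Scheme

set_option autoImplicit false
set_option linter.style.haveILetI false
set_option backward.isDefEq.respectTransparency false
open Groth.Agent
universe u
attribute [local instance] HasDerivedCategory.standard
open FlatMor

namespace Groth.Agent.S1503

open AlgebraicGeometry CategoryTheory Limits in
/-- Let f : X → S with S locally Noetherian. Then f is pseudo-coherent (affine-locally: pseudo-coherent
ring maps) if and only if f is locally of finite type. -/
theorem result {X S : Scheme.{u}} (f : X ⟶ S) [IsLocallyNoetherian S] :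
    MoreMor.IsPseudoCoherentMor f ↔ LocallyOfFiniteType f := by
  constructor
  · intro h
    rw [HasRingHomProperty.iff_appLE (P := @LocallyOfFiniteType)]
    exact fun V U e => PCMor.PC.finiteType (f := (f.appLE _ _ e).hom) (h U V U.2 V.2 e)
  · intro h U V hU hV hUV
    haveI : IsNoetherianRing Γ(S, V) := IsLocallyNoetherian.component_noetherian ⟨V, hV⟩
    exact PCMor.pc_of_finiteType (HasRingHomProperty.appLE @LocallyOfFiniteType f h ⟨V, hV⟩ ⟨U, hU⟩ hUV)

end Groth.Agent.S1503
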