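import Groth.Statements.S15034
import Mathlib
open PowerSeries

set_option autoImplicit false
universe u
open TFCurv

set_option maxHeartbeats 400000
namespace Groth.Agent.S15034


variable {k : Type u} [Field k]

theorem le_order_iff (f : PowerSeries k) (n : ℕ) : (n : ℕ∞) ≤ order f ↔ ∀ i < n, coeff i f = 0 :=
  ⟨fun h i hi => coeff_of_lt_order i (lt_of_lt_of_le (Nat.cast_lt.2 hi) h), nat_le_order f n⟩

/-- A subalgebra over which `k[[t]]` is finite has an element of positive order. -/
theorem exists_pos (A : Subalgebra k (PowerSeries k)) (hA : Module.Finite ↥A (PowerSeries k)) :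
    ∃ x ∈ A, ∃ e : ℕ, 0 < e ∧ order x = e := by
  by_contra hne
  push Not at hne
  have hsc : ∀ a : ↥A, ∃ c : k, algebraMap k ↥A c = a := fun a => by
    refine ⟨constantCoeff (a : PowerSeries k), Subtype.ext ?_⟩
    show algebraMap k (PowerSeries k) _ = (a : PowerSeries k)
    by_contra h
    have hd : (a : PowerSeries k) - algebraMap k _ (constantCoeff (a : PowerSeries k)) ≠ 0 := fun h0 => h (sub_eq_zero.1 h0).symm
    obtain ⟨e, he⟩ := ENat.ne_top_iff_exists.1 (fun h0 => hd (order_eq_top.1 h0) :
      order ((a : PowerSeries k) - algebraMap k _ (constantCoeff (a : PowerSeries k))) ≠ ⊤)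
    refine hne _ (A.sub_mem a.2 (A.algebraMap_mem _)) e (Nat.pos_of_ne_zero fun h0 => ?_) he.symm
    have h1 := (order_eq_nat.1 he.symm).1
    rw [h0] at h1
    exact h1 (by simp [coeff_zero_eq_constantCoeff_apply, PowerSeries.algebraMap_eq])
  haveI : Module.Finite k ↥A := Module.Finite.of_surjective (Algebra.linearMap k ↥A) hsc
  haveI : Module.Finite k (PowerSeries k) := Module.Finite.trans ↥A _
  let ι : Polynomial k →ₗ[k] PowerSeries k :=
    (Polynomial.coeToPowerSeries.algHom (A := k) (R := k)).toLinearMap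
  have hι : Function.Injective ι := by
    intro p q h
    exact Polynomial.coe_injective k (by simpa [ι] using h)
  exact Polynomial.not_finite (R := k) (Module.Finite.of_injective ι hι)

section approx

variable {x : PowerSeries k} {e c : ℕ} (he : 0 < e) (hx : order x = e) {h : Fin e → PowerSeries k}
  (hh : ∀ j, order (h j) = (c + (j : ℕ) : ℕ))

/-- The `q`-th basis element `x^(q / e) h_(q % e)`, of order `c + q`. -/
noncomputable def bas (x : PowerSeries k) (he : 0 < e) (h : Fin e → PowerSeries k) (q : ℕ) : PowerSeries k :=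
  x ^ (q / e) * h ⟨q % e, Nat.mod_lt _ he⟩

include hx hh in
theorem order_bas (q : ℕ) : order (bas x he h q) = (c + q : ℕ) := by
  rw [bas, order_mul, order_pow, hx, hh, nsmul_eq_mul, ← Nat.cast_mul, ← Nat.cast_add]
  congr 1
  show q / e * e + (c + q % e) = c + q
  have := Nat.div_add_mod q e
  rw [mul_comm] at this
  omega

/-- Remainders of the expansion. -/
noncomputable def rem (x : PowerSeries k) (he : 0 < e) (c : ℕ) (h : Fin e → PowerSeries k) (f : PowerSeries k) : ℕ → PowerSeries k
  | 0 => f
  | q + 1 => rem x he c h f q -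
      (coeff (c + q) (rem x he c h f q) * (coeff (c + q) (bas x he h q))⁻¹) • bas x he h q

include hx hh in
theorem order_rem (f : PowerSeries k) (hf : (c : ℕ∞) ≤ order f) : ∀ q, ((c + q : ℕ) : ℕ∞) ≤ order (rem x he c h f q)
  | 0 => by simpa [rem] using hf
  | q + 1 => by
    have h1 := (le_order_iff _ _).1 (order_rem f hf q)
    obtain ⟨h2, h3⟩ := order_eq_nat.1 (order_bas he hx hh q)
    refine (le_order_iff _ _).2 fun i hi => ?_
    rw [rem, map_sub, map_smul, smul_eq_mul]
    rcases lt_or_eq_of_le (show i ≤ c + q by omega) with hlt | rfl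
    · rw [h1 i hlt, h3 i hlt, mul_zero, sub_zero]
    · rw [mul_assoc, inv_mul_cancel₀ h2, mul_one, sub_self]

/-- Partial coefficient series. -/
noncomputable def part (x : PowerSeries k) (he : 0 < e) (c : ℕ) (h : Fin e → PowerSeries k) (f : PowerSeries k) (j : Fin e) : ℕ → PowerSeries k
  | 0 => 0
  | q + 1 => part x he c h f j q + if q % e = j then
      (coeff (c + q) (rem x he c h f q) * (coeff (c + q) (bas x he h q))⁻¹) • x ^ (q / e) else 0

theorem rem_eq (f : PowerSeries k) : ∀ q, f = rem x he c h f q + ∑ j, part x he c h f j q * h j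
  | 0 => by simp [rem, part]
  | q + 1 => by
    conv_lhs => rw [rem_eq f q]
    simp only [rem, part, add_mul, Finset.sum_add_distrib, ite_mul, zero_mul]
    rw [Finset.sum_eq_single (f := fun j : Fin e => if q % e = (j : ℕ) then _ else (0 : PowerSeries k)) ⟨q % e, Nat.mod_lt _ he⟩]
    · rw [if_pos rfl, smul_mul_assoc]
      simp only [bas]
      abel
    · intro j _ hj
      rw [if_neg fun h => hj (Fin.ext h.symm)]
    · exact fun h => absurd (Finset.mem_univ _) h

include hx in
theorem part_stable (f : PowerSeries k) (j : Fin e) (i : ℕ) : ∀ q, e * (i + 1) ≤ q →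
    coeff i (part x he c h f j q) = coeff i (part x he c h f j (e * (i + 1))) := by
  intro q hq
  induction q, hq using Nat.le_induction with
  | base => rfl
  | succ q hq ih =>
    rw [part, map_add, ih]
    split_ifs
    · rw [map_smul, coeff_of_lt_order (φ := x ^ (q / e)) i, smul_zero, add_zero]
      rw [order_pow, hx, nsmul_eq_mul, ← Nat.cast_mul, Nat.cast_lt]
      have h1 : i + 1 ≤ q / e := (Nat.le_div_iff_mul_le he).2 (by rwa [mul_comm])
      calc i < q / e := by omega
        _ ≤ q / e * e := Nat.le_mul_of_pos_right _ he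
    · rw [map_zero, add_zero]

theorem part_mem (A : Subalgebra k (PowerSeries k)) (hxA : x ∈ A) (f : PowerSeries k) (j : Fin e) : ∀ q, part x he c h f j q ∈ A
  | 0 => A.zero_mem
  | q + 1 => by
    rw [part]
    refine A.add_mem (part_mem A hxA f j q) ?_
    split_ifs
    exacts [A.smul_mem (A.pow_mem hxA _) _, A.zero_mem]

include he hx hh in
theorem mem_of_order (A : Subalgebra k (PowerSeries k))
    (hcl : ∀ f : PowerSeries k, (∀ n : ℕ, ∃ g ∈ A, (n : ℕ∞) ≤ order (f - g)) → f ∈ A) (hxA : x ∈ A)
    (N : Submodule ↥A (PowerSeries k)) (hN : ∀ j, h j ∈ N) (f : PowerSeries k) (hf : (c : ℕ∞) ≤ order f) : f ∈ N := by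
  classical
  let L : Fin e → PowerSeries k := fun j => PowerSeries.mk fun i => coeff i (part x he c h f j (e * (i + 1)))
  have hLdiff : ∀ (j : Fin e) (n : ℕ), (n : ℕ∞) ≤ order (L j - part x he c h f j (e * n)) := fun j n => by
    refine (le_order_iff _ _).2 fun i hi => ?_
    rw [map_sub, coeff_mk, part_stable he hx f j i (e * n) (Nat.mul_le_mul_left e hi), sub_self]
  have hLA : ∀ j, L j ∈ A := fun j => hcl _ fun n => ⟨_, part_mem he A hxA f j (e * n), hLdiff j n⟩
  have he' : f = ∑ j, L j * h j := by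
    rw [← sub_eq_zero, ← order_eq_top, ENat.eq_top_iff_forall_ge]
    intro n
    refine (le_order_iff _ _).2 fun i hi => ?_
    have e1 : f - ∑ j, L j * h j = rem x he c h f (e * n) - ∑ j, (L j - part x he c h f j (e * n)) * h j := by
      conv_lhs => rw [rem_eq (x := x) (c := c) (h := h) he f (e * n)]
      simp only [sub_mul, Finset.sum_sub_distrib]
      abel
    rw [e1, map_sub, map_sum, coeff_of_lt_order i, Finset.sum_eq_zero, sub_zero]
    · intro j _
      exact coeff_of_lt_order i (lt_of_lt_of_le (Nat.cast_lt.2 hi) ((hLdiff j n).trans (le_trans le_self_add (le_order_mul _ _))))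
    · refine lt_of_lt_of_le (Nat.cast_lt.2 ?_) (order_rem he hx hh f hf (e * n))
      exact lt_of_lt_of_le hi (le_add_left (Nat.le_mul_of_pos_left n he))
  rw [he']
  exact Submodule.sum_mem _ fun j _ => N.smul_mem ⟨L j, hLA j⟩ (hN j)

end approx

/-- Let k be an algebraically closed field and A ≠ k[[t]] a k-subalgebra of k[[t]] that is closed in the
t-adic topology and over which k[[t]] is a finite module (as for the complete local ring of a
unibranch curve singularity inside its normalisation), and let Γ ⊆ ℕ be the set of t-orders of the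
nonzero elements of A (its value semigroup). Let M, N be finitely generated A-submodules of k[[t]]
containing 1 (rank-one torsion-free modules in normal form), with value sets Γ(M), Γ(N) (orders of
their nonzero elements); the A-linear maps M → N are the multiplications by power series u with uM ⊆
N. Then the order of every such nonzero u satisfies n + Γ(M) ⊆ Γ(N), and although the set of these
orders can be smaller than S = {n | n + Γ(M) ⊆ Γ(N)}, the two sets have the same conductor: for
every c', all integers n ≥ c' are orders of multipliers exactly when all n ≥ c' lie in S. -/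
theorem result (k : Type u) [Field k] [IsAlgClosed k] (A : Subalgebra k (PowerSeries k)) (hA : Module.Finite ↥A (PowerSeries k)) (hcl : ∀ f : PowerSeries k, (∀ n : ℕ, ∃ g ∈ A, (n : ℕ∞) ≤ PowerSeries.order (f - g)) → f ∈ A) (hsing : A ≠ ⊤) (Γ : Set ℕ) (hΓ : ∀ n : ℕ, n ∈ Γ ↔ ∃ f ∈ A, PowerSeries.order f = n) (M N : Submodule ↥A (PowerSeries k)) (hMfg : M.FG) (hNfg : N.FG) (hM1 : (1 : PowerSeries k) ∈ M) (hN1 : (1 : PowerSeries k) ∈ N) (ΓM ΓN : Set ℕ) (hΓM : ∀ n : ℕ, n ∈ ΓM ↔ ∃ f ∈ M, PowerSeries.order f = n) (hΓN : ∀ n : ℕ, n ∈ ΓN ↔ ∃ f ∈ N, PowerSeries.order f = n) : (∀ n : ℕ, (∃ u : PowerSeries k, PowerSeries.order u = n ∧ ∀ m ∈ M, u * m ∈ N) → ∀ a ∈ ΓM, n + a ∈ ΓN) ∧ ∀ c' : ℕ, (∀ n : ℕ, c' ≤ n → ∃ u : PowerSeries k, PowerSeries.order u = n ∧ ∀ m ∈ M, u * m ∈ N) ↔ (∀ n : ℕ, c' ≤ n → ∀ a ∈ ΓM, n + a ∈ ΓN) := by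
  classical
  constructor
  · rintro n ⟨u, hu, hmul⟩ a ha
    obtain ⟨m, hm, hma⟩ := (hΓM a).1 ha
    refine (hΓN _).2 ⟨u * m, hmul m hm, ?_⟩
    rw [order_mul, hu, hma, Nat.cast_add]
  · intro c'
    constructor
    · intro hmult n hn a ha
      obtain ⟨u, hu, hmul⟩ := hmult n hn
      obtain ⟨m, hm, hma⟩ := (hΓM a).1 ha
      refine (hΓN _).2 ⟨u * m, hmul m hm, ?_⟩
      rw [order_mul, hu, hma, Nat.cast_add]
    · intro hS n hn
      refine ⟨X ^ n, order_X_pow n, fun m hm => ?_⟩
      obtain ⟨x, hxA, e, he, hx⟩ := exists_pos A hA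
      have h0 : (0 : ℕ) ∈ ΓM := (hΓM 0).2 ⟨1, hM1, order_one⟩
      have hN : ∀ j : Fin e, ∃ g ∈ N, order g = (c' + (j : ℕ) : ℕ) := fun j =>
        (hΓN _).1 (by simpa using hS (c' + j) (Nat.le_add_right _ _) 0 h0)
      choose g hg hgo using hN
      refine mem_of_order he hx hgo A hcl hxA N hg _ (le_trans ?_ (le_order_mul _ _))
      rw [order_X_pow]
      exact le_trans (Nat.cast_le.2 hn) le_self_add

end Groth.Agent.S15034
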