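import Groth.Statements.S15036
import Mathlib

set_option autoImplicit false
open TFCurv

namespace Groth.Agent.S15036

/-- Let Γ be a numerical semigroup (a submonoid of (ℕ, +) with finite complement), Γ ≠ ℕ, with conductor
c (every n ≥ c lies in Γ, c − 1 does not); let S ⊆ ℕ be a Γ-module in normal form (0 ∈ S, γ + s ∈ S
for γ ∈ Γ, s ∈ S) with conductor c(S) (all n ≥ c(S) in S, c(S) − 1 ∉ S), and let s be a gap of S
such that S ∪ {s} is again a Γ-module. Enumerate S increasingly as s_0 < s_1 < ⋯ and put τ_i(S) =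
s_i + ℓ(S), where ℓ counts the gaps of Γ filled; since ℓ(S ∪ {s}) = ℓ(S) + 1, the termwise
comparison τ(S) ≤ τ(S ∪ {s}) says that the i-th element of S is at most one more than the i-th
element of S ∪ {s} for every i. This holds if and only if s = c(S) − 1, the largest gap of S. -/
theorem result (Γ : AddSubmonoid ℕ) (c : ℕ) (hc : ∀ n : ℕ, c ≤ n → n ∈ Γ) (hc0 : c ≠ 0) (hc1 : c - 1 ∉ Γ) (S : Set ℕ) (hS0 : (0 : ℕ) ∈ S) (hS : ∀ γ : ℕ, γ ∈ Γ → ∀ s : ℕ, s ∈ S → γ + s ∈ S) (cS : ℕ) (hcS : ∀ n : ℕ, cS ≤ n → n ∈ S) (hcS0 : cS ≠ 0) (hcS1 : cS - 1 ∉ S) (s : ℕ) (hs : s ∉ S) (hs' : ∀ γ : ℕ, γ ∈ Γ → γ ≠ 0 → s + γ ∈ S) : (∀ i : ℕ, Nat.nth (fun m => m ∈ S) i ≤ Nat.nth (fun m => m ∈ insert s S) i + 1) ↔ s + 1 = cS := by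
  classical
  have hsc : s < cS := not_le.mp fun h => hs (hcS s h)
  have hinf : (Set.ofPred (fun m => m ∈ S)).Infinite := Set.infinite_of_forall_exists_gt fun a =>
    ⟨max (a + 1) cS, hcS _ (le_max_right _ _), Nat.lt_of_succ_le (le_max_left _ _)⟩
  have hinf' : (Set.ofPred (fun m => m ∈ insert s S)).Infinite := Set.infinite_of_forall_exists_gt fun a =>
    ⟨max (a + 1) cS, Or.inr (hcS _ (le_max_right _ _)), Nat.lt_of_succ_le (le_max_left _ _)⟩
  have hcnt : ∀ x, Nat.count (fun m => m ∈ insert s S) x =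
      Nat.count (fun m => m ∈ S) x + if s < x then 1 else 0 := by
    intro x
    induction x with
    | zero => simp
    | succ x ih =>
      rw [Nat.count_succ, Nat.count_succ, ih]
      simp only [Set.mem_insert_iff]
      rcases eq_or_ne x s with rfl | hne
      · simp [hs]
      · simp only [hne, false_or]
        split_ifs <;> omega
  constructor
  · intro hall
    by_contra hne
    have hlt : s + 1 < cS := lt_of_le_of_ne hsc hne
    have hex : ∃ g, s < g ∧ g ∉ S := ⟨cS - 1, by omega, hcS1⟩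
    obtain ⟨hg1, hg2⟩ := Nat.find_spec hex
    set g := Nat.find hex with hg
    obtain ⟨g', hg'⟩ : ∃ g', g = g' + 1 := ⟨g - 1, by omega⟩
    have hmem : g' ∈ insert s S := by
      rcases eq_or_lt_of_le (show s ≤ g' by omega) with h | h
      · exact Or.inl h.symm
      · refine Or.inr ?_
        by_contra h'
        exact Nat.find_min hex (show g' < g by omega) ⟨h, h'⟩
    have h1 := Nat.count_succ (fun m => m ∈ insert s S) g'
    rw [if_pos hmem, hcnt, if_pos (by omega : s < g' + 1), ← hg'] at h1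
    have h2 := hall (Nat.count (fun m => m ∈ insert s S) g')
    rw [Nat.nth_count hmem, ← hg', show Nat.count (fun m => m ∈ insert s S) g' =
      Nat.count (fun m => m ∈ S) g by omega] at h2
    have h3 : g ≤ Nat.nth (fun m => m ∈ S) (Nat.count (fun m => m ∈ S) g) :=
      (Nat.count_le_iff_le_nth hinf).mp le_rfl
    have h4 : Nat.nth (fun m => m ∈ S) (Nat.count (fun m => m ∈ S) g) = g := le_antisymm h2 h3
    exact hg2 (h4 ▸ Nat.nth_mem_of_infinite hinf _)
  · intro hsd i
    set m := Nat.nth (fun m => m ∈ insert s S) i with hm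
    have h1 : Nat.count (fun m => m ∈ insert s S) (m + 1) = i + 1 := by
      rw [Nat.count_succ, if_pos (Nat.nth_mem_of_infinite hinf' i), hm, Nat.count_nth_of_infinite hinf']
    have h2 := Nat.nth_lt_of_lt_count (p := fun m => m ∈ S) (k := i) (n := m + 2) (by
      rw [hcnt] at h1
      rw [Nat.count_succ]
      split_ifs at h1 with h
      · rw [if_pos (hcS _ (by omega))]; omega
      · omega)
    omega

end Groth.Agent.S15036
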