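import Groth.Statements.S15037
import Mathlib

set_option autoImplicit false
open TFCurv

namespace Groth.Agent.S15037

/-- Let Γ be a numerical semigroup (a submonoid of (ℕ, +) with finite complement), Γ ≠ ℕ, with conductor
c (every n ≥ c lies in Γ, c − 1 does not); let S and S' ⊆ ℕ be Γ-modules in normal form with
conductors c(S), c(S'), let δ(S), δ(S') be their numbers of gaps and r(S), r(S') their numbers of
elements below the conductor, and enumerate them increasingly as s_i, s'_i (i ≥ 0). With τ_i(S) =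
s_i + ℓ(S) and ℓ(S) = δ(Γ) − δ(S), the termwise order τ(S) ≤ τ(S') reads s_i + δ(S') ≤ s'_i + δ(S)
for all i. It holds if and only if r(S') ≤ r(S) and s_i + δ(S') ≤ s'_i + δ(S) for all i < r(S')
(beyond r(S) the entries τ_i(S) = i + δ(Γ) are the largest possible). -/
theorem result (Γ : AddSubmonoid ℕ) (c : ℕ) (hc : ∀ n : ℕ, c ≤ n → n ∈ Γ) (hc0 : c ≠ 0) (hc1 : c - 1 ∉ Γ) (S : Set ℕ) (hS0 : (0 : ℕ) ∈ S) (hS : ∀ γ : ℕ, γ ∈ Γ → ∀ s : ℕ, s ∈ S → γ + s ∈ S) (cS : ℕ) (hcS : ∀ n : ℕ, cS ≤ n → n ∈ S) (hcS1 : cS = 0 ∨ cS - 1 ∉ S) (S' : Set ℕ) (hS'0 : (0 : ℕ) ∈ S') (hS' : ∀ γ : ℕ, γ ∈ Γ → ∀ s : ℕ, s ∈ S' → γ + s ∈ S') (cS' : ℕ) (hcS' : ∀ n : ℕ, cS' ≤ n → n ∈ S') (hcS'1 : cS' = 0 ∨ cS' - 1 ∉ S') : (∀ i : ℕ, Nat.nth (fun m => m ∈ S) i + S'ᶜ.ncard ≤ Nat.nth (fun m => m ∈ S') i + Sᶜ.ncard) ↔ ((S' ∩ Set.Iio cS').ncard ≤ (S ∩ Set.Iio cS).ncard ∧ ∀ i : ℕ, i < (S' ∩ Set.Iio cS').ncard → Nat.nth (fun m => m ∈ S) i + S'ᶜ.ncard ≤ Nat.nth (fun m => m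 ∈ S') i + Sᶜ.ncard) := by
  classical
  have key : ∀ (T : Set ℕ) (cT : ℕ), (∀ n : ℕ, cT ≤ n → n ∈ T) → (cT = 0 ∨ cT - 1 ∉ T) →
      (∀ i, Nat.nth (fun m => m ∈ T) i ≤ i + Tᶜ.ncard) ∧
      (∀ i, (T ∩ Set.Iio cT).ncard ≤ i → Nat.nth (fun m => m ∈ T) i = i + Tᶜ.ncard) ∧
      (∀ i, i < (T ∩ Set.Iio cT).ncard → Nat.nth (fun m => m ∈ T) i < i + Tᶜ.ncard) := by
    intro T cT hcT hcT1
    have hinf : (Set.ofPred (fun m => m ∈ T)).Infinite := Set.infinite_of_forall_exists_gt fun a =>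
      ⟨max (a + 1) cT, hcT _ (le_max_right _ _), Nat.lt_of_succ_le (le_max_left _ _)⟩
    have hsplit : ∀ x, Nat.count (fun m => m ∈ T) x + Nat.count (fun m => m ∉ T) x = x := by
      intro x
      induction x with
      | zero => simp
      | succ x ih =>
        rw [Nat.count_succ, Nat.count_succ]
        by_cases h : x ∈ T <;> simp [h] <;> omega
    have hr : (T ∩ Set.Iio cT).ncard = Nat.count (fun m => m ∈ T) cT := by
      rw [Nat.count_eq_card_filter_range, ← Set.ncard_coe_finset]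
      congr 1
      ext; simp [and_comm]
    have hd : Tᶜ.ncard = Nat.count (fun m => m ∉ T) cT := by
      rw [Nat.count_eq_card_filter_range, ← Set.ncard_coe_finset]
      congr 1
      ext m
      simp only [Set.mem_compl_iff, Finset.coe_filter, Finset.mem_range, Set.mem_setOf_eq]
      exact ⟨fun h => ⟨not_le.mp fun hle => h (hcT _ hle), h⟩, fun h => h.2⟩
    have hge : ∀ x, cT ≤ x → Nat.count (fun m => m ∉ T) x = Nat.count (fun m => m ∉ T) cT := by
      intro x hx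
      induction x, hx using Nat.le_induction with
      | base => rfl
      | succ x hx ih => rw [Nat.count_succ, ih, if_neg (not_not.mpr (hcT x hx)), add_zero]
    have hlt : ∀ x, x < cT → Nat.count (fun m => m ∉ T) x < Nat.count (fun m => m ∉ T) cT := by
      intro x hx
      rcases hcT1 with h | h
      · omega
      · have h1 : Nat.count (fun m => m ∉ T) x ≤ Nat.count (fun m => m ∉ T) (cT - 1) :=
          Nat.count_monotone _ (show x ≤ cT - 1 by omega)
        have h2 := Nat.count_succ (fun m => m ∉ T) (cT - 1)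
        rw [if_pos h, show cT - 1 + 1 = cT by omega] at h2
        omega
    refine ⟨fun i => ?_, fun i hi => ?_, fun i hi => ?_⟩ <;>
      have h1 := hsplit (Nat.nth (fun m => m ∈ T) i) <;>
      rw [Nat.count_nth_of_infinite hinf] at h1
    · rcases Nat.lt_or_ge (Nat.nth (fun m => m ∈ T) i) cT with h | h
      · have := hlt _ h; omega
      · have := hge _ h; omega
    · have := hge _ ((Nat.count_le_iff_le_nth hinf).mp (hr ▸ hi))
      omega
    · have := hlt _ (Nat.nth_lt_of_lt_count (hr ▸ hi))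
      omega
  obtain ⟨a1, a2, a3⟩ := key S cS hcS hcS1
  obtain ⟨b1, b2, b3⟩ := key S' cS' hcS' hcS'1
  constructor
  · intro h
    refine ⟨?_, fun i _ => h i⟩
    by_contra hlt
    push_neg at hlt
    have h1 := h (S ∩ Set.Iio cS).ncard
    have h2 := a2 _ le_rfl
    have h3 := b3 _ hlt
    omega
  · rintro ⟨hr, h⟩ i
    rcases Nat.lt_or_ge i (S' ∩ Set.Iio cS').ncard with hi | hi
    · exact h i hi
    · have h1 := a1 i
      have h2 := b2 i hi
      omega

end Groth.Agent.S15037
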