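import Groth.Statements.S15038
import Groth.Agent.Semigroup.Basic

set_option autoImplicit false
open TFCurv

namespace Groth.Agent.S15038

/-- Let Γ be a numerical semigroup (a submonoid of (ℕ, +) with finite complement), Γ ≠ ℕ, with conductor
c (every n ≥ c lies in Γ, c − 1 does not). If Γ is symmetric (for x < c, x is a gap exactly when c −
1 − x ∈ Γ) and its multiplicity e, the least nonzero element of Γ, is greater than 2, then Γ is
generated as an additive monoid by at most e − 1 elements. -/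
theorem result (Γ : AddSubmonoid ℕ) (c : ℕ) (hc : ∀ n : ℕ, c ≤ n → n ∈ Γ) (hc0 : c ≠ 0) (hc1 : c - 1 ∉ Γ) (hsymm : ∀ x : ℕ, x < c → (x ∉ Γ ↔ c - 1 - x ∈ Γ)) (e : ℕ) (he : e ∈ Γ) (he0 : e ≠ 0) (hemin : ∀ γ : ℕ, γ ∈ Γ → γ ≠ 0 → e ≤ γ) (he2 : 2 < e) : ∃ G : Finset ℕ, G.card ≤ e - 1 ∧ AddSubmonoid.closure (↑G : Set ℕ) = Γ := by
  classical
  have hec : e ≤ c := hemin c (hc c le_rfl) hc0
  have hex : ∀ r : Fin e, ∃ m, m ∈ Γ ∧ m ≠ 0 ∧ m % e = r := fun r =>
    ⟨e * (c + 1) + r, hc _ (by nlinarith), by nlinarith, by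
      rw [Nat.mul_add_mod, Nat.mod_eq_of_lt r.2]⟩
  let w : Fin e → ℕ := fun r => Nat.find (hex r)
  have hw : ∀ r, w r ∈ Γ ∧ w r ≠ 0 ∧ w r % e = r := fun r => Nat.find_spec (hex r)
  set n := c - 1 + e with hn
  have hnr : w ⟨n % e, Nat.mod_lt _ (by omega)⟩ = n := by
    refine (Nat.find_eq_iff _).mpr ⟨⟨hc _ (by omega), by omega, rfl⟩, fun m hm ⟨hm1, _, hm3⟩ => hc1 ?_⟩
    have hd : e ∣ n - m := (Nat.modEq_iff_dvd' hm.le).mp hm3
    obtain ⟨q, hq⟩ := hd
    obtain ⟨q', rfl⟩ : ∃ q', q = q' + 1 := ⟨q - 1, by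
      rcases Nat.eq_zero_or_pos q with rfl | h
      · omega
      · omega⟩
    rw [show c - 1 = m + q' • e by rw [smul_eq_mul]; nlinarith [show n - m + m = n by omega]]
    exact add_mem hm1 (nsmul_mem he q')
  have hmem : n ∈ Finset.univ.image w := Finset.mem_image.mpr ⟨_, Finset.mem_univ _, hnr⟩
  refine ⟨(Finset.univ.image w).erase n, ?_, le_antisymm (AddSubmonoid.closure_le.mpr ?_) fun m hm => ?_⟩
  · rw [Finset.card_erase_of_mem hmem]
    exact Nat.sub_le_sub_right (Finset.card_image_le.trans (by simp)) 1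
  · intro x hx
    obtain ⟨r, -, rfl⟩ := Finset.mem_image.mp (Finset.mem_erase.mp (Finset.mem_coe.mp hx)).2
    exact (hw r).1
  have he' : w ⟨0, by omega⟩ = e :=
    (Nat.find_eq_iff _).mpr ⟨⟨he, he0, by simp⟩, fun m hm ⟨h1, h2, _⟩ => by
      have := hemin m h1 h2; omega⟩
  have heG : e ∈ AddSubmonoid.closure (↑((Finset.univ.image w).erase n) : Set ℕ) :=
    AddSubmonoid.subset_closure (Finset.mem_erase.mpr ⟨by omega,
      Finset.mem_image.mpr ⟨⟨0, by omega⟩, Finset.mem_univ _, he'⟩⟩)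
  induction m using Nat.strong_induction_on with
  | _ m ih =>
    rcases Nat.eq_zero_or_pos m with rfl | hm0
    · exact zero_mem _
    by_cases hmw : m = w ⟨m % e, Nat.mod_lt _ (by omega)⟩
    · by_cases hmn : m = n
      · obtain ⟨γ, hγ, h0, h1, h2⟩ :=
          Groth.Agent.Semigroup.decompose Γ c hc hc0 hc1 hsymm e he he0 hemin he2 m (by omega)
        rw [show m = γ + (m - γ) by omega]
        exact add_mem (ih γ h1 hγ) (ih (m - γ) (by omega) h2)
      · exact AddSubmonoid.subset_closure (Finset.mem_erase.mpr ⟨hmn,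
          Finset.mem_image.mpr ⟨_, Finset.mem_univ _, hmw.symm⟩⟩)
    · obtain ⟨hwΓ, hw0, hwr⟩ := hw ⟨m % e, Nat.mod_lt _ (by omega)⟩
      have hle : w ⟨m % e, Nat.mod_lt _ (by omega)⟩ ≤ m := Nat.find_min' _ ⟨hm, hm0.ne', rfl⟩
      obtain ⟨q, hq⟩ := (Nat.modEq_iff_dvd' hle).mp hwr
      rw [show m = w ⟨m % e, Nat.mod_lt _ (by omega)⟩ + q • e by rw [smul_eq_mul, mul_comm, ← hq]; omega]
      exact add_mem (ih _ (lt_of_le_of_ne hle (Ne.symm hmw)) hwΓ) (nsmul_mem heG q)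

end Groth.Agent.S15038
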