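import Groth.Statements.S15040
import Groth.Agent.TFExt.Overring
import Groth.Agent.S15035

set_option autoImplicit false
universe u
open CategoryTheory
open TFCurv

namespace Groth.Agent.S15040

/-- Let O be a one-dimensional Gorenstein local domain with algebraically closed residue field whose
integral closure O~ in its fraction field K is a finite O-module, and let M be an intermediate ring
O ⊆ M ⊆ O~ (an overring of O), viewed as an O-module. Put M⁻¹ = {x ∈ K | x·M ⊆ O}, which lies in O
and is identified with an ideal of O. Then Ext¹_O(M, M) and Hom_O(M⁻¹, O/M⁻¹) are isomorphic abelian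
groups (existence of an additive isomorphism only). -/
theorem result (O : Type u) [CommRing O] [IsDomain O] [LocCoh.IsGorensteinLocalRing O] (hdim : ringKrullDim O = 1) [IsAlgClosed (IsLocalRing.ResidueField O)] (K : Type u) [Field K] [Algebra O K] [IsFractionRing O K] (hfin : Module.Finite O ↥(integralClosure O K)) (M : Subalgebra O K) (hM : M ≤ integralClosure O K) : Nonempty (Abelian.Ext (ModuleCat.of O ↥M) (ModuleCat.of O ↥M) 1 ≃+ (↥((1 : Submodule O K) / Subalgebra.toSubmodule M) →ₗ[O] (O ⧸ Submodule.comap (Algebra.linearMap O K) ((1 : Submodule O K) / Subalgebra.toSubmodule M)))) := by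
  classical
  have hinjK := IsFractionRing.injective O K
  have hone : LinearMap.range (Algebra.linearMap O K) = (1 : Submodule O K) := Submodule.one_eq_range.symm
  let e : O ≃ₗ[O] ↥(1 : Submodule O K) :=
    (LinearEquiv.ofInjective _ hinjK).trans (LinearEquiv.ofEq _ _ hone)
  have hinjdim : HasInjectiveDimensionLT (ModuleCat.of O O) 2 :=
    Goren.hasInjectiveDimensionLE O (n := 1) (Goren.resVanish_dim O (d := 1) (by rw [hdim]; rfl))
  haveI : HasInjectiveDimensionLT (ModuleCat.of O ↥(1 : Submodule O K)) 2 :=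
    hasInjectiveDimensionLT_of_iso e.toModuleIso 2
  have H : ∀ (C : Type u) [AddCommGroup C] [Module O C] [Module.Finite O C] [Module.IsTorsionFree O C],
      Subsingleton (Abelian.Ext (ModuleCat.of O C) (ModuleCat.of O O) 1) := by
    intro C _ _ _ _
    haveI : NoZeroSMulDivisors O C := ⟨fun {c x} h => smul_eq_zero.1 h⟩
    haveI := Groth.Agent.S15013.result O hdim K hfin (1 : Submodule O K) one_ne_zero
      (Submodule.one_eq_span (R := O) (A := K) ▸ Submodule.fg_span_singleton 1) inferInstance C 1 le_rfl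
    refine Function.Injective.subsingleton (β := Abelian.Ext (ModuleCat.of O C) (ModuleCat.of O ↥(1 : Submodule O K)) 1)
      (f := fun z => z.comp (Abelian.Ext.mk₀ e.toModuleIso.hom) (add_zero 1)) fun z w h => ?_
    have h1 := congrArg (fun z => z.comp (Abelian.Ext.mk₀ e.toModuleIso.inv) (add_zero 1)) h
    simp only [Abelian.Ext.comp_assoc_of_second_deg_zero, Abelian.Ext.mk₀_comp_mk₀, Iso.hom_inv_id,
      Abelian.Ext.comp_mk₀_id] at h1
    exact h1
  haveI : Module.Finite O ↥(integralClosure O K) := hfin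
  haveI : Module.Finite O ↥M := Module.Finite.of_injective (Subalgebra.inclusion hM).toLinearMap
    (Subalgebra.inclusion_injective hM)
  haveI : Module.IsTorsionFree O K := inferInstance
  haveI : NoZeroSMulDivisors O ↥M := ⟨fun {c x} h => smul_eq_zero.1 h⟩
  have hrefl := Groth.Agent.S15035.eval_bijective (fun C _ _ _ _ => H C) ↥M
  obtain ⟨e₁⟩ := Groth.Agent.TFExt.ext_one_self_dual H ↥M hrefl
  -- functionals are multiplications
  have hmul : ∀ (φ : Module.Dual O ↥M) (m : ↥M), algebraMap O K (φ m) = (m : K) * algebraMap O K (φ 1) := by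
    intro φ m
    obtain ⟨⟨a, s⟩, hs⟩ := IsLocalization.surj (nonZeroDivisors O) (m : K)
    have h1 : (s : O) • m = a • (1 : ↥M) := Subtype.ext (by simpa [Algebra.smul_def, mul_comm] using hs)
    have h2 := congrArg (fun x => algebraMap O K (φ x)) h1
    simp only [map_smul, smul_eq_mul, map_mul] at h2
    refine mul_left_cancel₀ (IsLocalization.map_units K s).ne_zero ?_
    rw [h2, ← hs]
    ring
  have hmem : ∀ φ : Module.Dual O ↥M, algebraMap O K (φ 1) ∈ (1 : Submodule O K) / Subalgebra.toSubmodule M := by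
    intro φ
    rw [Submodule.mem_div_iff_forall_mul_mem]
    intro m hm
    rw [Submodule.mem_one, mul_comm]
    exact ⟨_, hmul φ ⟨m, hm⟩⟩
  let J : Submodule O O := Submodule.comap (Algebra.linearMap O K) ((1 : Submodule O K) / Subalgebra.toSubmodule M)
  let ι : Module.Dual O ↥M →ₗ[O] O := LinearMap.applyₗ (1 : ↥M)
  have hιinj : Function.Injective ι := fun φ ψ h => LinearMap.ext fun m => hinjK (by
    rw [hmul φ m, hmul ψ m]; exact congrArg (fun r => (m : K) * algebraMap O K r) h)
  have hdual : ∀ y ∈ (1 : Submodule O K) / Subalgebra.toSubmodule M, ∃ φ : Module.Dual O ↥M, algebraMap O K (φ 1) = y := by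
    intro y hy
    rw [Submodule.mem_div_iff_forall_mul_mem] at hy
    let l : ↥M →ₗ[O] K := (LinearMap.mulLeft O y).comp (Subalgebra.toSubmodule M).subtype
    let φ : Module.Dual O ↥M := e.symm.toLinearMap.comp (l.codRestrict 1 fun m => hy _ m.2)
    refine ⟨φ, ?_⟩
    show algebraMap O K (e.symm (l.codRestrict 1 (fun m => hy _ m.2) 1)) = y
    rw [show algebraMap O K (e.symm (l.codRestrict 1 (fun m => hy _ m.2) 1)) = l 1 from
      congrArg Subtype.val (e.apply_symm_apply _)]
    exact mul_one y
  have hex : Function.Exact ι J.mkQ := by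
    intro a
    rw [Submodule.mkQ_apply, Submodule.Quotient.mk_eq_zero]
    exact ⟨fun ha => by obtain ⟨φ, hφ⟩ := hdual _ ha; exact ⟨φ, hinjK hφ⟩, fun ⟨φ, hφ⟩ => hφ ▸ hmem φ⟩
  obtain ⟨e₂⟩ := Groth.Agent.TFExt.ext_one_of_copresentation (J := Module.Dual O ↥M) ι J.mkQ hιinj
    J.mkQ_surjective hex (H _)
  have hzero : LinearMap.range (J.mkQ.compRight O : (Module.Dual O ↥M →ₗ[O] O) →ₗ[O] _) = ⊥ := by
    rw [eq_bot_iff]
    rintro _ ⟨Ξ, rfl⟩
    rw [Submodule.mem_bot]
    refine LinearMap.ext fun φ => ?_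
    obtain ⟨m₀, hm₀⟩ := hrefl.2 Ξ
    show J.mkQ (Ξ φ) = 0
    rw [Submodule.mkQ_apply, Submodule.Quotient.mk_eq_zero, ← hm₀, Module.Dual.eval_apply, Submodule.mem_comap,
      Algebra.linearMap_apply, hmul, Submodule.mem_div_iff_forall_mul_mem]
    intro m hm
    rw [show (m₀ : K) * algebraMap O K (φ 1) * m = algebraMap O K (φ 1) * ((m₀ : K) * m) by ring]
    exact Submodule.mem_div_iff_forall_mul_mem.1 (hmem φ) _ (M.mul_mem m₀.2 hm)
  let d : Module.Dual O ↥M ≃ₗ[O] ↥((1 : Submodule O K) / Subalgebra.toSubmodule M) :=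
    LinearEquiv.ofBijective (((Algebra.linearMap O K).comp ι).codRestrict _ hmem)
      ⟨fun φ ψ h => hιinj (hinjK (congrArg Subtype.val h)),
        fun y => by obtain ⟨φ, hφ⟩ := hdual y y.2; exact ⟨φ, Subtype.ext hφ⟩⟩
  exact ⟨(e₁.trans (e₂.trans ((Submodule.quotEquivOfEqBot _ hzero).trans (d.arrowCongr (LinearEquiv.refl O _))))).toAddEquiv⟩

end Groth.Agent.S15040
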