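import Groth.Statements.S15041
import Groth.Agent.TFExt.Multi

set_option autoImplicit false
universe u
open CategoryTheory
open TFCurv

namespace Groth.Agent.S15041

/-- Let k be an algebraically closed field of characteristic zero and A ⊂ k[[t]] the complete local ring
of the E_6 singularity, i.e. the k-subalgebra of power series all of whose exponents lie in the
semigroup generated by 3 and 4 (A = k[[t³, t⁴]]). Its rank-one torsion-free modules are A, M₁ = A +
A·t⁵, its dual M₁* = A + A·t, M₂ = A + A·t² and M₃ = A + A·t + A·t² = k[[t]], of index 0, 1, 1, 2,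
3. Then Ext¹_A(M, M) has length 2·index(M): length 2 for M₁ and for M₁*, 4 for M₂ and 6 for M₃
(length over A equals k-dimension). As End_A(M₁) = End_A(M₁*) = M₁, End_A(M₂) = M₂, End_A(M₃) = M₃
have colength 1, 1, 2, 3 over A, this is the identity χ₁(M) = dim Ext¹(M, M) − dim(End(M)/A) =
index(M). -/
theorem result (k : Type u) [Field k] [IsAlgClosed k] [CharZero k] (A : Subalgebra k (PowerSeries k)) (hmono : ∀ f : PowerSeries k, f ∈ A ↔ ∀ n : ℕ, PowerSeries.coeff n f ≠ 0 → n ∈ AddSubmonoid.closure ({3, 4} : Set ℕ)) : Module.length ↥A (Abelian.Ext (ModuleCat.of ↥A ↥(Submodule.span ↥A ({1, (PowerSeries.X : PowerSeries k) ^ 5} : Set (PowerSeries k)))) (ModuleCat.of ↥A ↥(Submodule.span ↥A ({1, (PowerSeries.X : PowerSeries k) ^ 5} : Set (PowerSeries k)))) 1) = 2 ∧ Module.length ↥A (Abelian.Ext (ModuleCat.of ↥A ↥(Submodule.span ↥A ({1, (PowerSeries.X : PowerSeries k)} : Set (PowerSeries k)))) (ModuleCat.of ↥A ↥(Submodule.span ↥A ({1, (PowerSeries.X : PowerSeries k)} : Set (PowerSeries k)))) 1) = 2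 ∧ Module.length ↥A (Abelian.Ext (ModuleCat.of ↥A ↥(Submodule.span ↥A ({1, (PowerSeries.X : PowerSeries k) ^ 2} : Set (PowerSeries k)))) (ModuleCat.of ↥A ↥(Submodule.span ↥A ({1, (PowerSeries.X : PowerSeries k) ^ 2} : Set (PowerSeries k)))) 1) = 4 ∧ Module.length ↥A (Abelian.Ext (ModuleCat.of ↥A ↥(Submodule.span ↥A ({1, (PowerSeries.X : PowerSeries k), (PowerSeries.X : PowerSeries k) ^ 2} : Set (PowerSeries k)))) (ModuleCat.of ↥A ↥(Submodule.span ↥A ({1, (PowerSeries.X : PowerSeries k), (PowerSeries.X : PowerSeries k) ^ 2} : Set (PowerSeries k)))) 1) = 6 := by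
  have hA : ∀ f : PowerSeries k, f ∈ A ↔ Groth.Agent.TFExt.Supp {m | m = 0 ∨ m = 3 ∨ m = 4 ∨ 6 ≤ m} f := fun f => by
    rw [hmono]
    exact forall_congr' fun m => imp_congr_right fun _ => Groth.Agent.TFExt.mem_closure_three_four
  have e1 : ((PowerSeries.X : PowerSeries k)) = PowerSeries.X ^ 1 := (pow_one _).symm
  refine ⟨Groth.Agent.TFExt.ext_E6_two hA 5 {7, 8} ?_, ?_, Groth.Agent.TFExt.ext_E6_two hA 2 {2, 4, 5, 7} ?_, ?_⟩
  · intro e
    simp only [Finset.mem_insert, Finset.mem_singleton]
    constructor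
    · intro h; refine ⟨fun l hl hl' => ?_, ?_, ?_⟩ <;> omega
    · rintro ⟨hJ, h1, h2⟩
      have := hJ 3 (by omega) (by omega)
      have := hJ 4 (by omega) (by omega)
      omega
  · have h := Groth.Agent.TFExt.ext_E6_two hA 1 {3, 4} (fun e => by
      simp only [Finset.mem_insert, Finset.mem_singleton]
      constructor
      · intro h; refine ⟨fun l hl hl' => ?_, ?_, ?_⟩ <;> omega
      · rintro ⟨hJ, h1, h2⟩
        have := hJ 3 (by omega) (by omega)
        have := hJ 6 (by omega) (by omega)
        have := hJ 7 (by omega) (by omega)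
        omega)
    rw [← e1] at h
    exact h
  · intro e
    simp only [Finset.mem_insert, Finset.mem_singleton]
    constructor
    · intro h; refine ⟨fun l hl hl' => ?_, ?_, ?_⟩ <;> omega
    · rintro ⟨hJ, h1, h2⟩
      have := hJ 4 (by omega) (by omega)
      have := hJ 6 (by omega) (by omega)
      have := hJ 7 (by omega) (by omega)
      omega
  · have e : ({1, PowerSeries.X, PowerSeries.X ^ 2} : Set (PowerSeries k)) =
        (fun a : ℕ => (PowerSeries.X : PowerSeries k) ^ a) '' Set.Iic 2 := by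
      ext f
      simp only [Set.mem_insert_iff, Set.mem_singleton_iff, Set.mem_image, Set.mem_Iic]
      constructor
      · rintro (rfl | rfl | rfl)
        · exact ⟨0, by norm_num, pow_zero _⟩
        · exact ⟨1, by norm_num, pow_one _⟩
        · exact ⟨2, le_rfl, rfl⟩
      · rintro ⟨a, ha, rfl⟩
        interval_cases a <;> simp
    rw [e]
    exact Groth.Agent.TFExt.ext_E6_top hA

end Groth.Agent.S15041
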