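import Groth.Statements.S15042
import Groth.Agent.QuietLib.Local

set_option autoImplicit false
open CategoryTheory AlgebraicGeometry
universe u
open Quiet

namespace Groth.Agent.S15042

/-- Over a scheme `X` of prime characteristic `p`, if `f : Y ⟶ X` is quasi-etale (locally on the source
an extraction of `p`-th roots followed by an etale morphism) and `Y'` with its projections `g' : Y'
⟶ Y`, `f' : Y' ⟶ X'` is the fibre product of `f` and a morphism `g : X' ⟶ X`, then `f'` is
quasi-etale. -/
theorem result (p : ℕ) [Fact p.Prime] {X Y X' Y' : Scheme.{u}} [FrobSch.IsCharP X p]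
    (f : Y ⟶ X) (g : X' ⟶ X) (f' : Y' ⟶ X') (g' : Y' ⟶ Y) (H : IsPullback g' f' f g)
    (hf : Quiet.IsQuiet p f) : Quiet.IsQuiet p f' := by
  refine QuietLib.isQuiet_of_qat fun y' => ?_
  obtain ⟨R, S, φ, a, b, hφ, ha, hb, ⟨z, hz⟩, fac⟩ := QuietLib.qat_of_isQuiet hf (g' y')
  obtain ⟨w0, hw1, hw2⟩ := Scheme.Pullback.exists_preimage_pullback (f := b) (g := g') z y' hz
  have comm : (Limits.pullback.fst b g' ≫ Spec.map φ) ≫ a =
      (Limits.pullback.snd b g' ≫ f') ≫ g := by
    rw [Category.assoc, ← fac, ← Category.assoc, Limits.pullback.condition, Category.assoc, H.w,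
      Category.assoc]
  let m : Limits.pullback b g' ⟶ Limits.pullback a g := Limits.pullback.lift _ _ comm
  have sq : IsPullback (Limits.pullback.fst b g') m (Spec.map φ) (Limits.pullback.fst a g) := by
    refine IsPullback.of_bot ?_ (Limits.pullback.lift_fst _ _ comm).symm
      (IsPullback.of_hasPullback a g)
    have h2 := (IsPullback.of_hasPullback b g').paste_vert H
    rw [fac] at h2
    rw [Limits.pullback.lift_snd]
    exact h2
  obtain ⟨U', hU', hmU, -⟩ :=
    exists_isAffineOpen_mem_and_subset (X := Limits.pullback a g) (x := m w0) (U := ⊤) trivial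
  let ψ : R ⟶ Γ(Limits.pullback a g, U') := Spec.preimage (hU'.fromSpec ≫ Limits.pullback.fst a g)
  have hψ : Spec.map ψ = hU'.fromSpec ≫ Limits.pullback.fst a g := Spec.map_preimage _
  have P : IsPushout φ ψ (Limits.pushout.inl φ ψ) (Limits.pushout.inr φ ψ) :=
    IsPushout.of_hasPushout φ ψ
  have HP := isPullback_SpecMap_of_isPushout _ _ _ _ P
  let k := sq.lift (Spec.map (Limits.pushout.inl φ ψ))
    (Spec.map (Limits.pushout.inr φ ψ) ≫ hU'.fromSpec) (by rw [HP.w, hψ, Category.assoc])
  have K : IsPullback k (Spec.map (Limits.pushout.inr φ ψ)) m hU'.fromSpec := by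
    refine IsPullback.of_right ?_ (sq.lift_snd _ _ _) sq
    rw [sq.lift_fst, ← hψ]
    exact HP
  haveI : IsOpenImmersion k := MorphismProperty.of_isPullback (P := @IsOpenImmersion) K.flip inferInstance
  obtain ⟨t, ht⟩ : m w0 ∈ Set.range hU'.fromSpec := by rw [hU'.range_fromSpec]; exact hmU
  obtain ⟨t2, ht2, -⟩ := Scheme.Pullback.exists_preimage_pullback (f := m) (g := hU'.fromSpec) w0 t ht.symm
  refine ⟨_, _, Limits.pushout.inr φ ψ, hU'.fromSpec ≫ Limits.pullback.snd a g,
    k ≫ Limits.pullback.snd b g', QuietLib.tow_of_isPushout hφ ψ _ _ P.flip, inferInstance,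
    inferInstance, ?_, ?_⟩
  · refine ⟨K.isoPullback.inv t2, ?_⟩
    rw [← Scheme.Hom.comp_apply, ← Category.assoc, K.isoPullback_inv_fst, Scheme.Hom.comp_apply,
      ht2, hw2]
  · rw [Category.assoc, ← Limits.pullback.lift_snd _ _ comm, ← Category.assoc k, K.w,
      Category.assoc]

end Groth.Agent.S15042
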