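import Groth.Statements.S15043
import Groth.Agent.QuietLib.Local

set_option autoImplicit false
open CategoryTheory AlgebraicGeometry
universe u
open Quiet

namespace Groth.Agent.S15043

/-- Over a scheme `X` of prime characteristic `p`, the composite of quasi-etale morphisms `g : Z ⟶ Y`
and `f : Y ⟶ X` (each locally on its source an extraction of `p`-th roots followed by an etale
morphism) is quasi-etale. -/
theorem result (p : ℕ) [Fact p.Prime] {X Y Z : Scheme.{u}} [FrobSch.IsCharP X p]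
    (f : Y ⟶ X) (g : Z ⟶ Y) (hf : Quiet.IsQuiet p f) (hg : Quiet.IsQuiet p g) :
    Quiet.IsQuiet p (g ≫ f) := by
  refine QuietLib.isQuiet_of_qat fun z => ?_
  obtain ⟨R₂, S₂, φ₂, a₂, b₂, hφ₂, ha₂, hb₂, ⟨t, ht⟩, fac₂⟩ := QuietLib.qat_of_isQuiet hg z
  obtain ⟨R₁, S₁, φ₁, a₁, b₁, hφ₁, ha₁, hb₁, hy, fac₁⟩ :=
    QuietLib.qat_of_isQuiet hf (a₂ (Spec.map φ₂ t))
  obtain ⟨R₃, S₃, χ, φ₃, β, hφ₃, hχ, hβ, hmem, hsub, hcomm⟩ :=
    QuietLib.exists_shrink hφ₂ t (a₂ ⁻¹ᵁ b₁.opensRange) hy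
  have hr : Set.range (Spec.map χ ≫ a₂) ⊆ Set.range b₁ := by
    rintro _ ⟨x, rfl⟩
    exact hsub ⟨x, rfl⟩
  let l := IsOpenImmersion.lift b₁ (Spec.map χ ≫ a₂) hr
  have hl : l ≫ b₁ = Spec.map χ ≫ a₂ := IsOpenImmersion.lift_fac _ _ _
  let h : S₁ ⟶ R₃ := Spec.preimage l
  have hh : Spec.map h = l := Spec.map_preimage l
  have hle : Etale l := by
    haveI : Etale (l ≫ b₁) := by rw [hl]; infer_instance
    exact Etale.of_comp l b₁
  have he : h.hom.Etale := (HasRingHomProperty.Spec_iff (P := @Etale)).1 (hh ▸ hle)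
  obtain ⟨C₀, h₀, φ₀, he₀, hφ₀, hsw⟩ :=
    QuietLib.exists_swap p hφ₁ (QuietLib.charP_of_hom p a₁) h he
  haveI : Etale (Spec.map h₀) := (HasRingHomProperty.Spec_iff (P := @Etale)).2 he₀
  refine ⟨C₀, S₃, φ₀ ≫ φ₃, Spec.map h₀ ≫ a₁, β ≫ b₂, QuietLib.tow_comp hφ₀ hφ₃, inferInstance,
    inferInstance, ?_, ?_⟩
  · obtain ⟨s, rfl⟩ := hmem
    exact ⟨s, by rw [Scheme.Hom.comp_apply, ht]⟩
  · rw [Category.assoc, ← Category.assoc b₂, fac₂, Category.assoc, ← Category.assoc β, hcomm,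
      Category.assoc, ← Category.assoc (Spec.map χ), ← hl, Category.assoc, fac₁, ← hh,
      ← Category.assoc (Spec.map h), ← Spec.map_comp, ← hsw]
    simp only [Spec.map_comp, Category.assoc]

end Groth.Agent.S15043
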