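import Groth.Statements.S15044
import Groth.Agent.SyntLib.Comp
import Groth.Agent.SyntLib.Square
import Groth.Agent.SyntLib.Mor
-- import your own Groth.Agent.* helpers here

set_option autoImplicit false
open CategoryTheory AlgebraicGeometry
universe u
open Quiet

namespace Groth.Agent.S15044

open AlgebraicGeometry CategoryTheory

theorem syn_rootTower (p : ℕ) (hp : 0 < p) : ∀ (n : ℕ) (A B : Type u) [CommRing A] [CommRing B] [Algebra A B],
    Quiet.IsRootTower p n A B → Synt.IsSyntomic A B := by
  intro n
  induction n with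
  | zero =>
    intro A B _ _ _ h
    obtain ⟨e⟩ := h
    exact SyntLib.isSyntomic_of_algEquiv e.symm (SyntLib.isSyntomic_of_smooth A A)
  | succ n ih =>
    intro A B _ _ _ h
    obtain ⟨a, _, ht, hn⟩ := h
    haveI := ht
    have hm : (Polynomial.X ^ p - Polynomial.C a : Polynomial A).Monic := Polynomial.monic_X_pow_sub_C a hp.ne'
    haveI : Module.Finite A (Quiet.RootRing p A a) := hm.finite_adjoinRoot
    exact SyntLib.isSyntomic_trans (SyntLib.isSyntomic_of_hasSquarePres
      (SyntLib.hasSquarePres_adjoinRoot (SyntLib.hasSquarePres_self A) _)) (ih _ _ hn)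

/-- Over a scheme `X` of prime characteristic `p`, a quasi-etale morphism `f : Y ⟶ X` (locally on the
source an extraction of `p`-th roots followed by an etale morphism) is syntomic: every point of `Y`
has an affine open neighbourhood mapping into an affine open of `X` such that the induced ring map
is flat, finitely presented and has local complete intersection fibres. -/
theorem result (p : ℕ) [Fact p.Prime] {X Y : Scheme.{u}} [FrobSch.IsCharP X p]
    (f : Y ⟶ X) (hf : Quiet.IsQuiet p f) : Synt.IsSyntomicMor f := by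
  rw [SyntLib.isSyntomicMor_iff]
  choose V Y' r e hy hr he hfac using hf
  refine IsZariskiLocalAtSource.of_iSup_eq_top V
    (eq_top_iff.mpr fun y _ => TopologicalSpace.Opens.mem_iSup.mpr ⟨y, hy y⟩) fun y => ?_
  rw [← hfac y]
  refine SyntLib.synMor_comp ?_ ?_
  · rw [HasRingHomProperty.iff_exists_appLE (P := SyntLib.SynMor.{u}) SyntLib.syn_awaySource]
    intro w
    obtain ⟨U, hwU, hU, n, ht⟩ := hr y (r y w)
    refine ⟨U, ⟨r y ⁻¹ᵁ U.1, hU⟩, hwU, le_rfl, ?_⟩
    show SyntLib.Syn ((r y).appLE U.1 (r y ⁻¹ᵁ U.1) le_rfl).hom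
    rw [← Scheme.Hom.app_eq_appLE]
    letI := ((r y).app U.1).hom.toAlgebra
    exact syn_rootTower p (Fact.out (p := p.Prime)).pos n _ _ ht
  · rw [SyntLib.SynMor, affineLocally_iff_affineOpens_le]
    haveI := he y
    exact fun V' U' h' => SyntLib.syn_of_smooth _ (HasRingHomProperty.appLE @Smooth (e y) inferInstance V' U' h')

end Groth.Agent.S15044
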