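import Groth.Statements.S15045
import Groth.Agent.QuietLib.Local

set_option autoImplicit false
open CategoryTheory AlgebraicGeometry
universe u
open Quiet

namespace Groth.Agent.S15045

/-- Let `T` be a scheme of prime characteristic `p`, `i : U ⟶ T` a closed immersion which is surjective
on points, and `f' : U' ⟶ U` quasi-etale (locally on `U'` an extraction of `p`-th roots followed by
an etale morphism). Then every point of `U'` has an open neighbourhood `V` which is the base change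
along `i` of a quasi-etale `T`-scheme: there are a quasi-etale `q : T' ⟶ T` and `j : V ⟶ T'` making
`V`, with `j` and `V ⟶ U' ⟶ U`, the fibre product of `q` and `i`. (The published statement asks `U ⟶
T` to be a closed nil-immersion, a term it does not define; this row takes any closed immersion that
is surjective on points, which is all the printed argument uses.) -/
theorem result (p : ℕ) [Fact p.Prime] {T U U' : Scheme.{u}}
    [FrobSch.IsCharP T p] (i : U ⟶ T) [IsClosedImmersion i] [Surjective i] (f' : U' ⟶ U)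
    (hf' : Quiet.IsQuiet p f') (u : U') :
    ∃ (V : U'.Opens) (T' : Scheme.{u}) (q : T' ⟶ T) (j : (V : Scheme.{u}) ⟶ T'),
      u ∈ V ∧ Quiet.IsQuiet p q ∧ IsPullback j (V.ι ≫ f') q i := by
  obtain ⟨R, S, φ, a, b, hφ, ha, hb, ⟨z, hz⟩, fac⟩ := QuietLib.qat_of_isQuiet hf' u
  obtain ⟨UA, hUA, hxA, -⟩ :=
    exists_isAffineOpen_mem_and_subset (X := T) (x := i (a (Spec.map φ z))) (U := ⊤) trivial
  have hU0 : IsAffineOpen (i ⁻¹ᵁ UA) := hUA.preimage i
  obtain ⟨R₁, S₁, χ, φ₁, β, hφ₁, hχ, hβ, ⟨z₁, hz₁⟩, hsub, hcomm⟩ :=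
    QuietLib.exists_shrink hφ z (a ⁻¹ᵁ (i ⁻¹ᵁ UA)) hxA
  have hr : Set.range (Spec.map χ ≫ a) ⊆ Set.range hU0.fromSpec := by
    rintro _ ⟨x, rfl⟩
    rw [hU0.range_fromSpec]
    exact hsub ⟨x, rfl⟩
  let l := IsOpenImmersion.lift hU0.fromSpec (Spec.map χ ≫ a) hr
  have hl : l ≫ hU0.fromSpec = Spec.map χ ≫ a := IsOpenImmersion.lift_fac _ _ _
  let g : Γ(U, i ⁻¹ᵁ UA) ⟶ R₁ := Spec.preimage l
  have hgl : Spec.map g = l := Spec.map_preimage l
  have hle : Etale l := by
    haveI : Etale (l ≫ hU0.fromSpec) := by rw [hl]; infer_instance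
    exact Etale.of_comp l hU0.fromSpec
  have hge : g.hom.Etale := (HasRingHomProperty.Spec_iff (P := @Etale)).1 (hgl ▸ hle)
  have hπ : Function.Surjective (i.app UA) := i.app_surjective UA hUA
  obtain ⟨c, C, h, π₂, hc, he, hπ₂, P₁⟩ :=
    QuietLib.exists_etale_lift (i.app UA) hπ g hge (Spec.map φ₁ z₁)
  let χ₂ : R₁ ⟶ CommRingCat.of (Localization.Away c) := CommRingCat.ofHom (algebraMap _ _)
  haveI : IsOpenImmersion (Spec.map χ₂) := IsOpenImmersion.of_isLocalization c
  obtain ⟨S₂, φ₂, β₂, hφ₂, hβ₂, ⟨z₂, hz₂⟩, H₂⟩ := QuietLib.exists_restrict hφ₁ z₁ χ₂ (by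
    rw [show Set.range (Spec.map χ₂) = _ from PrimeSpectrum.localization_away_comap_range _ c]
    exact hc)
  obtain ⟨S₃, φ₃, π₃, hφ₃, hπ₃, P₂⟩ := QuietLib.exists_tow_lift hφ₂ π₂ hπ₂
  haveI : Etale (Spec.map h) := (HasRingHomProperty.Spec_iff (P := @Etale)).2 he
  let q : Spec S₃ ⟶ T := Spec.map φ₃ ≫ Spec.map h ≫ hUA.fromSpec
  let B : Spec S₂ ⟶ U' := β₂ ≫ β ≫ b
  refine ⟨B.opensRange, Spec S₃, q, B.isoOpensRange.inv ≫ Spec.map π₃, ?_, ?_, ?_⟩
  · exact ⟨z₂, by rw [Scheme.Hom.comp_apply, Scheme.Hom.comp_apply, hz₂, hz₁, hz]⟩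
  · exact QuietLib.isQuiet_of_qat fun y => ⟨C, S₃, φ₃, Spec.map h ≫ hUA.fromSpec, 𝟙 _, hφ₃,
      inferInstance, inferInstance, ⟨y, rfl⟩, Category.id_comp _⟩
  · have A1 : IsPullback (Spec.map (i.app UA)) hU0.fromSpec hUA.fromSpec i := by
      rw [Scheme.Hom.app_eq_appLE]
      exact (IsOpenImmersion.isPullback _ _ _ _ (IsAffineOpen.SpecMap_appLE_fromSpec i hUA hU0 le_rfl).symm
        (by rw [hUA.opensRange_fromSpec, hU0.opensRange_fromSpec]))
    have A2 := (isPullback_SpecMap_of_isPushout _ _ _ _ P₁).flip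
    have A3 := (isPullback_SpecMap_of_isPushout _ _ _ _ P₂).flip
    have A := A3.paste_vert (A2.paste_vert A1)
    refine A.of_iso B.isoOpensRange (Iso.refl _) (Iso.refl _) (Iso.refl _) ?_ ?_ ?_ ?_
    · simp
    · simp only [Iso.refl_hom, Category.comp_id]
      rw [← Category.assoc B.isoOpensRange.hom, Scheme.Hom.isoOpensRange_hom_ι]
      show _ = (β₂ ≫ β ≫ b) ≫ f'
      rw [Category.assoc, Category.assoc, fac, ← Category.assoc β, hcomm, Category.assoc, ← hl,
        ← Category.assoc β₂, H₂.w, Category.assoc, ← hgl, ← Category.assoc (Spec.map χ₂),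
        ← Spec.map_comp]
    · simp [q]
    · simp

end Groth.Agent.S15045
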