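import Groth.Statements.S15049
import Mathlib
import Groth.Agent.LubinTateLib

set_option autoImplicit false
universe u
open LubinTate

namespace Groth.Agent.S15049

/-- Let O be a discrete valuation ring with finite residue field of cardinality q, π a uniformizer of O,
and f = πT + T^q ∈ O[[T]]. Then there is a one-dimensional commutative formal group law F(X,Y) over
O for which f is an endomorphism, f(F(X,Y)) = F(f(X), f(Y)); and F is the unique power series in
O[[X,Y]] with zero constant term and linear part X + Y satisfying this identity. (The published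
statement is for the ring of integers of a finite extension of ℚ_p or of 𝔽_q((X)); completeness is
not used and any discrete valuation ring with finite residue field is allowed here.) -/
theorem result (O : Type u) [CommRing O] [IsDomain O] [IsDiscreteValuationRing O]
    [Finite (IsLocalRing.ResidueField O)] (π : O) (hπ : Irreducible π) (f : PowerSeries O)
    (hf : f = π • PowerSeries.X + PowerSeries.X ^ Nat.card (IsLocalRing.ResidueField O)) :
    ∃ F : FormalGroup O, F.IsComm ∧
      PowerSeries.subst F.toPowerSeries f =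
        MvPowerSeries.subst (fun i : Fin 2 => PowerSeries.subst (MvPowerSeries.X i : MvPowerSeries (Fin 2) O) f) F.toPowerSeries ∧
      ∀ G : MvPowerSeries (Fin 2) O, G.constantCoeff = 0 → G.coeff (Finsupp.single 0 1) = 1 →
        G.coeff (Finsupp.single 1 1) = 1 →
        PowerSeries.subst G f =
        MvPowerSeries.subst (fun i : Fin 2 => PowerSeries.subst (MvPowerSeries.X i : MvPowerSeries (Fin 2) O) f) G →
        G = F.toPowerSeries := by
  classical
  have h2 := LubinTateLib.two_le_card (O := O)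
  obtain ⟨φ, h0, h1, eφ⟩ := LubinTateLib.exists_sol (σ := Fin 2) hπ (MvPowerSeries.X 0 + MvPowerSeries.X 1)
  have hlin : ∀ i : Fin 2, MvPowerSeries.coeff (Finsupp.single i 1) φ = 1 := fun i ↦ by
    rw [h1 _ (Finsupp.degree_single _ _)]
    fin_cases i <;> simp [MvPowerSeries.coeff_X, Finsupp.single_left_inj]
  have hc : ∀ {σ : Type} [Finite σ] (g : Fin 2 → MvPowerSeries σ O), (∀ i, MvPowerSeries.constantCoeff (g i) = 0) →
      MvPowerSeries.constantCoeff (MvPowerSeries.subst g φ) = 0 := fun g hg ↦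
    MvPowerSeries.constantCoeff_subst_eq_zero (MvPowerSeries.hasSubst_of_constantCoeff_zero hg) hg h0
  have hl : ∀ {σ : Type} [Finite σ] (g : Fin 2 → MvPowerSeries σ O), (∀ i, MvPowerSeries.constantCoeff (g i) = 0) →
      ∀ d : σ →₀ ℕ, d.degree = 1 → MvPowerSeries.coeff d (MvPowerSeries.subst g φ) =
        MvPowerSeries.coeff d (g 0) + MvPowerSeries.coeff d (g 1) := fun g hg d hd ↦ by
    rw [LubinTateLib.coeff_one_subst g hg φ h0 d hd, Fin.sum_univ_two, hlin, hlin, one_mul, one_mul]
  have x3 : ∀ i, MvPowerSeries.constantCoeff (MvPowerSeries.X i : MvPowerSeries (Fin 3) O) = 0 := MvPowerSeries.constantCoeff_X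
  let a : Fin 2 → MvPowerSeries (Fin 3) O := ![MvPowerSeries.X 0, MvPowerSeries.X 1]
  let b : Fin 2 → MvPowerSeries (Fin 3) O := ![MvPowerSeries.X 1, MvPowerSeries.X 2]
  have ha : ∀ i, MvPowerSeries.constantCoeff (a i) = 0 := Fin.forall_fin_two.mpr ⟨x3 _, x3 _⟩
  have hb : ∀ i, MvPowerSeries.constantCoeff (b i) = 0 := Fin.forall_fin_two.mpr ⟨x3 _, x3 _⟩
  let A : Fin 2 → MvPowerSeries (Fin 3) O := ![MvPowerSeries.subst a φ, MvPowerSeries.X 2]
  let B : Fin 2 → MvPowerSeries (Fin 3) O := ![MvPowerSeries.X 0, MvPowerSeries.subst b φ]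
  have hA : ∀ i, MvPowerSeries.constantCoeff (A i) = 0 := Fin.forall_fin_two.mpr ⟨hc a ha, x3 _⟩
  have hB : ∀ i, MvPowerSeries.constantCoeff (B i) = 0 := Fin.forall_fin_two.mpr ⟨x3 _, hc b hb⟩
  have dX := fun i : Fin 3 ↦ LubinTateLib.defect_X (O := O) (π := π) h2 i
  have hass : MvPowerSeries.subst A φ = MvPowerSeries.subst B φ := LubinTateLib.sol_unique hπ (hc A hA) (hc B hB)
    (fun d hd ↦ by
      rw [hl A hA d hd, hl B hB d hd]
      show MvPowerSeries.coeff d (MvPowerSeries.subst a φ) + MvPowerSeries.coeff d (MvPowerSeries.X 2) =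
        MvPowerSeries.coeff d (MvPowerSeries.X 0) + MvPowerSeries.coeff d (MvPowerSeries.subst b φ)
      rw [hl a ha d hd, hl b hb d hd]
      exact add_assoc _ _ _)
    (LubinTateLib.defect_subst h2 A hA eφ (Fin.forall_fin_two.mpr ⟨LubinTateLib.defect_subst h2 a ha eφ (Fin.forall_fin_two.mpr ⟨dX _, dX _⟩), dX _⟩))
    (LubinTateLib.defect_subst h2 B hB eφ (Fin.forall_fin_two.mpr ⟨dX _, LubinTateLib.defect_subst h2 b hb eφ (Fin.forall_fin_two.mpr ⟨dX _, dX _⟩)⟩))
  refine ⟨⟨φ, h0, hlin 0, hlin 1, hass⟩, ⟨?_⟩, (LubinTateLib.defect_eq_zero_iff h2 hf h0).mp eφ, fun G G0 G1 G2 hG ↦ ?_⟩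
  · let s : Fin 2 → MvPowerSeries (Fin 2) O := ![MvPowerSeries.X 1, MvPowerSeries.X 0]
    have hs : ∀ i, MvPowerSeries.constantCoeff (s i) = 0 :=
      Fin.forall_fin_two.mpr ⟨MvPowerSeries.constantCoeff_X _, MvPowerSeries.constantCoeff_X _⟩
    have : φ = MvPowerSeries.subst s φ := LubinTateLib.sol_unique hπ h0 (hc s hs)
      (fun d hd ↦ by rw [hl s hs d hd, h1 d hd, map_add]; exact add_comm _ _) eφ
      (LubinTateLib.defect_subst h2 s hs eφ
        (Fin.forall_fin_two.mpr ⟨LubinTateLib.defect_X h2 1, LubinTateLib.defect_X h2 0⟩))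
    exact this
  · refine LubinTateLib.sol_unique hπ G0 h0 (fun d hd ↦ ?_) ((LubinTateLib.defect_eq_zero_iff h2 hf G0).mpr hG) eφ
    obtain ⟨i, rfl⟩ := LubinTateLib.exists_single_of_degree hd
    fin_cases i
    · exact G1.trans (hlin 0).symm
    · exact G2.trans (hlin 1).symm

end Groth.Agent.S15049
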