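import Groth.Statements.S15050
import Mathlib
import Groth.Agent.LubinTateLib

set_option autoImplicit false
universe u
open LubinTate

namespace Groth.Agent.S15050

/-- Let O be a discrete valuation ring with finite residue field of cardinality q, π a uniformizer of O,
and f = πT + T^q ∈ O[[T]]. For every α ∈ O there is a unique power series g = [α] ∈ O[[T]] with zero
constant term and linear coefficient α which commutes with f under substitution, g(f(T)) = f(g(T)).
(The published statement is for the ring of integers of a finite extension of ℚ_p or of 𝔽_q((X));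
completeness is not used and any discrete valuation ring with finite residue field is allowed here.) -/
theorem result (O : Type u) [CommRing O] [IsDomain O] [IsDiscreteValuationRing O]
    [Finite (IsLocalRing.ResidueField O)] (π : O) (hπ : Irreducible π) (f : PowerSeries O)
    (hf : f = π • PowerSeries.X + PowerSeries.X ^ Nat.card (IsLocalRing.ResidueField O)) (α : O) :
    ∃! g : PowerSeries O, g.constantCoeff = 0 ∧ g.coeff 1 = α ∧
      PowerSeries.subst g f = PowerSeries.subst f g := by
  let q := Nat.card (IsLocalRing.ResidueField O)
  obtain ⟨φ, h0, h1, h2⟩ := LubinTateLib.exists_sol (σ := Unit) hπ (MvPowerSeries.C α * MvPowerSeries.X ())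
  have hL : ∀ d : Unit →₀ ℕ, d.degree = 1 → MvPowerSeries.coeff d (MvPowerSeries.C α * MvPowerSeries.X ()) = α := fun d hd ↦ by
    obtain ⟨⟨⟩, rfl⟩ := LubinTateLib.exists_single_of_degree hd
    simp
  refine ⟨φ, ⟨h0, ?_, (LubinTateLib.defect_eq_zero_iff_unit LubinTateLib.two_le_card hf h0).mp h2⟩, fun g ⟨g0, g1, g2⟩ ↦ ?_⟩
  · exact (h1 (Finsupp.single () 1) (Finsupp.degree_single _ _)).trans (hL _ (Finsupp.degree_single _ _))
  · exact LubinTateLib.sol_unique hπ g0 h0 (fun d hd ↦ (LubinTateLib.coeff_unit g hd).trans (g1.trans ((hL d hd).symm.trans (h1 d hd).symm)))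
      ((LubinTateLib.defect_eq_zero_iff_unit LubinTateLib.two_le_card hf g0).mpr g2) h2

end Groth.Agent.S15050
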