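import Groth.Statements.S15051
import Mathlib
import Groth.Agent.LubinTateLib

set_option autoImplicit false
universe u
open LubinTate

namespace Groth.Agent.S15051

/-- Let O be a discrete valuation ring with finite residue field of cardinality q, π a uniformizer of O,
and f = πT + T^q ∈ O[[T]]; let F be a one-dimensional formal group law over O for which f is an
endomorphism, f(F(X,Y)) = F(f(X), f(Y)), and g ∈ O[[T]] a power series with zero constant term which
commutes with f, g(f(T)) = f(g(T)). Then g is an endomorphism of F, that is g(F(X,Y)) = F(g(X),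
g(Y)); so α ↦ [α] maps O into the endomorphisms of the Lubin–Tate formal group. (The published
statement is for the ring of integers of a finite extension of ℚ_p or of 𝔽_q((X)); completeness is
not used and any discrete valuation ring with finite residue field is allowed here.) -/
theorem result (O : Type u) [CommRing O] [IsDomain O] [IsDiscreteValuationRing O]
    [Finite (IsLocalRing.ResidueField O)] (π : O) (hπ : Irreducible π) (f : PowerSeries O)
    (hf : f = π • PowerSeries.X + PowerSeries.X ^ Nat.card (IsLocalRing.ResidueField O))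
    (F : FormalGroup O)
    (hF : PowerSeries.subst F.toPowerSeries f =
        MvPowerSeries.subst (fun i : Fin 2 => PowerSeries.subst (MvPowerSeries.X i : MvPowerSeries (Fin 2) O) f) F.toPowerSeries)
    (g : PowerSeries O) (hg0 : g.constantCoeff = 0)
    (hgf : PowerSeries.subst g f = PowerSeries.subst f g) :
    PowerSeries.subst F.toPowerSeries g =
      MvPowerSeries.subst (fun i : Fin 2 => PowerSeries.subst (MvPowerSeries.X i : MvPowerSeries (Fin 2) O) g)
        F.toPowerSeries := by
  have h2 := LubinTateLib.two_le_card (O := O)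
  have F0 := F.zero_constantCoeff
  have eF := (LubinTateLib.defect_eq_zero_iff h2 hf F0).mpr hF
  have eg := (LubinTateLib.defect_eq_zero_iff_unit h2 hf hg0).mpr hgf
  have hx : ∀ i : Fin 2, MvPowerSeries.constantCoeff (PowerSeries.subst (MvPowerSeries.X i : MvPowerSeries (Fin 2) O) g) = 0 :=
    fun i ↦ PowerSeries.constantCoeff_subst_eq_zero (MvPowerSeries.constantCoeff_X i) g hg0
  refine LubinTateLib.sol_unique hπ (PowerSeries.constantCoeff_subst_eq_zero F0 g hg0)
    (MvPowerSeries.constantCoeff_subst_eq_zero (MvPowerSeries.hasSubst_of_constantCoeff_zero hx) hx F0) (fun d hd ↦ ?_)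
    (LubinTateLib.defect_subst h2 _ (fun _ ↦ F0) eg (fun _ ↦ eF))
    (LubinTateLib.defect_subst h2 _ hx eF
      (fun i ↦ LubinTateLib.defect_subst h2 _ (fun _ ↦ MvPowerSeries.constantCoeff_X i) eg (fun _ ↦ LubinTateLib.defect_X h2 i)))
  rw [LubinTateLib.coeff_one_subst _ hx _ F0 d hd, PowerSeries.subst_def,
    LubinTateLib.coeff_one_subst _ (fun _ ↦ F0) _ hg0 d hd]
  simp only [Fin.sum_univ_two, F.lin_coeff_X, F.lin_coeff_Y, one_mul, PowerSeries.subst_def,
    LubinTateLib.coeff_one_subst _ (fun _ : Unit ↦ MvPowerSeries.constantCoeff_X (R := O) (0 : Fin 2)) _ hg0 d hd,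
    LubinTateLib.coeff_one_subst _ (fun _ : Unit ↦ MvPowerSeries.constantCoeff_X (R := O) (1 : Fin 2)) _ hg0 d hd,
    Finset.univ_unique, Finset.sum_singleton, ← mul_add]
  congr 1
  obtain ⟨i, rfl⟩ := LubinTateLib.exists_single_of_degree hd
  fin_cases i
  · simpa [MvPowerSeries.coeff_X, Finsupp.single_left_inj] using F.lin_coeff_X
  · simpa [MvPowerSeries.coeff_X, Finsupp.single_left_inj] using F.lin_coeff_Y

end Groth.Agent.S15051
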