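import Groth.Statements.S15052
import Mathlib
import Groth.Agent.LubinTateLib
import Groth.Agent.LubinTateLog

set_option autoImplicit false
universe u
open LubinTate

namespace Groth.Agent.S15052

/-- Let O be a discrete valuation ring with finite residue field of cardinality q, π a uniformizer of O,
and f = πT + T^q ∈ O[[T]]; let K be the fraction field of O and F a one-dimensional formal group law
over O for which f is an endomorphism, f(F(X,Y)) = F(f(X), f(Y)). Then there is a unique power
series ℓ ∈ K[[T]] with zero constant term and linear coefficient 1 such that ℓ(f(T)) = π·ℓ(T); this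
logarithm is a homomorphism to the additive formal group, ℓ(F(T,S)) = ℓ(T) + ℓ(S), and it is
O-linear in the sense that ℓ(g(T)) = α·ℓ(T) for every α ∈ O and every series g ∈ O[[T]] with zero
constant term and linear coefficient α commuting with f. (The published statement is for the ring of
integers of a finite extension of ℚ_p; completeness is not used and any discrete valuation ring with
finite residue field is allowed here.) -/
theorem result (O : Type u) [CommRing O] [IsDomain O] [IsDiscreteValuationRing O]
    [Finite (IsLocalRing.ResidueField O)] (K : Type u) [Field K] [Algebra O K] [IsFractionRing O K]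
    (π : O) (hπ : Irreducible π) (f : PowerSeries O)
    (hf : f = π • PowerSeries.X + PowerSeries.X ^ Nat.card (IsLocalRing.ResidueField O))
    (F : FormalGroup O)
    (hF : PowerSeries.subst F.toPowerSeries f =
        MvPowerSeries.subst (fun i : Fin 2 => PowerSeries.subst (MvPowerSeries.X i : MvPowerSeries (Fin 2) O) f) F.toPowerSeries) :
    ∃ ℓ : PowerSeries K, (ℓ.constantCoeff = 0 ∧ ℓ.coeff 1 = 1 ∧
      PowerSeries.subst (PowerSeries.map (algebraMap O K) f) ℓ = algebraMap O K π • ℓ) ∧
      (∀ ℓ' : PowerSeries K, ℓ'.constantCoeff = 0 → ℓ'.coeff 1 = 1 →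
        PowerSeries.subst (PowerSeries.map (algebraMap O K) f) ℓ' = algebraMap O K π • ℓ' → ℓ' = ℓ) ∧
      PowerSeries.subst ((F.toPowerSeries).map (algebraMap O K)) ℓ =
        PowerSeries.subst (MvPowerSeries.X (0 : Fin 2) : MvPowerSeries (Fin 2) K) ℓ +
          PowerSeries.subst (MvPowerSeries.X (1 : Fin 2) : MvPowerSeries (Fin 2) K) ℓ ∧
      (∀ (α : O) (g : PowerSeries O), g.constantCoeff = 0 → g.coeff 1 = α →
        PowerSeries.subst g f = PowerSeries.subst f g →
        PowerSeries.subst (PowerSeries.map (algebraMap O K) g) ℓ = algebraMap O K α • ℓ) := by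
  classical
  have h2 := LubinTateLib.two_le_card (O := O)
  set q := Nat.card (IsLocalRing.ResidueField O)
  set h := algebraMap O K
  have hinj : Function.Injective h := IsFractionRing.injective O K
  have hne : ∀ n, 2 ≤ n → h π - h π ^ n ≠ 0 := fun n hn e ↦
    LubinTateLib.pi_sub_pow_ne_zero hπ hn (hinj (by rw [map_sub, map_pow, e, map_zero]))
  have hfK : PowerSeries.map h f = h π • PowerSeries.X + PowerSeries.X ^ q := by
    rw [hf, map_add, map_pow, PowerSeries.map_X, PowerSeries.smul_eq_C_mul, map_mul, PowerSeries.map_C,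
      PowerSeries.map_X, PowerSeries.smul_eq_C_mul]
  obtain ⟨φ, h0, h1, eφ⟩ := LubinTateLog.exists_log (K := K) h2 hne
  refine ⟨φ, ⟨h0, h1, (LubinTateLog.lin_eq_zero_iff h2 hfK φ).mp eφ⟩, fun l l0 l1 hl ↦ ?_, ?_, fun α g g0 g1 hg ↦ ?_⟩
  · exact LubinTateLog.lin_unique h2 hne l0 h0
      (fun d hd ↦ by
        obtain ⟨⟨⟩, rfl⟩ := LubinTateLib.exists_single_of_degree hd
        exact l1.trans h1.symm)
      ((LubinTateLog.lin_eq_zero_iff h2 hfK l).mpr hl) eφ
  · set G := F.toPowerSeries.map h
    have G0 : MvPowerSeries.constantCoeff G = 0 := by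
      rw [MvPowerSeries.constantCoeff_map, F.zero_constantCoeff, map_zero]
    have eG : LubinTateLib.defect (h π) q G = 0 := by
      rw [← LubinTateLog.map_defect h h2, (LubinTateLib.defect_eq_zero_iff h2 hf F.zero_constantCoeff).mpr hF, map_zero]
    have hX : ∀ i : Fin 2, MvPowerSeries.constantCoeff (MvPowerSeries.X i : MvPowerSeries (Fin 2) K) = 0 :=
      MvPowerSeries.constantCoeff_X
    refine LubinTateLog.lin_unique h2 hne (PowerSeries.constantCoeff_subst_eq_zero G0 φ h0) ?_ (fun d hd ↦ ?_)
      (LubinTateLog.lin_subst h2 _ (fun _ ↦ G0) eφ (fun _ ↦ eG)) ?_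
    · rw [map_add, PowerSeries.constantCoeff_subst_eq_zero (hX 0) φ h0,
        PowerSeries.constantCoeff_subst_eq_zero (hX 1) φ h0, add_zero]
    · simp only [map_add, PowerSeries.subst_def, LubinTateLib.coeff_one_subst _ (fun _ : Unit ↦ G0) _ h0 d hd,
        LubinTateLib.coeff_one_subst _ (fun _ : Unit ↦ hX 0) _ h0 d hd,
        LubinTateLib.coeff_one_subst _ (fun _ : Unit ↦ hX 1) _ h0 d hd, Fintype.sum_unique, ← mul_add]
      congr 1
      obtain ⟨i, rfl⟩ := LubinTateLib.exists_single_of_degree hd
      fin_cases i <;>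
        simp [G, MvPowerSeries.coeff_map, F.lin_coeff_X, F.lin_coeff_Y, MvPowerSeries.coeff_X, Finsupp.single_left_inj]
    · rw [LubinTateLog.lin_add h2, PowerSeries.subst_def, PowerSeries.subst_def,
        LubinTateLog.lin_subst h2 _ (fun _ ↦ hX 0) eφ (fun _ ↦ LubinTateLib.defect_X h2 0),
        LubinTateLog.lin_subst h2 _ (fun _ ↦ hX 1) eφ (fun _ ↦ LubinTateLib.defect_X h2 1), add_zero]
  · set gK := PowerSeries.map h g
    have gK0 : MvPowerSeries.constantCoeff (gK : MvPowerSeries Unit K) = 0 := by
      show PowerSeries.constantCoeff (PowerSeries.map h g) = 0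
      rw [← PowerSeries.coeff_zero_eq_constantCoeff_apply, PowerSeries.coeff_map,
        PowerSeries.coeff_zero_eq_constantCoeff_apply, g0, map_zero]
    have eg : LubinTateLib.defect (h π) q (gK : MvPowerSeries Unit K) = 0 :=
      (LubinTateLog.map_defect h h2 (g : MvPowerSeries Unit O)).symm.trans
        (by rw [(LubinTateLib.defect_eq_zero_iff_unit h2 hf g0).mpr hg, map_zero])
    refine LubinTateLog.lin_unique h2 hne (PowerSeries.constantCoeff_subst_eq_zero gK0 φ h0) ?_ (fun d hd ↦ ?_)
      (LubinTateLog.lin_subst h2 _ (fun _ ↦ gK0) eφ (fun _ ↦ eg)) ?_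
    · rw [MvPowerSeries.smul_eq_C_mul, map_mul, h0, mul_zero]
    · rw [PowerSeries.subst_def, LubinTateLib.coeff_one_subst _ (fun _ : Unit ↦ gK0) _ h0 d hd, Fintype.sum_unique,
        LubinTateLib.coeff_unit gK hd, MvPowerSeries.coeff_smul]
      obtain ⟨⟨⟩, rfl⟩ := LubinTateLib.exists_single_of_degree hd
      rw [show PowerSeries.coeff 1 gK = h α by rw [PowerSeries.coeff_map, g1]]
      exact mul_comm _ _
    · rw [LubinTateLog.lin_smul h2, eφ, smul_zero]

end Groth.Agent.S15052
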