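import Groth.Statements.S15053
import Groth.Agent.HopfShrink.Basic
import Groth.Agent.OortTate.Cocomm

set_option autoImplicit false
universe u v
open Hopf

namespace Groth.Agent.S15053

/-- Let R be a commutative ring, p a prime number and A a commutative Hopf algebra over R which is
finitely generated and projective as an R-module, of rank p at every prime of R (a finite locally
free R-group scheme G = Spec A of order p, not assumed commutative). Then G is commutative: the
comultiplication of A is cocommutative. (The published statement assumes a Noetherian base ring
which is an algebra over a certain ring of integers Λ of a cyclotomic field; this row allows any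
commutative base ring.) -/
theorem result (R : Type u) [CommRing R] (p : ℕ) [Fact p.Prime] (A : Type v) [CommRing A]
    [HopfAlgebra R A] [Module.Finite R A] [Module.Projective R A]
    (hp : ∀ q : PrimeSpectrum R, Module.rankAtStalk A q = p) :
    Coalgebra.IsCocomm R A := by
  haveI : Small.{u} A := Module.Finite.small.{u} R A
  obtain ⟨B, _, _, ⟨φ⟩⟩ := HopfShrink.exists_small R A
  let L : B ≃ₗ[R] A := (φ : B ≃ₗc[R] A).toLinearEquiv
  haveI : Module.Finite R B := Module.Finite.equiv L.symm
  haveI : Module.Projective R B := Module.Projective.of_equiv L.symm
  haveI := OortTate.isCocomm (A := B) (p := p) fun q => by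
    rw [Module.rankAtStalk_eq_of_equiv L, hp q]
  refine ⟨LinearMap.ext fun a => ?_⟩
  obtain ⟨b, rfl⟩ := L.surjective a
  have h := CoalgHomClass.map_comp_comul_apply φ b
  have hL : L b = φ b := rfl
  rw [LinearMap.comp_apply, hL, ← h]
  conv_rhs => rw [← Coalgebra.comm_comul R b]
  simp only [LinearEquiv.coe_coe]
  generalize Coalgebra.comul (R := R) b = t
  induction t using TensorProduct.induction_on with
  | zero => simp
  | tmul x y => simp
  | add x y hx hy => simp only [map_add, hx, hy]

end Groth.Agent.S15053
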