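import Groth.Statements.S15054
import Mathlib

set_option autoImplicit false
universe u
open CategoryTheory CategoryTheory.Limits MonoidalCategory CartesianMonoidalCategory MonObj GrpObj AlgebraicGeometry
open BTGrp

namespace Groth.Agent.S15054

/-- Let ℓ be a prime and G = (G_ν)_ν an ℓ-divisible (Barsotti–Tate) group of height h over a scheme S,
given as the system of its finite locally free layers G_ν of order ℓ^{νh} with inclusions G_ν →
G_{ν+1} exhibiting G_ν as the ℓ^ν-torsion of G_{ν+1} and projections G_{ν+1} → G_ν (multiplication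
by ℓ). Let i_t : G_1 → G_{t+1} denote the iterated inclusions, pinned by i_0 = id and i_{t+1} = i_t
followed by G_{t+1} → G_{t+2}. Then for every t, i_t identifies G_1 with the kernel of
multiplication by ℓ on G_{t+1}: the ℓ-torsion of every layer is the first layer. (The published
statement identifies G_v with the ℓ^v-torsion of G_{v+t} for all v; this row is its case v = 1. The
published base is the spectrum of a Noetherian ring; the argument is formal and any base scheme is
allowed here.) -/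
theorem result {S : Scheme.{u}} (ℓ h : ℕ) [Fact ℓ.Prime] (G : BTGrp.ProBT ℓ S h)
    (i : (t : ℕ) → (G.G 1 ⟶ G.G (t + 1))) (hi0 : i 0 = 𝟙 (G.G 1))
    (hi : ∀ t : ℕ, i (t + 1) = i t ≫ G.incl (t + 1)) (t : ℕ) :
    AlgGrp.IsKernel (i t) ((𝟙 (G.G (t + 1))) ^ ℓ) := by
  have factor : ∀ (ν : ℕ) (T : Over S) (x : T ⟶ G.G (ν + 1)), x ^ (ℓ ^ ν) = 1 →
      ∃ y : T ⟶ G.G ν, y ≫ G.incl ν = x := by
    intro ν T x hx
    refine ⟨(G.isKernel ν).lift x (toUnit T) ?_, (G.isKernel ν).lift_fst _ _ _⟩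
    rw [MonObj.comp_pow, Category.comp_id, hx]
    rfl
  have hmono : ∀ ν, Mono (G.incl ν) := fun ν => ⟨fun {T} a b hab =>
    (G.isKernel ν).hom_ext hab (Subsingleton.elim _ _)⟩
  have hone : (𝟙 (G.G 1)) ^ ℓ = 1 := by
    haveI := hmono 1
    rw [← cancel_mono (G.incl 1)]
    have h1 := (G.isKernel 1).w
    rw [MonObj.comp_pow, Category.comp_id, pow_one] at h1
    rw [MonObj.pow_comp, Category.id_comp, MonObj.one_comp, h1]
    rfl
  suffices key : ∀ t, Mono (i t) ∧ i t ^ ℓ = 1 ∧
      ∀ (T : Over S) (x : T ⟶ G.G (t + 1)), x ^ ℓ = 1 → ∃ y : T ⟶ G.G 1, y ≫ i t = x by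
    obtain ⟨hm, hp, hf⟩ := key t
    have w : i t ≫ (𝟙 (G.G (t + 1))) ^ ℓ = toUnit _ ≫ η[G.G (t + 1)] := by
      rw [MonObj.comp_pow, Category.comp_id, hp]
      rfl
    have hc : ∀ c : Limits.PullbackCone ((𝟙 (G.G (t + 1))) ^ ℓ) η[G.G (t + 1)], c.fst ^ ℓ = 1 := by
      intro c
      have h2 := c.condition
      rw [MonObj.comp_pow, Category.comp_id, Subsingleton.elim c.snd (toUnit _)] at h2
      exact h2
    exact ⟨⟨w⟩, ⟨Limits.PullbackCone.IsLimit.mk w (fun c => (hf c.pt c.fst (hc c)).choose)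
      (fun c => (hf c.pt c.fst (hc c)).choose_spec) (fun c => Subsingleton.elim _ _)
      (fun c m hm1 _ => (cancel_mono (i t)).1 (hm1.trans (hf c.pt c.fst (hc c)).choose_spec.symm))⟩⟩
  intro t
  induction t with
  | zero =>
    rw [hi0]
    exact ⟨inferInstance, hone, fun T x _ => ⟨x, Category.comp_id x⟩⟩
  | succ t ih =>
    obtain ⟨hm, hp, hf⟩ := ih
    haveI := hm
    haveI := hmono (t + 1)
    rw [hi t]
    refine ⟨mono_comp _ _, ?_, fun T x hx => ?_⟩
    · rw [← MonObj.pow_comp, hp, MonObj.one_comp]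
    · obtain ⟨y, hy⟩ := factor (t + 1) T x (by rw [pow_succ', pow_mul, hx, one_pow])
      have hy1 : y ^ ℓ = 1 := by
        rw [← cancel_mono (G.incl (t + 1)), MonObj.pow_comp, hy, hx, MonObj.one_comp]
      obtain ⟨z, hz⟩ := hf T y hy1
      exact ⟨z, by rw [← Category.assoc, hz, hy]⟩

end Groth.Agent.S15054
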