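import Groth.Statements.S15056
import Mathlib
-- import your own Groth.Agent.* helpers here

set_option autoImplicit false
universe u
open scoped TensorProduct
open FrobAlg

namespace Groth.Agent.S15056

/-- Let p be a prime number, R a Noetherian ring of characteristic p and A a finitely generated
commutative Hopf algebra over R (an affine algebraic R-group G = Spec A). The n-fold relative
Frobenius of G is the trivial homomorphism exactly when a^(p^n) = 0 for every a in the augmentation
ideal; G has finite Frobenius height when this holds for some n. Then G has finite Frobenius height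
if and only if A is a finite R-module and, for every algebraically closed field K and every ring
homomorphism R → K, the base change K ⊗_R A is a local ring (G is finite over R with connected
geometric fibres). -/
theorem result (p : ℕ) [Fact p.Prime] (R : Type u) [CommRing R] [CharP R p]
    [IsNoetherianRing R] (A : Type u) [CommRing A] [HopfAlgebra R A] [Algebra.FiniteType R A] :
    (∃ n : ℕ, ∀ a : A, Bialgebra.counitAlgHom R A a = 0 → a ^ p ^ n = 0) ↔
      (Module.Finite R A ∧ ∀ (K : Type u) [Field K] [IsAlgClosed K] [Algebra R K], IsLocalRing (K ⊗[R] A)) := by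
  let ε := Bialgebra.counitAlgHom R A
  constructor
  · rintro ⟨n, hn⟩
    have hnil : ∀ a : A, IsNilpotent (a - algebraMap R A (ε a)) := fun a =>
      ⟨p ^ n, hn _ (show ε (a - algebraMap R A (ε a)) = 0 by simp)⟩
    refine ⟨?_, fun K _ _ _ => ?_⟩
    · haveI : Algebra.IsIntegral R A := ⟨fun a => by
        have h : IsIntegral R (a - algebraMap R A (ε a)) := by
          obtain ⟨m, hm⟩ := hnil a
          refine ⟨Polynomial.X ^ m, Polynomial.monic_X_pow m, ?_⟩
          rw [Polynomial.eval₂_X_pow, hm]
        simpa using h.add (isIntegral_algebraMap (x := ε a))⟩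
      exact Algebra.IsIntegral.finite
    · let E : K ⊗[R] A →ₐ[K] K :=
        Algebra.TensorProduct.lift (AlgHom.id K K) ((Algebra.ofId R K).comp ε) fun _ _ => Commute.all _ _
      haveI : Nontrivial (K ⊗[R] A) := E.toRingHom.domain_nontrivial
      have hx : ∀ x : K ⊗[R] A, IsNilpotent (x - algebraMap K (K ⊗[R] A) (E x)) := by
        intro x
        induction x using TensorProduct.induction_on with
        | zero => simp
        | tmul c a =>
          have h : c ⊗ₜ[R] a - algebraMap K (K ⊗[R] A) (E (c ⊗ₜ[R] a)) =
              (c ⊗ₜ[R] (1 : A)) * Algebra.TensorProduct.includeRight (a - algebraMap R A (ε a)) := by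
            rw [Algebra.TensorProduct.lift_tmul, Algebra.TensorProduct.includeRight_apply,
              Algebra.TensorProduct.tmul_mul_tmul, mul_one, one_mul, TensorProduct.tmul_sub,
              Algebra.TensorProduct.algebraMap_apply, Algebra.algebraMap_eq_smul_one (A := A),
              ← TensorProduct.smul_tmul]
            congr 2
            simp [Algebra.smul_def, mul_comm]
          rw [h]
          exact Commute.isNilpotent_mul_left (Commute.all _ _) ((hnil a).map _)
        | add x y hx hy =>
          rw [map_add, map_add, add_sub_add_comm]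
          exact Commute.isNilpotent_add (Commute.all _ _) hx hy
      have key : ∀ x : K ⊗[R] A, x ∈ nonunits (K ⊗[R] A) ↔ E x = 0 := fun x => by
        refine ⟨fun hu => by_contra fun h => hu ?_, fun h hu => not_isUnit_zero (h ▸ hu.map E)⟩
        have hu' : IsUnit (algebraMap K (K ⊗[R] A) (E x)) := (IsUnit.mk0 _ h).map _
        simpa using (hx x).isUnit_add_left_of_commute hu' (Commute.all _ _)
      exact IsLocalRing.of_nonunits_add fun a b ha hb => by
        rw [key] at *
        rw [map_add, ha, hb, add_zero]
  · rintro ⟨hfin, hloc⟩
    haveI : IsNoetherianRing A := Algebra.FiniteType.isNoetherianRing R A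
    have hle : RingHom.ker ε ≤ nilradical A := by
      intro a ha
      rw [nilradical_eq_sInf, Submodule.mem_sInf]
      intro (P : Ideal A) hP
      haveI : Ideal.IsPrime P := hP
      let K := AlgebraicClosure (FractionRing (A ⧸ P))
      letI : Algebra R K := ((algebraMap (A ⧸ P) K).comp ((Ideal.Quotient.mk P).comp (algebraMap R A))).toAlgebra
      let φ : A →ₐ[R] K :=
        { (algebraMap (A ⧸ P) K).comp (Ideal.Quotient.mk P) with commutes' := fun r => rfl }
      haveI := hloc K
      let E : K ⊗[R] A →ₐ[K] K :=
        Algebra.TensorProduct.lift (AlgHom.id K K) ((Algebra.ofId R K).comp ε) fun _ _ => Commute.all _ _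
      let E' : K ⊗[R] A →ₐ[K] K := Algebra.TensorProduct.lift (AlgHom.id K K) φ fun _ _ => Commute.all _ _
      have hmax : ∀ F : K ⊗[R] A →ₐ[K] K, RingHom.ker F = IsLocalRing.maximalIdeal (K ⊗[R] A) := fun F =>
        IsLocalRing.eq_maximalIdeal (RingHom.ker_isMaximal_of_surjective F fun c =>
          ⟨algebraMap K _ c, F.commutes c⟩)
      have h1 : (1 : K) ⊗ₜ[R] a ∈ RingHom.ker E := by
        rw [RingHom.mem_ker, Algebra.TensorProduct.lift_tmul, AlgHom.comp_apply, show ε a = 0 from ha, map_zero,
          mul_zero]
      rw [hmax, ← hmax E', RingHom.mem_ker, Algebra.TensorProduct.lift_tmul, map_one, one_mul] at h1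
      refine Ideal.Quotient.eq_zero_iff_mem.1 ?_
      have hinj : Function.Injective (algebraMap (A ⧸ P) K) := by
        rw [IsScalarTower.algebraMap_eq (A ⧸ P) (FractionRing (A ⧸ P)) K]
        exact (algebraMap (FractionRing (A ⧸ P)) K).injective.comp (IsFractionRing.injective _ _)
      exact hinj (h1.trans (map_zero _).symm)
    obtain ⟨N, hN⟩ := (Ideal.FG.isNilpotent_iff_le_nilradical (IsNoetherian.noetherian _)).2 hle
    refine ⟨N, fun a ha => ?_⟩
    have : a ^ p ^ N ∈ RingHom.ker ε ^ N :=
      Ideal.pow_le_pow_right (Nat.lt_pow_self (Fact.out : p.Prime).one_lt).le (Ideal.pow_mem_pow ha _)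
    rwa [hN] at this

end Groth.Agent.S15056
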