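import Groth.Statements.S15057
import Mathlib
-- import your own Groth.Agent.* helpers here

set_option autoImplicit false
universe u
open CategoryTheory CategoryTheory.Limits
open Desc

namespace Groth.Agent.S15057

section
open scoped TensorProduct
variable (R A : Type u) [CommRing R] [CommRing A] [Algebra R A]

/-- The terms of the conerve, as rings. -/
noncomputable abbrev P (n : ℕ) : Type u :=
  (widePushout (CommRingCat.of R) (fun _ : Fin (n + 1) => CommRingCat.of A)
    fun _ => CommRingCat.ofHom (algebraMap R A) : CommRingCat.{u})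

noncomputable instance algP (n : ℕ) : Algebra R (P R A n) :=
  (WidePushout.head (fun _ : Fin (n + 1) => CommRingCat.ofHom (algebraMap R A))).hom.toAlgebra

/-- Legs. -/
noncomputable def leg (n : ℕ) (i : Fin (n + 1)) : A →ₐ[R] P R A n where
  toRingHom := (WidePushout.ι (fun _ : Fin (n + 1) => CommRingCat.ofHom (algebraMap R A)) i).hom
  commutes' r := congrArg (fun f => f.hom r)
    (WidePushout.arrow_ι (fun _ : Fin (n + 1) => CommRingCat.ofHom (algebraMap R A)) i)

variable {R A} in
theorem P_ext {n : ℕ} {B : Type u} [CommRing B] [Algebra R B] {f g : P R A n →ₐ[R] B}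
    (h : ∀ i, f.comp (leg R A n i) = g.comp (leg R A n i)) : f = g := by
  have e : CommRingCat.ofHom f.toRingHom = CommRingCat.ofHom g.toRingHom := by
    refine WidePushout.hom_ext (fun _ : Fin (n + 1) => CommRingCat.ofHom (algebraMap R A)) _ _ (fun i => ?_) ?_
    · exact CommRingCat.hom_ext (congrArg AlgHom.toRingHom (h i))
    · exact CommRingCat.hom_ext (RingHom.ext fun r => (f.commutes r).trans (g.commutes r).symm)
  exact AlgHom.ext fun x => congrArg (fun u => u.hom x) e

/-- The map out of a term of the conerve given by its legs. -/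
noncomputable def descP {n : ℕ} {B : Type u} [CommRing B] [Algebra R B] (v : Fin (n + 1) → A →ₐ[R] B) :
    P R A n →ₐ[R] B where
  toRingHom := (WidePushout.desc (X := CommRingCat.of B) (CommRingCat.ofHom (algebraMap R B))
    (fun i => CommRingCat.ofHom (v i).toRingHom)
    (fun i => CommRingCat.hom_ext (RingHom.ext fun r => (v i).commutes r))).hom
  commutes' r := congrArg (fun f => f.hom r)
    (WidePushout.head_desc (fun _ : Fin (n + 1) => CommRingCat.ofHom (algebraMap R A))
      (CommRingCat.ofHom (algebraMap R B)) (fun i => CommRingCat.ofHom (v i).toRingHom)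
      (fun i => CommRingCat.hom_ext (RingHom.ext fun r => (v i).commutes r)))

theorem descP_leg {n : ℕ} {B : Type u} [CommRing B] [Algebra R B] (v : Fin (n + 1) → A →ₐ[R] B)
    (i : Fin (n + 1)) : (descP R A v).comp (leg R A n i) = v i :=
  AlgHom.ext fun a => congrArg (fun f => f.hom a)
    (WidePushout.ι_desc (fun _ : Fin (n + 1) => CommRingCat.ofHom (algebraMap R A))
      (CommRingCat.ofHom (algebraMap R B)) (fun i => CommRingCat.ofHom (v i).toRingHom)
      (fun i => CommRingCat.hom_ext (RingHom.ext fun r => (v i).commutes r)) i)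

/-- Cofaces. -/
noncomputable def cof (n : ℕ) (i : Fin (n + 2)) : P R A n →ₐ[R] P R A (n + 1) :=
  descP R A fun j => leg R A (n + 1) (i.succAbove j)

/-- Base changed cofaces. -/
noncomputable def cofT (n : ℕ) (i : Fin (n + 2)) : A ⊗[R] P R A n →ₐ[R] A ⊗[R] P R A (n + 1) :=
  Algebra.TensorProduct.map (AlgHom.id R A) (cof R A n i)

/-- The contracting map. -/
noncomputable def contr (n : ℕ) : A ⊗[R] P R A (n + 1) →ₐ[R] A ⊗[R] P R A n :=
  Algebra.TensorProduct.lift Algebra.TensorProduct.includeLeft
    (descP R A (Fin.cases Algebra.TensorProduct.includeLeft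
      fun i => Algebra.TensorProduct.includeRight.comp (leg R A n i)))
    fun _ _ => Commute.all _ _

theorem cof_leg (n : ℕ) (i : Fin (n + 2)) (j : Fin (n + 1)) (a : A) :
    cof R A n i (leg R A n j a) = leg R A (n + 1) (i.succAbove j) a :=
  AlgHom.congr_fun (descP_leg R A _ j) a

theorem contr_left (n : ℕ) (a : A) :
    contr R A n (a ⊗ₜ[R] (1 : P R A (n + 1))) = a ⊗ₜ[R] (1 : P R A n) :=
  (Algebra.TensorProduct.lift_tmul _ _ _ a 1).trans (by rw [map_one, mul_one]; rfl)

theorem contr_right (n : ℕ) (j : Fin (n + 2)) (a : A) :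
    contr R A n ((1 : A) ⊗ₜ[R] leg R A (n + 1) j a) =
      Fin.cases (motive := fun _ => A →ₐ[R] A ⊗[R] P R A n) Algebra.TensorProduct.includeLeft
        (fun i => Algebra.TensorProduct.includeRight.comp (leg R A n i)) j a :=
  (Algebra.TensorProduct.lift_tmul _ _ _ 1 _).trans (by
    rw [map_one, one_mul]; exact AlgHom.congr_fun (descP_leg R A _ j) a)

theorem contr_cof_zero (n : ℕ) :
    (contr R A n).comp (cofT R A n 0) = AlgHom.id R (A ⊗[R] P R A n) := by
  refine Algebra.TensorProduct.ext (AlgHom.ext fun a => ?_) (P_ext fun j => AlgHom.ext fun a => ?_)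
  · simp [cofT, contr_left]
  · simp [cofT, cof_leg, contr_right]

theorem contr_cof_succ (n : ℕ) (i : Fin (n + 2)) :
    (contr R A (n + 1)).comp (cofT R A (n + 1) i.succ) = (cofT R A n i).comp (contr R A n) := by
  refine Algebra.TensorProduct.ext (AlgHom.ext fun a => ?_) (P_ext fun j => AlgHom.ext fun a => ?_)
  · simp [cofT, contr_left]
  · refine Fin.cases ?_ (fun j => ?_) j
    · simp [cofT, cof_leg, contr_right]
    · simp [cofT, cof_leg, contr_right, Fin.succ_succAbove_succ]

/-- The Amitsur differential. -/
noncomputable def D (n : ℕ) : P R A n →ₗ[R] P R A (n + 1) :=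
  ∑ i : Fin (n + 2), (-1 : ℤ) ^ (i : ℕ) • (cof R A n i).toLinearMap

theorem lTensor_D (n : ℕ) (x : A ⊗[R] P R A n) :
    (D R A n).lTensor A x = ∑ i : Fin (n + 2), (-1 : ℤ) ^ (i : ℕ) • cofT R A n i x := by
  induction x using TensorProduct.induction_on with
  | zero => simp
  | add a b ha hb => simp only [map_add, ha, hb, smul_add, Finset.sum_add_distrib]
  | tmul a p =>
    simp only [LinearMap.lTensor_tmul, D, LinearMap.sum_apply, LinearMap.smul_apply,
      AlgHom.toLinearMap_apply, TensorProduct.tmul_sum, cofT, Algebra.TensorProduct.map_tmul,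
      AlgHom.id_apply]
    exact Finset.sum_congr rfl fun i _ => (map_zsmul (TensorProduct.mk R A (P R A (n + 1)) a) _ _)

theorem hom_apply (n : ℕ) (i : Fin (n + 2)) (x : P R A n) :
    ((Arrow.mk (CommRingCat.ofHom (algebraMap R A))).cechConerve.map (SimplexCategory.δ i)).hom x =
      cof R A n i x := by
  have e : ((Arrow.mk (CommRingCat.ofHom (algebraMap R A))).cechConerve.map (SimplexCategory.δ i)) =
      CommRingCat.ofHom (cof R A n i).toRingHom := by
    refine WidePushout.hom_ext (fun _ : Fin (n + 1) => CommRingCat.ofHom (algebraMap R A)) _ _ (fun j => ?_) ?_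
    · refine (WidePushout.ι_desc _ _ _ _ j).trans ?_
      exact CommRingCat.hom_ext (RingHom.ext fun a => (cof_leg R A n i j a).symm)
    · refine (WidePushout.head_desc _ _ _ _).trans ?_
      exact CommRingCat.hom_ext (RingHom.ext fun r => ((cof R A n i).commutes r).symm)
  rw [e]; rfl

theorem dEval (n : ℕ) (x : P R A n) :
    ((AlgebraicTopology.AlternatingCofaceMapComplex.obj
      ((Arrow.mk (CommRingCat.ofHom (algebraMap R A))).cechConerve ⋙ forget₂ CommRingCat RingCat ⋙
        forget₂ RingCat AddCommGrpCat)).d n (n + 1)).hom x = D R A n x := by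
  simp only [AlgebraicTopology.AlternatingCofaceMapComplex.obj]
  erw [CochainComplex.of_d]
  simp only [AlgebraicTopology.AlternatingCofaceMapComplex.objD]
  refine (congrArg (fun f : _ →+ _ => f x) (map_sum AddCommGrpCat.homAddEquiv _ _)).trans ?_
  simp only [AddCommGrpCat.homAddEquiv_apply, AddCommGrpCat.hom_zsmul, AddMonoidHom.finsetSum_apply,
    AddMonoidHom.smul_apply, D, LinearMap.sum_apply, LinearMap.smul_apply]
  refine (map_sum (AddMonoidHom.eval x) _ _).trans (Finset.sum_congr rfl fun i _ => ?_)
  exact congrArg (fun y : P R A (n + 1) => (-1 : ℤ) ^ (i : ℕ) • y) (hom_apply R A n i x)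

theorem D_exact [Module.FaithfullyFlat R A] (m : ℕ) :
    Function.Exact (D R A m) (D R A (m + 1)) := by
  refine (Module.FaithfullyFlat.lTensor_exact_iff_exact R A (D R A m) (D R A (m + 1))).mp ?_
  intro x
  constructor
  · intro hx
    refine ⟨contr R A m x, ?_⟩
    have h := congrArg (contr R A (m + 1)) hx
    rw [lTensor_D, map_sum, map_zero, Fin.sum_univ_succ] at h
    simp only [map_zsmul] at h
    have h0 : contr R A (m + 1) (cofT R A (m + 1) 0 x) = x := AlgHom.congr_fun (contr_cof_zero R A (m + 1)) x
    have h1 : ∀ i : Fin (m + 2), contr R A (m + 1) (cofT R A (m + 1) i.succ x) = cofT R A m i (contr R A m x) :=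
      fun i => AlgHom.congr_fun (contr_cof_succ R A m i) x
    simp only [h0, h1, Fin.val_zero, pow_zero, one_smul, Fin.val_succ, pow_succ', neg_one_mul, neg_smul,
      Finset.sum_neg_distrib, add_neg_eq_zero] at h
    rw [lTensor_D]
    exact h.symm
  · rintro ⟨y, rfl⟩
    rw [← LinearMap.comp_apply, ← LinearMap.lTensor_comp]
    have hzero : (D R A (m + 1)).comp (D R A m) = 0 := LinearMap.ext fun p => by
      have h := (AlgebraicTopology.AlternatingCofaceMapComplex.obj
        ((Arrow.mk (CommRingCat.ofHom (algebraMap R A))).cechConerve ⋙ forget₂ CommRingCat RingCat ⋙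
          forget₂ RingCat AddCommGrpCat)).d_comp_d m (m + 1) (m + 2)
      have h' := congrArg (fun f => f.hom p) h
      refine Eq.trans ?_ h'
      exact ((congrArg (D R A (m + 1)) (dEval R A m p)).symm.trans (dEval R A (m + 1) _).symm)
    rw [hzero, LinearMap.lTensor_zero, LinearMap.zero_apply]

end


/-- Let R → A be a faithfully flat homomorphism of commutative rings. The Amitsur complex A → A ⊗_R A →
A ⊗_R A ⊗_R A → ⋯, whose differential is the alternating sum of the maps inserting a unit in each
tensor slot, is realised here as the alternating coface complex (of underlying abelian groups) of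
the Čech conerve of R → A in the category of commutative rings, whose degree-n term is the
(n+1)-fold coproduct of A under R, i.e. the (n+1)-fold tensor power over R. Then this complex is
exact in every degree n ≥ 1. (Exactness at the start, namely that R → A is injective with image the
equaliser of the two maps A → A ⊗_R A, is the degree-0 statement and is not part of this row.) -/
theorem result (R A : Type u) [CommRing R] [CommRing A] [Algebra R A] [Module.FaithfullyFlat R A]
    (n : ℕ) (hn : 0 < n) :
    (AlgebraicTopology.AlternatingCofaceMapComplex.obj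
      ((Arrow.mk (CommRingCat.ofHom (algebraMap R A))).cechConerve ⋙ forget₂ CommRingCat RingCat ⋙
        forget₂ RingCat AddCommGrpCat)).ExactAt n := by
  obtain ⟨m, rfl⟩ : ∃ m, n = m + 1 := ⟨n - 1, by omega⟩
  rw [HomologicalComplex.exactAt_iff' _ m (m + 1) (m + 2) (by simp) (by simp),
    ShortComplex.ab_exact_iff]
  intro x hx
  obtain ⟨y, hy⟩ := (D_exact R A m x).mp ((dEval R A (m + 1) x).symm.trans hx)
  exact ⟨y, (dEval R A m y).trans hy⟩

end Groth.Agent.S15057
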