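import Groth.Statements.S15060
import Mathlib
import Groth.Agent.LubinTateLib

set_option autoImplicit false
universe u
open LubinTate

namespace Groth.Agent.S15060

/-- Let O be a discrete valuation ring with finite residue field of cardinality q, π a uniformizer of O,
f = πT + T^q ∈ O[[T]], and F a one-dimensional formal group law over O for which f is an
endomorphism, f(F(X,Y)) = F(f(X), f(Y)). For α ∈ O write [α] for a power series with zero constant
term and linear coefficient α commuting with f (it is unique). Then for all α, β ∈ O and all such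
series [α], [β], [αβ], [α+β] one has [α]([β](T)) = [αβ](T) and F([α](T), [β](T)) = [α+β](T): the map
α ↦ [α] is a ring homomorphism from O to the endomorphisms of F with their formal-group addition and
composition. (The published statement is for the ring of integers of a finite extension of ℚ_p or of
𝔽_q((X)); completeness is not used and any discrete valuation ring with finite residue field is
allowed here.) -/
theorem result (O : Type u) [CommRing O] [IsDomain O] [IsDiscreteValuationRing O]
    [Finite (IsLocalRing.ResidueField O)] (π : O) (hπ : Irreducible π) (f : PowerSeries O)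
    (hf : f = π • PowerSeries.X + PowerSeries.X ^ Nat.card (IsLocalRing.ResidueField O))
    (F : FormalGroup O)
    (hF : PowerSeries.subst F.toPowerSeries f =
        MvPowerSeries.subst (fun i : Fin 2 => PowerSeries.subst (MvPowerSeries.X i : MvPowerSeries (Fin 2) O) f)
          F.toPowerSeries)
    (α β : O) (gα gβ gαβ gs : PowerSeries O)
    (hα0 : gα.constantCoeff = 0) (hα1 : gα.coeff 1 = α) (hαf : PowerSeries.subst gα f = PowerSeries.subst f gα)
    (hβ0 : gβ.constantCoeff = 0) (hβ1 : gβ.coeff 1 = β) (hβf : PowerSeries.subst gβ f = PowerSeries.subst f gβ)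
    (hαβ0 : gαβ.constantCoeff = 0) (hαβ1 : gαβ.coeff 1 = α * β)
    (hαβf : PowerSeries.subst gαβ f = PowerSeries.subst f gαβ)
    (hs0 : gs.constantCoeff = 0) (hs1 : gs.coeff 1 = α + β) (hsf : PowerSeries.subst gs f = PowerSeries.subst f gs) :
    PowerSeries.subst gβ gα = gαβ ∧ F.toPowerSeries.subst ![gα, gβ] = gs := by
  have h2 := LubinTateLib.two_le_card (O := O)
  have F0 := F.zero_constantCoeff
  have eF := (LubinTateLib.defect_eq_zero_iff h2 hf F0).mpr hF
  have ea := (LubinTateLib.defect_eq_zero_iff_unit h2 hf hα0).mpr hαf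
  have eb := (LubinTateLib.defect_eq_zero_iff_unit h2 hf hβ0).mpr hβf
  have hg : ∀ i : Fin 2, MvPowerSeries.constantCoeff (![gα, gβ] i : MvPowerSeries Unit O) = 0 :=
    Fin.forall_fin_two.mpr ⟨hα0, hβ0⟩
  constructor
  · refine LubinTateLib.sol_unique hπ (PowerSeries.constantCoeff_subst_eq_zero hβ0 gα hα0) hαβ0 (fun d hd ↦ ?_)
      (LubinTateLib.defect_subst h2 _ (fun _ ↦ hβ0) ea (fun _ ↦ eb))
      ((LubinTateLib.defect_eq_zero_iff_unit h2 hf hαβ0).mpr hαβf)
    rw [LubinTateLib.coeff_unit gαβ hd, hαβ1, PowerSeries.subst_def,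
      LubinTateLib.coeff_one_subst _ (fun _ ↦ hβ0) _ hα0 d hd, Fintype.sum_unique,
      LubinTateLib.coeff_unit gα (Finsupp.degree_single _ _), hα1]
    exact congrArg (α * ·) ((LubinTateLib.coeff_unit gβ hd).trans hβ1)
  · refine LubinTateLib.sol_unique hπ
      (MvPowerSeries.constantCoeff_subst_eq_zero (MvPowerSeries.hasSubst_of_constantCoeff_zero hg) hg F0) hs0 (fun d hd ↦ ?_)
      (LubinTateLib.defect_subst h2 _ hg eF (Fin.forall_fin_two.mpr ⟨ea, eb⟩))
      ((LubinTateLib.defect_eq_zero_iff_unit h2 hf hs0).mpr hsf)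
    rw [LubinTateLib.coeff_unit gs hd, hs1, LubinTateLib.coeff_one_subst _ hg _ F0 d hd, Fin.sum_univ_two,
      F.lin_coeff_X, F.lin_coeff_Y, one_mul, one_mul]
    exact congrArg₂ (· + ·) ((LubinTateLib.coeff_unit gα hd).trans hα1) ((LubinTateLib.coeff_unit gβ hd).trans hβ1)

end Groth.Agent.S15060
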