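import Groth.Statements.S15063
import Groth.Agent.S13404
import Groth.Agent.Takeuchi.Points

set_option autoImplicit false
universe u
open Hopf
open TensorProduct WithConv
open scoped Groth.Agent.Takeuchi

namespace Groth.Agent.S15063

/-- Let R be a henselian Noetherian local ring and A a commutative Hopf algebra over R which is finite
and flat as an R-module (a finite flat R-group G = Spec A, not assumed commutative); let e ∈ A be an
idempotent with ε(e) = 1 such that A/(1 − e) is a local ring, so that Spec A/(1 − e) is the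
connected component G⁰ of G containing the unit section. Then G⁰ is normal in G: for every
commutative R-algebra T, every T-valued point g of G and every T-valued point h of G killing the
ideal (1 − e), the conjugate g·h·g⁻¹ again kills (1 − e). (The published statement is for a flat
affine algebraic R-group and also asserts that G⁰ is an open and closed flat subgroup; this row
states the normality clause for finite flat G.) -/
theorem result (R : Type u) [CommRing R] [HenselianLocalRing R] [IsNoetherianRing R]
    (A : Type u) [CommRing A] [HopfAlgebra R A] [Module.Finite R A] [Module.Flat R A]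
    (e : A) (he : IsIdempotentElem e) (hε : Bialgebra.counitAlgHom R A e = 1)
    [IsLocalRing (A ⧸ Ideal.span ({1 - e} : Set A))] :
    SGA3.IsNormalHopfIdeal R A (Ideal.span ({1 - e} : Set A)) := by
  haveI := (Groth.Agent.S13404.result R A e he hε).1
  set I := Ideal.span ({1 - e} : Set A) with hI
  haveI : Module.Finite R (A ⧸ I) :=
    Module.Finite.of_surjective (Ideal.Quotient.mkₐ R I).toLinearMap Ideal.Quotient.mk_surjective
  let T := A ⊗[R] (A ⧸ I)
  let g₀ : Takeuchi.Pt R A T := toConv Algebra.TensorProduct.includeLeft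
  let h₀ : Takeuchi.Pt R A T := toConv (Algebra.TensorProduct.includeRight.comp (Ideal.Quotient.mkₐ R I))
  have hf : (g₀ * h₀ * g₀⁻¹) e = 1 := by
    have hid : IsIdempotentElem ((g₀ * h₀ * g₀⁻¹) e) := he.map (g₀ * h₀ * g₀⁻¹).ofConv
    refine (IsIdempotentElem.iff_eq_one_of_isUnit ?_).1 hid
    by_contra hu
    obtain ⟨M, hM, hmem⟩ := exists_max_ideal_of_mem_nonunits hu
    haveI := hM
    let φ : T →ₐ[R] T ⧸ M := Ideal.Quotient.mkₐ R M
    have h1 : Takeuchi.push (R' := T ⧸ M) φ h₀ = 1 := by
      refine WithConv.ext (AlgHom.ext fun a => ?_)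
      show φ ((1 : A) ⊗ₜ Ideal.Quotient.mk I a) = (1 : Takeuchi.Pt R A (T ⧸ M)) a
      rw [Takeuchi.one_apply, ← AlgHom.commutes φ]
      refine Ideal.Quotient.eq.2 ?_
      let ι : A ⧸ I →ₐ[R] T := Algebra.TensorProduct.includeRight
      haveI : Algebra.IsIntegral R T := inferInstance
      have hι : ι.toRingHom.IsIntegral := RingHom.IsIntegral.tower_top (algebraMap R (A ⧸ I)) _
        (by rw [AlgHom.toRingHom_eq_coe, AlgHom.comp_algebraMap]; exact Algebra.IsIntegral.isIntegral)
      haveI := Ideal.isMaximal_comap_of_isIntegral_of_isMaximal' ι.toRingHom hι M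
      have h2 : Ideal.Quotient.mk I a - algebraMap R (A ⧸ I) (CoalgebraStruct.counit a) ∈ M.comap ι.toRingHom := by
        rw [IsLocalRing.eq_maximalIdeal this, IsLocalRing.mem_maximalIdeal, mem_nonunits_iff]
        intro hu'
        have hle : I ≤ RingHom.ker (Bialgebra.counitAlgHom R A) := by
          refine Ideal.span_le.2 (Set.singleton_subset_iff.2 ?_)
          rw [SetLike.mem_coe, RingHom.mem_ker, map_sub, map_one, hε, sub_self]
        have := hu'.map (Ideal.Quotient.liftₐ I (Bialgebra.counitAlgHom R A) fun x hx => hle hx)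
        rw [map_sub, AlgHom.commutes] at this
        refine not_isUnit_zero (M₀ := R) ?_
        rw [show (Ideal.Quotient.liftₐ I (Bialgebra.counitAlgHom R A) fun x hx => hle hx) (Ideal.Quotient.mk I a) =
          CoalgebraStruct.counit a from rfl, Algebra.algebraMap_self_apply, sub_self] at this
        exact this
      rw [Ideal.mem_comap, map_sub] at h2
      have h5 : ι.toRingHom (algebraMap R (A ⧸ I) (CoalgebraStruct.counit a)) = algebraMap R T (CoalgebraStruct.counit a) :=
        ι.commutes _
      rw [h5] at h2
      exact h2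
    have h3 : φ ((g₀ * h₀ * g₀⁻¹) e) = 1 := by
      show (Takeuchi.push (R' := T ⧸ M) φ (g₀ * h₀ * g₀⁻¹)) e = 1
      rw [Takeuchi.push_mul, Takeuchi.push_mul, Takeuchi.push_inv, h1, mul_one, mul_inv_cancel, Takeuchi.one_apply,
        ← Bialgebra.counitAlgHom_apply, hε, map_one]
    rw [show φ ((g₀ * h₀ * g₀⁻¹) e) = 0 from Ideal.Quotient.eq_zero_iff_mem.2 hmem] at h3
    exact zero_ne_one h3
  intro C _ _ g h hh a ha
  let L : T →ₐ[R] C := Algebra.TensorProduct.lift g (Ideal.Quotient.liftₐ I h hh) fun _ _ => Commute.all _ _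
  have hg' : Takeuchi.push L g₀ = toConv g := WithConv.ext (Algebra.TensorProduct.lift_comp_includeLeft _ _ _)
  have hh' : Takeuchi.push L h₀ = toConv h := WithConv.ext <| AlgHom.ext fun x => by
    show L ((1 : A) ⊗ₜ Ideal.Quotient.mk I x) = h x
    rw [Algebra.TensorProduct.lift_tmul, map_one, one_mul]
    rfl
  obtain ⟨c, rfl⟩ := Ideal.mem_span_singleton'.1 ha
  rw [Takeuchi.conv3_eq, map_mul, map_sub, map_one]
  have h4 : (toConv g * toConv h * (toConv g)⁻¹ : Takeuchi.Pt R A C) e = 1 := by
    rw [← hg', ← hh', ← Takeuchi.push_inv, ← Takeuchi.push_mul, ← Takeuchi.push_mul]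
    show L ((g₀ * h₀ * g₀⁻¹) e) = 1
    rw [hf, map_one]
  rw [show (toConv g * toConv h * toConv (g.comp (HopfAlgebra.antipodeAlgHom R A))).ofConv e = 1 from h4,
    sub_self, mul_zero]

end Groth.Agent.S15063
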