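import Groth.Statements.S15062
import Mathlib
import Groth.Agent.S13404
import Groth.Agent.FinHopf.Aug

set_option autoImplicit false
universe u
open scoped TensorProduct
open Hopf

namespace Groth.Agent.S15062

/-- Let R be a henselian Noetherian local ring and A a commutative Hopf algebra over R which is finite
and flat as an R-module (a finite flat R-group G = Spec A, not assumed commutative); let e ∈ A be an
idempotent with ε(e) = 1 such that A/(1 − e) is a local ring, so that G⁰ = Spec A/(1 − e) is the
connected component of the unit section, and let B ⊆ A be the subalgebra of functions invariant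
under right translation by G⁰: the equaliser of a ↦ (id ⊗ π)(Δ a) and a ↦ a ⊗ 1 into A ⊗_R A/(1 − e)
(so Spec B = G^ét). Then: (2) for every commutative Hopf algebra C over R which is finite étale over
R (a finite étale R-group H) and every bialgebra homomorphism φ : C → A (a homomorphism G → H), the
image of φ lies in B — the homomorphism factors (necessarily uniquely, A being faithfully flat over
B) through G → G^ét; (3) for every commutative Hopf algebra D over R which is finite and flat over R
and a local ring (a connected finite flat R-group H) and every bialgebra homomorphism ψ : A → D (a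
homomorphism H → G), ψ(e) = 1, i.e. ψ kills the ideal (1 − e) and the homomorphism factors
(uniquely) through G⁰ → G. -/
theorem result (R : Type u) [CommRing R] [HenselianLocalRing R] [IsNoetherianRing R]
    (A : Type u) [CommRing A] [HopfAlgebra R A] [Module.Finite R A] [Module.Flat R A]
    (e : A) (he : IsIdempotentElem e) (hε : Bialgebra.counitAlgHom R A e = 1)
    [IsLocalRing (A ⧸ Ideal.span ({1 - e} : Set A))] :
    (∀ (C : Type u) [CommRing C] [HopfAlgebra R C] [Module.Finite R C] [Algebra.Etale R C] (φ : C →ₐc[R] A) (c : C),
        φ c ∈ (AlgHom.equalizer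
          ((Algebra.TensorProduct.map (AlgHom.id R A) (Ideal.Quotient.mkₐ R (Ideal.span ({1 - e} : Set A)))).comp
            (Bialgebra.comulAlgHom R A))
          (Algebra.TensorProduct.includeLeft : A →ₐ[R] A ⊗[R] (A ⧸ Ideal.span ({1 - e} : Set A))))) ∧
      ∀ (D : Type u) [CommRing D] [HopfAlgebra R D] [Module.Finite R D] [Module.Flat R D] [IsLocalRing D]
        (ψ : A →ₐc[R] D), ψ e = 1 := by
  obtain ⟨hH, -, -, -⟩ := Groth.Agent.S13404.result R A e he hε
  haveI := hH
  set I := Ideal.span ({1 - e} : Set A) with hI
  refine ⟨fun C _ _ _ _ φ c => ?_, fun D _ _ _ _ _ ψ => ?_⟩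
  · let π : A →ₐ[R] A ⧸ I := Ideal.Quotient.mkₐ R I
    haveI : IsNoetherianRing C := IsNoetherianRing.of_finite R C
    have hle : I ≤ RingHom.ker (Bialgebra.counitAlgHom R A) := by
      refine Ideal.span_le.2 (Set.singleton_subset_iff.2 ?_)
      rw [SetLike.mem_coe, RingHom.mem_ker, map_sub, map_one, hε, sub_self]
    let ε0 : A ⧸ I →ₐ[R] R := Ideal.Quotient.liftₐ I (Bialgebra.counitAlgHom R A) fun x hx => hle hx
    let f : C →ₐ[R] A ⧸ I := π.comp (φ : C →ₐ[R] A)
    set K := RingHom.ker (Bialgebra.counitAlgHom R C)
    have hK0 : K.map f.toRingHom = ⊥ := by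
      refine Submodule.eq_bot_of_le_smul_of_le_jacobson_bot (IsLocalRing.maximalIdeal _) _
        (Ideal.FG.map (IsNoetherian.noetherian K) _) ?_ (IsLocalRing.maximalIdeal_le_jacobson ⊥)
      rw [smul_eq_mul]
      refine le_trans (b := K.map f.toRingHom * K.map f.toRingHom) (le_of_eq ?_) (Ideal.mul_mono (Ideal.map_le_iff_le_comap.2 fun x hx => ?_) le_rfl)
      · rw [← Ideal.map_mul, ← pow_two, FinHopf.aug_sq_eq_of_formallyUnramified R C]
      · rw [Ideal.mem_comap, IsLocalRing.mem_maximalIdeal, mem_nonunits_iff]
        intro hu
        have := hu.map ε0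
        rw [show ε0 (f.toRingHom x) = 0 from (CoalgHomClass.counit_comp_apply φ x).trans hx] at this
        exact not_isUnit_zero this
    have hf : ∀ x, f x = algebraMap R (A ⧸ I) (Coalgebra.counit x) := fun x => by
      have : x - algebraMap R C (Coalgebra.counit x) ∈ K := by
        simp [K, RingHom.mem_ker, Bialgebra.counit_algebraMap]
      have := Ideal.mem_map_of_mem f.toRingHom this
      rw [hK0, Ideal.mem_bot, map_sub, sub_eq_zero] at this
      exact this.trans (f.commutes _)
    show Algebra.TensorProduct.map (AlgHom.id R A) π (Coalgebra.comul (R := R) (φ c)) = φ c ⊗ₜ 1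
    rw [← CoalgHomClass.map_comp_comul_apply φ c]
    have key : ∀ z : C ⊗[R] C, Algebra.TensorProduct.map (AlgHom.id R A) π
        (TensorProduct.map (φ : C →ₗ[R] A) (φ : C →ₗ[R] A) z) =
        φ (TensorProduct.rid R C ((Coalgebra.counit (R := R)).lTensor C z)) ⊗ₜ 1 := by
      intro z
      induction z using TensorProduct.induction_on with
      | zero => simp
      | add x y hx hy => simp only [map_add, hx, hy, TensorProduct.add_tmul]
      | tmul x y =>
        rw [TensorProduct.map_tmul, Algebra.TensorProduct.map_tmul, AlgHom.id_apply, LinearMap.lTensor_tmul,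
          TensorProduct.rid_tmul, map_smul, TensorProduct.smul_tmul]
        show φ x ⊗ₜ f y = _
        rw [hf, Algebra.algebraMap_eq_smul_one]
    rw [key, Coalgebra.lTensor_counit_comul, TensorProduct.rid_tmul, one_smul]
  · have hid : IsIdempotentElem (ψ e) := he.map ψ
    refine (IsIdempotentElem.iff_eq_one_of_isUnit ?_).1 hid
    by_contra hu
    have := ((IsLocalRing.isUnit_or_isUnit_of_add_one (a := ψ e) (b := 1 - ψ e) (by ring)).resolve_left hu).map
      (Bialgebra.counitAlgHom R D)
    rw [map_sub, map_one, show Bialgebra.counitAlgHom R D (ψ e) = 1 from (CoalgHomClass.counit_comp_apply ψ e).trans hε,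
      sub_self] at this
    exact not_isUnit_zero this

end Groth.Agent.S15062
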