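import Groth.Statements.S15064
import Groth.Agent.HopfSmDim.Simple
import Groth.Agent.FinHopf.Frobenius
import Mathlib.RingTheory.HopkinsLevitzki
import Mathlib.RingTheory.KrullDimension.Zero

set_option autoImplicit false
universe u
open scoped TensorProduct
open Hopf

namespace Groth.Agent.S15064

open TensorProduct Coalgebra Groth.Agent

theorem adjoin_top.{u₁} {k : Type u₁} [Field k] {A : Type u₁} [CommRing A] [HopfAlgebra k A]
    (hsimple : ∀ I : Ideal A, I.IsHopfIdeal k → I = ⊥ ∨ I = RingHom.ker (Bialgebra.counitAlgHom k A))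
    {x : A} (hx : x ≠ 0) (hεx : counit (R := k) x = 0) (hΔ : comul x = x ⊗ₜ[k] (1 : A) + (1 : A) ⊗ₜ[k] x) (a : A) :
    a ∈ Algebra.adjoin k ({x} : Set A) := by
  have hxB : x ∈ Algebra.adjoin k ({x} : Set A) := Algebra.self_mem_adjoin_singleton k x
  refine HopfSimple.mem_of_simple hsimple _ (HopfSimple.isSubHopf_adjoin x ?_ ?_) hxB ?_ a
  · refine ⟨⟨x, hxB⟩ ⊗ₜ 1 + 1 ⊗ₜ ⟨x, hxB⟩, ?_⟩
    simp [hΔ]
  · have h := HopfAlgebra.mul_antipode_rTensor_comul_apply (R := k) x
    rw [hΔ, map_add, map_add, LinearMap.rTensor_tmul, LinearMap.rTensor_tmul, LinearMap.mul'_apply,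
      LinearMap.mul'_apply, hεx, map_zero, mul_one, HopfAlgebra.antipode_one, one_mul, add_eq_zero_iff_eq_neg] at h
    rw [h]
    exact neg_mem hxB
  · rwa [hεx, map_zero]


/-- Let k be a field of characteristic p > 0 and A a finite-dimensional commutative and cocommutative
Hopf algebra over k (a finite commutative k-group G = Spec A) which is bi-infinitesimal — A is a
local ring and so is the dual algebra Hom_k(A, k) with the convolution product (G and its Cartier
dual are connected) — with dim_k A > 1, and assume G is simple: every Hopf ideal of A is either zero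
or the augmentation ideal (G has no closed subgroup schemes other than G and 1). Then G is
isomorphic to α_p: A has a primitive element x (Δ(x) = x ⊗ 1 + 1 ⊗ x) with x^p = 0 whose powers 1,
x, …, x^(p−1) are linearly independent over k, and dim_k A = p (so A = k[x]/(x^p) with x primitive). -/
theorem result (k : Type u) [Field k] (p : ℕ) [Fact p.Prime] [CharP k p]
    (A : Type u) [CommRing A] [HopfAlgebra k A] [Coalgebra.IsCocomm k A] [FiniteDimensional k A] [IsLocalRing A]
    (hdual : IsLocalRing (WithConv (A →ₗ[k] k))) (hA : 1 < Module.finrank k A)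
    (hsimple : ∀ I : Ideal A, I.IsHopfIdeal k → I = ⊥ ∨ I = RingHom.ker (Bialgebra.counitAlgHom k A)) :
    ∃ x : A, Coalgebra.comul x = x ⊗ₜ[k] (1 : A) + (1 : A) ⊗ₜ[k] x ∧ x ^ p = 0 ∧
      LinearIndependent k (fun i : Fin p => x ^ (i : ℕ)) ∧ Module.finrank k A = p := by
  have : Nontrivial A := Bialgebra.nontrivial k
  have : CharP A p := charP_of_injective_algebraMap (algebraMap k A).injective p
  have : CharP (A ⊗[k] A) p := Groth.Agent.FinHopf.charP_of_algHom (Bialgebra.counitAlgHom k (A ⊗[k] A)) p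
  have : IsArtinianRing A := isArtinian_of_tower k inferInstance
  obtain ⟨x, hx0, hεx, hΔ⟩ := Groth.Agent.HopfSimple.exists_primitive hdual hA
  have hp : p.Prime := Fact.out
  have hnil : IsNilpotent x := Ring.KrullDimLE.isNilpotent_iff_mem_maximalIdeal.mpr
    (IsLocalRing.le_maximalIdeal (RingHom.ker_ne_top (Bialgebra.counitAlgHom k A)) hεx)
  have hεp : counit (R := k) (x ^ p) = 0 := by
    rw [← Bialgebra.counitAlgHom_apply, map_pow, Bialgebra.counitAlgHom_apply, hεx, zero_pow hp.ne_zero]
  have hΔp : comul (x ^ p) = (x ^ p) ⊗ₜ[k] (1 : A) + (1 : A) ⊗ₜ[k] (x ^ p) := by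
    rw [← Bialgebra.comulAlgHom_apply, map_pow, Bialgebra.comulAlgHom_apply, hΔ, add_pow_char,
      Algebra.TensorProduct.tmul_pow, Algebra.TensorProduct.tmul_pow, one_pow]
  have hxp : x ^ p = 0 := by
    by_contra h
    obtain ⟨q, hq⟩ := Algebra.adjoin_singleton_eq_range_aeval k (x ^ p) ▸ adjoin_top hsimple h hεp hΔp x
    have h0 : q.coeff 0 = 0 := by
      have h1 : Bialgebra.counitAlgHom k A (Polynomial.aeval (x ^ p) q) = 0 := by
        rw [show Polynomial.aeval (x ^ p) q = x from hq]; exact hεx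
      rw [← Polynomial.aeval_algHom_apply, Bialgebra.counitAlgHom_apply, hεp] at h1
      simpa [Polynomial.coeff_zero_eq_eval_zero] using h1
    refine hx0 (Groth.Agent.HopfSimple.eq_zero_of_eq_mul hnil hp.one_lt (r := Polynomial.aeval (x ^ p) q.divX) ?_)
    conv_lhs => rw [← show Polynomial.aeval (x ^ p) q = x from hq, ← Polynomial.X_mul_divX_add q]
    simp [h0]
  obtain ⟨hfr, hli⟩ := Groth.Agent.HopfSimple.finrank_eq_p p hA x hxp (adjoin_top hsimple hx0 hεx hΔ)
  exact ⟨x, hΔ, hxp, hli, hfr⟩

end Groth.Agent.S15064
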