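import Groth.Statements.S15066
import Groth.Agent.HopfSmDim.Simple
import Groth.Agent.UnipMult.Pointed
import Mathlib.RingTheory.HopkinsLevitzki
import Mathlib.RingTheory.KrullDimension.Zero

set_option autoImplicit false
universe u
open Hopf

namespace Groth.Agent.S15066

open TensorProduct Coalgebra Groth.Agent

theorem adjoin_top.{u₁} {k : Type u₁} [Field k] {A : Type u₁} [CommRing A] [HopfAlgebra k A] (p : ℕ) [Fact p.Prime]
    [CharP k p] (hnil : ∀ a : A, counit (R := k) a = 0 → IsNilpotent a)
    (hsimple : ∀ I : Ideal A, I.IsHopfIdeal k → I = ⊥ ∨ I = RingHom.ker (Bialgebra.counitAlgHom k A))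
    {g : A} (hg : IsGroupLikeElem k g) (hg1 : g ≠ 1) (a : A) : a ∈ Algebra.adjoin k ({g} : Set A) := by
  have : Nontrivial A := Bialgebra.nontrivial k
  have : CharP A p := charP_of_injective_algebraMap (algebraMap k A).injective p
  have hxB : g ∈ Algebra.adjoin k ({g} : Set A) := Algebra.self_mem_adjoin_singleton k g
  refine HopfSimple.mem_of_simple hsimple _ (HopfSimple.isSubHopf_adjoin g ?_ ?_) hxB ?_ a
  · refine ⟨⟨g, hxB⟩ ⊗ₜ ⟨g, hxB⟩, ?_⟩
    simp [hg.comul_eq_tmul_self]
  · obtain ⟨N, hN⟩ := hnil (g - 1) (by rw [map_sub, hg.counit_eq_one, Bialgebra.counit_one, sub_self])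
    have h1 : g ^ p ^ N = 1 := by
      rw [← sub_eq_zero, show (1 : A) = 1 ^ p ^ N from (one_pow _).symm, ← sub_pow_char_pow]
      exact pow_eq_zero_of_le (Nat.lt_pow_self (Fact.out : p.Prime).one_lt).le hN
    have hpos : 0 < p ^ N := Nat.pow_pos (Fact.out : p.Prime).pos
    have h2 : g * g ^ (p ^ N - 1) = 1 := by rw [← pow_succ', show p ^ N - 1 + 1 = p ^ N by omega, h1]
    have h3 : HopfAlgebra.antipode k g * g = 1 := by
      have h := HopfAlgebra.mul_antipode_rTensor_comul_apply (R := k) g
      rw [hg.comul_eq_tmul_self, LinearMap.rTensor_tmul, LinearMap.mul'_apply, hg.counit_eq_one, map_one] at h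
      exact h
    rw [← mul_one (HopfAlgebra.antipode k g), ← h2, ← mul_assoc, h3, one_mul]
    exact pow_mem hxB _
  · rwa [hg.counit_eq_one, map_one]


/-- Let k be an algebraically closed field of characteristic p > 0 and A a finite-dimensional
commutative and cocommutative Hopf algebra over k (a finite commutative k-group G = Spec A) which is
a local ring (G connected) and whose dual algebra Hom_k(A, k) with the convolution product is
reduced (the Cartier dual of G is étale, i.e. G is multiplicative), with dim_k A > 1, and assume G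
is simple: every Hopf ideal of A is either zero or the augmentation ideal (no closed subgroup
schemes other than G and 1). Then G is isomorphic to μ_p: A has a group-like element g (Δ(g) = g ⊗
g, ε(g) = 1) with g^p = 1 whose powers 1, g, …, g^(p−1) are linearly independent over k, and dim_k A
= p (so A = k[g]/(g^p − 1)). -/
theorem result (k : Type u) [Field k] [IsAlgClosed k] (p : ℕ) [Fact p.Prime]
    [CharP k p] (A : Type u) [CommRing A] [HopfAlgebra k A] [Coalgebra.IsCocomm k A] [FiniteDimensional k A]
    [IsLocalRing A] (hdual : IsReduced (WithConv (A →ₗ[k] k))) (hA : 1 < Module.finrank k A)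
    (hsimple : ∀ I : Ideal A, I.IsHopfIdeal k → I = ⊥ ∨ I = RingHom.ker (Bialgebra.counitAlgHom k A)) :
    ∃ g : A, IsGroupLikeElem k g ∧ g ^ p = 1 ∧ LinearIndependent k (fun i : Fin p => g ^ (i : ℕ)) ∧
      Module.finrank k A = p := by
  have : Nontrivial A := Bialgebra.nontrivial k
  have : CharP A p := charP_of_injective_algebraMap (algebraMap k A).injective p
  have : IsArtinianRing A := isArtinian_of_tower k inferInstance
  have hnil : ∀ a : A, Coalgebra.counit (R := k) a = 0 → IsNilpotent a := fun a ha =>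
    Ring.KrullDimLE.isNilpotent_iff_mem_maximalIdeal.mpr
      (IsLocalRing.le_maximalIdeal (RingHom.ker_ne_top (Bialgebra.counitAlgHom k A)) ha)
  obtain ⟨g, hg, hg1⟩ := Groth.Agent.HopfSimple.exists_groupLike hdual hA
    (fun E _ _ _ _ ω => Groth.Agent.UnipMult.mem_span_characters ω)
  have hp : p.Prime := Fact.out
  have hεg : Coalgebra.counit (R := k) (g - 1) = 0 := by
    rw [map_sub, hg.counit_eq_one, Bialgebra.counit_one, sub_self]
  have hgp : g ^ p = 1 := by
    by_contra h
    have hgp' : IsGroupLikeElem k (g ^ p) := hg.pow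
    obtain ⟨q, hq⟩ := Algebra.adjoin_singleton_eq_range_aeval k (g ^ p) ▸ adjoin_top p hnil hsimple hgp' h g
    have h1 : q.eval 1 = 1 := by
      have h2 : Bialgebra.counitAlgHom k A (Polynomial.aeval (g ^ p) q) = 1 := by
        rw [show Polynomial.aeval (g ^ p) q = g from hq]; exact hg.counit_eq_one
      rw [← Polynomial.aeval_algHom_apply, Bialgebra.counitAlgHom_apply, hgp'.counit_eq_one] at h2
      simpa using h2
    obtain ⟨r, hr⟩ : Polynomial.X - Polynomial.C 1 ∣ q - Polynomial.C 1 := by
      rw [Polynomial.dvd_iff_isRoot]; simp [h1]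
    refine hg1 (sub_eq_zero.1 (Groth.Agent.HopfSimple.eq_zero_of_eq_mul (hnil _ hεg) hp.one_lt
      (r := Polynomial.aeval (g ^ p) r) ?_))
    have h3 := congrArg (Polynomial.aeval (g ^ p)) hr
    simp only [map_sub, map_mul, Polynomial.aeval_X, Polynomial.aeval_C, map_one,
      show Polynomial.aeval (g ^ p) q = g from hq] at h3
    rw [sub_pow_char, one_pow]
    exact h3
  have htop : ∀ a, a ∈ Algebra.adjoin k ({g - 1} : Set A) := fun a => by
    refine Algebra.adjoin_le ?_ (adjoin_top p hnil hsimple hg hg1 a)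
    intro z hz
    rw [Set.mem_singleton_iff] at hz
    subst z
    have := add_mem (Algebra.self_mem_adjoin_singleton k (g - 1)) (one_mem (Algebra.adjoin k ({g - 1} : Set A)))
    rwa [sub_add_cancel] at this
  obtain ⟨hfr, -⟩ := Groth.Agent.HopfSimple.finrank_eq_p p hA (g - 1)
    (by rw [sub_pow_char, hgp, one_pow, sub_self]) htop
  refine ⟨g, hg, hgp, ?_, hfr⟩
  refine linearIndependent_of_top_le_span_of_card_eq_finrank ?_ (by rw [Fintype.card_fin, hfr])
  intro a _
  obtain ⟨q, hq⟩ := Algebra.adjoin_singleton_eq_range_aeval k g ▸ adjoin_top p hnil hsimple hg hg1 a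
  rw [← hq, AlgHom.toRingHom_eq_coe, RingHom.coe_coe, q.as_sum_range_C_mul_X_pow, map_sum]
  refine sum_mem fun i _ => ?_
  rw [map_mul, map_pow, Polynomial.aeval_C, Polynomial.aeval_X, ← Algebra.smul_def, ← Nat.mod_add_div i p, pow_add,
    pow_mul, hgp, one_pow, mul_one]
  exact Submodule.smul_mem _ _ (Submodule.subset_span ⟨⟨i % p, Nat.mod_lt _ hp.pos⟩, rfl⟩)

end Groth.Agent.S15066
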