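import Groth.Statements.S15067
import Mathlib
import Groth.Agent.FinHopf.Aug

set_option autoImplicit false
universe u
open scoped TensorProduct
open Hopf

namespace Groth.Agent.S15067

/-- Let R be a henselian Noetherian local ring, A and A'' commutative Hopf algebras over R which are
finite and flat as R-modules (finite flat R-groups G = Spec A, G'' = Spec A''), and A'' → A an
R-algebra homomorphism compatible with the comultiplications and counits (a homomorphism π : G →
G'') making A a faithfully flat A''-module (π faithfully flat). Let J ⊆ A be the ideal generated by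
the image of the augmentation ideal of A'', so that G' = Spec A/J is the kernel of π and 1 → G' → G
→ G'' → 1 is an exact sequence of finite flat R-groups. Then: (2) if A'' and A/J are local rings
(G'' and G' connected), A is a local ring (G is connected); (3) if A'' and A/J are étale over R (G''
and G' finite étale), A is étale over R (G is finite étale). -/
theorem result (R : Type u) [CommRing R] [HenselianLocalRing R] [IsNoetherianRing R]
    (A A'' : Type u) [CommRing A] [HopfAlgebra R A] [Module.Finite R A] [Module.Flat R A]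
    [CommRing A''] [HopfAlgebra R A''] [Module.Finite R A''] [Module.Flat R A'']
    [Algebra A'' A] [IsScalarTower R A'' A] [Module.FaithfullyFlat A'' A]
    (hΔ : (Bialgebra.comulAlgHom R A).comp (IsScalarTower.toAlgHom R A'' A) =
      (Algebra.TensorProduct.map (IsScalarTower.toAlgHom R A'' A) (IsScalarTower.toAlgHom R A'' A)).comp
        (Bialgebra.comulAlgHom R A''))
    (hε : (Bialgebra.counitAlgHom R A).comp (IsScalarTower.toAlgHom R A'' A) = Bialgebra.counitAlgHom R A'') :
    ((IsLocalRing A'' ∧
        IsLocalRing (A ⧸ (RingHom.ker (Bialgebra.counitAlgHom R A'')).map (algebraMap A'' A))) → IsLocalRing A) ∧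
      ((Algebra.Etale R A'' ∧
        Algebra.Etale R (A ⧸ (RingHom.ker (Bialgebra.counitAlgHom R A'')).map (algebraMap A'' A))) →
        Algebra.Etale R A) := by
  set K := RingHom.ker (Bialgebra.counitAlgHom R A'') with hK
  set J := K.map (algebraMap A'' A) with hJ
  have hJle : J ≤ RingHom.ker (Bialgebra.counitAlgHom R A) := Ideal.map_le_iff_le_comap.2 fun x hx => by
    rw [Ideal.mem_comap, RingHom.mem_ker]
    exact (DFunLike.congr_fun hε x).trans hx
  haveI : Module.Finite A'' A := Module.Finite.of_restrictScalars_finite R A'' A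
  refine ⟨fun ⟨hl, hl'⟩ => ?_, fun ⟨he'', he'⟩ => ?_⟩
  · haveI := hl
    haveI := hl'
    haveI : Nontrivial A := (Bialgebra.counitAlgHom R A).toRingHom.domain_nontrivial
    have hJm : ∀ M : Ideal A, M.IsMaximal → J ≤ M := by
      intro M hM
      haveI := Ideal.isMaximal_comap_of_isIntegral_of_isMaximal (R := A'') M
      rw [hJ, Ideal.map_le_iff_le_comap, IsLocalRing.eq_maximalIdeal this]
      exact IsLocalRing.le_maximalIdeal (RingHom.ker_ne_top _)
    obtain ⟨M₀, hM₀⟩ := Ideal.exists_maximal A
    refine IsLocalRing.of_unique_max_ideal ⟨M₀, hM₀, fun M hM => ?_⟩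
    have h1 : ∀ N : Ideal A, N.IsMaximal → N = (IsLocalRing.maximalIdeal (A ⧸ J)).comap (Ideal.Quotient.mk J) := by
      intro N hN
      haveI := hN
      haveI := Ideal.IsMaximal.map_of_surjective_of_ker_le (f := Ideal.Quotient.mk J) (m := N) Ideal.Quotient.mk_surjective
        (by rw [Ideal.mk_ker]; exact hJm N hN)
      rw [← IsLocalRing.eq_maximalIdeal this, Ideal.comap_map_mk (hJm N hN)]
    rw [h1 M hM, h1 M₀ hM₀]
  · haveI := he''
    haveI := he'
    set IA := RingHom.ker (Bialgebra.counitAlgHom R A) with hIA
    haveI : Algebra.FormallyUnramified R A := by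
      refine FinHopf.formallyUnramified_of_aug_sq_eq R A (le_antisymm (Ideal.pow_le_self two_ne_zero) ?_)
      have h1 : J ≤ IA ^ 2 := by
        rw [hJ, hK, ← FinHopf.aug_sq_eq_of_formallyUnramified R A'', Ideal.map_pow]
        exact Ideal.pow_right_mono hJle 2
      have hπ : Ideal.Quotient.mk (IA ^ 2) = (algebraMap R (A ⧸ IA ^ 2)).comp (Bialgebra.counitAlgHom R A).toRingHom := by
        let g₁ : A ⧸ J →ₐ[R] A ⧸ IA ^ 2 := Ideal.Quotient.factorₐ R h1
        let g₂ : A ⧸ J →ₐ[R] A ⧸ IA ^ 2 := (Algebra.ofId R _).comp
          (Ideal.Quotient.liftₐ J (Bialgebra.counitAlgHom R A) fun x hx => hJle hx)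
        have hsq : (IA.map (Ideal.Quotient.mk (IA ^ 2))) ^ 2 = ⊥ := by
          rw [← Ideal.map_pow, Ideal.map_quotient_self]
        have h2 : g₁ = g₂ := by
          refine Algebra.FormallyUnramified.comp_injective _ hsq (AlgHom.ext fun y => ?_)
          obtain ⟨a, rfl⟩ := Ideal.Quotient.mk_surjective y
          refine (Ideal.Quotient.eq).2 ?_
          show Ideal.Quotient.mk (IA ^ 2) a - algebraMap R (A ⧸ IA ^ 2) (Coalgebra.counit a) ∈ _
          rw [IsScalarTower.algebraMap_apply R A (A ⧸ IA ^ 2), Ideal.Quotient.algebraMap_eq, ← map_sub]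
          exact Ideal.mem_map_of_mem _ (by simp [hIA, RingHom.mem_ker, Bialgebra.counit_algebraMap])
        exact RingHom.ext fun a => DFunLike.congr_fun h2 (Ideal.Quotient.mk J a)
      intro x hx
      rw [← Ideal.Quotient.eq_zero_iff_mem, hπ, RingHom.comp_apply,
        show (Bialgebra.counitAlgHom R A).toRingHom x = 0 from hx, map_zero]
    haveI : Algebra.FinitePresentation R A := Algebra.FinitePresentation.of_finiteType.mp inferInstance
    exact Algebra.Etale.of_formallyUnramified_of_flat

end Groth.Agent.S15067
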