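import Groth.Statements.S15068
import Mathlib
import Groth.Agent.FinHopf.Aug

set_option autoImplicit false
universe u
open scoped TensorProduct
open Hopf

namespace Groth.Agent.S15068

/-- Let R be a henselian Noetherian local ring, A and A'' commutative Hopf algebras over R which are
finite and flat as R-modules, and A'' → A an R-algebra homomorphism compatible with
comultiplications and counits making A faithfully flat over A'' (a faithfully flat homomorphism π :
G → G'' of finite flat R-groups); let J ⊆ A be the ideal generated by the image of the augmentation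
ideal of A'' (G' = Spec A/J = ker π, so 1 → G' → G → G'' → 1 is exact). Assume A'' is a local ring
(G'' connected) and A/J is étale over R (G' finite étale), and let e ∈ A be an idempotent with ε(e)
= 1 such that A/(1 − e) is local (G⁰ = Spec A/(1 − e), the unit component of G). Then the composite
A'' → A → A/(1 − e) is bijective: the restriction G⁰ → G'' of π is an isomorphism, whose inverse
splits the extension, G ≅ G' × G''. -/
theorem result (R : Type u) [CommRing R] [HenselianLocalRing R]
    [IsNoetherianRing R] (A A'' : Type u) [CommRing A] [HopfAlgebra R A] [Module.Finite R A] [Module.Flat R A]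
    [CommRing A''] [HopfAlgebra R A''] [Module.Finite R A''] [Module.Flat R A'']
    [Algebra A'' A] [IsScalarTower R A'' A] [Module.FaithfullyFlat A'' A]
    (hΔ : (Bialgebra.comulAlgHom R A).comp (IsScalarTower.toAlgHom R A'' A) =
      (Algebra.TensorProduct.map (IsScalarTower.toAlgHom R A'' A) (IsScalarTower.toAlgHom R A'' A)).comp
        (Bialgebra.comulAlgHom R A''))
    (hε : (Bialgebra.counitAlgHom R A).comp (IsScalarTower.toAlgHom R A'' A) = Bialgebra.counitAlgHom R A'')
    [IsLocalRing A''] [Algebra.Etale R (A ⧸ (RingHom.ker (Bialgebra.counitAlgHom R A'')).map (algebraMap A'' A))]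
    (e : A) (he : IsIdempotentElem e) (heε : Bialgebra.counitAlgHom R A e = 1)
    [IsLocalRing (A ⧸ Ideal.span ({1 - e} : Set A))] :
    Function.Bijective ((Ideal.Quotient.mkₐ R (Ideal.span ({1 - e} : Set A))).comp (IsScalarTower.toAlgHom R A'' A)) := by
  set I := Ideal.span ({1 - e} : Set A) with hI
  set K := RingHom.ker (Bialgebra.counitAlgHom R A'') with hK
  set J := K.map (algebraMap A'' A) with hJ
  set IA := RingHom.ker (Bialgebra.counitAlgHom R A) with hIA
  have hJle : J ≤ IA := Ideal.map_le_iff_le_comap.2 fun x hx => by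
    rw [Ideal.mem_comap, hIA, RingHom.mem_ker]
    exact (DFunLike.congr_fun hε x).trans hx
  have hIle : I ≤ IA := by
    refine Ideal.span_le.2 (Set.singleton_subset_iff.2 ?_)
    rw [SetLike.mem_coe, hIA, RingHom.mem_ker, map_sub, map_one, heε, sub_self]
  haveI : Module.Finite A'' A := Module.Finite.of_restrictScalars_finite R A'' A
  haveI : Module.Finite A'' (A ⧸ I) := Module.Finite.of_surjective
    (Ideal.Quotient.mkₐ A'' I).toLinearMap Ideal.Quotient.mk_surjective
  haveI : Module.Flat A'' (A ⧸ I) := by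
    let s : (A ⧸ I) →ₗ[A''] A := Submodule.liftQ (I.restrictScalars A'') (LinearMap.mulLeft A'' e) (fun x hx => by
      obtain ⟨c, rfl⟩ := Ideal.mem_span_singleton'.1 hx
      rw [LinearMap.mem_ker, LinearMap.mulLeft_apply, ← mul_assoc, mul_comm e c, mul_assoc, mul_sub, mul_one,
        he.eq, sub_self, mul_zero]) ∘ₗ
      (Submodule.Quotient.restrictScalarsEquiv A'' I).symm.toLinearMap
    refine Module.Flat.of_retract s (Ideal.Quotient.mkₐ A'' I).toLinearMap (LinearMap.ext fun y => ?_)
    obtain ⟨x, rfl⟩ := Ideal.Quotient.mk_surjective y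
    show Ideal.Quotient.mk I (e * x) = Ideal.Quotient.mk I x
    refine Ideal.Quotient.eq.2 (Ideal.mem_span_singleton'.2 ⟨-x, ?_⟩)
    ring
  haveI : IsLocalHom (algebraMap A'' (A ⧸ I)) := by
    refine (RingHom.IsIntegral.isLocalHom ?_ ?_)
    · exact Algebra.IsIntegral.isIntegral
    · haveI : Module.Free A'' (A ⧸ I) := Module.free_of_flat_of_isLocalRing
      exact FaithfulSMul.algebraMap_injective A'' (A ⧸ I)
  haveI : Module.FaithfullyFlat A'' (A ⧸ I) := Module.FaithfullyFlat.of_flat_of_isLocalHom
  refine ⟨(RingHom.injective_iff_ker_eq_bot _).2 ?_, ?_⟩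
  · rw [RingHom.ker_eq_comap_bot, show (⊥ : Ideal (A ⧸ I)) = (⊥ : Ideal A'').map (algebraMap A'' (A ⧸ I)) from
      Ideal.map_bot.symm]
    exact Ideal.comap_map_eq_self_of_faithfullyFlat (B := A ⧸ I) ⊥
  -- the fibre at the unit is trivial
  have hsq : IA ≤ IA ^ 2 ⊔ J := by
    let g₂ : A ⧸ J →ₐ[R] A ⧸ (IA ^ 2 ⊔ J) := (Algebra.ofId R _).comp
      (Ideal.Quotient.liftₐ J (Bialgebra.counitAlgHom R A) fun x hx => hJle hx)
    have hz : (IA.map (Ideal.Quotient.mk (IA ^ 2 ⊔ J))) ^ 2 = ⊥ := by
      rw [← Ideal.map_pow, eq_bot_iff, Ideal.map_le_iff_le_comap, ← RingHom.ker_eq_comap_bot, Ideal.mk_ker]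
      exact le_sup_left
    have h2 : Ideal.Quotient.factorₐ R (le_sup_right : J ≤ IA ^ 2 ⊔ J) = g₂ := by
      refine Algebra.FormallyUnramified.comp_injective _ hz (AlgHom.ext fun y => ?_)
      obtain ⟨a, rfl⟩ := Ideal.Quotient.mk_surjective y
      refine (Ideal.Quotient.eq).2 ?_
      show Ideal.Quotient.mk (IA ^ 2 ⊔ J) a - algebraMap R (A ⧸ (IA ^ 2 ⊔ J)) (Coalgebra.counit a) ∈ _
      rw [IsScalarTower.algebraMap_apply R A (A ⧸ (IA ^ 2 ⊔ J)), Ideal.Quotient.algebraMap_eq, ← map_sub]
      exact Ideal.mem_map_of_mem _ (by simp [hIA, RingHom.mem_ker, Bialgebra.counit_algebraMap])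
    intro x hx
    rw [← Ideal.Quotient.eq_zero_iff_mem]
    refine (DFunLike.congr_fun h2 (Ideal.Quotient.mk J x)).trans ?_
    show algebraMap R _ (Bialgebra.counitAlgHom R A x) = 0
    rw [show Bialgebra.counitAlgHom R A x = 0 from hx, map_zero]
  haveI : IsNoetherianRing A := IsNoetherianRing.of_finite R A
  set m := IA.map (Ideal.Quotient.mk I) with hm
  have hmKQ : m ≤ K.map (algebraMap A'' (A ⧸ I)) := by
    refine Submodule.le_of_le_smul_of_le_jacobson_bot (I := m) (IsNoetherian.noetherian m) ?_ ?_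
    · refine le_trans (IsLocalRing.le_maximalIdeal ?_) (IsLocalRing.maximalIdeal_le_jacobson ⊥)
      rw [hm, Ne, Ideal.eq_top_iff_one, Ideal.mem_map_iff_of_surjective _ Ideal.Quotient.mk_surjective]
      rintro ⟨x, hx, hx1⟩
      have : (1 : A) ∈ IA := by
        have h3 : x - 1 ∈ IA := hIle (Ideal.Quotient.eq.1 (hx1.trans (map_one _).symm))
        simpa using sub_mem hx h3
      exact RingHom.ker_ne_top (Bialgebra.counitAlgHom R A) ((Ideal.eq_top_iff_one _).2 this)
    · rw [IsScalarTower.algebraMap_eq A'' A (A ⧸ I), ← Ideal.map_map, ← hJ, Ideal.Quotient.algebraMap_eq, hm,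
        smul_eq_mul, ← Ideal.map_mul, ← Ideal.map_sup, sup_comm, ← pow_two]
      exact Ideal.map_mono hsq
  intro q
  have hrange : (⊤ : Submodule A'' (A ⧸ I)) ≤ LinearMap.range (Algebra.linearMap A'' (A ⧸ I)) := by
    refine Submodule.le_of_le_smul_of_le_jacobson_bot (I := K) Module.Finite.fg_top
      (le_trans (IsLocalRing.le_maximalIdeal (RingHom.ker_ne_top _)) (IsLocalRing.maximalIdeal_le_jacobson ⊥)) ?_
    intro y _
    obtain ⟨a, rfl⟩ := Ideal.Quotient.mk_surjective y
    rw [show Ideal.Quotient.mk I a = algebraMap A'' (A ⧸ I) (algebraMap R A'' (Coalgebra.counit a)) +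
      Ideal.Quotient.mk I (a - algebraMap R A (Coalgebra.counit a)) by
        rw [map_sub, IsScalarTower.algebraMap_apply A'' A (A ⧸ I), ← IsScalarTower.algebraMap_apply R A'' A,
          Ideal.Quotient.algebraMap_eq, add_sub_cancel]]
    refine Submodule.add_mem_sup ⟨_, rfl⟩ ?_
    rw [Ideal.smul_top_eq_map]
    exact hmKQ (Ideal.mem_map_of_mem _ (by simp [hIA, RingHom.mem_ker, Bialgebra.counit_algebraMap]))
  exact hrange (Submodule.mem_top (x := q))

end Groth.Agent.S15068
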