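import Groth.Statements.S1507
import Groth.Agent.PCMor.Ring

set_option autoImplicit false
set_option linter.style.haveILetI false
set_option backward.isDefEq.respectTransparency false
open Groth.Agent CategoryTheory
universe u
attribute [local instance] HasDerivedCategory.standard
open FlatMor

namespace Groth.Agent.S1507

/-- Let A → B be flat and of finite presentation and I an ideal of B. Then A → B/I is a pseudo-coherent
ring map if and only if I is a pseudo-coherent B-module. -/
theorem result {A B : Type u} [CommRing A] [CommRing B] [Algebra A B] [Module.Flat A B] [Algebra.FinitePresentation A B] (I : Ideal B) :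
    MoreMor.IsPseudoCoherentHom A (B ⧸ I) ↔ DRing.IsPseudoCoherentModule' B ↥I := by
  let q : B →+* B ⧸ I := Ideal.Quotient.mk I
  have hq : Function.Surjective q := Ideal.Quotient.mk_surjective
  have hAB : PCMor.PC (algebraMap A B) :=
    PCMor.pc_of_flat_fp (RingHom.flat_algebraMap_iff.2 inferInstance)
      (RingHom.finitePresentation_algebraMap.2 inferInstance)
  have h0 : MoreMor.IsPseudoCoherentHom A (B ⧸ I) ↔ PCMor.PC (q.comp (algebraMap A B)) := by
    have e : (q.comp (algebraMap A B)).toAlgebra = (inferInstance : Algebra A (B ⧸ I)) :=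
      Algebra.algebra_ext _ _ fun _ => rfl
    show _ ↔ @MoreMor.IsPseudoCoherentHom A (B ⧸ I) _ _ (q.comp (algebraMap A B)).toAlgebra
    rw [e]
  have h1 : PCMor.PC (q.comp (algebraMap A B)) ↔ RelPC.PCHom (algebraMap B (B ⧸ I)) :=
    ⟨fun h => hAB.pcHom_of_comp hq h, fun h => PCMor.PC.comp hAB (PCMor.pc_of_pcHom hq h)⟩
  rw [h0, h1, RelPC.pcHom_iff_module]
  let S : ShortComplex (ModuleCat.{u} B) := ShortComplex.mk
    (ModuleCat.ofHom I.subtype) (ModuleCat.ofHom (Algebra.linearMap B (B ⧸ I)))
    (by ext ⟨x, hx⟩; exact Ideal.Quotient.eq_zero_iff_mem.2 hx)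
  have hS : S.ShortExact :=
    { exact := (ShortComplex.moduleCat_exact_iff_range_eq_ker _).2 (by
        ext x
        show x ∈ LinearMap.range I.subtype ↔ q x = 0
        rw [Submodule.range_subtype, Ideal.Quotient.eq_zero_iff_mem])
      mono_f := (ModuleCat.mono_iff_injective _).2 I.injective_subtype
      epi_g := (ModuleCat.epi_iff_surjective _).2 hq }
  have hfree : ∀ m, DRing.IsPseudoCoherentModule B m B := fun m =>
    DRingKP.pcModule_of_free (ModuleCat.of B B) m
  constructor
  · intro h
    refine DRingKP.pc'_of_forall fun m => ?_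
    have := DRingKP.pc_obj₁ _ hS.singleTriangle_distinguished (m - 1)
      (by rw [sub_add_cancel]; exact hfree m) (DRingKP.pc_of_pc' h (m - 1))
    rw [sub_add_cancel] at this
    exact this
  · intro h
    exact DRingKP.pc'_of_forall fun m =>
      DRingKP.pcModule_quotient hS m (DRingKP.pc_of_pc' h (m + 1)) (hfree m)

end Groth.Agent.S1507
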