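import Groth.Statements.S15070
import Groth.Agent.OrdSurfB.Basic
import Groth.Agent.S6872
import Groth.Agent.S1689
import Groth.Agent.QC.Coherent
import Groth.Agent.FreeLite.Basic

set_option autoImplicit false
set_option linter.style.haveILetI false
set_option backward.isDefEq.respectTransparency false
universe u
open CategoryTheory CategoryTheory.Limits AlgebraicGeometry
open OrdSurf

namespace Groth.Agent.S15070

/-- Let k be an algebraically closed field of characteristic zero and X a smooth projective surface over
k (an integral k-scheme, smooth over k, of dimension two, admitting a closed immersion over k into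
some projective space P^n_k). Let N be a coherent O_X-module all of whose stalks are torsion-free
modules over the local rings, M a finite locally free O_X-module and φ : M → N an epimorphism of
O_X-modules. Then the kernel of φ is a finite locally free O_X-module. -/
theorem result (k : Type u) [Field k] [IsAlgClosed k] [CharZero k]
    (X : Scheme.{u}) [X.Over (Spec (CommRingCat.of k))] [IsIntegral X]
    [Smooth (X ↘ Spec (CommRingCat.of k))] (hdim : topologicalKrullDim X = 2)
    (hproj : ∃ (n : ℕ) (ι : X ⟶ CohB1.ProjSpace n k), IsClosedImmersion ι ∧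
      ι ≫ CohB1.ProjSpace.toSpec n k = X ↘ Spec (CommRingCat.of k))
    (N : X.Modules) (hN : Coh.IsCoh N) (hNtf : TorSh.IsTorsionFree N)
    (M : X.Modules) (hM : FlatMod.IsFinLocFree M) (φ : M ⟶ N) [Epi φ] :
    FlatMod.IsFinLocFree (kernel φ) := by
  obtain ⟨hn, hreg⟩ := Groth.Agent.OrdSurfB.surf_facts k X hdim hproj
  haveI := hn
  have hMc : Coh.IsCoh M := Groth.Agent.FreeLite.isCoh hM
  have hK := Groth.Agent.QC.isCoh_kernel hMc hN.1 φ
  refine (Groth.Agent.S1689.result X hreg hdim.le _ hK).1 fun x => ?_
  haveI := hreg x
  haveI : IsDomain (X.presheaf.stalk x) := inferInstance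
  haveI := Groth.Agent.LocFree.free_stalk_of_isFinLocFree hM x
  haveI := Groth.Agent.RegDual.finite_stalk hMc x
  haveI := Groth.Agent.RegDual.finite_stalk hN x
  haveI := Groth.Agent.RegDual.finite_stalk hK x
  haveI := hNtf x
  refine Groth.Agent.S6872.result _ (Groth.Agent.OrdSurfB.stalkLin (kernel.ι φ) x) (Groth.Agent.OrdSurfB.stalkLin φ x)
    (Groth.Agent.WeakAssLib.stalkHom_injective (kernel.ι φ) x) fun m => ⟨fun hm => ?_, ?_⟩
  · exact Groth.Agent.WeakAssLib.stalk_exact (ShortComplex.mk (kernel.ι φ) φ (kernel.condition φ))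
      { exact := ShortComplex.exact_of_f_is_kernel _ (kernelIsKernel φ) } x m hm
  · rintro ⟨z, rfl⟩
    obtain ⟨W, hW, a, rfl⟩ := (kernel φ).presheaf.exists_germ_eq (x := x) z
    show Groth.Agent.WeakAssLib.stalkHom φ x (Groth.Agent.WeakAssLib.stalkHom (kernel.ι φ) x
      (Groth.Agent.WeakAssLib.mgerm (kernel φ) hW a)) = 0
    rw [Groth.Agent.WeakAssLib.stalkHom_germ, Groth.Agent.WeakAssLib.stalkHom_germ,
      show φ.app W ((kernel.ι φ).app W a) = (kernel.ι φ ≫ φ).app W a from rfl, kernel.condition]
    exact map_zero _

end Groth.Agent.S15070
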