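import Groth.Statements.S8890
import Groth.Agent.CDivNormal.Primes
import Groth.Agent.ZCl.Basic
import Groth.Agent.RegDual.Scheme
import Groth.Agent.WeakAssLib.Stalk
-- import your own Groth.Agent.* helpers here

set_option autoImplicit false
set_option backward.isDefEq.respectTransparency false
universe u
open CategoryTheory CategoryTheory.Limits AlgebraicGeometry TopologicalSpace
open SDiv

namespace Groth.Agent.S8890

open Groth.Agent Pointwise
open Groth.Agent.QC (res res_res res_smul isLoc_of_isQCoh)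
open Groth.Agent.WeakAssLib (mgerm mgerm_smul mgerm_res stalkHom stalkHom_germ stalkHom_smul)

/-- Depth at least two gives a pair of elements regular on the module. -/
lemma exists_pair {R M : Type u} [CommRing R] [IsLocalRing R] [IsNoetherianRing R] [AddCommGroup M] [Module R M]
    [Module.Finite R M] (h : (2 : ℕ∞) ≤ LocCoh.depth R M) :
    ∃ a ∈ IsLocalRing.maximalIdeal R, ∃ b ∈ IsLocalRing.maximalIdeal R,
      IsSMulRegular M a ∧ ∀ u w : M, b • u = a • w → ∃ c, u = a • c := by
  classical
  by_cases hne : IsLocalRing.maximalIdeal R • (⊤ : Submodule R M) = ⊤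
  · have hsub : ∀ m : M, m = 0 := fun m => by
      have h0 := Submodule.eq_bot_of_le_smul_of_le_jacobson_bot (IsLocalRing.maximalIdeal R) (⊤ : Submodule R M)
        Module.Finite.fg_top hne.ge (IsLocalRing.jacobson_eq_maximalIdeal ⊥ bot_ne_top).ge
      simpa [h0] using (Submodule.mem_top : m ∈ (⊤ : Submodule R M))
    exact ⟨0, Ideal.zero_mem _, 0, Ideal.zero_mem _, fun u v _ => (hsub u).trans (hsub v).symm,
      fun u w _ => ⟨0, by rw [smul_zero]; exact hsub u⟩⟩
  rw [LocCoh.depth, LocCoh.idealDepth, if_neg hne] at h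
  obtain ⟨rs, ⟨hrs, hmem⟩, hlen⟩ : ∃ rs : List R,
      (RingTheory.Sequence.IsWeaklyRegular M rs ∧ ∀ r ∈ rs, r ∈ IsLocalRing.maximalIdeal R) ∧ 2 ≤ rs.length := by
    by_contra hc
    push Not at hc
    have h1 : (⨆ (rs : List R) (_ : RingTheory.Sequence.IsWeaklyRegular M rs ∧
        ∀ r ∈ rs, r ∈ IsLocalRing.maximalIdeal R), (rs.length : ℕ∞)) ≤ 1 :=
      iSup₂_le fun rs hr => by exact_mod_cast Nat.le_of_lt_succ (hc rs hr)
    exact absurd (h.trans h1) (by decide)
  match rs, hlen with
  | a :: b :: rs', _ =>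
    rw [RingTheory.Sequence.isWeaklyRegular_cons_iff, RingTheory.Sequence.isWeaklyRegular_cons_iff] at hrs
    refine ⟨a, hmem a (by simp), b, hmem b (by simp), hrs.1, fun u w huw => ?_⟩
    have h1 : (Submodule.Quotient.mk u : QuotSMulTop a M) = 0 := by
      refine hrs.2.1 ?_
      change b • (Submodule.Quotient.mk u : QuotSMulTop a M) = b • 0
      rw [smul_zero, ← Submodule.Quotient.mk_smul, Submodule.Quotient.mk_eq_zero, huw]
      exact (Submodule.mem_smul_pointwise_iff_exists _ _ _).mpr ⟨w, trivial, rfl⟩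
    rw [Submodule.Quotient.mk_eq_zero] at h1
    obtain ⟨c, -, hc⟩ := (Submodule.mem_smul_pointwise_iff_exists _ _ _).mp h1
    exact ⟨c, hc.symm⟩

/-- Let X be a locally Noetherian scheme and φ : F ⟶ G a morphism of quasi-coherent O_X-modules with F
coherent. Assume that for every point x of X either the stalk map F_x → G_x is an isomorphism, or
depth(F_x) ≥ 2 and x is not an associated point of G. Then φ is an isomorphism. -/
theorem result (X : Scheme.{u}) [IsLocallyNoetherian X] {F G : X.Modules} (φ : F ⟶ G)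
    (hF : Coh.IsCoh F) (hG : Coh.IsQCoh G)
    (h : ∀ x : ↥X, Function.Bijective ((TopCat.Presheaf.stalkFunctor AddCommGrpCat.{u} x).map (Scheme.Modules.Hom.mapPresheaf φ)) ∨
      ((2 : ℕ∞) ≤ LocCoh.depth (X.presheaf.stalk x) (F.presheaf.stalk x) ∧ ¬ Curv2.IsAssPoint G x)) :
    IsIso φ := by
  classical
  refine ZCl.isIso_of_stalk φ fun x => ?_
  have hfin : ∃ n : ℕ, Order.coheight x ≤ (n : ℕ∞) := by
    have h1 : ringKrullDim (X.presheaf.stalk x) < ⊤ := ringKrullDim_lt_top
    rw [ringKrullDim_stalk_eq_coheight] at h1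
    obtain ⟨n, hn'⟩ := ENat.ne_top_iff_exists.1 (fun e => h1.ne (by rw [e]; rfl) : Order.coheight x ≠ ⊤)
    exact ⟨n, hn'.ge⟩
  obtain ⟨n, hn⟩ := hfin
  show Function.Bijective (stalkHom φ x)
  induction n using Nat.strong_induction_on generalizing x with
  | _ n ih =>
    rcases h x with hb | ⟨hd, hnass⟩
    · exact hb
    let R := X.presheaf.stalk x
    haveI : Module.Finite R (F.presheaf.stalk x) := RegDual.finite_stalk hF x
    obtain ⟨U, hU, hxU, -⟩ := exists_isAffineOpen_mem_and_subset (x := x) (U := (⊤ : X.Opens)) trivial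
    have hLF := isLoc_of_isQCoh hU (hM := hF.1)
    have hLG := isLoc_of_isQCoh hU (hM := hG)
    -- proper generizations are good
    have hgood : ∀ (y : X) (hy : y ⤳ x), y ≠ x → Function.Bijective (stalkHom φ y) := by
      intro y hyx hne
      have hlt : x < y := lt_iff_le_not_ge.2 ⟨hyx, fun h' => hne (hyx.antisymm h').eq⟩
      have hle := (Order.coheight_add_one_le hlt).trans hn
      obtain ⟨m, hm⟩ := ENat.ne_top_iff_exists.1 (fun e => by rw [e] at hle; simp at hle :
        Order.coheight y ≠ ⊤)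
      rw [← hm, ← Nat.cast_one, ← Nat.cast_add, Nat.cast_le] at hle
      exact ih m (by omega) y hm.ge
    obtain ⟨a, ha, b, hb, hareg, hab⟩ := exists_pair hd
    have hprime : ∀ P : Ideal R, P.IsPrime → P ≠ IsLocalRing.maximalIdeal R →
        ∃ (y : X) (hy : y ⤳ x), y ≠ x ∧ CDivNormal.genPrime hy = P := by
      intro P hP hPm
      obtain ⟨y, hy, hyP⟩ := CDivNormal.exists_genPrime_eq x P
      refine ⟨y, hy, fun e => hPm ?_, hyP⟩
      subst e
      rw [← hyP]
      ext r
      rw [CDivNormal.mem_genPrime, TopCat.Presheaf.stalkSpecializes_refl]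
      rfl
    have hker : ∀ v : F.presheaf.stalk x, stalkHom φ x v = 0 → v = 0 := by
      intro v hv
      obtain ⟨d, s, hd', hds⟩ := WeakAssLib.exists_germ hU hLF hxU v
      suffices hs : mgerm F hxU s = 0 from (WeakAssLib.isUnit_germ hU hxU hd').smul_eq_zero.1 (hds.trans hs)
      have hφs : mgerm G hxU (φ.app U s) = 0 := by rw [← stalkHom_germ, ← hds, stalkHom_smul, hv, smul_zero]
      obtain ⟨e₁, he₁, he₁s⟩ := (WeakAssLib.germ_eq_zero_iff hU hLG hxU _).1 hφs
      let I : Ideal R := LinearMap.ker (LinearMap.toSpanSingleton R (F.presheaf.stalk x) (mgerm F hxU s))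
      have hle : IsLocalRing.maximalIdeal R ≤ I.radical := by
        rw [Ideal.radical_eq_sInf]
        refine le_sInf fun P hP => ?_
        by_contra hc
        obtain ⟨y, hy, hne, hyP⟩ := hprime P hP.2 fun e => hc (by rw [e])
        have hyU := hy.mem_open U.2 hxU
        have h0 : mgerm F hyU s = 0 := (hgood y hy hne).1 (by
          rw [stalkHom_germ, map_zero]
          exact (WeakAssLib.germ_eq_zero_iff hU hLG hyU _).2 ⟨e₁, fun h' => he₁ (by
            exact (show (hU.primeIdealOf ⟨y, hyU⟩).asIdeal ≤ (hU.primeIdealOf ⟨x, hxU⟩).asIdeal from fun r hr => by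
              by_contra hr'
              exact ((CDivNormal.germ_mem_genPrime hy hU hxU r).2 hr)
                ((WeakAssLib.isUnit_germ hU hxU hr').map _)) h'), he₁s⟩)
        obtain ⟨c, hc', hcs⟩ := (WeakAssLib.germ_eq_zero_iff hU hLF hyU _).1 h0
        refine hc' ((CDivNormal.germ_mem_genPrime hy hU hxU c).1 (hyP.ge (hP.1 ?_)))
        show (X.presheaf.germ U x hxU).hom c • mgerm F hxU s = 0
        rw [← mgerm_smul, hcs, map_zero]
      obtain ⟨k, hk⟩ := hle ha
      exact hareg.pow k (show a ^ k • mgerm F hxU s = a ^ k • 0 by rw [smul_zero]; exact hk)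
    have hinj : Function.Injective (stalkHom φ x) := (injective_iff_map_eq_zero _).2 hker
    refine ⟨hinj, fun w => ?_⟩
    let I : Ideal R :=
      { carrier := {d | ∃ c, stalkHom φ x c = d • w}
        zero_mem' := ⟨0, by rw [map_zero, zero_smul]⟩
        add_mem' := fun {d d'} ⟨c, hc⟩ ⟨c', hc'⟩ => ⟨c + c', by rw [map_add, add_smul, hc, hc']⟩
        smul_mem' := fun r d ⟨c, hc⟩ => ⟨r • c, by rw [stalkHom_smul, hc, smul_eq_mul, mul_smul]⟩ }
    have hle : IsLocalRing.maximalIdeal R ≤ I.radical := by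
      rw [Ideal.radical_eq_sInf]
      refine le_sInf fun P hP => ?_
      by_contra hc
      obtain ⟨y, hy, hne, hyP⟩ := hprime P hP.2 fun e => hc (by rw [e])
      have hyU := hy.mem_open U.2 hxU
      obtain ⟨d₀, t, hd₀, hd₀t⟩ := WeakAssLib.exists_germ hU hLG hxU w
      obtain ⟨c₀, hc₀⟩ := (hgood y hy hne).2 (mgerm G hyU t)
      obtain ⟨d₁, s, hd₁, hd₁s⟩ := WeakAssLib.exists_germ hU hLF hyU c₀
      have h0 : mgerm G hyU (φ.app U s - d₁ • t) = 0 := by
        rw [map_sub, ← stalkHom_germ, ← hd₁s, stalkHom_smul, hc₀, mgerm_smul, sub_self]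
      obtain ⟨e, he, hes⟩ := (WeakAssLib.germ_eq_zero_iff hU hLG hyU _).1 h0
      have hmem : (X.presheaf.germ U x hxU).hom (e * d₁ * d₀) ∈ I := by
        refine ⟨mgerm F hxU (e • s), ?_⟩
        have h1 := congrArg (mgerm G hxU) hes
        rw [mgerm_smul, map_sub, map_zero, smul_sub, sub_eq_zero, mgerm_smul] at h1
        rw [mgerm_smul, stalkHom_smul, stalkHom_germ, h1, map_mul, map_mul, mul_smul, mul_smul, hd₀t]
      have hprod : e * d₁ * d₀ ∈ (hU.primeIdealOf ⟨y, hyU⟩).asIdeal :=
        (CDivNormal.germ_mem_genPrime hy hU hxU _).1 (hyP.ge (hP.1 hmem))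
      rcases (hU.primeIdealOf ⟨y, hyU⟩).isPrime.mem_or_mem hprod with h' | h'
      · exact ((hU.primeIdealOf ⟨y, hyU⟩).isPrime.mem_or_mem h').elim he hd₁
      · exact ((CDivNormal.germ_mem_genPrime hy hU hxU d₀).2 h') ((WeakAssLib.isUnit_germ hU hxU hd₀).map _)
    obtain ⟨k, hk⟩ := Ideal.exists_pow_le_of_le_radical_of_fg hle (IsNoetherian.noetherian _)
    clear hle
    induction k with
    | zero =>
      obtain ⟨c, hc⟩ := hk (show (1 : R) ∈ _ by simp)
      exact ⟨c, by rw [hc, one_smul]⟩
    | succ k ihk =>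
      refine ihk fun d hd => ?_
      obtain ⟨u, hu⟩ := hk (show a * d ∈ _ by rw [pow_succ']; exact Ideal.mul_mem_mul ha hd)
      obtain ⟨v, hv⟩ := hk (show b * d ∈ _ by rw [pow_succ']; exact Ideal.mul_mem_mul hb hd)
      obtain ⟨c, rfl⟩ := hab u v (hinj (by
        rw [stalkHom_smul, stalkHom_smul, hu, hv, smul_smul, smul_smul]; congr 1; ring))
      refine ⟨c, sub_eq_zero.1 ?_⟩
      by_contra hy0
      -- an element killed by the maximal ideal
      have hkill : ∀ e ∈ IsLocalRing.maximalIdeal R, e • (stalkHom φ x c - d • w) = 0 := by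
        intro e he
        obtain ⟨ue, hue⟩ := hk (show e * d ∈ _ by rw [pow_succ']; exact Ideal.mul_mem_mul he hd)
        have : ue = e • c := hareg (hinj (by
          show stalkHom φ x (a • ue) = stalkHom φ x (a • (e • c))
          rw [stalkHom_smul, hue, smul_comm a e c, stalkHom_smul φ x e, hu, smul_smul, smul_smul]
          congr 1; ring))
        rw [smul_sub, ← stalkHom_smul, ← this, hue, mul_smul, sub_self]
      refine hnass ((WeakAssLib.isAssPoint_iff G x).2 ⟨stalkHom φ x c - d • w, le_antisymm ?_ ?_⟩)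
      · refine IsLocalRing.le_maximalIdeal fun htop => hy0 ?_
        rw [Ideal.radical_eq_top] at htop
        have h1 : (1 : R) • (stalkHom φ x c - d • w) = 0 := (htop ▸ Submodule.mem_top :
          (1 : R) ∈ LinearMap.ker (LinearMap.toSpanSingleton R _ (stalkHom φ x c - d • w)))
        rwa [one_smul] at h1
      · exact fun e he => Ideal.le_radical (hkill e he)

end Groth.Agent.S8890
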