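import Groth.Statements.S8891
import Groth.Agent.S8890
-- import your own Groth.Agent.* helpers here

set_option autoImplicit false
set_option backward.isDefEq.respectTransparency false
universe u
open CategoryTheory CategoryTheory.Limits AlgebraicGeometry TopologicalSpace
open SDiv

namespace Groth.Agent.S8891

/-- Let X be an integral locally Noetherian scheme and φ : F ⟶ G a morphism of quasi-coherent
O_X-modules with F coherent and G torsion free. Assume that for every point x either the stalk map
F_x → G_x is an isomorphism, or depth(F_x) ≥ 2 and x is not the generic point of X. Then φ is an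
isomorphism. (The published statement allows the second alternative at the generic point as well;
since the zero module has infinite depth, F = 0 and G = O_X then satisfy every hypothesis while 0 →
O_X is not an isomorphism. The general criterion this is a special case of requires x not to be
associated to G, which for torsion-free G ≠ 0 fails exactly at the generic point; so the generic
point is excluded from the second alternative here.) -/
theorem result (X : Scheme.{u}) [IsIntegral X] [IsLocallyNoetherian X] {F G : X.Modules}
    (φ : F ⟶ G) (hF : Coh.IsCoh F) (hG : Coh.IsQCoh G)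
    (htf : ∀ x : ↥X, NoZeroSMulDivisors ↑(X.presheaf.stalk x) ↑(G.presheaf.stalk x))
    (h : ∀ x : ↥X, Function.Bijective ((TopCat.Presheaf.stalkFunctor AddCommGrpCat.{u} x).map (Scheme.Modules.Hom.mapPresheaf φ)) ∨
      ((2 : ℕ∞) ≤ LocCoh.depth (X.presheaf.stalk x) (F.presheaf.stalk x) ∧ x ≠ genericPoint ↥X)) :
    IsIso φ := by
  refine Groth.Agent.S8890.result X φ hF hG fun x => (h x).imp id fun hx => ⟨hx.1, fun ha => hx.2 ?_⟩
  obtain ⟨m, hm⟩ := (Groth.Agent.WeakAssLib.isAssPoint_iff G x).1 ha
  haveI := htf x
  have hm0 : m ≠ 0 := fun e => by
    rw [e, LinearMap.toSpanSingleton_zero, LinearMap.ker_zero, Ideal.radical_top] at hm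
    exact (IsLocalRing.maximalIdeal.isMaximal _).ne_top hm.symm
  have hker : LinearMap.ker (LinearMap.toSpanSingleton (X.presheaf.stalk x) (G.presheaf.stalk x) m) = ⊥ := by
    refine eq_bot_iff.2 fun r hr => ?_
    exact (Submodule.mem_bot _).2 ((eq_zero_or_eq_zero_of_smul_eq_zero (show r • m = 0 from hr)).resolve_right hm0)
  have hbot : IsLocalRing.maximalIdeal (X.presheaf.stalk x) = ⊥ := by
    rw [← hm, hker]
    exact (Ideal.bot_prime (α := X.presheaf.stalk x)).radical
  obtain ⟨y, hy, hyP⟩ := Groth.Agent.CDivNormal.exists_genPrime_eq x (⊥ : Ideal (X.presheaf.stalk x))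
  have hgx : genericPoint ↥X ⤳ x := (genericPoint_spec ↥X).specializes (Set.mem_univ x)
  have h1 := Groth.Agent.CDivNormal.specializes_of_le (specializes_refl x) hgx (by
    refine le_trans (fun r hr => ?_) bot_le
    have hr' : r ∈ IsLocalRing.maximalIdeal (X.presheaf.stalk x) := fun hu => hr (hu.map _)
    rwa [hbot] at hr')
  exact (h1.antisymm hgx).eq

end Groth.Agent.S8891
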