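import Groth.Statements.S15071
import Groth.Agent.OrdSurfB.Basic
import Groth.Agent.S8891
import Groth.Agent.AusBuc.Basic
import Groth.Agent.FreeLite.Basic
import Groth.Agent.CInt.DepthAlong
import Groth.Agent.FlatDepth.Basic

set_option autoImplicit false
set_option linter.style.haveILetI false
set_option backward.isDefEq.respectTransparency false
universe u
open CategoryTheory CategoryTheory.Limits AlgebraicGeometry
open OrdSurf

namespace Groth.Agent.S15071

/-- Let k be an algebraically closed field of characteristic zero and X a smooth projective surface over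
k (an integral k-scheme, smooth over k, of dimension two, admitting a closed immersion over k into
some projective space P^n_k). Let φ : M → N be a monomorphism between finite locally free
O_X-modules. Then either φ is an isomorphism, or the support of the cokernel of φ contains a point
of X whose local ring has Krull dimension at most one, i.e. the support has codimension at most one
in X. (The published statement phrases the first alternative as M and N being isomorphic; the
argument shows that the given monomorphism is an isomorphism, which is the form stated here.) -/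
theorem result (k : Type u) [Field k] [IsAlgClosed k] [CharZero k]
    (X : Scheme.{u}) [X.Over (Spec (CommRingCat.of k))] [IsIntegral X]
    [Smooth (X ↘ Spec (CommRingCat.of k))] (hdim : topologicalKrullDim X = 2)
    (hproj : ∃ (n : ℕ) (ι : X ⟶ CohB1.ProjSpace n k), IsClosedImmersion ι ∧
      ι ≫ CohB1.ProjSpace.toSpec n k = X ↘ Spec (CommRingCat.of k))
    (M N : X.Modules) (hM : FlatMod.IsFinLocFree M) (hN : FlatMod.IsFinLocFree N)
    (φ : M ⟶ N) [Mono φ] :
    IsIso φ ∨ ∃ x : X, x ∈ CohB1.support (cokernel φ) ∧ ringKrullDim (X.presheaf.stalk x) ≤ 1 := by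
  obtain ⟨hn, hreg⟩ := Groth.Agent.OrdSurfB.surf_facts k X hdim hproj
  haveI := hn
  have hMc : Coh.IsCoh M := Groth.Agent.FreeLite.isCoh hM
  by_cases hc : ∃ x : X, x ∈ CohB1.support (cokernel φ) ∧ ringKrullDim (X.presheaf.stalk x) ≤ 1
  · exact Or.inr hc
  push_neg at hc
  refine Or.inl (Groth.Agent.S8891.result X φ hMc (Groth.Agent.LocFree.isQCoh_of_isFinLocFree hN) (fun x => ?_) fun x => ?_)
  · haveI := hreg x
    haveI := Groth.Agent.LocFree.free_stalk_of_isFinLocFree hN x
    exact ⟨fun h => smul_eq_zero.1 h⟩
  by_cases hx : x ∈ CohB1.support (cokernel φ)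
  · right
    haveI := hreg x
    have hd := hc x hx
    have hd2 : ringKrullDim (X.presheaf.stalk x) = ((2 : ℕ) : WithBot ℕ∞) := by
      have h1 := (Groth.Agent.RegDual.ringKrullDim_stalk_le_topologicalKrullDim x).trans hdim.le
      have h2 : ∀ a : WithBot ℕ∞, 1 < a → a ≤ ((2 : ℕ) : WithBot ℕ∞) → a = ((2 : ℕ) : WithBot ℕ∞) := by
        intro a ha hb
        cases a with
        | bot => exact absurd ha (by simp)
        | coe a =>
          cases a with
          | top => exact absurd hb (by decide)
          | coe a =>
            change (((1 : ℕ) : ℕ∞) : WithBot ℕ∞) < _ at ha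
            change _ ≤ (((2 : ℕ) : ℕ∞) : WithBot ℕ∞) at hb
            rw [WithBot.coe_lt_coe, Nat.cast_lt] at ha
            rw [WithBot.coe_le_coe, Nat.cast_le] at hb
            obtain rfl : a = 2 := by omega
            rfl
      exact h2 _ hd (by exact_mod_cast h1)
    refine ⟨?_, fun h => ?_⟩
    · haveI := Groth.Agent.LocFree.free_stalk_of_isFinLocFree hM x
      haveI := Groth.Agent.RegDual.finite_stalk hMc x
      by_cases hs : Subsingleton (M.presheaf.stalk x)
      · rw [Groth.Agent.FlatDepth.depth_eq_top]
        exact le_top
      haveI := not_subsingleton_iff_nontrivial.1 hs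
      haveI := Groth.Agent.CMFlat.isCohenMacaulayLocalRing_of_isRegularLocalRing (X.presheaf.stalk x)
      have hR : LocCoh.depth (X.presheaf.stalk x) (X.presheaf.stalk x) = ((2 : ℕ) : ℕ∞) := by
        have h1 := LocCoh.IsCohenMacaulayLocalRing.supportDim_eq_depth (R := X.presheaf.stalk x)
        rw [Module.supportDim_self_eq_ringKrullDim, hd2] at h1
        exact (WithBot.coe_inj.1 h1).symm
      let b := Module.finBasis (X.presheaf.stalk x) (M.presheaf.stalk x)
      rw [Groth.Agent.CInt.depth_of_linearEquiv b.equivFun,
        Groth.Agent.AusBuc.depth_pi (Module.finrank_pos).ne' hR]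
      exact le_rfl
    · subst h
      have h0 : ringKrullDim (X.presheaf.stalk (genericPoint X)) = 0 := ringKrullDim_eq_zero_of_field _
      rw [h0] at hd
      exact absurd hd (by decide)
  · exact Or.inl (Groth.Agent.OrdSurfB.bijective_of_subsingleton_coker φ x (not_not.1 hx))

end Groth.Agent.S15071
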