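import Groth.Statements.S15075
import Groth.Agent.OrdSurfB.AlgStalk
import Groth.Agent.PnEuler.RankTwoEnd

set_option autoImplicit false
set_option linter.style.haveILetI false
set_option backward.isDefEq.respectTransparency false
universe u
open CategoryTheory CategoryTheory.Limits AlgebraicGeometry TopologicalSpace Opposite
open OrdSurf

namespace Groth.Agent.S15075

/-- Let k be an algebraically closed field of characteristic zero and X a smooth projective surface over
k (an integral k-scheme, smooth over k, of dimension two, admitting a closed immersion over k into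
some projective space P^n_k), with generic point η. Let A be a sheaf of rings on X with a morphism φ
: O_X → A of sheaves of rings with central image (a sheaf of O_X-algebras) whose generic stalk A_η
is a division ring, i.e. simple as a left module over itself. Let M and N be sheaves of A-modules
whose underlying O_X-modules (through φ) are coherent with torsion-free stalks, and whose generic
stalks M_η and N_η are simple A_η-modules (one-dimensional over the division ring A_η). Then every
nonzero morphism of sheaves of A-modules M → N is a monomorphism. (The published statement takes A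
to be an order on X — coherent and torsion-free over O_X with A_η a central division algebra over
k(X) — and M, N torsion-free A-modules of rank one; of these hypotheses only the ones listed are
assumed here, the others playing no role in the argument.) -/
theorem result (k : Type u) [Field k] [IsAlgClosed k] [CharZero k]
    (X : Scheme.{u}) [X.Over (Spec (CommRingCat.of k))] [IsIntegral X]
    [Smooth (X ↘ Spec (CommRingCat.of k))] (hdim : topologicalKrullDim X = 2)
    (hproj : ∃ (n : ℕ) (ι : X ⟶ CohB1.ProjSpace n k), IsClosedImmersion ι ∧
      ι ≫ CohB1.ProjSpace.toSpec n k = X ↘ Spec (CommRingCat.of k))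
    (A : Sheaf (Opens.grothendieckTopology X) RingCat.{u}) (φ : X.ringCatSheaf ⟶ A)
    (hcen : ∀ (U : (Opens X)ᵒᵖ) (s : X.ringCatSheaf.obj.obj U) (a : A.obj.obj U),
      φ.hom.app U s * a = a * φ.hom.app U s)
    (hAη : IsSimpleModule (↑(TopCat.Presheaf.stalk (C := RingCat.{u}) (X := X.carrier) A.obj (genericPoint X))) (↑(TopCat.Presheaf.stalk (C := RingCat.{u}) (X := X.carrier) A.obj (genericPoint X))))
    (M N : SheafOfModules.{u} A)
    (hMc : Coh.IsCoh (X := X) ((SheafOfModules.restrictScalars φ).obj M))
    (hNc : Coh.IsCoh (X := X) ((SheafOfModules.restrictScalars φ).obj N))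
    (hMt : TorSh.IsTorsionFree (X := X) ((SheafOfModules.restrictScalars φ).obj M))
    (hNt : TorSh.IsTorsionFree (X := X) ((SheafOfModules.restrictScalars φ).obj N))
    (hMη : IsSimpleModule (↑(TopCat.Presheaf.stalk (C := RingCat.{u}) (X := X.carrier) A.obj (genericPoint X))) (↑(TopCat.Presheaf.stalk (C := Ab.{u}) (X := X.carrier) M.val.presheaf (genericPoint X))))
    (hNη : IsSimpleModule (↑(TopCat.Presheaf.stalk (C := RingCat.{u}) (X := X.carrier) A.obj (genericPoint X))) (↑(TopCat.Presheaf.stalk (C := Ab.{u}) (X := X.carrier) N.val.presheaf (genericPoint X))))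
    (ψ : M ⟶ N) (hψ : ψ ≠ 0) : Mono ψ := by
  let R := Groth.Agent.OrdSurfB.Res A φ M
  let S := Groth.Agent.OrdSurfB.Res A φ N
  let ψ' : R ⟶ S := (SheafOfModules.restrictScalars φ).map ψ
  let f : R.presheaf.stalk (genericPoint X) →ₗ[Groth.Agent.OrdSurfB.AStalk A (genericPoint X)]
      S.presheaf.stalk (genericPoint X) :=
    { toFun := Groth.Agent.WeakAssLib.stalkHom ψ' (genericPoint X)
      map_add' := map_add _
      map_smul' := Groth.Agent.OrdSurfB.stalkHom_alg A φ ψ (genericPoint X) }
  haveI : Coh.IsQCoh R := hMc.1
  haveI : Coh.IsQCoh S := hNc.1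
  haveI : IsSimpleModule (Groth.Agent.OrdSurfB.AStalk A (genericPoint X)) (R.presheaf.stalk (genericPoint X)) := hMη
  have hf : f ≠ 0 := by
    intro h
    refine hψ (SheafOfModules.Hom.ext (PresheafOfModules.hom_ext fun V => ?_))
    ext t
    show ψ'.app V.unop t = 0
    by_cases hV : genericPoint X ∈ V.unop
    · refine Groth.Agent.RatFun.germ_generic_injective S hNt hV ?_
      rw [← Groth.Agent.WeakAssLib.stalkHom_germ]
      exact LinearMap.congr_fun h _
    · refine Groth.Agent.QC.section_eq_of_locally fun y hy => ?_
      exact absurd ((genericPoint_specializes y).mem_open V.unop.2 hy) hV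
  have hinj : Function.Injective f := (LinearMap.injective_or_eq_zero f).resolve_right hf
  haveI : Mono ψ' := (Groth.Agent.QC.mono_iff_app_injective ψ').2 fun V a b hab => by
    by_cases hV : genericPoint X ∈ V
    · rw [← sub_eq_zero]
      refine Groth.Agent.RatFun.germ_generic_injective R hMt hV ((injective_iff_map_eq_zero f).1 hinj _ ?_)
      show Groth.Agent.WeakAssLib.stalkHom ψ' _ (Groth.Agent.WeakAssLib.mgerm R hV (a - b)) = 0
      rw [Groth.Agent.WeakAssLib.stalkHom_germ, map_sub, hab, sub_self, map_zero]
    · refine Groth.Agent.QC.section_eq_of_locally fun y hy => ?_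
      exact absurd ((genericPoint_specializes y).mem_open V.2 hy) hV
  refine ⟨fun a b hab => ?_⟩
  refine SheafOfModules.Hom.ext (PresheafOfModules.hom_ext fun V => ?_)
  ext t
  exact (Groth.Agent.QC.mono_iff_app_injective ψ').1 inferInstance V.unop
    (congrArg (fun g => (g.val.app V).hom t) hab)

end Groth.Agent.S15075
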