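import Groth.Statements.S15076
import Groth.Agent.OrdSurfB.Basic
import Groth.Agent.OrdSurfB.AlgStalk
import Groth.Agent.FreeLite.Basic

set_option autoImplicit false
set_option linter.style.haveILetI false
set_option backward.isDefEq.respectTransparency false
universe u
open CategoryTheory CategoryTheory.Limits AlgebraicGeometry TopologicalSpace Opposite
open OrdSurf

namespace Groth.Agent.S15076

/-- Let k be an algebraically closed field of characteristic zero and X a smooth projective surface over
k (an integral k-scheme, smooth over k, of dimension two, admitting a closed immersion over k into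
some projective space P^n_k). Let A be a sheaf of rings on X with a morphism φ : O_X → A of sheaves
of rings with central image (a sheaf of O_X-algebras) such that A is finite locally free as an
O_X-module through φ. Let M be a sheaf of A-modules whose underlying O_X-module is coherent and
which is locally projective over A in the sense that every stalk M_x is a projective module over the
stalk A_x. Then the underlying O_X-module of M is finite locally free. (The published statement
takes A to be a maximal order on X, which is locally free of finite rank; only that consequence is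
assumed here, together with the stalkwise reading of local projectivity.) -/
theorem result (k : Type u) [Field k] [IsAlgClosed k] [CharZero k]
    (X : Scheme.{u}) [X.Over (Spec (CommRingCat.of k))] [IsIntegral X]
    [Smooth (X ↘ Spec (CommRingCat.of k))] (hdim : topologicalKrullDim X = 2)
    (hproj : ∃ (n : ℕ) (ι : X ⟶ CohB1.ProjSpace n k), IsClosedImmersion ι ∧
      ι ≫ CohB1.ProjSpace.toSpec n k = X ↘ Spec (CommRingCat.of k))
    (A : Sheaf (Opens.grothendieckTopology X) RingCat.{u}) (φ : X.ringCatSheaf ⟶ A)
    (hcen : ∀ (U : (Opens X)ᵒᵖ) (s : X.ringCatSheaf.obj.obj U) (a : A.obj.obj U),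
      φ.hom.app U s * a = a * φ.hom.app U s)
    (hA : FlatMod.IsFinLocFree (X := X) ((SheafOfModules.restrictScalars φ).obj (SheafOfModules.unit A)))
    (M : SheafOfModules.{u} A)
    (hMc : Coh.IsCoh (X := X) ((SheafOfModules.restrictScalars φ).obj M))
    (hMp : ∀ x : X, Module.Projective ↑(TopCat.Presheaf.stalk (C := RingCat.{u}) (X := X.carrier) A.obj x)
      ↑(TopCat.Presheaf.stalk (C := Ab.{u}) (X := X.carrier) M.val.presheaf x)) :
    FlatMod.IsFinLocFree (X := X) ((SheafOfModules.restrictScalars φ).obj M) := by
  obtain ⟨hn, -⟩ := Groth.Agent.OrdSurfB.surf_facts k X hdim hproj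
  haveI := hn
  refine Groth.Agent.RegDual.isFinLocFree_of_free_stalk hMc fun x => ?_
  haveI := Groth.Agent.RegDual.finite_stalk hMc x
  haveI := Groth.Agent.LocFree.free_stalk_of_isFinLocFree hA x
  haveI : Module.Projective (Groth.Agent.OrdSurfB.AStalk A x)
      ((Groth.Agent.OrdSurfB.Res A φ M).presheaf.stalk x) := hMp x
  haveI : Module.Projective (X.presheaf.stalk x)
      ((Groth.Agent.OrdSurfB.Res A φ (SheafOfModules.unit A)).presheaf.stalk x) := Module.Projective.of_free
  haveI := Groth.Agent.OrdSurfB.projective_res A φ M x
  haveI := Module.finitePresentation_of_finite (X.presheaf.stalk x) ((Groth.Agent.OrdSurfB.Res A φ M).presheaf.stalk x)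
  exact Module.free_of_flat_of_isLocalRing

end Groth.Agent.S15076
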