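import Groth.Statements.S15078
import Mathlib
open Polynomial (natDegree)

set_option autoImplicit false
universe u v
open MovLem

set_option backward.isDefEq.respectTransparency false
namespace Groth.Agent.S15078


variable {k : Type u} [Field k] {σ : Type} {K : Type v} [Field K] [Algebra k K]

/-- The substitution `x_i ↦ x_i + g_i T^N`. -/
noncomputable def sub (N : ℕ) (g : σ → K) : MvPolynomial σ k →ₐ[k] Polynomial (MvPolynomial σ K) :=
  MvPolynomial.aeval fun i : σ => Polynomial.C (MvPolynomial.X i) + Polynomial.C (MvPolynomial.C (g i)) * Polynomial.X ^ N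

theorem top_X (N : ℕ) (hN : 0 < N) (g : σ → K) (i : σ) :
    (Polynomial.C (MvPolynomial.X i) + Polynomial.C (MvPolynomial.C (g i)) * Polynomial.X ^ N).natDegree ≤ N ∧
      (Polynomial.C (MvPolynomial.X i) + Polynomial.C (MvPolynomial.C (g i)) * Polynomial.X ^ N).coeff N = MvPolynomial.C (g i) := by
  refine ⟨Polynomial.natDegree_add_le_of_degree_le ((Polynomial.natDegree_C _).trans_le (Nat.zero_le _))
    (Polynomial.natDegree_C_mul_X_pow_le _ _), ?_⟩
  rw [Polynomial.coeff_add, Polynomial.coeff_C, if_neg hN.ne', Polynomial.coeff_C_mul_X_pow, if_pos rfl, zero_add]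

theorem top_prod {A : Type*} [CommRing A] (N : ℕ) (b : σ → Polynomial A) (v : σ → A)
    (hb : ∀ i, (b i).natDegree ≤ N) (hv : ∀ i, (b i).coeff N = v i) (e : σ → ℕ) (S : Finset σ) :
    (∏ i ∈ S, b i ^ e i).natDegree ≤ N * ∑ i ∈ S, e i ∧
      (∏ i ∈ S, b i ^ e i).coeff (N * ∑ i ∈ S, e i) = ∏ i ∈ S, v i ^ e i := by
  classical
  induction S using Finset.induction with
  | empty => simp
  | insert a S ha ih =>
    obtain ⟨h1, h2⟩ := ih
    have p1 : (b a ^ e a).natDegree ≤ e a * N := Polynomial.natDegree_pow_le_of_le (e a) (hb a)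
    have p2 : (b a ^ e a).coeff (e a * N) = v a ^ e a := by
      rw [Polynomial.coeff_pow_of_natDegree_le (hb a), hv a]
    rw [mul_comm (e a) N] at p1 p2
    rw [Finset.prod_insert ha, Finset.sum_insert ha, Finset.prod_insert ha, mul_add]
    exact ⟨Polynomial.natDegree_mul_le_of_le p1 h1, by rw [Polynomial.coeff_mul_add_eq_of_natDegree_le p1 h1, p2, h2]⟩

/-- Degree bound and top coefficient of a substituted polynomial of total degree at most `D`. -/
theorem sub_top (N : ℕ) (hN : 0 < N) (g : σ → K) (a : MvPolynomial σ k) (D : ℕ) (hD : a.totalDegree ≤ D) :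
    (sub N g a).natDegree ≤ N * D ∧
      (sub N g a).coeff (N * D) = MvPolynomial.C (MvPolynomial.aeval g (MvPolynomial.homogeneousComponent D a)) := by
  classical
  have hmono : ∀ α ∈ a.support, ∀ c : k, (sub N g (MvPolynomial.monomial α c)).natDegree ≤ N * D ∧
      (sub N g (MvPolynomial.monomial α c)).coeff (N * D) =
        MvPolynomial.C (if α.degree = D then MvPolynomial.aeval g (MvPolynomial.monomial α c) else 0) := by
    intro α hα c
    have hαD : α.degree ≤ D := (MvPolynomial.le_totalDegree hα).trans hD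
    obtain ⟨h1, h2⟩ := top_prod N _ _ (fun i => (top_X N hN g i).1) (fun i => (top_X N hN g i).2) α α.support
    simp only [← map_pow, ← map_prod] at h2
    have he : sub N g (MvPolynomial.monomial α c) = Polynomial.C (MvPolynomial.C (algebraMap k K c)) *
        ∏ i ∈ α.support, (Polynomial.C (MvPolynomial.X i) + Polynomial.C (MvPolynomial.C (g i)) * Polynomial.X ^ N) ^ α i := by
      rw [sub, MvPolynomial.aeval_monomial]
      rfl
    have hdeg : ∑ i ∈ α.support, α i = α.degree := rfl
    rw [hdeg] at h1 h2
    rw [he]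
    refine ⟨(Polynomial.natDegree_C_mul_le _ _).trans (h1.trans (Nat.mul_le_mul_left N hαD)), ?_⟩
    rw [Polynomial.coeff_C_mul]
    split_ifs with hd
    · rw [← hd, h2, ← map_mul]
      congr 1
      rw [MvPolynomial.aeval_monomial]
      rfl
    · rw [Polynomial.coeff_eq_zero_of_natDegree_lt (h1.trans_lt (Nat.mul_lt_mul_of_pos_left (lt_of_le_of_ne hαD hd) hN)),
        mul_zero, map_zero]
  constructor
  · conv_lhs => rw [a.as_sum, map_sum]
    exact Polynomial.natDegree_sum_le_of_forall_le _ _ fun α hα => (hmono α hα _).1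
  · conv_lhs => rw [a.as_sum, map_sum, Polynomial.finsetSum_coeff, Finset.sum_congr rfl fun α hα => (hmono α hα _).2]
    rw [MvPolynomial.homogeneousComponent_apply, Finset.sum_filter, map_sum, map_sum]
    exact Finset.sum_congr rfl fun x _ => by split_ifs <;> simp

theorem exists_top (f : Polynomial (MvPolynomial σ k)) (hf : f ≠ 0) :
    ∃ (h : MvPolynomial σ k) (D i₀ : ℕ), h ≠ 0 ∧ (D = 0 → i₀ = 0 → ∃ c : k, f = Polynomial.C (MvPolynomial.C c)) ∧
      ∀ (N : ℕ), f.natDegree < N → ∀ {K : Type v} [Field K] [Algebra k K] (g : σ → K), MvPolynomial.aeval g h ≠ 0 →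
        (Polynomial.eval₂ (sub N g).toRingHom Polynomial.X f).natDegree = N * D + i₀ ∧
          (Polynomial.eval₂ (sub N g).toRingHom Polynomial.X f).coeff (N * D + i₀) = MvPolynomial.C (MvPolynomial.aeval g h) := by
  classical
  have hne : f.support.Nonempty := Polynomial.support_nonempty.2 hf
  obtain ⟨j, hj, hjD⟩ := Finset.exists_mem_eq_sup f.support hne fun i => (f.coeff i).totalDegree
  let T := f.support.filter fun i => (f.coeff i).totalDegree = (f.coeff j).totalDegree
  have hTne : T.Nonempty := ⟨j, Finset.mem_filter.2 ⟨hj, rfl⟩⟩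
  obtain ⟨hi0, hi0D⟩ := Finset.mem_filter.1 (T.max'_mem hTne)
  have hle : ∀ i ∈ f.support, (f.coeff i).totalDegree ≤ (f.coeff j).totalDegree := fun i hi =>
    hjD ▸ Finset.le_sup (f := fun i => (f.coeff i).totalDegree) hi
  refine ⟨MvPolynomial.homogeneousComponent (f.coeff j).totalDegree (f.coeff (T.max' hTne)), (f.coeff j).totalDegree,
    T.max' hTne, ?_, ?_, ?_⟩
  · obtain ⟨α, hα, hαd⟩ := Finset.exists_mem_eq_sup _
      (MvPolynomial.support_nonempty.2 (Polynomial.mem_support_iff.1 hi0)) fun s : σ →₀ ℕ => s.degree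
    intro h0
    have h1 := congrArg (MvPolynomial.coeff α) h0
    rw [MvPolynomial.coeff_homogeneousComponent, if_pos (hαd.symm.trans hi0D), MvPolynomial.coeff_zero] at h1
    exact MvPolynomial.mem_support_iff.1 hα h1
  · intro hD0 h0
    have h1 : f.natDegree ≤ 0 := by
      refine Polynomial.natDegree_le_iff_coeff_eq_zero.2 fun i hi => ?_
      by_contra hne'
      have hiT : i ∈ T := Finset.mem_filter.2 ⟨Polynomial.mem_support_iff.2 hne',
        le_antisymm (hle i (Polynomial.mem_support_iff.2 hne')) (hD0.le.trans (Nat.zero_le _))⟩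
      exact absurd (T.le_max' i hiT) (by omega)
    refine ⟨(f.coeff 0).coeff 0, ?_⟩
    rw [Polynomial.eq_C_of_natDegree_le_zero h1]
    simp only [Polynomial.coeff_C_zero]
    congr 1
    refine MvPolynomial.totalDegree_eq_zero_iff_eq_C.1 ?_
    by_cases h : f.coeff 0 = 0
    · rw [h, MvPolynomial.totalDegree_zero]
    · exact le_antisymm ((hle 0 (Polynomial.mem_support_iff.2 h)).trans hD0.le) (Nat.zero_le _)
  · intro N hN K _ _ g hg
    generalize hi₀ : T.max' hTne = i₀ at hi0 hi0D hg ⊢
    generalize hD' : (f.coeff j).totalDegree = D at hle hi0D hg ⊢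
    have hN0 : 0 < N := lt_of_le_of_lt (Nat.zero_le _) hN
    have hlt : ∀ i ∈ f.support, i ≠ i₀ → (sub N g (f.coeff i) * Polynomial.X ^ i).natDegree < N * D + i₀ ∨
        (sub N g (f.coeff i) * Polynomial.X ^ i).natDegree < N * D + i₀ := by
      intro i hi hne'
      left
      have h1 := (sub_top N hN0 g (f.coeff i) _ le_rfl).1
      have h2 : (sub N g (f.coeff i) * Polynomial.X ^ i).natDegree ≤ N * (f.coeff i).totalDegree + i :=
        Polynomial.natDegree_mul_le_of_le h1 (Polynomial.natDegree_X_pow_le i)
      rcases (hle i hi).lt_or_eq with hlt | heq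
      · refine h2.trans_lt ?_
        have hiN : i < N := (Polynomial.le_natDegree_of_mem_supp i hi).trans_lt hN
        calc N * (f.coeff i).totalDegree + i < N * (f.coeff i).totalDegree + N := by omega
          _ = N * ((f.coeff i).totalDegree + 1) := by ring
          _ ≤ N * D := Nat.mul_le_mul_left N hlt
          _ ≤ N * D + i₀ := Nat.le_add_right _ _
      · refine h2.trans_lt ?_
        have hiT : i ∈ T := Finset.mem_filter.2 ⟨hi, heq.trans hD'.symm⟩
        have h3 := T.le_max' i hiT
        rw [hi₀] at h3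
        rw [heq]
        omega
    have hsum : Polynomial.eval₂ (sub N g).toRingHom Polynomial.X f = ∑ i ∈ f.support, sub N g (f.coeff i) * Polynomial.X ^ i := by
      rw [Polynomial.eval₂_eq_sum, Polynomial.sum_def]
      rfl
    obtain ⟨h1, h2⟩ := sub_top N hN0 g (f.coeff i₀) D (hle i₀ hi0)
    have hc : (Polynomial.eval₂ (sub N g).toRingHom Polynomial.X f).coeff (N * D + i₀) =
        MvPolynomial.C (MvPolynomial.aeval g (MvPolynomial.homogeneousComponent D (f.coeff i₀))) := by
      rw [hsum, Polynomial.finsetSum_coeff, Finset.sum_eq_single i₀, Polynomial.coeff_mul_X_pow, h2]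
      · intro i hi hne'
        exact Polynomial.coeff_eq_zero_of_natDegree_lt ((hlt i hi hne').elim id id)
      · exact fun h => absurd hi0 h
    refine ⟨le_antisymm ?_ (Polynomial.le_natDegree_of_ne_zero ?_), hc⟩
    · rw [hsum]
      refine Polynomial.natDegree_sum_le_of_forall_le _ _ fun i hi => ?_
      by_cases h : i = i₀
      · subst h
        exact Polynomial.natDegree_mul_le_of_le h1 (Polynomial.natDegree_X_pow_le _)
      · exact ((hlt i hi h).elim id id).le
    · rw [hc, Ne, ← MvPolynomial.C_0, (MvPolynomial.C_injective σ K).eq_iff]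
      exact hg

/-- Let k be an infinite perfect field, r, m ≥ 1, and let f be a nonzero polynomial in the variable t
with coefficients in the polynomial ring k[x_1, …, x_r]. Then there are a nonzero polynomial h in
k[x_1, …, x_r] and an integer s₀ such that for every s ≥ s₀, every field K over k and every point g
of K^r with h(g) ≠ 0, the polynomial obtained from f by the substitution x_i ↦ x_i + t^{s(m+1)} g_i,
t ↦ t has as leading coefficient in t a nonzero constant of K; in particular, after dividing by that
constant it is monic in t over K[x_1, …, x_r]. (The published statement asks for a nonempty open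
subset of affine r-space over k, independent of s, such that this holds at each of its points g with
residue field K = k(g); the locus h ≠ 0 used here is such an open subset, and every nonempty open
subset contains one of this form.) -/
theorem result
    {k : Type u} [Field k] [Infinite k] [PerfectField k] (r m : ℕ) (hr : 1 ≤ r) (hm : 1 ≤ m)
    (f : Polynomial (MvPolynomial (Fin r) k)) (hf : f ≠ 0) :
    ∃ h : MvPolynomial (Fin r) k, h ≠ 0 ∧ ∃ s₀ : ℕ, ∀ s : ℕ, s₀ ≤ s →
      ∀ (K : Type v) [Field K] [Algebra k K] (g : Fin r → K), MvPolynomial.aeval g h ≠ 0 →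
        ∃ c : K, c ≠ 0 ∧
          (Polynomial.eval₂ (MvPolynomial.aeval (fun i : Fin r => Polynomial.C (MvPolynomial.X i) + Polynomial.C (MvPolynomial.C (g i)) * Polynomial.X ^ (s * (m + 1))) : MvPolynomial (Fin r) k →ₐ[k] Polynomial (MvPolynomial (Fin r) K)).toRingHom Polynomial.X f).leadingCoeff = MvPolynomial.C c := by
  obtain ⟨h, D, i₀, hne, -, htop⟩ := exists_top.{u, v} f hf
  refine ⟨h, hne, f.natDegree + 1, fun s hs K _ _ g hg => ⟨MvPolynomial.aeval g h, hg, ?_⟩⟩
  obtain ⟨hd, hc⟩ := htop (s * (m + 1)) (lt_of_lt_of_le hs (Nat.le_mul_of_pos_right s (Nat.succ_pos m))) g hg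
  show (Polynomial.eval₂ (sub (s * (m + 1)) g).toRingHom Polynomial.X f).leadingCoeff = _
  rw [Polynomial.leadingCoeff, hd, hc]

end Groth.Agent.S15078
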