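import Groth.Statements.S15079
import Mathlib
import Groth.Agent.S15078

set_option autoImplicit false
universe u v
open MovLem

namespace Groth.Agent.S15079

/-- Let k be an infinite perfect field, r, m ≥ 1, and let f be an irreducible polynomial in t over
k[x_1, …, x_r] whose constant term in t is a unit of k[x_1, …, x_r], so that the hypersurface Z : f
= 0 in affine (r+1)-space with coordinates x_1, …, x_r, t is integral and does not meet the divisor
t = 0 (the modulus condition in cubical degree one). Then there are a nonzero polynomial h in k[x_1,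
…, x_r] and an integer s₀ such that for every s ≥ s₀, every field K over k and every point g of K^r
with h(g) ≠ 0, the translate of Z_K by the automorphism x_i ↦ x_i + t^{s(m+1)} g_i, t ↦ t is finite
and surjective over affine r-space over K: the quotient of K[x_1, …, x_r][t] by the translated
equation is a finitely generated K[x_1, …, x_r]-module and K[x_1, …, x_r] maps injectively into it.
(The published statement allows every nonzero point g of affine r-space; for r = 2 and f = x_1 t − 1
the point g = (0, 1) translates Z to itself, which is not finite over the affine plane, so the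
conclusion is stated here for g in a nonempty open subset h ≠ 0, which is what the published proof
establishes.) -/
theorem result
    {k : Type u} [Field k] [Infinite k] [PerfectField k] (r m : ℕ) (hr : 1 ≤ r) (hm : 1 ≤ m)
    (f : Polynomial (MvPolynomial (Fin r) k)) (hirr : Irreducible f) (h0 : IsUnit (f.coeff 0)) :
    ∃ h : MvPolynomial (Fin r) k, h ≠ 0 ∧ ∃ s₀ : ℕ, ∀ s : ℕ, s₀ ≤ s →
      ∀ (K : Type v) [Field K] [Algebra k K] (g : Fin r → K), MvPolynomial.aeval g h ≠ 0 →
        ∀ F : Polynomial (MvPolynomial (Fin r) K),
          F = Polynomial.eval₂ (MvPolynomial.aeval (fun i : Fin r => Polynomial.C (MvPolynomial.X i) + Polynomial.C (MvPolynomial.C (g i)) * Polynomial.X ^ (s * (m + 1))) : MvPolynomial (Fin r) k →ₐ[k] Polynomial (MvPolynomial (Fin r) K)).toRingHom Polynomial.X f →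
          Module.Finite (MvPolynomial (Fin r) K) (Polynomial (MvPolynomial (Fin r) K) ⧸ Ideal.span {F}) ∧
          Function.Injective ((Ideal.Quotient.mk (Ideal.span {F})).comp (algebraMap (MvPolynomial (Fin r) K) (Polynomial (MvPolynomial (Fin r) K)))) := by
  obtain ⟨h, D, i₀, hne, hconst, htop⟩ := Groth.Agent.S15078.exists_top.{u, v} f hirr.ne_zero
  refine ⟨h, hne, f.natDegree + 1, fun s hs K _ _ g hg F hF => ?_⟩
  obtain ⟨hd, hc⟩ := htop (s * (m + 1)) (lt_of_lt_of_le hs (Nat.le_mul_of_pos_right s (Nat.succ_pos m))) g hg
  replace hd : F.natDegree = s * (m + 1) * D + i₀ := by rw [hF]; exact hd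
  replace hc : F.leadingCoeff = MvPolynomial.C (MvPolynomial.aeval g h) := by
    rw [Polynomial.leadingCoeff, hd, hF]; exact hc
  have hu : IsUnit F.leadingCoeff := by
    rw [hc]
    exact (IsUnit.mk0 _ hg).map MvPolynomial.C
  have hpos : 0 < F.natDegree := by
    rw [hd]
    rcases Nat.eq_zero_or_pos i₀ with hi | hi
    · rcases Nat.eq_zero_or_pos D with hD | hD
      · obtain ⟨c, rfl⟩ := hconst hD hi
        refine absurd ?_ hirr.not_isUnit
        rw [Polynomial.coeff_C_zero] at h0
        exact h0.map Polynomial.C
      · exact Nat.lt_of_lt_of_le (Nat.mul_pos (Nat.mul_pos (by omega) (Nat.succ_pos m)) hD) (Nat.le_add_right _ _)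
    · omega
  constructor
  · obtain ⟨v, hv⟩ := hu
    have hmon : (Polynomial.C ((v⁻¹ : (MvPolynomial (Fin r) K)ˣ) : MvPolynomial (Fin r) K) * F).Monic := by
      rw [Polynomial.Monic, Polynomial.leadingCoeff_mul, Polynomial.leadingCoeff_C, ← hv, Units.inv_mul]
    have hspan : Ideal.span {Polynomial.C ((v⁻¹ : (MvPolynomial (Fin r) K)ˣ) : MvPolynomial (Fin r) K) * F} = Ideal.span {F} :=
      Ideal.span_singleton_mul_left_unit (Polynomial.isUnit_C.2 (Units.isUnit _)) F
    haveI : Module.Finite (MvPolynomial (Fin r) K) (Polynomial (MvPolynomial (Fin r) K) ⧸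
        Ideal.span {Polynomial.C ((v⁻¹ : (MvPolynomial (Fin r) K)ˣ) : MvPolynomial (Fin r) K) * F}) := hmon.finite_quotient
    exact Module.Finite.equiv (Ideal.quotientEquivAlgOfEq (MvPolynomial (Fin r) K) hspan).toLinearEquiv
  · rw [injective_iff_map_eq_zero]
    intro p hp
    rw [RingHom.comp_apply, Ideal.Quotient.eq_zero_iff_mem, Ideal.mem_span_singleton] at hp
    obtain ⟨q, hq⟩ := hp
    by_contra hp0
    have hq0 : q ≠ 0 := by
      rintro rfl
      rw [mul_zero] at hq
      exact hp0 (Polynomial.C_eq_zero.1 hq)
    have h2 := congrArg Polynomial.natDegree hq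
    rw [show algebraMap (MvPolynomial (Fin r) K) (Polynomial (MvPolynomial (Fin r) K)) p = Polynomial.C p from rfl,
      Polynomial.natDegree_C, Polynomial.natDegree_mul (Polynomial.ne_zero_of_natDegree_gt hpos) hq0] at h2
    omega

end Groth.Agent.S15079
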