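import Groth.Statements.S15080
import Mathlib

set_option autoImplicit false
open W4c2movlemaddchow

namespace Groth.Agent.S15080

/-- Let r, s, t ≥ 1. For an (r+s, t)-shuffle τ of r+s+t letters and an (r, s)-shuffle σ of the first r+s
letters, the composite τ ∘ (σ × id), where σ × id acts as σ on the first r+s letters and fixes the
last t, is an (r, s, t)-shuffle, and (τ, σ) ↦ τ ∘ (σ × id) is a bijection from such pairs onto the
set of all (r, s, t)-shuffles. (A (p₁, …, p_s)-shuffle is a permutation that is monotone on each of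
the consecutive blocks of sizes p₁, …, p_s; composites apply the right-hand factor first.) -/
theorem result (r s t : ℕ) (hr : 1 ≤ r) (hs : 1 ≤ s) (ht : 1 ≤ t) :
    Set.BijOn
      (fun p : Equiv.Perm (Fin (r + s + t)) × Equiv.Perm (Fin (r + s)) =>
        p.1 * W4c2movlemaddchow.extRight (r + s) t p.2)
      ({τ | W4c2movlemaddchow.IsShuffle₂ (r + s) t τ} ×ˢ {σ | W4c2movlemaddchow.IsShuffle₂ r s σ})
      {ν | W4c2movlemaddchow.IsShuffle₃ r s t ν} := by
  have app₁ : ∀ (σ : Equiv.Perm (Fin (r + s))) i, W4c2movlemaddchow.extRight (r + s) t σ (Fin.castAdd t i) = Fin.castAdd t (σ i) := fun σ i ↦ by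
    simp [W4c2movlemaddchow.extRight, Equiv.permCongr_apply]
  have app₂ : ∀ (σ : Equiv.Perm (Fin (r + s))) l, W4c2movlemaddchow.extRight (r + s) t σ (Fin.natAdd (r + s) l) = Fin.natAdd (r + s) l := fun σ l ↦ by
    simp [W4c2movlemaddchow.extRight, Equiv.permCongr_apply]
  refine ⟨?_, ?_, ?_⟩
  · rintro ⟨τ, σ⟩ ⟨⟨hτ1, hτ2⟩, hσ1, hσ2⟩
    refine ⟨fun i j hij ↦ ?_, fun i j hij ↦ ?_, fun i j hij ↦ ?_⟩
    · simpa [app₁] using hτ1 (hσ1 hij)
    · simpa [app₁] using hτ1 (hσ2 hij)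
    · simpa [app₂] using hτ2 hij
  · rintro ⟨τ, σ⟩ ⟨⟨hτ1, -⟩, -, -⟩ ⟨τ', σ'⟩ ⟨⟨hτ1', -⟩, -, -⟩ e
    replace e : ∀ x, τ (W4c2movlemaddchow.extRight (r + s) t σ x) = τ' (W4c2movlemaddchow.extRight (r + s) t σ' x) :=
      fun x ↦ DFunLike.congr_fun e x
    have hs1 : StrictMono fun i ↦ τ (Fin.castAdd t i) := hτ1.strictMono_of_injective (τ.injective.comp (Fin.castAdd_injective _ _))
    have hs2 : StrictMono fun i ↦ τ' (Fin.castAdd t i) := hτ1'.strictMono_of_injective (τ'.injective.comp (Fin.castAdd_injective _ _))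
    have hrange : Set.range (fun i ↦ τ (Fin.castAdd t i)) = Set.range (fun i ↦ τ' (Fin.castAdd t i)) := by
      rw [← σ.surjective.range_comp, ← σ'.surjective.range_comp (g := fun i ↦ τ' (Fin.castAdd t i))]
      congr 1
      funext i
      simpa [app₁] using e (Fin.castAdd t i)
    have heq := (hs1.range_inj hs2).mp hrange
    have hσ : σ = σ' := Equiv.ext fun i ↦ hs2.injective (by
      simpa [app₁, ← congrFun heq (σ i)] using e (Fin.castAdd t i))
    subst hσ
    refine Prod.ext (Equiv.ext fun x ↦ ?_) rfl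
    obtain ⟨y, rfl⟩ := (W4c2movlemaddchow.extRight (r + s) t σ).surjective x
    exact e y
  · rintro ν ⟨h1, h2, h3⟩
    let σ : Equiv.Perm (Fin (r + s)) := (Tuple.sort fun i ↦ ν (Fin.castAdd t i))⁻¹
    let τ : Equiv.Perm (Fin (r + s + t)) := ν * (W4c2movlemaddchow.extRight (r + s) t σ)⁻¹
    have hτ : ∀ x, τ (W4c2movlemaddchow.extRight (r + s) t σ x) = ν x := fun x ↦ by simp [τ]
    have hτ1 : ∀ i, τ (Fin.castAdd t i) = ν (Fin.castAdd t (σ⁻¹ i)) := fun i ↦ by
      rw [← hτ (Fin.castAdd t (σ⁻¹ i)), app₁]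
      simp
    have hm : StrictMono fun i ↦ τ (Fin.castAdd t i) := by
      refine Monotone.strictMono_of_injective ?_ (τ.injective.comp (Fin.castAdd_injective _ _))
      simp only [hτ1, σ, inv_inv]
      exact Tuple.monotone_sort fun i ↦ ν (Fin.castAdd t i)
    refine ⟨(τ, σ), ⟨⟨hm.monotone, fun i j hij ↦ ?_⟩, fun i j hij ↦ ?_, fun i j hij ↦ ?_⟩, Equiv.ext hτ⟩
    · have := h3 hij
      simp only [← hτ, app₂] at this
      exact this
    · exact hm.le_iff_le.mp (by simpa [hτ, ← app₁] using h1 hij)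
    · exact hm.le_iff_le.mp (by simpa [hτ, ← app₁] using h2 hij)

end Groth.Agent.S15080
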