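import Groth.Statements.S15081
import Mathlib

set_option autoImplicit false
open W4c2movlemaddchow

namespace Groth.Agent.S15081

/-- Let r, s, t ≥ 1. For an (r, s+t)-shuffle τ' of r+s+t letters and an (s, t)-shuffle σ' of the last
s+t letters, the composite τ' ∘ (id × σ'), where id × σ' fixes the first r letters and acts as σ' on
the last s+t, is an (r, s, t)-shuffle, and (τ', σ') ↦ τ' ∘ (id × σ') is a bijection from such pairs
onto the set of all (r, s, t)-shuffles. (Shuffles are permutations monotone on each consecutive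
block; composites apply the right-hand factor first.) -/
theorem result (r s t : ℕ) (hr : 1 ≤ r) (hs : 1 ≤ s) (ht : 1 ≤ t) :
    Set.BijOn
      (fun p : Equiv.Perm (Fin (r + s + t)) × Equiv.Perm (Fin (s + t)) =>
        p.1 * W4c2movlemaddchow.extLeft r s t p.2)
      ({τ | W4c2movlemaddchow.IsShuffle₂ r (s + t) ((finCongr (Nat.add_assoc r s t)).permCongr τ)} ×ˢ
        {σ | W4c2movlemaddchow.IsShuffle₂ s t σ})
      {ν | W4c2movlemaddchow.IsShuffle₃ r s t ν} := by
  let ι₁ : Fin r → Fin (r + s + t) := fun i ↦ Fin.castAdd t (Fin.castAdd s i)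
  let ι : Fin (s + t) → Fin (r + s + t) := fun i ↦ (finCongr (Nat.add_assoc r s t)).symm (Fin.natAdd r i)
  have hι : Function.Injective ι := (finCongr (Nat.add_assoc r s t)).symm.injective.comp (Fin.natAdd_injective _ _)
  have hs : ∀ j : Fin s, ι (Fin.castAdd t j) = Fin.castAdd t (Fin.natAdd r j) := fun j ↦ Fin.ext (by simp [ι])
  have ht' : ∀ l : Fin t, ι (Fin.natAdd s l) = Fin.natAdd (r + s) l := fun l ↦ Fin.ext (by simp [ι, Nat.add_assoc])
  have app₁ : ∀ (σ : Equiv.Perm (Fin (s + t))) i, W4c2movlemaddchow.extLeft r s t σ (ι₁ i) = ι₁ i := fun σ i ↦ by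
    have : finCongr (Nat.add_assoc r s t) (ι₁ i) = Fin.castAdd (s + t) i := Fin.ext (by simp [ι₁])
    simp only [W4c2movlemaddchow.extLeft, Equiv.permCongr_apply, Equiv.symm_symm, this, finSumFinEquiv_symm_apply_castAdd]
    exact Fin.ext (by simp [ι₁])
  have app₂ : ∀ (σ : Equiv.Perm (Fin (s + t))) i, W4c2movlemaddchow.extLeft r s t σ (ι i) = ι (σ i) := fun σ i ↦ by
    simp [ι, W4c2movlemaddchow.extLeft, Equiv.permCongr_apply]
  have hmem : ∀ τ : Equiv.Perm (Fin (r + s + t)),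
      W4c2movlemaddchow.IsShuffle₂ r (s + t) ((finCongr (Nat.add_assoc r s t)).permCongr τ) ↔
        Monotone (τ ∘ ι₁) ∧ Monotone (τ ∘ ι) := fun τ ↦ by
    have e : ∀ i : Fin r, (finCongr (Nat.add_assoc r s t)).symm (Fin.castAdd (s + t) i) = ι₁ i := fun i ↦ Fin.ext (by simp [ι₁])
    simp only [W4c2movlemaddchow.IsShuffle₂, Equiv.permCongr_apply, e, Monotone, Function.comp_apply, Fin.le_def,
      finCongr_apply, Fin.val_cast, ι]
  refine ⟨?_, ?_, ?_⟩
  · rintro ⟨τ, σ⟩ ⟨hτ, hσ1, hσ2⟩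
    obtain ⟨hτ1, hτ2⟩ := (hmem τ).mp hτ
    refine ⟨fun i j hij ↦ ?_, fun i j hij ↦ ?_, fun i j hij ↦ ?_⟩
    · show τ (W4c2movlemaddchow.extLeft r s t σ (ι₁ i)) ≤ τ (W4c2movlemaddchow.extLeft r s t σ (ι₁ j))
      rw [app₁, app₁]
      exact hτ1 hij
    · simp only [← hs, Equiv.Perm.mul_apply, app₂]
      exact hτ2 (hσ1 hij)
    · simp only [← ht', Equiv.Perm.mul_apply, app₂]
      exact hτ2 (hσ2 hij)
  · rintro ⟨τ, σ⟩ ⟨hτ, -, -⟩ ⟨τ', σ'⟩ ⟨hτ', -, -⟩ e
    replace e : ∀ x, τ (W4c2movlemaddchow.extLeft r s t σ x) = τ' (W4c2movlemaddchow.extLeft r s t σ' x) :=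
      fun x ↦ DFunLike.congr_fun e x
    have hs1 := ((hmem τ).mp hτ).2.strictMono_of_injective (τ.injective.comp hι)
    have hs2 := ((hmem τ').mp hτ').2.strictMono_of_injective (τ'.injective.comp hι)
    have hrange : Set.range (τ ∘ ι) = Set.range (τ' ∘ ι) := by
      rw [← σ.surjective.range_comp, ← σ'.surjective.range_comp (g := τ' ∘ ι)]
      congr 1
      funext i
      simpa [app₂] using e (ι i)
    have heq := (hs1.range_inj hs2).mp hrange
    have hσ : σ = σ' := Equiv.ext fun i ↦ hs2.injective (by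
      have := e (ι i)
      rw [app₂, app₂] at this
      exact (congrFun heq (σ i)).symm.trans this)
    subst hσ
    refine Prod.ext (Equiv.ext fun x ↦ ?_) rfl
    obtain ⟨y, rfl⟩ := (W4c2movlemaddchow.extLeft r s t σ).surjective x
    exact e y
  · rintro ν ⟨h1, h2, h3⟩
    let σ : Equiv.Perm (Fin (s + t)) := (Tuple.sort (ν ∘ ι))⁻¹
    let τ : Equiv.Perm (Fin (r + s + t)) := ν * (W4c2movlemaddchow.extLeft r s t σ)⁻¹
    have hτ : ∀ x, τ (W4c2movlemaddchow.extLeft r s t σ x) = ν x := fun x ↦ by simp [τ]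
    have hτ2 : ∀ i, τ (ι i) = ν (ι (σ⁻¹ i)) := fun i ↦ by
      rw [← hτ (ι (σ⁻¹ i)), app₂]
      simp
    have hm : StrictMono (τ ∘ ι) := by
      refine Monotone.strictMono_of_injective ?_ (τ.injective.comp hι)
      simp only [Function.comp_def, hτ2, σ, inv_inv]
      exact Tuple.monotone_sort (ν ∘ ι)
    refine ⟨(τ, σ), ⟨(hmem τ).mpr ⟨fun i j hij ↦ ?_, hm.monotone⟩, fun i j hij ↦ ?_, fun i j hij ↦ ?_⟩, Equiv.ext hτ⟩
    · have hτ1 : ∀ i, τ (ι₁ i) = ν (ι₁ i) := fun i ↦ by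
        have := hτ (ι₁ i)
        rwa [app₁] at this
      show τ (ι₁ i) ≤ τ (ι₁ j)
      rw [hτ1, hτ1]
      exact h1 hij
    · exact hm.le_iff_le.mp (by
        show τ (ι (σ _)) ≤ τ (ι (σ _))
        rw [← app₂, ← app₂, hτ, hτ, hs, hs]
        exact h2 hij)
    · exact hm.le_iff_le.mp (by
        show τ (ι (σ _)) ≤ τ (ι (σ _))
        rw [← app₂, ← app₂, hτ, hτ, ht', ht']
        exact h3 hij)

end Groth.Agent.S15081
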