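import Groth.Statements.S15082
import Mathlib
import Groth.Agent.S15080
import Groth.Agent.S15081

set_option autoImplicit false
open W4c2movlemaddchow

namespace Groth.Agent.S15082

/-- Let r, s, t ≥ 1. In the group ring ℤ[S_{r+s+t}] the element Σ_ν sgn(ν) ν, summed over all (r, s,
t)-shuffles ν, equals Σ_τ Σ_σ sgn(τ) sgn(σ) τ ∘ (σ × id), summed over (r+s, t)-shuffles τ and (r,
s)-shuffles σ of the first r+s letters, and also equals Σ_{τ'} Σ_{σ'} sgn(τ') sgn(σ') τ' ∘ (id ×
σ'), summed over (r, s+t)-shuffles τ' and (s, t)-shuffles σ' of the last s+t letters. (Shuffles are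
permutations monotone on each consecutive block; composites apply the right-hand factor first.) -/
theorem result (r s t : ℕ) (hr : 1 ≤ r) (hs : 1 ≤ s) (ht : 1 ≤ t) :
    ((∑ ν ∈ Finset.univ.filter (W4c2movlemaddchow.IsShuffle₃ r s t),
        MonoidAlgebra.single ν (((Equiv.Perm.sign ν : ℤˣ) : ℤ)) :
          MonoidAlgebra ℤ (Equiv.Perm (Fin (r + s + t)))) =
      ∑ τ ∈ Finset.univ.filter (W4c2movlemaddchow.IsShuffle₂ (r + s) t),
        ∑ σ ∈ Finset.univ.filter (W4c2movlemaddchow.IsShuffle₂ r s),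
          MonoidAlgebra.single (τ * W4c2movlemaddchow.extRight (r + s) t σ)
            (((Equiv.Perm.sign τ : ℤˣ) : ℤ) * ((Equiv.Perm.sign σ : ℤˣ) : ℤ))) ∧
    ((∑ ν ∈ Finset.univ.filter (W4c2movlemaddchow.IsShuffle₃ r s t),
        MonoidAlgebra.single ν (((Equiv.Perm.sign ν : ℤˣ) : ℤ)) :
          MonoidAlgebra ℤ (Equiv.Perm (Fin (r + s + t)))) =
      ∑ τ ∈ Finset.univ.filter (fun τ : Equiv.Perm (Fin (r + s + t)) =>
          W4c2movlemaddchow.IsShuffle₂ r (s + t) ((finCongr (Nat.add_assoc r s t)).permCongr τ)),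
        ∑ σ ∈ Finset.univ.filter (W4c2movlemaddchow.IsShuffle₂ s t),
          MonoidAlgebra.single (τ * W4c2movlemaddchow.extLeft r s t σ)
            (((Equiv.Perm.sign τ : ℤˣ) : ℤ) * ((Equiv.Perm.sign σ : ℤˣ) : ℤ))) := by
  classical
  have hR : ∀ σ : Equiv.Perm (Fin (r + s)), Equiv.Perm.sign (W4c2movlemaddchow.extRight (r + s) t σ) = Equiv.Perm.sign σ := fun σ ↦ by
    simp [W4c2movlemaddchow.extRight, Equiv.Perm.sign_permCongr, Equiv.Perm.sign_sumCongr]
  have hL : ∀ σ : Equiv.Perm (Fin (s + t)), Equiv.Perm.sign (W4c2movlemaddchow.extLeft r s t σ) = Equiv.Perm.sign σ := fun σ ↦ by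
    simp [W4c2movlemaddchow.extLeft, Equiv.Perm.sign_permCongr, Equiv.Perm.sign_sumCongr]
  have B1 := Groth.Agent.S15080.result r s t hr hs ht
  have B2 := Groth.Agent.S15081.result r s t hr hs ht
  constructor <;> rw [← Finset.sum_product'] <;> symm
  · refine Finset.sum_bij (fun p _ ↦ p.1 * W4c2movlemaddchow.extRight (r + s) t p.2) (fun p h ↦ ?_)
      (fun p hp q hq e ↦ B1.injOn (by simpa using hp) (by simpa using hq) e) (fun ν h ↦ ?_) (fun p h ↦ ?_)
    · simpa using B1.mapsTo (show p ∈ _ by simpa using h)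
    · obtain ⟨p, hp, e⟩ := B1.surjOn (show ν ∈ _ by simpa using h)
      exact ⟨p, by simpa using hp, e⟩
    · simp [hR]
  · refine Finset.sum_bij (fun p _ ↦ p.1 * W4c2movlemaddchow.extLeft r s t p.2) (fun p h ↦ ?_)
      (fun p hp q hq e ↦ B2.injOn (by simpa using hp) (by simpa using hq) e) (fun ν h ↦ ?_) (fun p h ↦ ?_)
    · simpa using B2.mapsTo (show p ∈ _ by simpa using h)
    · obtain ⟨p, hp, e⟩ := B2.surjOn (show ν ∈ _ by simpa using h)
      exact ⟨p, by simpa using hp, e⟩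
    · simp [hL]

end Groth.Agent.S15082
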