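import Groth.Statements.S15084
import Mathlib
import Groth.Agent.InvGen.NormalDvd

set_option autoImplicit false
universe u
open MovLem

namespace Groth.Agent.S15084

/-- Let A be a Noetherian integrally closed domain with fraction field K, let B be a domain with
fraction field L, and let A → B be an injective ring homomorphism, with K → L the induced map of
fraction fields, such that Spec B → Spec A is surjective (every prime ideal of A is the contraction
of a prime ideal of B). If a ∈ K is such that its image in L lies in B, then a ∈ A. (The published
statement: for a surjective morphism f : Y → X of normal integral separated schemes of finite type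
over a perfect field and a Cartier divisor D on X, if f^*D is effective then D is effective; a
Cartier divisor is locally the divisor of a nonzero rational function a, effectivity of div(a) on a
normal scheme means that a is a regular function, and this row is that local statement, which is
what the published proof establishes.) -/
theorem result
    (A B K L : Type u) [CommRing A] [IsDomain A] [IsNoetherianRing A] [IsIntegrallyClosed A]
    [CommRing B] [IsDomain B] [Field K] [Field L]
    [Algebra A B] [Algebra A K] [IsFractionRing A K] [Algebra B L] [IsFractionRing B L]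
    [Algebra K L] [Algebra A L] [IsScalarTower A K L] [IsScalarTower A B L]
    (hinj : Function.Injective (algebraMap A B))
    (hsurj : ∀ p : Ideal A, p.IsPrime → ∃ q : Ideal B, q.IsPrime ∧ q.comap (algebraMap A B) = p)
    (a : K) (ha : algebraMap K L a ∈ (algebraMap B L).range) :
    a ∈ (algebraMap A K).range := by
  obtain ⟨c, r, hr, rfl⟩ := IsFractionRing.div_surjective (A := A) a
  have hr0 : r ≠ 0 := nonZeroDivisors.ne_zero hr
  obtain ⟨b, hb⟩ := ha
  have hB : algebraMap A B c = algebraMap A B r * b := by
    apply IsFractionRing.injective B L
    rw [map_mul, ← IsScalarTower.algebraMap_apply A B L, ← IsScalarTower.algebraMap_apply A B L, hb,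
      map_div₀, ← IsScalarTower.algebraMap_apply A K L, ← IsScalarTower.algebraMap_apply A K L,
      mul_div_cancel₀ _ (fun h => hr0 (hinj (by
        rw [map_zero]; exact IsFractionRing.injective B L (by rw [← IsScalarTower.algebraMap_apply A B L, h, map_zero]))))]
  suffices r ∣ c by
    obtain ⟨t, rfl⟩ := this
    exact ⟨t, by rw [map_mul, mul_div_cancel_left₀ _ (IsFractionRing.to_map_ne_zero_of_mem_nonZeroDivisors hr)]⟩
  refine InvGen.dvd_of_forall_height_one hr0 fun p hp h1 => ?_
  by_contra! hcon
  let S := Localization.AtPrime p
  haveI : IsIntegrallyClosed S :=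
    isIntegrallyClosed_of_isLocalization S p.primeCompl (Ideal.primeCompl_le_nonZeroDivisors p)
  haveI : IsNoetherianRing S := IsLocalization.isNoetherianRing p.primeCompl _ inferInstance
  have hd : ringKrullDim S = 1 := by
    rw [IsLocalization.AtPrime.ringKrullDim_eq_height p S, h1]; rfl
  have hnf : ¬ IsField S := fun h => by rw [ringKrullDim_eq_zero_of_isField h] at hd; exact zero_ne_one hd
  haveI : Ring.DimensionLEOne S := ⟨fun {P} hP hprime =>
    (Ring.krullDimLE_one_iff_of_isPrime_bot.1 (Ring.krullDimLE_iff.2 hd.le)) P hP hprime⟩
  haveI : IsDedekindRing S := { }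
  haveI : IsDedekindDomain S := { }
  haveI : IsDiscreteValuationRing S :=
    ((IsDiscreteValuationRing.TFAE S hnf).out 0 2).2 (inferInstance : IsDedekindDomain S)
  obtain ⟨t, ht⟩ := PreValuationRing.cond (algebraMap A S c) (algebraMap A S r)
  obtain ⟨⟨e, s⟩, hes⟩ := IsLocalization.surj p.primeCompl t
  have hinjS : Function.Injective (algebraMap A S) :=
    IsLocalization.injective S (Ideal.primeCompl_le_nonZeroDivisors p)
  rcases ht with ht | ht
  · -- `c t = r`
    have he : (s : A) * r = c * e := hinjS (by
      rw [map_mul, map_mul, ← hes, ← ht]; ring)
    have hep : e ∈ p := by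
      by_contra hep
      exact hcon e hep ⟨s, by rw [mul_comm e c, ← he, mul_comm]⟩
    obtain ⟨q, hq, hqp⟩ := hsurj p hp
    have hre : algebraMap A B s = b * algebraMap A B e := mul_left_cancel₀
      (fun h => hr0 (hinj (h.trans (map_zero _).symm))) (by
        rw [← mul_assoc, ← hB, ← map_mul, ← map_mul, ← he, mul_comm])
    have : (s : A) ∈ q.comap (algebraMap A B) := by
      rw [Ideal.mem_comap, hre]
      exact q.mul_mem_left b (Ideal.mem_comap.1 (hqp.symm ▸ hep : e ∈ q.comap (algebraMap A B)))
    exact s.2 (hqp ▸ this)
  · -- `r t = c`
    exact hcon s s.2 ⟨e, hinjS (by rw [map_mul, map_mul, ← hes, ← ht]; ring)⟩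

end Groth.Agent.S15084
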