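import Groth.Statements.S15085
import Groth.Agent.Unibranch.FibreDims
import Groth.Agent.GrpField.Dimension

set_option autoImplicit false
universe u
open CategoryTheory CategoryTheory.Limits AlgebraicGeometry
open MovLem

set_option backward.isDefEq.respectTransparency false
set_option backward.isDefEq.respectTransparency.types false

namespace Groth.Agent.S15085

/-- Let k be a field, X an affine scheme of finite type over k which is equidimensional (all irreducible
components have the same dimension), B̂ a proper smooth geometrically integral k-scheme and B ⊆ B̂ a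
nonempty affine open subscheme. Let Z be an integral closed subscheme of X ×_k B of dimension dim X
(that is, of codimension dim B, the product X ×_k B being equidimensional of dimension dim X + dim
B). Then the projection Z → X is finite and maps Z onto an irreducible component of X if and only if
Z is closed in X ×_k B̂. (The published statement allows X to be essentially of finite type, i.e.
also a localization of such a scheme at finitely many points, takes B̂ projective of positive
dimension, and phrases the dimension condition as codimension dim B; this row is the finite-type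
case with properness in place of projectivity.) -/
theorem result
    {k : Type u} [Field k] {X Bhat Z : Scheme.{u}}
    (sX : X ⟶ Spec (CommRingCat.of k)) (sB : Bhat ⟶ Spec (CommRingCat.of k))
    [IsAffine X] [LocallyOfFiniteType sX]
    (hXeq : ∀ T ∈ irreducibleComponents (X : Type u), topologicalKrullDim T = topologicalKrullDim X)
    [IsProper sB] [Smooth sB] [GeometricallyIntegral sB]
    (B : Bhat.Opens) (hB : IsAffineOpen B) (hBne : (B : Set Bhat).Nonempty)
    [IsIntegral Z] (ι : Z ⟶ ((pullback.snd sX sB) ⁻¹ᵁ B).toScheme) [IsClosedImmersion ι]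
    (hZ : topologicalKrullDim Z = topologicalKrullDim X)
    (j : Z ⟶ pullback sX sB) (hj : j = ι ≫ ((pullback.snd sX sB) ⁻¹ᵁ B).ι) :
    (IsFinite (j ≫ pullback.fst sX sB) ∧
        Set.range (j ≫ pullback.fst sX sB).base ∈ irreducibleComponents (X : Type u)) ↔
      IsClosed (Set.range j.base) := by
  subst hj
  constructor
  · rintro ⟨hfin, -⟩
    haveI := hfin
    haveI : UniversallyClosed (ι ≫ ((pullback.snd sX sB) ⁻¹ᵁ B).ι) :=
      UniversallyClosed.of_comp_of_isSeparated _ (pullback.fst sX sB)
    exact (ι ≫ ((pullback.snd sX sB) ⁻¹ᵁ B).ι).isClosedMap.isClosed_range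
  intro hcl
  set j := ι ≫ ((pullback.snd sX sB) ⁻¹ᵁ B).ι
  haveI : IsClosedImmersion j := IsClosedImmersion.of_isPreimmersion j hcl
  haveI : IsAffineHom sX := isAffineHom_of_isAffine sX
  haveI : IsAffineHom (pullback.snd sX sB) := MorphismProperty.pullback_snd _ _ ‹IsAffineHom sX›
  haveI : IsAffine ((pullback.snd sX sB) ⁻¹ᵁ B).toScheme := hB.preimage (pullback.snd sX sB)
  haveI : IsAffine Z := isAffine_of_isAffineHom ι
  haveI : IsAffineHom (j ≫ pullback.fst sX sB) := isAffineHom_of_isAffine _
  haveI hfin : IsFinite (j ≫ pullback.fst sX sB) :=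
    IsFinite.iff_isProper_and_isAffineHom.mpr ⟨inferInstance, inferInstance⟩
  refine ⟨hfin, ?_⟩
  set g := j ≫ pullback.fst sX sB
  have hrc : IsClosed (Set.range g.base) := g.isClosedMap.isClosed_range
  have hirr : IsIrreducible (Set.range g.base) := by
    rw [← Set.image_univ]
    exact (IrreducibleSpace.isIrreducible_univ _).image _ g.continuous.continuousOn
  refine ⟨hirr, fun C hC hle => ?_⟩
  by_contra hne
  obtain ⟨ξ, hξ⟩ := QuasiSober.sober hC.closure isClosed_closure
  have hξC : ¬ ξ ∈ Set.range g.base := fun h => hne
    (subset_closure.trans (hξ.def ▸ hrc.closure_subset_iff.mpr (Set.singleton_subset_iff.mpr h)))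
  haveI : QuasiCompact sX := inferInstance
  let s : Spec (CommRingCat.of k) := default
  have hpt : ∀ x : X, sX x = s := fun x => Subsingleton.elim (α := PrimeSpectrum k) _ _
  obtain ⟨d, hd⟩ : ∃ d : ℕ, topologicalKrullDim X = (d : WithBot ℕ∞) := by
    rcases Groth.Agent.Unibranch.exists_natCast_dim_fiber sX s with h | ⟨d, hd⟩
    · exact (h.false ((sX.fiberHomeo s).symm ⟨g (genericPoint Z), hpt _⟩)).elim
    · refine ⟨d, ?_⟩
      rw [← hd, IsHomeomorph.topologicalKrullDim_eq _ ((sX.fiberHomeo s).trans
        ((Homeomorph.setCongr (Set.eq_univ_of_forall hpt)).trans (Homeomorph.Set.univ X))).isHomeomorph]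
  obtain ⟨c, hc⟩ := Groth.Agent.Unibranch.exists_chain_of_le_topologicalKrullDim
    (k := d) (α := Z) (by rw [hZ, hd])
  let e : Fin (d + 1 + 1) → X := Fin.cons ξ fun i => g (c i)
  have := Groth.Agent.Unibranch.natCast_le_topologicalKrullDim e fun i => ?_
  · rw [hd] at this
    have h2 : d + 1 ≤ d := by exact_mod_cast this
    omega
  refine Fin.cases ?_ (fun i => ?_) i
  · simp only [Fin.castSucc_zero, e, Fin.cons_zero, Fin.cons_succ]
    exact ⟨hξ.specializes (subset_closure (hle ⟨c 0, rfl⟩)), fun h => hξC ⟨c 0, h.symm⟩⟩
  · simp only [← Fin.succ_castSucc, e, Fin.cons_succ]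
    exact ⟨(hc i).1.map g.continuous, fun h =>
      (hc i).2 (Groth.Agent.GrpField.eq_of_specializes_of_isIntegralHom g (hc i).1 h)⟩

end Groth.Agent.S15085
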