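import Groth.Statements.S15086
import Mathlib
open CategoryTheory CategoryTheory.Limits AlgebraicGeometry
open scoped TensorProduct

set_option autoImplicit false
universe u
open CategoryTheory CategoryTheory.Limits AlgebraicGeometry
open MovLem

set_option maxHeartbeats 400000
namespace Groth.Agent.S15086


/-- Primes of `L ⊗ K̄` are the embeddings of `L`. -/
theorem encard_spec (k L K : Type u) [Field k] [Field L] [Field K] [Algebra k L] [Algebra k K] [IsAlgClosed K]
    [FiniteDimensional k L] [Algebra.IsSeparable k L] :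
    ENat.card (PrimeSpectrum (L ⊗[k] K)) = Module.finrank k L := by
  let e : (L ⊗[k] K) ≃+* (K ⊗[k] L) := (Algebra.TensorProduct.comm k L K).toRingEquiv
  rw [ENat.card_congr (PrimeSpectrum.comapEquiv e.symm).toEquiv.symm]
  rw [← AlgHom.card k L K, ← Nat.card_eq_fintype_card]
  let ψ : (L →ₐ[k] K) → (K ⊗[k] L →ₐ[k] K) := fun σ => Algebra.TensorProduct.lift (AlgHom.id k K) σ fun _ _ => Commute.all _ _
  let Φ : (L →ₐ[k] K) → PrimeSpectrum (K ⊗[k] L) := fun σ => ⟨RingHom.ker (ψ σ).toRingHom, RingHom.ker_isPrime _⟩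
  have hΦ : Function.Bijective Φ := by
    refine ⟨fun σ σ' h => AlgHom.ext fun l => ?_, fun q => ?_⟩
    · have h1 : (1 : K) ⊗ₜ[k] l - σ l ⊗ₜ[k] (1 : L) ∈ RingHom.ker (ψ σ).toRingHom := by
        rw [RingHom.mem_ker]
        show ψ σ _ = 0
        simp [ψ]
      have h2 : (1 : K) ⊗ₜ[k] l - σ l ⊗ₜ[k] (1 : L) ∈ RingHom.ker (ψ σ').toRingHom := by
        have h' : RingHom.ker (ψ σ).toRingHom = RingHom.ker (ψ σ').toRingHom := congrArg PrimeSpectrum.asIdeal h
        rwa [← h']
      have h3 : ψ σ' ((1 : K) ⊗ₜ[k] l - σ l ⊗ₜ[k] (1 : L)) = 0 := h2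
      simp [ψ, sub_eq_zero] at h3
      exact h3.symm
    · haveI : Module.Finite K (K ⊗[k] L) := inferInstance
      haveI : Algebra.IsIntegral K ((K ⊗[k] L) ⧸ q.asIdeal) := inferInstance
      let q' : K →ₐ[k] (K ⊗[k] L) ⧸ q.asIdeal := (Ideal.Quotient.mkₐ k q.asIdeal).comp Algebra.TensorProduct.includeLeft
      have hq' : Function.Bijective q' := IsAlgClosed.algebraMap_bijective_of_isIntegral (k := K) (K := (K ⊗[k] L) ⧸ q.asIdeal)
      let e' : K ≃ₐ[k] (K ⊗[k] L) ⧸ q.asIdeal := AlgEquiv.ofBijective q' hq'
      let σ : L →ₐ[k] K := e'.symm.toAlgHom.comp ((Ideal.Quotient.mkₐ k q.asIdeal).comp Algebra.TensorProduct.includeRight)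
      have h : (ψ σ) = e'.symm.toAlgHom.comp (Ideal.Quotient.mkₐ k q.asIdeal) := by
        apply Algebra.TensorProduct.ext
        · refine AlgHom.ext fun a => ?_
          show ψ σ (a ⊗ₜ[k] 1) = e'.symm (Ideal.Quotient.mk q.asIdeal (a ⊗ₜ[k] 1))
          rw [show Ideal.Quotient.mk q.asIdeal (a ⊗ₜ[k] 1) = e' a from rfl, AlgEquiv.symm_apply_apply]
          simp [ψ]
        · refine AlgHom.ext fun l => ?_
          show ψ σ (1 ⊗ₜ[k] l) = σ l
          simp [ψ]
      refine ⟨σ, PrimeSpectrum.ext ?_⟩
      show RingHom.ker (ψ σ).toRingHom = q.asIdeal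
      rw [h]
      ext x
      rw [RingHom.mem_ker, ← Ideal.Quotient.eq_zero_iff_mem]
      exact map_eq_zero_iff _ e'.symm.injective
  rw [← ENat.card_congr (Equiv.ofBijective Φ hΦ), ENat.card_eq_coe_natCard]

variable {k : Type u} [Field k]

/-- `k → κ(z)`. -/
noncomputable def str {Z : Scheme.{u}} (sZ : Z ⟶ Spec (CommRingCat.of k)) (z : Z) : k →+* Z.residueField z :=
  (Spec.preimage (Z.fromSpecResidueField z ≫ sZ)).hom

theorem str_finite {Z : Scheme.{u}} (sZ : Z ⟶ Spec (CommRingCat.of k)) [LocallyOfFiniteType sZ] (z : Z)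
    (hz : IsClosed ({z} : Set Z)) : (str sZ z).Finite := by
  have h : IsFinite (Z.fromSpecResidueField z ≫ sZ) := by
    rw [isClosed_singleton_iff_isClosedImmersion] at hz
    rw [isFinite_iff_locallyOfFiniteType_of_jacobsonSpace]
    infer_instance
  rw [← Spec.map_preimage (Z.fromSpecResidueField z ≫ sZ)] at h
  exact (IsFinite.SpecMap_iff _).1 h

theorem fibre_card [PerfectField k] {Z : Scheme.{u}} (sZ : Z ⟶ Spec (CommRingCat.of k)) [LocallyOfFiniteType sZ] (z : Z)
    (hz : IsClosed ({z} : Set Z)) :
    ((pullback.fst sZ (Spec.map (CommRingCat.ofHom (algebraMap k (AlgebraicClosure k))))).base ⁻¹' {z}).encard =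
      (letI := (str sZ z).toAlgebra; Module.finrank k (Z.residueField z) : ℕ) := by
  letI := (str sZ z).toAlgebra
  haveI : FiniteDimensional k (Z.residueField z) := str_finite sZ z hz
  haveI : IsClosedImmersion (Z.fromSpecResidueField z) := (isClosed_singleton_iff_isClosedImmersion).1 hz
  let i := Spec.map (CommRingCat.ofHom (algebraMap k (AlgebraicClosure k)))
  let c := Spec.map (CommRingCat.ofHom (algebraMap k (Z.residueField z)))
  have hc : c = Z.fromSpecResidueField z ≫ sZ := Spec.map_preimage _
  let j : pullback c i ⟶ pullback sZ i := pullback.map c i sZ i (Z.fromSpecResidueField z) (𝟙 _) (𝟙 _)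
    (by rw [Category.comp_id, hc]) (by simp)
  have hr : Set.range j.base = (pullback.fst sZ i).base ⁻¹' {z} := by
    show Set.range (pullback.map c i sZ i (Z.fromSpecResidueField z) (𝟙 _) (𝟙 _) _ _).base = _
    rw [Scheme.Pullback.range_map, Scheme.range_fromSpecResidueField]
    simp
  have hj : Function.Injective j.base := by
    have hpb : IsPullback (pullback.fst c i) j (Z.fromSpecResidueField z) (pullback.fst sZ i) := by
      refine IsPullback.of_bot (v₂₁ := pullback.snd sZ i) (v₂₂ := sZ) (h₃₁ := i) ?_ (pullback.lift_fst _ _ _).symm (IsPullback.of_hasPullback sZ i).flip.flip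
      rw [← hc]
      rw [show j ≫ pullback.snd sZ i = pullback.snd c i from (pullback.lift_snd _ _ _).trans (Category.comp_id _)]
      exact IsPullback.of_hasPullback c i
    haveI : IsClosedImmersion j := MorphismProperty.of_isPullback (P := @IsClosedImmersion) hpb inferInstance
    exact j.isClosedEmbedding.injective
  rw [← hr, ← Set.image_univ, hj.encard_image, Set.encard_univ,
    ENat.card_congr ((pullbackSpecIso k (Z.residueField z) (AlgebraicClosure k)).hom.homeomorph.toEquiv)]
  exact encard_spec k (Z.residueField z) (AlgebraicClosure k)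

/-- Let k be an infinite perfect field with algebraic closure k̄, let φ : X → Y be a finite morphism of
k-schemes locally of finite type, let x be a closed point of X and y = φ(x). Let π_X : X_{k̄} → X
and π_Y : Y_{k̄} → Y be the base-change projections and φ_{k̄} : X_{k̄} → Y_{k̄} the induced
morphism. Then the number of points of π_Y⁻¹(y) is at most the number of points of π_X⁻¹(x);
equality holds if and only if the residue field extension k(y) → k(x) is an isomorphism; and
equality holds whenever φ_{k̄} is injective on π_X⁻¹(x). (Cardinalities are taken in ℕ ∪ {∞}; both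
fibres are in fact finite.) -/
theorem result
    {k : Type u} [Field k] [Infinite k] [PerfectField k] {X Y : Scheme.{u}}
    (sX : X ⟶ Spec (CommRingCat.of k)) (sY : Y ⟶ Spec (CommRingCat.of k))
    [LocallyOfFiniteType sX] [LocallyOfFiniteType sY]
    (φ : X ⟶ Y) (hφ : φ ≫ sY = sX) [IsFinite φ]
    (i : Spec (CommRingCat.of (AlgebraicClosure k)) ⟶ Spec (CommRingCat.of k))
    (hi : i = Spec.map (CommRingCat.ofHom (algebraMap k (AlgebraicClosure k))))
    (φbar : pullback sX i ⟶ pullback sY i)
    (h1 : φbar ≫ pullback.fst sY i = pullback.fst sX i ≫ φ)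
    (h2 : φbar ≫ pullback.snd sY i = pullback.snd sX i)
    (x : X) (hx : IsClosed ({x} : Set X)) :
    ((pullback.fst sY i).base ⁻¹' {φ.base x}).encard ≤ ((pullback.fst sX i).base ⁻¹' {x}).encard ∧
      (((pullback.fst sY i).base ⁻¹' {φ.base x}).encard = ((pullback.fst sX i).base ⁻¹' {x}).encard ↔
          Function.Bijective (φ.residueFieldMap x).hom) ∧
      (Set.InjOn φbar.base ((pullback.fst sX i).base ⁻¹' {x}) →
        ((pullback.fst sY i).base ⁻¹' {φ.base x}).encard = ((pullback.fst sX i).base ⁻¹' {x}).encard) := by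
  classical
  subst hi
  have hy : IsClosed ({φ.base x} : Set Y) := by
    have := φ.isClosedMap _ hx
    rwa [Set.image_singleton] at this
  rw [fibre_card sY _ hy, fibre_card sX _ hx]
  let ay := (str sY (φ.base x)).toAlgebra
  let ax := (str sX x).toAlgebra
  letI := ay
  letI := ax
  haveI : FiniteDimensional k (X.residueField x) := str_finite sX x hx
  haveI : FiniteDimensional k (Y.residueField (φ.base x)) := str_finite sY _ hy
  have hcomp : (φ.residueFieldMap x).hom.comp (str sY (φ.base x)) = str sX x := by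
    have e : Spec.preimage (Y.fromSpecResidueField (φ.base x) ≫ sY) ≫ φ.residueFieldMap x = Spec.preimage (X.fromSpecResidueField x ≫ sX) := by
      apply Spec.map_injective
      rw [Spec.map_comp, Spec.map_preimage, Spec.map_preimage, Scheme.Hom.SpecMap_residueFieldMap_fromSpecResidueField_assoc, hφ]
    exact congrArg CommRingCat.Hom.hom e
  let g : Y.residueField (φ.base x) →ₐ[k] X.residueField x :=
    { (φ.residueFieldMap x).hom with commutes' := RingHom.congr_fun hcomp }
  have hginj : Function.Injective g := (φ.residueFieldMap x).hom.injective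
  have hle : Module.finrank k (Y.residueField (φ.base x)) ≤ Module.finrank k (X.residueField x) :=
    LinearMap.finrank_le_finrank_of_injective (f := g.toLinearMap) hginj
  refine ⟨Nat.cast_le.2 hle, ?_, fun hinj => ?_⟩
  · rw [Nat.cast_inj]
    constructor
    · intro h
      exact ⟨hginj, (LinearMap.injective_iff_surjective_of_finrank_eq_finrank h (f := g.toLinearMap)).1 hginj⟩
    · intro h
      exact (LinearEquiv.ofBijective g.toLinearMap h).finrank_eq
  · refine le_antisymm (Nat.cast_le.2 hle) ?_
    have h3 : φbar.base '' ((pullback.fst sX _).base ⁻¹' {x}) ⊆ (pullback.fst sY _).base ⁻¹' {φ.base x} := by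
      rintro _ ⟨p, hp, rfl⟩
      show (pullback.fst sY _).base (φbar.base p) = φ.base x
      rw [← Scheme.Hom.comp_apply, h1, Scheme.Hom.comp_apply]
      exact congrArg φ.base hp
    have h4 := Set.encard_mono h3
    rw [hinj.encard_image, fibre_card sY _ hy, fibre_card sX _ hx] at h4
    exact h4

end Groth.Agent.S15086
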