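import Groth.Statements.S15087
import Mathlib
import Groth.Agent.WeilLib.Trdeg
open scoped TensorProduct

set_option autoImplicit false
universe u v w
open MovLem

set_option maxHeartbeats 1600000
namespace Groth.Agent.S15087


variable {k : Type u} [Field k]

/-- An algebra integral over a ring of dimension `e` has dimension at most `e`. -/
theorem dim_le_of_isIntegral (R B : Type*) [CommRing R] [CommRing B] [Algebra R B] [Algebra.IsIntegral R B] :
    ringKrullDim B ≤ ringKrullDim R := by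
  refine Order.krullDim_le_of_strictMono (PrimeSpectrum.comap (algebraMap R B)) fun p q hpq => ?_
  obtain ⟨x, hxq, hxp⟩ := SetLike.exists_of_lt (show p.asIdeal < q.asIdeal from hpq)
  exact Ideal.comap_lt_comap_of_integral_mem_sdiff hpq.le ⟨hxq, hxp⟩ (Algebra.IsIntegral.isIntegral x)

/-- Fewer than `n` independent elements live in a finitely generated algebra of dimension less than `n`. -/
theorem exists_kills {B : Type u} [CommRing B] [Algebra k B] [Algebra.FiniteType k B] {n : ℕ} (hn : 1 ≤ n)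
    (hB : ringKrullDim B ≤ (n - 1 : ℕ)) (g : Fin n → B) :
    ∃ h : MvPolynomial (Fin n) k, h ≠ 0 ∧ MvPolynomial.aeval g h = 0 := by
  by_contra hne
  push Not at hne
  have hdis : Disjoint ((⊥ : Ideal B) : Set B) ((nonZeroDivisors (MvPolynomial (Fin n) k)).map (MvPolynomial.aeval g).toRingHom) := by
    rw [Set.disjoint_left]
    rintro _ h0 ⟨h, hh, rfl⟩
    exact hne h (nonZeroDivisors.ne_zero hh) h0
  obtain ⟨p, hp, -, hpd⟩ := Ideal.exists_le_prime_disjoint _ _ hdis
  haveI := hp
  have hind : AlgebraicIndependent k fun i => algebraMap (B ⧸ p) (FractionRing (B ⧸ p)) (Ideal.Quotient.mk p (g i)) := by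
    let f : B →ₐ[k] FractionRing (B ⧸ p) := (IsScalarTower.toAlgHom k (B ⧸ p) (FractionRing (B ⧸ p))).comp (Ideal.Quotient.mkₐ k p)
    refine algebraicIndependent_iff.2 fun h hh => ?_
    have h1 : f (MvPolynomial.aeval g h) = 0 := (MvPolynomial.comp_aeval_apply g f h).trans hh
    have h2 : MvPolynomial.aeval g h ∈ p := Ideal.Quotient.eq_zero_iff_mem.1 (IsFractionRing.injective (B ⧸ p) (FractionRing (B ⧸ p)) (h1.trans (map_zero _).symm))
    by_contra h0
    exact Set.disjoint_left.1 hpd h2 ⟨h, mem_nonZeroDivisors_of_ne_zero h0, rfl⟩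
  obtain ⟨e, he, hdim⟩ := Groth.Agent.WeilLib.exists_dim_eq_trdeg (k := k)
    (IsScalarTower.toAlgHom k (B ⧸ p) (FractionRing (B ⧸ p))) (IsFractionRing.injective (B ⧸ p) _) fun z => by
      obtain ⟨⟨b, d⟩, hbd⟩ := IsLocalization.surj (nonZeroDivisors (B ⧸ p)) z
      exact ⟨b, d, fun h => nonZeroDivisors.coe_ne_zero d (IsFractionRing.injective (B ⧸ p) (FractionRing (B ⧸ p)) (h.trans (map_zero _).symm)), hbd⟩
  have h1 := hind.lift_cardinalMk_le_trdeg
  simp [he] at h1
  have h2 : (e : WithBot ℕ∞) ≤ (n - 1 : ℕ) :=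
    hdim ▸ (ringKrullDim_le_of_surjective (Ideal.Quotient.mk p) Ideal.Quotient.mk_surjective).trans hB
  rw [Nat.cast_le] at h2
  omega

theorem exists_h0 {R0 LP : Type u} [CommRing R0] [CommRing LP] [Algebra k R0] [Algebra k LP] [Algebra.FiniteType k R0]
    [Algebra.FiniteType k LP] [Algebra.IsIntegral k LP] {r : ℕ} (hr : 1 ≤ r) (hJ : ringKrullDim R0 ≤ (r - 1 : ℕ))
    (x : Fin r → R0) (u : R0) (xi : Fin r → LP) (N : ℕ) :
    ∃ h : MvPolynomial (Fin r) k, h ≠ 0 ∧ ∀ (L : Type w) [Field L] [Algebra k L] (eR : R0 →ₐ[k] L) (eP : LP →ₐ[k] L),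
      MvPolynomial.aeval (fun i => (eR (x i) - eP (xi i)) * eR u ^ N) h = 0 := by
  haveI : Algebra.FiniteType k (TensorProduct k R0 LP) := Algebra.FiniteType.trans (R := k) (S := R0) ‹_› inferInstance
  haveI : Algebra.IsIntegral R0 (TensorProduct k R0 LP) := inferInstance
  obtain ⟨h, h0, hh⟩ := exists_kills (k := k) (B := TensorProduct k R0 LP) hr
    ((dim_le_of_isIntegral R0 (TensorProduct k R0 LP)).trans hJ)
    (fun i => ((x i) ⊗ₜ[k] (1 : LP) - (1 : R0) ⊗ₜ[k] (xi i)) * (u ⊗ₜ[k] (1 : LP)) ^ N)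
  refine ⟨h, h0, fun L _ _ eR eP => ?_⟩
  have h2 := congrArg (Algebra.TensorProduct.lift eR eP fun _ _ => Commute.all _ _) hh
  rw [MvPolynomial.comp_aeval_apply, map_zero] at h2
  simpa using h2

/-- The polynomial avoiding one point and one face. -/
theorem exists_h {r : ℕ} {V : Type} [Finite V] (hr : 1 ≤ r) (N : ℕ) (t : V) (J : Ideal (MvPolynomial (Fin r ⊕ V) k))
    (hJ : ringKrullDim (MvPolynomial (Fin r ⊕ V) k ⧸ J) ≤ (r - 1 : ℕ))
    (htJ : J ⊔ Ideal.span {MvPolynomial.X (Sum.inr t)} = ⊤)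
    (P : Ideal (MvPolynomial (Fin r) k)) [P.IsMaximal] :
    ∃ h : MvPolynomial (Fin r) k, h ≠ 0 ∧ ∀ (L : Type w) [Field L] [Algebra k L] (ξ γ : Fin r → L) (z : V → L),
      (∀ p ∈ P, MvPolynomial.aeval ξ p = 0) →
      (∀ q ∈ J, MvPolynomial.aeval (Sum.elim (fun i => ξ i + z t ^ N * γ i) z) q = 0) → MvPolynomial.aeval γ h = 0 := by
  letI := Ideal.Quotient.field P
  haveI : Algebra.IsIntegral k (MvPolynomial (Fin r) k ⧸ P) := by
    refine ⟨fun x => ?_⟩
    have h0 : ((Ideal.Quotient.mk P).comp MvPolynomial.C).IsIntegral :=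
      MvPolynomial.comp_C_integral_of_surjective_of_isJacobsonRing (Ideal.Quotient.mk P) Ideal.Quotient.mk_surjective
    exact h0 x
  obtain ⟨a, ha, w, hw, haw⟩ := Submodule.mem_sup.1 (htJ.symm ▸ Submodule.mem_top : (1 : MvPolynomial (Fin r ⊕ V) k) ∈ J ⊔ Ideal.span {MvPolynomial.X (Sum.inr t)})
  obtain ⟨U, rfl⟩ := Ideal.mem_span_singleton'.1 hw
  obtain ⟨h, h0, hh⟩ := exists_h0.{u, w} (k := k) (R0 := MvPolynomial (Fin r ⊕ V) k ⧸ J) (LP := MvPolynomial (Fin r) k ⧸ P) hr hJ
    (fun i => Ideal.Quotient.mk J (MvPolynomial.X (Sum.inl i))) (Ideal.Quotient.mk J U)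
    (fun i => Ideal.Quotient.mk P (MvPolynomial.X i)) N
  refine ⟨h, h0, fun L _ _ ξ γ z hP hz => ?_⟩
  have h2 := hh L (Ideal.Quotient.liftₐ J (MvPolynomial.aeval (Sum.elim (fun i => ξ i + z t ^ N * γ i) z)) hz)
    (Ideal.Quotient.liftₐ P (MvPolynomial.aeval ξ) hP)
  have hU : MvPolynomial.aeval (Sum.elim (fun i => ξ i + z t ^ N * γ i) z) U * z t = 1 := by
    have h1 := congrArg (MvPolynomial.aeval (Sum.elim (fun i => ξ i + z t ^ N * γ i) z)) haw
    rwa [map_add, map_mul, hz a ha, zero_add, MvPolynomial.aeval_X, map_one, Sum.elim_inr] at h1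
  convert h2 using 3
  funext i
  show γ i = (MvPolynomial.aeval _ (MvPolynomial.X (Sum.inl i)) - MvPolynomial.aeval ξ (MvPolynomial.X i)) *
    MvPolynomial.aeval (Sum.elim (fun i => ξ i + z t ^ N * γ i) z) U ^ N
  rw [MvPolynomial.aeval_X, MvPolynomial.aeval_X, Sum.elim_inl, add_sub_cancel_left, mul_comm (z t ^ N), mul_assoc, ← mul_pow,
    mul_comm (z t), hU, one_pow, mul_one]

/-- Let k be an infinite perfect field, r, m, s ≥ 1 and d ≥ 0, and put N = s(m+1). In affine space with
coordinates x_1, …, x_r, t, y_1, …, y_d (the cube of dimension d taken as affine d-space with faces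
given by setting some coordinates equal to 0 or 1), let Z = V(I) be an integral closed subscheme of
dimension r which does not meet the hyperplane t = 0 and which meets every face {y_i = ε_i for i ∈
S} (S nonempty, ε_i ∈ {0, 1}) in dimension at most r − |S|. Let Σ be a finite set of closed points
of affine r-space over k. Then there is a nonzero polynomial h in k[g_1, …, g_r] such that for every
field K over k and every g ∈ K^r with h(g) ≠ 0, the translate of Z_K by x ↦ x + t^N g meets no set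
{x ∈ Σ} × A^1 × F with F a proper face: for every field L over K, every point ξ of affine r-space
over L lying on a point of Σ, every t ∈ L and every y ∈ L^d lying on a proper face, the point (ξ +
t^N g, t, y) is not a zero of I. (The published statement assumes that Z is an irreducible
admissible additive cycle meeting the faces through Σ properly; the two consequences of
admissibility that its proof uses — Z misses t = 0, and Z meets all faces properly — are the
hypotheses here, and the dense open subset of affine r-space is given as the locus h ≠ 0.) -/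
theorem result
    {k : Type u} [Field k] [Infinite k] [PerfectField k] (r m s d : ℕ) (hr : 1 ≤ r) (hm : 1 ≤ m) (hs : 1 ≤ s)
    (I : Ideal (MvPolynomial (Fin r ⊕ (Unit ⊕ Fin d)) k)) (hI : I.IsPrime)
    (hdim : ringKrullDim (MvPolynomial (Fin r ⊕ (Unit ⊕ Fin d)) k ⧸ I) = r)
    (ht0 : I ⊔ Ideal.span {MvPolynomial.X (Sum.inr (Sum.inl ()))} = ⊤)
    (hface : ∀ (S : Finset (Fin d)), S.Nonempty → ∀ (ε : Fin d → k), (∀ i, ε i = 0 ∨ ε i = 1) →
      ringKrullDim (MvPolynomial (Fin r ⊕ (Unit ⊕ Fin d)) k ⧸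
        (I ⊔ Ideal.span ((fun i => MvPolynomial.X (Sum.inr (Sum.inr i)) - MvPolynomial.C (ε i)) '' (S : Set (Fin d))))) ≤ (r - S.card : ℕ))
    (Sigma : Finset (Ideal (MvPolynomial (Fin r) k))) (hSigma : ∀ P ∈ Sigma, P.IsMaximal) :
    ∃ h : MvPolynomial (Fin r) k, h ≠ 0 ∧
      ∀ (K : Type v) [Field K] [Algebra k K] (g : Fin r → K), MvPolynomial.aeval g h ≠ 0 →
        ∀ (L : Type w) [Field L] [Algebra k L] [Algebra K L] [IsScalarTower k K L]
          (ξ : Fin r → L) (t : L) (y : Fin d → L),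
          ∀ P ∈ Sigma, (∀ p ∈ P, MvPolynomial.aeval ξ p = 0) →
            ∀ (S : Finset (Fin d)), S.Nonempty → ∀ (ε : Fin d → k), (∀ i, ε i = 0 ∨ ε i = 1) →
              (∀ i ∈ S, y i = algebraMap k L (ε i)) →
                ¬ (∀ q ∈ I, MvPolynomial.aeval
                    (Sum.elim (fun i => ξ i + t ^ (s * (m + 1)) * algebraMap K L (g i))
                      (Sum.elim (fun _ : Unit => t) y)) q = 0) := by
  classical
  let εb : (Fin d → Bool) → Fin d → k := fun b i => if b i then 1 else 0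
  let face : Finset (Fin d) → (Fin d → Bool) → Ideal (MvPolynomial (Fin r ⊕ (Unit ⊕ Fin d)) k) := fun S b =>
    I ⊔ Ideal.span ((fun i => MvPolynomial.X (Sum.inr (Sum.inr i)) - MvPolynomial.C (εb b i)) '' (S : Set (Fin d)))
  have hex : ∀ z : {P : Ideal (MvPolynomial (Fin r) k) // P ∈ Sigma} × {S : Finset (Fin d) // S.Nonempty} × (Fin d → Bool),
      ∃ h : MvPolynomial (Fin r) k, h ≠ 0 ∧ ∀ (L : Type w) [Field L] [Algebra k L] (ξ γ : Fin r → L) (y : Unit ⊕ Fin d → L),
        (∀ p ∈ (z.1 : Ideal (MvPolynomial (Fin r) k)), MvPolynomial.aeval ξ p = 0) →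
        (∀ q ∈ face z.2.1 z.2.2, MvPolynomial.aeval (Sum.elim (fun i => ξ i + y (Sum.inl ()) ^ (s * (m + 1)) * γ i) y) q = 0) →
        MvPolynomial.aeval γ h = 0 := by
    rintro ⟨⟨P, hP⟩, ⟨S, hS⟩, b⟩
    haveI := hSigma P hP
    refine exists_h hr _ (Sum.inl ()) (face S b) ?_ ?_ P
    · refine (hface S hS (εb b) fun i => ?_).trans (Nat.cast_le.2 (by have := hS.card_pos; omega))
      by_cases h : b i <;> simp [εb, h]
    · exact top_le_iff.1 (ht0.symm.le.trans (sup_le_sup_right le_sup_left _))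
  choose hF hne hkey using hex
  refine ⟨∏ z, hF z, Finset.prod_ne_zero_iff.2 fun z _ => hne z, fun K _ _ g hg L _ _ _ _ ξ t y P hPS hξ S hS ε hε hy hI0 => ?_⟩
  let b : Fin d → Bool := fun i => decide (ε i = 1)
  let z : {P : Ideal (MvPolynomial (Fin r) k) // P ∈ Sigma} × {S : Finset (Fin d) // S.Nonempty} × (Fin d → Bool) := (⟨P, hPS⟩, ⟨S, hS⟩, b)
  have hεb : ∀ i, εb b i = ε i := fun i => by
    rcases hε i with h | h <;> simp [εb, b, h]
  have h0 := hkey z L ξ (fun i => algebraMap K L (g i)) (Sum.elim (fun _ : Unit => t) y) hξ fun q hq => by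
    have hle : face S b ≤ RingHom.ker (MvPolynomial.aeval (R := k) (Sum.elim (fun i => ξ i + t ^ (s * (m + 1)) * algebraMap K L (g i))
        (Sum.elim (fun _ : Unit => t) y))).toRingHom := by
      refine sup_le (fun q hq => hI0 q hq) (Ideal.span_le.2 ?_)
      rintro _ ⟨i, hi, rfl⟩
      refine RingHom.mem_ker.2 ?_
      show MvPolynomial.aeval (R := k) _ _ = 0
      rw [map_sub, MvPolynomial.aeval_X, MvPolynomial.aeval_C, Sum.elim_inr, Sum.elim_inr, hεb, hy i hi, sub_self]
    exact RingHom.mem_ker.1 (hle hq)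
  refine hg ((algebraMap K L).injective ?_)
  rw [map_zero, ← MvPolynomial.aeval_algebraMap_apply, map_prod]
  exact Finset.prod_eq_zero (Finset.mem_univ z) h0

end Groth.Agent.S15087
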