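import Groth.Statements.S15088
import Mathlib

set_option autoImplicit false
universe u v
open MovLem

set_option maxHeartbeats 400000
namespace Groth.Agent.S15088


variable {k : Type u} [Field k] {r : ℕ}

/-- Polynomials in `g` with coefficients in `k[x]`, then in the variable `t`. -/
abbrev U0 (k : Type u) [Field k] (r : ℕ) := Polynomial (MvPolynomial (Fin r) (MvPolynomial (Fin r) k))

/-- `a ↦ a(x + t^N g)`. -/
noncomputable def shift (N : ℕ) : MvPolynomial (Fin r) k →ₐ[k] U0 k r :=
  MvPolynomial.aeval fun i => Polynomial.C (MvPolynomial.C (MvPolynomial.X i)) + Polynomial.X ^ N * Polynomial.C (MvPolynomial.X i)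

theorem sub_inj {E : Type*} [Field E] [Algebra k E] (c : E) (hc : c ≠ 0) (ξ : Fin r → E) :
    Function.Injective (MvPolynomial.aeval (R := k) fun i => MvPolynomial.C (ξ i) + MvPolynomial.C c * MvPolynomial.X i) := by
  let Φ : MvPolynomial (Fin r) E →ₐ[E] MvPolynomial (Fin r) E :=
    MvPolynomial.aeval fun i => MvPolynomial.C c⁻¹ * (MvPolynomial.X i - MvPolynomial.C (ξ i))
  have e : ∀ a, Φ (MvPolynomial.aeval (R := k) (fun i => MvPolynomial.C (ξ i) + MvPolynomial.C c * MvPolynomial.X i) a) =
      MvPolynomial.map (algebraMap k E) a := by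
    intro a
    induction a using MvPolynomial.induction_on with
    | C x => simp [Φ, MvPolynomial.algebraMap_eq, IsScalarTower.algebraMap_apply k E (MvPolynomial (Fin r) E)]
    | add p q hp hq => rw [map_add, map_add, hp, hq, map_add]
    | mul_X p i hp =>
      rw [map_mul, map_mul, hp, map_mul, MvPolynomial.map_X, MvPolynomial.aeval_X, map_add, map_mul, MvPolynomial.aeval_C,
        MvPolynomial.aeval_C, MvPolynomial.aeval_X, MvPolynomial.algebraMap_eq, ← mul_assoc (MvPolynomial.C c), ← map_mul,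
        mul_inv_cancel₀ hc, map_one, one_mul, add_sub_cancel]
  intro a b h
  exact MvPolynomial.map_injective (algebraMap k E) (algebraMap k E).injective (by rw [← e a, ← e b, h])

theorem no_zero {Ω : Type*} [Field Ω] [Algebra k Ω]
    (N : ℕ) (a : MvPolynomial (Fin r) k) (ha : a ≠ 0) (b : Polynomial k) (hb : b.coeff 0 ≠ 0)
    (ρ : U0 k r →ₐ[k] Ω) (hξ : ∀ i, IsIntegral k (ρ (Polynomial.C (MvPolynomial.C (MvPolynomial.X i)))))
    (haρ : ρ (shift N a) = 0) (hbρ : Polynomial.aeval (ρ Polynomial.X) b = 0)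
    (hinj : Function.Injective (MvPolynomial.aeval (R := k) fun i => ρ (Polynomial.C (MvPolynomial.X i)))) : False := by
  let ξ : Fin r → Ω := fun i => ρ (Polynomial.C (MvPolynomial.C (MvPolynomial.X i)))
  let γ : Fin r → Ω := fun i => ρ (Polynomial.C (MvPolynomial.X i))
  let τ : Ω := ρ Polynomial.X
  have hτ0 : τ ≠ 0 := fun h => hb (by
    have h1 : Polynomial.aeval τ b = 0 := hbρ
    rw [h, Polynomial.aeval_def, Polynomial.eval₂_at_zero] at h1
    exact (map_eq_zero _).1 h1)
  have hτ : IsIntegral k τ := (IsAlgebraic.isIntegral ⟨b, fun h => hb (by rw [h, Polynomial.coeff_zero]), hbρ⟩)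
  let E := IntermediateField.adjoin k (insert τ (Set.range ξ))
  haveI : Algebra.IsAlgebraic k E := IntermediateField.isAlgebraic_adjoin fun x hx => by
    rcases Set.mem_insert_iff.1 hx with rfl | ⟨i, rfl⟩
    exacts [hτ, hξ i]
  have hgE : AlgebraicIndependent E γ := AlgebraicIndependent.extendScalars (R := k) (hx := hinj) E
  let τ' : E := ⟨τ, IntermediateField.subset_adjoin k _ (Set.mem_insert _ _)⟩
  let ξ' : Fin r → E := fun i => ⟨ξ i, IntermediateField.subset_adjoin k _ (Set.mem_insert_of_mem _ ⟨i, rfl⟩)⟩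
  let ψ : MvPolynomial (Fin r) k →ₐ[k] MvPolynomial (Fin r) E :=
    MvPolynomial.aeval fun i => MvPolynomial.C (ξ' i) + MvPolynomial.C (τ' ^ N) * MvPolynomial.X i
  have e1 : ((MvPolynomial.aeval γ : MvPolynomial (Fin r) E →ₐ[E] Ω).restrictScalars k).comp ψ = ρ.comp (shift N) := by
    refine MvPolynomial.algHom_ext fun i => ?_
    show MvPolynomial.aeval γ (ψ (MvPolynomial.X i)) = ρ (shift N (MvPolynomial.X i))
    rw [MvPolynomial.aeval_X, shift, MvPolynomial.aeval_X, map_add, map_mul, MvPolynomial.aeval_C, MvPolynomial.aeval_C,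
      MvPolynomial.aeval_X, map_add, map_mul ρ, map_pow ρ]
    rfl
  have h0 : ψ a = 0 := hgE (by rw [map_zero]; exact (AlgHom.congr_fun e1 a).trans haρ)
  exact ha (sub_inj (τ' ^ N) (pow_ne_zero _ fun h => hτ0 (congrArg Subtype.val h)) ξ' (h0.trans (map_zero ψ).symm))

/-- A polynomial in `g` alone lying in the specialised ideal. -/
theorem exists_h {L : Type u} [Field L] [Algebra k L] [Algebra.IsIntegral k L] (π0 : MvPolynomial (Fin r) k →ₐ[k] L)
    (hπ0 : Function.Surjective π0) (N : ℕ) (a : MvPolynomial (Fin r) k) (ha : a ≠ 0)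
    (b : Polynomial k) (hb : b.coeff 0 ≠ 0) :
    ∃ h : MvPolynomial (Fin r) k, h ≠ 0 ∧ Polynomial.C (MvPolynomial.map MvPolynomial.C h) ∈
      Ideal.span {shift N a, Polynomial.aeval (Polynomial.X : U0 k r) b} ⊔ (RingHom.ker π0.toRingHom).map (Polynomial.C.comp MvPolynomial.C) := by
  by_contra hne
  push Not at hne
  let π : U0 k r →ₐ[k] Polynomial (MvPolynomial (Fin r) L) := Polynomial.mapAlgHom (MvPolynomial.mapAlgHom π0)
  have hπs : Function.Surjective π := Polynomial.map_surjective _ (MvPolynomial.map_surjective _ hπ0)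
  have hπk : RingHom.ker π.toRingHom = (RingHom.ker π0.toRingHom).map (Polynomial.C.comp MvPolynomial.C) := by
    show RingHom.ker (Polynomial.mapRingHom (MvPolynomial.map π0.toRingHom)) = _
    rw [Polynomial.ker_mapRingHom, MvPolynomial.ker_map, Ideal.map_map]
  let φ : MvPolynomial (Fin r) k →+* Polynomial (MvPolynomial (Fin r) L) :=
    π.toRingHom.comp (Polynomial.C.comp (MvPolynomial.map MvPolynomial.C))
  let IU := (Ideal.span {shift N a, Polynomial.aeval (Polynomial.X : U0 k r) b}).map π.toRingHom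
  have hdis : Disjoint (IU : Set (Polynomial (MvPolynomial (Fin r) L))) ((nonZeroDivisors (MvPolynomial (Fin r) k)).map φ) := by
    rw [Set.disjoint_left]
    rintro _ hI ⟨h, hh, rfl⟩
    refine hne h (nonZeroDivisors.ne_zero hh) ?_
    rw [← hπk, RingHom.ker_eq_comap_bot, ← Ideal.comap_map_of_surjective π.toRingHom hπs]
    exact hI
  obtain ⟨Q, hQ, hIQ, hQd⟩ := Ideal.exists_le_prime_disjoint _ _ hdis
  let ρ : U0 k r →ₐ[k] FractionRing (Polynomial (MvPolynomial (Fin r) L) ⧸ Q) :=
    (IsScalarTower.toAlgHom k (Polynomial (MvPolynomial (Fin r) L) ⧸ Q) _).comp ((Ideal.Quotient.mkₐ k Q).comp π)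
  have hρ : ∀ u, ρ u = 0 ↔ π u ∈ Q := fun u => by
    rw [← Ideal.Quotient.eq_zero_iff_mem]
    exact map_eq_zero_iff (algebraMap _ (FractionRing (Polynomial (MvPolynomial (Fin r) L) ⧸ Q))) (IsFractionRing.injective (Polynomial (MvPolynomial (Fin r) L) ⧸ Q) _)
  refine no_zero N a ha b hb ρ (fun i => ?_) ((hρ _).2 (hIQ ?_)) ?_ ?_
  · let FR := FractionRing (Polynomial (MvPolynomial (Fin r) L) ⧸ Q)
    let f : L →ₐ[k] FR := (IsScalarTower.toAlgHom k (Polynomial (MvPolynomial (Fin r) L) ⧸ Q) FR).comp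
      ((Ideal.Quotient.mkₐ k Q).comp (IsScalarTower.toAlgHom k L (Polynomial (MvPolynomial (Fin r) L))))
    have e1 : π (Polynomial.C (MvPolynomial.C (MvPolynomial.X i))) = Polynomial.C (MvPolynomial.C (π0 (MvPolynomial.X i))) := by
      simp [π]
    have e2 : ρ (Polynomial.C (MvPolynomial.C (MvPolynomial.X i))) = f (π0 (MvPolynomial.X i)) := by
      simp only [ρ, f, AlgHom.comp_apply]
      rw [e1]
      rfl
    rw [e2]
    exact (Algebra.IsIntegral.isIntegral (R := k) (π0 (MvPolynomial.X i))).map f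
  · exact Ideal.mem_map_of_mem _ (Ideal.subset_span (Set.mem_insert _ _))
  · rw [Polynomial.aeval_algHom_apply]
    exact (hρ _).2 (hIQ (Ideal.mem_map_of_mem _ (Ideal.subset_span (Set.mem_insert_of_mem _ rfl))))
  · rw [injective_iff_map_eq_zero]
    intro h hh
    by_contra h0
    have e : (MvPolynomial.aeval (R := k) fun i => ρ (Polynomial.C (MvPolynomial.X i))).toRingHom =
        ρ.toRingHom.comp (Polynomial.C.comp (MvPolynomial.map MvPolynomial.C)) := by
      refine MvPolynomial.ringHom_ext (fun c => ?_) (fun i => by simp)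
      show MvPolynomial.aeval _ (MvPolynomial.C c) = ρ (Polynomial.C (MvPolynomial.map MvPolynomial.C (MvPolynomial.C c)))
      rw [MvPolynomial.aeval_C, MvPolynomial.map_C,
        show (Polynomial.C (MvPolynomial.C (MvPolynomial.C c)) : U0 k r) = algebraMap k _ c from rfl, AlgHom.commutes]
    exact Set.disjoint_left.1 hQd ((hρ _).1 ((RingHom.congr_fun e h).symm.trans hh))
      ⟨h, mem_nonZeroDivisors_of_ne_zero h0, rfl⟩

/-- Let k be an infinite perfect field, r, m, s ≥ 1 and d ≥ 0, and put N = s(m+1). In affine space with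
coordinates x_1, …, x_r, t, y_1, …, y_d let Z = V(I) be an integral closed subscheme of dimension r
which does not meet t = 0 and such that neither the projection of Z to the x-coordinates nor its
projection to the t-line is dominant (I contains a nonzero polynomial in the x's alone and a nonzero
polynomial in t alone). Let Σ be a finite set of closed points of affine r-space over k. Then there
is a nonzero polynomial h in k[g_1, …, g_r] such that for every field K over k and every g ∈ K^r
with h(g) ≠ 0 the translate Z_g = {(x, t, y) : (x + t^N g, t, y) ∈ Z_K} of Z_K is empty over an open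
neighbourhood of the points of affine r-space over K lying over Σ: the closure of the image of Z_g
in affine r-space over K (the zero set of the contraction to K[x_1, …, x_r] of the ideal of Z_g)
contains no point lying over a point of Σ. (The published statement assumes that Z is an irreducible
admissible additive cycle meeting the faces through Σ properly; of this its proof uses only that Z
misses t = 0, which is a hypothesis here, and the dense open subset of affine r-space is given as
the locus h ≠ 0.) -/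
theorem result
    {k : Type u} [Field k] [Infinite k] [PerfectField k] (r m s d : ℕ) (hr : 1 ≤ r) (hm : 1 ≤ m) (hs : 1 ≤ s)
    (I : Ideal (MvPolynomial (Fin r ⊕ (Unit ⊕ Fin d)) k)) (hI : I.IsPrime)
    (hdim : ringKrullDim (MvPolynomial (Fin r ⊕ (Unit ⊕ Fin d)) k ⧸ I) = r)
    (ht0 : I ⊔ Ideal.span {MvPolynomial.X (Sum.inr (Sum.inl ()))} = ⊤)
    (hx : Ideal.comap (MvPolynomial.rename (Sum.inl : Fin r → Fin r ⊕ (Unit ⊕ Fin d)) :
        MvPolynomial (Fin r) k →ₐ[k] MvPolynomial (Fin r ⊕ (Unit ⊕ Fin d)) k) I ≠ ⊥)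
    (ht : Ideal.comap (MvPolynomial.rename (fun _ : Unit => (Sum.inr (Sum.inl ()) : Fin r ⊕ (Unit ⊕ Fin d))) :
        MvPolynomial Unit k →ₐ[k] MvPolynomial (Fin r ⊕ (Unit ⊕ Fin d)) k) I ≠ ⊥)
    (Sigma : Finset (Ideal (MvPolynomial (Fin r) k))) (hSigma : ∀ P ∈ Sigma, P.IsMaximal) :
    ∃ h : MvPolynomial (Fin r) k, h ≠ 0 ∧
      ∀ (K : Type v) [Field K] [Algebra k K] (g : Fin r → K), MvPolynomial.aeval g h ≠ 0 →
        ∀ P ∈ Sigma,
          Ideal.comap (MvPolynomial.rename (Sum.inl : Fin r → Fin r ⊕ (Unit ⊕ Fin d)) :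
              MvPolynomial (Fin r) K →ₐ[K] MvPolynomial (Fin r ⊕ (Unit ⊕ Fin d)) K)
            (Ideal.map (MvPolynomial.aeval
                (Sum.elim (fun i : Fin r => MvPolynomial.X (Sum.inl i) +
                    MvPolynomial.X (Sum.inr (Sum.inl ())) ^ (s * (m + 1)) * MvPolynomial.C (g i))
                  (fun j : Unit ⊕ Fin d => MvPolynomial.X (Sum.inr j))) :
                MvPolynomial (Fin r ⊕ (Unit ⊕ Fin d)) k →ₐ[k] MvPolynomial (Fin r ⊕ (Unit ⊕ Fin d)) K) I) ⊔
            Ideal.map (MvPolynomial.map (algebraMap k K) : MvPolynomial (Fin r) k →+* MvPolynomial (Fin r) K) P = ⊤ := by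
  classical
  obtain ⟨a, haI, ha⟩ := Submodule.exists_mem_ne_zero_of_ne_bot hx
  obtain ⟨bm, hbI, hbm⟩ := Submodule.exists_mem_ne_zero_of_ne_bot ht
  let T0 : MvPolynomial (Fin r ⊕ (Unit ⊕ Fin d)) k := MvPolynomial.X (Sum.inr (Sum.inl ()))
  let q : Polynomial k := MvPolynomial.aeval (fun _ : Unit => (Polynomial.X : Polynomial k)) bm
  have hq : Polynomial.aeval T0 q ∈ I := by
    have e : (Polynomial.aeval (R := k) T0).comp (MvPolynomial.aeval fun _ : Unit => (Polynomial.X : Polynomial k)) =
        MvPolynomial.rename (fun _ : Unit => (Sum.inr (Sum.inl ()) : Fin r ⊕ (Unit ⊕ Fin d))) :=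
      MvPolynomial.algHom_ext fun i => by simp [T0]
    exact (show (Polynomial.aeval (R := k) T0) q = _ from AlgHom.congr_fun e bm) ▸ Ideal.mem_comap.1 hbI
  have hq0 : q ≠ 0 := fun h => hbm ((MvPolynomial.uniqueAlgEquiv k Unit).injective (by rw [map_zero]; exact h))
  obtain ⟨q', hqq, hndvd⟩ := Polynomial.exists_eq_pow_rootMultiplicity_mul_and_not_dvd q hq0 0
  rw [map_zero, sub_zero] at hqq hndvd
  have hq'0 : q'.coeff 0 ≠ 0 := fun h => hndvd (Polynomial.X_dvd_iff.2 h)
  have hlc : q'.leadingCoeff ≠ 0 := Polynomial.leadingCoeff_ne_zero.2 fun h => hq'0 (by rw [h, Polynomial.coeff_zero])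
  let b : Polynomial k := q' * Polynomial.C q'.leadingCoeff⁻¹
  have hbmon : b.Monic := Polynomial.monic_mul_leadingCoeff_inv fun h => hq'0 (by rw [h, Polynomial.coeff_zero])
  have hb0 : b.coeff 0 ≠ 0 := by
    rw [Polynomial.coeff_mul_C]
    exact mul_ne_zero hq'0 (inv_ne_zero hlc)
  have hTI : T0 ∉ I := fun h => hI.ne_top (ht0 ▸ (sup_of_le_left ((Ideal.span_singleton_le_iff_mem _).2 h)).symm)
  have hbI' : Polynomial.aeval T0 b ∈ I := by
    rw [map_mul]
    refine I.mul_mem_right _ ?_
    rw [hqq, map_mul, map_pow, Polynomial.aeval_X] at hq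
    exact (hI.mem_or_mem hq).resolve_left fun h => hTI (hI.mem_of_pow_mem _ h)
  have hex : ∀ P : (Sigma : Set (Ideal (MvPolynomial (Fin r) k))), ∃ h : MvPolynomial (Fin r) k, h ≠ 0 ∧
      Polynomial.C (MvPolynomial.map MvPolynomial.C h) ∈ Ideal.span {shift (s * (m + 1)) a, Polynomial.aeval (Polynomial.X : U0 k r) b} ⊔
        (P : Ideal (MvPolynomial (Fin r) k)).map (Polynomial.C.comp MvPolynomial.C) := fun P => by
    haveI := hSigma P.1 P.2
    letI := Ideal.Quotient.field P.1
    haveI : Algebra.IsIntegral k (MvPolynomial (Fin r) k ⧸ P.1) := by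
      refine ⟨fun x => ?_⟩
      have h0 : ((Ideal.Quotient.mk P.1).comp MvPolynomial.C).IsIntegral :=
        MvPolynomial.comp_C_integral_of_surjective_of_isJacobsonRing (Ideal.Quotient.mk P.1) Ideal.Quotient.mk_surjective
      exact h0 x
    have h := exists_h (Ideal.Quotient.mkₐ k P.1) Ideal.Quotient.mk_surjective (s * (m + 1)) a ha b hb0
    rwa [show RingHom.ker (Ideal.Quotient.mkₐ k P.1).toRingHom = P.1 from Ideal.mk_ker] at h
  choose hP hne hmem using hex
  refine ⟨∏ P, hP P, Finset.prod_ne_zero_iff.2 fun P _ => hne P, fun K _ _ g hg P hPS => ?_⟩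
  have hgP : MvPolynomial.aeval g (hP ⟨P, hPS⟩) ≠ 0 := fun h =>
    hg (by rw [map_prod]; exact Finset.prod_eq_zero (Finset.mem_univ _) h)
  have hmemP := hmem ⟨P, hPS⟩
  generalize hP ⟨P, hPS⟩ = h at hgP hmemP
  generalize hN : s * (m + 1) = N at hmemP ⊢
  let θ : MvPolynomial (Fin r ⊕ (Unit ⊕ Fin d)) k →ₐ[k] MvPolynomial (Fin r ⊕ (Unit ⊕ Fin d)) K :=
    MvPolynomial.aeval (Sum.elim (fun i : Fin r => MvPolynomial.X (Sum.inl i) + MvPolynomial.X (Sum.inr (Sum.inl ())) ^ N * MvPolynomial.C (g i))
      (fun j : Unit ⊕ Fin d => MvPolynomial.X (Sum.inr j)))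
  show Ideal.comap (MvPolynomial.rename (Sum.inl : Fin r → Fin r ⊕ (Unit ⊕ Fin d)) : MvPolynomial (Fin r) K →ₐ[K] _) (Ideal.map θ I) ⊔ _ = ⊤
  let σ : U0 k r →+* Polynomial (MvPolynomial (Fin r) K) :=
    Polynomial.mapRingHom (MvPolynomial.eval₂Hom (MvPolynomial.map (algebraMap k K)) fun i => MvPolynomial.C (g i))
  let ρS : Polynomial (MvPolynomial (Fin r) K) →+* MvPolynomial (Fin r ⊕ (Unit ⊕ Fin d)) K :=
    Polynomial.eval₂RingHom (MvPolynomial.rename Sum.inl).toRingHom (MvPolynomial.X (Sum.inr (Sum.inl ())))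
  let J' : Ideal (Polynomial (MvPolynomial (Fin r) K)) := (Ideal.map θ I).comap ρS
  let PK : Ideal (MvPolynomial (Fin r) K) := Ideal.map (MvPolynomial.map (algebraMap k K)) P
  have hσC : ∀ p, σ (Polynomial.C (MvPolynomial.C p)) = Polynomial.C (MvPolynomial.map (algebraMap k K) p) := fun p => by
    simp [σ]
  have hρC : ∀ p, ρS (Polynomial.C p) = MvPolynomial.rename Sum.inl p := fun p => Polynomial.eval₂_C _ _
  have hρX : ρS Polynomial.X = MvPolynomial.X (Sum.inr (Sum.inl ())) := Polynomial.eval₂_X _ _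
  have hσX : σ Polynomial.X = Polynomial.X := Polynomial.map_X _
  have hA : ∀ p, ρS (σ (shift N p)) = θ (MvPolynomial.rename Sum.inl p) := by
    have e : (ρS.comp σ).comp (shift (k := k) (r := r) N).toRingHom = (θ.comp (MvPolynomial.rename Sum.inl)).toRingHom := by
      refine MvPolynomial.ringHom_ext (fun c => ?_) (fun i => ?_)
      · show ρS (σ (shift N (MvPolynomial.C c))) = θ (MvPolynomial.rename Sum.inl (MvPolynomial.C c))
        rw [shift, MvPolynomial.aeval_C, MvPolynomial.rename_C, MvPolynomial.aeval_C,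
          show algebraMap k (U0 k r) c = Polynomial.C (MvPolynomial.C (MvPolynomial.C c)) from rfl, hσC, MvPolynomial.map_C,
          hρC, MvPolynomial.rename_C]
        rfl
      · show ρS (σ (shift N (MvPolynomial.X i))) = θ (MvPolynomial.rename Sum.inl (MvPolynomial.X i))
        rw [shift, MvPolynomial.aeval_X, MvPolynomial.rename_X, MvPolynomial.aeval_X, Sum.elim_inl, map_add, map_mul, map_pow,
          hσX, hσC, MvPolynomial.map_X, map_add, hρC, MvPolynomial.rename_X, map_mul, map_pow, hρX,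
          show σ (Polynomial.C (MvPolynomial.X i)) = Polynomial.C (MvPolynomial.C (g i)) by simp [σ], hρC, MvPolynomial.rename_C]
    exact fun p => RingHom.congr_fun e p
  have hB : ρS (σ (Polynomial.aeval (Polynomial.X : U0 k r) b)) = θ (Polynomial.aeval T0 b) := by
    have e : (ρS.comp σ).comp (Polynomial.aeval (R := k) (Polynomial.X : U0 k r)).toRingHom = (θ.comp (Polynomial.aeval T0)).toRingHom := by
      refine Polynomial.ringHom_ext (fun c => ?_) ?_
      · show ρS (σ (Polynomial.aeval (Polynomial.X : U0 k r) (Polynomial.C c))) = θ (Polynomial.aeval T0 (Polynomial.C c))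
        rw [Polynomial.aeval_C, Polynomial.aeval_C, AlgHom.commutes,
          show algebraMap k (U0 k r) c = Polynomial.C (MvPolynomial.C (MvPolynomial.C c)) from rfl, hσC, MvPolynomial.map_C,
          hρC, MvPolynomial.rename_C]
        rfl
      · show ρS (σ (Polynomial.aeval (Polynomial.X : U0 k r) Polynomial.X)) = θ (Polynomial.aeval T0 Polynomial.X)
        rw [Polynomial.aeval_X, Polynomial.aeval_X, hσX, hρX, MvPolynomial.aeval_X, Sum.elim_inr]
    exact RingHom.congr_fun e b
  have hJ : ∀ u ∈ ({shift N a, Polynomial.aeval (Polynomial.X : U0 k r) b} : Set (U0 k r)), σ u ∈ J' := by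
    rintro u hu
    rcases hu with rfl | hu
    · show ρS (σ (shift N a)) ∈ Ideal.map θ I
      rw [hA]
      exact Ideal.mem_map_of_mem _ (Ideal.mem_comap.1 haI)
    · rw [Set.mem_singleton_iff.1 hu]
      show ρS (σ (Polynomial.aeval (Polynomial.X : U0 k r) b)) ∈ Ideal.map θ I
      rw [hB]
      exact Ideal.mem_map_of_mem _ hbI'
  have h1 : (1 : Polynomial (MvPolynomial (Fin r) K)) ∈ J' ⊔ PK.map Polynomial.C := by
    have h2 : σ (Polynomial.C (MvPolynomial.map MvPolynomial.C h)) ∈ J' ⊔ PK.map Polynomial.C := by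
      have h0 := Ideal.mem_map_of_mem σ hmemP
      rw [Ideal.map_sup] at h0
      refine (sup_le_sup (a := (Ideal.span {shift N a, Polynomial.aeval (Polynomial.X : U0 k r) b}).map σ) (b := J') (c := (P.map (Polynomial.C.comp MvPolynomial.C)).map σ) (d := PK.map Polynomial.C) ?_ ?_) h0
      · rw [Ideal.map_span, Ideal.span_le]
        rintro _ ⟨u, hu, rfl⟩
        exact hJ u hu
      · rw [Ideal.map_map, Ideal.map_le_iff_le_comap]
        intro p hp
        show σ (Polynomial.C (MvPolynomial.C p)) ∈ PK.map Polynomial.C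
        rw [hσC]
        exact Ideal.mem_map_of_mem _ (Ideal.mem_map_of_mem _ hp)
    have e : σ (Polynomial.C (MvPolynomial.map MvPolynomial.C h)) = Polynomial.C (MvPolynomial.C (MvPolynomial.aeval g h)) := by
      have e' : σ.comp (Polynomial.C.comp (MvPolynomial.map MvPolynomial.C)) =
          (Polynomial.C.comp MvPolynomial.C).comp (MvPolynomial.aeval g).toRingHom :=
        MvPolynomial.ringHom_ext (fun c => by simp [σ]) (fun i => by simp [σ])
      exact RingHom.congr_fun e' h
    rw [e] at h2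
    have h3 := Ideal.mul_mem_left (J' ⊔ PK.map Polynomial.C) (Polynomial.C (MvPolynomial.C (MvPolynomial.aeval g h)⁻¹)) h2
    rwa [← map_mul, ← map_mul, inv_mul_cancel₀ hgP, map_one, map_one] at h3
  haveI : Module.Finite (MvPolynomial (Fin r) K) (Polynomial (MvPolynomial (Fin r) K) ⧸ J') := by
    let bK : Polynomial (MvPolynomial (Fin r) K) := σ (Polynomial.aeval (Polynomial.X : U0 k r) b)
    have hmon : bK.Monic := by
      show (Polynomial.map _ (Polynomial.aeval (Polynomial.X : U0 k r) b)).Monic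
      refine Polynomial.Monic.map _ ?_
      rw [show Polynomial.aeval (Polynomial.X : U0 k r) b = b.map (algebraMap k (MvPolynomial (Fin r) (MvPolynomial (Fin r) k))) by
        rw [← Polynomial.aeval_map_algebraMap (MvPolynomial (Fin r) (MvPolynomial (Fin r) k)), Polynomial.aeval_X_left_apply]]
      exact hbmon.map _
    haveI := hmon.finite_quotient
    have hle : Ideal.span {bK} ≤ J' := (Ideal.span_singleton_le_iff_mem _).2 (hJ _ (Set.mem_insert_of_mem _ rfl))
    exact Module.Finite.of_surjective (Ideal.Quotient.factorₐ (MvPolynomial (Fin r) K) hle).toLinearMap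
      (Ideal.Quotient.factor_surjective hle)
  have htop : (⊤ : Submodule (MvPolynomial (Fin r) K) (Polynomial (MvPolynomial (Fin r) K) ⧸ J')) ≤ PK • ⊤ := by
    intro x _
    obtain ⟨x, rfl⟩ := Ideal.Quotient.mk_surjective x
    obtain ⟨j, hj, p, hp, hjp⟩ := Submodule.mem_sup.1 h1
    have e : Ideal.Quotient.mk J' x = Ideal.Quotient.mk J' (x * p) := by
      rw [Ideal.Quotient.eq, show x - x * p = x * j by rw [show j = 1 - p from eq_sub_of_add_eq hjp]; ring]
      exact J'.mul_mem_left _ hj
    rw [e]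
    have key : ∀ q ∈ PK.map Polynomial.C, ∀ y : Polynomial (MvPolynomial (Fin r) K),
        Ideal.Quotient.mk J' (y * q) ∈ PK • (⊤ : Submodule (MvPolynomial (Fin r) K) (Polynomial (MvPolynomial (Fin r) K) ⧸ J')) := by
      intro q hq
      refine Submodule.span_induction ?_ ?_ ?_ ?_ hq
      · rintro _ ⟨c, hc, rfl⟩ y
        rw [mul_comm, ← Polynomial.smul_eq_C_mul]
        exact Submodule.smul_mem_smul (N := (⊤ : Submodule (MvPolynomial (Fin r) K) _)) hc (Submodule.mem_top (x := Ideal.Quotient.mk J' y))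
      · intro y
        rw [mul_zero, map_zero]
        exact Submodule.zero_mem _
      · intro q q' _ _ hq hq' y
        rw [mul_add, map_add]
        exact Submodule.add_mem _ (hq y) (hq' y)
      · intro z q _ hq y
        rw [smul_eq_mul, ← mul_assoc]
        exact hq _
    exact key p hp x
  obtain ⟨c, hc, hkill⟩ := Submodule.exists_sub_one_mem_and_smul_eq_zero_of_fg_of_le_smul PK _ Module.Finite.fg_top htop
  have hcJ : Polynomial.C c ∈ J' := by
    have h2 := hkill (Ideal.Quotient.mk J' 1) Submodule.mem_top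
    have h3 : c • (1 : Polynomial (MvPolynomial (Fin r) K)) ∈ J' := (Submodule.Quotient.mk_eq_zero J').1 h2
    rwa [Polynomial.smul_eq_C_mul, mul_one] at h3
  rw [Ideal.eq_top_iff_one, show (1 : MvPolynomial (Fin r) K) = c + -(c - 1) by ring]
  refine Ideal.add_mem _ (Submodule.mem_sup_left ?_) (Submodule.mem_sup_right (neg_mem hc))
  show MvPolynomial.rename Sum.inl c ∈ Ideal.map θ I
  rw [← hρC]
  exact hcJ

end Groth.Agent.S15088
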