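import Groth.Statements.S1509
import Groth.Agent.PCMor.Scheme
import Groth.Agent.S15821
import Groth.Agent.S7070

set_option autoImplicit false
set_option linter.style.haveILetI false
set_option backward.isDefEq.respectTransparency false
open Groth.Agent
universe u
attribute [local instance] HasDerivedCategory.standard
open FlatMor

namespace Groth.Agent.S1509

open AlgebraicGeometry CategoryTheory Limits in
/-- A regular closed immersion (kernel ideal locally generated by a regular sequence) is a perfect
morphism. -/
theorem result {Z X : Scheme.{u}} (i : Z ⟶ X) (hi : Mor2.IsRegularClosedImmersion i) : MoreMor.IsPerfectMor i := by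
  haveI := hi.1
  refine PCMor.of_forall_exists (P := @MoreMor.IsPerfectMor) i PCMor.pf_locSource fun z => ?_
  obtain ⟨U, hU, hz, rs, hrs, hker⟩ := hi.2 z
  refine ⟨i ⁻¹ᵁ U, U, le_rfl, hU.preimage i, hU, hz, ?_⟩
  rw [Scheme.Hom.appLE_eq_app]
  have hsurj : Function.Surjective (i.app U).hom := i.app_surjective U hU
  refine PCMor.pf_of_surjective_pfHom hsurj ?_
  have hk : RingHom.ker (i.app U).hom = Ideal.ofList rs := by
    rw [← hker, Scheme.Hom.ker_apply]
  letI := (i.app U).hom.toAlgebra
  let e : (Γ(X, U) ⧸ Ideal.ofList rs) ≃ₗ[Γ(X, U)] Γ(Z, i ⁻¹ᵁ U) :=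
    { (Ideal.quotEquivOfEq hk.symm).trans (RingHom.quotientKerEquivOfSurjective hsurj) with
      map_smul' := fun c x => by
        obtain ⟨y, rfl⟩ := Ideal.Quotient.mk_surjective x
        exact map_mul (i.app U).hom c y }
  exact PCMor.perfectModule_of_equiv e (Groth.Agent.S7070.isPerfectModule_of_koszul rs
    (Groth.Agent.S15821.result Γ(X, U) rs hrs.toIsWeaklyRegular).1)

end Groth.Agent.S1509
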