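import Groth.Statements.S15098
import Groth.Agent.Nakai.NumConnected

set_option autoImplicit false
universe u
open CategoryTheory CategoryTheory.Limits AlgebraicGeometry TopologicalSpace
open Surf

namespace Groth.Agent.S15098

/-- Let k be an algebraically closed field, X a smooth projective surface over k (integral, proper and
smooth, of dimension 2) and D an effective Cartier divisor on X, given by its ideal sheaf I_D, which
is numerically positive: (D·D) > 0 and (D·Γ) ≥ 0 for every integral curve Γ ⊆ X, that is χ(O_Γ ⊗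
I_D) − χ(O_Γ) ≤ 0. Then D is numerically connected: whenever D = D₁ + D₂ with D₁, D₂ non-zero
effective Cartier divisors (I_D = I_{D₁}·I_{D₂} with both ideal sheaves different from O_X), (D₁·D₂)
> 0. Intersection numbers of divisors are computed on their ideal sheaves: (D₁·D₂) = χ(O_X) −
χ(I_{D₁}) − χ(I_{D₂}) + χ(I_{D₁} ⊗ I_{D₂}). (The published lemma sits in a positive-characteristic
setting; its argument does not use the characteristic, so none is assumed here.) -/
theorem result (k : Type u) [Field k] [IsAlgClosed k]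
    (X : Scheme.{u}) [X.Over (Spec (CommRingCat.of k))] [IsProper (X ↘ (Spec (CommRingCat.of k)))]
    [Smooth (X ↘ (Spec (CommRingCat.of k)))] [IsIntegral X] (hdim : topologicalKrullDim X = 2)
    (D : X.IdealSheafData) (hD : FGA.IsEffCartier D)
    (hpos : 0 < FGA.intNum k X 2 ![(ClSub.idealMod D), (ClSub.idealMod D)] (Coh.structureModule X))
    (hnef : ∀ Γ : X.IdealSheafData, IsIntegral Γ.subscheme → topologicalKrullDim (Γ.support : Set X) = 1 →
      Curv2.euler k X (CohB1.tensorMod (ClSub.quotMod Γ) (ClSub.idealMod D)) - Curv2.euler k X (ClSub.quotMod Γ) ≤ 0)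
    (D₁ D₂ : X.IdealSheafData) (hD₁ : FGA.IsEffCartier D₁) (hD₂ : FGA.IsEffCartier D₂)
    (hne₁ : D₁ ≠ ⊤) (hne₂ : D₂ ≠ ⊤) (hsum : D = D₁ * D₂) :
    0 < FGA.intNum k X 2 ![(ClSub.idealMod D₁), (ClSub.idealMod D₂)] (Coh.structureModule X) := by
  have hd : topologicalKrullDim X ≤ ((2 : ℕ) : WithBot ℕ∞) := hdim.le
  obtain ⟨A, a, hA, hma, ha, ⟨eA⟩⟩ := Groth.Agent.Nakai.exists_divisor_section hD₁ hne₁
  obtain ⟨B, b, hB, hmb, hb, ⟨eB⟩⟩ := Groth.Agent.Nakai.exists_divisor_section hD₂ hne₂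
  haveI := hma
  haveI := hmb
  have hI₁ := (Groth.Agent.S8914.result D₁).2 hD₁
  have hI₂ := (Groth.Agent.S8914.result D₂).2 hD₂
  have hI := (Groth.Agent.S8914.result D).2 hD
  have hAB : PicF.IsInvertible (CohB1.tensorMod A B) := TMul.isInvertible_tensorMod hA hB
  obtain ⟨e⟩ := Groth.Agent.Nakai.nonempty_idealMod_mul hD₁ hD₂
  rw [← hsum] at e
  have eD : Nonempty (CohB1.tensorMod (CohB1.tensorMod A B) (ClSub.idealMod D) ≅ Coh.structureModule X) :=
    ⟨PicGrp.tensorModIso (Iso.refl _) e.symm ≪≫ TMul.swapIso A B (ClSub.idealMod D₁) (ClSub.idealMod D₂) ≪≫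
      PicGrp.tensorModIso (TMul.commIso _ _ ≪≫ eA) (TMul.commIso _ _ ≪≫ eB) ≪≫ TMul.leftUnitIso _⟩
  have e1 : Nonempty (CohB1.tensorMod A (ClSub.idealMod D₁) ≅ Coh.structureModule X) := ⟨TMul.commIso _ _ ≪≫ eA⟩
  have e2 : Nonempty (CohB1.tensorMod B (ClSub.idealMod D₂) ≅ Coh.structureModule X) := ⟨TMul.commIso _ _ ≪≫ eB⟩
  have h1 : (0 : ℚ) < (FGA.intNum k X 2 ![ClSub.idealMod D, ClSub.idealMod D] (Coh.structureModule X) : ℚ) := by
    exact_mod_cast hpos
  rw [Groth.Agent.Nakai.intNum_eq_inter k hd, Groth.Agent.Nakai.inter_inv k hd hAB eD hI,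
    Groth.Agent.Nakai.inter_inv_right k hd hAB eD hAB, neg_neg] at h1
  have hn : Groth.Agent.Nakai.Nef k (CohB1.tensorMod A B) := by
    refine (Groth.Agent.Nakai.nef_iff_curves k hAB).2 fun C hC hC1 => ?_
    haveI := Groth.Agent.CurveRR.isNoetherian_of_proper k X
    have h3 := Groth.Agent.Intersect.alt_inverse k 1 (fun _ => CohB1.tensorMod A B) (fun _ => ClSub.idealMod D)
      (fun _ => hAB) (fun _ => hI) (fun _ => eD) _ (Groth.Agent.CurveRR.isCoh_idealMod C).2
      ((Groth.Agent.Nakai.dim_support_quotMod C).trans hC1).le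
    rw [← Groth.Agent.Nakai.D_replicate, ← Groth.Agent.Nakai.D_replicate, List.replicate_one, List.replicate_one,
      Groth.Agent.Nakai.D_one, Groth.Agent.Nakai.D_one, pow_one] at h3
    have h5 : (Curv2.euler k X (CohB1.tensorMod (ClSub.quotMod C) (ClSub.idealMod D)) : ℚ) ≤
        Curv2.euler k X (ClSub.quotMod C) := by exact_mod_cast (sub_nonpos.1 (hnef C hC hC1))
    have h6 : (Curv2.euler k X (ClSub.quotMod C) : ℚ) ≤
        Curv2.euler k X (CohB1.tensorMod (ClSub.quotMod C) (CohB1.tensorMod A B)) := by linarith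
    exact sub_nonneg.2 (by exact_mod_cast h6)
  have h2 := Groth.Agent.Nakai.inter_pos_of_sum k hdim hA hB a b ha hb hn h1
  have h4 : (0 : ℚ) < (FGA.intNum k X 2 ![ClSub.idealMod D₁, ClSub.idealMod D₂] (Coh.structureModule X) : ℚ) := by
    rw [Groth.Agent.Nakai.intNum_eq_inter k hd, Groth.Agent.Nakai.inter_inv k hd hA e1 hI₂,
      Groth.Agent.Nakai.inter_inv_right k hd hB e2 hA, neg_neg]
    exact h2
  exact_mod_cast h4

end Groth.Agent.S15098
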