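import Groth.Statements.S15099
import Groth.Agent.PlaneBlow.NumConnH0

set_option autoImplicit false
set_option linter.style.haveILetI false
universe u
open CategoryTheory CategoryTheory.Limits AlgebraicGeometry TopologicalSpace
open Surf

namespace Groth.Agent.S15099

/-- Let k be an algebraically closed field, X a smooth projective surface over k (integral, proper and
smooth, of dimension 2) and D a non-zero effective Cartier divisor on X (ideal sheaf I_D ≠ O_X)
which is numerically connected: whenever D = D₁ + D₂ with D₁, D₂ non-zero effective Cartier divisors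
(I_D = I_{D₁}·I_{D₂}, both different from O_X), (D₁·D₂) = χ(O_X) − χ(I_{D₁}) − χ(I_{D₂}) + χ(I_{D₁}
⊗ I_{D₂}) > 0. Then H⁰(D, O_D) = k, i.e. it is one-dimensional over k (computed on X through the
direct image of O_D). (The published lemma sits in a positive-characteristic setting; the printed
argument does not use the characteristic, so none is assumed here.) -/
theorem result (k : Type u) [Field k] [IsAlgClosed k]
    (X : Scheme.{u}) [X.Over (Spec (CommRingCat.of k))] [IsProper (X ↘ (Spec (CommRingCat.of k)))]
    [Smooth (X ↘ (Spec (CommRingCat.of k)))] [IsIntegral X] (hdim : topologicalKrullDim X = 2)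
    (D : X.IdealSheafData) (hD : FGA.IsEffCartier D) (hD0 : D ≠ ⊤)
    (hnc : ∀ D₁ D₂ : X.IdealSheafData, FGA.IsEffCartier D₁ → FGA.IsEffCartier D₂ → D₁ ≠ ⊤ → D₂ ≠ ⊤ →
      D = D₁ * D₂ → 0 < FGA.intNum k X 2 ![(ClSub.idealMod D₁), (ClSub.idealMod D₂)] (Coh.structureModule X)) :
    Module.finrank k (Coh.HH X (ClSub.quotMod D) 0) = 1 := by
  haveI : IsNoetherian X := CurveRR.isNoetherian_of_proper k X
  have hL : PicF.IsInvertible (Coh.structureModule X) := TMul.isInvertible_structureModule
  let e : ∀ I : X.IdealSheafData, CohB1.tensorMod (ClSub.quotMod I) (Coh.structureModule X) ≅ ClSub.quotMod I :=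
    fun I => TMul.commIso _ _ ≪≫ TMul.leftUnitIso _
  have hdeg : ∀ C : X.IdealSheafData, IsIntegral C.subscheme → topologicalKrullDim (C.support : Set X) = 1 → D ≤ C →
      Curv2.euler k X (CohB1.tensorMod (ClSub.quotMod C) (Coh.structureModule X)) -
        Curv2.euler k X (ClSub.quotMod C) ≤ 0 := fun C _ _ _ => by
    rw [CurveRR.euler_eq_of_iso (e C), sub_self]
  have h1 := PlaneBlow.h0_le_one k hdim hD hD0 hnc hL hdeg
  rw [CurveRR.h_eq_of_iso (e D)] at h1
  refine le_antisymm h1 (Nat.succ_le_of_lt ?_)
  refine Nakai.h0_pos_of_section k (s := ClSub.toSubscheme D) (CurveRR.isCoh_idealMod D).2 fun h0 => ?_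
  haveI : Epi (ClSub.toSubscheme D) := (CurveRR.ideal_shortExact D).epi_g
  refine PlaneBlow.not_isZero_quot_tensor (I := D) ?_ hL ((IsZero.of_epi_eq_zero _ h0).of_iso (e D))
  rw [Set.nonempty_iff_ne_empty]
  exact fun he => hD0 ((Scheme.IdealSheafData.support_eq_bot_iff D).1 (Closeds.ext he))

end Groth.Agent.S15099
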