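import Groth.Statements.S15100
import Mathlib.RingTheory.Kaehler.Basic
import Mathlib.RingTheory.Ideal.KrullsHeightTheorem
import Mathlib.RingTheory.KrullDimension.NonZeroDivisors
import Mathlib.Algebra.Module.Projective
import Mathlib.Algebra.Module.LocalizedModule.Exact
import Mathlib.LinearAlgebra.FreeModule.Finite.Basic

set_option autoImplicit false
universe u
open TensorProduct
open CAlg

namespace Groth.Agent.S15100

open TensorProduct

/-- A cokernel of `A → M` is not free where the image vanishes modulo the prime. -/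
theorem not_free {A M M' : Type u} [CommRing A] [IsDomain A] [AddCommGroup M] [Module A M]
    [AddCommGroup M'] [Module A M'] {ι : Type} [Fintype ι] (b : Module.Basis ι A M)
    (q : M →ₗ[A] M') (hq : Function.Surjective q) (m0 : M) (hker : LinearMap.ker q = Submodule.span A {m0})
    (h0 : m0 ≠ 0) (P : Ideal A) [P.IsPrime] (hP : ∀ i, b.repr m0 i ∈ P) :
    ¬ Module.Free (Localization.AtPrime P) (LocalizedModule P.primeCompl M') := by
  intro hfree
  let g := LocalizedModule.map P.primeCompl q
  have hg : Function.Surjective g := LocalizedModule.map_surjective _ q hq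
  obtain ⟨s, hs⟩ := Module.projective_lifting_property g LinearMap.id hg
  let f := LocalizedModule.mkLinearMap P.primeCompl M
  let r := LinearMap.id - s ∘ₗ g
  have hx0 : g (f m0) = 0 := by
    show LocalizedModule.map P.primeCompl q (LocalizedModule.mk m0 1) = 0
    rw [LocalizedModule.map_mk, show q m0 = 0 from LinearMap.mem_ker.1 (hker.ge (Submodule.mem_span_singleton_self m0)),
      LocalizedModule.zero_mk]
  have hrx : r (f m0) = f m0 := by simp [r, hx0]
  have hrange : ∀ z, ∃ c : Localization.AtPrime P, r z = c • f m0 := by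
    intro z
    have hz : g (r z) = 0 := by
      have := LinearMap.congr_fun hs (g z)
      simp only [LinearMap.comp_apply, LinearMap.id_apply] at this
      simp [r, this]
    obtain ⟨⟨y, t⟩, hy⟩ : ∃ p : M × P.primeCompl, LocalizedModule.mk p.1 p.2 = r z :=
      LocalizedModule.induction_on (fun y t => ⟨(y, t), rfl⟩) (r z)
    rw [← hy, LocalizedModule.map_mk, ← LocalizedModule.zero_mk t, LocalizedModule.mk_eq] at hz
    obtain ⟨w, hwy⟩ := hz
    simp only [smul_zero, Submonoid.smul_def, smul_smul] at hwy
    rw [← map_smul] at hwy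
    obtain ⟨c, hc⟩ := Submodule.mem_span_singleton.1 (hker.le (LinearMap.mem_ker.2 hwy))
    refine ⟨Localization.mk c (w * t * t), ?_⟩
    rw [← hy]
    show _ = Localization.mk c (w * t * t) • LocalizedModule.mk m0 1
    rw [LocalizedModule.mk_smul_mk, mul_one, LocalizedModule.mk_eq]
    exact ⟨1, by simp only [one_smul, Submonoid.smul_def, Submonoid.coe_mul]; rw [hc, smul_smul, mul_comm]⟩
  choose c hc using fun i => hrange (f (b i))
  let a := algebraMap A (Localization.AtPrime P)
  have hsum : f m0 = ∑ i, a (b.repr m0 i) • f (b i) := by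
    conv_lhs => rw [← b.sum_repr m0]
    rw [map_sum]
    refine Finset.sum_congr rfl fun i _ => ?_
    rw [map_smul, algebraMap_smul]
  have hfix : (∑ i, a (b.repr m0 i) * c i) • f m0 = f m0 := by
    conv_rhs => rw [← hrx, hsum, map_sum]
    rw [Finset.sum_smul]
    exact Finset.sum_congr rfl fun i _ => by rw [map_smul, hc, mul_smul]
  have hu : IsUnit (1 - ∑ i, a (b.repr m0 i) * c i) := by
    by_contra h
    refine Ideal.IsPrime.ne_top (inferInstance : (IsLocalRing.maximalIdeal (Localization.AtPrime P)).IsPrime)
      ((Ideal.eq_top_iff_one _).2 ?_)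
    rw [show (1 : Localization.AtPrime P) = (1 - ∑ i, a (b.repr m0 i) * c i) + ∑ i, a (b.repr m0 i) * c i by ring]
    exact add_mem h (sum_mem fun i _ => Ideal.mul_mem_right _ _
      ((IsLocalization.AtPrime.to_map_mem_maximal_iff _ P _).2 (hP i)))
  have : f m0 = 0 := by
    refine hu.smul_eq_zero.1 ?_
    rw [sub_smul, one_smul, hfix, sub_self]
  obtain ⟨t, ht, ht'⟩ := (LocalizedModule.mem_ker_mkLinearMap_iff (S := P.primeCompl)).1 (LinearMap.mem_ker.2 this)
  haveI : Module.Free A M := Module.Free.of_basis b
  rcases smul_eq_zero.1 ht' with h | h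
  · exact ht (h ▸ P.zero_mem)
  · exact h0 h

/-- Let V be a discrete valuation ring with uniformizer u and V → R → A commutative V-algebras with A an
R-algebra compatibly; assume A is a Noetherian local domain of Krull dimension 3 with u in its
maximal ideal, that Ω_{A/V} is a free A-module of rank 2 and that A ⊗_R Ω_{R/V} is a free A-module
of rank 1. Suppose that on the special fibre Ω_{A/R} is locally free exactly away from the closed
point: for every prime P of A containing u other than the maximal ideal the localization (Ω_{A/R})_P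
is free over A_P, while Ω_{A/R} is not free over A. Then Ω_{A/R} is not locally free on the generic
fibre: there is a prime Q of A not containing u with (Ω_{A/R})_Q not free over A_Q. (In the
published statement R is a regular local ring of dimension 2 and A a local ring of dimension 3, both
smooth over V, which yields the two freeness hypotheses used here, and the hypothesis is phrased as
local freeness of Ω of the special fibre of A over that of R away from the closed point.) -/
theorem result
    (V R A : Type u) [CommRing V] [IsDomain V] [IsDiscreteValuationRing V] [CommRing R] [CommRing A]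
    [IsDomain A] [IsNoetherianRing A] [IsLocalRing A]
    [Algebra V R] [Algebra V A] [Algebra R A] [IsScalarTower V R A]
    (u : V) (hu : Irreducible u) (huA : algebraMap V A u ∈ IsLocalRing.maximalIdeal A)
    (hdimA : ringKrullDim A = 3)
    (hΩA : Module.Free A (Ω[A⁄V])) (hrkA : Module.finrank A (Ω[A⁄V]) = 2)
    (hΩR : Module.Free A (A ⊗[R] Ω[R⁄V])) (hrkR : Module.finrank A (A ⊗[R] Ω[R⁄V]) = 1)
    (h0 : ∀ P : PrimeSpectrum A, algebraMap V A u ∈ P.asIdeal → P.asIdeal ≠ IsLocalRing.maximalIdeal A →
      Module.Free (Localization.AtPrime P.asIdeal) (LocalizedModule P.asIdeal.primeCompl (Ω[A⁄R])))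
    (hm : ¬ Module.Free A (Ω[A⁄R])) :
    ∃ Q : PrimeSpectrum A, algebraMap V A u ∉ Q.asIdeal ∧
      ¬ Module.Free (Localization.AtPrime Q.asIdeal) (LocalizedModule Q.asIdeal.primeCompl (Ω[A⁄R])) := by
  classical
  haveI : Module.Finite A (Ω[A⁄V]) := Module.finite_of_finrank_pos (by omega)
  haveI : Module.Finite A (A ⊗[R] Ω[R⁄V]) := Module.finite_of_finrank_pos (by omega)
  let b := Module.finBasisOfFinrankEq A (Ω[A⁄V]) hrkA
  let e := Module.finBasisOfFinrankEq A (A ⊗[R] Ω[R⁄V]) hrkR
  let m0 := KaehlerDifferential.mapBaseChange V R A (e 0)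
  let q := KaehlerDifferential.map V R A A
  have hq : Function.Surjective q := KaehlerDifferential.map_surjective _ _ _
  have hker : LinearMap.ker q = Submodule.span A {m0} := by
    rw [← KaehlerDifferential.range_mapBaseChange, LinearMap.range_eq_map, ← e.span_eq, Submodule.map_span,
      ← Set.range_comp, show Set.range (⇑(KaehlerDifferential.mapBaseChange V R A) ∘ ⇑e) = {m0} from by
        ext x; simp [Fin.exists_fin_one, m0, eq_comm]]
  have h0' : m0 ≠ 0 := by
    intro h
    refine hm (Module.Free.of_equiv (LinearEquiv.ofBijective q ⟨?_, hq⟩))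
    rw [← LinearMap.ker_eq_bot, hker, h, Submodule.span_singleton_eq_bot.2 rfl]
  let T : Finset A := {b.repr m0 0, b.repr m0 1}
  have hT : ∀ P : Ideal A, Ideal.span (T : Set A) ≤ P ↔ ∀ i, b.repr m0 i ∈ P := fun P => by
    simp [T, Ideal.span_le, Set.insert_subset_iff, Fin.forall_fin_two]
  have hne2 : ∀ i : Fin 2, (1 - i : Fin 2) ≠ i := by decide
  have hor : ∀ i j : Fin 2, j = i ∨ j = 1 - i := by decide
  have hTm : Ideal.span (T : Set A) ≤ IsLocalRing.maximalIdeal A := by
    by_contra hne
    rw [hT] at hne
    push Not at hne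
    obtain ⟨i, hi⟩ := hne
    rw [IsLocalRing.mem_maximalIdeal, mem_nonunits_iff, not_not] at hi
    obtain ⟨v, hv⟩ := hi
    -- some coordinate is a unit: the quotient is free on the other basis vector
    refine hm (Module.Free.of_equiv (LinearEquiv.ofBijective (q ∘ₗ LinearMap.toSpanSingleton A _ (b (1 - i))) ⟨?_, ?_⟩))
    · rw [injective_iff_map_eq_zero]
      intro x hx
      obtain ⟨y, hy⟩ := Submodule.mem_span_singleton.1 (hker.le (LinearMap.mem_ker.2 hx))
      have h1 := congrArg (fun z => b.repr z i) hy
      have h2 : (1 - i : Fin 2) ≠ i := hne2 i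
      simp [Finsupp.single_eq_of_ne (Ne.symm h2), ← hv] at h1
      rw [h1, zero_smul, LinearMap.toSpanSingleton_apply] at hy
      exact (smul_eq_zero.1 hy.symm).resolve_right (b.ne_zero _)
    · intro z
      obtain ⟨y, rfl⟩ := hq z
      refine ⟨b.repr y (1 - i) - b.repr y i * ↑v⁻¹ * b.repr m0 (1 - i), ?_⟩
      have key : y = (b.repr y (1 - i) - b.repr y i * ↑v⁻¹ * b.repr m0 (1 - i)) • b (1 - i) +
          (b.repr y i * ↑v⁻¹) • m0 := by
        refine b.repr.injective (Finsupp.ext fun j => ?_)
        have h2 : j = i ∨ j = 1 - i := hor i j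
        have h3 : (1 - i : Fin 2) ≠ i := hne2 i
        rcases h2 with rfl | rfl
        · simp [Finsupp.single_eq_of_ne (Ne.symm h3), ← hv]
        · simp
      conv_rhs => rw [key, map_add, map_smul q _ m0,
        LinearMap.mem_ker.1 (hker.ge (Submodule.mem_span_singleton_self m0)), smul_zero, add_zero]
      rfl
  by_contra hall
  push Not at hall
  have hrad : ∀ P : Ideal A, P.IsPrime → Ideal.span (T : Set A) ≤ P → P = IsLocalRing.maximalIdeal A := by
    intro P hP hTP
    by_contra hne
    refine not_free b q hq m0 hker h0' P ((hT P).1 hTP) ?_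
    by_cases huP : algebraMap V A u ∈ P
    · exact h0 ⟨P, hP⟩ huP hne
    · exact hall ⟨P, hP⟩ huP
  have h2 := ringKrullDim_le_ringKrullDim_quotient_add_card T (by
    rw [IsLocalRing.ringJacobson_eq_maximalIdeal]
    exact fun x hx => hTm (Ideal.subset_span hx))
  have hz : ringKrullDim (A ⧸ Ideal.span (T : Set A)) ≤ 0 := by
    rw [ringKrullDim_quotient, Order.krullDim_nonpos_iff_forall_isMax]
    rintro ⟨P, hP⟩ ⟨Q, hQ⟩ hPQ
    have hh : ∀ Z : PrimeSpectrum A, Z ∈ PrimeSpectrum.zeroLocus (Ideal.span (T : Set A) : Set A) →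
        Z.asIdeal = IsLocalRing.maximalIdeal A := fun Z hZ => hrad _ Z.isPrime hZ
    exact le_of_eq (Subtype.ext (PrimeSpectrum.ext ((hh _ hQ).trans (hh _ hP).symm)))
  have hc : T.card ≤ 2 := Finset.card_le_two
  rw [hdimA] at h2
  have h3 : (3 : WithBot ℕ∞) ≤ 0 + (2 : ℕ) := h2.trans (add_le_add hz (by exact_mod_cast hc))
  norm_num at h3

end Groth.Agent.S15100
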