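import Groth.Statements.S15104
import Groth.Agent.Castel.MinimalH1
import Groth.Agent.Castel.CurveOfModel

set_option autoImplicit false
universe u
open CategoryTheory CategoryTheory.Limits AlgebraicGeometry
open Models

set_option backward.isDefEq.respectTransparency false
set_option backward.isDefEq.respectTransparency.types false

namespace Groth.Agent.S15104

/-- Let R be a discrete valuation ring with algebraically closed residue field k and fraction field K, C
a smooth proper curve over K with H⁰(C, O_C) = K and dim_K H¹(C, O_C) = g ≥ 2, and X → Spec R a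
minimal regular model of C: a regular proper model none of whose vertical prime divisors is an
exceptional curve of the first kind. Let Γ₁, …, Γ_n enumerate the irreducible components of the
closed fibre, with multiplicities r_i having gcd 1, and suppose the closed fibre is not reduced
(some r_i ≥ 2). Then dim_k H¹((X_k)_red, O) < g, the left side computed as the R-length of H¹(X, O_X
/ I) for I the ideal sheaf of the reduced closed fibre. (The published lemma states this for any
regular model with gcd(r_i) = 1; its proof uses, in the last step, that the component added last is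
not an exceptional curve, the standing hypothesis of the result it serves, and the inequality fails
after blowing up a node of a reduced semi-stable fibre, so minimality is assumed here.) -/
theorem result
    (R : Type u) [CommRing R] [IsDomain R] [IsDiscreteValuationRing R]
    (hk : IsAlgClosed (IsLocalRing.ResidueField R))
    (C : Scheme.{u}) (fC : C ⟶ (Spec (CommRingCat.of (FractionRing R)))) [IsProper fC] [Smooth fC]
    (hC0 : Models.hRank (FractionRing R) C fC (Coh.structureModule C) 0 = 1)
    (g : ℕ) (hg2 : 2 ≤ g) (hg : Models.curveGenus (FractionRing R) C fC = g)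
    (X : Scheme.{u}) (p : X ⟶ (Spec (CommRingCat.of R))) (hX : Models.IsMinimalModel R X p C fC)
    {n : ℕ} (Γ : Fin n → ArSurf.VertComp R (Over.mk p)) (hΓ : Models.IsComponentList R (Over.mk p) Γ)
    (hgcd : Models.multGcd R (Over.mk p) Γ = 1) (hnr : ∃ i, 2 ≤ Models.mult R (Over.mk p) (Γ i)) :
    Models.lengthH R (Over.mk p) (ClSub.quotMod (Models.redFibreIdeal R (Over.mk p))) 1 < g := by
  have hH0 : IsIso fC.appTop := Castel.isIso_appTop_of_hRank hC0
  have hC : Curve.IsSmoothProperCurve (FractionRing R) C fC :=
    Castel.isSmoothProperCurve_of_model hH0 (by omega) hX.1 Γ hΓ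
  have hA := Castel.isArithSurface_of_regularProper hC hX.1
  have hred := Castel.redFibreIdeal_eq hA Γ hΓ
  have hgood := Castel.good_red hC hH0 hX.1 Γ hΓ
  have hH0k : Models.lengthH R (Over.mk p) (ClSub.quotMod (Models.redFibreIdeal R (Over.mk p))) 0 = 1 := by
    rw [hred]
    refine Castel.lengthH_one_of_surjective _ hgood ?_
    obtain ⟨hF, hfin, hker⟩ := hgood
    let ψ : IsLocalRing.ResidueField R →+* Γ((Castel.divI Γ fun _ => 1).subscheme, ⊤) :=
      Ideal.Quotient.lift _ (Castel.toΓ (Over.mk p) (Castel.divI Γ fun _ => 1)) hker
    letI := ψ.toAlgebra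
    letI := hF.toField
    haveI : Algebra.IsIntegral (IsLocalRing.ResidueField R) Γ((Castel.divI Γ fun _ => 1).subscheme, ⊤) := by
      have h : (ψ.comp (IsLocalRing.residue R)).Finite := hfin
      exact ⟨(RingHom.Finite.of_comp_finite h).to_isIntegral⟩
    haveI := hk
    intro y
    obtain ⟨x, hx⟩ := (IsAlgClosed.algebraMap_bijective_of_isIntegral (k := IsLocalRing.ResidueField R)).2 y
    obtain ⟨r, rfl⟩ := IsLocalRing.residue_surjective x
    exact ⟨r, hx⟩
  obtain ⟨-, h0, hlt⟩ := Castel.h1_red_facts hC hH0 Γ hX.1 hΓ hgcd hH0k
  refine (hlt hX.2 ?_).trans_eq ?_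
  · rw [Castel.fibreIdeal_eq_prod hA Γ hΓ.1 (Castel.componentList_cover hΓ), hred]
    intro h
    obtain ⟨i, hi⟩ := hnr
    have := congrFun (Castel.divI_injective hA Γ hΓ.1 h) i
    omega
  · have hχ := Castel.chiL_fibre hC hX.1
    rw [Castel.chiL, h0, hC0, hg] at hχ
    exact_mod_cast (sub_right_inj.1 hχ)

end Groth.Agent.S15104
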