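import Groth.Statements.S15115
import Groth.Agent.Comod.Reynolds

set_option autoImplicit false
universe u
open HopfRep

namespace Groth.Agent.S15115

open Groth.Agent.Comod TensorProduct Coalgebra

open TensorProduct in
/-- Let k be an algebraically closed field, H a finite-dimensional commutative Hopf algebra over k all
of whose finite-dimensional comodules are semisimple (a finite linearly reductive group scheme G
over k), A a commutative k-algebra, and M an A-module with an H-coaction that is A-linear (G acts on
M by A-module maps, A carrying the trivial action). Let A' be a commutative A-algebra and N = A' ⊗_A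
M its base change, exhibited by an A-linear map φ : M → N, with the induced coaction: A'-linear and
compatible with φ. Then invariants commute with this base change: writing M^G for the A-submodule of
coinvariant elements of M, the natural map A' ⊗_A M^G → N, a' ⊗ m ↦ a' φ(m), is injective and its
image is exactly the set of coinvariant elements of N. (The published statement is the isomorphism
ρ^* π_* F → π'_* σ^* F for a tame Deligne–Mumford stack with coarse moduli space π and any base
change ρ of the coarse space; this row is the statement about invariants to which its proof reduces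
it, for modules that need not be finitely generated.) -/
theorem result (k : Type u) [Field k] [IsAlgClosed k]
    (H : Type u) [CommRing H] [HopfAlgebra k H] [Module.Finite k H] (hred : HopfRep.IsLinearlyReductive k H)
    (A : Type u) [CommRing A] [Algebra k A]
    (M : Type u) [AddCommGroup M] [Module k M] [Module A M] [IsScalarTower k A M] [HopfRep.Comod k H M]
    (hlin : ∀ (a : A) (m : M), HopfRep.Comod.coact (k := k) (A := H) (a • m) = a • HopfRep.Comod.coact (k := k) (A := H) m)
    (A' : Type u) [CommRing A'] [Algebra k A'] [Algebra A A'] [IsScalarTower k A A']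
    (N : Type u) [AddCommGroup N] [Module k N] [Module A N] [Module A' N]
    [IsScalarTower k A N] [IsScalarTower A A' N] [IsScalarTower k A' N] [HopfRep.Comod k H N]
    (φ : M →ₗ[A] N) (hφ : IsBaseChange A' φ)
    (hcomp : ∀ m : M, HopfRep.Comod.coact (k := k) (A := H) (φ m) =
      LinearMap.rTensor H (φ.restrictScalars k) (HopfRep.Comod.coact (k := k) (A := H) m))
    (hlinN : ∀ (a' : A') (n : N), HopfRep.Comod.coact (k := k) (A := H) (a' • n) = a' • HopfRep.Comod.coact (k := k) (A := H) n)
    (P : Submodule A M) (hP : (P : Set M) = (HopfRep.fixedPts k H M : Set M)) :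
    Function.Injective (TensorProduct.lift (((Algebra.lsmul A A N : A' →ₐ[A] Module.End A N).toLinearMap).compl₂ (φ ∘ₗ P.subtype))) ∧
      Set.range (TensorProduct.lift (((Algebra.lsmul A A N : A' →ₐ[A] Module.End A N).toLinearMap).compl₂ (φ ∘ₗ P.subtype))) =
        (HopfRep.fixedPts k H N : Set N) := by
  classical
  obtain ⟨r⟩ := nonempty_integral hred
  let R₀ : M →ₗ[A] P :=
    { toFun := fun m => ⟨reynolds M r m, hP.ge (reynolds_mem r m)⟩
      map_add' := fun x y => Subtype.ext (map_add _ x y)
      map_smul' := fun a m => Subtype.ext (reynolds_smul r hlin a m) }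
  let L : A' ⊗[A] P →ₗ[A] N :=
    TensorProduct.lift (((Algebra.lsmul A A N : A' →ₐ[A] Module.End A N).toLinearMap).compl₂ (φ ∘ₗ P.subtype))
  show Function.Injective L ∧ Set.range L = _
  have hL : ∀ a p, L (a ⊗ₜ[A] p) = a • φ (p : M) := fun a p => rfl
  let G : N →ₗ[A] A' ⊗[A] P := R₀.lTensor A' ∘ₗ hφ.equiv.symm.toLinearMap.restrictScalars A
  have hφR : ∀ (a : A') (m : M), reynolds N r (a • φ m) = a • φ (reynolds M r m) := fun a m => by
    rw [reynolds_smul r hlinN]
    congr 1
    have hc : Hoch.IsComodHom H (φ.restrictScalars k) := LinearMap.ext hcomp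
    exact (reynolds_natural r hc m).symm
  have hGt : ∀ (a : A') (m : M), G (a • φ m) = a ⊗ₜ[A] R₀ m := fun a m => by
    show R₀.lTensor A' (hφ.equiv.symm (a • φ m)) = _
    rw [show hφ.equiv.symm (a • φ m) = a ⊗ₜ[A] m from
      hφ.equiv.injective (by rw [LinearEquiv.apply_symm_apply, hφ.equiv_tmul]), LinearMap.lTensor_tmul]
  have h1 : ∀ z, G (L z) = z := fun z => by
    induction z using TensorProduct.induction_on with
    | zero => simp
    | tmul a p =>
      rw [hL, hGt]
      exact congrArg (a ⊗ₜ[A] ·) (Subtype.ext (reynolds_of_mem r (hP.le p.2)))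
    | add x y hx hy => simp only [map_add, hx, hy]
  have h2 : ∀ n, L (G n) = reynolds N r n := fun n => by
    induction n using hφ.inductionOn with
    | zero => simp
    | tmul m =>
      rw [← one_smul A' (φ m), hGt, hL, hφR]
      rfl
    | smul a n hn =>
      obtain ⟨z, rfl⟩ := hφ.equiv.surjective n
      rw [← map_smul]
      clear hn
      generalize a • z = z'
      induction z' using TensorProduct.induction_on with
      | zero => simp
      | tmul b m => rw [hφ.equiv_tmul, hGt, hL, hφR]; rfl
      | add x y hx hy => simp only [map_add, hx, hy]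
    | add x y hx hy => simp only [map_add, hx, hy]
  refine ⟨Function.LeftInverse.injective h1, Set.ext fun n => ⟨?_, fun hn => ⟨G n, ?_⟩⟩⟩
  · rintro ⟨z, rfl⟩
    rw [← h1 z, h2]
    exact reynolds_mem r _
  · rw [h2, reynolds_of_mem r hn]

end Groth.Agent.S15115
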