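import Groth.Statements.S15116
import Mathlib

set_option autoImplicit false
universe u v
open NRGIT

namespace Groth.Agent.S15116

/-- Let k be a characteristic-zero field and A a commutative k-algebra, graded by the integers with all
pieces of positive degree zero, and D a k-derivation of A that raises degrees by a fixed positive
integer l. If no maximal ideal of A contains both every piece of negative degree and the image of D,
then there is f with D f = 1. (The published statement is for an affine variety with an action of
the semidirect product of the additive and multiplicative groups, the multiplicative group acting on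
the coordinate ring with non-positive weights and on the Lie algebra of the additive group with
positive weight: the derivation is a generator of that Lie algebra, the maximal ideals containing
the pieces of negative degree are the limit points under the multiplicative group, and a limit point
has trivial additive stabiliser exactly when the image of D is not contained in its ideal; this row
keeps only this algebraic content, for any such graded algebra. The first assertion of the published
lemma, that every point has a limit in the variety under the multiplicative group as t → 0, is not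
part of this row.) -/
theorem result (k : Type u) [Field k] [CharZero k]
    (A : Type v) [CommRing A] [Algebra k A] (𝒜 : ℤ → Submodule k A) [GradedAlgebra 𝒜]
    (hpos : ∀ i : ℤ, 0 < i → 𝒜 i = ⊥)
    (D : Derivation k A A) (l : ℤ) (hl : 0 < l)
    (hD : ∀ (i : ℤ) (a : A), a ∈ 𝒜 i → D a ∈ 𝒜 (i + l))
    (hfree : ∀ m : Ideal A, m.IsMaximal → (∀ i : ℤ, i < 0 → (𝒜 i : Set A) ⊆ m) → ∃ a : A, D a ∉ m) :
    ∃ f : A, D f = 1 := by
  classical
  open DirectSum in
  let z : A → A := fun x => (DirectSum.decompose 𝒜 x 0 : A)
  have zadd : ∀ x y, z (x + y) = z x + z y := fun x y => by simp [z]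
  have z0 : z 0 = 0 := by simp [z]
  have zs : ∀ x ∈ 𝒜 0, z x = x := fun x hx => DirectSum.decompose_of_mem_same _ hx
  have zn : ∀ i x, x ∈ 𝒜 i → i ≠ 0 → z x = 0 := fun i x hx hi => DirectSum.decompose_of_mem_ne _ hx hi
  have zero_pos : ∀ i x, x ∈ 𝒜 i → 0 < i → x = 0 := fun i x hx hi => by rw [hpos i hi] at hx; exact (Submodule.mem_bot k).1 hx
  have zmul : ∀ x y, z (x * y) = z x * z y := by
    intro x y
    induction x using DirectSum.Decomposition.inductionOn 𝒜 with
    | zero => simp [z0]
    | add x x' hx hx' => rw [add_mul, zadd, zadd, hx, hx', add_mul]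
    | @homogeneous i a =>
      induction y using DirectSum.Decomposition.inductionOn 𝒜 with
      | zero => simp [z0]
      | add y y' hy hy' => rw [mul_add, zadd, zadd, hy, hy', mul_add]
      | @homogeneous j b =>
        have hab : (a : A) * b ∈ 𝒜 (i + j) := SetLike.mul_mem_graded a.2 b.2
        rcases lt_trichotomy 0 i with hi | hi | hi
        · simp [zero_pos i a a.2 hi, z0]
        · subst hi
          rw [zs a a.2]
          by_cases hj : j = 0
          · subst hj; rw [zs b b.2, zs _ (by simpa using hab)]
          · rw [zn j b b.2 hj, zn _ _ hab (by simpa using hj), mul_zero]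
        · rw [zn i a a.2 hi.ne, zero_mul]
          rcases lt_or_ge 0 j with hj | hj
          · simp [zero_pos j b b.2 hj, z0]
          · exact zn _ _ hab (by omega)
  have hzmem : ∀ x, z x ∈ 𝒜 0 := fun x => (DirectSum.decompose 𝒜 x 0).2
  have hzD : ∀ a, z (D a) = D (DirectSum.decompose 𝒜 a (-l) : A) := by
    intro a
    induction a using DirectSum.Decomposition.inductionOn 𝒜 with
    | zero => simp [z0]
    | add a a' ha ha' => rw [map_add, zadd, ha, ha', DirectSum.decompose_add, DirectSum.add_apply, Submodule.coe_add, map_add]
    | @homogeneous i a =>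
      by_cases hi : i = -l
      · subst hi
        rw [DirectSum.decompose_of_mem_same _ a.2, zs _ (by simpa using hD _ a a.2)]
      · rw [DirectSum.decompose_of_mem_ne _ a.2 hi, map_zero, zn _ _ (hD _ a a.2) (by omega)]
  let I : Ideal A := Ideal.span ((fun a => D a) '' (𝒜 (-l) : Set A))
  let J : Ideal A :=
    { carrier := {x | z x ∈ I}
      add_mem' := fun {x y} hx hy => by show z (x + y) ∈ I; rw [zadd]; exact add_mem hx hy
      zero_mem' := by show z 0 ∈ I; rw [z0]; exact zero_mem I
      smul_mem' := fun c x hx => by show z (c * x) ∈ I; rw [zmul]; exact Ideal.mul_mem_left _ _ hx }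
  have hJ : J = ⊤ := by
    by_contra hne
    obtain ⟨m, hm, hJm⟩ := Ideal.exists_le_maximal J hne
    obtain ⟨a, ha⟩ := hfree m hm fun i hi x hx => hJm (show z x ∈ I by rw [zn i x hx hi.ne]; exact zero_mem I)
    exact ha (hJm (show z (D a) ∈ I by rw [hzD]; exact Ideal.subset_span ⟨_, (DirectSum.decompose 𝒜 a (-l)).2, rfl⟩))
  have h1 : (1 : A) ∈ I := by
    have := (Ideal.eq_top_iff_one _).1 hJ
    change z 1 ∈ I at this
    rwa [show z 1 = 1 from zs 1 SetLike.GradedOne.one_mem] at this
  have key : ∀ x ∈ I, ∃ f ∈ 𝒜 (-l), D f = z x := by
    intro x hx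
    induction hx using Submodule.span_induction with
    | mem y hy =>
      obtain ⟨f, hf, rfl⟩ := hy
      exact ⟨f, hf, (zs _ (by simpa using hD _ f hf)).symm⟩
    | zero => exact ⟨0, zero_mem _, by simp [z0]⟩
    | add x y _ _ hx hy =>
      obtain ⟨f, hf, hfe⟩ := hx
      obtain ⟨g, hg, hge⟩ := hy
      exact ⟨f + g, add_mem hf hg, by rw [map_add, hfe, hge, zadd]⟩
    | smul c x _ hx =>
      obtain ⟨f, hf, hfe⟩ := hx
      refine ⟨z c * f, by simpa using SetLike.mul_mem_graded (hzmem c) hf, ?_⟩
      have hdc : D (z c) = 0 := zero_pos (0 + l) _ (hD 0 _ (hzmem c)) (by omega)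
      rw [D.leibniz, hdc, smul_zero, add_zero, hfe, smul_eq_mul, smul_eq_mul, zmul]
  obtain ⟨f, -, hf⟩ := key 1 h1
  exact ⟨f, hf.trans (zs 1 SetLike.GradedOne.one_mem)⟩

end Groth.Agent.S15116
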