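import Groth.Statements.S7174
import Groth.Agent.PCMor.Stalk
import Groth.Agent.PCMor.Scheme

set_option autoImplicit false
set_option linter.style.haveILetI false
set_option backward.isDefEq.respectTransparency false
open Groth.Agent
universe u
attribute [local instance] HasDerivedCategory.standard
open FlatMor

namespace Groth.Agent.S7174

open AlgebraicGeometry CategoryTheory Limits in
/-- (1) ⇔ (3): for a pseudo-coherent f : X → S, f is perfect exactly when, at every point x of X, the
stalk O_{X,x}, viewed as a module over O_{S,f(x)} through the stalk map, is of finite tor dimension.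
(The intermediate condition on the structure sheaf as a sheaf of f⁻¹O_S-modules is not restated.) -/
theorem result {X S : Scheme.{u}} (f : X ⟶ S) (hf : MoreMor.IsPseudoCoherentMor f) :
    MoreMor.IsPerfectMor f ↔ ∀ x : X,
      (letI := (f.stalkMap x).hom.toAlgebra
       DRing.HasFiniteTorDim ↑(S.presheaf.stalk (f x)) ↑(X.presheaf.stalk x)) := by
  have key : ∀ (U : X.Opens) (V : S.Opens) (hUV : U ≤ f ⁻¹ᵁ V) (x : X) (hx : x ∈ U),
      (X.presheaf.germ U x hx).hom.comp (f.appLE V U hUV).hom =
        (f.stalkMap x).hom.comp (S.presheaf.germ V (f x) (hUV hx)).hom := fun U V hUV x hx => by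
    rw [← CommRingCat.hom_comp, ← CommRingCat.hom_comp, Scheme.Hom.germ_stalkMap, Scheme.Hom.appLE,
      Category.assoc, X.presheaf.germ_res]
  constructor
  · intro h x
    obtain ⟨U, V, hU, hV, hx, hUV, -⟩ := PCMor.exists_pair f x (W := ⊤) trivial
    have h1 : PCMor.TD (f.appLE V U hUV).hom := (h U V hU hV hUV).2
    have h2 : PCMor.TD (X.presheaf.germ U x hx).hom := by
      refine PCMor.td_of_flat ?_
      letI := TopCat.Presheaf.algebra_section_stalk X.presheaf ⟨x, hx⟩
      haveI := hU.isLocalization_stalk ⟨x, hx⟩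
      exact (IsLocalization.flat (X.presheaf.stalk x) (hU.primeIdealOf ⟨x, hx⟩).asIdeal.primeCompl :
        Module.Flat Γ(X, U) (X.presheaf.stalk x))
    have h3 := h1.comp h2
    rw [key U V hUV x hx] at h3
    letI := TopCat.Presheaf.algebra_section_stalk S.presheaf ⟨f x, hUV hx⟩
    haveI := hV.isLocalization_stalk ⟨f x, hUV hx⟩
    exact PCMor.TD.of_comp_localization (A := Γ(S, V)) (B := S.presheaf.stalk (f x))
      (hV.primeIdealOf ⟨f x, hUV hx⟩).asIdeal.primeCompl h3
  · intro h U V hU hV hUV
    refine PCMor.pf_of_localizations (hf U V hU hV hUV) fun q hq => ?_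
    have hmem : hU.fromSpec ⟨q, hq⟩ ∈ U :=
      hU.range_fromSpec.le ⟨⟨q, hq⟩, rfl⟩
    refine ⟨X.presheaf.stalk (hU.fromSpec ⟨q, hq⟩), inferInstance, (X.presheaf.germ U _ hmem).hom.toAlgebra,
      hU.isLocalization_stalk' ⟨q, hq⟩ hmem, ?_⟩
    show PCMor.TD ((X.presheaf.germ U _ hmem).hom.comp (f.appLE V U hUV).hom)
    rw [key U V hUV _ hmem]
    refine PCMor.TD.comp (PCMor.td_of_flat ?_) (h _)
    letI := TopCat.Presheaf.algebra_section_stalk S.presheaf ⟨_, hUV hmem⟩
    haveI := hV.isLocalization_stalk ⟨_, hUV hmem⟩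
    exact (IsLocalization.flat _ (hV.primeIdealOf ⟨_, hUV hmem⟩).asIdeal.primeCompl :
      Module.Flat Γ(S, V) (S.presheaf.stalk (f (hU.fromSpec ⟨q, hq⟩))))

end Groth.Agent.S7174
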