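import Groth.Statements.S1512
import Groth.Agent.PCMor.FppfSourceSch
import Groth.Agent.S7174

set_option autoImplicit false
set_option linter.style.haveILetI false
set_option backward.isDefEq.respectTransparency false
open Groth.Agent
universe u
attribute [local instance] HasDerivedCategory.standard
open FlatMor

namespace Groth.Agent.S1512

open AlgebraicGeometry CategoryTheory Limits in
/-- Let a : X' → X be flat, surjective and locally of finite presentation and f : X → S. Then f is
perfect if and only if a ≫ f is. -/
theorem result {X X' S : Scheme.{u}} (f : X ⟶ S) (a : X' ⟶ X) [Flat a] [Surjective a] [LocallyOfFinitePresentation a] :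
    MoreMor.IsPerfectMor f ↔ MoreMor.IsPerfectMor (a ≫ f) := by
  refine ⟨fun h => MorphismProperty.comp_mem @MoreMor.IsPerfectMor a f (PCMor.pfMor_of_flat_lfp a) h, fun h => ?_⟩
  have hpc : MoreMor.IsPseudoCoherentMor f :=
    PCMor.pcMor_of_fppf_source f a fun U V hU hV e => (h U V hU hV e).1
  refine (S7174.result f hpc).2 fun x => ?_
  obtain ⟨x', rfl⟩ := a.surjective x
  have h1 : PCMor.TD ((a ≫ f).stalkMap x').hom :=
    (S7174.result (a ≫ f) fun U V hU hV e => (h U V hU hV e).1).1 h x'
  rw [Scheme.Hom.stalkMap_comp, CommRingCat.hom_comp] at h1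
  refine PCMor.TD.of_comp_faithfullyFlat ?_ h1
  letI := (a.stalkMap x').hom.toAlgebra
  haveI : Module.Flat (X.presheaf.stalk (a x')) (X'.presheaf.stalk x') := Flat.stalkMap a x'
  haveI : IsLocalHom (algebraMap (X.presheaf.stalk (a x')) (X'.presheaf.stalk x')) :=
    inferInstanceAs (IsLocalHom (a.stalkMap x').hom)
  exact (Module.FaithfullyFlat.of_flat_of_isLocalHom : Module.FaithfullyFlat (X.presheaf.stalk (a x')) (X'.presheaf.stalk x'))

end Groth.Agent.S1512
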