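import Groth.Statements.S15121
import Mathlib

set_option linter.style.haveILetI false

set_option autoImplicit false
universe u v w
open InvQ

namespace Groth.Agent.S15121

/-- Let k be a field of characteristic zero and A a commutative k-algebra graded by a finitely generated
free abelian group Λ (the character group of a torus acting on Spec A) whose grading monoid is
positive: if the pieces of degrees w and −w are both non-zero then w = 0. Let δ be a locally
nilpotent k-derivation of A (an action of the additive group) that is homogeneous of degree d, with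
the piece of degree d equal to zero (the graded condition on the Lie algebra weight). Suppose that
no maximal ideal of A contains both all graded pieces of non-zero degree and the image of δ (every
torus-fixed closed point has trivial stabiliser under the additive group). Then δ has a homogeneous
slice: some s of degree −d with δ s = 1. (The published statement is for the coordinate ring of an
affine variety over an algebraically closed field of characteristic zero and concludes moreover that
the quotient map by the additive group is a trivial principal bundle, which follows from the slice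
by a standard argument not restated here; this row keeps the algebraic content, for any such graded
algebra.) -/
theorem result
    (k : Type u) [Field k] [CharZero k]
    (A : Type v) [CommRing A] [Algebra k A]
    (Λ : Type w) [AddCommGroup Λ] [DecidableEq Λ] [Module.Free ℤ Λ] [Module.Finite ℤ Λ]
    (𝒜 : Λ → Submodule k A) [GradedAlgebra 𝒜]
    (hpos : ∀ w : Λ, 𝒜 w ≠ ⊥ → 𝒜 (-w) ≠ ⊥ → w = 0)
    (δ : Derivation k A A) (hnil : ∀ a : A, ∃ n : ℕ, ((δ : A →ₗ[k] A) ^ n) a = 0)
    (d : Λ) (hhom : ∀ (w : Λ) (a : A), a ∈ 𝒜 w → δ a ∈ 𝒜 (w + d)) (hd : 𝒜 d = ⊥)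
    (hfix : ∀ m : Ideal A, m.IsMaximal → (∀ w : Λ, w ≠ 0 → (𝒜 w : Set A) ⊆ m) → ¬ (Set.range δ ⊆ m)) :
    ∃ s ∈ 𝒜 (-d), δ s = 1 := by
  classical
  let G : Set A := (⋃ w ∈ {w : Λ | w ≠ 0}, (𝒜 w : Set A)) ∪ Set.range δ
  have hI : Ideal.span G = ⊤ := by
    by_contra hne
    obtain ⟨m, hm, hle⟩ := Ideal.exists_le_maximal _ hne
    refine hfix m hm (fun w hw a ha => hle (Ideal.subset_span (Or.inl ?_))) ?_
    · exact Set.mem_iUnion₂.mpr ⟨w, hw, ha⟩
    · exact fun a ha => hle (Ideal.subset_span (Or.inr ha))
  let S : Submodule k A := Submodule.map (δ : A →ₗ[k] A) (𝒜 (-d))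
  have hδ0 : ∀ c ∈ 𝒜 0, δ c = 0 := fun c hc => (Submodule.eq_bot_iff _).mp hd _ (by simpa using hhom 0 c hc)
  have hbot : ∀ (w : Λ), w ≠ 0 → ∀ a ∈ 𝒜 w, ∀ b ∈ 𝒜 (-w), a * b = 0 := by
    intro w hw a ha b hb
    by_cases h : 𝒜 w = ⊥
    · rw [(Submodule.eq_bot_iff _).mp h a ha, zero_mul]
    by_cases h' : 𝒜 (-w) = ⊥
    · rw [(Submodule.eq_bot_iff _).mp h' b hb, mul_zero]
    exact absurd (hpos w h h') hw
  have key : ∀ g ∈ G, ∀ (u : Λ) (c : A), c ∈ 𝒜 u → GradedRing.proj 𝒜 0 (c * g) ∈ S := by
    intro g hg u c hc
    rw [GradedRing.proj_apply]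
    rcases hg with hg | ⟨x, rfl⟩
    · obtain ⟨w, hw, hgw⟩ := Set.mem_iUnion₂.mp hg
      by_cases h : u + w = 0
      · rw [show c * g = 0 by rw [mul_comm]; exact hbot w hw g hgw c (by rwa [show -w = u from (neg_eq_of_add_eq_zero_left h)])]
        simp
      · rw [DirectSum.decompose_of_mem_ne 𝒜 (SetLike.mul_mem_graded hc hgw) h]
        exact zero_mem _
    · induction x using DirectSum.Decomposition.inductionOn 𝒜 with
      | zero => simp
      | add x y hx hy =>
        rw [map_add, mul_add, DirectSum.decompose_add, DirectSum.add_apply, Submodule.coe_add]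
        exact add_mem hx hy
      | homogeneous x =>
        rename_i w
        have hmem := SetLike.mul_mem_graded hc (hhom w _ x.2)
        by_cases h : u + (w + d) = 0
        · by_cases hwd : w + d = 0
          · have hu : u = 0 := by rwa [hwd, add_zero] at h
            subst hu
            rw [DirectSum.decompose_of_mem_same 𝒜 (by rwa [h] at hmem)]
            refine ⟨c * (x : A), ?_, ?_⟩
            · rw [show -d = (0 : Λ) + w by rw [zero_add]; exact (eq_neg_of_add_eq_zero_left hwd).symm]
              exact SetLike.mul_mem_graded hc x.2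
            · show δ (c * (x : A)) = _
              rw [Derivation.leibniz, hδ0 c hc, smul_zero, add_zero, smul_eq_mul]
          · rw [mul_comm, hbot (w + d) hwd _ (hhom w _ x.2) c (by rwa [show -(w + d) = u from neg_eq_of_add_eq_zero_left h])]
            simp
        · rw [DirectSum.decompose_of_mem_ne 𝒜 hmem h]
          exact zero_mem _
  have h1 : GradedRing.proj 𝒜 0 (1 : A) ∈ S := by
    suffices ∀ a ∈ Ideal.span G, ∀ c : A, GradedRing.proj 𝒜 0 (c * a) ∈ S by
      simpa using this 1 (hI ▸ trivial) 1
    intro a ha
    induction ha using Submodule.span_induction with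
    | mem g hg =>
      intro c
      induction c using DirectSum.Decomposition.inductionOn 𝒜 with
      | zero => simp
      | homogeneous c => exact key g hg _ _ c.2
      | add a b ha hb => rw [add_mul, map_add]; exact add_mem ha hb
    | zero => intro c; simp
    | add a b _ _ ha hb => intro c; rw [mul_add, map_add]; exact add_mem (ha c) (hb c)
    | smul r a _ ha => intro c; rw [smul_eq_mul, ← mul_assoc]; exact ha (c * r)
  rw [GradedRing.proj_apply, DirectSum.decompose_of_mem_same 𝒜 SetLike.GradedOne.one_mem] at h1
  obtain ⟨s, hs, hs1⟩ := h1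
  exact ⟨s, hs, hs1⟩

end Groth.Agent.S15121
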