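import Groth.Statements.S15123
import Groth.Agent.HMCrit.Grading
-- import your own Groth.Agent.* helpers here

set_option autoImplicit false
universe u v w
open InvQ

namespace Groth.Agent.S15123

/-- Let k be an algebraically closed field of characteristic zero, Λ a finitely generated free abelian
group and k[Λ] its group algebra, the coordinate Hopf algebra of the torus with character group Λ.
Let R be a reduced finitely generated commutative k-algebra with a multiplicative coaction of k[Λ]
(an action of the torus on the affine variety Spec R), and suppose the grading monoid is positive: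
if R has a non-zero eigenvector of weight w and one of weight −w then w = 0. Then for every k-point
x of Spec R, the orbit of x is closed if and only if x is a fixed point. (The published statement
also asserts that the fixed-point subvariety is affine and is a good quotient for the action; only
the description of the closed orbits is stated here.) -/
theorem result
    (k : Type u) [Field k] [IsAlgClosed k] [CharZero k]
    (Λ : Type v) [AddCommGroup Λ] [Module.Free ℤ Λ] [Module.Finite ℤ Λ]
    (R : Type w) [CommRing R] [Algebra k R] [Algebra.FiniteType k R] [IsReduced R]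
    [HopfRep.Comod k (AddMonoidAlgebra k Λ) R] [GLin.IsCoactAlg k (AddMonoidAlgebra k Λ) R]
    (hpos : ∀ w : Λ, HopfRep.eigenspace k (AddMonoidAlgebra k Λ) R (AddMonoidAlgebra.single w 1) ≠ ⊥ →
      HopfRep.eigenspace k (AddMonoidAlgebra k Λ) R (AddMonoidAlgebra.single (-w) 1) ≠ ⊥ → w = 0)
    (x : R →ₐ[k] k) :
    GLin.IsClosedOrbit k (AddMonoidAlgebra k Λ) x ↔ GLin.IsFixedPt k (AddMonoidAlgebra k Λ) x := by
  classical
  let ε := GLin.orbitHom k (AddMonoidAlgebra k Λ) x
  constructor
  · intro hcl
    let x₀ : R →ₐ[k] k := x.comp (HMCrit.wzero Λ hpos)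
    have hle : RingHom.ker ε.toRingHom ≤ RingHom.ker x₀ := fun f hf => by
      show x (HMCrit.cpts k Λ f 0) = 0
      rw [← HMCrit.coeff_orbitHom, show GLin.orbitHom k (AddMonoidAlgebra k Λ) x f = 0 from hf]
      rfl
    haveI : (RingHom.ker x₀).IsPrime := RingHom.ker_isPrime _
    have hmem : (⟨RingHom.ker x₀, inferInstance⟩ : PrimeSpectrum R) ∈ Set.range (PrimeSpectrum.comap ε.toRingHom) := by
      rw [← IsClosed.closure_eq hcl, PrimeSpectrum.closure_range_comap]
      exact hle
    obtain ⟨p, hp⟩ := hmem
    have hz : ∀ (a : Λ) (f : R), a ≠ 0 → x (HMCrit.cpts k Λ f a) = 0 := by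
      intro a f ha
      set g := HMCrit.cpts k Λ f a
      have hg := HMCrit.mem_eigen_iff.1 (HMCrit.cpts_mem (k := k) f a)
      have hx₀ : x₀ g = 0 := by
        show x (HMCrit.cpts k Λ g 0) = 0
        rw [hg, Finsupp.single_eq_of_ne (Ne.symm ha), map_zero]
      have hmemp : g ∈ (PrimeSpectrum.comap ε.toRingHom p).asIdeal := by rw [hp]; exact hx₀
      have he : ε g = x g • AddMonoidAlgebra.single a (1 : k) := by
        show GLin.orbitHom k (AddMonoidAlgebra k Λ) x g = _
        rw [HMCrit.orbitHom_eq_sum, hg, Finsupp.sum_single_index (by simp)]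
      by_contra hne
      refine p.2.ne_top (Ideal.eq_top_of_isUnit_mem _ (show ε g ∈ p.asIdeal from hmemp) ?_)
      rw [he, AddMonoidAlgebra.smul_single', mul_one]
      exact ⟨⟨AddMonoidAlgebra.single a (x g), AddMonoidAlgebra.single (-a) (x g)⁻¹,
        by rw [AddMonoidAlgebra.single_mul_single, add_neg_cancel, mul_inv_cancel₀ hne]; rfl,
        by rw [AddMonoidAlgebra.single_mul_single, neg_add_cancel, inv_mul_cancel₀ hne]; rfl⟩, rfl⟩
    refine AlgHom.ext fun f => AddMonoidAlgebra.ext (Finsupp.ext fun a => ?_)
    show _ = (AddMonoidAlgebra.single (0 : Λ) (x f)).coeff a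
    rw [HMCrit.coeff_orbitHom, AddMonoidAlgebra.coeff_single]
    by_cases ha : a = 0
    · subst ha
      rw [Finsupp.single_eq_same]
      conv_rhs => rw [← HMCrit.sum_cpts (k := k) (M := Λ) f, Finsupp.sum, map_sum]
      rw [Finset.sum_eq_single (0 : Λ) (fun b _ hb => hz b f hb)
        (fun h => by rw [Finsupp.notMem_support_iff.1 h, map_zero])]
    · rw [hz a f ha, Finsupp.single_eq_of_ne ha]
  · intro hfix
    have hfix' : ε.toRingHom = (algebraMap k (AddMonoidAlgebra k Λ)).comp x.toRingHom :=
      congrArg AlgHom.toRingHom hfix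
    haveI : (RingHom.ker x).IsPrime := RingHom.ker_isPrime _
    have hmax : (RingHom.ker x).IsMaximal := RingHom.ker_isMaximal_of_surjective _ fun c => ⟨algebraMap k R c, x.commutes c⟩
    let pt : PrimeSpectrum R := ⟨RingHom.ker x, inferInstance⟩
    show IsClosed (Set.range (PrimeSpectrum.comap ε.toRingHom))
    have hr : Set.range (PrimeSpectrum.comap ε.toRingHom) = {pt} := by
      refine Set.eq_singleton_iff_nonempty_unique_mem.2 ⟨Set.range_nonempty _, ?_⟩
      rintro _ ⟨p, rfl⟩
      refine PrimeSpectrum.ext (hmax.eq_of_le (PrimeSpectrum.comap ε.toRingHom p).2.ne_top fun f hf => ?_).symm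
      show ε.toRingHom f ∈ p.asIdeal
      rw [hfix', RingHom.comp_apply, show x.toRingHom f = 0 from hf, map_zero]
      exact zero_mem _
    rw [hr]
    exact (PrimeSpectrum.isClosed_singleton_iff_isMaximal pt).2 hmax

end Groth.Agent.S15123
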