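import Groth.Statements.S15124
import Groth.Agent.HMCrit.Grading
-- import your own Groth.Agent.* helpers here

set_option autoImplicit false
universe u v w
open InvQ

namespace Groth.Agent.S15124

/-- Let k be an algebraically closed field of characteristic zero, Λ a finitely generated free abelian
group with group algebra k[Λ] (the coordinate Hopf algebra of a torus T), and R a reduced finitely
generated commutative k-algebra with a multiplicative coaction of k[Λ] (an action of T on the affine
variety X = Spec R) whose grading monoid is positive: if R has non-zero eigenvectors of weights w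
and −w then w = 0. Let I be the ideal of R generated by all eigenvectors of non-zero weight (the
ideal of the fixed-point subscheme X^T). Then the composite of the inclusion of the ring of
invariants R^T into R with the projection R → R/I is bijective: the fixed-point subscheme maps
isomorphically onto the affine quotient Spec R^T. (The published statement phrases this as: X^T is
affine and X → X^T is a good quotient; the good-quotient property itself is not restated here.) -/
theorem result
    (k : Type u) [Field k] [IsAlgClosed k] [CharZero k]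
    (Λ : Type v) [AddCommGroup Λ] [Module.Free ℤ Λ] [Module.Finite ℤ Λ]
    (R : Type w) [CommRing R] [Algebra k R] [Algebra.FiniteType k R] [IsReduced R]
    [HopfRep.Comod k (AddMonoidAlgebra k Λ) R] [GLin.IsCoactAlg k (AddMonoidAlgebra k Λ) R]
    (hpos : ∀ w : Λ, HopfRep.eigenspace k (AddMonoidAlgebra k Λ) R (AddMonoidAlgebra.single w 1) ≠ ⊥ →
      HopfRep.eigenspace k (AddMonoidAlgebra k Λ) R (AddMonoidAlgebra.single (-w) 1) ≠ ⊥ → w = 0) :
    Function.Bijective
      ((Ideal.Quotient.mkₐ k (Ideal.span {f : R | ∃ w : Λ, w ≠ 0 ∧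
          f ∈ HopfRep.eigenspace k (AddMonoidAlgebra k Λ) R (AddMonoidAlgebra.single w 1)})).comp
        (GLin.invariants k (AddMonoidAlgebra k Λ) R).val) := by
  classical
  let π := HMCrit.wzero Λ hpos
  let I : Ideal R := Ideal.span {f : R | ∃ w : Λ, w ≠ 0 ∧ f ∈ HopfRep.eigenspace k (AddMonoidAlgebra k Λ) R (AddMonoidAlgebra.single w 1)}
  have hI : I ≤ RingHom.ker π := Ideal.span_le.2 fun f ⟨w, hw, hf⟩ => by
    show HMCrit.cpts k Λ f 0 = 0
    rw [HMCrit.mem_eigen_iff.1 hf, Finsupp.single_eq_of_ne (Ne.symm hw)]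
  have hinv : ∀ f : R, f ∈ GLin.invariants k (AddMonoidAlgebra k Λ) R ↔
      f ∈ HopfRep.eigenspace k (AddMonoidAlgebra k Λ) R (AddMonoidAlgebra.single (0 : Λ) 1) := fun f => Iff.rfl
  refine ⟨fun a b hab => Subtype.ext ?_, fun z => ?_⟩
  · have h : (a : R) - b ∈ I := Ideal.Quotient.eq.1 hab
    have h2 : π ((a : R) - b) = 0 := hI h
    rw [map_sub, sub_eq_zero, show π (a : R) = _ from HMCrit.wzero_apply hpos _, show π (b : R) = _ from HMCrit.wzero_apply hpos _, HMCrit.mem_eigen_iff.1 ((hinv _).1 a.2),
      HMCrit.mem_eigen_iff.1 ((hinv _).1 b.2), Finsupp.single_eq_same, Finsupp.single_eq_same] at h2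
    exact h2
  · obtain ⟨f, rfl⟩ := Ideal.Quotient.mk_surjective z
    refine ⟨⟨π f, (hinv _).2 (HMCrit.cpts_mem f 0)⟩, Ideal.Quotient.eq.2 ?_⟩
    show HMCrit.cpts k Λ f 0 - f ∈ I
    conv => enter [2, 2]; rw [← HMCrit.sum_cpts (k := k) (M := Λ) f]
    by_cases h0 : (0 : Λ) ∈ (HMCrit.cpts k Λ f).support
    · rw [Finsupp.sum, ← Finset.add_sum_erase _ _ h0, sub_add_cancel_left]
      refine I.neg_mem (I.sum_mem fun w hw => Ideal.subset_span ⟨w, (Finset.mem_erase.1 hw).1, HMCrit.cpts_mem f w⟩)
    · rw [Finsupp.notMem_support_iff.1 h0, zero_sub, Finsupp.sum]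
      refine I.neg_mem (I.sum_mem fun w hw => Ideal.subset_span ⟨w, fun e => h0 (e ▸ hw), HMCrit.cpts_mem f w⟩)

end Groth.Agent.S15124
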