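import Groth.Statements.S15125
import Mathlib

set_option autoImplicit false
universe u
open scoped TensorProduct
open Fields

namespace Groth.Agent.S15125

open Polynomial in
theorem separable_step (K L : Type u) [Field K] [Field L] [Algebra K L] (x : L) (hx : IsSeparable K x) :
    ∀ n : ℕ, x ⊗ₜ[K] (1 : L) - (1 : L) ⊗ₜ[K] x ∈ KaehlerDifferential.ideal K L ^ n := by
  set R := L ⊗[K] L
  set t : R := x ⊗ₜ[K] (1 : L) - (1 : L) ⊗ₜ[K] x with ht
  have ht1 : t ∈ KaehlerDifferential.ideal K L := by
    rw [KaehlerDifferential.ideal, RingHom.mem_ker, ht, map_sub,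
      Algebra.TensorProduct.lmul'_apply_tmul, Algebra.TensorProduct.lmul'_apply_tmul, mul_one, one_mul, sub_self]
  set f := minpoly K x
  set y : R := (1 : L) ⊗ₜ[K] x with hy
  have hu : IsUnit (aeval y (derivative f)) := by
    have : aeval y (derivative f) = (Algebra.TensorProduct.includeRight : L →ₐ[K] R) (aeval x (derivative f)) :=
      aeval_algHom_apply (Algebra.TensorProduct.includeRight : L →ₐ[K] R) x (derivative f)
    rw [this]
    refine IsUnit.map _ (isUnit_iff_ne_zero.2 ?_)
    obtain ⟨a, b, hab⟩ : f.Separable := hx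
    intro h0
    have h1 := congrArg (aeval x) hab
    rw [map_add, map_mul, map_mul, minpoly.aeval, h0, mul_zero, mul_zero, add_zero, map_one] at h1
    exact zero_ne_one h1
  have h0 : aeval (y + t) f = 0 := by
    rw [show y + t = (Algebra.TensorProduct.includeLeft : L →ₐ[K] R) x by rw [ht, add_sub_cancel]; rfl,
      aeval_algHom_apply, minpoly.aeval, map_zero]
  have hy0 : aeval y f = 0 := by
    rw [show y = (Algebra.TensorProduct.includeRight : L →ₐ[K] R) x from rfl, aeval_algHom_apply,
      minpoly.aeval, map_zero]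
  obtain ⟨c, hc⟩ := Polynomial.binomExpansion (f.map (algebraMap K R)) y t
  rw [eval_map_algebraMap, h0, eval_map_algebraMap, hy0, derivative_map, eval_map_algebraMap, zero_add] at hc
  obtain ⟨u, hu⟩ := hu
  intro n
  induction n with
  | zero => simp
  | succ n ih =>
    have ht2 : t = -(↑u⁻¹ * c) * (t * t) := by
      rw [← hu] at hc
      have h3 : (↑u⁻¹ : R) * u = 1 := Units.inv_mul u
      linear_combination (↑u⁻¹ : R) * hc.symm - t * h3
    rw [ht2, pow_succ]
    exact Ideal.mul_mem_left _ _ (Ideal.mul_mem_mul ih ht1)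

/-- coefficients with respect to an intermediate field -/
theorem exists_descend (K L : Type u) [Field K] [Field L] [Algebra K L] (M : IntermediateField K L)
    (x : M) (s : L ⊗[K] L) (hs : Algebra.TensorProduct.lmul' K s ≠ 0)
    (hst : s * ((x : L) ⊗ₜ[K] (1 : L) - (1 : L) ⊗ₜ[K] (x : L)) = 0) :
    ∃ c : M ⊗[K] M, Algebra.TensorProduct.lmul' K c ≠ 0 ∧
      c * (x ⊗ₜ[K] (1 : M) - (1 : M) ⊗ₜ[K] x) = 0 := by
  classical
  let b := Module.Free.chooseBasis M L
  let ι := Module.Free.ChooseBasisIndex M L
  let r : L →ₗ[K] (ι →₀ M) := b.repr.toLinearMap.restrictScalars K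
  let G : L ⊗[K] L →ₗ[K] (ι × ι →₀ M ⊗[K] M) :=
    (finsuppTensorFinsupp K K M M ι ι).toLinearMap ∘ₗ TensorProduct.map r r
  have hG : ∀ (a c : L) p, G (a ⊗ₜ c) p = b.repr a p.1 ⊗ₜ[K] b.repr c p.2 := fun a c p => by
    obtain ⟨i, j⟩ := p
    simp [G, r, finsuppTensorFinsupp_apply]
  let ev : (ι × ι →₀ M ⊗[K] M) →ₗ[K] L := Finsupp.lsum ℕ fun p =>
    (LinearMap.mulRight K (b p.1 * b p.2)).comp
      ((M.val.comp (Algebra.TensorProduct.lmul' K)).toLinearMap)
  have hev : ∀ z, ev (G z) = Algebra.TensorProduct.lmul' K z := by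
    intro z
    induction z using TensorProduct.induction_on with
    | zero => simp
    | add u v hu hv => simp only [map_add, hu, hv]
    | tmul a c =>
      rw [Algebra.TensorProduct.lmul'_apply_tmul]
      have hsum : G (a ⊗ₜ c) = ∑ i ∈ (b.repr a).support, ∑ j ∈ (b.repr c).support,
          Finsupp.single (i, j) (b.repr a i ⊗ₜ[K] b.repr c j) := by
        ext ⟨i, j⟩
        rw [hG]
        simp only [Finsupp.coe_finset_sum, Finset.sum_apply, Finsupp.single_apply, Prod.mk.injEq,
          ite_and, Finset.sum_ite_irrel, Finset.sum_const_zero]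
        simp only [Finset.sum_ite_eq', Finsupp.mem_support_iff]
        by_cases hi : b.repr a i = 0 <;> by_cases hj : b.repr c j = 0 <;> simp [hi, hj]
      rw [hsum]
      simp only [map_sum, ev, Finsupp.lsum_single]
      conv_rhs => rw [← b.linearCombination_repr a, ← b.linearCombination_repr c,
        Finsupp.linearCombination_apply, Finsupp.linearCombination_apply, Finsupp.sum, Finsupp.sum,
        Finset.sum_mul_sum]
      refine Finset.sum_congr rfl fun i _ => Finset.sum_congr rfl fun j _ => ?_
      simp only [LinearMap.comp_apply, AlgHom.toLinearMap_apply, AlgHom.comp_apply,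
        Algebra.TensorProduct.lmul'_apply_tmul, LinearMap.mulRight_apply, map_mul, IntermediateField.coe_val,
        Algebra.smul_def, IntermediateField.algebraMap_apply]
      ring
  obtain ⟨p, hp⟩ : ∃ p, Algebra.TensorProduct.lmul' K (G s p) ≠ 0 := by
    by_contra! h
    apply hs
    rw [← hev]
    simp only [ev, Finsupp.lsum_apply, Finsupp.sum]
    refine Finset.sum_eq_zero fun p _ => ?_
    simp [h p]
  refine ⟨G s p, hp, ?_⟩
  have key : ∀ z, G (z * ((x : L) ⊗ₜ[K] (1 : L) - (1 : L) ⊗ₜ[K] (x : L))) p =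
      G z p * (x ⊗ₜ[K] (1 : M) - (1 : M) ⊗ₜ[K] x) := by
    intro z
    induction z using TensorProduct.induction_on with
    | zero => simp
    | add u v hu hv => simp only [add_mul, map_add, Finsupp.add_apply, hu, hv]
    | tmul a c =>
      have h1 : ∀ d : L, d * (x : L) = x • d := fun d => by
        rw [Algebra.smul_def, mul_comm, IntermediateField.algebraMap_apply]
      simp only [mul_sub, Algebra.TensorProduct.tmul_mul_tmul, mul_one, map_sub, Finsupp.sub_apply, hG, h1,
        map_smul, Finsupp.smul_apply, smul_eq_mul, mul_comm _ x]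
  rw [← key, hst, map_zero, Finsupp.zero_apply]

open Polynomial in
theorem separable_of_annihilator (K L : Type u) [Field K] [Field L] [Algebra K L] (x : L)
    (M : IntermediateField K L) (g : M) (hg : (g : L) = x)
    (hgen : ∀ b : M, ∃ p q : K[X], (b : L) = aeval x p / aeval x q)
    (c : M ⊗[K] M) (hc : Algebra.TensorProduct.lmul' K c ≠ 0)
    (hct : c * (g ⊗ₜ[K] 1 - 1 ⊗ₜ[K] g) = 0) :
    IsSeparable K x := by
  -- clear denominators and move to `M[X]`
  let φ : K[X] →ₐ[K] M := aeval g
  let Φ : M ⊗[K] K[X] →ₐ[K] M ⊗[K] M := Algebra.TensorProduct.map (AlgHom.id K M) φ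
  let Ψ : M ⊗[K] K[X] →ₐ[K] M[X] := Algebra.TensorProduct.lift
    (IsScalarTower.toAlgHom K M M[X]) (mapAlgHom (Algebra.ofId K M)) (fun _ _ => Commute.all _ _)
  have hval : ∀ z, (Ψ z).eval g = Algebra.TensorProduct.lmul' K (Φ z) := by
    intro z
    induction z using TensorProduct.induction_on with
    | zero => simp
    | add u v hu hv => simp only [map_add, eval_add, hu, hv]
    | tmul a p => simp [Φ, Ψ, φ, eval_map, ← aeval_def]
  have hden : ∀ c : M ⊗[K] M, ∃ (q : K[X]) (z : M ⊗[K] K[X]), φ q ≠ 0 ∧ c * ((1 : M) ⊗ₜ[K] φ q) = Φ z := by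
    intro c
    induction c using TensorProduct.induction_on with
    | zero => exact ⟨1, 0, by simp, by simp⟩
    | tmul a b =>
      obtain ⟨p, q, hpq⟩ := hgen b
      by_cases hq : φ q = 0
      · refine ⟨1, 0, by simp, ?_⟩
        have hq' : aeval x q = 0 := by
          have h4 := congrArg M.val hq
          simpa [φ, ← aeval_algHom_apply, hg] using h4
        have : b = 0 := Subtype.ext (by rw [hpq, hq', div_zero]; rfl)
        simp [this]
      · refine ⟨q, a ⊗ₜ[K] p, hq, ?_⟩
        have hq' : aeval x q ≠ 0 := fun h => hq (Subtype.ext (by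
          rw [ZeroMemClass.coe_zero, ← h]
          show M.val (φ q) = _
          simp [φ, ← aeval_algHom_apply, hg]))
        have : b * φ q = φ p := Subtype.ext (by
          show (b : L) * M.val (φ q) = M.val (φ p)
          simp only [φ, ← aeval_algHom_apply, hg, IntermediateField.coe_val, hg]
          rw [hpq, div_mul_cancel₀ _ hq'])
        simp [Φ, Algebra.TensorProduct.tmul_mul_tmul, this]
    | add u v hu hv =>
      obtain ⟨q, z, hq, hz⟩ := hu
      obtain ⟨q', z', hq', hz'⟩ := hv
      refine ⟨q * q', z * ((1 : M) ⊗ₜ[K] q') + z' * ((1 : M) ⊗ₜ[K] q), by rw [map_mul]; exact mul_ne_zero hq hq', ?_⟩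
      have e : ∀ r, Φ ((1 : M) ⊗ₜ[K] r) = (1 : M) ⊗ₜ[K] φ r := fun r => by simp [Φ]
      have em : (1 : M) ⊗ₜ[K] φ (q * q') = ((1 : M) ⊗ₜ[K] φ q) * ((1 : M) ⊗ₜ[K] φ q') := by
        rw [Algebra.TensorProduct.tmul_mul_tmul, one_mul, map_mul]
      rw [em, map_add, map_mul, map_mul, e, e, ← hz, ← hz']
      ring
  obtain ⟨q, z, hq, hz⟩ := hden c
  set T : M ⊗[K] K[X] := g ⊗ₜ[K] 1 - 1 ⊗ₜ[K] X with hT
  have hker : Φ (z * T) = 0 := by
    rw [map_mul, ← hz, show Φ T = g ⊗ₜ[K] 1 - 1 ⊗ₜ[K] g by simp [Φ, hT, φ], mul_right_comm c, hct, zero_mul]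
  set f := minpoly K g with hf
  have hex : Function.Exact (LinearMap.mulLeft K f) φ.toLinearMap := by
    intro p
    constructor
    · intro hp
      obtain ⟨r, hr⟩ := minpoly.dvd K g hp
      exact ⟨r, hr.symm⟩
    · rintro ⟨r, rfl⟩
      show φ (f * r) = 0
      rw [map_mul, show φ f = 0 from minpoly.aeval K g, zero_mul]
  obtain ⟨w, hw⟩ := (Module.Flat.lTensor_exact M hex (z * T)).1 (by
    rw [← hker]
    generalize z * T = u
    induction u using TensorProduct.induction_on with
    | zero => simp
    | add u v hu hv => simp only [map_add, hu, hv]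
    | tmul a p => simp [Φ])
  have hw' : ∀ w, Ψ ((LinearMap.mulLeft K f).lTensor M w) = f.map (algebraMap K M) * Ψ w := by
    intro w
    induction w using TensorProduct.induction_on with
    | zero => simp
    | add u v hu hv => simp only [map_add, mul_add, hu, hv]
    | tmul a p => simp [Ψ, Polynomial.map_mul, mul_left_comm]
  have hdvd : f.map (algebraMap K M) ∣ Ψ z * (X - C g) := by
    refine ⟨-Ψ w, ?_⟩
    rw [mul_neg, ← hw', hw, map_mul, show Ψ T = C g - X by simp [Ψ, hT]]
    ring
  have heval : (Ψ z).eval g ≠ 0 := by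
    rw [hval, ← hz, map_mul, Algebra.TensorProduct.lmul'_apply_tmul, one_mul]
    exact mul_ne_zero hc hq
  have hf0 : f ≠ 0 := by
    intro h0
    rw [h0, Polynomial.map_zero, zero_dvd_iff, mul_eq_zero] at hdvd
    rcases hdvd with h | h
    · exact heval (by rw [h, eval_zero])
    · exact X_sub_C_ne_zero g h
  have hirr : Irreducible f := minpoly.irreducible (minpoly.ne_zero_iff.1 hf0)
  have hder : derivative f ≠ 0 := by
    intro h0
    obtain ⟨r, hr⟩ := dvd_iff_isRoot.2 (show (f.map (algebraMap K M)).IsRoot g by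
      rw [IsRoot, eval_map_algebraMap]; exact minpoly.aeval K g)
    have hr0 : r.eval g = 0 := by
      have h1 := congrArg (fun P => eval g (derivative P)) hr
      simp only [derivative_map, h0, Polynomial.map_zero, eval_zero, derivative_mul, derivative_X_sub_C,
        one_mul, eval_add, eval_mul, eval_sub, eval_X, eval_C, sub_self, zero_mul, add_zero] at h1
      exact h1.symm
    obtain ⟨w', hw''⟩ := hdvd
    rw [hr] at hw''
    have h2 : Ψ z = r * w' := by
      apply mul_left_cancel₀ (X_sub_C_ne_zero g)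
      linear_combination hw''
    exact heval (by rw [h2, eval_mul, hr0, zero_mul])
  show (minpoly K x).Separable
  rw [← hg, show minpoly K (g : L) = minpoly K g from minpoly.algHom_eq M.val M.val.injective g]
  exact (separable_iff_derivative_ne_zero hirr).2 hder


/-- Let L be a finitely generated field extension of K, and I ⊆ L ⊗_K L the kernel of multiplication L
⊗_K L → L. An element x of L has the property that x ⊗ 1 and 1 ⊗ x have the same image in the I-adic
completion of L ⊗_K L if and only if x is separable algebraic over K. Equivalently, the equaliser of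
the two natural maps from L to that completion is the separable algebraic closure of K in L. -/
theorem result
    (K L : Type u) [Field K] [Field L] [Algebra K L]
    (hfg : (⊤ : IntermediateField K L).FG) (x : L) :
    AdicCompletion.of (KaehlerDifferential.ideal K L) (L ⊗[K] L) (x ⊗ₜ[K] (1 : L)) =
        AdicCompletion.of (KaehlerDifferential.ideal K L) (L ⊗[K] L) ((1 : L) ⊗ₜ[K] x) ↔
      x ∈ separableClosure K L := by
  haveI : Algebra.EssFiniteType K L := by
    haveI : Algebra.EssFiniteType K (⊤ : IntermediateField K L) := IntermediateField.essFiniteType_iff.2 hfg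
    exact (Algebra.EssFiniteType.iff_of_algEquiv IntermediateField.topEquiv).1 inferInstance
  haveI : IsNoetherianRing (L ⊗[K] L) := Algebra.EssFiniteType.isNoetherianRing L (L ⊗[K] L)
  set I := KaehlerDifferential.ideal K L
  have hiff : AdicCompletion.of I (L ⊗[K] L) (x ⊗ₜ[K] (1 : L)) = AdicCompletion.of I (L ⊗[K] L) ((1 : L) ⊗ₜ[K] x) ↔
      ∀ n : ℕ, x ⊗ₜ[K] (1 : L) - (1 : L) ⊗ₜ[K] x ∈ I ^ n := by
    constructor
    · intro h n
      have h1 := congrArg (fun z : AdicCompletion I (L ⊗[K] L) => z.1 n) h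
      simp only [AdicCompletion.of_apply, Submodule.mkQ_apply, Submodule.Quotient.eq] at h1
      simpa using h1
    · intro h
      refine Subtype.ext (funext fun n => ?_)
      simp only [AdicCompletion.of_apply, Submodule.mkQ_apply, Submodule.Quotient.eq]
      simpa using h n
  rw [hiff, mem_separableClosure_iff]
  refine ⟨fun h => ?_, separable_step K L x⟩
  obtain ⟨⟨r, hr⟩, hrx⟩ := (Ideal.mem_iInf_smul_pow_eq_bot_iff I _).1
    (show x ⊗ₜ[K] (1 : L) - (1 : L) ⊗ₜ[K] x ∈ (⨅ i : ℕ, I ^ i • ⊤ : Submodule (L ⊗[K] L) (L ⊗[K] L)) from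
      (Submodule.mem_iInf _).2 fun i => by simpa using h i)
  obtain ⟨c, hc, hct⟩ := exists_descend K L (IntermediateField.adjoin K {x})
    (IntermediateField.AdjoinSimple.gen K x) (1 - r) (by
      rw [map_sub, map_one, RingHom.mem_ker.1 hr, sub_zero]; exact one_ne_zero)
    (by
      rw [IntermediateField.AdjoinSimple.coe_gen, sub_mul, one_mul]
      rw [smul_eq_mul] at hrx
      rw [hrx, sub_self])
  exact separable_of_annihilator K L x _ _ (IntermediateField.AdjoinSimple.coe_gen K x)
    (fun b => (IntermediateField.mem_adjoin_simple_iff K (b : L)).1 b.2) c hc hct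

end Groth.Agent.S15125
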