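import Groth.Statements.S15130
import Groth.Agent.ArtFlat.Basic

set_option autoImplicit false
universe u v
open CAlg

namespace Groth.Agent.S15130

open scoped TensorProduct

/-- Let A be an Artinian local ring with residue field k and P → Q → R → M → 0 a complex of A-modules
with P, Q, R flat which is exact at R and at M. If the reduced complex k ⊗ P → k ⊗ Q → k ⊗ R is
exact (the rest of the reduced sequence is then automatically exact), then M is flat and the
original complex is exact at Q as well. (The published statement is for local Artinian algebras over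
an algebraically closed field of characteristic zero having that field as residue field; this row
allows any Artinian local ring.) -/
theorem result
    (A : Type u) [CommRing A] [IsLocalRing A] [IsArtinianRing A]
    (P Q R M : Type v) [AddCommGroup P] [Module A P] [AddCommGroup Q] [Module A Q]
    [AddCommGroup R] [Module A R] [AddCommGroup M] [Module A M]
    [Module.Flat A P] [Module.Flat A Q] [Module.Flat A R]
    (f : P →ₗ[A] Q) (g : Q →ₗ[A] R) (h : R →ₗ[A] M)
    (hfg : g ∘ₗ f = 0) (hgh : Function.Exact g h) (hh : Function.Surjective h)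
    (hred : Function.Exact (f.lTensor (IsLocalRing.ResidueField A)) (g.lTensor (IsLocalRing.ResidueField A))) :
    Module.Flat A M ∧ Function.Exact f g := by
  have hm : IsNilpotent (IsLocalRing.maximalIdeal A) := Groth.Agent.ArtFlat.isNilpotent_maximalIdeal
  let k := IsLocalRing.ResidueField A
  let G := LinearMap.range g
  have hGinj : Function.Injective (G.subtype.lTensor k) := by
    refine (injective_iff_map_eq_zero _).2 fun z hz => ?_
    obtain ⟨w, rfl⟩ := LinearMap.lTensor_surjective k g.surjective_rangeRestrict z
    have hw : g.lTensor k w = 0 := by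
      rw [← hz, ← LinearMap.comp_apply, ← LinearMap.lTensor_comp]
      rfl
    obtain ⟨p, rfl⟩ := (hred w).1 hw
    rw [← LinearMap.comp_apply, ← LinearMap.lTensor_comp,
      show g.rangeRestrict ∘ₗ f = 0 from LinearMap.ext fun x => Subtype.ext (DFunLike.congr_fun hfg x),
      LinearMap.lTensor_zero]
    rfl
  have hexG : Function.Exact G.subtype h := fun r => by
    rw [hgh r]
    exact ⟨fun ⟨q, hq⟩ => ⟨⟨g q, q, rfl⟩, hq⟩, fun ⟨⟨_, q, hq⟩, hr⟩ => ⟨q, hq.trans hr⟩⟩
  have hMfree := Groth.Agent.ArtFlat.free_coker hm G.subtype h hh hexG hGinj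
  refine ⟨inferInstance, ?_⟩
  have hGflat : Module.Flat A G :=
    Groth.Agent.ArtFlat.flat_ker G.subtype h (Submodule.injective_subtype _) hh hexG
  let K := LinearMap.ker g
  have hexK : Function.Exact K.subtype g.rangeRestrict := fun q => by
    simp only [Set.mem_range]
    exact ⟨fun hq => ⟨⟨q, congrArg Subtype.val hq⟩, rfl⟩, fun ⟨⟨q', hq'⟩, e⟩ => e ▸ Subtype.ext hq'⟩
  have hKinj := LinearMap.lTensor_injective_of_exact_of_flat g.rangeRestrict g.surjective_rangeRestrict K.subtype
    (Submodule.injective_subtype _) hexK k
  let f' : P →ₗ[A] K := f.codRestrict K fun x => DFunLike.congr_fun hfg x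
  have hf's : Function.Surjective f' := by
    refine Groth.Agent.ArtFlat.surjective_of_baseChange (I := IsLocalRing.maximalIdeal A) hm f' (show Function.Surjective (f'.lTensor k) from fun z => ?_)
    have hz : g.lTensor k (K.subtype.lTensor k z) = 0 := by
      rw [← LinearMap.comp_apply, ← LinearMap.lTensor_comp,
        show g ∘ₗ K.subtype = 0 from LinearMap.ext fun x => x.2, LinearMap.lTensor_zero]
      rfl
    obtain ⟨p, hp⟩ := (hred _).1 hz
    refine ⟨p, hKinj ?_⟩
    rw [← hp, ← LinearMap.comp_apply, ← LinearMap.lTensor_comp]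
    rfl
  intro q
  refine ⟨fun hq => ?_, ?_⟩
  · obtain ⟨p, hp⟩ := hf's ⟨q, hq⟩
    exact ⟨p, congrArg Subtype.val hp⟩
  · rintro ⟨p, rfl⟩
    exact DFunLike.congr_fun hfg p

end Groth.Agent.S15130
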