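import Groth.Statements.S15133
import Groth.Agent.ArtFlat.Basic
import Mathlib.Algebra.Homology.ShortComplex.ModuleCat
import Mathlib.Algebra.Homology.HomologicalComplex

set_option autoImplicit false
universe u
open CategoryTheory
open CAlg

namespace Groth.Agent.S15133

open scoped TensorProduct

theorem flat_coker {A : Type u} [CommRing A] [IsLocalRing A] (hm : IsNilpotent (IsLocalRing.maximalIdeal A))
    {P Q R : Type u} [AddCommGroup P] [Module A P] [AddCommGroup Q] [Module A Q] [AddCommGroup R] [Module A R]
    [Module.Flat A R] (f : P →ₗ[A] Q) (g : Q →ₗ[A] R) (hfg : g ∘ₗ f = 0)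
    (hred : Function.Exact (f.lTensor (IsLocalRing.ResidueField A)) (g.lTensor (IsLocalRing.ResidueField A))) :
    Module.Flat A (R ⧸ LinearMap.range g) := by
  have := Groth.Agent.ArtFlat.free_coker hm (LinearMap.range g).subtype (LinearMap.range g).mkQ
    (Submodule.mkQ_surjective _) (LinearMap.exact_subtype_mkQ _) <| by
      refine (injective_iff_map_eq_zero _).2 fun z hz => ?_
      obtain ⟨w, rfl⟩ := LinearMap.lTensor_surjective (IsLocalRing.ResidueField A) g.surjective_rangeRestrict z
      have hw : g.lTensor (IsLocalRing.ResidueField A) w = 0 := by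
        rw [← hz, ← LinearMap.comp_apply, ← LinearMap.lTensor_comp]
        rfl
      obtain ⟨p, rfl⟩ := (hred w).1 hw
      rw [← LinearMap.comp_apply, ← LinearMap.lTensor_comp,
        show g.rangeRestrict ∘ₗ f = 0 from LinearMap.ext fun x => Subtype.ext (DFunLike.congr_fun hfg x),
        LinearMap.lTensor_zero]
      rfl
  infer_instance

theorem flat_range {A : Type u} [CommRing A] [IsLocalRing A] (hm : IsNilpotent (IsLocalRing.maximalIdeal A))
    {P Q R : Type u} [AddCommGroup P] [Module A P] [AddCommGroup Q] [Module A Q] [AddCommGroup R] [Module A R]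
    [Module.Flat A Q] (f : P →ₗ[A] Q) (g : Q →ₗ[A] R) (hfg : g ∘ₗ f = 0) [Module.Flat A (LinearMap.range g)]
    (hred : Function.Exact (f.lTensor (IsLocalRing.ResidueField A)) (g.lTensor (IsLocalRing.ResidueField A))) :
    Module.Flat A (LinearMap.range f) := by
  let k := IsLocalRing.ResidueField A
  let K := LinearMap.ker g
  have hexK : Function.Exact K.subtype g.rangeRestrict := fun q => by
    simp only [Set.mem_range]
    exact ⟨fun hq => ⟨⟨q, congrArg Subtype.val hq⟩, rfl⟩, fun ⟨⟨q', hq'⟩, e⟩ => e ▸ Subtype.ext hq'⟩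
  have hK : Module.Flat A K :=
    Groth.Agent.ArtFlat.flat_ker K.subtype g.rangeRestrict (Submodule.injective_subtype _) g.surjective_rangeRestrict hexK
  have hKinj := LinearMap.lTensor_injective_of_exact_of_flat g.rangeRestrict g.surjective_rangeRestrict K.subtype
    (Submodule.injective_subtype _) hexK k
  let f' : P →ₗ[A] K := f.codRestrict K fun x => DFunLike.congr_fun hfg x
  have hf's : Function.Surjective f' := by
    refine Groth.Agent.ArtFlat.surjective_of_baseChange (I := IsLocalRing.maximalIdeal A) hm f'
      (show Function.Surjective (f'.lTensor k) from fun z => ?_)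
    have hz : g.lTensor k (K.subtype.lTensor k z) = 0 := by
      rw [← LinearMap.comp_apply, ← LinearMap.lTensor_comp,
        show g ∘ₗ K.subtype = 0 from LinearMap.ext fun x => x.2, LinearMap.lTensor_zero]
      rfl
    obtain ⟨p, hp⟩ := (hred _).1 hz
    refine ⟨p, hKinj ?_⟩
    rw [← hp, ← LinearMap.comp_apply, ← LinearMap.lTensor_comp]
    rfl
  have heq : LinearMap.range f = K := le_antisymm (by rintro _ ⟨p, rfl⟩; exact DFunLike.congr_fun hfg p) fun q hq => by
    obtain ⟨p, hp⟩ := hf's ⟨q, hq⟩
    exact ⟨p, congrArg Subtype.val hp⟩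
  rw [heq]
  exact hK

/-- Let A be an Artinian local ring with residue field k, n ≥ 1, and 0 → I → P₀ → P₁ → ⋯ → Pₙ a complex
of A-modules with P₀, …, Pₙ flat whose reduction 0 → k ⊗ I → k ⊗ P₀ → ⋯ → k ⊗ Pₙ is exact. Then I
and coker(Pₙ₋₁ → Pₙ) are flat. The complex is written as a cochain complex C indexed by ℕ with C⁰ =
I and Cⁱ⁺¹ = Pᵢ; its terms in degrees above n + 1 play no role. (The published statement adds that I
maps onto the kernel of k ⊗ P₀ → k ⊗ P₁, which is already part of the exactness hypothesis, and is
for local Artinian algebras over an algebraically closed field of characteristic zero having that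
field as residue field; this row allows any Artinian local ring.) -/
theorem result
    (A : Type u) [CommRing A] [IsLocalRing A] [IsArtinianRing A] (n : ℕ) (hn : 0 < n)
    (C : CochainComplex (ModuleCat.{u} A) ℕ)
    (hflat : ∀ i, i ≤ n → Module.Flat A (C.X (i + 1)))
    (hred : ∀ j, j ≤ n →
      (((MonoidalCategory.tensorLeft (ModuleCat.of A (IsLocalRing.ResidueField A))).mapHomologicalComplex
        (ComplexShape.up ℕ)).obj C).ExactAt j) :
    Module.Flat A (C.X 0) ∧ Module.Flat A (C.X (n + 1) ⧸ LinearMap.range (C.d n (n + 1)).hom) := by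
  classical
  have hm : IsNilpotent (IsLocalRing.maximalIdeal A) := Groth.Agent.ArtFlat.isNilpotent_maximalIdeal
  have hfg : ∀ i, (C.d (i + 1) (i + 1 + 1)).hom ∘ₗ (C.d i (i + 1)).hom = 0 := fun i => by
    rw [← ModuleCat.hom_comp, C.d_comp_d]; rfl
  have hex : ∀ i, i + 1 ≤ n → Function.Exact ((C.d i (i + 1)).hom.lTensor (IsLocalRing.ResidueField A))
      ((C.d (i + 1) (i + 1 + 1)).hom.lTensor (IsLocalRing.ResidueField A)) := fun i hi => by
    have h := hred (i + 1) hi
    rw [HomologicalComplex.exactAt_iff' _ i (i + 1) (i + 1 + 1) (by simp) (by simp),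
      ShortComplex.ShortExact.moduleCat_exact_iff_function_exact] at h
    exact h
  obtain ⟨m, rfl⟩ : ∃ m, n = m + 1 := ⟨n - 1, by omega⟩
  have htop : Module.Flat A (C.X (m + 1 + 1) ⧸ LinearMap.range (C.d (m + 1) (m + 1 + 1)).hom) := by
    have := hflat (m + 1) le_rfl
    exact flat_coker hm _ _ (hfg m) (hex m le_rfl)
  refine ⟨?_, htop⟩
  have key : ∀ l i, i + l = m + 1 → Module.Flat A (LinearMap.range (C.d i (i + 1)).hom) := by
    intro l
    induction l with
    | zero =>
      intro i hi
      obtain rfl : i = m + 1 := by omega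
      have := hflat (m + 1) le_rfl
      exact Groth.Agent.ArtFlat.flat_ker (LinearMap.range (C.d (m + 1) (m + 1 + 1)).hom).subtype
        (LinearMap.range (C.d (m + 1) (m + 1 + 1)).hom).mkQ (Submodule.injective_subtype _) (Submodule.mkQ_surjective _)
        (LinearMap.exact_subtype_mkQ _)
    | succ l ih =>
      intro i hi
      have := ih (i + 1) (by omega)
      have := hflat i (by omega)
      exact flat_range hm _ _ (hfg i) (hex i (by omega))
  have h0 : Module.Flat A (LinearMap.range (C.d 0 (0 + 1)).hom) := key (m + 1) 0 (by omega)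
  have hinj : Function.Injective ((C.d 0 (0 + 1)).hom.lTensor (IsLocalRing.ResidueField A)) := by
    have h := hred 0 (by omega)
    rw [HomologicalComplex.exactAt_iff' _ 0 0 (0 + 1) (by simp) (by simp),
      ShortComplex.ShortExact.moduleCat_exact_iff_function_exact] at h
    refine (injective_iff_map_eq_zero _).2 fun z hz => ?_
    obtain ⟨w, hw⟩ := (h z).1 hz
    rw [← hw]
    show (C.d 0 0).hom.lTensor (IsLocalRing.ResidueField A) w = 0
    rw [C.shape 0 0 (by simp), ModuleCat.hom_zero, LinearMap.lTensor_zero]
    rfl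
  let d0 := (C.d 0 (0 + 1)).hom.rangeRestrict
  have hb : Function.Bijective d0 := Groth.Agent.ArtFlat.bijective_of_baseChange hm d0
    ⟨Function.Injective.of_comp
      (f := (LinearMap.range (C.d 0 (0 + 1)).hom).subtype.lTensor (A ⧸ IsLocalRing.maximalIdeal A)) (by
        rw [← LinearMap.coe_comp, ← LinearMap.lTensor_comp]; exact hinj),
      LinearMap.lTensor_surjective _ (LinearMap.surjective_rangeRestrict _)⟩
  exact Module.Flat.of_linearEquiv (LinearEquiv.ofBijective d0 hb)

end Groth.Agent.S15133
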