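import Groth.Statements.S15134
import Groth.Agent.ArtKit.Basic

set_option autoImplicit false
universe u v
open CategoryTheory
open ArtFun

namespace Groth.Agent.S15134

/-- Let k be a field and F a functor on local Artinian k-algebras with residue field k with F(k) a
point. If F satisfies (H2') — the comparison map F(A₁ ×_k A₂) → F(A₁) × F(A₂) is bijective for every
pair of objects — then F satisfies condition (L): for every small extension f : B → A with kernel J,
writing P = B ×_k B, Q = A ×_k A, r : P → Q for the map induced by f, and C = P/K with K the ideal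
of P consisting of the pairs (b, b) with b ∈ J, every element of F(Q) whose two images in F(A) agree
lifts along F(C) → F(Q). Here P and Q are pinned as fibre products over k, K is described through
the two projections, and the two inequalities on K (it lies in the maximal ideal of P and is killed
by r), which always hold, are taken as hypotheses so that the quotient object and the factored map
can be named. -/
theorem result
    {k : Type u} [Field k] (F : ArtFun.Art k k ⥤ Type v) (h0 : ArtFun.H0 F)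
    (h2' : ∀ ⦃P A' A'' : ArtFun.Art k k⦄ (p' : P ⟶ A') (p'' : P ⟶ A'')
      (h : ArtFun.Art.IsFibreProd p' p'' (ArtFun.Art.toBase A') (ArtFun.Art.toBase A'')),
      Function.Bijective (ArtFun.cmp F h))
    ⦃B A : ArtFun.Art k k⦄ (f : B ⟶ A) (hf : ArtFun.Art.IsSmallExt f)
    ⦃P : ArtFun.Art k k⦄ (p₁ p₂ : P ⟶ B)
    (hP : ArtFun.Art.IsFibreProd p₁ p₂ (ArtFun.Art.toBase B) (ArtFun.Art.toBase B))
    ⦃Q : ArtFun.Art k k⦄ (q₁ q₂ : Q ⟶ A)
    (hQ : ArtFun.Art.IsFibreProd q₁ q₂ (ArtFun.Art.toBase A) (ArtFun.Art.toBase A))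
    (r : P ⟶ Q) (hr₁ : r ≫ q₁ = p₁ ≫ f) (hr₂ : r ≫ q₂ = p₂ ≫ f)
    (hK : Ideal.span {z : P | p₁ z = p₂ z ∧ f (p₁ z) = 0} ≤ IsLocalRing.maximalIdeal P)
    (hKr : Ideal.span {z : P | p₁ z = p₂ z ∧ f (p₁ z) = 0} ≤ RingHom.ker r.toAlgHom)
    (y : F.obj Q) (hy : F.map q₁ y = F.map q₂ y) :
    ∃ z : F.obj (ArtFun.Art.quot P (Ideal.span {z : P | p₁ z = p₂ z ∧ f (p₁ z) = 0}) hK),
      F.map (ArtFun.Art.quotFactor hK r hKr) z = y := by
  obtain ⟨Δ, hΔ₁, hΔ₂⟩ := Groth.Agent.ArtKit.exists_lift hP (𝟙 B) (𝟙 B) rfl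
  let Q' := Art.quot P (Ideal.span {z : P | p₁ z = p₂ z ∧ f (p₁ z) = 0}) hK
  let π : P ⟶ Q' := Art.quotMk P _ hK
  have hzero : ∀ b, f b = 0 → (Δ ≫ π) b = 0 := fun b hb => by
    refine Ideal.Quotient.eq_zero_iff_mem.2 (Ideal.subset_span ⟨?_, ?_⟩)
    · exact (congrArg (fun m : B ⟶ B => m b) hΔ₁).trans (congrArg (fun m : B ⟶ B => m b) hΔ₂).symm
    · exact (congrArg f.toAlgHom (congrArg (fun m : B ⟶ B => m b) hΔ₁)).trans hb
  choose l hl using hf.1
  have hind : ∀ b b', f b = f b' → (Δ ≫ π) b = (Δ ≫ π) b' := fun b b' e => by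
    rw [← sub_eq_zero, ← map_sub]
    exact hzero _ (by rw [map_sub, e, sub_self])
  let δ : A ⟶ Q' := Art.homMk
    { toFun := fun a => (Δ ≫ π) (l a)
      map_one' := (hind _ 1 (by rw [hl, map_one])).trans (map_one _)
      map_mul' := fun a b => (hind _ (l a * l b) (by rw [hl, map_mul, hl, hl])).trans (map_mul _ _ _)
      map_zero' := (hind _ 0 (by rw [hl, map_zero])).trans (map_zero _)
      map_add' := fun a b => (hind _ (l a + l b) (by rw [hl, map_add, hl, hl])).trans (map_add _ _ _)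
      commutes' := fun c => (hind _ (algebraMap k B c) (by rw [hl, AlgHom.commutes])).trans (AlgHom.commutes _ c) }
    (AlgHom.ext fun a => by
      show Q'.res ((Δ ≫ π) (l a)) = A.res a
      rw [Art.res_app, ← Art.res_app f, hl])
  refine ⟨F.map δ (F.map q₁ y), ?_⟩
  have h1 : (δ ≫ Art.quotFactor hK r hKr) ≫ q₁ = 𝟙 A := Art.hom_ext (AlgHom.ext fun a => by
    show q₁ (r (Δ (l a))) = a
    rw [← Art.comp_apply r q₁, hr₁, Art.comp_apply, show p₁ (Δ (l a)) = l a from congrArg (fun m : B ⟶ B => m (l a)) hΔ₁, hl])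
  have h2 : (δ ≫ Art.quotFactor hK r hKr) ≫ q₂ = 𝟙 A := Art.hom_ext (AlgHom.ext fun a => by
    show q₂ (r (Δ (l a))) = a
    rw [← Art.comp_apply r q₂, hr₂, Art.comp_apply, show p₂ (Δ (l a)) = l a from congrArg (fun m : B ⟶ B => m (l a)) hΔ₂, hl])
  rw [← Groth.Agent.ArtKit.map_comp_app]
  refine (Groth.Agent.ArtKit.injective_cmp_iff hQ).1 (h2' q₁ q₂ hQ).1 _ _ ?_ ?_
  · rw [← Groth.Agent.ArtKit.map_comp_app, h1, Groth.Agent.ArtKit.map_id_app]
  · rw [← Groth.Agent.ArtKit.map_comp_app, h2, Groth.Agent.ArtKit.map_id_app, hy]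

end Groth.Agent.S15134
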