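import Groth.Statements.S15135


set_option autoImplicit false
universe u v
open Deform

namespace Groth.Agent.S15135

/-- For R-modules M ⊆ N, the first-order embedded deformations of M in N are in canonical bijection with
Hom_R(M, N/M). Writing N ⊗ k[ε] = N ⊕ εN as N × N (the pair (x, y) standing for x + εy), such a
deformation is an R-submodule L of N × N which is stable under multiplication by ε (if (x, y) ∈ L
then (0, x) ∈ L), reduces to M (x ∈ M exactly when (x, y) ∈ L for some y) and is flat over the dual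
numbers, flatness being stated elementwise as: (0, y) ∈ L only if y ∈ M (for a submodule reducing to
M this is the equality of the kernel and the image of ε on L, i.e. flatness over k[ε] when R is an
algebra over a field k). To φ : M → N/M corresponds the submodule of all (x, y) with x ∈ M and y ≡
φ(x) mod M. The first clause says this rule defines exactly one submodule for each φ; the second
says that a submodule has the three properties precisely when its membership is given by this rule
for some φ. (The published statement is a linear isomorphism t_G ≅ Hom_R(M, N/M) for the functor G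
of flat deformations of M inside N ⊗ A over local Artinian algebras A; this row states only the
underlying bijection, and the obstruction half is not stated here.) -/
theorem result
    (R : Type u) [CommRing R] (N : Type v) [AddCommGroup N] [Module R N] (M : Submodule R N) :
    (∀ φ : M →ₗ[R] (N ⧸ M), ∃! L : Submodule R (N × N),
        ∀ x y : N, (x, y) ∈ L ↔ ∃ h : x ∈ M, Submodule.Quotient.mk y = φ ⟨x, h⟩) ∧
    (∀ L : Submodule R (N × N),
      ((∀ x y : N, (x, y) ∈ L → ((0 : N), x) ∈ L) ∧
        (∀ x : N, x ∈ M ↔ ∃ y : N, (x, y) ∈ L) ∧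
        (∀ y : N, ((0 : N), y) ∈ L → y ∈ M)) ↔
      ∃ φ : M →ₗ[R] (N ⧸ M), ∀ x y : N, (x, y) ∈ L ↔ ∃ h : x ∈ M, Submodule.Quotient.mk y = φ ⟨x, h⟩) := by
  refine ⟨fun φ => ?_, fun L => ⟨fun ⟨heps, hM, hflat⟩ => ?_, fun ⟨φ, hφ⟩ => ?_⟩⟩
  · let L : Submodule R (N × N) :=
      { carrier := {p | ∃ h : p.1 ∈ M, Submodule.Quotient.mk p.2 = φ ⟨p.1, h⟩}
        add_mem' := fun {a b} ⟨h, e⟩ ⟨h', e'⟩ => ⟨M.add_mem h h', by
          show Submodule.Quotient.mk (a.2 + b.2) = φ (⟨a.1, h⟩ + ⟨b.1, h'⟩)
          rw [LinearMap.map_add, Submodule.Quotient.mk_add, e, e']⟩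
        zero_mem' := ⟨M.zero_mem, (LinearMap.map_zero φ).symm⟩
        smul_mem' := fun c a ⟨h, e⟩ => ⟨M.smul_mem c h, by
          show Submodule.Quotient.mk (c • a.2) = φ (c • ⟨a.1, h⟩)
          rw [LinearMap.map_smul, Submodule.Quotient.mk_smul, e]⟩ }
    refine ⟨L, fun x y => Iff.rfl, fun L' hL' => ?_⟩
    ext ⟨x, y⟩
    exact hL' x y
  · have hex : ∀ x : M, ∃ y, ((x : N), y) ∈ L := fun x => (hM x).1 x.2
    choose s hs using hex
    have key : ∀ (x : M) (y : N), ((x : N), y) ∈ L → (Submodule.Quotient.mk y : N ⧸ M) = Submodule.Quotient.mk (s x) := fun x y h => by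
      rw [Submodule.Quotient.eq]
      exact hflat _ (by simpa using L.sub_mem h (hs x))
    let φ : M →ₗ[R] N ⧸ M :=
      { toFun := fun x => Submodule.Quotient.mk (s x)
        map_add' := fun x y => by
          rw [← Submodule.Quotient.mk_add]
          exact (key (x + y) _ (L.add_mem (hs x) (hs y))).symm
        map_smul' := fun c x => by
          rw [RingHom.id_apply, ← Submodule.Quotient.mk_smul]
          exact (key (c • x) _ (L.smul_mem c (hs x))).symm }
    refine ⟨φ, fun x y => ⟨fun h => ⟨(hM x).2 ⟨y, h⟩, key ⟨x, _⟩ y h⟩, fun ⟨h, e⟩ => ?_⟩⟩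
    have hd : y - s ⟨x, h⟩ ∈ M := (Submodule.Quotient.eq M).1 e
    obtain ⟨z, hz⟩ := (hM _).1 hd
    have h1 := L.add_mem (hs ⟨x, h⟩) (heps _ _ hz)
    simpa using h1
  · have h0 : ∀ y, ((0 : N), y) ∈ L ↔ y ∈ M := fun y => by
      rw [hφ]
      constructor
      · rintro ⟨h, e⟩
        rwa [show (⟨0, h⟩ : M) = 0 from rfl, LinearMap.map_zero, Submodule.Quotient.mk_eq_zero] at e
      · intro hy
        exact ⟨M.zero_mem, by rw [show (⟨0, M.zero_mem⟩ : M) = 0 from rfl, LinearMap.map_zero, Submodule.Quotient.mk_eq_zero]; exact hy⟩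
    refine ⟨fun x y h => (h0 x).2 ((hφ x y).1 h).1, fun x => ⟨fun hx => ?_, fun ⟨y, h⟩ => ((hφ x y).1 h).1⟩,
      fun y h => (h0 y).1 h⟩
    obtain ⟨y, hy⟩ := Submodule.Quotient.mk_surjective M (φ ⟨x, hx⟩)
    exact ⟨y, (hφ x y).2 ⟨hx, hy⟩⟩

end Groth.Agent.S15135
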