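import Groth.Statements.S15138
import Groth.Agent.RatUp.Degree
import Groth.Agent.S2654
import Groth.Agent.Easy3.Excellent

set_option autoImplicit false
universe u
open CategoryTheory CategoryTheory.Limits AlgebraicGeometry
open Resolve

set_option backward.isDefEq.respectTransparency false
set_option backward.isDefEq.respectTransparency.types false

namespace Groth.Agent.S15138

/-- Let A → B be a finite injective ring map between excellent Noetherian normal domains of Krull
dimension two (the affine form of a finite surjective morphism of two-dimensional excellent normal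
integral schemes), let K ⊆ L be the induced extension of fraction fields, and assume that the degree
[L : K] is a unit in A. If B has rational singularities, in the sense that its localization at every
maximal ideal of height two defines a rational singularity (every proper morphism onto the spectrum
from an integral normal scheme which is an isomorphism over a nonempty open has H^1 of the structure
sheaf zero), then A has rational singularities in the same sense. (The published statement is for
schemes; the property is local on the target and a finite morphism is affine, so this row is its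
affine form.) -/
theorem result (A B : Type u) [CommRing A] [CommRing B]
    [IsDomain A] [IsDomain B] [IsNoetherianRing A] [IsNoetherianRing B] [IsIntegrallyClosed A] [IsIntegrallyClosed B]
    (hAe : EGA4.IsExcellent A) (hBe : EGA4.IsExcellent B) (hA2 : ringKrullDim A = 2) (hB2 : ringKrullDim B = 2)
    [Algebra A B] [Module.Finite A B] (hinj : Function.Injective (algebraMap A B))
    (K L : Type u) [Field K] [Field L] [Algebra A K] [IsFractionRing A K] [Algebra B L] [IsFractionRing B L]
    [Algebra K L] [Algebra A L] [IsScalarTower A K L] [IsScalarTower A B L]
    (hdeg : IsUnit ((Module.finrank K L : ℕ) : A))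
    (hB : ∀ (n : Ideal B) [n.IsMaximal], ringKrullDim (Localization.AtPrime n) = 2 →
      Curv2.IsRationalSing (Localization.AtPrime n))
    (m : Ideal A) [m.IsMaximal] (hm : ringKrullDim (Localization.AtPrime m) = 2) :
    Curv2.IsRationalSing (Localization.AtPrime m) := by
  classical
  intro X f hfp hXi hXn hbir
  obtain ⟨U, hU, hUi⟩ := hbir
  haveI := hfp; haveI := hXi; haveI := hUi
  let Am : Type u := Localization.AtPrime m
  let M : Submonoid B := Algebra.algebraMapSubmonoid B m.primeCompl
  let Bm : Type u := Localization M
  have hM : M ≤ nonZeroDivisors B := by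
    rintro _ ⟨a, ha, rfl⟩
    exact mem_nonZeroDivisors_of_ne_zero ((map_ne_zero_iff _ hinj).2 fun h0 => ha (h0 ▸ m.zero_mem))
  haveI : IsDomain Bm := IsLocalization.isDomain_localization hM
  haveI : IsIntegrallyClosed Am :=
    isIntegrallyClosed_of_isLocalization Am m.primeCompl m.primeCompl_le_nonZeroDivisors
  haveI : IsIntegrallyClosed Bm := isIntegrallyClosed_of_isLocalization Bm M hM
  haveI : IsNoetherianRing Bm := IsLocalization.isNoetherianRing M Bm inferInstance
  haveI : IsLocalization (Submonoid.map (algebraMap A B) m.primeCompl) Bm :=
    inferInstanceAs (IsLocalization M (Localization M))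
  letI : Algebra Am Bm := localizationAlgebra m.primeCompl B
  haveI : IsScalarTower A Am Bm :=
    IsScalarTower.of_algebraMap_eq fun a => by
      rw [IsScalarTower.algebraMap_apply A B Bm]
      exact (IsLocalization.map_eq _ a).symm
  haveI : Module.Finite Am Bm := Module.Finite.of_isLocalization A B m.primeCompl
  have hinj' : Function.Injective (algebraMap Am Bm) :=
    IsLocalization.map_injective_of_injective _ _ _ hinj
  -- fraction fields
  letI : Algebra Am K := (IsLocalization.map K (RingHom.id A) (T := nonZeroDivisors A)
    (fun x hx => m.primeCompl_le_nonZeroDivisors hx) : Am →+* K).toAlgebra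
  haveI : IsScalarTower A Am K := IsScalarTower.of_algebraMap_eq fun a => by
    show _ = IsLocalization.map K (RingHom.id A) _ (algebraMap A Am a)
    rw [IsLocalization.map_eq]
    rfl
  haveI : IsFractionRing Am K := IsFractionRing.isFractionRing_of_isDomain_of_isLocalization m.primeCompl Am K
  letI : Algebra Bm L := (IsLocalization.map L (RingHom.id B) (T := nonZeroDivisors B)
    (fun x hx => hM hx) : Bm →+* L).toAlgebra
  haveI : IsScalarTower B Bm L := IsScalarTower.of_algebraMap_eq fun a => by
    show _ = IsLocalization.map L (RingHom.id B) _ (algebraMap B Bm a)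
    rw [IsLocalization.map_eq]
    rfl
  haveI : IsFractionRing Bm L := IsFractionRing.isFractionRing_of_isDomain_of_isLocalization M Bm L
  letI : Algebra Am L := ((algebraMap Bm L).comp (algebraMap Am Bm)).toAlgebra
  haveI : IsScalarTower Am Bm L := IsScalarTower.of_algebraMap_eq fun _ => rfl
  haveI : IsScalarTower Am K L := IsScalarTower.of_algebraMap_eq' (IsLocalization.ringHom_ext m.primeCompl
    (RingHom.ext fun a => by
      show algebraMap Bm L (algebraMap Am Bm (algebraMap A Am a)) = algebraMap K L (algebraMap Am K (algebraMap A Am a))
      rw [← IsScalarTower.algebraMap_apply A Am Bm, ← IsScalarTower.algebraMap_apply A Am K,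
        IsScalarTower.algebraMap_apply A B Bm, ← IsScalarTower.algebraMap_apply B Bm L,
        ← IsScalarTower.algebraMap_apply A B L, ← IsScalarTower.algebraMap_apply A K L]))
  -- dimension and rationality of the localisation
  have hdim : ringKrullDim Bm ≤ 2 := by
    rw [← hB2]
    refine Order.krullDim_le_of_strictMono (PrimeSpectrum.comap (algebraMap B Bm)) ?_
    exact Monotone.strictMono_of_injective (fun (x y : PrimeSpectrum Bm) (h : x ≤ y) => Ideal.comap_mono h)
      (PrimeSpectrum.localization_comap_injective Bm M)
  have hB' : ∀ (n : Ideal Bm) [n.IsMaximal], ringKrullDim (Localization.AtPrime n) = 2 →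
      Curv2.IsRationalSing (Localization.AtPrime n) := by
    intro n hn hn2
    let q : Ideal B := n.comap (algebraMap B Bm)
    haveI : q.IsPrime := Ideal.comap_isPrime _ _
    let e : Localization.AtPrime q ≃+* Localization.AtPrime n :=
      (IsLocalization.localizationLocalizationAtPrimeIsoLocalization M n).toRingEquiv
    have hq2 : ringKrullDim (Localization.AtPrime q) = 2 := (ringKrullDim_eq_of_ringEquiv e).trans hn2
    haveI : q.IsMaximal := by
      obtain ⟨P, hP, hqP⟩ := Ideal.exists_le_maximal q (Ideal.IsPrime.ne_top inferInstance)
      haveI := hP
      rcases hqP.eq_or_lt with h | h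
      · exact h ▸ hP
      · exfalso
        have h1 : ringKrullDim (Localization.AtPrime q) = q.height := IsLocalization.AtPrime.ringKrullDim_eq_height q _
        have h2 : q.height + 1 ≤ P.height := Ideal.height_add_one_le_of_lt_of_isPrime h
        have h3 : (P.height : WithBot ℕ∞) ≤ ringKrullDim B :=
          Ideal.height_le_ringKrullDim_of_ne_top hP.ne_top
        rw [h1] at hq2
        rw [hB2] at h3
        have h4 : q.height = 2 := WithBot.coe_injective hq2
        have h5 : P.height ≤ 2 := WithBot.coe_le_coe.1 h3
        rw [h4] at h2
        exact absurd (h2.trans h5) (by decide)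
    exact RatLocal.isRationalSing_of_ringEquiv e (hB q hq2)
  letI : X.Over (Spec (CommRingCat.of Am)) := ⟨f⟩
  haveI : IsProper (X ↘ Spec (CommRingCat.of Am)) := hfp
  haveI : IsIso ((X ↘ Spec (CommRingCat.of Am)) ∣_ U) := hUi
  have hex := Easy3.isExcellent_localization hBe M
  have key := fun x => RatUp.natCast_smul_h1 (S2654.result Bm ⟨hex.1, hex.2.2.1, hex.2.2.2⟩) hinj' hdim hB' K L hXn U hU x
  refine subsingleton_of_forall_eq 0 fun x => ?_
  have hu : IsUnit ((Module.finrank K L : ℕ) : Am) := by
    rw [← map_natCast (algebraMap A Am)]
    exact hdeg.map _
  exact hu.smul_eq_zero.1 (key x)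

end Groth.Agent.S15138
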