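import Groth.Statements.S1514
import Groth.Agent.PCMor.Scheme
import Groth.Agent.S7070

set_option autoImplicit false
set_option linter.style.haveILetI false
set_option backward.isDefEq.respectTransparency false
open Groth.Agent
universe u
attribute [local instance] HasDerivedCategory.standard
open FlatMor

namespace Groth.Agent.S1514

open AlgebraicGeometry CategoryTheory Limits in
/-- A local complete intersection morphism (affine-locally: lci ring maps) is locally of finite
presentation, pseudo-coherent and perfect. -/
theorem result {X S : Scheme.{u}} (f : X ⟶ S)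
    (hf : (∀ (U : X.Opens) (V : S.Opens) (hU : IsAffineOpen U) (hV : IsAffineOpen V) (hUV : U ≤ f ⁻¹ᵁ V),
        letI := (f.appLE V U hUV).hom.toAlgebra
        LCI.IsLCI Γ(S, V) Γ(X, U))) :
    LocallyOfFinitePresentation f ∧ MoreMor.IsPseudoCoherentMor f ∧ MoreMor.IsPerfectMor f := by
  have hpf : MoreMor.IsPerfectMor f := fun U V hU hV hUV => by
    letI := (f.appLE V U hUV).hom.toAlgebra
    exact Groth.Agent.S7070.result Γ(S, V) Γ(X, U) (hf U V hU hV hUV)
  refine ⟨?_, fun U V hU hV hUV => (hpf U V hU hV hUV).1, hpf⟩
  rw [HasRingHomProperty.iff_appLE (P := @LocallyOfFinitePresentation)]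
  exact fun V U e => PCMor.PC.finitePresentation (f := (f.appLE _ _ e).hom) (hpf U V U.2 V.2 e).1

end Groth.Agent.S1514
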