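import Groth.Statements.S15142
import Groth.Agent.S15138
import Groth.Agent.S1648
import Groth.Agent.S2654
import Groth.Agent.Easy3.Excellent
import Groth.Agent.RegLoc.Normal
import Groth.Agent.SerreReg.MiracleFinite

set_option autoImplicit false
universe u
open CategoryTheory CategoryTheory.Limits AlgebraicGeometry
open Resolve

set_option backward.isDefEq.respectTransparency false
set_option backward.isDefEq.respectTransparency.types false

namespace Groth.Agent.S15142

/-- Let R be a Noetherian domain, let A be an excellent Noetherian regular domain of Krull dimension two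
(all localizations at primes are regular local rings) which is essentially of finite type over R,
and suppose a finite group G acts on A through ring automorphisms that commute with the R-action. If
the order of G is a unit in A, then the ring of invariants A^G has rational singularities: its
localization at every maximal ideal of height two defines a rational singularity (every proper
morphism onto the spectrum from an integral normal scheme which is an isomorphism over a nonempty
open has H^1 of the structure sheaf zero). (The published statement does not assume the ring of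
invariants excellent; its argument passes through the finite extension A^G ⊆ A of two-dimensional
excellent normal domains of degree dividing the order of G, and this row carries the excellence of
A^G as a hypothesis.) -/
theorem result (R A : Type u) [CommRing R] [IsDomain R]
    [IsNoetherianRing R] [CommRing A] [IsDomain A] [IsNoetherianRing A] [Algebra R A] [Algebra.EssFiniteType R A]
    (hAe : EGA4.IsExcellent A) (hA2 : ringKrullDim A = 2)
    (hreg : ∀ (p : Ideal A) [p.IsPrime], IsRegularLocalRing (Localization.AtPrime p))
    (G : Type u) [Group G] [Finite G] [MulSemiringAction G A] [SMulCommClass G R A]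
    (hG : IsUnit ((Nat.card G : ℕ) : A))
    (hGe : EGA4.IsExcellent (FixedPoints.subring A G))
    (m : Ideal (FixedPoints.subring A G)) [m.IsMaximal] (hm : ringKrullDim (Localization.AtPrime m) = 2) :
    Curv2.IsRationalSing (Localization.AtPrime m) := by
  classical
  let A₀ : Type u := FixedPoints.subring A G
  haveI : IsNoetherianRing A₀ := hGe.1
  haveI : IsDomain A₀ := inferInstanceAs (IsDomain (FixedPoints.subring A G))
  have hinj : Function.Injective (algebraMap (FixedPoints.subring A G) A) := Subtype.val_injective
  haveI : Algebra.IsInvariant (FixedPoints.subring A G) A G := ⟨fun b hb => ⟨⟨b, hb⟩, rfl⟩⟩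
  haveI : Algebra.IsIntegral (FixedPoints.subring A G) A := Algebra.IsInvariant.isIntegral _ A G
  -- normality
  haveI : IsIntegrallyClosed A := IsIntegrallyClosed.of_localization_maximal fun p _ _ => by
    haveI := hreg p
    exact RegLoc.isIntegrallyClosed
  -- finiteness
  let ι : R →+* FixedPoints.subring A G := (algebraMap R A).codRestrict _ fun r g => smul_algebraMap g r
  letI : Algebra R (FixedPoints.subring A G) := ι.toAlgebra
  haveI : IsScalarTower R (FixedPoints.subring A G) A := IsScalarTower.of_algebraMap_eq fun _ => rfl
  haveI : Algebra.EssFiniteType (FixedPoints.subring A G) A := Algebra.EssFiniteType.of_comp R _ A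
  haveI : Module.Finite (FixedPoints.subring A G) A := by
    obtain ⟨s, hs⟩ := (Algebra.essFiniteType_iff (R := FixedPoints.subring A G) (S := A)).1 inferInstance
    let B := Algebra.adjoin (FixedPoints.subring A G) (s : Set A)
    have hB : B = ⊤ := eq_top_iff.2 fun a _ => by
      obtain ⟨t, htB, htu, hta⟩ := hs a
      obtain ⟨t', ht'⟩ := htu.exists_left_inv
      haveI : Algebra.IsIntegral B A := Algebra.IsIntegral.tower_top (FixedPoints.subring A G)
      have htu' : IsUnit (⟨t, htB⟩ : B) :=
        isUnit_of_map_unit (algebraMap B A) _ htu
      obtain ⟨w, hw⟩ := htu'.exists_left_inv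
      have hw' : (w : A) * t = 1 := congrArg Subtype.val hw
      have : a = (w : A) * (a * t) := by rw [mul_left_comm, hw', mul_one]
      rw [this]
      exact B.mul_mem w.2 hta
    refine ⟨?_⟩
    rw [← Algebra.top_toSubmodule, ← hB]
    exact fg_adjoin_of_finite s.finite_toSet fun x _ => Algebra.IsIntegral.isIntegral x
  -- fraction fields
  let K : Type u := FractionRing (FixedPoints.subring A G)
  let L : Type u := FractionRing A
  haveI : FaithfulSMul (FixedPoints.subring A G) A := (faithfulSMul_iff_algebraMap_injective _ _).2 hinj
  letI : Algebra K L := FractionRing.liftAlgebra _ L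
  letI : MulSemiringAction G L := IsFractionRing.mulSemiringAction G A L
  haveI : SMulDistribClass G A L := IsFractionRing.smulDistribClass G A L
  haveI : SMulCommClass G (FixedPoints.subring A G) A := ⟨fun g a x => by
    rw [Algebra.smul_def, Algebra.smul_def, smul_mul']
    congr 1
    exact a.2 g⟩
  haveI hKL : Algebra.IsInvariant K L G := IsFractionRing.isInvariant G (FixedPoints.subring A G) A K L
  haveI : SMulCommClass G K L := IsFractionRing.smulCommClass G (FixedPoints.subring A G) A K L
  haveI : IsIntegrallyClosed (FixedPoints.subring A G) := (isIntegrallyClosed_iff K).2 fun {x} hx => by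
    have h1 : IsIntegral A (algebraMap K L x) :=
      (hx.map (IsScalarTower.toAlgHom (FixedPoints.subring A G) K L)).tower_top
    obtain ⟨a, ha⟩ := IsIntegrallyClosed.isIntegral_iff.1 h1
    have hfix : ∀ g : G, g • a = a := fun g => IsFractionRing.injective A L (by
      rw [show algebraMap A L (g • a) = g • algebraMap A L a from algebraMap.coe_smul' g a L, ha, smul_algebraMap])
    refine ⟨⟨a, hfix⟩, (algebraMap K L).injective ?_⟩
    rw [← IsScalarTower.algebraMap_apply, IsScalarTower.algebraMap_apply (FixedPoints.subring A G) A L]
    exact ha
  -- the degree divides the order of the group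
  have hdvd : Module.finrank K L ∣ Nat.card G := by
    let φ : G →* L ≃+* L := MulSemiringAction.toRingAut G L
    let H := φ.range
    haveI : Finite H := Finite.of_surjective φ.rangeRestrict φ.rangeRestrict_surjective
    haveI : FaithfulSMul H L := ⟨fun {h₁ h₂} h => Subtype.ext (RingEquiv.ext h)⟩
    letI := Fintype.ofFinite H
    have e1 : Module.finrank (FixedPoints.subfield H L) L = Nat.card H := by
      rw [FixedPoints.finrank_eq_card H L, Nat.card_eq_fintype_card]
    let i : K →+* FixedPoints.subfield H L := (algebraMap K L).codRestrict _ fun x h => by
      obtain ⟨g, hg⟩ := h.2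
      show (h : L ≃+* L) (algebraMap K L x) = algebraMap K L x
      rw [← hg]
      exact smul_algebraMap g x
    have hi : Function.Bijective i := ⟨i.injective, fun y => by
      obtain ⟨x, hx⟩ := hKL.isInvariant (y : L) fun g => y.2 ⟨φ g, g, rfl⟩
      exact ⟨x, Subtype.ext hx⟩⟩
    have e2 : Module.finrank K L = Module.finrank (FixedPoints.subfield H L) L :=
      Algebra.finrank_eq_of_equiv_equiv (RingEquiv.ofBijective i hi) (RingEquiv.refl L) (RingHom.ext fun _ => rfl)
    rw [e2, e1]
    exact Subgroup.card_range_dvd φ
  have hdeg : IsUnit ((Module.finrank K L : ℕ) : FixedPoints.subring A G) := by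
    have hu : IsUnit ((Module.finrank K L : ℕ) : A) := by
      obtain ⟨c, hc⟩ := hdvd
      rw [hc, Nat.cast_mul] at hG
      exact isUnit_of_mul_isUnit_left hG
    exact isUnit_of_map_unit (algebraMap (FixedPoints.subring A G) A) _ (by rw [map_natCast]; exact hu)
  -- dimensions
  have hd : ringKrullDim (FixedPoints.subring A G) = 2 := by
    refine le_antisymm (hA2 ▸ SerreReg.ringKrullDim_le_of_isIntegral hinj) ?_
    rw [← hA2]
    refine Order.krullDim_le_of_strictMono (PrimeSpectrum.comap (algebraMap _ A)) fun x y h => ?_
    exact Ideal.IsIntegral.comap_lt_comap (I := x.asIdeal) (J := y.asIdeal) h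
  refine S15138.result (FixedPoints.subring A G) A hGe hAe hd hA2 hinj K L hdeg (fun n _ hn => ?_) m hm
  haveI := hreg n
  have hex := Easy3.isExcellent_localization hAe n.primeCompl
  exact S1648.result _ (S2654.result _ ⟨hex.1, hex.2.2.1, hex.2.2.2⟩) hn

end Groth.Agent.S15142
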