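import Groth.Statements.S1515
import Groth.Agent.TorCI.DiagSmooth
import Groth.Agent.PCMor.FppfSourceSch
import Groth.Agent.KoszulLib.SchNoeth
import Groth.Agent.S9729
import Groth.Agent.S8656
import Groth.Agent.S9773
import Groth.Agent.S8663

set_option autoImplicit false
set_option linter.style.haveILetI false
set_option backward.isDefEq.respectTransparency false
open Groth.Agent
open AlgebraicGeometry CategoryTheory Limits
universe u
attribute [local instance] HasDerivedCategory.standard
open FlatMor

namespace Groth.Agent.S1515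

open AlgebraicGeometry CategoryTheory Limits in
/-- (1) ⇔ (2) ⇔ (4): let f : X → Y be separated and of finite type between locally Noetherian schemes,
with diagonal Δ (a closed immersion). Then f is smooth iff f is flat and Δ is a regular closed
immersion, iff f is flat and Δ is a perfect morphism. -/
theorem result {X Y : Scheme.{u}} (f : X ⟶ Y) [IsSeparated f] [LocallyOfFiniteType f] [QuasiCompact f] [IsLocallyNoetherian X] [IsLocallyNoetherian Y] :
    (Smooth f ↔ Flat f ∧ Mor2.IsRegularClosedImmersion (pullback.diagonal f)) ∧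
    (Smooth f ↔ Flat f ∧ MoreMor.IsPerfectMor (pullback.diagonal f)) := by
  haveI : LocallyOfFinitePresentation f := by
    rw [HasRingHomProperty.iff_appLE (P := @LocallyOfFinitePresentation)]
    intro V U e
    haveI : IsNoetherianRing Γ(Y, V.1) := IsLocallyNoetherian.component_noetherian V
    have h1 : (f.appLE V.1 U.1 e).hom.FiniteType := HasRingHomProperty.appLE @LocallyOfFiniteType f inferInstance V U e
    exact RingHom.FinitePresentation.of_finiteType.1 h1
  haveI : IsLocallyNoetherian (pullback f f) := LocallyOfFiniteType.isLocallyNoetherian (pullback.snd f f)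
  haveI : IsClosedImmersion (pullback.diagonal f) := inferInstance
  have hsmoothReg : Smooth f → Mor2.IsRegularClosedImmersion (pullback.diagonal f) := by
    intro hs
    haveI : Smooth (pullback.snd f f) := MorphismProperty.pullback_snd _ _ inferInstance
    have hid : ∀ x : X, Synt.IsKoszulAt (pullback.diagonal f ≫ pullback.snd f f) x := by
      rw [pullback.diagonal_snd]
      intro x
      refine S9773.result (𝟙 X) .regular (Or.inl rfl) ⟨inferInstance, fun z => ?_⟩ x
      rw [KoszulLib.isRegularImmersionAt_iff_stalk]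
      refine ⟨[], ?_, RingTheory.Sequence.IsRegular.nil _ _⟩
      rw [Ideal.ofList_nil, eq_comm, ← RingHom.injective_iff_ker_eq_bot]
      exact ((ConcreteCategory.isIso_iff_bijective ((𝟙 X : X ⟶ X).stalkMap z)).1 inferInstance).1
    have hk := S8656.result (pullback.diagonal f ≫ pullback.snd f f)
      (fun x => hid x) (pullback.snd f f) (pullback.diagonal f) rfl
    refine ⟨inferInstance, fun z => ?_⟩
    obtain ⟨U, hzU, hc, rs, hrs, hker⟩ :=
      (KoszulLib.isRegularImmersionAt_kind_iff .koszul .regular (pullback.diagonal f) z).1 (hk.2 z)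
    exact ⟨U.1, U.2, hzU, rs, hrs, (Scheme.Hom.ker_apply (pullback.diagonal f) U).trans hker⟩
  have hregPerf : Mor2.IsRegularClosedImmersion (pullback.diagonal f) →
      MoreMor.IsPerfectMor (pullback.diagonal f) := by
    intro hr
    refine S8663.result _ fun x => S9773.result _ .regular (Or.inl rfl) ⟨inferInstance, fun z => ?_⟩ x
    obtain ⟨U, hU, hzU, rs, hrs, hker⟩ := hr.2 z
    exact ⟨⟨U, hU⟩, hzU, IsZariskiLocalAtTarget.restrict (P := @IsClosedImmersion) inferInstance _, rs, hrs,
      (Scheme.Hom.ker_apply (pullback.diagonal f) ⟨U, hU⟩).symm.trans hker⟩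
  have hperfSmooth : Flat f → MoreMor.IsPerfectMor (pullback.diagonal f) → Smooth f := by
    intro hfl hd
    rw [HasRingHomProperty.iff_appLE (P := @Smooth)]
    intro V U e
    haveI : IsNoetherianRing Γ(Y, V.1) := IsLocallyNoetherian.component_noetherian V
    algebraize [(f.appLE V.1 U.1 e).hom]
    haveI : Module.Flat Γ(Y, V.1) Γ(X, U.1) := Flat.flat_appLE f V.2 U.2 e
    haveI : Algebra.FiniteType Γ(Y, V.1) Γ(X, U.1) :=
      HasRingHomProperty.appLE @LocallyOfFiniteType f inferInstance V U e
    refine RingHom.smooth_algebraMap.2 (TorCI.smooth_of_diag Γ(Y, V.1) Γ(X, U.1) ?_)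
    let b : Spec Γ(X, U.1) ⟶ Spec Γ(Y, V.1) := Spec.map (f.appLE V.1 U.1 e)
    have hb : b ≫ V.2.fromSpec = U.2.fromSpec ≫ f := IsAffineOpen.SpecMap_appLE_fromSpec f V.2 U.2 e
    let m0 : pullback b b ⟶ pullback f f :=
      pullback.map b b f f U.2.fromSpec U.2.fromSpec V.2.fromSpec hb hb
    let m : Spec (CommRingCat.of (TensorProduct Γ(Y, V.1) Γ(X, U.1) Γ(X, U.1))) ⟶ pullback f f :=
      (pullbackSpecIso Γ(Y, V.1) Γ(X, U.1) Γ(X, U.1)).inv ≫ m0
    let μ := (Algebra.TensorProduct.lmul' Γ(Y, V.1) (S := Γ(X, U.1))).toRingHom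
    have hm : U.2.fromSpec ≫ pullback.diagonal f = Spec.map (CommRingCat.ofHom μ) ≫ m := by
      apply pullback.hom_ext
      · simp only [m, m0, Category.assoc, pullback.diagonal_fst, Category.comp_id, pullback.map, pullback.lift_fst]
        have hpr : (pullbackSpecIso Γ(Y, V.1) Γ(X, U.1) Γ(X, U.1)).inv ≫ pullback.fst b b =
          Spec.map (CommRingCat.ofHom Algebra.TensorProduct.includeLeftRingHom) := pullbackSpecIso_inv_fst _ _ _
        rw [reassoc_of% hpr, ← Spec.map_comp_assoc]
        rw [show CommRingCat.ofHom Algebra.TensorProduct.includeLeftRingHom ≫ CommRingCat.ofHom μ = 𝟙 _ by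
          ext a; simp [μ], Spec.map_id, Category.id_comp]
      · simp only [m, m0, Category.assoc, pullback.diagonal_snd, Category.comp_id, pullback.map, pullback.lift_snd]
        have hpr : (pullbackSpecIso Γ(Y, V.1) Γ(X, U.1) Γ(X, U.1)).inv ≫ pullback.snd b b =
          Spec.map (CommRingCat.ofHom Algebra.TensorProduct.includeRight.toRingHom) := pullbackSpecIso_inv_snd _ _ _
        rw [reassoc_of% hpr, ← Spec.map_comp_assoc]
        rw [show CommRingCat.ofHom Algebra.TensorProduct.includeRight.toRingHom ≫ CommRingCat.ofHom μ = 𝟙 _ by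
          ext a; simp [μ], Spec.map_id, Category.id_comp]
    haveI : IsOpenImmersion m0 := inferInstance
    haveI : IsOpenImmersion m := inferInstance
    have h1 : MoreMor.IsPerfectMor (Spec.map (CommRingCat.ofHom μ) ≫ m) := by
      rw [← hm]
      exact MorphismProperty.comp_mem _ _ _ (PCMor.pfMor_of_flat_lfp U.2.fromSpec) hd
    have h2 : MoreMor.IsPerfectMor (Spec.map (CommRingCat.ofHom μ)) :=
      PCMor.baseChange_of_flat (P := @MoreMor.IsPerfectMor) (Q := @PCMor.Pf)
        (fun h => PCMor.Pf.baseChange h) _ _ (𝟙 _) m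
        ⟨⟨by simp⟩, ⟨PullbackCone.IsLimit.mk _ (fun s => s.fst) (fun s => by simp)
          (fun s => by rw [← cancel_mono m]; simpa using s.condition) (fun s l hl _ => by simpa using hl)⟩⟩ h1
    exact ((HasRingHomProperty.Spec_iff (P := @MoreMor.IsPerfectMor)).1 h2).2
  exact ⟨⟨fun hs => ⟨inferInstance, hsmoothReg hs⟩, fun h => hperfSmooth h.1 (hregPerf h.2)⟩,
    ⟨fun hs => ⟨inferInstance, hregPerf (hsmoothReg hs)⟩, fun h => hperfSmooth h.1 h.2⟩⟩

end Groth.Agent.S1515
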