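import Groth.Statements.S15150
import Mathlib

set_option autoImplicit false
universe u
open HilbZeta

namespace Groth.Agent.S15150

section
open scoped TensorProduct

/-- In a finite dimensional algebra, the `finrank`-th power of a nil ideal vanishes. -/
lemma pow_finrank_eq_bot (K Q : Type u) [Field K] [CommRing Q] [Algebra K Q] [Module.Finite K Q]
    (J : Ideal Q) (hJ : J ≤ nilradical Q) : J ^ Module.finrank K Q = ⊥ := by
  haveI : IsArtinianRing Q := IsArtinianRing.of_finite K Q
  obtain ⟨N, hN⟩ := IsArtinianRing.isNilpotent_nilradical (R := Q)
  rcases subsingleton_or_nontrivial Q with h | h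
  · exact Subsingleton.elim _ _
  have key : ∀ i, J ^ i = ⊥ ∨ i + Module.finrank K ((J ^ i).restrictScalars K) ≤ Module.finrank K Q := by
    intro i
    induction i with
    | zero => right; simpa using Submodule.finrank_le _
    | succ i ih =>
      rcases ih with ih | ih
      · left; rw [pow_succ, ih, Ideal.bot_mul]
      by_cases heq : J ^ (i + 1) = J ^ i
      · left
        have stab : ∀ m, J ^ (i + m) = J ^ i := fun m ↦ by
          induction m with
          | zero => rfl
          | succ m ihm => rw [← add_assoc, pow_succ, ihm, ← pow_succ, heq]
        rw [heq, ← stab N, eq_bot_iff]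
        calc J ^ (i + N) ≤ J ^ N := Ideal.pow_le_pow_right (by omega)
          _ ≤ nilradical Q ^ N := Ideal.pow_right_mono hJ N
          _ = ⊥ := hN
      · right
        have hlt : (J ^ (i + 1)).restrictScalars K < (J ^ i).restrictScalars K :=
          lt_of_le_of_ne (fun x hx ↦ Ideal.pow_le_pow_right (Nat.le_succ i) hx)
            fun e ↦ heq (Submodule.restrictScalars_injective K Q Q e)
        have := Submodule.finrank_lt_finrank_of_lt hlt
        omega
  rcases key (Module.finrank K Q) with h' | h'
  · exact h'
  · have : ((J ^ Module.finrank K Q).restrictScalars K) = ⊥ := Submodule.finrank_eq_zero.mp (by omega)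
    simpa using this

end

/-- Let A be a reduced commutative ring, S an A-algebra together with an A-algebra homomorphism π : S →
A (a section of Spec S → Spec A), with kernel m, and I an ideal of S such that S/I is a finite
projective A-module of constant rank d and m is contained in the radical of I (the finite flat
subscheme Spec S/I of degree d lies, as a set, on the section). Then m^d ⊆ I: the subscheme lies in
the (d−1)-st infinitesimal neighbourhood of the section. (The published statement is for a closed
subscheme, flat and proper of degree d over a Noetherian base, of a family of reduced curve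
singularities with a section, with no reducedness assumption on the base; over the dual numbers k[ε]
the ideal (x − ε) of k[ε][x] has quotient free of rank one and radical containing x but does not
contain x, so the base is taken reduced here, and the statement is given in its affine form, to
which the argument reduces at once; the curve hypotheses play no role and are dropped; the condition
that Spec S/I lies set-theoretically on the section, which the published argument deduces from
properness of Z inside the germ, is a hypothesis here.) -/
theorem result (A : Type u) [CommRing A] [IsReduced A]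
    (S : Type u) [CommRing S] [Algebra A S] (π : S →ₐ[A] A) (I : Ideal S) (d : ℕ)
    [Module.Finite A (S ⧸ I)] [Module.Projective A (S ⧸ I)]
    (hrank : ∀ p : PrimeSpectrum A, Module.rankAtStalk (R := A) (S ⧸ I) p = d)
    (hsupp : RingHom.ker π ≤ I.radical) :
    RingHom.ker π ^ d ≤ I := by
  rw [Submodule.pow_eq_span_pow_set, Ideal.span_le]
  intro z hz
  obtain ⟨t, rfl⟩ := Set.mem_pow.mp hz
  show (List.ofFn fun i ↦ (t i : S)).prod ∈ I
  rw [← Ideal.Quotient.eq_zero_iff_mem, ← Module.forall_dual_apply_eq_zero_iff A]
  intro g
  suffices g (Ideal.Quotient.mk I (List.ofFn fun i ↦ (t i : S)).prod) ∈ nilradical A by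
    rw [nilradical_eq_zero] at this
    exact this
  rw [nilradical_eq_sInf, Ideal.mem_sInf]
  intro p hp
  haveI : p.IsPrime := hp
  let K := p.ResidueField
  let Q := TensorProduct A K (S ⧸ I)
  let q : S →+* Q := (Algebra.TensorProduct.includeRight (R := A) (A := K) (B := S ⧸ I)).toRingHom.comp (Ideal.Quotient.mk I)
  have hd : Module.finrank K Q = d := by
    have := Module.rankAtStalk_baseChange (R := A) (M := S ⧸ I) (S := K) (⟨⊥, Ideal.isPrime_bot⟩ : PrimeSpectrum K)
    rw [Module.rankAtStalk_eq_finrank_of_free, hrank] at this
    exact this
  have hnil : Ideal.map q (RingHom.ker π) ≤ nilradical Q := Ideal.map_le_iff_le_comap.mpr fun s hs ↦ by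
    obtain ⟨m, hm⟩ := hsupp hs
    refine ⟨m, ?_⟩
    rw [← map_pow]
    show Algebra.TensorProduct.includeRight (Ideal.Quotient.mk I (s ^ m)) = 0
    rw [Ideal.Quotient.eq_zero_iff_mem.mpr hm, map_zero]
  have hq : q (List.ofFn fun i ↦ (t i : S)).prod ∈ Ideal.map q (RingHom.ker π) ^ d := by
    rw [← Ideal.map_pow]
    refine Ideal.mem_map_of_mem q ?_
    rw [Submodule.pow_eq_span_pow_set]
    exact Submodule.subset_span hz
  have hbot := pow_finrank_eq_bot K Q _ hnil
  rw [hd] at hbot
  rw [hbot, Ideal.mem_bot] at hq
  have h := congrArg (LinearMap.baseChange K g) hq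
  rw [map_zero] at h
  change LinearMap.baseChange K g ((1 : K) ⊗ₜ[A] Ideal.Quotient.mk I (List.ofFn fun i ↦ (t i : S)).prod) = 0 at h
  have h2 := congrArg (TensorProduct.AlgebraTensorModule.rid A K K) h
  rw [LinearMap.baseChange_tmul, TensorProduct.AlgebraTensorModule.rid_tmul, map_zero, Algebra.smul_def, mul_one] at h2
  rwa [← Ideal.algebraMap_residueField_eq_zero]

end Groth.Agent.S15150
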