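import Groth.Statements.S15152
import Groth.Agent.BranchLen.Basic

set_option autoImplicit false
universe u
open HilbZeta

namespace Groth.Agent.S15152

/-- Let k be a field, s a natural number and R a k-subalgebra of the product of s copies of the power
series ring k[[x]], of finite codimension δ over k and local with residue field k (all components of
an element of R have the same constant term); write v_i for the x-adic order of the i-th component
of an s-tuple, and let c = (c_1, …, c_s) be the conductor exponents, so that an s-tuple f satisfies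
f·g ∈ R for every s-tuple g exactly when v_i(f) ≥ c_i for all i (over an algebraically closed field
such an R is precisely the completed local ring of a reduced curve singularity having s branches
sitting inside its normalisation, δ is its delta invariant and the conductor ideal is generated by
the x_i^{c_i}). Let A be the k-subalgebra of the product of s polynomial rings k[x] consisting of
the tuples whose image in the power series product lies in R, and m₀ its ideal of tuples with zero
constant terms. Then: A is of finite type over k and has no idempotents besides 0 and 1; the product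
of polynomial rings is a finite A-module, and for some N every product of N elements of m₀
multiplies all of it into A; every element of R is approximated to any x-adic order by elements of
A; and for every N there is an M such that every element of A whose components are all divisible by
x^M lies in m₀^N. In words: Y = Spec A is a connected affine curve whose normalisation is the
disjoint union of s affine lines and is an isomorphism away from the origin, and the completed local
ring of Y at the origin is R, compatibly with the inclusion of the polynomial product in the power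
series product. (The published statement asserts the existence of such a curve Y and is over an
algebraically closed field; this row names Y and allows any field.) -/
theorem result (k : Type u) [Field k] (s : ℕ)
    (R : Subalgebra k (Fin s → PowerSeries k))
    (hfin : Module.Finite k ((Fin s → PowerSeries k) ⧸ Subalgebra.toSubmodule R))
    (hloc : ∀ f ∈ R, ∀ i j : Fin s, PowerSeries.constantCoeff (f i) = PowerSeries.constantCoeff (f j))
    (c : Fin s → ℕ)
    (hc : ∀ f : Fin s → PowerSeries k,
      (∀ g : Fin s → PowerSeries k, g * f ∈ R) ↔ ∀ i, ((c i : ℕ) : ℕ∞) ≤ (f i).order)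
    (A : Subalgebra k (Fin s → Polynomial k))
    (hA : ∀ g : Fin s → Polynomial k, g ∈ A ↔ (fun i => ((g i : Polynomial k) : PowerSeries k)) ∈ R) :
    Algebra.FiniteType k ↥A ∧
    (∀ e ∈ A, e * e = e → e = 0 ∨ e = 1) ∧
    Module.Finite ↥A (Fin s → Polynomial k) ∧
    (∃ N : ℕ, ∀ g : Fin N → (Fin s → Polynomial k),
      (∀ n, g n ∈ A ∧ ∀ i, (g n i).coeff 0 = 0) → ∀ p : Fin s → Polynomial k, p * ∏ n, g n ∈ A) ∧
    (∀ f ∈ R, ∀ N : ℕ, ∃ g ∈ A, ∀ i : Fin s, (N : ℕ∞) ≤ (f i - ((g i : Polynomial k) : PowerSeries k)).order) ∧
    (∀ N : ℕ, ∃ M : ℕ, ∀ g : ↥A, (∀ i : Fin s, Polynomial.X ^ M ∣ (g : Fin s → Polynomial k) i) →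
      g ∈ (Ideal.span {h : ↥A | ∀ i : Fin s, ((h : Fin s → Polynomial k) i).coeff 0 = 0}) ^ N) := by
  classical
  set C := (∑ i, c i) + 1 with hC
  have hcC : ∀ i, c i ≤ C := fun i => (Finset.single_le_sum (fun j _ => Nat.zero_le (c j)) (Finset.mem_univ i)).trans (Nat.le_succ _)
  have hdiv : ∀ g : Fin s → Polynomial k, (∀ i, Polynomial.X ^ (c i) ∣ g i) → g ∈ A := fun g hg => (hA g).2
    (Groth.Agent.BranchLen.mem_of_order hc fun i => (Groth.Agent.BranchLen.dvd_iff_order _ _).1 (by
      obtain ⟨w, hw⟩ := hg i
      exact ⟨(w : PowerSeries k), by rw [hw, Polynomial.coe_mul, Polynomial.coe_pow, Polynomial.coe_X]⟩))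
  have hpiece : ∀ (g : Fin s → Polynomial k) (n : ℕ), (∀ i, Polynomial.X ^ n ∣ g i) → (∀ i, c i ≤ n) → g ∈ A :=
    fun g n hg hn => hdiv g fun i => (pow_dvd_pow _ (hn i)).trans (hg i)
  let gens : Finset (Fin s → Polynomial k) := insert 1 ((Finset.univ (α := Fin s) ×ˢ Finset.range C).image
    fun il => Pi.single il.1 (Polynomial.X ^ il.2))
  have hfinA : Module.Finite A (Fin s → Polynomial k) := by
    refine ⟨⟨gens, eq_top_iff.2 fun g _ => ?_⟩⟩
    have hsplit : g = (g - fun i => ∑ l ∈ Finset.range C, Polynomial.C ((g i).coeff l) * Polynomial.X ^ l) +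
        ∑ i, ∑ l ∈ Finset.range C, (g i).coeff l • (Pi.single i (Polynomial.X ^ l) : Fin s → Polynomial k) := by
      funext j
      simp only [Pi.add_apply, Pi.sub_apply, Finset.sum_apply, Pi.smul_apply]
      rw [Finset.sum_eq_single j (fun i _ hi => by simp [Pi.single_eq_of_ne hi.symm]) (by simp)]
      simp [Polynomial.smul_eq_C_mul]
    rw [hsplit]
    refine add_mem ?_ (sum_mem fun i _ => sum_mem fun l hl => ?_)
    · have hmem := hpiece (g - fun i => ∑ l ∈ Finset.range C, Polynomial.C ((g i).coeff l) * Polynomial.X ^ l) C
        (fun i => Polynomial.X_pow_dvd_iff.2 fun d hd => by simp [Polynomial.coeff_X_pow, hd]) hcC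
      have h1 := Submodule.smul_mem (Submodule.span A (gens : Set (Fin s → Polynomial k))) ⟨_, hmem⟩
        (Submodule.subset_span (Finset.mem_coe.2 (Finset.mem_insert_self 1 _)))
      simpa [Subalgebra.smul_def] using h1
    · rw [← algebraMap_smul A ((g i).coeff l)]
      exact Submodule.smul_mem _ _ (Submodule.subset_span (Finset.mem_coe.2 (Finset.mem_insert_of_mem
        (Finset.mem_image.2 ⟨(i, l), Finset.mem_product.2 ⟨Finset.mem_univ _, hl⟩, rfl⟩))))
  haveI := hfinA
  refine ⟨⟨fg_of_fg_of_fg k A (Fin s → Polynomial k) Algebra.FiniteType.out hfinA.1 Subtype.val_injective⟩,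
    fun e he hee => ?_, hfinA, ⟨C, fun g hg p => hpiece _ C (fun i => ?_) hcC⟩, fun f hf N => ?_, fun N => ?_⟩
  · have h1 : ∀ i, e i = 0 ∨ e i = 1 := fun i => IsIdempotentElem.iff_eq_zero_or_one.1 (congrFun hee i)
    rcases isEmpty_or_nonempty (Fin s) with h | ⟨⟨i₀⟩⟩
    · exact Or.inl (funext fun i => h.elim i)
    have h2 : ∀ i, (e i).coeff 0 = (e i₀).coeff 0 := fun i => by
      have := hloc _ ((hA e).1 he) i i₀
      simpa using this
    rcases h1 i₀ with h | h
    · refine Or.inl (funext fun i => (h1 i).resolve_right fun h' => ?_)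
      have := h2 i; rw [h, h'] at this; simp at this
    · refine Or.inr (funext fun i => (h1 i).resolve_left fun h' => ?_)
      have := h2 i; rw [h, h'] at this; simp at this
  · rw [Pi.mul_apply, Finset.prod_apply]
    refine Dvd.dvd.mul_left ?_ _
    have : Polynomial.X ^ (Finset.univ (α := Fin C)).card ∣ ∏ n, g n i := by
      rw [← Finset.prod_const]
      exact Finset.prod_dvd_prod_of_dvd _ _ fun n _ => Polynomial.X_dvd_iff.2 ((hg n).2 i)
    simpa using this
  · let g : Fin s → Polynomial k := fun i => PowerSeries.trunc (max N (c i)) (f i)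
    have hord : ∀ i, ((max N (c i) : ℕ) : ℕ∞) ≤ (f i - ((g i : Polynomial k) : PowerSeries k)).order := fun i =>
      (Groth.Agent.BranchLen.dvd_iff_order _ _).1 (PowerSeries.X_pow_dvd_iff.2 fun d hd => by
        simp only [g, map_sub, Polynomial.coeff_coe, PowerSeries.coeff_trunc, if_pos hd, sub_self])
    refine ⟨g, (hA g).2 ?_, fun i => le_trans (ENat.coe_le_coe.2 (le_max_left _ _)) (hord i)⟩
    have h1 : (f - fun i => ((g i : Polynomial k) : PowerSeries k)) ∈ R := Groth.Agent.BranchLen.mem_of_order hc
      fun i => le_trans (ENat.coe_le_coe.2 (le_max_right _ _)) (hord i)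
    simpa using sub_mem hf h1
  · refine ⟨C * N + C, fun g hg => ?_⟩
    let z : A := ⟨fun _ => Polynomial.X ^ C, hpiece _ C (fun i => dvd_rfl) hcC⟩
    choose w hw using hg
    let h : A := ⟨fun i => Polynomial.X ^ C * w i, hpiece _ C (fun i => dvd_mul_right _ _) hcC⟩
    have e : g = h * z ^ N := Subtype.ext (funext fun i => by
      show (g : Fin s → Polynomial k) i = (Polynomial.X ^ C * w i) * ((fun _ => Polynomial.X ^ C : Fin s → Polynomial k) ^ N) i
      rw [hw i, Pi.pow_apply]; ring)
    rw [e]
    refine Ideal.mul_mem_left _ _ (Ideal.pow_mem_pow (Ideal.subset_span fun i => ?_) N)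
    show (Polynomial.X ^ C : Polynomial k).coeff 0 = 0
    simp [Polynomial.coeff_X_pow, hC]

end Groth.Agent.S15152
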