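import Groth.Statements.S15153
import Groth.Agent.EGA418Dim.GenericFree

set_option autoImplicit false
universe u
open TensorProduct
open HilbZeta

namespace Groth.Agent.S15153

open TensorProduct Topology

theorem isOpen_le {A : Type u} [CommRing A] (M : Type u) [AddCommGroup M] [Module A M] [Module.Finite A M]
    (n : ℕ) : IsOpen {p : PrimeSpectrum A |
      Module.finrank p.asIdeal.ResidueField (p.asIdeal.ResidueField ⊗[A] M) ≤ n} := by
  have h : {p : PrimeSpectrum A | Module.finrank p.asIdeal.ResidueField (p.asIdeal.ResidueField ⊗[A] M) ≤ n} =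
      ⋃ ω : Fin n → M, (Module.support A (M ⧸ Submodule.span A (Set.range ω)))ᶜ := by
    ext p
    simp only [Set.mem_iUnion, Set.mem_compl_iff]
    constructor
    · intro hp
      obtain ⟨ω, hω⟩ := Groth.Agent.EGA418Dim.exists_generators_of_fibre p.asIdeal n hp
      refine ⟨ω, Module.notMem_support_iff'.2 fun z => ?_⟩
      obtain ⟨v, rfl⟩ := Submodule.mkQ_surjective _ z
      obtain ⟨s, hs, hsv⟩ := hω v
      exact ⟨s, hs, (Submodule.Quotient.mk_eq_zero _).2 hsv⟩
    · rintro ⟨ω, hω⟩
      let κ := p.asIdeal.ResidueField
      rw [Module.mem_support_iff_nontrivial_residueField_tensorProduct, not_nontrivial_iff_subsingleton] at hω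
      have hex := lTensor_exact κ (LinearMap.exact_subtype_mkQ (Submodule.span A (Set.range ω))) (Submodule.mkQ_surjective _)
      have hsurj : Function.Surjective ((Submodule.span A (Set.range ω)).subtype.baseChange κ) := fun z =>
        (hex z).1 (@Subsingleton.elim _ hω _ _)
      have hsurj2 : Function.Surjective ((Fintype.linearCombination A ω).baseChange κ) := by
        have h2 : Function.Surjective ((Fintype.linearCombination A ω).rangeRestrict.baseChange κ) :=
          LinearMap.lTensor_surjective _ (LinearMap.surjective_rangeRestrict _)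
        intro z
        obtain ⟨y, rfl⟩ := hsurj z
        let e : ↥(Submodule.span A (Set.range ω)) ≃ₗ[A] ↥(LinearMap.range (Fintype.linearCombination A ω)) :=
          LinearEquiv.ofEq _ _ (Fintype.range_linearCombination A ω).symm
        obtain ⟨x, hx⟩ := h2 (e.toLinearMap.baseChange κ y)
        refine ⟨x, ?_⟩
        have h3 : (LinearMap.range (Fintype.linearCombination A ω)).subtype.baseChange κ
            ((Fintype.linearCombination A ω).rangeRestrict.baseChange κ x) = (Fintype.linearCombination A ω).baseChange κ x := by
          rw [← LinearMap.comp_apply, ← LinearMap.baseChange_comp]; rfl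
        rw [← h3, hx, ← LinearMap.comp_apply, ← LinearMap.baseChange_comp]
        rfl
      haveI := PrimeSpectrum.nontrivial p
      refine ((Fintype.linearCombination A ω).baseChange κ).finrank_le_finrank_of_surjective hsurj2 |>.trans ?_
      rw [Module.finrank_baseChange, Module.finrank_fin_fun]
  rw [h]
  exact isOpen_iUnion fun ω => by
    rw [isOpen_compl_iff, Module.support_eq_zeroLocus]
    exact PrimeSpectrum.isClosed_zeroLocus _

theorem isConstructible_eq {A : Type u} [CommRing A] [IsNoetherianRing A] (M : Type u) [AddCommGroup M] [Module A M] [Module.Finite A M]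
    (a : ℕ) : IsConstructible {p : PrimeSpectrum A |
      Module.finrank p.asIdeal.ResidueField (p.asIdeal.ResidueField ⊗[A] M) = a} := by
  have ho : ∀ k, IsConstructible {p : PrimeSpectrum A |
      Module.finrank p.asIdeal.ResidueField (p.asIdeal.ResidueField ⊗[A] M) ≤ k} := fun k =>
    (TopologicalSpace.NoetherianSpace.isCompact _).isConstructible (isOpen_le M k)
  cases a with
  | zero => simpa using ho 0
  | succ k =>
    have h := (ho (k + 1)).sdiff (ho k)
    convert h using 1
    ext p
    simp only [Set.mem_setOf_eq, Set.mem_diff]
    omega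

theorem rank_eq {A : Type u} [CommRing A] (Q : Type u) [AddCommGroup Q] [Module A Q] {S : Type u}
    (τ : S → Module.End A Q) {N : ℕ} (q : Fin N → Q) (hq : Submodule.span A (Set.range q) = ⊤)
    (U : Submodule A (Fin N → Q)) (hU : U = Submodule.span A (Set.range fun s k => τ s (q k)))
    (κ : Type u) [Field κ] [Algebra A κ] :
    Module.finrank κ (Submodule.span κ (Set.range fun s => LinearMap.baseChange κ (τ s))) =
      Module.finrank κ (LinearMap.range (U.subtype.baseChange κ)) := by
  let Θ : Module.End κ (κ ⊗[A] Q) →ₗ[κ] (Fin N → κ ⊗[A] Q) :=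
    LinearMap.pi fun k => LinearMap.applyₗ ((1 : κ) ⊗ₜ[A] q k)
  have hΘ : Function.Injective Θ := by
    intro f g hfg
    refine TensorProduct.AlgebraTensorModule.ext fun c x => ?_
    have hx : x ∈ Submodule.span A (Set.range q) := hq ▸ Submodule.mem_top
    rw [show c ⊗ₜ[A] x = c • ((1 : κ) ⊗ₜ[A] x) by rw [TensorProduct.smul_tmul', smul_eq_mul, mul_one], map_smul, map_smul]
    congr 1
    induction hx using Submodule.span_induction with
    | mem x hx => obtain ⟨k, rfl⟩ := hx; exact congrFun hfg k
    | zero => simp
    | add x y _ _ hx hy => rw [tmul_add, map_add, map_add, hx, hy]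
    | smul a x _ hx => rw [tmul_smul, LinearMap.map_smul_of_tower, LinearMap.map_smul_of_tower, hx]
  let e := TensorProduct.piRight A κ κ (fun _ : Fin N => Q)
  have hr : LinearMap.range (U.subtype.baseChange κ) =
      Submodule.span κ (Set.range fun s => (1 : κ) ⊗ₜ[A] (fun k => τ s (q k))) := by
    refine le_antisymm ?_ (Submodule.span_le.2 ?_)
    · rintro _ ⟨z, rfl⟩
      induction z using TensorProduct.induction_on with
      | zero => simp
      | tmul c u =>
        obtain ⟨u, hu⟩ := u
        have hu' : (1 : κ) ⊗ₜ[A] u ∈ Submodule.span κ (Set.range fun s => (1 : κ) ⊗ₜ[A] (fun k => τ s (q k))) := by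
          rw [hU] at hu
          induction hu using Submodule.span_induction with
          | mem x hx => obtain ⟨s, rfl⟩ := hx; exact Submodule.subset_span ⟨s, rfl⟩
          | zero => simp
          | add x y _ _ hx hy => rw [tmul_add]; exact add_mem hx hy
          | smul a x _ hx => rw [tmul_smul]; exact Submodule.smul_of_tower_mem _ a hx
        rw [LinearMap.baseChange_tmul, show c ⊗ₜ[A] (U.subtype ⟨u, hu⟩) = c • ((1 : κ) ⊗ₜ[A] u) by rw [TensorProduct.smul_tmul', smul_eq_mul, mul_one]; rfl]
        exact Submodule.smul_mem _ _ hu'
      | add x y hx hy => rw [map_add]; exact add_mem hx hy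
    · rintro _ ⟨s, rfl⟩
      exact ⟨(1 : κ) ⊗ₜ[A] (⟨_, hU ▸ Submodule.subset_span ⟨s, rfl⟩⟩ : U), rfl⟩
  have key : ∀ s, Θ (LinearMap.baseChange κ (τ s)) = e ((1 : κ) ⊗ₜ[A] (fun k => τ s (q k))) := fun s => by
    funext k
    simp [Θ, e]
  rw [hr, (Submodule.equivMapOfInjective Θ hΘ (Submodule.span κ (Set.range fun s => LinearMap.baseChange κ (τ s)))).finrank_eq,
    (e.submoduleMap (Submodule.span κ (Set.range fun s => (1 : κ) ⊗ₜ[A] (fun k => τ s (q k))))).finrank_eq]
  rw [show Submodule.map Θ (Submodule.span κ (Set.range fun s => LinearMap.baseChange κ (τ s))) =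
      Submodule.map (e : κ ⊗[A] (Fin N → Q) →ₗ[κ] (Fin N → κ ⊗[A] Q)) (Submodule.span κ (Set.range fun s => (1 : κ) ⊗ₜ[A] (fun k => τ s (q k)))) by
    rw [Submodule.map_span, Submodule.map_span, ← Set.range_comp, ← Set.range_comp]
    exact congrArg (fun f => Submodule.span κ (Set.range f)) (funext key)]

theorem main (A : Type u) [CommRing A] [IsNoetherianRing A] (Q : Type u) [AddCommGroup Q] [Module A Q]
    [Module.Finite A Q] {S : Type u} (τ : S → Module.End A Q) (n : ℕ) :
    IsConstructible {p : PrimeSpectrum A | Module.finrank p.asIdeal.ResidueField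
        (Submodule.span p.asIdeal.ResidueField
          (Set.range fun s => LinearMap.baseChange p.asIdeal.ResidueField (τ s))) = n} := by
  obtain ⟨N, q, hq⟩ := Module.Finite.exists_fin (R := A) (M := Q)
  let U := Submodule.span A (Set.range fun s k => τ s (q k))
  obtain ⟨B, g, hg⟩ := Module.Finite.exists_fin (R := A) (M := Fin N → Q)
  let g' : ∀ p : PrimeSpectrum A, ℕ := fun p => Module.finrank p.asIdeal.ResidueField (p.asIdeal.ResidueField ⊗[A] (Fin N → Q))
  let c' : ∀ p : PrimeSpectrum A, ℕ := fun p => Module.finrank p.asIdeal.ResidueField (p.asIdeal.ResidueField ⊗[A] ((Fin N → Q) ⧸ U))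
  have key : ∀ p : PrimeSpectrum A, Module.finrank p.asIdeal.ResidueField
      (Submodule.span p.asIdeal.ResidueField (Set.range fun s => LinearMap.baseChange p.asIdeal.ResidueField (τ s))) + c' p = g' p ∧ g' p ≤ B := by
    intro p
    let κ := p.asIdeal.ResidueField
    rw [rank_eq Q τ q hq U rfl κ]
    constructor
    · have hsurj : Function.Surjective (U.mkQ.baseChange κ) := LinearMap.lTensor_surjective _ U.mkQ_surjective
      have hex := lTensor_exact κ (LinearMap.exact_subtype_mkQ U) U.mkQ_surjective
      have hker : LinearMap.ker (U.mkQ.baseChange κ) = LinearMap.range (U.subtype.baseChange κ) := by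
        ext z; exact hex z
      have h1 := (U.mkQ.baseChange κ).finrank_range_add_finrank_ker
      rw [LinearMap.range_eq_top.2 hsurj, finrank_top, hker] at h1
      simp only [c', g', κ] at h1 ⊢
      omega
    · haveI := PrimeSpectrum.nontrivial p
      have h2 : Function.Surjective ((Fintype.linearCombination A g).baseChange κ) :=
        LinearMap.lTensor_surjective _ (LinearMap.range_eq_top.1 (by rw [Fintype.range_linearCombination]; exact hg))
      refine ((Fintype.linearCombination A g).baseChange κ).finrank_le_finrank_of_surjective h2 |>.trans ?_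
      rw [Module.finrank_baseChange, Module.finrank_fin_fun]
  have h : {p : PrimeSpectrum A | Module.finrank p.asIdeal.ResidueField
        (Submodule.span p.asIdeal.ResidueField
          (Set.range fun s => LinearMap.baseChange p.asIdeal.ResidueField (τ s))) = n} =
      ⋃ a ∈ Finset.Icc n B, ({p | g' p = a} ∩ {p | c' p = a - n}) := by
    ext p
    obtain ⟨h1, h2⟩ := key p
    simp only [Set.mem_setOf_eq, Set.mem_iUnion, Set.mem_inter_iff, Finset.mem_Icc]
    constructor
    · intro hp; exact ⟨g' p, ⟨by omega, h2⟩, rfl, by omega⟩
    · rintro ⟨a, ⟨ha, -⟩, ha1, ha2⟩; omega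
  rw [h]
  exact IsConstructible.biUnion (Finset.finite_toSet _) fun a _ => (isConstructible_eq _ a).inter (isConstructible_eq _ (a - n))

/-- Let A be a Noetherian commutative ring, S a commutative A-algebra and Q an S-module which is finite
and flat as an A-module. For a prime p of A with residue field κ(p), multiplication by an element of
S induces a κ(p)-linear endomorphism of the fibre κ(p) ⊗_A Q; let φ(p) be the κ(p)-dimension of the
span of these endomorphisms, which is the colength of the annihilator of the fibre module κ(p) ⊗_A Q
in the fibre algebra κ(p) ⊗_A S (the length of the smallest subscheme of the fibre carrying it).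
Then p ↦ φ(p) is a constructible function: for every n the primes with φ(p) = n form a constructible
subset of Spec A. (The published statement is for a coherent sheaf, flat and finite over a
Noetherian base, on a family of reduced curve singularities with a section, and its function of the
base point is this colength; the curve hypotheses play no role and the row is the affine form over
any Noetherian ring.) -/
theorem result (A : Type u) [CommRing A] [IsNoetherianRing A]
    (S : Type u) [CommRing S] [Algebra A S]
    (Q : Type u) [AddCommGroup Q] [Module A Q] [Module S Q] [IsScalarTower A S Q]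
    [Module.Finite A Q] [Module.Flat A Q] (n : ℕ) :
    Topology.IsConstructible {p : PrimeSpectrum A |
      Module.finrank p.asIdeal.ResidueField
        (Submodule.span p.asIdeal.ResidueField
          (Set.range fun s : S =>
            LinearMap.baseChange p.asIdeal.ResidueField (DistribSMul.toLinearMap A Q s))) = n} := by
  exact Groth.Agent.S15153.main A Q (fun s : S => DistribSMul.toLinearMap A Q s) n

end Groth.Agent.S15153
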