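import Groth.Statements.S15154
import Groth.Agent.DCStable.Main

set_option autoImplicit false
open CategoryTheory CategoryTheory.Limits AlgebraicGeometry
open VBCurve

set_option backward.isDefEq.respectTransparency false
set_option backward.isDefEq.respectTransparency.types false

namespace Groth.Agent.S15154

/-- Let X and Y be smooth proper integral curves over the complex numbers and π : X → Y a morphism over
the complex numbers which is finite, flat, of constant rank 2 and not étale (a ramified double
cover). If E is a slope-stable finite locally free module of rank r ≥ 1 on Y, then π^*E is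
slope-stable on X. Here the degree of a rank-r module F is χ(F) − r χ(O), and slope-stable means deg
F · r < deg E · r' for every finite locally free submodule F of rank 0 < r' < r. -/
theorem result
    (X Y : Scheme.{0}) [X.Over (Spec (CommRingCat.of ℂ))] [Y.Over (Spec (CommRingCat.of ℂ))]
    [IsIntegral X] [IsProper (X ↘ Spec (CommRingCat.of ℂ))] [Smooth (X ↘ Spec (CommRingCat.of ℂ))]
    (hdimX : topologicalKrullDim X = 1)
    [IsIntegral Y] [IsProper (Y ↘ Spec (CommRingCat.of ℂ))] [Smooth (Y ↘ Spec (CommRingCat.of ℂ))]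
    (hdimY : topologicalKrullDim Y = 1)
    (π : X ⟶ Y) [IsFinite π] [Flat π] (hπ : π ≫ (Y ↘ Spec (CommRingCat.of ℂ)) = X ↘ Spec (CommRingCat.of ℂ))
    (hrk : ∀ y : ↥Y, Scheme.Hom.finrank π y = 2) (hram : ¬ Etale π)
    (r : ℕ) (hr : 0 < r) (E : Y.Modules) (hE : FlatMod.IsFinLocFreeOfRank r E)
    (hst : ∀ (F : Y.Modules) (r' : ℕ) (i : F ⟶ E), Mono i → 0 < r' → r' < r → FlatMod.IsFinLocFreeOfRank r' F →
      Curv2.deg ℂ Y F r' * (r : ℤ) < Curv2.deg ℂ Y E r * (r' : ℤ))
    (F : X.Modules) (r' : ℕ) (i : F ⟶ (Scheme.Modules.pullback π).obj E) (hi : Mono i)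
    (hr'0 : 0 < r') (hr'r : r' < r) (hF : FlatMod.IsFinLocFreeOfRank r' F) :
    Curv2.deg ℂ X F r' * (r : ℤ) < Curv2.deg ℂ X ((Scheme.Modules.pullback π).obj E) r * (r' : ℤ) := by
  haveI := hi
  exact Groth.Agent.DCStable.stable_pullback ℂ π hdimX hdimY hπ hrk hram hE hst i hr'0 hr'r hF

end Groth.Agent.S15154
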