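import Groth.Statements.S15155
import Groth.Agent.QuadSm.Pfaffian
import Mathlib.LinearAlgebra.Matrix.Charpoly.Basic
import Mathlib.LinearAlgebra.Matrix.MvPolynomial
import Mathlib.RingTheory.Polynomial.Basic

set_option autoImplicit false
open CAlg

namespace Groth.Agent.S15155

/-- Let J be the 2m × 2m block matrix with blocks 0, I_m in the first row and −I_m, 0 in the second,
over the complex numbers. On the set of complex 2m × 2m matrices A with ᵗA · J = J · A (equivalently
ᵗA = J A J⁻¹, J being invertible), the characteristic polynomial is the square of a single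
polynomial in the entries of A with coefficients in ℂ[X], and the determinant is the square of a
single polynomial in the entries of A. -/
theorem result (m : ℕ) :
    (∃ P : MvPolynomial ((Fin m ⊕ Fin m) × (Fin m ⊕ Fin m)) (Polynomial ℂ),
      ∀ A : Matrix (Fin m ⊕ Fin m) (Fin m ⊕ Fin m) ℂ,
        A.transpose * Matrix.fromBlocks 0 1 (-1) 0 = Matrix.fromBlocks 0 1 (-1) 0 * A →
        A.charpoly = (MvPolynomial.eval (fun ij => Polynomial.C (A ij.1 ij.2)) P) ^ 2) ∧
    (∃ Q : MvPolynomial ((Fin m ⊕ Fin m) × (Fin m ⊕ Fin m)) ℂ,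
      ∀ A : Matrix (Fin m ⊕ Fin m) (Fin m ⊕ Fin m) ℂ,
        A.transpose * Matrix.fromBlocks 0 1 (-1) 0 = Matrix.fromBlocks 0 1 (-1) 0 * A →
        A.det = (MvPolynomial.eval (fun ij => A ij.1 ij.2) Q) ^ 2) := by
  classical
  let e : Fin (Fintype.card (Fin m ⊕ Fin m)) ≃ Fin m ⊕ Fin m := (Fintype.equivFin _).symm
  have key : ∀ {S : Type} [CommRing S] [IsDomain S] [CharZero S] (A : Matrix (Fin m ⊕ Fin m) (Fin m ⊕ Fin m) S),
      A.transpose * Matrix.fromBlocks 0 1 (-1) 0 = Matrix.fromBlocks 0 1 (-1) 0 * A →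
      A.det = Groth.Agent.QuadSm.pfA ((Matrix.fromBlocks 0 1 (-1) 0 * A).submatrix e e) ^ 2 := by
    intro S _ _ _ A hA
    let J : Matrix (Fin m ⊕ Fin m) (Fin m ⊕ Fin m) S := Matrix.fromBlocks 0 1 (-1) 0
    have hJdet : J.det = 1 := by
      have : J = Matrix.fromBlocks 1 1 0 1 * Matrix.fromBlocks 1 0 (-1) 1 * Matrix.fromBlocks 1 1 0 1 := by
        simp [J, Matrix.fromBlocks_multiply]
      rw [this, Matrix.det_mul, Matrix.det_mul, Matrix.det_fromBlocks_zero₂₁, Matrix.det_fromBlocks_zero₁₂]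
      simp
    have hJt : J.transpose = -J := by simp [J, Matrix.fromBlocks_transpose, Matrix.fromBlocks_neg]
    have hskew : (J * A).transpose = -(J * A) := by
      rw [Matrix.transpose_mul, hJt, Matrix.mul_neg]
      exact congrArg Neg.neg hA
    have halt : Groth.Agent.QuadSm.IsAlt (J * A) := ⟨hskew, fun i => by
      have h := congrFun (congrFun hskew i) i
      rw [Matrix.transpose_apply, Matrix.neg_apply] at h
      exact mul_left_cancel₀ (two_ne_zero (α := S)) (by linear_combination h)⟩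
    rw [pow_two, ← Groth.Agent.QuadSm.pfA_sq (halt.submatrix e), Matrix.det_submatrix_equiv_self,
      Matrix.det_mul, hJdet, one_mul]
  refine ⟨⟨Groth.Agent.QuadSm.pfA ((Matrix.fromBlocks 0 1 (-1) 0 *
      (Matrix.scalar _ (MvPolynomial.C (Polynomial.X : Polynomial ℂ)) - Matrix.mvPolynomialX (Fin m ⊕ Fin m) (Fin m ⊕ Fin m) (Polynomial ℂ))).submatrix e e),
      fun A hA => ?_⟩,
    ⟨Groth.Agent.QuadSm.pfA ((Matrix.fromBlocks 0 1 (-1) 0 *
      Matrix.mvPolynomialX (Fin m ⊕ Fin m) (Fin m ⊕ Fin m) ℂ).submatrix e e), fun A hA => ?_⟩⟩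
  · rw [Groth.Agent.QuadSm.pfA_map, ← Matrix.submatrix_map, Matrix.map_mul,
      Matrix.map_sub _ (fun a b => map_sub _ a b)]
    rw [show (Matrix.mvPolynomialX (Fin m ⊕ Fin m) (Fin m ⊕ Fin m) (Polynomial ℂ)).map
        (MvPolynomial.eval (fun ij => Polynomial.C (A ij.1 ij.2))) = A.map Polynomial.C from by
      ext i j; simp]
    rw [show (Matrix.scalar (Fin m ⊕ Fin m) (MvPolynomial.C (σ := (Fin m ⊕ Fin m) × (Fin m ⊕ Fin m)) (Polynomial.X : Polynomial ℂ))).map
        (MvPolynomial.eval (fun ij => Polynomial.C (A ij.1 ij.2))) = Matrix.scalar _ Polynomial.X from by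
      simp [Matrix.scalar_apply, Matrix.diagonal_map]]
    rw [Matrix.fromBlocks_map, Matrix.map_zero _ (map_zero _), Matrix.map_one _ (map_zero _) (map_one _),
      show ((-1 : Matrix (Fin m) (Fin m) (MvPolynomial ((Fin m ⊕ Fin m) × (Fin m ⊕ Fin m)) (Polynomial ℂ)))).map
        (MvPolynomial.eval (fun ij => Polynomial.C (A ij.1 ij.2))) = -1 from by
      ext i j; simp [Matrix.one_apply, apply_ite (MvPolynomial.eval _)]]
    refine key _ ?_
    have hA' := congrArg (fun M => M.map (Polynomial.C : ℂ →+* Polynomial ℂ)) hA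
    simp only [Matrix.map_mul, Matrix.fromBlocks_map, Matrix.transpose_map, Matrix.map_zero _ (map_zero _),
      Matrix.map_one _ (map_zero (Polynomial.C : ℂ →+* Polynomial ℂ)) (map_one _)] at hA'
    rw [show ((-1 : Matrix (Fin m) (Fin m) ℂ)).map (Polynomial.C : ℂ →+* Polynomial ℂ) = -1 from by
      ext i j; simp [Matrix.one_apply, apply_ite]] at hA'
    rw [show A.charmatrix = Matrix.scalar _ Polynomial.X - A.map Polynomial.C from rfl, Matrix.transpose_sub, Matrix.sub_mul, Matrix.mul_sub, hA']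
    congr 1
    rw [Matrix.scalar_apply, Matrix.diagonal_transpose]
    exact (Matrix.scalar_commute _ (fun r => Commute.all _ r) _).eq
  · rw [Groth.Agent.QuadSm.pfA_map, ← Matrix.submatrix_map, Matrix.map_mul]
    rw [show (Matrix.mvPolynomialX (Fin m ⊕ Fin m) (Fin m ⊕ Fin m) ℂ).map
        (MvPolynomial.eval (fun ij => A ij.1 ij.2)) = A from by ext i j; simp]
    rw [Matrix.fromBlocks_map, Matrix.map_zero _ (map_zero _), Matrix.map_one _ (map_zero _) (map_one _),
      show ((-1 : Matrix (Fin m) (Fin m) (MvPolynomial ((Fin m ⊕ Fin m) × (Fin m ⊕ Fin m)) ℂ))).map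
        (MvPolynomial.eval (fun ij => A ij.1 ij.2)) = -1 from by
      ext i j; simp [Matrix.one_apply, apply_ite (MvPolynomial.eval _)]]
    exact key A hA

end Groth.Agent.S15155
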