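import Groth.Statements.S15159
import Mathlib
-- import your own Groth.Agent.* helpers here

set_option autoImplicit false
open CAlg

namespace Groth.Agent.S15159

section aux
variable {k W H : Type} [Field k] [AddCommGroup W] [Module k W] [AddCommGroup H] [Module k H]

/-- The orthogonal of a subspace. -/
def perp (q : H →ₗ[k] H →ₗ[k] W) (V : Submodule k H) : Submodule k H := ⨅ (y : H) (_ : y ∈ V), LinearMap.ker (q.flip y)

theorem mem_perp {q : H →ₗ[k] H →ₗ[k] W} {V : Submodule k H} {x : H} : x ∈ perp q V ↔ ∀ y ∈ V, q x y = 0 := by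
  simp [perp]

variable [FiniteDimensional k H] {ι : Type} [Fintype ι] [DecidableEq ι] {Hs : ι → Submodule k H}

theorem finrank_sup_le (Hs : ι → Submodule k H) (t : Finset ι) :
    Module.finrank k ↥(t.sup Hs) ≤ ∑ i ∈ t, Module.finrank k (Hs i) := by
  induction t using Finset.induction_on with
  | empty => simp
  | insert a t ha ih =>
    rw [Finset.sup_insert, Finset.sum_insert ha]
    exact (Submodule.finrank_add_le_finrank_add_finrank _ _).trans (Nat.add_le_add_left ih _)

theorem finrank_sup_eq (h : DirectSum.IsInternal Hs) (t : Finset ι) :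
    Module.finrank k ↥(t.sup Hs) = ∑ i ∈ t, Module.finrank k (Hs i) := by
  have htot : ∑ i, Module.finrank k (Hs i) = Module.finrank k H := by
    rw [← Module.finrank_directSum]
    exact (LinearEquiv.ofBijective (DirectSum.coeLinearMap Hs) h).finrank_eq
  have htop : t.sup Hs ⊔ tᶜ.sup Hs = ⊤ := by
    rw [← Finset.sup_union, Finset.union_compl, Finset.sup_univ_eq_iSup, h.submodule_iSup_eq_top]
  have h1 := Submodule.finrank_add_le_finrank_add_finrank (t.sup Hs) (tᶜ.sup Hs)
  rw [htop, finrank_top, ← htot, ← Finset.sum_add_sum_compl t] at h1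
  have h2 := finrank_sup_le Hs tᶜ
  have h3 := finrank_sup_le Hs t
  omega

theorem sup_le_perp {q : H →ₗ[k] H →ₗ[k] W} {a b : Finset ι}
    (h : ∀ i ∈ a, ∀ j ∈ b, ∀ x ∈ Hs i, ∀ y ∈ Hs j, q x y = 0) : a.sup Hs ≤ perp q (b.sup Hs) := by
  refine Finset.sup_le fun i hi x hx => mem_perp.2 fun y hy => ?_
  exact (show b.sup Hs ≤ LinearMap.ker (q x) from Finset.sup_le fun j hj y hy => h i hi j hj x hx y hy) hy

theorem count_filter (M : ℕ) (m : ℤ) (hm : m.natAbs < M) :
    ((Finset.range M).filter (fun c : ℕ => m ≤ -(c : ℤ))).card = (1 - m).toNat ∧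
    ((Finset.range M).filter (fun c : ℕ => (c : ℤ) < m)).card = m.toNat ∧
    ((Finset.range M).filter (fun c : ℕ => m ≤ -((c + 1 : ℕ) : ℤ))).card = (-m).toNat ∧
    ((Finset.range M).filter (fun c : ℕ => ((c + 1 : ℕ) : ℤ) ≤ m)).card = m.toNat := by
  refine ⟨?_, ?_, ?_, ?_⟩ <;> refine Eq.trans (congrArg Finset.card ?_) (Finset.card_range _) <;>
    ext c <;> simp only [Finset.mem_filter, Finset.mem_range, Nat.cast_add, Nat.cast_one] <;> omega

theorem sum_sum_filter (M : ℕ) (d : ι → ℕ) (P : ℕ → ι → Prop) [∀ c i, Decidable (P c i)] :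
    ∑ c ∈ Finset.range M, ∑ i ∈ Finset.univ.filter (P c), d i =
      ∑ i, ((Finset.range M).filter (fun c => P c i)).card * d i := by
  simp_rw [Finset.sum_filter]
  rw [Finset.sum_comm]
  refine Finset.sum_congr rfl fun i _ => ?_
  rw [← Finset.sum_filter, Finset.sum_const, smul_eq_mul]

/-- Subspaces `V, U, T` adding up to `H`. -/
theorem exists_split (P V : Submodule k H) (hVP : V ≤ P) :
    ∃ U T : Submodule k H, U ≤ P ∧ DirectSum.IsInternal ![V, U, T] ∧
      Module.finrank k V + Module.finrank k U = Module.finrank k P ∧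
      Module.finrank k P + Module.finrank k T = Module.finrank k H := by
  obtain ⟨C, hC⟩ := V.exists_isCompl
  obtain ⟨T, hT⟩ := P.exists_isCompl
  have hsup : V ⊔ C ⊓ P = P := by rw [← sup_inf_assoc_of_le C hVP, hC.sup_eq_top, top_inf_eq]
  have h1 : Module.finrank k V + Module.finrank k ↥(C ⊓ P) = Module.finrank k P := by
    have := Submodule.finrank_sup_add_finrank_inf_eq V (C ⊓ P)
    rw [hsup, ← inf_assoc, hC.inf_eq_bot, bot_inf_eq, finrank_bot, add_zero] at this
    exact this.symm
  have h2 := Submodule.finrank_add_eq_of_isCompl hT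
  refine ⟨C ⊓ P, T, inf_le_right, ?_, h1, h2⟩
  have hsurj : Function.Surjective (DirectSum.coeLinearMap ![V, C ⊓ P, T]) := by
    rw [← LinearMap.range_eq_top, DirectSum.range_coeLinearMap, eq_top_iff, ← hT.sup_eq_top]
    exact sup_le (hsup.ge.trans (sup_le (le_iSup_of_le 0 le_rfl) (le_iSup_of_le 1 le_rfl))) (le_iSup_of_le 2 le_rfl)
  refine ⟨(LinearMap.injective_iff_surjective_of_finrank_eq_finrank ?_).2 hsurj, hsurj⟩
  rw [Module.finrank_directSum, Fin.sum_univ_three]
  show Module.finrank k V + Module.finrank k ↥(C ⊓ P) + Module.finrank k T = Module.finrank k H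
  omega

end aux

/-- Let W be a finite-dimensional complex vector space with an involution s, H a finite-dimensional
complex vector space and q : H → H → W a nonzero bilinear map with q(x)(y) = s(q(y)(x)). Write V^⊥ =
{x | q(x)(y) = 0 for all y ∈ V} and call V totally isotropic when q vanishes on V × V. The pair (H,
q) is semistable (dim V + dim V^⊥ ≤ dim H for every nonzero totally isotropic subspace V),
respectively stable (strict inequality), if and only if the line of q is semistable, respectively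
stable, for the action of SL(H), the latter being expressed through one-parameter subgroups: for
every decomposition H = ⊕_i H_i into subspaces with integer weights m_i such that Σ_i m_i dim H_i =
0 and some nonzero H_i has nonzero weight, there are indices i, j with q(H_i, H_j) ≠ 0 and m_i + m_j
≤ 0, respectively m_i + m_j < 0. (The published statement speaks of semistability and stability of
the point of the projective space of such forms under SL(H); this row states the numerical condition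
on one-parameter subgroups to which that is equivalent and which the published argument verifies.) -/
theorem result
    (W : Type) [AddCommGroup W] [Module ℂ W] [FiniteDimensional ℂ W]
    (s : W →ₗ[ℂ] W) (hs : s ∘ₗ s = LinearMap.id)
    (H : Type) [AddCommGroup H] [Module ℂ H] [FiniteDimensional ℂ H]
    (q : H →ₗ[ℂ] H →ₗ[ℂ] W) (hq : ∀ x y : H, q x y = s (q y x)) (hq0 : q ≠ 0) :
    ((∀ V : Submodule ℂ H, V ≠ ⊥ → (∀ x ∈ V, ∀ y ∈ V, q x y = 0) →
        Module.finrank ℂ V + Module.finrank ℂ ↥(⨅ (y : H) (_ : y ∈ V), LinearMap.ker (q.flip y) : Submodule ℂ H) ≤ Module.finrank ℂ H) ↔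
      (∀ (ι : Type) [Fintype ι] [DecidableEq ι] (Hs : ι → Submodule ℂ H) (m : ι → ℤ),
        DirectSum.IsInternal Hs → (∑ i, m i * (Module.finrank ℂ (Hs i) : ℤ)) = 0 →
        (∃ i, m i ≠ 0 ∧ Hs i ≠ ⊥) →
        ∃ i j, (∃ x ∈ Hs i, ∃ y ∈ Hs j, q x y ≠ 0) ∧ m i + m j ≤ 0)) ∧
    ((∀ V : Submodule ℂ H, V ≠ ⊥ → (∀ x ∈ V, ∀ y ∈ V, q x y = 0) →
        Module.finrank ℂ V + Module.finrank ℂ ↥(⨅ (y : H) (_ : y ∈ V), LinearMap.ker (q.flip y) : Submodule ℂ H) < Module.finrank ℂ H) ↔
      (∀ (ι : Type) [Fintype ι] [DecidableEq ι] (Hs : ι → Submodule ℂ H) (m : ι → ℤ),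
        DirectSum.IsInternal Hs → (∑ i, m i * (Module.finrank ℂ (Hs i) : ℤ)) = 0 →
        (∃ i, m i ≠ 0 ∧ Hs i ≠ ⊥) →
        ∃ i j, (∃ x ∈ Hs i, ∃ y ∈ Hs j, q x y ≠ 0) ∧ m i + m j < 0)) := by
  classical
  have hsym : ∀ x y : H, q x y = 0 → q y x = 0 := fun x y h => by rw [hq, h, map_zero]
  -- a totally isotropic subspace and its orthogonal give a one-parameter subgroup
  have destab : ∀ V : Submodule ℂ H, V ≠ ⊥ → (∀ x ∈ V, ∀ y ∈ V, q x y = 0) →
      Module.finrank ℂ H ≤ Module.finrank ℂ V + Module.finrank ℂ ↥(perp q V) →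
      ∃ (Hs : Fin 3 → Submodule ℂ H) (m : Fin 3 → ℤ), DirectSum.IsInternal Hs ∧
        (∑ i, m i * (Module.finrank ℂ (Hs i) : ℤ)) = 0 ∧ (∃ i, m i ≠ 0 ∧ Hs i ≠ ⊥) ∧
        ∀ i j, (∃ x ∈ Hs i, ∃ y ∈ Hs j, q x y ≠ 0) → 0 ≤ m i + m j ∧
          (Module.finrank ℂ H < Module.finrank ℂ V + Module.finrank ℂ ↥(perp q V) → 0 < m i + m j) := by
    intro V hV hiso hle
    have hVP : V ≤ perp q V := fun x hx => mem_perp.2 (hiso x hx)
    obtain ⟨U, T, hUP, hint, hVU, hPT⟩ := exists_split (perp q V) V hVP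
    set v := Module.finrank ℂ V
    set u := Module.finrank ℂ U
    set t := Module.finrank ℂ T
    have hv : 0 < v := Nat.pos_of_ne_zero fun h => hV (Submodule.finrank_eq_zero.1 h)
    have hut : 0 < u + t := by
      refine Nat.pos_of_ne_zero fun h => hq0 ?_
      have htop : V = ⊤ := Submodule.eq_top_of_finrank_eq (by omega)
      exact LinearMap.ext fun x => LinearMap.ext fun y => hiso x (htop ▸ Submodule.mem_top) y (htop ▸ Submodule.mem_top)
    have hzero : ∀ x y : H, x ∈ V → y ∈ perp q V → q x y = 0 ∧ q y x = 0 := fun x y hx hy =>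
      ⟨hsym _ _ (mem_perp.1 hy x hx), mem_perp.1 hy x hx⟩
    rcases Nat.lt_or_ge t v with htv | htv
    · refine ⟨![V, U, T], ![-(((u : ℤ) + 1) * t + u), (v : ℤ), ((u : ℤ) + 1) * v], hint, ?_, ⟨0, ?_, hV⟩, ?_⟩
      · rw [Fin.sum_univ_three]
        show -(((u : ℤ) + 1) * t + u) * v + (v : ℤ) * u + ((u : ℤ) + 1) * v * t = 0
        ring
      · show -(((u : ℤ) + 1) * t + u) ≠ 0
        have h1 : (0 : ℤ) < u + t := by exact_mod_cast hut
        have h2 : (0 : ℤ) ≤ (u : ℤ) * t := by positivity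
        intro h
        linarith
      · intro i j hij
        suffices 0 < ![-(((u : ℤ) + 1) * t + u), (v : ℤ), ((u : ℤ) + 1) * v] i +
            ![-(((u : ℤ) + 1) * t + u), (v : ℤ), ((u : ℤ) + 1) * v] j from ⟨this.le, fun _ => this⟩
        obtain ⟨x, hx, y, hy, hxy⟩ := hij
        have hkey : (0 : ℤ) < -(((u : ℤ) + 1) * t + u) + ((u : ℤ) + 1) * v := by
          nlinarith [(by exact_mod_cast htv : (t : ℤ) + 1 ≤ v)]
        have hv' : (0 : ℤ) < v := by exact_mod_cast hv
        have hu' : (0 : ℤ) ≤ u := Nat.cast_nonneg u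
        fin_cases i <;> fin_cases j <;> dsimp at hx hy ⊢ <;> first
          | exact absurd (hiso x hx y hy) hxy
          | exact absurd (hzero x y hx (hUP hy)).1 hxy
          | exact absurd (hzero y x hy (hUP hx)).2 hxy
          | nlinarith
    · have htv : t = v := by omega
      refine ⟨![V, U, T], ![-(v : ℤ), 0, v], hint, ?_, ⟨0, ?_, hV⟩, ?_⟩
      · rw [Fin.sum_univ_three]
        show -(v : ℤ) * v + 0 * u + (v : ℤ) * t = 0
        rw [htv]; ring
      · show -(v : ℤ) ≠ 0
        omega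
      · intro i j hij
        refine ⟨?_, fun h => absurd h (by omega)⟩
        obtain ⟨x, hx, y, hy, hxy⟩ := hij
        fin_cases i <;> fin_cases j <;> dsimp at hx hy ⊢ <;> first
          | exact absurd (hiso x hx y hy) hxy
          | exact absurd (hzero x y hx (hUP hy)).1 hxy
          | exact absurd (hzero y x hy (hUP hx)).2 hxy
          | omega
  refine ⟨⟨?_, ?_⟩, ⟨?_, ?_⟩⟩
  · -- semistable implies the numerical condition
    intro hss ι _ _ Hs m hint hsum ⟨i₀, hi₀, hi₀'⟩
    by_contra hcon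
    push Not at hcon
    set d : ι → ℕ := fun i => Module.finrank ℂ (Hs i)
    have hAB : ∀ c : ℕ, ∑ i ∈ Finset.univ.filter (fun i => m i ≤ -(c : ℤ)), d i ≤
        ∑ i ∈ Finset.univ.filter (fun i => (c : ℤ) < m i), d i := by
      intro c
      set A := Finset.univ.filter (fun i => m i ≤ -(c : ℤ))
      set B := Finset.univ.filter (fun i => (c : ℤ) < m i)
      by_cases hA : A.sup Hs = ⊥
      · rw [← finrank_sup_eq hint, hA, finrank_bot]; exact Nat.zero_le _
      have hperp : Bᶜ.sup Hs ≤ perp q (A.sup Hs) := sup_le_perp fun i hi j hj x hx y hy => by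
        by_contra hxy
        have := hcon i j ⟨x, hx, y, hy, hxy⟩
        simp [A, B] at hi hj
        omega
      have hiso : ∀ x ∈ A.sup Hs, ∀ y ∈ A.sup Hs, q x y = 0 := fun x hx => mem_perp.1 (hperp
        ((Finset.sup_mono (fun i hi => by simp [A, B] at hi ⊢; omega) : A.sup Hs ≤ Bᶜ.sup Hs) hx))
      have h := (Nat.add_le_add_left (Submodule.finrank_mono hperp) _).trans (hss _ hA hiso)
      rw [finrank_sup_eq hint, finrank_sup_eq hint,
        (LinearEquiv.ofBijective (DirectSum.coeLinearMap Hs) hint).finrank_eq.symm, Module.finrank_directSum,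
        ← Finset.sum_add_sum_compl B] at h
      exact Nat.le_of_add_le_add_right h
    let M := (∑ i, (m i).natAbs) + 1
    have hM : ∀ i, (m i).natAbs < M := fun i =>
      Nat.lt_succ_of_le (Finset.single_le_sum (f := fun i => (m i).natAbs) (fun j _ => Nat.zero_le _) (Finset.mem_univ i))
    have h := Finset.sum_le_sum (s := Finset.range M) fun c _ => hAB c
    rw [sum_sum_filter, sum_sum_filter] at h
    simp only [(count_filter M _ (hM _)).1, (count_filter M _ (hM _)).2.1] at h
    have h' : (∑ i, (((1 - m i).toNat : ℤ) - ((m i).toNat : ℤ)) * d i) ≤ 0 := by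
      simp only [sub_mul, Finset.sum_sub_distrib, sub_nonpos]; exact_mod_cast h
    have h'' : (∑ i, (((1 - m i).toNat : ℤ) - ((m i).toNat : ℤ) + m i) * d i) ≤ 0 := by
      simp only [add_mul, Finset.sum_add_distrib, d]; rw [hsum, add_zero]; exact h'
    have hnn : ∀ i ∈ Finset.univ, 0 ≤ (((1 - m i).toNat : ℤ) - ((m i).toNat : ℤ) + m i) * d i :=
      fun i _ => mul_nonneg (by omega) (Nat.cast_nonneg _)
    have hz := (Finset.sum_eq_zero_iff_of_nonneg hnn).1 (le_antisymm h'' (Finset.sum_nonneg hnn))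
    have hd : ∀ i, m i ≤ 0 → d i = 0 := fun i hi => by
      rcases mul_eq_zero.1 (hz i (Finset.mem_univ i)) with h | h
      · omega
      · exact_mod_cast h
    have hpos : 0 < ∑ i, m i * (d i : ℤ) := by
      refine Finset.sum_pos' (fun i _ => ?_) ⟨i₀, Finset.mem_univ _, ?_⟩
      · by_cases hi : m i ≤ 0
        · simp [hd i hi]
        · exact mul_nonneg (by omega) (Nat.cast_nonneg _)
      · have hdi : d i₀ ≠ 0 := fun h => hi₀' (Submodule.finrank_eq_zero.1 h)
        refine mul_pos ?_ (by exact_mod_cast Nat.pos_of_ne_zero hdi)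
        by_contra hneg; exact hdi (hd i₀ (not_lt.1 hneg))
    exact hpos.ne' hsum
  · intro hnum V hV hiso
    by_contra hlt
    replace hlt : Module.finrank ℂ H < Module.finrank ℂ V + Module.finrank ℂ ↥(perp q V) := not_le.1 hlt
    obtain ⟨Hs, m, hint, hsum, hne, hpos⟩ := destab V hV hiso hlt.le
    obtain ⟨i, j, hij, hle⟩ := hnum (Fin 3) Hs m hint hsum hne
    exact absurd ((hpos i j hij).2 hlt) (not_lt.2 hle)
  · intro hst ι _ _ Hs m hint hsum ⟨i₀, hi₀, hi₀'⟩
    by_contra hcon
    push Not at hcon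
    set d : ι → ℕ := fun i => Module.finrank ℂ (Hs i)
    have hAB : ∀ c : ℕ, ∑ i ∈ Finset.univ.filter (fun i => m i ≤ -((c + 1 : ℕ) : ℤ)), d i = 0 ∨
        ∑ i ∈ Finset.univ.filter (fun i => m i ≤ -((c + 1 : ℕ) : ℤ)), d i <
        ∑ i ∈ Finset.univ.filter (fun i => ((c + 1 : ℕ) : ℤ) ≤ m i), d i := by
      intro c
      set A := Finset.univ.filter (fun i => m i ≤ -((c + 1 : ℕ) : ℤ))
      set B := Finset.univ.filter (fun i => ((c + 1 : ℕ) : ℤ) ≤ m i)
      by_cases hA : A.sup Hs = ⊥
      · left; rw [← finrank_sup_eq hint, hA, finrank_bot]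
      right
      have hperp : Bᶜ.sup Hs ≤ perp q (A.sup Hs) := sup_le_perp fun i hi j hj x hx y hy => by
        by_contra hxy
        have := hcon i j ⟨x, hx, y, hy, hxy⟩
        simp [A, B] at hi hj
        omega
      have hiso : ∀ x ∈ A.sup Hs, ∀ y ∈ A.sup Hs, q x y = 0 := fun x hx => mem_perp.1 (hperp
        ((Finset.sup_mono (fun i hi => by simp [A, B] at hi ⊢; omega) : A.sup Hs ≤ Bᶜ.sup Hs) hx))
      have h := (Nat.add_le_add_left (Submodule.finrank_mono hperp) _).trans_lt (hst _ hA hiso)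
      rw [finrank_sup_eq hint, finrank_sup_eq hint,
        (LinearEquiv.ofBijective (DirectSum.coeLinearMap Hs) hint).finrank_eq.symm, Module.finrank_directSum,
        ← Finset.sum_add_sum_compl B] at h
      exact Nat.lt_of_add_lt_add_right h
    let M := (∑ i, (m i).natAbs) + 1
    have hM : ∀ i, (m i).natAbs < M := fun i =>
      Nat.lt_succ_of_le (Finset.single_le_sum (f := fun i => (m i).natAbs) (fun j _ => Nat.zero_le _) (Finset.mem_univ i))
    have hle : ∀ c ∈ Finset.range M, ∑ i ∈ Finset.univ.filter (fun i => m i ≤ -((c + 1 : ℕ) : ℤ)), d i ≤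
        ∑ i ∈ Finset.univ.filter (fun i => ((c + 1 : ℕ) : ℤ) ≤ m i), d i := fun c _ => by
      rcases hAB c with h | h
      · rw [h]; exact Nat.zero_le _
      · exact h.le
    have heq : ∑ c ∈ Finset.range M, ∑ i ∈ Finset.univ.filter (fun i => m i ≤ -((c + 1 : ℕ) : ℤ)), d i =
        ∑ c ∈ Finset.range M, ∑ i ∈ Finset.univ.filter (fun i => ((c + 1 : ℕ) : ℤ) ≤ m i), d i := by
      rw [sum_sum_filter, sum_sum_filter]
      simp only [(count_filter M _ (hM _)).2.2.1, (count_filter M _ (hM _)).2.2.2]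
      have : (∑ i, (((m i).toNat : ℤ) - ((-m i).toNat : ℤ)) * d i) = 0 := by
        rw [← hsum]; exact Finset.sum_congr rfl fun i _ => by rw [Int.toNat_sub_toNat_neg]
      simp only [sub_mul, Finset.sum_sub_distrib, sub_eq_zero] at this
      exact_mod_cast this.symm
    have hz : ∀ c ∈ Finset.range M, ∑ i ∈ Finset.univ.filter (fun i => m i ≤ -((c + 1 : ℕ) : ℤ)), d i = 0 ∧
        ∑ i ∈ Finset.univ.filter (fun i => ((c + 1 : ℕ) : ℤ) ≤ m i), d i = 0 := fun c hc => by
      have h := (Finset.sum_eq_sum_iff_of_le hle).1 heq c hc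
      rcases hAB c with h' | h'
      · exact ⟨h', h ▸ h'⟩
      · exact absurd h h'.ne
    have h0 := hz 0 (Finset.mem_range.2 (Nat.succ_pos _))
    have hdi : d i₀ ≠ 0 := fun h => hi₀' (Submodule.finrank_eq_zero.1 h)
    rcases lt_or_gt_of_ne hi₀ with h | h
    · exact hdi (Finset.sum_eq_zero_iff.1 h0.1 i₀ (by simp; omega))
    · exact hdi (Finset.sum_eq_zero_iff.1 h0.2 i₀ (by simp; omega))
  · intro hnum V hV hiso
    by_contra hle
    replace hle : Module.finrank ℂ H ≤ Module.finrank ℂ V + Module.finrank ℂ ↥(perp q V) := not_lt.1 hle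
    obtain ⟨Hs, m, hint, hsum, hne, hpos⟩ := destab V hV hiso hle
    obtain ⟨i, j, hij, hlt⟩ := hnum (Fin 3) Hs m hint hsum hne
    exact absurd (hpos i j hij).1 (not_le.2 hlt)

end Groth.Agent.S15159
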