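import Groth.Statements.S1516
import Groth.Agent.InfLift.SchemeLocal

set_option autoImplicit false
universe u
open FlatMor

namespace Groth.Agent.S1516

open AlgebraicGeometry CategoryTheory Limits in
/-- Let f : X → S be formally étale (unique infinitesimal lifting against first order thickenings of
affine schemes). Then for every first order thickening t : T → T' of schemes and every commutative
square with T → X on top and T' → S at the bottom there is exactly one lift T' → X. -/
theorem result {X S : Scheme.{u}} (f : X ⟶ S) (hf : MoreMor.IsFormallyEtaleHom f)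
    {T T' : Scheme.{u}} (t : T ⟶ T') (ht : MoreMor.IsFirstOrderThickening t) (a : T ⟶ X) (b : T' ⟶ S) (w : t ≫ b = a ≫ f) :
    ∃! l : T' ⟶ X, t ≫ l = a ∧ l ≫ f = b := by
  classical
  obtain ⟨⟨htc, hts⟩, htker⟩ := ht
  have : FormallyUnramified f := InfLift.formallyUnramified_of_isFormallyEtaleHom f hf
  -- the thickening over an affine open
  have data : ∀ (C : CommRingCat.{u}) (r : Spec C ⟶ T') [IsOpenImmersion r],
      ∃ (J : Ideal C) (_ : J ^ 2 = ⊥) (q : Spec (CommRingCat.of (C ⧸ J)) ⟶ T), IsOpenImmersion q ∧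
        q ≫ t = InfLift.specQuot J ≫ r ∧ Set.range q = t ⁻¹' Set.range r := by
    intro C r _
    have hsq := IsPullback.of_hasPullback t r
    have hci : IsClosedImmersion (Limits.pullback.snd t r) := MorphismProperty.pullback_snd _ _ htc
    obtain ⟨J, e, he⟩ := IsClosedImmersion.Spec_iff.mp hci
    refine ⟨J, ?_, e.inv ≫ Limits.pullback.fst t r, inferInstance, ?_, ?_⟩
    · rw [pow_two, eq_bot_iff, Ideal.mul_le]
      intro x hx y hy
      let W : (Spec C).affineOpens := ⟨⊤, isAffineOpen_top _⟩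
      have hker : ∀ z ∈ J, (Scheme.ΓSpecIso C).inv z ∈ (Limits.pullback.snd t r).ker.ideal W := fun z hz ↦ by
        rw [Scheme.Hom.ker_apply, RingHom.mem_ker, he]
        show ((e.hom ≫ Spec.map (CommRingCat.ofHom (Ideal.Quotient.mk J))).appTop) ((Scheme.ΓSpecIso C).inv z) = 0
        rw [Scheme.Hom.comp_appTop, CommRingCat.comp_apply]
        have h1 : (Spec.map (CommRingCat.ofHom (Ideal.Quotient.mk J))).appTop ((Scheme.ΓSpecIso C).inv z) = 0 := by
          rw [← CommRingCat.comp_apply, ← Scheme.ΓSpecIso_inv_naturality, CommRingCat.comp_apply]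
          show (Scheme.ΓSpecIso (CommRingCat.of (C ⧸ J))).inv (Ideal.Quotient.mk J z) = 0
          rw [Ideal.Quotient.eq_zero_iff_mem.mpr hz]
          exact map_zero _
        rw [h1]; exact map_zero _
      have hx' := hker x hx
      have hy' := hker y hy
      rw [Scheme.ker_ideal_of_isPullback_of_isOpenImmersion t (Limits.pullback.snd t r) (Limits.pullback.fst t r) r hsq.flip W,
        Ideal.mem_comap] at hx' hy'
      have h0 := Ideal.mul_mem_mul hx' hy'
      rw [← map_mul, ← map_mul, ← Pi.mul_apply, ← Scheme.IdealSheafData.ideal_mul, htker,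
        Scheme.IdealSheafData.ideal_bot, Pi.bot_apply, Ideal.mem_bot] at h0
      rw [Ideal.mem_bot]
      apply (Scheme.ΓSpecIso C).commRingCatIsoToRingEquiv.symm.injective
      refine ((map_eq_zero_iff _ (r.appIso ⊤).commRingCatIsoToRingEquiv.symm.injective).mp h0).trans ?_
      exact (map_zero _).symm
    · rw [Category.assoc, hsq.w, he, Category.assoc, Iso.inv_hom_id_assoc]
    · rw [show Set.range (e.inv ≫ Limits.pullback.fst t r) = Set.range (Limits.pullback.fst t r) from
        e.inv.surjective.range_comp _, Scheme.Pullback.range_fst]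
  -- local lifts
  have loc : ∀ (C : CommRingCat.{u}) (r : Spec C ⟶ T') [IsOpenImmersion r],
      ∃ l : Spec C ⟶ X, l ≫ f = r ≫ b ∧ ∀ (C' : CommRingCat.{u}) (m : Spec C' ⟶ Spec C) [IsOpenImmersion (m ≫ r)],
        ∀ (J : Ideal C') (q : Spec (CommRingCat.of (C' ⧸ J)) ⟶ T), q ≫ t = InfLift.specQuot J ≫ m ≫ r →
          InfLift.specQuot J ≫ m ≫ l = q ≫ a := by
    intro C r _
    obtain ⟨J, hJ, q, hqo, hq, hqr⟩ := data C r
    obtain ⟨l, ⟨hl₁, hl₂⟩, -⟩ := hf C J hJ (q ≫ a) (r ≫ b) (by
      rw [Category.assoc, ← w, ← Category.assoc, ← Category.assoc, hq])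
    refine ⟨l, hl₂, fun C' m _ J' q' hq' ↦ ?_⟩
    have hr : Set.range q' ⊆ Set.range q := by
      rw [hqr]
      rintro _ ⟨z, rfl⟩
      refine ⟨m (InfLift.specQuot J' z), ?_⟩
      rw [← Scheme.Hom.comp_apply, ← Scheme.Hom.comp_apply, ← Scheme.Hom.comp_apply, hq']
    let k := IsOpenImmersion.lift q q' hr
    have hk : k ≫ q = q' := IsOpenImmersion.lift_fac _ _ _
    have hk' : k ≫ InfLift.specQuot J = InfLift.specQuot J' ≫ m := by
      rw [← cancel_mono r, Category.assoc, Category.assoc, ← hq, ← Category.assoc, hk, hq']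
    rw [← Category.assoc, ← hk', Category.assoc, hl₁, ← Category.assoc, hk]
  let C : T'.affineOpens → CommRingCat.{u} := fun U ↦ Γ(T', U.1)
  let φ : ∀ U : T'.affineOpens, Spec (C U) ⟶ T' := fun U ↦ U.2.fromSpec
  have hφ : ∀ U, IsOpenImmersion (φ U) := fun U ↦ inferInstanceAs (IsOpenImmersion U.2.fromSpec)
  choose l hl hl' using fun U ↦ @loc (C U) (φ U) (hφ U)
  let aff : ∀ Z : Scheme.{u}, Z.OpenCover := fun Z ↦
    Scheme.Cover.mkOfCovers Z.affineOpens (fun U ↦ Spec Γ(Z, U.1)) (fun U ↦ U.2.fromSpec)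
    (fun x ↦ by
      obtain ⟨U, hU, hxU, -⟩ := exists_isAffineOpen_mem_and_subset (X := Z) (x := x) (U := ⊤) trivial
      exact ⟨⟨U, hU⟩, hU.primeIdealOf ⟨x, hxU⟩, hU.fromSpec_primeIdealOf ⟨x, hxU⟩⟩)
    (fun U ↦ inferInstanceAs (IsOpenImmersion U.2.fromSpec))
  -- agreement on overlaps
  have agree : ∀ U V, Limits.pullback.fst (φ U) (φ V) ≫ l U = Limits.pullback.snd (φ U) (φ V) ≫ l V := by
    intro U V
    let P := Limits.pullback (φ U) (φ V)
    suffices H : ∀ (D : CommRingCat.{u}) (c : Spec D ⟶ P), IsOpenImmersion c →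
        c ≫ Limits.pullback.fst (φ U) (φ V) ≫ l U = c ≫ Limits.pullback.snd (φ U) (φ V) ≫ l V from
      Scheme.Cover.hom_ext (aff P) _ _ fun p ↦ H _ p.2.fromSpec (inferInstanceAs (IsOpenImmersion p.2.fromSpec))
    intro D c hc
    have key : c ≫ Limits.pullback.fst (φ U) (φ V) ≫ l U = c ≫ Limits.pullback.snd (φ U) (φ V) ≫ l V := by
      have i1 : IsOpenImmersion ((c ≫ Limits.pullback.fst (φ U) (φ V)) ≫ φ U) :=
        @IsOpenImmersion.comp _ _ _ _ _ (@IsOpenImmersion.comp _ _ _ c _ hc (MorphismProperty.pullback_fst _ _ (hφ V))) (hφ U)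
      have i2 : IsOpenImmersion ((c ≫ Limits.pullback.snd (φ U) (φ V)) ≫ φ V) :=
        @IsOpenImmersion.comp _ _ _ _ _ (@IsOpenImmersion.comp _ _ _ c _ hc (MorphismProperty.pullback_snd _ _ (hφ U))) (hφ V)
      obtain ⟨J, hJ, q, -, hq, -⟩ := data D ((c ≫ Limits.pullback.fst (φ U) (φ V)) ≫ φ U)
      have h₁ := @hl' U D (c ≫ Limits.pullback.fst (φ U) (φ V)) i1 J q (by rw [hq])
      have h₂ := @hl' V D (c ≫ Limits.pullback.snd (φ U) (φ V)) i2 J q (by
        rw [hq]; simp only [Category.assoc, Limits.pullback.condition])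
      refine InfLift.lift_unique J f hJ ?_ ?_
      · simp only [Category.assoc] at h₁ h₂
        rw [h₁, h₂]
      · simp only [Category.assoc, hl]
        rw [← Category.assoc (Limits.pullback.fst _ _), Limits.pullback.condition, Category.assoc]
    exact key
  let 𝒰 : T'.OpenCover := aff T'
  let L := 𝒰.glueMorphisms l agree
  have hL : ∀ U, φ U ≫ L = l U := fun U ↦ 𝒰.ι_glueMorphisms l agree U
  have hLf : L ≫ f = b := Scheme.Cover.hom_ext 𝒰 _ _ fun U ↦ by
    show φ U ≫ L ≫ f = φ U ≫ b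
    rw [← Category.assoc, hL, hl]
  have htL : t ≫ L = a := by
    suffices H : ∀ U : T'.affineOpens, Limits.pullback.fst t (φ U) ≫ t ≫ L = Limits.pullback.fst t (φ U) ≫ a from
      Scheme.Cover.hom_ext (𝒰.pullback₁ t) _ _ H
    intro U
    rw [Limits.pullback.condition_assoc, hL]
    have hci : IsClosedImmersion (Limits.pullback.snd t (φ U)) := MorphismProperty.pullback_snd _ _ htc
    obtain ⟨J, e, he⟩ := IsClosedImmersion.Spec_iff.mp hci
    have i1 : IsOpenImmersion (𝟙 _ ≫ φ U) := by rw [Category.id_comp]; exact hφ U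
    have := @hl' U (C U) (𝟙 _) i1 J (e.inv ≫ Limits.pullback.fst t (φ U)) (by
      rw [Category.assoc, Limits.pullback.condition, he, Category.assoc, Iso.inv_hom_id_assoc]
      erw [Category.id_comp])
    erw [Category.id_comp] at this
    rw [he, Category.assoc, this, Category.assoc, Iso.hom_inv_id_assoc]
  refine ⟨L, ⟨htL, hLf⟩, fun L' hL' ↦ FormallyUnramified.hom_ext t ⟨2, by rw [pow_two]; exact htker⟩ f
    (hL'.1.trans htL.symm) (hL'.2.trans hLf.symm)⟩

end Groth.Agent.S1516
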