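import Groth.Statements.S15160
import Groth.Agent.DCDesc.Main

set_option autoImplicit false
open CategoryTheory CategoryTheory.Limits AlgebraicGeometry
open VBCurve

set_option backward.isDefEq.respectTransparency false
set_option backward.isDefEq.respectTransparency.types false

namespace Groth.Agent.S15160

/-- Let π : X → Y be a ramified double cover of smooth proper integral curves over the complex numbers
(π finite flat of constant rank 2 over the complex numbers and not étale) with covering involution σ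
(σ ∘ σ = id, σ ≠ id, π ∘ σ = π), E a finite locally free module of rank r ≥ 1 on Y and i : F → π^*E
a subbundle (a monomorphism whose cokernel is finite locally free). Then F descends to Y as a
subbundle of E — there are a monomorphism i' : F' → E and an isomorphism π^*F' ≅ F carrying π^*i' to
i — if and only if the canonical linearization σ^*π^*E ≅ π^*E, induced by π ∘ σ = π, restricts to a
morphism σ^*F → F. -/
theorem result
    (X Y : Scheme.{0}) [X.Over (Spec (CommRingCat.of ℂ))] [Y.Over (Spec (CommRingCat.of ℂ))]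
    [IsIntegral X] [IsProper (X ↘ Spec (CommRingCat.of ℂ))] [Smooth (X ↘ Spec (CommRingCat.of ℂ))] (hdimX : topologicalKrullDim X = 1)
    [IsIntegral Y] [IsProper (Y ↘ Spec (CommRingCat.of ℂ))] [Smooth (Y ↘ Spec (CommRingCat.of ℂ))] (hdimY : topologicalKrullDim Y = 1)
    (π : X ⟶ Y) [IsFinite π] [Flat π] (hπ : π ≫ (Y ↘ Spec (CommRingCat.of ℂ)) = X ↘ Spec (CommRingCat.of ℂ))
    (hrk : ∀ y : ↥Y, Scheme.Hom.finrank π y = 2) (hram : ¬ Etale π)
    (σ : X ⟶ X) (hσS : σ ≫ (X ↘ Spec (CommRingCat.of ℂ)) = X ↘ Spec (CommRingCat.of ℂ)) (hσ : σ ≫ σ = 𝟙 X) (hσ1 : σ ≠ 𝟙 X) (hσπ : σ ≫ π = π)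
    (r : ℕ) (hr : 0 < r) (E : Y.Modules) (hE : FlatMod.IsFinLocFreeOfRank r E)
    (F : X.Modules) (i : F ⟶ (Scheme.Modules.pullback π).obj E) [Mono i]
    (hsub : FlatMod.IsFinLocFree (cokernel i)) :
    (∃ (F' : Y.Modules) (i' : F' ⟶ E) (e : (Scheme.Modules.pullback π).obj F' ≅ F),
        Mono i' ∧ e.hom ≫ i = (Scheme.Modules.pullback π).map i') ↔
    ∃ j : (Scheme.Modules.pullback σ).obj F ⟶ F,
      j ≫ i = (Scheme.Modules.pullback σ).map i ≫ (Scheme.Modules.pullbackComp σ π).hom.app E ≫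
        (Scheme.Modules.pullbackCongr hσπ).hom.app E := by
  refine ⟨fun ⟨F', i', e, hi', he⟩ => ?_, fun ⟨j, hj⟩ => ?_⟩
  · refine ⟨(Scheme.Modules.pullback σ).map e.inv ≫ Groth.Agent.DCDesc.lin π σ hσπ F' ≫ e.hom, ?_⟩
    rw [Category.assoc, Category.assoc, he, ← Groth.Agent.DCDesc.lin_natural π σ hσπ i', ← he, ← Category.assoc,
      ← Functor.map_comp, ← Category.assoc, e.inv_hom_id, Category.id_comp]
    rfl
  · exact Groth.Agent.DCDesc.descends ℂ π σ hσπ hπ two_ne_zero hdimY hrk hσ hσ1 hE i hsub j hj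

end Groth.Agent.S15160
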