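import Groth.Statements.S15161
import Groth.Agent.DCOmega.Descend

set_option autoImplicit false
open CategoryTheory CategoryTheory.Limits AlgebraicGeometry
open Curves

set_option backward.isDefEq.respectTransparency false
set_option backward.isDefEq.respectTransparency.types false

namespace Groth.Agent.S15161

/-- Let X be a smooth proper integral curve of genus at least 2 over the complex numbers with an
involution σ ≠ id over the complex numbers, and π : X → Y its quotient double cover (Y a smooth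
proper integral curve, π finite flat of constant rank 2 over the complex numbers, π ∘ σ = π;
ramified or étale). If D is an O_Y-module with π_*O_X ≅ O_Y ⊕ D, then there is an invertible
O_Y-module Δ with Δ ⊗ D ≅ O_Y such that π^*(Ω_Y ⊗ Δ) ≅ Ω_X, where Ω denotes differentials over the
complex numbers (existence of isomorphisms only). -/
theorem result
    (X Y : Scheme.{0}) [X.Over (Spec (CommRingCat.of ℂ))] [Y.Over (Spec (CommRingCat.of ℂ))]
    [IsIntegral X] [IsProper (X ↘ Spec (CommRingCat.of ℂ))] [Smooth (X ↘ Spec (CommRingCat.of ℂ))] (hdimX : topologicalKrullDim X = 1)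
    (hg : 2 ≤ Curv2.genus ℂ X)
    [IsIntegral Y] [IsProper (Y ↘ Spec (CommRingCat.of ℂ))] [Smooth (Y ↘ Spec (CommRingCat.of ℂ))] (hdimY : topologicalKrullDim Y = 1)
    (σ : X ⟶ X) (hσS : σ ≫ (X ↘ Spec (CommRingCat.of ℂ)) = X ↘ Spec (CommRingCat.of ℂ)) (hσ : σ ≫ σ = 𝟙 X) (hσ1 : σ ≠ 𝟙 X)
    (π : X ⟶ Y) [IsFinite π] [Flat π] (hπ : π ≫ (Y ↘ Spec (CommRingCat.of ℂ)) = X ↘ Spec (CommRingCat.of ℂ))
    (hrk : ∀ y : ↥Y, Scheme.Hom.finrank π y = 2) (hσπ : σ ≫ π = π)
    (D : Y.Modules)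
    (hD : Nonempty ((Scheme.Modules.pushforward π).obj (Coh.structureModule X) ≅ Coh.structureModule Y ⊞ D)) :
    ∃ Δ : Y.Modules, PicF.IsInvertible Δ ∧ Nonempty (CohB1.tensorMod Δ D ≅ Coh.structureModule Y) ∧
      Nonempty ((Scheme.Modules.pullback π).obj (CohB1.tensorMod (Omega.sheaf (Y ↘ Spec (CommRingCat.of ℂ))) Δ) ≅
        Omega.sheaf (X ↘ Spec (CommRingCat.of ℂ))) := by
  obtain ⟨D₀, Δ, hΔ, ⟨ε⟩, e, huniq⟩ := Groth.Agent.DCOmega.omega_descends ℂ hdimX hdimY π hπ hrk
  obtain ⟨i⟩ := huniq D hD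
  exact ⟨Δ, hΔ, ⟨PicGrp.tensorModIso (Iso.refl Δ) i ≪≫ ε⟩, e⟩

end Groth.Agent.S15161
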