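import Groth.Statements.S15162
import Mathlib

set_option autoImplicit false
open Matrix
open BddFin

namespace Groth.Agent.S15162

/-- Let Γ be a finite subgroup of GL_2(ℤ) acting on ℤ² by matrix multiplication. If every element of Γ
has a non-zero fixed vector in ℤ², then there is a non-zero vector of ℤ² fixed by all of Γ. -/
theorem result
    (Γ : Subgroup (Matrix.GeneralLinearGroup (Fin 2) ℤ)) [Finite Γ]
    (h : ∀ γ ∈ Γ, ∃ v : Fin 2 → ℤ, v ≠ 0 ∧ (γ : Matrix (Fin 2) (Fin 2) ℤ) *ᵥ v = v) :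
    ∃ v : Fin 2 → ℤ, v ≠ 0 ∧ ∀ γ ∈ Γ, (γ : Matrix (Fin 2) (Fin 2) ℤ) *ᵥ v = v := by
  classical
  have key : ∀ γ ∈ Γ, (γ : Matrix (Fin 2) (Fin 2) ℤ).det = 1 → γ = 1 := by
    intro γ hγ hdet
    obtain ⟨v, hv0, hv⟩ := h γ hγ
    set M : Matrix (Fin 2) (Fin 2) ℤ := (γ : Matrix (Fin 2) (Fin 2) ℤ) with hM
    set N := M - 1 with hN
    have hN0 : N.det = 0 := Matrix.exists_mulVec_eq_zero_iff.1 ⟨v, hv0, by
      rw [hN, Matrix.sub_mulVec, Matrix.one_mulVec, hv, sub_self]⟩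
    have htr : M 0 0 + M 1 1 = 2 := by
      simp [hN, Matrix.det_fin_two] at hN0
      rw [Matrix.det_fin_two] at hdet
      linarith
    have hN2 : N * N = 0 := by
      simp [hN, Matrix.det_fin_two] at hN0
      ext i j
      fin_cases i <;> fin_cases j <;> simp [hN, Matrix.mul_apply, Fin.sum_univ_two] <;> grind
    have hp : ∀ m : ℕ, M ^ m = 1 + m • N := by
      intro m
      induction m with
      | zero => simp
      | succ m ih =>
        rw [pow_succ, ih, show M = 1 + N by rw [hN]; abel, add_mul, one_mul, smul_mul_assoc, mul_add, mul_one, hN2,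
          add_zero, add_smul, one_smul]
        abel
    obtain ⟨m, hm, hm'⟩ := isOfFinOrder_iff_pow_eq_one.1 (isOfFinOrder_of_finite (⟨γ, hγ⟩ : Γ))
    have h1 : M ^ m = 1 := by
      have := congrArg (fun g : Γ => ((g : Matrix.GeneralLinearGroup (Fin 2) ℤ) : Matrix (Fin 2) (Fin 2) ℤ)) hm'
      simpa [hM] using this
    rw [hp, add_eq_left, ← natCast_zsmul, smul_eq_zero] at h1
    apply Units.ext
    exact sub_eq_zero.1 (h1.resolve_left (by omega))
  by_cases htriv : ∀ γ ∈ Γ, γ = 1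
  · exact ⟨![1, 0], fun h0 => by simpa using congrFun h0 0, fun γ hγ => by simp [htriv γ hγ]⟩
  push Not at htriv
  obtain ⟨g, hg, hg1⟩ := htriv
  have hdet : ∀ γ ∈ Γ, γ ≠ 1 → (γ : Matrix (Fin 2) (Fin 2) ℤ).det = -1 := fun γ hγ hne => by
    rcases Int.isUnit_iff.1 ((Matrix.isUnit_iff_isUnit_det _).1 γ.isUnit) with hd | hd
    · exact absurd (key γ hγ hd) hne
    · exact hd
  obtain ⟨v, hv0, hv⟩ := h g hg
  refine ⟨v, hv0, fun γ hγ => ?_⟩
  by_cases hγ1 : γ = 1
  · simp [hγ1]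
  · have h2 : γ * g = 1 := key _ (mul_mem hγ hg) (by
      rw [Units.val_mul, Matrix.det_mul, hdet γ hγ hγ1, hdet g hg hg1]; rfl)
    conv_lhs => rw [← hv, Matrix.mulVec_mulVec, ← Units.val_mul, h2]
    simp

end Groth.Agent.S15162
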