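import Groth.Statements.S15163
import Mathlib
import Groth.Agent.S15162

set_option autoImplicit false
open Matrix
open BddFin

namespace Groth.Agent.S15163

/-- Let Γ be a finite subgroup of GL_2(ℤ) and d > 6 an integer. Suppose some vector w of (ℤ/dℤ)², with
m·w ≠ 0 for all 0 < m < d, is fixed by the reduction modulo d of every element of Γ. Then some
non-zero vector of ℤ² is fixed by all of Γ. -/
theorem result
    (Γ : Subgroup (Matrix.GeneralLinearGroup (Fin 2) ℤ)) [Finite Γ] (d : ℕ) (hd : 6 < d)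
    (w : Fin 2 → ZMod d) (hw : ∀ m : ℕ, 0 < m → m < d → m • w ≠ 0)
    (hfix : ∀ γ ∈ Γ, ((γ : Matrix (Fin 2) (Fin 2) ℤ).map (Int.castRingHom (ZMod d))) *ᵥ w = w) :
    ∃ v : Fin 2 → ℤ, v ≠ 0 ∧ ∀ γ ∈ Γ, (γ : Matrix (Fin 2) (Fin 2) ℤ) *ᵥ v = v := by
  classical
  have habs : ∀ γ ∈ Γ, |(γ : Matrix (Fin 2) (Fin 2) ℤ).trace| ≤ 2 ∧
      |(γ : Matrix (Fin 2) (Fin 2) ℤ).det| = 1 := by
    intro γ hγ
    set M : Matrix (Fin 2) (Fin 2) ℤ := (γ : Matrix (Fin 2) (Fin 2) ℤ) with hM
    have hdet : |M.det| = 1 := Int.isUnit_iff_abs_eq.1 ((Matrix.isUnit_iff_isUnit_det _).1 γ.isUnit)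
    refine ⟨?_, hdet⟩
    set t := M.trace with ht
    by_contra hlt
    have ht3 : 3 ≤ |t| := by omega
    have hCH : M * M = t • M - M.det • 1 := by
      ext i j
      rw [Matrix.sub_apply, Matrix.smul_apply, Matrix.smul_apply, smul_eq_mul, smul_eq_mul]
      fin_cases i <;> fin_cases j <;>
        simp [-zsmul_eq_mul, ht, Matrix.trace_fin_two, Matrix.det_fin_two, Matrix.mul_apply, Fin.sum_univ_two, Matrix.smul_apply] <;> ring
    have hrec : ∀ n : ℕ, ∃ a b : ℤ, M ^ (n + 1) = a • M + b • 1 ∧ |b| < |a| ∧ 0 < |a| := by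
      intro n
      induction n with
      | zero => exact ⟨1, 0, by simp, by simp, by simp⟩
      | succ n ih =>
        obtain ⟨a, b, hab, hlt', hpos⟩ := ih
        refine ⟨a * t + b, -(a * M.det), ?_, ?_⟩
        · rw [pow_succ, hab, add_mul, smul_mul_assoc, smul_mul_assoc, one_mul, hCH, smul_sub, smul_smul, smul_smul,
            add_smul, neg_smul]
          abel
        · have h1 : |-(a * M.det)| = |a| := by rw [abs_neg, abs_mul, hdet, mul_one]
          have h2 : |a * t| ≤ |a * t + b| + |b| := by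
            have := abs_add_le (a * t + b) (-b)
            simpa using this
          rw [abs_mul] at h2
          rw [h1]
          constructor <;> nlinarith [mul_le_mul_of_nonneg_left ht3 hpos.le]
    obtain ⟨m, hm, hm'⟩ := isOfFinOrder_iff_pow_eq_one.1 (isOfFinOrder_of_finite (⟨γ, hγ⟩ : Γ))
    have h1 : M ^ m = 1 := by
      have := congrArg (fun g : Γ => ((g : Matrix.GeneralLinearGroup (Fin 2) ℤ) : Matrix (Fin 2) (Fin 2) ℤ)) hm'
      simpa [hM] using this
    obtain ⟨m, rfl⟩ := Nat.exists_eq_succ_of_ne_zero hm.ne'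
    obtain ⟨a, b, hab, -, hapos⟩ := hrec m
    rw [Nat.succ_eq_add_one, hab] at h1
    have e01 := congrFun (congrFun h1 0) 1
    have e10 := congrFun (congrFun h1 1) 0
    have ha0 : a ≠ 0 := abs_pos.1 hapos
    rw [Matrix.add_apply, Matrix.smul_apply, Matrix.smul_apply, Matrix.one_apply_ne (by decide), smul_eq_mul,
      smul_zero, add_zero] at e01 e10
    replace e01 := (mul_eq_zero.1 e01).resolve_left ha0
    rw [Matrix.det_fin_two, e01, zero_mul, sub_zero, abs_mul] at hdet
    have hu := Int.eq_one_of_mul_eq_one_right (abs_nonneg _) hdet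
    have hw := Int.eq_one_of_mul_eq_one_left (abs_nonneg _) hdet
    have := abs_add_le (M 0 0) (M 1 1)
    rw [ht, Matrix.trace_fin_two] at ht3
    omega
  have hfix' : ∀ γ ∈ Γ, ∃ v : Fin 2 → ℤ, v ≠ 0 ∧ (γ : Matrix (Fin 2) (Fin 2) ℤ) *ᵥ v = v := by
    intro γ hγ
    set M : Matrix (Fin 2) (Fin 2) ℤ := (γ : Matrix (Fin 2) (Fin 2) ℤ) with hM
    obtain ⟨htr, hdet⟩ := habs γ hγ
    rw [← hM] at htr hdet
    have hN : (M - 1).det = M.det - M.trace + 1 := by
      simp [Matrix.det_fin_two, Matrix.trace_fin_two]; ring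
    have hwN : ((M - 1).map (Int.castRingHom (ZMod d))) *ᵥ w = 0 := by
      rw [Matrix.map_sub _ (map_sub _), Matrix.map_one _ (map_zero _) (map_one _), Matrix.sub_mulVec,
        Matrix.one_mulVec, hfix γ hγ, sub_self]
    have hdw : ((((M - 1).det : ℤ) : ZMod d)) • w = 0 := by
      have := congrArg (Matrix.mulVec ((M - 1).map (Int.castRingHom (ZMod d))).adjugate) hwN
      rw [Matrix.mulVec_mulVec, Matrix.adjugate_mul, Matrix.smul_mulVec, Matrix.one_mulVec, Matrix.mulVec_zero] at this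
      rwa [← RingHom.mapMatrix_apply, ← RingHom.map_det, eq_intCast] at this
    have hz : (M - 1).det = 0 := by
      by_contra hne
      have hlt : (M - 1).det.natAbs < d := by
        rw [hN]
        rw [abs_le] at htr
        rw [← Int.ofNat_lt, Int.natCast_natAbs, abs_lt]
        rcases (abs_eq (by norm_num : (0:ℤ) ≤ 1)).1 hdet with h' | h' <;> rw [h'] <;> constructor <;> omega
      refine hw _ (Int.natAbs_pos.2 hne) hlt ?_
      rw [← Nat.cast_smul_eq_nsmul (ZMod d)]
      rcases Int.natAbs_eq (M - 1).det with h' | h'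
      · rw [h', Int.cast_natCast] at hdw; exact hdw
      · rw [h', Int.cast_neg, Int.cast_natCast, neg_smul, neg_eq_zero] at hdw; exact hdw
    obtain ⟨v, hv0, hv⟩ := Matrix.exists_mulVec_eq_zero_iff.2 hz
    exact ⟨v, hv0, by rwa [Matrix.sub_mulVec, Matrix.one_mulVec, sub_eq_zero] at hv⟩
  exact Groth.Agent.S15162.result Γ hfix' 

end Groth.Agent.S15163
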