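import Groth.Statements.S15164
import Mathlib

set_option autoImplicit false
universe u v
open BddFin

namespace Groth.Agent.S15164

/-- Let K be a field of characteristic p > 2, V a finite-dimensional K-vector space and q a quadratic
form on V that does not represent zero (q x = 0 only for x = 0). Then the group of K-linear
automorphisms of V preserving q has no element of order p: if g preserves q and g ^ p = 1 then g =
1. (Non-degeneracy of q, also assumed in the published statement, follows from anisotropy since 2 is
invertible, so it is not repeated here.) -/
theorem result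
    (K : Type u) [Field K] (p : ℕ) [Fact p.Prime] [CharP K p] (hp : p ≠ 2)
    (V : Type v) [AddCommGroup V] [Module K V] [FiniteDimensional K V]
    (q : QuadraticForm K V) (hq : q.Anisotropic)
    (g : V ≃ₗ[K] V) (hg : ∀ x : V, q (g x) = q x) (hgp : g ^ p = 1) : g = 1 := by
  rcases subsingleton_or_nontrivial V with hV | hV
  · exact LinearEquiv.ext fun x => Subsingleton.elim _ _
  let N : Module.End K V := g.toLinearMap - 1
  have key : ∀ v, N (N v) = 0 → N v = 0 := by
    intro v hv
    set w := N v with hw
    have e1 : g v = v + w := by simp [w, N]
    have e2 : g w = w := by simpa [N, sub_eq_zero] using hv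
    have a1 := hg v
    have a2 := hg (v + w)
    rw [e1] at a1
    rw [map_add, e1, e2] at a2
    apply hq
    have b1 : q (v + w) = q v + q w + QuadraticMap.polar q v w := QuadraticMap.map_add q v w
    have b2 : q (v + w + w) = q (v + w) + q w + QuadraticMap.polar q (v + w) w :=
      QuadraticMap.map_add q _ _
    rw [QuadraticMap.polar_add_left, QuadraticMap.polar_self] at b2
    have h2 : (2 : K) ≠ 0 := Ring.two_ne_zero (by
      rw [ringChar.eq K p]; exact hp)
    have h3 : (2 : K) * q w = 0 := by
      rw [two_nsmul] at b2
      linear_combination b1 - b2 + a2 - a1
    exact (mul_eq_zero.1 h3).resolve_left h2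
  have key' : ∀ (n : ℕ) v, (N ^ n) v = 0 → N v = 0 := by
    intro n
    induction n with
    | zero => intro v hv; simp at hv; simp [hv]
    | succ n ih =>
      intro v hv
      rw [pow_succ, Module.End.mul_apply] at hv
      exact key v (ih _ hv)
  haveI : CharP (Module.End K V) p :=
    charP_of_injective_algebraMap (algebraMap K (Module.End K V)).injective p
  have hN : N ^ p = 0 := by
    rw [sub_pow_char_of_commute _ (Commute.one_right _), one_pow, sub_eq_zero]
    exact ((map_pow (LinearEquiv.automorphismGroup.toLinearMapMonoidHom (R := K) (M := V)) g p).symm.trans
      (congrArg _ hgp)).trans (map_one _)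
  refine LinearEquiv.ext fun v => ?_
  have := key' p v (by rw [hN]; rfl)
  simpa [N, sub_eq_zero] using this

end Groth.Agent.S15164
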