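import Groth.Statements.S15166
import Mathlib
import Groth.Agent.QuadAniso

set_option autoImplicit false
universe u v
open Polynomial
open BddFin

namespace Groth.Agent.S15166

/-- Let K be a field of characteristic different from 2 such that K contains all roots of unity (for
every n ≥ 1 the polynomial X^n − 1 splits into linear factors over K), V a finite-dimensional
K-vector space and q a quadratic form on V that does not represent zero. Then every finite subgroup
of the group of K-linear automorphisms of V preserving q is abelian and has order at most 2 ^ (dim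
V). (The published statement also covers perfect fields of characteristic 2; this row is the case of
characteristic ≠ 2.) -/
theorem result
    (K : Type u) [Field K] (hK : ∀ n : ℕ, 0 < n → (X ^ n - 1 : K[X]).Splits) (h2 : (2 : K) ≠ 0)
    (V : Type v) [AddCommGroup V] [Module K V] [FiniteDimensional K V]
    (q : QuadraticForm K V) (hq : q.Anisotropic)
    (G : Subgroup (V ≃ₗ[K] V)) [Finite G] (hG : ∀ g ∈ G, ∀ x : V, q (g x) = q x) :
    (∀ g ∈ G, ∀ h ∈ G, g * h = h * g) ∧ Nat.card G ≤ 2 ^ Module.finrank K V := by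
  have hsq : ∀ g ∈ G, g * g = 1 := fun g hgG => by
    obtain ⟨d, hd, hgd⟩ := isOfFinOrder_iff_pow_eq_one.1 (isOfFinOrder_of_finite (⟨g, hgG⟩ : G))
    rw [← pow_two]
    exact QuadAniso.sq_eq_one hK h2 q hq g (hG g hgG) d hd (congrArg Subtype.val hgd)
  have hcomm : ∀ g ∈ G, ∀ h ∈ G, g * h = h * g := fun g hgG h hhG => by
    have hi : ∀ x ∈ G, x⁻¹ = x := fun x hx => inv_eq_of_mul_eq_one_right (hsq x hx)
    rw [← hi (g * h) (mul_mem hgG hhG), mul_inv_rev, hi g hgG, hi h hhG]
  refine ⟨hcomm, ?_⟩
  let f : (V ≃ₗ[K] V) → (V →ₗ[K] V) := fun g => g.toLinearMap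
  have hf : Function.Injective f := LinearEquiv.toLinearMap_injective
  have hGfin : (G : Set (V ≃ₗ[K] V)).Finite := Set.toFinite _
  have h := QuadAniso.card_le K h2 _ V le_rfl (f '' (G : Set (V ≃ₗ[K] V))) (hGfin.image f)
    (by rintro _ ⟨g, hgG, rfl⟩; exact congrArg LinearEquiv.toLinearMap (hsq g hgG))
    (by rintro _ ⟨g, hgG, rfl⟩ _ ⟨k, hkG, rfl⟩; exact congrArg LinearEquiv.toLinearMap (hcomm g hgG k hkG))
  rwa [Set.ncard_image_of_injective _ hf, ← Nat.card_coe_set_eq] at h

end Groth.Agent.S15166
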