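import Groth.Statements.S15167
import Groth.Agent.CSALib.Separable
import Groth.Agent.S0186
import Mathlib.LinearAlgebra.Matrix.Charpoly.Coeff
import Mathlib.LinearAlgebra.Eigenspace.Minpoly
import Mathlib.FieldTheory.IsAlgClosed.AlgebraicClosure
import Mathlib.FieldTheory.Galois.Infinite
import Mathlib.FieldTheory.IsSepClosed
import Mathlib.RingTheory.UniqueFactorizationDomain.NormalizedFactors

set_option autoImplicit false
universe u v
open Polynomial
open BddFin

namespace Groth.Agent.S15167

open scoped TensorProduct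

/-- An irreducible factor of `X ^ m - c` with all roots of unity in the field. -/
theorem minpoly_root {K : Type u} [Field K] (hK : ∀ n : ℕ, 0 < n → (X ^ n - 1 : K[X]).Splits) {m : ℕ} (hm : 0 < m)
    {c : K} (hc : c ≠ 0) {Ω : Type u} [Field Ω] [Algebra K Ω] [IsAlgClosed Ω] {g : K[X]} (hg : Irreducible g)
    (hgm : g.Monic) (hgd : g ∣ X ^ m - C c) (α : Ω) (hα : aeval α g = 0) :
    ∃ a : K, α ^ g.natDegree = algebraMap K Ω a ∧ g = X ^ g.natDegree - C a := by
  have hz : ∀ β : Ω, aeval β g = 0 → β ^ m = algebraMap K Ω c := fun β hβ => by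
    obtain ⟨h, hh⟩ := hgd
    have h0 : aeval β (X ^ m - C c) = 0 := by rw [hh, map_mul, hβ, zero_mul]
    rw [← sub_eq_zero, ← h0]; simp
  have hα0 : α ≠ 0 := fun h => hc ((algebraMap K Ω).injective (by rw [← hz α hα, h, zero_pow hm.ne', map_zero]))
  have hroot : ∀ β ∈ (g.map (algebraMap K Ω)).roots, β / α ∈ (algebraMap K Ω).range := fun β hβ => by
    have hβ' : aeval β g = 0 := by
      rw [aeval_def, ← eval_map]; exact (mem_roots'.1 hβ).2
    have h1 : (β / α) ^ m = 1 := by
      rw [div_pow, hz β hβ', hz α hα, div_self]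
      exact fun h => hc ((algebraMap K Ω).injective (by rw [h, map_zero]))
    have h2 := Polynomial.Splits.roots_map (hK m hm) (algebraMap K Ω)
    have h3 : β / α ∈ ((X ^ m - 1 : K[X]).map (algebraMap K Ω)).roots := by
      rw [mem_roots']
      exact ⟨((monic_X_pow_sub_C (1 : K) hm.ne').map (algebraMap K Ω)).ne_zero |> (by simpa using ·),
        by simp [h1]⟩
    rw [h2, Multiset.mem_map] at h3
    obtain ⟨z, -, hz⟩ := h3
    exact ⟨z, hz⟩
  have hsp : (g.map (algebraMap K Ω)).Splits := IsAlgClosed.splits _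
  have hcard := splits_iff_card_roots.1 hsp
  rw [natDegree_map] at hcard
  -- product of the roots
  have hprod : ∀ s : Multiset Ω, (∀ β ∈ s, β / α ∈ (algebraMap K Ω).range) →
      ∃ z : K, s.prod = algebraMap K Ω z * α ^ Multiset.card s := fun s => by
    induction s using Multiset.induction_on with
    | empty => exact fun _ => ⟨1, by simp⟩
    | cons b s ih =>
      intro h
      obtain ⟨z, hz⟩ := ih fun β hβ => h β (Multiset.mem_cons_of_mem hβ)
      obtain ⟨w, hw⟩ := h b (Multiset.mem_cons_self _ _)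
      exact ⟨w * z, by rw [Multiset.prod_cons, hz, Multiset.card_cons, map_mul, hw, pow_succ]; field_simp⟩
  obtain ⟨z, hz'⟩ := hprod _ hroot
  rw [hcard] at hz'
  have hcoeff := hsp.coeff_zero_eq_prod_roots_of_monic (hgm.map (algebraMap K Ω))
  rw [natDegree_map, coeff_map, hz'] at hcoeff
  have hg0 : g.coeff 0 ≠ 0 := fun h => by
    rw [h, map_zero] at hcoeff
    rcases mul_eq_zero.1 hcoeff.symm with h | h
    · exact pow_ne_zero _ (by norm_num) h
    rcases mul_eq_zero.1 h with h | h
    · have : (g.map (algebraMap K Ω)).roots.prod = 0 := by rw [hz', h, zero_mul]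
      obtain ⟨hne, h0⟩ := mem_roots'.1 (Multiset.prod_eq_zero_iff.1 this)
      have h0' : aeval (0 : Ω) g = 0 := by rw [aeval_def, ← eval_map]; exact h0
      have := hz 0 h0'
      rw [zero_pow hm.ne'] at this
      exact hc ((algebraMap K Ω).injective (by rw [← this, map_zero]))
    · exact pow_ne_zero _ hα0 h
  have hz0 : algebraMap K Ω z ≠ 0 := fun h => by
    rw [h, zero_mul, mul_zero] at hcoeff
    exact hg0 ((algebraMap K Ω).injective (by rw [hcoeff, map_zero]))
  refine ⟨g.coeff 0 / ((-1) ^ g.natDegree * z), ?_, ?_⟩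
  · rw [map_div₀, hcoeff, map_mul, map_pow, map_neg, map_one, ← mul_assoc,
      mul_div_cancel_left₀ _ (mul_ne_zero (pow_ne_zero _ (by norm_num)) hz0)]
  · set a := g.coeff 0 / ((-1) ^ g.natDegree * z)
    have hdeg : 0 < g.natDegree := hg.natDegree_pos
    have h1 : g ∣ X ^ g.natDegree - C a := by
      rw [minpoly.eq_of_irreducible_of_monic hg hα hgm]
      refine minpoly.dvd K α ?_
      simp only [map_sub, map_pow, aeval_X, aeval_C, ← minpoly.eq_of_irreducible_of_monic hg hα hgm]
      rw [sub_eq_zero, map_div₀, hcoeff, map_mul, map_pow, map_neg, map_one, ← mul_assoc,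
        mul_div_cancel_left₀ _ (mul_ne_zero (pow_ne_zero _ (by norm_num)) hz0)]
    exact eq_of_monic_of_dvd_of_natDegree_le hgm (monic_X_pow_sub_C a hdeg.ne') h1 (by rw [natDegree_X_pow_sub_C]) |>.symm

theorem factor_form {K : Type u} [Field K] (hK : ∀ n : ℕ, 0 < n → (X ^ n - 1 : K[X]).Splits) {m : ℕ} (hm : 0 < m)
    {c : K} (hc : c ≠ 0) {f g : K[X]} (hf : Irreducible f) (hfm : f.Monic) (hg : Irreducible g) (hgm : g.Monic)
    (hfd : f ∣ X ^ m - C c) (hgd : g ∣ X ^ m - C c) :
    f.natDegree = g.natDegree ∧ ∃ a, f = X ^ g.natDegree - C a := by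
  let Ω := AlgebraicClosure K
  obtain ⟨α, hα⟩ := IsAlgClosed.exists_aeval_eq_zero Ω f (fun h => hf.natDegree_pos.ne' (natDegree_eq_of_degree_eq_some h))
  obtain ⟨β, hβ⟩ := IsAlgClosed.exists_aeval_eq_zero Ω g (fun h => hg.natDegree_pos.ne' (natDegree_eq_of_degree_eq_some h))
  obtain ⟨a, ha, hfa⟩ := minpoly_root hK hm hc hf hfm hfd α hα
  obtain ⟨b, hb, -⟩ := minpoly_root hK hm hc hg hgm hgd β hβ
  have hpow : ∀ γ : Ω, (∀ q : K[X], q ∣ X ^ m - C c → aeval γ q = 0 → γ ^ m = algebraMap K Ω c) := fun γ q hq h0 => by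
    obtain ⟨h, hh⟩ := hq
    have := congrArg (aeval γ) hh
    rw [map_mul, h0, zero_mul] at this
    simpa [sub_eq_zero] using this
  have h1 : (β / α) ^ m = 1 := by
    rw [div_pow, hpow β g hgd hβ, hpow α f hfd hα, div_self]
    exact fun h => hc ((algebraMap K Ω).injective (by rw [h, map_zero]))
  obtain ⟨z, hz⟩ : β / α ∈ (algebraMap K Ω).range := by
    have h3 : β / α ∈ ((X ^ m - 1 : K[X]).map (algebraMap K Ω)).roots := by
      rw [mem_roots']
      exact ⟨((monic_X_pow_sub_C (1 : K) hm.ne').map (algebraMap K Ω)).ne_zero |> (by simpa using ·),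
        by simp [h1]⟩
    rw [Polynomial.Splits.roots_map (hK m hm) (algebraMap K Ω), Multiset.mem_map] at h3
    obtain ⟨z, -, hz⟩ := h3
    exact ⟨z, hz⟩
  have hα0 : α ≠ 0 := fun h => hc ((algebraMap K Ω).injective
    (by rw [← hpow α f hfd hα, h, zero_pow hm.ne', map_zero]))
  have hβα : β = algebraMap K Ω z * α := by rw [hz, div_mul_cancel₀ _ hα0]
  have hz0 : algebraMap K Ω z ≠ 0 := fun h => hc ((algebraMap K Ω).injective
    (by rw [← hpow β g hgd hβ, hβα, h, zero_mul, zero_pow hm.ne', map_zero]))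
  have hle : ∀ (u : K[X]) (γ : Ω), Irreducible u → u.Monic → aeval γ u = 0 → ∀ (e : ℕ) (t : K), 0 < e →
      γ ^ e = algebraMap K Ω t → u.natDegree ≤ e := fun u γ hu hum hγ e t he h => by
    rw [minpoly.eq_of_irreducible_of_monic hu hγ hum]
    refine (natDegree_le_of_dvd (minpoly.dvd K γ (by simp [h] : aeval γ (X ^ e - C t) = 0))
      (monic_X_pow_sub_C t he.ne').ne_zero).trans (by rw [natDegree_X_pow_sub_C])
  have h12 : f.natDegree = g.natDegree := by
    refine le_antisymm (hle f α hf hfm hα _ (b / z ^ g.natDegree) hg.natDegree_pos ?_)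
      (hle g β hg hgm hβ _ (z ^ f.natDegree * a) hf.natDegree_pos ?_)
    · rw [map_div₀, map_pow, eq_div_iff (pow_ne_zero _ hz0), ← hb, hβα, mul_pow, mul_comm]
    · rw [hβα, mul_pow, ha, map_mul, map_pow]
  exact ⟨h12, a, h12 ▸ hfa⟩

theorem dvd_natDegree_of_forall {K : Type u} [Field K] (χ : K[X]) (hχ : χ.Monic) (r : ℕ)
    (h : ∀ f, Irreducible f → f.Monic → f ∣ χ → f.natDegree = r) : r ∣ χ.natDegree := by
  classical
  have hp : (UniqueFactorizationMonoid.normalizedFactors χ).prod = χ := by
    rw [UniqueFactorizationMonoid.prod_normalizedFactors_eq hχ.ne_zero, hχ.normalize_eq_self]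
  conv_rhs => rw [← hp]
  rw [natDegree_multiset_prod _ (UniqueFactorizationMonoid.zero_notMem_normalizedFactors χ)]
  refine Multiset.dvd_sum fun d hd => ?_
  obtain ⟨f, hf, rfl⟩ := Multiset.mem_map.1 hd
  rw [h f (UniqueFactorizationMonoid.irreducible_of_normalized_factor _ hf)
    (by rw [← UniqueFactorizationMonoid.normalize_normalized_factor _ hf]
        exact monic_normalize (UniqueFactorizationMonoid.irreducible_of_normalized_factor _ hf).ne_zero)
    (UniqueFactorizationMonoid.dvd_of_mem_normalizedFactors hf)]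

/-- The reduced characteristic polynomial. -/
theorem exists_charpoly {K : Type u} [Field K] {A : Type v} [Ring A] [Algebra K A] [Algebra.IsCentral K A]
    [IsSimpleRing A] [FiniteDimensional K A] (n : ℕ)
    (Φ : SeparableClosure K ⊗[K] A ≃ₐ[SeparableClosure K] Matrix (Fin n) (Fin n) (SeparableClosure K)) (x : A) :
    ∃ χ : K[X], χ.Monic ∧ χ.natDegree = n ∧ ∀ f : K[X], Irreducible f → f ∣ χ → f ∣ minpoly K x := by
  set S := SeparableClosure K
  let φ : A →ₐ[K] Matrix (Fin n) (Fin n) S := (Φ.toAlgHom.restrictScalars K).comp Algebra.TensorProduct.includeRight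
  set P := (φ x).charpoly
  have hn : 0 < n := by
    rcases Nat.eq_zero_or_pos n with rfl | h
    · have : Subsingleton (S ⊗[K] A) := Φ.toEquiv.subsingleton
      have h1 : Nontrivial (S ⊗[K] A) := Module.FaithfullyFlat.lTensor_nontrivial K S A
      exact absurd this (not_subsingleton _)
    · exact h
  have : NeZero n := ⟨hn.ne'⟩
  have hinv : ∀ σ : S ≃ₐ[K] S, ∀ i, σ (P.coeff i) = P.coeff i := fun σ i => by
    let φσ : A →ₐ[K] Matrix (Fin n) (Fin n) S := (σ.toAlgHom.mapMatrix).comp φ
    let ψ : S ⊗[K] A →ₐ[S] Matrix (Fin n) (Fin n) S :=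
      Algebra.TensorProduct.lift (Algebra.ofId S _) φσ fun s a => Algebra.commutes s _
    obtain ⟨u, hu⟩ := Groth.Agent.S0186.result S (Matrix (Fin n) (Fin n) S) (Matrix (Fin n) (Fin n) S)
      (AlgHom.id S _) (ψ.comp Φ.symm.toAlgHom)
    have h := hu (φ x)
    have hx : (ψ.comp Φ.symm.toAlgHom) (φ x) = φσ x := by
      show ψ (Φ.symm (Φ ((1 : S) ⊗ₜ[K] x))) = _
      rw [AlgEquiv.symm_apply_apply]
      show Algebra.TensorProduct.lift (Algebra.ofId S _) φσ _ ((1 : S) ⊗ₜ[K] x) = _
      rw [Algebra.TensorProduct.lift_tmul, map_one, one_mul]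
    rw [AlgHom.id_apply, hx] at h
    have hP : P = (φσ x).charpoly := by
      show (φ x).charpoly = _
      rw [h]
      simpa [Matrix.coe_units_inv] using Matrix.charpoly_units_conj u (φσ x)
    conv_rhs => rw [hP, show φσ x = (φ x).map σ from rfl, show ((φ x).map σ) = (φ x).map σ.toRingHom from rfl,
      Matrix.charpoly_map, coeff_map]
    rfl
  have hmem : P ∈ Polynomial.lifts (algebraMap K S) := by
    rw [Polynomial.lifts_iff_coeff_lifts]
    intro i
    exact (InfiniteGalois.mem_bot_iff_fixed (P.coeff i)).2 fun σ => hinv σ i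
  obtain ⟨χ, hχ, -, hχm⟩ := Polynomial.lifts_and_degree_eq_and_monic hmem (Matrix.charpoly_monic _)
  refine ⟨χ, hχm, ?_, fun f hf hfχ => ?_⟩
  · rw [← hχm.natDegree_map (algebraMap K S), hχ, Matrix.charpoly_natDegree_eq_dim, Fintype.card_fin]
  · let Ω := AlgebraicClosure S
    obtain ⟨α, hα⟩ := IsAlgClosed.exists_aeval_eq_zero Ω f (fun h => hf.natDegree_pos.ne' (natDegree_eq_of_degree_eq_some h))
    let ρ : A →ₐ[K] Matrix (Fin n) (Fin n) Ω := ((IsScalarTower.toAlgHom K S Ω).mapMatrix).comp φ
    have hspec : α ∈ spectrum Ω (ρ x) := by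
      rw [Matrix.mem_spectrum_iff_isRoot_charpoly, show ρ x = (φ x).map (algebraMap S Ω) from rfl,
        Matrix.charpoly_map, IsRoot, eval_map, ← aeval_def]
      obtain ⟨g, rfl⟩ := hfχ
      show aeval α P = 0
      rw [← hχ, aeval_map_algebraMap, map_mul, hα, zero_mul]
    have hq : aeval (ρ x) ((minpoly K x).map (algebraMap K Ω)) = 0 := by
      rw [aeval_map_algebraMap, aeval_algHom_apply, minpoly.aeval, map_zero]
    have h0 := spectrum.subset_polynomial_aeval (ρ x) ((minpoly K x).map (algebraMap K Ω)) ⟨α, hspec, rfl⟩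
    rw [hq, spectrum.zero_eq, Set.mem_singleton_iff] at h0
    have hα' : aeval α (minpoly K x) = 0 := by rwa [aeval_def, ← eval_map]
    have hu : IsUnit f.leadingCoeff⁻¹ := (inv_ne_zero (leadingCoeff_ne_zero.2 hf.ne_zero)).isUnit
    refine dvd_trans ?_ (minpoly.dvd K α hα')
    rw [← minpoly.eq_of_irreducible_of_monic (p := f * C f.leadingCoeff⁻¹)
        ((irreducible_mul_isUnit (isUnit_C.2 hu)).2 hf) (by rw [map_mul, hα, zero_mul]) (monic_mul_leadingCoeff_inv hf.ne_zero)]
    exact dvd_mul_right f _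

/-- Let K be a field such that K contains all roots of unity (for every n ≥ 1 the polynomial X^n − 1
splits into linear factors over K), A a central simple K-algebra of dimension n ^ 2, and x an
invertible element of A some power x ^ m (m ≥ 1) of which lies in K. Then there are a positive
integer r dividing n and elements a_i of K such that the minimal polynomial of x over K is the
product of the polynomials X ^ r − a_i. -/
theorem result
    (K : Type u) [Field K] (hK : ∀ n : ℕ, 0 < n → (X ^ n - 1 : K[X]).Splits)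
    (A : Type v) [Ring A] [Algebra K A] [Algebra.IsCentral K A] [IsSimpleRing A] [FiniteDimensional K A]
    (n : ℕ) (hn : Module.finrank K A = n ^ 2)
    (x : A) (hx : IsUnit x) (hxm : ∃ m : ℕ, 0 < m ∧ x ^ m ∈ (algebraMap K A).range) :
    ∃ r : ℕ, 0 < r ∧ r ∣ n ∧ ∃ s : Multiset K, minpoly K x = (s.map fun a : K => X ^ r - C a).prod := by
  classical
  obtain ⟨m, hm, c, hc⟩ := hxm
  obtain ⟨L, _, hsplit⟩ := CSALib.exists_separable_splitting (k := K) A
  obtain ⟨N, -, ⟨Φ⟩⟩ := CSALib.splits_extend (k := K) (A := A) ⟨inferInstance, inferInstance, inferInstance⟩ (SeparableClosure K) hsplit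
  have hN : n = N := by
    have := Φ.toLinearEquiv.finrank_eq
    rw [Module.finrank_baseChange, Module.finrank_matrix, Fintype.card_fin, Module.finrank_self, hn, mul_one, sq] at this
    exact Nat.mul_self_inj.1 this
  subst hN
  have hc0 : c ≠ 0 := fun h => by
    rw [h, map_zero] at hc
    exact (hx.pow m).ne_zero hc.symm
  have hint : IsIntegral K x := IsIntegral.of_finite K x
  set q := minpoly K x with hq
  have hdvd : q ∣ X ^ m - C c := minpoly.dvd K x (by simp [hc])
  have hq0 : q ≠ 0 := minpoly.ne_zero hint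
  -- an irreducible factor
  have hqu : ¬ IsUnit q := minpoly.not_isUnit K x
  obtain ⟨g, hg⟩ := UniqueFactorizationMonoid.exists_mem_normalizedFactors hq0 hqu
  set r := g.natDegree
  have hr : 0 < r := (UniqueFactorizationMonoid.irreducible_of_normalized_factor _ hg).natDegree_pos
  have hfac : ∀ f, Irreducible f → f.Monic → f ∣ q → f.natDegree = r ∧ ∃ a, f = X ^ r - C a := by
    intro f hf hfm hfq
    exact factor_form hK hm hc0 hf hfm (UniqueFactorizationMonoid.irreducible_of_normalized_factor _ hg)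
      (by rw [← UniqueFactorizationMonoid.normalize_normalized_factor _ hg]; exact monic_normalize (UniqueFactorizationMonoid.irreducible_of_normalized_factor _ hg).ne_zero)
      (hfq.trans hdvd) ((UniqueFactorizationMonoid.dvd_of_mem_normalizedFactors hg).trans hdvd)
  refine ⟨r, hr, ?_, ?_⟩
  · obtain ⟨χ, hχm, hχd, hχ⟩ := exists_charpoly n Φ x
    rw [← hχd]
    exact dvd_natDegree_of_forall χ hχm r fun f hf hfm hfχ => (hfac f hf hfm (hχ f hf hfχ)).1
  · have hmon : ∀ f ∈ UniqueFactorizationMonoid.normalizedFactors q, f.Monic := fun f hf => by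
      rw [← UniqueFactorizationMonoid.normalize_normalized_factor _ hf]
      exact monic_normalize (UniqueFactorizationMonoid.irreducible_of_normalized_factor _ hf).ne_zero
    refine ⟨(UniqueFactorizationMonoid.normalizedFactors q).map fun f => -f.coeff 0, ?_⟩
    rw [Multiset.map_map]
    have hprod : q = (UniqueFactorizationMonoid.normalizedFactors q).prod := by
      rw [UniqueFactorizationMonoid.prod_normalizedFactors_eq hq0]
      exact ((minpoly.monic hint).normalize_eq_self).symm
    refine hprod.trans (congrArg Multiset.prod ?_)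
    conv_lhs => rw [← Multiset.map_id' (UniqueFactorizationMonoid.normalizedFactors q)]
    refine Multiset.map_congr rfl fun f hf => ?_
    obtain ⟨-, a, ha⟩ := hfac f (UniqueFactorizationMonoid.irreducible_of_normalized_factor _ hf) (hmon f hf)
      (UniqueFactorizationMonoid.dvd_of_mem_normalizedFactors hf)
    have h0 : f.coeff 0 = -a := by rw [ha, coeff_sub, coeff_X_pow, coeff_C_zero, if_neg hr.ne]; simp
    simp only [Function.comp_apply, h0, neg_neg]
    exact ha

end Groth.Agent.S15167
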