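import Groth.Statements.S15169
import Groth.Agent.BddFin.DivisionDegreeP
import Mathlib

set_option autoImplicit false
universe u v
open BddFin

namespace Groth.Agent.S15169

/-- (1) ⇒ (2): let K be a field with char K = p > 0 and A a central division K-algebra with dim_K A = p
^ 2. If some element of A is not separable over K, then there are v, u in A with v ^ p and u ^ p in
K and v * u - u * v = 1 which generate A as a K-algebra. -/
theorem result
    (K : Type u) [Field K] (p : ℕ) [Fact p.Prime] [CharP K p]
    (A : Type v) [DivisionRing A] [Algebra K A] [Algebra.IsCentral K A] [FiniteDimensional K A]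
    (hA : Module.finrank K A = p ^ 2) (h : ∃ v : A, ¬ IsSeparable K v) :
    ∃ v u : A, v ^ p ∈ (algebraMap K A).range ∧ u ^ p ∈ (algebraMap K A).range ∧ v * u - u * v = 1 ∧
      Algebra.adjoin K {v, u} = ⊤ := by
  classical
  obtain ⟨v, hv⟩ := h
  have hp : p.Prime := Fact.out
  haveI : ExpChar K p := ExpChar.prime hp
  haveI : CharP A p := charP_of_injective_algebraMap (algebraMap K A).injective p
  have hint : IsIntegral K v := Algebra.IsIntegral.isIntegral v
  have hirr : Irreducible (minpoly K v) := minpoly.irreducible hint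
  have hnc : ∃ y, y * v ≠ v * y := by
    by_contra hc
    push Not at hc
    obtain ⟨c, rfl⟩ := (Algebra.IsCentral.out (K := K) (D := A)) (Subalgebra.mem_center_iff.2 hc)
    exact hv (show (minpoly K (algebraMap K A c)).Separable by
      rw [minpoly.eq_X_sub_C]; exact Polynomial.separable_X_sub_C)
  obtain ⟨y, hy⟩ := hnc
  obtain ⟨hdeg, hcent⟩ := Groth.Agent.BddFin.natDegree_and_centralizer (K := K) p hA hy
  obtain ⟨g, hg⟩ : ∃ g, Polynomial.expand K p g = minpoly K v := by
    have hd : Polynomial.derivative (minpoly K v) = 0 :=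
      of_not_not fun h0 => hv ((Polynomial.separable_iff_derivative_ne_zero hirr).mpr h0)
    exact ⟨_, Polynomial.expand_contract p hd hp.ne_zero⟩
  have hg1 : g.natDegree = 1 := by
    have := congrArg Polynomial.natDegree hg
    rw [Polynomial.natDegree_expand, hdeg] at this
    exact Nat.eq_of_mul_eq_mul_right hp.pos (by rw [one_mul]; exact this)
  have hvp : v ^ p ∈ (algebraMap K A).range := by
    have h0 := minpoly.aeval K v
    rw [← hg, Polynomial.expand_aeval, Polynomial.eq_X_add_C_of_natDegree_le_one hg1.le] at h0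
    simp only [map_add, map_mul, Polynomial.aeval_C, Polynomial.aeval_X] at h0
    have hc : g.coeff 1 ≠ 0 := fun hc => by
      have hg0 : g ≠ 0 := fun h => by simp [h] at hg1
      exact Polynomial.leadingCoeff_ne_zero.mpr hg0 (by rw [Polynomial.leadingCoeff, hg1, hc])
    refine ⟨-(g.coeff 1)⁻¹ * g.coeff 0, ?_⟩
    rw [map_mul, map_neg, map_inv₀, neg_mul, ← mul_neg, ← eq_neg_of_add_eq_zero_left h0, ← mul_assoc,
      inv_mul_cancel₀ (fun h => hc ((algebraMap K A).injective (h.trans (map_zero _).symm))), one_mul]
  obtain ⟨c, hcv⟩ := hvp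
  -- the derivation `ad v`
  let δ : Module.End K A := LinearMap.mulLeft K v - LinearMap.mulRight K v
  have hδ : ∀ z, δ z = v * z - z * v := fun z => rfl
  haveI : CharP (Module.End K A) p :=
    charP_of_injective_algebraMap (RingHom.injective (algebraMap K (Module.End K A))) p
  have hδp : δ ^ p = 0 := by
    rw [sub_pow_char_of_commute p (LinearMap.commute_mulLeft_right v v), LinearMap.pow_mulLeft,
      LinearMap.pow_mulRight, ← hcv, sub_eq_zero]
    ext z
    exact Algebra.commutes c z
  have hδy : δ y ≠ 0 := fun h => hy (sub_eq_zero.mp (by rw [← hδ]; exact h)).symm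
  have hex : ∃ j, (δ ^ (j + 1)) (δ y) = 0 := ⟨p - 1, by
    rw [Nat.sub_add_cancel hp.one_le, hδp, LinearMap.zero_apply]⟩
  set j := Nat.find hex with hj
  set a := (δ ^ j) (δ y) with ha
  have ha0 : a ≠ 0 := by
    rw [ha]
    rcases Nat.eq_zero_or_pos j with h0 | h0
    · rw [h0]; simpa using hδy
    · have := Nat.find_min hex (show j - 1 < j by omega)
      rwa [Nat.sub_add_cancel h0] at this
  have hda : δ a = 0 := by
    rw [ha, ← Module.End.mul_apply, ← pow_succ']
    exact Nat.find_spec hex
  set z := (δ ^ j) y with hz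
  have hdz : δ z = a := by
    rw [hz, ha, ← Module.End.mul_apply, ← Module.End.mul_apply, (Commute.self_pow δ j).eq]
  have hav : Commute v a⁻¹ :=
    (show Commute v a from sub_eq_zero.mp (by rw [← hδ]; exact hda)).inv_right₀
  set u := z * a⁻¹ with hu
  have hvu : v * u - u * v = 1 := by
    rw [hu, ← mul_assoc, mul_assoc z, ← hav.eq, ← mul_assoc, ← sub_mul, ← hδ, hdz, mul_inv_cancel₀ ha0]
  have hcomm : Commute v (u ^ p) := by
    have h1 : ∀ n : ℕ, v * u ^ n = u ^ n * v + (n : A) * u ^ (n - 1) := by
      intro n
      induction n with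
      | zero => simp
      | succ n ih =>
        rw [pow_succ, ← mul_assoc, ih, add_mul, mul_assoc, eq_add_of_sub_eq hvu, mul_add, mul_one,
          ← mul_assoc, Nat.cast_add, Nat.cast_one, Nat.add_sub_cancel, mul_assoc (n : A)]
        rcases Nat.eq_zero_or_pos n with rfl | hn
        · simp [add_comm]
        · simp only [← pow_succ]
          rw [Nat.sub_add_cancel (show 1 ≤ n by omega), add_mul, one_mul]
          abel
    have := h1 p
    rw [CharP.cast_eq_zero, zero_mul, add_zero] at this
    exact this
  have hunv : u * v ≠ v * u := fun h => by rw [h, sub_self] at hvu; exact zero_ne_one hvu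
  have htop : Algebra.adjoin K ({v, u} : Set A) = ⊤ := by
    set D := Algebra.adjoin K ({v, u} : Set A)
    have hvD : v ∈ D := Algebra.subset_adjoin (by simp)
    have huD : u ∈ D := Algebra.subset_adjoin (by simp)
    set F := (Groth.Agent.BddFin.evalHom (K := K) v).range
    have hFD : F ≤ D := by
      rintro _ ⟨r, rfl⟩
      obtain ⟨q, rfl⟩ := AdjoinRoot.mk_surjective r
      show Groth.Agent.BddFin.evalHom (K := K) v (AdjoinRoot.mk _ q) ∈ D
      rw [Groth.Agent.BddFin.evalHom_mk]
      exact Algebra.adjoin_le (by simpa using hvD) (Algebra.adjoin_singleton_eq_range_aeval K v ▸ AlgHom.mem_range_self _ q)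
    have hFp : Module.finrank K F = p := by
      rw [← (AlgEquiv.ofInjective _ (Groth.Agent.BddFin.evalHom_injective (K := K) v)).toLinearEquiv.finrank_eq,
        (AdjoinRoot.powerBasis hirr.ne_zero).finrank, AdjoinRoot.powerBasis_dim, hdeg]
    have huF : u ∉ F := by
      rintro ⟨r, hr⟩
      apply hunv
      have h2 := (Commute.all r (AdjoinRoot.root (minpoly K v))).map (Groth.Agent.BddFin.evalHom (K := K) v)
      rw [Groth.Agent.BddFin.evalHom_root] at h2
      rw [← hr]
      exact h2.eq
    have hlt : Module.finrank K F < Module.finrank K D :=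
      Submodule.finrank_lt_finrank_of_lt (lt_of_le_of_ne (Subalgebra.toSubmodule.monotone hFD)
        (fun h => huF (by rw [Subalgebra.toSubmodule_injective h]; exact huD)))
    have hdvd := Groth.Agent.BddFin.finrank_subalgebra_dvd (K := K) D
    rw [hA] at hdvd
    obtain ⟨i, hi, hDi⟩ := (Nat.dvd_prime_pow hp).1 hdvd
    rw [hFp] at hlt
    have hD2 : Module.finrank K D = p ^ 2 := by
      interval_cases i
      · rw [hDi, pow_zero] at hlt; exact absurd hlt (not_lt.mpr hp.one_le)
      · rw [hDi, pow_one] at hlt; exact absurd hlt (lt_irrefl p)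
      · exact hDi
    exact Subalgebra.toSubmodule_injective (by
      rw [Algebra.top_toSubmodule]; exact Submodule.eq_top_of_finrank_eq (hD2.trans hA.symm))
  refine ⟨v, u, ⟨c, hcv⟩, ?_, hvu, htop⟩
  have hle : Algebra.adjoin K ({v, u} : Set A) ≤ Subalgebra.centralizer K {u ^ p} := by
    refine Algebra.adjoin_le ?_
    rintro x (rfl | rfl)
    · rw [SetLike.mem_coe, Subalgebra.mem_centralizer_iff]; rintro _ rfl; exact hcomm.symm.eq
    · rw [SetLike.mem_coe, Subalgebra.mem_centralizer_iff]; rintro _ rfl
      exact (Commute.self_pow u p).symm.eq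
  have hcen : u ^ p ∈ Subalgebra.center K A := Subalgebra.mem_center_iff.2 fun b => by
    have := hle (htop ▸ Algebra.mem_top (x := b))
    exact ((Subalgebra.mem_centralizer_iff K).1 this _ rfl).symm
  obtain ⟨c', hc'⟩ := (Algebra.IsCentral.out (K := K) (D := A)) hcen
  exact ⟨c', hc'⟩

end Groth.Agent.S15169
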