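import Groth.Statements.S1517
import Mathlib

set_option autoImplicit false
set_option linter.style.haveILetI false
set_option backward.isDefEq.respectTransparency false
universe u
open Brauer

namespace Groth.Agent.S1517

/-- Let A be a ring with no nontrivial two-sided ideals and M a nonzero right ideal, viewed as a right
A-module with endomorphism ring A'. Then every A'-linear endomorphism of M is right multiplication
by exactly one element of A; that is, the natural map from A to the bicommutant of M is a bijection. -/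
theorem result (A : Type u) [Ring A] [IsSimpleRing A]
    (M : Submodule Aᵐᵒᵖ A) (hM : M ≠ ⊥)
    (g : Module.End (Module.End Aᵐᵒᵖ M) M) :
    ∃! a : A, ∀ m : M, (g m : A) = (m : A) * a := by
  classical
  -- the two sided ideal generated by `M` contains `1`
  let S : Submodule ℕ A := Submodule.span ℕ {t | ∃ (c : A), ∃ m ∈ M, t = c * m}
  have hr : ∀ m ∈ M, ∀ c : A, m * c ∈ M := fun m hm c => M.smul_mem (MulOpposite.op c) hm
  have hSl : ∀ c, ∀ t ∈ S, c * t ∈ S := by
    intro c t ht
    induction ht using Submodule.span_induction with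
    | mem x hx => obtain ⟨d, m, hm, rfl⟩ := hx; exact Submodule.subset_span ⟨c * d, m, hm, (mul_assoc _ _ _).symm⟩
    | zero => rw [mul_zero]; exact zero_mem _
    | add x y _ _ hx hy => rw [mul_add]; exact add_mem hx hy
    | smul r x _ hx => rw [mul_smul_comm]; exact Submodule.smul_mem _ _ hx
  have hSr : ∀ c, ∀ t ∈ S, t * c ∈ S := by
    intro c t ht
    induction ht using Submodule.span_induction with
    | mem x hx => obtain ⟨d, m, hm, rfl⟩ := hx; exact Submodule.subset_span ⟨d, m * c, hr m hm c, mul_assoc _ _ _⟩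
    | zero => rw [zero_mul]; exact zero_mem _
    | add x y _ _ hx hy => rw [add_mul]; exact add_mem hx hy
    | smul r x _ hx => rw [smul_mul_assoc]; exact Submodule.smul_mem _ _ hx
  have hneg : ∀ t ∈ S, -t ∈ S := fun t ht => by simpa using hSl (-1) t ht
  let I : TwoSidedIdeal A := .mk' S (zero_mem _) (fun h h' => add_mem h h') (fun h => hneg _ h)
    (fun h => hSl _ _ h) (fun h => hSr _ _ h)
  have h1 : (1 : A) ∈ S := by
    obtain ⟨m, hm, hm0⟩ := Submodule.exists_mem_ne_zero_of_ne_bot hM
    have hmI : m ∈ I := (TwoSidedIdeal.mem_mk' ..).mpr (Submodule.subset_span ⟨1, m, hm, (one_mul m).symm⟩)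
    rcases IsSimpleRing.simple.eq_bot_or_eq_top I with h | h
    · rw [h] at hmI
      exact absurd ((TwoSidedIdeal.mem_bot A).mp hmI) hm0
    · have : (1 : A) ∈ I := by rw [h]; trivial
      exact (TwoSidedIdeal.mem_mk' ..).mp this
  -- left multiplication by elements of `M` are endomorphisms
  have hg : ∀ x m : M, (g ⟨(x : A) * m, hr x x.2 m⟩ : A) = x * g m := by
    intro x m
    let L : Module.End Aᵐᵒᵖ M :=
      { toFun := fun y => ⟨(x : A) * y, hr x x.2 y⟩
        map_add' := fun y z => Subtype.ext (mul_add (x : A) y z)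
        map_smul' := fun c y => Subtype.ext (mul_assoc (x : A) y c.unop).symm }
    exact congrArg Subtype.val (g.map_smul L m)
  have key : ∀ t ∈ S, ∃ a : A, ∀ m : M, ∀ h : (m : A) * t ∈ M, (g ⟨(m : A) * t, h⟩ : A) = m * a := by
    intro t ht
    induction ht using Submodule.span_induction with
    | mem x hx =>
      obtain ⟨c, m', hm', rfl⟩ := hx
      refine ⟨c * g ⟨m', hm'⟩, fun m h => ?_⟩
      have := hg ⟨(m : A) * c, hr m m.2 c⟩ ⟨m', hm'⟩
      exact (congrArg (fun v => (g v : A)) (Subtype.ext (mul_assoc _ _ _).symm)).trans (this.trans (mul_assoc _ _ _))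
    | zero => exact ⟨0, fun m h => by rw [show (⟨(m : A) * 0, h⟩ : M) = 0 from Subtype.ext (mul_zero _), map_zero, mul_zero]; rfl⟩
    | add x y _ _ hx hy =>
      obtain ⟨a, ha⟩ := hx
      obtain ⟨b, hb⟩ := hy
      refine ⟨a + b, fun m h => ?_⟩
      rw [show (⟨(m : A) * (x + y), h⟩ : M) = ⟨(m : A) * x, hr m m.2 x⟩ + ⟨(m : A) * y, hr m m.2 y⟩ from
        Subtype.ext (mul_add _ _ _), map_add, Submodule.coe_add, ha, hb, mul_add]
    | smul r x _ hx =>
      obtain ⟨a, ha⟩ := hx
      refine ⟨r • a, fun m h => ?_⟩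
      rw [show (⟨(m : A) * (r • x), h⟩ : M) = r • (⟨(m : A) * x, hr m m.2 x⟩ : M) from
        Subtype.ext (mul_smul_comm _ _ _), map_nsmul]
      refine Eq.trans ?_ (mul_smul_comm r (m : A) a).symm
      rw [← ha m (hr m m.2 x)]
      exact map_nsmul M.subtype r _
  obtain ⟨a, ha⟩ := key 1 h1
  refine ⟨a, fun m => ?_, fun b hb => ?_⟩
  · have := ha m (by rw [mul_one]; exact m.2)
    rw [← this]; congr 2; exact Subtype.ext (mul_one _).symm
  · have hzero : ∀ t ∈ S, t * b = t * a := by
      intro t ht
      induction ht using Submodule.span_induction with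
      | mem x hx =>
        obtain ⟨c, m, hm, rfl⟩ := hx
        have h' := ha ⟨m, hm⟩ (by rw [mul_one]; exact hm)
        rw [mul_assoc, mul_assoc, ← hb ⟨m, hm⟩, ← h']
        congr 3; exact Subtype.ext (mul_one _).symm
      | zero => simp
      | add x y _ _ hx hy => rw [add_mul, add_mul, hx, hy]
      | smul r x _ hx => rw [smul_mul_assoc, smul_mul_assoc, hx]
    simpa using hzero 1 h1

end Groth.Agent.S1517
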