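import Groth.Statements.S15170
import Groth.Agent.BddFin.DivisionDegreeP
import Mathlib

set_option autoImplicit false
universe u v
open BddFin

namespace Groth.Agent.S15170

/-- (2) ⇒ (3): let K be a field with char K = p > 0 and A a central division K-algebra with dim_K A = p
^ 2. If v, u in A satisfy v ^ p ∈ K, u ^ p ∈ K and v * u - u * v = 1, then some Galois extension L
of K with [L : K] = p admits a K-algebra embedding into A (so A has a Galois subfield of degree p
over K). -/
theorem result
    (K : Type u) [Field K] (p : ℕ) [Fact p.Prime] [CharP K p]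
    (A : Type v) [DivisionRing A] [Algebra K A] [Algebra.IsCentral K A] [FiniteDimensional K A]
    (hA : Module.finrank K A = p ^ 2) (v u : A) (hv : v ^ p ∈ (algebraMap K A).range)
    (hu : u ^ p ∈ (algebraMap K A).range) (hvu : v * u - u * v = 1) :
    ∃ (L : Type v) (_ : Field L) (_ : Algebra K L), IsGalois K L ∧ Module.finrank K L = p ∧
      Nonempty (L →ₐ[K] A) := by
  classical
  have hp : p.Prime := Fact.out
  have hv0 : v ≠ 0 := by rintro rfl; simp at hvu
  set w := u * v with hw
  have hconj : v * w = (w + 1) * v := by
    rw [← mul_assoc, eq_add_of_sub_eq hvu, hw]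
    noncomm_ring
  have hne : v * w ≠ w * v := by
    rw [hconj, add_mul, one_mul]
    simpa using hv0
  obtain ⟨hdeg, -⟩ := Groth.Agent.BddFin.natDegree_and_centralizer (K := K) p hA hne
  have hint : IsIntegral K w := Algebra.IsIntegral.isIntegral w
  set f := minpoly K w with hf
  haveI : Fact (Irreducible f) := ⟨minpoly.irreducible hint⟩
  have hshift : ∀ i : ℕ, Polynomial.aeval (w + i) f = 0 := by
    intro i
    induction i with
    | zero => simp [hf]
    | succ i ih =>
      have h1 : ∀ q : Polynomial K, v * Polynomial.aeval (w + i) q = Polynomial.aeval (w + (i + 1 : ℕ)) q * v := by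
        intro q
        induction q using Polynomial.induction_on' with
        | add a b ha hb => rw [map_add, map_add, mul_add, add_mul, ha, hb]
        | monomial n c =>
          have hsem : SemiconjBy v (w + i) (w + (i + 1 : ℕ)) := by
            show v * (w + i) = (w + (i + 1 : ℕ)) * v
            rw [mul_add, hconj, Nat.cast_add, Nat.cast_one, ← (Nat.cast_commute i v).eq]
            noncomm_ring
          rw [Polynomial.aeval_monomial, Polynomial.aeval_monomial, ← mul_assoc,
            ← Algebra.commutes c v, mul_assoc, (hsem.pow_right n).eq, mul_assoc]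
      have h2 := h1 f
      rw [ih, mul_zero] at h2
      exact (mul_eq_zero.mp h2.symm).resolve_right hv0
  haveI : CharP (AdjoinRoot f) p := charP_of_injective_algebraMap (algebraMap K (AdjoinRoot f)).injective p
  set r := AdjoinRoot.root f with hr
  set P := f.map (algebraMap K (AdjoinRoot f)) with hP
  have hPm : P.Monic := (minpoly.monic hint).map _
  have hroots : ∀ i : ℕ, P.IsRoot (r + i) := by
    intro i
    refine Groth.Agent.BddFin.evalHom_injective w ?_
    rw [hP, Polynomial.eval_map_algebraMap, map_zero, ← Polynomial.aeval_algHom_apply, map_add,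
      map_natCast, hr, Groth.Agent.BddFin.evalHom_root]
    exact hshift i
  let s : Multiset (AdjoinRoot f) := (Multiset.range p).map fun i : ℕ => r + i
  have hsnd : s.Nodup := (Multiset.nodup_range p).map_on fun a ha b hb hab => by
    rw [Multiset.mem_range] at ha hb
    exact CharP.natCast_injOn_Iio (AdjoinRoot f) p ha hb (add_left_cancel hab)
  have hsle : s ≤ P.roots := (Multiset.le_iff_subset hsnd).mpr fun x hx => by
    obtain ⟨i, _, rfl⟩ := Multiset.mem_map.mp hx
    exact (Polynomial.mem_roots hPm.ne_zero).mpr (hroots i)
  have hcard : Multiset.card s = P.natDegree := by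
    rw [hP, Polynomial.natDegree_map, hdeg]; simp [s]
  have hseq : s = P.roots := Multiset.eq_of_le_of_card_le hsle (hcard ▸ Polynomial.card_roots' P)
  have hsplit : P.Splits := Polynomial.splits_iff_card_roots.mpr (by rw [← hseq, hcard])
  have hsep : f.Separable := by
    rw [← Polynomial.separable_map (algebraMap K (AdjoinRoot f))]
    exact (Polynomial.nodup_roots_iff_of_splits hPm.ne_zero hsplit).mp (hseq ▸ hsnd)
  haveI : Polynomial.IsSplittingField K (AdjoinRoot f) f := by
    refine ⟨hsplit, ?_⟩
    rw [eq_top_iff, ← AdjoinRoot.adjoinRoot_eq_top]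
    refine Algebra.adjoin_mono (Set.singleton_subset_iff.2 ?_)
    rw [Polynomial.mem_rootSet_of_ne (minpoly.ne_zero hint)]
    exact AdjoinRoot.aeval_eq f ▸ AdjoinRoot.mk_self
  have hgal : IsGalois K (AdjoinRoot f) := IsGalois.of_separable_splitting_field hsep
  have hfr : Module.finrank K (AdjoinRoot f) = p := by
    rw [(AdjoinRoot.powerBasis (minpoly.ne_zero hint)).finrank, AdjoinRoot.powerBasis_dim, hdeg]
  haveI : Fact (0 < p) := ⟨hp.pos⟩
  haveI : Module.Finite K (AdjoinRoot f) := Module.finite_of_finrank_pos (hfr ▸ hp.pos)
  let e := AlgEquiv.ofInjective _ (Groth.Agent.BddFin.evalHom_injective (K := K) w)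
  let L : Subalgebra K A := (Groth.Agent.BddFin.evalHom (K := K) w).range
  letI : Field L := (e.toRingEquiv.symm.toMulEquiv.isField (Field.toIsField _)).toField
  exact ⟨L, inferInstance, inferInstance, IsGalois.of_algEquiv e, by rw [← e.toLinearEquiv.finrank_eq, hfr],
    ⟨L.val⟩⟩

end Groth.Agent.S15170
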