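import Groth.Statements.S15171
import Mathlib.FieldTheory.PurelyInseparable.PerfectClosure
import Mathlib.FieldTheory.Galois.Basic
import Mathlib.RingTheory.AdjoinRoot
import Mathlib.FieldTheory.Normal.Basic

set_option autoImplicit false
universe u v w
open BddFin

namespace Groth.Agent.S15171

/-- (3) ⇒ (1): let K be a field with char K = p > 0 and A a central division K-algebra with dim_K A = p
^ 2. If some Galois extension L of K with [L : K] = p admits a K-algebra embedding into A, then some
element of A is not separable over K. -/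
theorem result
    (K : Type u) [Field K] (p : ℕ) [Fact p.Prime] [CharP K p]
    (A : Type v) [DivisionRing A] [Algebra K A] [Algebra.IsCentral K A] [FiniteDimensional K A]
    (hA : Module.finrank K A = p ^ 2) (L : Type w) [Field L] [Algebra K L] [IsGalois K L]
    (hL : Module.finrank K L = p) (ι : L →ₐ[K] A) :
    ∃ v : A, ¬ IsSeparable K v := by
  classical
  have hp : p.Prime := Fact.out
  haveI : FiniteDimensional K L := FiniteDimensional.of_finrank_pos (by rw [hL]; exact hp.pos)
  -- a generator
  haveI := IntermediateField.isSimpleOrder_of_finrank_prime K L (hL ▸ hp)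
  obtain ⟨α, hα⟩ : ∃ α : L, α ∉ (⊥ : IntermediateField K L) := by
    by_contra h
    push Not at h
    have h2 : (⊥ : IntermediateField K L) = ⊤ := top_le_iff.1 fun x _ => h x
    exact bot_ne_top h2
  have hgen : IntermediateField.adjoin K {α} = (⊤ : IntermediateField K L) :=
    (IsSimpleOrder.eq_bot_or_eq_top (IntermediateField.adjoin K {α})).resolve_left fun h =>
      hα (h ▸ IntermediateField.mem_adjoin_simple_self K α)
  have hgen' : Algebra.adjoin K {α} = (⊤ : Subalgebra K L) := by
    rw [← IntermediateField.adjoin_simple_toSubalgebra_of_isAlgebraic (Algebra.IsAlgebraic.isAlgebraic α),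
      hgen, IntermediateField.top_toSubalgebra]
  have hnc : ∃ y : A, y * ι α ≠ ι α * y := by
    by_contra h
    push Not at h
    obtain ⟨c, hc⟩ := (Algebra.IsCentral.out (K := K) (D := A))
      (Subalgebra.mem_center_iff.2 h)
    refine hα (IntermediateField.mem_bot.2 ⟨c, ι.injective ?_⟩)
    simpa using hc
  obtain ⟨y, hy⟩ := hnc
  -- right multiplication by `α` as a left `L`-linear map
  letI : Module L A := Module.compHom A ι.toRingHom
  haveI : IsScalarTower K L A := ⟨fun a l v => by
    show ι (a • l) * v = a • (ι l * v); rw [map_smul, smul_mul_assoc]⟩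
  let R : Module.End L A :=
    { toFun := fun v => v * ι α
      map_add' := fun v w => add_mul v w _
      map_smul' := fun l v => mul_assoc (ι l) v (ι α) }
  have hRK : ∀ g : Polynomial K, ∀ v : A, Polynomial.aeval R g v = v * ι (Polynomial.aeval α g) := by
    intro g
    induction g using Polynomial.induction_on' with
    | add f g hf hg => intro v; simp [hf, hg, mul_add]
    | monomial n a =>
      intro v
      have hpow : ∀ n, ∀ v : A, (R ^ n) v = v * ι α ^ n := fun n => by
        induction n with
        | zero => simp
        | succ n ih => intro v; simp [pow_succ, Module.End.mul_apply, ih, R, mul_assoc,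
            (Commute.pow_self (ι α) n).eq]
      simp [Polynomial.aeval_monomial, Module.End.mul_apply, hpow, Module.algebraMap_end_apply,
        Algebra.smul_def, ← mul_assoc, Algebra.commutes a v]
  set P := (minpoly K α).map (algebraMap K L) with hP
  have hPsplit : P.Splits := Normal.splits inferInstance α
  have hPm : P.Monic := (minpoly.monic (Algebra.IsIntegral.isIntegral α)).map _
  have hnd : P.roots.Nodup :=
    Polynomial.nodup_roots (Polynomial.Separable.map (Algebra.IsSeparable.isSeparable K α))
  have hαr : α ∈ P.roots := by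
    rw [Polynomial.mem_roots hPm.ne_zero, Polynomial.IsRoot, hP, Polynomial.eval_map_algebraMap, minpoly.aeval]
  obtain ⟨β, hβα, hβr, x, hx0, hx⟩ : ∃ β : L, β ≠ α ∧ Polynomial.aeval β (minpoly K α) = 0 ∧
      ∃ x : A, x ≠ 0 ∧ x * ι α = ι β * x := by
    by_contra hcon
    push Not at hcon
    have hinj : ∀ m : Multiset L, (∀ β ∈ m, β ∈ P.roots ∧ β ≠ α) → Function.Injective
        (Polynomial.aeval R (m.map fun β => Polynomial.X - Polynomial.C β).prod) := by
      intro m
      induction m using Multiset.induction with
      | empty => intro _ a b h; simpa using h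
      | cons β m ih =>
        intro hm a b h
        rw [Multiset.map_cons, Multiset.prod_cons, mul_comm, map_mul, Module.End.mul_apply,
          Module.End.mul_apply] at h
        have h1 := ih (fun c hc => hm c (Multiset.mem_cons_of_mem hc)) h
        obtain ⟨hb, hbne⟩ := hm β (Multiset.mem_cons_self β m)
        rw [Polynomial.mem_roots hPm.ne_zero, Polynomial.IsRoot, hP, Polynomial.eval_map_algebraMap] at hb
        simp only [map_sub, Polynomial.aeval_X, Polynomial.aeval_C, LinearMap.sub_apply,
          Module.algebraMap_end_apply] at h1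
        by_contra hne
        refine hcon β hbne hb (a - b) (sub_ne_zero.2 hne) ?_
        have h2 : a * ι α - ι β * a = b * ι α - ι β * b := h1
        rw [sub_mul, mul_sub, sub_eq_sub_iff_sub_eq_sub.1 h2]
    have h0 : Polynomial.aeval R P y = 0 := by
      rw [hP, Polynomial.aeval_map_algebraMap, hRK, minpoly.aeval, map_zero, mul_zero]
    rw [hPsplit.eq_prod_roots_of_monic hPm, ← Multiset.cons_erase hαr, Multiset.map_cons,
      Multiset.prod_cons, mul_comm, map_mul, Module.End.mul_apply] at h0
    have h1 := hinj (P.roots.erase α) (fun β hβ => ⟨Multiset.mem_of_mem_erase hβ,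
      ((Multiset.Nodup.mem_erase_iff hnd).1 hβ).1⟩) (h0.trans (map_zero _).symm)
    simp only [map_sub, Polynomial.aeval_X, Polynomial.aeval_C, LinearMap.sub_apply,
      Module.algebraMap_end_apply] at h1
    exact hy (sub_eq_zero.1 h1)
  obtain ⟨τ, hτ⟩ : ∃ τ : Gal(L/K), τ α = β := by
    obtain ⟨g, hg⟩ := minpoly.exists_algEquiv_of_root (Algebra.IsAlgebraic.isAlgebraic α) hβr
    exact ⟨g.symm, by rw [← hg, AlgEquiv.symm_apply_apply]⟩
  have hxl : ∀ l : L, x * ι l = ι (τ l) * x := by
    intro l
    have : l ∈ Algebra.adjoin K {α} := hgen' ▸ trivial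
    induction this using Algebra.adjoin_induction with
    | mem z hz => rw [Set.mem_singleton_iff.1 hz, hx, hτ]
    | algebraMap r => simp [Algebra.commutes]
    | add a b _ _ ha hb => simp [mul_add, add_mul, ha, hb]
    | mul a b _ _ ha hb => rw [map_mul, ← mul_assoc, ha, mul_assoc, hb, ← mul_assoc, map_mul, map_mul]
  have hxn : ∀ n : ℕ, ∀ l : L, x ^ n * ι l = ι ((τ ^ n) l) * x ^ n := by
    intro n
    induction n with
    | zero => simp
    | succ n ih =>
      intro l
      rw [pow_succ x n, mul_assoc, hxl, ← mul_assoc, ih, mul_assoc, pow_succ τ n]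
      rfl
  have hτp : τ ^ p = 1 := by
    rw [← hL, ← IsGalois.card_aut_eq_finrank K L]; exact pow_card_eq_one'
  have hcomm : x ^ p ∈ Subalgebra.centralizer K {ι α} := by
    rw [Subalgebra.mem_centralizer_iff]
    rintro _ rfl
    have := hxn p α
    rw [hτp] at this
    exact this.symm
  refine ⟨x, fun hs => ?_⟩
  have hint : IsIntegral K x := Algebra.IsIntegral.isIntegral x
  haveI : Fact (Irreducible (minpoly K x)) := ⟨minpoly.irreducible hint⟩
  haveI := charP_of_injective_algebraMap (algebraMap K (AdjoinRoot (minpoly K x))).injective p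
  haveI : ExpChar K p := ExpChar.prime hp
  set r := AdjoinRoot.root (minpoly K x)
  have hrs : IsSeparable K r := by
    show (minpoly K r).Separable
    rw [AdjoinRoot.minpoly_root (minpoly.ne_zero hint), (minpoly.monic hint).leadingCoeff]
    simpa using! hs
  have hr : r ∈ (IntermediateField.adjoin K {r ^ p}).toSubalgebra := by
    rw [← IntermediateField.adjoin_simple_eq_adjoin_pow_expChar_of_isSeparable K _ hrs p]
    exact IntermediateField.mem_adjoin_simple_self K r
  haveI : FiniteDimensional K (AdjoinRoot (minpoly K x)) :=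
    (minpoly.monic hint).finite_adjoinRoot
  rw [IntermediateField.adjoin_simple_toSubalgebra_of_isAlgebraic (Algebra.IsAlgebraic.isAlgebraic _),
    Algebra.adjoin_singleton_eq_range_aeval] at hr
  obtain ⟨g, hg : Polynomial.aeval (r ^ p) g = r⟩ := hr
  obtain ⟨q, hq⟩ : minpoly K x ∣ Polynomial.X - g.comp (Polynomial.X ^ p) := by
    rw [← AdjoinRoot.mk_eq_zero, ← AdjoinRoot.aeval_eq, map_sub, Polynomial.aeval_comp]
    simp [r, hg, sub_eq_zero]
  have h2 := congrArg (Polynomial.aeval x) hq
  rw [map_sub, map_mul, minpoly.aeval, zero_mul, Polynomial.aeval_comp, sub_eq_zero] at h2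
  simp only [Polynomial.aeval_X, map_pow] at h2
  have h3 : x ∈ Subalgebra.centralizer K {ι α} := by
    rw [h2]
    exact Algebra.adjoin_le (Set.singleton_subset_iff.2 hcomm)
      (Algebra.adjoin_singleton_eq_range_aeval K (x ^ p) ▸ AlgHom.mem_range_self _ g)
  have h4 := (Subalgebra.mem_centralizer_iff K).1 h3 (ι α) rfl
  rw [hx] at h4
  exact hβα (ι.injective (mul_right_cancel₀ hx0 h4).symm)

end Groth.Agent.S15171
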