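import Groth.Statements.S15172
import Mathlib.Algebra.Polynomial.Roots
import Mathlib.Algebra.Polynomial.Monic
import Mathlib.Algebra.Group.Pointwise.Finset.Basic

set_option autoImplicit false
universe u v
open Polynomial
open BddFin

namespace Groth.Agent.S15172

/-- Let L be a field of characteristic p > 0 and s a finite subset of L containing 0 and closed under
addition (a finite additive subgroup). Then the polynomial f = ∏_{a ∈ s} (X - a) is additive: f (x +
y) = f x + f y for all x, y in any commutative L-algebra (equivalently, as an identity of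
polynomials in two variables). -/
theorem result
    (L : Type u) [Field L] (p : ℕ) [Fact p.Prime] [CharP L p] (s : Finset L) (h0 : (0 : L) ∈ s)
    (hadd : ∀ a ∈ s, ∀ b ∈ s, a + b ∈ s) (R : Type v) [CommRing R] [Algebra L R] (x y : R) :
    aeval (x + y) (∏ a ∈ s, (X - C a)) = aeval x (∏ a ∈ s, (X - C a)) + aeval y (∏ a ∈ s, (X - C a)) := by
  classical
  set f := (∏ a ∈ s, (X - C a)) with hf
  suffices h : ((f.map (C : L →+* L[X])).comp (X + C X)) = f.map C + C f by
    have := congrArg (fun q : L[X][X] => eval₂ (aeval y).toRingHom x q) h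
    simpa [eval₂_comp, eval₂_map, eval₂_add, aeval_def, Function.comp_def, AlgHom.comp_algebraMap,
      show (((aeval y : L[X] →ₐ[L] R) : L[X] →+* R).comp (C : L →+* L[X])) = algebraMap L R from RingHom.ext fun r => aeval_C y r] using this
  rcases s.eq_empty_or_nonempty with rfl | hne
  · simp at h0
  have hm : (f.map (C : L →+* L[X])).Monic := (monic_prod_X_sub_C _ _).map _
  have hdeg : (f.map (C : L →+* L[X])).natDegree = s.card := by
    rw [natDegree_map_eq_of_injective C_injective, hf, natDegree_finsetProd_X_sub_C_eq_card]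
  have hm' : ((f.map (C : L →+* L[X])).comp (X + C X)).Monic := hm.comp_X_add_C _
  have hdeg' : ((f.map (C : L →+* L[X])).comp (X + C X)).natDegree = s.card := by
    rw [natDegree_comp, natDegree_X_add_C, mul_one, hdeg]
  have hpos : 0 < s.card := hne.card_pos
  have hlt : (((f.map (C : L →+* L[X])).comp (X + C X)) - (f.map C + C f)).natDegree < s.card := by
    rw [← sub_sub]
    refine (natDegree_sub_le _ _).trans_lt (max_lt ?_ (by simpa using hpos))
    rw [Nat.lt_iff_add_one_le]
    by_cases h : (f.map (C : L →+* L[X])).comp (X + C X) - f.map C = 0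
    · rw [h, natDegree_zero]; omega
    rw [Nat.add_one_le_iff, natDegree_lt_iff_degree_lt h]
    refine (degree_sub_lt ?_ hm'.ne_zero ?_).trans_eq ?_
    · rw [degree_eq_natDegree hm'.ne_zero, degree_eq_natDegree hm.ne_zero, hdeg', hdeg]
    · rw [hm'.leadingCoeff, hm.leadingCoeff]
    · rw [degree_eq_natDegree hm'.ne_zero, hdeg']
  refine sub_eq_zero.1 (eq_zero_of_natDegree_lt_card_of_eval_eq_zero' _ (s.map ⟨C, C_injective⟩) ?_
    (by rwa [Finset.card_map]))
  intro z hz
  obtain ⟨a, ha, rfl⟩ := Finset.mem_map.1 hz
  simp only [Function.Embedding.coeFn_mk, eval_sub, eval_add, eval_comp, eval_X, eval_C,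
    eval_map_apply]
  have h1 : f.eval a = 0 := by rw [hf, eval_prod]; exact Finset.prod_eq_zero ha (by simp)
  have himg : s.image (· + a) = s := Finset.eq_of_subset_of_card_le
    (fun b hb => by obtain ⟨c, hc, rfl⟩ := Finset.mem_image.1 hb; exact hadd c hc a ha)
    (by rw [Finset.card_image_of_injective _ (add_left_injective a)])
  have h2 : (f.map (C : L →+* L[X])).eval (C a + X) = f := by
    rw [hf, Polynomial.map_prod, eval_prod]
    conv_lhs => rw [← himg]
    rw [Finset.prod_image fun _ _ _ _ h => add_left_injective a h]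
    refine Finset.prod_congr rfl fun c _ => ?_
    simp only [Polynomial.map_sub, Polynomial.map_add, map_X, map_C, eval_sub, eval_add, eval_X, eval_C, map_add]
    ring
  rw [h2, h1, map_zero, zero_add, sub_self]

end Groth.Agent.S15172
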