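import Groth.Statements.S15173
import Mathlib

set_option autoImplicit false
universe u v
open Polynomial
open BddFin

set_option backward.isDefEq.respectTransparency false
set_option backward.isDefEq.respectTransparency.types false
set_option linter.style.haveILetI false
set_option linter.deprecated false

namespace Groth.Agent.S15173

/-- Let K be a field of characteristic p > 0 such that K contains all roots of unity (for every n ≥ 1
the polynomial X^n − 1 splits into linear factors over K), and A a finite-dimensional central
division algebra over K. If A contains an element w not in K with w ^ p in K, then the quotient of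
the unit group of A by that of K has unbounded finite subgroups: for every N there is a subgroup H
of the units of A containing the units of K as a subgroup of finite index greater than N. (The
published statement assumes only that some element of A is inseparable over K and passes at once to
a purely inseparable subfield of degree p; this row assumes an element generating such a subfield
directly, which is what the rest of the printed argument uses.) -/
theorem result
    (K : Type u) [Field K] (p : ℕ) [Fact p.Prime] [CharP K p] (hK : ∀ n : ℕ, 0 < n → (X ^ n - 1 : K[X]).Splits)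
    (A : Type v) [DivisionRing A] [Algebra K A] [Algebra.IsCentral K A] [FiniteDimensional K A]
    (w : A) (hw : w ^ p ∈ (algebraMap K A).range) (hwK : w ∉ (algebraMap K A).range) (N : ℕ) :
    ∃ H : Subgroup Aˣ, (Units.map (algebraMap K A : K →* A)).range ≤ H ∧
      N < ((Units.map (algebraMap K A : K →* A)).range).relIndex H := by
  classical
  have hp : p.Prime := Fact.out
  let n := p * (N + 1) + 1
  have hnK : (n : K) ≠ 0 := by simp [n]
  have hsep : (X ^ n - 1 : K[X]).Separable := by
    simpa using separable_X_pow_sub_C (1 : K) hnK one_ne_zero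
  have hcard : (X ^ n - 1 : K[X]).roots.toFinset.card = n := by
    rw [Multiset.toFinset_card_of_nodup (nodup_roots hsep), ← (hK n (Nat.succ_pos _)).natDegree_eq_card_roots]
    simpa using natDegree_X_pow_sub_C (n := n) (r := (1 : K))
  have hNn : N + 1 ≤ (X ^ n - 1 : K[X]).roots.toFinset.card := by
    rw [hcard]
    have := Nat.le_mul_of_pos_left (N + 1) hp.pos
    omega
  obtain ⟨Z, -, hZ⟩ := Finset.exists_subset_card_eq hNn
  let L := Algebra.adjoin K ({w} : Set A)
  letI : CommRing L := Algebra.adjoinCommRingOfComm K (fun a ha b hb => by rw [Set.mem_singleton_iff.1 ha, Set.mem_singleton_iff.1 hb])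
  let wL : L := ⟨w, Algebra.self_mem_adjoin_singleton K w⟩
  haveI : Nontrivial A := inferInstance
  haveI : Nontrivial L := ⟨⟨0, 1, fun h => zero_ne_one (α := A) (congrArg Subtype.val h)⟩⟩
  have hinjA : Function.Injective (algebraMap K A) := (algebraMap K A).injective
  haveI : CharP L p := charP_of_injective_algebraMap (algebraMap K L).injective p
  obtain ⟨a₀, ha₀⟩ := hw
  have hpow : ∀ c : K, (wL + algebraMap K L c) ^ p = algebraMap K L (a₀ + c ^ p) := fun c => by
    rw [add_pow_char, map_add, map_pow]
    congr 1
    exact Subtype.ext (show w ^ p = algebraMap K A a₀ from ha₀.symm)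
  have hne : ∀ c : K, a₀ + c ^ p ≠ 0 := fun c h => by
    have h1 : (w + algebraMap K A c) ^ p = 0 := by
      have := congrArg Subtype.val (hpow c)
      rw [h, map_zero] at this
      exact this
    exact hwK ⟨-c, by rw [map_neg, eq_neg_of_add_eq_zero_left (pow_eq_zero_iff (hp.ne_zero) |>.1 h1)]⟩
  have hu : ∀ c : K, IsUnit (wL + algebraMap K L c) := fun c =>
    (isUnit_pow_iff hp.ne_zero).1 (hpow c ▸ (isUnit_iff_ne_zero.2 (hne c)).map (algebraMap K L))
  let u : K → Lˣ := fun c => (hu c).unit
  let K₀ : Subgroup Lˣ := (Units.map (algebraMap K L : K →* L)).range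
  let π : Lˣ →* Lˣ ⧸ K₀ := QuotientGroup.mk' K₀
  let T : Subgroup (Lˣ ⧸ K₀) := Subgroup.closure ((Z.image fun c => π (u c) : Finset _) : Set (Lˣ ⧸ K₀))
  have htor : ∀ t ∈ T, t ^ p = 1 := fun t ht => by
    induction ht using Subgroup.closure_induction with
    | mem x hx =>
      obtain ⟨c, -, rfl⟩ := Finset.mem_image.1 (Finset.mem_coe.1 hx)
      rw [← map_pow]
      refine (QuotientGroup.eq_one_iff _).2 ⟨Units.mk0 _ (hne c), Units.ext ?_⟩
      show algebraMap K L (a₀ + c ^ p) = (wL + algebraMap K L c) ^ p
      exact (hpow c).symm
    | one => simp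
    | mul x y _ _ hx hy =>
      obtain ⟨x, rfl⟩ := QuotientGroup.mk'_surjective K₀ x
      obtain ⟨y, rfl⟩ := QuotientGroup.mk'_surjective K₀ y
      rw [← map_mul, ← map_pow]
      rw [← map_pow] at hx hy
      rw [show (x * y) ^ p = x ^ p * y ^ p from mul_pow x y p, map_mul, hx, hy]
      exact @one_mul _ (Monoid.toMulOneClass) _
    | inv x _ hx => rw [inv_pow, hx, inv_one]
  haveI : Group.FG T := (Group.fg_iff_subgroup_fg T).2 ⟨_, rfl⟩
  haveI : Finite T := CommGroup.finite_of_fg_isMulTorsion T fun t =>
    isOfFinOrder_iff_pow_eq_one.2 ⟨p, hp.pos, Subtype.ext (htor t.1 t.2)⟩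
  let H₀ : Subgroup Lˣ := T.comap π
  let ι : Lˣ →* Aˣ := Units.map (L.val : L →* A)
  have hι : Function.Injective ι := Units.map_injective Subtype.val_injective
  have hK₀ : (Units.map (algebraMap K A : K →* A)).range = K₀.map ι := by
    rw [MonoidHom.map_range]
    exact congrArg MonoidHom.range (MonoidHom.ext fun x => Units.ext rfl)
  refine ⟨H₀.map ι, ?_, ?_⟩
  · rw [hK₀]
    refine Subgroup.map_mono fun x hx => ?_
    show π x ∈ T
    rw [show π x = 1 from (QuotientGroup.eq_one_iff x).2 hx]
    exact T.one_mem
  · rw [hK₀, Subgroup.relIndex_map_map_of_injective _ _ hι]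
    let g : H₀ →* Lˣ ⧸ K₀ := π.comp H₀.subtype
    have hg : K₀.subgroupOf H₀ = g.ker := by
      ext x
      rw [Subgroup.mem_subgroupOf, MonoidHom.mem_ker]
      exact (QuotientGroup.eq_one_iff _).symm
    have hr : g.range = T := by
      rw [MonoidHom.range_comp, Subgroup.range_subtype]
      exact Subgroup.map_comap_eq_self_of_surjective (QuotientGroup.mk'_surjective K₀) T
    rw [Subgroup.relIndex, hg, Subgroup.index_ker, hr]
    let v : Z → T := fun c => ⟨π (u c.1), Subgroup.subset_closure (Finset.mem_image_of_mem _ c.2)⟩
    have hv : Function.Injective v := by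
      rintro ⟨c, hc⟩ ⟨c', hc'⟩ h
      obtain ⟨l, hl⟩ := QuotientGroup.eq.1 (congrArg Subtype.val h)
      have h1 : ((u c : L) : A) * algebraMap K A l = (u c' : L) := by
        have := congrArg (fun x : Lˣ => ((u c * x : Lˣ) : L)) hl
        simp only [mul_inv_cancel_left, Units.val_mul] at this
        exact congrArg Subtype.val this
      replace h1 : (w + algebraMap K A c) * algebraMap K A l = w + algebraMap K A c' := h1
      rw [add_mul, ← map_mul, ← Algebra.commutes, ← Algebra.smul_def] at h1
      have h2 : ((l : K) - 1) • w = algebraMap K A (c' - c * l) := by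
        rw [sub_smul, one_smul, map_sub]
        exact sub_eq_sub_iff_add_eq_add.2 (h1.trans (add_comm _ _))
      by_cases hl1 : (l : K) = 1
      · rw [hl1, sub_self, zero_smul, mul_one] at h2
        exact Subtype.ext (sub_eq_zero.1 (hinjA (h2.symm.trans (map_zero _).symm))).symm
      · exact absurd ⟨((l : K) - 1)⁻¹ * (c' - c * l), by
          rw [map_mul, ← Algebra.smul_def, ← h2, smul_smul, inv_mul_cancel₀ (sub_ne_zero.2 hl1), one_smul]⟩ hwK
    have h := Nat.card_le_card_of_injective v hv
    rw [Nat.card_eq_fintype_card, Fintype.card_coe, hZ] at h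
    omega

end Groth.Agent.S15173
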