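import Groth.Statements.S15174
import Groth.Agent.TorusChar.Main

set_option autoImplicit false
set_option backward.isDefEq.respectTransparency false
set_option linter.style.haveILetI false
universe u
open CategoryTheory MonoidalCategory CartesianMonoidalCategory MonObj GrpObj AlgebraicGeometry
open BddFin

namespace Groth.Agent.S15174

/-- Let n and d be positive integers with d larger than the order of every finite subgroup of GL_n(ℤ);
let K be a field whose characteristic does not divide d and which contains a primitive d-th root of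
unity; let T be a K-group scheme that is an n-dimensional torus (it becomes isomorphic, as a group
scheme, to the split torus D(ℤ^n) = 𝔾_m^n after some field extension L of K). Write T(K) for the
group of sections Spec K → T. If T(K) has an element of order d, then some homomorphism 𝔾_m → T of
K-group schemes is a monomorphism (T has a subtorus isomorphic to 𝔾_m). -/
theorem result
    (n d : ℕ) (hn : 0 < n) (hd : 0 < d)
    (hΥ : ∀ H : Subgroup (Matrix.GeneralLinearGroup (Fin n) ℤ), Finite H → Nat.card H < d)
    (K : Type u) [Field K] (hdK : (d : K) ≠ 0) (ζ : K) (hζ : IsPrimitiveRoot ζ d)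
    (T : Over (Spec (CommRingCat.of K))) [GrpObj T]
    (hT : ∃ (L : Type u) (_ : Field L) (_ : Algebra K L),
      Red.IsSplitTorusWith (Fin n → ℤ) (Red.bc (Spec.map (CommRingCat.ofHom (algebraMap K L))) T))
    (x : 𝟙_ (Over (Spec (CommRingCat.of K))) ⟶ T) (hx : orderOf x = d) :
    ∃ i : Red.Gm (Spec (CommRingCat.of K)) ⟶ T, IsMonHom i ∧ Mono i := by
  -- proof
  classical
  by_contra hno
  rcases Groth.Agent.TorusChar.exists_data T hT with ⟨j, hj⟩ | ⟨N, _, _, H, hH, Θ, hΘ, hkey⟩
  · exact hno ⟨j, hj⟩
  haveI := hH
  have hxd : orderOf (Θ x) = d := by rw [orderOf_injective Θ hΘ, hx]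
  haveI : NeZero d := ⟨hd.ne'⟩
  have hval : ∀ v, (Θ x v : N) ∈ (algebraMap K N).range := by
    intro v
    have h1 : (Θ x v : N) ^ d = 1 := by
      rw [← Units.val_pow_eq_pow_val, ← MonoidHom.pow_apply, ← hxd, pow_orderOf_eq_one,
        MonoidHom.one_apply, Units.val_one]
    obtain ⟨i, -, hi⟩ := (hζ.map_of_injective (algebraMap K N).injective).eq_pow_of_pow_eq_one h1
    exact ⟨ζ ^ i, by rw [map_pow, hi]⟩
  have h2 : orderOf (Θ x) ∣ Nat.card H := orderOf_dvd_of_pow_eq_one (hkey x hval)
  have h3 := Nat.le_of_dvd Nat.card_pos h2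
  rw [hxd] at h3
  exact absurd (hΥ H hH) (not_lt.2 h3)

end Groth.Agent.S15174
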