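import Groth.Statements.S15175
import Groth.Agent.TorusChar.Main

set_option autoImplicit false
set_option backward.isDefEq.respectTransparency false
set_option linter.style.haveILetI false
universe u
open CategoryTheory MonoidalCategory CartesianMonoidalCategory MonObj GrpObj AlgebraicGeometry
open Polynomial
open BddFin

namespace Groth.Agent.S15175

/-- Let K be a field such that K contains all roots of unity (for every n ≥ 1 the polynomial X^n − 1
splits into linear factors over K), and T a K-group scheme that is an n-dimensional torus (it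
becomes isomorphic, as a group scheme, to the split torus D(ℤ^n) = 𝔾_m^n after some field extension
L of K) and is anisotropic (no homomorphism 𝔾_m → T of K-group schemes is a monomorphism, i.e. T
contains no subtorus isomorphic to 𝔾_m); T(K) is the group of sections Spec K → T. Then a torsion
element of T(K) has order invertible in K (prime to the characteristic) and at most |H| for some
finite subgroup H of GL_n(ℤ) (that is, at most Υ(n), the largest such order), and a finite subgroup
of T(K) has at most |H| ^ n elements for some finite subgroup H of GL_n(ℤ) (at most Υ(n) ^ n). (The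
published corollary also records that a finite subgroup of T(K) has order prime to the
characteristic; that follows from the first clause applied to its elements of prime order and is not
restated.) -/
theorem result
    (K : Type u) [Field K] (hK : ∀ n : ℕ, 0 < n → (X ^ n - 1 : K[X]).Splits) (n : ℕ)
    (T : Over (Spec (CommRingCat.of K))) [GrpObj T]
    (hT : ∃ (L : Type u) (_ : Field L) (_ : Algebra K L),
      Red.IsSplitTorusWith (Fin n → ℤ) (Red.bc (Spec.map (CommRingCat.ofHom (algebraMap K L))) T))
    (haniso : ∀ i : Red.Gm (Spec (CommRingCat.of K)) ⟶ T, IsMonHom i → Mono i → False) :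
    (∀ x : 𝟙_ (Over (Spec (CommRingCat.of K))) ⟶ T, IsOfFinOrder x →
        ((orderOf x : ℕ) : K) ≠ 0 ∧
        ∃ H : Subgroup (Matrix.GeneralLinearGroup (Fin n) ℤ), Finite H ∧ orderOf x ≤ Nat.card H) ∧
    (∀ G : Subgroup (𝟙_ (Over (Spec (CommRingCat.of K))) ⟶ T), Finite G →
        ∃ H : Subgroup (Matrix.GeneralLinearGroup (Fin n) ℤ), Finite H ∧ Nat.card G ≤ Nat.card H ^ n) := by
  -- proof
  classical
  rcases Groth.Agent.TorusChar.exists_data T hT with ⟨j, hj, hj'⟩ | ⟨N, _, _, H, hH, Θ, hΘ, hkey⟩
  · exact (haniso j hj hj').elim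
  haveI := hH
  have hpow : ∀ (x : 𝟙_ (Over (Spec (CommRingCat.of K))) ⟶ T), IsOfFinOrder x → x ^ Nat.card H = 1 := by
    intro x hx
    refine hΘ ?_
    rw [map_pow, map_one]
    refine hkey x fun v => ?_
    have h1 : (Θ x v : N) ^ orderOf x = 1 := by
      rw [← Units.val_pow_eq_pow_val, ← MonoidHom.pow_apply, ← map_pow, pow_orderOf_eq_one, map_one,
        MonoidHom.one_apply, Units.val_one]
    have hne : ((X : K[X]) ^ orderOf x - 1) ≠ 0 := Polynomial.X_pow_sub_C_ne_zero (IsOfFinOrder.orderOf_pos hx) 1
    refine (hK _ (IsOfFinOrder.orderOf_pos hx)).mem_range_of_isRoot hne ?_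
    simp [Polynomial.IsRoot, h1]
  refine ⟨fun x hx => ⟨fun h0 => ?_, H, inferInstance,
    Nat.le_of_dvd Nat.card_pos (orderOf_dvd_of_pow_eq_one (hpow x hx))⟩, fun G hG => ?_⟩
  · -- the order is prime to the characteristic
    obtain ⟨p, hp⟩ := CharP.exists K
    have hp0 : p ≠ 0 := by
      rintro rfl
      haveI := CharP.charP_to_charZero K
      exact (IsOfFinOrder.orderOf_pos hx).ne' (Nat.cast_eq_zero.1 h0)
    haveI : Fact p.Prime := ⟨(CharP.char_is_prime_or_zero K p).resolve_right hp0⟩
    haveI : CharP N p := charP_of_injective_algebraMap (algebraMap K N).injective p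
    obtain ⟨b, hb⟩ := (CharP.cast_eq_zero_iff K p (orderOf x)).1 h0
    have hb1 : x ^ b = 1 := by
      refine hΘ (MonoidHom.ext fun v => Units.ext ?_)
      rw [map_pow, map_one, MonoidHom.pow_apply, MonoidHom.one_apply, Units.val_one, Units.val_pow_eq_pow_val]
      have h1 : ((Θ x v : N) ^ b) ^ p = 1 := by
        rw [← pow_mul, mul_comm b p, ← hb, ← Units.val_pow_eq_pow_val, ← MonoidHom.pow_apply, ← map_pow,
          pow_orderOf_eq_one, map_one, MonoidHom.one_apply, Units.val_one]
      have h2 : ((Θ x v : N) ^ b - 1) ^ p = 0 := by rw [sub_pow_char, h1, one_pow, sub_self]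
      exact sub_eq_zero.1 (eq_zero_of_pow_eq_zero h2)
    have hpos := IsOfFinOrder.orderOf_pos hx
    have hb0 : 0 < b := Nat.pos_of_ne_zero fun h => hpos.ne' (by rw [hb, h, mul_zero])
    have h3 := Nat.le_of_dvd hb0 (orderOf_dvd_of_pow_eq_one hb1)
    rw [hb] at h3
    exact absurd h3 (not_le.2 (lt_mul_left hb0 (Fact.out : p.Prime).one_lt))
  · -- finite subgroups
    haveI := hG
    refine ⟨H, inferInstance, ?_⟩
    haveI : NeZero (Nat.card H) := ⟨Nat.card_pos.ne'⟩
    let F : G → (Fin n → rootsOfUnity (Nat.card H) N) := fun y i =>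
      ⟨Θ y.1 (Multiplicative.ofAdd (Pi.single i 1)), by
        rw [mem_rootsOfUnity, ← MonoidHom.pow_apply, ← map_pow,
          hpow y.1 (G.subtype.isOfFinOrder (isOfFinOrder_of_finite y)), map_one]
        rfl⟩
    have hF : Function.Injective F := fun a b hab => by
      refine Subtype.ext (hΘ (MonoidHom.ext fun v => ?_))
      obtain ⟨v, rfl⟩ := Multiplicative.ofAdd.surjective v
      have hv : v = ∑ i, v i • (Pi.single i (1 : ℤ) : Fin n → ℤ) := by
        simp [← Pi.single_smul, Finset.univ_sum_single]
      rw [hv, ofAdd_sum, map_prod, map_prod]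
      refine Finset.prod_congr rfl fun i _ => ?_
      rw [ofAdd_zsmul, map_zpow, map_zpow]
      exact congrArg (· ^ v i) (congrArg Subtype.val (congrFun hab i))
    refine (Nat.card_le_card_of_injective F hF).trans ?_
    rw [Nat.card_fun, Nat.card_eq_fintype_card (α := Fin n), Fintype.card_fin]
    exact Nat.pow_le_pow_left (card_rootsOfUnity N _) n

end Groth.Agent.S15175
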