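import Groth.Statements.S15176
import Groth.Agent.TorusChar.RankTwo

set_option autoImplicit false
set_option backward.isDefEq.respectTransparency false
set_option linter.style.haveILetI false
universe u
open CategoryTheory MonoidalCategory CartesianMonoidalCategory MonObj GrpObj AlgebraicGeometry
open Polynomial
open BddFin

namespace Groth.Agent.S15176

/-- Let K be a field such that K contains all roots of unity (for every n ≥ 1 the polynomial X^n − 1
splits into linear factors over K), and T a K-group scheme that is a 2-dimensional torus (it becomes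
isomorphic, as a group scheme, to the split torus D(ℤ^2) = 𝔾_m^2 after some field extension L of K)
and is anisotropic (no homomorphism 𝔾_m → T of K-group schemes is a monomorphism, i.e. T contains no
subtorus isomorphic to 𝔾_m); T(K) is the group of sections Spec K → T. Then torsion elements of T(K)
have order ≤ 6, and finite subgroups of T(K) have at most 36 elements. -/
theorem result
    (K : Type u) [Field K] (hK : ∀ n : ℕ, 0 < n → (X ^ n - 1 : K[X]).Splits)
    (T : Over (Spec (CommRingCat.of K))) [GrpObj T]
    (hT : ∃ (L : Type u) (_ : Field L) (_ : Algebra K L),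
      Red.IsSplitTorusWith (Fin 2 → ℤ) (Red.bc (Spec.map (CommRingCat.ofHom (algebraMap K L))) T))
    (haniso : ∀ i : Red.Gm (Spec (CommRingCat.of K)) ⟶ T, IsMonHom i → Mono i → False) :
    (∀ x : 𝟙_ (Over (Spec (CommRingCat.of K))) ⟶ T, IsOfFinOrder x → orderOf x ≤ 6) ∧
    (∀ G : Subgroup (𝟙_ (Over (Spec (CommRingCat.of K))) ⟶ T), Finite G → Nat.card G ≤ 36) := by
  classical
  rcases Groth.Agent.TorusChar.exists_data_two T hT with ⟨j, hj, hj'⟩ | ⟨N, _, _, D, hD1, hD4, Θ, hΘ, hkey⟩
  · exact (haniso j hj hj').elim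
  have hpow : ∀ (x : 𝟙_ (Over (Spec (CommRingCat.of K))) ⟶ T), IsOfFinOrder x → x ^ D = 1 := by
    intro x hx
    refine hΘ ?_
    rw [map_pow, map_one]
    refine hkey x fun v => ?_
    have h1 : (Θ x v : N) ^ orderOf x = 1 := by
      rw [← Units.val_pow_eq_pow_val, ← MonoidHom.pow_apply, ← map_pow, pow_orderOf_eq_one, map_one,
        MonoidHom.one_apply, Units.val_one]
    have hne : ((X : K[X]) ^ orderOf x - 1) ≠ 0 := Polynomial.X_pow_sub_C_ne_zero (IsOfFinOrder.orderOf_pos hx) 1
    refine (hK _ (IsOfFinOrder.orderOf_pos hx)).mem_range_of_isRoot hne ?_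
    simp [Polynomial.IsRoot, h1]
  refine ⟨fun x hx => ?_, fun G hG => ?_⟩
  · have h1 := Nat.le_of_dvd hD1 (orderOf_dvd_of_pow_eq_one (hpow x hx))
    omega
  · haveI := hG
    haveI : NeZero D := ⟨by omega⟩
    let F : G → (Fin 2 → rootsOfUnity D N) := fun y i =>
      ⟨Θ y.1 (Multiplicative.ofAdd (Pi.single i 1)), by
        rw [mem_rootsOfUnity, ← MonoidHom.pow_apply, ← map_pow,
          hpow y.1 (G.subtype.isOfFinOrder (isOfFinOrder_of_finite y)), map_one]
        rfl⟩
    have hF : Function.Injective F := fun a b hab => by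
      refine Subtype.ext (hΘ (MonoidHom.ext fun v => ?_))
      obtain ⟨v, rfl⟩ := Multiplicative.ofAdd.surjective v
      have hv : v = ∑ i, v i • (Pi.single i (1 : ℤ) : Fin 2 → ℤ) := by
        simp [← Pi.single_smul, Finset.univ_sum_single]
      rw [hv, ofAdd_sum, map_prod, map_prod]
      refine Finset.prod_congr rfl fun i _ => ?_
      rw [ofAdd_zsmul, map_zpow, map_zpow]
      exact congrArg (· ^ v i) (congrArg Subtype.val (congrFun hab i))
    refine (Nat.card_le_card_of_injective F hF).trans ?_
    rw [Nat.card_fun, Nat.card_eq_fintype_card (α := Fin 2), Fintype.card_fin]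
    calc Nat.card (rootsOfUnity D N) ^ 2 ≤ 4 ^ 2 :=
          Nat.pow_le_pow_left ((card_rootsOfUnity N D).trans hD4) 2
      _ ≤ 36 := by norm_num

end Groth.Agent.S15176
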