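import Groth.Statements.S15177
import Groth.Agent.UnipMult.Basic

set_option autoImplicit false
universe u v
open BddFin

namespace Groth.Agent.S15177

/-- Let K be a field and Γ a unipotent linear algebraic group over K, given here by its coordinate Hopf
algebra A (a finitely generated, formally smooth commutative Hopf algebra over K all of whose
non-zero finite-dimensional comodules have a non-zero fixed vector). Then the group Γ(K) of K-points
(K-algebra maps A → K under convolution) has no non-trivial element of finite order coprime to the
characteristic of K: an element of finite order whose order is non-zero in K is the identity. -/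
theorem result
    (K : Type u) [Field K] (A : Type v) [CommRing A] [HopfAlgebra K A] [Algebra.FiniteType K A]
    [Algebra.FormallySmooth K A] (hU : HopfRep.IsUnipotent K A)
    (g : WithConv (A →ₐ[K] K)) (hg : IsOfFinOrder g) (hcop : ((orderOf g : ℕ) : K) ≠ 0) : g = 1 := by
  classical
  set N := orderOf g with hN
  let φ : A →ₗ[K] (ℕ → K) := LinearMap.pi fun i => (g ^ i).ofConv.toLinearMap
  have hφ : ∀ u i, φ u i = (g ^ i) u := fun u i => rfl
  let μ : (ℕ → K) →ₗ[K] (ℕ → K) →ₗ[K] (ℕ × ℕ → K) :=
    LinearMap.mk₂ K (fun a b p => a p.1 * b p.2)
      (fun a a' b => funext fun p => add_mul _ _ _) (fun c a b => funext fun p => mul_assoc _ _ _)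
      (fun a b b' => funext fun p => mul_add _ _ _) (fun c a b => funext fun p => mul_left_comm _ _ _)
  let D : (ℕ → K) →ₗ[K] (ℕ × ℕ → K) := LinearMap.funLeft K K fun p => p.1 + p.2
  have hD : ∀ u, D (φ u) = TensorProduct.lift (μ.compl₁₂ φ φ) (CoalgebraStruct.comul (R := K) u) := by
    intro u
    funext p
    show (g ^ (p.1 + p.2)) u = _
    rw [pow_add, AlgHom.convMul_apply]
    generalize CoalgebraStruct.comul (R := K) u = z
    induction z using TensorProduct.induction_on with
    | zero => simp
    | add a b ha hb => simp only [map_add, Pi.add_apply, ha, hb]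
    | tmul a b => simp [μ, hφ]
  have h1 : φ 1 = 1 := funext fun i => map_one (g ^ i).ofConv
  have key := Groth.Agent.UnipMult.eq_counit hU (1 : ℕ → K) φ h1 μ D hD
    (funext fun p => by simp [μ, D]) (fun u c h => ?_)
  · apply WithConv.ofConv_injective
    ext a
    show g a = (1 : WithConv (A →ₐ[K] K)) a
    have := congrFun (key a) 1
    rw [hφ, pow_one] at this
    rw [this, AlgHom.convOne_apply]
    simp
  · set f := φ u - c • (1 : ℕ → K) with hf
    have hadd : ∀ i j, f (i + j) = f i + f j := fun i j => by
      have := congrFun h (i, j)
      simpa [μ, D] using this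
    have h0 : f 0 = 0 := by simpa using hadd 0 0
    have hlin : ∀ i : ℕ, f i = (i : K) * f 1 := by
      intro i
      induction i with
      | zero => simp [h0]
      | succ i ih => rw [hadd, ih, Nat.cast_succ]; ring
    have hper : f N = f 0 := by
      simp only [hf, Pi.sub_apply, hφ, Pi.smul_apply, Pi.one_apply]
      rw [hN, pow_orderOf_eq_one, pow_zero]
    rw [hlin, h0, mul_eq_zero] at hper
    have h1' : f 1 = 0 := hper.resolve_left hcop
    have : f = 0 := funext fun i => by rw [hlin, h1', mul_zero]; rfl
    exact sub_eq_zero.1 this

end Groth.Agent.S15177
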