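import Groth.Statements.S15183
import Mathlib

set_option autoImplicit false
universe u v
open Polynomial
open BddFin

namespace Groth.Agent.S15183

/-- Let K be a field such that K contains all roots of unity (for every n ≥ 1 the polynomial X^n − 1
splits into linear factors over K), and A a finite-dimensional central simple K-algebra which is not
a division algebra (some non-zero element is not a unit). Then the quotient of the unit group of A
by that of K has elements of every finite order invertible in K: for every d ≥ 1 with d ≠ 0 in K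
there is a unit x of A with x ^ d in K and x ^ k not in K for 0 < k < d. (The published assertion is
phrased for the automorphism group of the Severi–Brauer variety of A, which is isomorphic to the
units of A modulo those of K; this row is the algebra-side statement its proof establishes.) -/
theorem result
    (K : Type u) [Field K] (hK : ∀ n : ℕ, 0 < n → (X ^ n - 1 : K[X]).Splits)
    (A : Type v) [Ring A] [Algebra K A] [Algebra.IsCentral K A] [IsSimpleRing A] [FiniteDimensional K A]
    (hA : ∃ y : A, y ≠ 0 ∧ ¬ IsUnit y) (d : ℕ) (hd : 0 < d) (hdK : (d : K) ≠ 0) :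
    ∃ x : A, IsUnit x ∧ x ^ d ∈ (algebraMap K A).range ∧
      ∀ k : ℕ, 0 < k → k < d → x ^ k ∉ (algebraMap K A).range := by
  classical
  open Polynomial in
  obtain ⟨y, hy0, hy⟩ := hA
  haveI : IsArtinianRing A := IsArtinianRing.of_finite K A
  haveI : IsSemisimpleRing A := IsSimpleRing.isSemisimpleRing_iff_isArtinianRing.2 inferInstance
  obtain ⟨e, he, hspan⟩ := IsSemisimpleRing.ideal_eq_span_idempotent (Ideal.span ({y} : Set A))
  have he0 : e ≠ 0 := fun h => by
    rw [h, Ideal.span_singleton_eq_bot.2 rfl] at hspan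
    exact hy0 (Ideal.span_singleton_eq_bot.1 hspan)
  have he1 : e ≠ 1 := fun h => by
    rw [h, Ideal.span_singleton_one, Ideal.eq_top_iff_one, Ideal.mem_span_singleton'] at hspan
    obtain ⟨z, hz⟩ := hspan
    exact hy (IsUnit.of_mul_eq_one_right z hz)
  have he' : (1 - e) * (1 - e) = 1 - e := (IsIdempotentElem.one_sub he).eq
  have hea : e * (1 - e) = 0 := by rw [mul_sub, mul_one, he.eq, sub_self]
  have heb : (1 - e) * e = 0 := by rw [sub_mul, one_mul, he.eq, sub_self]
  obtain ⟨ζ, hζ⟩ : ∃ ζ : K, IsPrimitiveRoot ζ d := by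
    haveI : NeZero (d : K) := ⟨hdK⟩
    have hspl := hK d hd
    have hdeg : (X ^ d - 1 : K[X]) ≠ 0 := by
      rw [← Polynomial.C_1]; exact Polynomial.X_pow_sub_C_ne_zero hd 1
    have hdvd : (Polynomial.cyclotomic d K) ∣ (X ^ d - 1) := Polynomial.cyclotomic.dvd_X_pow_sub_one d K
    obtain ⟨ζ, hζ⟩ := (hspl.of_dvd hdeg hdvd).exists_eval_eq_zero (by
      rw [Polynomial.degree_cyclotomic]; exact_mod_cast (Nat.totient_pos.2 hd).ne')
    exact ⟨ζ, Polynomial.isRoot_cyclotomic_iff.1 hζ⟩
  let x : A := ζ • e + (1 - e)
  have hpow : ∀ k : ℕ, x ^ k = ζ ^ k • e + (1 - e) := by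
    intro k
    induction k with
    | zero => simp
    | succ k ih =>
      rw [pow_succ, ih]
      simp only [x, add_mul, mul_add, smul_mul_assoc, mul_smul_comm, he.eq, hea, heb, he', smul_zero, add_zero, zero_add, smul_smul]
      rw [← pow_succ']
  have hxd : x ^ d = 1 := by rw [hpow, hζ.pow_eq_one, one_smul, add_sub_cancel]
  refine ⟨x, IsUnit.of_pow_eq_one hxd hd.ne', ⟨1, by rw [hxd, map_one]⟩, fun k hk hkd hmem => ?_⟩
  obtain ⟨a, ha⟩ := hmem
  have hk2 := hpow k
  rw [← ha, Algebra.algebraMap_eq_smul_one] at hk2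
  have e1 := congrArg (fun z => z * e) hk2
  have e2 := congrArg (fun z => z * (1 - e)) hk2
  simp only [add_mul, smul_mul_assoc, one_mul, he.eq, hea, heb, he', smul_zero, add_zero, zero_add] at e1 e2
  have ha1 : a = 1 := smul_left_injective K (sub_ne_zero.2 (Ne.symm he1)) (e2.trans (one_smul K (1 - e)).symm)
  have ha2 : a = ζ ^ k := smul_left_injective K he0 e1
  exact hζ.pow_ne_one_of_pos_of_lt hk.ne' hkd (ha2 ▸ ha1)

end Groth.Agent.S15183
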