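import Groth.Statements.S15185
import Groth.Agent.RedNorm.Subfield

set_option autoImplicit false
set_option linter.style.haveILetI false
set_option backward.isDefEq.respectTransparency false
open Groth.Agent
universe u v
open Polynomial
open BddFin

namespace Groth.Agent.S15185

/-- Let K be a field of characteristic p > 0 such that K contains all roots of unity (for every n ≥ 1
the polynomial X^n − 1 splits into linear factors over K), A a central division algebra of dimension
n ^ 2 over K, and write n = n' · p ^ m with n' prime to p; let N be the reduced norm of A. Consider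
the kernel of the homomorphism from the units of A modulo those of K to Kˣ/(Kˣ)^(p^m) induced by N.
Every element of finite order of that kernel has order dividing n': if x ≠ 0 in A has x ^ r in K for
some r ≥ 1 and N x is a (p ^ m)-th power of a non-zero element of K, then x ^ n' lies in K. -/
theorem result
    (K : Type u) [Field K] (p : ℕ) [Fact p.Prime] [CharP K p] (hK : ∀ n : ℕ, 0 < n → (X ^ n - 1 : K[X]).Splits)
    (A : Type v) [DivisionRing A] [Algebra K A] [Algebra.IsCentral K A] [FiniteDimensional K A]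
    (n n' m : ℕ) (hA : Module.finrank K A = n ^ 2) (hn : n = n' * p ^ m) (hn' : ¬ p ∣ n')
    (N : A →* K) (hN : CSAGal.IsRedNorm K A N)
    (x : A) (hx : x ≠ 0) (hxr : ∃ r : ℕ, 0 < r ∧ x ^ r ∈ (algebraMap K A).range)
    (hNx : ∃ b : K, b ≠ 0 ∧ N x = b ^ (p ^ m)) :
    x ^ n' ∈ (algebraMap K A).range := by
  classical
  obtain ⟨r, hr0, c, hc⟩ := hxr
  obtain ⟨b, hb0, hb⟩ := hNx
  have hN' := RedNorm.isNrd_of_isRedNorm hA hN
  obtain ⟨g⟩ := RedNorm.exists_rep (k := K) (A := A) hA
  obtain ⟨L, _, _, ι, ⟨l, hl⟩, _, -, -⟩ := RedNorm.exists_subfield hA x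
  let F := AlgebraicClosure K
  let j : L →ₐ[K] F := IsAlgClosed.lift
  have hl0 : l ≠ 0 := fun h => hx (by rw [← hl, h, map_zero])
  have hlr : l ^ r = algebraMap K L c := ι.toRingHom.injective (by
    show ι (l ^ r) = ι (algebraMap K L c)
    rw [map_pow, hl, AlgHom.commutes, hc])
  let Z : Set K := {ζ | ζ ^ r = 1}
  have hroot : ∀ μ ∈ (g x).charpoly.roots, ∃ ζ ∈ Z, μ = algebraMap K F ζ * j l := by
    intro μ hμ
    have h1 := Matrix.mem_spectrum_of_isRoot_charpoly (Polynomial.isRoot_of_mem_roots hμ)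
    have h2 := spectrum.subset_polynomial_aeval (g x) (Polynomial.X ^ r) ⟨μ, h1, rfl⟩
    have hn0 : NeZero n := ⟨RedNorm.ne_zero_of_degree hA⟩
    rw [map_pow, Polynomial.aeval_X, ← map_pow, ← hc, AlgHom.commutes,
      IsScalarTower.algebraMap_apply K F (Matrix (Fin n) (Fin n) F), spectrum.scalar_eq, Set.mem_singleton_iff] at h2
    simp only [Polynomial.eval_pow, Polynomial.eval_X] at h2
    have hq : (μ / j l) ^ r = 1 := by
      rw [div_pow, h2, ← map_pow, hlr, AlgHom.commutes, div_self]
      intro h0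
      exact pow_ne_zero r hl0 (by rw [hlr, (algebraMap K F).injective (h0.trans (map_zero _).symm), map_zero])
    obtain ⟨ζ, hζ⟩ := (hK r hr0).mem_range_of_isRoot (Polynomial.X_pow_sub_C_ne_zero hr0 1) (x := μ / j l)
      (by simp [hq])
    refine ⟨ζ, (algebraMap K F).injective (by rw [map_pow, hζ, hq, map_one]), ?_⟩
    rw [hζ, div_mul_cancel₀ _ ((map_ne_zero j).mpr hl0)]
  have hprod : ∀ s : Multiset F, (∀ μ ∈ s, ∃ ζ ∈ Z, μ = algebraMap K F ζ * j l) →
      ∃ ζ ∈ Z, s.prod = algebraMap K F ζ * j l ^ s.card := by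
    intro s
    induction s using Multiset.induction with
    | empty => exact fun _ => ⟨1, one_pow r, by simp⟩
    | cons a s IH =>
      intro h
      obtain ⟨ζ, hζ, ha⟩ := h a (Multiset.mem_cons_self a s)
      obtain ⟨η, hη, hs⟩ := IH fun μ hμ => h μ (Multiset.mem_cons_of_mem hμ)
      refine ⟨ζ * η, (mul_pow ζ η r).trans (by rw [hζ, hη, one_mul]), ?_⟩
      rw [Multiset.prod_cons, Multiset.card_cons, ha, hs, pow_succ, map_mul]
      ring
  obtain ⟨ζ, hζ, hdet⟩ := hprod _ hroot
  rw [← Matrix.det_eq_prod_roots_charpoly_of_splits (IsAlgClosed.splits _), hN' g,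
    IsAlgClosed.card_roots_eq_natDegree, Matrix.charpoly_natDegree_eq_dim, Fintype.card_fin] at hdet
  -- roots of unity are `p ^ m`-th powers
  have hfin : Z.Finite := (Multiset.finite_toSet (Polynomial.X ^ r - Polynomial.C (1 : K)).roots).subset fun z hz => by
    simp only [Set.mem_setOf_eq, Polynomial.mem_roots (Polynomial.X_pow_sub_C_ne_zero hr0 (1 : K))]
    simpa [Z, sub_eq_zero] using hz
  haveI := hfin.to_subtype
  let φ : Z → Z := fun z => ⟨(z : K) ^ p ^ m, by
    show _ = 1
    rw [← pow_mul, mul_comm, pow_mul, z.2, one_pow]⟩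
  obtain ⟨⟨ω, hω⟩, hωζ'⟩ := (Finite.injective_iff_surjective (f := φ)).mp (fun z z' h => Subtype.ext
    (iterateFrobenius_inj K p m (by
      simp only [iterateFrobenius_def]; exact congrArg Subtype.val h))) ⟨ζ, hζ⟩
  have hωζ : ω ^ p ^ m = ζ := congrArg Subtype.val hωζ'
  have hω0 : ω ≠ 0 := fun h => by
    simp [Z, h, zero_pow hr0.ne'] at hω
  haveI : CharP L p := charP_of_injective_algebraMap (algebraMap K L).injective p
  refine ⟨b / ω, ?_⟩
  rw [← hl, ← map_pow, ← AlgHom.commutes ι]
  congr 1
  refine iterateFrobenius_inj L p m ?_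
  rw [iterateFrobenius_def, iterateFrobenius_def, ← pow_mul, ← hn, ← map_pow, div_pow, hωζ, map_div₀]
  apply j.toRingHom.injective
  show j _ = j _
  rw [map_div₀, AlgHom.commutes, AlgHom.commutes, ← hb, hdet, map_pow, mul_div_cancel_left₀]
  rw [← hωζ, map_pow]
  exact pow_ne_zero _ ((_root_.map_ne_zero _).mpr hω0)

end Groth.Agent.S15185
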