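import Groth.Statements.S15189
import Groth.Agent.PglFin.Basic

set_option autoImplicit false
universe u
open CategoryTheory CategoryTheory.Limits AlgebraicGeometry
open BddFin

namespace Groth.Agent.S15189

/-- Let p be 2 or 3, k an infinite field of characteristic p, A a central simple k-algebra of dimension
p², and X → Spec k the Severi–Brauer variety of A (X represents the functor of left ideals of A with
projective quotient of corank p² − p; X has dimension p − 1). Then the group of automorphisms of X
over k has unbounded finite subgroups: for every N it has a finite subgroup of order greater than N. -/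
theorem result
    (k : Type u) [Field k] [Infinite k] (p : ℕ) [Fact p.Prime] [CharP k p] (hp : p = 2 ∨ p = 3)
    (A : Type u) [Ring A] [Algebra k A] [Algebra.IsCentral k A] [IsSimpleRing A]
    (hA : Module.finrank k A = p * p)
    {X : Scheme.{u}} (f : X ⟶ Spec (CommRingCat.of k)) (hX : BrSev.IsSBOf k A (p * p - p) f) (N : ℕ) :
    ∃ G : Subgroup (Aut (Over.mk f)), Finite G ∧ N < Nat.card G := by
  obtain ⟨ξ, hξ, hker⟩ := Groth.Agent.PglPts.main k A p (Fact.out : p.Prime).pos hA f hX
  classical
  obtain ⟨x, hx, hxp, hu⟩ := Groth.Agent.PglFin.exists_elt p hp A hA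
  haveI : Nontrivial A := inferInstance
  haveI : CharP A p := charP_of_injective_algebraMap' k p
  choose u hu' using hu
  have hpow : ∀ t, ξ (u t) ^ p = 1 := fun t => by
    obtain ⟨c, hc⟩ := hxp
    have e : ((u t ^ p : Aˣ) : A) = algebraMap k A (1 + t ^ p * c) := by
      rw [Units.val_pow_eq_pow_val, hu', add_pow_char_of_commute p (Commute.one_left _), one_pow, smul_pow, ← hc,
        Algebra.smul_def, map_add, map_one, map_mul]
    have hne : 1 + t ^ p * c ≠ 0 := fun h0 => (u t ^ p).ne_zero (by rw [e, h0, map_zero])
    rw [← map_pow, ← MonoidHom.mem_ker, hker]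
    exact ⟨Units.mk0 _ hne, Units.ext e.symm⟩
  have hcomm : ∀ s t, Commute (ξ (u s)) (ξ (u t)) := fun s t => by
    refine (Commute.map ?_ ξ)
    refine Units.ext ?_
    show (u s : A) * u t = u t * u s
    rw [hu', hu']
    exact (((Commute.one_left _).add_left ((Commute.one_right _).add_right
      (((Commute.refl x).smul_left s).smul_right t)))).eq
  have hinj : Function.Injective fun t => ξ (u t) := fun s t hst => by
    have h1 : u t * (u s)⁻¹ ∈ ξ.ker := by
      rw [MonoidHom.mem_ker, map_mul, map_inv]
      exact mul_inv_eq_one.2 hst.symm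
    rw [hker] at h1
    obtain ⟨c, hc⟩ := h1
    have h2 : (1 : A) + t • x = (c : k) • (1 + s • x) := by
      rw [← hu' t, ← hu' s, Algebra.smul_def]
      have := congrArg (fun z : Aˣ => ((z * u s : Aˣ) : A)) hc
      simpa using this.symm
    by_cases hts : t - (c : k) * s = 0
    · have h3 : algebraMap k A (c : k) = algebraMap k A 1 := by
        have h4 : (c : k) • (1 : A) = 1 := by
          have h5 : (1 : A) + t • x = (c : k) • 1 + t • x := by
            rw [h2, smul_add, smul_smul, ← sub_eq_zero.1 hts]
          exact (add_right_cancel h5).symm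
        rw [map_one, Algebra.algebraMap_eq_smul_one]
        exact h4
      rw [(algebraMap k A).injective h3, one_mul, sub_eq_zero] at hts
      exact hts.symm
    · refine absurd ⟨(t - (c : k) * s)⁻¹ * ((c : k) - 1), ?_⟩ hx
      have h4 : (t - (c : k) * s) • x = ((c : k) - 1) • (1 : A) := by
        rw [sub_smul, sub_smul, ← smul_smul, one_smul, sub_eq_sub_iff_add_eq_add]
        rw [smul_add] at h2
        rw [← h2, add_comm]
      rw [Algebra.algebraMap_eq_smul_one, ← smul_smul, ← h4, smul_smul, inv_mul_cancel₀ hts, one_smul]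
  obtain ⟨T, hT⟩ := Infinite.exists_subset_card_eq k (N + 1)
  refine ⟨Subgroup.closure ((fun t => ξ (u t)) '' (T : Set k)), ?_, ?_⟩
  · letI : IsMulCommutative (Subgroup.closure ((fun t => ξ (u t)) '' (T : Set k))) :=
      Subgroup.isMulCommutative_closure (by
        rintro _ ⟨s, -, rfl⟩ _ ⟨t, -, rfl⟩
        exact hcomm s t)
    letI : CommGroup (Subgroup.closure ((fun t => ξ (u t)) '' (T : Set k))) :=
      { (inferInstance : Group (Subgroup.closure ((fun t => ξ (u t)) '' (T : Set k)))) with
        mul_comm := fun a b => setLike_mul_comm a.2 b.2 |> Subtype.ext }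
    haveI : Group.FG (Subgroup.closure ((fun t => ξ (u t)) '' (T : Set k))) :=
      (Group.fg_iff_subgroup_fg _).2 ((Subgroup.fg_iff _).2 ⟨_, rfl, T.finite_toSet.image _⟩)
    refine CommGroup.finite_of_fg_isMulTorsion _ ?_
    rintro ⟨y, hy⟩
    suffices hyp : y ^ p = 1 from isOfFinOrder_iff_pow_eq_one.2 ⟨p, (Fact.out : p.Prime).pos, Subtype.ext hyp⟩
    induction hy using Subgroup.closure_induction with
    | mem z hz => obtain ⟨t, -, rfl⟩ := hz; exact hpow t
    | one => exact one_pow p
    | mul z w hz hw h1 h2 => rw [(show Commute z w from setLike_mul_comm hz hw).mul_pow, h1, h2, one_mul]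
    | inv z _ h1 => rw [inv_pow, h1, inv_one]
  · have hsub : ((fun t => ξ (u t)) '' (T : Set k)) ⊆ Subgroup.closure ((fun t => ξ (u t)) '' (T : Set k)) :=
      Subgroup.subset_closure
    have hfin : (Subgroup.closure ((fun t => ξ (u t)) '' (T : Set k)) : Set (Aut (Over.mk f))).Finite := by
      letI : IsMulCommutative (Subgroup.closure ((fun t => ξ (u t)) '' (T : Set k))) :=
        Subgroup.isMulCommutative_closure (by
          rintro _ ⟨s, -, rfl⟩ _ ⟨t, -, rfl⟩
          exact hcomm s t)
      letI : CommGroup (Subgroup.closure ((fun t => ξ (u t)) '' (T : Set k))) :=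
        { (inferInstance : Group (Subgroup.closure ((fun t => ξ (u t)) '' (T : Set k)))) with
          mul_comm := fun a b => setLike_mul_comm a.2 b.2 |> Subtype.ext }
      haveI : Group.FG (Subgroup.closure ((fun t => ξ (u t)) '' (T : Set k))) :=
        (Group.fg_iff_subgroup_fg _).2 ((Subgroup.fg_iff _).2 ⟨_, rfl, T.finite_toSet.image _⟩)
      haveI : Finite (Subgroup.closure ((fun t => ξ (u t)) '' (T : Set k))) := by
        refine CommGroup.finite_of_fg_isMulTorsion _ ?_
        rintro ⟨y, hy⟩
        suffices hyp : y ^ p = 1 from isOfFinOrder_iff_pow_eq_one.2 ⟨p, (Fact.out : p.Prime).pos, Subtype.ext hyp⟩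
        induction hy using Subgroup.closure_induction with
        | mem z hz => obtain ⟨t, -, rfl⟩ := hz; exact hpow t
        | one => exact one_pow p
        | mul z w hz hw h1 h2 => rw [(show Commute z w from setLike_mul_comm hz hw).mul_pow, h1, h2, one_mul]
        | inv z _ h1 => rw [inv_pow, h1, inv_one]
      exact Set.toFinite _
    have h1 := Set.ncard_le_ncard hsub hfin
    rw [Set.ncard_image_of_injective _ hinj, Set.ncard_coe_finset, hT] at h1
    exact lt_of_lt_of_le (Nat.lt_succ_self N) (h1.trans (le_of_eq (Nat.card_coe_set_eq _).symm))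


end Groth.Agent.S15189
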