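import Groth.Statements.S15190
import Groth.Agent.PglFin.Basic

set_option autoImplicit false
universe u
open CategoryTheory CategoryTheory.Limits AlgebraicGeometry Polynomial
open BddFin

namespace Groth.Agent.S15190

/-- Let k be a field of characteristic p > 0 such that k contains all roots of unity (for every r ≥ 1
the polynomial X^r − 1 splits into linear factors over k), A a central division algebra of dimension
n² over k with n = n' · p ^ m and n' prime to p, and X → Spec k the Severi–Brauer variety of A (X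
represents the functor of left ideals of A with projective quotient of corank n² − n). Then every
finite subgroup G of the group of automorphisms of X over k is a semidirect product: there are
subgroups H and S of G with H normal in G, H ∩ S trivial and H S = G, such that every element of H
has order prime to p and S is abelian with s ^ (p ^ m) = 1 for all s in S. (The published statement
also bounds the order of H; that bound is not part of this row.) -/
theorem result
    (k : Type u) [Field k] (p : ℕ) [Fact p.Prime] [CharP k p]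
    (hk : ∀ r : ℕ, 0 < r → (X ^ r - 1 : k[X]).Splits)
    (A : Type u) [DivisionRing A] [Algebra k A] [Algebra.IsCentral k A]
    (n n' m : ℕ) (hn0 : 0 < n) (hA : Module.finrank k A = n * n) (hn : n = n' * p ^ m) (hn' : ¬ p ∣ n')
    {X : Scheme.{u}} (f : X ⟶ Spec (CommRingCat.of k)) (hX : BrSev.IsSBOf k A (n * n - n) f)
    (G : Subgroup (Aut (Over.mk f))) [Finite G] :
    ∃ H S : Subgroup (Aut (Over.mk f)), H ≤ G ∧ S ≤ G ∧
      (∀ g ∈ G, ∀ h ∈ H, g * h * g⁻¹ ∈ H) ∧ H ⊓ S = ⊥ ∧ H ⊔ S = G ∧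
      (∀ h ∈ H, ((orderOf h : ℕ) : k) ≠ 0) ∧
      (∀ s ∈ S, ∀ t ∈ S, s * t = t * s) ∧ (∀ s ∈ S, s ^ (p ^ m) = 1) := by
  obtain ⟨ξ, hξ, hker⟩ := Groth.Agent.PglPts.main k A n hn0 hA f hX
  haveI : FiniteDimensional k A := Module.finite_of_finrank_pos (by rw [hA]; exact Nat.mul_pos hn0 hn0)
  classical
  have hcomm := Groth.Agent.PglFin.commute_of_finite hk ξ hker hξ G
  have hgn : ∀ g ∈ G, g ^ n = 1 := fun g hg => by
    obtain ⟨a, rfl⟩ := hξ g
    obtain ⟨r, hr, ha⟩ := isOfFinOrder_iff_pow_eq_one.1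
      ((G.subtype).isOfFinOrder (isOfFinOrder_of_finite (⟨_, hg⟩ : G)))
    change ξ a ^ r = 1 at ha
    rw [← map_pow, ← MonoidHom.mem_ker, hker] at ha
    obtain ⟨x, hx⟩ := ha
    obtain ⟨y, hy⟩ := Groth.Agent.S15168.result k hk A n (hA.trans (sq n).symm) (a : A)
      ⟨r, hr, (x : k), (congrArg Units.val hx).trans (Units.val_pow_eq_pow_val a r)⟩
    have hy0 : y ≠ 0 := fun h0 => (a.isUnit.pow n).ne_zero (by rw [← hy, h0, map_zero])
    rw [← map_pow, ← MonoidHom.mem_ker, hker]
    exact ⟨Units.mk0 y hy0, Units.ext (hy.trans (Units.val_pow_eq_pow_val a n).symm)⟩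
  let part : ℕ → Subgroup (Aut (Over.mk f)) := fun d =>
    { carrier := {g | g ∈ G ∧ g ^ d = 1}
      one_mem' := ⟨one_mem G, one_pow d⟩
      mul_mem' := fun {a b} ha hb => ⟨mul_mem ha.1 hb.1, by
        rw [(show Commute a b from hcomm a ha.1 b hb.1).mul_pow, ha.2, hb.2, one_mul]⟩
      inv_mem' := fun {a} ha => ⟨inv_mem ha.1, by rw [inv_pow, ha.2, inv_one]⟩ }
  have hcop : Nat.Coprime n' (p ^ m) :=
    Nat.Coprime.pow_right m ((Nat.Prime.coprime_iff_not_dvd Fact.out).2 hn').symm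
  refine ⟨part n', part (p ^ m), fun g hg => hg.1, fun g hg => hg.1, fun g hg h hh => ?_, ?_, ?_, fun h hh => ?_,
    fun s hs t ht => hcomm s hs.1 t ht.1, fun s hs => hs.2⟩
  · rw [show g * h * g⁻¹ = h from by rw [hcomm g hg h hh.1, mul_inv_cancel_right]]
    exact hh
  · rw [eq_bot_iff]
    rintro g ⟨⟨-, h1⟩, -, h2⟩
    rw [Subgroup.mem_bot, ← orderOf_eq_one_iff]
    exact Nat.eq_one_of_dvd_coprimes hcop (orderOf_dvd_of_pow_eq_one h1) (orderOf_dvd_of_pow_eq_one h2)
  · refine le_antisymm (sup_le (fun g hg => hg.1) fun g hg => hg.1) fun g hg => ?_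
    obtain ⟨c, d, hcd⟩ := Nat.Coprime.isCoprime hcop
    have hz : g ^ ((n : ℕ) : ℤ) = 1 := by rw [zpow_natCast]; exact hgn g hg
    have e : g = g ^ (c * (n' : ℤ)) * g ^ (d * ((p ^ m : ℕ) : ℤ)) := by rw [← zpow_add, hcd, zpow_one]
    have h2 : g ^ (c * (n' : ℤ)) ∈ part (p ^ m) := ⟨zpow_mem hg _, by
      rw [← zpow_natCast, ← zpow_mul, mul_assoc, mul_comm c, zpow_mul,
        show (n' : ℤ) * ((p ^ m : ℕ) : ℤ) = ((n : ℕ) : ℤ) by rw [hn, Nat.cast_mul], hz, one_zpow]⟩
    have h1 : g ^ (d * ((p ^ m : ℕ) : ℤ)) ∈ part n' := ⟨zpow_mem hg _, by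
      rw [← zpow_natCast, ← zpow_mul, mul_assoc, mul_comm d, zpow_mul,
        show ((p ^ m : ℕ) : ℤ) * (n' : ℤ) = ((n : ℕ) : ℤ) by rw [hn, Nat.cast_mul, mul_comm], hz, one_zpow]⟩
    rw [e]
    exact mul_mem (Subgroup.mem_sup_right h2) (Subgroup.mem_sup_left h1)
  · intro h0
    rw [CharP.cast_eq_zero_iff k p] at h0
    exact hn' (h0.trans (orderOf_dvd_of_pow_eq_one hh.2))


end Groth.Agent.S15190
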