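import Groth.Statements.S15224
import Mathlib

set_option autoImplicit false
open Finset
open W4c2rk2extmaps

namespace Groth.Agent.S15224

/-- In a commutative ℚ-algebra R let y be an element and put c_k = y^k / k! for every k. Then for k ≥ 2,
Σ_{i=1}^{k-1} (-1)^(i-1) c_i c_(k-i) + (-1)^(k-1) c_k = c_k. (The published statement concerns the
Chern classes of a specific vector bundle on a Jacobian, which are of the form c_k = (4θ)^k / k!;
the printed argument establishes the identity for every sequence of this form in a commutative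
ℚ-algebra, which is the form stated here.) -/
theorem result (R : Type*) [CommRing R] [Algebra ℚ R] (y : R)
    (c : ℕ → R) (hc : ∀ k : ℕ, c k = ((Nat.factorial k : ℚ)⁻¹) • y ^ k)
    (k : ℕ) (hk : 2 ≤ k) :
    (∑ i ∈ Finset.Ico 1 k, (-1 : R) ^ (i - 1) * c i * c (k - i)) + (-1 : R) ^ (k - 1) * c k = c k := by
  have hf : ∀ i ∈ Finset.range (k + 1), (-1 : R) ^ i * c i * c (k - i) = ((((-1 : ℤ) ^ i * k.choose i : ℤ) : ℚ) * (k.factorial : ℚ)⁻¹) • y ^ k := by
    intro i hi
    rw [Finset.mem_range] at hi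
    rw [hc, hc, mul_assoc, smul_mul_smul_comm, ← pow_add, Nat.add_sub_cancel' (by omega)]
    have e : (i.factorial : ℚ)⁻¹ * ((k - i).factorial : ℚ)⁻¹ = (k.choose i : ℚ) * (k.factorial : ℚ)⁻¹ := by
      rw [← Nat.choose_mul_factorial_mul_factorial (show i ≤ k by omega)]
      have : (k.choose i : ℚ) ≠ 0 := Nat.cast_ne_zero.2 (Nat.choose_pos (by omega)).ne'
      push_cast; field_simp
    rw [e, Algebra.smul_def, Algebra.smul_def, Int.cast_mul, Int.cast_pow, Int.cast_neg, Int.cast_one, Int.cast_natCast,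
      map_mul, map_mul, map_mul, map_pow, map_neg, map_one]
    ring
  have hsum : ∑ i ∈ Finset.range (k + 1), (-1 : R) ^ i * c i * c (k - i) = 0 := by
    rw [Finset.sum_congr rfl hf, ← Finset.sum_smul, ← Finset.sum_mul, ← Int.cast_sum,
      Int.alternating_sum_range_choose_of_ne (by omega), Int.cast_zero, zero_mul, zero_smul]
  have hc0 : c 0 = 1 := by simp [hc]
  obtain ⟨m, rfl⟩ : ∃ m, k = m + 1 := ⟨k - 1, by omega⟩
  rw [Finset.sum_range_succ, Finset.range_eq_Ico, Finset.sum_eq_sum_Ico_succ_bot (by omega), Nat.sub_self, hc0,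
    Nat.sub_zero, pow_zero, one_mul, one_mul, mul_one] at hsum
  have e : ∑ i ∈ Finset.Ico 1 (m + 1), (-1 : R) ^ (i - 1) * c i * c (m + 1 - i) =
      - ∑ i ∈ Finset.Ico (0 + 1) (m + 1), (-1 : R) ^ i * c i * c (m + 1 - i) := by
    rw [← Finset.sum_neg_distrib]
    refine Finset.sum_congr rfl fun i hi => ?_
    rw [Finset.mem_Ico] at hi
    obtain ⟨j, rfl⟩ : ∃ j, i = j + 1 := ⟨i - 1, by omega⟩
    rw [Nat.add_sub_cancel, pow_succ]; ring
  rw [e, Nat.add_sub_cancel]
  rw [pow_succ] at hsum
  linear_combination -hsum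

end Groth.Agent.S15224
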