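import Groth.Statements.S15227
import Groth.Agent.VeryStable.Basic
import Groth.Agent.CurveOmega.Duality

set_option autoImplicit false
open CategoryTheory CategoryTheory.Limits AlgebraicGeometry MonoidalCategory
open VBCurve

set_option backward.isDefEq.respectTransparency false
set_option backward.isDefEq.respectTransparency.types false

open Groth.Agent

namespace Groth.Agent.S15227

/-- Let X be a smooth proper integral curve over ℂ of genus g ≥ 3 which is non-hyperelliptic, K a module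
isomorphic to its sheaf of differentials, and N an invertible module of degree g − 1 with H^0(N) =
0, so that the complete linear system of K ⊗ N maps X to a projective space of dimension 2g − 3 as a
curve of degree 3g − 3. An effective divisor D of degree d, recorded through its invertible ideal
sheaf I ⊂ O_X (of degree −d), is a d-secant when its linear span has dimension d − 2, i.e. h^0(I ⊗ K
⊗ N) = h^0(K ⊗ N) − d + 1. Then there is no (g − 1)-secant: no invertible ideal I ⊂ O_X of degree 1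
− g satisfies h^0(I ⊗ K ⊗ N) + (g − 2) = h^0(K ⊗ N). -/
theorem result
    (X : Scheme.{0}) [X.Over (Spec (CommRingCat.of ℂ))] [IsIntegral X]
    [IsProper (X ↘ Spec (CommRingCat.of ℂ))] [Smooth (X ↘ Spec (CommRingCat.of ℂ))]
    (hdim : topologicalKrullDim X = 1) (hg : 2 ≤ Curv2.genus ℂ X)
    (hnh : ∀ M : X.Modules, PicF.IsInvertible M → Curv2.deg ℂ X M 1 = 2 →
      Module.finrank ℂ (Coh.HH X M 0) ≤ 1)
    (K : X.Modules) (eK : K ≅ Omega.sheaf (X ↘ Spec (CommRingCat.of ℂ)))
    (g : ℕ) (hg3 : 3 ≤ g) (hgen : Curv2.genus ℂ X = g)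
    (N : X.Modules) (hN : PicF.IsInvertible N) (hdN : Curv2.deg ℂ X N 1 = (g : ℤ) - 1)
    (h0 : Module.finrank ℂ (Coh.HH X N 0) = 0) :
    ¬ ∃ (I : X.Modules) (ι : I ⟶ Coh.structureModule X),
        PicF.IsInvertible I ∧ Mono ι ∧ Curv2.deg ℂ X I 1 = -((g : ℤ) - 1) ∧
        Module.finrank ℂ (Coh.HH X (CohB1.tensorMod I (CohB1.tensorMod K N)) 0) + (g - 2) =
          Module.finrank ℂ (Coh.HH X (CohB1.tensorMod K N) 0) := by
  rintro ⟨I, ι, hI, hι, hdI, hh⟩
  haveI := hι
  have hC : Curve.IsSmoothProperCurve ℂ X (X ↘ Spec (CommRingCat.of ℂ)) := ⟨inferInstance, inferInstance, inferInstance, hdim⟩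
  obtain ⟨hΩ, -, hdΩ, -⟩ := CurveOmega.omega_facts ℂ X hC
  have hK := ParaFLib.isInvertible_of_iso eK.symm hΩ
  have hdK : Curv2.deg ℂ X K 1 = 2 * (g : ℤ) - 2 := by rw [W7Slope.deg_iso (k := ℂ) eK, hdΩ, hgen]
  have hKN := TMul.isInvertible_tensorMod hK hN
  have hdKN := CurveRR.deg_tensor_inv (k := ℂ) hdim.le hK hN
  have hIKN := TMul.isInvertible_tensorMod hI hKN
  have hd := CurveRR.deg_tensor_inv (k := ℂ) hdim.le hI hKN
  have hhKN := CurveRR.h0_eq_of_deg (k := ℂ) hdim.le (CurveRR.h0_structure ℂ X) hKN (by rw [hgen]; omega)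
  obtain ⟨eI⟩ := CurveOmega.nonempty_iso_omega ℂ X hC hIKN (by rw [hgen]; omega)
    (by rw [hgen] at hhKN ⊢; simp only [CurveRR.h] at hhKN ⊢; omega)
  obtain ⟨K', hK', ⟨e⟩⟩ := W7Hull.exists_tensor_inverse hK
  haveI := W7Slope.mono_tmap hKN ι
  let φ : K ⟶ CohB1.tensorMod N K := (eK ≪≫ eI.symm).hom ≫ CohFinite.tmap ι _ ≫
    (TMul.leftUnitIso (CohB1.tensorMod K N)).hom ≫ (TMul.commIso K N).hom
  haveI : Mono φ := mono_comp _ _
  haveI := W7Slope.mono_tmap hK' φ
  let σ : Coh.structureModule X ⟶ N := e.inv ≫ CohFinite.tmap φ K' ≫ (W7Slope.untw e N).hom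
  haveI : Mono σ := mono_comp _ _
  haveI : Subsingleton (Coh.HH X N 0) := by
    haveI := CohFinite.finite_proper ℂ X N (CurveRR.isCoh_of_inv hN) 0
    exact Module.finrank_zero_iff.1 h0
  letI := CurveRR.secMod ℂ N ⊤
  haveI : Subsingleton Γ(N, ⊤) := (CurveRR.secH0 (k := ℂ) N).toEquiv.subsingleton
  have hσ : σ = 0 := TMul.hom_ext_val (Subsingleton.elim _ _)
  exact W7Slope.pos_rank_not_isZero ℂ one_pos
    (CurveRR.isFinLocFreeOfRank_one (TMul.isInvertible_structureModule (X := X))) (IsZero.of_mono_eq_zero σ hσ)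

end Groth.Agent.S15227
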