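import Groth.Statements.S15228
import Groth.Agent.Higgs.Secant

set_option autoImplicit false
open CategoryTheory CategoryTheory.Limits AlgebraicGeometry MonoidalCategory
open VBCurve

set_option backward.isDefEq.respectTransparency false
set_option backward.isDefEq.respectTransparency.types false

open Groth.Agent

namespace Groth.Agent.S15228

/-- Let X be a smooth proper integral curve over ℂ of genus g ≥ 3 which is non-hyperelliptic, K a module
isomorphic to its sheaf of differentials, and N an invertible module of degree g with h^0(N) ≤ 1, so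
that the complete linear system of K ⊗ N maps X to a projective space of dimension 2g − 2 as a curve
of degree 3g − 2. An effective divisor D of degree d, recorded through its invertible ideal sheaf I
⊂ O_X (of degree −d), is a d-secant when its linear span has dimension d − 2, i.e. h^0(I ⊗ K ⊗ N) =
h^0(K ⊗ N) − d + 1. Then X has exactly one g-secant: some invertible ideal I ⊂ O_X of degree −g
satisfies h^0(I ⊗ K ⊗ N) + (g − 1) = h^0(K ⊗ N), and any two such ideals are equal as subobjects of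
O_X (an isomorphism between them commutes with the inclusions). -/
theorem result
    (X : Scheme.{0}) [X.Over (Spec (CommRingCat.of ℂ))] [IsIntegral X]
    [IsProper (X ↘ Spec (CommRingCat.of ℂ))] [Smooth (X ↘ Spec (CommRingCat.of ℂ))]
    (hdim : topologicalKrullDim X = 1) (hg : 2 ≤ Curv2.genus ℂ X)
    (hnh : ∀ M : X.Modules, PicF.IsInvertible M → Curv2.deg ℂ X M 1 = 2 →
      Module.finrank ℂ (Coh.HH X M 0) ≤ 1)
    (K : X.Modules) (eK : K ≅ Omega.sheaf (X ↘ Spec (CommRingCat.of ℂ)))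
    (g : ℕ) (hg3 : 3 ≤ g) (hgen : Curv2.genus ℂ X = g)
    (N : X.Modules) (hN : PicF.IsInvertible N) (hdN : Curv2.deg ℂ X N 1 = (g : ℤ))
    (h0 : Module.finrank ℂ (Coh.HH X N 0) ≤ 1) :
    (∃ (I : X.Modules) (ι : I ⟶ Coh.structureModule X),
        PicF.IsInvertible I ∧ Mono ι ∧ Curv2.deg ℂ X I 1 = -((g : ℤ)) ∧
        Module.finrank ℂ (Coh.HH X (CohB1.tensorMod I (CohB1.tensorMod K N)) 0) + (g - 1) =
          Module.finrank ℂ (Coh.HH X (CohB1.tensorMod K N) 0)) ∧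
      ∀ (I I' : X.Modules) (ι : I ⟶ Coh.structureModule X) (ι' : I' ⟶ Coh.structureModule X),
        (PicF.IsInvertible I ∧ Mono ι ∧ Curv2.deg ℂ X I 1 = -((g : ℤ)) ∧
        Module.finrank ℂ (Coh.HH X (CohB1.tensorMod I (CohB1.tensorMod K N)) 0) + (g - 1) =
          Module.finrank ℂ (Coh.HH X (CohB1.tensorMod K N) 0)) →
        (PicF.IsInvertible I' ∧ Mono ι' ∧ Curv2.deg ℂ X I' 1 = -((g : ℤ)) ∧
        Module.finrank ℂ (Coh.HH X (CohB1.tensorMod I' (CohB1.tensorMod K N)) 0) + (g - 1) =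
          Module.finrank ℂ (Coh.HH X (CohB1.tensorMod K N) 0)) →
        ∃ φ : I' ≅ I, φ.hom ≫ ι = ι' := by
  have hC : Curve.IsSmoothProperCurve ℂ X (X ↘ Spec (CommRingCat.of ℂ)) := ⟨inferInstance, inferInstance, inferInstance, hdim⟩
  have hX := W7Slope.regCurve_of_smooth (k := ℂ) (X := X) hdim
  haveI := CurveRR.isNoetherian_of_proper ℂ X
  have hOm := CurveOmega.omega_facts ℂ X hC
  have hK : PicF.IsInvertible K := ParaFLib.isInvertible_of_iso eK.symm hOm.1
  have hdK : Curv2.deg ℂ X K 1 = 2 * (g : ℤ) - 2 := by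
    rw [W7Slope.deg_iso (k := ℂ) eK, hOm.2.2.1, hgen]
  have hh0 := CurveRR.h0_structure ℂ X
  have hKN := TMul.isInvertible_tensorMod hK hN
  have hdKN : Curv2.deg ℂ X (CohB1.tensorMod K N) 1 = 3 * (g : ℤ) - 2 := by
    rw [W7Slope.deg_twist (k := ℂ) hX.dim (CurveRR.isFinLocFreeOfRank_one hK) hN, hdK, hdN]
    push_cast; ring
  have hhKN : (CurveRR.h ℂ (CohB1.tensorMod K N) 0 : ℤ) = 2 * (g : ℤ) - 1 := by
    rw [CurveRR.h0_eq_of_deg hX.dim hh0 hKN (by omega), hdKN, hgen]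
    ring
  have triv : ∀ I : X.Modules, PicF.IsInvertible I → Curv2.deg ℂ X I 1 = -((g : ℤ)) →
      Module.finrank ℂ (Coh.HH X (CohB1.tensorMod I (CohB1.tensorMod K N)) 0) + (g - 1) =
        Module.finrank ℂ (Coh.HH X (CohB1.tensorMod K N) 0) →
      Nonempty (CohB1.tensorMod I N ≅ Coh.structureModule X) := by
    intro I hI hdI hsec
    have hM := TMul.isInvertible_tensorMod hI hKN
    have hdM : Curv2.deg ℂ X (CohB1.tensorMod I (CohB1.tensorMod K N)) 1 = 2 * (Curv2.genus ℂ X : ℤ) - 2 := by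
      rw [W7Slope.deg_twist (k := ℂ) hX.dim (CurveRR.isFinLocFreeOfRank_one hI) hKN, hdKN, hdI, hgen]
      push_cast; ring
    obtain ⟨e⟩ := CurveOmega.nonempty_iso_omega ℂ X hC hM hdM (by
      change CurveRR.h ℂ _ 0 + (g - 1) = CurveRR.h ℂ _ 0 at hsec
      omega)
    obtain ⟨e'⟩ := Higgs.iso_one_of_tensor_iso hK (B := CohB1.tensorMod N I)
      (TMul.commIso _ _ ≪≫ (TMul.assocIso K N I).symm ≪≫ TMul.commIso _ _ ≪≫ e ≪≫ eK.symm)
    exact ⟨TMul.commIso I N ≪≫ e'⟩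
  refine ⟨?_, ?_⟩
  · obtain ⟨N', hN', ⟨e⟩⟩ := W7Hull.exists_tensor_inverse hN
    obtain ⟨s, hs⟩ := CurveRR.exists_section (k := ℂ) (L := N) (by
      have := VBTwo.le_h0 (k := ℂ) hX N 1
      rw [hdN, hgen] at this
      push_cast at this
      omega)
    haveI : Mono s := CurveRR.mono_of_ne_zero TMul.isInvertible_structureModule hN s hs
    haveI := W7Slope.mono_tmap hN' s
    have hdN' : Curv2.deg ℂ X N' 1 = -((g : ℤ)) := by
      have h1 := W7Slope.deg_twist (k := ℂ) hX.dim (CurveRR.isFinLocFreeOfRank_one hN) hN'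
      rw [W7Slope.deg_iso (k := ℂ) e, CurveRR.deg_structure, hdN] at h1
      push_cast at h1
      omega
    refine ⟨N', (TMul.leftUnitIso N').inv ≫ CohFinite.tmap s N' ≫ e.hom, hN', mono_comp _ _, hdN', ?_⟩
    have ei : CohB1.tensorMod N' (CohB1.tensorMod K N) ≅ Omega.sheaf (X ↘ Spec (CommRingCat.of ℂ)) :=
      TMul.commIso _ _ ≪≫ TMul.assocIso K N N' ≪≫ PicGrp.tensorModIso (Iso.refl K) e ≪≫ SecTwist.unitorR K ≪≫ eK
    change CurveRR.h ℂ _ 0 + (g - 1) = CurveRR.h ℂ _ 0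
    rw [CurveRR.h_eq_of_iso (k := ℂ) ei (q := 0), hOm.2.1, hgen]
    omega
  intro I I' ι ι' ⟨hI, hι, hdI, hsI⟩ ⟨hI', hι', hdI', hsI'⟩
  obtain ⟨e⟩ := triv I hI hdI hsI
  obtain ⟨e'⟩ := triv I' hI' hdI' hsI'
  obtain ⟨N', hN', ⟨en⟩⟩ := W7Hull.exists_tensor_inverse hN
  let φ₀ : I' ≅ I := (W7Slope.untw en I').symm ≪≫ PicGrp.tensorModIso (e' ≪≫ e.symm) (Iso.refl N') ≪≫ W7Slope.untw en I
  let tr : (I' ⟶ Coh.structureModule X) → (Coh.structureModule X ⟶ N) := fun f =>
    e'.inv ≫ CohFinite.tmap f N ≫ (TMul.leftUnitIso N).hom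
  have hne0 : ∀ (M : X.Modules), PicF.IsInvertible M → ∀ f : M ⟶ Coh.structureModule X, Mono f → f ≠ 0 := by
    rintro M hM f hf rfl
    exact (W7Slope.pos_rank_not_isZero ℂ one_pos (CurveRR.isFinLocFreeOfRank_one hM))
      (IsZero.of_mono_zero M (Coh.structureModule X))
  have htr : ∀ f, f ≠ 0 → tr f ≠ 0 := fun f hf h0 => hf (Higgs.tmap_injective hN (by
    rw [← cancel_epi e'.inv, ← cancel_mono (TMul.leftUnitIso N).hom, CohFinite.tmap_zero, Category.assoc]
    simp only [comp_zero, zero_comp]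
    exact h0))
  haveI : Mono (φ₀.hom ≫ ι) := mono_comp _ _
  obtain ⟨c, hc, hcv⟩ := Higgs.exists_scal_of_h0_le_one ℂ hN h0 (tr ι') (tr (φ₀.hom ≫ ι))
    (htr _ (hne0 I' hI' ι' hι')) (htr _ (hne0 I' hI' _ inferInstance))
  have hrel : φ₀.hom ≫ ι = ι' ≫ W7Slope.scal _ (Coh.toGlobal (X ↘ Spec (CommRingCat.of ℂ)) c) := by
    refine Higgs.tmap_injective hN ?_
    rw [CohFinite.tmap_comp ι', W7Slope.tmap_scal, ← cancel_epi e'.inv, ← cancel_mono (TMul.leftUnitIso N).hom]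
    simp only [Category.assoc]
    rw [Higgs.scal_natural]
    simp only [tr, Category.assoc] at hcv
    exact hcv
  let S : I ≅ I := ⟨W7Slope.scalHom ℂ I c⁻¹, W7Slope.scalHom ℂ I c,
    show W7Slope.scalHom ℂ I c * W7Slope.scalHom ℂ I c⁻¹ = 1 by rw [← map_mul, mul_inv_cancel₀ hc, map_one],
    show W7Slope.scalHom ℂ I c⁻¹ * W7Slope.scalHom ℂ I c = 1 by rw [← map_mul, inv_mul_cancel₀ hc, map_one]⟩
  refine ⟨φ₀ ≪≫ S, ?_⟩
  show (φ₀.hom ≫ W7Slope.scal I _) ≫ ι = ι'
  rw [Category.assoc, Higgs.scal_natural, ← Category.assoc, hrel, Category.assoc]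
  have : W7Slope.scalHom ℂ (Coh.structureModule X) c⁻¹ * W7Slope.scalHom ℂ (Coh.structureModule X) c = 1 := by
    rw [← map_mul, inv_mul_cancel₀ hc, map_one]
  exact (congrArg (ι' ≫ ·) this).trans (Category.comp_id _)

end Groth.Agent.S15228
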