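import Groth.Statements.S15229
import Mathlib

set_option autoImplicit false
open Finset
open W4c2rk2extmaps

namespace Groth.Agent.S15229

/-- In a commutative ℚ-algebra R let θ, η be elements and g a natural number, and put c_k = (4θ)^k / k!.
Suppose θ^(g+1) = 0 and that η satisfies the relation η^(g+1) = Σ_{i=1}^{g+1} (-1)^(i-1) c_i
η^(g+1-i). Then η^(g+k) θ^(g-k) = c_k η^g θ^(g-k) for every 1 ≤ k ≤ g. (The published statement
concerns the first Chern class η of the tautological line bundle on a projective bundle P(U) over a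
g-dimensional Jacobian, with c_k the Chern classes of U, which are (4θ)^k / k!; there θ^(g+1)
vanishes for dimension reasons and the displayed relation is the projective-bundle relation, and the
printed argument derives the identity from exactly these three inputs, which is the form stated
here.) -/
theorem result (R : Type*) [CommRing R] [Algebra ℚ R]
    (θ η : R) (g : ℕ) (c : ℕ → R) (hc : ∀ k : ℕ, c k = ((Nat.factorial k : ℚ)⁻¹) • ((4 : R) * θ) ^ k)
    (hθ : θ ^ (g + 1) = 0)
    (hrel : η ^ (g + 1) = ∑ i ∈ Finset.Ico 1 (g + 2), (-1 : R) ^ (i - 1) * c i * η ^ (g + 1 - i))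
    (k : ℕ) (hk1 : 1 ≤ k) (hkg : k ≤ g) :
    η ^ (g + k) * θ ^ (g - k) = c k * η ^ g * θ ^ (g - k) := by
  let t : R := (4 : R) * θ
  have hc' : ∀ i, c i = ((Nat.factorial i : ℚ)⁻¹) • t ^ i := hc
  have ht : ∀ i, c i = (((Nat.factorial i : ℚ)⁻¹) • (4 : R) ^ i) * θ ^ i := fun i ↦ by
    rw [hc, mul_pow, smul_mul_assoc]
  have hcc : ∀ i j, c i * c j = (Nat.choose (i + j) i : R) * c (i + j) := fun i j ↦ by
    rw [hc', hc', hc', smul_mul_smul_comm, ← pow_add, ← nsmul_eq_mul, ← Nat.cast_smul_eq_nsmul ℚ, smul_smul]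
    congr 1
    rw [← Nat.add_choose_mul_factorial_mul_factorial i j]
    have := Nat.factorial_ne_zero i; have := Nat.factorial_ne_zero j
    have := (Nat.choose_pos (Nat.le_add_right i j)).ne'
    push_cast
    field_simp
    rw [Nat.choose_symm_add, div_self]
    exact_mod_cast (Nat.choose_pos (Nat.le_add_left j i)).ne'
  suffices H : ∀ k, k ≤ g → η ^ (g + k) * θ ^ (g - k) = c k * η ^ g * θ ^ (g - k) from H k hkg
  intro k
  induction k using Nat.strong_induction_on with
  | _ k ih =>
    intro hk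
    rcases Nat.eq_zero_or_pos k with rfl | hk0
    · rw [hc]; simp
    have step : η ^ (g + k) * θ ^ (g - k) = ∑ i ∈ Finset.Ico 1 (g + 2),
        (-1 : R) ^ (i - 1) * c i * η ^ (g + 1 - i) * η ^ (k - 1) * θ ^ (g - k) := by
      rw [show g + k = (g + 1) + (k - 1) by omega, pow_add, hrel, Finset.sum_mul, Finset.sum_mul]
    have hsum : ∑ i ∈ Finset.Ico 1 (g + 2), (-1 : R) ^ (i - 1) * c i * η ^ (g + 1 - i) * η ^ (k - 1) * θ ^ (g - k) =
        ∑ i ∈ Finset.Ico 1 (k + 1), ((-1 : R) ^ (i - 1) * (Nat.choose k i : R)) * (c k * η ^ g * θ ^ (g - k)) := by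
      rw [← Finset.sum_subset (Finset.Ico_subset_Ico_right (show k + 1 ≤ g + 2 by omega))]
      · refine Finset.sum_congr rfl fun i hi ↦ ?_
        rw [Finset.mem_Ico] at hi
        have e := ih (k - i) (by omega) (by omega)
        rw [show g - (k - i) = (g - k) + i by omega, pow_add θ] at e
        have hki := hcc i (k - i)
        rw [show i + (k - i) = k by omega] at hki
        calc (-1 : R) ^ (i - 1) * c i * η ^ (g + 1 - i) * η ^ (k - 1) * θ ^ (g - k)
            = (-1 : R) ^ (i - 1) * ((((Nat.factorial i : ℚ)⁻¹) • (4 : R) ^ i) * (η ^ (g + (k - i)) * (θ ^ (g - k) * θ ^ i))) := by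
              rw [ht, show g + (k - i) = (g + 1 - i) + (k - 1) by omega, pow_add]; ring
          _ = (-1 : R) ^ (i - 1) * (c i * c (k - i)) * η ^ g * θ ^ (g - k) := by rw [e, ht i]; ring
          _ = _ := by rw [hki]; ring
      · intro i hi hi'
        rw [Finset.mem_Ico] at hi hi'
        have h0 : θ ^ i * θ ^ (g - k) = 0 := by
          rw [← pow_add, show i + (g - k) = (g + 1) + (i - k - 1) by omega, pow_add, hθ, zero_mul]
        calc _ = (-1 : R) ^ (i - 1) * (((Nat.factorial i : ℚ)⁻¹) • (4 : R) ^ i) * η ^ (g + 1 - i) * η ^ (k - 1) * (θ ^ i * θ ^ (g - k)) := by rw [ht]; ring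
          _ = 0 := by rw [h0, mul_zero]
    rw [step, hsum, ← Finset.sum_mul]
    have halt : ∑ i ∈ Finset.Ico 1 (k + 1), (-1 : R) ^ (i - 1) * (Nat.choose k i : R) = 1 := by
      have h := Int.alternating_sum_range_choose_of_ne (n := k) (by omega)
      rw [Finset.range_eq_Ico, Finset.sum_eq_sum_Ico_succ_bot (by omega)] at h
      have h2 : ((∑ i ∈ Finset.Ico 1 (k + 1), (-1 : ℤ) ^ (i - 1) * (Nat.choose k i : ℤ) : ℤ) : R) = 1 := by
        have : ∑ i ∈ Finset.Ico 1 (k + 1), (-1 : ℤ) ^ (i - 1) * (Nat.choose k i : ℤ) = -∑ i ∈ Finset.Ico 1 (k + 1), (-1 : ℤ) ^ i * (Nat.choose k i : ℤ) := by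
          rw [← Finset.sum_neg_distrib]
          refine Finset.sum_congr rfl fun i hi ↦ ?_
          rw [Finset.mem_Ico] at hi
          obtain ⟨j, rfl⟩ : ∃ j, i = j + 1 := ⟨i - 1, by omega⟩
          rw [Nat.add_sub_cancel, pow_succ]; ring
        rw [this]
        simp only [zero_add, Nat.choose_zero_right, pow_zero, one_mul, Nat.cast_one] at h
        rw [show -∑ i ∈ Finset.Ico 1 (k + 1), (-1 : ℤ) ^ i * (Nat.choose k i : ℤ) = 1 by linarith, Int.cast_one]
      simpa using h2
    rw [halt, one_mul]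

end Groth.Agent.S15229
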