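import Groth.Statements.S15231
import Groth.Agent.DRingKP.Nilp
import Groth.Agent.DRingKP.TorMore
import Mathlib.RingTheory.SimpleModule.Basic

set_option autoImplicit false
universe u
open CategoryTheory CategoryTheory.Limits
attribute [local instance] HasDerivedCategory.standard
open DRing

namespace Groth.Agent.S15231

/-- Let R be a Noetherian local commutative ring with residue field κ, let P be any object of D(R) and
a, b integers. Suppose that H^i(P ⊗^L_R κ) = 0 for every i outside [a, b] (over the field κ this
says exactly that P ⊗^L_R κ has tor amplitude in [a, b] as an object of D(κ)). Then for every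
R-module N of finite length, H^i(P ⊗^L_R N) = 0 for every i outside [a, b]. The derived base change
to κ and the derived tensor products with R-modules are the total left derived functors on D(R),
assumed to exist for every R-module (as they do). -/
theorem result (R : Type u) [CommRing R] [IsNoetherianRing R]
    [IsLocalRing R] [DRing.HasLBaseChange (IsLocalRing.residue R)] [∀ M : ModuleCat.{u} R, DRing.HasLTensor R M]
    (P : Dual.D R) (a b : ℤ)
    (h : ∀ i : ℤ, (i < a ∨ b < i) →
      Subsingleton (Dual.HD (IsLocalRing.ResidueField R) ((DRing.LBaseChange (IsLocalRing.residue R)).obj P) i))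
    (N : Type u) [AddCommGroup N] [Module R N] (hN : IsFiniteLength R N) (i : ℤ) (hi : i < a ∨ b < i) :
    Subsingleton (Dual.HD R ((DRing.LTensor R (ModuleCat.of R N)).obj P) i) := by
  obtain ⟨P', q, hP, hPf, hPt, hq⟩ := Groth.Agent.DRingKP.exists_kProj_kFlat_resolution (DerivedCategory.Q.objPreimage P)
  let eP : DRing.toD P' ≅ P := CategoryTheory.asIso (DerivedCategory.Q.map q) ≪≫ DerivedCategory.Q.objObjPreimageIso P
  let ψ := IsLocalRing.residue R
  let κ := IsLocalRing.ResidueField R
  have hk : CategoryTheory.Limits.IsZero ((((Groth.Agent.DRingKP.bc ψ).obj P')).homology i) := by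
    haveI : Subsingleton ((DerivedCategory.homologyFunctor (ModuleCat.{u} κ) i).obj ((DRing.LBaseChange ψ).obj P)) := h i hi
    exact CategoryTheory.Limits.IsZero.of_iso (ModuleCat.isZero_of_subsingleton _)
      (((DerivedCategory.homologyFunctorFactors (ModuleCat.{u} κ) i).app _).symm ≪≫
        (DerivedCategory.homologyFunctor (ModuleCat.{u} κ) i).mapIso
          ((Groth.Agent.DRingKP.lBaseChangeIso ψ P').symm ≪≫ (DRing.LBaseChange ψ).mapIso eP))
  have hres : CategoryTheory.Limits.IsZero (((Groth.Agent.DRingKP.tR ((ModuleCat.restrictScalars.{u} ψ).obj (ModuleCat.of κ κ))).obj P').homology i) := by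
    refine CategoryTheory.Limits.IsZero.of_iso ?_ ((HomologicalComplex.homologyFunctor _ _ i).mapIso
      (Groth.Agent.DRingKP.bcRestrictIso ψ P')).symm
    exact CategoryTheory.Limits.IsZero.of_iso ((ModuleCat.restrictScalars.{u} ψ).map_isZero hk)
      ((((Groth.Agent.DRingKP.bc ψ).obj P').sc i).mapHomologyIso (ModuleCat.restrictScalars.{u} ψ))
  have main : ∀ (M : Type u) [AddCommGroup M] [Module R M], IsFiniteLength R M →
      CategoryTheory.Limits.IsZero (((Groth.Agent.DRingKP.tR (ModuleCat.of R M)).obj P').homology i) := by
    intro M _ _ hM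
    induction hM with
    | @of_subsingleton M _ _ _ =>
      refine CategoryTheory.ShortComplex.isZero_homology_of_isZero_X₂ _ ?_
      exact (MonoidalCategory.tensorLeft (P'.X i)).map_isZero (ModuleCat.isZero_of_subsingleton (ModuleCat.of R M))
    | @of_simple_quotient M _ _ N' hs hN' ih =>
      let S := CategoryTheory.ShortComplex.mk (ModuleCat.ofHom N'.subtype) (ModuleCat.ofHom N'.mkQ)
        (ModuleCat.hom_ext (LinearMap.ext fun x => (Submodule.Quotient.mk_eq_zero N').2 x.2))
      have hS : S.ShortExact :=
        { exact := (CategoryTheory.ShortComplex.moduleCat_exact_iff_range_eq_ker S).2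
            ((Submodule.range_subtype N').trans (Submodule.ker_mkQ N').symm)
          mono_f := (ModuleCat.mono_iff_injective _).2 N'.subtype_injective
          epi_g := (ModuleCat.epi_iff_surjective _).2 N'.mkQ_surjective }
      refine Groth.Agent.DRingKP.isZero_tR_ext (S := S) hPt hS i ih ?_
      obtain ⟨m, hm, ⟨e⟩⟩ := isSimpleModule_iff_quot_maximal.mp hs
      have hm' : m = IsLocalRing.maximalIdeal R := IsLocalRing.eq_maximalIdeal hm
      subst hm'
      let eκ : ((ModuleCat.restrictScalars.{u} ψ).obj (ModuleCat.of κ κ)) ≃ₗ[R] R ⧸ IsLocalRing.maximalIdeal R :=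
        { toFun := fun (x : κ) => x, invFun := fun (x : R ⧸ IsLocalRing.maximalIdeal R) => x,
          left_inv := fun _ => rfl, right_inv := fun _ => rfl,
          map_add' := fun _ _ => rfl,
          map_smul' := fun a (x : R ⧸ IsLocalRing.maximalIdeal R) => (Algebra.smul_def a x).symm }
      refine hres.of_iso ((HomologicalComplex.homologyFunctor _ _ i).mapIso ?_)
      exact HomologicalComplex.Hom.isoOfComponents
        (fun n => (MonoidalCategory.tensorLeft (P'.X n)).mapIso (e.trans eκ.symm).toModuleIso)
        (fun a b _ => MonoidalCategory.whisker_exchange _ _)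
  haveI : Subsingleton (((Groth.Agent.DRingKP.tR (ModuleCat.of R N)).obj P').homology i) := ModuleCat.subsingleton_of_isZero (main N hN)
  exact ModuleCat.subsingleton_of_isZero (CategoryTheory.Limits.IsZero.of_iso (main N hN)
    ((DerivedCategory.homologyFunctor (ModuleCat.{u} R) i).mapIso ((DRing.LTensor R (ModuleCat.of R N)).mapIso eP.symm ≪≫
      Groth.Agent.DRingKP.lTensorIso (ModuleCat.of R N) P') ≪≫ (DerivedCategory.homologyFunctorFactors (ModuleCat.{u} R) i).app _))

end Groth.Agent.S15231
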