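import Groth.Statements.S15235
import Groth.Agent.MLTower.Basic
-- import your own Groth.Agent.* helpers here

set_option autoImplicit false
universe u
open CategoryTheory Opposite
open HomAlg3

namespace Groth.Agent.S15235

open CategoryTheory CategoryTheory.Limits Opposite

/-- Let (G_j) be an inverse system of abelian groups indexed by the natural numbers, with transition
maps G_{j+1} → G_j, and let j₀ be a natural number such that the transition map G_{j+1} → G_j is
surjective for every j ≥ j₀. Then: (a) the system satisfies the Mittag-Leffler condition; (b) the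
evaluation map from the inverse limit (realised as the set of compatible families) to G_{j₀} is
surjective; (c) if in addition the transition maps G_{j+1} → G_j are injective for every j ≥ j₀,
that evaluation map is bijective. (The published statement indexes the system by the negative
integers and assumes j₀ ≥ 1; this row indexes it by the natural numbers and allows j₀ = 0, which
changes nothing.) -/
theorem result (G : ℕᵒᵖ ⥤ AddCommGrpCat.{u})
    (j₀ : ℕ) (hs : ∀ j : ℕ, j₀ ≤ j → Function.Surjective (G.map (homOfLE (Nat.le_succ j)).op).hom) :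
    (G ⋙ forget AddCommGrpCat.{u}).IsMittagLeffler ∧
      Function.Surjective (fun s : (G ⋙ forget AddCommGrpCat.{u}).sections => s.1 (op j₀)) ∧
      ((∀ j : ℕ, j₀ ≤ j → Function.Injective (G.map (homOfLE (Nat.le_succ j)).op).hom) →
        Function.Bijective (fun s : (G ⋙ forget AddCommGrpCat.{u}).sections => s.1 (op j₀))) := by
  have hmap : ∀ {p q r : ℕ} (h₁ : p ≤ q) (h₂ : q ≤ r) (x : G.obj (op r)),
      (G.map (homOfLE h₁).op).hom ((G.map (homOfLE h₂).op).hom x) = (G.map (homOfLE (h₁.trans h₂)).op).hom x :=
    fun h₁ h₂ x => Groth.Agent.MLTower.map_map' G _ _ _ x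
  have hsurj : ∀ (p q : ℕ) (h : p ≤ q), j₀ ≤ p → Function.Surjective (G.map (homOfLE h).op).hom := by
    intro p q h hp
    induction q, h using Nat.le_induction with
    | base =>
      intro x
      refine ⟨x, ?_⟩
      exact ConcreteCategory.congr_hom (G.map_id (op p)) x
    | succ q h ih =>
      intro x
      obtain ⟨y, rfl⟩ := ih x
      obtain ⟨z, rfl⟩ := hs q (hp.trans h) y
      exact ⟨z, (hmap h (Nat.le_succ q) z).symm⟩
  have hML : (G ⋙ forget AddCommGrpCat.{u}).IsMittagLeffler := by
    intro j
    refine ⟨op (max j.unop j₀), (homOfLE (le_max_left _ _)).op, fun {k} g => ?_⟩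
    rintro _ ⟨x, rfl⟩
    obtain ⟨y, hy⟩ := hsurj (max j.unop j₀) (max (max j.unop j₀) k.unop) (le_max_left _ _) (le_max_right _ _) x
    refine ⟨(G.map (homOfLE (le_max_right (max j.unop j₀) k.unop)).op).hom y, ?_⟩
    change (G.map g).hom _ = (G.map _).hom x
    rw [← hy, Groth.Agent.MLTower.map_map' G _ g ((homOfLE ((le_max_left _ _).trans (le_max_left _ _))).op),
      Groth.Agent.MLTower.map_map' G _ _ ((homOfLE ((le_max_left _ _).trans (le_max_left _ _))).op)]
  have hsj : Function.Surjective (fun s : (G ⋙ forget AddCommGrpCat.{u}).sections => s.1 (op j₀)) := fun x =>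
    Groth.Agent.MLTower.exists_section_through _ ⟨Set.univ, Set.countable_univ, fun i => ⟨i, trivial, le_rfl⟩⟩
      hML j₀ x (Set.mem_iInter₂.2 fun k g => hsurj j₀ k.unop (leOfHom g.unop) le_rfl x)
  refine ⟨hML, hsj, fun hi => ⟨fun s t hst => ?_, hsj⟩⟩
  have hinj : ∀ (p q : ℕ) (h : p ≤ q), j₀ ≤ p → Function.Injective (G.map (homOfLE h).op).hom := by
    intro p q h hp
    induction q, h using Nat.le_induction with
    | base =>
      intro x y hxy
      exact ((ConcreteCategory.congr_hom (G.map_id (op p)) x).symm.trans hxy).trans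
        (ConcreteCategory.congr_hom (G.map_id (op p)) y)
    | succ q h ih =>
      intro x y hxy
      rw [← hmap h (Nat.le_succ q), ← hmap h (Nat.le_succ q)] at hxy
      exact hi q (hp.trans h) (ih hxy)
  refine Subtype.ext (funext fun k => ?_)
  have h1 : s.1 (op (max j₀ k.unop)) = t.1 (op (max j₀ k.unop)) :=
    hinj j₀ _ (le_max_left _ _) le_rfl ((s.2 _).trans (hst.trans (t.2 _).symm))
  rw [← s.2 (homOfLE (le_max_right j₀ k.unop)).op, ← t.2 (homOfLE (le_max_right j₀ k.unop)).op, h1]

end Groth.Agent.S15235
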