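import Groth.Statements.S15236
import Groth.Agent.VeryGen.Basic
import Groth.Agent.LimDesc.Tower
import Groth.Agent.LimModel.Main

set_option autoImplicit false
open CategoryTheory CategoryTheory.Limits AlgebraicGeometry
universe u
open Variety

set_option backward.isDefEq.respectTransparency false
set_option backward.isDefEq.respectTransparency.types false

namespace Groth.Agent.S15236

/-- Let k be an uncountable algebraically closed field of characteristic zero, T an integral k-scheme of
finite type and f : X → T a flat morphism of finite type. Then there are countably many closed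
subsets Z₀, Z₁, … of T, none of them equal to T, such that for every closed point t of T lying in no
Zₙ the fibre X_t = X ×_T Spec κ(t) is isomorphic, as a scheme, to the geometric generic fibre X ×_T
Spec L, where L is an algebraic closure of the residue field of T at its generic point (existence of
an isomorphism of schemes only; that such an isomorphism preserves rational equivalence of algebraic
cycles, as the published statement adds, is automatic and is not restated). (The published statement
fixes the countable family of closed subsets before the family X → T and allows any flat T-scheme X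
over any integral k-scheme T. Both fail: for T the affine line and X the spectrum of its function
field every closed fibre is empty while the geometric generic fibre is a point, and for any fixed
countable family of proper closed subsets of the affine line, X the complement of a closed point
outside all of them has an empty fibre there. This row takes T and f of finite type and lets the
closed subsets depend on f.) -/
theorem result (k : Type u) [Field k] [IsAlgClosed k]
    [CharZero k] [Uncountable k] (T X : Scheme.{u}) (sT : T ⟶ Spec (CommRingCat.of k)) [IsIntegral T]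
    [LocallyOfFiniteType sT] [QuasiCompact sT] (f : X ⟶ T) [Flat f] [LocallyOfFiniteType f]
    [QuasiCompact f] :
    ∃ Z : ℕ → TopologicalSpace.Closeds T, (∀ n, (Z n : Set T) ≠ Set.univ) ∧
      ∀ t : T, IsClosed ({t} : Set T) → (∀ n, t ∉ Z n) →
        Nonempty (f.fiber t ≅ pullback f (Spec.map (CommRingCat.ofHom (algebraMap
          (T.residueField (genericPoint T)) (AlgebraicClosure (T.residueField (genericPoint T))))) ≫
            T.fromSpecResidueField (genericPoint T))) := by
  classical
  let D := Groth.Agent.LimModel.fgDiagram k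
  let c := Groth.Agent.LimModel.fgCone k
  let hc := Groth.Agent.LimModel.fgIsLimit k
  haveI : IsCofiltered (Groth.Agent.LimModel.FgSub k)ᵒᵖ := isCofiltered_op_of_isFiltered _
  haveI : ∀ {i j : (Groth.Agent.LimModel.FgSub k)ᵒᵖ} (f : i ⟶ j), IsAffineHom (D.map f) := fun f =>
    inferInstanceAs (IsAffineHom ((Groth.Agent.LimModel.fgDiagram k).map f))
  haveI : ∀ i : (Groth.Agent.LimModel.FgSub k)ᵒᵖ, IsAffine (D.obj i) := fun i => inferInstanceAs (IsAffine (Spec _))
  haveI : ∀ i, CompactSpace (D.obj i) := fun i => inferInstance
  haveI : ∀ i, QuasiSeparatedSpace (D.obj i) := fun i => inferInstance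
  haveI : IsLocallyNoetherian (Spec (CommRingCat.of k)) := inferInstance
  haveI : IsLocallyNoetherian T := LocallyOfFiniteType.isLocallyNoetherian sT
  haveI : LocallyOfFinitePresentation sT := inferInstance
  haveI : LocallyOfFinitePresentation f := inferInstance
  haveI : IsLocallyNoetherian X := LocallyOfFiniteType.isLocallyNoetherian f
  let a : T ⟶ c.pt := sT
  haveI : LocallyOfFinitePresentation a := ‹LocallyOfFinitePresentation sT›
  haveI : QuasiCompact a := ‹QuasiCompact sT›
  haveI : QuasiSeparated a := inferInstanceAs (QuasiSeparated sT)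
  obtain ⟨i, T₁, g₁, qT, h1, h2, h3, h4⟩ := Groth.Agent.LimModel.exists_model D c hc a
  haveI := h1; haveI := h2; haveI := h3
  haveI : CompactSpace T₁ := QuasiCompact.compactSpace_of_compactSpace g₁
  haveI : QuasiSeparatedSpace T₁ := quasiSeparatedSpace_of_quasiSeparated g₁
  let D' := Groth.Agent.LimDesc.tower D g₁
  let c' := Groth.Agent.LimDesc.towerCone D g₁ c h4
  have hc' := Groth.Agent.LimDesc.isLimitTowerCone D g₁ c h4 hc
  haveI : ∀ j, CompactSpace (D'.obj j) := fun j => Groth.Agent.LimDesc.compactSpace_stage D g₁ j
  haveI : ∀ j, QuasiSeparatedSpace (D'.obj j) := fun j => Groth.Agent.LimDesc.quasiSeparatedSpace_stage D g₁ j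
  let b : X ⟶ c'.pt := f
  haveI : LocallyOfFinitePresentation b := ‹LocallyOfFinitePresentation f›
  haveI : QuasiCompact b := ‹QuasiCompact f›
  haveI : QuasiSeparated b := inferInstanceAs (QuasiSeparated f)
  obtain ⟨j, X₂, f₂, qX, -, -, -, h5⟩ := Groth.Agent.LimModel.exists_model D' c' hc' b
  let T₂ : Scheme.{u} := Groth.Agent.LimDesc.stage D g₁ j
  let π : T ⟶ T₂ := Groth.Agent.LimDesc.proj D g₁ c h4 j
  have hsq : IsPullback qX f f₂ π := h5
  let A₀ := j.left.unop.1
  let sT₂ : T₂ ⟶ Spec (CommRingCat.of A₀) := Groth.Agent.LimDesc.toStage D g₁ j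
  haveI : LocallyOfFinitePresentation sT₂ :=
    MorphismProperty.of_isPullback (P := @LocallyOfFinitePresentation) (Groth.Agent.LimDesc.isPullback_stage D g₁ j) h1
  haveI : Algebra.FiniteType ℤ A₀ := j.left.unop.1.fg_iff_finiteType.1 j.left.unop.2
  haveI : IsNoetherianRing A₀ := Algebra.FiniteType.isNoetherianRing ℤ A₀
  haveI : CompactSpace T₂ := Groth.Agent.LimDesc.compactSpace_stage D g₁ j
  have hA₀ : Cardinal.mk A₀ ≤ Cardinal.aleph0 := by
    obtain ⟨n, φ, hφ⟩ := Algebra.FiniteType.iff_quotient_mvPolynomial''.1 ‹Algebra.FiniteType ℤ A₀›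
    haveI : Countable (MvPolynomial (Fin n) ℤ) := Cardinal.mk_le_aleph0_iff.1
      (MvPolynomial.cardinalMk_le_max_lift.trans (by simp))
    haveI : Countable A₀ := hφ.countable
    exact Cardinal.mk_le_aleph0
  haveI : Countable T₂ := Groth.Agent.VeryGen.countable_points sT₂ hA₀
  let η₀ := π (genericPoint T)
  haveI : Nonempty T₂ := ⟨η₀⟩
  obtain ⟨en, hen⟩ := exists_surjective_nat T₂
  let Z : ℕ → TopologicalSpace.Closeds T := fun n =>
    if η₀ ∈ closure ({en n} : Set T₂) then ⊥ else ⟨π ⁻¹' closure {en n}, isClosed_closure.preimage π.continuous⟩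
  refine ⟨Z, fun n h => ?_, fun t ht hav => ?_⟩
  · by_cases hn : η₀ ∈ closure ({en n} : Set T₂)
    · simp only [Z, if_pos hn] at h
      exact Set.notMem_empty (genericPoint T) (by rw [← TopologicalSpace.Closeds.coe_bot, h]; trivial)
    · simp only [Z, if_neg hn] at h
      exact hn ((Set.ext_iff.1 h (genericPoint T)).2 trivial)
  have hπ : π t = η₀ := by
    obtain ⟨n, hn⟩ := hen (π t)
    have h6 : η₀ ∈ closure ({π t} : Set T₂) := by
      by_contra h7
      have := hav n
      simp only [Z, hn, if_neg h7] at this
      exact this (subset_closure rfl : π t ∈ closure {π t})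
    exact ((specializes_iff_mem_closure.2 h6).antisymm ((genericPoint_specializes t).map π.continuous)).eq
  haveI : Infinite k := Infinite.of_injective _ (Nat.cast_injective (R := k))
  haveI : IsAlgClosed (T.residueField t) :=
    IsAlgClosed.of_ringEquiv k _ (residueFieldIsoBase sT t ht).commRingCatIsoToRingEquiv.symm
  have hk : Cardinal.aleph0 < Cardinal.mk k := Cardinal.aleph0_lt_mk
  have hcard : Cardinal.mk (T.residueField t) = Cardinal.mk (AlgebraicClosure (T.residueField (genericPoint T))) := by
    rw [Groth.Agent.VeryGen.mk_residueField_eq sT t]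
    refine le_antisymm ?_ ?_
    · rw [← Groth.Agent.VeryGen.mk_residueField_eq sT (genericPoint T)]
      exact Cardinal.mk_le_of_injective (algebraMap _ _).injective
    · refine (Algebra.IsAlgebraic.cardinalMk_le_max (T.residueField (genericPoint T)) _).trans ?_
      rw [Groth.Agent.VeryGen.mk_residueField_eq sT (genericPoint T)]
      exact max_le le_rfl hk.le
  let φ₁ : T₂.residueField η₀ →+* T.residueField t :=
    ((T₂.residueFieldCongr hπ.symm).hom ≫ π.residueFieldMap t).hom
  let φ₂ : T₂.residueField η₀ →+* AlgebraicClosure (T.residueField (genericPoint T)) :=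
    (algebraMap _ _).comp (π.residueFieldMap (genericPoint T)).hom
  obtain ⟨σ, hσ⟩ := Groth.Agent.VeryGen.exists_ringEquiv_comp φ₁ φ₂
    ((Groth.Agent.VeryGen.mk_residueField_le sT₂ η₀).trans (max_le hA₀ le_rfl))
    (by rw [Groth.Agent.VeryGen.mk_residueField_eq sT t]; exact hk) hcard
  refine Groth.Agent.VeryGen.nonempty_pullback_iso hsq _ _ (Scheme.Spec.mapIso (σ.toCommRingCatIso.symm).op) ?_
  have e1 : T.fromSpecResidueField t ≫ π = Spec.map (CommRingCat.ofHom φ₁) ≫ T₂.fromSpecResidueField η₀ := by
    rw [← Scheme.Hom.SpecMap_residueFieldMap_fromSpecResidueField, CommRingCat.ofHom_hom, Spec.map_comp,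
      Category.assoc, Scheme.residueFieldCongr_fromSpecResidueField]
  have e2 : Spec.map (CommRingCat.ofHom φ₁) =
      Spec.map (CommRingCat.ofHom σ.symm.toRingHom) ≫ Spec.map (CommRingCat.ofHom φ₂) := by
    rw [← Spec.map_comp, ← CommRingCat.ofHom_comp]
    congr 2
    exact RingHom.ext fun r => σ.injective (by simpa using congrArg (fun g => g r) hσ)
  rw [e1, e2, Category.assoc, Category.assoc, ← Scheme.Hom.SpecMap_residueFieldMap_fromSpecResidueField,
    CommRingCat.ofHom_comp, Spec.map_comp, Category.assoc]
  rfl

end Groth.Agent.S15236
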