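import Groth.Statements.S15243
import Groth.Agent.AgfKleiman.Orbits2

set_option autoImplicit false
universe u
open CategoryTheory CategoryTheory.Limits MonoidalCategory CartesianMonoidalCategory MonObj GrpObj AlgebraicGeometry
open AGF
set_option backward.isDefEq.respectTransparency false

namespace Groth.Agent.S15243

/-- Let k be an algebraically closed field of characteristic zero, G a group variety over k (integral,
separated, of finite type k-group scheme) acting on a smooth variety X over k (integral, separated,
smooth of finite type) of dimension n with finitely many orbits (finitely many subsets of X arise as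
images of orbit maps of k-points), and let Y₁, Y₂ be closed irreducible subsets of X of
complementary dimensions r + s = n which meet every orbit closure properly: for every k-point x of X
with orbit O of dimension d (dimension of its closure), every irreducible component of Y₁ ∩
closure(O), resp. Y₂ ∩ closure(O), has dimension r + d − n, resp. s + d − n. Then for g in a
nonempty open subset of G the finite set g · Y₁ ∩ Y₂ lies in the open orbit: there is a nonempty
open V ⊆ G such that for every k-point g of G in V and every k-point x₀ of X whose orbit is open,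
the translate of Y₁ by g meets Y₂ only inside the orbit of x₀. (The published setting is over the
complex numbers with G affine; this row assumes an algebraically closed field of characteristic zero
and any group variety, which is all the printed argument uses.) -/
theorem result (k : Type u) [Field k] [IsAlgClosed k]
    [CharZero k] (G X : Over (Spec (CommRingCat.of k))) [GrpObj G] (a : AlgGrp.Action G X)
    [IsIntegral G.left] [IsSeparated G.hom] [LocallyOfFiniteType G.hom] [QuasiCompact G.hom]
    [IsIntegral X.left] [IsSeparated X.hom] [Smooth X.hom] [QuasiCompact X.hom]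
    (hfin : Set.Finite {S : Set ↥X.left | ∃ x : 𝟙_ (Over (Spec (CommRingCat.of k))) ⟶ X, S = Set.range ⇑(a.orbitMap x).left.base})
    (Y₁ Y₂ : Set ↥X.left) (h₁c : IsClosed Y₁) (h₁i : IsIrreducible Y₁) (h₂c : IsClosed Y₂) (h₂i : IsIrreducible Y₂)
    (n r s : ℕ) (hn : topologicalKrullDim ↥X.left = n) (hr : topologicalKrullDim ↥Y₁ = r)
    (hs : topologicalKrullDim ↥Y₂ = s) (hrs : r + s = n)
    (hproper : ∀ (x : 𝟙_ (Over (Spec (CommRingCat.of k))) ⟶ X) (d : ℕ), topologicalKrullDim ↥(closure (Set.range ⇑(a.orbitMap x).left.base)) = d →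
      (∀ C ∈ irreducibleComponents ↥(Y₁ ∩ closure (Set.range ⇑(a.orbitMap x).left.base)),
          n ≤ r + d ∧ topologicalKrullDim ↥C = ((r + d - n : ℕ) : WithBot ℕ∞)) ∧
      (∀ C ∈ irreducibleComponents ↥(Y₂ ∩ closure (Set.range ⇑(a.orbitMap x).left.base)),
          n ≤ s + d ∧ topologicalKrullDim ↥C = ((s + d - n : ℕ) : WithBot ℕ∞))) :
    ∃ V : G.left.Opens, (V : Set ↥G.left).Nonempty ∧
      ∀ σ : 𝟙_ (Over (Spec (CommRingCat.of k))) ⟶ G, Set.range ⇑σ.left.base ⊆ (V : Set ↥G.left) →
        ∀ x₀ : 𝟙_ (Over (Spec (CommRingCat.of k))) ⟶ X, IsOpen (Set.range ⇑(a.orbitMap x₀).left.base) →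
          ⇑(CartesianMonoidalCategory.lift (CartesianMonoidalCategory.toUnit X ≫ σ) (𝟙 X) ≫ a.act).left.base '' Y₁ ∩ Y₂ ⊆ Set.range ⇑(a.orbitMap x₀).left.base := by
  obtain ⟨V, hVne, hV⟩ := Groth.Agent.AgfKleiman.exists_open a hfin Y₁ Y₂ h₁c h₂c n r s hn
    (fun x d hd => (hproper x d hd).1) (fun x d hd => (hproper x d hd).2)
  refine ⟨V, hVne, fun σ hσ x₀ hx₀ p hp => ?_⟩
  obtain ⟨x, hx⟩ := Groth.Agent.AgfKleiman.exists_mem_orbit a hfin p
  obtain ⟨d, hdn, hd⟩ := Groth.Agent.AgfKleiman.exists_dim_closure a x hn
  obtain ⟨hle, -⟩ := hV σ hσ p hp x hx d hd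
  obtain rfl : d = n := by omega
  have ho := Groth.Agent.AgfKleiman.isOpen_orbit a (Groth.Agent.AgfKleiman.closure_orbit_eq_univ a hn hd)
  obtain ⟨q, -, hq, hq'⟩ := (IrreducibleSpace.isIrreducible_univ ↥X.left).2 _ _ ho hx₀
    ⟨p, trivial, hx⟩ ⟨(a.orbitMap x₀).left.base (genericPoint ↥G.left), trivial, _, rfl⟩
  have e := Groth.Agent.AgfKleiman.orbit_eq_of_mem a hq hq'
  exact (e ▸ hx : p ∈ Groth.Agent.GrpAct.orbit a x₀)

end Groth.Agent.S15243
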