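import Groth.Statements.S15244
import Groth.Agent.RootBase.BruhatSchubert
import Groth.Agent.S3952
import Groth.Agent.RootBase.BruhatSplit
-- import your own Groth.Agent.* helpers here

set_option autoImplicit false
universe u
open CategoryTheory CategoryTheory.Limits MonoidalCategory CartesianMonoidalCategory MonObj GrpObj AlgebraicGeometry
open RedSub

set_option backward.isDefEq.respectTransparency false

namespace Groth.Agent.S15244
set_option maxHeartbeats 1000000


/-- Let k be an algebraically closed field of characteristic zero and G a semisimple simply connected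
group over k, split by D (maximal torus T with character group M, root datum with roots indexed by
idx, root homomorphisms u_a), with the coroots spanning the dual lattice of M (simple
connectedness); let b be a system of simple roots, e⁺ an enumeration of the positive roots, so that
the image of (t, x) ↦ t · ∏ u_{e⁺ i}(x_i) is the Borel subgroup B, and n a family of k-points
realising the reflections. For a word l in idx write n_l for the product of the n's along l, w_l for
the corresponding Weyl group element acting on idx, and C(l) ⊆ G for the double coset B n_l B (the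
image of (b₁, b₂) ↦ b₁ n_l b₂). For w acting on idx let ℓ(w) be the number of positive roots a with
w a negative. Then for words l, l': C(l') is contained in the closure of C(l) in G — equivalently
the Schubert cell of w_{l'} lies in the closure of that of w_l in G/B — if and only if w_{l'} ≤ w_l
for the order generated (reflexively and transitively) by the steps w ↦ σ_γ w with γ a positive root
and ℓ(σ_γ w) = ℓ(w) + 1. (Here ℓ is taken as the number of inverted positive roots, which is the
length.) -/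
theorem result (k : Type u) [Field k] [IsAlgClosed k] [CharZero k]
    (G : Over (Spec (CommRingCat.of k))) [GrpObj G] (hG : Red.IsSemisimpleOver k G) (D : Red.SplitRed G)
    (hsc : Submodule.span ℤ (Set.range ⇑D.P.coroot) = ⊤)
    (b : D.P.Base) {m : ℕ} (epos : Fin m → D.idx) (hpos : RedSub.Enumerates (RedSub.posRoots D.P b) epos)
    (nr : D.idx → (𝟙_ (Over (Spec (CommRingCat.of k))) ⟶ G)) (hnr : RedSub.RealisesReflections D nr) (l l' : List D.idx) :
    Set.range ⇑((CartesianMonoidalCategory.fst (D.T ⊗ RedSub.pow (Red.Ga (Spec (CommRingCat.of k))) m) (D.T ⊗ RedSub.pow (Red.Ga (Spec (CommRingCat.of k))) m) ≫ RedSub.borelMap D epos) *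
          (CartesianMonoidalCategory.toUnit ((D.T ⊗ RedSub.pow (Red.Ga (Spec (CommRingCat.of k))) m) ⊗ (D.T ⊗ RedSub.pow (Red.Ga (Spec (CommRingCat.of k))) m)) ≫ (l'.map nr).prod) *
          (CartesianMonoidalCategory.snd (D.T ⊗ RedSub.pow (Red.Ga (Spec (CommRingCat.of k))) m) (D.T ⊗ RedSub.pow (Red.Ga (Spec (CommRingCat.of k))) m) ≫ RedSub.borelMap D epos)).left.base ⊆
      closure (Set.range ⇑((CartesianMonoidalCategory.fst (D.T ⊗ RedSub.pow (Red.Ga (Spec (CommRingCat.of k))) m) (D.T ⊗ RedSub.pow (Red.Ga (Spec (CommRingCat.of k))) m) ≫ RedSub.borelMap D epos) *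
          (CartesianMonoidalCategory.toUnit ((D.T ⊗ RedSub.pow (Red.Ga (Spec (CommRingCat.of k))) m) ⊗ (D.T ⊗ RedSub.pow (Red.Ga (Spec (CommRingCat.of k))) m)) ≫ (l.map nr).prod) *
          (CartesianMonoidalCategory.snd (D.T ⊗ RedSub.pow (Red.Ga (Spec (CommRingCat.of k))) m) (D.T ⊗ RedSub.pow (Red.Ga (Spec (CommRingCat.of k))) m) ≫ RedSub.borelMap D epos)).left.base) ↔
    Relation.ReflTransGen
      (fun u v : Equiv.Perm D.idx => ∃ c : D.idx, c ∈ RedSub.posRoots D.P b ∧ v = D.P.reflectionPerm c * u ∧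
        Set.ncard {a : D.idx | a ∈ RedSub.posRoots D.P b ∧ v a ∈ RedSub.negRoots D.P b} = Set.ncard {a : D.idx | a ∈ RedSub.posRoots D.P b ∧ u a ∈ RedSub.negRoots D.P b} + 1)
      (RedSub.wordPerm D.P l') (RedSub.wordPerm D.P l) := by
  letI := D.grpT
  letI := D.acgM
  letI := D.fintypeIdx
  letI := D.finiteM
  letI := D.freeM
  haveI := RootBase.isReduced_of_splitRed D
  have F := RootBase.frame_of_splitRed D
  haveI := F.hG.1
  haveI := F.hG.2.1
  haveI := F.hc.1
  haveI : IsAffine G.left := isAffine_of_isAffineHom G.hom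
  have hinv : D.split.hom.hom.hom ≫ D.split.inv.hom.hom = 𝟙 _ := congrArg (fun z => z.hom.hom) D.split.hom_inv_id
  have hinv' : D.split.inv.hom.hom ≫ D.split.hom.hom.hom = 𝟙 _ := congrArg (fun z => z.hom.hom) D.split.inv_hom_id
  have hn : RootBase.RealisesAll D.P (D.split.inv.hom.hom ≫ D.i) nr := by
    intro a X t
    have h := hnr a X (t ≫ D.split.inv.hom.hom)
    simp only [Category.assoc, reassoc_of% hinv'] at h
    rw [RootBase.cj, h, ← Category.assoc]
    congr 1
    refine HomDiag.ch_ext fun m => ?_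
    obtain ⟨m, rfl⟩ : ∃ j : D.M, Multiplicative.ofAdd j = m := ⟨m.toAdd, rfl⟩
    rw [HomDiag.ch_DSmap, toAdd_ofAdd, RootBase.ch_refl]
    congr 2
    show D.P.reflection a m = m - D.P.coroot a m • D.P.root a
    rw [D.P.reflection_apply]
    show m - D.P.toLinearMap m (D.P.coroot a) • D.P.root a = _
    rw [D.pairing_eq]
    rfl
  let A := D.T ⊗ RedSub.pow (Red.Ga (Spec (CommRingCat.of k))) m
  have hB : ∀ g : 𝟙_ (Over (Spec (CommRingCat.of k))) ⟶ G,
      g ∈ RootBase.BorelPts (D.split.inv.hom.hom ≫ D.i) D.u b (𝟙_ (Over (Spec (CommRingCat.of k)))) ↔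
        ∃ z : 𝟙_ (Over (Spec (CommRingCat.of k))) ⟶ A, z ≫ RedSub.borelMap D epos = g := by
    intro g
    obtain ⟨mu, hmp, -, hmu⟩ := RootBase.exists_pos_hom D.P b
    have e1 : RedSub.posRoots D.P b = {i | 0 < mu (D.P.root i)} := Set.ext fun i => (hmp i).symm
    constructor
    · intro hg
      obtain ⟨t, v, hv, rfl⟩ := F.exists_torus_unip hg
      rw [show {i | b.IsPos i} = {i | 0 < mu (D.P.root i)} from
        Set.ext fun i => ((hmp i).trans (RootSys.mem_posRoots_iff b i)).symm] at hv
      obtain ⟨y, rfl⟩ := F.exists_pow_of_mem_Gam mu epos (e1 ▸ hpos) hv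
      refine ⟨lift (t ≫ D.split.inv.hom.hom) y, ?_⟩
      simp only [RedSub.borelMap, MonObj.comp_mul, lift_fst_assoc, lift_snd_assoc, Category.assoc]
    · rintro ⟨z, rfl⟩
      have e2 : z ≫ RedSub.borelMap D epos = ((z ≫ fst _ _ ≫ D.split.hom.hom.hom) ≫ D.split.inv.hom.hom ≫ D.i) *
          ((z ≫ snd _ _) ≫ RedSub.prodMap (Red.Ga (Spec (CommRingCat.of k))) m fun j => D.u (epos j)) := by
        simp only [RedSub.borelMap, MonObj.comp_mul, Category.assoc, reassoc_of% hinv]
      rw [e2, RootBase.comp_prodMap_eq]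
      refine mul_mem (RootBase.torus_mem_BorelPts _) ?_
      refine RootBase.Gam_le_BorelPts (Ψ := {i | b.IsPos i}) (fun _ h => h) _ ?_
      exact RootBase.prod_mem_Gam (u := D.u) (e := epos) (fun j => (RootSys.mem_posRoots_iff b _).1 (hpos.2.subset ⟨j, rfl⟩))
        (fun j => (z ≫ snd _ _) ≫ RootBase.proj _ m j)
  haveI := (S3952.result D b epos hpos).1
  haveI hA : LocallyOfFiniteType A.hom := by
    rw [← Over.w (RedSub.borelMap D epos)]
    infer_instance
  haveI : LocallyOfFiniteType (A ⊗ A).hom :=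
    inferInstanceAs (LocallyOfFiniteType (Limits.pullback.fst A.hom A.hom ≫ A.hom))
  have hΦ : ∀ L : List D.idx, (Set.range fun z : 𝟙_ (Over (Spec (CommRingCat.of k))) ⟶ A ⊗ A =>
      z ≫ ((fst A A ≫ RedSub.borelMap D epos) * (toUnit (A ⊗ A) ≫ (L.map nr).prod) *
        (snd A A ≫ RedSub.borelMap D epos))) =
      RootBase.Cell (D.split.inv.hom.hom ≫ D.i) D.u b nr L := by
    intro L
    have hw : ∀ z : 𝟙_ (Over (Spec (CommRingCat.of k))) ⟶ A ⊗ A,
        z ≫ toUnit (A ⊗ A) ≫ (L.map nr).prod = RootBase.wpt (𝟙_ _) nr L := fun z => by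
      rw [RootBase.wpt_eq, ← Category.assoc, toUnit_unique (z ≫ toUnit (A ⊗ A)) (toUnit _)]
    ext g
    simp only [Set.mem_range, MonObj.comp_mul, hw]
    constructor
    · rintro ⟨z, rfl⟩
      exact ⟨_, (hB _).2 ⟨z ≫ fst A A, Category.assoc _ _ _⟩, _, (hB _).2 ⟨z ≫ snd A A, Category.assoc _ _ _⟩, rfl⟩
    · rintro ⟨b₁, hb₁, b₂, hb₂, rfl⟩
      obtain ⟨z₁, rfl⟩ := (hB _).1 hb₁
      obtain ⟨z₂, rfl⟩ := (hB _).1 hb₂
      exact ⟨lift z₁ z₂, by rw [lift_fst_assoc, lift_snd_assoc]⟩
  rw [RootBase.range_subset_closure_iff, hΦ l]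
  refine Iff.trans ?_ ((F.cell_subset_iff (B := b) D.pairing_eq hn hsc l l').trans ?_)
  · rw [← hΦ l']
    exact ⟨fun h => by rintro _ ⟨z, rfl⟩; exact h z, fun h z => h ⟨z, rfl⟩⟩
  · constructor <;> refine fun h => Relation.ReflTransGen.mono (fun u v => ?_) _ _ h
    · rintro ⟨c, hc, hv, hlen⟩
      exact ⟨c, (RootSys.mem_posRoots_iff b c).2 hc, hv, by rw [RootBase.invLen_eq, RootBase.invLen_eq]; exact hlen⟩
    · rintro ⟨c, hc, hv, hlen⟩
      rw [RootBase.invLen_eq, RootBase.invLen_eq] at hlen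
      exact ⟨c, (RootSys.mem_posRoots_iff b c).1 hc, hv, hlen⟩

end Groth.Agent.S15244
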