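import Groth.Statements.S15245
import Groth.Agent.RootSys.PosRoots

set_option autoImplicit false
universe u
open CategoryTheory AlgebraicGeometry
open RedSub

namespace Groth.Agent.S15245

/-- Let Φ be a finite reduced root system (a reduced root pairing over ℤ on a finite index set) with a
base b, w an element of its Weyl group, given as the product of the reflections along a word l and
acting on the roots, and γ a positive root. Writing ℓ(u) for the number of positive roots a with
u(a) negative, one has ℓ(w) < ℓ(σ_γ w) if and only if w⁻¹(γ) is positive. (Here the length is taken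
as the number of inverted positive roots.) -/
theorem result {idx M N : Type}
    [AddCommGroup M] [AddCommGroup N] [Finite idx]
    (P : RootPairing idx ℤ M N) [P.IsReduced] (b : P.Base) (l : List idx) (c : idx)
    (hc : c ∈ RedSub.posRoots P b) :
    Set.ncard {a : idx | a ∈ RedSub.posRoots P b ∧ RedSub.wordPerm P l a ∈ RedSub.negRoots P b} <
        Set.ncard {a : idx | a ∈ RedSub.posRoots P b ∧
          (P.reflectionPerm c * RedSub.wordPerm P l) a ∈ RedSub.negRoots P b} ↔
      (RedSub.wordPerm P l)⁻¹ c ∈ RedSub.posRoots P b := by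
  classical
  let N : List idx → Set idx := fun l => {a : idx | b.IsPos a ∧ ¬ b.IsPos (RedSub.wordPerm P l a)}
  have hset : ∀ e : Equiv.Perm idx, {a : idx | a ∈ RedSub.posRoots P b ∧ e a ∈ RedSub.negRoots P b} =
      {a : idx | b.IsPos a ∧ ¬ b.IsPos (e a)} := fun e => by
    ext a; simp [RootSys.mem_posRoots_iff, RootSys.mem_negRoots_iff]
  have hcons : P.reflectionPerm c * RedSub.wordPerm P l = RedSub.wordPerm P (c :: l) := by
    simp [RedSub.wordPerm]
  rw [hset, hset, hcons, RootSys.mem_posRoots_iff]
  rw [RootSys.mem_posRoots_iff] at hc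
  have hht : ∀ i j, b.height (P.reflectionPerm j i) = b.height i - P.pairing i j * b.height j := by
    intro i j
    rw [RootPairing.Base.height_add_zsmul (b := b) (i := i) (j := j) (z := -P.pairing i j)
      (k := P.reflectionPerm j i) (by rw [P.root_reflectionPerm, P.reflection_apply_root, neg_smul, sub_eq_add_neg])]
    rw [smul_eq_mul]; ring
  have hself : ∀ j, b.height (P.reflectionPerm j j) = -b.height j := fun j => by
    rw [hht, P.pairing_same]; ring
  have key : ∀ l' : List idx, b.IsPos ((RedSub.wordPerm P l').symm c) →
      (N l').ncard < (N (c :: l')).ncard := by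
    intro l' hpos
    set w := RedSub.wordPerm P l' with hw
    set d := w.symm c with hd
    have hwd : w d = c := w.apply_symm_apply c
    have hw' : ∀ a, RedSub.wordPerm P (c :: l') a = P.reflectionPerm c (w a) := fun a => by
      simp [RedSub.wordPerm, hw]
    have hwr : ∀ a, w (P.reflectionPerm d a) = P.reflectionPerm c (w a) := fun a => by
      have := congrArg (fun e : Equiv.Perm idx => e a) (RootSys.wordPerm_mul_reflectionPerm (P := P) l' d)
      simpa [← hw, hwd] using this
    have hdmem : d ∈ N (c :: l') \ N l' := by
      refine ⟨⟨hpos, ?_⟩, fun h => h.2 (by rw [← hw, hwd]; exact hc)⟩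
      rw [hw', hwd, RootPairing.Base.isPos_iff, hself]
      rw [RootPairing.Base.isPos_iff] at hc
      omega
    have hmaps : Set.MapsTo (P.reflectionPerm d) (N l' \ N (c :: l')) ((N (c :: l') \ N l') \ {d}) := by
      rintro a ⟨⟨ha, hwa⟩, ha2⟩
      rw [← hw] at hwa
      have hswa : b.IsPos (P.reflectionPerm c (w a)) := by
        by_contra hn
        exact ha2 ⟨ha, by rwa [hw']⟩
      have hn : P.pairing (w a) c < 0 := by
        rw [RootPairing.Base.isPos_iff, hht] at hswa
        rw [RootPairing.Base.isPos_iff] at hwa hc
        by_contra hn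
        have := mul_nonneg (not_lt.mp hn) hc.le
        omega
      have hn' : P.pairing a d < 0 := by
        rw [← hwd, hw, ← RootSys.smul_eq_wordPerm, ← RootSys.smul_eq_wordPerm, RootSys.gpairing_smul] at hn
        exact hn
      have ha' : b.IsPos (P.reflectionPerm d a) := by
        rw [RootPairing.Base.isPos_iff, hht]
        rw [RootPairing.Base.isPos_iff] at ha hpos
        have := mul_pos (neg_pos.mpr hn') hpos
        linarith
      refine ⟨⟨⟨ha', ?_⟩, fun h => h.2 (by rw [← hw, hwr]; exact hswa)⟩, fun h => ?_⟩
      · rw [hw', hwr, P.reflectionPerm_self]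
        exact hwa
      · rw [Set.mem_singleton_iff] at h
        have e : a = P.reflectionPerm d d := by
          have := congrArg (P.reflectionPerm d) h
          rwa [P.reflectionPerm_self] at this
        rw [e, RootPairing.Base.isPos_iff, hself] at ha
        rw [RootPairing.Base.isPos_iff] at hpos
        omega
    have h1 := Set.ncard_le_ncard_of_injOn (P.reflectionPerm d) hmaps
      ((P.reflectionPerm d).injective.injOn) (Set.toFinite _)
    have h2 : ((N (c :: l') \ N l') \ {d}).ncard < (N (c :: l') \ N l').ncard :=
      Set.ncard_sdiff_singleton_lt_of_mem hdmem (Set.toFinite _)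
    exact (Set.ncard_lt_ncard_iff_ncard_sdiff_lt_ncard_sdiff (Set.toFinite _) (Set.toFinite _)).mpr
      (lt_of_le_of_lt h1 h2)
  refine ⟨fun hlt => ?_, fun h => key l h⟩
  by_contra hn
  have hcl : (RedSub.wordPerm P (c :: l)).symm c = (RedSub.wordPerm P l).symm (P.reflectionPerm c c) := by
    rw [← hcons, Equiv.Perm.mul_def, Equiv.symm_trans_apply, P.reflectionPerm_symm]
  have hopp : P.reflectionPerm ((RedSub.wordPerm P l).symm c) ((RedSub.wordPerm P l).symm c) =
      (RedSub.wordPerm P l).symm (P.reflectionPerm c c) := by
    rw [Equiv.eq_symm_apply, ← Equiv.Perm.mul_apply, RootSys.wordPerm_mul_reflectionPerm,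
      Equiv.Perm.mul_apply, Equiv.apply_symm_apply]
  have h2 : b.IsPos ((RedSub.wordPerm P (c :: l)).symm c) := by
    rw [hcl, ← hopp, RootPairing.Base.isPos_iff, hself]
    have h0 := b.height_ne_zero ((RedSub.wordPerm P l).symm c)
    have hn' : ¬ 0 < b.height ((RedSub.wordPerm P l).symm c) := hn
    omega
  have h3 := key (c :: l) h2
  have e : RedSub.wordPerm P (c :: c :: l) = RedSub.wordPerm P l := by
    refine Equiv.ext fun x => ?_
    simp [RedSub.wordPerm]
  have hN : N (c :: c :: l) = N l := by simp only [N, e]
  rw [hN] at h3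
  exact lt_asymm hlt h3

end Groth.Agent.S15245
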