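import Groth.Statements.S15246
import Groth.Agent.AgfKleiman.Orbits2

set_option autoImplicit false
universe u
open CategoryTheory CategoryTheory.Limits MonoidalCategory CartesianMonoidalCategory MonObj GrpObj AlgebraicGeometry
open AGF
set_option backward.isDefEq.respectTransparency false

namespace Groth.Agent.S15246

/-- Let k be an algebraically closed field of characteristic zero, G a group variety over k (integral,
separated, of finite type k-group scheme) acting on a smooth variety X over k (integral, separated,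
smooth of finite type) of dimension n with finitely many orbits (finitely many subsets of X arise as
images of orbit maps of k-points), and let Y₁, Y₂ be closed irreducible subsets of X of dimensions r
and s which meet every orbit closure properly: for every k-point x of X whose orbit closure has
dimension d, every irreducible component of Y₁ ∩ closure(orbit), resp. Y₂ ∩ closure(orbit), has
dimension r + d − n, resp. s + d − n. Then there is a nonempty open V ⊆ G such that for every
k-point g of G lying in V the translate g · Y₁ meets Y₂ properly — every irreducible component of g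
· Y₁ ∩ Y₂ has dimension r + s − n — and g · Y₁ ∩ Y₂ meets every orbit closure properly — for every
k-point x whose orbit closure has dimension d, every irreducible component of (g · Y₁ ∩ Y₂) ∩
closure(orbit) has dimension r + s + d − 2n. (The published statement also asserts multiplicity one
along each component of g · Y₁ ∩ Y₂, which is not stated here. The published setting is over the
complex numbers with G affine; this row assumes an algebraically closed field of characteristic zero
and any group variety, which is all the printed argument uses.) -/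
theorem result (k : Type u) [Field k] [IsAlgClosed k]
    [CharZero k] (G X : Over (Spec (CommRingCat.of k))) [GrpObj G] (a : AlgGrp.Action G X)
    [IsIntegral G.left] [IsSeparated G.hom] [LocallyOfFiniteType G.hom] [QuasiCompact G.hom]
    [IsIntegral X.left] [IsSeparated X.hom] [Smooth X.hom] [QuasiCompact X.hom]
    (hfin : Set.Finite {S : Set ↥X.left | ∃ x : 𝟙_ (Over (Spec (CommRingCat.of k))) ⟶ X, S = Set.range ⇑(a.orbitMap x).left.base})
    (Y₁ Y₂ : Set ↥X.left) (h₁c : IsClosed Y₁) (h₁i : IsIrreducible Y₁) (h₂c : IsClosed Y₂) (h₂i : IsIrreducible Y₂)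
    (n r s : ℕ) (hn : topologicalKrullDim ↥X.left = n) (hr : topologicalKrullDim ↥Y₁ = r)
    (hs : topologicalKrullDim ↥Y₂ = s)
    (hproper : ∀ (x : 𝟙_ (Over (Spec (CommRingCat.of k))) ⟶ X) (d : ℕ), topologicalKrullDim ↥(closure (Set.range ⇑(a.orbitMap x).left.base)) = d →
      (∀ C ∈ irreducibleComponents ↥(Y₁ ∩ closure (Set.range ⇑(a.orbitMap x).left.base)),
          n ≤ r + d ∧ topologicalKrullDim ↥C = ((r + d - n : ℕ) : WithBot ℕ∞)) ∧
      (∀ C ∈ irreducibleComponents ↥(Y₂ ∩ closure (Set.range ⇑(a.orbitMap x).left.base)),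
          n ≤ s + d ∧ topologicalKrullDim ↥C = ((s + d - n : ℕ) : WithBot ℕ∞))) :
    ∃ V : G.left.Opens, (V : Set ↥G.left).Nonempty ∧
      ∀ σ : 𝟙_ (Over (Spec (CommRingCat.of k))) ⟶ G, Set.range ⇑σ.left.base ⊆ (V : Set ↥G.left) →
        (∀ C ∈ irreducibleComponents ↥(⇑(CartesianMonoidalCategory.lift (CartesianMonoidalCategory.toUnit X ≫ σ) (𝟙 X) ≫ a.act).left.base '' Y₁ ∩ Y₂),
          n ≤ r + s ∧ topologicalKrullDim ↥C = ((r + s - n : ℕ) : WithBot ℕ∞)) ∧
        ∀ (x : 𝟙_ (Over (Spec (CommRingCat.of k))) ⟶ X) (d : ℕ), topologicalKrullDim ↥(closure (Set.range ⇑(a.orbitMap x).left.base)) = d →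
          ∀ C ∈ irreducibleComponents ↥((⇑(CartesianMonoidalCategory.lift (CartesianMonoidalCategory.toUnit X ≫ σ) (𝟙 X) ≫ a.act).left.base '' Y₁ ∩ Y₂) ∩ closure (Set.range ⇑(a.orbitMap x).left.base)),
            2 * n ≤ r + s + d ∧ topologicalKrullDim ↥C = ((r + s + d - 2 * n : ℕ) : WithBot ℕ∞) := by
  obtain ⟨V, hVne, hV⟩ := Groth.Agent.AgfKleiman.exists_open a hfin Y₁ Y₂ h₁c h₂c n r s hn
    (fun x d hd => (hproper x d hd).1) (fun x d hd => (hproper x d hd).2)
  refine ⟨V, hVne, fun σ hσ => ?_⟩
  haveI : IsIso (Groth.Agent.GrpAct.actIso a σ).hom.left :=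
    ((Over.forget _).mapIso (Groth.Agent.GrpAct.actIso a σ)).isIso_hom
  set M := ⇑(Groth.Agent.GrpAct.actIso a σ).hom.left.base '' Y₁ ∩ Y₂ with hM
  have hMc : IsClosed M :=
    ((Groth.Agent.GrpAct.actIso a σ).hom.left.isClosedEmbedding.isClosedMap _ h₁c).inter h₂c
  have key : ∀ (x : 𝟙_ (Over (Spec (CommRingCat.of k))) ⟶ X) (d : ℕ),
      topologicalKrullDim ↥(closure (Groth.Agent.GrpAct.orbit a x)) = d →
      ∀ C ∈ irreducibleComponents ↥(M ∩ closure (Groth.Agent.GrpAct.orbit a x)),
        2 * n ≤ r + s + d ∧ topologicalKrullDim ↥C = ((r + s + d - 2 * n : ℕ) : WithBot ℕ∞) := by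
    intro x d hd C hC
    obtain ⟨hi, hc, hsub, hmax⟩ := Groth.Agent.AgfKleiman.irreducibleComponents_val (hMc.inter isClosed_closure) hC
    obtain ⟨h₁, h₂⟩ := Groth.Agent.AgfKleiman.dim_inter_closure a hfin Y₁ Y₂ h₁c h₂c h₂i n r s hn hs
      (fun x d hd => (hproper x d hd).1) σ (hV σ hσ) x d hd _ hi hc hsub hmax
    exact ⟨h₁, (Topology.IsEmbedding.subtypeVal.homeomorphImage C).isHomeomorph.topologicalKrullDim_eq.trans h₂⟩
  refine ⟨fun C hC => ?_, key⟩
  obtain ⟨x, hx⟩ := Groth.Agent.AgfKleiman.exists_mem_orbit a hfin (genericPoint ↥X.left)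
  have hu : closure (Groth.Agent.GrpAct.orbit a x) = Set.univ :=
    Set.eq_univ_of_univ_subset ((genericPoint_spec ↥X.left).def ▸ closure_mono (Set.singleton_subset_iff.2 hx))
  have hd : topologicalKrullDim ↥(closure (Groth.Agent.GrpAct.orbit a x)) = n := by
    rw [hu, ← hn]; exact (Homeomorph.Set.univ _).isHomeomorph.topologicalKrullDim_eq
  have k' := key x n hd
  rw [hu, Set.inter_univ] at k'
  obtain ⟨h₁, h₂⟩ := k' C hC
  refine ⟨by omega, h₂.trans ?_⟩
  congr 1
  omega

end Groth.Agent.S15246
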