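import Groth.Statements.S1525
import Groth.Agent.Nakai.FlatEuler
import Groth.Agent.Devissage.Apply2
import Groth.Agent.RDerLib.LES
import Groth.Agent.FibVan.Stalk
import Groth.Agent.S0036
import Groth.Agent.CohFinite.RPushVanish

set_option autoImplicit false
set_option backward.isDefEq.respectTransparency false
set_option linter.style.haveILetI false
universe u
open CategoryTheory CategoryTheory.Limits AlgebraicGeometry
open Variety

namespace Groth.Agent.S1525

noncomputable section


open Groth.Agent.SiteCoh (DirectAcyclic)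

variable {k : Type u} [Field k] {X : Scheme.{u}} [X.Over (Spec (CommRingCat.of k))]
  [IsProper (X ↘ Spec (CommRingCat.of k))]

omit [IsProper (X ↘ Spec (CommRingCat.of k))] in
theorem euler_of_isZero {M : X.Modules} (hM : IsZero M) : Curv2.euler k X M = 0 := by
  refine finsum_eq_zero_of_forall_eq_zero fun i => ?_
  haveI : Subsingleton (Coh.HH X M i) :=
    CohFinite.subsingleton_of_split M (fun e : Fin 0 => e.elim0) (fun e => e.elim0) (fun e => e.elim0)
      (hM.eq_of_src _ _) i fun e => e.elim0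
  rw [Module.finrank_zero_of_subsingleton]
  simp

include k in
theorem isCoh_image {A B : X.Modules} (hA : Coh.IsCoh A) (hB : Coh.IsCoh B) (φ : A ⟶ B) :
    Coh.IsCoh (Abelian.image φ) :=
  haveI := CurveRR.isNoetherian_of_proper k X
  QC.isCoh_kernel hB (QC.isQCoh_cokernel hA.1 hB.1 φ) _

theorem euler_split {A B : X.Modules} (hA : Coh.IsCoh A) (hB : Coh.IsCoh B) (φ : A ⟶ B) :
    Curv2.euler k X A = Curv2.euler k X (kernel φ) + Curv2.euler k X (Abelian.image φ) := by
  haveI := CurveRR.isNoetherian_of_proper k X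
  exact CurveRR.euler_add (k := k)
    (S := ShortComplex.mk (kernel.ι φ) (Abelian.factorThruImage φ) (by
      rw [← cancel_mono (Abelian.image.ι φ), Category.assoc, Abelian.image.fac, kernel.condition, zero_comp]))
    { exact := by
        let S' := ShortComplex.mk (kernel.ι φ) (Abelian.factorThruImage φ) (by
          rw [← cancel_mono (Abelian.image.ι φ), Category.assoc, Abelian.image.fac, kernel.condition, zero_comp])
        let ψ : S' ⟶ ShortComplex.mk (kernel.ι φ) φ (kernel.condition φ) :=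
          { τ₁ := 𝟙 _, τ₂ := 𝟙 _, τ₃ := Abelian.image.ι φ }
        exact (ShortComplex.exact_iff_of_epi_of_isIso_of_mono ψ).2
          (ShortComplex.exact_of_f_is_kernel _ (kernelIsKernel φ)) }
    (QC.isCoh_kernel hA hB.1 φ) hA (isCoh_image (k := k) hA hB φ)

omit [IsProper (X ↘ Spec (CommRingCat.of k))] in
theorem euler_exact {S : ShortComplex X.Modules} (hS : S.Exact) :
    Curv2.euler k X (Abelian.image S.f) = Curv2.euler k X (kernel S.g) := by
  haveI := hS.isIso_imageToKernel'
  exact CurveRR.euler_eq_of_iso ((Abelian.imageIsoImage S.f) ≪≫ asIso (imageToKernel' S.f S.g S.zero))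

variable {Y : Scheme.{u}} [Y.Over (Spec (CommRingCat.of k))] [IsProper (Y ↘ Spec (CommRingCat.of k))]

variable (k) in
/-- The alternating sum of the Euler characteristics of the higher direct images. -/
def pushEuler (f : Y ⟶ X) [HasInjectiveResolutions Y.Modules] (N : ℕ) (G : Y.Modules) : ℤ :=
  ∑ i ∈ Finset.range N, (-1 : ℤ) ^ i * Curv2.euler k X ((Coh.Rpush f i).obj G)

theorem pushEuler_add (f : Y ⟶ X) [IsProper f] [HasInjectiveResolutions Y.Modules] (N : ℕ)
    (hN : ∀ G : Y.Modules, Coh.IsCoh G → IsZero ((Coh.Rpush f N).obj G))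
    {S : ShortComplex Y.Modules} (hS : S.ShortExact) (h₁ : Coh.IsCoh S.X₁) (h₂ : Coh.IsCoh S.X₂)
    (h₃ : Coh.IsCoh S.X₃) : pushEuler k f N S.X₂ = pushEuler k f N S.X₁ + pushEuler k f N S.X₃ := by
  haveI := CurveRR.isNoetherian_of_proper k X
  let T := RDerLib.res hS
  let F := Scheme.Modules.pushforward f
  have hc : ∀ {M : Y.Modules}, Coh.IsCoh M → ∀ i, Coh.IsCoh ((Coh.Rpush f i).obj M) :=
    fun hM i => Groth.Agent.S0036.result f _ hM i
  let a : ℕ → ℤ := fun i => Curv2.euler k X (kernel ((Coh.Rpush f i).map S.f))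
  have ha0 : a 0 = 0 := by
    refine euler_of_isZero ?_
    haveI := hS.mono_f
    haveI : PreservesFiniteLimits F :=
      haveI : F.IsRightAdjoint := (Scheme.Modules.pullbackPushforwardAdjunction f).isRightAdjoint
      inferInstance
    haveI : Mono ((Coh.Rpush f 0).map S.f) :=
      ((MorphismProperty.monomorphisms _).arrow_mk_iso_iff (((Functor.mapArrowFunctor _ _).mapIso F.rightDerivedZeroIsoSelf).app (Arrow.mk S.f))).2 (inferInstanceAs (Mono (F.map S.f)))
    exact isZero_kernel_of_mono _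
  have hstep : ∀ i, Curv2.euler k X ((Coh.Rpush f i).obj S.X₁) + Curv2.euler k X ((Coh.Rpush f i).obj S.X₃) -
      Curv2.euler k X ((Coh.Rpush f i).obj S.X₂) = a i + a (i + 1) := fun i => by
    have e1 := euler_split (k := k) (hc h₁ i) (hc h₂ i) ((Coh.Rpush f i).map S.f)
    have e2 := euler_split (k := k) (hc h₂ i) (hc h₃ i) ((Coh.Rpush f i).map S.g)
    have e3 := euler_split (k := k) (hc h₃ i) (hc h₁ (i + 1)) (T.delta F i (i + 1) rfl)
    have f1 := euler_exact (k := k) (RDerLib.exact₂ F T i)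
    have f2 := euler_exact (k := k) (RDerLib.exact₃ F T i (i + 1) rfl)
    have f3 := euler_exact (k := k) (RDerLib.exact₁ F T i (i + 1) rfl)
    simp only [a]
    dsimp only [Coh.Rpush, F] at *
    linarith
  have haN : a N = 0 := by
    have hz := hN _ h₁
    exact euler_of_isZero (IsZero.of_mono (kernel.ι _) hz)
  have key : ∀ m : ℕ, ∑ i ∈ Finset.range m, (-1 : ℤ) ^ i * (Curv2.euler k X ((Coh.Rpush f i).obj S.X₁) +
      Curv2.euler k X ((Coh.Rpush f i).obj S.X₃) - Curv2.euler k X ((Coh.Rpush f i).obj S.X₂)) =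
      a 0 - (-1 : ℤ) ^ m * a m := fun m => by
    induction m with
    | zero => simp
    | succ m ih => rw [Finset.sum_range_succ, ih, hstep, pow_succ]; ring
  have := key N
  rw [ha0, haN, mul_zero, sub_zero] at this
  simp only [mul_sub, mul_add, Finset.sum_sub_distrib, Finset.sum_add_distrib] at this
  simp only [pushEuler]
  linarith

omit [Y.Over (Spec (CommRingCat.of k))] [IsProper (Y ↘ Spec (CommRingCat.of k))] in
theorem pushEuler_coprod (f : Y ⟶ X) [IsProper f] [HasInjectiveResolutions Y.Modules] (N : ℕ)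
    {G : Y.Modules} (hG : Coh.IsCoh G) (d : ℕ) :
    pushEuler k f N (∐ fun _ : Fin d => G) = d * pushEuler k f N G := by
  haveI := CurveRR.isNoetherian_of_proper k X
  rw [pushEuler, pushEuler, Finset.mul_sum]
  refine Finset.sum_congr rfl fun i _ => ?_
  rw [CurveRR.euler_eq_of_iso ((asIso (sigmaComparison (Coh.Rpush f i) fun _ : Fin d => G)).symm),
    EulerMult.euler_coprod (k := k) _ (Groth.Agent.S0036.result f _ hG i) d]
  ring

set_option maxHeartbeats 1000000 in
/-- For a morphism f : Y → X of proper schemes over a field and a coherent module G on Y, χ(Y, G) equals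
the alternating sum over i of χ(X, R^i f_* G) (a finite sum, written here as a finitary sum). -/
theorem result (k : Type u) [Field k] (X Y : Scheme.{u})
    [X.Over (Spec (CommRingCat.of k))] [Y.Over (Spec (CommRingCat.of k))] [IsProper (X ↘ (Spec (CommRingCat.of k)))] [IsProper (Y ↘ (Spec (CommRingCat.of k)))]
    (f : Y ⟶ X) (hf : f ≫ (X ↘ (Spec (CommRingCat.of k))) = Y ↘ (Spec (CommRingCat.of k))) [HasInjectiveResolutions Y.Modules]
    (G : Y.Modules) (hG : Coh.IsCoh G) :
    Curv2.euler k Y G = ∑ᶠ i : ℕ, (-1 : ℤ) ^ i * Curv2.euler k X ((Coh.Rpush f i).obj G) := by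
  classical
  haveI := CurveRR.isNoetherian_of_proper k X
  haveI := CurveRR.isNoetherian_of_proper k Y
  haveI : IsProper (f ≫ (X ↘ Spec (CommRingCat.of k))) := hf.symm ▸ inferInstance
  haveI : IsProper f := IsProper.of_comp f (X ↘ Spec (CommRingCat.of k))
  obtain ⟨d, hd⟩ := Nakai.exists_dim_bound k (X := Y)
  have hzero : ∀ (M : Y.Modules), Coh.IsCoh M → ∀ i, d < i → IsZero ((Coh.Rpush f i).obj M) := fun M hM i hi => by
    haveI : Coh.IsQCoh M := hM.1
    obtain ⟨ε⟩ := CohQC.toAb_rpush_iso f M i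
    exact CohQC.isZero_of_isZero_toAb ((FibVan.isZero_rpushAb f d
      (fun x => ((f.fiberι x).isEmbedding.isInducing.topologicalKrullDim_le).trans hd) M i hi).of_iso ε)
  have hR : ∀ M : Y.Modules, Coh.IsCoh M → (∑ᶠ i : ℕ, (-1 : ℤ) ^ i * Curv2.euler k X ((Coh.Rpush f i).obj M)) =
      pushEuler k f (d + 1) M := fun M hM => by
    refine finsum_eq_sum_of_support_subset _ fun i hi => ?_
    rw [Function.mem_support] at hi
    rw [Finset.coe_range, Set.mem_Iio]
    by_contra hlt
    exact hi (by rw [euler_of_isZero (hzero M hM i (by omega)), mul_zero])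
  rw [hR G hG]
  rcases isEmpty_or_nonempty Y with hY | hY
  · have hz : IsZero G := GrT.isZero_modules_of_subsingleton fun U s =>
      Groth.Agent.QC.section_eq_of_locally fun x _ => (IsEmpty.false x).elim
    rw [euler_of_isZero hz, pushEuler, Finset.sum_eq_zero]
    exact fun i _ => by rw [euler_of_isZero (Functor.map_isZero _ hz), mul_zero]
  have hiso : ∀ M M' : Y.Modules, (M ≅ M') → Curv2.euler k Y M = pushEuler k f (d + 1) M →
      Curv2.euler k Y M' = pushEuler k f (d + 1) M' := fun M M' e h => by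
    rw [← CurveRR.euler_eq_of_iso e, h]
    exact Finset.sum_congr rfl fun i _ => by rw [CurveRR.euler_eq_of_iso ((Coh.Rpush f i).mapIso e)]
  refine Devissage.roots (fun M => Curv2.euler k Y M = pushEuler k f (d + 1) M)
    (fun M M' ⟨e⟩ => hiso M M' e) (fun S hS h₁ h₂ h₃ => ?_) (fun M n hn hM h => ?_) (fun Z i _ _ => ?_) G hG
  · have a := CurveRR.euler_add (k := k) hS h₁ h₂ h₃
    have b := pushEuler_add (k := k) f (d + 1) (fun M hM => hzero M hM _ (by omega)) hS h₁ h₂ h₃
    constructor <;> intro p q <;> linarith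
  · rw [EulerMult.euler_coprod (k := k) M hM n, pushEuler_coprod f _ hM n] at h
    exact mul_left_cancel₀ (by exact_mod_cast (show n ≠ 0 by omega)) h
  letI : Z.Over (Spec (CommRingCat.of k)) := ⟨i ≫ (Y ↘ Spec (CommRingCat.of k))⟩
  haveI : IsProper (Z ↘ Spec (CommRingCat.of k)) := inferInstanceAs (IsProper (i ≫ _))
  haveI := CurveRR.isNoetherian_of_proper k Z
  obtain ⟨n', Z', π, j, hj, hjf, hπ, -, U, hU, hiso', -⟩ := Chow.exists_chow (Z ↘ Spec (CommRingCat.of k))
    TopologicalSpace.NoetherianSpace.finite_irreducibleComponents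
  letI : Z'.Over (Spec (CommRingCat.of k)) := ⟨π ≫ (Z ↘ Spec (CommRingCat.of k))⟩
  haveI : IsProper (Z' ↘ Spec (CommRingCat.of k)) := inferInstanceAs (IsProper (π ≫ _))
  haveI := CurveRR.isNoetherian_of_proper k Z'
  let L := (Scheme.Modules.pullback j).obj (Twist.twistOver n' (Spec (CommRingCat.of k)) 1)
  have hL : CohB1.IsAmple L := ProjMor.isAmple_of_isRelVeryAmplePn (π ≫ (Z ↘ Spec (CommRingCat.of k)))
    ⟨n', j, hj, hjf, ⟨Iso.refl _⟩⟩
  have hO : Coh.IsCoh (Coh.structureModule Z') :=
    CurveRR.isCoh_of_inv (TMul.isInvertible_structureModule (X := Z'))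
  obtain ⟨b, hb⟩ := Nakai.exists_directAcyclic_twist (π ≫ i) hL hO
  obtain ⟨c, hc⟩ := Nakai.exists_directAcyclic_twist ((π ≫ i) ≫ f) hL hO
  let M := CohB1.tensorMod (Coh.structureModule Z') (CohB1.tensorPow L (max b c))
  have hMi : PicF.IsInvertible M :=
    TMul.isInvertible_tensorMod TMul.isInvertible_structureModule (TMul.isInvertible_tensorPow hL.1 _)
  have hM : Coh.IsCoh M := CurveRR.isCoh_of_inv hMi
  refine ⟨(Scheme.Modules.pushforward π).obj M, Intersect.isCoh_push' π hM,
    CohFinite.nontrivial_stalk_push π hMi hU.nonempty, ?_⟩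
  refine hiso _ _ ((Scheme.Modules.pushforwardComp π i).app M).symm ?_
  have hMb := hb (max b c) (le_max_left b c)
  have hMc := hc (max b c) (le_max_right b c)
  let P := (Scheme.Modules.pushforward (π ≫ i)).obj M
  have hP : Coh.IsCoh P := Intersect.isCoh_push' (π ≫ i) hM
  have hz : ∀ p, IsZero ((Coh.Rpush f (p + 1)).obj P) := fun p => by
    obtain ⟨ε⟩ := CohQC.toAb_rpush_iso f P (p + 1)
    refine CohQC.isZero_of_isZero_toAb (IsZero.of_iso ?_ ε)
    obtain ⟨ι, hι, V, hV, -, hcov⟩ := QC.exists_finite_affine_cover (X := X) (W := ⊤)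
      (by simpa using isCompact_univ)
    refine SiteCoh.isZero_rpush_of_locKilled (K := _) (u := TopologicalSpace.Opens.map f.base)
      (CohFinite.locKilled_of_hu_vanish f P hP.1 V hV (fun s => hcov s trivial) (p + 1) fun l => ?_)
    obtain ⟨e₁⟩ := CohQC.hu_push_equiv (π ≫ i) (Coh.toAb M) hMb (f ⁻¹ᵁ V l) (p + 1)
    obtain ⟨e₂⟩ := CohFinite.hu_equiv_sections ((π ≫ i) ≫ f) M hM.1 (hV l) (p + 1)
    have hz' : IsZero ((Coh.RpushAb ((π ≫ i) ≫ f) (p + 1)).obj (Coh.toAb M)) :=
      SiteCoh.isZero_rpush_of_locKilled (K := _) (u := TopologicalSpace.Opens.map ((π ≫ i) ≫ f).base) (hMc p)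
    haveI : Subsingleton ↑(((Coh.RpushAb ((π ≫ i) ≫ f) (p + 1)).obj (Coh.toAb M)).obj.obj
        (Opposite.op (V l))) := AddCommGrpCat.subsingleton_of_isZero
      (Functor.map_isZero ((sheafToPresheaf _ _) ⋙ (evaluation _ _).obj (Opposite.op (V l))) hz')
    haveI : Subsingleton (CohSite.HU (Coh.toAb M) (p + 1) ((π ≫ i) ⁻¹ᵁ (f ⁻¹ᵁ V l))) := e₂.toEquiv.subsingleton
    exact e₁.toEquiv.symm.subsingleton
  have hgY : (π ≫ i) ≫ (Y ↘ Spec (CommRingCat.of k)) = Z' ↘ Spec (CommRingCat.of k) := Category.assoc _ _ _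
  have hgX : ((π ≫ i) ≫ f) ≫ (X ↘ Spec (CommRingCat.of k)) = Z' ↘ Spec (CommRingCat.of k) := by
    rw [Category.assoc, hf, hgY]
  haveI : PreservesFiniteLimits (Scheme.Modules.pushforward f) :=
    haveI : (Scheme.Modules.pushforward f).IsRightAdjoint :=
      (Scheme.Modules.pullbackPushforwardAdjunction f).isRightAdjoint
    inferInstance
  rw [← Nakai.euler_push_acyclic k (π ≫ i) hgY M hMb, pushEuler, Finset.sum_range_succ',
    Finset.sum_eq_zero (fun p _ => by rw [euler_of_isZero (hz p), mul_zero]), zero_add, pow_zero, one_mul,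
    CurveRR.euler_eq_of_iso (((Scheme.Modules.pushforward f).rightDerivedZeroIsoSelf).app P ≪≫
      (Scheme.Modules.pushforwardComp (π ≫ i) f).app M),
    ← Nakai.euler_push_acyclic k ((π ≫ i) ≫ f) hgX M hMc]

end

end Groth.Agent.S1525
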