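import Groth.Statements.S15261
import Mathlib
-- import your own Groth.Agent.* helpers here

set_option autoImplicit false
set_option backward.isDefEq.respectTransparency false
set_option linter.style.haveILetI false
universe u
open CategoryTheory CategoryTheory.Limits AlgebraicGeometry TopologicalSpace
open W4c2seshadripos

namespace Groth.Agent.S15261

/-- Say a morphism of schemes h : S → T is locally essentially of finite type when for every affine open
U = Spec A of T the preimage h⁻¹(U) is covered by affine opens V = Spec B of S with A → B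
essentially of finite type (the every-affine-open form of the notion). If f : X → Y is locally
essentially of finite type and g : Y' → Y is any morphism of schemes, then the base change X ×_Y Y'
→ Y' is locally essentially of finite type. (The quasi-compact variant, essentially of finite type,
follows since quasi-compactness is stable under base change.) -/
theorem result {X Y Y' : Scheme.{u}} (f : X ⟶ Y) (g : Y' ⟶ Y)
    (hf : ∀ U : Y.affineOpens, ∃ T : Set X.affineOpens, (⋃ V ∈ T, ((V : X.Opens) : Set ↥X)) = ((f ⁻¹ᵁ (U : Y.Opens)) : Set ↥X) ∧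
        ∀ V ∈ T, ∃ e : (V : X.Opens) ≤ f ⁻¹ᵁ (U : Y.Opens), (f.appLE (U : Y.Opens) (V : X.Opens) e).hom.EssFiniteType)
    (U : Y'.affineOpens) :
    ∃ T : Set (pullback f g).affineOpens, (⋃ V ∈ T, ((V : (pullback f g).Opens) : Set ↥(pullback f g))) = (((pullback.snd f g) ⁻¹ᵁ (U : Y'.Opens)) : Set ↥(pullback f g)) ∧
        ∀ V ∈ T, ∃ e : (V : (pullback f g).Opens) ≤ (pullback.snd f g) ⁻¹ᵁ (U : Y'.Opens), ((pullback.snd f g).appLE (U : Y'.Opens) (V : (pullback f g).Opens) e).hom.EssFiniteType := by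
  refine ⟨{V | ∃ e : (V : (pullback f g).Opens) ≤ (pullback.snd f g) ⁻¹ᵁ (U : Y'.Opens),
      ((pullback.snd f g).appLE (U : Y'.Opens) (V : (pullback f g).Opens) e).hom.EssFiniteType}, ?_, fun V hV => hV⟩
  refine subset_antisymm (Set.iUnion₂_subset fun V hV => hV.choose) fun p hp => ?_
  obtain ⟨W, hW, hpW, -⟩ := exists_isAffineOpen_mem_and_subset (X := Y) (x := g (pullback.snd f g p)) (U := ⊤) trivial
  obtain ⟨a, ha, hpa⟩ := U.2.exists_basicOpen_le (V := g ⁻¹ᵁ W) ⟨pullback.snd f g p, hpW⟩ hp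
  let U' : Y'.Opens := Y'.basicOpen a
  have hU' : IsAffineOpen U' := U.2.basicOpen a
  obtain ⟨T, hT, hT'⟩ := hf ⟨W, hW⟩
  have hfp : pullback.fst f g p ∈ f ⁻¹ᵁ W := by
    show f (pullback.fst f g p) ∈ W
    rw [← Scheme.Hom.comp_apply, pullback.condition, Scheme.Hom.comp_apply]
    exact hpW
  obtain ⟨V, hVT, hpV⟩ := Set.mem_iUnion₂.1 (hT.ge hfp)
  obtain ⟨e, he⟩ := hT' V hVT
  let W' : (pullback f g).Opens := pullback.fst f g ⁻¹ᵁ V.1 ⊓ pullback.snd f g ⁻¹ᵁ U'
  have hc := IsPullback.of_hasPullback f g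
  have hW' : IsAffineOpen W' := by
    haveI : IsAffine _ := hW
    haveI : IsAffine _ := V.2
    haveI : IsAffine _ := hU'
    exact .of_isIso (Scheme.Hom.isPullback_resLE hc ha e (rfl : W' = _)).isoPullback.hom
  have hle : W' ≤ pullback.snd f g ⁻¹ᵁ (U : Y'.Opens) := fun x hx => Y'.basicOpen_le a hx.2
  refine Set.mem_iUnion₂.2 ⟨⟨W', hW'⟩, ⟨hle, ?_⟩, ⟨hpV, hpa⟩⟩
  rw [← Scheme.Hom.map_appLE (pullback.snd f g) (inf_le_right : W' ≤ pullback.snd f g ⁻¹ᵁ U')
    (homOfLE (Y'.basicOpen_le a)).op, CommRingCat.hom_comp]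
  refine RingHom.EssFiniteType.stableUnderComposition _ _ ?_ ?_
  · have := U.2.isLocalization_basicOpen a
    exact (RingHom.essFiniteType_algebraMap).2
      (Algebra.EssFiniteType.of_isLocalization (S := Γ(Y', Y'.basicOpen a)) (Submonoid.powers a))
  · letI : Algebra Γ(Y, W) Γ(X, V.1) := (f.appLE W V.1 e).hom.toAlgebra
    letI : Algebra Γ(Y, W) Γ(Y', U') := (g.appLE W U' ha).hom.toAlgebra
    letI : Algebra Γ(X, V.1) Γ(pullback f g, W') := ((pullback.fst f g).appLE V.1 W' inf_le_left).hom.toAlgebra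
    letI : Algebra Γ(Y', U') Γ(pullback f g, W') := ((pullback.snd f g).appLE U' W' inf_le_right).hom.toAlgebra
    letI : Algebra Γ(Y, W) Γ(pullback f g, W') :=
      ((algebraMap Γ(X, V.1) Γ(pullback f g, W')).comp (algebraMap Γ(Y, W) Γ(X, V.1))).toAlgebra
    have hP := (isIso_pushoutSection_iff hc ha e (rfl : W' = _)).1
      (isIso_pushoutSection_of_isAffineOpen hc ha e rfl hW hU' V.2)
    haveI : IsScalarTower Γ(Y, W) Γ(X, V.1) Γ(pullback f g, W') := IsScalarTower.of_algebraMap_eq fun _ => rfl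
    haveI : IsScalarTower Γ(Y, W) Γ(Y', U') Γ(pullback f g, W') :=
      IsScalarTower.of_algebraMap_eq fun b => congr($(hP.w).hom b)
    haveI : Algebra.IsPushout Γ(Y, W) Γ(X, V.1) Γ(Y', U') Γ(pullback f g, W') :=
      CommRingCat.isPushout_iff_isPushout.1 hP
    haveI : Algebra.IsPushout Γ(Y, W) Γ(Y', U') Γ(X, V.1) Γ(pullback f g, W') := Algebra.IsPushout.symm inferInstance
    exact RingHom.EssFiniteType.isStableUnderBaseChange Γ(Y, W) Γ(X, V.1) Γ(Y', U') Γ(pullback f g, W') he

end Groth.Agent.S15261
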