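import Groth.Statements.S15268
import Groth.Agent.StabLib.FamZero
import Groth.Agent.HilbFib.ProjBase
import Groth.Agent.TMul.RelAmpleOps
import Groth.Agent.W7OnePole.ClosedPoint

set_option autoImplicit false
open CategoryTheory CategoryTheory.Limits AlgebraicGeometry
open Coherent

namespace Groth.Agent.S15268

/-- Over the complex numbers, let S be a separated scheme of finite type, X a closed subscheme of
projective n-space over S which is flat over S and whose fibre X_t over every complex point t of S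
is irreducible of dimension d, and ξ a section of X over S. Let E and F be coherent sheaves on X,
flat over S, such that for every complex point t of S, on the fibre X_t polarised by the pull-back
of O(1): the restrictions E_t and F_t are semistable of dimension d (nonzero, pure of dimension d,
reduced Hilbert polynomials of nonzero proper coherent subsheaves at most that of the sheaf for
large arguments) with the same reduced Hilbert polynomial (r(F_t)·p_{E_t} = r(E_t)·p_{F_t}, r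
denoting d! times the degree-d coefficient), and each of E_t, F_t has a filtration by coherent
subsheaves with stable d-dimensional successive quotients of that reduced Hilbert polynomial whose
associated graded sheaf is finite locally free on an open neighbourhood of the point ξ(t). Then
every morphism φ from E to F whose pull-back along ξ is the zero map is zero. (The published
statement is for modules over a sheaf of rings of differential operators and imposes the fibre
conditions at the closed points of the base; this row is the case of the structure sheaf, with the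
conditions at complex points, which are the closed points here.) -/
theorem result
    (S : Scheme.{0}) (sS : S ⟶ Spec (CommRingCat.of ℂ)) [LocallyOfFiniteType sS] [QuasiCompact sS] [IsSeparated sS]
    (n : ℕ) (X : Scheme.{0}) (i : X ⟶ CohB1.ProjSpaceOver n S) [IsClosedImmersion i] [Flat (i ≫ (CohB1.ProjSpaceOver n S ↘ S))] (d : ℕ)
    (ξ : S ⟶ X) (hξ : ξ ≫ (i ≫ (CohB1.ProjSpaceOver n S ↘ S)) = 𝟙 S)
    (hfib : ∀ (t : Spec (CommRingCat.of ℂ) ⟶ S), t ≫ sS = 𝟙 (Spec (CommRingCat.of ℂ)) →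
      IrreducibleSpace (PicF.XT (i ≫ (CohB1.ProjSpaceOver n S ↘ S)) (Over.mk t)) ∧ topologicalKrullDim (PicF.XT (i ≫ (CohB1.ProjSpaceOver n S ↘ S)) (Over.mk t)) = (d : WithBot ℕ∞))
    (E F : X.Modules) (hE : Coh.IsCoh E) (hF : Coh.IsCoh F)
    (hEfl : FlatMod.IsFlatOver (i ≫ (CohB1.ProjSpaceOver n S ↘ S)) E) (hFfl : FlatMod.IsFlatOver (i ≫ (CohB1.ProjSpaceOver n S ↘ S)) F)
    (hss : ∀ (t : Spec (CommRingCat.of ℂ) ⟶ S), t ≫ sS = 𝟙 (Spec (CommRingCat.of ℂ)) →
      @ShStab.IsSemistable ℂ _ (PicF.XT (i ≫ (CohB1.ProjSpaceOver n S ↘ S)) (Over.mk t)) ⟨PicF.XTproj (i ≫ (CohB1.ProjSpaceOver n S ↘ S)) (Over.mk t)⟩ ((Scheme.Modules.pullback (pullback.fst (i ≫ (CohB1.ProjSpaceOver n S ↘ S)) (Over.mk t).hom ≫ i)).obj (Twist.twistOver n S 1)) ((Scheme.Modules.pullback (pullback.fst (i ≫ (CohB1.ProjSpaceOver n S ↘ S)) (Over.mk t).hom)).obj E) d ∧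
      @ShStab.IsSemistable ℂ _ (PicF.XT (i ≫ (CohB1.ProjSpaceOver n S ↘ S)) (Over.mk t)) ⟨PicF.XTproj (i ≫ (CohB1.ProjSpaceOver n S ↘ S)) (Over.mk t)⟩ ((Scheme.Modules.pullback (pullback.fst (i ≫ (CohB1.ProjSpaceOver n S ↘ S)) (Over.mk t).hom ≫ i)).obj (Twist.twistOver n S 1)) ((Scheme.Modules.pullback (pullback.fst (i ≫ (CohB1.ProjSpaceOver n S ↘ S)) (Over.mk t).hom)).obj F) d ∧
      ∀ pE pF : Polynomial ℚ, @ShStab.IsHilbPoly ℂ _ (PicF.XT (i ≫ (CohB1.ProjSpaceOver n S ↘ S)) (Over.mk t)) ⟨PicF.XTproj (i ≫ (CohB1.ProjSpaceOver n S ↘ S)) (Over.mk t)⟩ ((Scheme.Modules.pullback (pullback.fst (i ≫ (CohB1.ProjSpaceOver n S ↘ S)) (Over.mk t).hom ≫ i)).obj (Twist.twistOver n S 1)) ((Scheme.Modules.pullback (pullback.fst (i ≫ (CohB1.ProjSpaceOver n S ↘ S)) (Over.mk t).hom)).obj E) pE →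
        @ShStab.IsHilbPoly ℂ _ (PicF.XT (i ≫ (CohB1.ProjSpaceOver n S ↘ S)) (Over.mk t)) ⟨PicF.XTproj (i ≫ (CohB1.ProjSpaceOver n S ↘ S)) (Over.mk t)⟩ ((Scheme.Modules.pullback (pullback.fst (i ≫ (CohB1.ProjSpaceOver n S ↘ S)) (Over.mk t).hom ≫ i)).obj (Twist.twistOver n S 1)) ((Scheme.Modules.pullback (pullback.fst (i ≫ (CohB1.ProjSpaceOver n S ↘ S)) (Over.mk t).hom)).obj F) pF → StabCat.RedEq d pE pF)
    (hLF : ∀ (t : Spec (CommRingCat.of ℂ) ⟶ S), t ≫ sS = 𝟙 (Spec (CommRingCat.of ℂ)) →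
      (∃ sE : LTSeries (Subobject ((Scheme.Modules.pullback (pullback.fst (i ≫ (CohB1.ProjSpaceOver n S ↘ S)) (Over.mk t).hom)).obj E)), @ShStab.IsJHFiltration ℂ _ (PicF.XT (i ≫ (CohB1.ProjSpaceOver n S ↘ S)) (Over.mk t)) ⟨PicF.XTproj (i ≫ (CohB1.ProjSpaceOver n S ↘ S)) (Over.mk t)⟩ ((Scheme.Modules.pullback (pullback.fst (i ≫ (CohB1.ProjSpaceOver n S ↘ S)) (Over.mk t).hom ≫ i)).obj (Twist.twistOver n S 1)) ((Scheme.Modules.pullback (pullback.fst (i ≫ (CohB1.ProjSpaceOver n S ↘ S)) (Over.mk t).hom)).obj E) d sE ∧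
          ∀ x ∈ Set.range (PicF.secT (i ≫ (CohB1.ProjSpaceOver n S ↘ S)) ξ hξ (Over.mk t)).base, ∃ U : (PicF.XT (i ≫ (CohB1.ProjSpaceOver n S ↘ S)) (Over.mk t)).Opens, x ∈ U ∧ FlatMod.IsFinLocFree ((StabCat.grObj sE).restrict U.ι)) ∧
      (∃ sF : LTSeries (Subobject ((Scheme.Modules.pullback (pullback.fst (i ≫ (CohB1.ProjSpaceOver n S ↘ S)) (Over.mk t).hom)).obj F)), @ShStab.IsJHFiltration ℂ _ (PicF.XT (i ≫ (CohB1.ProjSpaceOver n S ↘ S)) (Over.mk t)) ⟨PicF.XTproj (i ≫ (CohB1.ProjSpaceOver n S ↘ S)) (Over.mk t)⟩ ((Scheme.Modules.pullback (pullback.fst (i ≫ (CohB1.ProjSpaceOver n S ↘ S)) (Over.mk t).hom ≫ i)).obj (Twist.twistOver n S 1)) ((Scheme.Modules.pullback (pullback.fst (i ≫ (CohB1.ProjSpaceOver n S ↘ S)) (Over.mk t).hom)).obj F) d sF ∧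
          ∀ x ∈ Set.range (PicF.secT (i ≫ (CohB1.ProjSpaceOver n S ↘ S)) ξ hξ (Over.mk t)).base, ∃ U : (PicF.XT (i ≫ (CohB1.ProjSpaceOver n S ↘ S)) (Over.mk t)).Opens, x ∈ U ∧ FlatMod.IsFinLocFree ((StabCat.grObj sF).restrict U.ι)))
    (φ : E ⟶ F) (hφ : (Scheme.Modules.pullback ξ).map φ = 0) : φ = 0 := by
  haveI : IsLocallyNoetherian S := LocallyOfFiniteType.isLocallyNoetherian sS
  haveI : IsProper (CohB1.ProjSpaceOver n S ↘ S) := Groth.Agent.HQProj.isProper_toBase n S
  let f : X ⟶ S := i ≫ (CohB1.ProjSpaceOver n S ↘ S)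
  haveI : IsProper f := inferInstanceAs (IsProper (i ≫ (CohB1.ProjSpaceOver n S ↘ S)))
  haveI : IsLocallyNoetherian X := LocallyOfFiniteType.isLocallyNoetherian f
  haveI : CompactSpace X := QuasiCompact.compactSpace_of_compactSpace (f ≫ sS)
  suffices hx : ∀ x : X, IsClosed ({x} : Set X) → ∀ v, Groth.Agent.StabLib.Fam.stm φ x v = 0 by
    by_contra hne
    haveI := Groth.Agent.StabLib.Fam.stm_surjective (Abelian.factorThruImage φ)
    have hI0 : ¬ IsZero (Abelian.image φ) := fun h => hne (by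
      rw [← Abelian.image.fac φ, h.eq_of_tgt (Abelian.factorThruImage φ) 0, zero_comp])
    have hIc : Coh.IsCoh (Abelian.image φ) :=
      Groth.Agent.QC.isCoh_kernel hF (Groth.Agent.QC.isCoh_cokernel hE.1 hF φ).1 (cokernel.π φ)
    obtain ⟨x, hxs, hxc⟩ := (Groth.Agent.QC.isClosed_support hIc.2).exists_closed_singleton
      (Groth.Agent.StabLib.Sh.support_nonempty hI0)
    refine hxs ⟨fun a b => ?_⟩
    have hinj : Function.Injective (Groth.Agent.StabLib.Fam.stm (Abelian.image.ι φ) x) :=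
      (ModuleCat.mono_iff_injective ((DerSch.stalkFunctor X x).map (Abelian.image.ι φ))).1 inferInstance
    have h0 : ∀ a, Groth.Agent.StabLib.Fam.stm (Abelian.image.ι φ) x a = 0 := fun a => by
      obtain ⟨v, rfl⟩ := Groth.Agent.StabLib.Fam.stm_surjective (Abelian.factorThruImage φ) x a
      rw [← Groth.Agent.StabLib.Fam.stm_comp, Abelian.image.fac]
      exact hx x hxc v
    exact hinj ((h0 a).trans (h0 b).symm)
  intro x hxc v
  have hsc : IsClosed ({f x} : Set S) := by
    have h := f.isClosedMap _ hxc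
    rwa [Set.image_singleton] at h
  obtain ⟨t, ht, htp⟩ := Groth.Agent.W7OnePole.exists_section_of_closed sS hsc
  obtain ⟨U, hU, hsU, -⟩ := exists_isAffineOpen_mem_and_subset (show f x ∈ (⊤ : S.Opens) from trivial)
  haveI : IsAffine (U : Scheme.{0}) := hU
  let V := f ⁻¹ᵁ U
  let p₀ : ↑(Spec (CommRingCat.of ℂ)) := IsLocalRing.closedPoint ℂ
  have hrU : Set.range t.base ⊆ Set.range U.ι.base := by
    rintro _ ⟨p, rfl⟩
    rw [Scheme.Opens.range_ι]
    exact (htp p).symm ▸ hsU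
  let t' := IsOpenImmersion.lift U.ι t hrU
  have ht' : t' ≫ U.ι = t := IsOpenImmersion.lift_fac _ _ _
  have hrξ : Set.range (U.ι ≫ ξ).base ⊆ Set.range V.ι.base := by
    rintro _ ⟨z, rfl⟩
    rw [Scheme.Opens.range_ι]
    show f (ξ (U.ι z)) ∈ U
    rw [← Scheme.Hom.comp_apply, show ξ ≫ f = 𝟙 S from hξ]
    exact z.2
  let ξ' := IsOpenImmersion.lift V.ι (U.ι ≫ ξ) hrξ
  have hξι : ξ' ≫ V.ι = U.ι ≫ ξ := IsOpenImmersion.lift_fac _ _ _
  have hξ' : ξ' ≫ (f ∣_ U) = 𝟙 _ := by
    rw [← cancel_mono U.ι, Category.assoc, morphismRestrict_ι, ← Category.assoc, hξι, Category.assoc,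
      show ξ ≫ f = 𝟙 S from hξ, Category.comp_id, Category.id_comp]
  let sqV : IsPullback V.ι (f ∣_ U) f U.ι := (isPullback_morphismRestrict f U).flip
  have hrg : Set.range (pullback.fst f t).base ⊆ Set.range V.ι.base := by
    rintro _ ⟨z, rfl⟩
    rw [Scheme.Opens.range_ι]
    show f (pullback.fst f t z) ∈ U
    rw [← Scheme.Hom.comp_apply, pullback.condition]
    exact (htp _).symm ▸ hsU
  let g := IsOpenImmersion.lift V.ι (pullback.fst f t) hrg
  have hgι : g ≫ V.ι = pullback.fst f t := IsOpenImmersion.lift_fac _ _ _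
  have sq : IsPullback g (pullback.snd f t) (f ∣_ U) t' := by
    refine IsPullback.of_right ?_ ?_ sqV
    · rw [hgι, ht']
      exact IsPullback.of_hasPullback f t
    · rw [← cancel_mono U.ι, Category.assoc, morphismRestrict_ι, ← Category.assoc, hgι, Category.assoc, ht',
        pullback.condition]
  let σ := PicF.secT f ξ hξ (Over.mk t)
  have hσf : σ ≫ pullback.fst f t = t ≫ ξ := pullback.lift_fst _ _ _
  have hσ : σ ≫ g = t' ≫ ξ' := by
    rw [← cancel_mono V.ι, Category.assoc, hgι, hσf, Category.assoc, hξι, ← Category.assoc, ht']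
  -- the fibre
  letI : (pullback f t).Over (Spec (CommRingCat.of ℂ)) := ⟨pullback.snd f t⟩
  haveI hpr : IsProper (pullback f t ↘ Spec (CommRingCat.of ℂ)) :=
    inferInstanceAs (IsProper (pullback.snd f t))
  haveI : IrreducibleSpace ↑(pullback f t) := (hfib t ht).1
  have hLa : CohB1.IsAmple ((Scheme.Modules.pullback (pullback.fst f t ≫ i)).obj (Twist.twistOver n S 1)) := by
    have h1 : RelAmple.IsRelAmple f ((Scheme.Modules.pullback i).obj (Twist.twistOver n S 1)) :=
      TMul.isRelAmple_pullback_of_isInducing i i.isEmbedding.isInducing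
        (Groth.Agent.HilbFib.isRelAmple_twistOver n S)
    exact TMul.isAmple_congr ((Scheme.Modules.pullbackComp (pullback.fst f t) i).app _)
      (TMul.isRelAmple_iff_isAmple.1 (TMul.isRelAmple_baseChange t h1))
  obtain ⟨hsE, hsF, hredf⟩ := hss t ht
  obtain ⟨-, sF, hJF, hgrF⟩ := hLF t ht
  have hred := hredf _ _ (Groth.Agent.StabLib.Sh.isHilbPoly_hp ℂ hLa.1 hsE.1)
    (Groth.Agent.StabLib.Sh.isHilbPoly_hp ℂ hLa.1 hsF.1)
  let α : ∀ G : X.Modules, (Scheme.Modules.pullback g).obj ((Scheme.Modules.pullback V.ι).obj G) ≅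
      (Scheme.Modules.pullback (pullback.fst f t)).obj G :=
    fun G => (Scheme.Modules.pullbackComp g V.ι).app G ≪≫ (Scheme.Modules.pullbackCongr hgι).app G
  have hzero : ∀ ψ : (Scheme.Modules.pullback g).obj ((Scheme.Modules.pullback V.ι).obj E) ⟶
      (Scheme.Modules.pullback g).obj ((Scheme.Modules.pullback V.ι).obj F),
      (Scheme.Modules.pullback σ).map ψ = 0 → ψ = 0 := by
    intro ψ hψ
    have hgen := @Groth.Agent.StabLib.Sh.eq_zero_of_pullback _ ℂ _ _ hpr _ hLa d inferInstance (hfib t ht).2 _ _ hsE hsF _ _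
        (Groth.Agent.StabLib.Sh.isHilbPoly_hp ℂ hLa.1 hsE.1)
        (Groth.Agent.StabLib.Sh.isHilbPoly_hp ℂ hLa.1 hsF.1) hred _ σ p₀ sF hJF (hgrF _ ⟨p₀, rfl⟩)
    have h0 : (α E).inv ≫ ψ ≫ (α F).hom = 0 :=
      hgen _ (by rw [Functor.map_comp, Functor.map_comp, hψ, zero_comp, comp_zero])
    rw [← cancel_epi (α E).inv, ← cancel_mono (α F).hom, Category.assoc, h0, comp_zero, zero_comp]
  -- freeness at the section
  have hfree : Groth.Agent.DCohLocus.FreeAt F (pullback.fst f t (σ p₀)) :=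
    Groth.Agent.StabLib.freeAt_of_slice f sS t ht hF (σ p₀) (hFfl _)
      (Groth.Agent.StabLib.Sh.freeAt_of_built (fun _ h => h)
        (Groth.Agent.StabLib.Built.of_series sF hJF.1 hJF.2.1 fun j =>
          Groth.Agent.StabLib.Sh.freeAt_factor sF
            (Groth.Agent.StabLib.Sh.freeAt_grObj_of_locFree sF (hgrF _ ⟨p₀, rfl⟩)) j))
  haveI : IsLocallyNoetherian (V : Scheme.{0}) := inferInstance
  haveI : IsLocallyNoetherian (U : Scheme.{0}) := inferInstance
  haveI : IsSeparated (U.ι ≫ sS) := inferInstance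
  have hfree' : Groth.Agent.DCohLocus.FreeAt ((Scheme.Modules.pullback V.ι).obj F) (ξ' (t' p₀)) := by
    refine Groth.Agent.StabLib.freeAt_pullback V.ι ?_
    rw [← Scheme.Hom.comp_apply, hξι, Scheme.Hom.comp_apply,
      show U.ι (t' p₀) = t p₀ by rw [← Scheme.Hom.comp_apply, ht']]
    rw [← Scheme.Hom.comp_apply, hσf] at hfree
    exact hfree
  have hφ' : (Scheme.Modules.pullback ξ').map ((Scheme.Modules.pullback V.ι).map φ) = 0 := by
    have hz : (Scheme.Modules.pullback (U.ι ≫ ξ)).map φ = 0 := by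
      have hn := (Scheme.Modules.pullbackComp U.ι ξ).hom.naturality φ
      simp only [Functor.comp_map, hφ, Functor.map_zero, zero_comp] at hn
      exact zero_of_epi_comp _ hn.symm
    rw [← hξι] at hz
    have hn := (Scheme.Modules.pullbackComp ξ' V.ι).hom.naturality φ
    simp only [Functor.comp_map, hz, comp_zero] at hn
    exact zero_of_comp_mono _ hn
  let xV : V := ⟨x, hsU⟩
  have hcl : IsClosed ({t' p₀} : Set U) := by
    have e : ({t' p₀} : Set U) = U.ι.base ⁻¹' {f x} := by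
      ext z
      constructor
      · rintro rfl
        show U.ι (t' p₀) = f x
        rw [← Scheme.Hom.comp_apply, ht']
        exact htp _
      · intro hz
        refine U.ι.isEmbedding.injective ?_
        show U.ι z = U.ι (t' p₀)
        rw [← Scheme.Hom.comp_apply, ht', htp]
        exact hz
    rw [e]
    exact hsc.preimage U.ι.continuous
  have hfx : (f ∣_ U) xV = t' p₀ := by
    refine U.ι.isEmbedding.injective ?_
    show U.ι ((f ∣_ U) xV) = U.ι (t' p₀)
    rw [← Scheme.Hom.comp_apply, ← Scheme.Hom.comp_apply, morphismRestrict_ι, ht', htp]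
    rfl
  have key := Groth.Agent.StabLib.Fam.stm_eq_zero_of_affine ℂ (f ∣_ U) ξ' hξ'
    (Groth.Agent.QC.isCoh_pullback V.ι hF) ((Scheme.Modules.pullback V.ι).map φ)
    (Groth.Agent.W7Strat.isFlatOver_pullback hFfl sqV) hφ' (U.ι ≫ sS) t'
    (by rw [← Category.assoc, ht', ht]) p₀ hcl hfree' g (pullback.snd f t) sq σ hσ hzero xV hfx
  have hm := Groth.Agent.StabLib.Fam.mem_of_stm_pullback_eq_zero V.ι φ xV key
    (ConcreteCategory.bijective_of_isIso (V.ι.stalkMap xV)).2 (𝔞 := ⊥)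
    (fun c hc => (ConcreteCategory.bijective_of_isIso (V.ι.stalkMap xV)).1 (hc.trans (map_zero _).symm)) v
  rwa [Submodule.bot_smul, Submodule.mem_bot] at hm

end Groth.Agent.S15268
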