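import Groth.Statements.S15285
import Mathlib.CategoryTheory.Monoidal.Functor
import Mathlib.CategoryTheory.Groupoid
import Mathlib.CategoryTheory.HomCongr

set_option autoImplicit false
set_option backward.isDefEq.respectTransparency false
set_option linter.style.haveILetI false
universe v v' u u'
open PicCat

namespace Groth.Agent.S15285

open CategoryTheory MonoidalCategory in
theorem bij {E : Type*} [Category E] [MonoidalCategory E] (Y : E) (hY : (tensorRight Y).IsEquivalence) :
    Function.Bijective fun φ : 𝟙_ E ⟶ 𝟙_ E => (λ_ Y).inv ≫ φ ▷ Y ≫ (λ_ Y).hom := by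
  have h1 : Function.Bijective fun φ : 𝟙_ E ⟶ 𝟙_ E => φ ▷ Y :=
    ⟨(tensorRight Y).map_injective, (tensorRight Y).map_surjective⟩
  exact (((λ_ Y).homCongr (λ_ Y)).bijective).comp h1

open CategoryTheory MonoidalCategory in
/-- Let C and D be Picard categories (monoidal groupoids in which tensoring on either side with any
object is an equivalence of categories) and F : C ⥤ D a lax monoidal functor. If F induces a
bijection on isomorphism classes of objects (it is essentially surjective, and F X ≅ F Y only when X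
≅ Y) and a bijection on endomorphisms of the unit object, then F is an equivalence of categories. -/
theorem result
    {C : Type u} [Category.{v} C] [MonoidalCategory C] [IsGroupoid C]
    {D : Type u'} [Category.{v'} D] [MonoidalCategory D] [IsGroupoid D]
    (hC : ∀ X : C, (tensorLeft X).IsEquivalence ∧ (tensorRight X).IsEquivalence)
    (hD : ∀ X : D, (tensorLeft X).IsEquivalence ∧ (tensorRight X).IsEquivalence)
    (F : C ⥤ D) [F.LaxMonoidal] [F.EssSurj]
    (h0 : ∀ X Y : C, Nonempty (F.obj X ≅ F.obj Y) → Nonempty (X ≅ Y))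
    (h1 : Function.Bijective (fun φ : 𝟙_ C ⟶ 𝟙_ C => F.map φ)) :
    F.IsEquivalence := by
  classical
  obtain ⟨hLi, hRi⟩ : (∀ X : C, (tensorLeft X).IsEquivalence) ∧ (∀ X : C, (tensorRight X).IsEquivalence) :=
    ⟨fun X => (hC X).1, fun X => (hC X).2⟩
  -- automorphisms of `X` are automorphisms of the unit
  have key : ∀ X : C, Function.Bijective fun φ : X ⟶ X => F.map φ := by
    intro X
    let eC : (𝟙_ C ⟶ 𝟙_ C) → (X ⟶ X) := fun φ => (λ_ X).inv ≫ φ ▷ X ≫ (λ_ X).hom
    let eD : (𝟙_ D ⟶ 𝟙_ D) → (F.obj X ⟶ F.obj X) := fun φ => (λ_ _).inv ≫ φ ▷ F.obj X ≫ (λ_ _).hom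
    have bC : Function.Bijective eC := bij X (hC X).2
    have bD : Function.Bijective eD := bij (F.obj X) (hD (F.obj X)).2
    let ε := Functor.LaxMonoidal.ε F
    let μ := Functor.LaxMonoidal.μ F
    have b1 : Function.Bijective fun φ : 𝟙_ C ⟶ 𝟙_ C => ε ≫ F.map φ ≫ inv ε :=
      ((Iso.homCongr (asIso ε).symm (asIso ε).symm).bijective).comp h1
    have comm : (fun φ : X ⟶ X => F.map φ) ∘ eC = eD ∘ fun φ => ε ≫ F.map φ ≫ inv ε := by
      funext φ
      show F.map ((λ_ X).inv ≫ φ ▷ X ≫ (λ_ X).hom) = (λ_ _).inv ≫ (ε ≫ F.map φ ≫ inv ε) ▷ F.obj X ≫ (λ_ _).hom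
      rw [Iso.eq_inv_comp]
      rw [Functor.LaxMonoidal.left_unitality F X]
      simp only [comp_whiskerRight, Category.assoc, Functor.map_comp, ε]
      rw [← comp_whiskerRight_assoc (inv ε), IsIso.inv_hom_id, id_whiskerRight, Category.id_comp,
        Functor.LaxMonoidal.μ_natural_left_assoc, ← F.map_comp_assoc]
      simp
    rw [← Function.Bijective.of_comp_iff (fun φ : X ⟶ X => F.map φ) bC, comm]
    exact bD.comp b1
  have hfull : F.Full := ⟨fun {X Y} g => by
    obtain ⟨e⟩ := h0 X Y ⟨asIso g⟩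
    obtain ⟨φ, hφ⟩ := (key X).2 (g ≫ F.map e.inv)
    refine ⟨φ ≫ e.hom, ?_⟩
    have hφ' : F.map φ = g ≫ F.map e.inv := hφ
    rw [F.map_comp, hφ', Category.assoc, ← F.map_comp, e.inv_hom_id, F.map_id, Category.comp_id]⟩
  have hfaith : F.Faithful := ⟨fun {X Y} f g hfg => by
    have h : (fun φ : X ⟶ X => F.map φ) (f ≫ inv g) = (fun φ : X ⟶ X => F.map φ) (𝟙 X) := by
      simp [hfg]
    have := (key X).1 h
    rw [IsIso.comp_inv_eq] at this
    simpa using this⟩
  exact { }

end Groth.Agent.S15285
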