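import Groth.Statements.S15286
import Mathlib.CategoryTheory.Monoidal.Skeleton
import Mathlib.CategoryTheory.Monoidal.NaturalTransformation
import Mathlib.Tactic.CategoryTheory.Monoidal.Basic

set_option autoImplicit false
universe v v' u u'
open PicCat

namespace Groth.Agent.S15286

open CategoryTheory MonoidalCategory
open CategoryTheory.Functor.LaxMonoidal (ε μ)

universe w w'

section

variable {D : Type u'} [Category.{v'} D] [MonoidalCategory D]

/-- The action of an endomorphism of the unit on an object. -/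
def act (φ : 𝟙_ D ⟶ 𝟙_ D) (Z : D) : Z ⟶ Z := (λ_ Z).inv ≫ (φ ▷ Z) ≫ (λ_ Z).hom

lemma act_id (Z : D) : act (𝟙 (𝟙_ D)) Z = 𝟙 Z := by simp [act]

lemma act_comp (φ ψ : 𝟙_ D ⟶ 𝟙_ D) (Z : D) : act (φ ≫ ψ) Z = act φ Z ≫ act ψ Z := by simp [act]

lemma act_natural (φ : 𝟙_ D ⟶ 𝟙_ D) {Z W : D} (f : Z ⟶ W) : act φ Z ≫ f = f ≫ act φ W := by
  simp only [act, Category.assoc]
  rw [← leftUnitor_naturality f, ← whisker_exchange_assoc, ← leftUnitor_inv_naturality_assoc]

lemma act_whiskerRight (φ : 𝟙_ D ⟶ 𝟙_ D) (Z W : D) : act φ Z ▷ W = act φ (Z ⊗ W) := by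
  simp only [act]
  monoidal

lemma act_whiskerLeft [BraidedCategory D] (ψ : 𝟙_ D ⟶ 𝟙_ D) (Z W : D) : Z ◁ act ψ W = act ψ (Z ⊗ W) := by
  rw [← cancel_mono (β_ Z W).hom, BraidedCategory.braiding_naturality_right, act_whiskerRight, act_natural]

lemma act_tensor [BraidedCategory D] (φ ψ : 𝟙_ D ⟶ 𝟙_ D) (Z W : D) :
    act φ Z ⊗ₘ act ψ W = act (φ ≫ ψ) (Z ⊗ W) := by
  rw [tensorHom_def, act_whiskerRight, act_whiskerLeft, act_comp]

lemma act_injective (hD : ∀ X : D, (tensorLeft X).IsEquivalence ∧ (tensorRight X).IsEquivalence)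
    {φ ψ : 𝟙_ D ⟶ 𝟙_ D} (Z : D) (h : act φ Z = act ψ Z) : φ = ψ := by
  haveI := (hD Z).2
  simp only [act, cancel_epi, cancel_mono] at h
  exact (tensorRight Z).map_injective h

lemma exists_act_eq (hD : ∀ X : D, (tensorLeft X).IsEquivalence ∧ (tensorRight X).IsEquivalence)
    {Z : D} (g : Z ⟶ Z) : ∃ φ, act φ Z = g := by
  haveI := (hD Z).2
  obtain ⟨φ, hφ⟩ := (tensorRight Z).map_surjective (X := 𝟙_ D) (Y := 𝟙_ D) ((λ_ Z).hom ≫ g ≫ (λ_ Z).inv)
  refine ⟨φ, ?_⟩
  replace hφ : φ ▷ Z = (λ_ Z).hom ≫ g ≫ (λ_ Z).inv := hφ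
  rw [act, hφ]
  simp

end

open CategoryTheory MonoidalCategory in
/-- Let C be a Picard category, D a commutative (braided) Picard category, F, G : C ⥤ D lax monoidal
functors and θ₀ : F ⟶ G a monoidal natural transformation. Identify an endomorphism φ of the unit of
D with the automorphism λ⁻¹ ≫ (φ ▷ Z) ≫ λ of any object Z. Then the monoidal natural transformations
F ⟶ G form a torsor under the monoid homomorphisms χ from the monoid of isomorphism classes of C to
End(𝟙_D): every monoidal θ : F ⟶ G is X ↦ θ₀_X ≫ (action of χ[X] on G X) for a unique such χ, and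
for every χ this formula defines a monoidal natural transformation. (The published statement allows
D non-commutative; for a non-braided monoidal groupoid the classes so obtained are crossed rather
than plain homomorphisms, so D is taken braided here.) -/
theorem result
    {C : Type u} [Category.{v} C] [MonoidalCategory C] [IsGroupoid C]
    {D : Type u'} [Category.{v'} D] [MonoidalCategory D] [BraidedCategory D] [IsGroupoid D]
    (hC : ∀ X : C, (tensorLeft X).IsEquivalence ∧ (tensorRight X).IsEquivalence)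
    (hD : ∀ X : D, (tensorLeft X).IsEquivalence ∧ (tensorRight X).IsEquivalence)
    (F G : C ⥤ D) [F.LaxMonoidal] [G.LaxMonoidal] (θ₀ : F ⟶ G) [NatTrans.IsMonoidal θ₀] :
    (∀ θ : F ⟶ G, NatTrans.IsMonoidal θ →
      ∃! χ : Skeleton C →* End (𝟙_ D), ∀ X : C,
        θ.app X = θ₀.app X ≫ (λ_ (G.obj X)).inv ≫
          ((χ (toSkeleton X) : 𝟙_ D ⟶ 𝟙_ D) ▷ G.obj X) ≫ (λ_ (G.obj X)).hom) ∧
    (∀ χ : Skeleton C →* End (𝟙_ D), ∃ θ : F ⟶ G, NatTrans.IsMonoidal θ ∧ ∀ X : C,
        θ.app X = θ₀.app X ≫ (λ_ (G.obj X)).inv ≫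
          ((χ (toSkeleton X) : 𝟙_ D ⟶ 𝟙_ D) ▷ G.obj X) ≫ (λ_ (G.obj X)).hom) := by
  have hI : ∀ {A B : D} (f : A ⟶ B), IsIso f := fun f => IsGroupoid.all_isIso f
  have iso_inj : ∀ {A B E : D} (f : A ⟶ B) {g g' : B ⟶ E}, f ≫ g = f ≫ g' → g = g' :=
    by intro A B E f g g' h; haveI := hI f; exact (cancel_epi f).1 h
  refine ⟨fun θ hθ => ?_, fun χ => ?_⟩
  · haveI := hθ
    have hex : ∀ X : C, ∃ φ : 𝟙_ D ⟶ 𝟙_ D, θ.app X = θ₀.app X ≫ act φ (G.obj X) := fun X => by
      haveI := hI (θ₀.app X)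
      obtain ⟨φ, hφ⟩ := exists_act_eq hD (inv (θ₀.app X) ≫ θ.app X)
      exact ⟨φ, by rw [hφ, IsIso.hom_inv_id_assoc]⟩
    choose φ hφ using hex
    have hnat : ∀ {X Y : C} (f : X ⟶ Y), φ X = φ Y := fun {X Y} f => by
      refine act_injective hD (G.obj Y) (iso_inj (G.map f) (iso_inj (θ₀.app X) ?_))
      have h := θ.naturality f
      rw [hφ, hφ, ← Category.assoc, θ₀.naturality f, Category.assoc, Category.assoc] at h
      rw [← act_natural, h]
    have hone : φ (𝟙_ C) = 𝟙 _ := by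
      refine act_injective hD (G.obj (𝟙_ C)) (iso_inj (ε G) ?_)
      have h := NatTrans.IsMonoidal.unit (τ := θ)
      rw [hφ, NatTrans.IsMonoidal.unit_assoc] at h
      rw [h, act_id, Category.comp_id]
    have hmul : ∀ X Y : C, φ (X ⊗ Y) = φ X ≫ φ Y := fun X Y => by
      refine act_injective hD (G.obj X ⊗ G.obj Y) ?_
      haveI := hI (θ₀.app X ⊗ₘ θ₀.app Y)
      haveI := hI (μ G X Y)
      have h := NatTrans.IsMonoidal.tensor (τ := θ) X Y
      rw [hφ, hφ, hφ, NatTrans.IsMonoidal.tensor_assoc, ← tensorHom_comp_tensorHom, Category.assoc,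
        cancel_epi, ← act_natural, cancel_mono, act_tensor] at h
      exact h
    let χ₀ : Skeleton C → End (𝟙_ D) := fun S => φ S.out
    have hχ₀ : ∀ X : C, χ₀ (toSkeleton X) = φ X := fun X => hnat (fromSkeletonToSkeletonIso X).hom
    let χ : Skeleton C →* End (𝟙_ D) :=
      { toFun := χ₀
        map_one' := by
          rw [Skeleton.one_eq, hχ₀]
          exact hone
        map_mul' := fun S T => by
          obtain ⟨X, rfl⟩ : ∃ X : C, toSkeleton X = S := ⟨S.out, Quotient.out_eq S⟩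
          obtain ⟨Y, rfl⟩ : ∃ Y : C, toSkeleton Y = T := ⟨T.out, Quotient.out_eq T⟩
          rw [← Skeleton.toSkeleton_tensorObj, hχ₀, hχ₀, hχ₀, hmul, End.mul_def]
          refine act_injective hD (G.obj X) ?_
          rw [act_comp, act_comp]
          exact act_natural (φ Y) (act (φ X) (G.obj X)) |>.symm }
    refine ⟨χ, fun X => ?_, fun χ' hχ' => ?_⟩
    · show θ.app X = θ₀.app X ≫ act (χ₀ (toSkeleton X)) (G.obj X)
      rw [hχ₀, hφ]
    · refine MonoidHom.ext fun S => ?_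
      obtain ⟨X, rfl⟩ : ∃ X : C, toSkeleton X = S := ⟨S.out, Quotient.out_eq S⟩
      show χ' (toSkeleton X) = χ₀ (toSkeleton X)
      rw [hχ₀]
      exact act_injective hD (G.obj X) (iso_inj (θ₀.app X) ((hχ' X).symm.trans (hφ X)))
  · let θ : F ⟶ G :=
      { app := fun X => θ₀.app X ≫ act (χ (toSkeleton X)) (G.obj X)
        naturality := fun X Y f => by
          haveI : IsIso f := IsGroupoid.all_isIso f
          have e : toSkeleton X = toSkeleton Y := congr_toSkeleton_of_iso (asIso f)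
          rw [θ₀.naturality_assoc, Category.assoc, e, act_natural] }
    refine ⟨θ, ⟨?_, fun X Y => ?_⟩, fun X => rfl⟩
    · show ε F ≫ θ₀.app _ ≫ act (χ (toSkeleton (𝟙_ C))) _ = ε G
      rw [NatTrans.IsMonoidal.unit_assoc, ← Skeleton.one_eq, map_one, End.one_def, act_id, Category.comp_id]
    · show μ F X Y ≫ θ₀.app _ ≫ act (χ (toSkeleton (X ⊗ Y))) _ =
        ((θ₀.app X ≫ act (χ (toSkeleton X)) _) ⊗ₘ (θ₀.app Y ≫ act (χ (toSkeleton Y)) _)) ≫ μ G X Y
      rw [NatTrans.IsMonoidal.tensor_assoc, ← tensorHom_comp_tensorHom, Category.assoc, act_tensor,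
        Skeleton.toSkeleton_tensorObj, map_mul, End.mul_def, act_natural]
      congr 2
      rw [act_comp, act_comp]
      exact act_natural _ _

end Groth.Agent.S15286
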