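import Groth.Statements.S15287
import Groth.Agent.TMul.AmpleBasis
import Groth.Agent.TMul.AmpleComp
import Groth.Agent.QA.GenLocus

set_option autoImplicit false
universe u
open CategoryTheory AlgebraicGeometry
open PicF

set_option backward.isDefEq.respectTransparency false
set_option backward.isDefEq.respectTransparency.types false

namespace Groth.Agent.S15287

/-- Let Y be a scheme proper over a field k carrying an ample invertible O_Y-module A, let L be an
invertible O_Y-module and y_1, …, y_m finitely many points of Y. Then there is N₀ such that for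
every N ≥ N₀ the module L ⊗ A^{⊗ N} has a global section generating it at every y_i (each y_i lies
in the largest open over which the section is a basis). (The published statement takes Y projective
over k and A very ample; this row takes Y proper over k and A ample.) -/
theorem result
    (k : Type u) [Field k] (Y : Scheme.{u}) (f : Y ⟶ Spec (CommRingCat.of k)) [IsProper f]
    (A : Y.Modules) (hA : CohB1.IsAmple A) (L : Y.Modules) (hL : PicF.IsInvertible L)
    (ι : Type) [Finite ι] (y : ι → ↥Y) :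
    ∃ N₀ : ℕ, ∀ N : ℕ, N₀ ≤ N →
      ∃ s : Coh.structureModule Y ⟶ CohB1.tensorMod L (CohB1.tensorPow A N),
        ∀ i : ι, y i ∈ CohB1.genLocus (CohB1.tensorMod L (CohB1.tensorPow A N)) s := by
  classical
  haveI : CompactSpace Y := QuasiCompact.compactSpace_of_compactSpace f
  haveI : Y.IsSeparated := ⟨by rw [← Limits.terminal.comp_from f]; infer_instance⟩
  obtain ⟨n, σ, hZ, -, haff⟩ := TMul.exists_finite_le hA (Set.finite_range y) (U := ⊤) (fun _ _ => trivial)
  let d := n + 1
  let U := CohB1.genLocus _ σ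
  haveI : IsAffine (U : Scheme.{u}) := haff
  have key : ∀ a : ℕ, ∃ k₀ : ℕ, ∀ k, k₀ ≤ k →
      ∃ s : Coh.structureModule Y ⟶ CohB1.tensorMod L (CohB1.tensorPow A (a + d * k)),
        ∀ i, y i ∈ CohB1.genLocus _ s := by
    intro a
    let M := CohB1.tensorMod L (CohB1.tensorPow A a)
    have hM : PicF.IsInvertible M := TMul.isInvertible_tensorMod hL (TMul.isInvertible_tensorPow hA.1 a)
    obtain ⟨s₀, -, hs₀, -⟩ := TMul.exists_finite_le_of_isQuasiAffine (X := (U : Scheme.{u}))
      (InvGen.isInvertible_restrict U.ι fun z => TMul.exists_isGen hM (U.ι z)) (Z := U.ι ⁻¹' Set.range y)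
      ((Set.finite_range y).preimage U.ι.isOpenEmbedding.injective.injOn) (W := ⊤) (fun _ _ => trivial)
    obtain ⟨k₀, hk⟩ := TMul.exists_genLocus_extend_pow hM (TMul.isInvertible_tensorPow hA.1 d) σ (U := U) rfl s₀
    refine ⟨k₀, fun k hkk => ?_⟩
    obtain ⟨t, ht⟩ := hk k hkk
    obtain ⟨e₁⟩ := TMul.nonempty_powMulIso (L := A) d k
    obtain ⟨e₂⟩ := TMul.nonempty_powAddIso (L := A) a (d * k)
    let e : CohB1.tensorMod M (CohB1.tensorPow (CohB1.tensorPow A d) k) ≅
        CohB1.tensorMod L (CohB1.tensorPow A (a + d * k)) :=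
      TMul.assocIso L (CohB1.tensorPow A a) (CohB1.tensorPow (CohB1.tensorPow A d) k) ≪≫
        PicGrp.tensorModIso (Iso.refl L) (PicGrp.tensorModIso (Iso.refl _) e₁ ≪≫ e₂)
    refine ⟨t ≫ e.hom, fun i => ?_⟩
    rw [TMul.genLocus_comp, ← ht]
    exact ⟨⟨y i, hZ ⟨i, rfl⟩⟩, hs₀ ⟨i, rfl⟩, rfl⟩
  choose k₀ hk₀ using key
  refine ⟨d * ((Finset.range d).sup k₀ + 1), fun N hN => ?_⟩
  have h := hk₀ (N % d) (N / d) ?_
  · rwa [Nat.mod_add_div] at h
  · have h1 : k₀ (N % d) ≤ (Finset.range d).sup k₀ := Finset.le_sup (Finset.mem_range.mpr (Nat.mod_lt _ (Nat.succ_pos n)))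
    refine h1.trans (Nat.le_of_succ_le ((Nat.le_div_iff_mul_le (Nat.succ_pos n)).mpr ?_))
    rw [mul_comm]; exact hN

end Groth.Agent.S15287
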