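import Groth.Statements.S15295
import Groth.Agent.DRKaehler.BaseChange

set_option linter.style.haveILetI false

set_option autoImplicit false
universe u
open DeRham

namespace Groth.Agent.S15295

open exteriorPower TensorProduct in
/-- The de Rham complex commutes with base change. Let R → A and R → S be ring maps and B = S ⊗_R A (an
R-algebra over A and S with the pushout property), and let ψ be the induced map of de Rham complexes
from the p-forms of A over R to the p-forms of B over S (additive maps sending b₀ db₁ ∧ … ∧ db_p to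
g(b₀) d(g b₁) ∧ … ∧ d(g b_p), g : A → B the structure map). Then in each degree p the S-linear
extension S ⊗_R ⋀^p Ω_{A/R} → ⋀^p Ω_{B/S}, s ⊗ x ↦ s · ψ_p(x), is bijective. (This row states the
degreewise bijectivity, with the base change written S ⊗_R − rather than − ⊗_R S; the compatibility
of ψ with the differentials, which makes this an isomorphism of complexes, holds for any square of
ring maps.) -/
theorem result (R S A B : Type u) [CommRing R] [CommRing S] [CommRing A] [CommRing B]
    [Algebra R S] [Algebra R A] [Algebra R B] [Algebra A B] [Algebra S B]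
    [IsScalarTower R A B] [IsScalarTower R S B] [Algebra.IsPushout R S A B]
    (ψ : ∀ p : ℕ, ↥(⋀[A]^p (Ω[A⁄R])) →+ ↥(⋀[B]^p (Ω[B⁄S])))
    (hψ : DeRham.IsCxMap (KaehlerDifferential.D R A) (KaehlerDifferential.D S B) (algebraMap A B) ψ)
    (p : ℕ) (Φ : S ⊗[R] ↥(⋀[A]^p (Ω[A⁄R])) →+ ↥(⋀[B]^p (Ω[B⁄S])))
    (hΦ : ∀ (s : S) (x : ↥(⋀[A]^p (Ω[A⁄R]))), Φ (s ⊗ₜ[R] x) = s • ψ p x) :
    Function.Bijective Φ := by
  have hψ' : ∀ x, ψ p x = Groth.Agent.DRKaehler.formMap R A S B p x := fun x =>
    Groth.Agent.DRKaehler.addHom_ext (g := (Groth.Agent.DRKaehler.formMap R A S B p).toAddMonoidHom)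
      (fun b₀ b => (hψ p b₀ b).trans (Groth.Agent.DRKaehler.formMap_gen p b₀ b).symm) x
  let e := Algebra.IsPushout.cancelBaseChangeAux R S A B ↥(⋀[A]^p (Ω[A⁄R]))
  have key : ∀ z, Φ z = (Groth.Agent.DRKaehler.formMap R A S B p).liftBaseChange B (e.symm z) := by
    intro z
    induction z using TensorProduct.induction_on with
    | zero => simp
    | add a c ha hc => rw [map_add, map_add, map_add, ha, hc]
    | tmul s x =>
      rw [hΦ, Algebra.IsPushout.cancelBaseChangeAux_symm_tmul, LinearMap.liftBaseChange_tmul, hψ',
        IsScalarTower.algebraMap_smul]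
  have h := (Groth.Agent.DRKaehler.formMap_liftBaseChange_bijective R S A B p).comp e.symm.bijective
  exact ⟨fun a c hac => h.1 ((key a).symm.trans (hac.trans (key c))),
    fun y => (h.2 y).imp fun a ha => (key a).trans ha⟩

end Groth.Agent.S15295
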