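import Groth.Statements.S15296
import Mathlib

set_option linter.style.haveILetI false
universe v
open exteriorPower

namespace Groth.Agent.S15296

section
variable {A : Type v} [CommRing A] {M N : Type v} [AddCommGroup M] [Module A M] [AddCommGroup N] [Module A N]
  (π : M →ₗ[A] N)

/-- wedges with a first entry in the kernel -/
def kerWedge (p : ℕ) : Submodule A ↥(⋀[A]^(p + 1) M) :=
  Submodule.span A {z | ∃ (k : M) (w : Fin p → M), π k = 0 ∧ z = ιMulti A (p + 1) (Fin.cons k w)}

theorem update_mem_kerWedge {p : ℕ} (v : Fin (p + 1) → M) (i : Fin (p + 1)) (k : M) (hk : π k = 0) :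
    ιMulti A (p + 1) (Function.update v i k) ∈ kerWedge π p := by
  have h := (ιMulti A (p + 1)).map_perm (Function.update v i k) (Equiv.swap 0 i)
  have h2 : ιMulti A (p + 1) (Function.update v i k ∘ Equiv.swap 0 i) ∈ kerWedge π p := by
    refine Submodule.subset_span ⟨k, Fin.tail (Function.update v i k ∘ Equiv.swap 0 i), hk, congrArg _ ?_⟩
    conv_lhs => rw [← Fin.cons_self_tail (Function.update v i k ∘ Equiv.swap 0 i)]
    simp
  rw [h] at h2
  rcases Int.units_eq_one_or (Equiv.Perm.sign (Equiv.swap 0 i)) with e | e <;> rw [e] at h2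
  · rwa [one_smul] at h2
  · rwa [Units.neg_smul, one_smul, Submodule.neg_mem_iff] at h2

theorem ker_map_le (hπ : Function.Surjective π) (p : ℕ) :
    LinearMap.ker (exteriorPower.map (p + 1) π) ≤ kerWedge π p := by
  choose σ hσ using hπ
  have hsub : ∀ (v : Fin (p + 1) → M) i (a b : M), π a = π b →
      (kerWedge π p).mkQ (ιMulti A (p + 1) (Function.update v i a)) =
        (kerWedge π p).mkQ (ιMulti A (p + 1) (Function.update v i b)) := by
    intro v i a b h
    rw [Submodule.mkQ_apply, Submodule.mkQ_apply, Submodule.Quotient.eq, ← AlternatingMap.map_update_sub]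
    exact update_mem_kerWedge π v i (a - b) (by rw [map_sub, h, sub_self])
  have hv : ∀ (v : Fin (p + 1) → M), (kerWedge π p).mkQ (ιMulti A (p + 1) (σ ∘ π ∘ v)) =
      (kerWedge π p).mkQ (ιMulti A (p + 1) v) := by
    intro v
    classical
    have key : ∀ s : Finset (Fin (p + 1)), (kerWedge π p).mkQ (ιMulti A (p + 1)
        (s.piecewise (σ ∘ π ∘ v) v)) = (kerWedge π p).mkQ (ιMulti A (p + 1) v) := by
      intro s
      induction s using Finset.induction_on with
      | empty => rw [Finset.piecewise_empty]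
      | @insert i s hi ih =>
        rw [Finset.piecewise_insert, ← ih]
        conv_rhs => rw [← Function.update_eq_self i (s.piecewise (σ ∘ π ∘ v) v)]
        refine hsub _ i _ _ ?_
        rw [Finset.piecewise_eq_of_notMem _ _ _ hi]
        exact hσ _
    simpa using key Finset.univ
  let L : N [⋀^Fin (p + 1)]→ₗ[A] (↥(⋀[A]^(p + 1) M) ⧸ kerWedge π p) :=
    { toFun := fun v => (kerWedge π p).mkQ (ιMulti A (p + 1) (σ ∘ v))
      map_update_add' := fun {d} v i a b => by
        obtain rfl : d = instDecidableEqFin (p + 1) := Subsingleton.elim _ _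
        simp only [Function.comp_update]
        rw [← map_add, ← AlternatingMap.map_update_add]
        exact hsub (σ ∘ v) i (σ (a + b)) (σ a + σ b) (by rw [map_add, hσ, hσ, hσ])
      map_update_smul' := fun {d} v i c a => by
        obtain rfl : d = instDecidableEqFin (p + 1) := Subsingleton.elim _ _
        simp only [Function.comp_update]
        rw [← map_smul, ← AlternatingMap.map_update_smul]
        exact hsub (σ ∘ v) i (σ (c • a)) (c • σ a) (by rw [map_smul, hσ, hσ])
      map_eq_zero_of_eq' := fun v i j h hij => by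
        rw [(ιMulti A (p + 1)).map_eq_zero_of_eq (σ ∘ v) (by simp [h]) hij, map_zero] }
  have hL : (alternatingMapLinearEquiv L) ∘ₗ exteriorPower.map (p + 1) π = (kerWedge π p).mkQ := by
    refine exteriorPower.linearMap_ext (AlternatingMap.ext fun v => ?_)
    simp only [LinearMap.compAlternatingMap_apply, LinearMap.comp_apply, map_apply_ιMulti,
      alternatingMapLinearEquiv_apply_ιMulti]
    exact hv v
  intro x hx
  have := LinearMap.congr_fun hL x
  rw [LinearMap.comp_apply, LinearMap.mem_ker.1 hx, map_zero] at this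
  exact (Submodule.Quotient.mk_eq_zero _).1 this.symm

end

variable {R A Ω' : Type v} [CommRing R] [CommRing A] [Algebra R A]
    [AddCommGroup Ω'] [Module A Ω'] [Module R Ω'] [IsScalarTower R A Ω']
    (π : Ω[A⁄R] →ₗ[A] Ω')
    {dA : ∀ p : ℕ, ↥(⋀[A]^p (Ω[A⁄R])) →ₗ[R] ↥(⋀[A]^(p + 1) (Ω[A⁄R]))}

theorem d_cons (hdA : DeRham.IsDiff (KaehlerDifferential.D R A) dA) {p : ℕ} (ω : Ω[A⁄R]) (a : A) (b : Fin p → A) :
    ((exteriorPower.map (p + 2) π (dA (p + 1) (a • ιMulti A (p + 1)
        (Fin.cons ω (fun i => KaehlerDifferential.D R A (b i))))) : ↥(⋀[A]^(p + 2) Ω')) : ExteriorAlgebra A Ω') =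
      a • (((exteriorPower.map 2 π (dA 1 ((exteriorPower.oneEquiv A (Ω[A⁄R])).symm ω)) : ↥(⋀[A]^2 Ω')) :
          ExteriorAlgebra A Ω') *
        ExteriorAlgebra.ιMulti A p (fun i => π (KaehlerDifferential.D R A (b i)))) +
      ExteriorAlgebra.ι A (π (KaehlerDifferential.D R A a)) * (ExteriorAlgebra.ι A (π ω) *
        ExteriorAlgebra.ιMulti A p (fun i => π (KaehlerDifferential.D R A (b i)))) := by
  have hadd : ∀ (q : ℕ) (k l : Ω[A⁄R]) (w : Fin q → Ω[A⁄R]), ιMulti A (q + 1) (Fin.cons (k + l) w) =
      ιMulti A (q + 1) (Fin.cons k w) + ιMulti A (q + 1) (Fin.cons l w) := fun q k l w => by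
    refine Subtype.ext ?_
    simp only [Submodule.coe_add, ιMulti_apply_coe, ExteriorAlgebra.ιMulti_succ_apply, Matrix.vecTail,
      Function.comp_def, Fin.cons_zero, Fin.cons_succ, map_add, add_mul]
  have hzero : ∀ (q : ℕ) (w : Fin q → Ω[A⁄R]), ιMulti A (q + 1) (Fin.cons 0 w) = 0 := fun q w =>
    (ιMulti A (q + 1)).map_coord_zero 0 (Fin.cons_zero (α := fun _ => Ω[A⁄R]) 0 w)
  have hsmul : ∀ (q : ℕ) (c : A) (k : Ω[A⁄R]) (w : Fin q → Ω[A⁄R]), ιMulti A (q + 1) (Fin.cons (c • k) w) =
      c • ιMulti A (q + 1) (Fin.cons k w) := fun q c k w => by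
    refine Subtype.ext ?_
    simp only [Submodule.coe_smul, ιMulti_apply_coe, ExteriorAlgebra.ιMulti_succ_apply, Matrix.vecTail,
      Function.comp_def, Fin.cons_zero, Fin.cons_succ, map_smul, smul_mul_assoc]
  have hone : ∀ k : Ω[A⁄R], (exteriorPower.oneEquiv A (Ω[A⁄R])).symm k =
      ιMulti A 1 (Fin.cons k (fun i : Fin 0 => i.elim0)) := fun k => by
    rw [LinearEquiv.symm_apply_eq, oneEquiv_ιMulti]; rfl
  have hω : ω ∈ Submodule.span A (Set.range (KaehlerDifferential.D R A)) := by
    rw [KaehlerDifferential.span_range_derivation]; trivial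
  induction hω using Submodule.span_induction generalizing a p with
  | zero => simp only [hzero, smul_zero, map_zero, ZeroMemClass.coe_zero, zero_mul, mul_zero, add_zero]
  | add k l _ _ hk hl =>
    simp only [hadd, smul_add, map_add, Submodule.coe_add, hk, hl, add_mul, mul_add]
    abel
  | smul c k _ hk =>
    have h0 := hk (p := 0) c (fun i => i.elim0)
    rw [show (fun i : Fin 0 => KaehlerDifferential.D R A (i.elim0)) = fun i => i.elim0 from
      funext fun i => i.elim0] at h0
    rw [← hone] at h0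
    have h1 := hk (a * c) b
    rw [hsmul, smul_smul, h1, Derivation.leibniz, map_add, map_smul π, map_smul π, map_smul π,
      LinearEquiv.map_smul, h0]
    simp only [ExteriorAlgebra.ιMulti_zero_apply, mul_one, add_mul, smul_add, map_add, map_smul,
      smul_mul_assoc, mul_smul_comm, smul_smul, mul_assoc]
    module
  | mem k hk =>
    obtain ⟨b', rfl⟩ := hk
    have hb : ∀ {q : ℕ} (x : A) (b : Fin q → A),
        (Fin.cons (KaehlerDifferential.D R A x) (fun i => KaehlerDifferential.D R A (b i)) :
          Fin (q + 1) → Ω[A⁄R]) = fun i => KaehlerDifferential.D R A ((Fin.cons x b : Fin (q + 1) → A) i) := by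
      intro q x b
      funext i
      refine Fin.cases ?_ (fun j => ?_) i <;> simp
    have h0 : dA 1 ((exteriorPower.oneEquiv A (Ω[A⁄R])).symm (KaehlerDifferential.D R A b')) = 0 := by
      rw [hone]
      have := hdA.1 1 1 (Fin.cons b' (fun i : Fin 0 => i.elim0))
      rw [DeRham.gen, one_smul, ← hb] at this
      rw [show (fun i : Fin 0 => (i.elim0 : Ω[A⁄R])) = fun i => KaehlerDifferential.D R A (i.elim0) from
        funext fun i => i.elim0, this]
      exact (ιMulti A 2).map_coord_zero 0 (by rw [Fin.cons_zero, Derivation.map_one_eq_zero])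
    have h1 := hdA.1 (p + 1) a (Fin.cons b' b)
    rw [DeRham.gen, ← hb] at h1
    rw [h0, h1]
    simp only [map_zero, ZeroMemClass.coe_zero, zero_mul, smul_zero, zero_add, map_apply_ιMulti,
      ιMulti_apply_coe, ExteriorAlgebra.ιMulti_succ_apply, Matrix.vecTail, Function.comp_def, Fin.cons_zero,
      Fin.cons_succ]

theorem wedge_mem_span (S : Set (Ω[A⁄R])) {p : ℕ} (k : Ω[A⁄R]) (hk : k ∈ Submodule.span A S) (w : Fin p → Ω[A⁄R]) :
    ιMulti A (p + 1) (Fin.cons k w) ∈ Submodule.span A {z | ∃ (ω : Ω[A⁄R]) (b : Fin p → A), ω ∈ S ∧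
      z = ιMulti A (p + 1) (Fin.cons ω (fun i => KaehlerDifferential.D R A (b i)))} := by
  set T := Submodule.span A {z | ∃ (ω : Ω[A⁄R]) (b : Fin p → A), ω ∈ S ∧
      z = ιMulti A (p + 1) (Fin.cons ω (fun i => KaehlerDifferential.D R A (b i)))} with hT
  suffices h : ∀ z : ↥(⋀[A]^p (Ω[A⁄R])), ExteriorAlgebra.ι A k * (z : ExteriorAlgebra A (Ω[A⁄R])) ∈
      T.map (⋀[A]^(p + 1) (Ω[A⁄R])).subtype by
    obtain ⟨t, ht, he⟩ := h (ιMulti A p w)
    have : t = ιMulti A (p + 1) (Fin.cons k w) := Subtype.ext <| he.trans (by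
      simp only [ιMulti_apply_coe, ExteriorAlgebra.ιMulti_succ_apply, Matrix.vecTail, Function.comp_def,
        Fin.cons_zero, Fin.cons_succ])
    exact this ▸ ht
  intro z
  have hz : z ∈ Submodule.span A (Set.range fun b : Fin p → A =>
      ιMulti A p (fun i => KaehlerDifferential.D R A (b i))) := by
    refine (?_ : ⊤ ≤ Submodule.span A _) (Submodule.mem_top (x := z))
    rw [← ιMulti_span_of_span A p (Ω[A⁄R]) (KaehlerDifferential.span_range_derivation R A)]
    refine Submodule.span_mono ?_
    rintro _ ⟨v, hv, rfl⟩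
    choose b hb using fun i => hv (Set.mem_range_self i)
    exact ⟨b, congrArg _ (funext hb)⟩
  induction hz using Submodule.span_induction with
  | zero => simp
  | add u v _ _ hu hv => rw [Submodule.coe_add, mul_add]; exact add_mem hu hv
  | smul c u _ hu => rw [Submodule.coe_smul, mul_smul_comm]; exact Submodule.smul_mem _ _ hu
  | mem u hu =>
    obtain ⟨b, rfl⟩ := hu
    induction hk using Submodule.span_induction with
    | zero => simp
    | add x y _ _ hx hy => rw [map_add, add_mul]; exact add_mem hx hy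
    | smul c x _ hx => rw [map_smul, smul_mul_assoc]; exact Submodule.smul_mem _ _ hx
    | mem x hx =>
      refine ⟨_, Submodule.subset_span ⟨x, b, hx, rfl⟩, ?_⟩
      simp only [Submodule.coe_subtype, ιMulti_apply_coe, ExteriorAlgebra.ιMulti_succ_apply, Matrix.vecTail,
        Function.comp_def, Fin.cons_zero, Fin.cons_succ]

theorem map_dA_eq_zero (hdA : DeRham.IsDiff (KaehlerDifferential.D R A) dA) (hπ : Function.Surjective π)
    (hker : LinearMap.ker π ≤ Submodule.span A {ω : Ω[A⁄R] | π ω = 0 ∧
      exteriorPower.map 2 π (dA 1 ((exteriorPower.oneEquiv A (Ω[A⁄R])).symm ω)) = 0})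
    {p : ℕ} (x : ↥(⋀[A]^(p + 1) (Ω[A⁄R]))) (hx : exteriorPower.map (p + 1) π x = 0) :
    exteriorPower.map (p + 2) π (dA (p + 1) x) = 0 := by
  have hx' := ker_map_le π hπ p hx
  suffices h : ∀ (a : A), exteriorPower.map (p + 2) π (dA (p + 1) (a • x)) = 0 by simpa using h 1
  clear hx
  induction hx' using Submodule.span_induction with
  | zero => simp
  | add u v _ _ hu hv => intro a; rw [smul_add, map_add, map_add, hu, hv, add_zero]
  | smul c u _ hu => intro a; rw [smul_smul]; exact hu _
  | mem z hz =>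
    obtain ⟨k, w, hk, rfl⟩ := hz
    have := wedge_mem_span _ k (hker hk) w
    generalize ιMulti A (p + 1) (Fin.cons k w) = y at this ⊢
    induction this using Submodule.span_induction with
    | zero => simp
    | add u v _ _ hu hv => intro a; rw [smul_add, map_add, map_add, hu, hv, add_zero]
    | smul c u _ hu => intro a; rw [smul_smul]; exact hu _
    | mem z hz =>
      obtain ⟨ω, b, ⟨h1, h2⟩, rfl⟩ := hz
      intro a
      refine Subtype.ext ?_
      rw [d_cons π hdA, h1, h2]
      simp

end Groth.Agent.S15296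


set_option autoImplicit false
universe u
open DeRham

namespace Groth.Agent.S15296

open exteriorPower in
/-- Let R → A be a ring map, π a surjective A-linear map from the Kähler differentials of A over R onto
an A-module Ω', δ = π ∘ d the induced derivation A → Ω', and d_A a de Rham differential of the
Kähler differentials. Suppose the kernel of π is generated over A by elements ω with π(ω) = 0 whose
differential d_A(ω) is killed by the second exterior power of π. Then the exterior powers of Ω' over
A carry a de Rham differential for δ: a family of R-linear maps d from p-forms to (p+1)-forms with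
d(f₀ δf₁ ∧ … ∧ δf_p) = δf₀ ∧ δf₁ ∧ … ∧ δf_p and d ∘ d = 0; moreover d is compatible with d_A through
the exterior powers of π. -/
theorem result (R A Ω' : Type u) [CommRing R] [CommRing A] [Algebra R A]
    [AddCommGroup Ω'] [Module A Ω'] [Module R Ω'] [IsScalarTower R A Ω']
    (π : Ω[A⁄R] →ₗ[A] Ω') (hπ : Function.Surjective π)
    (dA : ∀ p : ℕ, ↥(⋀[A]^p (Ω[A⁄R])) →ₗ[R] ↥(⋀[A]^(p + 1) (Ω[A⁄R])))
    (hdA : DeRham.IsDiff (KaehlerDifferential.D R A) dA)
    (hker : LinearMap.ker π ≤ Submodule.span A {ω : Ω[A⁄R] | π ω = 0 ∧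
      exteriorPower.map 2 π (dA 1 ((exteriorPower.oneEquiv A (Ω[A⁄R])).symm ω)) = 0}) :
    ∃ d : ∀ p : ℕ, ↥(⋀[A]^p Ω') →ₗ[R] ↥(⋀[A]^(p + 1) Ω'),
      DeRham.IsDiff (π.compDer (KaehlerDifferential.D R A)) d ∧
        ∀ (p : ℕ) (x : ↥(⋀[A]^p (Ω[A⁄R]))),
          d p (exteriorPower.map p π x) = exteriorPower.map (p + 1) π (dA p x) := by
  have hs : ∀ p, Function.Surjective ((exteriorPower.map p π).restrictScalars R) := fun p =>
    exteriorPower.map_surjective hπ
  have hle : ∀ p, LinearMap.ker ((exteriorPower.map p π).restrictScalars R) ≤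
      LinearMap.ker (((exteriorPower.map (p + 1) π).restrictScalars R).comp (dA p)) := by
    intro p x hx
    rcases p with _ | p
    · have h0 : x = 0 := (exteriorPower.zeroEquiv A (Ω[A⁄R])).injective (by
        have := LinearMap.congr_fun (zeroEquiv_naturality π) x
        simp only [LinearMap.comp_apply, LinearEquiv.coe_coe] at this
        rw [← this, show exteriorPower.map 0 π x = 0 from hx, map_zero, map_zero])
      simp [h0]
    · exact map_dA_eq_zero π hdA hπ hker x hx
  let d : ∀ p : ℕ, ↥(⋀[A]^p Ω') →ₗ[R] ↥(⋀[A]^(p + 1) Ω') := fun p =>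
    ((LinearMap.ker ((exteriorPower.map p π).restrictScalars R)).liftQ
      (((exteriorPower.map (p + 1) π).restrictScalars R).comp (dA p)) (hle p)).comp
      (LinearMap.quotKerEquivOfSurjective _ (hs p)).symm.toLinearMap
  have hd : ∀ p x, d p (exteriorPower.map p π x) = exteriorPower.map (p + 1) π (dA p x) := fun p x => by
    simp only [d, LinearMap.comp_apply, LinearEquiv.coe_coe]
    rw [show (LinearMap.quotKerEquivOfSurjective _ (hs p)).symm (exteriorPower.map p π x) =
      Submodule.Quotient.mk x from (LinearEquiv.symm_apply_eq _).2 rfl]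
    rfl
  refine ⟨d, ⟨fun p b₀ b => ?_, fun p => LinearMap.ext fun y => ?_⟩, hd⟩
  · have := hd p (DeRham.gen (KaehlerDifferential.D R A) p b₀ b)
    rw [hdA.1, DeRham.gen, map_smul, map_apply_ιMulti, map_apply_ιMulti, Fin.comp_cons] at this
    exact this
  · obtain ⟨x, rfl⟩ := hs p y
    rw [LinearMap.comp_apply, LinearMap.restrictScalars_apply, hd, hd]
    rw [← LinearMap.comp_apply (dA (p + 1)), hdA.2, LinearMap.zero_apply, map_zero, LinearMap.zero_apply]

end Groth.Agent.S15296
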