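import Groth.Statements.S15298
import Mathlib.RingTheory.AdicCompletion.RingHom
import Mathlib.RingTheory.PowerSeries.Trunc
-- import your own Groth.Agent.* helpers here

set_option autoImplicit false
universe u
open CAlg

namespace Groth.Agent.S15298

/-- Let k be a field, A a Noetherian k-algebra and x a non-zero-divisor of A such that A is separated
and complete for the (x)-adic topology, and assume that B = A/xA is formally smooth over k. Then A
is a power series ring over B in the variable x: there is a k-algebra isomorphism e : B[[T]] ≅ A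
with e(T) = x whose reduction modulo x is the constant-coefficient map, i.e. e(f) ≡ f(0) mod x for
every power series f. -/
theorem result (k A : Type u) [Field k]
    [CommRing A] [Algebra k A] [IsNoetherianRing A] (x : A) (hx : x ∈ nonZeroDivisors A)
    [IsAdicComplete (Ideal.span {x}) A] [Algebra.FormallySmooth k (A ⧸ Ideal.span {x})] :
    ∃ e : PowerSeries (A ⧸ Ideal.span {x}) ≃ₐ[k] A,
      e PowerSeries.X = x ∧
      ∀ f : PowerSeries (A ⧸ Ideal.span {x}),
        Ideal.Quotient.mk (Ideal.span {x}) (e f) = PowerSeries.constantCoeff f := by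
  classical
  set I : Ideal A := Ideal.span {x} with hI
  -- lifts B → A ⧸ I^(n+1)
  have hstep : ∀ (n : ℕ) (g : (A ⧸ I) →ₐ[k] A ⧸ I ^ (n + 1)), ∃ g' : (A ⧸ I) →ₐ[k] A ⧸ I ^ (n + 2),
      (Ideal.Quotient.factorₐ k (Ideal.pow_le_pow_right (Nat.le_succ (n + 1)))).comp g' = g := by
    intro n g
    let π : (A ⧸ I ^ (n + 2)) →ₐ[k] A ⧸ I ^ (n + 1) :=
      Ideal.Quotient.factorₐ k (Ideal.pow_le_pow_right (Nat.le_succ (n + 1)))
    have hπ : Function.Surjective π := Ideal.Quotient.factor_surjective (Ideal.pow_le_pow_right (Nat.le_succ (n + 1)))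
    have hker : IsNilpotent (RingHom.ker (π : (A ⧸ I ^ (n + 2)) →+* A ⧸ I ^ (n + 1))) := by
      refine ⟨2, le_bot_iff.mp ?_⟩
      have hle : RingHom.ker (π : (A ⧸ I ^ (n + 2)) →+* A ⧸ I ^ (n + 1)) ≤
          (I ^ (n + 1)).map (Ideal.Quotient.mk (I ^ (n + 2))) := by
        intro y hy
        obtain ⟨a, rfl⟩ := Ideal.Quotient.mk_surjective y
        exact Ideal.mem_map_of_mem _ (Ideal.Quotient.eq_zero_iff_mem.mp hy)
      calc _ ≤ ((I ^ (n + 1)).map (Ideal.Quotient.mk (I ^ (n + 2)))) ^ 2 :=
            Ideal.pow_right_mono hle 2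
        _ = (I ^ ((n + 1) * 2)).map (Ideal.Quotient.mk (I ^ (n + 2))) := by
          rw [← Ideal.map_pow, ← pow_mul]
        _ ≤ (I ^ (n + 2)).map (Ideal.Quotient.mk (I ^ (n + 2))) :=
          Ideal.map_mono (Ideal.pow_le_pow_right (by omega))
        _ = ⊥ := Ideal.map_quotient_self _
    exact ⟨Algebra.FormallySmooth.liftOfSurjective g π hπ hker,
      AlgHom.ext fun y => Algebra.FormallySmooth.liftOfSurjective_apply g π hπ hker y⟩
  choose nxt hnxt using hstep
  let ψ : (n : ℕ) → (A ⧸ I) →ₐ[k] A ⧸ I ^ (n + 1) := fun n =>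
    Nat.rec (Ideal.Quotient.factorₐ k (le_of_eq (by simp))) (fun m g => nxt m g) n
  have hψ : ∀ {m n : ℕ} (h : m ≤ n) (b : A ⧸ I),
      Ideal.Quotient.factor (Ideal.pow_le_pow_right (Nat.succ_le_succ h)) (ψ n b) = ψ m b := by
    intro m n h b
    induction n, h using Nat.le_induction with
    | base => simp
    | succ n h ih =>
      rw [← ih, ← show Ideal.Quotient.factorₐ k (Ideal.pow_le_pow_right (Nat.le_succ (n + 1)))
        (ψ (n + 1) b) = ψ n b from AlgHom.congr_fun (hnxt n (ψ n)) b]
      obtain ⟨a, ha⟩ := Ideal.Quotient.mk_surjective (ψ (n + 1) b)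
      rw [← ha]; rfl
  let F : (n : ℕ) → (A ⧸ I) →+* A ⧸ I ^ n := fun n =>
    (Ideal.Quotient.factor (Ideal.pow_le_pow_right (Nat.le_succ n) : I ^ (n + 1) ≤ I ^ n)).comp (ψ n).toRingHom
  have hF : ∀ {m n : ℕ} (h : m ≤ n), (Ideal.Quotient.factorPow I h).comp (F n) = F m := by
    intro m n h
    refine RingHom.ext fun b => ?_
    change Ideal.Quotient.factor (Ideal.pow_le_pow_right h : I ^ n ≤ I ^ m)
        (Ideal.Quotient.factor (Ideal.pow_le_pow_right (Nat.le_succ n) : I ^ (n + 1) ≤ I ^ n) (ψ n b)) =
      Ideal.Quotient.factor (Ideal.pow_le_pow_right (Nat.le_succ m) : I ^ (m + 1) ≤ I ^ m) (ψ m b)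
    rw [← hψ h b]
    obtain ⟨a, ha⟩ := Ideal.Quotient.mk_surjective (ψ n b)
    rw [← ha]; rfl
  let s : (A ⧸ I) →+* A := IsAdicComplete.liftRingHom I F hF
  have hs : ∀ b, Ideal.Quotient.mk I (s b) = b := by
    intro b
    have h := IsAdicComplete.mk_liftRingHom I F hF 1 b
    obtain ⟨a, rfl⟩ := Ideal.Quotient.mk_surjective b
    have h2 : F 1 (Ideal.Quotient.mk I a) = Ideal.Quotient.mk (I ^ 1) a := by
      change Ideal.Quotient.factor (Ideal.pow_le_pow_right (Nat.le_succ 1) : I ^ (1 + 1) ≤ I ^ 1) (ψ 1 (Ideal.Quotient.mk I a)) = _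
      rw [show Ideal.Quotient.factor (Ideal.pow_le_pow_right (Nat.le_succ 1) : I ^ (1 + 1) ≤ I ^ 1) (ψ 1 (Ideal.Quotient.mk I a)) = ψ 0 (Ideal.Quotient.mk I a)
        from hψ (Nat.zero_le 1) _]
      rfl
    rw [h2, Ideal.Quotient.eq, pow_one] at h
    rwa [Ideal.Quotient.eq]
  have hsk : ∀ c : k, s (algebraMap k _ c) = algebraMap k A c := by
    intro c
    rw [IsHausdorff.eq_iff_smodEq (I := I)]
    intro n
    rw [smul_eq_mul, Ideal.mul_top, SModEq.sub_mem, ← Ideal.Quotient.eq,
      IsAdicComplete.mk_liftRingHom]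
    change Ideal.Quotient.factor (Ideal.pow_le_pow_right (Nat.le_succ n) : I ^ (n + 1) ≤ I ^ n) (ψ n (algebraMap k _ c)) = _
    rw [AlgHom.commutes]
    rfl
  -- evaluation of power series at x
  let ev : Polynomial (A ⧸ I) →+* A := Polynomial.eval₂RingHom s x
  have hev : ∀ (n : ℕ) (P : Polynomial (A ⧸ I)), (Polynomial.X ^ n ∣ P) → ev P ∈ I ^ n := by
    rintro n P ⟨Q, rfl⟩
    rw [map_mul, map_pow]
    refine Ideal.mul_mem_right _ _ (Ideal.pow_mem_pow ?_ n)
    simp [ev, I, Ideal.mem_span_singleton_self]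
  have hevtr : ∀ (n : ℕ) (P : Polynomial (A ⧸ I)),
      Ideal.Quotient.mk (I ^ n) (ev (PowerSeries.trunc n (P : PowerSeries (A ⧸ I)))) =
        Ideal.Quotient.mk (I ^ n) (ev P) := by
    intro n P
    rw [Ideal.Quotient.eq, ← map_sub]
    refine hev n _ (Polynomial.X_pow_dvd_iff.mpr fun i hi => ?_)
    simp [PowerSeries.coeff_trunc, hi]
  let G : (n : ℕ) → PowerSeries (A ⧸ I) →+* A ⧸ I ^ n := fun n =>
    { toFun := fun f => Ideal.Quotient.mk _ (ev (PowerSeries.trunc n f))
      map_one' := by
        rw [← Polynomial.coe_one, hevtr, map_one, map_one]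
      map_zero' := by simp
      map_add' := fun f g => by simp
      map_mul' := fun f g => by
        rw [← map_mul, ← map_mul, ← hevtr n (PowerSeries.trunc n f * PowerSeries.trunc n g),
          Polynomial.coe_mul, PowerSeries.trunc_trunc_mul_trunc] }
  have hG : ∀ {m n : ℕ} (h : m ≤ n), (Ideal.Quotient.factorPow I h).comp (G n) = G m := by
    intro m n h
    refine RingHom.ext fun f => ?_
    change Ideal.Quotient.mk (I ^ m) (ev (PowerSeries.trunc n f)) =
      Ideal.Quotient.mk (I ^ m) (ev (PowerSeries.trunc m f))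
    rw [Ideal.Quotient.eq, ← map_sub]
    refine hev m _ (Polynomial.X_pow_dvd_iff.mpr fun i hi => ?_)
    simp [PowerSeries.coeff_trunc, hi, lt_of_lt_of_le hi h]
  let φ : PowerSeries (A ⧸ I) →+* A := IsAdicComplete.liftRingHom I G hG
  have hφ : ∀ (n : ℕ) (f : PowerSeries (A ⧸ I)),
      φ f - ev (PowerSeries.trunc n f) ∈ I ^ n := fun n f =>
    Ideal.Quotient.eq.mp (IsAdicComplete.mk_liftRingHom I G hG n f)
  have hext : ∀ {a b : A}, (∀ n, a - b ∈ I ^ n) → a = b := by
    intro a b h
    rw [IsHausdorff.eq_iff_smodEq (I := I)]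
    intro n
    rw [smul_eq_mul, Ideal.mul_top, SModEq.sub_mem]
    exact h n
  have hφC : ∀ b, φ (PowerSeries.C b) = s b := by
    intro b
    refine hext fun n => ?_
    rcases n with _ | n
    · simp
    · have := hφ (n + 1) (PowerSeries.C b)
      simpa [PowerSeries.trunc_C, ev] using this
  have hφX : φ PowerSeries.X = x := by
    refine hext fun n => ?_
    rcases n with _ | _ | n
    · simp
    · have := hφ 1 PowerSeries.X
      simp only [pow_one] at this ⊢
      have h1 : ev (PowerSeries.trunc 1 (PowerSeries.X : PowerSeries (A ⧸ I))) = 0 := by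
        rw [show PowerSeries.trunc 1 (PowerSeries.X : PowerSeries (A ⧸ I)) = 0 by
          ext i; rcases i with _ | i <;> simp [PowerSeries.coeff_trunc]]
        simp
      rw [h1, sub_zero] at this
      simpa using I.sub_mem this (Ideal.mem_span_singleton_self x)
    · have := hφ (n + 2) PowerSeries.X
      rw [PowerSeries.trunc_X] at this
      simpa [ev] using this
  have hφ0 : ∀ f, Ideal.Quotient.mk I (φ f) = PowerSeries.constantCoeff f := by
    intro f
    have := hφ 1 f
    rw [pow_one, ← Ideal.Quotient.eq] at this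
    rw [this, show PowerSeries.trunc 1 f = Polynomial.C (PowerSeries.constantCoeff f) by
      ext i; rcases i with _ | i <;> simp [PowerSeries.coeff_trunc]]
    simp [ev, hs]
  have hshift : ∀ f, φ f = s (PowerSeries.constantCoeff f) +
      x * φ (PowerSeries.mk fun p => PowerSeries.coeff (p + 1) f) := by
    intro f
    conv_lhs => rw [f.eq_X_mul_shift_add_const]
    rw [map_add, map_mul, hφX, hφC, add_comm]
  have hinj : Function.Injective φ := by
    rw [injective_iff_map_eq_zero]
    intro f hf
    ext i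
    induction i generalizing f with
    | zero => simpa [hf] using (hφ0 f).symm
    | succ i ih =>
      have h0 : PowerSeries.constantCoeff f = 0 := by simpa [hf] using (hφ0 f).symm
      have h := hshift f
      rw [h0, map_zero, zero_add, hf] at h
      have := ih _ ((mem_nonZeroDivisors_iff_left.mp hx) _ h.symm)
      simpa using this
  have hsurj : Function.Surjective φ := by
    have hdec : ∀ a : A, ∃ a', a = s (Ideal.Quotient.mk I a) + x * a' := by
      intro a
      obtain ⟨a', ha'⟩ := Ideal.mem_span_singleton.mp (Ideal.Quotient.eq.mp (hs (Ideal.Quotient.mk I a)))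
      exact ⟨-a', by linear_combination -ha'⟩
    choose d hd using hdec
    intro a
    let f : PowerSeries (A ⧸ I) := PowerSeries.mk fun i => Ideal.Quotient.mk I (d^[i] a)
    refine ⟨f, hext fun n => ?_⟩
    have key : ∀ n a, φ (PowerSeries.mk fun i => Ideal.Quotient.mk I (d^[i] a)) - a ∈ I ^ n := by
      intro n
      induction n with
      | zero => intro a; simp
      | succ n ih =>
        intro a
        rw [hshift]
        have hrw : (PowerSeries.mk fun p => PowerSeries.coeff (p + 1)
            (PowerSeries.mk fun i => Ideal.Quotient.mk I (d^[i] a))) =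
            PowerSeries.mk fun i => Ideal.Quotient.mk I (d^[i] (d a)) := by
          ext p; simp [Function.iterate_succ_apply]
        rw [hrw]
        simp only [← PowerSeries.coeff_zero_eq_constantCoeff_apply, PowerSeries.coeff_mk,
          Function.iterate_zero_apply]
        have h2 : x * (φ (PowerSeries.mk fun i => Ideal.Quotient.mk I (d^[i] (d a))) - d a) ∈
            I ^ (n + 1) := by
          rw [pow_succ']
          exact Ideal.mul_mem_mul (Ideal.mem_span_singleton_self x) (ih _)
        convert h2 using 1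
        have := hd a
        linear_combination this.symm - this.symm + (-1 : A) * this
    exact key n a
  refine ⟨AlgEquiv.ofBijective { φ with commutes' := fun c => ?_ } ⟨hinj, hsurj⟩, hφX, hφ0⟩
  change φ (algebraMap k _ c) = _
  rw [PowerSeries.algebraMap_apply, hφC, hsk]

end Groth.Agent.S15298
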