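import Groth.Statements.S15300
import Groth.Agent.MLTower.Complex
-- import your own Groth.Agent.* helpers here

set_option autoImplicit false
set_option backward.isDefEq.respectTransparency false
set_option backward.isDefEq.respectTransparency.types false
universe u
open HomAlg3

namespace Groth.Agent.S15300

open CategoryTheory CategoryTheory.Limits Opposite

theorem towerDiff_surjective (G : ℕ → Type u) [∀ n, AddCommGroup (G n)] (t : ∀ n, G (n + 1) →+ G n)
    (ht : ∀ n, Function.Surjective (t n)) : Function.Surjective (Formal2.towerDiff G t) := by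
  intro y
  choose l hl using fun n => ht n
  let x : ∀ n, G n := fun n => Nat.rec (motive := G) 0 (fun k a => l k (a - y k)) n
  refine ⟨x, funext fun n => ?_⟩
  change x n - t n (l n (x n - y n)) = y n
  rw [hl, sub_sub_cancel]

section

variable (K : ℕᵒᵖ ⥤ HomologicalComplex AddCommGrpCat.{u} (ComplexShape.up ℤ))

/-- One step of the tower. -/
abbrev st (n : ℕ) : K.obj (op (n + 1)) ⟶ K.obj (op n) := K.map (homOfLE (Nat.le_succ n)).op

theorem exists_lim (j : ℤ) (x : ∀ n, (K.obj (op n)).X j) (hx : ∀ n, ((st K n).f j).hom (x (n + 1)) = x n) :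
    ∃ L : ↑((limit K).X j), ∀ n, ((limit.π K (op n)).f j).hom L = x n := by
  have key : ∀ a b (h : a ≤ b), ((K.map (homOfLE h).op).f j).hom (x b) = x a := by
    intro a b h
    induction b, h using Nat.le_induction with
    | base => exact ConcreteCategory.congr_hom (congrArg (fun φ => φ.f j) (K.map_id (op a))) (x a)
    | succ b h ih =>
      rw [← ih, ← hx b]
      exact (MLTower.map_map' (K ⋙ HomologicalComplex.eval _ _ j) (homOfLE (Nat.le_succ b)).op (homOfLE h).op _
        (x (b + 1))).symm
  obtain ⟨L, hL⟩ := MLTower.exists_limit_X K j (fun i => x i.unop) fun {a b} f => key b.unop a.unop (leOfHom f.unop)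
  exact ⟨L, fun n => hL (op n)⟩

theorem limit_ext_n (j : ℤ) (x y : ↑((limit K).X j))
    (h : ∀ n, ((limit.π K (op n)).f j).hom x = ((limit.π K (op n)).f j).hom y) : x = y :=
  MLTower.limit_X_ext K j x y fun i => h i.unop

theorem st_π (j : ℤ) (x : ↑((limit K).X j)) (n : ℕ) :
    ((st K n).f j).hom (((limit.π K (op (n + 1))).f j).hom x) = ((limit.π K (op n)).f j).hom x :=
  MLTower.limit_X_compat K j x _

end


open CategoryTheory CategoryTheory.Limits Opposite in
/-- For abelian groups, let (A_n)_n be a tower of cochain complexes of abelian groups, indexed by the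
natural numbers, all of whose transition maps A_{n+1}^p → A_n^p are surjective. Then for every p
there is a short exact sequence 0 → lim¹_n h^(p-1)(A_n) → h^p(lim_n A_n) → lim_n h^p(A_n) → 0: the
comparison map h^p(lim A_n) → lim h^p(A_n) is surjective and its kernel is isomorphic to lim¹ of the
tower of the (p-1)-st cohomology groups (existence of an isomorphism only). (The published statement
is made in an axiomatic setting that also covers quasi-coherent sheaves; this row is the case of
abelian groups.) -/
theorem result
    (K : ℕᵒᵖ ⥤ HomologicalComplex AddCommGrpCat.{u} (ComplexShape.up ℤ))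
    (hK : ∀ (n : ℕ) (q : ℤ), Function.Surjective ((K.map (homOfLE (Nat.le_succ n)).op).f q).hom)
    (p q : ℤ) (hqp : q + 1 = p) :
    Function.Surjective (limit.post K (HomologicalComplex.homologyFunctor _ _ p)).hom ∧
      Nonempty ((limit.post K (HomologicalComplex.homologyFunctor _ _ p)).hom.ker ≃+
        Formal2.limOne (fun n => (K.obj (op n)).homology q)
          (fun n => (HomologicalComplex.homologyMap (K.map (homOfLE (Nat.le_succ n)).op) q).hom)) := by
  have hcof : ∃ s : Set ℕ, s.Countable ∧ ∀ i, ∃ j ∈ s, i ≤ j :=
    ⟨Set.univ, Set.countable_univ, fun i => ⟨i, trivial, le_rfl⟩⟩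
  have hsurj : ∀ (j : ℤ) (n : ℕ), Function.Surjective ((st K n).f j).hom := fun j n => hK n j
  have hML : ((K ⋙ HomologicalComplex.eval _ _ q) ⋙ forget AddCommGrpCat).IsMittagLeffler := by
    have key : ∀ a b (h : a ≤ b), Function.Surjective ((K.map (homOfLE h).op).f q).hom := by
      intro a b h x
      induction b, h using Nat.le_induction with
      | base => exact ⟨x, ConcreteCategory.congr_hom (congrArg (fun φ => φ.f q) (K.map_id (op a))) x⟩
      | succ b h ih =>
        obtain ⟨y, rfl⟩ := ih
        obtain ⟨z, rfl⟩ := hsurj q b y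
        exact ⟨z, (MLTower.map_map' (K ⋙ HomologicalComplex.eval _ _ q) (homOfLE (Nat.le_succ b)).op (homOfLE h).op _ z).symm⟩
    exact Functor.isMittagLeffler_of_surjective _ fun a b f x => key b.unop a.unop (leOfHom f.unop) x
  refine ⟨MLTower.post_surjective K hcof q p hqp hML, ?_⟩
  let X : ℕ → ℤ → AddCommGrpCat.{u} := fun n j => (K.obj (op n)).X j
  let d : ∀ n (a b : ℤ), X n a →+ X n b := fun n a b => ((K.obj (op n)).d a b).hom
  let t : ∀ (j : ℤ) n, X (n + 1) j →+ X n j := fun j n => ((st K n).f j).hom
  have hdt : ∀ (a b : ℤ) n (x : X (n + 1) a), d n a b (t a n x) = t b n (d (n + 1) a b x) :=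
    fun a b n x => MLTower.comm' a (st K n) b x
  let D : ℤ → (∀ n, X n q) →+ ∀ n, X n p := fun _ =>
    { toFun := fun y n => d n q p (y n - t q n (y (n + 1)))
      map_zero' := funext fun n => by simp
      map_add' := fun y y' => funext fun n => by
        change d n q p (y n + y' n - t q n (y (n + 1) + y' (n + 1))) = _
        rw [map_add (t q n), add_sub_add_comm, map_add]
        rfl }
  let P : AddSubgroup (∀ n, X n q) := (D 0).ker
  have hP : ∀ (y : P) n, d n q p (y.1 n - t q n (y.1 (n + 1))) = 0 := fun y n => congrFun y.2 n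
  -- the cycles attached to a compatible family of primitives
  choose z hz using fun (y : P) n => MLTower.exists_cycle (K.obj (op n)) q p hqp _ (hP y n)
  let α : P →+ Formal2.limOne (fun n => (K.obj (op n)).homology q)
      (fun n => (HomologicalComplex.homologyMap (K.map (homOfLE (Nat.le_succ n)).op) q).hom) :=
    { toFun := fun y => QuotientAddGroup.mk (fun n => ((K.obj (op n)).homologyπ q).hom (z y n))
      map_zero' := by
        rw [show (fun n => ((K.obj (op n)).homologyπ q).hom (z 0 n)) = 0 from funext fun n => by
          rw [show z 0 n = 0 from MLTower.iCycles_inj (K.obj (op n)) q ((hz 0 n).trans (by simp))]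
          exact map_zero _]
        rfl
      map_add' := fun y y' => by
        rw [← QuotientAddGroup.mk_add]
        refine congrArg _ (funext fun n => ?_)
        rw [show z (y + y') n = z y n + z y' n from MLTower.iCycles_inj (K.obj (op n)) q ((hz _ n).trans (by
          change _ = ((K.obj (op n)).iCycles q).hom (z y n + z y' n)
          rw [map_add, hz, hz]
          change y.1 n + y'.1 n - t q n (y.1 (n + 1) + y'.1 (n + 1)) = _
          rw [map_add (t q n), add_sub_add_comm]))]
        exact map_add _ _ _ }
  -- the boundary family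
  choose L hL using fun y : P => exists_lim K p (fun n => d n q p (y.1 n)) fun n => by
    have h := hP y n
    rw [map_sub, sub_eq_zero, hdt] at h
    exact h.symm
  choose Z hZ using fun y : P => MLTower.exists_cycle (limit K) p (p + 1) rfl (L y) (limit_ext_n K _ _ _ fun n => by
    rw [← MLTower.comm', hL, map_zero]
    exact ConcreteCategory.congr_hom ((K.obj (op n)).d_comp_d q p (p + 1)) (y.1 n))
  have hker : ∀ y : P, ((limit K).homologyπ p).hom (Z y) ∈
      (limit.post K (HomologicalComplex.homologyFunctor _ _ p)).hom.ker := fun y => by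
    refine AddMonoidHom.mem_ker.2 (MLTower.limit_ext' _ _ _ fun i => ?_)
    refine (MLTower.post_π K p i _).trans (Eq.trans ?_ (map_zero _).symm)
    refine (MLTower.homologyMap_class p _ _).trans ?_
    refine (MLTower.homologyπ_eq_zero (K.obj i) p q hqp _).2 ⟨y.1 i.unop, ?_⟩
    rw [MLTower.iCycles_map, hZ]
    exact (hL y i.unop).symm
  let β : P →+ (limit.post K (HomologicalComplex.homologyFunctor _ _ p)).hom.ker :=
    { toFun := fun y => ⟨_, hker y⟩
      map_zero' := Subtype.ext (by
        change ((limit K).homologyπ p).hom (Z 0) = 0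
        rw [show Z 0 = 0 from MLTower.iCycles_inj (limit K) p ((hZ 0).trans (limit_ext_n K _ _ _ fun n => by
          rw [hL]; simp))]
        exact map_zero _)
      map_add' := fun y y' => Subtype.ext (by
        change ((limit K).homologyπ p).hom (Z (y + y')) = ((limit K).homologyπ p).hom (Z y) + ((limit K).homologyπ p).hom (Z y')
        rw [← map_add, show Z (y + y') = Z y + Z y' from MLTower.iCycles_inj (limit K) p ((hZ _).trans
          (limit_ext_n K _ _ _ fun n => by
            rw [hL]
            change d n q p (y.1 n + y'.1 n) = ((limit.π K (op n)).f p).hom (((limit K).iCycles p).hom (Z y + Z y'))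
            rw [map_add, map_add, map_add, hZ, hZ, hL, hL]))]) }
  have hα : Function.Surjective α := by
    intro w
    obtain ⟨h, rfl⟩ := QuotientAddGroup.mk_surjective w
    choose c hc using fun n => MLTower.homologyπ_surj (K.obj (op n)) q (h n)
    obtain ⟨y, hy⟩ := towerDiff_surjective (fun n => X n q) (t q) (hsurj q) (fun n => ((K.obj (op n)).iCycles q).hom (c n))
    have hyn : ∀ n, y n - t q n (y (n + 1)) = ((K.obj (op n)).iCycles q).hom (c n) := congrFun hy
    have hyP : y ∈ P := funext fun n => by
      change d n q p (y n - t q n (y (n + 1))) = 0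
      rw [hyn]
      exact MLTower.d_iCycles' _ _ _ _
    refine ⟨⟨y, hyP⟩, congrArg QuotientAddGroup.mk (funext fun n => ?_)⟩
    rw [show z ⟨y, hyP⟩ n = c n from MLTower.iCycles_inj (K.obj (op n)) q ((hz _ n).trans (hyn n))]
    exact hc n
  have hβ : Function.Surjective β := by
    rintro ⟨g, hg⟩
    obtain ⟨W, rfl⟩ := MLTower.homologyπ_surj (limit K) p g
    have hb : ∀ n, ∃ y, d n q p y = ((limit.π K (op n)).f p).hom (((limit K).iCycles p).hom W) := fun n => by
      have h0 := congrArg (limit.π (K ⋙ HomologicalComplex.homologyFunctor _ _ p) (op n)).hom (AddMonoidHom.mem_ker.1 hg)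
      rw [MLTower.post_π, map_zero, MLTower.homologyMap_class,
        MLTower.homologyπ_eq_zero (K.obj (op n)) p q hqp] at h0
      obtain ⟨y, hy⟩ := h0
      exact ⟨y, hy.trans (MLTower.iCycles_map p _ W)⟩
    choose y hy using hb
    have hyP : y ∈ P := funext fun n => by
      change d n q p (y n - t q n (y (n + 1))) = 0
      rw [map_sub, hdt, hy, hy, sub_eq_zero]
      exact (st_π K p _ n).symm
    refine ⟨⟨y, hyP⟩, Subtype.ext ?_⟩
    change ((limit K).homologyπ p).hom (Z ⟨y, hyP⟩) = ((limit K).homologyπ p).hom W
    exact congrArg _ (MLTower.iCycles_inj (limit K) p ((hZ _).trans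
      (limit_ext_n K _ _ _ fun n => (hL _ n).trans (hy n))))
  have hkk : α.ker = β.ker := by
    ext y
    rw [AddMonoidHom.mem_ker, AddMonoidHom.mem_ker]
    have hβ0 : β y = 0 ↔ ∃ M : ↑((limit K).X q), ∀ n, d n q p (((limit.π K (op n)).f q).hom M) = d n q p (y.1 n) := by
      rw [Subtype.ext_iff]
      change ((limit K).homologyπ p).hom (Z y) = 0 ↔ _
      rw [MLTower.homologyπ_eq_zero (limit K) p q hqp, hZ]
      refine exists_congr fun M => ⟨fun h n => ?_, fun h => limit_ext_n K _ _ _ fun n => ?_⟩
      · rw [← hL y n, ← h]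
        exact MLTower.comm' q (limit.π K (op n)) p M
      · rw [← MLTower.comm', hL]
        exact h n
    rw [hβ0]
    constructor
    · intro h
      obtain ⟨k, hk⟩ := (QuotientAddGroup.eq_zero_iff _).1 h
      choose w hw using fun n => MLTower.homologyπ_surj (K.obj (op n)) q (k n)
      let w' : ∀ n, X n q := fun n => ((K.obj (op n)).iCycles q).hom (w n)
      have hbd : ∀ n, ∃ e : X n (q - 1), d n (q - 1) q e =
          (y.1 n - t q n (y.1 (n + 1))) - (w' n - t q n (w' (n + 1))) := fun n => by
        have h1 : ((K.obj (op n)).homologyπ q).hom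
            (z y n - (w n - (HomologicalComplex.cyclesMap (st K n) q).hom (w (n + 1)))) = 0 := by
          rw [map_sub, map_sub, hw, ← MLTower.homologyMap_class, hw, sub_eq_zero]
          exact (congrFun hk n).symm
        obtain ⟨e, he⟩ := (MLTower.homologyπ_eq_zero (K.obj (op n)) q (q - 1) (by omega) _).1 h1
        refine ⟨e, he.trans ?_⟩
        rw [map_sub, map_sub, hz, MLTower.iCycles_map]
      choose e he using hbd
      obtain ⟨f, hf⟩ := towerDiff_surjective (fun n => X n (q - 1)) (t (q - 1)) (hsurj (q - 1)) e
      obtain ⟨M, hM⟩ := exists_lim K q (fun n => y.1 n - w' n - d n (q - 1) q (f n)) fun n => by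
        have h2 := he n
        rw [← congrFun hf n] at h2
        change d n (q - 1) q (f n - t (q - 1) n (f (n + 1))) = _ at h2
        rw [map_sub, hdt] at h2
        change t q n (y.1 (n + 1) - w' (n + 1) - d (n + 1) (q - 1) q (f (n + 1))) = _
        rw [map_sub, map_sub, show t q n (d (n + 1) (q - 1) q (f (n + 1))) = d n (q - 1) q (f n) -
          ((y.1 n - t q n (y.1 (n + 1))) - (w' n - t q n (w' (n + 1)))) by rw [← h2]; abel]
        abel
      refine ⟨M, fun n => ?_⟩
      rw [hM, map_sub, map_sub, show d n q p (w' n) = 0 from MLTower.d_iCycles' _ _ _ _,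
        show d n q p (d n (q - 1) q (f n)) = 0 from
          ConcreteCategory.congr_hom ((K.obj (op n)).d_comp_d (q - 1) q p) (f n), sub_zero, sub_zero]
    · rintro ⟨M, hM⟩
      have hc : ∀ n, d n q p (y.1 n - ((limit.π K (op n)).f q).hom M) = 0 := fun n => by
        rw [map_sub, hM, sub_self]
      choose w hw using fun n => MLTower.exists_cycle (K.obj (op n)) q p hqp _ (hc n)
      refine (QuotientAddGroup.eq_zero_iff _).2 ⟨fun n => ((K.obj (op n)).homologyπ q).hom (w n), funext fun n => ?_⟩
      change ((K.obj (op n)).homologyπ q).hom (w n) -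
        (HomologicalComplex.homologyMap (st K n) q).hom (((K.obj (op (n + 1))).homologyπ q).hom (w (n + 1))) = _
      rw [MLTower.homologyMap_class, ← map_sub]
      refine congrArg _ (MLTower.iCycles_inj (K.obj (op n)) q ?_)
      change ((K.obj (op n)).iCycles q).hom _ = ((K.obj (op n)).iCycles q).hom _
      rw [map_sub, MLTower.iCycles_map, hw, hw, hz, map_sub, st_π]
      exact sub_sub_sub_cancel_right _ _ _
  exact ⟨(QuotientAddGroup.quotientKerEquivOfSurjective β hβ).symm.trans
    ((QuotientAddGroup.quotientAddEquivOfEq hkk.symm).trans (QuotientAddGroup.quotientKerEquivOfSurjective α hα))⟩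

end Groth.Agent.S15300
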