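import Groth.Statements.S15302
import Mathlib.CategoryTheory.Abelian.Injective.Resolution
import Mathlib.Algebra.Homology.QuasiIso

set_option autoImplicit false
universe v u
open HomAlg3

namespace Groth.Agent.S15302


section

open CategoryTheory CategoryTheory.Limits

variable {C : Type u} [Category.{v} C] [Abelian C]

/-- The objects of the shifted cone of the identity of a cochain complex. -/
noncomputable def coneX (I : CochainComplex C ℕ) : ℕ → C
  | 0 => I.X 0
  | p + 1 => I.X (p + 1) ⊞ I.X p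

/-- The differentials. -/
noncomputable def coneD (I : CochainComplex C ℕ) : ∀ p, coneX I p ⟶ coneX I (p + 1)
  | 0 => biprod.lift (I.d 0 1) (𝟙 _)
  | p + 1 => biprod.lift (biprod.fst ≫ I.d (p + 1) (p + 2)) (biprod.fst - biprod.snd ≫ I.d p (p + 1))

theorem coneD_comp (I : CochainComplex C ℕ) : ∀ p, coneD I p ≫ coneD I (p + 1) = 0
  | 0 => by
    show (biprod.lift (I.d 0 1) (𝟙 (I.X 0)) : I.X 0 ⟶ I.X 1 ⊞ I.X 0) ≫
      (biprod.lift (biprod.fst ≫ I.d 1 2) (biprod.fst - biprod.snd ≫ I.d 0 1) :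
        I.X 1 ⊞ I.X 0 ⟶ I.X 2 ⊞ I.X 1) = 0
    apply biprod.hom_ext <;> simp
  | p + 1 => by
    show (biprod.lift (biprod.fst ≫ I.d (p + 1) (p + 2)) (biprod.fst - biprod.snd ≫ I.d p (p + 1)) :
        I.X (p + 1) ⊞ I.X p ⟶ I.X (p + 2) ⊞ I.X (p + 1)) ≫
      (biprod.lift (biprod.fst ≫ I.d (p + 2) (p + 3)) (biprod.fst - biprod.snd ≫ I.d (p + 1) (p + 2)) :
        I.X (p + 2) ⊞ I.X (p + 1) ⟶ I.X (p + 3) ⊞ I.X (p + 2)) = 0
    apply biprod.hom_ext <;> simp

/-- The shifted cone of the identity. -/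
noncomputable def cone (I : CochainComplex C ℕ) : CochainComplex C ℕ :=
  CochainComplex.of (coneX I) (coneD I) (coneD_comp I)

theorem cone_d (I : CochainComplex C ℕ) (p : ℕ) : (cone I).d p (p + 1) = coneD I p :=
  CochainComplex.of_d _ _ p

theorem cone_injective (I : CochainComplex C ℕ) (h : ∀ n, Injective (I.X n)) :
    ∀ p, Injective ((cone I).X p)
  | 0 => h 0
  | p + 1 => by
    haveI := h
    show Injective (I.X (p + 1) ⊞ I.X p)
    infer_instance

/-- The projection onto the complex. -/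
noncomputable def coneπf (I : CochainComplex C ℕ) : ∀ p, coneX I p ⟶ I.X p
  | 0 => 𝟙 _
  | _ + 1 => biprod.fst

/-- The projection onto the complex. -/
noncomputable def coneπ (I : CochainComplex C ℕ) : cone I ⟶ I :=
  CochainComplex.ofHom (coneπf I) (fun p => by
    rw [cone_d]
    cases p with
    | zero =>
      show (𝟙 (I.X 0)) ≫ I.d 0 1 =
        (biprod.lift (I.d 0 1) (𝟙 (I.X 0)) : I.X 0 ⟶ I.X 1 ⊞ I.X 0) ≫ biprod.fst
      simp
    | succ p =>
      show (biprod.fst : I.X (p + 1) ⊞ I.X p ⟶ _) ≫ I.d (p + 1) (p + 2) =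
        (biprod.lift (biprod.fst ≫ I.d (p + 1) (p + 2)) (biprod.fst - biprod.snd ≫ I.d p (p + 1)) :
          I.X (p + 1) ⊞ I.X p ⟶ I.X (p + 2) ⊞ I.X (p + 1)) ≫ biprod.fst
      simp)

/-- A section in each degree. -/
noncomputable def coneSec (I : CochainComplex C ℕ) : ∀ p, I.X p ⟶ coneX I p
  | 0 => 𝟙 _
  | _ + 1 => biprod.inl

theorem coneSec_π (I : CochainComplex C ℕ) : ∀ p, coneSec I p ≫ coneπf I p = 𝟙 _
  | 0 => Category.comp_id _
  | _ + 1 => biprod.inl_fst

/-- The contracting homotopy. -/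
noncomputable def coneH (I : CochainComplex C ℕ) : ∀ p, coneX I (p + 1) ⟶ coneX I p
  | 0 => biprod.snd
  | _ + 1 => biprod.snd ≫ biprod.inl

theorem cone_null_eq (I : CochainComplex C ℕ) :
    Homotopy.nullHomotopicMap' (C := cone I) (D := cone I) (c := ComplexShape.up ℕ)
      (fun i j (hij : j + 1 = i) => by subst hij; exact coneH I j) = 𝟙 _ := by
  ext p
  cases p with
  | zero =>
    rw [Homotopy.nullHomotopicMap'_f_of_not_rel_right (k₀ := 1) (show (ComplexShape.up ℕ).Rel 0 1 from rfl)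
      (fun l => Nat.succ_ne_zero l), cone_d]
    show (biprod.lift (I.d 0 1) (𝟙 (I.X 0)) : I.X 0 ⟶ I.X 1 ⊞ I.X 0) ≫ biprod.snd = 𝟙 (I.X 0)
    simp
  | succ p =>
    rw [Homotopy.nullHomotopicMap'_f (show (ComplexShape.up ℕ).Rel p (p + 1) from rfl)
      (show (ComplexShape.up ℕ).Rel (p + 1) (p + 2) from rfl), cone_d, cone_d]
    cases p with
    | zero =>
      show (biprod.lift (biprod.fst ≫ I.d 1 2) (biprod.fst - biprod.snd ≫ I.d 0 1) :
          I.X 1 ⊞ I.X 0 ⟶ I.X 2 ⊞ I.X 1) ≫ (biprod.snd ≫ biprod.inl : I.X 2 ⊞ I.X 1 ⟶ I.X 1 ⊞ I.X 0)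
        + (biprod.snd : I.X 1 ⊞ I.X 0 ⟶ I.X 0) ≫
          (biprod.lift (I.d 0 1) (𝟙 (I.X 0)) : I.X 0 ⟶ I.X 1 ⊞ I.X 0) = 𝟙 (I.X 1 ⊞ I.X 0)
      apply biprod.hom_ext <;> simp
    | succ p =>
      show (biprod.lift (biprod.fst ≫ I.d (p + 2) (p + 3)) (biprod.fst - biprod.snd ≫ I.d (p + 1) (p + 2)) :
          I.X (p + 2) ⊞ I.X (p + 1) ⟶ I.X (p + 3) ⊞ I.X (p + 2)) ≫
            (biprod.snd ≫ biprod.inl : I.X (p + 3) ⊞ I.X (p + 2) ⟶ I.X (p + 2) ⊞ I.X (p + 1))
        + ((biprod.snd : I.X (p + 2) ⊞ I.X (p + 1) ⟶ I.X (p + 1)) ≫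
            (biprod.inl : I.X (p + 1) ⟶ I.X (p + 1) ⊞ I.X p)) ≫
          (biprod.lift (biprod.fst ≫ I.d (p + 1) (p + 2)) (biprod.fst - biprod.snd ≫ I.d p (p + 1)) :
            I.X (p + 1) ⊞ I.X p ⟶ I.X (p + 2) ⊞ I.X (p + 1)) = 𝟙 (I.X (p + 2) ⊞ I.X (p + 1))
      apply biprod.hom_ext <;> simp

/-- The identity of the shifted cone is null-homotopic. -/
noncomputable def coneHomotopy (I : CochainComplex C ℕ) : Homotopy (𝟙 (cone I)) 0 :=
  (Homotopy.ofEq (cone_null_eq I).symm).trans (Homotopy.nullHomotopy' _)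

/-- The projection from the sum with the cone is a homotopy equivalence. -/
noncomputable def fstEquiv (I L : CochainComplex C ℕ) : HomotopyEquiv (L ⊞ cone I) L where
  hom := biprod.fst
  inv := biprod.inl
  homotopyHomInvId := by
    have h1 : Homotopy ((biprod.snd : L ⊞ cone I ⟶ cone I) ≫ (biprod.inr : cone I ⟶ L ⊞ cone I)) 0 :=
      (Homotopy.ofEq (by simp)).trans ((((coneHomotopy I).compLeft (biprod.snd : L ⊞ cone I ⟶ _)).compRight
        (biprod.inr : cone I ⟶ L ⊞ cone I)).trans (Homotopy.ofEq (by simp)))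
    exact (Homotopy.ofEq (by simp)).trans
      (((Homotopy.refl ((biprod.fst : L ⊞ cone I ⟶ L) ≫ biprod.inl)).add h1.symm).trans
        (Homotopy.ofEq biprod.total))
  homotopyInvHomId := Homotopy.ofEq (by simp)

theorem exists_biprod_iso {X Y : C} (f : X ⟶ Y) (s : Y ⟶ X) (hs : s ≫ f = 𝟙 Y) :
    ∃ (K : C) (e : X ≅ Y ⊞ K), f = e.hom ≫ biprod.fst := by
  refine ⟨kernel f, ⟨biprod.lift f (kernel.lift f (𝟙 X - f ≫ s) (by simp [hs])),
    biprod.desc s (kernel.ι f), ?_, ?_⟩, by simp⟩
  · simp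
  · apply biprod.hom_ext' <;> apply biprod.hom_ext
    · simp [hs]
    · rw [← cancel_mono (kernel.ι f)]
      simp [reassoc_of% hs]
    · simp
    · rw [← cancel_mono (kernel.ι f)]
      simp

end

open CategoryTheory CategoryTheory.Limits in
/-- In an abelian category with enough injectives, let α : G ⟶ F be a morphism and I an injective
resolution of F. Then G has an injective resolution J together with a morphism of cochain complexes
β : J ⟶ I lying over α (the augmentations commute with α and β) such that for every p there are an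
object K^p and an isomorphism J^p ≅ I^p ⊕ K^p identifying β^p with the projection onto the first
factor (so K^p is injective as well). (The published statement is for abelian sheaves on a
topological space; its proof uses only an embedding of G into an injective object and cokernels, so
the row is stated in any abelian category with enough injectives.) -/
theorem result {C : Type u} [Category.{v} C] [Abelian C]
    [EnoughInjectives C] {G F : C} (α : G ⟶ F) (I : InjectiveResolution F) :
    ∃ (J : InjectiveResolution G) (β : J.cocomplex ⟶ I.cocomplex),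
      J.ι ≫ β = (CochainComplex.single₀ C).map α ≫ I.ι ∧
      ∀ p : ℕ, ∃ (K : C) (e : J.cocomplex.X p ≅ I.cocomplex.X p ⊞ K), β.f p = e.hom ≫ biprod.fst := by
  let J₀ : InjectiveResolution G := InjectiveResolution.of G
  let f : J₀.cocomplex ⟶ I.cocomplex := InjectiveResolution.desc α I J₀
  let T : CochainComplex C ℕ := J₀.cocomplex ⊞ cone I.cocomplex
  let ι : (CochainComplex.single₀ C).obj G ⟶ T := biprod.lift J₀.ι 0
  have hι : QuasiIso ι := by
    haveI : QuasiIso (biprod.fst : T ⟶ J₀.cocomplex) :=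
      inferInstanceAs (QuasiIso (fstEquiv I.cocomplex J₀.cocomplex).hom)
    haveI : QuasiIso (ι ≫ (biprod.fst : T ⟶ J₀.cocomplex)) := by
      rw [biprod.lift_fst]
      infer_instance
    exact quasiIso_of_comp_right ι (biprod.fst : T ⟶ J₀.cocomplex)
  have hinj : ∀ n, Injective (T.X n) := fun n => by
    haveI := cone_injective I.cocomplex (fun m => I.injective m) n
    haveI := J₀.injective n
    exact Injective.of_iso (HomologicalComplex.biprodXIso _ _ n).symm inferInstance
  refine ⟨{ cocomplex := T, injective := hinj, ι := ι, quasiIso := hι },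
    biprod.desc f (coneπ I.cocomplex), ?_, fun p => ?_⟩
  · show biprod.lift J₀.ι 0 ≫ biprod.desc f (coneπ I.cocomplex) = _
    rw [biprod.lift_desc, zero_comp, add_zero]
    exact InjectiveResolution.desc_commutes α I J₀
  · refine exists_biprod_iso _
      (coneSec I.cocomplex p ≫ (biprod.inr : cone I.cocomplex ⟶ T).f p) ?_
    have h1 : (biprod.inr : cone I.cocomplex ⟶ T).f p ≫ (biprod.desc f (coneπ I.cocomplex)).f p =
        coneπf I.cocomplex p :=
      (HomologicalComplex.comp_f _ _ p).symm.trans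
        (congrArg (fun g => HomologicalComplex.Hom.f g p) (biprod.inr_desc f (coneπ I.cocomplex)))
    exact (Category.assoc _ _ _).trans
      ((congrArg (fun g => coneSec I.cocomplex p ≫ g) h1).trans (coneSec_π I.cocomplex p))

end Groth.Agent.S15302
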