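import Groth.Statements.S15303
import Groth.Agent.SmSub.Sch
import Groth.Agent.SmSub.Coords
-- import your own Groth.Agent.* helpers here

set_option autoImplicit false
universe u

set_option linter.style.haveILetI false
set_option backward.isDefEq.respectTransparency false
open EtBase

namespace Groth.Agent.S15303

open CategoryTheory.Limits

open CategoryTheory AlgebraicGeometry in
/-- Let k be a field of characteristic zero, X and Y smooth k-schemes, f : X ⟶ Y a smooth k-morphism and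
i : Z ⟶ X a closed immersion such that the composite Z ⟶ Y is again a closed immersion. Then for
every point z of Z there are an open neighbourhood U of i(z) in X and a closed subscheme j : W ⟶ U
of U which is étale over Y (through U ⊆ X ⟶ Y) and contains Z ∩ U, i.e. the restriction of i over U
factors through j. -/
theorem result (k : Type u) [Field k] [CharZero k]
    {X Y Z : Scheme.{u}} [X.Over (Spec (CommRingCat.of k))] [Y.Over (Spec (CommRingCat.of k))]
    [Smooth (X ↘ Spec (CommRingCat.of k))] [Smooth (Y ↘ Spec (CommRingCat.of k))]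
    (f : X ⟶ Y) [f.IsOver (Spec (CommRingCat.of k))] [Smooth f]
    (i : Z ⟶ X) [IsClosedImmersion i] [IsClosedImmersion (i ≫ f)] (z : Z) :
    ∃ (U : X.Opens) (_ : i.base z ∈ U) (W : Scheme.{u}) (j : W ⟶ (U : Scheme.{u})) (_ : IsClosedImmersion j)
      (_ : Etale (j ≫ U.ι ≫ f)) (g : ((i ⁻¹ᵁ U : Z.Opens) : Scheme.{u}) ⟶ W), g ≫ j = i ∣_ U := by
  classical
  set x := i.base z with hxdef
  obtain ⟨U₀, hU₀, hsx, -⟩ := exists_isAffineOpen_mem_and_subset (X := Y) (x := f.base x) (U := ⊤) trivial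
  obtain ⟨V₀, hV₀, hxV, hVU⟩ := exists_isAffineOpen_mem_and_subset (X := X) (x := x) (U := f ⁻¹ᵁ U₀) hsx
  have e₀ : V₀ ≤ f ⁻¹ᵁ U₀ := hVU
  have hW : IsAffineOpen (i ⁻¹ᵁ V₀) := hV₀.preimage i
  have eZ : i ⁻¹ᵁ V₀ ≤ (i ≫ f) ⁻¹ᵁ U₀ := fun z hz => e₀ hz
  let A := Γ(Y, U₀)
  let B := Γ(X, V₀)
  let C := Γ(Z, i ⁻¹ᵁ V₀)
  letI : Algebra A B := (f.appLE U₀ V₀ e₀).hom.toAlgebra
  letI : Algebra A C := ((i ≫ f).appLE U₀ _ eZ).hom.toAlgebra
  haveI : Algebra.Smooth A B := RingHom.smooth_algebraMap.1 (f.smooth_appLE hU₀ hV₀ e₀)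
  haveI : Algebra.FormallyUnramified A C := (i ≫ f).formallyUnramified_appLE hU₀ hW eZ
  let ψ : B →ₐ[A] C :=
    { (i.app V₀).hom with
      commutes' := fun a => by
        show (i.app V₀).hom ((f.appLE U₀ V₀ e₀).hom a) = ((i ≫ f).appLE U₀ _ eZ).hom a
        rw [← CommRingCat.comp_apply, Scheme.Hom.app_eq_appLE, Scheme.Hom.appLE_comp_appLE] }
  have hψ : Function.Surjective ψ := i.app_surjective V₀ hV₀
  let J : Ideal B := RingHom.ker ψ
  haveI : Algebra.FormallyUnramified A (B ⧸ J) :=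
    Algebra.FormallyUnramified.of_equiv (Ideal.quotientKerAlgEquivOfSurjective hψ).symm
  let q : Ideal B := (hV₀.primeIdealOf ⟨x, hxV⟩).asIdeal
  have hmem : ∀ b : B, b ∉ q → x ∈ X.basicOpen b := by
    intro b hbq
    have h3 : hV₀.primeIdealOf ⟨x, hxV⟩ ∈ hV₀.fromSpec ⁻¹ᵁ X.basicOpen b := by
      rw [hV₀.fromSpec_preimage_basicOpen]; exact hbq
    have h4 : hV₀.fromSpec.base (hV₀.primeIdealOf ⟨x, hxV⟩) ∈ X.basicOpen b := h3
    rwa [hV₀.fromSpec_primeIdealOf] at h4
  have hJq : J ≤ q := by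
    intro b hb
    by_contra hbq
    have hy : z ∈ Z.basicOpen ((i.app V₀).hom b) := by
      rw [← Scheme.preimage_basicOpen]
      exact hmem b hbq
    rw [show (i.app V₀).hom b = 0 from hb, Scheme.basicOpen_zero] at hy
    exact hy
  haveI : Algebra.IsSmoothAt A q := inferInstance
  obtain ⟨a, ha, d, g, hg, het⟩ := SmSub.exists_coords_of_unramified A B J q hJq
  let U : X.Opens := X.basicOpen a
  have hxU : x ∈ U := hmem a ha
  have hU : IsAffineOpen U := hV₀.basicOpen a
  have e : U ≤ f ⁻¹ᵁ U₀ := (X.basicOpen_le a).trans e₀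
  haveI : IsAffine U₀.toScheme := hU₀
  haveI : IsAffine U.toScheme := hU
  letI : Algebra B Γ(X, U) := (X.presheaf.map (homOfLE (X.basicOpen_le a)).op).hom.toAlgebra
  haveI : IsLocalization.Away a Γ(X, U) := hV₀.isLocalization_basicOpen a
  let ε : Localization.Away a ≃ₐ[B] Γ(X, U) := IsLocalization.algEquiv (Submonoid.powers a) _ _
  let eL : Localization.Away a ≃+* Γ(U, ⊤) := ε.toRingEquiv.trans U.topIso.symm.commRingCatIsoToRingEquiv
  let v : ULift.{u} (Fin d) → Γ(U, ⊤) := fun j => eL (algebraMap B (Localization.Away a) (g j.down))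
  have hv : ∀ j, v j = (X.homOfLE (X.basicOpen_le a)).appTop (V₀.topIso.inv (g j.down)) := by
    intro j
    show U.topIso.inv (ε (algebraMap B (Localization.Away a) (g j.down))) = _
    rw [AlgEquiv.commutes]
    show U.topIso.inv (X.presheaf.map (homOfLE (X.basicOpen_le a)).op (g j.down)) = _
    rw [← Scheme.Hom.resLE_id (X := X) (X.basicOpen_le a),
      Scheme.Hom.appTop, Scheme.Hom.resLE_app_top]
    simp only [CommRingCat.comp_apply, Iso.inv_hom_id_apply]
    simp [Scheme.Hom.appLE]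
    rfl
  have hmapU : ∀ c : A, eL (algebraMap A (Localization.Away a) c) =
      (f.resLE U₀ U e).appTop (U₀.topIso.inv c) := by
    intro c
    rw [IsScalarTower.algebraMap_apply A B (Localization.Away a)]
    show U.topIso.inv (ε (algebraMap B _ (algebraMap A B c))) = _
    rw [AlgEquiv.commutes]
    show U.topIso.inv ((X.presheaf.map (homOfLE (X.basicOpen_le a)).op).hom ((f.appLE U₀ V₀ e₀).hom c)) = _
    rw [Scheme.Hom.appTop, Scheme.Hom.resLE_app_top]
    simp only [← CommRingCat.comp_apply]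
    rw [Scheme.Hom.appLE_map, Iso.inv_hom_id_assoc, CommRingCat.comp_apply]
  have hπ : Etale (AffineSpace.homOfVector (f.resLE U₀ U e) v) := by
    apply EtChart.etale_homOfVector_of_isAffine
    exact SmSub.etale_eval U₀.topIso.commRingCatIsoToRingEquiv eL Equiv.ulift
      (fun j => algebraMap B (Localization.Away a) (g j)) het _
      (fun c => (hmapU (U₀.topIso.hom c)).trans (by rw [Iso.hom_inv_id_apply]))
  haveI := hπ
  let π := AffineSpace.homOfVector (f.resLE U₀ U e) v
  let s₀ : U₀.toScheme ⟶ 𝔸(ULift.{u} (Fin d); U₀.toScheme) := AffineSpace.homOfVector (𝟙 _) (fun _ => 0)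
  haveI : IsClosedImmersion (s₀ ≫ (𝔸(ULift.{u} (Fin d); U₀.toScheme) ↘ U₀.toScheme)) := by
    rw [AffineSpace.homOfVector_over]; infer_instance
  haveI : IsClosedImmersion s₀ := IsClosedImmersion.of_comp _ (𝔸(ULift.{u} (Fin d); U₀.toScheme) ↘ U₀.toScheme)
  have hj : pullback.fst π s₀ ≫ U.ι ≫ f = pullback.snd π s₀ ≫ U₀.ι := by
    have h := congrArg (fun φ => φ ≫ (𝔸(ULift.{u} (Fin d); U₀.toScheme) ↘ U₀.toScheme) ≫ U₀.ι)
      (pullback.condition (f := π) (g := s₀))
    simp only [Category.assoc, π, s₀, AffineSpace.homOfVector_over_assoc, Category.id_comp,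
      Scheme.Hom.resLE_comp_ι] at h
    exact h
  have eU : i ⁻¹ᵁ U ≤ (i ≫ f) ⁻¹ᵁ U₀ := fun w hw => e hw
  have hsq : (i ∣_ U) ≫ π = (i ≫ f).resLE U₀ (i ⁻¹ᵁ U) eU ≫ s₀ := by
    apply AffineSpace.hom_ext
    · simp only [Category.assoc, π, s₀, AffineSpace.homOfVector_over, Category.comp_id]
      rw [← Scheme.Hom.resLE_eq_morphismRestrict, Scheme.Hom.resLE_comp_resLE]
    · intro j
      simp only [Scheme.Hom.comp_appTop, CommRingCat.comp_apply, π, s₀, AffineSpace.homOfVector_appTop_coord,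
        map_zero]
      rw [hv, ← CommRingCat.comp_apply, ← Scheme.Hom.comp_appTop, ← Scheme.Hom.resLE_eq_morphismRestrict,
        ← Scheme.Hom.resLE_id (X := X) (X.basicOpen_le a), Scheme.Hom.resLE_comp_resLE, Scheme.Hom.appTop,
        Scheme.Hom.resLE_app_top]
      simp only [CommRingCat.comp_apply, Iso.inv_hom_id_apply]
      have hle : i ⁻¹ᵁ U ≤ i ⁻¹ᵁ V₀ := fun w hw => X.basicOpen_le a hw
      have h0 : i.appLE V₀ (i ⁻¹ᵁ U) hle (g j.down) = 0 := by
        rw [Scheme.Hom.appLE]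
        simp [show (i.app V₀) (g j.down) = 0 from hg j.down]
      simp only [Category.comp_id]
      rw [h0, map_zero]
  refine ⟨U, hxU, pullback π s₀, pullback.fst π s₀, inferInstance, ?_,
    pullback.lift (i ∣_ U) ((i ≫ f).resLE U₀ (i ⁻¹ᵁ U) eU) hsq, pullback.lift_fst _ _ _⟩
  rw [hj]
  infer_instance

end Groth.Agent.S15303
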