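import Groth.Statements.S15324
import Groth.Agent.EtPur.BlowCoh
import Groth.Agent.EtPur.ArSurfCoh

set_option autoImplicit false
open CategoryTheory CategoryTheory.Limits AlgebraicGeometry
universe u
open ArLef

namespace Groth.Agent.S15324

/-- Let R be a complete discrete valuation ring with algebraically closed residue field, X a regular
arithmetic surface over R (here: regular, integral, of dimension 2, flat and projective over Spec
R), F a finite set of closed points of X (each point of F is closed in X) and q : X′ → X a blowing
up of X in the reduced ideal sheaf of F. For n ≥ 1 invertible in R, the pull-back map H^i(X, Z/n) →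
H^i(X′, q^* Z/n) on etale cohomology is bijective for every i ≠ 2, and for i = 2 it is injective
with cokernel isomorphic to (Z/n)^F. (The published statement is for the closed fibres and l-adic
coefficients; the published proof first identifies the cohomology of X and X′ with that of their
closed fibres by proper base change and then computes on X, which is the form stated here, with
coefficients Z/n; exactness of pull-back of abelian sheaves, which always holds, is carried as an
instance hypothesis.) -/
theorem result (R : Type u) [CommRing R] [IsDomain R] [IsDiscreteValuationRing R]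
    [IsAdicComplete (IsLocalRing.maximalIdeal R) R] [IsAlgClosed (IsLocalRing.ResidueField R)]
    (X : Over (Spec (CommRingCat.of R))) (hX : ArSurf.IsArithSurface R X)
    (F : Finset X.left) (hF : IsClosed (F : Set X.left))
    (hFc : ∀ x ∈ F, IsClosed ({x} : Set X.left))
    {X' : Scheme.{u}} (q : X' ⟶ X.left)
    (hq : BlowUp.IsBlowUp q
      (Scheme.IdealSheafData.vanishingIdeal (⟨(F : Set X.left), hF⟩ : TopologicalSpace.Closeds X.left)))
    (n : ℕ) (hn : n ≠ 0) (hnR : IsUnit ((n : ℕ) : R))
    [PreservesFiniteLimits (EtCoh.pull q)] :
    (∀ i : ℕ, i ≠ 2 → Function.Bijective (EtCore.Hpull q (EtCoh.const X.left (ZMod n)) i)) ∧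
      Function.Injective (EtCore.Hpull q (EtCoh.const X.left (ZMod n)) 2) ∧
      ∃ φ : EtCoh.H X' ((EtCoh.pull q).obj (EtCoh.const X.left (ZMod n))) 2 →+ (F → ZMod n),
        Function.Surjective φ ∧ φ.ker = (EtCore.Hpull q (EtCoh.const X.left (ZMod n)) 2).range := by
  obtain ⟨-, hN, hpt⟩ := Groth.Agent.EtPur.arSurf_setting hX
  haveI := hN
  haveI : NeZero n := ⟨hn⟩
  have hnX : IsUnit ((n : ℕ) : Γ(X.left, ⊤)) := by
    have h := hnR.map ((Scheme.ΓSpecIso (CommRingCat.of R)).inv ≫ X.hom.appTop).hom
    rwa [map_natCast] at h
  exact Groth.Agent.EtPur.Hpull_blowUp_finite hF (fun x hx => (hpt x (hFc x hx)).1)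
    (fun x hx => (hpt x (hFc x hx)).2) hq n hnX
    fun i hi => Groth.Agent.EtPur.subsingleton_H_arSurf hX n i hi

end Groth.Agent.S15324
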