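import Groth.Statements.S15330
import Groth.Agent.Higgs.Basic

set_option autoImplicit false
open CategoryTheory AlgebraicGeometry CategoryTheory.Limits
open VBCurve

set_option backward.isDefEq.respectTransparency false
set_option backward.isDefEq.respectTransparency.types false

open Groth.Agent

namespace Groth.Agent.S15330

/-- Let X be a smooth proper integral curve over the complex numbers, L an invertible module on X, and
(E, φ_E), (F, φ_F) two L-valued Higgs bundles on X of the same rank r ≥ 1 and the same degree d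
(degree = χ − rank · χ(O)), each semistable: deg G · r ≤ d · s for every finite locally free
submodule G of rank s ≥ 1 to which the Higgs field restricts. Let E_0 ⊂ E_1 ⊂ … ⊂ E_n = E with E_0 =
0 and F = F_0 ⊃ F_1 ⊃ … ⊃ F_n = 0 be chains of finite locally free submodules to which the Higgs
fields restrict, of ranks with rk E_i + rk F_i = r, which are opposite: E_{i+1}/E_i ≅ F_i/F_{i+1} as
O-modules for i < n. Then every E_i of positive rank and every F_i of positive rank has slope d/r,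
that is deg · r = d · rank, and is semistable for its restricted Higgs field; and each graded piece
E_{i+1}/E_i of positive rank is finite locally free of rank rk E_{i+1} − rk E_i, of slope d/r, and
semistable for every Higgs field on it compatible with that of E_{i+1} along the projection. (The
published statement indexes the second chain so that F_i/F_{i+1} matches E_i/E_{i−1} and takes the
isomorphisms of graded pieces as Higgs bundles; here they are assumed as O-modules only, together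
with the rank bookkeeping rk E_i + rk F_i = r that they imply.) -/
theorem result
    (X : Scheme.{0}) [X.Over (Spec (CommRingCat.of ℂ))] [IsIntegral X]
    [IsProper (X ↘ Spec (CommRingCat.of ℂ))] [Smooth (X ↘ Spec (CommRingCat.of ℂ))]
    (hdim : topologicalKrullDim X = 1)
    (L : X.Modules) (hL : PicF.IsInvertible L) (r : ℕ) (hr : 0 < r) (d : ℤ)
    (E : X.Modules) (hE : FlatMod.IsFinLocFreeOfRank r E) (φE : E ⟶ CohB1.tensorMod E L)
    (hEd : Curv2.deg ℂ X E r = d)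
    (hEss : (∀ (G : X.Modules) (s : ℕ) (j : G ⟶ E) (χ : G ⟶ CohB1.tensorMod G L), Mono j → 0 < s →
        FlatMod.IsFinLocFreeOfRank s G →
        χ ≫ (CohB1.sheafifyMod X).map (MonoidalCategoryStruct.whiskerRight (C := CohB1.PMod X) j.val (CohB1.toPMod L)) = j ≫ φE →
        Curv2.deg ℂ X G s * (r : ℤ) ≤ Curv2.deg ℂ X E r * (s : ℤ)))
    (F : X.Modules) (hF : FlatMod.IsFinLocFreeOfRank r F) (φF : F ⟶ CohB1.tensorMod F L)
    (hFd : Curv2.deg ℂ X F r = d)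
    (hFss : (∀ (G : X.Modules) (s : ℕ) (j : G ⟶ F) (χ : G ⟶ CohB1.tensorMod G L), Mono j → 0 < s →
        FlatMod.IsFinLocFreeOfRank s G →
        χ ≫ (CohB1.sheafifyMod X).map (MonoidalCategoryStruct.whiskerRight (C := CohB1.PMod X) j.val (CohB1.toPMod L)) = j ≫ φF →
        Curv2.deg ℂ X G s * (r : ℤ) ≤ Curv2.deg ℂ X F r * (s : ℤ)))
    (n : ℕ)
    (Es : ℕ → X.Modules) (rE : ℕ → ℕ) (hEs : ∀ i, FlatMod.IsFinLocFreeOfRank (rE i) (Es i))
    (ιE : ∀ i, Es i ⟶ E) (hιE : ∀ i, Mono (ιE i))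
    (ψE : ∀ i, Es i ⟶ CohB1.tensorMod (Es i) L)
    (hψE : ∀ i, ψE i ≫ (CohB1.sheafifyMod X).map (MonoidalCategoryStruct.whiskerRight (C := CohB1.PMod X) (ιE i).val (CohB1.toPMod L)) = ιE i ≫ φE)
    (a : ∀ i, Es i ⟶ Es (i + 1)) (ha : ∀ i, a i ≫ ιE (i + 1) = ιE i)
    (hE0 : IsZero (Es 0)) (hEn : IsIso (ιE n))
    (Fs : ℕ → X.Modules) (rF : ℕ → ℕ) (hFs : ∀ i, FlatMod.IsFinLocFreeOfRank (rF i) (Fs i))
    (ιF : ∀ i, Fs i ⟶ F) (hιF : ∀ i, Mono (ιF i))
    (ψF : ∀ i, Fs i ⟶ CohB1.tensorMod (Fs i) L)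
    (hψF : ∀ i, ψF i ≫ (CohB1.sheafifyMod X).map (MonoidalCategoryStruct.whiskerRight (C := CohB1.PMod X) (ιF i).val (CohB1.toPMod L)) = ιF i ≫ φF)
    (b : ∀ i, Fs (i + 1) ⟶ Fs i) (hb : ∀ i, b i ≫ ιF i = ιF (i + 1))
    (hF0 : IsIso (ιF 0)) (hFn : IsZero (Fs n))
    (hrk : ∀ i, i ≤ n → rE i + rF i = r)
    (hopp : ∀ i, i < n → Nonempty (cokernel (a i) ≅ cokernel (b i))) :
    (∀ i, i ≤ n → 0 < rE i →
      Curv2.deg ℂ X (Es i) (rE i) * (r : ℤ) = d * (rE i : ℤ) ∧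
      (∀ (G : X.Modules) (s : ℕ) (j : G ⟶ (Es i)) (χ : G ⟶ CohB1.tensorMod G L), Mono j → 0 < s →
        FlatMod.IsFinLocFreeOfRank s G →
        χ ≫ (CohB1.sheafifyMod X).map (MonoidalCategoryStruct.whiskerRight (C := CohB1.PMod X) j.val (CohB1.toPMod L)) = j ≫ ψE i →
        Curv2.deg ℂ X G s * (rE i : ℤ) ≤ Curv2.deg ℂ X (Es i) (rE i) * (s : ℤ))) ∧
    (∀ i, i ≤ n → 0 < rF i →
      Curv2.deg ℂ X (Fs i) (rF i) * (r : ℤ) = d * (rF i : ℤ) ∧
      (∀ (G : X.Modules) (s : ℕ) (j : G ⟶ (Fs i)) (χ : G ⟶ CohB1.tensorMod G L), Mono j → 0 < s →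
        FlatMod.IsFinLocFreeOfRank s G →
        χ ≫ (CohB1.sheafifyMod X).map (MonoidalCategoryStruct.whiskerRight (C := CohB1.PMod X) j.val (CohB1.toPMod L)) = j ≫ ψF i →
        Curv2.deg ℂ X G s * (rF i : ℤ) ≤ Curv2.deg ℂ X (Fs i) (rF i) * (s : ℤ))) ∧
    (∀ i, i < n → rE i < rE (i + 1) →
      FlatMod.IsFinLocFreeOfRank (rE (i + 1) - rE i) (cokernel (a i)) ∧
      Curv2.deg ℂ X (cokernel (a i)) (rE (i + 1) - rE i) * (r : ℤ) = d * ((rE (i + 1) - rE i : ℕ) : ℤ) ∧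
      ∀ (φ' : cokernel (a i) ⟶ CohB1.tensorMod (cokernel (a i)) L),
        cokernel.π (a i) ≫ φ' = ψE (i + 1) ≫ (CohB1.sheafifyMod X).map (MonoidalCategoryStruct.whiskerRight (C := CohB1.PMod X) (cokernel.π (a i)).val (CohB1.toPMod L)) →
        (∀ (G : X.Modules) (s : ℕ) (j : G ⟶ cokernel (a i)) (χ : G ⟶ CohB1.tensorMod G L), Mono j → 0 < s →
        FlatMod.IsFinLocFreeOfRank s G →
        χ ≫ (CohB1.sheafifyMod X).map (MonoidalCategoryStruct.whiskerRight (C := CohB1.PMod X) j.val (CohB1.toPMod L)) = j ≫ φ' →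
        Curv2.deg ℂ X G s * ((rE (i + 1) - rE i : ℕ) : ℤ) ≤ Curv2.deg ℂ X (cokernel (a i)) (rE (i + 1) - rE i) * (s : ℤ))) := by
  have hX := W7Slope.regCurve_of_smooth (k := ℂ) (X := X) hdim
  haveI := CurveRR.isNoetherian_of_proper ℂ X
  have conv : ∀ {M : X.Modules} {φ : M ⟶ CohB1.tensorMod M L} {m : ℕ},
      (∀ (G : X.Modules) (s : ℕ) (j : G ⟶ M) (χ : G ⟶ CohB1.tensorMod G L), Mono j → 0 < s →
        FlatMod.IsFinLocFreeOfRank s G →
        χ ≫ (CohB1.sheafifyMod X).map (MonoidalCategoryStruct.whiskerRight (C := CohB1.PMod X) j.val (CohB1.toPMod L)) = j ≫ φ →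
        Curv2.deg ℂ X G s * (m : ℤ) ≤ Curv2.deg ℂ X M m * (s : ℤ)) →
      ∀ (G : X.Modules) (s : ℕ) (j : G ⟶ M), Mono j → 0 < s → FlatMod.IsFinLocFreeOfRank s G → Higgs.Inv φ j →
        Curv2.deg ℂ X G s * (m : ℤ) ≤ Curv2.deg ℂ X M m * (s : ℤ) :=
    fun h G s j hj hs hG ⟨χ, hχ⟩ => h G s j χ hj hs hG (by rw [W7Slope.whisker_eq]; exact hχ)
  have hE' := conv hEss
  have hF' := conv hFss
  simp only [W7Slope.whisker_eq] at hψE hψF ⊢
  rw [hEd] at hE'
  rw [hFd] at hF'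
  have hEc : ∀ i, Coh.IsCoh (Es i) := fun i => CurveRR.isCoh_of_rank (hEs i)
  have hFc : ∀ i, Coh.IsCoh (Fs i) := fun i => CurveRR.isCoh_of_rank (hFs i)
  have hma : ∀ i, Mono (a i) := fun i => haveI := hιE i; mono_of_mono_fac (ha i)
  have hmb : ∀ i, Mono (b i) := fun i => haveI := hιF (i + 1); mono_of_mono_fac (hb i)
  have hle : ∀ (M : X.Modules) (φ : M ⟶ CohB1.tensorMod M L), (∀ (G : X.Modules) (s : ℕ) (j : G ⟶ M), Mono j →
      0 < s → FlatMod.IsFinLocFreeOfRank s G → Higgs.Inv φ j → Curv2.deg ℂ X G s * (r : ℤ) ≤ d * (s : ℤ)) →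
      ∀ (G : X.Modules) (s : ℕ) (j : G ⟶ M), Mono j → FlatMod.IsFinLocFreeOfRank s G → Higgs.Inv φ j →
      Curv2.deg ℂ X G s * (r : ℤ) ≤ d * (s : ℤ) := fun M φ h G s j hj hG hi => by
    rcases Nat.eq_zero_or_pos s with rfl | hs
    · simp [W7Slope.deg_rank_zero ℂ hG]
    exact h G s j hj hs hG hi
  have hsum : ∀ i, i ≤ n → W7Slope.cdeg ℂ (Es i) + W7Slope.cdeg ℂ (Fs i) = d := by
    intro i
    induction i with
    | zero =>
      intro _
      haveI := hF0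
      rw [W7Slope.cdeg_isZero ℂ hE0 (hEc 0), W7Slope.cdeg_iso (k := ℂ) (asIso (ιF 0)), ← W7Slope.deg_eq hF, hFd,
        zero_add]
    | succ i ih =>
      intro hi
      haveI := hma i
      haveI := hmb i
      obtain ⟨e⟩ := hopp i (by omega)
      have h1 := W7Slope.cdeg_add (k := ℂ) (S := ShortComplex.mk (a i) (cokernel.π (a i)) (cokernel.condition _))
        { exact := ShortComplex.exact_cokernel _ } (hEc i) (hEc (i + 1))
        (W7Slope.isCoh_cokernel ℂ (hEc i) (hEc (i + 1)) _)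
      have h2 := W7Slope.cdeg_add (k := ℂ) (S := ShortComplex.mk (b i) (cokernel.π (b i)) (cokernel.condition _))
        { exact := ShortComplex.exact_cokernel _ } (hFc (i + 1)) (hFc i)
        (W7Slope.isCoh_cokernel ℂ (hFc (i + 1)) (hFc i) _)
      change W7Slope.cdeg ℂ (Es (i + 1)) = W7Slope.cdeg ℂ (Es i) + W7Slope.cdeg ℂ (cokernel (a i)) at h1
      change W7Slope.cdeg ℂ (Fs i) = W7Slope.cdeg ℂ (Fs (i + 1)) + W7Slope.cdeg ℂ (cokernel (b i)) at h2
      have h3 := W7Slope.cdeg_iso (k := ℂ) e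
      have := ih (by omega)
      omega
  have heq : ∀ i, i ≤ n → Curv2.deg ℂ X (Es i) (rE i) * (r : ℤ) = d * (rE i : ℤ) ∧
      Curv2.deg ℂ X (Fs i) (rF i) * (r : ℤ) = d * (rF i : ℤ) := by
    intro i hi
    have h1 := hle E φE hE' _ _ (ιE i) (hιE i) (hEs i) ⟨ψE i, hψE i⟩
    have h2 := hle F φF hF' _ _ (ιF i) (hιF i) (hFs i) ⟨ψF i, hψF i⟩
    have h3 := hsum i hi
    rw [← W7Slope.deg_eq (hEs i), ← W7Slope.deg_eq (hFs i)] at h3
    have h4 : (rE i : ℤ) + (rF i : ℤ) = r := by exact_mod_cast hrk i hi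
    have h5 : Curv2.deg ℂ X (Es i) (rE i) * (r : ℤ) + Curv2.deg ℂ X (Fs i) (rF i) * (r : ℤ) =
        d * (rE i : ℤ) + d * (rF i : ℤ) := by rw [← add_mul, h3, ← mul_add, h4]
    constructor <;> linarith
  rw [← hEd] at hE'
  rw [← hFd] at hF'
  refine ⟨fun i hi _ => ⟨(heq i hi).1, fun G s j χ hj hs hG hχ => ?_⟩,
    fun i hi _ => ⟨(heq i hi).2, fun G s j χ hj hs hG hχ => ?_⟩, fun i hi hlt => ?_⟩
  · haveI := hιE i
    exact Higgs.sub_ss ℂ hr φE hE' (ιE i) (hψE i) (by rw [hEd]; exact (heq i hi).1) j hs hG ⟨χ, hχ⟩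
  · haveI := hιF i
    exact Higgs.sub_ss ℂ hr φF hF' (ιF i) (hψF i) (by rw [hFd]; exact (heq i hi).2) j hs hG ⟨χ, hχ⟩
  haveI := hιE i
  haveI := hιE (i + 1)
  haveI := hma i
  have e0 := (heq i (by omega)).1
  have e1 := (heq (i + 1) hi).1
  have hss : ∀ (G : X.Modules) (s : ℕ) (j : G ⟶ Es (i + 1)), Mono j → 0 < s → FlatMod.IsFinLocFreeOfRank s G →
      Higgs.Inv (ψE (i + 1)) j → Curv2.deg ℂ X G s * (rE (i + 1) : ℤ) ≤
        Curv2.deg ℂ X (Es (i + 1)) (rE (i + 1)) * (s : ℤ) := fun G s j hj hs hG hi' =>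
    Higgs.sub_ss ℂ hr φE hE' (ιE (i + 1)) (hψE (i + 1)) (by rw [hEd]; exact e1) j hs hG hi'
  have hψa : ψE i ≫ CohFinite.tmap (a i) L = a i ≫ ψE (i + 1) := by
    haveI := W7Slope.mono_tmap hL (ιE (i + 1))
    rw [← cancel_mono (CohFinite.tmap (ιE (i + 1)) L), Category.assoc, ← CohFinite.tmap_comp, ha, hψE,
      Category.assoc, hψE, ← Category.assoc, ha]
  have hslope : Curv2.deg ℂ X (Es i) (rE i) * (rE (i + 1) : ℤ) =
      Curv2.deg ℂ X (Es (i + 1)) (rE (i + 1)) * (rE i : ℤ) := by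
    refine mul_right_cancel₀ (show (r : ℤ) ≠ 0 by omega) ?_
    linear_combination (rE (i + 1) : ℤ) * e0 - (rE i : ℤ) * e1
  obtain ⟨hsr, hq, hd⟩ := Higgs.coker_of_slope_eq ℂ hX hL (by omega) (hEs (i + 1)) (ψE (i + 1)) hss (hEs i) (a i)
    ⟨_, hψa⟩ hslope
  refine ⟨hq, ?_, fun φ' hφ' G s j χ hj hs hG hχ => ?_⟩
  · push_cast [hsr]
    linear_combination e1 - e0 - (r : ℤ) * hd
  exact Higgs.quot_ss ℂ hX hL (by omega) (hEs (i + 1)) (ψE (i + 1)) hss (hEs i) (a i) ⟨_, hψa⟩ hslope φ' hφ' j hs hG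
    ⟨χ, hχ⟩

end Groth.Agent.S15330
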