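import Groth.Statements.S15331
import Groth.Agent.W7Slope.Hom

set_option autoImplicit false
universe u
open CategoryTheory CategoryTheory.Limits AlgebraicGeometry
open VBCurve
open Groth.Agent Groth.Agent.CurveRR

set_option backward.isDefEq.respectTransparency false
set_option backward.isDefEq.respectTransparency.types false

namespace Groth.Agent.S15331

/-- Let X be a smooth proper integral curve (integral, smooth and proper of dimension one) over an
algebraically closed field k and E a finite locally free O_X-module of rank r ≥ 1. Then the degrees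
of the finite locally free submodules F of E, of any rank r' (degree meaning χ(F) − r'·χ(O_X)), are
bounded above. -/
theorem result (k : Type u) [Field k] [IsAlgClosed k] (X : Scheme.{u}) [X.Over (Spec (CommRingCat.of k))]
    [IsIntegral X] [IsProper (X ↘ Spec (CommRingCat.of k))] [Smooth (X ↘ Spec (CommRingCat.of k))]
    (hdim : topologicalKrullDim X = 1)
    (r : ℕ) (hr : 0 < r) (E : X.Modules) (hE : FlatMod.IsFinLocFreeOfRank r E) :
    ∃ N : ℤ, ∀ (F : X.Modules) (r' : ℕ) (i : F ⟶ E), Mono i → FlatMod.IsFinLocFreeOfRank r' F →
      Curv2.deg k X F r' ≤ N := by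
  have hX : W7Slope.RegCurve X := W7Slope.regCurve_of_smooth (k := k) hdim
  haveI := isNoetherian_of_proper k X
  refine ⟨(CurveRR.h k E 0 : ℤ) + r * |Curv2.euler k X (Coh.structureModule X)|, fun F r' i hi hF => ?_⟩
  have hb := W7Slope.cdeg_le_bound k hX.dim (isCoh_of_rank hE) i
  have hle := W7Slope.grk_le_of_mono k i (isCoh_of_rank hE)
  rw [W7Slope.grk_of_rank hF, W7Slope.grk_of_rank hE] at hle
  rw [W7Slope.grk_of_rank hF] at hb
  rw [W7Slope.deg_eq hF]
  have hle' : (r' : ℤ) ≤ r := by exact_mod_cast hle
  nlinarith [neg_abs_le (Curv2.euler k X (Coh.structureModule X)), abs_nonneg (Curv2.euler k X (Coh.structureModule X)),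
    mul_le_mul_of_nonneg_right hle' (abs_nonneg (Curv2.euler k X (Coh.structureModule X))),
    mul_le_mul_of_nonneg_left (neg_abs_le (Curv2.euler k X (Coh.structureModule X))) (Int.natCast_nonneg r')]

end Groth.Agent.S15331
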