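import Groth.Statements.S15335
import Groth.Agent.W7Slope.Hom

set_option autoImplicit false
universe u
open CategoryTheory CategoryTheory.Limits AlgebraicGeometry
open VBCurve
open Groth.Agent Groth.Agent.CurveRR

set_option backward.isDefEq.respectTransparency false
set_option backward.isDefEq.respectTransparency.types false

namespace Groth.Agent.S15335

/-- Let X be a smooth proper integral curve (integral, smooth and proper of dimension one) over an
algebraically closed field k, and E₁, E₂ finite locally free O_X-modules of ranks r₁ ≥ 1, r₂ ≥ 1.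
The maximal slope of E₁ ⊕ E₂ is at most the larger of the maximal slopes of E₁ and E₂: if m₁, m₂ are
rational numbers such that every finite locally free submodule of positive rank of E₁ (resp. E₂) has
slope deg/rank ≤ m₁ (resp. ≤ m₂), degree meaning χ − rank·χ(O_X), then every finite locally free
submodule F of the biproduct E₁ ⊞ E₂ of rank r' ≥ 1 has slope deg F / r' ≤ max(m₁, m₂). -/
theorem result (k : Type u) [Field k] [IsAlgClosed k] (X : Scheme.{u}) [X.Over (Spec (CommRingCat.of k))]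
    [IsIntegral X] [IsProper (X ↘ Spec (CommRingCat.of k))] [Smooth (X ↘ Spec (CommRingCat.of k))]
    (hdim : topologicalKrullDim X = 1)
    (r₁ r₂ : ℕ) (hr₁ : 0 < r₁) (hr₂ : 0 < r₂) (E₁ E₂ : X.Modules)
    (hE₁ : FlatMod.IsFinLocFreeOfRank r₁ E₁) (hE₂ : FlatMod.IsFinLocFreeOfRank r₂ E₂) (m₁ m₂ : ℚ)
    (h₁ : ∀ (G : X.Modules) (r' : ℕ) (i : G ⟶ E₁), Mono i → 0 < r' → FlatMod.IsFinLocFreeOfRank r' G →
      (Curv2.deg k X G r' : ℚ) / r' ≤ m₁)
    (h₂ : ∀ (G : X.Modules) (r' : ℕ) (i : G ⟶ E₂), Mono i → 0 < r' → FlatMod.IsFinLocFreeOfRank r' G →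
      (Curv2.deg k X G r' : ℚ) / r' ≤ m₂)
    (F : X.Modules) (r' : ℕ) (i : F ⟶ E₁ ⊞ E₂) (hi : Mono i) (hr' : 0 < r')
    (hF : FlatMod.IsFinLocFreeOfRank r' F) :
    (Curv2.deg k X F r' : ℚ) / r' ≤ max m₁ m₂ := by
  have hX : W7Slope.RegCurve X := W7Slope.regCurve_of_smooth (k := k) hdim
  haveI := isNoetherian_of_proper k X
  obtain ⟨I, p, q, hp, hq, -, hI, hK, hrk, -, hd, -⟩ :=
    W7Slope.exists_image k hX hF hE₂ (i ≫ biprod.snd)
  let φ := i ≫ (biprod.snd : E₁ ⊞ E₂ ⟶ E₂)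
  have hlift : (kernel.ι φ ≫ i) ≫ (biprod.snd : E₁ ⊞ E₂ ⟶ E₂) = 0 := by
    rw [Category.assoc]; exact kernel.condition φ
  let j : kernel φ ⟶ E₁ := (kernel.ι φ ≫ i) ≫ biprod.fst
  have hj : j ≫ biprod.inl = kernel.ι φ ≫ i := by
    refine biprod.hom_ext _ _ ?_ ?_
    · simp [j]
    · rw [hlift]; simp
  haveI : Mono (j ≫ (biprod.inl : E₁ ⟶ E₁ ⊞ E₂)) := by rw [hj]; exact mono_comp _ _
  haveI : Mono j := mono_of_mono j (biprod.inl : E₁ ⟶ E₁ ⊞ E₂)
  have key : ∀ (M G : X.Modules) (n : ℕ) (m : ℚ) (l : G ⟶ M), Mono l →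
      (∀ (G : X.Modules) (r' : ℕ) (i : G ⟶ M), Mono i → 0 < r' → FlatMod.IsFinLocFreeOfRank r' G →
        (Curv2.deg k X G r' : ℚ) / r' ≤ m) →
      FlatMod.IsFinLocFreeOfRank n G → (Curv2.deg k X G n : ℚ) ≤ max m₁ m₂ * n ∨ ¬ m ≤ max m₁ m₂ := by
    intro M G n m l hl hb hG
    by_cases hm : m ≤ max m₁ m₂
    · left
      rcases Nat.eq_zero_or_pos n with rfl | hn
      · simp [W7Slope.deg_rank_zero k hG]
      · exact (div_le_iff₀ (by exact_mod_cast hn)).1 ((hb G n l hl hn hG).trans hm)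
    · exact Or.inr hm
  have k₁ := (key E₁ _ _ m₁ j inferInstance h₁ hK).resolve_right (not_not.2 (le_max_left _ _))
  have k₂ := (key E₂ _ _ m₂ q hq h₂ hI).resolve_right (not_not.2 (le_max_right _ _))
  rw [div_le_iff₀ (by exact_mod_cast hr'), hd]
  conv_rhs => rw [hrk]
  push_cast
  linarith

end Groth.Agent.S15335
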