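import Groth.Statements.S15336
import Groth.Agent.ResDesc.Main
import Groth.Agent.W7FlatBC.Main
import Groth.Agent.W7Cech.GrauertSheaf
import Groth.Agent.Castel.Inter
import Groth.Agent.DerPerf.Local
import Groth.Agent.CurveRR.Zero
import Groth.Agent.S18860
import Groth.Agent.Torsor.Descent

set_option autoImplicit false
universe u
open CategoryTheory CategoryTheory.Limits AlgebraicGeometry
open VBCurve

namespace Groth.Agent.S15336

/-- Let X be a smooth proper integral curve (integral, smooth and proper of dimension one) over an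
algebraically closed field k, G a finite group scheme over k of order n, meaning dim_k H^0(G, O_G) =
n, and j : P → X a torsor (fppf-locally trivial) under the X-group scheme G ×_k X. Put E = j_*O_P.
Then there is an isomorphism of O_X-modules E ⊗ E ≅ E ⊕ ⋯ ⊕ E (n copies); in particular E is a
finite vector bundle in the sense of Weil (two distinct polynomials in E agree). Existence of an
isomorphism only. (The published statement asserts only that E is finite in this sense; this row
states the isomorphism its argument gives, with n = dim_k H^0(G, O_G).) -/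
theorem result (k : Type u) [Field k] [IsAlgClosed k] (X : Scheme.{u}) [X.Over (Spec (CommRingCat.of k))]
    [IsIntegral X] [IsProper (X ↘ Spec (CommRingCat.of k))] [Smooth (X ↘ Spec (CommRingCat.of k))]
    (hdim : topologicalKrullDim X = 1)
    (G : Scheme.{u}) [G.Over (Spec (CommRingCat.of k))] [GrpObj (G.asOver (Spec (CommRingCat.of k)))]
    [IsFinite (G ↘ Spec (CommRingCat.of k))] (n : ℕ)
    (hn : Module.finrank k (Coh.HH G (Coh.structureModule G) 0) = n)
    (P : Over X) (a : AlgGrp.Action (Red.bc (X ↘ Spec (CommRingCat.of k)) (G.asOver (Spec (CommRingCat.of k)))) P)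
    (hP : NonAbH1.IsTorsorFor Scheme.fppfPrecoverage a) :
    Nonempty (CohB1.tensorMod ((Coh.push P.hom).obj (Coh.structureModule P.left))
        ((Coh.push P.hom).obj (Coh.structureModule P.left)) ≅
      ∐ fun _ : Fin n => (Coh.push P.hom).obj (Coh.structureModule P.left)) := by
  haveI := Groth.Agent.CurveRR.isNoetherian_of_proper k X
  letI := CategoryTheory.Abelian.hasFiniteBiproducts (C := X.Modules)
  letI := CategoryTheory.Abelian.hasFiniteBiproducts (C := P.left.Modules)
  obtain ⟨hiso, R, hR, hs⟩ := hP
  have hP' : NonAbH1.IsTorsorFor Scheme.fpqcPrecoverage a :=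
    ⟨hiso, R, Scheme.fppfPrecoverage_le_fpqcPrecoverage _ hR, hs⟩
  obtain ⟨-, -, hfin, -, -⟩ := Groth.Agent.S18860.result a hP'
  let π := X ↘ Spec (CommRingCat.of k)
  let g := G ↘ Spec (CommRingCat.of k)
  haveI : Flat g := inferInstance
  haveI : IsFinite P.hom := hfin (MorphismProperty.pullback_snd (P := @IsFinite) _ _ ‹_›)
  haveI : Flat P.hom := Groth.Agent.Torsor.of_isTorsorFor hP' (@Flat : MorphismProperty Scheme.{u})
    (MorphismProperty.pullback_snd (P := @Flat) _ _ ‹Flat g›)
  haveI : LocallyOfFinitePresentation P.hom := inferInstance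
  let f := P.hom
  let GX := pullback.snd g π
  have sq : IsPullback (pullback.fst GX f ≫ pullback.fst g π) (pullback.snd GX f) g (f ≫ π) :=
    (IsPullback.of_hasPullback GX f).flip.paste_vert (IsPullback.of_hasPullback g π).flip |>.flip
  haveI : Flat (f ≫ π) := inferInstance
  have hgO : FlatMod.IsFinLocFree ((Scheme.Modules.pushforward g).obj (Coh.structureModule G)) :=
    Groth.Agent.ResDesc.isFinLocFree_push g (Groth.Agent.ResDesc.isFinLocFree_structureModule G)
  have hfO : FlatMod.IsFinLocFree ((Scheme.Modules.pushforward f).obj (Coh.structureModule P.left)) :=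
    Groth.Agent.ResDesc.isFinLocFree_push f (Groth.Agent.ResDesc.isFinLocFree_structureModule P.left)
  obtain ⟨eM⟩ : Nonempty ((Scheme.Modules.pullback (f ≫ π)).obj ((Scheme.Modules.pushforward g).obj
      (Coh.structureModule G)) ≅ FlatMod.freeMod P.left n) := by
    let M := (Scheme.Modules.pushforward g).obj (Coh.structureModule G)
    let S := Spec (CommRingCat.of k)
    have hfld : IsField Γ(S, ⊤) := MulEquiv.isField (Field.toIsField k)
      (Scheme.ΓSpecIso (CommRingCat.of k)).commRingCatIsoToRingEquiv.toMulEquiv
    letI : Field Γ(S, ⊤) := hfld.toField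
    haveI : M.IsQuasicoherent := Groth.Agent.LocFree.isQCoh_of_isFinLocFree hgO
    haveI := Groth.Agent.LocFree.finitePresentation_sections hgO (isAffineOpen_top S)
    obtain ⟨e⟩ := Groth.Agent.W7Cech.exists_iso_free_finrank (M := M) (isAffineOpen_top S)
    have hm : Module.finrank Γ(S, ⊤) Γ(M, ⊤) = n := by
      letI := Groth.Agent.CurveRR.secMod k (Coh.structureModule G) ⊤
      rw [← hn]
      refine Eq.trans ?_ (Groth.Agent.CurveRR.finrank_sec (k := k) (Coh.structureModule G))
      refine congrArg Cardinal.toNat (rank_eq_of_equiv_equiv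
        (Scheme.ΓSpecIso (CommRingCat.of k)).hom
        ({ toFun := fun s => (show Γ(Coh.structureModule G, ⊤) from s)
           invFun := fun s => (show Γ(M, ⊤) from s)
           left_inv := fun _ => rfl
           right_inv := fun _ => rfl
           map_add' := fun _ _ => rfl } : Γ(M, ⊤) ≃+ Γ(Coh.structureModule G, ⊤))
        (ConcreteCategory.bijective_of_isIso (Scheme.ΓSpecIso (CommRingCat.of k)).hom) fun r s => ?_)
      show g.appTop r * (show Γ(G, ⊤) from s) = _ * _
      refine congrArg (· * _) ?_
      refine Eq.symm (Eq.trans (Groth.Agent.QC.resO_self _ _) ?_)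
      show g.appTop ((Scheme.ΓSpecIso _).inv ((Scheme.ΓSpecIso _).hom r)) = g.appTop r
      exact congrArg g.appTop ((Scheme.ΓSpecIso (CommRingCat.of k)).commRingCatIsoToRingEquiv.symm_apply_apply r)
    rw [hm] at e
    exact ⟨(Scheme.Modules.pullbackCongr (show f ≫ π = ((f ≫ π) ≫ S.topIso.inv) ≫ (⊤ : S.Opens).ι by
        rw [Category.assoc]; erw [← Scheme.topIso_hom, Iso.inv_hom_id, Category.comp_id])).app M ≪≫ ((Scheme.Modules.pullbackComp _ _).symm.app M) ≪≫
      (Scheme.Modules.pullback ((f ≫ π) ≫ S.topIso.inv)).mapIso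
        (((Scheme.Modules.restrictFunctorIsoPullback (⊤ : S.Opens).ι).app M).symm ≪≫ e) ≪≫
      Groth.Agent.DerPerf.pullFreeIso _ n⟩
  haveI := Groth.Agent.W7FlatBC.isIso_baseChangeMap sq (M := Coh.structureModule G)
    (Groth.Agent.LocFree.isQCoh_of_isFinLocFree (Groth.Agent.ResDesc.isFinLocFree_structureModule G))
  let b₁ := asIso ((Scheme.Modules.pullback (f ≫ π)).map ((Scheme.Modules.pushforward g).map
        ((Scheme.Modules.pullbackPushforwardAdjunction (pullback.fst GX f ≫ pullback.fst g π)).unit.app
          (Coh.structureModule G))) ≫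
      (Scheme.Modules.pullback (f ≫ π)).map ((Scheme.Modules.pushforwardComp _ g ≪≫
        Scheme.Modules.pushforwardCongr sq.w ≪≫
        (Scheme.Modules.pushforwardComp (pullback.snd GX f) (f ≫ π)).symm).hom.app _) ≫
      (Scheme.Modules.pullbackPushforwardAdjunction (f ≫ π)).counit.app _)
  have sq' := IsPullback.of_hasPullback f f
  haveI := Groth.Agent.W7FlatBC.isIso_baseChangeMap sq' (M := Coh.structureModule P.left)
    (Groth.Agent.LocFree.isQCoh_of_isFinLocFree (Groth.Agent.ResDesc.isFinLocFree_structureModule P.left))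
  let b₂ := asIso ((Scheme.Modules.pullback f).map ((Scheme.Modules.pushforward f).map
        ((Scheme.Modules.pullbackPushforwardAdjunction (pullback.fst f f)).unit.app
          (Coh.structureModule P.left))) ≫
      (Scheme.Modules.pullback f).map ((Scheme.Modules.pushforwardComp _ f ≪≫
        Scheme.Modules.pushforwardCongr sq'.w ≪≫
        (Scheme.Modules.pushforwardComp (pullback.snd f f) f).symm).hom.app _) ≫
      (Scheme.Modules.pullbackPushforwardAdjunction f).counit.app _)
  have : IsIso (CartesianMonoidalCategory.lift a.act (CartesianMonoidalCategory.snd _ P)) := hiso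
  let e := (CartesianMonoidalCategory.lift a.act (CartesianMonoidalCategory.snd _ P)).left
  haveI : IsIso e := Functor.map_isIso (Over.forget X)
    (CartesianMonoidalCategory.lift a.act (CartesianMonoidalCategory.snd _ P))
  have he : e ≫ pullback.snd f f = pullback.snd GX f :=
    congrArg CommaMorphism.left (CartesianMonoidalCategory.lift_snd a.act (CartesianMonoidalCategory.snd _ P))
  obtain ⟨eO⟩ := Groth.Agent.Castel.nonempty_push_structure e
  let up := (Scheme.Modules.pushforward f).mapIso (b₂ ≪≫
    (Scheme.Modules.pushforward (pullback.snd f f)).mapIso (Groth.Agent.DerPerf.pullUnitIso _ ≪≫ eO.symm) ≪≫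
    (Scheme.Modules.pushforwardComp e (pullback.snd f f)).app _ ≪≫ (Scheme.Modules.pushforwardCongr he).app _ ≪≫
    (Scheme.Modules.pushforward (pullback.snd GX f)).mapIso (Groth.Agent.DerPerf.pullUnitIso _).symm ≪≫
    b₁.symm ≪≫ eM)
  haveI := Groth.Agent.ResDesc.isIso_phi f ((Scheme.Modules.pushforward f).obj (Coh.structureModule P.left)) hfO
    (Groth.Agent.LocFree.isQCoh_of_isFinLocFree hfO)
  haveI : (Scheme.Modules.pushforward f).Additive := inferInstance
  haveI : PreservesBiproductsOfShape (Fin n) (Scheme.Modules.pushforward f) :=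
    inferInstance
  exact ⟨asIso (Groth.Agent.ResDesc.phi f ((Scheme.Modules.pushforward f).obj (Coh.structureModule P.left))) ≪≫
    up ≪≫ (Scheme.Modules.pushforward f).mapIso (biproduct.isoCoproduct fun _ : Fin n => Coh.structureModule P.left).symm ≪≫
    (Scheme.Modules.pushforward f).mapBiproduct _ ≪≫ biproduct.isoCoproduct _⟩

end Groth.Agent.S15336
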