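import Groth.Statements.S15338
import Groth.Agent.WeilFin.Crit
import Groth.Agent.WeilFin.Trace
import Groth.Agent.CurveRR.Zero
import Groth.Agent.TMul.Pullback
import Groth.Agent.K0Coh.Basic

set_option autoImplicit false
universe u
open CategoryTheory CategoryTheory.Limits AlgebraicGeometry
open VBCurve

namespace Groth.Agent.S15338

/-- Let X be a smooth proper integral curve (integral, smooth and proper of dimension one) over an
algebraically closed field k of characteristic zero, and E a finite locally free O_X-module of rank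
r which is isotrivial: there is a finite étale surjective morphism f : Y → X with f^*E ≅ O_Y^{⊕ r}.
Then E is finite in the sense of Weil: there are two distinct polynomials P ≠ Q with natural-number
coefficients such that P(E) ≅ Q(E), where P(E) denotes the direct sum over i of P_i copies of the
i-th tensor power E^{⊗ i} (E^{⊗ 0} = O_X). -/
theorem result (k : Type u) [Field k] [IsAlgClosed k] (X : Scheme.{u}) [X.Over (Spec (CommRingCat.of k))]
    [IsIntegral X] [IsProper (X ↘ Spec (CommRingCat.of k))] [Smooth (X ↘ Spec (CommRingCat.of k))]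
    (hdim : topologicalKrullDim X = 1) [CharZero k]
    (r : ℕ) (E : X.Modules) (hE : FlatMod.IsFinLocFreeOfRank r E)
    (Y : Scheme.{u}) (f : Y ⟶ X) [IsFinite f] [Etale f] [Surjective f]
    (htriv : Nonempty ((Scheme.Modules.pullback f).obj E ≅ FlatMod.freeMod Y r)) :
    ∃ P Q : Polynomial ℕ, P ≠ Q ∧ Nonempty ((∐ fun i : Fin (P.natDegree + 1) => ∐ fun _ : Fin (P.coeff ↑i) => CohB1.tensorPow E ↑i) ≅
      (∐ fun i : Fin (Q.natDegree + 1) => ∐ fun _ : Fin (Q.coeff ↑i) => CohB1.tensorPow E ↑i)) := by
  haveI := Groth.Agent.CurveRR.isNoetherian_of_proper k X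
  letI := CategoryTheory.Abelian.hasFiniteBiproducts (C := X.Modules)
  letI := CategoryTheory.Abelian.hasFiniteBiproducts (C := Y.Modules)
  have hu : ∀ (V : X.Opens) (n : ℕ), IsUnit ((n + 1 : ℕ) : Γ(X, V)) := fun V n => by
    rw [← map_natCast (Groth.Agent.CurveRR.cst k X V)]
    exact (IsUnit.mk0 _ (Nat.cast_ne_zero.2 n.succ_ne_zero)).map _
  have hEc := Groth.Agent.CurveRR.isCoh_of_rank hE
  let O := fun _ : Unit => Coh.structureModule Y
  have hO : ∀ n, Groth.Agent.WeilFin.Add O (CohB1.tensorPow ((Scheme.Modules.pullback f).obj E) n) := by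
    intro n
    induction n with
    | zero => exact Groth.Agent.WeilFin.Add.mem (S := O) ()
    | succ n ih =>
      obtain ⟨e⟩ := htriv
      refine (ih.tensor_right _).trans fun _ => Groth.Agent.WeilFin.Add.of_iso (TMul.leftUnitIso _ ≪≫ e) ?_
      exact Groth.Agent.WeilFin.Add.of_iso (Sigma.whiskerEquiv (g := fun _ : Fin r => Coh.structureModule Y)
        (Equiv.refl _) fun _ => Iso.refl _) (Groth.Agent.WeilFin.Add.sigma (fun _ : Fin r => Coh.structureModule Y)
        fun _ => Groth.Agent.WeilFin.Add.mem (S := O) ())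
  have hA : Coh.IsCoh ((Scheme.Modules.pushforward f).obj (Coh.structureModule Y)) :=
    Groth.Agent.K0Coh.isCoh_of_isFinLocFree (Groth.Agent.ResDesc.isFinLocFree_push f
      (Groth.Agent.ResDesc.isFinLocFree_structureModule Y))
  refine Groth.Agent.WeilFin.isWeilFinite_of_family k hEc
    (fun _ : Unit => (Scheme.Modules.pushforward f).obj (Coh.structureModule Y)) (fun _ => hA) fun n => ?_
  obtain ⟨i, p, hip⟩ := Groth.Agent.WeilFin.Trace.exists_retract f hu (Groth.Agent.WeilFin.isCoh_pow k hEc n).1
  obtain ⟨e⟩ := TMul.nonempty_pullPowIso f E n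
  obtain ⟨τ, hτ, σ, a, b, hab⟩ := Groth.Agent.WeilFin.Add.of_iso e.symm (hO n)
  refine Groth.Agent.WeilFin.Add.retract i p hip ⟨τ, hτ, σ, fun t => (Scheme.Modules.pushforward f).map (a t),
    fun t => (Scheme.Modules.pushforward f).map (b t), ?_⟩
  rw [← CategoryTheory.Functor.map_id, ← hab, Functor.map_sum]
  exact Finset.sum_congr rfl fun t _ => ((Scheme.Modules.pushforward f).map_comp _ _).symm

end Groth.Agent.S15338
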