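import Groth.Statements.S15340
import Groth.Agent.W7Slope.Hom

set_option autoImplicit false
universe u
open CategoryTheory CategoryTheory.Limits AlgebraicGeometry
open VBCurve
open Groth.Agent Groth.Agent.CurveRR

set_option backward.isDefEq.respectTransparency false
set_option backward.isDefEq.respectTransparency.types false

namespace Groth.Agent.S15340

/-- Let X be a smooth proper integral curve (integral, smooth and proper of dimension one) over an
algebraically closed field k and E a finite locally free O_X-module of rank r ≥ 1 which is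
slope-semistable and slope-stable (deg G · r ≤ deg E · r' for finite locally free submodules G of
rank r' ≥ 1, strictly when r' < r; degree = χ − rank·χ(O_X)). Then E is indecomposable: it is
nonzero and whenever E ≅ E₁ ⊞ E₂ as O_X-modules, one of E₁, E₂ is zero. -/
theorem result (k : Type u) [Field k] [IsAlgClosed k] (X : Scheme.{u}) [X.Over (Spec (CommRingCat.of k))]
    [IsIntegral X] [IsProper (X ↘ Spec (CommRingCat.of k))] [Smooth (X ↘ Spec (CommRingCat.of k))]
    (hdim : topologicalKrullDim X = 1)
    (r : ℕ) (hr : 0 < r) (E : X.Modules) (hE : FlatMod.IsFinLocFreeOfRank r E)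
    (hEss : ModFun.IsSlopeSemistable k X E r) (hEst : ModFun.IsSlopeStable k X E r) :
    ¬ IsZero E ∧ ∀ (E₁ E₂ : X.Modules), Nonempty (E ≅ E₁ ⊞ E₂) → IsZero E₁ ∨ IsZero E₂ := by
  have hX : W7Slope.RegCurve X := W7Slope.regCurve_of_smooth (k := k) hdim
  refine ⟨W7Slope.pos_rank_not_isZero k hr hE, fun E₁ E₂ ⟨e⟩ => ?_⟩
  obtain ⟨a, b, h₁, h₂, hab, hd⟩ := W7Slope.biprod_add k hX hE e
  haveI := isNoetherian_of_proper k X
  rcases Nat.eq_zero_or_pos a with rfl | ha
  · exact Or.inl (W7Slope.isZero_of_rank_zero h₁)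
  rcases Nat.eq_zero_or_pos b with rfl | hb
  · exact Or.inr (W7Slope.isZero_of_rank_zero h₂)
  exfalso
  haveI : Mono (biprod.inl ≫ e.inv) := mono_comp _ _
  haveI : Mono (biprod.inr ≫ e.inv) := mono_comp _ _
  have i₁ := hEst E₁ a (biprod.inl ≫ e.inv) inferInstance ha (by omega) h₁
  have i₂ := hEst E₂ b (biprod.inr ≫ e.inv) inferInstance hb (by omega) h₂
  have hr' : (r : ℤ) = (a : ℤ) + (b : ℤ) := by exact_mod_cast hab
  rw [hd, hr'] at i₁ i₂
  linarith

end Groth.Agent.S15340
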