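import Groth.Statements.S15343
import Groth.Agent.WeilFin.Crit
import Groth.Agent.WeilFin.Trace
import Groth.Agent.CurveRR.Zero
import Groth.Agent.TMul.Pullback
import Groth.Agent.K0Coh.Basic
import Groth.Agent.S18860
import Groth.Agent.S0353
import Groth.Agent.Torsor.Descent

set_option autoImplicit false
universe u
open CategoryTheory CategoryTheory.Limits AlgebraicGeometry
open VBCurve

namespace Groth.Agent.S15343

/-- Let X be a smooth proper integral curve (integral, smooth and proper of dimension one) over an
algebraically closed field k of characteristic zero, G a finite group scheme over k and j : P → X a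
torsor (fppf-locally trivial) under the X-group scheme G ×_k X. If E is a finite locally free
O_X-module of rank r with j^*E ≅ O_P^{⊕ r}, then E is finite in the sense of Weil: there are
distinct polynomials P' ≠ Q' with natural-number coefficients and P'(E) ≅ Q'(E), P'(E) being the
direct sum over i of P'_i copies of E^{⊗ i}. (The published statement says that in characteristic
zero an essentially finite bundle is finite; this row takes as hypothesis the characterisation of
essentially finite bundles as those trivialised by a torsor under a finite group scheme.) -/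
theorem result (k : Type u) [Field k] [IsAlgClosed k] (X : Scheme.{u}) [X.Over (Spec (CommRingCat.of k))]
    [IsIntegral X] [IsProper (X ↘ Spec (CommRingCat.of k))] [Smooth (X ↘ Spec (CommRingCat.of k))]
    (hdim : topologicalKrullDim X = 1) [CharZero k]
    (G : Scheme.{u}) [G.Over (Spec (CommRingCat.of k))] [GrpObj (G.asOver (Spec (CommRingCat.of k)))]
    [IsFinite (G ↘ Spec (CommRingCat.of k))]
    (P : Over X) (a : AlgGrp.Action (Red.bc (X ↘ Spec (CommRingCat.of k)) (G.asOver (Spec (CommRingCat.of k)))) P)
    (hP : NonAbH1.IsTorsorFor Scheme.fppfPrecoverage a)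
    (r : ℕ) (E : X.Modules) (hE : FlatMod.IsFinLocFreeOfRank r E)
    (htriv : Nonempty ((Scheme.Modules.pullback P.hom).obj E ≅ FlatMod.freeMod P.left r)) :
    ∃ P' Q' : Polynomial ℕ, P' ≠ Q' ∧ Nonempty ((∐ fun i : Fin (P'.natDegree + 1) => ∐ fun _ : Fin (P'.coeff ↑i) => CohB1.tensorPow E ↑i) ≅
      (∐ fun i : Fin (Q'.natDegree + 1) => ∐ fun _ : Fin (Q'.coeff ↑i) => CohB1.tensorPow E ↑i)) := by
  obtain ⟨hiso, R, hR, hs⟩ := hP
  have hP' : NonAbH1.IsTorsorFor Scheme.fpqcPrecoverage a :=
    ⟨hiso, R, Scheme.fppfPrecoverage_le_fpqcPrecoverage _ hR, hs⟩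
  obtain ⟨-, -, hfin, hsm, -⟩ := Groth.Agent.S18860.result a hP'
  haveI : LocallyOfFiniteType (G.asOver (Spec (CommRingCat.of k))).hom := inferInstanceAs (LocallyOfFiniteType (G ↘ Spec (CommRingCat.of k)))
  haveI : Smooth (G ↘ Spec (CommRingCat.of k)) := Groth.Agent.S0353.result k (G.asOver (Spec (CommRingCat.of k)))
  haveI : IsFinite P.hom := hfin (MorphismProperty.pullback_snd (P := @IsFinite) _ _ ‹_›)
  haveI : Smooth P.hom := hsm (MorphismProperty.pullback_snd (P := @Smooth) _ _ ‹_›)
  haveI : Surjective P.hom := Groth.Agent.Torsor.surjective_of_isTorsorFor hP'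
  haveI := Groth.Agent.CurveRR.isNoetherian_of_proper k X
  letI := CategoryTheory.Abelian.hasFiniteBiproducts (C := X.Modules)
  letI := CategoryTheory.Abelian.hasFiniteBiproducts (C := P.left.Modules)
  have hu : ∀ (V : X.Opens) (n : ℕ), IsUnit ((n + 1 : ℕ) : Γ(X, V)) := fun V n => by
    rw [← map_natCast (Groth.Agent.CurveRR.cst k X V)]
    exact (IsUnit.mk0 _ (Nat.cast_ne_zero.2 n.succ_ne_zero)).map _
  have hEc := Groth.Agent.CurveRR.isCoh_of_rank hE
  let O := fun _ : Unit => Coh.structureModule P.left
  have hO : ∀ n, Groth.Agent.WeilFin.Add O (CohB1.tensorPow ((Scheme.Modules.pullback P.hom).obj E) n) := by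
    intro n
    induction n with
    | zero => exact Groth.Agent.WeilFin.Add.mem (S := O) ()
    | succ n ih =>
      obtain ⟨e⟩ := htriv
      refine (ih.tensor_right _).trans fun _ => Groth.Agent.WeilFin.Add.of_iso (TMul.leftUnitIso _ ≪≫ e) ?_
      exact Groth.Agent.WeilFin.Add.of_iso (Sigma.whiskerEquiv (g := fun _ : Fin r => Coh.structureModule P.left)
        (Equiv.refl _) fun _ => Iso.refl _) (Groth.Agent.WeilFin.Add.sigma (fun _ : Fin r => Coh.structureModule P.left)
        fun _ => Groth.Agent.WeilFin.Add.mem (S := O) ())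
  have hA : Coh.IsCoh ((Scheme.Modules.pushforward P.hom).obj (Coh.structureModule P.left)) :=
    Groth.Agent.K0Coh.isCoh_of_isFinLocFree (Groth.Agent.ResDesc.isFinLocFree_push P.hom
      (Groth.Agent.ResDesc.isFinLocFree_structureModule P.left))
  refine Groth.Agent.WeilFin.isWeilFinite_of_family k hEc
    (fun _ : Unit => (Scheme.Modules.pushforward P.hom).obj (Coh.structureModule P.left)) (fun _ => hA) fun n => ?_
  obtain ⟨i, p, hip⟩ := Groth.Agent.WeilFin.Trace.exists_retract P.hom hu (Groth.Agent.WeilFin.isCoh_pow k hEc n).1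
  obtain ⟨e⟩ := TMul.nonempty_pullPowIso P.hom E n
  obtain ⟨τ, hτ, σ, a, b, hab⟩ := Groth.Agent.WeilFin.Add.of_iso e.symm (hO n)
  refine Groth.Agent.WeilFin.Add.retract i p hip ⟨τ, hτ, σ, fun t => (Scheme.Modules.pushforward P.hom).map (a t),
    fun t => (Scheme.Modules.pushforward P.hom).map (b t), ?_⟩
  rw [← CategoryTheory.Functor.map_id, ← hab, Functor.map_sum]
  exact Finset.sum_congr rfl fun t _ => ((Scheme.Modules.pushforward P.hom).map_comp _ _).symm

end Groth.Agent.S15343
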