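import Groth.Statements.S15345
import Mathlib


set_option linter.style.haveILetI false
set_option backward.isDefEq.respectTransparency false
universe v
open CategoryTheory CategoryTheory.Limits AlgebraicGeometry TensorProduct
namespace Groth.Agent.S15345

variable {X Y X' : Scheme.{v}} (f : Y ⟶ X) (g : X' ⟶ X) (R B A : Type v) [CommRing R] [CommRing B]
  [CommRing A] [Algebra R B] [Algebra R A] (v₀ : Spec (CommRingCat.of R) ⟶ X) [Mono v₀]
  (jB : Spec (CommRingCat.of B) ⟶ Y) [IsOpenImmersion jB]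
  (jA : Spec (CommRingCat.of A) ⟶ X') [IsOpenImmersion jA]
  (wB : Spec.map (CommRingCat.ofHom (algebraMap R B)) ≫ v₀ = jB ≫ f)
  (wA : Spec.map (CommRingCat.ofHom (algebraMap R A)) ≫ v₀ = jA ≫ g)

/-- An affine chart of a fibre product. -/
noncomputable def chart : Spec (CommRingCat.of (B ⊗[R] A)) ⟶ pullback f g :=
  (pullbackSpecIso R B A).inv ≫ pullback.map (Spec.map (CommRingCat.ofHom (algebraMap R B)))
    (Spec.map (CommRingCat.ofHom (algebraMap R A))) f g jB jA v₀ wB wA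

instance : IsOpenImmersion (chart f g R B A v₀ jB jA wB wA) := by unfold chart; infer_instance

lemma chart_snd : chart f g R B A v₀ jB jA wB wA ≫ pullback.snd f g =
    Spec.map (CommRingCat.ofHom
      (Algebra.TensorProduct.includeRight : A →ₐ[R] B ⊗[R] A).toRingHom) ≫ jA := by
  simp [chart]

lemma mem_range_chart {y : ↥(pullback f g)} (h₁ : pullback.fst f g y ∈ Set.range jB)
    (h₂ : pullback.snd f g y ∈ Set.range jA) : y ∈ Set.range (chart f g R B A v₀ jB jA wB wA) := by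
  have h : y ∈ Set.range (pullback.map (Spec.map (CommRingCat.ofHom (algebraMap R B)))
      (Spec.map (CommRingCat.ofHom (algebraMap R A))) f g jB jA v₀ wB wA) := by
    rw [Scheme.Pullback.range_map]; exact ⟨h₁, h₂⟩
  obtain ⟨z, rfl⟩ := h
  refine ⟨(pullbackSpecIso R B A).hom z, ?_⟩
  rw [chart, ← Scheme.Hom.comp_apply, Iso.hom_inv_id_assoc]

end Groth.Agent.S15345


set_option autoImplicit false
universe u
open CategoryTheory CategoryTheory.Limits AlgebraicGeometry
open Mor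

namespace Groth.Agent.S15345

/-- Let f : Y ⟶ X be a morphism of schemes, X quasi-separated. If for every morphism X' ⟶ X locally of
finite type the projection Y ×_X X' ⟶ X' reflects specializations (the image of y₁ specializing to
the image of y₀ forces y₁ to specialize to y₀), then the same holds for every morphism X' ⟶ X. (The
published statement assumes moreover that f is a monomorphism; this row does not.) -/
theorem result {X Y : Scheme.{u}} [QuasiSeparatedSpace ↥X]
    (f : Y ⟶ X)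
    (h : ∀ (X' : Scheme.{u}) (g : X' ⟶ X) [LocallyOfFiniteType g] (y₀ y₁ : ↥(pullback f g)),
      (pullback.snd f g).base y₁ ⤳ (pullback.snd f g).base y₀ → y₁ ⤳ y₀) :
    ∀ (X' : Scheme.{u}) (g : X' ⟶ X) (y₀ y₁ : ↥(pullback f g)),
        (pullback.snd f g).base y₁ ⤳ (pullback.snd f g).base y₀ → y₁ ⤳ y₀ := by
  classical
  intro X' g y₀ y₁ hy
  change pullback.snd f g y₁ ⤳ pullback.snd f g y₀ at hy
  -- the first projections specialise: otherwise test on `X'` itself is not needed, use the levels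
  obtain ⟨U, hU, hxU, -⟩ := exists_isAffineOpen_mem_and_subset (U := (⊤ : X.Opens))
    (x := g (pullback.snd f g y₀)) trivial
  obtain ⟨U', hU', hyU', hle'⟩ := exists_isAffineOpen_mem_and_subset (U := g ⁻¹ᵁ U)
    (x := pullback.snd f g y₀) hxU
  have hfU : f (pullback.fst f g y₀) ∈ U := by
    rw [← Scheme.Hom.comp_apply, pullback.condition, Scheme.Hom.comp_apply]; exact hxU
  obtain ⟨W, hW, hyW, hleW⟩ := exists_isAffineOpen_mem_and_subset (U := f ⁻¹ᵁ U)
    (x := pullback.fst f g y₀) hfU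
  have hle'' : U' ≤ g ⁻¹ᵁ U := hle'
  have hleW' : W ≤ f ⁻¹ᵁ U := hleW
  let R := Γ(X, U)
  let A := Γ(X', U')
  let B := Γ(Y, W)
  letI : Algebra R A := (g.appLE U U' hle'').hom.toAlgebra
  letI : Algebra R B := (f.appLE U W hleW').hom.toAlgebra
  have hy₁U' : pullback.snd f g y₁ ∈ U' := hy.mem_open U'.isOpen hyU'
  have wB : Spec.map (CommRingCat.ofHom (algebraMap R B)) ≫ hU.fromSpec = hW.fromSpec ≫ f :=
    hU.SpecMap_appLE_fromSpec f hW hleW'
  have wA : Spec.map (CommRingCat.ofHom (algebraMap R A)) ≫ hU.fromSpec = hU'.fromSpec ≫ g :=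
    hU.SpecMap_appLE_fromSpec g hU' hle''
  -- the levels: finitely generated subalgebras
  have level : ∀ (A₀ : Subalgebra R A), A₀.FG →
      ∃ (X₀ : Scheme.{u}) (g₀ : X₀ ⟶ X) (_ : LocallyOfFiniteType g₀)
        (φ : U'.toScheme ⟶ X₀) (hφ : φ ≫ g₀ = U'.ι ≫ g)
        (j₀ : Spec (CommRingCat.of A₀) ⟶ X₀) (_ : IsOpenImmersion j₀)
        (_ : Spec.map (CommRingCat.ofHom (algebraMap R A₀)) ≫ hU.fromSpec = j₀ ≫ g₀),
        hU'.isoSpec.inv ≫ φ = Spec.map (CommRingCat.ofHom A₀.val.toRingHom) ≫ j₀ := by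
    intro A₀ hA₀
    haveI : Algebra.FiniteType R A₀ := (Subalgebra.fg_iff_finiteType A₀).1 hA₀
    haveI : LocallyOfFiniteType (Spec.map (CommRingCat.ofHom (algebraMap R A₀))) :=
      (HasRingHomProperty.Spec_iff (P := @LocallyOfFiniteType)).2
        (RingHom.finiteType_algebraMap.2 inferInstance)
    refine ⟨_, Spec.map (CommRingCat.ofHom (algebraMap R A₀)) ≫ hU.fromSpec, inferInstance,
      hU'.isoSpec.hom ≫ Spec.map (CommRingCat.ofHom A₀.val.toRingHom), ?_, 𝟙 _, inferInstance,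
      by simp, by simp⟩
    rw [Category.assoc, ← Spec.map_comp_assoc]
    have : CommRingCat.ofHom (algebraMap R A₀) ≫ CommRingCat.ofHom A₀.val.toRingHom =
        CommRingCat.ofHom (algebraMap R A) := rfl
    rw [this, wA, ← Category.assoc, hU'.isoSpec_hom_fromSpec]
  -- the first projection of `y₁` lies in `W`
  have hfst : pullback.fst f g y₁ ⤳ pullback.fst f g y₀ := by
    obtain ⟨X₀, g₀, _, φ, hφ, -⟩ := level ⊥ (Subalgebra.fg_bot)
    let F : pullback f (U'.ι ≫ g) ⟶ pullback f g := pullback.map _ _ _ _ (𝟙 _) U'.ι (𝟙 _) (by simp) (by simp)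
    let G : pullback f (U'.ι ≫ g) ⟶ pullback f g₀ := pullback.map _ _ _ _ (𝟙 _) φ (𝟙 _) (by simp) (by simp [hφ])
    have hFr : ∀ y : ↥(pullback f g), pullback.snd f g y ∈ U' → y ∈ Set.range F := by
      intro y hy'
      rw [Scheme.Pullback.range_map]
      exact ⟨⟨pullback.fst f g y, rfl⟩, by simpa using hy'⟩
    obtain ⟨z₁, hz₁⟩ := hFr y₁ hy₁U'
    obtain ⟨z₀, hz₀⟩ := hFr y₀ hyU'
    have hz : pullback.snd f (U'.ι ≫ g) z₁ ⤳ pullback.snd f (U'.ι ≫ g) z₀ := by
      rw [← U'.ι.isOpenEmbedding.isInducing.specializes_iff, ← Scheme.Hom.comp_apply,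
        ← Scheme.Hom.comp_apply]
      have : pullback.snd f (U'.ι ≫ g) ≫ U'.ι = F ≫ pullback.snd f g := by simp [F]
      rw [this, Scheme.Hom.comp_apply, Scheme.Hom.comp_apply, hz₁, hz₀]
      exact hy
    have hG := h X₀ g₀ (G z₀) (G z₁) (by
      show pullback.snd f g₀ (G z₁) ⤳ pullback.snd f g₀ (G z₀)
      have : G ≫ pullback.snd f g₀ = pullback.snd f (U'.ι ≫ g) ≫ φ := by simp [G]
      rw [← Scheme.Hom.comp_apply, ← Scheme.Hom.comp_apply, this]
      exact hz.map φ.continuous)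
    have h2 := hG.map (pullback.fst f g₀).continuous
    rw [← Scheme.Hom.comp_apply, ← Scheme.Hom.comp_apply] at h2
    have : G ≫ pullback.fst f g₀ = F ≫ pullback.fst f g := by simp [G, F]
    rw [this, Scheme.Hom.comp_apply, Scheme.Hom.comp_apply, hz₁, hz₀] at h2
    exact h2
  have hy₁W : pullback.fst f g y₁ ∈ W := hfst.mem_open W.isOpen hyW
  let c := chart f g R B A hU.fromSpec hW.fromSpec hU'.fromSpec wB wA
  obtain ⟨z₀, hz₀⟩ : y₀ ∈ Set.range c := mem_range_chart _ _ _ _ _ _ _ _ _ _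
    (hW.range_fromSpec.ge hyW) (hU'.range_fromSpec.ge hyU')
  obtain ⟨z₁, hz₁⟩ : y₁ ∈ Set.range c := mem_range_chart _ _ _ _ _ _ _ _ _ _
    (hW.range_fromSpec.ge hy₁W) (hU'.range_fromSpec.ge hy₁U')
  rw [← hz₀, ← hz₁]
  refine Specializes.map ?_ c.continuous
  refine (PrimeSpectrum.le_iff_specializes z₁ z₀).1 fun t ht => ?_
  -- `t` comes from a level
  obtain ⟨s, hs⟩ := TensorProduct.exists_finset (R := R) t
  let A₀ : Subalgebra R A := Algebra.adjoin R (s.image Prod.snd : Set A)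
  have hA₀ : A₀.FG := ⟨s.image Prod.snd, rfl⟩
  let ι : B ⊗[R] A₀ →ₐ[R] B ⊗[R] A := Algebra.TensorProduct.map (AlgHom.id R B) A₀.val
  obtain ⟨t₀, rfl⟩ : ∃ t₀, ι t₀ = t := by
    refine ⟨∑ p ∈ s.attach, p.1.1 ⊗ₜ[R] (⟨p.1.2, Algebra.subset_adjoin (by
      simp only [Finset.coe_image, Set.mem_image, Finset.mem_coe]
      exact ⟨p.1, p.2, rfl⟩)⟩ : A₀), ?_⟩
    rw [hs, map_sum, ← Finset.sum_attach s]
    rfl
  obtain ⟨X₀, g₀, _, φ, hφ, j₀, _, w₀, hφj⟩ := level A₀ hA₀
  let c₀ := chart f g₀ R B A₀ hU.fromSpec hW.fromSpec j₀ wB w₀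
  let P := Spec.map (CommRingCat.ofHom ι.toRingHom)
  have hsn : ∀ z, pullback.snd f g₀ (c₀ (P z)) =
      j₀ (Spec.map (CommRingCat.ofHom A₀.val.toRingHom)
        (Spec.map (CommRingCat.ofHom
          (Algebra.TensorProduct.includeRight : A →ₐ[R] B ⊗[R] A).toRingHom) z)) := by
    intro z
    rw [← Scheme.Hom.comp_apply c₀, chart_snd, Scheme.Hom.comp_apply, ← Scheme.Hom.comp_apply P,
      ← Spec.map_comp, ← Scheme.Hom.comp_apply (Spec.map (CommRingCat.ofHom
          (Algebra.TensorProduct.includeRight : A →ₐ[R] B ⊗[R] A).toRingHom)), ← Spec.map_comp]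
    congr 3
  have hzz : Spec.map (CommRingCat.ofHom
      (Algebra.TensorProduct.includeRight : A →ₐ[R] B ⊗[R] A).toRingHom) z₁ ⤳
    Spec.map (CommRingCat.ofHom
      (Algebra.TensorProduct.includeRight : A →ₐ[R] B ⊗[R] A).toRingHom) z₀ := by
    rw [← hU'.fromSpec.isOpenEmbedding.isInducing.specializes_iff]
    have e1 := congr($(chart_snd f g R B A hU.fromSpec hW.fromSpec hU'.fromSpec wB wA) z₁)
    have e0 := congr($(chart_snd f g R B A hU.fromSpec hW.fromSpec hU'.fromSpec wB wA) z₀)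
    refine Eq.subst (motive := fun p => p ⤳ _) e1 ?_
    refine Eq.subst (motive := fun p => _ ⤳ p) e0 ?_
    show pullback.snd f g (c z₁) ⤳ pullback.snd f g (c z₀)
    rw [hz₀, hz₁]
    exact hy
  have h3 := h X₀ g₀ (c₀ (P z₀)) (c₀ (P z₁)) (by
    show pullback.snd f g₀ (c₀ (P z₁)) ⤳ pullback.snd f g₀ (c₀ (P z₀))
    rw [hsn, hsn]
    exact (hzz.map (Spec.map _).continuous).map j₀.continuous)
  rw [c₀.isOpenEmbedding.isInducing.specializes_iff] at h3
  exact (PrimeSpectrum.le_iff_specializes (P z₁) (P z₀)).2 h3 ht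


end Groth.Agent.S15345
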