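import Groth.Statements.S15347
import Groth.Agent.GrpAct.OrbitFlat

set_option linter.style.haveILetI false
set_option backward.isDefEq.respectTransparency false

set_option autoImplicit false
universe u
open CategoryTheory CategoryTheory.Limits AlgebraicGeometry
open Mor

namespace Groth.Agent.S15347

/-- Let f : Y ⟶ X be an immersion of schemes. Then: for every valuation ring A with fraction field K and
every commutative square Spec K ⟶ Y, Spec A ⟶ X over f such that some morphism from the spectrum of
the residue field of A to Y lies over Spec A ⟶ X, the square admits a lift; and for every integral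
domain A and every morphism s : Spec A ⟶ X such that the points of a dense subset of Spec A lift to
Y (the residue field of each such point maps to Y over s), there is a nonempty open subscheme U of
Spec A with a morphism U ⟶ Y over s. (The published statement is for a representable, locally
finitely presented morphism of algebraic stacks with locally Noetherian target and a quasi-compact
immersion, and also lists that f is a monomorphism; this row is the case of schemes, for any
immersion and any target.) -/
theorem result {X Y : Scheme.{u}} (f : Y ⟶ X) [IsImmersion f] :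
    (∀ S : ValuativeCommSq f,
        (∃ l₀ : Spec (CommRingCat.of (IsLocalRing.ResidueField S.R)) ⟶ Y,
            l₀ ≫ f = Spec.map (CommRingCat.ofHom (IsLocalRing.residue S.R)) ≫ S.i₂) →
          S.commSq.HasLift) ∧
      ∀ (A : Type u) [CommRing A] [IsDomain A] (s : Spec (CommRingCat.of A) ⟶ X) (D : Set ↥(Spec (CommRingCat.of A))),
        Dense D →
        (∀ p ∈ D, ∃ l : Spec ((Spec (CommRingCat.of A)).residueField p) ⟶ Y,
            l ≫ f = (Spec (CommRingCat.of A)).fromSpecResidueField p ≫ s) →
          ∃ U : (Spec (CommRingCat.of A)).Opens, (U : Set ↥(Spec (CommRingCat.of A))).Nonempty ∧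
            ∃ l : (U : Scheme.{u}) ⟶ Y, l ≫ f = U.ι ≫ s := by
  obtain ⟨W, C, hW, hC, hr⟩ := f.isLocallyClosed_range
  refine ⟨?_, ?_⟩
  · rintro ⟨R, K, i₁, i₂, ⟨w⟩⟩ ⟨l₀, hl₀⟩
    dsimp only at hl₀
    have hc : i₂ (IsLocalRing.closedPoint R) ∈ Set.range f := by
      let pt : Spec (CommRingCat.of (IsLocalRing.ResidueField R)) :=
        IsLocalRing.closedPoint (IsLocalRing.ResidueField R)
      refine ⟨l₀ pt, ?_⟩
      rw [← Scheme.Hom.comp_apply, hl₀, Scheme.Hom.comp_apply]
      exact congrArg _ (IsLocalRing.comap_closedPoint (IsLocalRing.residue R))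
    have hg : ∀ q : Spec (CommRingCat.of R), i₂ q ∈ C := by
      let pt : Spec (CommRingCat.of K) := IsLocalRing.closedPoint K
      intro q
      have h1 : Spec.map (CommRingCat.ofHom (algebraMap R K)) pt ⤳ q := by
        refine (PrimeSpectrum.le_iff_specializes _ _).1 ?_
        show (IsLocalRing.maximalIdeal K).comap (algebraMap R K) ≤ _
        rw [IsLocalRing.maximalIdeal_eq_bot, ← RingHom.ker_eq_comap_bot,
          (RingHom.injective_iff_ker_eq_bot _).1 (IsFractionRing.injective R K)]
        exact bot_le
      refine (h1.map i₂.continuous).mem_closed hC ?_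
      rw [← Scheme.Hom.comp_apply, ← w, Scheme.Hom.comp_apply]
      have h2 : f (i₁ pt) ∈ Set.range f := ⟨_, rfl⟩
      rw [hr] at h2
      exact h2.2
    have : IsReduced (Spec (CommRingCat.of R)) := inferInstance
    obtain ⟨l, hl⟩ := Groth.Agent.GrpAct.exists_factor f i₂ (by
      rintro _ ⟨q, rfl⟩
      rw [hr]
      rw [hr] at hc
      exact ⟨((IsLocalRing.specializes_closedPoint (q : PrimeSpectrum R)).map
        i₂.continuous).mem_open hW hc.1, hg q⟩)
    exact ⟨⟨⟨l, by rw [← cancel_mono f, Category.assoc, hl]; exact w.symm, hl⟩⟩⟩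
  · intro A _ _ s D hD hl
    have hsD : ∀ p ∈ D, s p ∈ W ∩ C := by
      intro p hp
      obtain ⟨l, hl⟩ := hl p hp
      rw [← hr]
      let pt : Spec ((Spec (CommRingCat.of A)).residueField p) := IsLocalRing.closedPoint _
      refine ⟨l pt, ?_⟩
      rw [← Scheme.Hom.comp_apply, hl, Scheme.Hom.comp_apply,
        Scheme.fromSpecResidueField_apply]
    let V : (Spec (CommRingCat.of A)).Opens := s ⁻¹ᵁ ⟨W, hW⟩
    have hCall : ∀ p, s p ∈ C := fun p =>
      (hD.closure_eq ▸ Set.mem_univ p : p ∈ closure D) |> fun hp =>
        closure_minimal (fun q hq => (hsD q hq).2) (hC.preimage s.continuous) hp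
    haveI : Nonempty ↥(Spec (CommRingCat.of A)) :=
      inferInstanceAs (Nonempty (PrimeSpectrum A))
    refine ⟨V, ?_, ?_⟩
    · obtain ⟨p, hp⟩ := hD.nonempty
      exact ⟨p, (hsD p hp).1⟩
    · exact Groth.Agent.GrpAct.exists_factor f (V.ι ≫ s) (by
        rintro _ ⟨q, rfl⟩
        rw [hr, Scheme.Hom.comp_apply]
        exact ⟨q.2, hCall _⟩)

end Groth.Agent.S15347
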