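import Groth.Statements.S15349
import Groth.Agent.ReflSpec.Basic

set_option autoImplicit false
universe u
open CategoryTheory CategoryTheory.Limits AlgebraicGeometry
open Mor

set_option backward.isDefEq.respectTransparency false
namespace Groth.Agent.S15349

/-- Let X be a locally Noetherian scheme and f : Y ⟶ X a monomorphism locally of finite presentation
such that, for every integral domain A and every morphism s : Spec A ⟶ X for which the points of a
dense subset of Spec A lift to Y (the residue field of each such point maps to Y over s), some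
nonempty open subscheme of Spec A maps to Y over s. Then f is quasi-compact. (The published remark
is for a representable morphism of algebraic stacks; this row is the case of schemes.) -/
theorem result {X Y : Scheme.{u}} [IsLocallyNoetherian X]
    (f : Y ⟶ X) [LocallyOfFinitePresentation f] [Mono f]
    (hc : ∀ (A : Type u) [CommRing A] [IsDomain A] (s : Spec (CommRingCat.of A) ⟶ X) (D : Set ↥(Spec (CommRingCat.of A))),
        Dense D →
        (∀ p ∈ D, ∃ l : Spec ((Spec (CommRingCat.of A)).residueField p) ⟶ Y,
            l ≫ f = (Spec (CommRingCat.of A)).fromSpecResidueField p ≫ s) →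
          ∃ U : (Spec (CommRingCat.of A)).Opens, (U : Set ↥(Spec (CommRingCat.of A))).Nonempty ∧
            ∃ l : (U : Scheme.{u}) ⟶ Y, l ≫ f = U.ι ≫ s) :
    QuasiCompact f := by
  refine quasiCompact_iff_forall_isAffineOpen.mpr fun U hU => ?_
  haveI : IsNoetherianRing Γ(X, U) := IsLocallyNoetherian.component_noetherian ⟨U, hU⟩
  let j := hU.fromSpec
  suffices h : ∀ I : Ideal Γ(X, U), IsCompact (f.base ⁻¹' (j.base '' PrimeSpectrum.zeroLocus (I : Set Γ(X, U)))) by
    have h0 := h ⊥
    rw [Submodule.bot_coe, PrimeSpectrum.zeroLocus_singleton_zero] at h0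
    rw [show (((f ⁻¹ᵁ U) : Y.Opens) : Set Y) = f.base ⁻¹' (j.base '' Set.univ) by
      rw [Set.image_univ]; exact (congrArg (f.base ⁻¹' ·) hU.range_fromSpec).symm]
    exact h0
  intro I
  induction I using WellFoundedGT.induction with
  | ind I ih =>
    rcases eq_or_ne I ⊤ with rfl | htop
    · rw [Submodule.top_coe, PrimeSpectrum.zeroLocus_univ, Set.image_empty, Set.preimage_empty]
      exact isCompact_empty
    by_cases hp : I.IsPrime
    · haveI := hp
      let A := Γ(X, U) ⧸ I
      let q : Spec (CommRingCat.of A) ⟶ Spec Γ(X, U) :=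
        Spec.map (CommRingCat.ofHom (Ideal.Quotient.mk I))
      have hq : Set.range q.base = PrimeSpectrum.zeroLocus (I : Set Γ(X, U)) := by
        have := range_comap_of_surjective _ (Ideal.Quotient.mk I) Ideal.Quotient.mk_surjective
        rw [Ideal.mk_ker] at this
        exact this
      -- closed subsets cut out by non-zero ideals of `A` are handled by induction
      have small : ∀ J' : Ideal A, J' ≠ ⊥ →
          IsCompact (f.base ⁻¹' (j.base '' (q.base '' PrimeSpectrum.zeroLocus (J' : Set A)))) := by
        intro J' hJ'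
        have hlt : I < J'.comap (Ideal.Quotient.mk I) := by
          refine lt_of_le_of_ne (fun a ha => ?_) fun he => hJ' ?_
          · rw [Ideal.mem_comap, Ideal.Quotient.eq_zero_iff_mem.mpr ha]
            exact zero_mem _
          · rw [← Ideal.map_comap_of_surjective _ Ideal.Quotient.mk_surjective J', ← he,
              Ideal.map_quotient_self]
        convert ih _ hlt using 3
        exact image_comap_zeroLocus_eq_zeroLocus_comap _ (Ideal.Quotient.mk I)
          Ideal.Quotient.mk_surjective J'
      let D : Set ↥(Spec (CommRingCat.of A)) := {p | (q ≫ j).base p ∈ Set.range f.base}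
      by_cases hD : Dense D
      · obtain ⟨W, hW, l, hl⟩ := hc A (q ≫ j) D hD fun p ⟨y, hy⟩ => by
          obtain ⟨b, hb⟩ := Groth.Agent.ReflSpec.exists_fieldPt_lift f _
            ((Spec (CommRingCat.of A)).fromSpecResidueField p ≫ q ≫ j) y ((congrArg (q ≫ j).base (Scheme.fromSpecResidueField_apply p _)).trans hy.symm)
          exact ⟨b, hb⟩
        obtain ⟨S, hS⟩ := (PrimeSpectrum.isClosed_iff_zeroLocus_ideal _).1 W.2.isClosed_compl
        have hS0 : S ≠ ⊥ := fun e => by
          rw [e, Submodule.bot_coe, PrimeSpectrum.zeroLocus_singleton_zero] at hS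
          obtain ⟨w, hw⟩ := hW
          exact (hS.symm ▸ Set.mem_univ w : w ∈ (W : Set _)ᶜ) hw
        have hWc : IsCompact (W : Set ↥(Spec (CommRingCat.of A))) :=
          TopologicalSpace.NoetherianSpace.isCompact (α := PrimeSpectrum A) _
        haveI : CompactSpace ↥(W : Scheme.{u}) := isCompact_iff_compactSpace.mp hWc
        have key : f.base ⁻¹' (j.base '' PrimeSpectrum.zeroLocus (I : Set Γ(X, U))) =
            Set.range l.base ∪
              f.base ⁻¹' (j.base '' (q.base '' PrimeSpectrum.zeroLocus (S : Set A))) := by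
          ext y
          constructor
          · rintro ⟨z, hz, hzy⟩
            rw [← hq] at hz
            obtain ⟨p, rfl⟩ := hz
            by_cases hpW : p ∈ W
            · refine Or.inl ⟨⟨p, hpW⟩, f.injective ?_⟩
              rw [← Scheme.Hom.comp_apply, hl]
              exact hzy
            · exact Or.inr ⟨q.base p, ⟨p, hS ▸ hpW, rfl⟩, hzy⟩
          · rintro (⟨w, rfl⟩ | ⟨z, ⟨p, hp, rfl⟩, hzy⟩)
            · refine ⟨q.base (W.ι w), hq ▸ ⟨_, rfl⟩, ?_⟩
              show _ = f (l w)
              rw [← Scheme.Hom.comp_apply l f, hl]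
              rfl
            · exact ⟨q.base p, hq ▸ ⟨_, rfl⟩, hzy⟩
        rw [key]
        exact (isCompact_range l.continuous).union (small S hS0)
      · obtain ⟨S, hS⟩ := (PrimeSpectrum.isClosed_iff_zeroLocus_ideal _).1 (isClosed_closure (s := D))
        have hS0 : S ≠ ⊥ := fun e => hD (dense_iff_closure_eq.mpr (by
          rw [hS, e, Submodule.bot_coe, PrimeSpectrum.zeroLocus_singleton_zero]))
        convert small S hS0 using 1
        ext y
        constructor
        · rintro ⟨z, hz, hzy⟩
          rw [← hq] at hz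
          obtain ⟨p, rfl⟩ := hz
          exact ⟨q.base p, ⟨p, hS ▸ subset_closure ⟨y, hzy.symm⟩, rfl⟩, hzy⟩
        · rintro ⟨z, ⟨p, hp, rfl⟩, hzy⟩
          exact ⟨q.base p, hq ▸ ⟨_, rfl⟩, hzy⟩
    · obtain ⟨a, ha, b, hb, hab⟩ : ∃ a ∉ I, ∃ b ∉ I, a * b ∈ I := by
        rw [Ideal.isPrime_iff] at hp
        push Not at hp
        obtain ⟨a, b, hab, ha, hb⟩ := hp htop
        exact ⟨a, ha, b, hb, hab⟩
      have key : PrimeSpectrum.zeroLocus (I : Set Γ(X, U)) =
          PrimeSpectrum.zeroLocus ((I ⊔ Ideal.span {a} : Ideal Γ(X, U)) : Set Γ(X, U)) ∪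
          PrimeSpectrum.zeroLocus ((I ⊔ Ideal.span {b} : Ideal Γ(X, U)) : Set Γ(X, U)) := by
        ext p
        simp only [Set.mem_union, PrimeSpectrum.mem_zeroLocus, SetLike.coe_subset_coe, sup_le_iff,
          Ideal.span_singleton_le_iff_mem]
        exact ⟨fun h => (p.2.mem_or_mem (h hab)).imp (fun x => ⟨h, x⟩) (fun x => ⟨h, x⟩),
          fun h => h.elim And.left And.left⟩
      have hlt : ∀ c ∉ I, I < I ⊔ Ideal.span {c} := fun c hc' =>
        lt_of_le_of_ne le_sup_left fun he =>
          hc' (he ▸ Ideal.mem_sup_right (Ideal.mem_span_singleton_self c))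
      rw [key, Set.image_union, Set.preimage_union]
      exact (ih _ (hlt a ha)).union (ih _ (hlt b hb))

end Groth.Agent.S15349
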