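import Groth.Statements.S15352
import Groth.Agent.GrpComp.Field

set_option autoImplicit false
universe u
open CategoryTheory CategoryTheory.Limits MonoidalCategory CartesianMonoidalCategory MonObj GrpObj AlgebraicGeometry
open GrpSch

set_option backward.isDefEq.respectTransparency false
namespace Groth.Agent.S15352

/-- Let k be an algebraically closed field, G a group scheme locally of finite type over k, G⁰ ⊆ G the
connected component of the unit point, and U a nonempty open subscheme of G contained in G⁰. Then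
every point of G⁰ is in the image of the morphism U ×_k U ⟶ G, (g, h) ↦ g·h⁻¹. (The published
statement writes U as an open of G mapping to G⁰ × G⁰; this row makes the containment U ⊆ G⁰
explicit.) -/
theorem result (k : Type u) [Field k] [IsAlgClosed k]
    (G : Over (Spec (CommRingCat.of k))) [GrpObj G] [LocallyOfFiniteType G.hom] (U : G.left.Opens)
    (hne : (U : Set ↥G.left).Nonempty)
    (hU : (U : Set ↥G.left) ⊆ connectedComponent (η[G].left.base (IsLocalRing.closedPoint k))) :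
    connectedComponent (η[G].left.base (IsLocalRing.closedPoint k)) ⊆ Set.range
      ((((Over.homMk U.ι rfl : Over.mk (U.ι ≫ G.hom) ⟶ G) ⊗ₘ
          ((Over.homMk U.ι rfl : Over.mk (U.ι ≫ G.hom) ⟶ G) ≫ ι[G])) ≫ μ[G]).left.base) := by
  intro g hg
  have hC := (Groth.Agent.GrpComp.connectedComponent_ept G).1
  change g ∈ connectedComponent (Groth.Agent.GrpComp.ept G) at hg
  change (U : Set G.left) ⊆ connectedComponent (Groth.Agent.GrpComp.ept G) at hU
  rw [hC] at hg hU
  have hZ : Groth.Agent.GrpComp.Z0 G ∈ irreducibleComponents G.left :=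
    irreducibleComponent_mem_irreducibleComponents _
  have hZc : IsClosed (Groth.Agent.GrpComp.Z0 G) := isClosed_irreducibleComponent
  obtain ⟨T, hT, gam, hgam⟩ := Groth.Agent.GrpField.exists_pt g
  haveI := Groth.Agent.GrpField.IsPt.single T
  obtain ⟨t⟩ := Groth.Agent.GrpField.IsPt.nonempty T
  have hTi : IsIrreducible (Set.univ : Set T.left) :=
    ⟨⟨t, trivial⟩, Set.subsingleton_univ.isPreirreducible⟩
  have hW := Groth.Agent.GrpComp.isIrreducible_box (X := G) (Y := T) hZ.1 hZc hTi isClosed_univ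
  let p : G ⊗ T ⟶ G := fst G T
  let q : G ⊗ T ⟶ G := (snd G T ≫ gam) * fst G T
  obtain ⟨u, hu⟩ := hne
  obtain ⟨T', hT', w, s, hw, hs⟩ := Groth.Agent.GrpField.exists_pt₂ (X := G) (Y := T) u t
  obtain ⟨t'⟩ := Groth.Agent.GrpField.IsPt.nonempty T'
  have h1 : ((Groth.Agent.GrpComp.box (Groth.Agent.GrpComp.Z0 G) Set.univ : Set (G ⊗ T).left) ∩
      p.left ⁻¹' U).Nonempty := by
    refine ⟨(lift w s).left t', Groth.Agent.GrpComp.mem_box w s t' (hw t' ▸ hU hu) trivial, ?_⟩
    rw [Set.mem_preimage, ← Scheme.Hom.comp_apply, ← Over.comp_left, lift_fst, hw]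
    exact hu
  have h2 : ((Groth.Agent.GrpComp.box (Groth.Agent.GrpComp.Z0 G) Set.univ : Set (G ⊗ T).left) ∩
      q.left ⁻¹' U).Nonempty := by
    have hsg : (s ≫ gam).left t' = g := by rw [Over.comp_left, Scheme.Hom.comp_apply, hgam]
    have hinv : ((s ≫ gam)⁻¹ : T' ⟶ G).left t' ∈ Groth.Agent.GrpComp.Z0 G := by
      have := Groth.Agent.GrpComp.divSet_self_subset hZ (Groth.Agent.GrpComp.div_mem_divSet 1 (s ≫ gam) t'
        (by rw [Groth.Agent.GrpComp.one_apply]; exact mem_irreducibleComponent) (hsg ▸ hg))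
      rwa [_root_.one_mul] at this
    have hmem := Groth.Agent.GrpComp.mulSet_Z0_subset hZ
      (Groth.Agent.GrpComp.mul_mem_mulSet (C := Groth.Agent.GrpComp.Z0 G)
        (D := Groth.Agent.GrpComp.Z0 G) ((s ≫ gam)⁻¹) w t' hinv (hw t' ▸ hU hu))
    refine ⟨(lift ((s ≫ gam)⁻¹ * w) s).left t', Groth.Agent.GrpComp.mem_box _ s t' hmem trivial, ?_⟩
    rw [Set.mem_preimage, ← Scheme.Hom.comp_apply, ← Over.comp_left, MonObj.comp_mul, lift_fst,
      lift_snd_assoc, mul_inv_cancel_left, hw]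
    exact hu
  obtain ⟨h, hhW, hhp, hhq⟩ := hW.2 _ _ (U.2.preimage p.left.continuous)
    (U.2.preimage q.left.continuous) h1 h2
  obtain ⟨T₂, hT₂, c, hc⟩ := Groth.Agent.GrpField.exists_pt h
  haveI := Groth.Agent.GrpField.IsPt.single T₂
  obtain ⟨t₂⟩ := Groth.Agent.GrpField.IsPt.nonempty T₂
  have hp' : Set.range (c ≫ p).left ⊆ Set.range U.ι := by
    rw [Scheme.Opens.range_ι]; rintro _ ⟨x, rfl⟩
    rw [Over.comp_left, Scheme.Hom.comp_apply, hc]; exact hhp
  have hq' : Set.range (c ≫ q).left ⊆ Set.range U.ι := by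
    rw [Scheme.Opens.range_ι]; rintro _ ⟨x, rfl⟩
    rw [Over.comp_left, Scheme.Hom.comp_apply, hc]; exact hhq
  let j : Over.mk (U.ι ≫ G.hom) ⟶ G := Over.homMk U.ι rfl
  let p₀ : T₂ ⟶ Over.mk (U.ι ≫ G.hom) := Over.homMk (IsOpenImmersion.lift U.ι (c ≫ p).left hp') (by
    show _ ≫ U.ι ≫ G.hom = _
    rw [IsOpenImmersion.lift_fac_assoc, Over.w])
  let q₀ : T₂ ⟶ Over.mk (U.ι ≫ G.hom) := Over.homMk (IsOpenImmersion.lift U.ι (c ≫ q).left hq') (by
    show _ ≫ U.ι ≫ G.hom = _
    rw [IsOpenImmersion.lift_fac_assoc, Over.w])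
  have ep : p₀ ≫ j = c ≫ p := Over.OverMorphism.ext (IsOpenImmersion.lift_fac _ _ _)
  have eq' : q₀ ≫ j = c ≫ q := Over.OverMorphism.ext (IsOpenImmersion.lift_fac _ _ _)
  refine ⟨(lift q₀ p₀).left t₂, ?_⟩
  rw [← Scheme.Hom.comp_apply, ← Over.comp_left, ← Category.assoc, lift_map, ← Category.assoc,
    eq', ep, ← Hom.mul_def, ← Hom.inv_def]
  show ((c ≫ ((snd G T ≫ gam) * fst G T)) * (c ≫ fst G T)⁻¹).left t₂ = g
  rw [MonObj.comp_mul, mul_inv_cancel_right, Over.comp_left, Scheme.Hom.comp_apply,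
    Over.comp_left, Scheme.Hom.comp_apply, hgam]

end Groth.Agent.S15352
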