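import Groth.Statements.S15353
import Mathlib.RingTheory.PicardGroup
import Mathlib.RingTheory.Idempotents
import Mathlib.RingTheory.Nakayama

set_option autoImplicit false
universe u
open CAlg

namespace Groth.Agent.S15353

open scoped TensorProduct

variable {A' A : Type u} [CommRing A'] [CommRing A] [Algebra A' A]

lemma ker_le_jacobson (hker : IsNilpotent (RingHom.ker (algebraMap A' A))) :
    RingHom.ker (algebraMap A' A) ≤ Ideal.jacobson ⊥ := fun x hx => by
  obtain ⟨n, hn⟩ := hker
  have hx' : x ^ n = 0 := by simpa [hn] using Ideal.pow_mem_pow hx n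
  exact Ideal.mem_jacobson_bot.2 fun y => ((Commute.isNilpotent_mul_right (Commute.all x y) ⟨n, hx'⟩)).isUnit_add_one

lemma exists_equiv_self (hf : Function.Surjective (algebraMap A' A)) (hker : IsNilpotent (RingHom.ker (algebraMap A' A)))
    (P : Type u) [AddCommGroup P] [Module A' P] [Module.Finite A' P] [Module.Projective A' P]
    (e : A ⊗[A'] P ≃ₗ[A] A) : Nonempty (P ≃ₗ[A'] A') := by
  let J := RingHom.ker (algebraMap A' A)
  obtain ⟨m, hm⟩ : ∃ m : P, e (1 ⊗ₜ m) = 1 := by
    obtain ⟨z, hz⟩ := e.surjective 1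
    suffices h : ∀ z : A ⊗[A'] P, ∃ m : P, 1 ⊗ₜ m = z from (h z).imp fun m hm => by rw [hm, hz]
    intro z
    induction z using TensorProduct.induction_on with
    | zero => exact ⟨0, TensorProduct.tmul_zero _ _⟩
    | tmul a p =>
      obtain ⟨r, rfl⟩ := hf a
      exact ⟨r • p, by rw [TensorProduct.tmul_smul, TensorProduct.smul_tmul', Algebra.smul_def, mul_one]⟩
    | add a b ha hb =>
      obtain ⟨x, rfl⟩ := ha; obtain ⟨y, rfl⟩ := hb
      exact ⟨x + y, TensorProduct.tmul_add _ _ _⟩
  choose σ hσ using hf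
  have hcong : ∀ (r s : A') (p : P), algebraMap A' A r = algebraMap A' A s →
      (J • ⊤ : Submodule A' P).mkQ (r • p) = (J • ⊤ : Submodule A' P).mkQ (s • p) := fun r s p h => by
    rw [Submodule.mkQ_apply, Submodule.mkQ_apply, Submodule.Quotient.eq, ← sub_smul]
    exact Submodule.smul_mem_smul (RingHom.mem_ker.2 (by rw [map_sub, h, sub_self])) Submodule.mem_top
  let g : A ⊗[A'] P →ₗ[A'] P ⧸ (J • ⊤ : Submodule A' P) := TensorProduct.lift (LinearMap.mk₂ A'
    (fun a p => (J • ⊤ : Submodule A' P).mkQ (σ a • p))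
    (fun a b p => (hcong _ (σ a + σ b) p (by simp [hσ])).trans (by rw [add_smul, map_add]))
    (fun r a p => (hcong _ (r * σ a) p (by simp [hσ, Algebra.smul_def])).trans (by rw [mul_smul, map_smul]))
    (fun a p q => by rw [smul_add, map_add])
    (fun r a p => by rw [smul_comm, map_smul]))
  have hg : ∀ p : P, g (1 ⊗ₜ p) = (J • ⊤ : Submodule A' P).mkQ p := fun p =>
    (hcong _ 1 p (by simp [hσ])).trans (by rw [one_smul])
  let u : A' →ₗ[A'] P := LinearMap.toSpanSingleton A' P m
  have htop : (⊤ : Submodule A' P) ≤ LinearMap.range u ⊔ J • ⊤ := fun p _ => by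
    have h1 : (1 : A) ⊗ₜ[A'] p = (1 : A) ⊗ₜ[A'] (σ (e (1 ⊗ₜ p)) • m) := e.injective (by
      rw [TensorProduct.tmul_smul, ← algebraMap_smul A (σ _), map_smul, hm, smul_eq_mul, mul_one, hσ])
    have h2 := congrArg g h1
    rw [hg, hg, Submodule.mkQ_apply, Submodule.mkQ_apply, Submodule.Quotient.eq] at h2
    have : p = σ (e (1 ⊗ₜ p)) • m + (p - σ (e (1 ⊗ₜ p)) • m) := by abel
    rw [this]
    exact Submodule.add_mem_sup ⟨_, rfl⟩ h2
  have hu : Function.Surjective u := LinearMap.range_eq_top.1 (top_le_iff.1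
    (Submodule.le_of_le_smul_of_le_jacobson_bot Module.Finite.fg_top (ker_le_jacobson hker) htop))
  obtain ⟨v, hv⟩ := Module.projective_lifting_property u LinearMap.id hu
  have hvm : v m = 1 := by
    have hmm : v m • m = m := LinearMap.congr_fun hv m
    have hid : IsIdempotentElem (1 - v m) := by
      have hq : v m * v m = v m := by
        have h := congrArg v hmm
        rwa [map_smul, smul_eq_mul] at h
      exact (show IsIdempotentElem (v m) from hq).one_sub
    have hk : 1 - v m ∈ J := by
      have h0 : (1 : A) ⊗ₜ[A'] ((1 - v m) • m) = 0 := by rw [sub_smul, one_smul, hmm, sub_self, TensorProduct.tmul_zero]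
      have h := congrArg e h0
      rw [map_zero, TensorProduct.tmul_smul, ← LinearEquiv.coe_toLinearMap, LinearMap.map_smul_of_tower,
        LinearEquiv.coe_toLinearMap, hm, Algebra.smul_def, mul_one] at h
      exact h
    obtain ⟨n, hn⟩ := hker
    exact (sub_eq_zero.1 (hid.eq_zero_of_isNilpotent ⟨n, by
      have h := Ideal.pow_mem_pow hk n
      rw [show J ^ n = 0 from hn] at h
      exact h⟩)).symm
  refine ⟨(LinearEquiv.ofBijective u ⟨fun a b h => ?_, hu⟩).symm⟩
  have h' := congrArg v h
  simpa [u, hvm] using h'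

lemma exists_lift_projective (hf : Function.Surjective (algebraMap A' A))
    (hker : IsNilpotent (RingHom.ker (algebraMap A' A)))
    (N : Type u) [AddCommGroup N] [Module A N] [Module.Finite A N] [Module.Projective A N] :
    ∃ (M : Type u) (_ : AddCommGroup M) (_ : Module A' M), Module.Finite A' M ∧ Module.Projective A' M ∧
      Nonempty (A ⊗[A'] M ≃ₗ[A] N) := by
  obtain ⟨r, p, hp⟩ := Module.Finite.exists_fin' A N
  obtain ⟨s, hs⟩ := Module.projective_lifting_property p LinearMap.id hp
  let f := algebraMap A' A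
  let Φ : Matrix (Fin r) (Fin r) A' →+* Matrix (Fin r) (Fin r) A := f.mapMatrix
  have hnil : ∀ x ∈ RingHom.ker Φ, IsNilpotent x := fun x hx => by
    obtain ⟨n, hn⟩ := hker
    have hk : ∀ k, ∀ i j, (x ^ k) i j ∈ RingHom.ker f ^ k := fun k => by
      induction k with
      | zero => intro i j; simp
      | succ k ih =>
        intro i j
        rw [pow_succ, pow_succ, Matrix.mul_apply]
        exact Ideal.sum_mem _ fun l _ => Ideal.mul_mem_mul (ih i l) (Matrix.ext_iff.2 (RingHom.mem_ker.1 hx) l j)
    exact ⟨n, Matrix.ext fun i j => by simpa [f, hn] using hk n i j⟩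
  have hsurj : Function.Surjective Φ := fun y =>
    ⟨y.map (Function.surjInv hf), Matrix.ext fun i j => Function.surjInv_eq hf (y i j)⟩
  obtain ⟨E, hE, hEb⟩ := exists_isIdempotentElem_eq_of_ker_isNilpotent Φ hnil (LinearMap.toMatrix' (s ∘ₗ p))
    (hsurj _) (by
      rw [IsIdempotentElem, ← LinearMap.toMatrix'_mul, Module.End.mul_eq_comp]
      congr 1
      refine LinearMap.ext fun x => ?_
      exact congrArg s (LinearMap.congr_fun hs (p x)))
  let T : (Fin r → A') →ₗ[A'] (Fin r → A') := Matrix.toLin' E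
  have hTT : ∀ x, T (T x) = T x := fun x => by
    rw [← LinearMap.comp_apply, ← Matrix.toLin'_mul, hE.eq]
  have hT : ∀ x : Fin r → A', s (p (f ∘ x)) = f ∘ T x := fun x => by
    have h : (LinearMap.toMatrix' (s ∘ₗ p)).mulVec (f ∘ x) = s (p (f ∘ x)) :=
      (LinearMap.toMatrix'_mulVec (s ∘ₗ p) (f ∘ x))
    rw [← h, ← hEb]
    funext i
    exact (RingHom.map_mulVec f E x i).symm
  let M := LinearMap.range T
  have hfin : Module.Finite A' M := inferInstance
  have hproj : Module.Projective A' M := Module.Projective.of_split M.subtype T.rangeRestrict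
    (LinearMap.ext fun ⟨x, y, hy⟩ => Subtype.ext (show T x = x by rw [← hy, hTT]))
  let : Module A' N := Module.compHom N f
  have : IsScalarTower A' A N := ⟨fun a b c => by
    change (a • b) • c = f a • b • c
    rw [Algebra.smul_def, mul_smul]⟩
  let F : A ⊗[A'] M →ₗ[A] N := TensorProduct.AlgebraTensorModule.lift
    (LinearMap.toSpanSingleton A (M →ₗ[A'] N)
      { toFun := fun x => p (f ∘ (x : Fin r → A'))
        map_add' := fun x y => by
          rw [← map_add]; congr 1; funext i; exact map_add f _ _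
        map_smul' := fun c x => by
          change p _ = f c • p _
          rw [← map_smul]; congr 1; funext i; exact map_mul f _ _ })
  let b : Fin r → M := fun i => ⟨T (Pi.single i 1), _, rfl⟩
  let G : N →ₗ[A] A ⊗[A'] M := ∑ i, ((LinearMap.proj i).comp s).smulRight ((1 : A) ⊗ₜ[A'] b i)
  have hFG : F ∘ₗ G = LinearMap.id := LinearMap.ext fun n => by
    have hb : ∀ i, p (f ∘ T (Pi.single i 1)) = p (Pi.single i 1) := fun i => by
      rw [← hT]
      have h1 : f ∘ (Pi.single i 1 : Fin r → A') = Pi.single i 1 := by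
        funext j; by_cases hj : j = i
        · subst hj; simp
        · simp [hj]
      rw [h1]
      exact LinearMap.congr_fun hs _
    simp only [G, F, b, LinearMap.comp_apply, LinearMap.sum_apply, LinearMap.smulRight_apply, map_sum, map_smul,
      TensorProduct.AlgebraTensorModule.lift_tmul, LinearMap.toSpanSingleton_apply, one_smul, LinearMap.coe_mk,
      AddHom.coe_mk, hb, LinearMap.id_apply]
    have hps : p (s n) = n := LinearMap.congr_fun hs n
    conv_rhs => rw [← hps, pi_eq_sum_univ' (s n), map_sum]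
    exact Finset.sum_congr rfl fun i _ => (map_smul p _ _).symm
  have hGF : G ∘ₗ F = LinearMap.id := by
    refine TensorProduct.AlgebraTensorModule.ext fun a x => ?_
    suffices h : G (F (1 ⊗ₜ x)) = 1 ⊗ₜ x by
      have ha : a ⊗ₜ[A'] x = a • ((1 : A) ⊗ₜ[A'] x) := by rw [TensorProduct.smul_tmul', smul_eq_mul, mul_one]
      rw [LinearMap.comp_apply, LinearMap.id_apply, ha, map_smul, map_smul, h]
    obtain ⟨y, hy⟩ := x.2
    have hx : T (x : Fin r → A') = x := by rw [← hy, hTT]
    have hsum : x = ∑ i, (x : Fin r → A') i • b i := Subtype.ext (by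
      rw [AddSubmonoidClass.coe_finsetSum]
      conv_lhs => rw [← hx, pi_eq_sum_univ' (x : Fin r → A'), map_sum]
      exact Finset.sum_congr rfl fun i _ => map_smul T _ _)
    have hF : F (1 ⊗ₜ x) = p (f ∘ (x : Fin r → A')) := by simp [F]
    rw [hF]
    conv_rhs => rw [hsum, TensorProduct.tmul_sum]
    simp only [G, LinearMap.sum_apply, LinearMap.smulRight_apply, LinearMap.comp_apply, LinearMap.proj_apply]
    refine Finset.sum_congr rfl fun i _ => ?_
    rw [hT, hx, TensorProduct.tmul_smul]
    exact algebraMap_smul A _ _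
  exact ⟨M, inferInstance, inferInstance, hfin, hproj, ⟨LinearEquiv.ofLinearMap F G hFG hGF⟩⟩

/-- Let f : A' → A be a surjective ring homomorphism whose kernel is a nilpotent ideal. Then the induced
homomorphism of Picard groups Pic(A') → Pic(A), base change of invertible modules along f, is
bijective. -/
theorem result {A' A : Type u} [CommRing A'] [CommRing A]
    (f : A' →+* A) (hf : Function.Surjective f) (hker : IsNilpotent (RingHom.ker f)) :
    Function.Bijective (CommRing.Pic.mapRingHom f) := by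
  algebraize [f]
  change Function.Bijective (CommRing.Pic.mapAlgebra A' A)
  refine ⟨(injective_iff_map_eq_one _).2 fun M hM => ?_, fun N => ?_⟩
  · rw [CommRing.Pic.mapAlgebra_apply, CommRing.Pic.mk_eq_one_iff] at hM
    obtain ⟨e⟩ := hM
    obtain ⟨e'⟩ := exists_equiv_self hf hker M e
    rw [← CommRing.Pic.mk_eq_self (M := M)]
    exact CommRing.Pic.mk_eq_one_iff.2 ⟨e'⟩
  · obtain ⟨M, _, _, _, _, ⟨e⟩⟩ := exists_lift_projective hf hker N
    obtain ⟨M', _, _, _, _, ⟨e'⟩⟩ := exists_lift_projective hf hker (Module.Dual A N)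
    obtain ⟨d⟩ := exists_equiv_self hf hker (M ⊗[A'] M')
      (TensorProduct.AlgebraTensorModule.distribBaseChange A' A M M' ≪≫ₗ TensorProduct.congr e e' ≪≫ₗ
        TensorProduct.comm A _ _ ≪≫ₗ Module.Invertible.linearEquiv A N)
    have : Module.Invertible A' M := Module.Invertible.left d
    refine ⟨CommRing.Pic.mk A' M, ?_⟩
    rw [CommRing.Pic.mapAlgebra_apply]
    exact CommRing.Pic.mk_eq_iff.2 ⟨TensorProduct.AlgebraTensorModule.congr (.refl A A) (CommRing.Pic.mk.linearEquiv A' M) ≪≫ₗ e⟩

end Groth.Agent.S15353
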