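import Groth.Statements.S15354
import Mathlib

set_option autoImplicit false
universe u
open CategoryTheory CategoryTheory.Limits AlgebraicGeometry
open Mor

namespace Groth.Agent.S15354

/-- Let f : Y ⟶ X be a morphism of schemes, A a valuation ring with fraction field K and residue field
k, and ξ, η : Spec A ⟶ Y two A-points of Y over the same A-point of X. If ξ and η restrict to the
same K-point and to the same k-point of Y, then ξ = η. (The published statement is an equivalence,
for algebraic spaces locally of finite presentation over a Noetherian scheme, between local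
separatedness of f and conditions (a), (b); this row is the necessity of (a) in the case of schemes,
where no hypothesis on f is needed.) -/
theorem result {X Y : Scheme.{u}} (f : Y ⟶ X)
    (A : Type u) [CommRing A] [IsDomain A] [ValuationRing A] (K : Type u) [Field K] [Algebra A K]
    [IsFractionRing A K] (ξ η : Spec (CommRingCat.of A) ⟶ Y) (hf : ξ ≫ f = η ≫ f)
    (hK : Spec.map (CommRingCat.ofHom (algebraMap A K)) ≫ ξ = Spec.map (CommRingCat.ofHom (algebraMap A K)) ≫ η)
    (hk : Spec.map (CommRingCat.ofHom (IsLocalRing.residue A)) ≫ ξ =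
      Spec.map (CommRingCat.ofHom (IsLocalRing.residue A)) ≫ η) :
    ξ = η := by
  let P : Spec (CommRingCat.of A) := IsLocalRing.closedPoint A
  have hpt : ξ P = η P := by
    have := congr($(hk).base (IsLocalRing.closedPoint (IsLocalRing.ResidueField A)))
    have hc : Spec.map (CommRingCat.ofHom (IsLocalRing.residue A)) (IsLocalRing.closedPoint (IsLocalRing.ResidueField A)) = P :=
      PrimeSpectrum.ext (by
        change (IsLocalRing.maximalIdeal (IsLocalRing.ResidueField A)).comap (IsLocalRing.residue A) = IsLocalRing.maximalIdeal A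
        rw [IsLocalRing.maximalIdeal_eq_bot, ← RingHom.ker_eq_comap_bot, IsLocalRing.ker_residue])
    have e := (Scheme.Hom.comp_apply _ _ _).symm.trans (this.trans (Scheme.Hom.comp_apply _ _ _))
    rwa [hc] at e
  obtain ⟨W, hW, hPW, -⟩ := exists_isAffineOpen_mem_and_subset (show ξ P ∈ (⊤ : Y.Opens) from trivial)
  have htop : ∀ ζ : Spec (CommRingCat.of A) ⟶ Y, ζ P ∈ W → Set.range ζ ⊆ Set.range W.ι := by
    intro ζ hζ
    rintro _ ⟨q, rfl⟩
    rw [Scheme.Opens.range_ι]
    exact ((IsLocalRing.specializes_closedPoint (q : PrimeSpectrum A)).map ζ.continuous).mem_open W.2 hζ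
  haveI : IsAffine W := hW
  let ξ' := IsOpenImmersion.lift W.ι ξ (htop ξ hPW)
  let η' := IsOpenImmersion.lift W.ι η (htop η (hpt ▸ hPW))
  suffices h : ξ' = η' by
    rw [← IsOpenImmersion.lift_fac W.ι ξ (htop ξ hPW), ← IsOpenImmersion.lift_fac W.ι η (htop η (hpt ▸ hPW))]
    exact congrArg (· ≫ W.ι) h
  haveI : IsDominant (Spec.map (CommRingCat.ofHom (algebraMap A K))) := by
    refine ⟨(PrimeSpectrum.denseRange_comap_iff_ker_le_nilRadical (algebraMap A K)).2 ?_⟩
    rw [(RingHom.injective_iff_ker_eq_bot _).1 (IsFractionRing.injective A K)]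
    exact bot_le
  refine ext_of_isDominant (Spec.map (CommRingCat.ofHom (algebraMap A K))) ?_
  rw [← cancel_mono W.ι]
  simpa [ξ', η'] using hK

end Groth.Agent.S15354
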