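import Groth.Statements.S15355
import Mathlib

set_option autoImplicit false
universe u
open CategoryTheory CategoryTheory.Limits AlgebraicGeometry
open Mor

namespace Groth.Agent.S15355

/-- Let f : Y ⟶ X be a morphism of schemes, A an integral domain and ξ, η : Spec A ⟶ Y two A-points of Y
over the same A-point of X. If ξ and η induce the same κ(p)-point of Y at every point p of some
dense subset of Spec A, then ξ and η agree on a nonempty open subscheme of Spec A. (The published
statement is an equivalence, for algebraic spaces locally of finite presentation over a Noetherian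
scheme, between local separatedness of f and conditions (a), (b); this row is the necessity of (b)
in the case of schemes, where no hypothesis on f is needed.) -/
theorem result {X Y : Scheme.{u}} (f : Y ⟶ X)
    (A : Type u) [CommRing A] [IsDomain A] (ξ η : Spec (CommRingCat.of A) ⟶ Y) (hf : ξ ≫ f = η ≫ f)
    (D : Set ↥(Spec (CommRingCat.of A))) (hD : Dense D)
    (hpt : ∀ p ∈ D, (Spec (CommRingCat.of A)).fromSpecResidueField p ≫ ξ =
      (Spec (CommRingCat.of A)).fromSpecResidueField p ≫ η) :
    ∃ U : (Spec (CommRingCat.of A)).Opens, (U : Set ↥(Spec (CommRingCat.of A))).Nonempty ∧ U.ι ≫ ξ = U.ι ≫ η := by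
  obtain ⟨p, hp⟩ := hD.nonempty
  have hptD : ∀ q ∈ D, ξ q = η q := fun q hq => by
    have := congr($(hpt q hq).base (IsLocalRing.closedPoint _))
    have e := (Scheme.Hom.comp_apply _ _ _).symm.trans (this.trans (Scheme.Hom.comp_apply _ _ _))
    exact ((congrArg ξ (Scheme.fromSpecResidueField_apply q _)).symm.trans e).trans (congrArg η (Scheme.fromSpecResidueField_apply q _))
  obtain ⟨W, hW, hpW, -⟩ := exists_isAffineOpen_mem_and_subset (show ξ p ∈ (⊤ : Y.Opens) from trivial)
  haveI : IsAffine W := hW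
  let U := ξ ⁻¹ᵁ W ⊓ η ⁻¹ᵁ W
  refine ⟨U, ⟨p, hpW, show η p ∈ W from hptD p hp ▸ hpW⟩, ?_⟩
  have hr : ∀ ζ : Spec (CommRingCat.of A) ⟶ Y, (U ≤ ζ ⁻¹ᵁ W) → Set.range (U.ι ≫ ζ) ⊆ Set.range W.ι := by
    rintro ζ h _ ⟨q, rfl⟩
    rw [Scheme.Opens.range_ι]
    exact h q.2
  let ξ' := IsOpenImmersion.lift W.ι (U.ι ≫ ξ) (hr ξ inf_le_left)
  let η' := IsOpenImmersion.lift W.ι (U.ι ≫ η) (hr η inf_le_right)
  suffices h : ξ' = η' by
    rw [← IsOpenImmersion.lift_fac W.ι (U.ι ≫ ξ) (hr ξ inf_le_left),
      ← IsOpenImmersion.lift_fac W.ι (U.ι ≫ η) (hr η inf_le_right)]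
    exact congrArg (· ≫ W.ι) h
  refine ext_of_fromSpecResidueField_eq ξ' η' (Limits.terminal.from (W : Scheme.{u})) (U.ι ⁻¹' D)
    (hD.preimage U.ι.isOpenEmbedding.isOpenMap) (fun q hq => ?_) (Limits.terminal.hom_ext _ _)
  rw [← cancel_mono W.ι]
  simp only [Category.assoc, ξ', η', IsOpenImmersion.lift_fac]
  have h := hpt _ hq
  have hcomp := Scheme.Hom.SpecMap_residueFieldMap_fromSpecResidueField U.ι q
  rw [← Category.assoc, ← Category.assoc, ← hcomp, Category.assoc, Category.assoc, h]

end Groth.Agent.S15355
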