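import Groth.Statements.S15360
import Mathlib

set_option autoImplicit false
universe u
open GalCoh

set_option backward.isDefEq.respectTransparency false
set_option backward.isDefEq.respectTransparency.types false

namespace Groth.Agent.S15360

/-- Let 𝔊 be a profinite group and ϕ : 𝔊 → GL₂(ℤ_p) a continuous homomorphism. Then ϕ is surjective if
and only if (i) the composite of ϕ with reduction modulo p, 𝔊 → GL₂(𝔽_p), is surjective, and (ii)
for every integer n ≥ 1 there is g ∈ 𝔊 such that ϕ(g) has the form [[1 + pⁿa, pⁿ⁺¹b], [pⁿ⁺¹c, 1 +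
pⁿ⁺¹d]] with a, b, c, d ∈ ℤ_p and a not divisible by p (equivalently: the image of ϕ⁻¹(1 +
pⁿM₂(ℤ_p)) in M₂(𝔽_p) under g ↦ (ϕ(g) − 1)/pⁿ contains a matrix [[x, 0], [0, 0]] with x ≠ 0).
Continuity of ϕ is expressed through its matrix entries. -/
theorem result (p : ℕ) [Fact p.Prime]
    (𝔊 : Type u) [Group 𝔊] [TopologicalSpace 𝔊] [IsTopologicalGroup 𝔊] [CompactSpace 𝔊] [T2Space 𝔊]
    [TotallyDisconnectedSpace 𝔊]
    (ϕ : 𝔊 →* GL (Fin 2) ℤ_[p])
    (hϕ : Continuous fun g => ((ϕ g : GL (Fin 2) ℤ_[p]) : Matrix (Fin 2) (Fin 2) ℤ_[p])) :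
    Function.Surjective ϕ ↔
      (Function.Surjective ((Matrix.GeneralLinearGroup.map (n := Fin 2) (PadicInt.toZMod (p := p))).comp ϕ) ∧
        ∀ n : ℕ, 1 ≤ n → ∃ (g : 𝔊) (a b c d : ℤ_[p]), ¬ ((p : ℤ_[p]) ∣ a) ∧
          ((ϕ g : GL (Fin 2) ℤ_[p]) : Matrix (Fin 2) (Fin 2) ℤ_[p]) =
            !![1 + (p : ℤ_[p]) ^ n * a, (p : ℤ_[p]) ^ (n + 1) * b;
               (p : ℤ_[p]) ^ (n + 1) * c, 1 + (p : ℤ_[p]) ^ (n + 1) * d]) := by
  classical
  let Φ : 𝔊 → Matrix (Fin 2) (Fin 2) ℤ_[p] := fun g => ((ϕ g : GL (Fin 2) ℤ_[p]) : Matrix (Fin 2) (Fin 2) ℤ_[p])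
  let π : ℤ_[p] := (p : ℤ_[p])
  let red : Matrix (Fin 2) (Fin 2) ℤ_[p] →+* Matrix (Fin 2) (Fin 2) (ZMod p) :=
    (PadicInt.toZMod (p := p)).mapMatrix
  have hred : ∀ M, red M = 0 → ∃ D, M = π • D := by
    intro M hM
    have : ∀ i j, π ∣ M i j := fun i j => by
      have h1 : PadicInt.toZMod (M i j) = 0 := congrFun (congrFun hM i) j
      rw [← RingHom.mem_ker, PadicInt.ker_toZMod, PadicInt.maximalIdeal_eq_span_p,
        Ideal.mem_span_singleton] at h1
      exact h1
    choose D hD using this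
    exact ⟨Matrix.of D, Matrix.ext fun i j => by simpa using hD i j⟩
  have hred' : ∀ M N, red M = red N → ∃ D, M = N + π • D := by
    intro M N h
    obtain ⟨D, hD⟩ := hred (M - N) (by rw [map_sub, h, sub_self])
    exact ⟨D, by rw [← hD]; abel⟩
  have hmul : ∀ g h, Φ (g * h) = Φ g * Φ h := fun g h => by simp [Φ]
  constructor
  · intro hsur
    refine ⟨fun A => ?_, fun n hn => ?_⟩
    · obtain ⟨M, hM⟩ : ∃ M, red M = (A : Matrix (Fin 2) (Fin 2) (ZMod p)) := by
        refine ⟨Matrix.of fun i j => ((A i j).val : ℤ_[p]), Matrix.ext fun i j => ?_⟩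
        show PadicInt.toZMod ((A i j).val : ℤ_[p]) = A i j
        rw [map_natCast, ZMod.natCast_zmod_val]
      have hu : IsUnit M := by
        rw [Matrix.isUnit_iff_isUnit_det]
        have h1 : PadicInt.toZMod M.det = (A : Matrix (Fin 2) (Fin 2) (ZMod p)).det := by
          rw [RingHom.map_det, ← hM]
        by_contra hdet
        have h2 : M.det ∈ IsLocalRing.maximalIdeal ℤ_[p] := hdet
        rw [← PadicInt.ker_toZMod, RingHom.mem_ker, h1] at h2
        exact ((Matrix.isUnit_iff_isUnit_det _).mp A.isUnit).ne_zero h2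
      obtain ⟨g, hg⟩ := hsur hu.unit
      refine ⟨g, Units.ext ?_⟩
      rw [← hM]
      show red (Φ g) = red M
      simp only [Φ, hg, IsUnit.unit_spec]
    · have hu : IsUnit (!![1 + π ^ n * 1, π ^ (n + 1) * 0; π ^ (n + 1) * 0, 1 + π ^ (n + 1) * 0] :
          Matrix (Fin 2) (Fin 2) ℤ_[p]) := by
        rw [Matrix.isUnit_iff_isUnit_det, Matrix.det_fin_two_of]
        obtain ⟨m, rfl⟩ : ∃ m, n = m + 1 := ⟨n - 1, by omega⟩
        have : π ^ (m + 1) ∈ IsLocalRing.maximalIdeal ℤ_[p] := by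
          rw [PadicInt.maximalIdeal_eq_span_p, Ideal.mem_span_singleton]
          exact dvd_pow_self _ (Nat.succ_ne_zero m)
        simpa using IsLocalRing.isUnit_one_sub_self_of_mem_nonunits (-π ^ (m + 1)) (neg_mem this)
      obtain ⟨g, hg⟩ := hsur hu.unit
      exact ⟨g, 1, 0, 0, 0, fun h => by
        have := PadicInt.prime_p (p := p)
        exact this.not_unit (isUnit_of_dvd_one h), by rw [hg]; rfl⟩
  · rintro ⟨hone, hdiag⟩
    have hmod : ∀ U : GL (Fin 2) (ZMod p), ∃ g, red (Φ g) = (U : Matrix (Fin 2) (Fin 2) (ZMod p)) := fun U => by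
      obtain ⟨g, hg⟩ := hone U
      exact ⟨g, congrArg Units.val hg⟩
    -- the graded pieces of the image
    have hall : ∀ n, 1 ≤ n → ∀ E : Matrix (Fin 2) (Fin 2) (ZMod p),
        ∃ g E', Φ g = 1 + π ^ n • E' ∧ red E' = E := by
      intro n hn
      let P : Matrix (Fin 2) (Fin 2) (ZMod p) → Prop := fun E => ∃ g E', Φ g = 1 + π ^ n • E' ∧ red E' = E
      change ∀ E, P E
      have h0 : P 0 := ⟨1, 0, by simp [Φ], map_zero _⟩
      have hadd : ∀ E F, P E → P F → P (E + F) := by
        rintro E F ⟨g, E', hg, rfl⟩ ⟨h, F', hh, rfl⟩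
        refine ⟨g * h, E' + F' + π ^ n • (E' * F'), ?_, ?_⟩
        · rw [hmul, hg, hh]
          simp only [add_mul, mul_add, one_mul, mul_one, smul_mul_assoc, mul_smul_comm, smul_add]
          abel
        · have hz : red (π ^ n • (E' * F')) = 0 := by
            ext i j
            show PadicInt.toZMod (π ^ n * (E' * F') i j) = 0
            rw [map_mul, map_pow, show PadicInt.toZMod π = 0 by simp [π], zero_pow (by omega), zero_mul]
          rw [map_add, map_add, hz, add_zero]
      have hsmul : ∀ (c : ZMod p) E, P E → P (c • E) := by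
        intro c E hE
        rw [← ZMod.natCast_zmod_val c, Nat.cast_smul_eq_nsmul]
        induction c.val with
        | zero => simpa using h0
        | succ m ih => rw [succ_nsmul]; exact hadd _ _ ih hE
      have hconj : ∀ (U : GL (Fin 2) (ZMod p)) E, P E →
          P ((U : Matrix (Fin 2) (Fin 2) (ZMod p)) * E * ((U⁻¹ : GL (Fin 2) (ZMod p)) : Matrix (Fin 2) (Fin 2) (ZMod p))) := by
        rintro U E ⟨g, E', hg, rfl⟩
        obtain ⟨u, hu⟩ := hmod U
        refine ⟨u * g * u⁻¹, Φ u * E' * Φ u⁻¹, ?_, ?_⟩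
        · have : Φ u * Φ u⁻¹ = 1 := by simp [Φ]
          rw [hmul, hmul, hg, mul_add, mul_one, add_mul, this, mul_smul_comm, smul_mul_assoc]
        · rw [map_mul, map_mul, hu]
          have hinv : red (Φ u⁻¹) * (U : Matrix (Fin 2) (Fin 2) (ZMod p)) = 1 := by
            rw [← hu, ← map_mul, ← hmul, inv_mul_cancel]
            simp [Φ]
          exact congrArg (_ * ·) (left_inv_eq_right_inv hinv U.mul_inv)
      have h11 : P !![1, 0; 0, 0] := by
        obtain ⟨g, a, b, c, d, ha, hg⟩ := hdiag n hn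
        have hP : P !![PadicInt.toZMod a, 0; 0, 0] := by
          refine ⟨g, !![a, π * b; π * c, π * d], hg.trans ?_, ?_⟩
          · ext i j
            fin_cases i <;> fin_cases j <;> simp [pow_succ, π] <;> ring
          · ext i j
            fin_cases i <;> fin_cases j <;> simp [red, π]
        have ha0 : PadicInt.toZMod a ≠ 0 := fun h => ha <| by
          rwa [← RingHom.mem_ker, PadicInt.ker_toZMod, PadicInt.maximalIdeal_eq_span_p,
            Ideal.mem_span_singleton] at h
        have := hsmul (PadicInt.toZMod a)⁻¹ _ hP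
        simpa [ha0] using this
      let mk : ∀ (A B : Matrix (Fin 2) (Fin 2) (ZMod p)), A * B = 1 → GL (Fin 2) (ZMod p) := fun A B h =>
        ⟨A, B, h, mul_eq_one_comm.mp h⟩
      have h12 : P !![0, 1; 0, 0] := by
        have h := hadd _ _ (hconj (mk !![1, -1; 0, 1] !![1, 1; 0, 1] (by ext i j; fin_cases i <;> fin_cases j <;> simp)) _ h11)
          (hsmul (-1) _ h11)
        simpa [mk] using h
      have h21 : P !![0, 0; 1, 0] := by
        have h := hadd _ _ (hconj (mk !![1, 0; 1, 1] !![1, 0; -1, 1] (by ext i j; fin_cases i <;> fin_cases j <;> simp)) _ h11)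
          (hsmul (-1) _ h11)
        simpa [mk] using h
      have h22 : P !![0, 0; 0, 1] := by
        have h := hconj (mk !![0, 1; 1, 0] !![0, 1; 1, 0] (by ext i j; fin_cases i <;> fin_cases j <;> simp)) _ h11
        convert h using 1
        ext i j
        fin_cases i <;> fin_cases j <;> simp [mk]
      intro E
      have := hadd _ _ (hadd _ _ (hsmul (E 0 0) _ h11) (hsmul (E 0 1) _ h12))
        (hadd _ _ (hsmul (E 1 0) _ h21) (hsmul (E 1 1) _ h22))
      simpa [← Matrix.eta_fin_two] using this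
    -- successive approximation
    have happ : ∀ n, ∀ A : GL (Fin 2) ℤ_[p], ∃ g E, Φ g = (A : Matrix (Fin 2) (Fin 2) ℤ_[p]) + π ^ (n + 1) • E := by
      intro n
      induction n with
      | zero =>
        intro A
        obtain ⟨g, hg⟩ := hmod (Matrix.GeneralLinearGroup.map (n := Fin 2) (PadicInt.toZMod (p := p)) A)
        obtain ⟨D, hD⟩ := hred' (Φ g) A hg
        exact ⟨g, D, by rw [pow_one]; exact hD⟩
      | succ n ih =>
        intro A
        obtain ⟨g, E, hg⟩ := ih A
        obtain ⟨h, E'', hh, hE⟩ := hall (n + 1) (by omega) (red (-(Φ g⁻¹ * E)))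
        obtain ⟨D, hD⟩ := hred' E'' _ hE
        refine ⟨g * h, Φ g * D, ?_⟩
        have hgi : Φ g * Φ g⁻¹ = 1 := by simp [Φ]
        rw [hmul, hh, hD, mul_add, mul_one, mul_smul_comm, mul_add, mul_neg, ← mul_assoc, hgi, one_mul,
          smul_add, smul_neg, mul_smul_comm, smul_smul, ← pow_succ, hg]
        abel
    intro A
    have hcl : IsClosed (Set.range Φ) := (isCompact_range hϕ).isClosed
    have hmem : (A : Matrix (Fin 2) (Fin 2) ℤ_[p]) ∈ closure (Set.range Φ) := by
      choose g E hg using fun n => happ n A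
      refine mem_closure_of_tendsto (f := fun n => Φ (g n)) (b := Filter.atTop) ?_ (Filter.Eventually.of_forall fun n => ⟨g n, rfl⟩)
      refine tendsto_pi_nhds.mpr fun i => tendsto_pi_nhds.mpr fun j => ?_
      rw [tendsto_iff_norm_sub_tendsto_zero]
      refine squeeze_zero (fun n => norm_nonneg _) (fun n => ?_)
        ((tendsto_pow_atTop_nhds_zero_of_lt_one (inv_nonneg.mpr (Nat.cast_nonneg p))
          (inv_lt_one_of_one_lt₀ (show (1 : ℝ) < p by exact_mod_cast (Fact.out : p.Prime).one_lt))))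
      simp only [hg, Matrix.add_apply, add_sub_cancel_left, Matrix.smul_apply, smul_eq_mul, norm_mul, norm_pow]
      calc ‖π‖ ^ (n + 1) * ‖E n i j‖ ≤ ‖π‖ ^ (n + 1) * 1 := by
            gcongr; exact PadicInt.norm_le_one _
        _ ≤ ((p : ℝ)⁻¹) ^ n := by
            rw [mul_one, PadicInt.norm_p, pow_succ]
            exact mul_le_of_le_one_right (by positivity)
              (inv_le_one_of_one_le₀ (by exact_mod_cast (Fact.out : p.Prime).one_le))
    rw [hcl.closure_eq] at hmem
    obtain ⟨g, hg⟩ := hmem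
    exact ⟨g, Units.ext hg⟩

end Groth.Agent.S15360
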