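import Groth.Statements.S15361
import Mathlib.FieldTheory.Finite.GaloisField
import Mathlib.FieldTheory.Finite.Basic
import Mathlib.RingTheory.Norm.Defs
import Mathlib.LinearAlgebra.Matrix.CharP
import Mathlib.LinearAlgebra.Matrix.GeneralLinearGroup.Defs
import Mathlib.LinearAlgebra.Matrix.ToLinearEquiv
import Mathlib.GroupTheory.Perm.Cycle.Type
import Mathlib.RingTheory.Nilpotent.Basic
import Mathlib.Tactic.LinearCombination

set_option autoImplicit false
open GalCoh

open Matrix

namespace Groth.Agent.S15361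

/-- The determinant of a field of matrices of order `p ^ 2` takes every value. -/
theorem exists_det (p : ℕ) [Fact p.Prime] (E : Subring (Matrix (Fin 2) (Fin 2) (ZMod p))) (hcard : Nat.card E = p ^ 2)
    (hdet : ∀ e ∈ E, e ≠ 0 → e.det ≠ 0) (d : ZMod p) (hd : d ≠ 0) : ∃ e ∈ E, e.det = d := by
  classical
  have hp := (Fact.out : p.Prime)
  rcases hp.eq_two_or_odd with h2 | h2
  · refine ⟨1, one_mem E, ?_⟩
    subst h2
    rw [Matrix.det_one]
    fin_cases d
    · exact absurd rfl hd
    · rfl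
  have hne2 : p ≠ 2 := fun h => by omega
  have h2ne : (2 : ZMod p) ≠ 0 := fun h => hne2
    (by
      have := (ZMod.natCast_eq_zero_iff 2 p).1 (by exact_mod_cast h)
      exact (Nat.prime_dvd_prime_iff_eq hp Nat.prime_two).1 this)
  have hsmul : ∀ (x : ZMod p), ∀ e ∈ E, x • e ∈ E := fun x e he => by
    rw [← ZMod.natCast_zmod_val x, Nat.cast_smul_eq_nsmul]
    exact nsmul_mem he _
  obtain ⟨θ, hθ, hθ0, hθtr⟩ : ∃ θ ∈ E, θ ≠ 0 ∧ θ 0 0 + θ 1 1 = 0 := by
    by_contra! h
    have hall : ∀ e ∈ E, e = (e.trace / 2) • (1 : Matrix (Fin 2) (Fin 2) (ZMod p)) := fun e he => by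
      have hmem : e - (e.trace / 2) • 1 ∈ E := E.sub_mem he (hsmul _ 1 E.one_mem)
      by_contra hne
      apply h _ hmem (sub_ne_zero.2 hne)
      simp [Matrix.trace_fin_two]
      field_simp
      ring
    have hle : Nat.card E ≤ Nat.card (ZMod p) :=
      Nat.card_le_card_of_injective (fun e : E => (e : Matrix (Fin 2) (Fin 2) (ZMod p)).trace / 2) fun x y hxy => by
        apply Subtype.ext
        rw [hall x x.2, hall y y.2]
        exact congrArg (· • (1 : Matrix (Fin 2) (Fin 2) (ZMod p))) hxy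
    rw [hcard, Nat.card_zmod] at hle
    have := hp.two_le
    nlinarith
  have hn0 := hdet θ hθ hθ0
  have hf : (Polynomial.X ^ 2 : Polynomial (ZMod p)).degree = 2 := Polynomial.degree_X_pow 2
  have hg : (Polynomial.C θ.det * Polynomial.X ^ 2 - Polynomial.C d).degree = 2 := by
    rw [Polynomial.degree_sub_eq_left_of_degree_lt] <;> rw [Polynomial.degree_C_mul_X_pow _ hn0]
    · rfl
    · exact lt_of_le_of_lt Polynomial.degree_C_le (by norm_num)
  obtain ⟨x, y, hxy⟩ := FiniteField.exists_root_sum_quadratic hf hg (by rw [ZMod.card]; exact Nat.odd_iff.1 (Nat.odd_iff.2 h2))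
  refine ⟨x • 1 + y • θ, E.add_mem (hsmul _ 1 E.one_mem) (hsmul _ θ hθ), ?_⟩
  simp at hxy
  simp [Matrix.det_fin_two] at hxy ⊢
  linear_combination hxy + (x * y) * hθtr

/-- Let p be a prime and H a subgroup of GL₂(𝔽_p). Then H = GL₂(𝔽_p) if and only if (i) some non-split
Cartan subgroup lies in H, i.e. some subgroup C ≤ H such that C ∪ {0} is a subfield of the matrix
algebra M₂(𝔽_p) with p² elements, and (ii) p divides the order of H. -/
theorem result (p : ℕ) [Fact p.Prime]
    (H : Subgroup (GL (Fin 2) (ZMod p))) :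
    H = ⊤ ↔
      (∃ (C : Subgroup (GL (Fin 2) (ZMod p))) (E : Subring (Matrix (Fin 2) (Fin 2) (ZMod p))),
          C ≤ H ∧ IsField E ∧ Nat.card E = p ^ 2 ∧
            (E : Set (Matrix (Fin 2) (Fin 2) (ZMod p))) =
              insert 0 ((fun g : GL (Fin 2) (ZMod p) => (g : Matrix (Fin 2) (Fin 2) (ZMod p))) ''
                (C : Set (GL (Fin 2) (ZMod p))))) ∧
        p ∣ Nat.card H := by
  classical
  let G := GL (Fin 2) (ZMod p)
  have hp := (Fact.out : p.Prime)
  let U : ZMod p → G := fun b => Matrix.GeneralLinearGroup.mkOfDetNeZero !![1, b; 0, 1] (by simp [Matrix.det_fin_two])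
  let L : ZMod p → G := fun b => Matrix.GeneralLinearGroup.mkOfDetNeZero !![1, 0; b, 1] (by simp [Matrix.det_fin_two])
  have hU : ∀ b, (U b : Matrix (Fin 2) (Fin 2) (ZMod p)) = !![1, b; 0, 1] := fun b => rfl
  have hL : ∀ b, (L b : Matrix (Fin 2) (Fin 2) (ZMod p)) = !![1, 0; b, 1] := fun b => rfl
  have hUadd : ∀ b c, U b * U c = U (b + c) := fun b c => Units.ext (by
    rw [Units.val_mul, hU, hU, hU, Matrix.mul_fin_two]; simp [add_comm])
  have hLadd : ∀ b c, L b * L c = L (b + c) := fun b c => Units.ext (by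
    rw [Units.val_mul, hL, hL, hL, Matrix.mul_fin_two]; simp)
  have hU0 : U 0 = 1 := Units.ext (by rw [hU, Units.val_one, Matrix.one_fin_two])
  have hL0 : L 0 = 1 := Units.ext (by rw [hL, Units.val_one, Matrix.one_fin_two])
  have hUn : ∀ (b : ZMod p) (n : ℕ), U b ^ n = U (n * b) := fun b n => by
    induction n with
    | zero => simp [hU0]
    | succ n ih => rw [pow_succ, ih, hUadd]; push_cast; ring_nf
  have hLn : ∀ (b : ZMod p) (n : ℕ), L b ^ n = L (n * b) := fun b n => by
    induction n with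
    | zero => simp [hL0]
    | succ n ih => rw [pow_succ, ih, hLadd]; push_cast; ring_nf
  constructor
  · rintro rfl
    refine ⟨?_, ?_⟩
    · let F := GaloisField p 2
      let b : Module.Basis (Fin 2) (ZMod p) F := Module.finBasisOfFinrankEq (ZMod p) F (GaloisField.finrank p (by norm_num))
      let f := Algebra.leftMulMatrix b
      have hf : Function.Injective f := Algebra.leftMulMatrix_injective b
      refine ⟨(Units.map f.toRingHom.toMonoidHom).range, f.toRingHom.range, le_top, ?_, ?_, ?_⟩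
      · exact MulEquiv.isField (Field.toIsField F) (RingEquiv.ofBijective f.toRingHom.rangeRestrict
          ⟨fun x y h => hf (congrArg Subtype.val h), f.toRingHom.rangeRestrict_surjective⟩).symm.toMulEquiv
      · rw [← Nat.card_congr (RingEquiv.ofBijective f.toRingHom.rangeRestrict
          ⟨fun x y h => hf (congrArg Subtype.val h), f.toRingHom.rangeRestrict_surjective⟩).toEquiv]
        exact GaloisField.card p 2 (by norm_num)
      · ext M
        simp only [RingHom.coe_range, Set.mem_range, Set.mem_insert_iff, Set.mem_image, SetLike.mem_coe, MonoidHom.mem_range]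
        constructor
        · rintro ⟨x, rfl⟩
          by_cases hx : x = 0
          · exact Or.inl (by rw [hx, map_zero])
          · exact Or.inr ⟨Units.map f.toRingHom.toMonoidHom (Units.mk0 x hx), ⟨_, rfl⟩, rfl⟩
        · rintro (rfl | ⟨g, ⟨u, rfl⟩, rfl⟩)
          · exact ⟨0, map_zero _⟩
          · exact ⟨u, rfl⟩
    · have h1 : orderOf (U 1) = p := by
        refine orderOf_eq_prime ?_ ?_
        · rw [hUn, ZMod.natCast_self, zero_mul, hU0]
        · intro h
          have := congrArg (fun g : G => (g : Matrix (Fin 2) (Fin 2) (ZMod p)) 0 1) h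
          simp [hU, Units.val_one] at this
      rw [Subgroup.card_top]
      exact (dvd_of_eq h1.symm).trans (orderOf_dvd_natCard _)
  rintro ⟨⟨C, E, hCH, hE, hcard, hset⟩, hdvd⟩
  -- elements of `E`
  have hCE : ∀ e ∈ E, e ≠ 0 → ∃ c ∈ C, (c : Matrix (Fin 2) (Fin 2) (ZMod p)) = e := fun e he he0 => by
    have : e ∈ (E : Set (Matrix (Fin 2) (Fin 2) (ZMod p))) := he
    rw [hset] at this
    rcases this with h | ⟨c, hc, h⟩
    · exact absurd h he0
    · exact ⟨c, hc, h⟩
  have htrans : ∀ v w : Fin 2 → ZMod p, v ≠ 0 → w ≠ 0 → ∃ c ∈ C, (c : Matrix (Fin 2) (Fin 2) (ZMod p)) *ᵥ v = w := by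
    intro v w hv hw
    haveI : Finite E := Finite.of_injective Subtype.val Subtype.val_injective
    let φ : E → (Fin 2 → ZMod p) := fun e => (e : Matrix (Fin 2) (Fin 2) (ZMod p)) *ᵥ v
    have hφ : Function.Injective φ := fun x y h => by
      by_contra hne
      obtain ⟨c, -, hc⟩ := hCE _ (x - y).2 (fun h0 => hne (sub_eq_zero.1 (Subtype.ext h0)))
      have h0 : (c : Matrix (Fin 2) (Fin 2) (ZMod p)) *ᵥ v = 0 := by
        rw [hc, AddSubgroupClass.coe_sub, Matrix.sub_mulVec, sub_eq_zero]; exact h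
      apply hv
      have := congrArg (fun z => ((c⁻¹ : G) : Matrix (Fin 2) (Fin 2) (ZMod p)) *ᵥ z) h0
      simpa [Matrix.mulVec_mulVec, ← Units.val_mul] using this
    have hcard' : Nat.card E = Nat.card (Fin 2 → ZMod p) := by rw [hcard, Nat.card_fun, Nat.card_fin, Nat.card_zmod]
    obtain ⟨e, he⟩ := ((Nat.bijective_iff_injective_and_card φ).2 ⟨hφ, hcard'⟩).2 w
    obtain ⟨c, hc, hce⟩ := hCE _ e.2 (fun h0 => hw (by rw [← he]; simp [φ, h0]))
    exact ⟨c, hc, by rw [hce]; exact he⟩
  -- an element of order `p`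
  haveI : Finite H := Finite.of_injective Subtype.val Subtype.val_injective
  obtain ⟨t, ht⟩ := exists_prime_orderOf_dvd_card' p hdvd
  have ht' : orderOf (t : G) = p := by rw [Subgroup.orderOf_coe, ht]
  have htp : (t : G) ^ p = 1 := by
    have h := pow_orderOf_eq_one (t : G)
    rwa [ht'] at h
  obtain ⟨v, hv, htv⟩ : ∃ v, v ≠ 0 ∧ ((t : G) : Matrix (Fin 2) (Fin 2) (ZMod p)) *ᵥ v = v := by
    set T := ((t : G) : Matrix (Fin 2) (Fin 2) (ZMod p))
    have h0 : (T - 1) ^ p = 0 := by
      rw [sub_pow_char_of_commute p (Commute.one_right T), one_pow, ← Units.val_pow_eq_pow_val, htp,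
        Units.val_one, sub_self]
    have hdet : (T - 1).det = 0 := by
      have := congrArg Matrix.det h0
      rw [Matrix.det_pow, Matrix.det_zero] at this
      exact pow_eq_zero_iff hp.ne_zero |>.1 this
    obtain ⟨v, hv, h⟩ := Matrix.exists_mulVec_eq_zero_iff.2 hdet
    rw [Matrix.sub_mulVec, Matrix.one_mulVec, sub_eq_zero] at h
    exact ⟨v, hv, h⟩
  have hstab : ∀ w, w ≠ 0 → ∃ s ∈ H, s ≠ 1 ∧ s ^ p = 1 ∧ ((s : G) : Matrix (Fin 2) (Fin 2) (ZMod p)) *ᵥ w = w := by
    intro w hw
    obtain ⟨c, hc, hcv⟩ := htrans v w hv hw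
    refine ⟨c * t * c⁻¹, H.mul_mem (H.mul_mem (hCH hc) t.2) (H.inv_mem (hCH hc)), ?_, ?_, ?_⟩
    · intro h
      have : (t : G) = 1 := by
        calc (t : G) = c⁻¹ * (c * t * c⁻¹) * c := by group
          _ = 1 := by rw [h]; group
      rw [this, orderOf_one] at ht'
      exact hp.one_lt.ne ht'
    · rw [conj_pow, htp, mul_one, mul_inv_cancel]
    · rw [← hcv, Units.val_mul, Units.val_mul, ← Matrix.mulVec_mulVec, ← Matrix.mulVec_mulVec,
        Matrix.mulVec_mulVec v _ (c : Matrix (Fin 2) (Fin 2) (ZMod p)), ← Units.val_mul, inv_mul_cancel, Units.val_one, Matrix.one_mulVec, htv]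
  have hUH : ∀ b, U b ∈ H := by
    obtain ⟨s, hsH, hs1, hsp, hsw⟩ := hstab (Pi.single 0 1) (fun h => by simpa using congrFun h 0)
    set S := (s : Matrix (Fin 2) (Fin 2) (ZMod p)) with hSdef
    have h00 : S 0 0 = 1 := by simpa using congrFun hsw 0
    have h10 : S 1 0 = 0 := by simpa using congrFun hsw 1
    have hd : S 1 1 = 1 := by
      have := congrArg Matrix.det (congrArg (fun g : G => (g : Matrix (Fin 2) (Fin 2) (ZMod p))) hsp)
      simp only [Units.val_pow_eq_pow_val, Matrix.det_pow, Units.val_one, Matrix.det_one] at this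
      rw [ZMod.pow_card, Matrix.det_fin_two, ← hSdef, h00, h10] at this
      simpa using this
    have hsU : s = U (S 0 1) := Units.ext (by
      rw [hU, ← hSdef, S.eta_fin_two, h00, h10, hd]; simp)
    have hb0 : S 0 1 ≠ 0 := fun h => hs1 (by rw [hsU, h, hU0])
    intro b
    have : U b = U (S 0 1) ^ (b / S 0 1).val := by
      rw [hUn, ZMod.natCast_val, ZMod.cast_id, div_mul_cancel₀ _ hb0]
    rw [this, ← hsU]
    exact H.pow_mem hsH _
  have hLH : ∀ b, L b ∈ H := by
    obtain ⟨s, hsH, hs1, hsp, hsw⟩ := hstab (Pi.single 1 1) (fun h => by simpa using congrFun h 1)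
    set S := (s : Matrix (Fin 2) (Fin 2) (ZMod p)) with hSdef
    have h01 : S 0 1 = 0 := by simpa using congrFun hsw 0
    have h11 : S 1 1 = 1 := by simpa using congrFun hsw 1
    have hd : S 0 0 = 1 := by
      have := congrArg Matrix.det (congrArg (fun g : G => (g : Matrix (Fin 2) (Fin 2) (ZMod p))) hsp)
      simp only [Units.val_pow_eq_pow_val, Matrix.det_pow, Units.val_one, Matrix.det_one] at this
      rw [ZMod.pow_card, Matrix.det_fin_two, ← hSdef, h01, h11] at this
      simpa using this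
    have hsL : s = L (S 1 0) := Units.ext (by
      rw [hL, ← hSdef, S.eta_fin_two, h01, h11, hd]; simp)
    have hb0 : S 1 0 ≠ 0 := fun h => hs1 (by rw [hsL, h, hL0])
    intro b
    have : L b = L (S 1 0) ^ (b / S 1 0).val := by
      rw [hLn, ZMod.natCast_val, ZMod.cast_id, div_mul_cancel₀ _ hb0]
    rw [this, ← hsL]
    exact H.pow_mem hsH _
  have hSL' : ∀ m : G, (m : Matrix (Fin 2) (Fin 2) (ZMod p)).det = 1 → (m : Matrix (Fin 2) (Fin 2) (ZMod p)) 1 0 ≠ 0 → m ∈ H := by
    intro m hm hc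
    set M := (m : Matrix (Fin 2) (Fin 2) (ZMod p)) with hMdef
    have heq : m = U ((M 0 0 - 1) / M 1 0) * L (M 1 0) * U ((M 1 1 - 1) / M 1 0) := Units.ext (by
      rw [Units.val_mul, Units.val_mul, hU, hU, hL, Matrix.mul_fin_two, Matrix.mul_fin_two, ← hMdef]
      rw [Matrix.det_fin_two] at hm
      ext i j
      fin_cases i <;> fin_cases j <;> simp <;> field_simp <;> ring_nf
      linear_combination -hm)
    rw [heq]
    exact H.mul_mem (H.mul_mem (hUH _) (hLH _)) (hUH _)
  have hSL : ∀ m : G, (m : Matrix (Fin 2) (Fin 2) (ZMod p)).det = 1 → m ∈ H := by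
    intro m hm
    set M := (m : Matrix (Fin 2) (Fin 2) (ZMod p)) with hMdef
    by_cases hc : M 1 0 = 0
    · have hM11 : M 1 1 ≠ 0 := fun h => by rw [Matrix.det_fin_two, hc, h] at hm; simp at hm
      have hmL : m * L 1 ∈ H := hSL' _ (by rw [Units.val_mul, Matrix.det_mul, ← hMdef, hm, hL, Matrix.det_fin_two]; simp)
        (by rw [Units.val_mul, hL, ← hMdef, Matrix.mul_apply, Fin.sum_univ_two]; simp [hc, hM11])
      have := H.mul_mem hmL (H.inv_mem (hLH 1))
      rwa [mul_inv_cancel_right] at this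
    · exact hSL' m hm hc
  rw [eq_top_iff]
  intro g _
  obtain ⟨e, he, hed⟩ := exists_det p E hcard (fun e he he0 => by
    obtain ⟨c, -, hc⟩ := hCE e he he0
    rw [← hc]; exact c.det.ne_zero) (g : Matrix (Fin 2) (Fin 2) (ZMod p)).det g.det.ne_zero
  obtain ⟨c, hc, hce⟩ := hCE e he (fun h => g.det.ne_zero (by rw [Matrix.GeneralLinearGroup.val_det_apply, ← hed, h, Matrix.det_zero]))
  have hm : ((c⁻¹ * g : G) : Matrix (Fin 2) (Fin 2) (ZMod p)).det = 1 := by
    have h1 : ((c⁻¹ : G) : Matrix (Fin 2) (Fin 2) (ZMod p)).det * (c : Matrix (Fin 2) (Fin 2) (ZMod p)).det = 1 := by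
      rw [← Matrix.det_mul, ← Units.val_mul, inv_mul_cancel, Units.val_one, Matrix.det_one]
    rw [hce, hed] at h1
    rw [Units.val_mul, Matrix.det_mul, h1]
  have := H.mul_mem (hCH hc) (hSL _ hm)
  rwa [mul_inv_cancel_left] at this

end Groth.Agent.S15361
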