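import Groth.Statements.S15362
import Groth.Agent.FrobFix.Basic
import Mathlib.RingTheory.IntegralClosure.IsIntegralClosure.Basic
import Mathlib.LinearAlgebra.Finsupp.LinearCombination
import Mathlib.RingTheory.Finiteness.Basic

set_option autoImplicit false
universe u v w
open CAlg Groth.Agent

namespace Groth.Agent.S15362

/-- For an algebraically closed field L of characteristic p > 0, a commutative L-algebra R integral over
L, and a finitely presented R-module M carrying an additive endomorphism φ with φ(r·m) = r^p·φ(m)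
for r ∈ R, m ∈ M, the map m ↦ φ(m) − m is onto. (R is taken of exponential characteristic p so that
its Frobenius is a ring endomorphism; for a non-zero L-algebra this is automatic.) -/
theorem result (p : ℕ) [Fact p.Prime]
    (L : Type u) [Field L] [IsAlgClosed L] [CharP L p]
    (R : Type v) [CommRing R] [Algebra L R] [Algebra.IsIntegral L R] [ExpChar R p]
    (M : Type w) [AddCommGroup M] [Module R M] [Module.FinitePresentation R M]
    (φ : M →ₛₗ[frobenius R p] M) :
    Function.Surjective fun m : M => φ m - m := by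
  classical
  intro m
  obtain ⟨n, e, he⟩ := Module.Finite.exists_fin (R := R) (M := M)
  have hrep : ∀ x : M, ∃ c : Fin n → R, ∑ j, c j • e j = x := fun x =>
    (Submodule.mem_span_range_iff_exists_fun R).mp (he.symm ▸ Submodule.mem_top)
  choose A hA using fun i => hrep (φ (e i))
  obtain ⟨t, ht⟩ := hrep m
  let s : Set R := (Set.range fun ij : Fin n × Fin n => A ij.1 ij.2) ∪ Set.range t
  let R₀ := Algebra.adjoin L s
  haveI : Module.Finite L R₀ := Module.Finite.iff_fg.mpr
    (fg_adjoin_of_finite ((Set.finite_range _).union (Set.finite_range _)) fun x _ => Algebra.IsIntegral.isIntegral x)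
  let A₀ : Fin n → Fin n → R₀ := fun i j => ⟨A i j, Algebra.subset_adjoin (Or.inl ⟨(i, j), rfl⟩)⟩
  let t₀ : Fin n → R₀ := fun j => ⟨t j, Algebra.subset_adjoin (Or.inr ⟨j, rfl⟩)⟩
  let F : (Fin n → R₀) →+ (Fin n → R₀) :=
    { toFun := fun v j => ∑ i, v i ^ p * A₀ i j
      map_zero' := funext fun j => by simp [zero_pow (Fact.out : p.Prime).ne_zero]
      map_add' := fun v w => funext fun j => Subtype.ext (by
        simp [add_pow_expChar, add_mul, Finset.sum_add_distrib]) }
  have hF : ∀ (c : L) (v : Fin n → R₀), F (c • v) = c ^ p • F v := fun c v => funext fun j => by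
    show ∑ i, (c • v i) ^ p * A₀ i j = c ^ p • ∑ i, v i ^ p * A₀ i j
    rw [Finset.smul_sum]
    exact Finset.sum_congr rfl fun i _ => by rw [smul_pow, smul_mul_assoc]
  obtain ⟨v, hv⟩ := (FrobFix.main p F hF).1 t₀
  refine ⟨∑ i, (v i : R) • e i, ?_⟩
  show φ (∑ i, (v i : R) • e i) - ∑ i, (v i : R) • e i = m
  rw [map_sum, ← ht]
  simp only [LinearMap.map_smulₛₗ, frobenius_def, ← hA, Finset.smul_sum, smul_smul]
  rw [Finset.sum_comm, ← Finset.sum_sub_distrib]
  refine Finset.sum_congr rfl fun j _ => ?_
  rw [← Finset.sum_smul, ← sub_smul]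
  congr 1
  have := congrArg (fun x : R₀ => (x : R)) (congrFun hv j)
  simpa [F, A₀, t₀] using this

end Groth.Agent.S15362
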