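import Groth.Statements.S15363
import Mathlib

set_option autoImplicit false
universe u
open CategoryTheory AlgebraicGeometry
open SekSuwa

set_option backward.isDefEq.respectTransparency false
namespace Groth.Agent.S15363

/-- Let R be an integral domain, p a prime and λ ∈ R a non-zero element with λ^p dividing (1 + λX)^p −
1, so that the congruence group scheme G_λ = Spec R[T]/(P_λ(T)) of level λ and its homomorphism θ_λ
: G_λ → μ_p, X ↦ 1 + λT, are defined. For every scheme G flat over Spec R, composition with θ_λ is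
injective on R-morphisms G → G_λ; in particular θ_λ induces an injective map from the homomorphisms
G → G_λ of a flat R-group scheme G to its homomorphisms G → μ_p. (The published statement is over
the ring of integers of an algebraic closure of a complete discretely valued field of mixed
characteristic, for finite flat commutative group schemes killed by p; the published argument, that
θ_λ is an isomorphism on the generic fibre and G is flat, gives the form stated here.) -/
theorem result (R : Type u) [CommRing R] [IsDomain R]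
    (p : ℕ) [Fact p.Prime] (lam : R) (h : SekSuwa.DivCond lam p)
    (G : Over (Spec (CommRingCat.of R))) [Flat G.hom]
    (f g : G ⟶ SekSuwa.GK R lam p h)
    (hfg : f ≫ SekSuwa.alphaN R lam p h = g ≫ SekSuwa.alphaN R lam p h) : f = g := by
  apply Over.OverMorphism.ext
  refine Scheme.Cover.hom_ext (G.left.affineCover) _ _ fun i ↦ ?_
  obtain ⟨φ, hφ⟩ := Spec.map_surjective (G.left.affineCover.f i ≫ f.left)
  obtain ⟨ψ, hψ⟩ := Spec.map_surjective (G.left.affineCover.f i ≫ g.left)
  suffices φ = ψ by rw [← hφ, ← hψ, this]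
  set j := G.left.affineCover.f i
  obtain ⟨s, hs⟩ := Spec.map_surjective (j ≫ G.hom)
  have hfs : CommRingCat.ofHom (algebraMap R (SekSuwa.AK R lam p h)) ≫ φ = s := by
    apply Spec.map_injective
    rw [Spec.map_comp, hφ, hs, Category.assoc]
    congr 1
    exact Over.w f
  have hgs : CommRingCat.ofHom (algebraMap R (SekSuwa.AK R lam p h)) ≫ ψ = s := by
    apply Spec.map_injective
    rw [Spec.map_comp, hψ, hs, Category.assoc]
    congr 1
    exact Over.w g
  have hal : CommRingCat.ofHom (SekSuwa.alphaNHom R lam p h : MonoidAlgebra R (Multiplicative (ZMod p)) →+* SekSuwa.AK R lam p h) ≫ φ =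
      CommRingCat.ofHom (SekSuwa.alphaNHom R lam p h : MonoidAlgebra R (Multiplicative (ZMod p)) →+* SekSuwa.AK R lam p h) ≫ ψ := by
    apply Spec.map_injective
    rw [Spec.map_comp, Spec.map_comp, hφ, hψ, Category.assoc, Category.assoc]
    congr 1
    have := congrArg (fun v ↦ v.left) hfg
    exact this
  have hflat : Flat (Spec.map s) := by rw [hs]; infer_instance
  rw [HasRingHomProperty.Spec_iff (P := @Flat)] at hflat
  have hlam : lam ≠ 0 := nonZeroDivisors.ne_zero h.nzd
  algebraize [s.hom]
  have : Module.Flat R _ := hflat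
  have hf' : ∀ r, φ.hom (algebraMap R _ r) = s.hom r := fun r ↦ congr($(hfs).hom r)
  have hg' : ∀ r, ψ.hom (algebraMap R _ r) = s.hom r := fun r ↦ congr($(hgs).hom r)
  let φ' : SekSuwa.AK R lam p h →ₐ[R] _ := { φ.hom with commutes' := hf' }
  let ψ' : SekSuwa.AK R lam p h →ₐ[R] _ := { ψ.hom with commutes' := hg' }
  have hu : φ' (1 + lam • SekSuwa.AK.t) = ψ' (1 + lam • SekSuwa.AK.t) := by
    have := congr($(hal).hom (MonoidAlgebra.single (Multiplicative.ofAdd (1 : ZMod p)) 1))
    rw [← SekSuwa.alphaNHom_single_one R lam p h]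
    exact this
  have ht : φ' SekSuwa.AK.t = ψ' SekSuwa.AK.t := by
    have e := hu
    simp only [map_add, map_one, map_smul, add_right_inj] at e
    exact (Module.Flat.isSMulRegular_of_nonZeroDivisors (M := type_of% (φ' SekSuwa.AK.t)) (mem_nonZeroDivisors_of_ne_zero hlam)) e
  have hinv : φ' SekSuwa.AK.inv = ψ' SekSuwa.AK.inv := by
    have e1 : ∀ χ : SekSuwa.AK R lam p h →ₐ[R] type_of% (φ' SekSuwa.AK.t), χ (1 + lam • SekSuwa.AK.t) * χ SekSuwa.AK.inv = 1 := fun χ ↦ by
      rw [← map_mul, ← SekSuwa.AK.mkHom_u]
      show χ (SekSuwa.AK.mkHom R lam p h SekSuwa.A.u * SekSuwa.AK.mkHom R lam p h SekSuwa.A.inv) = 1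
      rw [← map_mul, SekSuwa.A.u_mul_inv, map_one, map_one]
    have e2 : φ' SekSuwa.AK.inv * (φ' (1 + lam • SekSuwa.AK.t)) = 1 := (mul_comm _ _).trans (e1 φ')
    rw [hu] at e2
    exact left_inv_eq_right_inv e2 (e1 ψ')
  ext x
  exact DFunLike.congr_fun (SekSuwa.AK.algHom_ext ht hinv) x

end Groth.Agent.S15363
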