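import Groth.Statements.S15364
import Groth.Agent.Rigid.Smooth

set_option autoImplicit false
universe u
open CategoryTheory CategoryTheory.Limits MonoidalCategory CartesianMonoidalCategory AlgebraicGeometry
open AbSch

namespace Groth.Agent.S15364

/-- For an abelian scheme f : A → T (a commutative T-group scheme, proper and smooth over T with
geometrically connected fibres) and a commutative group scheme H finite and locally free over T, the
adjunction map H → f_* f^* H of fppf sheaves on T is an isomorphism, i.e. for every T-scheme U the
map H(U) → H(A ×_T U), s ↦ s ∘ pr, is bijective. This row states the case U = T, to which the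
general case reduces by base change: composition with the structure morphism A → T is a bijection
from the sections of H over T onto the T-morphisms A → H. The group structure of H plays no role and
is not assumed. (The published statement has an arbitrary base T; the published argument rests on
the rigidity lemma in its form for Noetherian schemes, so T is taken locally Noetherian here.) -/
theorem result {T : Scheme.{u}} [IsLocallyNoetherian T]
    (A : Over T) [GrpObj A] [IsCommMonObj A] [IsProper A.hom] [Smooth A.hom] [GeometricallyConnected A.hom]
    (H : Over T) [IsFinite H.hom] [Flat H.hom] [LocallyOfFinitePresentation H.hom] :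
    Function.Bijective fun s : (𝟙_ (Over T) ⟶ H) => toUnit A ≫ s := by

  haveI : Surjective A.hom := inferInstance
  haveI : LocallyOfFinitePresentation A.hom := inferInstance
  haveI : Flat A.hom := inferInstance
  refine ⟨fun s s' e => ?_, fun d => ?_⟩
  · have e' := congrArg (fun m => (MonObj.one : 𝟙_ (Over T) ⟶ A) ≫ m) e
    simp only [← Category.assoc, toUnit_unique ((MonObj.one : 𝟙_ (Over T) ⟶ A) ≫ toUnit A) (𝟙 _), Category.id_comp] at e'
    exact e'
  · obtain ⟨k, hk⟩ := Groth.Agent.Rigid.exists_eq_toUnit_of_quasiFinite
      (Groth.Agent.Rigid.goodFibres_of_smooth A.hom) Groth.Agent.Rigid.isPreconnected_fibre d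
    exact ⟨k, hk.symm⟩


end Groth.Agent.S15364
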