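import Groth.Statements.S15365
import Mathlib.RingTheory.Etale.Basic
import Mathlib.RingTheory.FinitePresentation
import Mathlib.LinearAlgebra.Matrix.NonsingularInverse
import Mathlib.LinearAlgebra.Matrix.ToLinearEquiv
import Mathlib.Algebra.DualNumber
import Mathlib.Algebra.CharP.Lemmas
import Mathlib.RingTheory.Ideal.Quotient.Operations
import Mathlib.Algebra.CharP.Basic

set_option autoImplicit false
universe u
open scoped BigOperators
open CAlg

namespace Groth.Agent.S15365

/-- Let A be a commutative ring of characteristic p > 0 and (h_{ij})_{1 ≤ i,j ≤ n} a square matrix over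
A, the matrix of a commutative p-Lie algebra (L, φ) with L free with basis e_1, …, e_n and φ(e_j) =
Σ_i h_{ij} e_i. The associated finite group scheme Spec A[X_1, …, X_n]/(X_j^p − Σ_i h_{ij} X_i)_{1 ≤
j ≤ n} is étale over A if and only if the matrix (h_{ij}) is invertible, i.e. its determinant is a
unit of A. Only the algebra structure enters this assertion. -/
theorem result (p : ℕ) [Fact p.Prime]
    (A : Type u) [CommRing A] [CharP A p] (n : ℕ) (h : Matrix (Fin n) (Fin n) A) :
    Algebra.Etale A (MvPolynomial (Fin n) A ⧸ Ideal.span (Set.range fun j : Fin n =>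
        (MvPolynomial.X j : MvPolynomial (Fin n) A) ^ p -
          ∑ i : Fin n, MvPolynomial.C (h i j) * MvPolynomial.X i)) ↔
      IsUnit h.det := by
  classical
  let F : Fin n → MvPolynomial (Fin n) A := fun j => (MvPolynomial.X j : MvPolynomial (Fin n) A) ^ p -
    ∑ i : Fin n, MvPolynomial.C (h i j) * MvPolynomial.X i
  let J := Ideal.span (Set.range F)
  let B := MvPolynomial (Fin n) A ⧸ J
  have hp : p.Prime := Fact.out
  -- algebra maps out of B
  have lift : ∀ {T : Type u} [CommRing T] [Algebra A T] (x : Fin n → T),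
      (∀ j, x j ^ p = ∑ i, algebraMap A T (h i j) * x i) → ∃ φ : B →ₐ[A] T, ∀ i, φ (Ideal.Quotient.mk _ (MvPolynomial.X i)) = x i := by
    intro T _ _ x hx
    refine ⟨Ideal.Quotient.liftₐ J (MvPolynomial.aeval x) fun y hy => ?_, fun i => MvPolynomial.aeval_X x i⟩
    refine (Ideal.span_le.mpr ?_ : J ≤ RingHom.ker (MvPolynomial.aeval (R := A) x).toRingHom) hy
    rintro _ ⟨j, rfl⟩
    show MvPolynomial.aeval x (F j) = 0
    simp [F, hx j]
  have rel : ∀ {T : Type u} [CommRing T] [Algebra A T] (φ : B →ₐ[A] T) (j : Fin n),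
      φ (Ideal.Quotient.mk _ (MvPolynomial.X j)) ^ p = ∑ i, algebraMap A T (h i j) * φ (Ideal.Quotient.mk _ (MvPolynomial.X i)) := by
    intro T _ _ φ j
    have h0 : (Ideal.Quotient.mk J) (F j) = 0 := Ideal.Quotient.eq_zero_iff_mem.mpr (Ideal.subset_span ⟨j, rfl⟩)
    have h1 := congrArg φ h0
    simp only [F, map_sub, map_sum, map_mul, map_pow, map_zero, sub_eq_zero] at h1
    refine h1.trans (Finset.sum_congr rfl fun i _ => ?_)
    congr 1
    rw [← MvPolynomial.algebraMap_eq, Ideal.Quotient.mk_algebraMap, AlgHom.commutes]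
  have hext : ∀ {T : Type u} [CommRing T] [Algebra A T] (φ ψ : B →ₐ[A] T),
      (∀ i, φ (Ideal.Quotient.mk _ (MvPolynomial.X i)) = ψ (Ideal.Quotient.mk _ (MvPolynomial.X i))) → φ = ψ :=
    fun φ ψ hφ => Ideal.Quotient.algHom_ext A (MvPolynomial.algHom_ext hφ)
  show Algebra.Etale A B ↔ IsUnit h.det
  constructor
  · intro het
    rw [← not_not (a := IsUnit h.det)]
    intro hu
    obtain ⟨m, hm, hdet⟩ := exists_max_ideal_of_mem_nonunits (show h.det ∈ nonunits A from hu)
    let k := A ⧸ m
    let _ : Field k := Ideal.Quotient.field m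
    have hdk : (h.map (Ideal.Quotient.mk m)).det = 0 := by
      rw [← RingHom.mapMatrix_apply, ← RingHom.map_det]; exact Ideal.Quotient.eq_zero_iff_mem.mpr hdet
    obtain ⟨v, hv, hvh⟩ := Matrix.exists_vecMul_eq_zero_iff.mpr hdk
    let T := DualNumber k
    have hT : ∀ (c : A) (y : k), algebraMap A T c * TrivSqZeroExt.inr y = TrivSqZeroExt.inr (Ideal.Quotient.mk m c * y) := fun c y => by
      rw [← Algebra.smul_def, ← TrivSqZeroExt.inr_smul, Algebra.smul_def]; rfl
    obtain ⟨φ₁, hφ₁⟩ := lift (T := T) (fun i => TrivSqZeroExt.inr (v i)) fun j => by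
      rw [show ∑ i, algebraMap A T (h i j) * TrivSqZeroExt.inr (v i) = 0 by
        simp only [hT]
        rw [← TrivSqZeroExt.inr_sum, show ∑ i, Ideal.Quotient.mk m (h i j) * v i = 0 from (Finset.sum_congr rfl fun i _ => mul_comm _ _).trans (congrFun hvh j), TrivSqZeroExt.inr_zero]]
      exact pow_eq_zero_of_le hp.two_le (by rw [pow_two, TrivSqZeroExt.inr_mul_inr])
    obtain ⟨φ₂, hφ₂⟩ := lift (T := T) 0 fun j => by simp [zero_pow hp.ne_zero]
    let I : Ideal T := RingHom.ker (TrivSqZeroExt.fstHom A k k).toRingHom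
    have hI : I ^ 2 = ⊥ := by
      rw [eq_bot_iff, pow_two, Ideal.mul_le]
      intro x hx y hy
      rw [Ideal.mem_bot]
      have hx0 : TrivSqZeroExt.fst x = 0 := hx
      have hy0 : TrivSqZeroExt.fst y = 0 := hy
      exact TrivSqZeroExt.ext ((TrivSqZeroExt.fst_mul x y).trans (by rw [hx0, zero_mul]; rfl))
        ((TrivSqZeroExt.snd_mul x y).trans (by rw [hx0, hy0]; simp))
    have hc : (Ideal.Quotient.mkₐ A I).comp φ₁ = (Ideal.Quotient.mkₐ A I).comp φ₂ := by
      refine Ideal.Quotient.algHom_ext A (MvPolynomial.algHom_ext fun i => ?_)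
      show Ideal.Quotient.mk I (φ₁ (Ideal.Quotient.mk J (MvPolynomial.X i))) = Ideal.Quotient.mk I (φ₂ (Ideal.Quotient.mk J (MvPolynomial.X i)))
      rw [hφ₁, hφ₂]
      exact Ideal.Quotient.eq.mpr (by show (TrivSqZeroExt.fstHom A k k) _ = 0; simp)
    have heq : φ₁ = φ₂ := (Algebra.FormallyEtale.comp_bijective A B I hI).injective hc
    refine hv (funext fun i => ?_)
    have h2 := congrArg (fun φ : B →ₐ[A] T => φ (Ideal.Quotient.mk _ (MvPolynomial.X i))) heq
    simp only [hφ₁, hφ₂] at h2
    simpa using congrArg TrivSqZeroExt.snd h2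
  · intro hu
    have : Algebra.FinitePresentation A B := Algebra.FinitePresentation.quotient (Submodule.fg_span (Set.finite_range F))
    refine ⟨Algebra.FormallyEtale.iff_comp_bijective.mpr fun T _ _ I hI => ?_, inferInstance⟩
    have hp0 : (p : T) = 0 := by rw [← map_natCast (algebraMap A T), CharP.cast_eq_zero, map_zero]
    have hsq : ∀ x ∈ I, ∀ y ∈ I, x * y = 0 := fun x hx y hy => by
      rw [← Ideal.mem_bot, ← hI, pow_two]; exact Ideal.mul_mem_mul hx hy
    have hadd : ∀ x y : T, y ∈ I → (x + y) ^ p = x ^ p := fun x y hy => by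
      rcases subsingleton_or_nontrivial T with hT | hT
      · exact Subsingleton.elim _ _
      have : CharP T p := (CharP.charP_iff_prime_eq_zero hp).mpr hp0
      rw [add_pow_char, (pow_eq_zero_of_le hp.two_le (by rw [pow_two]; exact hsq y hy y hy) : y ^ p = 0), add_zero]
    let H := (h.map (algebraMap A T)).transpose
    have hH : IsUnit H.det := by
      rw [Matrix.det_transpose, ← RingHom.mapMatrix_apply, ← RingHom.map_det]; exact hu.map _
    refine ⟨fun φ ψ hφψ => hext _ _ fun i => ?_, fun g => ?_⟩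
    · let δ : Fin n → T := fun i => φ (Ideal.Quotient.mk _ (MvPolynomial.X i)) - ψ (Ideal.Quotient.mk _ (MvPolynomial.X i))
      have hδ : ∀ i, δ i ∈ I := fun i => Ideal.Quotient.eq.mp (AlgHom.congr_fun hφψ (Ideal.Quotient.mk _ (MvPolynomial.X i)))
      have hz : H.mulVec δ = 0 := funext fun j => by
        have h1 := rel φ j
        have h2 := rel ψ j
        have h3 : (φ (Ideal.Quotient.mk _ (MvPolynomial.X j))) ^ p = (ψ (Ideal.Quotient.mk _ (MvPolynomial.X j))) ^ p := by
          rw [← hadd (ψ (Ideal.Quotient.mk _ (MvPolynomial.X j))) _ (hδ j)]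
          simp [δ]
        rw [h1, h2, ← sub_eq_zero, ← Finset.sum_sub_distrib] at h3
        simpa [H, Matrix.mulVec, dotProduct, δ, mul_sub] using h3
      have := congrArg (H⁻¹).mulVec hz
      rw [Matrix.mulVec_mulVec, Matrix.nonsing_inv_mul _ hH, Matrix.one_mulVec, Matrix.mulVec_zero] at this
      exact sub_eq_zero.mp (congrFun this i)
    · choose x hx using fun i => Ideal.Quotient.mk_surjective (g (Ideal.Quotient.mk _ (MvPolynomial.X i)))
      let e : Fin n → T := fun j => x j ^ p - ∑ i, algebraMap A T (h i j) * x i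
      have he : ∀ j, e j ∈ I := fun j => by
        rw [← Ideal.Quotient.eq_zero_iff_mem]
        simp only [e, map_sub, map_pow, map_sum, map_mul, hx, Ideal.Quotient.mk_algebraMap]
        rw [rel g j, sub_self]
      let δ := (H⁻¹).mulVec e
      have hδ : ∀ i, δ i ∈ I := fun i => show ∑ j, H⁻¹ i j * e j ∈ I from I.sum_mem fun j _ => I.mul_mem_left _ (he j)
      have hHδ : H.mulVec δ = e := by rw [Matrix.mulVec_mulVec, Matrix.mul_nonsing_inv _ hH, Matrix.one_mulVec]
      obtain ⟨φ, hφ⟩ := lift (T := T) (fun i => x i + δ i) fun j => by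
        have h4 : ∑ i, algebraMap A T (h i j) * δ i = e j := congrFun hHδ j
        rw [hadd _ _ (hδ j)]
        simp only [mul_add, Finset.sum_add_distrib, h4]
        simp [e]
      refine ⟨φ, hext _ _ fun i => ?_⟩
      show Ideal.Quotient.mk I (φ _) = _
      rw [hφ, map_add, Ideal.Quotient.eq_zero_iff_mem.mpr (hδ i), add_zero, hx]

end Groth.Agent.S15365
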