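import Groth.Statements.S15366
import Groth.Agent.PseudoComplete.Unramified

set_option linter.style.haveILetI false

set_option autoImplicit false
universe u
open CAlg

namespace Groth.Agent.S15366

/-- Let k be an algebraically closed field of characteristic p > 0, R = k[[t₁, t₂]], and O = R_{(t₁)}
the local ring of Spec R at the generic point x of the divisor t₁ = 0 (a discrete valuation ring,
with uniformizer t₁ and residue field k((t₂))). Then O embeds, by an injective local k-algebra map
φ, into some complete discrete valuation ring A containing k whose residue field is algebraically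
closed and in which φ(t₁) is still a uniformizer. The prime ideal (t₁) is passed as an ideal P equal
to it together with its primality. -/
theorem result
    (p : ℕ) [Fact p.Prime] (k : Type u) [Field k] [IsAlgClosed k] [CharP k p]
    (P : Ideal (MvPowerSeries (Fin 2) k))
    (hP : P = Ideal.span {(MvPowerSeries.X 0 : MvPowerSeries (Fin 2) k)}) [P.IsPrime] :
    ∃ (A : Type u) (_ : CommRing A) (_ : IsDomain A) (_ : IsDiscreteValuationRing A) (_ : Algebra k A)
      (φ : Localization.AtPrime P →ₐ[k] A),
      IsAdicComplete (IsLocalRing.maximalIdeal A) A ∧ IsAlgClosed (IsLocalRing.ResidueField A) ∧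
        Function.Injective φ ∧ IsLocalHom φ.toRingHom ∧
          Irreducible (φ (algebraMap (MvPowerSeries (Fin 2) k) (Localization.AtPrime P)
            (MvPowerSeries.X 0))) := by
  subst hP
  have hX : (MvPowerSeries.X 0 : MvPowerSeries (Fin 2) k) ≠ 0 := fun h => by
    have := congrArg (MvPowerSeries.coeff (Finsupp.single 0 1)) h
    rw [MvPowerSeries.coeff_index_single_self_X, map_zero] at this
    exact one_ne_zero this
  let P : Ideal (MvPowerSeries (Fin 2) k) := Ideal.span {(MvPowerSeries.X 0 : MvPowerSeries (Fin 2) k)}
  let W := Localization.AtPrime P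
  haveI : IsDomain (MvPowerSeries (Fin 2) k) := NoZeroDivisors.to_isDomain _
  haveI : IsNoetherianRing W := IsLocalization.isNoetherianRing P.primeCompl _ inferInstance
  let x : W := algebraMap (MvPowerSeries (Fin 2) k) W (MvPowerSeries.X 0)
  have hmax : IsLocalRing.maximalIdeal W = Ideal.span {x} := by
    rw [← IsLocalization.AtPrime.map_eq_maximalIdeal P W, Ideal.map_span, Set.image_singleton]
  have hx0 : x ≠ 0 := (map_ne_zero_iff _ (IsLocalization.injective W P.primeCompl_le_nonZeroDivisors)).2 hX
  haveI : IsDomain W := IsLocalization.isDomain_of_le_nonZeroDivisors _ P.primeCompl_le_nonZeroDivisors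
  obtain ⟨_, hdvr⟩ := GeomPts.isDomain_and_isDiscreteValuationRing hmax (IsRegular.of_ne_zero hx0).isSMulRegular
  obtain ⟨A, _, _, _, ι, hloc, hcpl, ε, hinj, hmap, hε⟩ :=
    PseudoComplete.exists_complete_dvr_unramified W (AlgebraicClosure (IsLocalRing.ResidueField W))
  letI : Algebra k A := (ι.comp (algebraMap k W)).toAlgebra
  let φ : W →ₐ[k] A := { ι with commutes' := fun a => rfl }
  haveI : IsAlgClosed (IsLocalRing.ResidueField A) := IsAlgClosed.of_ringEquiv _ _ ε.symm
  have hirr : Irreducible (ι x) := by
    rw [IsDiscreteValuationRing.irreducible_iff_uniformizer, ← hmap, hmax, Ideal.map_span, Set.image_singleton]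
  refine ⟨A, inferInstance, inferInstance, inferInstance, inferInstance, φ, hcpl, inferInstance, hinj, hloc, hirr⟩

end Groth.Agent.S15366
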