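import Groth.Statements.S15367
import Groth.Agent.MuDVR.Basic

set_option autoImplicit false
universe u v
open TensorProduct
open CAlg Groth.Agent

namespace Groth.Agent.S15367

/-- Let R be a discrete valuation ring with uniformizer π and residue field k, n ≥ 0, and M₀ a finitely
generated module over R/πⁿR, viewed as an R-module killed by πⁿ; put M₀* = Hom_R(M₀, R/πⁿR). Then
dim_k(M₀*/πM₀*) = dim_k(M₀/πM₀). The published lemma is stated for a finitely presented module over
the quotient of the ring of integers of an algebraic closure of K by the elements of valuation ≥ t,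
with its dual into that quotient ring, and the published proof reduces it by descent to exactly this
statement over the valuation ring of a finite extension of K; the row states that step. -/
theorem result
    (R : Type u) [CommRing R] [IsDomain R] [IsDiscreteValuationRing R] (ϖ : R) (hϖ : Irreducible ϖ) (n : ℕ)
    (M : Type v) [AddCommGroup M] [Module R M] [Module.Finite R M] (hM : ∀ m : M, ϖ ^ n • m = 0) :
    Module.finrank (IsLocalRing.ResidueField R)
        (IsLocalRing.ResidueField R ⊗[R] (M →ₗ[R] (R ⧸ Ideal.span {ϖ ^ n}))) =
      Module.finrank (IsLocalRing.ResidueField R) (IsLocalRing.ResidueField R ⊗[R] M) := by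
  let κ := IsLocalRing.ResidueField R
  let C := R ⧸ Ideal.span {ϖ ^ n}
  let m := Module.finrank κ (κ ⊗[R] M)
  obtain ⟨f, hf⟩ := MuDVR.exists_surjective (R := R) (M := M)
  let L : (M →ₗ[R] C) →ₗ[R] (Fin m → C) := LinearMap.pi fun i => LinearMap.applyₗ (f (Pi.single i 1))
  have hL : Function.Injective L := by
    intro φ ψ h
    refine LinearMap.ext fun x => ?_
    obtain ⟨v, rfl⟩ := hf x
    rw [pi_eq_sum_univ' v, map_sum, map_sum, map_sum]
    exact Finset.sum_congr rfl fun i _ => by
      rw [map_smul, map_smul, map_smul, show φ (f (Pi.single i 1)) = ψ (f (Pi.single i 1)) from congrFun h i]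
  haveI : Module.Finite R (M →ₗ[R] C) := Module.Finite.of_injective L hL
  let red : (Fin m → R) →ₗ[R] (Fin m → C) := LinearMap.pi fun i => (Ideal.span {ϖ ^ n} : Submodule R R).mkQ ∘ₗ LinearMap.proj i
  have hred : Function.Surjective red := fun v => by
    choose w hw using fun i => Submodule.Quotient.mk_surjective _ (v i)
    exact ⟨w, funext hw⟩
  refine le_antisymm ((MuDVR.finrank_le_of_injective L hL).trans (MuDVR.finrank_le_of_surjective red hred)) ?_
  rcases Nat.eq_zero_or_pos n with rfl | hn
  · haveI : Subsingleton M := ⟨fun a b => by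
      have ha := hM a; have hb := hM b
      simp only [pow_zero, one_smul] at ha hb
      rw [ha, hb]⟩
    have h0 : ∀ z : κ ⊗[R] M, z = 0 := fun z => by
      induction z with
      | zero => rfl
      | tmul a x => rw [Subsingleton.elim x 0, TensorProduct.tmul_zero]
      | add a b ha hb => rw [ha, hb, add_zero]
    haveI : Subsingleton (κ ⊗[R] M) := ⟨fun a b => (h0 a).trans (h0 b).symm⟩
    rw [Module.finrank_zero_of_subsingleton]
    exact Nat.zero_le _
  let π0 : R →ₗ[R] C := (Ideal.span {ϖ ^ n} : Submodule R R).mkQ
  let ι0 : R →ₗ[R] C := π0 ∘ₗ LinearMap.toSpanSingleton R R (ϖ ^ (n - 1))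
  have hker : LinearMap.ker ι0 = IsLocalRing.maximalIdeal R := by
    ext r
    rw [LinearMap.mem_ker, LinearMap.comp_apply, LinearMap.toSpanSingleton_apply, smul_eq_mul, Submodule.mkQ_apply,
      Submodule.Quotient.mk_eq_zero, Ideal.mem_span_singleton, (IsDiscreteValuationRing.irreducible_iff_uniformizer ϖ).1 hϖ,
      Ideal.mem_span_singleton]
    nth_rewrite 1 [show ϖ ^ n = ϖ * ϖ ^ (n - 1) by rw [← pow_succ']; congr 1; omega]
    exact mul_dvd_mul_iff_right (pow_ne_zero _ hϖ.ne_zero)
  let ι : κ →ₗ[R] C := Submodule.liftQ (IsLocalRing.maximalIdeal R) ι0 hker.ge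
  have hι : Function.Injective ι := LinearMap.ker_eq_bot.1 (Submodule.ker_liftQ_eq_bot _ _ _ hker.le)
  let b := Module.finBasis κ (κ ⊗[R] M)
  let c : M →ₗ[R] (Fin m → κ) := (b.equivFun.toLinearMap.restrictScalars R) ∘ₗ TensorProduct.mk R κ M 1
  have hc : Function.Surjective c := b.equivFun.surjective.comp (TensorProduct.mk_surjective R M κ Ideal.Quotient.mk_surjective)
  let V := Fin m → κ
  let E : V →ₗ[R] (M →ₗ[R] C) :=
    { toFun := fun v => ι ∘ₗ ((Fintype.linearCombination κ v).restrictScalars R) ∘ₗ c
      map_add' := fun v w => by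
        refine LinearMap.ext fun x => ?_
        simp only [LinearMap.comp_apply, LinearMap.restrictScalars_apply, LinearMap.add_apply, map_add]
        rw [← map_add]
        simp [Fintype.linearCombination_apply, Finset.sum_add_distrib]
        rw [← Finset.sum_add_distrib]
        exact Finset.sum_congr rfl fun i _ => by rw [← map_add]; exact congrArg ι (mul_add _ _ _)
      map_smul' := fun r v => by
        refine LinearMap.ext fun x => ?_
        simp only [LinearMap.comp_apply, LinearMap.restrictScalars_apply, Fintype.linearCombination_apply, RingHom.id_apply,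
          LinearMap.smul_apply, Pi.smul_apply, ← map_smul, Finset.smul_sum, smul_comm r]
        rfl }
  have hE : Function.Injective E := by
    intro v w h
    funext i
    obtain ⟨x, hx⟩ := hc (Pi.single i 1)
    have := hι (LinearMap.congr_fun h x)
    simpa [hx, Fintype.linearCombination_apply, Pi.single_apply] using this
  refine le_trans ?_ (MuDVR.finrank_le_of_injective E hE)
  have h := LinearMap.finrank_le_finrank_of_surjective (f := (LinearMap.id (R := R) (M := V)).liftBaseChange κ)
    fun v => ⟨(1 : κ) ⊗ₜ[R] v, by simp⟩
  rwa [Module.finrank_pi, Fintype.card_fin] at h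

end Groth.Agent.S15367
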