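import Groth.Statements.S1537
import Groth.Agent.SepBC.Closed


set_option autoImplicit false
universe u
open CategoryTheory CategoryTheory.Limits AlgebraicGeometry
open Variety

set_option backward.isDefEq.respectTransparency false
namespace Groth.Agent.S1537

/-- A connected k-scheme is geometrically connected as soon as it has a point whose residue field
contains no element integral over k other than the elements of k. -/
theorem result (k : Type u) [Field k] (X : Scheme.{u}) [X.Over (Spec (CommRingCat.of k))] [ConnectedSpace X]
    (x : X) (hx : ∀ a : X.residueField x, (Curv2.resMap k X x).IsIntegralElem a → a ∈ (Curv2.resMap k X x).range) :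
    GeometricallyConnected (X ↘ (Spec (CommRingCat.of k))) := by
  have hk := Groth.Agent.SepBC.kStr_eq_resMap (X := X) (k := k) x
  letI := (Groth.Agent.WeilLib.kStr (X ↘ Spec (CommRingCat.of k)) x).toAlgebra
  refine Groth.Agent.SepBC.geometricallyConnected_of_point (x := x) _ (eq_bot_iff.2 fun a ha => ?_)
  have hint : IsIntegral k a := (mem_separableClosure_iff.1 ha).isIntegral
  change (Groth.Agent.WeilLib.kStr (X ↘ Spec (CommRingCat.of k)) x).IsIntegralElem a at hint
  rw [hk] at hint
  refine IntermediateField.mem_bot.2 ?_
  obtain ⟨c, hc⟩ := hx a hint
  exact ⟨c, by rw [RingHom.algebraMap_toAlgebra, hk]; exact hc⟩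

end Groth.Agent.S1537
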