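import Groth.Statements.S15376
import Groth.Agent.HodgeCI.Duality
import Groth.Agent.SGA6Ext.Lambda
import Groth.Agent.AmpleEmb.Closed
import Groth.Agent.DualGeneric.GlobalField
import Groth.Agent.SerrePn.Basic
import Groth.Agent.S14810
-- import your own Groth.Agent.* helpers here

set_option autoImplicit false
set_option backward.isDefEq.respectTransparency false
set_option backward.isDefEq.respectTransparency.types false
universe u
open CategoryTheory CategoryTheory.Limits AlgebraicGeometry
open Biell

namespace Groth.Agent.S15376

/-- Let k be an algebraically closed field and X a (quasi-)bielliptic surface over k, meaning here: X is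
an integral k-scheme, proper and smooth of relative dimension 2 over k and carrying an ample
invertible sheaf, whose canonical sheaf ω (a second exterior power of Ω_{X/k}) is numerically
trivial (degree 0 on every integral closed curve in X) and whose second ℓ-adic Betti number (the
rank of lim_ν H²(X_et, Z/ℓ^ν)) equals 2 for every prime ℓ invertible in k. Then the geometric genus
p_g(X) = dim_k H²(X, O_X) equals 1 if and only if ω ≅ O_X, i.e. ω has order 1 in Pic(X). (The
published statement is for bielliptic surfaces and has a third equivalent condition, non-reducedness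
of the identity component of the Picard scheme, which is not stated here; the equivalence of the two
conditions stated rests only on the numerical triviality of ω on an integral smooth projective
surface, so this row states it for quasi-bielliptic surfaces as well.) -/
theorem result (k : Type u) [Field k] [IsAlgClosed k] (X : Scheme.{u}) [X.Over (Spec (CommRingCat.of k))]
    [IsIntegral X] [IsProper (X ↘ Spec (CommRingCat.of k))] [SmoothOfRelativeDimension 2 (X ↘ Spec (CommRingCat.of k))]
    (hproj : ∃ H : X.Modules, CohB1.IsAmple H)
    (ω : X.Modules) (hω : Canon.IsTopDiff (X ↘ Spec (CommRingCat.of k)) 2 ω) (hnum : Pic13.IsNumEquivZero k X ω)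
    (hb2 : ∀ ℓ : ℕ, ℓ.Prime → (ℓ : k) ≠ 0 → EtAdic.betti X ℓ 2 = 2) :
    Module.finrank k (Coh.HH X (Coh.structureModule X) 2) = 1 ↔ Nonempty (ω ≅ Coh.structureModule X) := by
  obtain ⟨H, hH⟩ := hproj
  obtain ⟨N, d, ι, -, hι, hιc, -⟩ := AmpleEmb.exists_closedImmersion_projSpace (X ↘ Spec (CommRingCat.of k)) hH
  haveI := hιc
  haveI := CurveRR.isNoetherian_of_proper k X
  have hωi : PicF.IsInvertible ω := ExtFund.isInvertible_top ι hι (L := ω) (n := 2) hω
  have hsym : Module.finrank k (Coh.HH X (Coh.structureModule X) 2) = Module.finrank k (Coh.HH X ω 0) :=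
    HodgeCI.finrank_forms_symm (n := 2) ι hι 0 2 (Nat.zero_le 2) le_rfl (SGA6Ext.isExtPow_zero _) hω
  have h0 : Module.finrank k (Coh.HH X (Coh.structureModule X) 0) = 1 := DualGeneric.h0_structure_connected k
  rw [hsym]
  refine ⟨fun h1 => ?_, fun ⟨e⟩ => (CohFinite.hhEquiv k e 0).finrank_eq.trans h0⟩
  obtain ⟨E⟩ := SerrePn.nonempty_homEquiv (A := k) (L := Coh.structureModule X) TMul.isInvertible_structureModule
    (TMul.leftUnitIso (Coh.structureModule X)) ω
  haveI : Nontrivial (Coh.HH X ω 0) := Module.nontrivial_of_finrank_eq_succ (n := 0) h1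
  haveI : Nontrivial (Coh.structureModule X ⟶ ω) :=
    (E.trans (CohFinite.hhEquiv k (TMul.commIso ω _ ≪≫ TMul.leftUnitIso ω) 0)).toEquiv.nontrivial
  obtain ⟨s, hs⟩ := exists_ne (0 : Coh.structureModule X ⟶ ω)
  exact Groth.Agent.S14810.result k X (DualGeneric.isField_gamma k) ω hωi hnum s hs

end Groth.Agent.S15376
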