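import Groth.Statements.S1540
import Groth.Agent.SepBC.Closed


set_option autoImplicit false
universe u
open CategoryTheory CategoryTheory.Limits AlgebraicGeometry
attribute [local instance] Curv2.resAlgebra Curv2.stalkAlgebra
open Variety

set_option backward.isDefEq.respectTransparency false
namespace Groth.Agent.S1540

/-- An irreducible scheme X over k with generic point ξ is geometrically irreducible if and only if the
separable algebraic closure of k in the residue field of ξ is k itself. -/
theorem result (k : Type u) [Field k] (X : Scheme.{u}) [X.Over (Spec (CommRingCat.of k))] [IrreducibleSpace X] :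
    GeometricallyIrreducible (X ↘ (Spec (CommRingCat.of k))) ↔
      ∀ a : X.residueField (genericPoint X), IsSeparable k a → a ∈ Set.range (algebraMap k (X.residueField (genericPoint X))) := by
  let ξ := genericPoint X
  have hA : (Groth.Agent.WeilLib.kStr (X ↘ Spec (CommRingCat.of k)) ξ).toAlgebra = Curv2.resAlgebra k X ξ := by
    rw [Groth.Agent.SepBC.kStr_eq_resMap]
  constructor
  · intro hGI a ha
    have h := Groth.Agent.SepBC.mem_range_of_geometricallyIrreducible (X ↘ Spec (CommRingCat.of k)) a (hA.symm ▸ ha)
    exact hA ▸ h
  · intro h
    refine Groth.Agent.SepBC.geometricallyIrreducible_of_generic _ ?_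
    show @separableClosure k (X.residueField ξ) _ _ (Groth.Agent.WeilLib.kStr _ ξ).toAlgebra = ⊥
    rw [hA]
    exact eq_bot_iff.2 fun a ha => IntermediateField.mem_bot.2 (h a (mem_separableClosure_iff.1 ha))

end Groth.Agent.S1540
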