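import Groth.Statements.S15402
import Groth.Agent.PicRoot.Main
import Groth.Agent.PicProp.Rank
-- import your own Groth.Agent.* helpers here

set_option autoImplicit false
set_option backward.isDefEq.respectTransparency false
universe u
open CategoryTheory CategoryTheory.Limits AlgebraicGeometry
open PicGrp

namespace Groth.Agent.S15402

/-- Let k be an algebraically closed field, X a proper k-scheme, ℓ a prime number which is nonzero in k,
and L an invertible O_X-module; assume the Picard group law on X. Call a class c of Pic(X)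
ℓ-divisible when for every n ≥ 1 it is an ℓ^n-th power. (a) If some power c^m, m ≥ 1, of the class c
of L is ℓ-divisible, then c lies in the subgroup of Pic(X) generated by the classes of invertible
modules τ-equivalent to zero (some positive tensor power algebraically equivalent to zero). (b)
Conversely, if moreover the structure map induces an isomorphism k ≅ H⁰(X, O_X) and c lies in that
subgroup, then some power c^m, m ≥ 1, is ℓ-divisible. (The published statement lists further
equivalent conditions through the ℓ-adic first Chern class, not stated here. The published statement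
proves (a) for X proper over an arbitrary field; here k is taken algebraically closed in both parts,
the setting of the τ-equivalence notion used.) -/
theorem result (k : Type u) [Field k] [IsAlgClosed k]
    (X : Scheme.{u}) [X.Over (Spec (CommRingCat.of k))] [IsProper (X ↘ Spec (CommRingCat.of k))]
    (ℓ : ℕ) (hℓ : ℓ.Prime) (hℓk : (ℓ : k) ≠ 0) (L : X.Modules) (hL : PicF.IsInvertible L) [PicGrp.Law X] :
    ((∃ m : ℕ, 0 < m ∧ ∀ n : ℕ, ∃ d : PicLoc.PicSet X, d ^ (ℓ ^ n) = PicGrp.cls L hL ^ m) →
        PicGrp.cls L hL ∈ PicGrp.subCl (Pic13.IsTauEquivZero k X)) ∧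
      (IsIso (X ↘ Spec (CommRingCat.of k)).appTop →
        PicGrp.cls L hL ∈ PicGrp.subCl (Pic13.IsTauEquivZero k X) →
          ∃ m : ℕ, 0 < m ∧ ∀ n : ℕ, ∃ d : PicLoc.PicSet X, d ^ (ℓ ^ n) = PicGrp.cls L hL ^ m) := by
  obtain rfl : (‹PicGrp.Law X› : PicGrp.Law X) = W7Cube.law X := Subsingleton.elim _ _
  letI := W7Cube.law X
  refine ⟨?_, ?_⟩
  · rintro ⟨m, hm, hdiv⟩
    refine PicGrp.cls_mem_subCl hL (PicProp.isTau_of_flat1 k (PicProp.flat1_of_deg1 k hL (funext fun ξ => ?_)))
    let d := PicProp.degHom k (X := X) (Additive.ofMul (PicGrp.cls L hL))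
    have h : ∀ n : ℕ, (ℓ ^ n : ℤ) ∣ (m : ℤ) * d ξ := fun n => by
      obtain ⟨e, he⟩ := hdiv n
      refine ⟨PicProp.degHom k (X := X) (Additive.ofMul e) ξ, ?_⟩
      have h' := congrArg (fun c => PicProp.degHom k (X := X) (Additive.ofMul c) ξ) he
      simp only [ofMul_pow, map_nsmul, Pi.smul_apply, nsmul_eq_mul, Nat.cast_pow] at h'
      exact h'.symm
    have h0 : (m : ℤ) * d ξ = 0 := by
      by_contra hne
      refine absurd (Int.natAbs_dvd_natAbs.2 (h ((m : ℤ) * d ξ).natAbs)) fun hd => ?_
      have h1 := Nat.le_of_dvd (Int.natAbs_pos.2 hne) hd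
      rw [Int.natAbs_pow, Int.natAbs_natCast] at h1
      exact absurd h1 (not_le.2 (Nat.lt_pow_self hℓ.one_lt))
    exact (mul_eq_zero.1 h0).resolve_left (by exact_mod_cast hm.ne')
  · intro _ hc
    let A := Over.mk (X ↘ Spec (CommRingCat.of k))
    haveI : IsProper A.hom := ‹_›
    letI := W7Cube.law A.left
    have key : ∀ c : PicLoc.PicSet X, c ∈ PicGrp.subCl (Pic13.IsTauEquivZero k X) →
        ∃ m : ℕ, 0 < m ∧ c ^ m ∈ PicRoot.algSub A := fun c hc => by
      induction hc using Subgroup.closure_induction with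
      | mem c h =>
        obtain ⟨M, hM, ⟨m, hm, hma⟩, rfl⟩ := h
        refine ⟨m, hm, ?_⟩
        rw [PicRoot.cls_pow]
        exact (PicRoot.algCl_iff (TMul.isInvertible_tensorPow hM m)).2 hma
      | one => exact ⟨1, Nat.one_pos, by rw [one_pow]; exact (PicRoot.algSub A).one_mem⟩
      | mul a b _ _ iha ihb =>
        obtain ⟨ma, ha, ha'⟩ := iha
        obtain ⟨mb, hb, hb'⟩ := ihb
        refine ⟨ma * mb, Nat.mul_pos ha hb, ?_⟩
        rw [mul_pow, pow_mul, mul_comm ma, pow_mul]
        exact (PicRoot.algSub A).mul_mem ((PicRoot.algSub A).pow_mem ha' _) ((PicRoot.algSub A).pow_mem hb' _)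
      | inv a _ iha =>
        obtain ⟨ma, ha, ha'⟩ := iha
        exact ⟨ma, ha, by rw [inv_pow]; exact (PicRoot.algSub A).inv_mem ha'⟩
    obtain ⟨m, hm, hcm⟩ := key _ hc
    refine ⟨m, hm, fun n => ?_⟩
    obtain ⟨e, -, he⟩ := (PicRoot.mem_powSub A).1 (PicRoot.mem_powSub_of_algCl A (n := ℓ ^ n)
      (by rw [Nat.cast_pow]; exact pow_ne_zero n hℓk) hcm)
    exact ⟨e, he⟩

end Groth.Agent.S15402
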