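import Groth.Statements.S15404
import Groth.Agent.PicUnion.Fibres
import Groth.Agent.PicUnion.Modules
import Groth.Agent.W7Cube.Pic

set_option backward.isDefEq.respectTransparency false
set_option backward.isDefEq.respectTransparency.types false
set_option linter.style.haveILetI false
set_option maxHeartbeats 1000000

set_option autoImplicit false
universe u
open CategoryTheory CategoryTheory.Limits AlgebraicGeometry
open PicGrp

namespace Groth.Agent.S15404

/-- Let π : X ⟶ B be quasi-compact and separated and let X be the union of the closed subschemes Y =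
V(I) and Z = V(J), I and J quasi-coherent ideals with I ∩ J = 0 (so that O_X → O_Y × O_Z is
injective with cokernel O_W, W = Y ∩ Z = V(I + J)); assume that W is flat, proper and of finite
presentation over B, that W → B has a section, and that the geometric fibres of W → B are reduced
and connected. Assume the Picard group laws on B, X, Y, Z, W and that pullback of invertible classes
along π, along the inclusions of Y, Z in X and of W in Y, Z, and along the structure maps of Y, Z, W
is multiplicative. Then the square of groups formed by Pic(X)/π^*Pic(B), Pic(Y)/Pic(B),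
Pic(Z)/Pic(B) and Pic(W)/Pic(B) under restriction is cartesian: (a) an invertible class on X whose
restrictions to Y and to Z are pulled back from B is itself pulled back from B; (b) for invertible
classes y on Y and z on Z whose restrictions to W agree up to a class pulled back from B, there is a
class on X whose restrictions to Y and Z are y and z up to classes pulled back from B. (The
published statement asserts this for the functor T ↦ Pic(X ×_B T)/Pic(T) on all B-schemes T and
assumes only that π is quasi-compact and separated, W flat over B with a section and geometrically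
reduced connected fibres; its proof uses that every global unit on W comes from B, through a lemma
on flat proper morphisms, and without properness the assertion fails — over a field, two affine
planes glued along the hyperbola ts = 1 have non-trivial Picard group — so W is taken proper and of
finite presentation over B here (finite presentation being automatic over a locally Noetherian
base), and only the value at T = B is stated.) -/
theorem result {X B : Scheme.{u}} (π : X ⟶ B)
    [QuasiCompact π] [IsSeparated π] (I J : X.IdealSheafData) (hIJ : I ⊓ J = ⊥)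
    [Flat ((I ⊔ J).subschemeι ≫ π)] [IsProper ((I ⊔ J).subschemeι ≫ π)]
    [LocallyOfFinitePresentation ((I ⊔ J).subschemeι ≫ π)]
    (s : B ⟶ (I ⊔ J).subscheme) (hs : s ≫ (I ⊔ J).subschemeι ≫ π = 𝟙 B)
    (hfib : ∀ (K : Type u) [Field K] [IsAlgClosed K] (g : Spec (CommRingCat.of K) ⟶ B),
      IsReduced (pullback ((I ⊔ J).subschemeι ≫ π) g) ∧ ConnectedSpace ↥(pullback ((I ⊔ J).subschemeι ≫ π) g))
    [PicGrp.Law B] [PicGrp.Law X] [PicGrp.Law I.subscheme] [PicGrp.Law J.subscheme] [PicGrp.Law (I ⊔ J).subscheme]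
    (hπ : PicGrp.PullMul π) (hY : PicGrp.PullMul I.subschemeι) (hZ : PicGrp.PullMul J.subschemeι)
    (hπY : PicGrp.PullMul (I.subschemeι ≫ π)) (hπZ : PicGrp.PullMul (J.subschemeι ≫ π))
    (hπW : PicGrp.PullMul ((I ⊔ J).subschemeι ≫ π))
    (hWY : PicGrp.PullMul (Scheme.IdealSheafData.inclusion (le_sup_left : I ≤ I ⊔ J)))
    (hWZ : PicGrp.PullMul (Scheme.IdealSheafData.inclusion (le_sup_right : J ≤ I ⊔ J))) :
    (∀ c : PicLoc.PicSet X,
        (∃ b₁ : PicLoc.PicSet B, PicGrp.pullHom I.subschemeι hY c = PicGrp.pullHom (I.subschemeι ≫ π) hπY b₁) →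
        (∃ b₂ : PicLoc.PicSet B, PicGrp.pullHom J.subschemeι hZ c = PicGrp.pullHom (J.subschemeι ≫ π) hπZ b₂) →
          ∃ b : PicLoc.PicSet B, c = PicGrp.pullHom π hπ b) ∧
      (∀ (y : PicLoc.PicSet I.subscheme) (z : PicLoc.PicSet J.subscheme),
        (∃ b : PicLoc.PicSet B,
            PicGrp.pullHom (Scheme.IdealSheafData.inclusion (le_sup_left : I ≤ I ⊔ J)) hWY y =
              PicGrp.pullHom (Scheme.IdealSheafData.inclusion (le_sup_right : J ≤ I ⊔ J)) hWZ z *
                PicGrp.pullHom ((I ⊔ J).subschemeι ≫ π) hπW b) →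
          ∃ (c : PicLoc.PicSet X) (b₁ b₂ : PicLoc.PicSet B),
            PicGrp.pullHom I.subschemeι hY c = y * PicGrp.pullHom (I.subschemeι ≫ π) hπY b₁ ∧
              PicGrp.pullHom J.subschemeι hZ c = z * PicGrp.pullHom (J.subschemeι ≫ π) hπZ b₂) := by
  let wπ := (I ⊔ J).subschemeι ≫ π
  have hg := Groth.Agent.PicUnion.goodFibres_of_algClosed wπ hfib
  have hbij := Groth.Agent.Rigid.bijective_appTop_of_section wπ hg s hs
  have hwa : Groth.Agent.PicUnion.aW I J ≫ I.subschemeι ≫ π = wπ := by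
    rw [← Category.assoc, Groth.Agent.PicUnion.aW_ι]
  have hwb : Groth.Agent.PicUnion.bW I J ≫ J.subschemeι ≫ π = wπ := by
    rw [← Category.assoc, Groth.Agent.PicUnion.bW_ι]
  have hlift : ∀ u : Γ((I ⊔ J).subscheme, ⊤), IsUnit u → ∃ v : Γ(J.subscheme, ⊤), IsUnit v ∧
      (Groth.Agent.PicUnion.bW I J).appTop.hom v = u := by
    intro u hu
    refine ⟨(J.subschemeι ≫ π).appTop.hom (s.appTop.hom u), (hu.map _).map _, ?_⟩
    obtain ⟨x, rfl⟩ := hbij.2 u
    have h1 : s.appTop.hom (wπ.appTop.hom x) = x := by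
      have e := congrArg (fun m => m.appTop.hom x) hs
      simpa [Scheme.Hom.comp_appTop, Scheme.Hom.id_appTop, wπ] using e
    change (Groth.Agent.PicUnion.bW I J).appTop.hom ((J.subschemeι ≫ π).appTop.hom (s.appTop.hom (wπ.appTop.hom x))) = wπ.appTop.hom x
    rw [h1]
    exact congrArg (fun m => m.appTop.hom x) hwb
  have pullCl_eq : ∀ {A C : Scheme.{u}} [PicGrp.Law A] [PicGrp.Law C] {f g : A ⟶ C} (hf : PicGrp.PullMul f)
      (hg : PicGrp.PullMul g), f = g → ∀ c, PicGrp.pullHom f hf c = PicGrp.pullHom g hg c := by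
    rintro A C _ _ f g hf hg rfl c
    rfl
  refine ⟨fun c ⟨b₁, h₁⟩ ⟨b₂, h₂⟩ => ?_, fun y z ⟨b, hb⟩ => ?_⟩
  · 
    have hab := Groth.Agent.W7Cube.pullMul (Groth.Agent.PicUnion.aW I J ≫ I.subschemeι ≫ π)
    have hbb := Groth.Agent.W7Cube.pullMul (Groth.Agent.PicUnion.bW I J ≫ J.subschemeι ≫ π)
    have hwι := Groth.Agent.W7Cube.pullMul (I ⊔ J).subschemeι
    have e₁ : PicGrp.pullHom wπ hπW b₁ = PicGrp.pullHom (I ⊔ J).subschemeι hwι c := by
      rw [← pullCl_eq hab hπW hwa b₁, PicGrp.pullHom_comp_apply _ _ hWY hπY hab, ← h₁,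
        ← PicGrp.pullHom_comp_apply _ _ hWY hY (Groth.Agent.W7Cube.pullMul _)]
      exact pullCl_eq _ _ (Groth.Agent.PicUnion.aW_ι I J) c
    have e₂ : PicGrp.pullHom wπ hπW b₂ = PicGrp.pullHom (I ⊔ J).subschemeι hwι c := by
      rw [← pullCl_eq hbb hπW hwb b₂, PicGrp.pullHom_comp_apply _ _ hWZ hπZ hbb, ← h₂,
        ← PicGrp.pullHom_comp_apply _ _ hWZ hZ (Groth.Agent.W7Cube.pullMul _)]
      exact pullCl_eq _ _ (Groth.Agent.PicUnion.bW_ι I J) c
    have hs1 : ∀ β : PicLoc.PicSet B, PicGrp.pullHom s (Groth.Agent.W7Cube.pullMul s) (PicGrp.pullHom wπ hπW β) = β := fun β => by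
      rw [← PicGrp.pullHom_comp_apply _ _ _ _ (Groth.Agent.W7Cube.pullMul _), pullCl_eq _ (PicGrp.pullMul_id B) hs]
      exact PicGrp.pullHom_id_apply _ β
    have hbb' : b₁ = b₂ := by rw [← hs1 b₁, e₁, ← e₂, hs1]
    subst hbb'
    refine ⟨b₁, mul_inv_eq_one.1 ?_⟩
    obtain ⟨L, hL, eL⟩ := PicGrp.exists_eq_cls (c * (PicGrp.pullHom π hπ b₁)⁻¹)
    have hY1 : PicGrp.pullHom I.subschemeι hY (c * (PicGrp.pullHom π hπ b₁)⁻¹) = 1 := by
      rw [map_mul, map_inv, h₁, PicGrp.pullHom_comp_apply _ _ hY hπ hπY, mul_inv_cancel]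
    have hZ1 : PicGrp.pullHom J.subschemeι hZ (c * (PicGrp.pullHom π hπ b₁)⁻¹) = 1 := by
      rw [map_mul, map_inv, h₂, PicGrp.pullHom_comp_apply _ _ hZ hπ hπZ, mul_inv_cancel]
    rw [eL, PicGrp.pullHom_cls, PicGrp.cls_eq_one_iff] at hY1 hZ1
    rw [eL, PicGrp.cls_eq_one_iff]
    exact Groth.Agent.PicUnion.nonempty_iso_structure hIJ hlift hL hY1.some hZ1.some
  · obtain ⟨LY, hLY, rfl⟩ := PicGrp.exists_eq_cls y
    obtain ⟨LZ, hLZ, eZ⟩ := PicGrp.exists_eq_cls (z * PicGrp.pullHom (J.subschemeι ≫ π) hπZ b)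
    have hbb := Groth.Agent.W7Cube.pullMul (Groth.Agent.PicUnion.bW I J ≫ J.subschemeι ≫ π)
    have e : PicGrp.pullHom _ hWY (PicGrp.cls LY hLY) = PicGrp.pullHom _ hWZ (PicGrp.cls LZ hLZ) := by
      rw [hb, ← eZ, map_mul, ← PicGrp.pullHom_comp_apply _ _ hWZ hπZ hbb, pullCl_eq hbb hπW hwb]
    rw [PicGrp.pullHom_cls, PicGrp.pullHom_cls, PicGrp.cls_eq_cls_iff] at e
    obtain ⟨L, hL, ⟨i⟩, ⟨j⟩⟩ := Groth.Agent.PicUnion.exists_invertible_glue hIJ hLY hLZ e.some
    refine ⟨PicGrp.cls L hL, 1, b, ?_, ?_⟩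
    · rw [PicGrp.pullHom_cls, map_one, mul_one, PicGrp.cls_eq_cls_iff]
      exact ⟨i⟩
    · rw [eZ, PicGrp.pullHom_cls, PicGrp.cls_eq_cls_iff]
      exact ⟨j⟩

end Groth.Agent.S15404
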