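import Groth.Statements.S15405
import Groth.Agent.KrullSch.Cyclic

set_option autoImplicit false
universe u
open CategoryTheory CategoryTheory.Limits AlgebraicGeometry
open ASBun
attribute [local instance] CategoryTheory.Abelian.hasFiniteBiproducts

namespace Groth.Agent.S15405

open W4c1astiltbs12 in
/-- Let X be proper over a field k, K an algebraic closure of k such that X_K is connected, and π : X_K
→ X the projection; assume the Picard group laws on X and on X_K and that pullback of invertible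
classes along π is multiplicative. Suppose that Pic(X_K) is infinite cyclic, generated by the class
of an invertible module L; that J is an invertible O_X-module with π^*J ≅ L^{⊗r} for some r ≥ 1; and
that there is an indecomposable finite locally free O_X-module (nonzero, and in any direct-sum
decomposition one summand is zero) whose pullback to X_K is isomorphic to L^{⊕d} for some d. Then:
(a) every indecomposable finite locally free O_X-module E whose pullback to X_K is a finite direct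
sum of invertible modules is isomorphic to M ⊗ J_a, where 0 ≤ j < r, M is an indecomposable finite
locally free O_X-module with π^*M ≅ (L^{⊗j})^{⊕d} for some d, a is an integer and J_a is an
invertible O_X-module whose class in Pic(X) is the a-th power of the class of J; (b) the integers a
and j in such an expression are determined by E. (The published statement takes r to be the least
such integer, the period, and leaves the connectedness of X_K implicit; the argument treats
invertible modules on X_K as indecomposable, whence that hypothesis, and does not use the minimality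
of r.) -/
theorem result (k : Type u) [Field k] {X : Scheme.{u}}
    (p : X ⟶ Spec (CommRingCat.of k)) [IsProper p] (K : Type u) [Field K] [Algebra k K] [IsAlgClosure k K]
    [ConnectedSpace ↥(W4bk4gw11416.baseChange p K)]
    [PicGrp.Law X] [PicGrp.Law (W4bk4gw11416.baseChange p K)] (hπ : PicGrp.PullMul (proj p K))
    (L : (W4bk4gw11416.baseChange p K).Modules) (hL : PicF.IsInvertible L)
    (e : PicLoc.PicSet (W4bk4gw11416.baseChange p K) ≃* Multiplicative ℤ)
    (he : e (PicGrp.cls L hL) = Multiplicative.ofAdd 1)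
    (r : ℕ) (hr : 1 ≤ r) (J : X.Modules) (hJ : PicF.IsInvertible J)
    (hJL : Nonempty (bcMod p K J ≅ CohB1.tensorPow L r))
    (hML : ∃ (M₁ : X.Modules) (d₁ : ℕ), FlatMod.IsFinLocFree M₁ ∧
      (¬ IsZero M₁ ∧ ∀ A B : X.Modules, Nonempty (M₁ ≅ A ⊞ B) → IsZero A ∨ IsZero B) ∧
      Nonempty (bcMod p K M₁ ≅ pow L d₁))
    (E : X.Modules) (hE : FlatMod.IsFinLocFree E)
    (hEi : (¬ IsZero E ∧ ∀ A B : X.Modules, Nonempty (E ≅ A ⊞ B) → IsZero A ∨ IsZero B))
    (n : ℕ) (Ls : Fin n → (W4bk4gw11416.baseChange p K).Modules) (hLs : ∀ i, PicF.IsInvertible (Ls i))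
    (hEs : Nonempty (bcMod p K E ≅ ∐ Ls)) :
    (∃ (a : ℤ) (j : ℕ), j < r ∧ ∃ (M : X.Modules) (d : ℕ) (Ja : X.Modules) (hJa : PicF.IsInvertible Ja),
      FlatMod.IsFinLocFree M ∧ (¬ IsZero M ∧ ∀ A B : X.Modules, Nonempty (M ≅ A ⊞ B) → IsZero A ∨ IsZero B) ∧
      Nonempty (bcMod p K M ≅ pow (CohB1.tensorPow L j) d) ∧
      PicGrp.cls Ja hJa = PicGrp.cls J hJ ^ a ∧ Nonempty (E ≅ CohB1.tensorMod M Ja)) ∧
    (∀ (a a' : ℤ) (j j' : ℕ) (M M' : X.Modules) (d d' : ℕ) (Ja Ja' : X.Modules)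
      (hJa : PicF.IsInvertible Ja) (hJa' : PicF.IsInvertible Ja'),
      j < r → j' < r →
      (¬ IsZero M ∧ ∀ A B : X.Modules, Nonempty (M ≅ A ⊞ B) → IsZero A ∨ IsZero B) → (¬ IsZero M' ∧ ∀ A B : X.Modules, Nonempty (M' ≅ A ⊞ B) → IsZero A ∨ IsZero B) →
      Nonempty (bcMod p K M ≅ pow (CohB1.tensorPow L j) d) → Nonempty (bcMod p K M' ≅ pow (CohB1.tensorPow L j') d') →
      PicGrp.cls Ja hJa = PicGrp.cls J hJ ^ a → PicGrp.cls Ja' hJa' = PicGrp.cls J hJ ^ a' →
      Nonempty (E ≅ CohB1.tensorMod M Ja) → Nonempty (E ≅ CohB1.tensorMod M' Ja') → a = a' ∧ j = j') := by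
  classical
  haveI : Algebra.IsAlgebraic k K := IsAlgClosure.isAlgebraic
  letI : X.Over (Spec (CommRingCat.of k)) := ⟨p⟩
  haveI : IsProper (X ↘ Spec (CommRingCat.of k)) := inferInstanceAs (IsProper p)
  haveI : IsLocallyNoetherian X := LocallyOfFiniteType.isLocallyNoetherian p
  letI : (W4bk4gw11416.baseChange p K).Over (Spec (CommRingCat.of K)) := ⟨W4bk4gw11416.baseChangeTo p K⟩
  haveI : IsProper ((W4bk4gw11416.baseChange p K) ↘ Spec (CommRingCat.of K)) :=
    inferInstanceAs (IsProper (Limits.pullback.snd p (Spec.map (CommRingCat.ofHom (algebraMap k K)))))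
  haveI : IsLocallyNoetherian (W4bk4gw11416.baseChange p K) :=
    LocallyOfFiniteType.isLocallyNoetherian ((W4bk4gw11416.baseChange p K) ↘ Spec (CommRingCat.of K))
  obtain ⟨M₁, d₁, hM₁, hM₁i, ⟨e₁⟩⟩ := hML
  obtain ⟨eJ⟩ := hJL
  obtain ⟨eE⟩ := hEs
  let c := PicGrp.cls L hL
  have hpow : ∀ j : ℕ, PicGrp.cls (CohB1.tensorPow L j) (TMul.isInvertible_tensorPow hL j) = c ^ j := fun j =>
    Subtype.ext (PicGrp.cls_pow_val hL j).symm
  have hJK : PicGrp.cls (bcMod p K J) (PicLoc.isInvertible_pullback (proj p K) hJ) = c ^ r := by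
    rw [← hpow, PicGrp.cls_eq_cls_iff]
    exact ⟨eJ⟩
  have hJa : ∀ (a : ℤ) (Ja : X.Modules) (h : PicF.IsInvertible Ja), PicGrp.cls Ja h = PicGrp.cls J hJ ^ a →
      PicGrp.cls (bcMod p K Ja) (PicLoc.isInvertible_pullback (proj p K) h) = c ^ ((r : ℤ) * a) := by
    intro a Ja h hc
    rw [← PicGrp.pullHom_cls (proj p K) hπ Ja h, hc, map_zpow, PicGrp.pullHom_cls (proj p K) hπ J hJ, hJK,
      ← zpow_natCast, ← zpow_mul]
  have hcls : ∀ (j : ℕ) (a : ℤ) (Ja : X.Modules) (h : PicF.IsInvertible Ja), PicGrp.cls Ja h = PicGrp.cls J hJ ^ a →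
      PicGrp.cls (CohB1.tensorMod (CohB1.tensorPow L j) (bcMod p K Ja))
        (TMul.isInvertible_tensorMod (TMul.isInvertible_tensorPow hL j) (PicLoc.isInvertible_pullback (proj p K) h)) =
        c ^ ((j : ℤ) + (r : ℤ) * a) := by
    intro j a Ja h hc
    rw [zpow_add, zpow_natCast, ← hpow j, ← hJa a Ja h hc]
    exact Subtype.ext (PicGrp.cls_mul_cls_val _ _).symm
  have hinj : ∀ m m' : ℤ, c ^ m = c ^ m' → m = m' := fun m m' h => by
    have h2 := congrArg (fun z => Multiplicative.toAdd (e z)) h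
    simpa [map_zpow, c, he] using h2
  refine ⟨?_, ?_⟩
  · let m : Fin n → ℤ := fun i => Multiplicative.toAdd (e (PicGrp.cls (Ls i) (hLs i)))
    have hm : ∀ i, PicGrp.cls (Ls i) (hLs i) = c ^ m i := fun i => e.injective (by
      rw [map_zpow, he, ← ofAdd_zsmul, smul_eq_mul, mul_one]
      rfl)
    have hr0 : (r : ℤ) ≠ 0 := by omega
    have hdata : ∀ i : Fin n, ∃ (M : X.Modules) (d : ℕ) (Ja : X.Modules) (hJa' : PicF.IsInvertible Ja),
        FlatMod.IsFinLocFree M ∧ KrullSch.Indec M ∧ 0 < d ∧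
        Nonempty (bcMod p K M ≅ pow (CohB1.tensorPow L (m i % r).toNat) d) ∧
        PicGrp.cls Ja hJa' = PicGrp.cls J hJ ^ (m i / r) ∧
        Nonempty (bcMod p K (CohB1.tensorMod M Ja) ≅ pow (Ls i) d) := by
      intro i
      obtain ⟨M, d, hM, hMi, hd, ⟨b⟩⟩ := KrullSch.exists_type_tensorPow p hL hM₁ hM₁i e₁ (m i % r).toNat
      obtain ⟨Ja, hJai, hc⟩ := PicGrp.exists_eq_cls (PicGrp.cls J hJ ^ (m i / r))
      obtain ⟨u⟩ := TMul.nonempty_pullTensorIso (proj p K) M Ja
      obtain ⟨v⟩ := KrullSch.nonempty_powTensor (CohB1.tensorPow L (m i % r).toNat) (bcMod p K Ja) d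
      have h : CohB1.tensorMod (CohB1.tensorPow L (m i % r).toNat) (bcMod p K Ja) ≅ Ls i := by
        refine Nonempty.some ((PicGrp.cls_eq_cls_iff (TMul.isInvertible_tensorMod (TMul.isInvertible_tensorPow hL _)
          (PicLoc.isInvertible_pullback (proj p K) hJai)) (hLs i)).1 ?_)
        rw [hcls _ _ Ja hJai hc.symm, hm i, Int.toNat_of_nonneg (Int.emod_nonneg _ hr0), Int.emod_add_mul_ediv]
      exact ⟨M, d, Ja, hJai, hM, hMi, hd, ⟨b⟩, hc.symm,
        ⟨u.symm ≪≫ PicGrp.tensorModIso b (Iso.refl _) ≪≫ v ≪≫ Sigma.mapIso fun _ => h⟩⟩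
    choose M d Ja hJai hM hMi hd hb hc htype using hdata
    have hT : ∀ i, FlatMod.IsFinLocFree (CohB1.tensorMod (M i) (Ja i)) := fun i =>
      ResDesc.isFinLocFree_tensorMod (hM i) (ResDesc.isFinLocFree_of_isInvertible (hJai i))
    obtain ⟨i, t, -, ⟨f⟩⟩ := KrullSch.exists_type_of_split p K Ls (fun i => KrullSch.indec_invertible (hLs i))
      (fun i => ⟨_, d i, hT i, KrullSch.indec_tensor (hJai i) (hMi i), hd i, htype i⟩) E hE hEi eE
    obtain ⟨θ⟩ := KrullSch.nonempty_iso_of_same_type (k := k) (K := K) (proj p K) (IsPullback.of_hasPullback _ _)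
      (K0Coh.isCoh_of_isFinLocFree hE) (K0Coh.isCoh_of_isFinLocFree (hT i)) hEi
      (KrullSch.indec_tensor (hJai i) (hMi i)) (Ls i) t (d i) f (htype i).some
    exact ⟨m i / r, (m i % r).toNat, by have := Int.emod_lt_of_pos (m i) (by omega : (0 : ℤ) < r); omega,
      M i, d i, Ja i, hJai i, hM i, hMi i, hb i, hc i, ⟨θ⟩⟩
  · intro a a' j j' M M' d d' Ja Ja' hJai hJai' hj hj' hMi hM'i hb hb' hc hc' ha ha'
    obtain ⟨b⟩ := hb
    obtain ⟨b'⟩ := hb'
    obtain ⟨θ⟩ := ha
    obtain ⟨θ'⟩ := ha'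
    obtain ⟨u⟩ := TMul.nonempty_pullTensorIso (proj p K) M Ja
    obtain ⟨u'⟩ := TMul.nonempty_pullTensorIso (proj p K) M' Ja'
    obtain ⟨v⟩ := KrullSch.nonempty_powTensor (CohB1.tensorPow L j) (bcMod p K Ja) d
    obtain ⟨v'⟩ := KrullSch.nonempty_powTensor (CohB1.tensorPow L j') (bcMod p K Ja') d'
    let f : bcMod p K E ≅ pow (CohB1.tensorMod (CohB1.tensorPow L j) (bcMod p K Ja)) d :=
      (Scheme.Modules.pullback (proj p K)).mapIso θ ≪≫ u.symm ≪≫ PicGrp.tensorModIso b (Iso.refl _) ≪≫ v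
    let f' : bcMod p K E ≅ pow (CohB1.tensorMod (CohB1.tensorPow L j') (bcMod p K Ja')) d' :=
      (Scheme.Modules.pullback (proj p K)).mapIso θ' ≪≫ u'.symm ≪≫ PicGrp.tensorModIso b' (Iso.refl _) ≪≫ v'
    have hN := TMul.isInvertible_tensorMod (TMul.isInvertible_tensorPow hL j) (PicLoc.isInvertible_pullback (proj p K) hJai)
    have hN' := TMul.isInvertible_tensorMod (TMul.isInvertible_tensorPow hL j') (PicLoc.isInvertible_pullback (proj p K) hJai')
    haveI := KrullSch.finite_end (k := K) (K0Coh.isCoh_of_isFinLocFree (ResDesc.isFinLocFree_of_isInvertible hN))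
    obtain ⟨q, hq⟩ := KrullSch.exists_equiv K _
      (fun _ : Fin d => CohB1.tensorMod (CohB1.tensorPow L j) (bcMod p K Ja))
      (fun _ : Fin d' => CohB1.tensorMod (CohB1.tensorPow L j') (bcMod p K Ja')) rfl
      (fun _ => KrullSch.indec_invertible hN) (fun _ => KrullSch.indec_invertible hN') (fun _ => inferInstance)
      (biproduct.isoCoproduct _ ≪≫ f.symm ≪≫ f' ≪≫ (biproduct.isoCoproduct _).symm)
    have h := hinj _ _ ((hcls j a Ja hJai hc).symm.trans (((PicGrp.cls_eq_cls_iff hN hN').2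
      (hq ⟨0, KrullSch.pos_of_type p hE hEi f⟩)).trans (hcls j' a' Ja' hJai' hc')))
    have hdiv := congrArg (fun z : ℤ => z / (r : ℤ)) h
    have h0 : ∀ t : ℕ, t < r → (t : ℤ) / (r : ℤ) = 0 := fun t ht => Int.ediv_eq_zero_of_lt (by omega) (by omega)
    simp only [Int.add_mul_ediv_left _ _ (show (r : ℤ) ≠ 0 by omega), h0 j hj, h0 j' hj', zero_add] at hdiv
    subst hdiv
    exact ⟨rfl, by omega⟩

end Groth.Agent.S15405
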