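import Groth.Statements.S15407
import Groth.Agent.ThickInv.Curve
import Groth.Agent.S0404

set_option autoImplicit false
universe u
open CategoryTheory CategoryTheory.Limits AlgebraicGeometry
open Models

set_option backward.isDefEq.respectTransparency false
set_option backward.isDefEq.respectTransparency.types false
set_option maxHeartbeats 1000000
set_option linter.style.haveILetI false

namespace Groth.Agent.S15407

open TopologicalSpace in
/-- embeddings with the same range have the same dimension -/
theorem dim_le_of_range {A B Z : Type u} [TopologicalSpace A] [TopologicalSpace B] [TopologicalSpace Z]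
    {a : A → Z} {b : B → Z} (ha : Topology.IsEmbedding a) (hb : Topology.IsEmbedding b)
    (h : Set.range a ⊆ Set.range b) : topologicalKrullDim A ≤ topologicalKrullDim B := by
  choose g hg using fun x => h ⟨x, rfl⟩
  refine Topology.IsInducing.topologicalKrullDim_le (f := g) ?_
  have hg' : b ∘ g = a := funext hg
  have hgc : Continuous g := hb.isInducing.continuous_iff.2 (by rw [hg']; exact ha.continuous)
  exact Topology.IsInducing.of_comp hgc hb.continuous (by rw [hg']; exact ha.isInducing)


/-- Let R be a complete discrete valuation ring with algebraically closed residue field k and fraction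
field K, C a smooth proper K-scheme of Krull dimension one (a curve) with H⁰(C, O_C) = K and dim_K
H¹(C, O_C) ≥ 2, X → Spec R a regular proper model of C, X_k = X ×_R Spec k its closed fibre with
inclusion i : X_k → X, and q ≥ 1 an integer which is nonzero in k. Assume the Picard group laws on X
and X_k and that pullback of invertible classes along i is multiplicative. Then (a) the restriction
Pic(X) → Pic(X_k) is surjective, and (b) its kernel N is uniquely q-divisible: for every c in N
there is exactly one d in N with d^q = c. (The published statement introduces N as the kernel of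
Pic⁰(X) → Pic⁰(X_k), Pic⁰ denoting the classes of degree 0 on every component of the closed fibre,
and asserts that this map is surjective; a class trivial on X_k has degree 0 on every component, so
N is the kernel in (b), and (a) is the equivalent surjectivity of the unrestricted map.) -/
theorem result
    (R : Type u) [CommRing R] [IsDomain R] [IsDiscreteValuationRing R]
    [IsAdicComplete (IsLocalRing.maximalIdeal R) R] (hk : IsAlgClosed (IsLocalRing.ResidueField R))
    (C : Scheme.{u}) (fC : C ⟶ Spec (CommRingCat.of (FractionRing R))) [IsProper fC] [Smooth fC]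
    (hC0 : Models.hRank (FractionRing R) C fC (Coh.structureModule C) 0 = 1)
    (hg2 : 2 ≤ Models.curveGenus (FractionRing R) C fC) (hC1 : topologicalKrullDim C = 1)
    (X : Scheme.{u}) (p : X ⟶ Spec (CommRingCat.of R)) (hX : Models.IsRegularProperModel R X p C fC)
    (q : ℕ) (hq : 1 ≤ q) (hqk : (q : IsLocalRing.ResidueField R) ≠ 0)
    [PicGrp.Law X]
    [PicGrp.Law (pullback p (Spec.map (CommRingCat.ofHom (algebraMap R (IsLocalRing.ResidueField R)))))]
    (hi : PicGrp.PullMul (pullback.fst p (Spec.map (CommRingCat.ofHom (algebraMap R (IsLocalRing.ResidueField R)))))) :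
    Function.Surjective (PicGrp.pullHom
        (pullback.fst p (Spec.map (CommRingCat.ofHom (algebraMap R (IsLocalRing.ResidueField R))))) hi) ∧
      ∀ c ∈ (PicGrp.pullHom
          (pullback.fst p (Spec.map (CommRingCat.ofHom (algebraMap R (IsLocalRing.ResidueField R))))) hi).ker,
        ∃! d : PicLoc.PicSet X,
          d ∈ (PicGrp.pullHom
            (pullback.fst p (Spec.map (CommRingCat.ofHom (algebraMap R (IsLocalRing.ResidueField R))))) hi).ker ∧
          d ^ q = c := by
  obtain ⟨⟨hfl, hft, hqc, g, hg⟩, hp, -⟩ := hX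
  haveI := hfl; haveI := hp
  let S := Spec (CommRingCat.of R)
  let φ := Spec.map (CommRingCat.ofHom (algebraMap R (FractionRing R)))
  haveI : IsPreimmersion φ := IsPreimmersion.of_isLocalization (nonZeroDivisors R)
  haveI : IsPreimmersion g := MorphismProperty.of_isPullback (P := @IsPreimmersion) hg.flip inferInstance
  let pt : (Spec (CommRingCat.of (FractionRing R)) : Scheme.{u}) :=
    (show PrimeSpectrum (FractionRing R) from default)
  let η : S := φ.base pt
  have hsub : ∀ z : Spec (CommRingCat.of (FractionRing R)), φ.base z = η := fun z =>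
    congrArg φ.base (Subsingleton.elim (α := PrimeSpectrum (FractionRing R)) z pt)
  have hrange : Set.range (p.fiberι η) ⊆ Set.range g.base := by
    rw [p.range_fiberι]
    intro x hx
    obtain ⟨c, hc⟩ : x ∈ Set.range (hg.isoPullback.inv ≫ g).base := by
      rw [hg.isoPullback_inv_fst, Scheme.Pullback.range_fst]
      exact ⟨pt, hx.symm⟩
    exact ⟨hg.isoPullback.inv.base c, hc⟩
  have hη : topologicalKrullDim ↥(p.fiber η) ≤ (1 : ℕ) :=
    (dim_le_of_range (p.fiberι η).isEmbedding g.isEmbedding hrange).trans (le_of_eq (by rw [hC1]; rfl))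
  haveI : IsLocallyNoetherian X := LocallyOfFiniteType.isLocallyNoetherian p
  haveI : LocallyOfFinitePresentation p := inferInstance
  have hclosed : topologicalKrullDim ↥(p.fiber (IsLocalRing.closedPoint R)) ≤ (1 : ℕ) := by
    refine not_lt.1 fun hlt => not_lt.2 hη ?_
    have hU : (⟨_, S0404.result p ((1 : ℕ) : WithBot ℕ∞)⟩ : TopologicalSpace.Opens S) = ⊤ :=
      (IsLocalRing.closedPoint_mem_iff _).1 hlt
    exact hU.ge (TopologicalSpace.Opens.mem_top η)
  let m := IsLocalRing.maximalIdeal R
  haveI := ThickInv.isClosedImmersion_thickι (I := m) p 0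
  have hd : topologicalKrullDim ↥(CohB1.thick p m 0) ≤ (1 : ℕ) := by
    refine (dim_le_of_range (CohB1.thickι p m 0).isEmbedding (p.fiberι (IsLocalRing.closedPoint R)).isEmbedding ?_).trans hclosed
    rw [p.range_fiberι, W7Alg.range_thickι]
    intro x hx
    refine PrimeSpectrum.ext ?_
    exact ((IsLocalRing.maximalIdeal.isMaximal R).eq_of_le (p x).2.ne_top fun a ha => not_not.1 (hx a ha)).symm
  have h2 := ThickInv.subsingleton_h2_of_dim p hd
  haveI := hk
  have hbij : Function.Bijective (Ideal.Quotient.factor (Ideal.pow_le_self (I := m) (n := 0 + 1) (by omega))) := by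
    refine ⟨?_, Ideal.Quotient.factor_surjective _⟩
    rw [RingHom.injective_iff_ker_eq_bot, Ideal.Quotient.factor_ker,
      Ideal.map_eq_bot_iff_le_ker, Ideal.mk_ker, Nat.zero_add, pow_one]
  let e : CommRingCat.of (R ⧸ m ^ (0 + 1)) ⟶ CommRingCat.of (IsLocalRing.ResidueField R) :=
    CommRingCat.ofHom (Ideal.Quotient.factor (Ideal.pow_le_self (I := m) (n := 0 + 1) (by omega)))
  haveI : IsIso e := (ConcreteCategory.isIso_iff_bijective _).2 hbij
  have he : Spec.map e ≫ CohB1.specQuot m 0 = Spec.map (CommRingCat.ofHom (algebraMap R (IsLocalRing.ResidueField R))) := by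
    rw [CohB1.specQuot, ← Spec.map_comp]
    congr 1
  let i := pullback.fst p (Spec.map (CommRingCat.ofHom (algebraMap R (IsLocalRing.ResidueField R))))
  let α : pullback p (Spec.map (CommRingCat.ofHom (algebraMap R (IsLocalRing.ResidueField R)))) ⟶ CohB1.thick p m 0 :=
    pullback.map _ _ _ _ (𝟙 X) (Spec.map e) (𝟙 _) (by simp) ((Category.comp_id _).trans he.symm)
  haveI : IsIso α := by
    haveI : IsIso (Spec.map e) := inferInstance
    exact inferInstance
  have hα : α ≫ CohB1.thickι p m 0 = i := (pullback.lift_fst _ _ _).trans (Category.comp_id _)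
  obtain rfl : (‹PicGrp.Law X› : PicGrp.Law X) = W7Cube.law X := Subsingleton.elim _ _
  obtain rfl : (‹PicGrp.Law (pullback p (Spec.map (CommRingCat.ofHom (algebraMap R (IsLocalRing.ResidueField R)))))› :
      PicGrp.Law _) = W7Cube.law _ := Subsingleton.elim _ _
  letI := W7Cube.law (CohB1.thick p m 0)
  letI := W7Cube.law X
  letI := W7Cube.law (pullback p (Spec.map (CommRingCat.ofHom (algebraMap R (IsLocalRing.ResidueField R)))))
  have hbijα : Function.Bijective (W7Cube.pull α) := by
    refine Function.bijective_iff_has_inverse.2 ⟨W7Cube.pull (inv α), fun c => ?_, fun c => ?_⟩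
    · rw [W7Cube.pull_pull, ThickPic.pull_congr (IsIso.inv_hom_id α)]; exact PicGrp.pullHom_id_apply _ _
    · rw [W7Cube.pull_pull, ThickPic.pull_congr (IsIso.hom_inv_id α)]; exact PicGrp.pullHom_id_apply _ _
  have hfac : ∀ c, PicGrp.pullHom i hi c = W7Cube.pull α (W7Cube.pull (CohB1.thickι p m 0) c) := fun c => by
    rw [W7Cube.pull_pull, ThickPic.pull_congr hα]; rfl
  have hker : ∀ c, c ∈ (PicGrp.pullHom i hi).ker ↔ W7Cube.pull (CohB1.thickι p m 0) c = 1 := fun c => by
    rw [MonoidHom.mem_ker, hfac]
    exact map_eq_one_iff _ hbijα.1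
  have hq' : IsUnit (q : R) := by
    rw [← IsLocalRing.residue_ne_zero_iff_isUnit, map_natCast]
    exact hqk
  refine ⟨fun c => ?_, fun c hc => ?_⟩
  · obtain ⟨c₀, hc₀⟩ := hbijα.2 c
    obtain ⟨a, ha⟩ := ThickInv.surjective_pull_thick0 p h2 c₀
    exact ⟨a, by rw [hfac, ha, hc₀]⟩
  · obtain ⟨d, ⟨hd1, hd2⟩, hd3⟩ := ThickInv.existsUnique_root p q hq' ((hker c).1 hc)
    exact ⟨d, ⟨(hker d).2 hd1, hd2⟩, fun d' hd' => hd3 d' ⟨(hker d').1 hd'.1, hd'.2⟩⟩

end Groth.Agent.S15407
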