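import Groth.Statements.S15409
import Groth.Agent.KrullSch.Periodic

set_option autoImplicit false
universe u
open CategoryTheory CategoryTheory.Limits AlgebraicGeometry
open ASBun
attribute [local instance] CategoryTheory.Abelian.hasFiniteBiproducts

namespace Groth.Agent.S15409

open W4c1astiltbs12 in
/-- Let X be proper over a field k with k ≅ H⁰(X, O_X), K an algebraic closure of k with X_K connected
and projection π : X_K → X; assume the Picard group laws on X and X_K with pullback along π
multiplicative, that Pic(X_K) is infinite cyclic generated by the class of an invertible module L,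
and that J is an invertible O_X-module whose pullback to X_K has class the r-th power of the class
of L, r ≥ 1. Let j and a be integers and N, N' invertible O_{X_K}-modules with classes (cls L)^j and
(cls L)^{j'} where either j' = −j or j' = j + a·r. If W, W' are indecomposable finite locally free
O_X-modules (nonzero, and in any direct-sum decomposition one summand is zero) with π^*W ≅ N^{⊕d}
and π^*W' ≅ N'^{⊕d'}, then d = d': the rank of the indecomposable absolutely isotypical sheaf of
type L^{⊗j} depends only on ±j modulo r. (The published statement phrases this for the sheaves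
W_{L^{⊗j}}, whose existence for every j it assumes through an indecomposable absolutely isotypical
sheaf of type L; here the two sheaves are given, and r need not be minimal.) -/
theorem result (k : Type u) [Field k] {X : Scheme.{u}}
    (p : X ⟶ Spec (CommRingCat.of k)) [IsProper p] (hO : IsIso p.appTop) (K : Type u) [Field K] [Algebra k K] [IsAlgClosure k K]
    [ConnectedSpace ↥(W4bk4gw11416.baseChange p K)]
    [PicGrp.Law X] [PicGrp.Law (W4bk4gw11416.baseChange p K)] (hπ : PicGrp.PullMul (proj p K))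
    (L : (W4bk4gw11416.baseChange p K).Modules) (hL : PicF.IsInvertible L)
    (e : PicLoc.PicSet (W4bk4gw11416.baseChange p K) ≃* Multiplicative ℤ)
    (he : e (PicGrp.cls L hL) = Multiplicative.ofAdd 1)
    (r : ℕ) (hr : 1 ≤ r) (J : X.Modules) (hJ : PicF.IsInvertible J)
    (hJL : PicGrp.cls (bcMod p K J) (PicLoc.isInvertible_pullback (proj p K) hJ) = PicGrp.cls L hL ^ r)
    (j a j' : ℤ) (hj' : j' = -j ∨ j' = j + a * r)
    (N N' : (W4bk4gw11416.baseChange p K).Modules) (hN : PicF.IsInvertible N) (hN' : PicF.IsInvertible N')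
    (hNj : PicGrp.cls N hN = PicGrp.cls L hL ^ j) (hN'j : PicGrp.cls N' hN' = PicGrp.cls L hL ^ j')
    (W W' : X.Modules) (hW : FlatMod.IsFinLocFree W) (hW' : FlatMod.IsFinLocFree W')
    (hWi : (¬ IsZero W ∧ ∀ A B : X.Modules, Nonempty (W ≅ A ⊞ B) → IsZero A ∨ IsZero B)) (hW'i : (¬ IsZero W' ∧ ∀ A B : X.Modules, Nonempty (W' ≅ A ⊞ B) → IsZero A ∨ IsZero B))
    (d d' : ℕ) (eW : Nonempty (bcMod p K W ≅ pow N d)) (eW' : Nonempty (bcMod p K W' ≅ pow N' d')) :
    d = d' := by
  haveI : Algebra.IsAlgebraic k K := IsAlgClosure.isAlgebraic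
  obtain ⟨e1⟩ := eW
  obtain ⟨e2⟩ := eW'
  have hNi := KrullSch.indec_invertible hN
  have hN'i := KrullSch.indec_invertible hN'
  have hpos : ∀ {V : X.Modules} {M : (W4bk4gw11416.baseChange p K).Modules} {c : ℕ}, FlatMod.IsFinLocFree V →
      KrullSch.Indec V → (bcMod p K V ≅ pow M c) → 0 < c := by
    intro V M c hV hVi eV
    rcases Nat.eq_zero_or_pos c with rfl | h
    · letI : X.Over (Spec (CommRingCat.of k)) := ⟨p⟩
      haveI : IsProper (X ↘ Spec (CommRingCat.of k)) := inferInstanceAs (IsProper p)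
      haveI : IsLocallyNoetherian X := LocallyOfFiniteType.isLocallyNoetherian p
      letI : (W4bk4gw11416.baseChange p K).Over (Spec (CommRingCat.of K)) := ⟨W4bk4gw11416.baseChangeTo p K⟩
      refine absurd (KrullSch.isZero_of_isZero_pullback (k := k) (K := K) (proj p K) (IsPullback.of_hasPullback _ _)
        (K0Coh.isCoh_of_isFinLocFree hV) (IsZero.of_iso ?_ eV)) hVi.1
      exact (KrullSch.isZero_biproduct_of_isEmpty fun _ : Fin 0 => M).of_iso (biproduct.isoCoproduct _).symm
    · exact h
  rcases hj' with h | h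
  · have h1 : PicGrp.cls N hN * PicGrp.cls N' hN' = 1 := by rw [hNj, hN'j, h, ← zpow_add, add_neg_cancel, zpow_zero]
    have h2 : PicGrp.cls N' hN' * PicGrp.cls N hN = 1 := by rw [mul_comm, h1]
    obtain ⟨θ⟩ := (PicGrp.cls_mul_cls_eq_one_iff hN hN').1 h1
    obtain ⟨θ'⟩ := (PicGrp.cls_mul_cls_eq_one_iff hN' hN).1 h2
    obtain ⟨δ⟩ := KrullSch.nonempty_dual_iso hN θ
    obtain ⟨δ'⟩ := KrullSch.nonempty_dual_iso hN' θ'
    exact Nat.dvd_antisymm (KrullSch.dvd_of_dual p hW' hW hWi hN hNi δ' (hpos hW' hW'i e2) e2 e1)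
      (KrullSch.dvd_of_dual p hW hW' hW'i hN' hN'i δ (hpos hW hWi e1) e1 e2)
  · obtain ⟨Ja, hJa, hc⟩ := PicGrp.exists_eq_cls (PicGrp.cls J hJ ^ a)
    have h1 : PicGrp.cls (bcMod p K Ja) (PicLoc.isInvertible_pullback (proj p K) hJa) = PicGrp.cls L hL ^ (a * r) := by
      rw [← PicGrp.pullHom_cls (proj p K) hπ Ja hJa, ← hc, map_zpow, PicGrp.pullHom_cls (proj p K) hπ J hJ, hJL,
        ← zpow_natCast, ← zpow_mul, mul_comm]
    have h2 : PicGrp.cls N hN * PicGrp.cls (bcMod p K Ja) (PicLoc.isInvertible_pullback (proj p K) hJa) =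
        PicGrp.cls N' hN' := by rw [hNj, h1, hN'j, h, zpow_add]
    obtain ⟨θ⟩ := (PicGrp.cl_eq_cl_iff _ N').1 ((PicGrp.cls_mul_cls_val hN _).symm.trans (congrArg Subtype.val h2))
    exact KrullSch.rank_eq_of_tensor p hW hW' hWi hW'i hJa hN' hN'i e1 e2 θ

end Groth.Agent.S15409
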