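import Groth.Statements.S15412


set_option autoImplicit false
set_option backward.isDefEq.respectTransparency false
set_option linter.style.haveILetI false
universe w v u
open CategoryTheory Opposite
open Bitors

namespace Groth.Agent.S15412

/-- On a site, let G and H be sheaves of groups and P a sheaf of sets with a left G-action which is
simply transitive on every set of sections P(U). The right H-actions on P that are compatible with
restriction, commute with the G-action and are simply transitive on every P(U) (for P a G-torsor: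
the structures of (G, H)-bitorsor on P) correspond exactly to the families of group isomorphisms φ_p
: H(U) ≃ G(U), one for each section p of P over each U, compatible with restriction and with φ_{g·p}
= g φ_p g⁻¹ (the equivariant maps from P to the sheaf of isomorphisms from H to G); the
correspondence is the rule p · h = φ_p(h) · p, and the statement is that every right structure
arises by this rule from exactly one family and every family from exactly one right structure. (The
published statement takes P a left G-torsor; only the simple transitivity of the G-action on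
sections enters, so local existence of sections is not assumed.) -/
theorem result
    {C : Type u} [Category.{v} C] {J : GrothendieckTopology C}
    (G H : Sheaf J GrpCat.{w}) (P : NonAbH1.GSheaf G) (hP : P.IsPseudoTorsor) :
    (∀ ρ : Bitors.RightStr P H, ∃! φ : Bitors.IsomFamily P H,
        ∀ (U : Cᵒᵖ) (p : P.P.obj.obj U) (h : H.obj.obj U), ρ.rsmul p h = P.smul (φ.φ p h) p) ∧
    (∀ φ : Bitors.IsomFamily P H, ∃! ρ : Bitors.RightStr P H,
        ∀ (U : Cᵒᵖ) (p : P.P.obj.obj U) (h : H.obj.obj U), ρ.rsmul p h = P.smul (φ.φ p h) p) := by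
  classical
  have uq : ∀ (U : Cᵒᵖ) (p : P.P.obj.obj U) {a b : G.obj.obj U}, P.smul a p = P.smul b p → a = b :=
    fun U p a b h => (hP U p (P.smul b p)).unique h rfl
  constructor
  · intro ρ
    let f : ∀ {U : Cᵒᵖ}, P.P.obj.obj U → H.obj.obj U → G.obj.obj U := fun {U} p h => (hP U p (ρ.rsmul p h)).choose
    have hf : ∀ {U : Cᵒᵖ} (p : P.P.obj.obj U) (h : H.obj.obj U), P.smul (f p h) p = ρ.rsmul p h :=
      fun {U} p h => (hP U p (ρ.rsmul p h)).choose_spec.1
    let φ : ∀ {U : Cᵒᵖ}, P.P.obj.obj U → H.obj.obj U ≃* G.obj.obj U := fun {U} p =>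
      MulEquiv.ofBijective (MonoidHom.mk' (f p) fun h h' => uq U p (by
        rw [hf, P.mul_smul, ρ.rsmul_mul, hf, ← hf p h, ρ.smul_rsmul]))
        ⟨fun h h' e => (ρ.existsUnique_rsmul p (ρ.rsmul p h')).unique
          (by rw [← hf p h, show f p h = f p h' from e, hf]) rfl,
        fun g => ⟨(ρ.existsUnique_rsmul p (P.smul g p)).choose, uq U p (by
          rw [MonoidHom.mk'_apply, hf]; exact (ρ.existsUnique_rsmul p (P.smul g p)).choose_spec.1)⟩⟩
    have hφ : ∀ {U : Cᵒᵖ} (p : P.P.obj.obj U) (h : H.obj.obj U), φ p h = f p h := fun p h => rfl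
    refine ⟨⟨φ, fun t p h => uq _ (P.P.obj.map t p) (by rw [hφ, hφ, hf, ← ρ.map_rsmul, ← hf, P.map_smul]),
      fun g p h => uq _ (P.smul g p) (by
        rw [hφ, hφ, hf, ρ.smul_rsmul, ← hf, ← P.mul_smul, ← P.mul_smul, inv_mul_cancel_right])⟩,
      fun U p h => (hf p h).symm, ?_⟩
    rintro ⟨ψ, m1, m2⟩ hψ
    simp only [Bitors.IsomFamily.mk.injEq]
    funext U p
    exact MulEquiv.ext fun h => uq _ p ((hψ U p h).symm.trans (hf p h).symm)
  · intro φ
    refine ⟨⟨fun {U} p h => P.smul (φ.φ p h) p, fun p => by rw [map_one, P.one_smul], fun p h h' => ?_,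
      fun t p h => by rw [P.map_smul, φ.map_φ], fun g p h => ?_, fun {U} p q => ?_⟩, fun U p h => rfl, ?_⟩
    · rw [φ.φ_smul, ← P.mul_smul, inv_mul_cancel_right, map_mul]
    · rw [φ.φ_smul, ← P.mul_smul, ← P.mul_smul, inv_mul_cancel_right]
    · obtain ⟨g, hg, hg'⟩ := hP U p q
      refine ⟨(φ.φ p).symm g, ?_, fun h hh => ?_⟩
      · show P.smul (φ.φ p ((φ.φ p).symm g)) p = q
        rw [MulEquiv.apply_symm_apply]; exact hg
      · rw [← hg' _ hh, MulEquiv.symm_apply_apply]
    · rintro ⟨r, a, b, c, d, e⟩ hr
      simp only [Bitors.RightStr.mk.injEq]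
      funext U p h
      exact hr U p h

end Groth.Agent.S15412
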