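import Groth.Statements.S15415
import Groth.Agent.RedNorm.Basic
import Groth.Agent.S13692

set_option autoImplicit false
set_option linter.style.haveILetI false
set_option backward.isDefEq.respectTransparency false
open Groth.Agent
universe u v w
open scoped TensorProduct
attribute [local instance] CSAGal.tensorAction GpH1.unitsAction
open GalCoh

namespace Groth.Agent.S15415

/-- For a central simple algebra over a field, the first Galois cohomology set of its norm-one group is
identified with the nonzero scalars modulo the reduced norms of units, by the boundary map of the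
sequence norm-one units → units → nonzero scalars. Finite-level form: let k be a field, K a finite
Galois extension of k whose Galois group acts on K ⊗_k A through the first factor, A a
finite-dimensional central simple k-algebra split by K, N the reduced norm of A over k and N_K the
reduced norm of K ⊗_k A over K. Then (i) every 1-cocycle a with values in the units of K ⊗_k A of
reduced norm one is of the form a σ = b⁻¹ · σ(b) for a unit b whose reduced norm is an element c of
kˣ; and (ii) for units b, b' of K ⊗_k A with reduced norms c, c' in kˣ, the cocycles σ ↦ b⁻¹σ(b) and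
σ ↦ b'⁻¹σ(b') are cohomologous through a unit of reduced norm one if and only if c' = N(x) · c for
some unit x of A. (Since K splits A the reduced norm N_K takes every value in kˣ, so (i) and (ii)
say that c ↦ class of b⁻¹σ(b), N_K b = c, is a well-defined bijection from kˣ/N(Aˣ) onto the
cohomology set of the norm-one units. The published statement is for the absolute Galois group of a
field of characteristic different from 2, an assumption playing no role here; this row is the
finite-level form over a splitting field.) -/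
theorem result
    (k : Type u) [Field k] (K : Type v) [Field K] [Algebra k K] [FiniteDimensional k K] [IsGalois k K]
    (A : Type w) [Ring A] [Algebra k A] [Algebra.IsCentral k A] [IsSimpleRing A] [FiniteDimensional k A]
    (hA : Curves.Splits k A K)
    (N : A →* k) (hN : CSAGal.IsRedNorm k A N)
    (NK : (K ⊗[k] A) →* K) (hNK : CSAGal.IsRedNorm K (K ⊗[k] A) NK) :
    (∀ a : GpH1.OneCocycle (K ≃ₐ[k] K) (K ⊗[k] A)ˣ, (∀ σ, NK (a σ : K ⊗[k] A) = 1) →
        ∃ (c : kˣ) (b : (K ⊗[k] A)ˣ), NK (b : K ⊗[k] A) = algebraMap k K (c : k) ∧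
          ∀ σ : K ≃ₐ[k] K, a σ = b⁻¹ * σ • b) ∧
    (∀ (c c' : kˣ) (b b' : (K ⊗[k] A)ˣ),
        NK (b : K ⊗[k] A) = algebraMap k K (c : k) → NK (b' : K ⊗[k] A) = algebraMap k K (c' : k) →
        ((∃ s : (K ⊗[k] A)ˣ, NK (s : K ⊗[k] A) = 1 ∧
            ∀ σ : K ≃ₐ[k] K, b'⁻¹ * σ • b' = s⁻¹ * (b⁻¹ * σ • b) * σ • s) ↔
          ∃ x : Aˣ, (c' : k) = N (x : A) * (c : k))) := by
  classical
  obtain ⟨n, -, hn⟩ := Brauer.exists_degree (k := k) A
  haveI := Azumaya.isAzumaya_of_csa k A
  haveI := Azumaya.isAzumaya_baseChange (R := k) (A := A) K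
  obtain ⟨_, _⟩ := Azumaya.csa_of_isAzumaya K (K ⊗[k] A)
  have hn' : Module.finrank K (K ⊗[k] A) = n ^ 2 := by rw [Module.finrank_baseChange, hn]
  have hN' := RedNorm.isNrd_of_isRedNorm hn hN
  have hNK' := RedNorm.isNrd_of_isRedNorm hn' hNK
  obtain ⟨G'⟩ := RedNorm.exists_rep (k := K) (A := K ⊗[k] A) hn'
  let F := AlgebraicClosure K
  haveI : IsAlgClosure k F := ⟨inferInstance, Algebra.IsAlgebraic.trans k K F⟩
  let e : F ≃ₐ[k] AlgebraicClosure k := IsAlgClosure.equiv k F (AlgebraicClosure k)
  have hincl : ∀ a : A, NK ((1 : K) ⊗ₜ[k] a) = algebraMap k K (N a) := by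
    intro a
    apply (algebraMap K F).injective
    apply e.injective
    rw [← IsScalarTower.algebraMap_apply k K F, AlgEquiv.commutes,
      ← hN' (e.toAlgHom.mapMatrix.comp ((G'.restrictScalars k).comp Algebra.TensorProduct.includeRight)) a,
      ← hNK' G' ((1 : K) ⊗ₜ[k] a)]
    exact e.toAlgHom.toRingHom.map_det _
  have hequiv : ∀ (σ : K ≃ₐ[k] K) (t : K ⊗[k] A), NK (σ • t) = σ (NK t) := by
    intro σ t
    let τ : F ≃+* F := IsAlgClosure.equivOfEquiv F F σ.toRingEquiv
    have hτ : ∀ c : K, τ (algebraMap K F c) = algebraMap K F (σ c) :=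
      fun c => IsAlgClosure.equivOfEquiv_algebraMap F F σ.toRingEquiv c
    let m : K ⊗[k] A →+* K ⊗[k] A := (Algebra.TensorProduct.map (σ.symm : K →ₐ[k] K) (AlgHom.id k A)).toRingHom
    have hm : ∀ x, m x = σ.symm • x := fun x => (CSAGal.smul_eq_map k K A σ.symm x).symm
    let G'' : K ⊗[k] A →ₐ[K] Matrix (Fin n) (Fin n) F :=
      { τ.toRingHom.mapMatrix.comp (G'.toRingHom.comp m) with
        commutes' := fun c => by
          show (G' (m (algebraMap K _ c))).map τ = _
          rw [Algebra.TensorProduct.algebraMap_apply]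
          show (G' (σ.symm (algebraMap K K c) ⊗ₜ[k] (1 : A))).map τ = _
          rw [Algebra.algebraMap_self, RingHom.id_apply, show σ.symm c ⊗ₜ[k] (1 : A) = algebraMap K (K ⊗[k] A) (σ.symm c) by
            rw [Algebra.TensorProduct.algebraMap_apply]; rfl, AlgHom.commutes, Matrix.algebraMap_eq_diagonal,
            Matrix.algebraMap_eq_diagonal]
          ext i j
          by_cases h : i = j <;> simp [h]
          exact (hτ _).trans (congrArg _ (σ.apply_symm_apply c)) }
    apply (algebraMap K F).injective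
    rw [← hNK' G'' (σ • t)]
    show ((G' (m (σ • t))).map τ).det = _
    rw [hm, ← mul_smul, show σ.symm * σ = 1 from AlgEquiv.ext fun x => σ.symm_apply_apply x, one_smul, ← hτ, ← hNK' G']
    exact (τ.toRingHom.map_det _).symm
  have hfix : ∀ y : K ⊗[k] A, (∀ σ : K ≃ₐ[k] K, σ • y = y) → ∃ a : A, (1 : K) ⊗ₜ[k] a = y := by
    intro y hy
    let bA := Module.finBasis k A
    let B := Algebra.TensorProduct.basis K bA
    have hy' := S13692.fixed_mem_span (fun (σ : K ≃ₐ[k] K) v => σ • v) (fun σ => smul_zero σ)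
      (fun σ v v' => smul_add σ v v')
      (fun σ c v => by
        show σ • (c • v) = σ c • σ • v
        rw [CSAGal.smul_eq_map, CSAGal.smul_eq_map, Algebra.smul_def, map_mul, Algebra.smul_def (σ c)]
        congr 1)
      B (fun i σ => by
        show σ • B i = B i
        rw [Algebra.TensorProduct.basis_apply, TensorProduct.smul_tmul', AlgEquiv.smul_def, map_one]) y hy
    clear hy
    induction hy' using Submodule.span_induction with
    | mem v hv => obtain ⟨i, rfl⟩ := hv; exact ⟨bA i, (Algebra.TensorProduct.basis_apply bA i).symm⟩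
    | zero => exact ⟨0, TensorProduct.tmul_zero _ _⟩
    | add v v' _ _ h h' =>
      obtain ⟨a, rfl⟩ := h
      obtain ⟨a', rfl⟩ := h'
      exact ⟨a + a', TensorProduct.tmul_add _ _ _⟩
    | smul r v _ h =>
      obtain ⟨a, rfl⟩ := h
      exact ⟨r • a, (TensorProduct.tmul_smul r _ _)⟩
  let incl : A →* K ⊗[k] A := (Algebra.TensorProduct.includeRight : A →ₐ[k] K ⊗[k] A).toRingHom.toMonoidHom
  have hincl' : ∀ (σ : K ≃ₐ[k] K) (u : Aˣ), σ • Units.map incl u = Units.map incl u := fun σ u => Units.ext (by
    show σ • ((1 : K) ⊗ₜ[k] (u : A)) = _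
    rw [TensorProduct.smul_tmul', AlgEquiv.smul_def, map_one]; rfl)
  constructor
  · intro a ha
    obtain ⟨b, hb⟩ := (GpH1.OneCocycle.cl_eq_cl_iff a GpH1.OneCocycle.trivial).mp (S13692.result k K A a.cl)
    have hb' : ∀ σ, a σ = b⁻¹ * σ • b := fun σ => (hb σ).trans (by
      show b⁻¹ * 1 * σ • b = _
      rw [mul_one])
    have hf : ∀ σ : K ≃ₐ[k] K, σ (NK (b : K ⊗[k] A)) = NK (b : K ⊗[k] A) := fun σ => by
      have h2 : σ • b = b * a σ := by rw [hb' σ, mul_inv_cancel_left]
      calc σ (NK (b : K ⊗[k] A)) = NK ((σ • b : (K ⊗[k] A)ˣ) : K ⊗[k] A) := (hequiv σ _).symm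
        _ = _ := by rw [h2, Units.val_mul, map_mul, ha σ, mul_one]
    obtain ⟨c, hc⟩ := (IsGalois.mem_range_algebraMap_iff_fixed (NK (b : K ⊗[k] A))).2 hf
    have hc0 : c ≠ 0 := fun h => (b.isUnit.map NK).ne_zero (by rw [← hc, h, map_zero])
    exact ⟨Units.mk0 c hc0, b, hc.symm, hb'⟩
  · intro c c' b b' hb hb'
    have hval : ∀ u : Aˣ, NK ((Units.map incl u : (K ⊗[k] A)ˣ) : K ⊗[k] A) = algebraMap k K (N u) := fun u => hincl u
    constructor
    · rintro ⟨s, hs, heq⟩
      let y : (K ⊗[k] A)ˣ := b * s * b'⁻¹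
      have hy : ∀ σ : K ≃ₐ[k] K, σ • y = y := by
        intro σ
        have h := heq σ
        simp only [y, smul_mul', smul_inv']
        have h2 : σ • b * σ • s = b * s * (b'⁻¹ * σ • b') := by rw [h]; group
        rw [h2]; group
      obtain ⟨a, ha⟩ := hfix (y : K ⊗[k] A) fun σ => congrArg Units.val (hy σ)
      have hNa : algebraMap k K (N a) = algebraMap k K ((c : k) * (c' : k)⁻¹) := by
        rw [← hincl, ha]
        simp only [y, Units.val_mul, map_mul, hb, hs, mul_one, map_inv₀]
        congr 1
        refine eq_inv_of_mul_eq_one_left ?_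
        rw [← hb', ← map_mul, Units.inv_mul, map_one]
      have hNa' := (algebraMap k K).injective hNa
      have hau : IsUnit a := (RedNorm.isUnit_iff_nrd hn hN' a).mpr (by rw [hNa']; simp)
      refine ⟨hau.unit⁻¹, ?_⟩
      rw [← Units.coe_map N, map_inv, Units.val_inv_eq_inv_val, Units.coe_map, IsUnit.unit_spec, hNa', mul_inv, inv_inv]
      field_simp
    · rintro ⟨x, hx⟩
      refine ⟨b⁻¹ * Units.map incl x⁻¹ * b', ?_, fun σ => ?_⟩
      · rw [Units.val_mul, Units.val_mul, map_mul, map_mul, hval, hb']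
        have h1 : NK ((b⁻¹ : (K ⊗[k] A)ˣ) : K ⊗[k] A) = (algebraMap k K c)⁻¹ :=
          eq_inv_of_mul_eq_one_left (by rw [← hb, ← map_mul, Units.inv_mul, map_one])
        rw [h1, hx, ← map_inv₀, ← map_mul, ← map_mul, ← map_one (algebraMap k K)]
        congr 1
        rw [show N ((x⁻¹ : Aˣ) : A) = (N x)⁻¹ from eq_inv_of_mul_eq_one_left (by
          rw [← map_mul, Units.inv_mul, map_one])]
        have hx0 : N (x : A) ≠ 0 := (x.isUnit.map N).ne_zero
        field_simp
      · rw [smul_mul', smul_mul', smul_inv', hincl']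
        group

end Groth.Agent.S15415
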