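import Groth.Statements.S1542
import Mathlib
import Groth.Agent.GeomProp.SchemeReduced
import Groth.Agent.SmLocalST.SmoothField
-- import your own Groth.Agent.* helpers here

set_option autoImplicit false
universe u
open CategoryTheory CategoryTheory.Limits AlgebraicGeometry
open Variety

namespace Groth.Agent.S1542

/-- Geometric reducedness at a point passes to every generisation of that point. -/
theorem result (k : Type u) [Field k] (X : Scheme.{u}) [X.Over (Spec (CommRingCat.of k))] (x x' : X) (h : x' ⤳ x)
    (hx : Curv2.IsGeomReducedAt k X x) : Curv2.IsGeomReducedAt k X x' := by
  exact Groth.Agent.GeomProp.isGeomReducedAt_of_specializes k X x h hx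

end Groth.Agent.S1542
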