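import Groth.Statements.S15433
-- import your own Groth.Agent.* helpers here
import Groth.Agent.GrSyzMin.DegBound

set_option autoImplicit false
universe u
open GrSyz

namespace Groth.Agent.S15433

/-- Let k be a field, S = k[x_0, …, x_r] graded by degree, 𝔪 = (x_0, …, x_r), and M = S/I a graded
quotient of S, given with a surjective degree-preserving S-linear map π : S → M whose kernel I
contains no nonzero linear form. Let y_0, …, y_t be linear forms forming a weakly regular sequence
on M (each a non-zerodivisor modulo the previous ones) and N = M/(y_0, …, y_t)M, given as a graded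
module with a surjective degree-preserving S-linear map σ : M → N with kernel (y_0, …, y_t)M, and
suppose N has finite length ℓ. Then reg M + (r − t) ≤ ℓ, reg being the Castelnuovo–Mumford
regularity of M in the sense of minimal graded free resolutions. (The published statement is reg S_X
≤ deg X − codim X for an arithmetically Cohen–Macaulay subvariety X of P^r not contained in a
hyperplane; this row is the algebraic statement its proof establishes, with S_X any graded quotient
of S by an ideal without linear forms, the maximal regular sequence of linear forms given, deg X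
replaced by the length of S_X/(y_0, …, y_t)S_X and codim X by r − t, which agree with the degree and
the codimension in that situation.) -/
theorem result (k : Type u) [Field k] (r : ℕ)
    (M : Type u) [AddCommGroup M] [Module k M] [Module (MvPolynomial (Fin (r + 1)) k) M]
    [IsScalarTower k (MvPolynomial (Fin (r + 1)) k) M] [Module.Finite (MvPolynomial (Fin (r + 1)) k) M]
    (ℳ : ℤ → Submodule k M) [DirectSum.Decomposition ℳ] [SetLike.GradedSMul (GrSyz.stdGr k (Fin (r + 1))) ℳ]
    (π : MvPolynomial (Fin (r + 1)) k →ₗ[MvPolynomial (Fin (r + 1)) k] M) (hπ : Function.Surjective π)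
    (hπg : GrLC.IsGrHom (GrSyz.stdGr k (Fin (r + 1))) ℳ π)
    (hlin : ∀ x : MvPolynomial (Fin (r + 1)) k, x ∈ GrSyz.stdGr k (Fin (r + 1)) 1 → π x = 0 → x = 0)
    (ys : List (MvPolynomial (Fin (r + 1)) k)) (hys : ∀ y ∈ ys, y ∈ GrSyz.stdGr k (Fin (r + 1)) 1)
    (hreg : RingTheory.Sequence.IsWeaklyRegular M ys)
    (N : Type u) [AddCommGroup N] [Module k N] [Module (MvPolynomial (Fin (r + 1)) k) N]
    [IsScalarTower k (MvPolynomial (Fin (r + 1)) k) N]
    (𝒩 : ℤ → Submodule k N) [DirectSum.Decomposition 𝒩] [SetLike.GradedSMul (GrSyz.stdGr k (Fin (r + 1))) 𝒩]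
    (σ : M →ₗ[MvPolynomial (Fin (r + 1)) k] N) (hσ : Function.Surjective σ) (hσg : GrLC.IsGrHom ℳ 𝒩 σ)
    (hker : LinearMap.ker σ = Ideal.ofList ys • (⊤ : Submodule (MvPolynomial (Fin (r + 1)) k) M))
    (ℓ : ℕ) (hℓ : Module.length (MvPolynomial (Fin (r + 1)) k) N = (ℓ : ℕ∞)) :
    GrSyz.reg (GrSyz.stdGr k (Fin (r + 1))) ℳ (GrSyz.irrel (GrSyz.stdGr k (Fin (r + 1)))).toIdeal + ((((r : ℤ) + 1 - (ys.length : ℤ) : ℤ) : WithTop ℤ) : WithBot (WithTop ℤ)) ≤
      (((ℓ : ℤ) : WithTop ℤ) : WithBot (WithTop ℤ)) := by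
  open Groth.Agent.GrSyzMin Groth.Agent.GrSyzHilb in
  have hN : IsFiniteLength (MvPolynomial (Fin (r + 1)) k) N :=
    Module.length_ne_top_iff.1 (by rw [hℓ]; exact ENat.natCast_ne_top ℓ)
  haveI : Module.Finite (MvPolynomial (Fin (r + 1)) k) N := Module.Finite.of_surjective σ hσ
  rw [Groth.Agent.GrSyzMin.reg_eq_reg_quot ys hys hreg σ hσ hσg hker, Groth.Agent.GrSyzMin.reg_eq_endDeg hN]
  refine Groth.Agent.GrSyzMin.endDeg_add_le (σ.comp π) (fun e x hx => hσg e _ (hπg e x hx)) (hσ.comp hπ) ys
    (fun p hp h0 => ?_) ℓ hℓ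
  have h1 : π p ∈ Ideal.ofList ys • (⊤ : Submodule (MvPolynomial (Fin (r + 1)) k) M) := hker ▸ (h0 : σ (π p) = 0)
  rw [← LinearMap.range_eq_top.2 hπ, LinearMap.range_eq_map, ← Submodule.map_smul'', smul_eq_mul,
    Ideal.mul_top] at h1
  obtain ⟨q, hq, hqp⟩ := h1
  have hq1 : comp (GrSyz.stdGr k (Fin (r + 1))) 1 q ∈ Submodule.span k {y | y ∈ ys} ∧
      ∀ e < (1 : ℤ), comp (GrSyz.stdGr k (Fin (r + 1))) e q = 0 := by
    clear hqp
    induction hq using Submodule.span_induction with
    | mem y hy =>
      rw [comp_of_mem (GrSyz.stdGr k (Fin (r + 1))) (hys y hy)]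
      exact ⟨Submodule.subset_span hy, fun e he => comp_of_mem_ne (GrSyz.stdGr k (Fin (r + 1))) (hys y hy) (by omega)⟩
    | zero => exact ⟨by rw [map_zero]; exact Submodule.zero_mem _, fun e _ => map_zero _⟩
    | add a b _ _ ha hb =>
      exact ⟨by rw [map_add]; exact Submodule.add_mem _ ha.1 hb.1, fun e he => by rw [map_add, ha.2 e he, hb.2 e he, add_zero]⟩
    | smul a y _ ih =>
      induction a using DirectSum.Decomposition.inductionOn (GrSyz.stdGr k (Fin (r + 1))) with
      | zero => exact ⟨by rw [zero_smul, map_zero]; exact Submodule.zero_mem _, fun e _ => by rw [zero_smul, map_zero]⟩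
      | @homogeneous j c =>
        rcases lt_trichotomy j 0 with hj | rfl | hj
        · rw [eq_zero_of_deg_neg hj c.2, zero_smul, map_zero]
          exact ⟨Submodule.zero_mem _, fun e _ => map_zero _⟩
        · refine ⟨?_, fun e he => by rw [comp_smul (GrSyz.stdGr k (Fin (r + 1))) c.2, sub_zero, ih.2 e he, smul_zero]⟩
          rw [comp_smul (GrSyz.stdGr k (Fin (r + 1))) c.2, sub_zero, eq_C_of_deg_zero c.2, ← MvPolynomial.algebraMap_eq, algebraMap_smul]
          exact Submodule.smul_mem _ _ ih.1
        · refine ⟨?_, fun e he => by rw [comp_smul (GrSyz.stdGr k (Fin (r + 1))) c.2, ih.2 _ (by omega), smul_zero]⟩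
          rw [comp_smul (GrSyz.stdGr k (Fin (r + 1))) c.2, ih.2 _ (by omega), smul_zero]
          exact Submodule.zero_mem _
      | add a b ha hb =>
        exact ⟨by rw [add_smul, map_add]; exact Submodule.add_mem _ ha.1 hb.1,
          fun e he => by rw [add_smul, map_add, ha.2 e he, hb.2 e he, add_zero]⟩
  have h2 : π p = π (comp (GrSyz.stdGr k (Fin (r + 1))) 1 q) := by
    rw [← comp_cyclic π hπg, hqp, comp_of_mem ℳ (hπg 1 p hp)]
  have h3 := hlin _ (Submodule.sub_mem _ hp (comp_mem (GrSyz.stdGr k (Fin (r + 1))) 1 q)) (by rw [map_sub, h2, sub_self])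
  rw [sub_eq_zero.1 h3]
  exact hq1.1

end Groth.Agent.S15433
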