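import Groth.Statements.S15435
import Groth.Agent.RegTilde.DRegMain

set_option autoImplicit false
universe u
open GrSyz

namespace Groth.Agent.S15435

/-- Let k be a field, S = k[x_0, …, x_r] graded by degree, 𝔪 = (x_0, …, x_r), and M a finitely generated
ℤ-graded S-module; M̃ and the M(d)~ denote the O-modules on P^r_k associated with the pieces M_n, n
≥ 0 (they depend only on the pieces of large degree), with the canonical maps M_d → H^0(P^r_k,
M(d)~); graded local cohomology is computed from any *injective resolution in the graded category;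
let d ≥ 0. Then M is d-regular, that is H^0_𝔪(M) has no nonzero piece above degree d and H^i_𝔪(M)
vanishes in degree d − i + 1 for every i > 0, if and only if: (1) the sheaf M̃ is d-regular,
H^i(P^r_k, M̃(d − i)) = 0 for 1 ≤ i ≤ r; (2) H^0_𝔪(M) vanishes in every degree e > d; and (3) the
canonical map from M_d to the global sections of M(d)~ is surjective. (The published statement
allows any integer d; it is stated here for d ≥ 0.) -/
theorem result (k : Type u) [Field k] (r : ℕ)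
    (M : Type u) [AddCommGroup M] [Module k M] [Module (MvPolynomial (Fin (r + 1)) k) M]
    [IsScalarTower k (MvPolynomial (Fin (r + 1)) k) M] [Module.Finite (MvPolynomial (Fin (r + 1)) k) M]
    (ℳ : ℤ → Submodule k M) [DirectSum.Decomposition ℳ] [SetLike.GradedSMul (GrSyz.stdGr k (Fin (r + 1))) ℳ]
    [SetLike.GradedSMul (CohB1.polyGrading r k) (fun n : ℕ => ℳ (n : ℤ))]
    (E : GrLC.StarInjRes (GrSyz.stdGr k (Fin (r + 1))) ℳ) (d : ℕ) :
    (GrLC.endDeg (E.Hgr (GrSyz.irrel (GrSyz.stdGr k (Fin (r + 1)))) 0) ≤ (((d : ℤ) : WithTop ℤ) : WithBot (WithTop ℤ)) ∧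
        ∀ i : ℕ, 0 < i → E.Hcomp (GrSyz.irrel (GrSyz.stdGr k (Fin (r + 1)))) i ((d : ℤ) - (i : ℤ) + 1) = ⊥) ↔
      (Curv2.IsMRegular k r (GrTilde.tilde (CohB1.polyGrading r k) (fun n : ℕ => ℳ (n : ℤ)) 0) (d : ℤ) ∧
        (∀ e : ℤ, (d : ℤ) < e → E.Hcomp (GrSyz.irrel (GrSyz.stdGr k (Fin (r + 1)))) 0 e = ⊥) ∧
        Function.Surjective (fun m : ↥(ℳ ((d : ℕ) : ℤ)) => GrTilde.globalOf (CohB1.polyGrading r k) (fun n : ℕ => ℳ (n : ℤ)) m)) := by
  rw [Groth.Agent.GrLCLib.diagLE_iff_endDeg, Groth.Agent.RegGlobal.hyp_iff_diagLE]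
  refine ⟨fun h => ⟨(Groth.Agent.RegGlobal.reg_iff (d : ℤ)).1 h.reg, fun e he => ?_, fun s => ?_⟩,
    fun h => ⟨(Groth.Agent.RegGlobal.reg_iff (d : ℤ)).2 h.1, ?_, fun s => ?_⟩⟩
  · exact (Groth.Agent.GrLCLib.hcomp_eq_bot_iff E _ 0 e).2
      ((Groth.Agent.GrLCLib.van_zero_iff_torsLE E (d : ℤ)).2 h.tors e he)
  · obtain ⟨z, hz, rfl⟩ := h.surj s
    exact ⟨⟨z, hz⟩, rfl⟩
  · exact (Groth.Agent.GrLCLib.van_zero_iff_torsLE E (d : ℤ)).1 fun e he =>
      (Groth.Agent.GrLCLib.hcomp_eq_bot_iff E _ 0 e).1 (h.2.1 e he)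
  · obtain ⟨⟨z, hz⟩, rfl⟩ := h.2.2 s
    exact ⟨z, hz, rfl⟩

end Groth.Agent.S15435
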