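import Groth.Statements.S15441
import Groth.Agent.WeilLib.Cycle

set_option autoImplicit false
universe u v
open WeilCoh

namespace Groth.Agent.S15441

open AlgebraicGeometry CategoryTheory in
/-- Let k be an algebraically closed field of characteristic zero, K a field of characteristic zero and
T a Weil cohomology theory over k with coefficients in K, defined on connected smooth projective
varieties over k; let X be such a variety, δ the weight function on X induced from weight 0 on the
point Spec k, and α a zero-cycle on X for δ. Then α is homologically equivalent to zero for T, i.e.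
its cycle class in the cohomology of X vanishes, if and only if the degree of α over k is zero. -/
theorem result (k : Type u) [Field k] [IsAlgClosed k]
    [CharZero k] (K : Type v) [Field K] [CharZero K] (T : WeilCoh.Theory k K) (X : WeilCoh.Var k)
    [QuasiCompact X.obj.hom] (δ : ↥X.obj.left → ℤ) (hδ : Cyc.DeltaCompat X.obj.hom δ (fun _ => 0))
    (α : AlgebraicCycle X.obj.left ℤ) (hα : α ∈ Cyc.Zk X.obj.left δ 0) :
    T.IsHomEquivZero X α ↔ ChowOps.deg X.obj.hom δ α = 0 := by
  have h := Groth.Agent.WeilLib.deg_eq_tr_clCyc T δ hδ α hα
  constructor
  · intro h0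
    rw [show T.clCyc X α = 0 from h0, map_zero] at h
    exact_mod_cast h
  · intro h0
    rw [h0, Int.cast_zero] at h
    have hmem : T.clCyc X α ∈ T.gr X (2 * (WeilCoh.dim X.obj.left : ℤ)) := by
      rw [Groth.Agent.WeilLib.clCyc_eq_sum T α (Groth.Agent.WeilLib.finite_support α).toFinset
        fun x hx => (Groth.Agent.WeilLib.finite_support α).mem_toFinset.mpr hx]
      refine Submodule.sum_mem _ fun x hx => Submodule.smul_mem _ _ ?_
      have hδx : δ x = 0 := not_not.mp fun hne =>
        (Groth.Agent.WeilLib.finite_support α).mem_toFinset.mp hx (hα x hne)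
      rw [Groth.Agent.WeilLib.eq_pdim_of_deltaCompat X.obj.hom δ hδ x] at hδx
      have := Groth.Agent.WeilLib.codim_add_pdim X x
      convert T.cl_mem X x using 3
      omega
    exact congrArg Subtype.val ((T.tr_bijective X).injective
      (a₁ := ⟨_, hmem⟩) (a₂ := 0) (h.symm.trans (map_zero _).symm))

end Groth.Agent.S15441
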