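import Groth.Statements.S15465
import Mathlib.CategoryTheory.Abelian.Refinements
import Mathlib.Algebra.Homology.ShortComplex.ShortExact
-- import your own Groth.Agent.* helpers here

set_option autoImplicit false
set_option linter.style.haveILetI false
universe v u
open HomAlg

namespace Groth.Agent.S15465

open CategoryTheory CategoryTheory.Limits in
/-- In an abelian category let 0 → A₂ → B₂ → C₂ → 0 (maps i₂, π₂), 0 → A₁ → A₂ → A₃ → 0 (maps i₁, p₁)
and 0 → C₁ → C₂ → C₃ → 0 (maps j, q) be short exact sequences, let α = i₁ ≫ i₂ : A₁ → B₂ and β = π₂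
≫ q : B₂ → C₃, and let K = ker β / im α be the homology object of the complex A₁ → B₂ → C₃. Let f :
A₃ → K be the map induced by i₂ (the unique map whose composite with p₁ is the homology class of the
cycle i₂) and g : K → C₁ the map induced by π₂ (the unique map whose composite with j is the map K →
C₂ induced by π₂). Then 0 → A₃ → K → C₁ → 0, with maps f and g, is a short exact sequence. (The
hypotheses w, h₂, h₃ are consequences of i₂ ≫ π₂ = 0, carried so that the maps can be named; the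
published statement assumes in addition that the category has enough injective objects, which plays
no role in this assertion.) -/
theorem result
    {C : Type u} [Category.{v} C] [Abelian C] {A₁ A₂ A₃ B₂ C₁ C₂ C₃ : C}
    (i₁ : A₁ ⟶ A₂) (p₁ : A₂ ⟶ A₃) (wA : i₁ ≫ p₁ = 0) (hA : (ShortComplex.mk i₁ p₁ wA).ShortExact)
    (i₂ : A₂ ⟶ B₂) (π₂ : B₂ ⟶ C₂) (wB : i₂ ≫ π₂ = 0) (hB : (ShortComplex.mk i₂ π₂ wB).ShortExact)
    (j : C₁ ⟶ C₂) (q : C₂ ⟶ C₃) (wC : j ≫ q = 0) (hC : (ShortComplex.mk j q wC).ShortExact)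
    (w : (i₁ ≫ i₂) ≫ (π₂ ≫ q) = 0) (h₂ : i₂ ≫ (π₂ ≫ q) = 0) (h₃ : (i₁ ≫ i₂) ≫ π₂ = 0)
    (f : A₃ ⟶ (CategoryTheory.ShortComplex.mk (i₁ ≫ i₂) (π₂ ≫ q) w).homology)
    (g : (CategoryTheory.ShortComplex.mk (i₁ ≫ i₂) (π₂ ≫ q) w).homology ⟶ C₁)
    (hf : p₁ ≫ f = (CategoryTheory.ShortComplex.mk (i₁ ≫ i₂) (π₂ ≫ q) w).liftCycles i₂ h₂ ≫ (CategoryTheory.ShortComplex.mk (i₁ ≫ i₂) (π₂ ≫ q) w).homologyπ)
    (hg : g ≫ j = (CategoryTheory.ShortComplex.mk (i₁ ≫ i₂) (π₂ ≫ q) w).homologyι ≫ (CategoryTheory.ShortComplex.mk (i₁ ≫ i₂) (π₂ ≫ q) w).descOpcycles π₂ h₃) :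
    ∃ wfg : f ≫ g = 0, (ShortComplex.mk f g wfg).ShortExact := by
  revert f g
  set S := CategoryTheory.ShortComplex.mk (i₁ ≫ i₂) (π₂ ≫ q) w with hS
  intro f g hf hg
  haveI : Mono i₂ := hB.mono_f
  haveI : Epi π₂ := hB.epi_g
  haveI : Epi p₁ := hA.epi_g
  haveI : Mono j := hC.mono_f
  have key : ∀ {T : C} (z : T ⟶ B₂) (hz : z ≫ π₂ ≫ q = 0),
      (S.liftCycles z hz ≫ S.homologyπ) ≫ g ≫ j = z ≫ π₂ := by
    intro T z hz
    rw [hg, Category.assoc, ShortComplex.homology_π_ι_assoc, ShortComplex.liftCycles_i_assoc]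
    simp [S]
  have wfg : f ≫ g = 0 := by
    rw [← cancel_epi p₁, ← cancel_mono j, comp_zero, zero_comp, ← Category.assoc p₁, hf,
      Category.assoc, key i₂ h₂, wB]
  refine ⟨wfg, ?_⟩
  haveI : Mono f := by
    rw [Preadditive.mono_iff_cancel_zero]
    intro T a ha
    obtain ⟨T₁, π, hπ, a₂, ha₂⟩ := surjective_up_to_refinements_of_epi p₁ a
    have h0 : S.liftCycles (a₂ ≫ i₂) (by simp [S, h₂]) ≫ S.homologyπ = 0 := by
      rw [← ShortComplex.comp_liftCycles (S := S) i₂ h₂ a₂, Category.assoc, ← hf, ← reassoc_of% ha₂,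
        ha, comp_zero]
    rw [ShortComplex.liftCycles_comp_homologyπ_eq_zero_iff_up_to_refinements] at h0
    obtain ⟨T₂, π', hπ', b, hb⟩ := h0
    replace hb : π' ≫ a₂ = b ≫ i₁ := by
      rw [← cancel_mono i₂]
      simpa [S] using hb
    rw [← cancel_epi π, ← cancel_epi π', comp_zero, comp_zero, ha₂, reassoc_of% hb, wA, comp_zero]
  haveI : Epi g := by
    rw [epi_iff_surjective_up_to_refinements]
    intro T c
    obtain ⟨T₁, π, hπ, b, hb⟩ := surjective_up_to_refinements_of_epi π₂ (c ≫ j)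
    have hz : b ≫ π₂ ≫ q = 0 := by
      rw [← reassoc_of% hb, wC, comp_zero, comp_zero]
    refine ⟨T₁, π, hπ, S.liftCycles b hz ≫ S.homologyπ, ?_⟩
    rw [← cancel_mono j, Category.assoc, Category.assoc]
    rw [hb, ← key b hz, Category.assoc]
  refine ShortComplex.ShortExact.mk ?_
  rw [ShortComplex.exact_iff_exact_up_to_refinements]
  intro T k hk
  obtain ⟨T₁, π, hπ, z, hz, hzk⟩ := S.eq_liftCycles_homologyπ_up_to_refinements k
  have hk' : k ≫ g = 0 := hk
  have hz0 : z ≫ π₂ = 0 := by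
    rw [← key z hz, ← hzk, Category.assoc, reassoc_of% hk', zero_comp, comp_zero]
  obtain ⟨a, ha⟩ := CategoryTheory.Limits.KernelFork.IsLimit.lift' hB.fIsKernel z hz0
  refine ⟨T₁, π, hπ, a ≫ p₁, ?_⟩
  change π ≫ k = (a ≫ p₁) ≫ f
  rw [hzk, Category.assoc, hf, ShortComplex.comp_liftCycles_assoc]
  subst ha
  rfl

end Groth.Agent.S15465
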