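import Groth.Statements.S15466
import Mathlib.CategoryTheory.Abelian.Refinements
import Mathlib.CategoryTheory.Subobject.Limits

set_option autoImplicit false
universe v u
open HomAlg

namespace Groth.Agent.S15466

open CategoryTheory CategoryTheory.Limits in
/-- In an abelian category let 0 → A₂ → B₂ → C₂ → 0 (maps i₂, π₂), 0 → A₁ → A₂ → A₃ → 0 (maps i₁, p₁)
and 0 → C₁ → C₂ → C₃ → 0 (maps j, q) be short exact sequences, α = i₁ ≫ i₂, β = π₂ ≫ q, K = ker β /
im α, and let f : A₃ → K and g : K → C₁ be the maps induced by i₂ and π₂ (pinned by their defining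
squares), so that 0 → A₃ → K → C₁ → 0 is short exact. Sending a section s of g to the subobject B₁
of B₂ obtained by pulling the image of s back along ker β → K and then including ker β into B₂ is a
bijection from the sections of g (equivalently, the splittings of that sequence) onto the subobjects
B₁ of B₂ that complete the data to a 3 × 3 diagram with exact rows and columns: there are maps A₁ →
B₁ → C₁ over i₁ ≫ i₂ and under π₂ forming a short exact sequence, and maps A₃ → B₂/B₁ → C₃ under i₂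
and over π₂ ≫ q forming a short exact sequence. (The hypotheses w, h₂, h₃ are consequences of i₂ ≫
π₂ = 0, carried so that the maps can be named; the published statement assumes in addition that the
category has enough injective objects, which plays no role here.) -/
theorem result
    {C : Type u} [Category.{v} C] [Abelian C] {A₁ A₂ A₃ B₂ C₁ C₂ C₃ : C}
    (i₁ : A₁ ⟶ A₂) (p₁ : A₂ ⟶ A₃) (wA : i₁ ≫ p₁ = 0) (hA : (ShortComplex.mk i₁ p₁ wA).ShortExact)
    (i₂ : A₂ ⟶ B₂) (π₂ : B₂ ⟶ C₂) (wB : i₂ ≫ π₂ = 0) (hB : (ShortComplex.mk i₂ π₂ wB).ShortExact)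
    (j : C₁ ⟶ C₂) (q : C₂ ⟶ C₃) (wC : j ≫ q = 0) (hC : (ShortComplex.mk j q wC).ShortExact)
    (w : (i₁ ≫ i₂) ≫ (π₂ ≫ q) = 0) (h₂ : i₂ ≫ (π₂ ≫ q) = 0) (h₃ : (i₁ ≫ i₂) ≫ π₂ = 0)
    (f : A₃ ⟶ (CategoryTheory.ShortComplex.mk (i₁ ≫ i₂) (π₂ ≫ q) w).homology)
    (g : (CategoryTheory.ShortComplex.mk (i₁ ≫ i₂) (π₂ ≫ q) w).homology ⟶ C₁)
    (hf : p₁ ≫ f = (CategoryTheory.ShortComplex.mk (i₁ ≫ i₂) (π₂ ≫ q) w).liftCycles i₂ h₂ ≫ (CategoryTheory.ShortComplex.mk (i₁ ≫ i₂) (π₂ ≫ q) w).homologyπ)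
    (hg : g ≫ j = (CategoryTheory.ShortComplex.mk (i₁ ≫ i₂) (π₂ ≫ q) w).homologyι ≫ (CategoryTheory.ShortComplex.mk (i₁ ≫ i₂) (π₂ ≫ q) w).descOpcycles π₂ h₃) :
    (∀ B₁ : Subobject B₂,
      (∃ (a : A₁ ⟶ (B₁ : C)) (c : (B₁ : C) ⟶ C₁) (wac : a ≫ c = 0)
         (a' : A₃ ⟶ cokernel B₁.arrow) (c' : cokernel B₁.arrow ⟶ C₃) (wac' : a' ≫ c' = 0),
         a ≫ B₁.arrow = i₁ ≫ i₂ ∧ c ≫ j = B₁.arrow ≫ π₂ ∧ (ShortComplex.mk a c wac).ShortExact ∧
         p₁ ≫ a' = i₂ ≫ cokernel.π B₁.arrow ∧ cokernel.π B₁.arrow ≫ c' = π₂ ≫ q ∧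
         (ShortComplex.mk a' c' wac').ShortExact) ↔
      ∃ s : C₁ ⟶ (CategoryTheory.ShortComplex.mk (i₁ ≫ i₂) (π₂ ≫ q) w).homology, s ≫ g = 𝟙 C₁ ∧
        (Subobject.map (CategoryTheory.ShortComplex.mk (i₁ ≫ i₂) (π₂ ≫ q) w).iCycles).obj ((Subobject.pullback (CategoryTheory.ShortComplex.mk (i₁ ≫ i₂) (π₂ ≫ q) w).homologyπ).obj (imageSubobject s)) = B₁) ∧
    (∀ s s' : C₁ ⟶ (CategoryTheory.ShortComplex.mk (i₁ ≫ i₂) (π₂ ≫ q) w).homology, s ≫ g = 𝟙 C₁ → s' ≫ g = 𝟙 C₁ →
      (Subobject.map (CategoryTheory.ShortComplex.mk (i₁ ≫ i₂) (π₂ ≫ q) w).iCycles).obj ((Subobject.pullback (CategoryTheory.ShortComplex.mk (i₁ ≫ i₂) (π₂ ≫ q) w).homologyπ).obj (imageSubobject s)) = (Subobject.map (CategoryTheory.ShortComplex.mk (i₁ ≫ i₂) (π₂ ≫ q) w).iCycles).obj ((Subobject.pullback (CategoryTheory.ShortComplex.mk (i₁ ≫ i₂) (π₂ ≫ q) w).homologyπ).obj (imageSubobject s')) → s = s') := by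
  let S : ShortComplex C := ShortComplex.mk (i₁ ≫ i₂) (π₂ ≫ q) w
  haveI : Mono i₁ := hA.mono_f
  haveI : Mono i₂ := hB.mono_f
  haveI : Mono j := hC.mono_f
  haveI : Epi p₁ := hA.epi_g
  haveI : Epi π₂ := hB.epi_g
  haveI : Epi q := hC.epi_g
  let ι : S.cycles ⟶ B₂ := S.iCycles
  let π : S.cycles ⟶ S.homology := S.homologyπ
  let tc : A₁ ⟶ S.cycles := S.toCycles
  haveI : Mono ι := inferInstanceAs (Mono S.iCycles)
  haveI : Epi π := inferInstanceAs (Epi S.homologyπ)
  have htι : tc ≫ ι = i₁ ≫ i₂ := S.toCycles_i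
  haveI : Mono tc := by
    haveI : Mono (tc ≫ ι) := by rw [htι]; infer_instance
    exact mono_of_mono tc ι
  have htπ : tc ≫ π = 0 := S.toCycles_comp_homologyπ
  have hιβ : ι ≫ π₂ ≫ q = 0 := S.iCycles_g
  have hπg : π ≫ g ≫ j = ι ≫ π₂ := by
    rw [hg]
    show S.homologyπ ≫ S.homologyι ≫ S.descOpcycles π₂ h₃ = S.iCycles ≫ π₂
    rw [ShortComplex.homology_π_ι_assoc, ShortComplex.p_descOpcycles]
  let hK : IsColimit (CokernelCofork.ofπ π htπ) := S.homologyIsCokernel
  let hKer : IsLimit (KernelFork.ofι tc htπ) :=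
    (haveI : Mono (ShortComplex.mk tc π htπ).f := ‹Mono tc›
     (ShortComplex.exact_of_g_is_cokernel (ShortComplex.mk tc π htπ) hK).fIsKernel)
  let m : ∀ s : C₁ ⟶ S.homology, Limits.pullback s π ⟶ B₂ := fun s => pullback.snd s π ≫ ι
  have hSub : ∀ (s : C₁ ⟶ S.homology) (hs : s ≫ g = 𝟙 C₁),
      ∃ (_ : Mono (m s)), (Subobject.map ι).obj ((Subobject.pullback π).obj (imageSubobject s)) =
        Subobject.mk (m s) := by
    intro s hs
    haveI : Mono s := by
      haveI : Mono (s ≫ g) := by rw [hs]; infer_instance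
      exact mono_of_mono s g
    haveI : Mono (m s) := mono_comp (pullback.snd s π) ι
    refine ⟨inferInstance, ?_⟩
    rw [imageSubobject_mono, Subobject.pullback_obj_mk (IsPullback.of_hasPullback s π), Subobject.map_mk]
  have hmcond : ∀ (s : C₁ ⟶ S.homology), s ≫ g = 𝟙 C₁ → pullback.fst s π ≫ j = m s ≫ π₂ := fun s hs => by
    simp only [m, Category.assoc]
    rw [← hπg, ← reassoc_of% (pullback.condition (f := s) (g := π)), reassoc_of% hs]
  constructor
  · intro B₁
    constructor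
    · rintro ⟨a, c, wac, a', c', wac', ha, hc, hac, ha', hc', hac'⟩
      haveI : Epi c := hac.epi_g
      have hβ : B₁.arrow ≫ π₂ ≫ q = 0 := by rw [← reassoc_of% hc, wC, comp_zero]
      let l : (B₁ : C) ⟶ S.cycles := S.liftCycles B₁.arrow hβ
      have hl : l ≫ ι = B₁.arrow := S.liftCycles_i _ _
      have hal : a ≫ l ≫ π = 0 := by
        have : a ≫ l = tc := by rw [← cancel_mono ι, Category.assoc, hl, ha, htι]
        rw [reassoc_of% this, htπ]
      obtain ⟨s, hcs⟩ := CokernelCofork.IsColimit.desc' hac.gIsCokernel (l ≫ π) hal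
      change c ≫ s = l ≫ π at hcs
      have hs : s ≫ g = 𝟙 C₁ := by
        rw [← cancel_epi c, ← cancel_mono j, Category.comp_id, Category.assoc, Category.assoc,
          reassoc_of% hcs, hπg, reassoc_of% hl, hc]
      refine ⟨s, hs, ?_⟩
      obtain ⟨hm, e⟩ := hSub s hs
      haveI := hm
      refine e.trans (le_antisymm ?_ ?_)
      · have h0 : tc ≫ ι ≫ cokernel.π B₁.arrow = 0 := by
          rw [reassoc_of% htι, ← reassoc_of% ha, cokernel.condition, comp_zero]
        obtain ⟨ψ, hψ⟩ := CokernelCofork.IsColimit.desc' hK (ι ≫ cokernel.π B₁.arrow) h0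
        change π ≫ ψ = ι ≫ cokernel.π B₁.arrow at hψ
        have hsψ : s ≫ ψ = 0 := by
          rw [← cancel_epi c, reassoc_of% hcs, hψ, reassoc_of% hl, cokernel.condition, comp_zero]
        have hmc : m s ≫ cokernel.π B₁.arrow = 0 := by
          simp only [m, Category.assoc]
          rw [← hψ, ← reassoc_of% (pullback.condition (f := s) (g := π)), hsψ, comp_zero]
        exact Subobject.mk_le_of_comm (Abelian.monoLift B₁.arrow (m s) hmc) (Abelian.monoLift_comp _ _ _)
      · refine Subobject.le_mk_of_comm (pullback.lift c l hcs) ?_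
        simp only [m]
        rw [pullback.lift_snd_assoc, hl]
    · rintro ⟨s, hs, hB₁⟩
      obtain ⟨hm, e⟩ := hSub s hs
      haveI := hm
      obtain rfl : Subobject.mk (m s) = B₁ := e.symm.trans hB₁
      let φ := Subobject.underlyingIso (m s)
      have harr : φ.hom ≫ m s = (Subobject.mk (m s)).arrow := Subobject.underlyingIso_hom_comp_eq_mk _
      let c : ((Subobject.mk (m s) : Subobject B₂) : C) ⟶ C₁ := φ.hom ≫ pullback.fst s π
      have hmk : ∀ {T : C} (x : T ⟶ S.cycles) (y : T ⟶ C₁), y ≫ s = x ≫ π →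
          ∃ b, b ≫ (Subobject.mk (m s)).arrow = x ≫ ι ∧ b ≫ c = y := fun {T} x y h => by
        refine ⟨pullback.lift y x h ≫ φ.inv, ?_, ?_⟩
        · rw [← harr, Category.assoc, Iso.inv_hom_id_assoc]
          exact pullback.lift_snd_assoc _ _ _ _
        · simp only [c, Category.assoc, Iso.inv_hom_id_assoc]
          exact pullback.lift_fst _ _ _
      have hc : c ≫ j = (Subobject.mk (m s)).arrow ≫ π₂ := by
        rw [← harr, Category.assoc, Category.assoc, hmcond s hs]
      obtain ⟨a, ha, hac0⟩ := hmk tc 0 (by rw [zero_comp, htπ])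
      replace ha : a ≫ (Subobject.mk (m s)).arrow = i₁ ≫ i₂ := ha.trans htι
      haveI : Mono a := by
        haveI : Mono (a ≫ (Subobject.mk (m s)).arrow) := by rw [ha]; infer_instance
        exact mono_of_mono a (Subobject.mk (m s)).arrow
      haveI : Epi (pullback.fst s π) := inferInstance
      haveI : Epi c := epi_comp _ _
      have hker : ∀ {T : C} (b : T ⟶ ((Subobject.mk (m s) : Subobject B₂) : C)), b ≫ c = 0 → ∃ v, v ≫ a = b :=
        fun {T} b hb => by
        have h1 : (b ≫ φ.hom ≫ pullback.snd s π) ≫ π = 0 := by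
          rw [Category.assoc, Category.assoc, ← pullback.condition, ← Category.assoc φ.hom,
            reassoc_of% hb, zero_comp]
        obtain ⟨v, hv⟩ := KernelFork.IsLimit.lift' hKer _ h1
        change v ≫ tc = b ≫ φ.hom ≫ pullback.snd s π at hv
        refine ⟨v, ?_⟩
        rw [← cancel_mono (Subobject.mk (m s)).arrow, Category.assoc, ha, ← htι, reassoc_of% hv, ← harr]
      have hi : i₁ ≫ i₂ ≫ cokernel.π (Subobject.mk (m s)).arrow = 0 := by
        rw [← reassoc_of% ha, cokernel.condition, comp_zero]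
      obtain ⟨a', ha'⟩ := CokernelCofork.IsColimit.desc' hA.gIsCokernel _ hi
      change p₁ ≫ a' = i₂ ≫ cokernel.π (Subobject.mk (m s)).arrow at ha'
      have hβ : (Subobject.mk (m s)).arrow ≫ π₂ ≫ q = 0 := by rw [← reassoc_of% hc, wC, comp_zero]
      let c' := cokernel.desc (Subobject.mk (m s)).arrow (π₂ ≫ q) hβ
      have hc' : cokernel.π (Subobject.mk (m s)).arrow ≫ c' = π₂ ≫ q := cokernel.π_desc _ _ _
      have wac' : a' ≫ c' = 0 := by
        rw [← cancel_epi p₁, reassoc_of% ha', hc', reassoc_of% wB, zero_comp, comp_zero]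
      refine ⟨a, c, hac0, a', c', wac', ha, hc, ?_, ha', hc', ?_⟩
      · refine { exact := ShortComplex.exact_of_f_is_kernel _ ?_, mono_f := ‹_›, epi_g := ‹_› }
        exact KernelFork.IsLimit.ofι' a hac0 fun {T} b hb => ⟨(hker b hb).choose, (hker b hb).choose_spec⟩
      · haveI : Epi c' := by
          haveI : Epi (cokernel.π (Subobject.mk (m s)).arrow ≫ c') := by rw [hc']; infer_instance
          exact epi_of_epi (cokernel.π (Subobject.mk (m s)).arrow) c'
        haveI : Mono a' := Preadditive.mono_of_cancel_zero a' fun {T} t ht => by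
          obtain ⟨T', e, he, t₁, ht₁⟩ := surjective_up_to_refinements_of_epi p₁ t
          have h1 : (t₁ ≫ i₂) ≫ cokernel.π (Subobject.mk (m s)).arrow = 0 := by
            rw [Category.assoc, ← ha', ← reassoc_of% ht₁, ht, comp_zero]
          let b := Abelian.monoLift (Subobject.mk (m s)).arrow _ h1
          have hb : b ≫ (Subobject.mk (m s)).arrow = t₁ ≫ i₂ := Abelian.monoLift_comp _ _ _
          have hbc : b ≫ c = 0 := by
            rw [← cancel_mono j, Category.assoc, hc, reassoc_of% hb, wB, comp_zero, zero_comp]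
          obtain ⟨v, hv⟩ := hker b hbc
          have h2 : t₁ = v ≫ i₁ := by
            rw [← cancel_mono i₂, ← hb, ← hv, Category.assoc, Category.assoc, ha]
          rw [← cancel_epi e, ht₁, h2, Category.assoc, wA, comp_zero, comp_zero]
        refine { exact := ?_, mono_f := ‹_›, epi_g := ‹_› }
        rw [ShortComplex.exact_iff_exact_up_to_refinements]
        intro A x₂ hx₂
        change x₂ ≫ c' = 0 at hx₂
        obtain ⟨A', e, he, z, hz⟩ := surjective_up_to_refinements_of_epi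
          (cokernel.π (Subobject.mk (m s)).arrow) x₂
        have hz0 : z ≫ π₂ ≫ q = 0 := by rw [← hc', ← reassoc_of% hz, hx₂, comp_zero]
        let y := S.liftCycles z hz0 ≫ π ≫ g
        have hy : y ≫ j = z ≫ π₂ := by
          simp only [y, Category.assoc]
          rw [hπg]
          exact S.liftCycles_i_assoc _ _ _
        obtain ⟨A'', e₂, he₂, x₀, hx₀⟩ := surjective_up_to_refinements_of_epi π (y ≫ s)
        obtain ⟨b, hb, hbc⟩ := hmk x₀ (e₂ ≫ y) (by rw [Category.assoc, hx₀])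
        have hd : (e₂ ≫ z - b ≫ (Subobject.mk (m s)).arrow) ≫ π₂ = 0 := by
          rw [Preadditive.sub_comp, Category.assoc, Category.assoc, ← hc, reassoc_of% hbc, hy, sub_self]
        obtain ⟨a₂, ha₂⟩ := KernelFork.IsLimit.lift' hB.fIsKernel _ hd
        change a₂ ≫ i₂ = e₂ ≫ z - b ≫ (Subobject.mk (m s)).arrow at ha₂
        refine ⟨A'', e₂ ≫ e, epi_comp _ _, a₂ ≫ p₁, ?_⟩
        show (e₂ ≫ e) ≫ x₂ = (a₂ ≫ p₁) ≫ a'
        rw [Category.assoc, Category.assoc, ha', reassoc_of% ha₂, Preadditive.sub_comp, Category.assoc,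
          Category.assoc, cokernel.condition, comp_zero, sub_zero, hz]
  · intro s s' hs hs' h
    obtain ⟨hm, e⟩ := hSub s hs
    obtain ⟨hm', e'⟩ := hSub s' hs'
    haveI := hm
    haveI := hm'
    have hmk : Subobject.mk (m s) = Subobject.mk (m s') := e.symm.trans (h.trans e')
    let φ := Subobject.ofMkLEMk (m s) (m s') hmk.le
    have hφ : φ ≫ m s' = m s := Subobject.ofMkLEMk_comp _
    have h1 : φ ≫ pullback.snd s' π = pullback.snd s π := by
      rw [← cancel_mono ι, Category.assoc]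
      exact hφ
    have h2 : φ ≫ pullback.fst s' π = pullback.fst s π := by
      rw [← cancel_mono j, Category.assoc, hmcond s' hs', reassoc_of% hφ, hmcond s hs]
    haveI : Epi (pullback.fst s π) := inferInstance
    rw [← cancel_epi (pullback.fst s π), pullback.condition, ← h1, Category.assoc, ← pullback.condition,
      reassoc_of% h2]

end Groth.Agent.S15466
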