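import Groth.Statements.S1547
import Groth.Agent.SepBC.Closed


set_option autoImplicit false
universe u
open CategoryTheory CategoryTheory.Limits AlgebraicGeometry
open Variety

set_option backward.isDefEq.respectTransparency false
namespace Groth.Agent.S1547

/-- Let k be a separably closed field, X a scheme over k and K any field extension of k. Then taking
images along the projection X_K → X is injective on irreducible components: two irreducible
components of X_K with the same image in X are equal. (Together with surjectivity on irreducible
components, stated separately, this gives a bijection of irreducible components.) -/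
theorem result (k : Type u) [Field k] (X : Scheme.{u}) [X.Over (Spec (CommRingCat.of k))] [IsSepClosed k] (K : Type u) [Field K] [Algebra k K]
    (T T' : Set (Curv2.bc k X K : Type u)) (hT : T ∈ irreducibleComponents (Curv2.bc k X K : Type u))
    (hT' : T' ∈ irreducibleComponents (Curv2.bc k X K : Type u))
    (h : (Curv2.bcFst k X K).base '' T = (Curv2.bcFst k X K).base '' T') : T = T' := by
  let π := Curv2.bcFst k X K
  have key : ∀ S ∈ irreducibleComponents (Curv2.bc k X K : Type u), S = π.base ⁻¹' closure (π.base '' S) := fun S hS => by
    have hC : IsIrreducible (closure (π.base '' S)) := (hS.1.image _ π.continuous.continuousOn).closure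
    have hsub : S ⊆ π.base ⁻¹' closure (π.base '' S) := fun z hz => subset_closure ⟨z, hz, rfl⟩
    exact hsub.antisymm (hS.2 (Groth.Agent.SepBC.isIrreducible_preimage (K := K) (X ↘ Spec (CommRingCat.of k)) hC) hsub)
  rw [key T hT, key T' hT', h]

end Groth.Agent.S1547
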