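import Groth.Statements.S15472
import Groth.Agent.IsoNatLib.Transport
-- import your own Groth.Agent.* helpers here

set_option autoImplicit false
universe u
open CategoryTheory AlgebraicGeometry
open IsoNat

namespace Groth.Agent.S15472

/-- Quasi-compactness of algebraic stacks is detected by the presheaf of isomorphism classes. If 𝒳 and 𝒴
are algebraic stacks over a quasi-separated scheme S with isomorphic presheaves of isomorphism
classes and 𝒳 has a smooth surjective morphism from an affine scheme, so does 𝒴. Here an algebraic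
stack over a quasi-separated scheme S means a stack in groupoids for the fppf topology with a smooth
surjective atlas from a scheme, whose diagonal is representable by separated quasi-compact morphisms
of algebraic spaces and whose inertia is locally of finite presentation over it. -/
theorem result
    (S : Scheme.{u}) [QuasiSeparatedSpace S]
    (𝒳 𝒴 : AlgSt.Cat S)
    (h𝒳 : AlgSt.IsAlgStack Scheme.fppfPrecoverage 𝒳)
    (h𝒳d : AlgSt.RepByAlgSpWith (AlgSp.IsSeparatedMor ⊓ AlgSp.IsQuasiCompactMor)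
      (FibCat.diag (FibCat.toSelf 𝒳)))
    (h𝒳i : AlgSt.RepByAlgSpWith (AlgSp.LocP @LocallyOfFinitePresentation)
      (FibCat.inertiaToBase (FibCat.toSelf 𝒳)))
    (h𝒴 : AlgSt.IsAlgStack Scheme.fppfPrecoverage 𝒴)
    (h𝒴d : AlgSt.RepByAlgSpWith (AlgSp.IsSeparatedMor ⊓ AlgSp.IsQuasiCompactMor)
      (FibCat.diag (FibCat.toSelf 𝒴)))
    (h𝒴i : AlgSt.RepByAlgSpWith (AlgSp.LocP @LocallyOfFinitePresentation)
      (FibCat.inertiaToBase (FibCat.toSelf 𝒴)))
    (φ : IsoNat.FIso 𝒳 𝒴)
    (hqc : AlgSt.IsQuasiCompact 𝒳) :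
    AlgSt.IsQuasiCompact 𝒴 := by
  obtain ⟨U, x, hU, -, hs⟩ := hqc
  haveI := hU
  have gX := h𝒳.isStack.1
  have gY := h𝒴.isStack.1
  obtain ⟨y, hy⟩ := Groth.Agent.IsoNatLib.Rel.exists_right gY φ x
  refine (Groth.Agent.AlgStLib.isQuasiCompact_iff_compactSpace h𝒴).2 ⟨?_⟩
  convert isCompact_range (Groth.Agent.AlgStLib.continuous_ofChart h𝒴 y) using 1
  refine (Set.range_eq_univ.2 fun p => ?_).symm
  obtain ⟨V, v', t, rfl⟩ := Groth.Agent.AlgStLib.exists_ofChart gY p
  obtain ⟨v, hv⟩ := Groth.Agent.IsoNatLib.Rel.exists_left gX φ v'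
  obtain ⟨s, hs'⟩ := Groth.Agent.AlgStLib.exists_point_of_surjective gX x hs (AlgSt.Points.ofChart v t)
  obtain ⟨K, α, β, k, i, rfl, rfl⟩ := Groth.Agent.AlgStLib.exists_common_point gX hs'
  obtain ⟨j⟩ := Groth.Agent.IsoNatLib.Rel.nonempty_iso gY (hy.overMap gY α) (hv.overMap gY β) i
  refine ⟨α.left k, ?_⟩
  rw [← Groth.Agent.AlgStLib.ofChart_overMap, ← Groth.Agent.AlgStLib.ofChart_overMap]
  exact Groth.Agent.AlgStLib.ofChart_congr j k

end Groth.Agent.S15472
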