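import Groth.Statements.S15482
import Groth.Agent.IsoNatLib.Transport
import Groth.Agent.AlgStLib.OpenSub
-- import your own Groth.Agent.* helpers here

set_option autoImplicit false
set_option backward.isDefEq.respectTransparency false
set_option backward.isDefEq.respectTransparency.types false
universe u
open CategoryTheory AlgebraicGeometry
open IsoNat

namespace Groth.Agent.S15482

/-- A morphism f : 𝒳 → 𝒴 of algebraic stacks over a quasi-separated scheme S is quasi-compact (its base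
change to every quasi-compact algebraic stack is quasi-compact) if and only if for every
quasi-compact algebraic stack 𝒴' and every open immersion j : 𝒴' → 𝒴 (representable by open
immersions of algebraic spaces) the 2-fibre product 𝒴' ×_𝒴 𝒳 is quasi-compact. Here an algebraic
stack over a quasi-separated scheme S means a stack in groupoids for the fppf topology with a smooth
surjective atlas from a scheme, whose diagonal is representable by separated quasi-compact morphisms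
of algebraic spaces and whose inertia is locally of finite presentation over it. -/
theorem result
    (S : Scheme.{u}) [QuasiSeparatedSpace S]
    (𝒳 𝒴 : AlgSt.Cat S)
    (h𝒳 : AlgSt.IsAlgStack Scheme.fppfPrecoverage 𝒳)
    (h𝒳d : AlgSt.RepByAlgSpWith (AlgSp.IsSeparatedMor ⊓ AlgSp.IsQuasiCompactMor)
      (FibCat.diag (FibCat.toSelf 𝒳)))
    (h𝒳i : AlgSt.RepByAlgSpWith (AlgSp.LocP @LocallyOfFinitePresentation)
      (FibCat.inertiaToBase (FibCat.toSelf 𝒳)))
    (h𝒴 : AlgSt.IsAlgStack Scheme.fppfPrecoverage 𝒴)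
    (h𝒴d : AlgSt.RepByAlgSpWith (AlgSp.IsSeparatedMor ⊓ AlgSp.IsQuasiCompactMor)
      (FibCat.diag (FibCat.toSelf 𝒴)))
    (h𝒴i : AlgSt.RepByAlgSpWith (AlgSp.LocP @LocallyOfFinitePresentation)
      (FibCat.inertiaToBase (FibCat.toSelf 𝒴)))
    (f : 𝒳 ⥤ᵇ 𝒴) :
    AlgSt.IsQuasiCompactMor Scheme.fppfPrecoverage f ↔
      ∀ (𝒴' : AlgSt.Cat S), AlgSt.IsAlgStack Scheme.fppfPrecoverage 𝒴' → AlgSt.IsQuasiCompact 𝒴' →
        ∀ (j : 𝒴' ⥤ᵇ 𝒴), AlgSt.IsOpenImm j → AlgSt.IsQuasiCompact (FibCat.fp j f) := by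
  refine ⟨fun hf 𝒴' h𝒴' hq j _ => hf 𝒴' h𝒴' hq j, fun h => ?_⟩
  have gX := h𝒳.isStack.1
  have gY := h𝒴.isStack.1
  refine Groth.Agent.AlgStLib.isQuasiCompactMor_of_affine h𝒳 h𝒴 fun Z z hZ => ?_
  haveI := hZ
  have hcont := Groth.Agent.AlgStLib.continuous_ofChart h𝒴 z
  -- a compact open set of points containing the image
  have hnhd : ∀ t : ↥Z.left, ∃ V : Set (AlgSt.Points 𝒴), IsOpen V ∧ IsCompact V ∧
      AlgSt.Points.ofChart z t ∈ V ∧ V ⊆ Set.univ := fun t =>
    Groth.Agent.AlgStLib.exists_isOpen_isCompact_nhd h𝒴 _ Set.univ isOpen_univ trivial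
  choose V hVo hVc hVt _ using hnhd
  obtain ⟨s, hs⟩ := isCompact_univ.elim_finite_subcover (fun t => AlgSt.Points.ofChart z ⁻¹' V t)
    (fun t => (hVo t).preimage hcont) (fun t _ => Set.mem_iUnion.2 ⟨t, hVt t⟩)
  let O : Set (AlgSt.Points 𝒴) := ⋃ t ∈ s, V t
  have hOo : IsOpen O := isOpen_biUnion fun t _ => hVo t
  have hOc : IsCompact O := s.isCompact_biUnion fun t _ => hVc t
  have hzO : ∀ t, AlgSt.Points.ofChart z t ∈ O := fun t => by simpa [O] using hs (Set.mem_univ t)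
  let Q : 𝒴.obj → Prop := Groth.Agent.AlgStLib.InSet O
  obtain ⟨-, hsub, hj⟩ := Groth.Agent.AlgStLib.isOpenSubstack_inSet h𝒴 hOo
  let j := AlgSt.subIncl 𝒴 Q
  have gS := hsub.isStack.1
  have hinj := Groth.Agent.AlgStLib.injective_map_subIncl gY (Q := Q) (fun m h => h.of_hom m)
  obtain ⟨U, u, hu, hus⟩ := hsub.atlas
  let c := BasedFunctor.comp u j
  have hzlift : ∀ o : (FibCat.overCat Z).obj, Q (z.obj o) := fun o =>
    (Groth.Agent.AlgStLib.inSet_chart_iff gY O z o).2 fun t => hzO _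
  let z₀ := Groth.Agent.AlgStLib.liftSub Q z hzlift
  have hcpt : CompactSpace (AlgSt.Points (AlgSt.fullSub 𝒴 Q)) := by
    obtain ⟨W, x, h₁, h₂⟩ := h𝒴.atlas
    have hop := Groth.Agent.AlgStLib.isOpenMap_ofChart gY x (Groth.Agent.AlgStLib.repWith_flat_of_smooth h₁)
      (Groth.Agent.AlgStLib.repWith_lfp_of_smooth h₁)
    have hpre : IsOpen (AlgSt.Points.ofChart x ⁻¹' O) :=
      hOo.preimage (Groth.Agent.AlgStLib.continuous_ofChart h𝒴 x)
    let ι := {A : W.left.Opens // IsAffineOpen A ∧ (A : Set W.left) ⊆ AlgSt.Points.ofChart x ⁻¹' O}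
    obtain ⟨T, hT⟩ := hOc.elim_finite_subcover (fun A : ι => AlgSt.Points.ofChart x '' (A.1 : Set W.left))
      (fun A => hop _ A.1.isOpen) (fun q hq => by
        obtain ⟨w, rfl⟩ := Groth.Agent.AlgStLib.exists_point_of_surjective gY x h₂ q
        obtain ⟨A, hA, hwA, hle⟩ := TopologicalSpace.Opens.isBasis_iff_nbhd.mp W.left.isBasis_affineOpens
          (show w ∈ (⟨_, hpre⟩ : W.left.Opens) from hq)
        exact Set.mem_iUnion.mpr ⟨⟨A, hA, hle⟩, w, hwA, rfl⟩)
    refine ⟨?_⟩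
    have hpiece : ∀ A : ι, IsCompact (AlgSt.Points.map j ⁻¹' (AlgSt.Points.ofChart x '' (A.1 : Set W.left))) := by
      intro A
      let W' : Over S := Over.mk (A.1.ι ≫ W.hom)
      let d : W' ⟶ W := Over.homMk A.1.ι rfl
      haveI : IsAffine W'.left := A.2.1
      have hQ : ∀ o : (FibCat.overCat W').obj, Q ((BasedFunctor.comp (AlgSt.overMap d) x).obj o) := fun o =>
        (Groth.Agent.AlgStLib.inSet_chart_iff gY O x ((AlgSt.overMap d).obj o)).2 fun t =>
          A.2.2 (o.hom.left t).2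
      let x' := Groth.Agent.AlgStLib.liftSub Q (BasedFunctor.comp (AlgSt.overMap d) x) hQ
      have himg : AlgSt.Points.map j ⁻¹' (AlgSt.Points.ofChart x '' (A.1 : Set W.left)) =
          Set.range (AlgSt.Points.ofChart x') := by
        ext q
        constructor
        · rintro ⟨w, hw, e⟩
          refine ⟨(⟨w, hw⟩ : A.1), hinj ?_⟩
          rw [← e, Groth.Agent.AlgStLib.map_ofChart]
          exact Groth.Agent.AlgStLib.ofChart_overMap x d _
        · rintro ⟨w, rfl⟩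
          refine ⟨d.left w, w.2, ?_⟩
          rw [Groth.Agent.AlgStLib.map_ofChart]
          exact (Groth.Agent.AlgStLib.ofChart_overMap x d _).symm
      rw [himg]
      exact isCompact_range (Groth.Agent.AlgStLib.continuous_ofChart hsub x')
    convert T.isCompact_biUnion fun A _ => hpiece A
    refine (Set.eq_univ_of_forall fun q => ?_).symm
    have hq : AlgSt.Points.map j q ∈ O := by
      rw [← Groth.Agent.AlgStLib.range_subIncl_inSet O]; exact ⟨q, rfl⟩
    obtain ⟨A, hA⟩ := Set.mem_iUnion.1 (hT hq)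
    obtain ⟨hAT, hA⟩ := Set.mem_iUnion.1 hA
    exact Set.mem_biUnion hAT hA
  have hP := h _ hsub ((Groth.Agent.AlgStLib.isQuasiCompact_iff_compactSpace hsub).2 hcpt) j hj
  have hPas := Groth.Agent.AlgStLib.algFp h𝒴 hsub h𝒳 j f
  let k := BasedFunctor.comp (FibCat.fpFst j f) j
  have hz : AlgSt.IsQuasiCompactMor Scheme.fppfPrecoverage z :=
    Groth.Agent.AlgStLib.isQuasiCompactMor_of_comp (Groth.Agent.AlgStLib.isAlgStack_overCat Z) h𝒴
      Groth.Agent.AlgStLib.isAlgStack_self (g := FibCat.toSelf 𝒴)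
      (by rw [Groth.Agent.AlgStLib.comp_toSelf]; exact Groth.Agent.AlgStLib.isQuasiCompactMor_toSelf_overCat Z)
      (Groth.Agent.AlgStLib.repWith_mono h𝒴d fun _ _ _ _ ha => ha.2)
  have hR : AlgSt.IsQuasiCompact (FibCat.fp z k) :=
    Groth.Agent.AlgStLib.isQuasiCompact_swap h𝒴 hPas (Groth.Agent.AlgStLib.isAlgStack_overCat Z)
      (hz _ hPas hP k)
  let e : BasedFunctor.comp (FibCat.fpFst z k) z ≅
      BasedFunctor.comp (BasedFunctor.comp (FibCat.fpSnd z k) (FibCat.fpSnd j f)) f :=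
    FibCat.fpIso z k ≪≫ (Stk.restr (FibCat.fpSnd z k) _).mapIso (FibCat.fpIso j f)
  let L : FibCat.fp z k ⥤ᵇ FibCat.fp z f :=
    FibCat.fpLift (FibCat.fpFst z k) (BasedFunctor.comp (FibCat.fpSnd z k) (FibCat.fpSnd j f)) e
  refine Groth.Agent.AlgStLib.isQuasiCompact_of_isSurjective (f := L)
    (Groth.Agent.AlgStLib.algFp h𝒴 (Groth.Agent.AlgStLib.isAlgStack_overCat Z) hPas z k)
    (Groth.Agent.AlgStLib.algFp h𝒴 (Groth.Agent.AlgStLib.isAlgStack_overCat Z) h𝒳 z f) (fun q => ?_) hR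
  obtain ⟨T, P₀, t, rfl⟩ := Groth.Agent.AlgStLib.exists_ofChart
    (Groth.Agent.AlgStLib.algFp h𝒴 (Groth.Agent.AlgStLib.isAlgStack_overCat Z) h𝒳 z f).isStack.1 q
  let a := BasedFunctor.comp P₀ (FibCat.fpFst z f)
  let γ : BasedFunctor.comp (BasedFunctor.comp a z₀) j ≅
      BasedFunctor.comp (BasedFunctor.comp P₀ (FibCat.fpSnd z f)) f :=
    (Stk.restr P₀ _).mapIso (FibCat.fpIso z f)
  let P₁ := FibCat.fpLift (F := j) (G := f) (BasedFunctor.comp a z₀) (BasedFunctor.comp P₀ (FibCat.fpSnd z f)) γ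
  let P₂ := FibCat.fpLift (F := z) (G := k) a P₁ (Iso.refl (BasedFunctor.comp a z))
  refine ⟨AlgSt.Points.ofChart P₂ t, ?_⟩
  rw [Groth.Agent.AlgStLib.map_ofChart]
  refine Groth.Agent.AlgStLib.ofChart_congr (Groth.Agent.AlgStLib.fpExt (a := BasedFunctor.comp P₂ L) (b := P₀)
    (Iso.refl _) (Iso.refl _) fun o => ?_) t
  show z.map (𝟙 _) ≫ (P₀.obj o).obj.iso.hom = (𝟙 _ ≫ (P₀.obj o).obj.iso.hom) ≫ f.map (𝟙 _)
  rw [z.toFunctor.map_id, f.toFunctor.map_id, Category.comp_id]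

end Groth.Agent.S15482
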