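import Groth.Statements.S15488
import Mathlib

set_option autoImplicit false
universe u
open IsoNat

namespace Groth.Agent.S15488

/-- Let A be a nontrivial commutative ring, G a finite group, g an element of G of order ν and l an
element of A with l ^ ν = 1. In the free A-module of functions G → A (the regular representation, g
acting by translation v ↦ v(g·)), the submodule of v with v(g h) = l v(h) for all h is a direct
summand, free of rank |G| / ν (stated as: free, rank · ν = |G|, and a complementary submodule
exists). (The published statement is over an arbitrary ring and also covers Hom(A^N, −) of the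
regular representation, which follows; nontriviality of A is needed for the rank to be meaningful.) -/
theorem result
    (A : Type u) [CommRing A] [Nontrivial A] (G : Type u) [Group G] [Finite G]
    (g : G) (l : A) (hl : l ^ orderOf g = 1) :
    Module.Free A (LinearMap.ker (LinearMap.funLeft A A (fun h : G => g * h) - l • LinearMap.id)) ∧
      Module.finrank A (LinearMap.ker (LinearMap.funLeft A A (fun h : G => g * h) - l • LinearMap.id)) * orderOf g = Nat.card G ∧
      ∃ E' : Submodule A (G → A), IsCompl (LinearMap.ker (LinearMap.funLeft A A (fun h : G => g * h) - l • LinearMap.id)) E' := by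
  classical
  haveI := Fintype.ofFinite G
  set F := LinearMap.ker (LinearMap.funLeft A A (fun h : G => g * h) - l • LinearMap.id) with hF
  have hmem : ∀ v : G → A, v ∈ F ↔ ∀ h, v (g * h) = l * v h := by
    intro v
    rw [hF, LinearMap.mem_ker, funext_iff]
    refine forall_congr' fun h => ?_
    show v (g * h) - l * v h = 0 ↔ _
    exact sub_eq_zero
  let H := Subgroup.zpowers g
  let Q := Quotient (QuotientGroup.rightRel H)
  let qm : G → Q := Quotient.mk _
  let rep : Q → G := Quotient.out
  have hex : ∀ h : G, ∃ i : ℕ, h = g ^ i * rep (qm h) := by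
    intro h
    have h1 : QuotientGroup.rightRel H (rep (qm h)) h := Quotient.mk_out (s := QuotientGroup.rightRel H) h
    rw [QuotientGroup.rightRel_apply] at h1
    obtain ⟨i, hi⟩ := ((isOfFinOrder_of_finite g).mem_powers_iff_mem_zpowers).mpr h1
    exact ⟨i, by rw [show g ^ i = h * (rep (qm h))⁻¹ from hi, inv_mul_cancel_right]⟩
  choose idx hidx using hex
  have hqm : ∀ h, qm (g * h) = qm h := by
    intro h
    apply Quotient.sound
    show QuotientGroup.rightRel H _ _
    rw [QuotientGroup.rightRel_apply]
    simp [H]
  have hmod : ∀ a b : ℕ, g ^ a = g ^ b → l ^ a = l ^ b := by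
    intro a b hab
    rw [← Nat.div_add_mod a (orderOf g), ← Nat.div_add_mod b (orderOf g), pow_add, pow_add, pow_mul,
      pow_mul, hl, one_pow, one_pow, one_mul, one_mul, pow_eq_pow_iff_modEq.mp hab]
  let ext : (Q → A) →ₗ[A] (G → A) :=
    { toFun := fun w h => l ^ idx h * w (qm h)
      map_add' := fun a b => by funext h; simp [mul_add]
      map_smul' := fun c a => by funext h; simp [mul_left_comm] }
  have hextF : ∀ w, ext w ∈ F := by
    intro w
    rw [hmem]
    intro h
    show l ^ idx (g * h) * w (qm (g * h)) = l * (l ^ idx h * w (qm h))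
    rw [hqm, ← mul_assoc, ← pow_succ']
    congr 1
    apply hmod
    have h1 := hidx (g * h)
    rw [hqm] at h1
    have h2 := hidx h
    rw [pow_succ', ← mul_right_cancel_iff (a := rep (qm h)), mul_assoc, ← h2, ← h1]
  have hqrep : ∀ q, qm (rep q) = q := fun q => Quotient.out_eq q
  have hidx0 : ∀ q, l ^ idx (rep q) = 1 := by
    intro q
    rw [← pow_zero l]
    apply hmod
    have := hidx (rep q)
    rw [hqrep] at this
    rw [pow_zero]
    exact mul_eq_right.mp this.symm
  have hiter : ∀ v ∈ F, ∀ (i : ℕ) h, v (g ^ i * h) = l ^ i * v h := by
    intro v hv i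
    induction i with
    | zero => simp
    | succ i ih => intro h; rw [pow_succ', mul_assoc, (hmem v).mp hv, ih, pow_succ', mul_assoc]
  let e : (Q → A) ≃ₗ[A] F := LinearEquiv.ofBijective (ext.codRestrict F hextF) ⟨fun a b hab => by
      funext q
      have := congrFun (congrArg Subtype.val hab) (rep q)
      change l ^ idx (rep q) * a (qm (rep q)) = l ^ idx (rep q) * b (qm (rep q)) at this
      rwa [hidx0, one_mul, one_mul, hqrep] at this,
    fun v => ⟨fun q => (v : G → A) (rep q), Subtype.ext (funext fun h => by
      show l ^ idx h * (v : G → A) (rep (qm h)) = (v : G → A) h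
      rw [← hiter v v.2, ← hidx])⟩⟩
  haveI : Module.Free A F := Module.Free.of_equiv e
  refine ⟨inferInstance, ?_, ?_⟩
  · haveI : Fintype Q := Fintype.ofFinite Q
    rw [← e.finrank_eq, Module.finrank_fintype_fun_eq_card, ← Nat.card_eq_fintype_card,
      ← Nat.card_zpowers g]
    have hQ : Nat.card Q = H.index :=
      (Nat.card_congr (QuotientGroup.quotientRightRelEquivQuotientLeftRel H)).trans rfl
    rw [hQ]
    exact H.index_mul_card
  · refine ⟨LinearMap.ker (LinearMap.funLeft A A rep), ?_⟩
    constructor
    · rw [Submodule.disjoint_def]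
      intro v hv hv0
      funext h
      rw [hidx h, hiter v hv]
      have : v (rep (qm h)) = 0 := congrFun hv0 (qm h)
      rw [this, mul_zero]; rfl
    · rw [codisjoint_iff, eq_top_iff]
      rintro v -
      rw [← add_sub_cancel (ext fun q => v (rep q)) v]
      refine Submodule.add_mem_sup (hextF _) ?_
      funext q
      show v (rep q) - l ^ idx (rep q) * v (rep (qm (rep q))) = 0
      rw [hidx0, hqrep, one_mul, sub_self]

end Groth.Agent.S15488
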