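import Groth.Statements.S15491


set_option autoImplicit false
universe v u
open CategoryTheory CategoryTheory.Functor
open IsoNat

namespace Groth.Agent.S15491

/-- Pasting of 2-cartesian squares, stated in the 2-category of categories. Consider functors t : A → B,
t' : A' → B', t'' : A'' → B'' and l : A → A', r : B → B', l' : A' → A'', r' : B' → B'' with natural
isomorphisms e₁ : t ⋙ r ≅ l ⋙ t' and e₂ : t' ⋙ r' ≅ l' ⋙ t''. If the lower square (t', l', r', t'',
e₂) is 2-cartesian (its comparison functor to the 2-fibre product is an equivalence), then the upper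
square (t, l, r, t', e₁) is 2-cartesian if and only if the outer rectangle (t, l ⋙ l', r ⋙ r', t'')
with the pasted isomorphism is. (The published statement is for an arbitrary 2-category whose
2-morphisms are invertible; this row is the case of categories, functors and natural isomorphisms.) -/
theorem result
    {A B A' B' A'' B'' : Type u} [Category.{v} A] [Category.{v} B] [Category.{v} A'] [Category.{v} B']
    [Category.{v} A''] [Category.{v} B'']
    (t : A ⥤ B) (l : A ⥤ A') (r : B ⥤ B') (t' : A' ⥤ B') (l' : A' ⥤ A'') (r' : B' ⥤ B'') (t'' : A'' ⥤ B'')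
    (e₁ : t ⋙ r ≅ l ⋙ t') (e₂ : t' ⋙ r' ≅ l' ⋙ t'')
    (h₂ : FibCat.IsTwoCart t' l' r' t'' e₂) :
    FibCat.IsTwoCart t l r t' e₁ ↔
      FibCat.IsTwoCart t (l ⋙ l') (r ⋙ r') t''
        ((Functor.associator t r r').symm ≪≫ isoWhiskerRight e₁ r' ≪≫ Functor.associator l t' r' ≪≫
          isoWhiskerLeft l e₂ ≪≫ (Functor.associator l l' t'').symm) := by
  open CategoryTheory.Limits in
  let Φ₂ := (CategoricalPullback.CatCommSqOver.toFunctorToCategoricalPullback r' t'' A').obj ⟨t', l', e₂⟩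
  open CategoryTheory.Limits in
  let Φ₁ := (CategoricalPullback.CatCommSqOver.toFunctorToCategoricalPullback r t' A).obj ⟨t, l, e₁⟩
  open CategoryTheory.Limits in
  let K : CategoricalPullback r t' ⥤ CategoricalPullback (r ⋙ r') t'' :=
    { obj := fun o => ⟨o.fst, l'.obj o.snd, r'.mapIso o.iso ≪≫ e₂.app o.snd⟩
      map := fun {o o'} m => ⟨m.fst, l'.map m.snd, by
        show r'.map (r.map m.fst) ≫ r'.map o'.iso.hom ≫ e₂.hom.app o'.snd =
          (r'.map o.iso.hom ≫ e₂.hom.app o.snd) ≫ t''.map (l'.map m.snd)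
        rw [← r'.map_comp_assoc, m.w, r'.map_comp, Category.assoc, Category.assoc]
        exact congrArg (fun k => r'.map o.iso.hom ≫ k) (e₂.hom.naturality m.snd)⟩
      map_id := fun o => CategoricalPullback.hom_ext rfl (l'.map_id _)
      map_comp := fun f g => CategoricalPullback.hom_ext rfl (l'.map_comp _ _) }
  haveI : Φ₂.IsEquivalence := h₂
  haveI : K.Faithful := ⟨fun {o o'} m m' h => by
    have hf : m.fst = m'.fst := congrArg (fun k => k.fst) h
    have hs : l'.map m.snd = l'.map m'.snd := congrArg (fun k => k.snd) h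
    have ht : t'.map m.snd = t'.map m'.snd := by
      rw [← cancel_epi o.iso.hom, ← m.w, ← m'.w, hf]
    exact CategoryTheory.Limits.CategoricalPullback.hom_ext hf
      (Φ₂.map_injective (CategoryTheory.Limits.CategoricalPullback.hom_ext ht hs))⟩
  haveI : K.Full := ⟨fun {o o'} m => by
    have hw : r'.map (r.map m.fst) ≫ r'.map o'.iso.hom ≫ e₂.hom.app o'.snd =
        (r'.map o.iso.hom ≫ e₂.hom.app o.snd) ≫ t''.map m.snd := m.w
    let n : Φ₂.obj o.snd ⟶ Φ₂.obj o'.snd := ⟨o.iso.inv ≫ r.map m.fst ≫ o'.iso.hom, m.snd, by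
      show r'.map (o.iso.inv ≫ r.map m.fst ≫ o'.iso.hom) ≫ e₂.hom.app o'.snd = e₂.hom.app o.snd ≫ t''.map m.snd
      rw [r'.map_comp, r'.map_comp, Category.assoc, Category.assoc, hw]
      simp [← r'.map_comp_assoc]⟩
    obtain ⟨k, hk⟩ := Φ₂.map_surjective n
    have h1 : t'.map k = o.iso.inv ≫ r.map m.fst ≫ o'.iso.hom := congrArg (fun q => q.fst) hk
    refine ⟨⟨m.fst, k, by rw [h1, o.iso.hom_inv_id_assoc]⟩,
      CategoryTheory.Limits.CategoricalPullback.hom_ext rfl (congrArg (fun q => q.snd) hk :)⟩⟩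
  haveI : K.EssSurj := ⟨fun o => by
    open CategoryTheory.Limits in
    let o' : CategoricalPullback r' t'' := ⟨r.obj o.fst, o.snd, o.iso⟩
    let u := Φ₂.objObjPreimageIso o'
    open CategoryTheory.Limits in
    let u₁ : t'.obj (Φ₂.objPreimage o') ≅ r.obj o.fst := (CategoricalPullback.π₁ r' t'').mapIso u
    open CategoryTheory.Limits in
    let u₂ : l'.obj (Φ₂.objPreimage o') ≅ o.snd := (CategoricalPullback.π₂ r' t'').mapIso u
    have hu : r'.map u₁.hom ≫ o.iso.hom = e₂.hom.app (Φ₂.objPreimage o') ≫ t''.map u₂.hom := u.hom.w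
    refine ⟨⟨o.fst, Φ₂.objPreimage o', u₁.symm⟩, ⟨?_⟩⟩
    refine CategoryTheory.Limits.CategoricalPullback.mkIso (Iso.refl _) u₂ ?_
    show r'.map (r.map (𝟙 o.fst)) ≫ o.iso.hom =
      (r'.map u₁.inv ≫ e₂.hom.app (Φ₂.objPreimage o')) ≫ t''.map u₂.hom
    rw [r.map_id, r'.map_id, Category.id_comp, Category.assoc, ← hu, ← r'.map_comp_assoc,
      Iso.inv_hom_id, r'.map_id, Category.id_comp]⟩
  haveI : K.IsEquivalence := { }
  open CategoryTheory.Limits in
  let E : Φ₁ ⋙ K ≅ (CategoricalPullback.CatCommSqOver.toFunctorToCategoricalPullback (r ⋙ r') t'' A).obj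
      ⟨t, l ⋙ l', (Functor.associator t r r').symm ≪≫ isoWhiskerRight e₁ r' ≪≫ Functor.associator l t' r' ≪≫
          isoWhiskerLeft l e₂ ≪≫ (Functor.associator l l' t'').symm⟩ :=
    NatIso.ofComponents (fun a => CategoricalPullback.mkIso (Iso.refl _) (Iso.refl _) (by
        show r'.map (r.map (𝟙 (t.obj a))) ≫ (𝟙 _ ≫ r'.map (e₁.hom.app a) ≫ 𝟙 _ ≫ e₂.hom.app (l.obj a) ≫ 𝟙 _) =
          (r'.map (e₁.hom.app a) ≫ e₂.hom.app (l.obj a)) ≫ t''.map (𝟙 (l'.obj (l.obj a)))
        simp))
      (fun f => CategoricalPullback.hom_ext (by show t.map f ≫ 𝟙 _ = 𝟙 _ ≫ t.map f; simp)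
        (by show l'.map (l.map f) ≫ 𝟙 _ = 𝟙 _ ≫ l'.map (l.map f); simp))
  constructor
  · intro h
    haveI : Φ₁.IsEquivalence := h
    exact Functor.isEquivalence_of_iso E
  · intro h
    open CategoryTheory.Limits in
    haveI : ((CategoricalPullback.CatCommSqOver.toFunctorToCategoricalPullback (r ⋙ r') t'' A).obj ⟨t, l ⋙ l', (Functor.associator t r r').symm ≪≫ isoWhiskerRight e₁ r' ≪≫ Functor.associator l t' r' ≪≫ isoWhiskerLeft l e₂ ≪≫ (Functor.associator l l' t'').symm⟩).IsEquivalence := h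
    haveI : (Φ₁ ⋙ K).IsEquivalence := Functor.isEquivalence_of_iso E.symm
    exact Functor.isEquivalence_of_comp_right Φ₁ K

end Groth.Agent.S15491
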