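import Groth.Statements.S15492
import Groth.Agent.IsoNatLib.Transport
import Groth.Agent.AlgStLib.OpenSub
-- import your own Groth.Agent.* helpers here

set_option autoImplicit false
set_option backward.isDefEq.respectTransparency false
set_option backward.isDefEq.respectTransparency.types false
universe u
open CategoryTheory AlgebraicGeometry
open IsoNat

namespace Groth.Agent.S15492

/-- Open subfunctors of the presheaf of isomorphism classes come from open substacks. Let 𝒴 be an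
algebraic stack over a quasi-separated scheme S and W a subfunctor of its presheaf of isomorphism
classes — a set W(T) of isomorphism classes over each T, stable under pullback — which is open: for
every object x over T there is an open subscheme V of T such that a pullback of x along g : T' → T
has class in W(T') exactly when g factors through V. Then the strictly full subcategory of 𝒴 on the
objects whose class lies in W is an open substack (the converse direction, that an open substack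
gives an open subfunctor, is immediate from the definitions, and the two constructions are mutually
inverse). Here an algebraic stack over a quasi-separated scheme S means a stack in groupoids for the
fppf topology with a smooth surjective atlas from a scheme, whose diagonal is representable by
separated quasi-compact morphisms of algebraic spaces and whose inertia is locally of finite
presentation over it. (The published statement is for an arbitrary stack; this row takes 𝒴
algebraic.) -/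
theorem result
    (S : Scheme.{u}) [QuasiSeparatedSpace S]
    (𝒴 : AlgSt.Cat S)
    (h𝒴 : AlgSt.IsAlgStack Scheme.fppfPrecoverage 𝒴)
    (h𝒴d : AlgSt.RepByAlgSpWith (AlgSp.IsSeparatedMor ⊓ AlgSp.IsQuasiCompactMor)
      (FibCat.diag (FibCat.toSelf 𝒴)))
    (h𝒴i : AlgSt.RepByAlgSpWith (AlgSp.LocP @LocallyOfFinitePresentation)
      (FibCat.inertiaToBase (FibCat.toSelf 𝒴)))
    (W : ∀ T : Over S, Set (IsoNat.IsoCl 𝒴 T))
    (hWpull : ∀ (T' T : Over S) (g : T' ⟶ T) (x' : 𝒴.p.Fiber T') (x : 𝒴.p.Fiber T) (a : x'.1 ⟶ x.1),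
      𝒴.p.IsHomLift g a → IsoNat.cls x ∈ W T → IsoNat.cls x' ∈ W T')
    (hWopen : ∀ (T : Over S) (x : 𝒴.p.Fiber T), ∃ V : T.left.Opens,
      ∀ (T' : Over S) (g : T' ⟶ T) (x' : 𝒴.p.Fiber T') (a : x'.1 ⟶ x.1), 𝒴.p.IsHomLift g a →
        (IsoNat.cls x' ∈ W T' ↔ ∃ g' : T'.left ⟶ ↑V, g' ≫ V.ι = g.left)) :
    AlgSt.IsOpenSubstack 𝒴 (fun η => IsoNat.cls (⟨η, rfl⟩ : 𝒴.p.Fiber (𝒴.p.obj η)) ∈ W (𝒴.p.obj η))
      Scheme.fppfPrecoverage := by
  have gY := h𝒴.isStack.1
  let Q : 𝒴.obj → Prop := fun η => IsoNat.cls (⟨η, rfl⟩ : 𝒴.p.Fiber (𝒴.p.obj η)) ∈ W (𝒴.p.obj η)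
  have hQ : ∀ (T : Over S) (x : 𝒴.p.Fiber T), Q x.1 ↔ IsoNat.cls x ∈ W T := by
    rintro T ⟨η, rfl⟩
    exact Iff.rfl
  have hdown : ∀ {η η' : 𝒴.obj}, (η' ⟶ η) → Q η → Q η' := fun {η η'} m h =>
    hWpull _ _ (𝒴.p.map m) ⟨η', rfl⟩ ⟨η, rfl⟩ m (IsHomLift.map 𝒴.p m) h
  have hup : ∀ {η η' : 𝒴.obj}, Nonempty ↥(𝒴.p.obj η').left → Subsingleton ↥(𝒴.p.obj η).left →
      (η' ⟶ η) → Q η' → Q η := by
    intro η η' hne hsub m h
    obtain ⟨V, hV⟩ := hWopen _ ⟨η, rfl⟩
    obtain ⟨g', -⟩ := (hV _ (𝒴.p.map m) ⟨η', rfl⟩ m (IsHomLift.map 𝒴.p m)).1 h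
    obtain ⟨t⟩ := hne
    have htop : V = ⊤ := top_le_iff.1 fun s _ => by
      rw [Subsingleton.elim s (V.ι (g' t))]
      exact (g' t).2
    refine (hV _ (𝟙 _) ⟨η, rfl⟩ (𝟙 η) inferInstance).2 ?_
    subst htop
    exact ⟨(𝒴.p.obj η).left.topIso.inv, by simp⟩
  let O : Set (AlgSt.Points 𝒴) := {q | ∃ p : AlgSt.FPt 𝒴, Q p.obj ∧ AlgSt.Points.mk p = q}
  have hO : ∀ p : AlgSt.FPt 𝒴, AlgSt.Points.mk p ∈ O ↔ Q p.obj := by
    refine fun p => ⟨?_, fun h => ⟨p, h, rfl⟩⟩
    rintro ⟨p', h, e⟩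
    obtain ⟨r, a, b, -⟩ := (Groth.Agent.AlgStLib.mk_eq_iff gY).1 e
    exact hup (Groth.Agent.AlgStLib.nonempty_pt r) (Groth.Agent.AlgStLib.subsingleton_pt p) b (hdown a h)
  have hchart : ∀ (U : Over S) (y : FibCat.overCat U ⥤ᵇ 𝒴), ∃ V : U.left.Opens,
      (∀ t : ↥U.left, AlgSt.Points.ofChart y t ∈ O ↔ t ∈ V) ∧
      (V = ⊤ → Q (y.obj (Over.mk (𝟙 U)))) := by
    intro U y
    let x : 𝒴.p.Fiber U := ⟨y.obj (Over.mk (𝟙 U)), y.w_obj _⟩
    obtain ⟨V, hV⟩ := hWopen U x
    refine ⟨V, fun t => ?_, fun hVtop => ?_⟩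
    · let K : Over S := Over.mk (U.left.fromSpecResidueField t ≫ U.hom)
      let g : K ⟶ U := Over.homMk (U.left.fromSpecResidueField t) rfl
      let A : Over U := Over.mk g
      let m : A ⟶ Over.mk (𝟙 U) := Over.homMk g (Category.comp_id _)
      haveI : (FibCat.overCat U).p.IsHomLift g m := IsHomLift.of_fac' _ _ _ rfl rfl (by simp [m]; rfl)
      have hm : 𝒴.p.IsHomLift g (y.map m) := BasedFunctor.preserves_isHomLift y g m
      have e := hV K g ⟨y.obj A, y.w_obj A⟩ (y.map m) hm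
      rw [← hQ] at e
      refine (hO _).trans (e.trans ⟨?_, fun ht => ?_⟩)
      · rintro ⟨g', hg'⟩
        have h1 := congrArg (fun φ : K.left ⟶ U.left => φ (IsLocalRing.closedPoint (U.left.residueField t))) hg'
        have h2 : V.ι (g' (IsLocalRing.closedPoint (U.left.residueField t))) = t :=
          (h1 : _).trans (Scheme.fromSpecResidueField_apply t (IsLocalRing.closedPoint (U.left.residueField t)))
        rw [← h2]
        exact (g' _).2
      · refine ⟨IsOpenImmersion.lift V.ι g.left ?_, IsOpenImmersion.lift_fac _ _ _⟩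
        rintro _ ⟨s, rfl⟩
        rw [Scheme.Opens.range_ι]
        show U.left.fromSpecResidueField t s ∈ V
        rwa [Scheme.fromSpecResidueField_apply]
    · subst hVtop
      exact (hQ U x).2 ((hV U (𝟙 U) x (𝟙 x.1) (IsHomLift.id x.2)).2 ⟨U.left.topIso.inv, by simp⟩)
  have hopen : IsOpen O := AlgSt.Points.isOpen_iff.2 fun U y _ => by
    obtain ⟨V, hV, -⟩ := hchart U y
    convert V.isOpen using 1
    exact Set.ext hV
  have hQO : (fun η => Q η) = Groth.Agent.AlgStLib.InSet O := by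
    funext η
    refine propext ⟨fun h p ⟨m⟩ => (hO p).2 (hdown m h), fun h => ?_⟩
    obtain ⟨y, hy⟩ := Groth.Agent.IsoNatLib.exists_objCls gY (IsoNat.cls (⟨η, rfl⟩ : 𝒴.p.Fiber (𝒴.p.obj η)))
    obtain ⟨e⟩ := Quotient.exact hy
    obtain ⟨V, hV, hVQ⟩ := hchart _ y
    have hin : Groth.Agent.AlgStLib.InSet O (y.obj (Over.mk (𝟙 _))) := h.of_hom e.hom.1
    refine hdown e.inv.1 (hVQ (top_le_iff.1 fun t _ => ?_))
    exact (hV t).1 ((Groth.Agent.AlgStLib.inSet_chart_iff gY O y (Over.mk (𝟙 _))).1 hin t)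
  show AlgSt.IsOpenSubstack 𝒴 (fun η => Q η) Scheme.fppfPrecoverage
  rw [hQO]
  exact Groth.Agent.AlgStLib.isOpenSubstack_inSet h𝒴 hopen

end Groth.Agent.S15492
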