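import Groth.Statements.S15495
import Mathlib.RingTheory.Artinian.Ring
import Mathlib.Data.Nat.Choose.Sum
import Mathlib.Data.Nat.Choose.Dvd
import Mathlib.Data.Nat.Prime.Basic
import Mathlib.RingTheory.Ideal.Operations

set_option autoImplicit false
universe u
open CAlg

namespace Groth.Agent.S15495

/-- In an Artinian local ring R whose maximal ideal m contains the prime number p, the multiplicative
group 1 + m is annihilated under some power of p: there is n with (1 + x)^(p^n) = 1 for every x in
m. (The published text makes this assertion inside a proof, for Artinian local algebras over the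
Witt ring of a perfect field of characteristic p; only p ∈ m and the nilpotence of m are used.) -/
theorem result
    (R : Type u) [CommRing R] [IsLocalRing R] [IsArtinianRing R]
    (p : ℕ) (hp : p.Prime) (hpm : (p : R) ∈ IsLocalRing.maximalIdeal R) :
    ∃ n : ℕ, ∀ x ∈ IsLocalRing.maximalIdeal R, (1 + x) ^ (p ^ n) = 1 := by
  obtain ⟨N, hN⟩ := IsArtinianRing.isNilpotent_jacobson_bot (R := R)
  rw [IsLocalRing.jacobson_eq_maximalIdeal _ bot_ne_top] at hN
  let m := IsLocalRing.maximalIdeal R
  have key : ∀ i : ℕ, ∀ x ∈ m, (1 + x) ^ (p ^ i) - 1 ∈ m ^ (i + 1) := by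
    intro i
    induction i with
    | zero => intro x hx; simpa using hx
    | succ i ih =>
      intro x hx
      set y := (1 + x) ^ p ^ i - 1 with hy
      have hym : y ∈ m := Ideal.pow_le_self (Nat.succ_ne_zero i) (ih x hx)
      rw [show (1 + x) ^ p ^ (i + 1) = (y + 1) ^ p by rw [hy, sub_add_cancel, ← pow_mul, pow_succ]]
      rw [add_pow, Finset.sum_range_succ', show y ^ 0 * 1 ^ (p - 0) * (p.choose 0 : R) = 1 by simp, add_sub_cancel_right]
      refine sum_mem fun j hj => ?_
      rw [Finset.mem_range] at hj
      rcases Nat.eq_or_lt_of_le (Nat.succ_le_of_lt hj) with he | hlt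
      · rw [show j + 1 = p from he]
        refine Ideal.mul_mem_right _ _ (Ideal.mul_mem_right _ _ ?_)
        have h := Ideal.pow_mem_pow (ih x hx) p
        rw [← pow_mul] at h
        refine Ideal.pow_le_pow_right ?_ h
        have := hp.two_le
        calc i + 1 + 1 ≤ (i + 1) * 2 := by omega
          _ ≤ (i + 1) * p := Nat.mul_le_mul_left _ this
      · obtain ⟨c, hc⟩ := hp.dvd_choose_self (Nat.succ_ne_zero j) hlt
        rw [hc, Nat.cast_mul, one_pow, mul_one, pow_succ y j, pow_succ m (i + 1), mul_assoc]
        refine Ideal.mul_mem_left _ _ (Ideal.mul_mem_mul (ih x hx) ?_)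
        exact Ideal.mul_mem_right _ _ hpm
  refine ⟨N, fun x hx => sub_eq_zero.1 ?_⟩
  have := Ideal.pow_le_pow_right (I := m) (Nat.le_succ N) (key N x hx)
  rw [show m ^ N = ⊥ from hN] at this
  exact this

end Groth.Agent.S15495
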