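import Groth.Statements.S15496
import Mathlib.RingTheory.LocalRing.ResidueField.Basic
import Mathlib.Algebra.CharP.Basic
import Mathlib.Algebra.CharP.Lemmas

set_option autoImplicit false
universe u
open CAlg

namespace Groth.Agent.S15496

/-- Let R be a local ring with maximal ideal m, p a prime number lying in m, and suppose the residue
field of R is perfect, i.e. every element is a p-th power; let n ≥ 0. Then every unit of R is the
product of a p^n-th power of a unit and an element of 1 + m, and an element of 1 + m which is a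
p^n-th power of a unit is a p^n-th power of an element of 1 + m; so the inclusion of 1 + m in the
unit group induces a bijection between (1 + m)/(1 + m)^(p^n) and Rˣ/(Rˣ)^(p^n). (The published text
derives this equality of quotients, inside a proof, from perfectness of the base field K for all
Artinian local algebras over its Witt ring, whose residue fields need not be perfect; this row
assumes the residue field of R perfect of characteristic p, which the equality needs, and does not
assume R Artinian.) -/
theorem result
    (R : Type u) [CommRing R] [IsLocalRing R] (p : ℕ) (hp : p.Prime)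
    (hpm : (p : R) ∈ IsLocalRing.maximalIdeal R)
    (hperf : ∀ a : IsLocalRing.ResidueField R, ∃ b : IsLocalRing.ResidueField R, b ^ p = a)
    (n : ℕ) :
    (∀ u : Rˣ, ∃ v : Rˣ, ∃ x ∈ IsLocalRing.maximalIdeal R, (u : R) = (v : R) ^ (p ^ n) * (1 + x)) ∧
    (∀ x ∈ IsLocalRing.maximalIdeal R, (∃ v : Rˣ, (v : R) ^ (p ^ n) = 1 + x) →
      ∃ y ∈ IsLocalRing.maximalIdeal R, (1 + y) ^ (p ^ n) = 1 + x) := by
  set q := p ^ n
  have hroot : ∀ a : IsLocalRing.ResidueField R, ∀ k : ℕ, ∃ b, b ^ (p ^ k) = a := by
    intro a k
    induction k with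
    | zero => exact ⟨a, by rw [pow_zero, pow_one]⟩
    | succ k ih =>
      obtain ⟨b, hb⟩ := ih
      obtain ⟨c, hc⟩ := hperf b
      exact ⟨c, by rw [pow_succ', pow_mul, hc, hb]⟩
  refine ⟨fun u => ?_, fun x hx ⟨v, hv⟩ => ?_⟩
  · obtain ⟨b, hb⟩ := hroot (IsLocalRing.residue R u) n
    obtain ⟨w, rfl⟩ := IsLocalRing.residue_surjective b
    have hw : IsUnit w := by
      by_contra hw
      have h0 : IsLocalRing.residue R w = 0 := (IsLocalRing.residue_eq_zero_iff w).2 hw
      rw [h0, zero_pow (pow_ne_zero _ hp.ne_zero), eq_comm, IsLocalRing.residue_eq_zero_iff] at hb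
      exact hb u.isUnit
    obtain ⟨v, rfl⟩ := hw
    refine ⟨v, (u : R) * ((v⁻¹ : Rˣ) : R) ^ q - 1, ?_, ?_⟩
    · rw [← IsLocalRing.residue_eq_zero_iff, map_sub, map_mul, map_pow, map_one, ← hb, ← mul_pow, ← map_mul,
        Units.mul_inv, map_one, one_pow, sub_self]
    · rw [add_sub_cancel, mul_left_comm, ← mul_pow, Units.mul_inv, one_pow, mul_one]
  · refine ⟨(v : R) - 1, ?_, by rw [add_sub_cancel]; exact hv⟩
    haveI : Fact p.Prime := ⟨hp⟩
    haveI : CharP (IsLocalRing.ResidueField R) p := by
      rw [CharP.charP_iff_prime_eq_zero hp, ← map_natCast (IsLocalRing.residue R), IsLocalRing.residue_eq_zero_iff]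
      exact hpm
    have h := congrArg (IsLocalRing.residue R) hv
    rw [map_pow, map_add, map_one, (IsLocalRing.residue_eq_zero_iff x).2 hx, add_zero] at h
    rw [← IsLocalRing.residue_eq_zero_iff, map_sub, map_one]
    apply eq_zero_of_pow_eq_zero (n := q)
    rw [sub_pow_char_pow, h, one_pow, sub_self]

end Groth.Agent.S15496
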