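import Groth.Statements.S15498
import Mathlib

set_option autoImplicit false
open NewtonPoly

namespace Groth.Agent.S15498

/-- Let m, n ≥ 1 be coprime, h = m + n, δ the segment from (0,0) to (h,m) (the isoclinic Newton polygon
of slope m/h) and ρ the ordinary polygon with n slopes 0 followed with m slopes 1, so ρ(i) = max(0,
i − n). The integer points (i,j), 0 ≤ i ≤ h, on or above ρ and strictly below δ — that is max(0, i −
n) ≤ j and j·h < i·m — are (m−1)(n−1)/2 + (m+n−1) in number (which equals mn − r for r =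
(m−1)(n−1)/2). (The published text works under m ≥ n > 0 coprime; the inequality m ≥ n is not used
and not assumed.) -/
theorem result
    (m n : ℕ) (hm : 0 < m) (hn : 0 < n) (hmn : Nat.Coprime m n) :
    ((Finset.range (m + n + 1) ×ˢ Finset.range (m + 1)).filter
      (fun ij : ℕ × ℕ => ij.1 ≤ ij.2 + n ∧ ij.2 * (m + n) < ij.1 * m)).card
      = (m - 1) * (n - 1) / 2 + (m + n - 1) := by
  classical
  let S := ∑ k ∈ Finset.Ico 1 n, k * m / n
  have hS : 2 * S = (m - 1) * (n - 1) := by
    have hpair : ∀ k ∈ Finset.Ico 1 n, k * m / n + (n - k) * m / n = m - 1 := by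
      intro k hk
      obtain ⟨hk1, hk2⟩ := Finset.mem_Ico.1 hk
      have hr : k * m % n ≠ 0 := fun h0 => by
        have h1 : n ∣ k * m := Nat.dvd_of_mod_eq_zero h0
        have := Nat.le_of_dvd hk1 ((Nat.Coprime.dvd_of_dvd_mul_right hmn.symm h1))
        omega
      have hlt := Nat.mod_lt (k * m) hn
      have hdm := Nat.div_add_mod (k * m) n
      have hsum : k * m + (n - k) * m = n * m := by rw [← add_mul, Nat.add_sub_cancel' hk2.le]
      have hq : k * m / n < m := (Nat.div_lt_iff_lt_mul hn).2 (by nlinarith)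
      have heq : (n - k) * m = n * (m - 1 - k * m / n) + (n - k * m % n) := by
        zify [hlt.le, hq, show 1 ≤ m from hm, show k * m / n ≤ m - 1 by omega, hk2.le] at hdm hsum ⊢
        linarith
      have hd2 : (n - k) * m / n = m - 1 - k * m / n := by
        rw [heq, Nat.mul_add_div hn, Nat.div_eq_of_lt (show n - k * m % n < n by omega), add_zero]
      omega
    have hrefl : ∑ k ∈ Finset.Ico 1 n, (n - k) * m / n = S := by
      refine Finset.sum_nbij' (fun k => n - k) (fun k => n - k) ?_ ?_ ?_ ?_ ?_ <;> intro a ha <;>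
        simp only [Finset.mem_Ico, Finset.mem_coe] at ha ⊢ <;> try omega
    calc 2 * S = ∑ k ∈ Finset.Ico 1 n, (k * m / n + (n - k) * m / n) := by
          rw [Finset.sum_add_distrib, hrefl, two_mul]
      _ = (m - 1) * (n - 1) := by
          rw [Finset.sum_congr rfl hpair, Finset.sum_const, Nat.card_Ico, smul_eq_mul, mul_comm]
  let T := (Finset.Ico 1 n).sigma fun k => Finset.range (k * m / n + 1)
  have hcard : T.card = S + (n - 1) := by
    simp only [T, S, Finset.card_sigma, Finset.card_range, Finset.sum_add_distrib, Finset.sum_const, Nat.card_Ico,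
      smul_eq_mul, mul_one]
  have hmain : ((Finset.range (m + n + 1) ×ˢ Finset.range (m + 1)).filter
      (fun ij : ℕ × ℕ => ij.1 ≤ ij.2 + n ∧ ij.2 * (m + n) < ij.1 * m)) =
      T.image (fun x => (x.1 + x.2, x.2)) ∪ (Finset.range m).image (fun j => (n + j, j)) := by
    ext ⟨i, j⟩
    simp only [Finset.mem_filter, Finset.mem_product, Finset.mem_range, Finset.mem_union, Finset.mem_image, T,
      Finset.mem_sigma, Finset.mem_Ico, Prod.mk.injEq, Sigma.exists]
    constructor
    · rintro ⟨⟨hi, hj⟩, hin, hlt⟩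
      have hji : j < i := by
        by_contra hle
        nlinarith [not_lt.1 hle]
      obtain ⟨k, rfl⟩ : ∃ k, i = j + k := ⟨i - j, by omega⟩
      have hlt' : j * n < k * m := by nlinarith
      by_cases hk : k = n
      · exact Or.inr ⟨j, by subst hk; exact Nat.lt_of_mul_lt_mul_right (by linarith : j * k < m * k), by omega, rfl⟩
      · exact Or.inl ⟨k, j, ⟨⟨by omega, by omega⟩, Nat.lt_succ_of_le ((Nat.le_div_iff_mul_le hn).2 hlt'.le)⟩,
          by omega, rfl⟩
    · rintro (⟨k, j', ⟨⟨hk1, hk2⟩, hj'⟩, h1, rfl⟩ | ⟨j', hj', h1, rfl⟩) <;> subst h1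
      · have h2 : j' * n ≤ k * m := (Nat.le_div_iff_mul_le hn).1 (Nat.lt_succ_iff.1 hj')
        have h3 : j' * n ≠ k * m := fun he => by
          have := Nat.le_of_dvd hk1 (Nat.Coprime.dvd_of_dvd_mul_right hmn.symm ⟨j', by linarith⟩)
          omega
        have h4 : j' < m := by
          by_contra hle
          nlinarith [not_lt.1 hle]
        refine ⟨⟨by omega, by omega⟩, by omega, ?_⟩
        nlinarith [lt_of_le_of_ne h2 h3]
      · refine ⟨⟨by omega, by omega⟩, by omega, ?_⟩
        nlinarith
  rw [hmain, Finset.card_union_of_disjoint, Finset.card_image_of_injective, Finset.card_image_of_injective, hcard,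
    Finset.card_range]
  · omega
  · intro a b hab; simpa using congrArg Prod.snd hab
  · rintro ⟨a, a'⟩ ⟨b, b'⟩ hab
    simp only [Prod.mk.injEq] at hab
    obtain ⟨h1, rfl⟩ := hab
    obtain rfl : a = b := by omega
    rfl
  · rw [Finset.disjoint_left]
    simp only [Finset.mem_image, T, Finset.mem_sigma, Finset.mem_Ico, Finset.mem_range, Sigma.exists]
    rintro _ ⟨k, j, ⟨⟨hk1, hk2⟩, hj⟩, rfl⟩ ⟨j', hj', h⟩
    simp only [Prod.mk.injEq] at h
    omega

end Groth.Agent.S15498
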