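import Groth.Statements.S15499
import Groth.Agent.AffineHorrocks.Main
import Mathlib.RingTheory.Spectrum.Prime.FreeLocus
import Mathlib.RingTheory.Flat.Localization
import Mathlib.RingTheory.Flat.Stability

set_option autoImplicit false
set_option linter.style.haveILetI false
set_option backward.isDefEq.respectTransparency false
open Groth.Agent
open Polynomial LaurentPolynomial
open scoped TensorProduct
universe u
open CAlg

namespace Groth.Agent.S15499

/-- Let S = Spec R be a smooth connected affine complex variety, so that R is a finitely generated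
smooth ℂ-algebra and an integral domain, and let F be a locally free sheaf of finite rank on the
projective line over S, presented by its two standard charts: a finitely generated projective
R[X]-module P on the affine line over S, a finitely generated projective R[X]-module P' on the chart
at infinity, and an identification of their base changes to R[X, X⁻¹] that is additive, bijective
and semilinear over the R-algebra involution X ↦ X⁻¹. Then S is covered by basic open sets D(g_1),
…, D(g_n) such that F restricted to the affine line over each D(g_i) is free: the localisation of P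
at g_i is a free module over the localisation of R[X] at g_i. -/
theorem result
    (R : Type u) [CommRing R] [IsDomain R] [Algebra ℂ R] [Algebra.FiniteType ℂ R]
    [Algebra.Smooth ℂ R]
    (P : Type u) [AddCommGroup P] [Module R[X] P] [Module.Finite R[X] P]
    [Module.Projective R[X] P]
    (P' : Type u) [AddCommGroup P'] [Module R[X] P'] [Module.Finite R[X] P']
    [Module.Projective R[X] P']
    (e : R[T;T⁻¹] ⊗[R[X]] P ≃+ R[T;T⁻¹] ⊗[R[X]] P')
    (he : ∀ (a : R[T;T⁻¹]) (m : R[T;T⁻¹] ⊗[R[X]] P),
      e (a • m) = LaurentPolynomial.invert a • e m) :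
    ∃ (n : ℕ) (g : Fin n → R), Ideal.span (Set.range g) = ⊤ ∧
      ∀ i, Module.Free (Localization.Away (Polynomial.C (g i) : R[X]))
        (LocalizedModule (Submonoid.powers (Polynomial.C (g i) : R[X])) P) := by
  classical
  let e' : (R[T;T⁻¹] ⊗[R[X]] P) →ₛₗ[AffHorrocks.σ R] (R[T;T⁻¹] ⊗[R[X]] P') :=
    { toFun := e
      map_add' := e.map_add
      map_smul' := he }
  obtain ⟨P₀, _, _, _, _, ⟨φ⟩⟩ := AffHorrocks.extended_of_glue P P' e' e.bijective
  haveI := Module.finitePresentation_of_projective R P₀
  let S : Set R := {g | Module.Free (Localization.Away g) (LocalizedModule (Submonoid.powers g) P₀)}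
  have hS : Ideal.span S = ⊤ := by
    by_contra hne
    obtain ⟨m, hm, hle⟩ := Ideal.exists_le_maximal _ hne
    haveI : Module.Flat R P₀ := Module.Flat.of_projective
    haveI : Module.Free (Localization.AtPrime m) (LocalizedModule m.primeCompl P₀) := Module.free_of_flat_of_isLocalRing
    obtain ⟨r, hr, hfree, -⟩ := Module.FinitePresentation.exists_free_localizedModule_powers m.primeCompl
      (LocalizedModule.mkLinearMap m.primeCompl P₀) (Localization.AtPrime m)
    exact hr (hle (Ideal.subset_span hfree))
  obtain ⟨T, hT, hTspan⟩ := Submodule.mem_span_finite_of_mem_span ((Ideal.eq_top_iff_one _).1 hS)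
  refine ⟨T.card, fun i => T.equivFin.symm i, ?_, fun i => ?_⟩
  · rw [Ideal.eq_top_iff_one]
    refine Ideal.span_mono (fun g hg => ?_) hTspan
    exact ⟨T.equivFin ⟨g, hg⟩, by simp⟩
  · set g : R := (T.equivFin.symm i : R) with hg
    have hfree : Module.Free (Localization.Away g) (LocalizedModule (Submonoid.powers g) P₀) :=
      hT (T.equivFin.symm i).2
    let B := Localization.Away (Polynomial.C g : R[X])
    have hu : IsUnit ((algebraMap R[X] B).comp Polynomial.C g) := IsLocalization.Away.algebraMap_isUnit (Polynomial.C g)
    letI : Algebra (Localization.Away g) B := (IsLocalization.Away.lift g hu).toAlgebra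
    haveI : IsScalarTower R (Localization.Away g) B := IsScalarTower.of_algebraMap_eq fun r => by
      rw [RingHom.algebraMap_toAlgebra, IsLocalization.Away.lift_eq]
      exact IsScalarTower.algebraMap_apply R R[X] B r
    let E₀ : LocalizedModule (Submonoid.powers g) P₀ ≃ₗ[Localization.Away g] Localization.Away g ⊗[R] P₀ :=
      LocalizedModule.equivTensorProduct _ P₀
    haveI : Module.Free (Localization.Away g) (Localization.Away g ⊗[R] P₀) := Module.Free.of_equiv E₀
    let e1 : B ⊗[Localization.Away g] (Localization.Away g ⊗[R] P₀) ≃ₗ[B] B ⊗[R] P₀ :=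
      TensorProduct.AlgebraTensorModule.cancelBaseChange R (Localization.Away g) B B P₀
    let e2 : B ⊗[R[X]] (R[X] ⊗[R] P₀) ≃ₗ[B] B ⊗[R] P₀ :=
      TensorProduct.AlgebraTensorModule.cancelBaseChange R R[X] B B P₀
    let e3 : B ⊗[R[X]] (R[X] ⊗[R] P₀) ≃ₗ[B] B ⊗[R[X]] P :=
      TensorProduct.AlgebraTensorModule.congr (LinearEquiv.refl B B) φ.symm
    let e4 : LocalizedModule (Submonoid.powers (Polynomial.C g : R[X])) P ≃ₗ[B] B ⊗[R[X]] P :=
      LocalizedModule.equivTensorProduct _ P
    exact Module.Free.of_equiv (((e1.trans e2.symm).trans e3).trans e4.symm)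

end Groth.Agent.S15499
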