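import Groth.Statements.S15503
import Groth.Agent.LogConn.Basic

set_option autoImplicit false
open Polynomial
universe u
open CAlg

namespace Groth.Agent.S15503

open Groth.Agent.LogConn

/-- Let S = Spec R be a smooth connected affine complex variety (R a finitely generated smooth ℂ-algebra
and a domain), θ_1, …, θ_r ∈ R pairwise disjoint sections of the affine line over S (θ_i − θ_k a
unit for i ≠ k), Θ = ∏ (X − θ_i) ∈ R[X], and M = R^d. Suppose given an additive operator D₀ on M[X]
= R[X]^d with D₀(p v) = Θ p′ v + p D₀(v) (the action of the logarithmic vector field Θ ∂/∂X for a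
connection on the trivial bundle of rank d on the affine line over S with logarithmic poles along
the θ_i), its extension D to M[X, 1/Θ] = (R[X][1/Θ])^d with the same Leibniz rule, and for each i
the residue endomorphism Res_i of M, characterised by D₀(m)(θ_i) = (∏_{k ≠ i} (θ_i − θ_k)) ·
Res_i(m) for constant m ∈ M, whose characteristic polynomial has complex coefficients and no nonzero
integer root. Then an element f of M[X, 1/Θ] = (R[X][1/Θ])^d with D(f) ∈ M[X] = R[X]^d lies in
R[X]^d. (The published claim is made for residues whose characteristic roots all lie in the image of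
a right inverse τ of the quotient map ℂ → ℂ/ℤ with τ(0) = 0, so that no root is a nonzero integer
and no two roots differ by a nonzero integer; this row assumes only that no nonzero integer is a
root, which is all the argument uses.) -/
theorem result
    (R : Type u) [CommRing R] [IsDomain R] [Algebra ℂ R] [Algebra.FiniteType ℂ R]
    [Algebra.Smooth ℂ R] (d r : ℕ) (θ : Fin r → R)
    (hθ : ∀ i k, i ≠ k → IsUnit (θ i - θ k))
    (Θ : R[X]) (hΘ : Θ = ∏ i, (X - Polynomial.C (θ i)))
    (D₀ : (Fin d → R[X]) →+ (Fin d → R[X]))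
    (hD₀ : ∀ (p : R[X]) (v : Fin d → R[X]),
      D₀ (p • v) = (Θ * Polynomial.derivative p) • v + p • D₀ v)
    (D : (Fin d → Localization.Away Θ) →+ (Fin d → Localization.Away Θ))
    (hD : ∀ (p : R[X]) (w : Fin d → Localization.Away Θ),
      D (p • w) = (Θ * Polynomial.derivative p) • w + p • D w)
    (hDD₀ : ∀ v : Fin d → R[X],
      D (fun j => algebraMap R[X] (Localization.Away Θ) (v j)) =
        fun j => algebraMap R[X] (Localization.Away Θ) (D₀ v j))
    (Res : Fin r → ((Fin d → R) →ₗ[R] (Fin d → R)))
    (hRes : ∀ (i : Fin r) (m : Fin d → R) (j : Fin d),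
      (D₀ (fun j => Polynomial.C (m j)) j).eval (θ i) =
        (∏ k ∈ Finset.univ.erase i, (θ i - θ k)) * Res i m j)
    (hχ : ∀ i : Fin r, ∃ χ : ℂ[X], (Res i).charpoly = χ.map (algebraMap ℂ R) ∧
      ∀ n : ℤ, n ≠ 0 → χ.eval (n : ℂ) ≠ 0)
    (f : Fin d → Localization.Away Θ)
    (hf : ∃ v : Fin d → R[X], D f = fun j => algebraMap R[X] (Localization.Away Θ) (v j)) :
    ∃ v : Fin d → R[X], f = fun j => algebraMap R[X] (Localization.Away Θ) (v j) := by
  obtain ⟨v, hv⟩ := hf
  obtain ⟨n, u, rfl⟩ := exists_frac f
  suffices h : ∀ (n : ℕ) (u : Fin d → R[X]) (v : Fin d → R[X]),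
      D (frac n u) = frac 0 v → ∃ v : Fin d → R[X], frac (Θ := Θ) n u = frac 0 v by
    obtain ⟨v', hv'⟩ := h n u v (by rw [frac_zero]; exact hv)
    exact ⟨v', by rw [hv', frac_zero]⟩
  intro n
  induction n with
  | zero => exact fun u v _ => ⟨u, rfl⟩
  | succ n ih =>
    intro u v h
    -- the numerator vanishes along each section
    have hnum : num (Θ := Θ) D₀ (n + 1) u = (Θ ^ (n + 1)) • v := by
      have h1 := congrArg (fun w => (Θ ^ (n + 1)) • w) h
      simp only [D_frac D₀ D hD hDD₀, smul_frac, frac_zero] at h1
      have hΘ0 : Θ ≠ 0 := by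
        rw [hΘ]; exact (monic_prod_of_monic _ _ fun i _ => monic_X_sub_C _).ne_zero
      funext j
      refine IsLocalization.injective (Localization.Away Θ)
        (powers_le_nonZeroDivisors_of_noZeroDivisors hΘ0) ?_
      have h2 := congrFun h1 j
      simp only [Pi.smul_apply, Algebra.smul_def] at h2
      rw [h2, Pi.smul_apply, smul_eq_mul, map_mul]
    have hu : ∀ i j, (u j).eval (θ i) = 0 := by
      intro i j
      have hz : Θ.eval (θ i) = 0 := by
        rw [hΘ, eval_prod]; exact Finset.prod_eq_zero (Finset.mem_univ i) (by simp)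
      have h0 : (fun m : Fin d → R => Res i m - ((n + 1 : ℕ) : R) • m)
          (fun l => (u l).eval (θ i)) = 0 := by
        funext l
        have := eval_num D₀ hD₀ Res hRes hΘ (n + 1) u i l
        rw [hnum, Pi.smul_apply, smul_eq_mul, eval_mul, eval_pow, hz, zero_pow n.succ_ne_zero,
          zero_mul] at this
        exact (isUnit_prod hθ i).mul_right_eq_zero.1 this.symm
      have := (bijective_res_sub (Res i) (hχ i) (n + 1) n.succ_ne_zero).1
        (h0.trans (by simp : (0 : Fin d → R) = (fun m : Fin d → R => Res i m - ((n + 1 : ℕ) : R) • m) 0))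
      exact congrFun this j
    obtain ⟨u', rfl⟩ := exists_smul_eq hθ hΘ u hu
    rw [frac_succ] at h ⊢
    exact ih u' v h

end Groth.Agent.S15503
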