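import Groth.Statements.S15504
import Mathlib

set_option autoImplicit false
universe u v
open FrobAlg

namespace Groth.Agent.S15504

/-- Let k be an algebraically closed field of characteristic p, W = W(k) the ring of p-typical Witt
vectors, M a finitely generated torsion W-module and φ a p⁻¹-linear endomorphism of M (additive,
with φ(a·m) = σ⁻¹(a)·φ(m) for the Frobenius automorphism σ of W). Then M = M_s ⊕ M_n for two
φ-stable submodules, with φ bijective on M_s and nilpotent on M_n (one iterate of φ kills M_n). -/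
theorem result (p : ℕ) [Fact p.Prime]
    (k : Type u) [Field k] [CharP k p] [IsAlgClosed k]
    (M : Type v) [AddCommGroup M] [Module (WittVector p k) M] [Module.Finite (WittVector p k) M]
    (hM : Module.IsTorsion (WittVector p k) M)
    (φ : M →ₛₗ[((WittVector.frobeniusEquiv p k).symm : WittVector p k →+* WittVector p k)] M) :
    ∃ Ms Mn : Submodule (WittVector p k) M, IsCompl Ms Mn ∧
      Set.MapsTo φ Ms Ms ∧ Set.MapsTo φ Mn Mn ∧ Set.BijOn φ Ms Ms ∧
      ∃ r : ℕ, ∀ x ∈ Mn, (⇑φ)^[r] x = 0 := by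
  classical
  let R := WittVector p k
  obtain ⟨n, g, hg⟩ := Module.Finite.exists_fin (R := R) (M := M)
  obtain ⟨c, hc, hcg⟩ : ∃ c : R, c ∈ nonZeroDivisors R ∧ ∀ i, c • g i = 0 := by
    choose a ha using fun i => hM (x := g i)
    refine ⟨∏ i, (a i : R), prod_mem fun i _ => (a i).2, fun i => ?_⟩
    rw [← Finset.prod_erase_mul _ _ (Finset.mem_univ i), mul_smul]
    exact (congrArg _ (ha i)).trans (smul_zero _)
  haveI : Ring.KrullDimLE 1 R := inferInstance
  haveI : IsArtinian R (R ⧸ Ideal.span {c}) :=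
    (isFiniteLength_iff_isNoetherian_isArtinian.1 (isFiniteLength_quotient_span_singleton R hc)).2
  let Ψ : (Fin n → R ⧸ Ideal.span {c}) →ₗ[R] M := ∑ i, ((Ideal.span {c}).liftQ (LinearMap.toSpanSingleton R M (g i))
    (by rw [Ideal.span_le, Set.singleton_subset_iff]; exact hcg i)).comp (LinearMap.proj i)
  have hΨ : Function.Surjective Ψ := by
    rw [← LinearMap.range_eq_top, eq_top_iff, ← hg, Submodule.span_le]
    rintro _ ⟨i, rfl⟩
    refine ⟨Pi.single i (Submodule.Quotient.mk 1), ?_⟩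
    rw [LinearMap.sum_apply, Finset.sum_eq_single i (fun j _ hj => by simp [hj]) (by simp)]
    simp only [LinearMap.comp_apply, LinearMap.proj_apply, Pi.single_eq_same]
    exact one_smul R (g i)
  haveI : IsArtinian R M := isArtinian_of_surjective _ Ψ hΨ
  haveI : RingHomSurjective ((WittVector.frobeniusEquiv p k).symm : R →+* R) :=
    ⟨(WittVector.frobeniusEquiv p k).symm.surjective⟩
  let K : ℕ → Submodule R M := fun m => (Submodule.comap φ)^[m] ⊥
  let S : ℕ → Submodule R M := fun m => (Submodule.map φ)^[m] ⊤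
  have hK : ∀ m x, x ∈ K m ↔ (⇑φ)^[m] x = 0 := fun m => by
    induction m with
    | zero => intro x; simp [K]
    | succ m ih =>
      intro x
      show x ∈ (Submodule.comap φ)^[m + 1] ⊥ ↔ _
      rw [Function.iterate_succ_apply', Submodule.mem_comap, Function.iterate_succ_apply]
      exact ih (φ x)
  have hS : ∀ m x, x ∈ S m ↔ ∃ y, (⇑φ)^[m] y = x := fun m => by
    induction m with
    | zero => intro x; simp [S]
    | succ m ih =>
      intro x
      show x ∈ (Submodule.map φ)^[m + 1] ⊤ ↔ _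
      rw [Function.iterate_succ_apply', Submodule.mem_map]
      simp only [Function.iterate_succ_apply']
      exact ⟨fun ⟨z, hz, e⟩ => let ⟨y, hy⟩ := (ih z).1 hz; ⟨y, by rw [hy, e]⟩,
        fun ⟨y, e⟩ => ⟨_, (ih _).2 ⟨y, rfl⟩, e⟩⟩
  have hiter0 : ∀ m, (⇑φ)^[m] 0 = 0 := fun m => by
    induction m with
    | zero => rfl
    | succ m ih => rw [Function.iterate_succ_apply', ih, map_zero]
  obtain ⟨N₁, hN₁⟩ := monotone_stabilizes_iff_noetherian.2 (inferInstance : IsNoetherian R M)
    ⟨K, monotone_nat_of_le_succ fun m x hx => (hK _ x).2 (by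
      rw [Function.iterate_succ_apply', (hK m x).1 hx, map_zero])⟩
  obtain ⟨N₂, hN₂⟩ := IsArtinian.monotone_stabilizes (R := R) (M := M)
    ⟨fun m => OrderDual.toDual (S m), monotone_nat_of_le_succ fun m x hx => by
      obtain ⟨y, hy⟩ := (hS _ x).1 hx
      exact (hS m x).2 ⟨φ y, by rw [← Function.iterate_succ_apply]; exact hy⟩⟩
  let N := max N₁ N₂
  have hKN : ∀ m, N ≤ m → ∀ x, (⇑φ)^[m] x = 0 → (⇑φ)^[N] x = 0 := fun m hm x hx => by
    have h1 : K N = K m := (hN₁ N (le_max_left _ _)).symm.trans (hN₁ m ((le_max_left _ _).trans hm))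
    exact (hK N x).1 (h1 ▸ (hK m x).2 hx)
  have hSN : ∀ m, N ≤ m → S N = S m := fun m hm =>
    OrderDual.toDual.injective ((hN₂ N (le_max_right _ _)).symm.trans (hN₂ m ((le_max_right _ _).trans hm)))
  refine ⟨S N, K N, IsCompl.of_eq ?_ ?_, fun x hx => ?_, fun x hx => ?_, ⟨fun x hx => ?_, ?_, ?_⟩,
    ⟨N, fun x hx => (hK N x).1 hx⟩⟩
  · rw [eq_bot_iff]
    rintro x ⟨hx1, hx2⟩
    obtain ⟨y, rfl⟩ := (hS N x).1 hx1
    have h := (hK N _).1 hx2
    rw [← Function.iterate_add_apply] at h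
    exact hKN _ (Nat.le_add_right N N) y h
  · rw [eq_top_iff]
    intro x _
    obtain ⟨y, hy⟩ := (hS (N + N) _).1 (hSN (N + N) (Nat.le_add_right N N) ▸ (hS N _).2 ⟨x, rfl⟩)
    rw [Function.iterate_add_apply] at hy
    refine Submodule.mem_sup.2 ⟨(⇑φ)^[N] y, (hS N _).2 ⟨y, rfl⟩, x - (⇑φ)^[N] y, (hK N _).2 ?_, add_sub_cancel _ _⟩
    have hsub : ∀ m (a b : M), (⇑φ)^[m] (a - b) = (⇑φ)^[m] a - (⇑φ)^[m] b := fun m => by
      induction m with
      | zero => intros; rfl
      | succ m ih => intro a b; simp only [Function.iterate_succ_apply', ih, map_sub]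
    rw [hsub, hy, sub_self]
  · obtain ⟨y, hy⟩ := (hS N x).1 hx
    exact (hS N _).2 ⟨φ y, by rw [← hy, ← Function.iterate_succ_apply, Function.iterate_succ_apply']⟩
  · refine (hK N _).2 ?_
    rw [← Function.iterate_succ_apply, Function.iterate_succ_apply', (hK N x).1 hx, map_zero]
  · obtain ⟨y, hy⟩ := (hS N x).1 hx
    exact (hS N _).2 ⟨φ y, by rw [← hy, ← Function.iterate_succ_apply, Function.iterate_succ_apply']⟩
  · intro x hx x' hx' e
    obtain ⟨y, hy⟩ := (hS N _).1 (sub_mem hx hx')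
    have h0 : (⇑φ)^[N + 1] y = 0 := by
      rw [Function.iterate_succ_apply', hy, map_sub, e, sub_self]
    rw [← sub_eq_zero, ← hy]
    exact hKN _ (Nat.le_succ N) y h0
  · intro x hx
    rw [SetLike.mem_coe, hSN (N + 1) (Nat.le_succ N)] at hx
    obtain ⟨y, hy⟩ := (hS (N + 1) x).1 hx
    exact ⟨(⇑φ)^[N] y, (hS N _).2 ⟨y, rfl⟩, by rw [← hy, Function.iterate_succ_apply']⟩

end Groth.Agent.S15504
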