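import Groth.Statements.S15506
import Mathlib
import Groth.Agent.FpqcDescent.Sep

set_option autoImplicit false
universe u
open CategoryTheory AlgebraicGeometry
open EtBase

set_option backward.isDefEq.respectTransparency false

namespace Groth.Agent.S15506

/-- Let k be a field, K an algebraic closure of k (an algebraically closed field algebraic over k), Ω a
field containing K, and Z a scheme étale over Spec k. Composition with Spec Ω → Spec K is a
bijection from the k-morphisms Spec K → Z onto the k-morphisms Spec Ω → Z: two k-morphisms Spec K →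
Z that agree on Spec Ω are equal, and every k-morphism Spec Ω → Z factors through Spec K. (The
published statement is the case where k has characteristic zero with a chosen embedding of its
algebraic closure into the complex numbers, Ω = ℂ, and Z is the scheme of isomorphisms between two
K3 surfaces over k, known there to be étale over k; this row states the fact about an arbitrary
étale k-scheme that the argument establishes.) -/
theorem result
    (k K Ω : Type u) [Field k] [Field K] [Field Ω] [Algebra k K] [IsAlgClosed K] [Algebra.IsAlgebraic k K]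
    [Algebra K Ω] [Algebra k Ω] [IsScalarTower k K Ω]
    (Z : Scheme.{u}) (f : Z ⟶ Spec (CommRingCat.of k)) [AlgebraicGeometry.Etale f] :
    (∀ g₁ g₂ : Spec (CommRingCat.of K) ⟶ Z,
        g₁ ≫ f = Spec.map (CommRingCat.ofHom (algebraMap k K)) →
        g₂ ≫ f = Spec.map (CommRingCat.ofHom (algebraMap k K)) →
        Spec.map (CommRingCat.ofHom (algebraMap K Ω)) ≫ g₁ = Spec.map (CommRingCat.ofHom (algebraMap K Ω)) ≫ g₂ →
        g₁ = g₂) ∧
    (∀ h : Spec (CommRingCat.of Ω) ⟶ Z, h ≫ f = Spec.map (CommRingCat.ofHom (algebraMap k Ω)) →
        ∃ g : Spec (CommRingCat.of K) ⟶ Z, g ≫ f = Spec.map (CommRingCat.ofHom (algebraMap k K)) ∧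
          Spec.map (CommRingCat.ofHom (algebraMap K Ω)) ≫ g = h) := by
  have hflat : Flat (Spec.map (CommRingCat.ofHom (algebraMap K Ω))) :=
    (HasRingHomProperty.Spec_iff (P := @Flat)).2
      (RingHom.flat_algebraMap_iff.2 (inferInstance : Module.Flat K Ω))
  have hsurj : Surjective (Spec.map (CommRingCat.ofHom (algebraMap K Ω))) :=
    ⟨fun x ↦ ⟨(default : PrimeSpectrum Ω), Subsingleton.elim (α := PrimeSpectrum K) _ _⟩⟩
  refine ⟨fun g₁ g₂ _ _ e ↦ ?_, fun h hh ↦ ?_⟩
  · have := Flat.epi_of_flat_of_surjective (Spec.map (CommRingCat.ofHom (algebraMap K Ω)))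
    exact (cancel_epi _).1 e
  · let a := Spec.map (CommRingCat.ofHom (algebraMap k K))
    let h' : Spec (CommRingCat.of Ω) ⟶ Limits.pullback f a :=
      Limits.pullback.lift h (Spec.map (CommRingCat.ofHom (algebraMap K Ω))) (by
        rw [hh, ← Spec.map_comp, ← CommRingCat.ofHom_comp, ← IsScalarTower.algebraMap_eq])
    let q := Limits.pullback.snd f a
    let z := h' (IsLocalRing.closedPoint Ω)
    have := Groth.Agent.FpqcDescent.locallyQuasiFinite_of_etale q
    have : DiscreteTopology ↥(Limits.pullback f a) := by
      have := q.isDiscrete_preimage_singleton (default : PrimeSpectrum K)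
      rw [show (q ⁻¹' {(default : PrimeSpectrum K)}) = Set.univ from
        Set.eq_univ_of_forall fun x ↦ Subsingleton.elim (α := PrimeSpectrum K) _ _] at this
      exact (Homeomorph.Set.univ _).discreteTopology_iff.1 this.to_subtype
    let σ := pointOfClosedPoint q z (isClosed_discrete _)
    have hσ : σ ≫ q = 𝟙 _ := pointOfClosedPoint_comp q z (isClosed_discrete _)
    let φ := Scheme.descResidueField (Scheme.stalkClosedPointTo h')
    let ι := residueFieldIsoBase q z (isClosed_discrete _)
    have hφ : Spec.map φ ≫ (Limits.pullback f a).fromSpecResidueField z = h' :=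
      Scheme.descResidueField_stalkClosedPointTo_fromSpecResidueField Ω _ h'
    have hlift : Spec.map (ι.inv ≫ φ) ≫ σ = h' := by
      rw [← hφ]
      show Spec.map (ι.inv ≫ φ) ≫ Spec.map ι.hom ≫ _ = _
      rw [← Spec.map_comp_assoc, Iso.hom_inv_id_assoc]
    have he : Spec.map (ι.inv ≫ φ) = Spec.map (CommRingCat.ofHom (algebraMap K Ω)) := by
      have := congr_arg (· ≫ q) hlift
      simp only [Category.assoc, hσ, Category.comp_id] at this
      rw [this]; exact Limits.pullback.lift_snd _ _ _
    refine ⟨σ ≫ Limits.pullback.fst f a, ?_, ?_⟩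
    · rw [Category.assoc, Limits.pullback.condition, ← Category.assoc, hσ, Category.id_comp]
    · rw [← he, ← Category.assoc, hlift]
      exact Limits.pullback.lift_fst _ _ _

end Groth.Agent.S15506
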