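import Groth.Statements.S15509
import Groth.Agent.ExactOrd.Basic
import Groth.Agent.EtaleSections.Basic
import Groth.Agent.UFDLib.Regular

set_option autoImplicit false
set_option backward.isDefEq.respectTransparency false
universe u
open CategoryTheory CategoryTheory.Limits MonoidalCategory CartesianMonoidalCategory MonObj AlgebraicGeometry
open AbSch

namespace Groth.Agent.S15509

/-- Let R be a regular local ring which is a domain and contains the rational numbers, with fraction
field K and residue field k, and let A be an abelian scheme over Spec R of relative dimension g (a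
commutative group scheme which is smooth and proper with geometrically connected fibres of dimension
g). Then for every integer m ≥ 1 the number of K-valued points of A over Spec R killed by m is at
most the number of k-valued points of A over Spec R killed by m: the m-torsion of the rational
points of the generic fibre is no larger than the m-torsion of the rational points of the closed
fibre. (The published statement is for an arbitrary Noetherian regular local ring R inside a paper
whose standing setting is schemes over the complex numbers; this row keeps from that setting only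
that R contains the rationals, which is what the printed argument uses to make the m-torsion
subgroup scheme étale over the base.) -/
theorem result
    (R : Type u) [CommRing R] [IsDomain R] [IsRegularLocalRing R] [Algebra ℚ R]
    (A : Over (Spec (CommRingCat.of R))) [GrpObj A] [IsCommMonObj A] (g : ℕ) (hA : AgPol.IsAbSch A g)
    (m : ℕ) (hm : 1 ≤ m) :
    Nat.card (AbDual.torsPts A m (Over.mk (Spec.map (CommRingCat.ofHom (algebraMap R (FractionRing R)))))) ≤
      Nat.card (AbDual.torsPts A m (Over.mk (Spec.map (CommRingCat.ofHom (IsLocalRing.residue R))))) := by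
  haveI := hA.proper
  have hu : IsUnit (m : Γ(Spec (CommRingCat.of R), ⊤)) := by
    have hq : IsUnit (m : R) := by
      rw [← map_natCast (algebraMap ℚ R) m]
      exact (IsUnit.mk0 (m : ℚ) (by exact_mod_cast (by omega : m ≠ 0))).map _
    rw [← map_natCast (Scheme.ΓSpecIso (CommRingCat.of R)).inv.hom m]
    exact hq.map _
  obtain ⟨hf, he⟩ := Groth.Agent.ExactOrd.finite_etale_kerPow hA hu
  let Z := Groth.Agent.ExactOrd.kerPow A m
  let i := Groth.Agent.ExactOrd.incl A m
  haveI hci : IsClosedImmersion i.left := Groth.Agent.ExactOrd.isClosedImmersion_incl A m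
  haveI hfin : IsFinite Z.hom := hf
  haveI het : Etale Z.hom := he
  haveI : IsAffine Z.left := isAffine_of_isAffineHom Z.hom
  haveI : IsIntegrallyClosed R := by
    haveI := Groth.Agent.UFDLib.ufd_of_isRegularLocalRing R
    infer_instance
  let K := FractionRing R
  let k := IsLocalRing.ResidueField R
  obtain ⟨φ, hφ⟩ := Spec.map_surjective (Z.left.isoSpec.inv ≫ Z.hom)
  have hφf : φ.hom.Finite := by
    haveI : IsFinite (Spec.map φ) := by rw [hφ]; infer_instance
    exact (IsFinite.SpecMap_iff _).1 inferInstance
  let B := Γ(Z.left, ⊤)
  letI : Algebra R B := φ.hom.toAlgebra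
  haveI : Module.Finite R B := hφf
  let TK := Over.mk (Spec.map (CommRingCat.ofHom (algebraMap R K)))
  let Tk := Over.mk (Spec.map (CommRingCat.ofHom (IsLocalRing.residue R)))
  have hlift : ∀ {T : Over (Spec (CommRingCat.of R))} (x : AbDual.torsPts A m T), ∃ y : T ⟶ Z, y ≫ i = x.1 :=
    fun x => Groth.Agent.ExactOrd.exists_lift A m x.1 x.2
  choose L hL using @hlift
  have hext : ∀ y : TK ⟶ Z, ∃ r : Spec (CommRingCat.of R) ⟶ Z.left, r ≫ Z.hom = 𝟙 _ ∧
      Spec.map (CommRingCat.ofHom (algebraMap R K)) ≫ r = y.left := by
    intro y
    obtain ⟨ψ, hψ⟩ := Spec.map_surjective (y.left ≫ Z.left.isoSpec.hom)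
    have hc : φ ≫ ψ = CommRingCat.ofHom (algebraMap R K) := Spec.map_injective (by
      rw [Spec.map_comp, hψ, hφ, Category.assoc, Iso.hom_inv_id_assoc]
      exact Over.w y)
    let ψ' : B →ₐ[R] K := { ψ.hom with
      commutes' := fun r => congrArg (fun e : CommRingCat.of R ⟶ CommRingCat.of K => e.hom r) hc }
    have hr : ∀ b, ∃ r, algebraMap R K r = ψ' b := fun b =>
      IsIntegrallyClosed.isIntegral_iff.1 ((Algebra.IsIntegral.isIntegral b).map ψ')
    choose ρ hρ using hr
    have inj := IsFractionRing.injective R K
    let ρ' : B →+* R :=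
      { toFun := ρ
        map_one' := inj (by rw [hρ, map_one, map_one])
        map_zero' := inj (by rw [hρ, map_zero, map_zero])
        map_add' := fun a b => inj (by rw [hρ, map_add, map_add, hρ, hρ])
        map_mul' := fun a b => inj (by rw [hρ, map_mul, map_mul, hρ, hρ]) }
    refine ⟨Spec.map (CommRingCat.ofHom ρ') ≫ Z.left.isoSpec.inv, ?_, ?_⟩
    · rw [Category.assoc, ← hφ, ← Spec.map_comp, ← Spec.map_id]
      congr 1
      ext r
      apply inj
      show algebraMap R K (ρ (algebraMap R B r)) = algebraMap R K r
      rw [hρ, AlgHom.commutes]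
    · rw [← Category.assoc, ← Spec.map_comp, show CommRingCat.ofHom ρ' ≫ CommRingCat.ofHom (algebraMap R K) = ψ from
        by ext b; exact hρ b, hψ, Category.assoc, Iso.hom_inv_id, Category.comp_id]
  choose ext hext1 hext2 using hext
  let res : (TK ⟶ Z) → (Tk ⟶ Z) := fun y =>
    Over.homMk (Spec.map (CommRingCat.ofHom (IsLocalRing.residue R)) ≫ ext y) (by rw [Category.assoc, hext1, Category.comp_id]; rfl)
  have hres : Function.Injective res := fun y y' h => by
    have h' : Spec.map (CommRingCat.ofHom (IsLocalRing.residue R)) ≫ ext y =
        Spec.map (CommRingCat.ofHom (IsLocalRing.residue R)) ≫ ext y' := congrArg CommaMorphism.left h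
    haveI : ConnectedSpace ↥(Spec (CommRingCat.of R)) := inferInstance
    have := Groth.Agent.EtaleSections.eq_of_connected Z.hom (ext y) (ext y') _ h' ((hext1 y).trans (hext1 y').symm)
    exact Over.OverMorphism.ext (by rw [← hext2 y, this, hext2 y'])
  have hpt : ∀ y : Tk ⟶ Z, (y ≫ i) ∈ AbDual.torsPts A m Tk := fun y => by
    rw [AbDual.mem_torsPts, ← MonObj.comp_pow, Groth.Agent.ExactOrd.incl_pow, MonObj.comp_one]
  let F : AbDual.torsPts A m TK → AbDual.torsPts A m Tk := fun x => ⟨res (L x) ≫ i, hpt _⟩
  haveI : Mono i.left := inferInstance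
  haveI : Mono i := (Over.forget _).mono_of_mono_map ‹Mono i.left›
  have hF : Function.Injective F := fun x x' h => by
    have := hres ((cancel_mono i).1 (congrArg Subtype.val h))
    exact Subtype.ext (by rw [← hL x, this, hL x'])
  haveI : Finite (Tk ⟶ Z) := by
    classical
    obtain ⟨gen, hgen⟩ : ∃ gen : Finset B, Submodule.span R (gen : Set B) = ⊤ := Module.Finite.fg_top
    let roots : B → Set k := fun b => {z | Polynomial.IsRoot ((minpoly R b).map (IsLocalRing.residue R)) z}
    have hroots : ∀ b, (roots b).Finite := fun b =>
      Polynomial.finite_setOf_isRoot ((minpoly.monic (Algebra.IsIntegral.isIntegral b)).map _).ne_zero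
    let ev : (Tk ⟶ Z) → (B →+* k) := fun y => (Spec.preimage (y.left ≫ Z.left.isoSpec.hom)).hom
    have hevc : ∀ y, (ev y).comp φ.hom = IsLocalRing.residue R := fun y => by
      have : φ ≫ Spec.preimage (y.left ≫ Z.left.isoSpec.hom) = CommRingCat.ofHom (IsLocalRing.residue R) :=
        Spec.map_injective (by
          rw [Spec.map_comp, Spec.map_preimage, hφ, Category.assoc, Iso.hom_inv_id_assoc]
          exact Over.w y)
      exact congrArg CommRingCat.Hom.hom this
    have hmem : ∀ y b, ev y b ∈ roots b := fun y b => by
      show Polynomial.IsRoot _ _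
      rw [Polynomial.IsRoot, Polynomial.eval_map, ← hevc y]
      have h := Polynomial.hom_eval₂ (minpoly R b) φ.hom (ev y) b
      rw [← h]
      have h0 : Polynomial.eval₂ φ.hom b (minpoly R b) = 0 := minpoly.aeval R b
      rw [h0, map_zero]
    haveI : ∀ b : gen, Finite (roots b.1) := fun b => (hroots b.1).to_subtype
    refine Finite.of_injective (fun (y : Tk ⟶ Z) (b : gen) => (⟨ev y b.1, hmem y b.1⟩ : roots b.1)) fun y y' h => ?_
    have heq : ev y = ev y' := by
      refine RingHom.ext fun b => ?_
      have hb : b ∈ Submodule.span R (gen : Set B) := hgen ▸ Submodule.mem_top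
      induction hb using Submodule.span_induction with
      | mem x hx => exact congrArg Subtype.val (congrFun h ⟨x, hx⟩)
      | zero => simp
      | add a c _ _ ha hc => rw [map_add, map_add, ha, hc]
      | smul r a _ ha =>
        rw [Algebra.smul_def, map_mul, map_mul, ha]
        exact congrArg (· * _) ((RingHom.congr_fun (hevc y) r).trans (RingHom.congr_fun (hevc y') r).symm)
    refine Over.OverMorphism.ext ?_
    rw [← cancel_mono Z.left.isoSpec.hom, ← Spec.map_preimage (y.left ≫ Z.left.isoSpec.hom),
      ← Spec.map_preimage (y'.left ≫ Z.left.isoSpec.hom)]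
    exact congrArg Spec.map (CommRingCat.hom_ext heq)
  haveI : Finite (AbDual.torsPts A m Tk) := Finite.of_injective (fun x => L x) fun x x' h =>
    Subtype.ext (by rw [← hL x, show L x = L x' from h, hL x'])
  exact Nat.card_le_card_of_injective F hF

end Groth.Agent.S15509
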