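import Groth.Statements.S15510
import Groth.Agent.AVLine.Space

set_option autoImplicit false
set_option backward.isDefEq.respectTransparency false
universe u
open CategoryTheory CategoryTheory.Limits MonoidalCategory CartesianMonoidalCategory MonObj AlgebraicGeometry
open AbVar

namespace Groth.Agent.S15510

/-- Let F be a field and A a principally polarized abelian variety over F: a commutative group scheme
over Spec F, smooth and proper with geometrically connected fibres of dimension g, given together
with a commutative group scheme At, data φ presenting At as the dual of A for the fppf topology, and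
a polarization lam : A ⟶ At which is an isomorphism. Let Q = F(t_1, …, t_n) be the field of rational
functions in n variables over F. Then base change from F to Q is a bijection from the F-rational
points of A onto the Q-valued points of A over Spec F: every Q-point of A comes from exactly one
F-point. -/
theorem result
    (F : Type u) [Field F]
    (A At : Over (Spec (CommRingCat.of F))) [GrpObj A] [IsCommMonObj A] [GrpObj At] [IsCommMonObj At]
    (g : ℕ) (hA : AgPol.IsAbSch A g)
    (φ : AgPol.DualMap A At) (hdual : AbDual.IsDualAV Scheme.fppfPrecoverage A At φ)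
    (lam : A ⟶ At) (hpol : AgPol.IsPolarization A At φ lam) (hiso : IsIso lam) (n : ℕ) :
    Function.Bijective (fun x : (Over.mk (𝟙 (Spec (CommRingCat.of F))) ⟶ A) =>
      (Over.homMk (Spec.map (CommRingCat.ofHom (algebraMap F (FractionRing (MvPolynomial (Fin n) F)))))
          (Category.comp_id _) :
        Over.mk (Spec.map (CommRingCat.ofHom (algebraMap F (FractionRing (MvPolynomial (Fin n) F))))) ⟶
          Over.mk (𝟙 (Spec (CommRingCat.of F)))) ≫ x) := by
  haveI : IsProper A.hom := hA.proper
  let P : CommRingCat.{u} := CommRingCat.of (MvPolynomial (Fin n) F)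
  let Q := FractionRing (MvPolynomial (Fin n) F)
  let ζ : Spec (CommRingCat.of Q) ⟶ Spec (CommRingCat.of F) := Spec.map (CommRingCat.ofHom (algebraMap F Q))
  haveI : Flat ζ := by
    rw [HasRingHomProperty.Spec_iff (P := @Flat)]
    exact RingHom.flat_algebraMap_iff.mpr inferInstance
  haveI : Surjective ζ := ⟨Function.surjective_to_subsingleton (α := PrimeSpectrum Q) (β := PrimeSpectrum F) _⟩
  haveI : QuasiCompact ζ := inferInstance
  haveI : Epi ζ := inferInstance
  refine ⟨fun a b h => Over.OverMorphism.ext ((cancel_epi ζ).1 (congrArg CommaMorphism.left h)), fun x => ?_⟩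
  let ξ := genericPoint ↥(Spec P)
  letI : Algebra (P : Type u) (Spec P).functionField := (StructureSheaf.toStalk P ξ).hom.toAlgebra
  haveI : IsFractionRing (P : Type u) (Spec P).functionField :=
    functionField_isFractionRing_of_affine (CommRingCat.of (MvPolynomial (Fin n) F))
  let e : ((Spec P).functionField : Type u) ≃ₐ[(P : Type u)] Q :=
    IsLocalization.algEquiv (nonZeroDivisors (P : Type u)) _ _
  let up : Spec (CommRingCat.of Q) ⟶ Spec ((Spec P).functionField) := Spec.map (CommRingCat.ofHom e.toRingEquiv.toRingHom)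
  let down : Spec ((Spec P).functionField) ⟶ Spec (CommRingCat.of Q) :=
    Spec.map (CommRingCat.ofHom e.symm.toRingEquiv.toRingHom)
  have hud : up ≫ down = 𝟙 _ := by
    rw [← Spec.map_comp, ← Spec.map_id]
    exact congrArg Spec.map (CommRingCat.hom_ext (RingHom.ext fun q => e.apply_symm_apply q))
  have hgen : up ≫ (Spec P).fromSpecStalk ξ = Spec.map (CommRingCat.ofHom (algebraMap (P : Type u) Q)) := by
    rw [Spec.fromSpecStalk_eq', ← Spec.map_comp]
    exact congrArg Spec.map (CommRingCat.hom_ext (RingHom.ext fun p => e.commutes p))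
  have hdown : down ≫ ζ = (Spec P).fromSpecStalk ξ ≫ Spec.map (CommRingCat.ofHom (MvPolynomial.C : F →+* MvPolynomial (Fin n) F)) := by
    rw [Spec.fromSpecStalk_eq', ← Spec.map_comp, ← Spec.map_comp]
    refine congrArg Spec.map (CommRingCat.hom_ext (RingHom.ext fun a => ?_))
    show e.symm (algebraMap F Q a) = algebraMap (P : Type u) (Spec P).functionField (MvPolynomial.C a)
    rw [← e.symm.commutes]
    rfl
  obtain ⟨W, hW, g, hg, hgq⟩ := spread_out_of_isGermInjective'
    (X := Spec P) (x := ξ) (Spec.map (CommRingCat.ofHom (MvPolynomial.C : F →+* MvPolynomial (Fin n) F))) A.hom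
    (down ≫ x.left) (by
      rw [Category.assoc, Over.w x]
      exact hdown)
  obtain ⟨e', he'⟩ : ∃ σ : Fin n ≃ ULift.{u} (Fin n), True := ⟨Equiv.ulift.symm, trivial⟩
  let r : MvPolynomial (ULift.{u} (Fin n)) F →+* MvPolynomial (Fin n) F := (MvPolynomial.rename e'.symm).toRingHom
  let ρ : Spec P ⟶ Spec (CommRingCat.of (MvPolynomial (ULift.{u} (Fin n)) F)) := Spec.map (CommRingCat.ofHom r)
  have hρ : ρ ≫ Groth.Agent.AVLine.sp F _ = Spec.map (CommRingCat.ofHom (MvPolynomial.C : F →+* MvPolynomial (Fin n) F)) := by
    rw [← Spec.map_comp]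
    exact congrArg Spec.map (CommRingCat.hom_ext (RingHom.ext fun a => MvPolynomial.rename_C e'.symm a))
  haveI : IsIso (CommRingCat.ofHom r) :=
    (ConcreteCategory.isIso_iff_bijective _).mpr (MvPolynomial.renameEquiv F e'.symm).bijective
  haveI : IsIso ρ := inferInstance
  let W' : (Spec (CommRingCat.of (MvPolynomial (ULift.{u} (Fin n)) F))).Opens := inv ρ ⁻¹ᵁ W
  have hW' : (W' : Set (Spec (CommRingCat.of (MvPolynomial (ULift.{u} (Fin n)) F)))).Nonempty :=
    ⟨ρ ξ, by show inv ρ (ρ ξ) ∈ W; rwa [← Scheme.Hom.comp_apply, IsIso.hom_inv_id]⟩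
  obtain ⟨a, ha, hfa⟩ := Groth.Agent.AVLine.exists_const A W' hW' (inv ρ ∣_ W ≫ g) (by
    rw [Category.assoc, hgq, morphismRestrict_ι_assoc, ← hρ, IsIso.inv_hom_id_assoc])
  refine ⟨Over.homMk a ha, Over.OverMorphism.ext ?_⟩
  show ζ ≫ a = x.left
  have hg2 : g = W.ι ≫ ρ ≫ Groth.Agent.AVLine.sp F _ ≫ a := by
    rw [← cancel_epi (inv ρ ∣_ W), hfa, morphismRestrict_ι_assoc, IsIso.inv_hom_id_assoc]
  have h : down ≫ x.left = down ≫ ζ ≫ a := by
    rw [hg, hg2, Scheme.Opens.fromSpecStalkOfMem_ι_assoc, reassoc_of% hdown, reassoc_of% hρ]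
  have h2 := congrArg (fun m => up ≫ m) h
  simp only [reassoc_of% hud] at h2
  exact h2.symm

end Groth.Agent.S15510
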