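import Groth.Statements.S15512
import Groth.Agent.ExtPd
import Groth.Agent.SerreReg.Regular
import Groth.Agent.SerreReg.CM
import Mathlib.RingTheory.LocalProperties.Projective
import Mathlib.RingTheory.Localization.BaseChange

set_option autoImplicit false
universe u
open CategoryTheory
open CAlg Groth.Agent

namespace Groth.Agent.S15512

/-- Let A be a Noetherian ring which is regular (its localization at every maximal ideal is a regular
local ring) and of finite Krull dimension, M a finitely generated A-module and d a natural number.
If Ext^i_A(M, A) vanishes for every i > d, then the projective dimension of M is at most d. -/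
theorem result (A : Type u) [CommRing A]
    [IsNoetherianRing A] (hreg : ∀ m : MaximalSpectrum A, IsRegularLocalRing (Localization.AtPrime m.asIdeal))
    (hdim : ringKrullDim A < ⊤) (M : Type u) [AddCommGroup M] [Module A M] [Module.Finite A M] (d : ℕ)
    (h : ∀ i : ℕ, d < i → Subsingleton (Abelian.Ext (ModuleCat.of A M) (ModuleCat.of A A) i)) :
    HasProjectiveDimensionLT (ModuleCat.of A M) (d + 1) := by
  classical
  obtain ⟨D, hD⟩ : ∃ D : ℕ, ringKrullDim A ≤ D := by
    rcases h0 : ringKrullDim A with _ | a
    · exact ⟨0, bot_le⟩
    · rcases a with _ | a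
      · rw [h0] at hdim
        exact absurd hdim (lt_irrefl _)
      · exact ⟨a, le_rfl⟩
  have key : ∀ (n : ℕ) (N : Type u) [AddCommGroup N] [Module A N] [Module.Finite A N],
      (∀ (m : Ideal A) [m.IsMaximal], SerreReg.PdLE (Localization.AtPrime m) (LocalizedModule m.primeCompl N) n) →
        SerreReg.PdLE A N n := by
    intro n
    induction n with
    | zero =>
      intro N _ _ _ hN
      haveI : Module.FinitePresentation A N := Module.finitePresentation_of_finite A N
      exact (SerreReg.pdLE_zero_iff N).mpr (Module.projective_of_localization_maximal fun m hm =>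
        (SerreReg.pdLE_zero_iff _).mp (hN m))
    | succ n ih =>
      intro N _ _ _ hN
      obtain ⟨r, f, hf⟩ := Module.Finite.exists_fin' A N
      refine (SerreReg.pdLE_succ_iff f hf n).mpr (ih _ fun m _ => ?_)
      let fm := LocalizedModule.map m.primeCompl f
      have hfm : Function.Surjective fm := LocalizedModule.map_surjective _ _ hf
      haveI : Module.Projective (Localization.AtPrime m) (LocalizedModule m.primeCompl (Fin r → A)) :=
        inferInstance
      have hk := (SerreReg.pdLE_succ_iff fm hfm n).mp (hN m)
      let g := LocalizedModule.map m.primeCompl (LinearMap.ker f).subtype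
      have hex : Function.Exact g fm :=
        LocalizedModule.map_exact _ _ _ (LinearMap.exact_subtype_ker_map f)
      have hg : Function.Injective g := LocalizedModule.map_injective _ _ (Submodule.subtype_injective _)
      exact SerreReg.pdLE_of_equiv ((LinearEquiv.ofEq _ _ hex.linearMap_ker_eq).trans
        (LinearEquiv.ofInjective g hg).symm) hk
  refine ExtPd.pdLE_of_vanish D d M (key D M fun m hm => ?_) h
  haveI := hreg ⟨m, hm⟩
  obtain ⟨e, he⟩ := SerreReg.exists_dim (Localization.AtPrime m)
  refine SerreReg.pdLE_mono ?_ (SerreReg.pdLE_of_isRegularLocalRing _ e he _)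
  have h1 : ringKrullDim (Localization.AtPrime m) ≤ ringKrullDim A := by
    rw [IsLocalization.AtPrime.ringKrullDim_eq_height m]
    exact Ideal.height_le_ringKrullDim_of_ne_top hm.ne_top
  rw [he] at h1
  exact_mod_cast h1.trans hD

end Groth.Agent.S15512
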