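import Groth.Statements.S15514
import Groth.Agent.W7AdjExt.Basic
import Groth.Agent.ExtShX.DualTensor
import Groth.Agent.CurveRR.TmapR

set_option autoImplicit false
universe u
open CategoryTheory CategoryTheory.Limits AlgebraicGeometry
open Coherent

set_option backward.isDefEq.respectTransparency false
set_option backward.isDefEq.respectTransparency.types false

namespace Groth.Agent.S15514

/-- Let X be a scheme, E a finite locally free O_X-module with dual E^∨ = Hom_{O_X}(E, O_X), and F, G
arbitrary O_X-modules. Then for every i the group Ext^i_{O_X}(F ⊗ E, G), computed in the category of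
all O_X-modules, is isomorphic to Ext^i_{O_X}(F, G ⊗ E^∨). (Existence of an additive isomorphism
only; the published identification is the natural one, and the published statement is for an
arbitrary ringed space. The published statement says only that E is locally free; finite rank, which
its proof uses, is assumed here. The internal Hom functor of E and the Ext groups of O_X-modules are
the stated instance hypotheses, both true.) -/
theorem result (X : Scheme.{u}) (E : X.Modules)
    (hE : FlatMod.IsFinLocFree E) (F G : X.Modules) [ModSite.HasSheafHom (O := X.sheaf) E]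
    [HasExt.{u} X.Modules] (i : ℕ) :
    Nonempty (Abelian.Ext (CohB1.tensorMod F E) G i ≃+
      Abelian.Ext F (CohB1.tensorMod G ((ModSite.sheafHom (O := X.sheaf) E).obj (Coh.structureModule X))) i) := by
  haveI := W7Hull.preservesFiniteColimits_sheafHom E hE
  let adj : SerrePn.tens E ⊣ DCoh.sheafHom E := (DCoh.sheafHomAdj E).ofNatIsoLeft (ExtShX.commNat E).symm
  haveI : PreservesLimits (DCoh.sheafHom E) := adj.rightAdjoint_preservesLimits
  haveI : (SerrePn.tens E).Additive := adj.left_adjoint_additive
  haveI : (SerrePn.tens E).PreservesMonomorphisms := ⟨fun {M N} φ _ => by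
    have hfr : CurveRR.HasFrames E := fun {U x} hx => by
      obtain ⟨W, n, e, hxW, he⟩ := TMul.exists_isFrame hE x
      exact ⟨U ⊓ W, inf_le_left, n, fun j => QC.res E inf_le_right (e j), ⟨hx, hxW⟩, fun y hy => by
        simpa only [WeakAssLib.mgerm_res] using he y hy.2⟩
    let S : ShortComplex X.Modules := ShortComplex.mk φ (cokernel.π φ) (cokernel.condition φ)
    have hS : S.ShortExact :=
      { exact := ShortComplex.exact_cokernel φ }
    exact (CurveRR.shortExact_tmapR hfr hS).mono_f⟩
  obtain ⟨a⟩ := W7AdjExt.nonempty_ext_adj (SerrePn.tens E) (DCoh.sheafHom E) adj F G i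
  obtain ⟨h⟩ := ExtShX.nonempty_homDual hE G
  obtain ⟨m⟩ := ExtShX.nonempty_msHomIso E (Coh.structureModule X)
  obtain ⟨b⟩ := W7AdjExt.nonempty_ext_congr F (h ≪≫ PicGrp.tensorModIso (Iso.refl G) m) i
  exact ⟨a.trans b⟩

end Groth.Agent.S15514
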