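import Groth.Statements.S1552
import Groth.Agent.InvExt.Push
import Groth.Agent.TMul.AmpleComp
import Groth.Agent.S0235

set_option autoImplicit false
universe u
open CategoryTheory CategoryTheory.Limits AlgebraicGeometry
open Variety

set_option backward.isDefEq.respectTransparency false

namespace Groth.Agent.S1552

open TopologicalSpace
open Groth.Agent.QC (res resO res_res res_smul)
open TMul (IsGen)

/-- Let f : X → Y be finite, and V ⊆ Y an open over which f is an isomorphism, with Y minus V a discrete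
space. Then every invertible O_X-module is isomorphic to the pullback of an invertible O_Y-module. -/
theorem result {X Y : Scheme.{u}} (f : X ⟶ Y) [IsFinite f]
    (V : Y.Opens) (hV : IsIso (f ∣_ V)) (hdisc : DiscreteTopology ((V : Set Y)ᶜ : Set Y))
    (L : X.Modules) (hL : PicF.IsInvertible L) :
    ∃ N : Y.Modules, PicF.IsInvertible N ∧ Nonempty ((Scheme.Modules.pullback f).obj N ≅ L) := by
  let F := (Scheme.Modules.pushforward f).obj L
  -- a generator of `L` over a neighbourhood of every point of `Y`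
  have hnbhd : ∀ y : Y, ∃ (W : Y.Opens) (e : Γ(L, f ⁻¹ᵁ W)), y ∈ W ∧ IsGen e := fun y => by
    obtain ⟨W, hyW, ⟨i⟩⟩ := Groth.Agent.S0235.result f L hL y
    have h1 := (TMul.isIso_restrict_iff i.inv ⊤).1 inferInstance
    have h2 := (TMul.isGen_restrict_iff (f ⁻¹ᵁ W).ι i.inv ⊤).1 h1
    exact ⟨W, _, hyW, h2.res (fun x hx => ⟨⟨x, hx⟩, trivial, rfl⟩ : f ⁻¹ᵁ W ≤ (f ⁻¹ᵁ W).ι ''ᵁ ⊤)⟩
  haveI := hV
  have hbij : ∀ O : Y.Opens, O ≤ V → Function.Bijective (f.app O) := fun O hO => by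
    haveI : IsIso (f.app O) := by
      obtain ⟨O', rfl⟩ : ∃ O', V.ι ''ᵁ O' = O := ⟨V.ι ⁻¹ᵁ O, by
        rw [Scheme.Hom.image_preimage_eq_opensRange_inf, V.opensRange_ι, inf_eq_right.mpr hO]⟩
      have h3 : IsIso ((f ∣_ V).app O') := inferInstance
      rw [morphismRestrict_app] at h3
      exact IsIso.of_isIso_comp_right (f.app (V.ι ''ᵁ O'))
        (X.presheaf.map (eqToHom (image_morphismRestrict_preimage f V O')).op)
    exact ConcreteCategory.bijective_of_isIso _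
  have hFgen : ∀ {O : Y.Opens} (e : Γ(L, f ⁻¹ᵁ O)), O ≤ V → IsGen e → IsGen (N := F) (U := O) e :=
    fun {O} e hO he P hP => (he (f ⁻¹ᵁ P) (f.preimage_mono hP)).comp (hbij P (hP.trans hO))
  -- neighbourhoods isolating the points outside `V`
  have hN : ∀ z : {y : Y // y ∉ V}, ∃ (W : Y.Opens) (e : Γ(F, W)), z.1 ∈ W ∧
      (∀ y ∈ W, y ∉ V → y = z.1) ∧ IsGen (N := L) (U := f ⁻¹ᵁ W) e := fun z => by
    obtain ⟨O, hO, hOz⟩ := isOpen_induced_iff.1 (isOpen_discrete ({⟨z.1, z.2⟩} : Set ↥((V : Set Y)ᶜ)))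
    obtain ⟨W, e, hzW, he⟩ := hnbhd z.1
    have hzO : z.1 ∈ O := (Set.ext_iff.1 hOz ⟨z.1, z.2⟩).2 rfl
    exact ⟨W ⊓ ⟨O, hO⟩, res L (f.preimage_mono inf_le_left) e, ⟨hzW, hzO⟩,
      fun y hy hyV => congrArg Subtype.val ((Set.ext_iff.1 hOz ⟨y, hyV⟩).1 hy.2), he.res _⟩
  choose W g hzW hone hg using hN
  obtain ⟨N, π, hNi, hπW, hπV⟩ := Groth.Agent.InvExt.exists_hom_push (V := V) (F := F) g
    (fun z => hFgen _ inf_le_right ((hg z).res (f.preimage_mono inf_le_left)))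
    (fun z z' hne y hy => by
      by_contra hyU
      exact hne (Subtype.ext ((hone z y hy.1 hyU).symm.trans (hone z' y hy.2 hyU))))
    (fun y hy => by
      obtain ⟨O, e, hyO, he⟩ := hnbhd y
      exact ⟨O ⊓ V, res L (f.preimage_mono inf_le_left) e, ⟨hyO, hy⟩, inf_le_right,
        hFgen _ inf_le_right (he.res _)⟩)
    fun y hy => ⟨⟨y, hy⟩, hzW _⟩
  let adj := Scheme.Modules.pullbackPushforwardAdjunction f
  let ψ : (Scheme.Modules.pullback f).obj N ⟶ L := (adj.homEquiv N L).symm π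
  have hψ : ∀ (O : Y.Opens) (s : Γ(N, O)), ψ.app (f ⁻¹ᵁ O) ((adj.unit.app N).app O s) = π.app O s :=
    fun O s => by
    have h : adj.homEquiv N L ψ = π := Equiv.apply_symm_apply _ _
    rw [Adjunction.homEquiv_unit] at h
    exact congrArg (fun q : N ⟶ F => q.app O s) h
  haveI : IsIso ψ := Groth.Agent.InvExt.isIso_of_hits_gen (PicLoc.isInvertible_pullback f hNi) ψ fun x => by
    by_cases hx : f x ∈ V
    · obtain ⟨O, e, hxO, hOV, he⟩ := hπV (f x) hx
      obtain ⟨W₀, e₀, hxW₀, he₀⟩ := hnbhd (f x)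
      let O' := O ⊓ W₀
      refine ⟨f ⁻¹ᵁ O', (adj.unit.app N).app O' (res N inf_le_left e), ⟨hxO, hxW₀⟩, ?_⟩
      rw [hψ, ← Groth.Agent.QC.app_res]
      have h₀ : IsGen (N := F) (U := O') (res L (f.preimage_mono inf_le_right) e₀) :=
        hFgen _ (inf_le_left.trans hOV) (he₀.res _)
      obtain ⟨k, hk⟩ := (h₀ O' le_rfl).2 (res F inf_le_left (π.app O e))
      obtain ⟨k', hk'⟩ := (he O' inf_le_left).2 (res L (f.preimage_mono inf_le_right) e₀ : Γ(F, O'))
      simp only [Groth.Agent.QC.res_self] at hk hk'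
      have hk1 : k' * k = 1 := (h₀ O' le_rfl).1 (by
        simp only [Groth.Agent.QC.res_self]
        rw [mul_smul, hk, hk', one_smul])
      rw [← hk]
      exact Groth.Agent.UfdExtend.isGen_unit_smul (he₀.res _)
        ((IsUnit.of_mul_eq_one_right k' hk1).map (f.app O').hom)
    · obtain ⟨e, he⟩ := hπW ⟨f x, hx⟩
      refine ⟨f ⁻¹ᵁ W ⟨f x, hx⟩, (adj.unit.app N).app _ e, hzW ⟨f x, hx⟩, ?_⟩
      rw [hψ, he]
      exact hg _
  exact ⟨N, hNi, ⟨asIso ψ⟩⟩

end Groth.Agent.S1552
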