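import Groth.Statements.S15522
import Groth.Agent.W7Cech.FibreAffine

set_option autoImplicit false
universe u
attribute [local instance] HasDerivedCategory.standard
open Coherent

open CategoryTheory CategoryTheory.Limits AlgebraicGeometry
namespace Groth.Agent.S15522

open AlgebraicGeometry CategoryTheory in
/-- Let A be a reduced Noetherian ring, X a proper scheme over Spec A with structure morphism f, F a
coherent O_X-module flat over Spec A, and p a natural number such that the function y ↦ dim_{κ(y)}
H^p(X_y, F_y) is locally constant on Spec A. For each q write T^q for the functor M ↦ H^q(X, f^*(M~)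
⊗ F) from A-modules to abelian groups. Then T^p takes surjections to surjections, and so does
T^(p-1) when p ≥ 1; equivalently, every base-change map H^q(X, F) ⊗_A M → H^q(X, F ⊗_A M) is
bijective for q = p and q = p - 1. (The published statement also asserts that R^p f_*F is locally
free of finite rank; this row states the two exchange properties only, over an affine base.) -/
theorem result (A : Type u) [CommRing A]
    [IsNoetherianRing A] [IsReduced A] (X : Scheme.{u}) [X.Over (Spec (CommRingCat.of A))]
    [IsProper (X ↘ Spec (CommRingCat.of A))] (F : X.Modules) (hF : Coh.IsCoh F)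
    (hfl : FlatMod.IsFlatOver (X ↘ Spec (CommRingCat.of A)) F) (p : ℕ)
    (hconst : IsLocallyConstant (CohIII.fiberRank (X ↘ Spec (CommRingCat.of A)) F p)) :
    (CohIII.tensorAFunctor A F ⋙ CohIII.HAb X p).PreservesEpimorphisms ∧
      ∀ q : ℕ, q + 1 = p → (CohIII.tensorAFunctor A F ⋙ CohIII.HAb X q).PreservesEpimorphisms := by
  obtain ⟨L, b, hL, hb, hneg, he, hrk, -⟩ := Groth.Agent.W7Cech.exists_fibre_model A F hF hfl
  have hd : IsLocallyConstant (CohIII.dRank L (p : ℤ)) := by
    rw [show CohIII.dRank L (p : ℤ) = CohIII.fiberRank (X ↘ Spec (CommRingCat.of A)) F p from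
      funext fun x => (hrk p x).symm]
    exact hconst
  obtain ⟨hm, hep⟩ := Groth.Agent.W7Cech.exact_of_dRank_locallyConstant L hL (p : ℤ) hd
  have key : ∀ q : ℕ, (CohIII.TFun L (q : ℤ)).PreservesEpimorphisms →
      (CohIII.tensorAFunctor A F ⋙ CohIII.HAb X q).PreservesEpimorphisms := fun q h => by
    obtain ⟨e, hn⟩ := he q
    refine ⟨fun {M N} g hg => (AddCommGrpCat.epi_iff_surjective _).2 fun y => ?_⟩
    haveI := h.preserves g
    obtain ⟨w, hw⟩ := (ModuleCat.epi_iff_surjective ((CohIII.TFun L (q : ℤ)).map g)).1 inferInstance ((e N).symm y)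
    refine ⟨e M w, (hn M N g w).symm.trans ?_⟩
    exact (congrArg (e N) hw).trans ((e N).apply_symm_apply y)
  refine ⟨key p hep, fun q hq => key q ?_⟩
  refine (Groth.Agent.W7Cech.T_epi_iff_mono_succ L (Groth.Agent.W7Cech.flatX L hL) (q : ℤ)).2 ?_
  rw [show (q : ℤ) + 1 = (p : ℤ) by omega]
  exact hm

end Groth.Agent.S15522
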