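import Groth.Statements.S15523
import Groth.Agent.Nakai.HodgeNum
import Groth.Agent.SmoothRed.Scheme
import Groth.Agent.Intersect.Pos

set_option autoImplicit false
universe u
open CategoryTheory AlgebraicGeometry
open Zeta

namespace Groth.Agent.S15523

/-- Let S be a smooth, proper, geometrically irreducible surface over a field k, H an ample invertible
O_S-module and D any invertible O_S-module. Then (D·D)(H·H) ≤ (D·H)^2, where (A·B) denotes the
intersection number on S computed as the alternating sum of Euler characteristics χ(O_S) − χ(A) −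
χ(B) + χ(A ⊗ B). (The published statement is for divisors on the self-product of a smooth projective
geometrically irreducible curve over a finite field; the printed argument uses only the Hodge index
property of an ample class on a smooth projective surface, so the row is stated for any such
surface.) -/
theorem result (k : Type u) [Field k] (S : Scheme.{u})
    [S.Over (Spec (CommRingCat.of k))] [IsProper (S ↘ Spec (CommRingCat.of k))]
    [Smooth (S ↘ Spec (CommRingCat.of k))] [GeometricallyIrreducible (S ↘ Spec (CommRingCat.of k))]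
    (hdim : topologicalKrullDim S = 2) (D H : S.Modules) (hD : PicF.IsInvertible D)
    (hH : CohB1.IsAmple H) :
    FGA.intNum k S 2 ![D, D] (Coh.structureModule S) * FGA.intNum k S 2 ![H, H] (Coh.structureModule S) ≤
      FGA.intNum k S 2 ![D, H] (Coh.structureModule S) ^ 2 := by
  haveI : IsReduced S := Groth.Agent.SmoothRed.isReduced_of_smooth_scheme (S ↘ Spec (CommRingCat.of k))
  haveI : Nonempty S := by
    by_contra h
    rw [not_nonempty_iff] at h
    have : topologicalKrullDim S = ⊥ := by
      haveI : IsEmpty (TopologicalSpace.IrreducibleCloseds S) :=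
        ⟨fun c => c.isIrreducible.nonempty.elim fun x _ => h.elim x⟩
      exact Order.krullDim_eq_bot
    rw [this] at hdim
    exact absurd hdim (by decide)
  haveI : Subsingleton (Spec (CommRingCat.of k)) := inferInstanceAs (Subsingleton (PrimeSpectrum k))
  haveI := GeometricallyIrreducible.irreducibleSpace_of_subsingleton (f := S ↘ Spec (CommRingCat.of k))
  haveI : IsIntegral S := isIntegral_of_irreducibleSpace_of_isReduced S
  haveI := Groth.Agent.CurveRR.isNoetherian_of_proper k S
  have hd : topologicalKrullDim S ≤ ((2 : ℕ) : WithBot ℕ∞) := hdim.le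
  have hHi : PicF.IsInvertible H := hH.1
  have hpos : 0 < Groth.Agent.Nakai.inter k H H := by
    have h := Groth.Agent.Intersect.alt_pos k 2 ![H, H] (fun i => by fin_cases i <;> exact hH)
      (Coh.structureModule S) Groth.Agent.RefStalk.isCoh_structureModule
      (Groth.Agent.Intersect.dim_support_structure.trans (hdim.trans (by norm_cast)))
    rw [← Groth.Agent.Nakai.inter_eq_alt] at h
    simpa using h
  obtain ⟨a, ha⟩ := Groth.Agent.Nakai.exists_int_inter k H H
  obtain ⟨b, hb⟩ := Groth.Agent.Nakai.exists_int_inter k D H
  obtain ⟨P, hP, hPC⟩ := Groth.Agent.Nakai.exists_signed k hd hD a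
  obtain ⟨R, hR, hRC⟩ := Groth.Agent.Nakai.exists_signed k hd hHi (-b)
  have hM : PicF.IsInvertible (CohB1.tensorMod P R) := TMul.isInvertible_tensorMod hP hR
  have hMC : ∀ {C : S.Modules}, PicF.IsInvertible C →
      Groth.Agent.Nakai.inter k (CohB1.tensorMod P R) C =
        (a : ℚ) * Groth.Agent.Nakai.inter k D C - b * Groth.Agent.Nakai.inter k H C := fun {C} hC => by
    rw [Groth.Agent.Nakai.inter_tensor k hd hP hR hC, hPC C hC, hRC C hC]
    push_cast
    ring
  have h1 : Groth.Agent.Nakai.inter k H (CohB1.tensorMod P R) = 0 := by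
    rw [Groth.Agent.Nakai.inter_comm, hMC hHi, hb, ha]; ring
  have h2 := Groth.Agent.Nakai.self_nonpos_of_orth k hdim hHi hM hH hpos h1
  rw [hMC hM, h1, Groth.Agent.Nakai.inter_comm k D, hMC hD, Groth.Agent.Nakai.inter_comm k H D, hb] at h2
  have h3 : Groth.Agent.Nakai.inter k D D * (a : ℚ) ≤ (b : ℚ) ^ 2 := by
    have ha0 : (0 : ℚ) < a := by rw [← ha]; exact hpos
    by_contra h
    push Not at h
    nlinarith [mul_pos ha0 (sub_pos.2 h)]
  have key : ((FGA.intNum k S 2 ![D, D] (Coh.structureModule S) *
      FGA.intNum k S 2 ![H, H] (Coh.structureModule S) : ℤ) : ℚ) ≤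
      ((FGA.intNum k S 2 ![D, H] (Coh.structureModule S) ^ 2 : ℤ) : ℚ) := by
    push_cast
    rw [Groth.Agent.Nakai.intNum_eq_inter k hd, Groth.Agent.Nakai.intNum_eq_inter k hd,
      Groth.Agent.Nakai.intNum_eq_inter k hd, ha, hb]
    exact h3
  exact_mod_cast key

end Groth.Agent.S15523
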