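import Groth.Statements.S15525
import Mathlib

set_option autoImplicit false
universe u
open Zeta

namespace Groth.Agent.S15525

/-- Let L be a field with a ring embedding ι into ℂ and M an r × r matrix over L all of whose
eigenvalues, the complex roots of its characteristic polynomial mapped along ι, have absolute value
1. Then every coefficient of the characteristic polynomial of the block-diagonal matrix with blocks
M and the inverse transpose of M is mapped by ι into ℝ. This is the pointwise content of the
assertion that for a lisse sheaf F pure of weight 0 the sum of F and its dual is real, the Frobenius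
of the dual acting by the inverse transpose. -/
theorem result (L : Type u) [Field L] (ι : L →+* ℂ)
    {r : ℕ} (M : Matrix (Fin r) (Fin r) L)
    (hM : ∀ z ∈ ((Matrix.charpoly M).map ι).roots, ‖z‖ = 1) (n : ℕ) :
    (ι ((Matrix.fromBlocks M 0 0 (M⁻¹).transpose).charpoly.coeff n)).im = 0 := by
  have key : ∀ s : Multiset ℂ, (∀ z ∈ s, ‖z‖ = 1) →
      (-1 : Polynomial ℂ) ^ Multiset.card s * Polynomial.C s.prod⁻¹ *
        (s.map fun z => Polynomial.X - Polynomial.C z).prod.reverse =
      ((s.map fun z => Polynomial.X - Polynomial.C z).prod).map (starRingEnd ℂ) := by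
    intro s
    induction s using Multiset.induction_on with
    | empty => intro _; simp [Polynomial.reverse]
    | cons a t ih =>
      intro hs
      have ha : ‖a‖ = 1 := hs a (Multiset.mem_cons_self a t)
      have ha' : a⁻¹ = starRingEnd ℂ a := Complex.inv_eq_conj ha
      have ha0 : a ≠ 0 := fun h => by simp [h] at ha
      rw [Multiset.map_cons, Multiset.prod_cons (a := _) (s := t.map _), Polynomial.reverse_mul_of_domain, Polynomial.map_mul,
        ← ih fun z hz => hs z (Multiset.mem_cons_of_mem hz), Multiset.card_cons, Multiset.prod_cons,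
        mul_inv, map_mul, pow_succ]
      have hrev : (Polynomial.X - Polynomial.C a).reverse = 1 - Polynomial.C a * Polynomial.X := by
        ext i
        rcases i with _ | _ | i <;>
          simp [Polynomial.coeff_reverse, Polynomial.revAt, Polynomial.natDegree_X_sub_C,
            Polynomial.coeff_one, Polynomial.coeff_C, Polynomial.coeff_X]
      have hc : Polynomial.C a⁻¹ * Polynomial.C a = 1 := by
        rw [← map_mul, inv_mul_cancel₀ ha0, map_one]
      rw [hrev, Polynomial.map_sub, Polynomial.map_X, Polynomial.map_C, ← ha']
      linear_combination (Polynomial.X * ((-1 : Polynomial ℂ) ^ Multiset.card t * Polynomial.C t.prod⁻¹ *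
        (t.map fun z => Polynomial.X - Polynomial.C z).prod.reverse)) * hc
  let A := M.map ι
  have hA : A.charpoly = (M.charpoly).map ι := Matrix.charpoly_map M ι
  have hspl : A.charpoly = (A.charpoly.roots.map fun z => Polynomial.X - Polynomial.C z).prod :=
    Polynomial.Splits.eq_prod_roots_of_monic (IsAlgClosed.splits _) A.charpoly_monic
  have hdet : ι M.det = A.charpoly.roots.prod := by
    rw [← Matrix.det_eq_prod_roots_charpoly]
    exact ι.map_det M
  have hroots : ∀ z ∈ A.charpoly.roots, ‖z‖ = 1 := by rw [hA]; exact hM
  have hcard : Multiset.card A.charpoly.roots = r := by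
    rw [IsAlgClosed.card_roots_eq_natDegree, Matrix.charpoly_natDegree_eq_dim, Fintype.card_fin]
  have hdet0 : M.det ≠ 0 := fun h => by
    have : ‖A.charpoly.roots.prod‖ = 1 := by
      rw [show ‖A.charpoly.roots.prod‖ = (A.charpoly.roots.map (fun z => ‖z‖)).prod from (map_multiset_prod (normHom : ℂ →*₀ ℝ) _)]
      exact Multiset.prod_eq_one fun x hx => by obtain ⟨z, hz, rfl⟩ := Multiset.mem_map.1 hx; exact hroots z hz
    rw [← hdet, h, map_zero, norm_zero] at this
    exact zero_ne_one this
  have hunit : IsUnit M := (Matrix.isUnit_iff_isUnit_det M).2 (isUnit_iff_ne_zero.2 hdet0)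
  have hinv : ((M⁻¹).charpoly).map ι = A.charpoly.map (starRingEnd ℂ) := by
    rw [Matrix.charpoly_inv M hunit, ← Matrix.reverse_charpoly, Polynomial.map_mul, Polynomial.map_mul,
      Polynomial.map_pow, Polynomial.map_neg, Polynomial.map_one, Polynomial.map_C, Ring.inverse_eq_inv,
      map_inv₀, hdet, Fintype.card_fin]
    have hrev : M.charpoly.reverse.map ι = A.charpoly.reverse := by
      rw [hA, Polynomial.reverse, Polynomial.reverse, Polynomial.natDegree_map, Polynomial.reflect_map]
    rw [hrev]
    conv_rhs => rw [hspl, ← key _ hroots, hcard, ← hspl]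
  rw [Matrix.charpoly_fromBlocks_zero₁₂, Matrix.charpoly_transpose, ← Polynomial.coeff_map, Polynomial.map_mul,
    hinv, ← hA, ← Complex.conj_eq_iff_im, ← Polynomial.coeff_map, Polynomial.map_mul, Polynomial.map_map,
    RingHom.ext (f := (starRingEnd ℂ).comp (starRingEnd ℂ)) (g := RingHom.id ℂ) (fun z => Complex.conj_conj z), Polynomial.map_id, mul_comm]

end Groth.Agent.S15525
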