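import Groth.Statements.S15526
import Mathlib.RingTheory.Ideal.Quotient.Operations
import Mathlib.Algebra.Polynomial.AlgebraMap
import Mathlib.Algebra.MvPolynomial.CommRing
import Mathlib.Algebra.BigOperators.Fin
import Mathlib.Tactic.Ring

set_option autoImplicit false
universe u
open MvPolynomial
open CAlg

namespace Groth.Agent.S15526

/-- Let R be a commutative ring, P ∈ R[x] a monic polynomial of degree 2g + 1, and A = R[x, y, z]/(y^2 −
P(x), yz − 1). Then every element of A is a finite sum Σ_n Q_n(x) y^n over integers n, negative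
powers of y meaning powers of z, with each Q_n ∈ R[x] of degree at most 2g: the R-submodule of A
spanned by the classes of x^i y^n and x^i z^n with i ≤ 2g and n ≥ 0 is all of A. (The published
statement takes for R the ring of Witt vectors of a finite field and for P a lift of a separable
polynomial; the argument uses only that P is monic of degree 2g + 1.) -/
theorem result (R : Type u) [CommRing R] (g : ℕ)
    (P : Polynomial R) (hP : P.Monic) (hdeg : P.natDegree = 2 * g + 1) :
    Submodule.span R {a : MvPolynomial (Fin 3) R ⧸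
        Ideal.span ({X 1 ^ 2 - Polynomial.aeval (X 0 : MvPolynomial (Fin 3) R) P, X 1 * X 2 - 1} :
          Set (MvPolynomial (Fin 3) R)) |
        ∃ i n : ℕ, i ≤ 2 * g ∧
          (a = Ideal.Quotient.mk _ (X 0 ^ i * X 1 ^ n) ∨ a = Ideal.Quotient.mk _ (X 0 ^ i * X 2 ^ n))} =
      ⊤ := by
  classical
  set I : Ideal (MvPolynomial (Fin 3) R) :=
    Ideal.span ({X 1 ^ 2 - Polynomial.aeval (X 0 : MvPolynomial (Fin 3) R) P, X 1 * X 2 - 1} :
          Set (MvPolynomial (Fin 3) R)) with hI
  set M := Submodule.span R {a : MvPolynomial (Fin 3) R ⧸ I |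
        ∃ i n : ℕ, i ≤ 2 * g ∧
          (a = Ideal.Quotient.mk _ (X 0 ^ i * X 1 ^ n) ∨ a = Ideal.Quotient.mk _ (X 0 ^ i * X 2 ^ n))} with hM
  let π := Ideal.Quotient.mkₐ R I
  let x := π (X 0)
  let y := π (X 1)
  let z := π (X 2)
  have hyz : y * z = 1 := by
    have : π (X 1 * X 2 - 1) = 0 := Ideal.Quotient.eq_zero_iff_mem.mpr (Ideal.subset_span (by simp))
    rw [map_sub, map_mul, map_one, sub_eq_zero] at this
    exact this
  have hy2 : y ^ 2 = Polynomial.aeval x P := by
    have : π (X 1 ^ 2 - Polynomial.aeval (X 0) P) = 0 := Ideal.Quotient.eq_zero_iff_mem.mpr (Ideal.subset_span (by simp))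
    rw [map_sub, map_pow, ← Polynomial.aeval_algHom_apply, sub_eq_zero] at this
    exact this
  have hred : ∀ b c i, i ≤ 2 * g → x ^ i * y ^ b * z ^ c ∈ M := by
    intro b c i hi
    rcases le_total c b with h | h
    · obtain ⟨d, rfl⟩ := Nat.exists_eq_add_of_le h
      refine Submodule.subset_span ⟨i, d, hi, Or.inl ?_⟩
      have : x ^ i * y ^ (c + d) * z ^ c = x ^ i * y ^ d * (y * z) ^ c := by rw [mul_pow, pow_add]; ring
      rw [this, hyz, one_pow, mul_one]
      simp [x, y, π]
    · obtain ⟨d, rfl⟩ := Nat.exists_eq_add_of_le h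
      refine Submodule.subset_span ⟨i, d, hi, Or.inr ?_⟩
      have : x ^ i * y ^ b * z ^ (b + d) = x ^ i * z ^ d * (y * z) ^ b := by rw [mul_pow, pow_add]; ring
      rw [this, hyz, one_pow, mul_one]
      simp [x, z, π]
  have hall : ∀ i b c, x ^ i * y ^ b * z ^ c ∈ M := by
    intro i
    induction i using Nat.strong_induction_on with
    | _ i ih =>
      intro b c
      by_cases hi : i ≤ 2 * g
      · exact hred b c i hi
      obtain ⟨e, rfl⟩ : ∃ e, i = e + (2 * g + 1) := ⟨i - (2 * g + 1), by omega⟩
      have hX : x ^ (2 * g + 1) = y ^ 2 - ∑ j ∈ Finset.range (2 * g + 1), P.coeff j • x ^ j := by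
        rw [hy2, Polynomial.aeval_eq_sum_range, hdeg, Finset.sum_range_succ]
        rw [← hdeg, hP.coeff_natDegree, one_smul, hdeg]
        ring
      have : x ^ (e + (2 * g + 1)) * y ^ b * z ^ c = x ^ e * y ^ (b + 2) * z ^ c -
          ∑ j ∈ Finset.range (2 * g + 1), P.coeff j • (x ^ (e + j) * y ^ b * z ^ c) := by
        rw [pow_add, hX, mul_sub, sub_mul, sub_mul, Finset.mul_sum, Finset.sum_mul, Finset.sum_mul]
        congr 1
        · ring
        · refine Finset.sum_congr rfl fun j _ => ?_
          rw [mul_smul_comm, smul_mul_assoc, smul_mul_assoc, pow_add]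
      rw [this]
      refine sub_mem (ih e (by omega) _ _) (sum_mem fun j hj => M.smul_mem _ (ih _ ?_ _ _))
      have := Finset.mem_range.mp hj
      omega
  rw [eq_top_iff]
  rintro a -
  obtain ⟨q, rfl⟩ := Ideal.Quotient.mk_surjective a
  induction q using MvPolynomial.induction_on' with
  | monomial d r =>
    rw [MvPolynomial.monomial_eq, Finsupp.prod_fintype _ _ (fun _ => pow_zero _), Fin.prod_univ_three]
    have : Ideal.Quotient.mk I (MvPolynomial.C r * (X 0 ^ d 0 * X 1 ^ d 1 * X 2 ^ d 2)) =
        r • (x ^ d 0 * y ^ d 1 * z ^ d 2) := by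
      show π _ = _
      rw [← MvPolynomial.smul_eq_C_mul, map_smul]
      simp [x, y, z]
    rw [this]
    exact M.smul_mem _ (hall _ _ _)
  | add p q hp hq => rw [map_add]; exact add_mem hp hq

end Groth.Agent.S15526
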