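import Groth.Statements.S15546
import Mathlib
-- import your own Groth.Agent.* helpers here

set_option autoImplicit false
open scoped TensorProduct
universe u
open Unram

namespace Groth.Agent.S15546

/-- Let E be a finite extension of a field k which is not separable over k, and K an algebraic closure
of k. Then E ⊗_k K has a nonzero nilpotent element. -/
theorem result (k E K : Type u) [Field k] [Field E]
    [Algebra k E] [FiniteDimensional k E] [Field K] [Algebra k K] [IsAlgClosure k K]
    (h : ¬ Algebra.IsSeparable k E) : ∃ x : E ⊗[k] K, x ≠ 0 ∧ IsNilpotent x := by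
  classical
  obtain ⟨x, hx⟩ : ∃ x : E, ¬ IsSeparable k x := by
    by_contra! hall
    exact h ⟨hall⟩
  haveI : IsAlgClosed K := IsAlgClosure.isAlgClosed k
  have hint : IsIntegral k x := IsIntegral.of_finite k x
  let p := minpoly k x
  have hp0 : p ≠ 0 := minpoly.ne_zero hint
  let pK := p.map (algebraMap k K)
  have hpK0 : pK ≠ 0 := Polynomial.map_ne_zero hp0
  obtain ⟨a, ha⟩ : ∃ a : K, (Polynomial.X - Polynomial.C a) * (Polynomial.X - Polynomial.C a) ∣ pK := by
    by_contra! hall
    refine hx ((Polynomial.separable_map (algebraMap k K)).1 ((Polynomial.nodup_roots_iff_of_splits hpK0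
      (IsAlgClosed.splits _)).1 (Multiset.nodup_iff_count_le_one.2 fun a => ?_)))
    rw [Polynomial.count_roots]
    by_contra hgt
    exact hall a (sq (Polynomial.X - Polynomial.C a) ▸ (Polynomial.le_rootMultiplicity_iff hpK0).1 (not_le.1 hgt))
  obtain ⟨g, hg⟩ := ha
  let hh := (Polynomial.X - Polynomial.C a) * g
  have hg0 : g ≠ 0 := fun h0 => hpK0 (by rw [hg, h0, mul_zero])
  have hh0 : hh ≠ 0 := mul_ne_zero (Polynomial.X_sub_C_ne_zero a) hg0
  have hdeg : hh.natDegree < p.natDegree := by
    rw [← Polynomial.natDegree_map_eq_of_injective (algebraMap k K).injective p]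
    show _ < pK.natDegree
    rw [hg, mul_assoc, Polynomial.natDegree_mul (Polynomial.X_sub_C_ne_zero a) hh0, Polynomial.natDegree_X_sub_C]
    omega
  let y : TensorProduct k E K := ∑ i ∈ Finset.range (hh.natDegree + 1), TensorProduct.tmul k (x ^ i) (hh.coeff i)
  have hy : ∀ s : Polynomial K, Polynomial.eval₂ (Algebra.TensorProduct.includeRight : K →ₐ[k] TensorProduct k E K).toRingHom
      (TensorProduct.tmul k x (1 : K)) s = ∑ i ∈ Finset.range (s.natDegree + 1), TensorProduct.tmul k (x ^ i) (s.coeff i) := fun s => by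
    rw [Polynomial.eval₂_eq_sum_range]
    refine Finset.sum_congr rfl fun i _ => ?_
    simp [Algebra.TensorProduct.tmul_pow]
  refine ⟨y, fun h0 => ?_, ⟨2, ?_⟩⟩
  · have hli : LinearIndependent k fun i : Fin p.natDegree => x ^ (i : ℕ) := linearIndependent_pow x
    let j : Fin p.natDegree := ⟨hh.natDegree, hdeg⟩
    obtain ⟨φ, hφ⟩ := LinearMap.exists_extend ((Finsupp.lapply j).comp hli.repr)
    have hφx : ∀ i : Fin p.natDegree, φ (x ^ (i : ℕ)) = if i = j then 1 else 0 := fun i => by
      have := LinearMap.congr_fun hφ ⟨x ^ (i : ℕ), Submodule.subset_span ⟨i, rfl⟩⟩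
      simp only [LinearMap.comp_apply, Submodule.subtype_apply, hli.repr_eq_single i ⟨x ^ (i : ℕ), _⟩ rfl,
        Finsupp.lapply_apply] at this
      rw [this, Finsupp.single_apply]
    have h1 := congrArg ((TensorProduct.lid k K).toLinearMap ∘ₗ φ.rTensor K) h0
    simp only [y, map_sum, map_zero, LinearMap.comp_apply, LinearMap.rTensor_tmul, LinearEquiv.coe_coe,
      TensorProduct.lid_tmul] at h1
    rw [Finset.sum_eq_single hh.natDegree] at h1
    · rw [show φ (x ^ hh.natDegree) = 1 by simpa [j] using hφx j, one_smul, Polynomial.coeff_natDegree,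
        Polynomial.leadingCoeff_eq_zero] at h1
      exact hh0 h1
    · intro i hi hne
      have hi' : i < p.natDegree := (Nat.lt_succ_iff.1 (Finset.mem_range.1 hi)).trans_lt hdeg
      have h3 : φ (x ^ i) = 0 := by
        simpa [j, Fin.ext_iff, hne] using hφx ⟨i, hi'⟩
      rw [h3, zero_smul]
    · intro hn
      exact absurd (Finset.mem_range.2 (Nat.lt_succ_self _)) hn
  · show (∑ i ∈ Finset.range (hh.natDegree + 1), TensorProduct.tmul k (x ^ i) (hh.coeff i)) ^ 2 = 0
    rw [← hy, ← Polynomial.eval₂_pow, show hh ^ 2 = pK * g by rw [hg]; ring, Polynomial.eval₂_mul,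
      Polynomial.eval₂_map]
    have : ((Algebra.TensorProduct.includeRight : K →ₐ[k] TensorProduct k E K).toRingHom.comp (algebraMap k K)) =
        algebraMap k (TensorProduct k E K) := RingHom.ext fun r => (Algebra.TensorProduct.includeRight : K →ₐ[k] TensorProduct k E K).commutes r
    rw [this, ← Polynomial.aeval_def]
    rw [show (TensorProduct.tmul k x (1 : K)) = (Algebra.TensorProduct.includeLeft : E →ₐ[k] TensorProduct k E K) x from rfl,
      Polynomial.aeval_algHom_apply, minpoly.aeval, map_zero, zero_mul]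

end Groth.Agent.S15546
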