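import Groth.Statements.S15547
import Mathlib

set_option autoImplicit false
open CategoryTheory AlgebraicGeometry TopologicalSpace
universe u
open Coherent

set_option backward.isDefEq.respectTransparency false
set_option linter.style.haveILetI false
namespace Groth.Agent.S15547

/-- Let g : Z ⟶ X be a finite morphism of schemes (Z is the spectrum of the finite quasi-coherent
O_X-algebra C = g_*O_Z) and x a point of X. Then the points of Z over x correspond bijectively to
the maximal ideals of the stalk C_x = (g_*O_Z)_x: the map sending z with g(z) = x to the preimage of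
the maximal ideal of O_{Z,z} under the canonical map (g_*O_Z)_x ⟶ O_{Z,z} is a bijection from the
fibre onto the set of maximal ideals. -/
theorem result {Z X : Scheme.{u}} (g : Z ⟶ X)
    [IsFinite g] (x : X) :
    Set.BijOn (fun z : {z : Z // g.base z = x} =>
        Ideal.comap (((g.base _* Z.presheaf).stalkCongr (Inseparable.of_eq z.2)).inv ≫
            TopCat.Presheaf.stalkPushforward CommRingCat g.base Z.presheaf z.1).hom
          (IsLocalRing.maximalIdeal (Z.presheaf.stalk z.1)))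
      Set.univ {I : Ideal ((g.base _* Z.presheaf).stalk x) | I.IsMaximal} := by
  classical
  let Φ : (z : {z : Z // g.base z = x}) → ((g.base _* Z.presheaf).stalk x ⟶ Z.presheaf.stalk z.1) := fun z =>
    ((g.base _* Z.presheaf).stalkCongr (Inseparable.of_eq z.2)).inv ≫ TopCat.Presheaf.stalkPushforward CommRingCat g.base Z.presheaf z.1
  let P : (z : {z : Z // g.base z = x}) → Ideal ((g.base _* Z.presheaf).stalk x) := fun z =>
    Ideal.comap (Φ z).hom (IsLocalRing.maximalIdeal (Z.presheaf.stalk z.1))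
  have hΦ : ∀ (z : {z : Z // g.base z = x}) (U : X.Opens) (hx : x ∈ U) (hz : z.1 ∈ g ⁻¹ᵁ U) (s : Γ(Z, g ⁻¹ᵁ U)),
      (Φ z).hom ((g.base _* Z.presheaf).germ U x hx s) = Z.presheaf.germ (g ⁻¹ᵁ U) z.1 hz s := by
    rintro ⟨z, rfl⟩ U hx hz s
    have e : (g.base _* Z.presheaf).germ U (g.base z) hx ≫ Φ ⟨z, rfl⟩ = Z.presheaf.germ (g ⁻¹ᵁ U) z hz := by
      simp only [Φ, TopCat.Presheaf.stalkCongr_inv]
      rw [TopCat.Presheaf.germ_stalkSpecializes_assoc, TopCat.Presheaf.stalkPushforward_germ]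
    exact ConcreteCategory.congr_hom e s
  have hunit : ∀ c, (∀ z, IsUnit ((Φ z).hom c)) → IsUnit c := by
    intro c hc
    obtain ⟨U, hxU, s, rfl⟩ := TopCat.Presheaf.exists_germ_eq (C := CommRingCat.{u}) (g.base _* Z.presheaf) c
    obtain ⟨s', rfl⟩ : ∃ s' : Γ(Z, g ⁻¹ᵁ U), s' = s := ⟨s, rfl⟩
    let C : Set X := g '' ((Z.basicOpen s' : Set Z)ᶜ)
    have hC : IsClosed C := g.isClosedMap _ (Z.basicOpen s').2.isClosed_compl
    have hxC : x ∉ C := by
      rintro ⟨z, hz, hzx⟩
      refine hz ((Z.mem_basicOpen _ z (show g z ∈ U by rw [hzx]; exact hxU)).2 ?_)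
      rw [← hΦ ⟨z, hzx⟩ U hxU]
      exact hc ⟨z, hzx⟩
    let W : X.Opens := U ⊓ ⟨Cᶜ, hC.isOpen_compl⟩
    have hxW : x ∈ W := ⟨hxU, hxC⟩
    have hsW : Z.basicOpen (Z.presheaf.map (homOfLE (g.preimage_mono (inf_le_left : W ≤ U))).op s') = g ⁻¹ᵁ W := by
      refine le_antisymm (Z.basicOpen_le _) fun z hz => ?_
      refine (Z.basicOpen_res _ _).ge ⟨hz, ?_⟩
      by_contra h
      exact hz.2 ⟨z, h, rfl⟩
    have hu : IsUnit (Z.presheaf.map (homOfLE (g.preimage_mono (inf_le_left : W ≤ U))).op s') := by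
      refine RingedSpace.isUnit_of_isUnit_germ Z.toRingedSpace _ _ fun z hz => ?_
      exact (Z.mem_basicOpen _ z hz).1 (hsW.ge hz)
    have h2 := (RingHom.isUnit_map ((g.base _* Z.presheaf).germ W x hxW).hom hu)
    rw [show ((g.base _* Z.presheaf).germ W x hxW).hom
        (Z.presheaf.map (homOfLE (g.preimage_mono (inf_le_left : W ≤ U))).op s') = (g.base _* Z.presheaf).germ U x hxU s' from
      TopCat.Presheaf.germ_res_apply (g.base _* Z.presheaf) (homOfLE (inf_le_left : W ≤ U)) x hxW s'] at h2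
    exact h2
  haveI : Finite {z : Z // g.base z = x} := (g.finite_preimage_singleton x).to_subtype
  cases nonempty_fintype {z : Z // g.base z = x}
  have hne : ∀ z, P z ≠ ⊤ := fun z h => by
    have := (Ideal.eq_top_iff_one _).1 h
    simp only [P, Ideal.mem_comap, map_one] at this
    exact (IsLocalRing.maximalIdeal.isMaximal _).ne_top ((Ideal.eq_top_iff_one _).2 this)
  have hsub : ∀ I : Ideal ((g.base _* Z.presheaf).stalk x), I ≠ ⊤ → ∃ z, I ≤ P z := by
    intro I hI
    have h1 : (I : Set ((g.base _* Z.presheaf).stalk x)) ⊆ ⋃ z ∈ ((Finset.univ : Finset {z : Z // g.base z = x}) : Set {z : Z // g.base z = x}), (P z : Set ((g.base _* Z.presheaf).stalk x)) := by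
      intro c hc
      simp only [Finset.coe_univ, Set.mem_univ, Set.iUnion_true, Set.mem_iUnion]
      by_contra h
      push Not at h
      exact hI (Ideal.eq_top_of_isUnit_mem _ hc (hunit c fun z => (IsLocalRing.notMem_maximalIdeal).1 (h z)))
    by_cases hemp : IsEmpty {z : Z // g.base z = x}
    · obtain ⟨z, -⟩ := Set.mem_iUnion₂.1 (h1 I.zero_mem)
      exact hemp.elim z
    · obtain ⟨z₀⟩ := not_isEmpty_iff.1 hemp
      obtain ⟨z, -, hz⟩ := (Ideal.subset_union_prime (f := P) z₀ z₀ (fun z _ _ _ => (IsLocalRing.maximalIdeal.isMaximal _).isPrime.comap _)).1 h1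
      exact ⟨z, hz⟩
  have hincomp : ∀ z z', P z ≤ P z' → z = z' := by
    intro z z' hle
    obtain ⟨U, hU, hxU, -⟩ := exists_isAffineOpen_mem_and_subset (x := x) (U := (⊤ : X.Opens)) trivial
    have hV : IsAffineOpen (g ⁻¹ᵁ U) := hU.preimage g
    have hzV : z.1 ∈ g ⁻¹ᵁ U := by show g.base z.1 ∈ U; rw [z.2]; exact hxU
    have hzV' : z'.1 ∈ g ⁻¹ᵁ U := by show g.base z'.1 ∈ U; rw [z'.2]; exact hxU
    have hspec : z.1 ⤳ z'.1 := by
      refine specializes_iff_mem_closure.2 ?_
      rw [mem_closure_iff]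
      intro O hO hz'O
      obtain ⟨s, hs, hzs⟩ := hV.exists_basicOpen_le (⟨z'.1, hz'O⟩ : (⟨O, hO⟩ : Z.Opens)) hzV'
      refine ⟨z.1, hs ?_, rfl⟩
      by_contra hns
      have hm : (g.base _* Z.presheaf).germ U x hxU s ∈ P z := by
        show (Φ z).hom _ ∈ IsLocalRing.maximalIdeal _
        rw [hΦ z U hxU hzV s]
        exact fun hu => hns ((Z.mem_basicOpen s z.1 hzV).2 hu)
      have hm' := hle hm
      rw [Ideal.mem_comap, hΦ z' U hxU hzV' s] at hm'
      exact hm' ((Z.mem_basicOpen s z'.1 hzV').1 hzs)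
    obtain ⟨a, ha⟩ := (Set.ext_iff.1 (g.range_fiberι x) z.1).2 z.2
    obtain ⟨b, hb⟩ := (Set.ext_iff.1 (g.range_fiberι x) z'.1).2 z'.2
    have hab : a ⤳ b := ((g.fiberι x).isEmbedding.isInducing.specializes_iff).1 (by rw [ha, hb]; exact hspec)
    have : a = b := hab.eq
    exact Subtype.ext (by rw [← ha, ← hb, this])
  have hmax : ∀ z, (P z).IsMaximal := fun z => by
    obtain ⟨M, hM, hzM⟩ := Ideal.exists_le_maximal _ (hne z)
    obtain ⟨z', hz'⟩ := hsub M hM.ne_top
    obtain rfl := hincomp z z' (hzM.trans hz')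
    rwa [le_antisymm hzM hz']
  refine ⟨fun z _ => hmax z, fun z _ z' _ h => hincomp z z' (le_of_eq h), fun I hI => ?_⟩
  obtain ⟨z, hz⟩ := hsub I (Ideal.IsMaximal.ne_top hI)
  exact ⟨z, trivial, ((hI : I.IsMaximal).eq_of_le (hne z) hz).symm⟩

end Groth.Agent.S15547
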