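import Groth.Statements.S15548
import Groth.Agent.TorBalance.Basic
import Groth.Agent.FlatCx.ArtinRees
import Groth.Agent.FlatCx.Homology
import Mathlib.RingTheory.Filtration
import Mathlib.Algebra.Category.ModuleCat.Projective

set_option autoImplicit false
universe u
open CategoryTheory
open CAlg Groth.Agent CategoryTheory
open scoped TensorProduct

namespace Groth.Agent.S15548

/-- Let R be a Noetherian commutative ring, I an ideal of R and M a finitely generated R-module. Then
for every natural number n there is m ≥ n such that the map Tor_1^R(M, R/I^m) → Tor_1^R(M, R/I^n)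
induced by the projection R/I^m → R/I^n is the zero map. Here Tor_1^R(M, -) is the first left
derived functor of M ⊗_R - (derived in the second variable). -/
theorem result (R : Type u) [CommRing R] [IsNoetherianRing R] (I : Ideal R)
    (M : Type u) [AddCommGroup M] [Module R M] [Module.Finite R M] (n : ℕ) :
    ∃ m : ℕ, n ≤ m ∧ ∀ h : I ^ m ≤ I ^ n,
      ((CategoryTheory.Tor (ModuleCat.{u} R) 1).obj (ModuleCat.of R M)).map
        (ModuleCat.ofHom (Submodule.factor h)) = 0 := by
  classical
  let Mc := ModuleCat.of R M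
  let P : ProjectiveResolution Mc := projectiveResolution Mc
  haveI : Module.Projective R (P.complex.X 0) := (IsProjective.iff_projective _).mpr (P.projective 0)
  let pi : P.complex.X 0 →ₗ[R] M := (P.π.f 0).hom
  have hpi : Function.Surjective pi := (ModuleCat.epi_iff_surjective (P.π.f 0)).mp inferInstance
  have hker : LinearMap.range (P.complex.d 1 0).hom = LinearMap.ker pi :=
    (ShortComplex.moduleCat_exact_iff_range_eq_ker _).mp P.exact₀
  have hker1 : LinearMap.range (P.complex.d 2 1).hom = LinearMap.ker (P.complex.d 1 0).hom :=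
    (ShortComplex.moduleCat_exact_iff_range_eq_ker _).mp (P.exact_succ 0)
  obtain ⟨s, τ, hτ⟩ := Module.Finite.exists_fin' R M
  obtain ⟨a, ha⟩ := Module.projective_lifting_property τ pi hτ
  obtain ⟨b, hb⟩ := Module.projective_lifting_property pi τ hpi
  obtain ⟨k, hk⟩ := Ideal.exists_pow_inf_eq_pow_smul I (LinearMap.ker τ)
  have key : ∀ y ∈ I ^ (n + k) • (⊤ : Submodule R (P.complex.X 0)), pi y = 0 →
      y ∈ I ^ n • LinearMap.range (P.complex.d 1 0).hom := by
    intro y hy hy0
    rw [hker]
    have h1 : a y ∈ I ^ n • LinearMap.ker τ := by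
      have : a y ∈ (I ^ (n + k) • (⊤ : Submodule R (Fin s → R))) ⊓ LinearMap.ker τ := by
        refine ⟨?_, (DFunLike.congr_fun ha y).trans hy0⟩
        have := Submodule.mem_map_of_mem (f := a) hy
        rw [Submodule.map_smul''] at this
        exact Submodule.smul_mono le_rfl le_top this
      rw [hk (n + k) (Nat.le_add_left k n), Nat.add_sub_cancel] at this
      exact Submodule.smul_mono le_rfl inf_le_right this
    have h2 : b (a y) ∈ I ^ n • LinearMap.ker pi := by
      have := Submodule.mem_map_of_mem (f := b) h1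
      rw [Submodule.map_smul''] at this
      refine Submodule.smul_mono le_rfl ?_ this
      rintro _ ⟨v, hv, rfl⟩
      exact (DFunLike.congr_fun hb v).trans hv
    have h3 : ((LinearMap.id : P.complex.X 0 →ₗ[R] P.complex.X 0) - b ∘ₗ a) y ∈ I ^ n • LinearMap.ker pi := by
      have := Submodule.mem_map_of_mem (f := (LinearMap.id : P.complex.X 0 →ₗ[R] P.complex.X 0) - b ∘ₗ a) hy
      rw [Submodule.map_smul''] at this
      refine Submodule.smul_mono (Ideal.pow_le_pow_right (Nat.le_add_right n k)) ?_ this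
      rintro _ ⟨v, -, rfl⟩
      show pi (v - b (a v)) = 0
      rw [map_sub, sub_eq_zero]
      exact ((DFunLike.congr_fun hb (a v)).trans (DFunLike.congr_fun ha v)).symm
    simpa using add_mem h2 h3
  refine ⟨n + k, Nat.le_add_right n k, fun h => ?_⟩
  let g : ModuleCat.of R (R ⧸ I ^ (n + k)) ⟶ ModuleCat.of R (R ⧸ I ^ n) := ModuleCat.ofHom (Submodule.factor h)
  suffices hz : HomologicalComplex.homologyMap ((TorBalance.cxR.{u} P.complex).map g) 1 = 0 by
    let e := TorBalance.balanceIso.{u} P 1
    have hn := e.hom.naturality g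
    have hz' : ((TorBalance.cxR.{u} P.complex) ⋙ HomologicalComplex.homologyFunctor (ModuleCat.{u} R) (ComplexShape.down ℕ) 1).map g = 0 := hz
    rw [hz', CategoryTheory.Limits.comp_zero] at hn
    have := congrArg (fun φ => φ ≫ e.inv.app (ModuleCat.of R (R ⧸ I ^ n))) hn
    rw [Category.assoc, e.hom_inv_id_app, Category.comp_id, CategoryTheory.Limits.zero_comp] at this
    exact this
  refine ModuleCat.hom_ext (LinearMap.ext fun t => ?_)
  obtain ⟨z, rfl⟩ := FlatCx.homologyπ_surjective ((TorBalance.cxR P.complex).obj (ModuleCat.of R (R ⧸ I ^ (n + k)))) t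
  obtain ⟨x, hx⟩ := FlatCx.exists_tmul_quot_one (I ^ (n + k)) (((TorBalance.cxR P.complex).obj (ModuleCat.of R (R ⧸ I ^ (n + k)))).iCycles 1 z)
  have hd : (P.complex.d 1 0).hom x ∈ I ^ (n + k) • (⊤ : Submodule R (P.complex.X 0)) := by
    rw [← FlatCx.tmul_quot_one_eq_zero_iff]
    have h0 := FlatCx.d_iCycles ((TorBalance.cxR P.complex).obj (ModuleCat.of R (R ⧸ I ^ (n + k)))) (j := 1) (k := 0) z
    rw [← hx] at h0
    exact h0
  have hd0 : pi ((P.complex.d 1 0).hom x) = 0 := by
    have : (P.complex.d 1 0).hom x ∈ LinearMap.ker pi := hker ▸ ⟨x, rfl⟩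
    exact this
  obtain ⟨w, hw, hwx⟩ : ∃ w ∈ I ^ n • (⊤ : Submodule R (P.complex.X 1)), (P.complex.d 1 0).hom w = (P.complex.d 1 0).hom x := by
    have := key _ hd hd0
    rw [LinearMap.range_eq_map, ← Submodule.map_smul''] at this
    exact this
  obtain ⟨v, hv⟩ : x - w ∈ LinearMap.range (P.complex.d 2 1).hom := by
    rw [hker1, LinearMap.mem_ker, map_sub, hwx, sub_self]
  show (HomologicalComplex.homologyMap ((TorBalance.cxR P.complex).map g) 1) (((TorBalance.cxR P.complex).obj _).homologyπ 1 z) = 0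
  rw [FlatCx.homologyMap_homologyπ, FlatCx.homologyπ_eq_zero_iff _ (show (ComplexShape.down ℕ).prev 1 = 2 by simp)]
  refine ⟨v ⊗ₜ[R] (1 : R ⧸ I ^ n), ?_⟩
  refine Eq.trans ?_ (FlatCx.iCycles_cyclesMap ((TorBalance.cxR P.complex).map g) z).symm
  rw [← hx]
  show (P.complex.d 2 1).hom v ⊗ₜ[R] (1 : R ⧸ I ^ n) = x ⊗ₜ[R] (Submodule.factor h (1 : R ⧸ I ^ (n + k)))
  rw [show Submodule.factor h (1 : R ⧸ I ^ (n + k)) = (1 : R ⧸ I ^ n) from rfl, hv, TensorProduct.sub_tmul,
    (FlatCx.tmul_quot_one_eq_zero_iff _ w).mpr hw, sub_zero]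

end Groth.Agent.S15548
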