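import Groth.Statements.S15551
import Groth.Agent.Lich.ZeroLocus
import Groth.Agent.UnibranchEtale.Components
import Groth.Agent.S9812
import Groth.Agent.Rigid.DimDrop

set_option autoImplicit false
universe u
open CategoryTheory CategoryTheory.Limits AlgebraicGeometry
open Pi1

set_option backward.isDefEq.respectTransparency false
set_option backward.isDefEq.respectTransparency.types false

open Groth.Agent

namespace Groth.Agent.S15551

/-- Let k be an algebraically closed field and X an integral normal scheme (all local rings integrally
closed domains), proper over k and of dimension at least 2, with an ample invertible module L; let s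
be a nonzero global section of L, given as a monomorphism O_X → L, and D = Z(s) ⊆ X its zero scheme
(the support of an effective ample divisor). Then for every finite étale cover Y → X with Y
connected, the fibre product Y ×_X D is connected. This is the statement that the étale fundamental
group of D maps onto that of X. (The published statement takes X projective over k; this row takes X
proper over k with an ample invertible module, which is equivalent.) -/
theorem result (k : Type u) [Field k] [IsAlgClosed k]
    (X : Scheme.{u}) (f : X ⟶ Spec (CommRingCat.of k)) [IsProper f] [IsIntegral X] (hN : Pi1.IsNormalScheme X)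
    (hdim : (2 : WithBot ℕ∞) ≤ topologicalKrullDim X)
    (L : X.Modules) (hL : CohB1.IsAmple L) (s : Coh.structureModule X ⟶ L) (hs : Mono s)
    (Y : FEt.Cat X) [ConnectedSpace Y.left] :
    ConnectedSpace ↥(pullback Y.hom (PicF2.zeroScheme L s).subschemeι) := by
  classical
  let g : Y.left ⟶ X := Y.hom
  haveI : IsFinite g := Y.prop.1
  haveI : Etale g := Y.prop.2
  haveI : IsLocallyNoetherian X := LocallyOfFiniteType.isLocallyNoetherian f
  haveI : CompactSpace X := QuasiCompact.compactSpace_of_compactSpace f
  haveI : IsLocallyNoetherian Y.left := LocallyOfFiniteType.isLocallyNoetherian g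
  haveI : CompactSpace Y.left := QuasiCompact.compactSpace_of_compactSpace g
  haveI : IsNoetherian Y.left := {}
  haveI : IrreducibleSpace Y.left := UnibranchEtale.irreducibleSpace_of_connected
    (fun y => UnibranchEtale.isGeomUnibranch_stalk_of_etale g y (by
      haveI := (hN (g y)).1
      haveI := (hN (g y)).2
      exact S9812.result _))
    (fun y => ⟨⊤, trivial, @TopologicalSpace.NoetherianSpace.finite_irreducibleComponents _ _ (TopologicalSpace.NoetherianSpace.set _)⟩)
  haveI : IsProper (g ≫ f) := inferInstance
  have hgen : g (genericPoint Y.left) = genericPoint X := by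
    obtain ⟨z, hz, hgz⟩ := Flat.generalizingMap g (genericPoint_specializes (g (genericPoint Y.left)))
    rw [← (hz.antisymm (genericPoint_specializes z)).eq]
    exact hgz
  have hdimY : topologicalKrullDim Y.left = topologicalKrullDim X := by
    rw [Rigid.topologicalKrullDim_eq_pdim (g ≫ f), Rigid.topologicalKrullDim_eq_pdim f, ← hgen,
      WeilLib.pdim_eq_of_residueDegree_ne_zero (g ≫ f) g f rfl
        (Rigid.residueDegree_ne_zero_of_quasiFiniteAt g (g.quasiFiniteAt _))]
  obtain ⟨n, hn⟩ : ∃ n : ℕ, topologicalKrullDim X = n := ⟨_, Rigid.topologicalKrullDim_eq_pdim f⟩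
  have h2 : 2 ≤ n := by rw [hn] at hdim; exact_mod_cast hdim
  haveI := hs
  have hc := Lich.isConnected_compl (g ≫ f) n (hdimY.trans hn) h2 (g ⁻¹ᵁ CohB1.genLocus L s)
    ((TMul.isAffineOpen_genLocus_of_universallyClosed f hL s).preimage g)
    ⟨genericPoint Y.left, by
      show g (genericPoint Y.left) ∈ CohB1.genLocus L s
      rw [hgen]
      exact Lich.generic_mem_genLocus_of_mono hL.1 s⟩
  rw [connectedSpace_iff_univ]
  have hr : pullback.fst Y.hom (PicF2.zeroScheme L s).subschemeι '' Set.univ =
      ((g ⁻¹ᵁ CohB1.genLocus L s : Y.left.Opens) : Set Y.left)ᶜ := by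
    rw [Set.image_univ, Scheme.Pullback.range_fst, Scheme.IdealSheafData.range_subschemeι,
      NegTwist.coe_support_zeroScheme hL.1 s]
    rfl
  rw [← hr] at hc
  exact ⟨Set.image_nonempty.mp hc.1,
    ((pullback.fst Y.hom (PicF2.zeroScheme L s).subschemeι).isClosedEmbedding.isInducing.isPreconnected_image).mp hc.2⟩

end Groth.Agent.S15551
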