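import Groth.Statements.S15553
import Groth.Agent.StkComp.Contract

set_option autoImplicit false
set_option backward.isDefEq.respectTransparency false
set_option backward.isDefEq.respectTransparency.types false
universe v₁ v₂ v₃ u₁ u₂ u₃
open CategoryTheory
open FibCat

namespace Groth.Agent.S15553

/-- Let f : C ⥤ D be a fibred category such that every fibre of f is non-empty and has trivial
fundamental groupoid in the sense that for every groupoid G the constant-functor functor G ⥤ (f⁻¹(Y)
⥤ G) is an equivalence; let p : F ⥤ D be a category fibred in groupoids over D. Then restriction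
along f, from sections of F over D (functors D ⥤ F over D, with natural transformations over
identities) to sections of F over the diagram f (functors C ⥤ F over D), is an equivalence of
categories. (The published statement allows any fibred category F with its cartesian sections; this
row takes F fibred in groupoids, where every arrow is cartesian and every section is a cartesian
section. The test groupoids G are taken with objects and morphisms in a universe level containing
all the categories involved.) -/
theorem result
    {C : Type u₁} [Category.{v₁} C] {D : Type u₂} [Category.{v₂} D] {F : Type u₃} [Category.{v₃} F]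
    (f : C ⥤ D) [f.IsFibered] (p : F ⥤ D) [FibCat.IsFibGrpd p]
    (hf : ∀ Y : D, W4c2modmodulilect.HasContractibleNerve.{max u₁ u₂ u₃ v₁ v₂ v₃, max u₁ u₂ u₃ v₁ v₂ v₃} (f.Fiber Y)) :
    (Stk.restr (FibCat.toSelf (BasedCategory.ofFunctor f)) (BasedCategory.ofFunctor p)).IsEquivalence := by
  have hp : FibCat.IsFibGrpd (BasedCategory.ofFunctor p).p := ‹_›
  refine Groth.Agent.StkComp.isEquivalence_restr_of_simply _ hp (fun z U => ?_)
  haveI := Groth.Agent.StkComp.isGroupoid_fiber hp U
  let i : f.Fiber z ⥤ StructuredArrow z f :=
    { obj := fun x => StructuredArrow.mk (eqToHom x.2.symm)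
      map := fun {a b} m => StructuredArrow.homMk m.1 (by
        show eqToHom a.2.symm ≫ f.map m.1 = eqToHom b.2.symm
        rw [Groth.Agent.FibCatRep.map_of_fiber m, eqToHom_trans]) }
  let x' : StructuredArrow z f → f.Fiber z := fun s =>
    ⟨Functor.IsPreFibered.pullbackObj (p := f) rfl s.hom, Functor.IsPreFibered.pullbackObj_proj (p := f) rfl s.hom⟩
  let k : ∀ s, i.obj (x' s) ⟶ s := fun s => StructuredArrow.homMk (Functor.IsPreFibered.pullbackMap (p := f) rfl s.hom) (by
    show eqToHom (x' s).2.symm ≫ f.map _ = s.hom
    rw [IsHomLift.fac' f s.hom (Functor.IsPreFibered.pullbackMap (p := f) rfl s.hom)]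
    simp)
  refine Groth.Agent.StkComp.simply_of_lifts i x' k (fun {s s'} m => ?_)
    (Groth.Agent.StkComp.simply_of_hasContractibleNerve.{max u₁ u₂ u₃ v₁ v₂ v₃, max u₁ u₂ u₃ v₁ v₂ v₃} (hf z))
  haveI : f.IsHomLift s'.hom ((k s).right ≫ m.right) := IsHomLift.of_fac' f _ _ (x' s).2 rfl (by
    show f.map ((k s).right ≫ m.right) = _
    have e : eqToHom (x' s).2.symm ≫ f.map (k s).right = s.hom := StructuredArrow.w (k s)
    rw [eqToHom_comp_iff] at e
    have e₂ : s.hom ≫ f.map m.right = s'.hom := StructuredArrow.w m
    rw [Functor.map_comp, e, Category.assoc, e₂]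
    simp)
  haveI : f.IsStronglyCartesian s'.hom (Functor.IsPreFibered.pullbackMap (p := f) rfl s'.hom) :=
    inferInstance
  let c := Functor.IsStronglyCartesian.map f s'.hom (Functor.IsPreFibered.pullbackMap (p := f) rfl s'.hom)
    (g := 𝟙 z) (f' := s'.hom) (Category.id_comp _).symm ((k s).right ≫ m.right)
  exact ⟨⟨c, inferInstance⟩, StructuredArrow.hom_ext _ _
    (Functor.IsStronglyCartesian.fac f s'.hom _ (Category.id_comp _).symm _)⟩

end Groth.Agent.S15553
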