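import Groth.Statements.S15556
import Groth.Agent.PInsepChow.Basic

set_option autoImplicit false
universe u
open CategoryTheory AlgebraicGeometry
open CategoryTheory.Limits
open Cyc

set_option backward.isDefEq.respectTransparency false
set_option backward.isDefEq.respectTransparency.types false

namespace Groth.Agent.S15556

/-- Let k be a field of characteristic p > 0, E a finite purely inseparable field extension of k, X a
separated scheme of finite type over k, X' = X ×_k E with projection f : X' → X (any pullback
square), δ a dimension function on X making (X, δ) a cycle setup (X locally Noetherian with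
universally catenary local rings) and δ' the induced dimension function on X' (so (X', δ') is a
cycle setup and δ' is compatible with δ along f, which has relative dimension 0). Then flat pullback
of cycles along f induces a bijection of Chow groups of i-cycles after inverting p, in the following
two-sided sense: for every i-cycle β on X' there are an i-cycle α on X, an i-cycle α' on X' with the
flat-pullback coefficients of α, and an exponent s with [α'] = p^s · [β] in CH_i(X'); and for every
i-cycle α on X and every i-cycle α' on X' with the flat-pullback coefficients of α, if [α'] = 0 in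
CH_i(X') then p^s · [α] = 0 in CH_i(X) for some s. (The published statement allows an arbitrary
purely inseparable extension E of k; this row takes E finite over k, the case the printed argument
carries out.) -/
theorem result (k E : Type u) [Field k] [Field E] [Algebra k E] (p : ℕ) [Fact p.Prime] [CharP k p] [Module.Finite k E] [IsPurelyInseparable k E] (X X' : Scheme.{u}) (g : X ⟶ Spec (CommRingCat.of k)) [IsSeparated g] [LocallyOfFiniteType g] [QuasiCompact g] (f : X' ⟶ X) (g' : X' ⟶ Spec (CommRingCat.of E)) (hsq : IsPullback f g' g (Spec.map (CommRingCat.ofHom (algebraMap k E)))) (δ : X → ℤ) (δ' : X' → ℤ) (hX : Cyc.IsSetup X δ) (hX' : Cyc.IsSetup X' δ') (hδ : Cyc.DeltaCompat f δ' δ) (i : ℤ) : (∀ (β : AlgebraicCycle X' ℤ) (hβ : β ∈ Cyc.Zk X' δ' i), ∃ (α : AlgebraicCycle X ℤ) (hα : α ∈ Cyc.Zk X δ i) (α' : AlgebraicCycle X' ℤ) (hα' : α' ∈ Cyc.Zk X' δ' i) (s : ℕ), ⇑α' = Cyc.pullFun f δ' δ 0 ⇑α ∧ ChowOps.cl α' hα' = p ^ s • ChowOps.cl β hβ) ∧ (∀ (α : AlgebraicCycle X ℤ) (hα : α ∈ Cyc.Zk X δ i) (α' : AlgebraicCycle X' ℤ) (hα' : α' ∈ Cyc.Zk X' δ' i), ⇑α'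 = Cyc.pullFun f δ' δ 0 ⇑α → ChowOps.cl α' hα' = 0 → ∃ s : ℕ, p ^ s • ChowOps.cl α hα = 0) := by
  let g₀ := Spec.map (CommRingCat.ofHom (algebraMap k E))
  haveI : UniversallyInjective g₀ := Groth.Agent.GeomConnSep.universallyInjective_spec
  haveI : IsFinite g₀ := (IsFinite.SpecMap_iff _).mpr (RingHom.finite_algebraMap.mpr inferInstance)
  haveI : Surjective g₀ := ⟨fun y => ⟨default, Subsingleton.elim _ _⟩⟩
  haveI : Flat g₀ := Flat.SpecMap_iff.mpr (RingHom.flat_algebraMap_iff.mpr inferInstance)
  haveI : IsFinite f := MorphismProperty.of_isPullback hsq.flip inferInstance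
  haveI : Flat f := MorphismProperty.of_isPullback hsq.flip inferInstance
  haveI : UniversallyInjective f := MorphismProperty.of_isPullback hsq.flip inferInstance
  haveI : Surjective f := MorphismProperty.of_isPullback hsq.flip inferInstance
  haveI : QuasiCompact g' := MorphismProperty.of_isPullback hsq inferInstance
  haveI : CompactSpace X' := QuasiCompact.compactSpace_of_compactSpace g'
  haveI := hX.1
  haveI := hX'.1
  have hdeg : ∀ x, f.finrank x = Module.finrank k E := fun x => by
    rw [Scheme.Hom.finrank_of_isPullback g' f g₀ g hsq.flip x, Scheme.Hom.finrank_SpecMap_algebraMap]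
    exact congrFun Module.rankAtStalk_eq_finrank_of_free _
  haveI : ExpChar k p := ExpChar.prime Fact.out
  obtain ⟨m, hm⟩ := IsPurelyInseparable.finrank_eq_pow k E p
  obtain ⟨h1, h2⟩ := Groth.Agent.PInsepChow.main f ⟨f.injective, f.surjective⟩ _ hdeg hX.2.2 hX'.2.2 hδ i
  rw [hm] at h1 h2
  refine ⟨fun β hβ => ?_, fun α hα α' hα' hp h0 => ⟨m, h2 α hα α' hα' hp h0⟩⟩
  obtain ⟨α, hα, α', hα', e1, e2⟩ := h1 β hβ
  exact ⟨α, hα, α', hα', m, e1, e2⟩

end Groth.Agent.S15556
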