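import Groth.Statements.S15559
import Groth.Agent.Perfn.Tower
import Groth.Agent.S0591
import Groth.Agent.S2075

set_option autoImplicit false
universe u
set_option backward.isDefEq.respectTransparency false
set_option linter.style.haveILetI false
open CategoryTheory AlgebraicGeometry
open FrobSch

namespace Groth.Agent.S15559
open Groth.Agent.Perfn

theorem rt_fst {p : ℕ} [Fact p.Prime] {A T : Scheme.{u}} [FrobSch.IsCharP A p] [FrobSch.IsCharP T p]
    [FrobSch.IsPerfect T p] (c : Limits.Cone (tower p A)) {e : T ⟶ c.pt} {π : T ⟶ A}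
    (he : e ≫ c.π.app (stg 0) = π) (n : ℕ) : e ≫ c.π.app (stg n) = rt (p := p) A π n := by
  induction n with
  | zero => exact he
  | succ n ih =>
    have hw : (c.π.app (stg (n + 1)) : c.pt ⟶ A) ≫ frob A p = c.π.app (stg n) := by
      rw [← tower_step (p := p) A n]
      exact c.w _
    refine (cancel_epi (frob T p)).1 ?_
    rw [rt, IsIso.hom_inv_id_assoc]
    refine (frob_comp (Y := A) p (e ≫ c.π.app (stg (n + 1)) : T ⟶ A)).trans ?_
    exact (Category.assoc _ _ _).trans ((congrArg (e ≫ ·) hw).trans ih)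

/-- Call a morphism V → U of quasi-compact quasi-separated perfect schemes of characteristic p flat of
finite presentation in the perfect sense when it factors as V → V₀ → U with V → V₀ a perfection map
(V perfect and universal for morphisms from perfect schemes of characteristic p into V₀) and V₀ → U
flat, locally of finite presentation, quasi-compact and quasi-separated; faithfully flat of finite
presentation when moreover V₀ → U is surjective. If Z → Y and Y → X are flat of finite presentation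
in the perfect sense, so is the composite Z → X, and it is faithfully flat of finite presentation
when both are. Here the data are given as Y₀ → X with perfection map Y → Y₀ and Z₀ → Y with
perfection map Z → Z₀, and the conclusion produces W₀ → X with a perfection map Z → W₀ over X. (The
published proposition is stated for pro-objects of perfections of schemes of finite type over a
perfect field and also for morphisms flat of profinite presentation; this row is its case of
schemes, which its proof treats first, with the base field replaced by characteristic p.) -/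
theorem result (p : ℕ) [Fact p.Prime]
    {X Y Z Y₀ Z₀ : Scheme.{u}} [FrobSch.IsCharP X p] [FrobSch.IsCharP Y p] [FrobSch.IsCharP Z p]
    [FrobSch.IsCharP Y₀ p] [FrobSch.IsCharP Z₀ p]
    [CompactSpace ↥X] [QuasiSeparatedSpace ↥X] [CompactSpace ↥Y] [QuasiSeparatedSpace ↥Y]
    [CompactSpace ↥Z] [QuasiSeparatedSpace ↥Z] (hX : FrobSch.IsPerfect X p)
    (g₀ : Y₀ ⟶ X) [Flat g₀] [LocallyOfFinitePresentation g₀] [QuasiCompact g₀] [QuasiSeparated g₀]
    (πY : Y ⟶ Y₀) (hY : FrobSch.IsPerfection πY p)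
    (f₀ : Z₀ ⟶ Y) [Flat f₀] [LocallyOfFinitePresentation f₀] [QuasiCompact f₀] [QuasiSeparated f₀]
    (πZ : Z ⟶ Z₀) (hZ : FrobSch.IsPerfection πZ p) :
    ∃ (W₀ : Scheme.{u}) (h₀ : W₀ ⟶ X) (ϖ : Z ⟶ W₀),
      Flat h₀ ∧ LocallyOfFinitePresentation h₀ ∧ QuasiCompact h₀ ∧ QuasiSeparated h₀ ∧
        FrobSch.IsPerfection ϖ p ∧ ϖ ≫ h₀ = πZ ≫ f₀ ≫ πY ≫ g₀ ∧
          (Surjective g₀ → Surjective f₀ → Surjective h₀) := by
  haveI hYP : IsPerfect Y p := hY.1
  haveI : IsIso (frob X p) := hX
  haveI : CompactSpace Y₀ := QuasiCompact.compactSpace_of_compactSpace g₀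
  haveI : QuasiSeparatedSpace Y₀ := quasiSeparatedSpace_of_quasiSeparated g₀
  obtain ⟨c, hc, e, he⟩ := exists_isLimit hY
  haveI : ∀ i, CompactSpace ((tower p Y₀).obj i) := fun _ => inferInstanceAs (CompactSpace Y₀)
  haveI : ∀ i, QuasiSeparatedSpace ((tower p Y₀).obj i) := fun _ => inferInstanceAs (QuasiSeparatedSpace Y₀)
  haveI : ∀ i j (f : i ⟶ j), IsAffineHom ((tower p Y₀).map f) := fun i j f => isAffineHom_tower Y₀ f
  obtain ⟨i, Z₁, f₁, q₁, _, _, _, hq₁⟩ := Groth.Agent.S0591.result (tower p Y₀) c hc Z₀ (f₀ ≫ e.hom)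
  haveI : CompactSpace Z₁ := QuasiCompact.compactSpace_of_compactSpace f₁
  haveI : QuasiSeparatedSpace Z₁ := quasiSeparatedSpace_of_quasiSeparated f₁
  obtain ⟨j, φ, Z₂, Yj, f₂, gi, pY, pX, hY2, hX2, _⟩ := Groth.Agent.S2075.result (tower p Y₀) c hc i
    f₁ (𝟙 ((tower p Y₀).obj i)) (f₀ ≫ e.hom) (𝟙 c.pt) (c.π.app i) q₁
    (IsPullback.of_vert_isIso ⟨by simp⟩) hq₁
  haveI : IsIso gi := hY2.isIso_snd_of_isIso
  haveI : LocallyOfFinitePresentation f₂ := MorphismProperty.of_isPullback hX2 inferInstance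
  haveI : QuasiCompact f₂ := MorphismProperty.of_isPullback hX2 inferInstance
  haveI : QuasiSeparated f₂ := MorphismProperty.of_isPullback hX2 inferInstance
  let h₂ : Z₂ ⟶ Y₀ := f₂ ≫ gi
  have hbig : IsPullback pX h₂ f₁ ((tower p Y₀).map φ) := by
    simpa [h₂] using hX2.paste_vert hY2
  let q₂ : Z₀ ⟶ Z₂ := hbig.lift q₁ ((f₀ ≫ e.hom) ≫ c.π.app j) (by
    rw [hq₁.w, Category.assoc _ (c.π.app j), c.w])
  have hq₂ : IsPullback q₂ (f₀ ≫ e.hom) h₂ (c.π.app j) :=
    IsPullback.of_right
      (by rw [hbig.lift_fst, c.w φ]; exact hq₁) (hbig.lift_snd _ _ _) hbig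
  let n : ℕ := j.unop.down
  let Φ : X ⟶ X := (fseq (p := p) X).map (homOfLE (Nat.zero_le n)).op
  have hΦ : IsIso Φ := fseq_map_le X (P := MorphismProperty.isomorphisms Scheme.{u}) hX _
  let r : Y ⟶ Y₀ := e.hom ≫ c.π.app j
  have hr : r = rt (p := p) Y₀ πY n := rt_fst c he n
  have hrP : FrobSch.IsPerfection r p := by
    refine ⟨hY.1, fun T _ hT => ?_⟩
    have key : ∀ m : ℕ, Function.Bijective (fun u : T ⟶ Y => u ≫ rt (p := p) Y₀ πY m) := by
      intro m
      induction m with
      | zero => exact hY.2 T hT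
      | succ m ih =>
        have : (fun u : T ⟶ Y => u ≫ rt (p := p) Y₀ πY (m + 1)) =
            (fun u : T ⟶ Y => u ≫ rt (p := p) Y₀ πY m) ∘ (fun u => u ≫ inv (frob Y p)) := by
          funext u
          simp [rt]
        rw [this]
        exact ih.comp ⟨fun a b hab => (cancel_mono (inv (frob Y p))).mp hab,
          fun b => ⟨b ≫ frob Y p, by simp⟩⟩
    rw [hr]
    exact key n
  have hrX : ∀ m : ℕ, rt (p := p) Y₀ πY m ≫ g₀ ≫
      (fseq (p := p) X).map (homOfLE (Nat.zero_le m)).op = πY ≫ g₀ := by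
    intro m
    induction m with
    | zero =>
      rw [show (homOfLE (Nat.zero_le 0)).op = 𝟙 (Opposite.op 0) from rfl, CategoryTheory.Functor.map_id]
      exact congrArg (rt (p := p) Y₀ πY 0 ≫ ·) (Category.comp_id g₀)
    | succ m ih =>
      rw [show (homOfLE (Nat.zero_le (m + 1))).op = (homOfLE (Nat.le_succ m)).op ≫ (homOfLE (Nat.zero_le m)).op from rfl,
        CategoryTheory.Functor.map_comp,
        show (fseq (p := p) X).map (homOfLE (Nat.le_succ m)).op = frob X p from
          Functor.ofOpSequence_map_homOfLE_succ (X := fun _ => X) _ m]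
      refine Eq.trans ?_ ih
      rw [← rt_step (p := p) Y₀ πY m, Category.assoc, frob_comp_assoc (p := p) g₀]
  let h₀ : Z₂ ⟶ X := (h₂ ≫ g₀) ≫ Φ
  haveI : Flat h₂ := inferInstance
  refine ⟨Z₂, h₀, πZ ≫ q₂, inferInstance, inferInstance, inferInstance, inferInstance, ⟨hZ.1, ?_⟩, ?_, ?_⟩
  · intro T _ hT
    constructor
    · intro a b hab
      dsimp only at hab
      refine (hZ.2 T hT).1 ?_
      show a ≫ πZ = b ≫ πZ
      refine hq₂.hom_ext ?_ ?_
      · simpa using hab
      · have h3 : (a ≫ πZ ≫ f₀) ≫ r = (b ≫ πZ ≫ f₀) ≫ r := by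
          have := congrArg (· ≫ h₂) hab
          simpa [r, hq₂.w] using this
        have := congrArg (· ≫ e.hom) ((hrP.2 T hT).1 h3)
        simpa using this
    · intro w
      obtain ⟨k, hk⟩ := (hrP.2 T hT).2 (w ≫ h₂)
      obtain ⟨z, hz⟩ := (hZ.2 T hT).2 (hq₂.lift w (k ≫ e.hom) (by rw [Category.assoc]; exact hk.symm))
      dsimp only at hz
      exact ⟨z, by dsimp only; rw [← Category.assoc, hz, hq₂.lift_fst]⟩
  · have := hrX n
    rw [← hr] at this
    calc (πZ ≫ q₂) ≫ h₀ = πZ ≫ (q₂ ≫ h₂) ≫ g₀ ≫ Φ := by simp [h₀]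
      _ = πZ ≫ f₀ ≫ r ≫ g₀ ≫ Φ := by rw [hq₂.w]; simp [r]
      _ = _ := by rw [this]
  · intro _ _
    haveI : Surjective r := by
      obtain ⟨-, -, h⟩ := (WeakNorm.isUnivHomeo_iff _).mp (isUnivHomeo hrP)
      exact h
    haveI : Surjective (q₂ ≫ h₂) := by
      rw [hq₂.w]
      rw [Category.assoc]
      exact inferInstanceAs (Surjective (f₀ ≫ r))
    haveI : Surjective h₂ := Surjective.of_comp q₂ h₂
    infer_instance

end Groth.Agent.S15559
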