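import Groth.Statements.S1556
import Groth.Agent.SepReg.Scheme
import Mathlib.RingTheory.Spectrum.Prime.Topology
import Mathlib.RingTheory.Ideal.Height
import Mathlib.Topology.KrullDimension

set_option autoImplicit false
universe u
open CategoryTheory CategoryTheory.Limits AlgebraicGeometry
attribute [local instance] Curv2.resAlgebra
open Variety

namespace Groth.Agent.S1556

/-- Let X be a curve over k (integral, separated, of finite type, of dimension one) and x a closed point
whose residue field is separable over k. Then the local ring at x is a discrete valuation ring if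
and only if x lies in the smooth locus of X → Spec k. -/
theorem result (k : Type u) [Field k] (X : Scheme.{u}) [X.Over (Spec (CommRingCat.of k))] [IsIntegral X]
    [IsSeparated (X ↘ (Spec (CommRingCat.of k)))] [LocallyOfFinitePresentation (X ↘ (Spec (CommRingCat.of k)))] [QuasiCompact (X ↘ (Spec (CommRingCat.of k)))]
    (hdim : topologicalKrullDim X = 1) (x : X) (hx : IsClosed ({x} : Set X))
    [Algebra.IsSeparable k (X.residueField x)] :
    IsDiscreteValuationRing (X.presheaf.stalk x) ↔ x ∈ (X ↘ (Spec (CommRingCat.of k))).smoothLocus := by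
  classical
  let f := X ↘ Spec (CommRingCat.of k)
  haveI : IsLocallyNoetherian X := LocallyOfFiniteType.isLocallyNoetherian f
  obtain ⟨_, ⟨V, hV, rfl⟩, hxV, -⟩ :=
    X.isBasis_affineOpens.exists_subset_of_mem_open (Set.mem_univ x) isOpen_univ
  haveI : Nonempty V := ⟨⟨x, hxV⟩⟩
  letI := X.presheaf.algebra_section_stalk ⟨x, hxV⟩
  haveI := hV.isLocalization_stalk ⟨x, hxV⟩
  have hd : ringKrullDim (X.presheaf.stalk x) ≤ 1 := by
    rw [← hdim]
    refine (show ringKrullDim (X.presheaf.stalk x) ≤ ringKrullDim Γ(X, V) by
      rw [IsLocalization.AtPrime.ringKrullDim_eq_height (hV.primeIdealOf ⟨x, hxV⟩).asIdeal]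
      exact Ideal.height_le_ringKrullDim_of_ne_top (hV.primeIdealOf ⟨x, hxV⟩).2.ne_top).trans ?_
    rw [← PrimeSpectrum.topologicalKrullDim_eq_ringKrullDim]
    exact hV.fromSpec.isOpenEmbedding.isInducing.topologicalKrullDim_le
  have hF : ¬ IsField (X.presheaf.stalk x) := by
    intro hF
    have hgr : genericPoint X ∈ Set.range (X.fromSpecStalk x) := by
      rw [Scheme.range_fromSpecStalk]; exact (genericPoint_spec X).specializes trivial
    obtain ⟨Q, hQ⟩ := hgr
    have : Q = IsLocalRing.closedPoint _ := by
      refine PrimeSpectrum.ext (le_antisymm (IsLocalRing.le_maximalIdeal Q.2.ne_top) ?_)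
      show IsLocalRing.maximalIdeal _ ≤ _
      rw [IsLocalRing.isField_iff_maximalIdeal_eq.1 hF]; exact bot_le
    rw [this, Scheme.fromSpecStalk_closedPoint] at hQ
    have huniv : ∀ y : X, y = x := fun y => by
      have h := ((genericPoint_spec X).specializes (show y ∈ Set.univ from trivial)).mem_closed hx (by rw [hQ]; rfl)
      exact h
    haveI : Subsingleton X := ⟨fun a b => (huniv a).trans (huniv b).symm⟩
    have h0 : topologicalKrullDim X ≤ 0 := by
      haveI : Subsingleton (TopologicalSpace.IrreducibleCloseds X) := ⟨fun A B => TopologicalSpace.IrreducibleCloseds.ext (Set.ext fun z => by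
        obtain ⟨a, ha⟩ := A.isIrreducible.1
        obtain ⟨b, hb⟩ := B.isIrreducible.1
        exact ⟨fun _ => Subsingleton.elim b z ▸ hb, fun _ => Subsingleton.elim a z ▸ ha⟩)⟩
      exact Order.krullDim_nonpos_of_subsingleton
    rw [hdim] at h0
    exact absurd h0 (by simp)
  rw [Groth.Agent.SepReg.dvr_iff_regular _ hF hd, Groth.Agent.SepReg.smoothLocus_iff_regular k X x hx]

end Groth.Agent.S1556
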