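import Groth.Statements.S15568
import Mathlib.Analysis.Convex.Topology
import Mathlib.Topology.Order.IntermediateValue
import Mathlib.Analysis.Normed.Module.Convex
-- import your own Groth.Agent.* helpers here

set_option autoImplicit false
universe u
open QuiverStab

namespace Groth.Agent.S15568

/-- Walls and chambers for stability weights of a quiver. Let I be the finite vertex set, d ∈ ℕ^I a
dimension vector, and call two weights θ₁, θ₂ ∈ ℝ^I orthogonal to d numerically equivalent when, for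
every d′ ≤ d in ℕ^I, the numbers θ₁·d′ and θ₂·d′ are both positive, both negative or both zero. The
walls are the hyperplanes W(d′) = {θ ⊥ d : θ·d′ = 0} of d^⊥ for d′ ≤ d such that d is not a multiple
of d′. Then θ₁ and θ₂ are numerically equivalent if and only if there is a set J₁ of such d′ for
which θ₁ and θ₂ lie in the same connected component of the locally closed subset of d^⊥ consisting
of the weights lying on W(d₁) for every d₁ ∈ J₁ and off W(d₂) for every other wall W(d₂). (Only the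
quiver's vertex set enters; multiples are taken with natural-number factors.) -/
theorem result
    (I : Type u) [Fintype I] (d : I → ℕ) (θ₁ θ₂ : I → ℝ)
    (h₁ : ∑ i, θ₁ i * (d i : ℝ) = 0) (h₂ : ∑ i, θ₂ i * (d i : ℝ) = 0) :
    (∀ d' : I → ℕ, d' ≤ d →
        SignType.sign (∑ i, θ₁ i * (d' i : ℝ)) = SignType.sign (∑ i, θ₂ i * (d' i : ℝ))) ↔
    ∃ J₁ : Set (I → ℕ), J₁ ⊆ {d' | d' ≤ d ∧ ¬ ∃ m : ℕ, d = m • d'} ∧
      θ₂ ∈ connectedComponentIn
        {θ : I → ℝ | ∑ i, θ i * (d i : ℝ) = 0 ∧ (∀ d₁ ∈ J₁, ∑ i, θ i * (d₁ i : ℝ) = 0) ∧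
          ∀ d₂ : I → ℕ, d₂ ≤ d → (¬ ∃ m : ℕ, d = m • d₂) → d₂ ∉ J₁ →
            ∑ i, θ i * (d₂ i : ℝ) ≠ 0} θ₁ := by
  classical
  set φ : (I → ℕ) → (I → ℝ) → ℝ := fun e θ => ∑ i, θ i * (e i : ℝ) with hφdef
  have hlin : ∀ (e : I → ℕ) (s t : ℝ) (x y : I → ℝ), φ e (s • x + t • y) = s * φ e x + t * φ e y := by
    intro e s t x y
    simp only [hφdef, Pi.add_apply, Pi.smul_apply, smul_eq_mul, add_mul, Finset.sum_add_distrib,
      Finset.mul_sum, mul_assoc]
  have hcont : ∀ e : I → ℕ, Continuous (φ e) := fun e => by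
    simp only [hφdef]; fun_prop
  constructor
  · intro hsign
    refine ⟨{d' | d' ≤ d ∧ (¬ ∃ m : ℕ, d = m • d') ∧ φ d' θ₁ = 0}, fun e he => ⟨he.1, he.2.1⟩, ?_⟩
    set J : Set (I → ℕ) := {d' | d' ≤ d ∧ (¬ ∃ m : ℕ, d = m • d') ∧ φ d' θ₁ = 0} with hJ
    have hseg : segment ℝ θ₁ θ₂ ⊆ {θ : I → ℝ | φ d θ = 0 ∧ (∀ d₁ ∈ J, φ d₁ θ = 0) ∧
        ∀ d₂ : I → ℕ, d₂ ≤ d → (¬ ∃ m : ℕ, d = m • d₂) → d₂ ∉ J → φ d₂ θ ≠ 0} := by
      rintro θ ⟨s, t, hs, ht, hst, rfl⟩
      refine ⟨?_, ?_, ?_⟩
      · rw [hlin, show φ d θ₁ = 0 from h₁, show φ d θ₂ = 0 from h₂, mul_zero, mul_zero, add_zero]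
      · intro e he
        have h2 : φ e θ₂ = 0 := by
          have := hsign e he.1
          rw [show (∑ i, θ₁ i * (e i : ℝ)) = 0 from he.2.2, sign_zero, eq_comm, sign_eq_zero_iff] at this
          exact this
        rw [hlin, he.2.2, h2, mul_zero, mul_zero, add_zero]
      · intro e hle hm heJ
        have h1 : φ e θ₁ ≠ 0 := fun h => heJ ⟨hle, hm, h⟩
        have hs' := hsign e hle
        rw [hlin]
        rcases lt_or_gt_of_ne h1 with hneg | hpos
        · have h2 : φ e θ₂ < 0 := by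
            rw [sign_neg hneg] at hs'
            exact sign_eq_neg_one_iff.1 hs'.symm
          rcases hs.eq_or_lt with rfl | hs0
          · have : t = 1 := by linarith
            subst this; simpa using h2.ne
          · exact (add_neg_of_neg_of_nonpos (mul_neg_of_pos_of_neg hs0 hneg)
              (mul_nonpos_of_nonneg_of_nonpos ht h2.le)).ne
        · have h2 : 0 < φ e θ₂ := by
            rw [sign_pos hpos] at hs'
            exact sign_eq_one_iff.1 hs'.symm
          rcases hs.eq_or_lt with rfl | hs0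
          · have : t = 1 := by linarith
            subst this; simpa using h2.ne'
          · exact (add_pos_of_pos_of_nonneg (mul_pos hs0 hpos) (mul_nonneg ht h2.le)).ne'
    exact (convex_segment θ₁ θ₂).isPreconnected.subset_connectedComponentIn
      (left_mem_segment ℝ θ₁ θ₂) hseg (right_mem_segment ℝ θ₁ θ₂)
  · rintro ⟨J, hJsub, hmem⟩ e hle
    set C := connectedComponentIn {θ : I → ℝ | φ d θ = 0 ∧ (∀ d₁ ∈ J, φ d₁ θ = 0) ∧
        ∀ d₂ : I → ℕ, d₂ ≤ d → (¬ ∃ m : ℕ, d = m • d₂) → d₂ ∉ J → φ d₂ θ ≠ 0} θ₁ with hC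
    have h2mem := connectedComponentIn_subset _ _ hmem
    have h1S := connectedComponentIn_nonempty_iff.1 ⟨θ₂, hmem⟩
    by_cases hm : ∃ m : ℕ, d = m • e
    · obtain ⟨m, hm⟩ := hm
      rcases Nat.eq_zero_or_pos m with rfl | hmpos
      · have he0 : e = 0 := by
          funext i
          have := hle i
          rw [hm] at this
          simpa using this
        simp [he0]
      · have hz : ∀ θ : I → ℝ, ∑ i, θ i * (d i : ℝ) = 0 → ∑ i, θ i * (e i : ℝ) = 0 := by
          intro θ h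
          have : ∑ i, θ i * (d i : ℝ) = (m : ℝ) * ∑ i, θ i * (e i : ℝ) := by
            rw [Finset.mul_sum]
            refine Finset.sum_congr rfl fun i _ => ?_
            rw [hm]; simp; ring
          rw [this] at h
          exact (mul_eq_zero.1 h).resolve_left (by exact_mod_cast hmpos.ne')
        rw [hz θ₁ h₁, hz θ₂ h₂]
    · by_cases heJ : e ∈ J
      · rw [show (∑ i, θ₁ i * (e i : ℝ)) = 0 from h1S.2.1 e heJ,
          show (∑ i, θ₂ i * (e i : ℝ)) = 0 from h2mem.2.1 e heJ]
      · show SignType.sign (φ e θ₁) = SignType.sign (φ e θ₂)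
        have hne : ∀ θ ∈ C, φ e θ ≠ 0 := fun θ hθ =>
          (connectedComponentIn_subset _ _ hθ).2.2 e hle hm heJ
        have hpre : IsPreconnected C := isPreconnected_connectedComponentIn
        have hθ₁ : θ₁ ∈ C := mem_connectedComponentIn h1S
        by_contra hne2
        rcases lt_or_gt_of_ne (hne θ₁ hθ₁) with ha | ha <;>
          rcases lt_or_gt_of_ne (hne θ₂ hmem) with hb | hb
        · exact hne2 (by rw [sign_neg ha, sign_neg hb])
        · obtain ⟨θ, hθC, hθ⟩ := hpre.intermediate_value hθ₁ hmem (hcont e).continuousOn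
            (⟨ha.le, hb.le⟩ : (0 : ℝ) ∈ Set.Icc (φ e θ₁) (φ e θ₂))
          exact hne θ hθC hθ
        · obtain ⟨θ, hθC, hθ⟩ := hpre.intermediate_value hmem hθ₁ (hcont e).continuousOn
            (⟨hb.le, ha.le⟩ : (0 : ℝ) ∈ Set.Icc (φ e θ₂) (φ e θ₁))
          exact hne θ hθC hθ
        · exact hne2 (by rw [sign_pos ha, sign_pos hb])

end Groth.Agent.S15568
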