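import Groth.Statements.S15576
import Groth.Agent.S15573
import Mathlib.RingTheory.Jacobson.Ideal

set_option autoImplicit false
universe u v
open RInv

open Groth.Agent
set_option backward.isDefEq.respectTransparency false
namespace Groth.Agent.S15576

/-- Let `R` be a commutative ring with an involution `lam` whose fixed ring `S` is local. If the
automorphism induced by `lam` on `R` modulo its Jacobson radical is not the identity, then `R` is a
quadratic etale `S`-algebra. -/
theorem result (S : Type u) (R : Type v) [CommRing S] [CommRing R]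
    [Algebra S R] (lam : R ≃+* R) (hlam : Function.Involutive lam) (hS : RInv.IsFixedRing S R lam)
    [IsLocalRing S] (h : ∃ r : R, lam r - r ∉ Ring.jacobson R) : RInv.IsQuadEtale S R := by
  obtain ⟨r, hr⟩ := h
  refine S15573.result S R lam hlam hS ⟨r, ?_⟩
  set x := lam r - r with hx
  have hlx : lam x = -x := by rw [hx, map_sub, hlam r, neg_sub]
  obtain ⟨s, hs⟩ := (hS.2 (x * x)).mp (by rw [map_mul, hlx, neg_mul_neg])
  by_cases hsu : IsUnit s
  · have : IsUnit (x * x) := hs ▸ hsu.map (algebraMap S R)
    have := (isUnit_of_mul_isUnit_left this).neg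
    simpa [hx] using this
  · refine absurd ?_ hr
    rw [Ring.jacobson_eq_sInf_isMaximal, Submodule.mem_sInf]
    intro M hM
    refine (hM.isPrime.mem_or_mem (?_ : x * x ∈ M)).elim id id
    rw [← hs]
    by_contra hn
    obtain ⟨y, i, hi, he⟩ := hM.exists_inv hn
    obtain ⟨t, ht⟩ := (hS.2 (y + lam y)).mp (by rw [map_add, hlam y, add_comm])
    obtain ⟨n, hn'⟩ := (hS.2 (y * lam y)).mp (by rw [map_mul, hlam y, mul_comm])
    have hu : IsUnit (1 - s * t + s ^ 2 * n) := by
      by_contra h'
      have h1 := (IsLocalRing.mem_maximalIdeal _).mpr h'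
      have h2 : s ∈ IsLocalRing.maximalIdeal S := (IsLocalRing.mem_maximalIdeal _).mpr hsu
      refine (IsLocalRing.maximalIdeal.isMaximal S).ne_top ((Ideal.eq_top_iff_one _).mpr ?_)
      have := Ideal.sub_mem _ h1 (Ideal.mul_mem_right (-t + s * n) _ h2)
      convert this using 1
      ring
    have he' : (1 - algebraMap S R s * y) * (1 - algebraMap S R s * lam y) =
        algebraMap S R (1 - s * t + s ^ 2 * n) := by
      rw [map_add, map_sub, map_one, map_mul, map_mul, map_pow, ht, hn']; ring
    have hu' := isUnit_of_mul_isUnit_left (he'.symm ▸ hu.map (algebraMap S R) : IsUnit ((1 - algebraMap S R s * y) * (1 - algebraMap S R s * lam y)))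
    exact hM.ne_top (Ideal.eq_top_of_isUnit_mem M (by
      have : 1 - algebraMap S R s * y = i := by rw [← he]; ring
      rw [this]; exact hi) hu')

end Groth.Agent.S15576
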