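import Groth.Statements.S15577
import Groth.Agent.RInvQuad.Local
import Groth.Agent.S15574

set_option autoImplicit false
universe u v
open RInv

open Groth.Agent
open scoped TensorProduct
set_option backward.isDefEq.respectTransparency false
namespace Groth.Agent.S15577

/-- Let `R` be a commutative ring with an involution `lam` whose fixed ring `S` is local. If `lam`
induces the identity on `R` modulo its Jacobson radical, then `R` is a local ring and is not a
quadratic etale `S`-algebra. -/
theorem result (S : Type u) (R : Type v) [CommRing S] [CommRing R]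
    [Algebra S R] (lam : R ≃+* R) (hlam : Function.Involutive lam) (hS : RInv.IsFixedRing S R lam)
    [IsLocalRing S] (h : ∀ r : R, lam r - r ∈ Ring.jacobson R) :
    IsLocalRing R ∧ ¬ RInv.IsQuadEtale S R := by
  haveI : Nontrivial R := hS.1.nontrivial
  obtain ⟨M, hM⟩ := Ideal.exists_maximal R
  have hJ : ∀ N : Ideal R, N.IsMaximal → ∀ r, lam r - r ∈ N := fun N hN r => by
    have := h r
    rw [Ring.jacobson_eq_sInf_isMaximal, Submodule.mem_sInf] at this
    exact this N hN
  refine ⟨IsLocalRing.of_unique_max_ideal ⟨M, hM, fun N hN => ?_⟩, fun hq => ?_⟩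
  · haveI := hN; haveI := hM
    refine RInvQuad.eq_of_residually_trivial lam hlam hS (hJ M hM) ?_
    have key : ∀ P : Ideal R, P.IsMaximal → P.comap (algebraMap S R) = IsLocalRing.maximalIdeal S := fun P hP => by
      haveI := hP
      refine le_antisymm (IsLocalRing.le_maximalIdeal ?_) fun s hs => ?_
      · exact (Ideal.comap_isPrime (algebraMap S R) P).ne_top
      · exact RInvQuad.algebraMap_mem_of_isMaximal lam hlam hS ((IsLocalRing.mem_maximalIdeal s).mp hs) P
    rw [key N hN, key M hM]
  · obtain ⟨r, hr⟩ := S15574.result S R lam hlam hS hq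
    exact hM.ne_top (Ideal.eq_top_of_isUnit_mem M (by simpa using M.neg_mem (hJ M hM r)) hr)

end Groth.Agent.S15577
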