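import Groth.Statements.S15581
import Mathlib

set_option autoImplicit false
universe u v
open RInv

namespace Groth.Agent.S15581

/-- Let `A` be a commutative ring with an involution `lam` whose fixed ring `B` is local with `2`
invertible. Then `Jac(A)^2 ⊆ Jac(B) A`. -/
theorem result (B : Type u) (A : Type v) [CommRing B]
    [CommRing A] [Algebra B A] (lam : A ≃+* A) (hlam : Function.Involutive lam)
    (hB : RInv.IsFixedRing B A lam) [IsLocalRing B] (h2 : IsUnit (2 : B)) :
    (Ring.jacobson A) ^ 2 ≤ (IsLocalRing.maximalIdeal B).map (algebraMap B A) := by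
  obtain ⟨hinj, hfix⟩ := hB
  obtain ⟨c, hc⟩ := h2.exists_left_inv
  have hc' : algebraMap B A c * 2 = 1 := by rw [← map_ofNat (algebraMap B A) 2, ← map_mul, hc, map_one]
  set m := (IsLocalRing.maximalIdeal B).map (algebraMap B A)
  haveI : Nontrivial A := hinj.nontrivial
  have hJ : Ring.jacobson A = Ideal.jacobson (⊥ : Ideal A) := (Ideal.jacobson_bot).symm
  rw [hJ]
  set J := Ideal.jacobson (⊥ : Ideal A) with hJdef
  have hstab : ∀ x ∈ J, lam x ∈ J := fun x hx => Ideal.mem_jacobson_bot.2 fun y => by
    have h := (Ideal.mem_jacobson_bot.1 hx (lam.symm y)).map lam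
    simpa using h
  have hfm : ∀ x ∈ J, lam x = x → x ∈ m := by
    intro x hx hl
    obtain ⟨b, rfl⟩ := (hfix x).1 hl
    refine Ideal.mem_map_of_mem _ ((IsLocalRing.mem_maximalIdeal b).2 fun hu => ?_)
    obtain ⟨w, hw⟩ := (hu.map (algebraMap B A)).exists_right_inv
    have := Ideal.mem_jacobson_bot.1 hx (-w)
    rw [mul_neg, hw, neg_add_cancel] at this
    exact not_isUnit_zero this
  have hlc : lam (algebraMap B A c) = algebraMap B A c := (hfix _).2 ⟨c, rfl⟩
  have hp : ∀ x ∈ J, algebraMap B A c * (x + lam x) ∈ m := fun x hx =>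
    hfm _ (Ideal.mul_mem_left _ _ (add_mem hx (hstab x hx))) (by rw [map_mul, map_add, hlam x, hlc, add_comm (lam x) x])
  rw [sq, Ideal.mul_le]
  intro x hx y hy
  have hmm : algebraMap B A c * (x - lam x) * (algebraMap B A c * (y - lam y)) ∈ m := by
    refine hfm _ (Ideal.mul_mem_right _ _ (Ideal.mul_mem_left _ _ (sub_mem hx (hstab x hx)))) ?_
    rw [map_mul, map_mul, map_mul, map_sub, map_sub, hlam x, hlam y, hlc]
    ring
  have e : x * y = algebraMap B A c * (x + lam x) * y + algebraMap B A c * (x - lam x) * (algebraMap B A c * (y + lam y)) +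
      algebraMap B A c * (x - lam x) * (algebraMap B A c * (y - lam y)) := by
    linear_combination (-x * y - algebraMap B A c * (x - lam x) * y) * hc'
  rw [e]
  exact add_mem (add_mem (Ideal.mul_mem_right _ _ (hp x hx)) (Ideal.mul_mem_left _ _ (hp y hy))) hmm

end Groth.Agent.S15581
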