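import Groth.Statements.S15583
import Groth.Agent.HermDiag.Basic
import Mathlib.RingTheory.LocalRing.Basic
import Mathlib.RingTheory.Ideal.Quotient.Basic

set_option autoImplicit false
universe u v
open RInv

namespace Groth.Agent.S15583

open Groth.Agent.HermDiag Matrix

/-- the fixed nonunits lie in the radical -/
theorem fixed_mem_jacobson {B : Type u} {A : Type v} [CommRing B] [CommRing A] [Algebra B A]
    (lam : A ≃+* A) (hlam : Function.Involutive lam) (hB : RInv.IsFixedRing B A lam) [IsLocalRing B]
    (b : A) (hfix : lam b = b) (hb : ¬IsUnit b) : b ∈ Ring.jacobson A := by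
  rw [← Ideal.jacobson_bot, Ideal.mem_jacobson_bot]
  intro y
  obtain ⟨b', rfl⟩ := (hB.2 b).1 hfix
  obtain ⟨s₁, hs₁⟩ := (hB.2 (y + lam y)).1 (by rw [map_add, hlam, add_comm])
  obtain ⟨s₂, hs₂⟩ := (hB.2 (y * lam y)).1 (by rw [map_mul, hlam, mul_comm])
  have hb' : b' ∈ IsLocalRing.maximalIdeal B := fun h => hb (h.map _)
  have hu : IsUnit (1 + b' * (s₁ + b' * s₂)) := by
    by_contra hnu
    have hm := (IsLocalRing.maximalIdeal B).sub_mem (show _ ∈ IsLocalRing.maximalIdeal B from hnu)
      (Ideal.mul_mem_right (s₁ + b' * s₂) _ hb')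
    rw [add_sub_cancel_right] at hm
    exact hm isUnit_one
  refine isUnit_of_mul_isUnit_left (y := algebraMap B A b' * lam y + 1) ?_
  have heq : (algebraMap B A b' * y + 1) * (algebraMap B A b' * lam y + 1) =
      algebraMap B A (1 + b' * (s₁ + b' * s₂)) := by
    rw [map_add, map_one, map_mul, map_add, map_mul, hs₁, hs₂]
    ring
  rw [heq]
  exact hu.map _

/-- Let `A` be a commutative ring with an involution `lam` whose fixed ring `B` is local, let `ε = ±1`,
and let `h` be an invertible `n × n` matrix over `A` that is `(ε, lam)`-hermitian: `h` equals `ε`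
times the transpose of `lam` applied entrywise to `h`. If `lam` is not the identity modulo the
Jacobson radical of `A`, or `ε ≠ -1` modulo that radical, or `n` is odd, then `h` is congruent to a
diagonal matrix: there is an invertible `v` with `(lam v)ᵀ h v` diagonal. -/
theorem result (B : Type u) (A : Type v) [CommRing B] [CommRing A]
    [Algebra B A] (lam : A ≃+* A) (hlam : Function.Involutive lam) (hB : RInv.IsFixedRing B A lam)
    [IsLocalRing B] (n : ℕ) (ε : A) (hε : ε = 1 ∨ ε = -1) (h : Matrix (Fin n) (Fin n) A)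
    (hh : IsUnit h) (herm : ε • (h.map lam).transpose = h)
    (hcase : (∃ a : A, lam a - a ∉ Ring.jacobson A) ∨ ε + 1 ∉ Ring.jacobson A ∨ Odd n) :
    ∃ v : Matrix (Fin n) (Fin n) A, IsUnit v ∧
      ∃ d : Fin n → A, (v.map lam).transpose * h * v = Matrix.diagonal d := by
  classical
  have : Nontrivial A := hB.1.nontrivial
  have hne : ¬ Subsingleton A := not_subsingleton A
  have hJ := fixed_mem_jacobson lam hlam hB
  have hherm : IsHerm lam h ε := fun i j => by
    have := congrFun (congrFun herm i) j
    simpa using this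
  rcases Nat.eq_zero_or_pos n with rfl | hn
  · exact ⟨1, isUnit_one, 0, Subsingleton.elim _ _⟩
  refine exists_diagonal lam hlam hJ hε hne h hherm hh fun halt => ?_
  set J := Ring.jacobson A
  let T : AddSubgroup A :=
    { carrier := {a | a + ε * lam a ∈ J}
      add_mem' := fun {a b} ha hb => by
        show a + b + ε * lam (a + b) ∈ J
        rw [map_add, mul_add, add_add_add_comm]
        exact add_mem ha hb
      zero_mem' := by simp
      neg_mem' := fun {a} ha => by
        show -a + ε * lam (-a) ∈ J
        rw [map_neg, mul_neg, ← neg_add]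
        exact neg_mem ha }
  have hent : ∀ i j a, a * h i j ∈ T := fun i j a => by
    show a * h i j + ε * lam (a * h i j) ∈ J
    have hs : sform lam h (Pi.single i (lam a)) (Pi.single j 1) = a * h i j := by
      rw [sform_single, hlam, mul_one]
    have := halt (Pi.single i (lam a) + Pi.single j 1)
    rw [sform_add lam hlam hherm, hs] at this
    exact (Submodule.add_mem_iff_right _ (add_mem (halt _) (halt _))).1 this
  have hT : ∀ a, a ∈ T := fun a => by
    have hinv := Matrix.mul_nonsing_inv h ((Matrix.isUnit_iff_isUnit_det _).1 hh)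
    have h00 := congrFun (congrFun hinv ⟨0, hn⟩) ⟨0, hn⟩
    rw [Matrix.mul_apply, Matrix.one_apply_eq] at h00
    rw [← mul_one a, ← h00, Finset.mul_sum]
    exact T.sum_mem fun j _ => by
      rw [show a * (h ⟨0, hn⟩ j * h⁻¹ j ⟨0, hn⟩) = a * h⁻¹ j ⟨0, hn⟩ * h ⟨0, hn⟩ j by ring]
      exact hent _ _ _
  have h1 : ε + 1 ∈ J := by
    have := hT 1
    rw [show (1 : A) ∈ T ↔ 1 + ε * lam 1 ∈ J from Iff.rfl, map_one, mul_one, add_comm] at this
    exact this
  have h2 : ∀ a, lam a - a ∈ J := fun a => by
    have h' := sub_mem (J.mul_mem_right (lam a) h1) (show a + ε * lam a ∈ J from hT a)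
    rwa [show (ε + 1) * lam a - (a + ε * lam a) = lam a - a by ring] at h'
  rcases hcase with ⟨a, ha⟩ | h' | hodd
  · exact ha (h2 a)
  · exact h' h1
  · have hdet : IsUnit (Ideal.Quotient.mk J h.det) := ((Matrix.isUnit_iff_isUnit_det _).1 hh).map _
    rw [RingHom.map_det, det_alternating_odd hodd _ (fun i => ?_) (fun i j => ?_), isUnit_zero_iff] at hdet
    · have htop : J = ⊤ := by
        rw [Ideal.eq_top_iff_one, ← Ideal.Quotient.eq_zero_iff_mem, map_one, hdet]
      have h0 : (1 : A) ∈ Ring.jacobson A := (Ideal.eq_top_iff_one _).1 htop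
      rw [← Ideal.jacobson_bot, Ideal.mem_jacobson_bot] at h0
      exact not_isUnit_zero (M₀ := A) (by simpa using h0 (-1))
    · rw [RingHom.mapMatrix_apply, Matrix.map_apply, Ideal.Quotient.eq_zero_iff_mem]
      have := halt (Pi.single i 1)
      rwa [sform_single, map_one, one_mul, mul_one] at this
    · rw [RingHom.mapMatrix_apply, Matrix.map_apply, Matrix.map_apply, ← map_add,
        Ideal.Quotient.eq_zero_iff_mem, ← hherm j i]
      exact hT _

end Groth.Agent.S15583
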