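import Groth.Statements.S15584
import Groth.Agent.CAlgMisc.SkewHerm
import Mathlib.RingTheory.Jacobson.Radical

set_option autoImplicit false
universe u v
open RInv

namespace Groth.Agent.S15584

/-- Let `A` be a commutative ring with an involution `lam` whose fixed ring `B` is local; assume `lam`
is the identity modulo the Jacobson radical of `A`, that `2` is invertible in `A`, and that `h` is
an invertible `n × n` matrix with `h = -(lam h)ᵀ`. Then `n` is even and there is an invertible `v`
such that `(lam v)ᵀ h v` is a block sum of `2 × 2` blocks on the index pairs `{2k, 2k+1}`, each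
congruent to `[[0,1],[-1,0]]` modulo the Jacobson radical. (The published statement writes the
congruence with the plain transpose `vᵀ h v`; its proof computes the Gram matrix of the hermitian
form `(x, y) ↦ (lam x)ᵀ h y` in a new basis, which is `(lam v)ᵀ h v`, and that is what is stated
here.) -/
theorem result (B : Type u) (A : Type v) [CommRing B] [CommRing A]
    [Algebra B A] (lam : A ≃+* A) (hlam : Function.Involutive lam) (hB : RInv.IsFixedRing B A lam)
    [IsLocalRing B] (n : ℕ) (hid : ∀ a : A, lam a - a ∈ Ring.jacobson A) (h2 : IsUnit (2 : A))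
    (h : Matrix (Fin n) (Fin n) A) (hh : IsUnit h) (herm : -(h.map lam).transpose = h) :
    Even n ∧ ∃ v : Matrix (Fin n) (Fin n) A, IsUnit v ∧
      ∀ i j : Fin n,
        (i.val / 2 ≠ j.val / 2 → ((v.map lam).transpose * h * v) i j = 0) ∧
        (i.val / 2 = j.val / 2 → (Even i.val ↔ Even j.val) →
          ((v.map lam).transpose * h * v) i j ∈ Ring.jacobson A) ∧
        (i.val / 2 = j.val / 2 → Even i.val → ¬ Even j.val →
          ((v.map lam).transpose * h * v) i j - 1 ∈ Ring.jacobson A) ∧
        (i.val / 2 = j.val / 2 → ¬ Even i.val → Even j.val →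
          ((v.map lam).transpose * h * v) i j + 1 ∈ Ring.jacobson A) := by
  obtain ⟨hinj, hfix⟩ := hB
  haveI : Nontrivial A := hinj.nontrivial
  have hN : ∀ a, ∃ b, algebraMap B A b = a * lam a := fun a => (hfix _).mp (by rw [map_mul, hlam, mul_comm])
  have hT : ∀ a, ∃ b, algebraMap B A b = a + lam a := fun a => (hfix _).mp (by rw [map_add, hlam, add_comm])
  have hNu : ∀ a b, algebraMap B A b = a * lam a → IsUnit b → IsUnit a := fun a b e hu =>
    (IsUnit.mul_iff.mp (e ▸ hu.map (algebraMap B A))).1
  have hloc : IsLocalRing A := IsLocalRing.of_isUnit_or_isUnit_one_sub_self fun a => by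
    by_contra hcon
    push Not at hcon
    obtain ⟨ha, ha1⟩ := hcon
    obtain ⟨M, hM, haM⟩ := exists_max_ideal_of_mem_nonunits ha
    obtain ⟨s, hs⟩ := hT a
    obtain ⟨nn, hnn⟩ := hN a
    have h1 : algebraMap B A (1 - s + nn) = (1 - a) * lam (1 - a) := by
      rw [map_add, map_sub, map_one, hs, hnn, map_sub, map_one]; ring
    have n1 : nn ∈ IsLocalRing.maximalIdeal B := fun hu => ha (hNu a nn hnn hu)
    have n2 : 1 - s + nn ∈ IsLocalRing.maximalIdeal B := fun hu => ha1 (hNu _ _ h1 hu)
    have hsu : IsUnit s := by
      by_contra hsn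
      refine (IsLocalRing.maximalIdeal.isMaximal B).ne_top ((Ideal.eq_top_iff_one _).mpr ?_)
      have := add_mem (sub_mem n2 n1) (show s ∈ IsLocalRing.maximalIdeal B from hsn)
      simpa using this
    refine hM.ne_top (Ideal.eq_top_of_isUnit_mem _ ?_ (hsu.map (algebraMap B A)))
    rw [hs, show a + lam a = a + a + (lam a - a) by ring]
    exact add_mem (add_mem haM haM) (Ring.jacobson_le_of_isMaximal M (hid a))
  have hJ : Ring.jacobson A = IsLocalRing.maximalIdeal A := IsLocalRing.ringJacobson_eq_maximalIdeal A
  obtain ⟨hev, v, hv, hgood⟩ := Groth.Agent.CAlgMisc.SkewHerm.exists_good lam hlam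
    (fun a => hJ ▸ hid a) h2 n h hh herm
  refine ⟨hev, v, hv, fun i j => ?_⟩
  rw [hJ]
  exact hgood i j

end Groth.Agent.S15584
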