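import Groth.Statements.S15587
import Groth.Agent.RInvQuad.Local
import Groth.Agent.S15574
import Groth.Agent.S15576
import Groth.Agent.S15586
import Mathlib.RingTheory.LocalRing.ResidueField.Ideal

set_option autoImplicit false
universe u v
open scoped TensorProduct
open RInv

open Groth.Agent
open scoped TensorProduct
set_option backward.isDefEq.respectTransparency false
namespace Groth.Agent.S15587

/-- (b) ⇔ (d): let `R` be a commutative ring with an involution `lam` and fixed ring `S`, so that `Spec
R → Spec S` is a good quotient by the involution, and let `p` be a prime of `S`. Then `p` is a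
branch point, i.e. the localisation `S_p ⊗_S R` is not quadratic etale over `S_p`, if and only if
exactly one prime `q` of `R` lies over `p` and `lam` induces the identity on the residue field of
`q` (equivalently `lam r - r ∈ q` for all `r`). This is the affine-local form of the statement for a
good quotient of schemes, to which the general case reduces since such quotients are affine
morphisms. -/
theorem result (S : Type u) (R : Type v) [CommRing S] [CommRing R]
    [Algebra S R] (lam : R ≃+* R) (hlam : Function.Involutive lam) (hS : RInv.IsFixedRing S R lam)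
    (p : PrimeSpectrum S) :
    ¬ RInv.IsQuadEtale (Localization.AtPrime p.asIdeal) (Localization.AtPrime p.asIdeal ⊗[S] R) ↔
      ∃ q : PrimeSpectrum R, q.asIdeal.comap (algebraMap S R) = p.asIdeal ∧
        (∀ q' : PrimeSpectrum R, q'.asIdeal.comap (algebraMap S R) = p.asIdeal → q' = q) ∧
        ∀ r : R, lam r - r ∈ q.asIdeal := by
  let Sp := Localization.AtPrime p.asIdeal
  have hsm : ∀ s, lam (algebraMap S R s) = algebraMap S R s := fun s => (hS.2 _).2 ⟨s, rfl⟩
  let lamA : R ≃ₐ[S] R := AlgEquiv.ofRingEquiv (f := lam) hsm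
  let lam' : (Sp ⊗[S] R) ≃+* (Sp ⊗[S] R) :=
    (Algebra.TensorProduct.congr (AlgEquiv.refl : Sp ≃ₐ[S] Sp) lamA).toRingEquiv
  have hfix : RInv.IsFixedRing Sp (Sp ⊗[S] R) lam' :=
    S15586.result S R Sp lamA hlam hS (Or.inl inferInstance)
  have hlam' : Function.Involutive lam' := fun z => by
    induction z using TensorProduct.induction_on with
    | zero => simp
    | tmul a b => show a ⊗ₜ[S] lam (lam b) = _; rw [hlam b]
    | add a b ha hb => rw [map_add, map_add, ha, hb]
  constructor
  · intro hn
    have hJ : ∀ x, lam' x - x ∈ Ring.jacobson (Sp ⊗[S] R) := fun x => by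
      by_contra hx
      exact hn (S15576.result Sp (Sp ⊗[S] R) lam' hlam' hfix ⟨x, hx⟩)
    haveI : Nontrivial (Sp ⊗[S] R) := hfix.1.nontrivial
    obtain ⟨M, hM⟩ := Ideal.exists_maximal (Sp ⊗[S] R)
    haveI := hM
    let ι : R →ₐ[S] Sp ⊗[S] R := Algebra.TensorProduct.includeRight
    have hcomap : (M.comap ι.toRingHom).comap (algebraMap S R) = p.asIdeal := by
      have h1 : M.comap (algebraMap Sp (Sp ⊗[S] R)) = IsLocalRing.maximalIdeal Sp := by
        refine le_antisymm (IsLocalRing.le_maximalIdeal (Ideal.comap_isPrime (algebraMap Sp (Sp ⊗[S] R)) M).ne_top) fun s hs => ?_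
        exact RInvQuad.algebraMap_mem_of_isMaximal lam' hlam' hfix ((IsLocalRing.mem_maximalIdeal s).mp hs) M
      ext s
      show ι (algebraMap S R s) ∈ M ↔ _
      rw [AlgHom.commutes, IsScalarTower.algebraMap_apply S Sp (Sp ⊗[S] R), ← Ideal.mem_comap, h1]
      exact IsLocalization.AtPrime.to_map_mem_maximal_iff Sp p.asIdeal s
    have hr : ∀ r, lam r - r ∈ M.comap ι.toRingHom := fun r => by
      have := hJ (ι r)
      rw [Ring.jacobson_eq_sInf_isMaximal, Submodule.mem_sInf] at this
      show ι (lam r - r) ∈ M
      rw [map_sub]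
      exact this M hM
    haveI : (M.comap ι.toRingHom).IsPrime := Ideal.comap_isPrime _ M
    exact ⟨⟨M.comap ι.toRingHom, inferInstance⟩, hcomap, fun q' hq' => PrimeSpectrum.ext
      (RInvQuad.eq_of_residually_trivial lam hlam hS hr (hq'.trans hcomap.symm)), hr⟩
  · rintro ⟨q, hq, -, hr⟩ hQE
    obtain ⟨u, hu⟩ := S15574.result Sp (Sp ⊗[S] R) lam' hlam' hfix hQE
    let K := q.asIdeal.ResidueField
    let g : R →ₐ[S] K := IsScalarTower.toAlgHom S R K
    have hunit : ∀ y : p.asIdeal.primeCompl, IsUnit (Algebra.ofId S K (y : S)) := fun y => by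
      refine isUnit_iff_ne_zero.mpr fun h => y.2 ?_
      refine hq.le (show algebraMap S R (y : S) ∈ q.asIdeal from ?_)
      rw [Algebra.ofId_apply, IsScalarTower.algebraMap_apply S R K] at h
      exact (Ideal.algebraMap_residueField_eq_zero).mp h
    let φ : Sp ⊗[S] R →ₐ[S] K := Algebra.TensorProduct.lift (IsLocalization.liftAlgHom hunit) g (fun _ _ => Commute.all _ _)
    have hφ : ∀ z, φ (lam' z) = φ z := fun z => by
      induction z using TensorProduct.induction_on with
      | zero => simp
      | tmul a b =>
        show φ (a ⊗ₜ[S] lam b) = φ (a ⊗ₜ[S] b)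
        rw [Algebra.TensorProduct.lift_tmul, Algebra.TensorProduct.lift_tmul]
        congr 1
        rw [← sub_eq_zero, ← map_sub]
        exact (Ideal.algebraMap_residueField_eq_zero).mpr (hr b)
      | add a b ha hb => rw [map_add, map_add, map_add, ha, hb]
    have := hu.map φ
    rw [map_sub, hφ u, sub_self] at this
    exact not_isUnit_zero this

end Groth.Agent.S15587
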