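import Groth.Statements.S15590
import Mathlib.RingTheory.DedekindDomain.Basic
import Mathlib.RingTheory.Flat.FaithfullyFlat.Algebra
import Mathlib.RingTheory.Ideal.GoingUp
import Mathlib.RingTheory.Flat.Rank

set_option autoImplicit false
universe u v
open CAlg

namespace Groth.Agent.S15590

/-- Let A → B be an injective homomorphism of commutative rings which makes B a finite flat A-module,
and suppose B is a Dedekind domain (Noetherian, integrally closed, of Krull dimension at most one; a
field is allowed). Then A is a Dedekind domain. -/
theorem result (A : Type u) (B : Type v)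
    [CommRing A] [CommRing B] [Algebra A B] [IsDedekindDomain B]
    (hinj : Function.Injective (algebraMap A B)) [Module.Finite A B] [Module.Flat A B] :
    IsDedekindDomain A := by
  haveI : IsDomain A := hinj.isDomain _
  haveI : FaithfulSMul A B := (faithfulSMul_iff_algebraMap_injective A B).2 hinj
  haveI : Module.FaithfullyFlat A B := Module.FaithfullyFlat.of_isIntegral_of_isDomain
  haveI : IsNoetherianRing A := by
    rw [isNoetherianRing_iff, isNoetherian_iff']
    have hmono : Monotone fun I : Ideal A => I.map (algebraMap A B) := fun _ _ h => Ideal.map_mono h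
    exact StrictMono.wellFoundedGT (hmono.strictMono_of_injective Ideal.map_injective_of_faithfullyFlat)
  haveI : Ring.DimensionLEOne A := ⟨fun {p} hp hpp => by
    haveI := hpp
    obtain ⟨P, hP, hPp⟩ := Ideal.exists_isPrime_liesOver_of_faithfullyFlat (B := B) p
    haveI := hP
    have hP0 : P ≠ ⊥ := by
      intro h0
      apply hp
      rw [hPp.over, h0, Ideal.under, ← RingHom.ker_eq_comap_bot]
      exact (RingHom.injective_iff_ker_eq_bot _).1 hinj
    haveI := Ring.DimensionLEOne.maximalOfPrime hP0 hP
    rw [hPp.over]
    exact Ideal.isMaximal_comap_of_isIntegral_of_isMaximal P⟩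
  haveI : IsIntegrallyClosed A := by
    rw [isIntegrallyClosed_iff (FractionRing A)]
    intro x hx
    obtain ⟨a, b, hb, rfl⟩ := IsFractionRing.div_surjective A x
    have hb0 : b ≠ 0 := nonZeroDivisors.ne_zero hb
    have hinj2 : Function.Injective ((algebraMap B (FractionRing B)).comp (algebraMap A B)) :=
      (IsFractionRing.injective B (FractionRing B)).comp hinj
    obtain ⟨g, hga⟩ : ∃ g : FractionRing A →+* FractionRing B, ∀ c, g (algebraMap A (FractionRing A) c) =
        algebraMap B (FractionRing B) (algebraMap A B c) :=
      ⟨IsFractionRing.lift hinj2, fun c => by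
        rw [IsFractionRing.lift_algebraMap]; rfl⟩
    have hg : g.comp (algebraMap A (FractionRing A)) = (algebraMap B (FractionRing B)).comp (algebraMap A B) :=
      RingHom.ext hga
    have hint : IsIntegral B (g (algebraMap A _ a / algebraMap A _ b)) := by
      obtain ⟨p, hp, hpx⟩ := hx
      refine ⟨p.map (algebraMap A B), hp.map _, ?_⟩
      rw [Polynomial.eval₂_map, ← hg, ← Polynomial.hom_eval₂, hpx, map_zero]
    obtain ⟨y, hy⟩ := IsIntegrallyClosed.algebraMap_eq_of_integral hint
    rw [map_div₀, hga, hga, eq_div_iff (by
      rw [ne_eq, IsFractionRing.to_map_eq_zero_iff, map_eq_zero_iff _ hinj]; exact hb0), ← map_mul] at hy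
    have hyab := IsFractionRing.injective B (FractionRing B) hy
    have : a ∈ ((Ideal.span {b}).map (algebraMap A B)).comap (algebraMap A B) := by
      rw [Ideal.mem_comap, Ideal.map_span, Set.image_singleton, ← hyab]
      exact Ideal.mem_span_singleton'.2 ⟨y, rfl⟩
    rw [Ideal.comap_map_eq_self_of_faithfullyFlat, Ideal.mem_span_singleton'] at this
    obtain ⟨c, rfl⟩ := this
    refine ⟨c, ?_⟩
    rw [map_mul, mul_div_cancel_right₀]
    rw [ne_eq, IsFractionRing.to_map_eq_zero_iff]; exact hb0
  exact { }

end Groth.Agent.S15590
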