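import Groth.Statements.S15592
import Groth.Agent.Chev.LineFixed
import Groth.Agent.Chev.AntiAff
import Groth.Agent.RedR1.GaSpace
import Groth.Agent.RedR1.TorusCover

set_option autoImplicit false
universe u
open CategoryTheory MonoidalCategory CartesianMonoidalCategory MonObj GrpObj AlgebraicGeometry
open AlgGrp

namespace Groth.Agent.S15592

/-- The case of a one-dimensional group. Let k be a field, X a proper k-scheme having a k-rational
point, and G a k-group scheme isomorphic, as a k-group scheme, to the additive group or to the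
multiplicative group over k. Then every action of G on X fixes some k-rational point of X: there is
a k-point x with g · x = x for all points g of G with values in any k-scheme. (This is the
one-dimensional case of the fixed point property of k-split solvable groups acting on proper
k-schemes with a rational point, to which the general case reduces by induction along a composition
series.) -/
theorem result (k : Type u) [Field k]
    (G X : Over (Spec (CommRingCat.of k))) [GrpObj G]
    (hG : Nonempty (Grp.mk G ≅ Grp.mk (Red.Ga (Spec (CommRingCat.of k)))) ∨ Nonempty (Grp.mk G ≅ Grp.mk (Red.Gm (Spec (CommRingCat.of k)))))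
    [IsProper X.hom] (x₀ : 𝟙_ (Over (Spec (CommRingCat.of k))) ⟶ X) (a : AlgGrp.Action G X) :
    ∃ x : 𝟙_ (Over (Spec (CommRingCat.of k))) ⟶ X, a.IsFixedPt x := by
  have main : ∀ (H : Over (Spec (CommRingCat.of k))) [GrpObj H] [IsReduced H.left]
      (u₀ : VecGrp.pt k (Chev.LineFixed.F k) ⟶ H),
      (∀ (K : Type u) [Field K] [Algebra k K] (g : VecGrp.pt k K ⟶ H),
        ∃ v : (Chev.LineFixed.O K)ˣ, VecGrp.ptMap (Chev.LineFixed.substF (k := k) K v) ≫ u₀ =
          (VecGrp.ptMap (IsScalarTower.toAlgHom k K (Chev.LineFixed.F K)) ≫ g) *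
            (VecGrp.ptMap (Chev.LineFixed.substF (k := k) K 1) ≫ u₀)) →
      Nonempty (Grp.mk G ≅ Grp.mk H) →
      ∃ x : 𝟙_ (Over (Spec (CommRingCat.of k))) ⟶ X, a.IsFixedPt x := by
    intro H _ _ u₀ hu hiso
    obtain ⟨e⟩ := hiso
    let eO : G ≅ H := (Grp.forget _).mapIso e
    haveI : IsMonHom eO.hom := inferInstanceAs (IsMonHom e.hom.hom.hom)
    haveI : IsMonHom eO.inv := inferInstanceAs (IsMonHom e.inv.hom.hom)
    haveI : IsIso eO.hom.left := inferInstanceAs (IsIso ((Over.forget _).map eO.hom))
    haveI : IsReduced G.left := isReduced_of_isOpenImmersion eO.hom.left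
    obtain ⟨x, hx⟩ := Chev.LineFixed.exists_fixed_of_infty a (u₀ ≫ eO.inv) (fun K _ _ g => by
      obtain ⟨v, hv⟩ := hu K (g ≫ eO.hom)
      refine ⟨v, ?_⟩
      rw [← Category.assoc, hv, MonObj.mul_comp]
      simp only [Category.assoc, Iso.hom_inv_id, Category.comp_id]) x₀
    exact ⟨x, Chev.LineFixed.isFixedPt_of_fields a x hx⟩
  rcases hG with h | h
  · haveI := RedR1.smooth_ga k
    obtain ⟨u₀, hu₀⟩ := Chev.LineFixed.infty_ga (k := k)
    haveI : IsReduced (Red.Ga (Spec (CommRingCat.of k))).left := Chev.isReduced_of_smooth' _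
    exact main _ u₀ hu₀ h
  · obtain ⟨u₀, hu₀⟩ := Chev.LineFixed.infty_gm (k := k)
    haveI : IsReduced (Red.Gm (Spec (CommRingCat.of k))).left := by
      obtain ⟨e⟩ := MTBridge.nonempty_DS_iso k ℤ
      haveI : IsDomain (MonoidAlgebra k (Multiplicative ℤ)) := NoZeroDivisors.to_isDomain _
      haveI : IsReduced ((Spec (CommRingCat.of (MonoidAlgebra k (Multiplicative ℤ)))).asOver
          (Spec (CommRingCat.of k))).left :=
        inferInstanceAs (IsReduced (Spec (CommRingCat.of (MonoidAlgebra k (Multiplicative ℤ)))))
      haveI : IsIso e.hom.hom.hom.left :=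
        inferInstanceAs (IsIso ((Over.forget _).map ((Grp.forget _).map e.hom)))
      exact isReduced_of_isOpenImmersion e.hom.hom.hom.left
    exact main _ u₀ hu₀ h

end Groth.Agent.S15592
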