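import Groth.Statements.S15594
import Mathlib

set_option autoImplicit false
universe u
open TensorProduct
open AGF

namespace Groth.Agent.S15594

/-- Affine form. Let k ⊆ K be a field extension, A a commutative k-algebra and S a set of k-algebra
homomorphisms A → k (rational points of Spec A). The ideal ⋂_{σ ∈ S} ker σ cuts out the Zariski
closure of S with its reduced structure, and its extension to K ⊗_k A equals ⋂_{σ ∈ S} ker σ_K,
where σ_K : K ⊗_k A → K is the K-algebra map induced by σ. In words: the closure of a set of
rational points is formed compatibly with extension of the ground field. (The published statement is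
for schemes locally of finite type; this affine row assumes no finiteness, which the argument does
not use.) -/
theorem result (k K A : Type u) [Field k] [Field K] [Algebra k K]
    [CommRing A] [Algebra k A] (S : Set (A →ₐ[k] k)) :
    Ideal.map (Algebra.TensorProduct.includeRight : A →ₐ[k] K ⊗[k] A) (⨅ σ ∈ S, RingHom.ker σ) =
      ⨅ σ ∈ S, RingHom.ker ((Algebra.TensorProduct.rid k K K).toAlgHom.comp
        (Algebra.TensorProduct.map (AlgHom.id K K) σ)) := by
  classical
  open TensorProduct in
  let b := Module.Free.chooseBasis k K
  ext x
  constructor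
  · intro hx
    simp only [Ideal.mem_iInf, RingHom.mem_ker]
    intro σ hσ
    have h : Ideal.map (Algebra.TensorProduct.includeRight : A →ₐ[k] K ⊗[k] A) (⨅ σ ∈ S, RingHom.ker σ) ≤
        RingHom.ker ((Algebra.TensorProduct.rid k K K).toAlgHom.comp (Algebra.TensorProduct.map (AlgHom.id K K) σ)) := by
      rw [Ideal.map_le_iff_le_comap]
      intro a ha
      simp only [Ideal.mem_iInf, RingHom.mem_ker] at ha
      simp [Ideal.mem_comap, RingHom.mem_ker, ha σ hσ]
    exact h hx
  · intro hx
    simp only [Ideal.mem_iInf, RingHom.mem_ker] at hx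
    set c := TensorProduct.equivFinsuppOfBasisLeft b x with hc
    have he : x = c.sum fun i a => b i ⊗ₜ[k] a := by
      rw [hc, ← TensorProduct.equivFinsuppOfBasisLeft_symm_apply, LinearEquiv.symm_apply_apply]
    rw [he]
    refine Ideal.sum_mem _ fun i _ => ?_
    have hi : c i ∈ ⨅ σ ∈ S, RingHom.ker σ := by
      simp only [Ideal.mem_iInf, RingHom.mem_ker]
      intro σ hσ
      have h := hx σ hσ
      rw [he, Finsupp.sum, map_sum] at h
      simp only [AlgHom.comp_apply, Algebra.TensorProduct.map_tmul, AlgHom.id_apply, AlgEquiv.coe_toAlgHom,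
        Algebra.TensorProduct.rid_tmul] at h
      by_contra hne
      have hli := linearIndependent_iff'.1 b.linearIndependent c.support (fun j => σ (c j)) h i (Finsupp.mem_support_iff.2 fun h0 => hne (by rw [h0, map_zero]))
      exact hne hli
    have : b i ⊗ₜ[k] c i = (b i ⊗ₜ[k] (1 : A)) * (Algebra.TensorProduct.includeRight : A →ₐ[k] K ⊗[k] A) (c i) := by simp
    show b i ⊗ₜ[k] c i ∈ _
    rw [this]
    exact Ideal.mul_mem_left _ _ (Ideal.mem_map_of_mem _ hi)

end Groth.Agent.S15594
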