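import Groth.Statements.S15595
import Groth.Agent.S0565
import Groth.Agent.SmLocalST.EtReg

set_option autoImplicit false
universe u
open TensorProduct
attribute [local instance] RingHom.ker_isPrime
open CAlg

namespace Groth.Agent.S15595

/-- Let k ⊆ K be a field extension and A a Noetherian local k-algebra with residue field k, recorded by
a k-algebra map π : A → k whose kernel is the maximal ideal. Let π_K : K ⊗_k A → K be the induced
K-algebra map, m' its kernel, and A' the localization of K ⊗_k A at m'. Assume A' is Noetherian.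
Then A is a regular local ring if and only if A' is a regular local ring. -/
theorem result (k K A : Type u) [Field k] [Field K]
    [Algebra k K] [CommRing A] [Algebra k A] [IsLocalRing A] [IsNoetherianRing A]
    (π : A →ₐ[k] k) (hπ : RingHom.ker π = IsLocalRing.maximalIdeal A)
    [IsNoetherianRing (Localization.AtPrime (RingHom.ker
      ((Algebra.TensorProduct.rid k K K).toAlgHom.comp (Algebra.TensorProduct.map (AlgHom.id K K) π))))] :
    IsRegularLocalRing A ↔ IsRegularLocalRing (Localization.AtPrime (RingHom.ker
      ((Algebra.TensorProduct.rid k K K).toAlgHom.comp (Algebra.TensorProduct.map (AlgHom.id K K) π)))) := by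
  letI : Algebra A (K ⊗[k] A) := Algebra.TensorProduct.rightAlgebra
  set πK := (Algebra.TensorProduct.rid k K K).toAlgHom.comp (Algebra.TensorProduct.map (AlgHom.id K K) π) with hπK
  let B := Localization.AtPrime (RingHom.ker πK)
  have hπ1 : ∀ (c : K) (a : A), πK (c ⊗ₜ a) = π a • c := fun c a => by
    simp [hπK]
  have hker : RingHom.ker πK = (IsLocalRing.maximalIdeal A).map (algebraMap A (K ⊗[k] A)) := by
    refine le_antisymm (fun y hy => ?_) (Ideal.map_le_iff_le_comap.2 fun a ha => ?_)
    · have h : ∀ y : K ⊗[k] A, y - πK y ⊗ₜ (1 : A) ∈ (IsLocalRing.maximalIdeal A).map (algebraMap A (K ⊗[k] A)) := by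
        intro y
        induction y using TensorProduct.induction_on with
        | zero => simp
        | tmul c a =>
          have ha : a - algebraMap k A (π a) ∈ IsLocalRing.maximalIdeal A := by
            rw [← hπ, RingHom.mem_ker, map_sub, π.commutes]
            exact sub_self _
          have h2 := Ideal.mul_mem_left _ (c ⊗ₜ[k] (1 : A)) (Ideal.mem_map_of_mem (algebraMap A (K ⊗[k] A)) ha)
          convert h2 using 1
          show c ⊗ₜ[k] a - πK (c ⊗ₜ a) ⊗ₜ[k] (1 : A) = c ⊗ₜ 1 * ((1 : K) ⊗ₜ (a - algebraMap k A (π a)))
          rw [Algebra.TensorProduct.tmul_mul_tmul, mul_one, one_mul, TensorProduct.tmul_sub, hπ1,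
            TensorProduct.smul_tmul, ← Algebra.algebraMap_eq_smul_one]
        | add y z hy hz =>
          rw [map_add, TensorProduct.add_tmul, add_sub_add_comm]
          exact add_mem hy hz
      have := h y
      rwa [RingHom.mem_ker.1 hy, TensorProduct.zero_tmul, sub_zero] at this
    · show πK ((1 : K) ⊗ₜ a) = 0
      rw [hπ1, show π a = 0 from RingHom.mem_ker.1 (hπ ▸ ha), zero_smul]
  have hmax : IsLocalRing.maximalIdeal B = (IsLocalRing.maximalIdeal A).map (algebraMap A B) := by
    rw [IsScalarTower.algebraMap_eq A (K ⊗[k] A) B, ← Ideal.map_map, ← hker]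
    exact (IsLocalization.AtPrime.map_eq_maximalIdeal _ B).symm
  haveI : IsLocalHom (algebraMap A B) :=
    ((IsLocalRing.local_hom_TFAE (algebraMap A B)).out 2 0).1 hmax.ge
  haveI : Module.Flat A (K ⊗[k] A) :=
    Module.Flat.of_linearEquiv (Algebra.TensorProduct.commRight k A K).symm.toLinearEquiv
  haveI : Module.Flat (K ⊗[k] A) B := IsLocalization.flat B (RingHom.ker πK).primeCompl
  haveI : Module.Flat A B := Module.Flat.trans A (K ⊗[k] A) B
  show IsRegularLocalRing A ↔ IsRegularLocalRing B
  refine ⟨fun hA => IsRegularLocalRing.of_spanFinrank_maximalIdeal_le B ?_, fun hB => Groth.Agent.S0565.result A B⟩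
  refine le_trans ?_ (Groth.Agent.SmLocalST.ringKrullDim_le_of_flat_local A B)
  rw [← (isRegularLocalRing_iff A).1 hA, hmax]
  exact_mod_cast Ideal.spanFinrank_map_le_of_fg _ (IsNoetherian.noetherian _)

end Groth.Agent.S15595
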