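import Groth.Statements.S15596
import Groth.Agent.Chev.AVActFinite

set_option autoImplicit false
universe u
open CategoryTheory MonoidalCategory CartesianMonoidalCategory MonObj GrpObj AlgebraicGeometry
open AlgGrp

namespace Groth.Agent.S15596

/-- Let k be an algebraically closed field, H a smooth k-group scheme of finite type, and U a dense open
subset of H. Then every k-rational point h of H is of the form u₂ · u₁⁻¹ for k-rational points u₁,
u₂ of H whose underlying points lie in U. -/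
theorem result (k : Type u) [Field k] [IsAlgClosed k]
    (H : Over (Spec (CommRingCat.of k))) [GrpObj H] [Smooth H.hom] [QuasiCompact H.hom]
    (U : H.left.Opens) (hU : Dense (U : Set ↥H.left)) (h : 𝟙_ (Over (Spec (CommRingCat.of k))) ⟶ H) :
    ∃ u₁ u₂ : 𝟙_ (Over (Spec (CommRingCat.of k))) ⟶ H,
      u₁.left.base (IsLocalRing.closedPoint k) ∈ U ∧ u₂.left.base (IsLocalRing.closedPoint k) ∈ U ∧
        h = u₂ * u₁⁻¹ := by
  classical
  haveI : LocallyOfFiniteType H.hom := inferInstance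
  haveI : JacobsonSpace H.left := LocallyOfFiniteType.jacobsonSpace H.hom
  let L : H ⟶ H := (toUnit H ≫ h) * 𝟙 H
  let L' : H ⟶ H := (toUnit H ≫ h⁻¹) * 𝟙 H
  have hc : ∀ (g g' : 𝟙_ (Over (Spec (CommRingCat.of k))) ⟶ H), ((toUnit H ≫ g) * 𝟙 H) ≫ ((toUnit H ≫ g') * 𝟙 H) =
      (toUnit H ≫ (g' * g)) * 𝟙 H := by
    intro g g'
    rw [MonObj.comp_mul, Category.comp_id, comp_toUnit_assoc, MonObj.comp_mul, _root_.mul_assoc]
  let e : H ≅ H :=
    { hom := L, inv := L'
      hom_inv_id := by rw [hc, inv_mul_cancel, MonObj.comp_one, _root_.one_mul]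
      inv_hom_id := by rw [hc, mul_inv_cancel, MonObj.comp_one, _root_.one_mul] }
  haveI : IsIso L.left := ((Over.forget _).mapIso e).isIso_hom
  have hd : Dense ((L.left ⁻¹ᵁ U : H.left.Opens) : Set H.left) :=
    hU.preimage L.left.homeomorph.isOpenMap
  have hd2 : Dense ((U : Set H.left) ∩ (L.left ⁻¹ᵁ U : H.left.Opens)) := hU.inter_of_isOpen_left hd U.2
  haveI : Nonempty H.left := ⟨h.left (IsLocalRing.closedPoint k)⟩
  obtain ⟨z, hz, hzc⟩ := nonempty_inter_closedPoints hd2.nonempty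
    ((U.2.inter (L.left ⁻¹ᵁ U).2).isLocallyClosed)
  obtain ⟨u₁, hu₁⟩ := Groth.Agent.Chev.exists_rat_point z hzc
  refine ⟨u₁, u₁ ≫ L, ?_, ?_, ?_⟩
  · rw [hu₁]; exact hz.1
  · rw [Over.comp_left]
    show L.left (u₁.left _) ∈ U
    rw [hu₁]; exact hz.2
  · simp only [L, MonObj.comp_mul, Category.comp_id, comp_toUnit_assoc, toUnit_unit, Category.id_comp,
      mul_inv_cancel_right]

end Groth.Agent.S15596
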