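import Groth.Statements.S15598
import Groth.Agent.GrpAct.OrbitSmooth
import Groth.Agent.GrpAct.OrbitFlat
import Groth.Agent.GenFree.Scheme
import Groth.Agent.Blanchard.Main

set_option autoImplicit false
universe u
open CategoryTheory MonoidalCategory CartesianMonoidalCategory MonObj GrpObj AlgebraicGeometry
open AlgGrp

namespace Groth.Agent.S15598

open TopologicalSpace in
set_option backward.isDefEq.respectTransparency false in
theorem main {k : Type u} [Field k] [IsAlgClosed k]
    {G X : Over (Spec (CommRingCat.of k))} [GrpObj G] [LocallyOfFiniteType G.hom] [QuasiCompact G.hom]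
    [Smooth X.hom] [ConnectedSpace X.left] (a : AlgGrp.Action G X) (x₀ : 𝟙_ (Over (Spec (CommRingCat.of k))) ⟶ X)
    (hsurj : Surjective (a.orbitMap x₀).left)
    {H : Over (Spec (CommRingCat.of k))} [GrpObj H] (i : H ⟶ G) [Mono i]
    (hH : ∀ (T : Over (Spec (CommRingCat.of k))) (g : T ⟶ G), (∃ h : T ⟶ H, h ≫ i = g) ↔ g ≫ a.orbitMap x₀ = toUnit T ≫ x₀)
    [ConnectedSpace H.left] : ConnectedSpace G.left := by
  let S := Spec (CommRingCat.of k)
  have : Subsingleton S := inferInstanceAs (Subsingleton (PrimeSpectrum k))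
  have : GeometricallyReduced X.hom := Groth.Agent.GrpAct.geometricallyReduced_of_smooth (G := X)
  have : IsReduced X.left := GeometricallyReduced.isReduced_of_flat_of_isLocallyNoetherian X.hom
  let α := a.orbitMap x₀
  let f := α.left
  have : IsLocallyNoetherian X.left := LocallyOfFiniteType.isLocallyNoetherian X.hom
  have : IsLocallyNoetherian G.left := LocallyOfFiniteType.isLocallyNoetherian G.hom
  have : CompactSpace G.left := QuasiCompact.compactSpace_of_compactSpace G.hom
  have : IsNoetherian G.left := {}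
  have : QuasiCompact f := quasiCompact_iff_forall_isAffineOpen.mpr fun U _ => NoetherianSpace.isCompact _
  have : LocallyOfFiniteType (f ≫ X.hom) := by rw [Over.w α]; infer_instance
  have : LocallyOfFiniteType f := locallyOfFiniteType_of_comp f X.hom
  have : LocallyOfFinitePresentation f := Groth.Agent.InfLift.lfp_of_lft f
  have : Nonempty X.left := inferInstance
  obtain ⟨U₀, hU₀, hflat, -⟩ := Groth.Agent.GenFree.exists_dense_flat_fp f
  obtain ⟨u, hu⟩ : (U₀ : Set X.left).Nonempty := hU₀.nonempty
  obtain ⟨g, hg⟩ := hsurj.surj u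
  have hf : Flat f := Groth.Agent.GrpAct.flat_orbitMap a x₀
    (g := g) (Groth.Agent.GrpAct.flat_stalkMap_of_restrict f U₀ g (hg ▸ hu))
  have hopen : IsOpenMap f := f.isOpenMap
  -- the fibre over the base point
  let p₀ := x₀.left (IsLocalRing.closedPoint k)
  have hpb : IsPullback i (toUnit H) α x₀ := by
    refine IsPullback.of_isLimit' ⟨(hH _ i).1 ⟨𝟙 H, Category.id_comp i⟩⟩ (Limits.PullbackCone.IsLimit.mk _
      (fun s => Classical.choose ((hH _ s.fst).2 (by rw [s.condition, toUnit_unique s.snd (toUnit _)])))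
      (fun s => Classical.choose_spec ((hH _ s.fst).2 (by rw [s.condition, toUnit_unique s.snd (toUnit _)])))
      (fun s => toUnit_unique _ _) fun s m h1 _ => ?_)
    rw [← cancel_mono i, h1]
    exact (Classical.choose_spec ((hH _ s.fst).2 (by rw [s.condition, toUnit_unique s.snd (toUnit _)]))).symm
  have hfib : f ⁻¹' {p₀} = Set.range i.left := by
    refine Set.Subset.antisymm (fun z hz => ?_) ?_
    · obtain ⟨w, hw, -⟩ := Scheme.exists_preimage_of_isPullback (hpb.map (Over.forget _)) z (IsLocalRing.closedPoint k) hz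
      exact ⟨w, hw⟩
    · rintro _ ⟨w, rfl⟩
      exact (congr($((hpb.map (Over.forget _)).w) w)).trans (Groth.Agent.Blanchard.pt_apply x₀ _)
  have : Nonempty G.left := ⟨(η[G] : 𝟙_ (Over S) ⟶ G).left (IsLocalRing.closedPoint k)⟩
  have : PreconnectedSpace G.left := by
    refine preconnectedSpace_iff_clopen.2 fun U hU => ?_
    by_contra hne
    rw [not_or] at hne
    obtain ⟨h1, h2⟩ := hne
    replace h1 := Set.nonempty_iff_ne_empty.2 h1
    replace h2 := Set.nonempty_compl.2 h2
    have hcov : Set.univ ⊆ f '' U ∪ f '' Uᶜ := by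
      rw [← Set.image_union, Set.union_compl_self, Set.image_univ, hsurj.surj.range_eq]
    obtain ⟨c, -, hc⟩ := isPreconnected_univ (α := X.left) _ _ (hopen _ hU.2) (hopen _ hU.compl.2) hcov
      (by simpa using h1) (by simpa using h2)
    obtain ⟨y, hy⟩ := Groth.Agent.Blanchard.exists_pt_mem (Z := X) (s := f '' U ∩ f '' Uᶜ)
      ((hopen _ hU.2).inter (hopen _ hU.compl.2)).isLocallyClosed ⟨c, hc⟩
    let t := IsLocalRing.closedPoint k
    obtain ⟨z₀, hz₀⟩ := hsurj.surj (y.left t)
    obtain ⟨σ, hσ⟩ := Groth.Agent.Blanchard.exists_pt_mem (Z := G) (s := f ⁻¹' {y.left t})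
      (((Groth.Agent.Blanchard.isClosed_pt y).preimage f.continuous).isLocallyClosed) ⟨z₀, hz₀⟩
    have hσy : σ ≫ α = y := Groth.Agent.Blanchard.pt_ext (hσ t)
    let e := Groth.Agent.GrpAct.ltrIso σ
    let e' := Groth.Agent.GrpAct.actIso a σ
    have hee : ∀ w, f (e.hom.left w) = e'.hom.left (f w) := fun w =>
      congr(($(Groth.Agent.GrpAct.ltrIso_orbitMap a σ x₀)).left w)
    have hp₀ : e'.hom.left p₀ = y.left t := by
      have : x₀ ≫ e'.hom = y := by
        rw [← hσy]
        simp [e', α, Groth.Agent.GrpAct.actIso, AlgGrp.Action.orbitMap, comp_lift_assoc, comp_toUnit_assoc,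
          toUnit_unique (toUnit (𝟙_ (Over S))) (𝟙 _)]
      exact congr(($this).left t)
    have hfibc : _root_.IsPreconnected (f ⁻¹' {y.left t}) := by
      have : f ⁻¹' {y.left t} = e.hom.left '' (f ⁻¹' {p₀}) := by
        refine Set.Subset.antisymm (fun w hw => ⟨e.inv.left w, ?_, congr(($(e.inv_hom_id)).left w)⟩) ?_
        · apply e'.hom.left.isOpenEmbedding.injective
          rw [← hee, hp₀]
          have : e.hom.left (e.inv.left w) = w := congr(($(e.inv_hom_id)).left w)
          rw [this]
          exact hw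
        · rintro _ ⟨w, hw, rfl⟩
          show f _ = _
          rw [hee, show f w = p₀ from hw, hp₀]
      rw [this, hfib]
      exact (isPreconnected_range i.left.continuous).image _ e.hom.left.continuous.continuousOn
    obtain ⟨⟨w₁, hw₁, e₁⟩, ⟨w₂, hw₂, e₂⟩⟩ := hy t
    exact hw₂ (hfibc.subset_isClopen hU ⟨w₁, e₁, hw₁⟩ e₂)
  exact ⟨inferInstance⟩

/-- Let k be an algebraically closed field, G a k-group scheme of finite type, and X a smooth connected
k-scheme with an action of G. Suppose that for some k-point x₀ of X the orbit map g ↦ g · x₀ from G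
to X is surjective, and that the stabilizer of x₀, a subgroup scheme H ⟶ G whose points are exactly
the points g of G with g · x₀ = x₀, is connected. Then G is connected. (Stated over an algebraically
closed field, to which the general case reduces since a k-group scheme of finite type is connected
exactly when it is geometrically connected.) -/
theorem result (k : Type u) [Field k] [IsAlgClosed k]
    (G X : Over (Spec (CommRingCat.of k))) [GrpObj G] [LocallyOfFiniteType G.hom] [QuasiCompact G.hom]
    [Smooth X.hom] [ConnectedSpace ↥X.left] (a : AlgGrp.Action G X) (x₀ : 𝟙_ (Over (Spec (CommRingCat.of k))) ⟶ X)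
    (hsurj : Surjective (a.orbitMap x₀).left)
    (H : Over (Spec (CommRingCat.of k))) [GrpObj H] (i : H ⟶ G) [IsMonHom i] [Mono i]
    (hH : ∀ (T : Over (Spec (CommRingCat.of k))) (g : T ⟶ G), (∃ h : T ⟶ H, h ≫ i = g) ↔ g ≫ a.orbitMap x₀ = toUnit T ≫ x₀)
    [ConnectedSpace ↥H.left] : ConnectedSpace ↥G.left := by
  exact main a x₀ hsurj i hH

end Groth.Agent.S15598
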