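import Groth.Statements.S15599
import Groth.Agent.UniRad.NonConn
-- import your own Groth.Agent.* helpers here

set_option autoImplicit false
set_option backward.isDefEq.respectTransparency false
set_option maxHeartbeats 1000000
set_option synthInstance.maxHeartbeats 200000
universe u
open CategoryTheory MonoidalCategory CartesianMonoidalCategory MonObj GrpObj AlgebraicGeometry
open AGF

set_option backward.isDefEq.respectTransparency false

namespace Groth.Agent.S15599
open Groth.Agent

/-- Let k be an algebraically closed field and G a smooth affine k-group scheme, not necessarily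
connected, whose unipotent radical is trivial: every smooth connected normal closed subgroup scheme
of G containing no non-trivial subtorus is trivial. Let N ⟶ G be a smooth closed normal subgroup
scheme, not necessarily connected. Then N has the same property: every smooth connected closed
subgroup scheme of N which is normal in N and contains no non-trivial subtorus is trivial.
Reductivity, in this sense allowing disconnected groups, passes to smooth normal subgroups. (The
published statement is over an arbitrary field, with reductivity defined after extension to an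
algebraic closure; this row is the algebraically closed case.) -/
theorem result (k : Type u) [Field k] [IsAlgClosed k]
    (G N : Over (Spec (CommRingCat.of k))) [GrpObj G] [GrpObj N] [IsAffine G.left] [Smooth G.hom]
    (j : N ⟶ G) [IsMonHom j] (hj : IsClosedImmersion j.left) [Smooth N.hom] (hN : AlgGrp.IsNormalHom j)
    (hG : ∀ (U : Over (Spec (CommRingCat.of k))) [GrpObj U] (i : U ⟶ G) [IsMonHom i], IsClosedImmersion i.left → Smooth U.hom →
        ConnectedSpace ↥U.left → AlgGrp.IsNormalHom i → Red.HasNoSubtorus k U → Red.IsTrivialGrp U) :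
    ∀ (U : Over (Spec (CommRingCat.of k))) [GrpObj U] (i : U ⟶ N) [IsMonHom i], IsClosedImmersion i.left → Smooth U.hom →
        ConnectedSpace ↥U.left → AlgGrp.IsNormalHom i → Red.HasNoSubtorus k U → Red.IsTrivialGrp U := by
  intro U _ i _ hic hUs hUc hUn hUt
  haveI := hj; haveI := hic; haveI := hUs; haveI := hUc
  obtain ⟨G₀, _, g₀, hg₀m, hg₀o, hg₀c, hG₀conn, -⟩ := RedOpen.exists_open_connected G
  haveI := hg₀m; haveI := hg₀o; haveI := hg₀c; haveI := hG₀conn
  obtain ⟨N₀, _, c, hcm, hco, hcc, hN₀conn, hN₀cp⟩ := RedOpen.exists_open_connected N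
  haveI := hcm; haveI := hco; haveI := hcc; haveI := hN₀conn
  haveI : Smooth N₀.hom := by rw [← Over.w c]; infer_instance
  haveI : Smooth G₀.hom := by rw [← Over.w g₀]; infer_instance
  haveI : Mono g₀ := Over.mono_of_mono_left g₀
  haveI : Mono c := Over.mono_of_mono_left c
  haveI : Mono j := GrpField.SchImg.mono_of_isClosedImmersion j
  haveI : IsClosedImmersion (c ≫ j).left := inferInstanceAs (IsClosedImmersion (c.left ≫ j.left))
  obtain ⟨n₀, hn₀, hn₀m⟩ := UniRad.exists_factor_conn_hom g₀ (c ≫ j)
  obtain ⟨u₀, hu₀, hu₀m⟩ := UniRad.exists_factor_conn_hom c i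
  haveI := hn₀m; haveI := hu₀m
  haveI : IsClosedImmersion n₀.left := by
    haveI : IsClosedImmersion (n₀.left ≫ g₀.left) := by rw [← Over.comp_left, hn₀]; infer_instance
    exact IsClosedImmersion.of_comp n₀.left g₀.left
  haveI : IsClosedImmersion u₀.left := by
    haveI : IsClosedImmersion (u₀.left ≫ c.left) := by rw [← Over.comp_left, hu₀]; infer_instance
    exact IsClosedImmersion.of_comp u₀.left c.left
  have hun : AlgGrp.IsNormalHom u₀ := UniRad.isNormalHom_of_comp u₀ c (by rw [hu₀]; exact hUn)
  have hnn : AlgGrp.IsNormalHom n₀ := by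
    obtain ⟨hc, hs, hred⟩ := UniRad.prod_conn G₀ N₀
    haveI := hc
    obtain ⟨m, hm⟩ := hN (G₀ ⊗ N₀) (fst G₀ N₀ ≫ g₀) (snd G₀ N₀ ≫ c)
    obtain ⟨t⟩ : Nonempty ↥(𝟙_ (Over (Spec (CommRingCat.of k)))).left := inferInstanceAs (Nonempty (PrimeSpectrum k))
    have h1 : lift η[G₀] η[N₀] ≫ m = η[N] := (cancel_mono j).1 (by
      rw [Category.assoc, ← hm, IsMonHom.one_hom j]
      simp only [MonObj.comp_mul, GrpObj.comp_inv, CartesianMonoidalCategory.lift_fst_assoc,
        CartesianMonoidalCategory.lift_snd_assoc, Category.assoc, IsMonHom.one_hom g₀]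
      rw [← Category.assoc η[N₀], IsMonHom.one_hom c, IsMonHom.one_hom j, MonObj.one_eq_one, _root_.one_mul,
        _root_.one_mul, inv_one])
    obtain ⟨m₀, hm₀⟩ := RedOpen.exists_factor_conn c m ⟨(lift η[G₀] η[N₀] : 𝟙_ _ ⟶ G₀ ⊗ N₀).left t, η[N₀].left t, by
      rw [← Scheme.Hom.comp_apply, ← Scheme.Hom.comp_apply, ← Over.comp_left, ← Over.comp_left, h1,
        IsMonHom.one_hom c]⟩
    intro X g z
    refine ⟨lift g z ≫ m₀, (cancel_mono g₀).1 ?_⟩
    have h2 := congrArg (lift g z ≫ ·) hm
    simp only [MonObj.comp_mul, GrpObj.comp_inv, CartesianMonoidalCategory.lift_fst_assoc,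
      CartesianMonoidalCategory.lift_snd_assoc, Category.assoc] at h2
    rw [MonObj.mul_comp, MonObj.mul_comp, GrpObj.inv_comp, Category.assoc, hn₀, h2, Category.assoc, Category.assoc, hn₀,
      reassoc_of% hm₀]
  obtain ⟨W, _, w, hw, hWc, hWt, hWn, hWcl, huniv⟩ := UniRad.exists_radical_of_open g₀
  haveI := hw.1; haveI := hw.2.2.2.1
  obtain ⟨f, hf⟩ := huniv N₀ n₀ inferInstance inferInstance inferInstance hnn U u₀ inferInstance inferInstance inferInstance hun hUt
  have hW : Red.IsTrivialGrp W := hG W (w ≫ g₀) hWcl inferInstance hWc hWn hWt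
  haveI : IsClosedImmersion (u₀ ≫ n₀).left := inferInstanceAs (IsClosedImmersion (u₀.left ≫ n₀.left))
  haveI : Mono (f ≫ w) := by rw [hf]; exact GrpField.SchImg.mono_of_isClosedImmersion _
  haveI : Mono f := mono_of_mono f w
  exact UniRad.isTrivialGrp_of_mono f hW

end Groth.Agent.S15599
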