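import Groth.Statements.S15605
import Mathlib

set_option autoImplicit false
universe u
open TensorProduct
open AGF

namespace Groth.Agent.S15605

/-- Affine form. Let k be a field, A and A' finitely generated commutative k-algebras and S, S' sets of
k-algebra homomorphisms A → k, A' → k. The closure of a set of rational points of Spec A is cut out
by the intersection of their kernels. Compatibility of these closures with products: in A ⊗_k A',
the intersection over (σ, σ') ∈ S × S' of the kernels of σ ⊗ σ' : A ⊗_k A' → k equals the ideal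
generated by the images of ⋂_{σ} ker σ and of ⋂_{σ'} ker σ'. -/
theorem result (k A A' : Type u) [Field k] [CommRing A] [Algebra k A]
    [Algebra.FiniteType k A] [CommRing A'] [Algebra k A'] [Algebra.FiniteType k A']
    (S : Set (A →ₐ[k] k)) (S' : Set (A' →ₐ[k] k)) :
    (⨅ σ ∈ S, ⨅ σ' ∈ S', RingHom.ker ((Algebra.TensorProduct.lmul' (S := k) k).comp
        (Algebra.TensorProduct.map σ σ'))) =
      Ideal.map (Algebra.TensorProduct.includeLeft : A →ₐ[k] A ⊗[k] A') (⨅ σ ∈ S, RingHom.ker σ) ⊔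
        Ideal.map (Algebra.TensorProduct.includeRight : A' →ₐ[k] A ⊗[k] A') (⨅ σ' ∈ S', RingHom.ker σ') := by
  classical
  let I : Ideal A := ⨅ σ ∈ S, RingHom.ker σ
  let J : Ideal A' := ⨅ σ' ∈ S', RingHom.ker σ'
  let π := Ideal.Quotient.mkₐ k I
  let π' := Ideal.Quotient.mkₐ k J
  have hk : RingHom.ker (Algebra.TensorProduct.map π π') =
      Ideal.map (Algebra.TensorProduct.includeLeft : A →ₐ[k] A ⊗[k] A') I ⊔
        Ideal.map (Algebra.TensorProduct.includeRight : A' →ₐ[k] A ⊗[k] A') J := by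
    rw [Algebra.TensorProduct.map_ker π π' Ideal.Quotient.mk_surjective Ideal.Quotient.mk_surjective]
    congr 2 <;> exact Ideal.mk_ker
  show _ = Ideal.map _ I ⊔ Ideal.map _ J
  rw [← hk]
  have lift : ∀ σ ∈ S, ∃ s : (A ⧸ I) →ₐ[k] k, s.comp π = σ := fun σ hσ =>
    ⟨Ideal.Quotient.liftₐ I σ fun a ha => (Submodule.mem_iInf _).1 ((Submodule.mem_iInf _).1 ha σ) hσ, rfl⟩
  have lift' : ∀ σ ∈ S', ∃ s : (A' ⧸ J) →ₐ[k] k, s.comp π' = σ := fun σ hσ =>
    ⟨Ideal.Quotient.liftₐ J σ fun a ha => (Submodule.mem_iInf _).1 ((Submodule.mem_iInf _).1 ha σ) hσ, rfl⟩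
  ext x
  simp only [Submodule.mem_iInf, RingHom.mem_ker]
  have hfac : ∀ (s : (A ⧸ I) →ₐ[k] k) (s' : (A' ⧸ J) →ₐ[k] k),
      ((Algebra.TensorProduct.lmul' (S := k) k).comp (Algebra.TensorProduct.map (s.comp π) (s'.comp π'))) x =
        (Algebra.TensorProduct.lmul' (S := k) k) (Algebra.TensorProduct.map s s' (Algebra.TensorProduct.map π π' x)) := by
    intro s s'
    rw [Algebra.TensorProduct.map_comp]; rfl
  constructor
  · intro hx
    let b := Module.Basis.ofVectorSpace k (A' ⧸ J)
    set y := Algebra.TensorProduct.map π π' x with hy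
    have h0 : ∀ σ ∈ S, ∀ σ' ∈ S', ∀ s : (A ⧸ I) →ₐ[k] k, ∀ s' : (A' ⧸ J) →ₐ[k] k, s.comp π = σ → s'.comp π' = σ' →
        Algebra.TensorProduct.lmul' (S := k) k (Algebra.TensorProduct.map s s' y) = 0 := by
      intro σ hσ σ' hσ' s s' e e'
      rw [hy, ← hfac, e, e']; exact hx σ hσ σ' hσ'
    let c := TensorProduct.equivFinsuppOfBasisRight (R := k) (M := A ⧸ I) b y
    have hyc : y = c.sum fun i m => m ⊗ₜ[k] b i := by
      rw [← TensorProduct.equivFinsuppOfBasisRight_symm_apply, LinearEquiv.symm_apply_apply]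
    suffices hc : ∀ i, c i = 0 by
      rw [hyc, show c = 0 from Finsupp.ext hc, Finsupp.sum_zero_index]
    intro i
    obtain ⟨a, ha⟩ := Ideal.Quotient.mk_surjective (c i)
    rw [← ha, Ideal.Quotient.eq_zero_iff_mem]
    simp only [I, Submodule.mem_iInf, RingHom.mem_ker]
    intro σ hσ
    obtain ⟨s, hs⟩ := lift σ hσ
    let w : A' ⧸ J := c.sum fun j m => s m • b j
    have hw : w = 0 := by
      obtain ⟨a', ha'⟩ := Ideal.Quotient.mk_surjective w
      rw [← ha', Ideal.Quotient.eq_zero_iff_mem]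
      simp only [J, Submodule.mem_iInf, RingHom.mem_ker]
      intro σ' hσ'
      obtain ⟨s', hs'⟩ := lift' σ' hσ'
      have h := h0 σ hσ σ' hσ' s s' hs hs'
      rw [hyc, map_finsuppSum, map_finsuppSum] at h
      rw [← hs']
      show s' (Ideal.Quotient.mk J a') = 0
      rw [ha', map_finsuppSum]
      simp only [map_smul, Algebra.TensorProduct.map_tmul, Algebra.TensorProduct.lmul'_apply_tmul] at h ⊢
      exact h
    have h1 := congrArg (fun v => b.repr v i) hw
    simp only [w, Finsupp.sum, map_sum, map_smul, Module.Basis.repr_self, Finsupp.smul_single, smul_eq_mul, mul_one,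
      Finsupp.finsetSum_apply, Finsupp.single_apply, map_zero, Finsupp.zero_apply, Finset.sum_ite_eq',
      Finsupp.mem_support_iff] at h1
    rw [← hs]
    show s (Ideal.Quotient.mk I a) = 0
    rw [ha]
    by_cases hc : c i = 0
    · simp [hc]
    · simpa [hc] using h1
  · intro hx σ hσ σ' hσ'
    obtain ⟨s, rfl⟩ := lift σ hσ
    obtain ⟨s', rfl⟩ := lift' σ' hσ'
    rw [hfac, hx, map_zero, map_zero]

end Groth.Agent.S15605
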