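import Groth.Statements.S15606
import Groth.Agent.Chev.BackIsogeny
import Groth.Agent.Chev.FrobTwist
import Groth.Agent.S15180

set_option autoImplicit false
universe u
open CategoryTheory MonoidalCategory CartesianMonoidalCategory MonObj GrpObj AlgebraicGeometry
open AlgGrp

namespace Groth.Agent.S15606

open CategoryTheory.Limits
open scoped CategoryTheory.Obj

set_option backward.isDefEq.respectTransparency false

/-- The target of an isogeny from a group all whose finite quotients are isomorphic to itself. -/
theorem iso_of_isogeny {k : Type u} [Field k] {G : Over (Spec (CommRingCat.of k))} [GrpObj G]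
    (hQ : ∀ (N : Over (Spec (CommRingCat.of k))) [GrpObj N] (n : N ⟶ G) [IsMonHom n] [Mono n] [IsFinite N.hom],
      ∃ φ : G ⟶ G, IsMonHom φ ∧ AlgGrp.IsKernel n φ ∧ Flat φ.left ∧ Surjective φ.left)
    (H : Over (Spec (CommRingCat.of k))) [GrpObj H] [IsAffine H.left] [Smooth H.hom]
    (f : G ⟶ H) [IsMonHom f] [IsFinite f.left] [Surjective f.left] :
    Nonempty (Grp.mk H ≅ Grp.mk G) := by
  haveI : LocallyOfFiniteType H.hom := inferInstance
  haveI : QuasiCompact H.hom := inferInstance
  haveI : LocallyOfFiniteType G.hom := by rw [← Over.w f]; infer_instance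
  haveI : QuasiCompact G.hom := by rw [← Over.w f]; infer_instance
  haveI : IsSeparated H.hom := inferInstance
  haveI : IsSeparated G.hom := by rw [← Over.w f]; infer_instance
  obtain ⟨N, hN, n, hnm, hnc, -, hnk⟩ := Groth.Agent.AdjRep.exists_kernel f
  haveI := hnm; haveI := hnc
  haveI : IsFinite N.hom := by
    have h : IsPullback n.left (toUnit N).left f.left η[H].left := hnk.map (Over.forget _)
    haveI : IsFinite (toUnit N).left := MorphismProperty.of_isPullback (P := @IsFinite) h inferInstance
    rw [← Over.w (toUnit N)]
    haveI : IsIso (𝟙_ (Over (Spec (CommRingCat.of k)))).hom := inferInstanceAs (IsIso (𝟙 _))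
    infer_instance
  haveI : Mono n := GrpField.SchImg.mono_of_isClosedImmersion n
  obtain ⟨φ, hφm, hφk, hφf, hφs⟩ := hQ N n
  haveI := hφm; haveI := hφf; haveI := hφs
  haveI : IsReduced H.left := Chev.isReduced_of_smooth' H
  haveI : Flat f.left := GrpField.flat_of_surjective_reduced f
  haveI : IsLocallyNoetherian G.left := LocallyOfFiniteType.isLocallyNoetherian G.hom
  haveI : IsLocallyNoetherian H.left := LocallyOfFiniteType.isLocallyNoetherian H.hom
  haveI : LocallyOfFinitePresentation f.left := inferInstance
  haveI : QuasiCompact φ.left := by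
    haveI : QuasiCompact (φ.left ≫ G.hom) := by rw [Over.w]; infer_instance
    exact QuasiCompact.of_comp _ G.hom
  haveI : LocallyOfFinitePresentation φ.left := by
    haveI : LocallyOfFiniteType (φ.left ≫ G.hom) := by rw [Over.w]; infer_instance
    haveI : LocallyOfFiniteType φ.left := locallyOfFiniteType_of_comp φ.left G.hom
    infer_instance
  obtain ⟨d, hd⟩ := Groth.Agent.AdjRep.exists_desc n f hnk φ (by rw [hφk.w, ← Hom.one_def])
  obtain ⟨e, he⟩ := Groth.Agent.AdjRep.exists_desc n φ hφk f (by rw [hnk.w, ← Hom.one_def])
  haveI : Epi f := AVQuot.epi_of_covering f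
  haveI : Epi φ := AVQuot.epi_of_covering φ
  haveI : IsMonHom (f ≫ d) := by rw [hd]; infer_instance
  haveI := Chev.isMonHom_desc f d
  let E : H ≅ G :=
    { hom := d, inv := e
      hom_inv_id := by rw [← cancel_epi f, ← Category.assoc, hd, he, Category.comp_id]
      inv_hom_id := by rw [← cancel_epi φ, ← Category.assoc, he, hd, Category.comp_id] }
  haveI : IsMonHom E.hom := ‹IsMonHom d›
  exact ⟨Grp.mkIso' E⟩


/-- Additive case. Let k be a field, H an affine smooth connected k-group scheme, and f a homomorphism
from the additive group over k to H which is finite and surjective (an isogeny onto H). Then H is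
isomorphic, as a k-group scheme, to the additive group. In particular every quotient of the additive
group by a finite k-subgroup scheme is isomorphic to the additive group over k itself, for any field
k. -/
theorem result (k : Type u) [Field k]
    (H : Over (Spec (CommRingCat.of k))) [GrpObj H] [IsAffine H.left] [Smooth H.hom] [ConnectedSpace ↥H.left]
    (f : Red.Ga (Spec (CommRingCat.of k)) ⟶ H) [IsMonHom f] [IsFinite f.left] [Surjective f.left] :
    Nonempty (Grp.mk H ≅ Grp.mk (Red.Ga (Spec (CommRingCat.of k)))) := by
  exact iso_of_isogeny (fun N _ n _ _ _ => Groth.Agent.S15180.result k _ N (Or.inl ⟨Iso.refl _⟩) n) H f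

end Groth.Agent.S15606
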