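import Groth.Statements.S15617
import Mathlib
-- import your own Groth.Agent.* helpers here

set_option autoImplicit false
universe u
open SchFin SchFin.OMod


namespace Groth.Agent.S15617

open SchFin TensorProduct

/-- change of the ring of sections along an isomorphism -/
lemma isBCAlong_transfer {R R' S M M' N : Type u} [CommRing R] [CommRing R'] [CommRing S]
    [AddCommGroup M] [AddCommGroup M'] [AddCommGroup N] [Module R M] [Module R' M'] [Module S N]
    (e : R' ≃+* R) (h : M' ≃+ M) (hh : ∀ r m, h (r • m) = e r • h m)
    (g : R →+* S) (g' : R' →+* S) (hg : ∀ r, g' r = g (e r))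
    (f : M →ₛₗ[g] N) (f' : M' →ₛₗ[g'] N) (hf : ∀ m, f' m = f (h m))
    (H : IsBCAlong g' f') : IsBCAlong g f := by
  letI : Algebra R S := g.toAlgebra
  letI : Module R N := Module.compHom N g
  haveI : IsScalarTower R S N := IsScalarTower.of_algebraMap_smul fun _ _ => rfl
  letI : Algebra R' S := g'.toAlgebra
  letI : Module R' N := Module.compHom N g'
  haveI : IsScalarTower R' S N := IsScalarTower.of_algebraMap_smul fun _ _ => rfl
  have H' : IsBaseChange S
      ({ toFun := f', map_add' := f'.map_add, map_smul' := f'.map_smulₛₗ } : M' →ₗ[R'] N) := H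
  apply IsBaseChange.of_lift_unique
  intro Q _ _ _ _ ψ
  letI : Module R' Q := Module.compHom Q g'
  haveI : IsScalarTower R' S Q := IsScalarTower.of_algebraMap_smul fun _ _ => rfl
  let ψ' : M' →ₗ[R'] Q :=
    { toFun := fun m => ψ (h m)
      map_add' := fun a b => by rw [map_add, map_add]
      map_smul' := fun r m => by
        show ψ (h (r • m)) = g' r • ψ (h m)
        rw [hh, map_smul, hg]
        exact (algebraMap_smul S (e r) _).symm }
  refine ⟨H'.lift ψ', LinearMap.ext fun m => ?_, fun L hL => ?_⟩
  · have := H'.lift_eq ψ' (h.symm m)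
    show H'.lift ψ' (f m) = ψ m
    have e1 : f' (h.symm m) = f m := by rw [hf, h.apply_symm_apply]
    rw [← e1]
    exact this.trans (congrArg ψ (h.apply_symm_apply m))
  · apply H'.algHom_ext
    intro m
    rw [H'.lift_eq ψ' m]
    show L (f' m) = ψ (h m)
    rw [hf]
    exact LinearMap.congr_fun hL (h m)

/-- descent of bijectivity along a finite faithfully flat family -/
lemma bijective_of_pi {S : Type u} [CommRing S] {ι : Type u} [Finite ι] (O : ι → Type u)
    [∀ i, CommRing (O i)] [∀ i, Algebra S (O i)] [Module.FaithfullyFlat S (∀ i, O i)]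
    {M N : Type u} [AddCommGroup M] [AddCommGroup N] [Module S M] [Module S N] (β : M →ₗ[S] N)
    (h : ∀ i, Function.Bijective (β.lTensor (O i))) : Function.Bijective β := by
  classical
  cases nonempty_fintype ι
  rw [← Module.FaithfullyFlat.lTensor_bijective_iff_bijective S (∀ i, O i) β]
  have h' : ∀ i, Function.Bijective (β.rTensor (O i)) := fun i => by
    rw [← LinearMap.comm_comp_lTensor_comp_comm_eq]
    exact (TensorProduct.comm S _ _).bijective.comp ((h i).comp (TensorProduct.comm S _ _).bijective)
  have hr : Function.Bijective (β.rTensor (∀ i, O i)) := by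
    have e : (TensorProduct.piRight S S N O).toLinearMap ∘ₗ β.rTensor (∀ i, O i) =
        (LinearMap.pi fun i => β.rTensor (O i) ∘ₗ LinearMap.proj i) ∘ₗ
          (TensorProduct.piRight S S M O).toLinearMap := by
      apply TensorProduct.ext'
      intro m f
      funext i
      simp
    have hp : Function.Bijective (LinearMap.pi fun i => β.rTensor (O i) ∘ₗ LinearMap.proj i :
        (∀ i, M ⊗[S] O i) →ₗ[S] ∀ i, N ⊗[S] O i) := Function.Bijective.piMap h'
    have := hp.comp (TensorProduct.piRight S S M O).bijective
    rw [← LinearEquiv.coe_coe, ← LinearMap.coe_comp, ← e, LinearMap.coe_comp,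
      LinearEquiv.coe_coe] at this
    exact (Function.Bijective.of_comp_iff' (TensorProduct.piRight S S N O).bijective _).mp this
  rw [← LinearMap.comm_comp_rTensor_comp_comm_eq]
  exact (TensorProduct.comm S _ _).bijective.comp (hr.comp (TensorProduct.comm S _ _).bijective)

end Groth.Agent.S15617

namespace Groth.Agent.S15617

open SchFin in
/-- Let X be a finite space (Noetherian rings and flat restriction maps), x a point, U an up-closed
subset of the minimal open set of x which is affine, and M a quasi-coherent module. Then restriction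
from the value of M at x to the sections of M over U exhibits the module of sections over U as the
base change of the value at x along the ring map from the ring of x to the ring of sections over U.
(The published statement does not carry the hypothesis that the product of the rings of the points
of U is faithfully flat over the ring of sections over U; this holds for every affine finite space
by a result the published proof uses and recalls without proof, and this row carries it explicitly.) -/
theorem result (X : RSpace.{u}) (hX : X.IsFinSp) (x : X.pt) (U : Set X.pt)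
    (hU : U ⊆ X.up x) (hU' : IsUpperSet U) (hUa : (X.restrict U).IsAffine)
    (hff : Module.FaithfullyFlat (X.sectRing U) ((q : ↥U) → X.ring q.1)) (M : OMod X) (hM : M.IsQcoh) :
    IsBCAlong (X.resSect x U hU) (M.resSect x U hU) := by
  haveI : Finite ↥U := inferInstance
  letI iA : Algebra (X.ring x) (X.sectRing U) := (X.resSect x U hU).toAlgebra
  letI iN : Module (X.ring x) (M.sect U) := Module.compHom _ (X.resSect x U hU)
  haveI : IsScalarTower (X.ring x) (X.sectRing U) (M.sect U) :=
    IsScalarTower.of_algebraMap_smul fun _ _ => rfl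
  let f : M.carrier x →ₗ[X.ring x] M.sect U :=
    { toFun := M.resSect x U hU
      map_add' := (M.resSect x U hU).map_add
      map_smul' := (M.resSect x U hU).map_smulₛₗ }
  show IsBaseChange (X.sectRing U) f
  letI iO : ∀ q : U, Algebra (X.sectRing U) (X.ring q.1) := fun q => (X.evalRing U q).toAlgebra
  haveI : Module.FaithfullyFlat (X.sectRing U) ((q : ↥U) → X.ring q.1) := hff
  let β := f.liftBaseChange (X.sectRing U)
  have hβ : Function.Bijective β := by
    refine bijective_of_pi (fun q : U => X.ring q.1) β fun q => ?_
    letI : Algebra (X.ring x) (X.ring q.1) := (X.res (hU q.2)).toAlgebra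
    haveI : IsScalarTower (X.ring x) (X.sectRing U) (X.ring q.1) :=
      IsScalarTower.of_algebraMap_eq fun a => rfl
    letI : Module (X.sectRing U) (M.carrier q.1) := Module.compHom _ (X.evalRing U q)
    haveI : IsScalarTower (X.sectRing U) (X.ring q.1) (M.carrier q.1) :=
      IsScalarTower.of_algebraMap_smul fun _ _ => rfl
    letI : Module (X.ring x) (M.carrier q.1) := Module.compHom _ (X.res (hU q.2))
    haveI : IsScalarTower (X.ring x) (X.ring q.1) (M.carrier q.1) :=
      IsScalarTower.of_algebraMap_smul fun _ _ => rfl
    haveI : IsScalarTower (X.ring x) (X.sectRing U) (M.carrier q.1) :=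
      IsScalarTower.of_algebraMap_smul fun _ _ => rfl
    let g : M.sect U →ₗ[X.sectRing U] M.carrier q.1 :=
      { toFun := M.evalMod U q
        map_add' := (M.evalMod U q).map_add
        map_smul' := (M.evalMod U q).map_smulₛₗ }
    let er : (X.restrict U).sectRing Set.univ ≃+* X.sectRing U :=
      { toFun := fun s => ⟨fun p => s.1 ⟨p, trivial⟩, fun p p' h => s.2 ⟨p, trivial⟩ ⟨p', trivial⟩ h⟩
        invFun := fun s => ⟨fun p => s.1 p.1, fun p p' h => s.2 p.1 p'.1 h⟩
        left_inv := fun _ => rfl
        right_inv := fun _ => rfl
        map_mul' := fun _ _ => rfl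
        map_add' := fun _ _ => rfl }
    let eh : (M.restrict U).sect Set.univ ≃+ M.sect U :=
      { toFun := fun s => ⟨fun p => s.1 ⟨p, trivial⟩, fun p p' h => s.2 ⟨p, trivial⟩ ⟨p', trivial⟩ h⟩
        invFun := fun s => ⟨fun p => s.1 p.1, fun p p' h => s.2 p.1 p'.1 h⟩
        left_inv := fun _ => rfl
        right_inv := fun _ => rfl
        map_add' := fun _ _ => rfl }
    have hMU : (M.restrict U).IsQcoh := fun p p' h => hM p.1 p'.1 h
    have hbc : IsBCAlong (X.evalRing U q) (M.evalMod U q) :=
      isBCAlong_transfer er eh (fun _ _ => rfl) _ _ (fun _ => rfl) _ _ (fun _ => rfl)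
        (hUa.2.2.1 (M.restrict U) hMU q)
    have hg : IsBaseChange (X.ring q.1) g := hbc
    have hfg : IsBaseChange (X.ring q.1) ((g : M.sect U →ₗ[X.ring x] M.carrier q.1) ∘ₗ f) :=
      hM x q.1 (hU q.2)
    have hmk := TensorProduct.isBaseChange (X.ring x) (M.carrier x) (X.sectRing U)
    have hgβ : IsBaseChange (X.ring q.1) (g ∘ₗ β) := by
      refine IsBaseChange.of_comp hmk ?_
      convert hfg using 1
      refine LinearMap.ext fun m => ?_
      show g (β (1 ⊗ₜ[X.ring x] m)) = g (f m)
      rw [LinearMap.liftBaseChange_tmul, one_smul]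
    have e : ∀ z, hg.equiv (β.lTensor (X.ring q.1) z) = hgβ.equiv z := by
      intro z
      induction z using TensorProduct.induction_on with
      | zero => simp
      | tmul a b => rw [LinearMap.lTensor_tmul, IsBaseChange.equiv_tmul, IsBaseChange.equiv_tmul]; rfl
      | add a b ha hb => simp only [map_add, ha, hb]
    have := hgβ.equiv.bijective
    rw [show ⇑hgβ.equiv = ⇑hg.equiv ∘ ⇑(β.lTensor (X.ring q.1)) from funext fun z => (e z).symm] at this
    exact (Function.Bijective.of_comp_iff' hg.equiv.bijective _).mp this
  exact IsBaseChange.of_equiv (LinearEquiv.ofBijective β hβ) fun m => by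
    show β (1 ⊗ₜ[X.ring x] m) = f m
    rw [LinearMap.liftBaseChange_tmul, one_smul]

end Groth.Agent.S15617
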