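import Groth.Statements.S15619
import Groth.Agent.SchFinB.SectMap
-- import your own Groth.Agent.* helpers here

set_option autoImplicit false
universe u
open SchFin SchFin.Alg

namespace Groth.Agent.S15619

open SchFin in
/-- Let X be a schematic finite space, A a quasi-coherent algebra on X and U an affine up-closed set of
points. Then the value of A at every point of U is faithfully flat over the ring of that point if
and only if the ring of sections of A over U is faithfully flat over the ring of sections of the
rings over U, through the natural ring map. (The published statement ranges over affine open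
subsets; this row states the criterion for one affine up-closed subset and carries explicitly the
hypotheses that the product of the rings of the points of U is faithfully flat over the ring of
sections of the rings over U, and likewise for the algebra; these hold for every affine open subset
and every quasi-coherent algebra by results the published proof uses and recalls without proof.) -/
theorem result (X : RSpace.{u}) (hX : X.IsSchematic) (A : Alg X)
    (hA : A.IsQcoh)
    (U : Set X.pt) (hU' : IsUpperSet U) (hUa : (X.restrict U).IsAffine)
    (hφ : Module.FaithfullyFlat (X.sectRing U) ((q : ↥U) → X.ring q.1))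
    (hψ : (A.total.sectRing U).subtype.FaithfullyFlat) :
    (∀ q : X.pt, q ∈ U → Module.FaithfullyFlat (X.ring q) (A.carrier q)) ↔ (A.sectMap U).FaithfullyFlat := by
  letI : Algebra (X.sectRing U) (A.total.sectRing U) := (A.sectMap U).toAlgebra
  letI : ∀ q : U, Algebra (X.sectRing U) (X.ring q.1) := fun q => (X.evalRing U q).toAlgebra
  letI : ∀ q : U, Algebra (X.sectRing U) (A.carrier q.1) :=
    fun q => ((algebraMap (X.ring q.1) (A.carrier q.1)).comp (X.evalRing U q)).toAlgebra
  haveI : ∀ q : U, IsScalarTower (X.sectRing U) (X.ring q.1) (A.carrier q.1) :=
    fun _ => IsScalarTower.of_algebraMap_eq fun _ => rfl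
  haveI : Module.FaithfullyFlat (X.sectRing U) ((q : ↥U) → X.ring q.1) := hφ
  obtain ⟨ev, hev⟩ := Groth.Agent.SchFinB.SectMap.main A hA hUa
  constructor
  · intro h
    haveI : ∀ q : U, Module.FaithfullyFlat (X.ring q.1) (A.carrier q.1) := fun q => h q.1 q.2
    exact Groth.Agent.SchFinB.SectMap.faithfullyFlat_of_pt hev
  · intro h q hq
    haveI : Module.FaithfullyFlat (X.sectRing U) (A.total.sectRing U) := h
    exact Groth.Agent.SchFinB.SectMap.faithfullyFlat_pt hev ⟨q, hq⟩

end Groth.Agent.S15619
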