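import Groth.Statements.S15645
import Groth.Agent.NodeFib.Model
-- import your own Groth.Agent.* helpers here

set_option autoImplicit false
set_option backward.isDefEq.respectTransparency false
set_option backward.isDefEq.respectTransparency.types false
set_option maxHeartbeats 1000000
universe u
open StrictSS

namespace Groth.Agent.S15645

open CategoryTheory CategoryTheory.Limits AlgebraicGeometry in
/-- A strictly semistable multipointed curve (C, D) over a scheme S is semistable. Here (C, D) is a
multipointed S-curve (C flat, finitely presented and of pure relative dimension one over S; D a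
closed subscheme of C, flat, finitely presented and of relative dimension zero over S) every point
of which has an open neighbourhood U, over an affine open Spec A of S, with an etale morphism of
pairs from (U, D ∩ U) to the line model (Spec A[T], zero section) or, when no marked point lies in
U, an etale morphism from U to a node model Spec A[u, v]/(uv - a); the conclusion is that C → S is
an at-worst-nodal family of curves, D → S is etale and D misses the non-smooth locus of C → S. (The
published remark concerns curves over the spectrum of a valuation ring; the notion and the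
implication are local on the base, and this row states the implication over an arbitrary base
scheme.) -/
theorem result
    {C D S : Scheme.{u}} (φ : C ⟶ S) (i : D ⟶ C) (h : StrictSS.IsStrictlySemistable φ i) :
    SSMod.IsSemistable φ i := by
  obtain ⟨hmp, hch⟩ := h
  have hmp' := hmp
  obtain ⟨hflat, hlfp, -, -, -, hcl, hflatD, hlfpD, -⟩ := hmp'
  haveI := hlfp
  haveI := hflat
  refine ⟨hmp, (NodeFib.isNodalFamily_iff φ).2 ⟨inferInstance, inferInstance, fun x => ?_⟩, ?_, ?_⟩
  · rcases hch x with ⟨A, j, hj, U, hxU, q, hq, f, fD, hf, hfq, -, -⟩ | ⟨A, j, hj, U, hxU, q, hq, a, f, hf, hfq, -⟩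
    · haveI := hf
      haveI := hj
      haveI : Algebra.FinitePresentation A (Polynomial A) := inferInstance
      haveI : LocallyOfFinitePresentation (StrictSS.lineToBase A) :=
        (HasRingHomProperty.Spec_iff (P := @LocallyOfFinitePresentation)).mpr
          (RingHom.finitePresentation_algebraMap.mpr inferInstance :
            (algebraMap A (Polynomial A)).FinitePresentation)
      haveI : LocallyOfFinitePresentation q := by rw [← hfq]; infer_instance
      refine (NodeFib.good_openImmersion_comp U φ ⟨x, hxU⟩).1 ?_
      simp only [hq]
      rw [NodeFib.good_comp_etale]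
      simp only [← hfq]
      rw [NodeFib.good_etale_comp]
      exact NodeFib.good_lineToBase _
    · haveI := hf
      haveI := hj
      haveI : Algebra.FinitePresentation A (StrictSS.NodeAlg A a) :=
        Algebra.FinitePresentation.quotient (Submodule.fg_span_singleton _)
      haveI : LocallyOfFinitePresentation (StrictSS.nodeToBase A a) :=
        (HasRingHomProperty.Spec_iff (P := @LocallyOfFinitePresentation)).mpr
          (RingHom.finitePresentation_algebraMap.mpr inferInstance)
      haveI : LocallyOfFinitePresentation q := by rw [← hfq]; infer_instance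
      refine (NodeFib.good_openImmersion_comp U φ ⟨x, hxU⟩).1 ?_
      simp only [hq]
      rw [NodeFib.good_comp_etale]
      simp only [← hfq]
      rw [NodeFib.good_etale_comp]
      exact NodeFib.good_nodeToBase a _
  · -- the marked subscheme is étale
    have hloc : ∀ d : D, ∃ U : D.Opens, d ∈ U ∧ Etale (U.ι ≫ i ≫ φ) := fun d => by
      rcases hch (i d) with ⟨A, j, hj, U, hxU, q, hq, f, fD, hf, hfq, hfD, hsq⟩ | ⟨A, j, hj, U, hxU, q, hq, a, f, hf, hfq, hdis⟩
      · haveI := hj
        haveI := hfD
        refine ⟨i ⁻¹ᵁ U, hxU, ?_⟩
        have e : (i ⁻¹ᵁ U).ι ≫ i ≫ φ = fD ≫ j := by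
          have hz : StrictSS.lineZero A ≫ StrictSS.lineToBase A = 𝟙 _ := by
            rw [← Spec.map_comp, ← CommRingCat.ofHom_comp,
              show (Polynomial.evalRingHom (0 : A)).comp (Polynomial.C : A →+* Polynomial A) = RingHom.id A from
                RingHom.ext fun r => Polynomial.eval_C]
            exact Spec.map_id _
          rw [← morphismRestrict_ι_assoc, hq, ← hfq, Category.assoc, ← Category.assoc (i ∣_ U) f, ← hsq]
          simp only [Category.assoc, reassoc_of% hz]
        rw [e]
        infer_instance
      · exact absurd hxU (Set.disjoint_left.1 hdis ⟨d, rfl⟩)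
    choose U hU hUe using hloc
    exact IsZariskiLocalAtSource.of_iSup_eq_top U
      (eq_top_iff.2 fun d _ => TopologicalSpace.Opens.mem_iSup.2 ⟨d, hU d⟩) hUe
  · rw [Set.disjoint_left]
    rintro _ ⟨d, rfl⟩ hns
    rcases hch (i d) with ⟨A, j, hj, U, hxU, q, hq, f, fD, hf, hfq, -, -⟩ | ⟨A, j, hj, U, hxU, q, hq, a, f, hf, hfq, hdis⟩
    · haveI := hj
      haveI := hf
      haveI : Smooth (StrictSS.lineToBase A) :=
        (HasRingHomProperty.Spec_iff (P := @Smooth)).mpr
          (RingHom.smooth_algebraMap.mpr ⟨inferInstance, inferInstance⟩ : (algebraMap A (Polynomial A)).Smooth)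
      haveI : Smooth (U.ι ≫ φ) := by rw [hq, ← hfq]; infer_instance
      exact hns (SmDesc.mem_smoothLocus_of_smooth_ι φ (U := U) hxU)
    · exact absurd hxU (Set.disjoint_left.1 hdis ⟨d, rfl⟩)

end Groth.Agent.S15645
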