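import Groth.Statements.S15649
import Groth.Agent.S0558
import Groth.Agent.S2258
import Groth.Agent.SmLocalST.SmoothField
import Groth.Agent.AlgSpLib.Reduced
import Groth.Agent.GrpField.SchImgSmooth
import Groth.Agent.DvrDom.ClosedProper

set_option backward.isDefEq.respectTransparency false
set_option backward.isDefEq.respectTransparency.types false
set_option linter.style.haveILetI false
set_option maxHeartbeats 800000

set_option autoImplicit false
universe u
open StrictSS

namespace Groth.Agent.S15649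

open CategoryTheory CategoryTheory.Limits AlgebraicGeometry

/-- schemes smooth over a field are locally irreducible -/
theorem exists_irreducible_nhd {k : Type u} [Field k] {F : Scheme.{u}}
    (q : F ⟶ Spec (CommRingCat.of k)) [Smooth q] (z : F) :
    ∃ W : F.Opens, z ∈ W ∧ IsIrreducible (W : Set F) := by
  haveI : IsLocallyNoetherian F := LocallyOfFiniteType.isLocallyNoetherian q
  haveI := SmLocalST.isRegularLocalRing_stalk_of_smooth_field q z
  haveI : IsDomain (F.presheaf.stalk z) := Groth.Agent.S0558.result _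
  exact Groth.Agent.S2258.result F z (by rw [nilradical_eq_zero]; exact Ideal.isPrime_bot)

/-- around a point where a component lies in a smooth closed subscheme of a neighbourhood, it is the whole of it -/
theorem exists_local_model {k : Type u} [Field k] {C T : Scheme.{u}} (φ : C ⟶ Spec (CommRingCat.of k)) (V : C.Opens)
    (c : T ⟶ V) [IsClosedImmersion c] [Smooth (c ≫ V.ι ≫ φ)] {Z : Set C} (hZ : Z ∈ irreducibleComponents (C : Type u))
    {x : C} (hxV : x ∈ V) (hxZ : x ∈ Z) (hsub : ∀ z : V, (z : C) ∈ Z → z ∈ Set.range c) :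
    ∃ (O : C.Opens) (T' : Scheme.{u}) (d : T' ⟶ O), IsClosedImmersion d ∧ Smooth (d ≫ O.ι ≫ φ) ∧ x ∈ O ∧
      Set.range d = {z : O | z.1 ∈ Z} := by
  have hZc : IsClosed Z := isClosed_of_mem_irreducibleComponents Z hZ
  obtain ⟨x', hx'⟩ := hsub ⟨x, hxV⟩ hxZ
  obtain ⟨OT, hxOT, hirr⟩ := exists_irreducible_nhd (c ≫ V.ι ≫ φ) x'
  obtain ⟨O₁, hO₁, hO₁eq⟩ := c.isClosedEmbedding.isInducing.isOpen_iff.1 OT.2
  let O : C.Opens := V.ι ''ᵁ ⟨O₁, hO₁⟩
  have hxO : x ∈ O := ⟨⟨x, hxV⟩, by
    change (⟨x, hxV⟩ : V) ∈ O₁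
    rw [← hx']
    exact (Set.ext_iff.1 hO₁eq x').2 hxOT, rfl⟩
  obtain ⟨η, hη⟩ := QuasiSober.sober hZ.1 hZc
  have hηZ : η ∈ Z := hη.mem
  have hηO : η ∈ O := (hη.specializes hxZ).mem_open O.2 hxO
  -- the image of `OT` is contained in `Z`
  have hIZ : ∀ t ∈ OT, V.ι (c t) ∈ Z := by
    let I : Set C := closure ((fun t => V.ι (c t)) '' (OT : Set T))
    have hI : IsIrreducible I := (hirr.image _ (V.ι.continuous.comp c.continuous).continuousOn).closure
    have hηI : η ∈ I := by
      obtain ⟨v, hv, hvη⟩ := hηO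
      have hvη' : V.ι v = η := hvη
      obtain ⟨t, ht⟩ := hsub v (by
        change V.ι v ∈ Z
        rw [hvη']; exact hηZ)
      refine subset_closure ⟨t, ?_, ?_⟩
      · exact (Set.ext_iff.1 hO₁eq t).1 (show c t ∈ O₁ by rw [ht]; exact hv)
      · change V.ι (c t) = η
        rw [ht, hvη']
    have hle : Z ⊆ I := by
      rw [← hη.def]
      exact (closure_mono (Set.singleton_subset_iff.2 hηI)).trans closure_closure.subset
    have heq : I ⊆ Z := hZ.2 hI hle
    exact fun t ht => heq (subset_closure ⟨t, ht, rfl⟩)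
  have hOV : O ≤ V := by
    rintro _ ⟨v, -, rfl⟩
    exact v.2
  let g : (c ⁻¹ᵁ (V.ι ⁻¹ᵁ O) : T.Opens).toScheme ⟶ O :=
    (c ∣_ (V.ι ⁻¹ᵁ O)) ≫ (V.ι ∣_ O)
  haveI : IsIso (V.ι ∣_ O) := by
    haveI : Surjective (V.ι ∣_ O) := ⟨fun z => ⟨⟨⟨z.1, hOV z.2⟩, z.2⟩, Subtype.ext (morphismRestrict_base_coe V.ι O _)⟩⟩
    exact isIso_of_isOpenImmersion_of_opensRange_eq_top _ (TopologicalSpace.Opens.ext (Set.range_eq_univ.2 (Scheme.Hom.surjective _)))
  have hg : ∀ t, (g t).1 = V.ι (c t.1) := fun t => by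
    change O.ι (g t) = _
    rw [← Scheme.Hom.comp_apply]
    simp only [g, Category.assoc, morphismRestrict_ι, morphismRestrict_ι_assoc, Scheme.Hom.comp_apply]
    rfl
  refine ⟨O, _, g, inferInstance, ?_, hxO, ?_⟩
  · have : g ≫ O.ι ≫ φ = (c ⁻¹ᵁ (V.ι ⁻¹ᵁ O)).ι ≫ c ≫ V.ι ≫ φ := by
      simp only [g, Category.assoc, morphismRestrict_ι_assoc]
    rw [this]
    infer_instance
  · ext z
    constructor
    · rintro ⟨t, rfl⟩
      change (g t).1 ∈ Z
      rw [hg]
      refine hIZ t.1 ((Set.ext_iff.1 hO₁eq t.1).1 ?_)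
      obtain ⟨v, hv, hveq⟩ := t.2
      exact (congrArg (· ∈ O₁) (V.ι.isOpenEmbedding.injective hveq)).mp hv
    · intro hz
      obtain ⟨t, ht⟩ := hsub ⟨z.1, hOV z.2⟩ hz
      have htm : t ∈ c ⁻¹ᵁ (V.ι ⁻¹ᵁ O) := by
        change V.ι (c t) ∈ O
        rw [ht]; exact z.2
      refine ⟨⟨t, htm⟩, Subtype.ext ?_⟩
      rw [hg]
      change V.ι (c t) = _
      rw [ht]
      rfl

/-- smoothness of a reduced closed subscheme at a point where it has such a model -/
theorem exists_smooth_nhd {k : Type u} [Field k] {C W : Scheme.{u}} (φ : C ⟶ Spec (CommRingCat.of k))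
    (e : W ⟶ C) [IsClosedImmersion e] [IsReduced W] (w : W) {O : C.Opens} {T : Scheme.{u}} (d : T ⟶ O)
    [IsClosedImmersion d] [Smooth (d ≫ O.ι ≫ φ)] (hx : e w ∈ O)
    (hr : Set.range d = {z : O | z.1 ∈ Set.range e}) :
    ∃ U : W.Opens, w ∈ U ∧ Smooth (U.ι ≫ e ≫ φ) := by
  haveI : IsReduced T := AlgSpLib.isReduced_of_smooth (d ≫ O.ι ≫ φ)
  have hr' : Set.range (e ∣_ O) = Set.range d := by
    rw [hr]
    ext z
    constructor
    · rintro ⟨a, rfl⟩
      exact ⟨a.1, (morphismRestrict_base_coe e O a).symm⟩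
    · rintro ⟨a, ha⟩
      exact ⟨⟨a, show e a ∈ O by rw [ha]; exact z.2⟩, Subtype.ext ((morphismRestrict_base_coe e O _).trans ha)⟩
  obtain ⟨i, hi⟩ := GrpField.SchImg.exists_iso_of_range_eq (e ∣_ O) d hr'
  refine ⟨e ⁻¹ᵁ O, hx, ?_⟩
  rw [← morphismRestrict_ι_assoc, ← hi, Category.assoc]
  infer_instance

section Models

open MvPolynomial

variable {A : Type u} [CommRing A]

theorem smooth_lineToBase : Smooth (StrictSS.lineToBase A) := by
  refine (HasRingHomProperty.Spec_iff (P := @Smooth)).2 ?_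
  haveI : Algebra.FormallySmooth A (Polynomial A) :=
    Algebra.FormallySmooth.of_equiv (MvPolynomial.pUnitAlgEquiv.{u, u} A)
  haveI : Algebra.Smooth A (Polynomial A) := {}
  exact RingHom.smooth_algebraMap.2 inferInstance

theorem node_rel (a : A) :
    (Ideal.Quotient.mk _ (X 0) : StrictSS.NodeAlg A a) * Ideal.Quotient.mk _ (X 1) = algebraMap A _ a := by
  rw [IsScalarTower.algebraMap_apply A (MvPolynomial (Fin 2) A) (StrictSS.NodeAlg A a), Ideal.Quotient.algebraMap_eq,
    ← map_mul, Ideal.Quotient.eq, MvPolynomial.algebraMap_eq]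
  exact Ideal.mem_span_singleton_self _

/-- where one of the coordinates is invertible the node model is smooth -/
theorem smooth_away (a : A) (l l' : Fin 2)
    (hll : (l = 0 ∧ l' = 1) ∨ (l = 1 ∧ l' = 0)) :
    Algebra.Smooth A (Localization.Away (Ideal.Quotient.mk _ (X l) : StrictSS.NodeAlg A a)) := by
  haveI : Algebra.FinitePresentation A (StrictSS.NodeAlg A a) :=
    Algebra.FinitePresentation.quotient (Submodule.fg_span_singleton _)
  set ul : StrictSS.NodeAlg A a := Ideal.Quotient.mk _ (X l)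
  haveI : Algebra.FinitePresentation (StrictSS.NodeAlg A a) (Localization.Away ul) :=
    IsLocalization.Away.finitePresentation ul
  haveI : Algebra.FinitePresentation A (Localization.Away ul) :=
    Algebra.FinitePresentation.trans A (StrictSS.NodeAlg A a) _
  haveI : Algebra.FormallySmooth A (Localization.Away ul) := by
    refine Algebra.FormallySmooth.of_comp_surjective fun B _ _ I hI g => ?_
    obtain ⟨b, hb⟩ := Ideal.Quotient.mk_surjective (g (algebraMap _ (Localization.Away ul) ul))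
    have hbu : IsUnit b := by
      obtain ⟨c, hc⟩ := ((IsLocalization.Away.algebraMap_isUnit (S := Localization.Away ul) ul).map g).exists_right_inv
      obtain ⟨c, rfl⟩ := Ideal.Quotient.mk_surjective c
      rw [← hb, ← map_mul, ← map_one (Ideal.Quotient.mk I), Ideal.Quotient.eq] at hc
      have h2 : (b * c - 1) * (b * c - 1) = 0 := by
        rw [← Ideal.mem_bot, ← hI, pow_two]
        exact Ideal.mul_mem_mul hc hc
      exact IsUnit.of_mul_eq_one (c * (2 - b * c)) (by linear_combination -h2)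
    let val : Fin 2 → B := fun y => if y = l then b else algebraMap A B a * ↑hbu.unit⁻¹
    have hvl : val l = b := if_pos rfl
    have hvl' : val l' = algebraMap A B a * ↑hbu.unit⁻¹ := if_neg (by rcases hll with ⟨rfl, rfl⟩ | ⟨rfl, rfl⟩ <;> decide)
    have hrel : val 0 * val 1 = algebraMap A B a := by
      have : val l * val l' = algebraMap A B a := by rw [hvl, hvl', mul_left_comm, IsUnit.mul_val_inv, mul_one]
      rcases hll with ⟨rfl, rfl⟩ | ⟨rfl, rfl⟩
      · exact this
      · rwa [mul_comm]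
    let f₀ : StrictSS.NodeAlg A a →ₐ[A] B := Ideal.Quotient.liftₐ _ (MvPolynomial.aeval val) fun p hp => by
      obtain ⟨q, rfl⟩ := Ideal.mem_span_singleton'.1 hp
      simp [hrel]
    have hf₀ : IsUnit (f₀ ul) := by
      have : f₀ ul = b := by simp [f₀, ul, hvl]
      rwa [this]
    refine ⟨IsLocalization.Away.liftAlgHom (f := f₀) ul hf₀, ?_⟩
    refine IsLocalization.algHom_ext (Submonoid.powers ul) (Ideal.Quotient.algHom_ext A (MvPolynomial.algHom_ext fun y => ?_))
    change Ideal.Quotient.mk I (IsLocalization.Away.liftAlgHom (f := f₀) ul hf₀ (algebraMap _ _ (Ideal.Quotient.mk _ (X y)))) =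
      g (algebraMap _ _ (Ideal.Quotient.mk _ (X y)))
    rw [show IsLocalization.Away.liftAlgHom (f := f₀) ul hf₀ (algebraMap _ _ (Ideal.Quotient.mk _ (X y))) = val y by
      simp [IsLocalization.Away.liftAlgHom, f₀]]
    by_cases hy : y = l
    · subst hy; rw [hvl]; exact hb
    · have hy' : y = l' := by rcases hll with ⟨rfl, rfl⟩ | ⟨rfl, rfl⟩ <;> omega
      subst hy'
      refine (hbu.map (Ideal.Quotient.mk I)).mul_left_cancel ?_
      rw [← map_mul, hvl', mul_left_comm, IsUnit.mul_val_inv, mul_one, hb, ← map_mul, ← map_mul]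
      have hq : (ul * Ideal.Quotient.mk _ (X y) : StrictSS.NodeAlg A a) = algebraMap A _ a := by
        rw [← node_rel a]
        rcases hll with ⟨rfl, rfl⟩ | ⟨rfl, rfl⟩
        · rfl
        · exact mul_comm _ _
      rw [hq, ← IsScalarTower.algebraMap_apply, AlgHom.commutes]
      rfl
  exact {}

/-- a coordinate axis of the node with vanishing parameter -/
theorem exists_axis {a : A} (ha : a = 0) (l l' : Fin 2) (hll : (l = 0 ∧ l' = 1) ∨ (l = 1 ∧ l' = 0)) :
    ∃ q : StrictSS.NodeAlg A a →ₐ[A] Polynomial A, Function.Surjective q ∧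
      RingHom.ker q ≤ Ideal.span {(Ideal.Quotient.mk _ (X l') : StrictSS.NodeAlg A a)} := by
  subst ha
  let val : Fin 2 → Polynomial A := fun y => if y = l then Polynomial.X else 0
  have hne : l' ≠ l := by rcases hll with ⟨rfl, rfl⟩ | ⟨rfl, rfl⟩ <;> decide
  have hrel : val 0 * val 1 = 0 := by
    rcases hll with ⟨rfl, rfl⟩ | ⟨rfl, rfl⟩ <;> simp [val]
  let q : StrictSS.NodeAlg A (0 : A) →ₐ[A] Polynomial A := Ideal.Quotient.liftₐ _ (MvPolynomial.aeval val) fun p hp => by
    obtain ⟨r, rfl⟩ := Ideal.mem_span_singleton'.1 hp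
    simp [hrel]
  let s : Polynomial A →ₐ[A] StrictSS.NodeAlg A (0 : A) := Polynomial.aeval (Ideal.Quotient.mk _ (X l))
  have hqs : ∀ p, q (s p) = p := fun p => by
    have : q.comp s = AlgHom.id A _ := Polynomial.algHom_ext (by simp [q, s, val])
    exact AlgHom.congr_fun this p
  refine ⟨q, fun p => ⟨s p, hqs p⟩, fun n hn => ?_⟩
  obtain ⟨p, rfl⟩ := Ideal.Quotient.mk_surjective n
  have hmain : ∀ p : MvPolynomial (Fin 2) A, (Ideal.Quotient.mk _ p : StrictSS.NodeAlg A (0 : A)) - s (q (Ideal.Quotient.mk _ p)) ∈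
      Ideal.span {(Ideal.Quotient.mk _ (X l') : StrictSS.NodeAlg A (0 : A))} := fun p => by
    induction p using MvPolynomial.induction_on with
    | C r =>
      have h : (Ideal.Quotient.mk _ (C r) : StrictSS.NodeAlg A (0 : A)) = algebraMap A _ r := rfl
      rw [h, AlgHom.commutes, AlgHom.commutes, sub_self]
      exact Ideal.zero_mem _
    | add p p' hp hp' =>
      rw [map_add, map_add, map_add, add_sub_add_comm]
      exact Ideal.add_mem _ hp hp'
    | mul_X p y hp =>
      rw [map_mul, map_mul, map_mul]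
      have hy : (Ideal.Quotient.mk _ (X y) : StrictSS.NodeAlg A (0 : A)) - s (q (Ideal.Quotient.mk _ (X y))) ∈
          Ideal.span {(Ideal.Quotient.mk _ (X l') : StrictSS.NodeAlg A (0 : A))} := by
        by_cases hy : y = l
        · subst hy
          simp [q, s, val]
        · have : y = l' := by rcases hll with ⟨rfl, rfl⟩ | ⟨rfl, rfl⟩ <;> omega
          subst this
          simpa [q, s, val, hy] using Ideal.mem_span_singleton_self _
      convert Ideal.add_mem _ (Ideal.mul_mem_right (Ideal.Quotient.mk _ (X y)) _ hp)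
        (Ideal.mul_mem_left _ (s (q (Ideal.Quotient.mk _ p))) hy) using 1
      ring
  have := hmain p
  have h0 : s (0 : Polynomial A) = 0 := map_zero s
  rwa [RingHom.mem_ker.1 hn, h0, sub_zero] at this

end Models

/-- the node case -/
theorem node_case {k : Type u} [Field k] {C : Scheme.{u}} (φ : C ⟶ Spec (CommRingCat.of k)) {A : CommRingCat.{u}}
    (j : Spec A ⟶ Spec (CommRingCat.of k)) [IsOpenImmersion j] (U : C.Opens) (q : U.toScheme ⟶ Spec A)
    (hq : U.ι ≫ φ = q ≫ j) (a : A) (f : U.toScheme ⟶ Spec (CommRingCat.of (StrictSS.NodeAlg A a))) [Etale f]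
    (hf : f ≫ StrictSS.nodeToBase A a = q) {Z : Set C} (hZ : Z ∈ irreducibleComponents (C : Type u)) {x : C}
    (hxU : x ∈ U) (hxZ : x ∈ Z) :
    ∃ (O : C.Opens) (T' : Scheme.{u}) (d : T' ⟶ O), IsClosedImmersion d ∧ Smooth (d ≫ O.ι ≫ φ) ∧ x ∈ O ∧
      Set.range d = {z : O | z.1 ∈ Z} := by
  let p : PrimeSpectrum (StrictSS.NodeAlg A a) := f ⟨x, hxU⟩
  let u : Fin 2 → StrictSS.NodeAlg A a := fun y => Ideal.Quotient.mk _ (MvPolynomial.X y)
  by_cases hp : ∃ y, u y ∉ p.asIdeal
  · obtain ⟨y, hy⟩ := hp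
    obtain ⟨l', hll⟩ : ∃ l', (y = 0 ∧ l' = (1 : Fin 2)) ∨ (y = 1 ∧ l' = 0) := by
      fin_cases y
      · exact ⟨1, Or.inl ⟨rfl, rfl⟩⟩
      · exact ⟨0, Or.inr ⟨rfl, rfl⟩⟩
    haveI := smooth_away (A := A) a y l' hll
    let D : (Spec (CommRingCat.of (StrictSS.NodeAlg A a))).Opens := PrimeSpectrum.basicOpen (u y)
    haveI hD : Smooth (D.ι ≫ StrictSS.nodeToBase A a) := by
      let ι := Spec.map (CommRingCat.ofHom (algebraMap (StrictSS.NodeAlg A a) (Localization.Away (u y))))
      haveI : Smooth (ι ≫ StrictSS.nodeToBase A a) := by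
        rw [← Spec.map_comp, ← CommRingCat.ofHom_comp]
        refine (HasRingHomProperty.Spec_iff (P := @Smooth)).2 ?_
        rw [CommRingCat.hom_ofHom, ← IsScalarTower.algebraMap_eq]
        exact RingHom.smooth_algebraMap.2 inferInstance
      haveI : IsOpenImmersion ι := IsOpenImmersion.of_isLocalization (u y)
      have hr : Set.range D.ι = Set.range ι := by
        rw [Scheme.Opens.range_ι]
        exact (PrimeSpectrum.localization_away_comap_range (Localization.Away (u y)) (u y)).symm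
      rw [← IsOpenImmersion.isoOfRangeEq_hom_fac D.ι ι hr, Category.assoc]
      infer_instance
    let V : C.Opens := U.ι ''ᵁ (f ⁻¹ᵁ D)
    have hVU : V ≤ U := by
      rintro _ ⟨v, -, rfl⟩
      exact v.2
    haveI : Smooth (V.ι ≫ φ) := by
      rw [← C.homOfLE_ι hVU, Category.assoc, hq]
      have hr : Set.range (C.homOfLE hVU) ⊆ Set.range (f ⁻¹ᵁ D).ι := by
        rintro _ ⟨z, rfl⟩
        rw [Scheme.Opens.range_ι]
        obtain ⟨v, hv, hveq⟩ := z.2
        have : C.homOfLE hVU z = v := U.ι.isOpenEmbedding.injective (by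
          rw [← Scheme.Hom.comp_apply, C.homOfLE_ι]; exact hveq.symm)
        rw [this]; exact hv
      rw [← IsOpenImmersion.lift_fac (f ⁻¹ᵁ D).ι (C.homOfLE hVU) hr, Category.assoc, ← hf]
      haveI : Smooth ((f ⁻¹ᵁ D).ι ≫ f ≫ StrictSS.nodeToBase A a ≫ j) := by
        rw [← morphismRestrict_ι_assoc, ← Category.assoc D.ι]
        infer_instance
      haveI : IsOpenImmersion (IsOpenImmersion.lift (f ⁻¹ᵁ D).ι (C.homOfLE hVU) hr) :=
        IsOpenImmersion.of_comp _ (f ⁻¹ᵁ D).ι
      simp only [Category.assoc] at *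
      infer_instance
    haveI : Smooth (𝟙 V.toScheme ≫ V.ι ≫ φ) := by rw [Category.id_comp]; infer_instance
    exact exists_local_model φ V (𝟙 _) hZ ⟨⟨x, hxU⟩, hy, rfl⟩ hxZ fun z _ => ⟨z, rfl⟩
  · push Not at hp
    have ha : a = 0 := by
      haveI : Nonempty (Spec A) := ⟨q ⟨x, hxU⟩⟩
      haveI : Surjective j := ⟨fun z => ⟨q ⟨x, hxU⟩, (Subsingleton.elim (α := PrimeSpectrum k) _ z)⟩⟩
      haveI : IsIso j := isIso_of_isOpenImmersion_of_opensRange_eq_top _ (TopologicalSpace.Opens.ext (Set.range_eq_univ.2 (Scheme.Hom.surjective _)))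
      haveI : IsIso (Spec.preimage j) := by
        haveI : IsIso (Scheme.Spec.map (Spec.preimage j).op) := by
          change IsIso (Spec.map (Spec.preimage j))
          rw [Spec.map_preimage]; infer_instance
        haveI : IsIso (Spec.preimage j).op := isIso_of_reflects_iso _ Scheme.Spec
        exact isIso_of_op _
      obtain ⟨c, rfl⟩ := (ConcreteCategory.bijective_of_isIso (Spec.preimage j)).2 a
      by_contra hne
      have hc : c ≠ 0 := fun h => hne (by rw [h]; exact map_zero _)
      have hu : IsUnit (algebraMap A (StrictSS.NodeAlg A ((Spec.preimage j) c)) ((Spec.preimage j) c)) :=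
        ((isUnit_iff_ne_zero.2 hc).map (Spec.preimage j).hom).map _
      refine p.2.ne_top (Ideal.eq_top_of_isUnit_mem _ ?_ hu)
      rw [← node_rel]
      exact Ideal.mul_mem_right _ _ (hp 0)
    obtain ⟨η, hη⟩ := QuasiSober.sober hZ.1 (isClosed_of_mem_irreducibleComponents Z hZ)
    have hηU : η ∈ U := (hη.specializes hxZ).mem_open U.2 hxU
    obtain ⟨l, l', hll, hl'⟩ : ∃ l l' : Fin 2, ((l = 0 ∧ l' = 1) ∨ (l = 1 ∧ l' = 0)) ∧ u l' ∈ (f ⟨η, hηU⟩).asIdeal := by
      have h01 : u 0 * u 1 = (0 : StrictSS.NodeAlg A a) := (node_rel a).trans (by subst ha; exact map_zero _)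
      rcases (f ⟨η, hηU⟩).2.mem_or_mem (show u 0 * u 1 ∈ _ by rw [h01]; exact Ideal.zero_mem _) with h | h
      · exact ⟨1, 0, Or.inr ⟨rfl, rfl⟩, h⟩
      · exact ⟨0, 1, Or.inl ⟨rfl, rfl⟩, h⟩
    obtain ⟨ax, haxs, haxk⟩ := exists_axis (A := A) ha l l' hll
    let i := Spec.map (CommRingCat.ofHom ax.toRingHom)
    haveI : IsClosedImmersion i := IsClosedImmersion.spec_of_surjective _ haxs
    have hi : i ≫ StrictSS.nodeToBase A a = StrictSS.lineToBase A := by
      rw [← Spec.map_comp, ← CommRingCat.ofHom_comp]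
      congr 2
      exact ax.comp_algebraMap
    haveI := smooth_lineToBase (A := A)
    let c := pullback.fst f i
    haveI : Smooth (c ≫ U.ι ≫ φ) := by
      have : c ≫ U.ι ≫ φ = pullback.snd f i ≫ StrictSS.lineToBase A ≫ j := by
        rw [hq, ← hf, Category.assoc, pullback.condition_assoc, reassoc_of% hi]
      rw [this]
      infer_instance
    refine exists_local_model φ U c hZ hxU hxZ fun z hz => ?_
    rw [Scheme.Pullback.range_fst]
    change f z ∈ Set.range i
    have hrange : Set.range i = PrimeSpectrum.zeroLocus (RingHom.ker ax.toRingHom : Set (StrictSS.NodeAlg A a)) :=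
      range_comap_of_surjective _ _ haxs
    rw [hrange, PrimeSpectrum.mem_zeroLocus]
    refine le_trans (show RingHom.ker ax.toRingHom ≤ _ from haxk) ?_
    refine (Ideal.span_singleton_le_iff_mem (I := (f z).asIdeal)).2 ?_
    have hsp : (⟨η, hηU⟩ : U) ⤳ z := by
      rw [← U.ι.isOpenEmbedding.isInducing.specializes_iff]
      exact hη.specializes hz
    exact (PrimeSpectrum.le_iff_specializes _ _).2 (hsp.map f.continuous) hl'


open CategoryTheory CategoryTheory.Limits AlgebraicGeometry in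
/-- Let k be a separably closed field and (C, D) a strictly semistable multipointed curve over Spec k
with C and D reduced. Then the irreducible components of C are smooth: for every irreducible
component Z of C there is a reduced closed subscheme of C with underlying set Z which is smooth over
k. (The published remark asserts that, for semistable curves over such a field, strict semistability
is equivalent to smoothness of the irreducible components; this row is the implication from strict
semistability.) -/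
theorem result
    (k : Type u) [Field k] [IsSepClosed k]
    {C D : Scheme.{u}} (φ : C ⟶ Spec (CommRingCat.of k)) (i : D ⟶ C) [IsReduced C] [IsReduced D]
    (h : StrictSS.IsStrictlySemistable φ i)
    (Z : Set C) (hZ : Z ∈ irreducibleComponents (C : Type u)) :
    ∃ (W : Scheme.{u}) (e : W ⟶ C), IsClosedImmersion e ∧ IsReduced W ∧
      Set.range e.base = Z ∧ Smooth (e ≫ φ) := by
  obtain ⟨hmp, hch⟩ := h
  obtain ⟨W, e, he, hWred, hrange⟩ : ∃ (W : Scheme.{u}) (e : W ⟶ C), IsClosedImmersion e ∧ IsReduced W ∧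
      Set.range e.base = Z := by
    let I := Scheme.IdealSheafData.vanishingIdeal ⟨Z, isClosed_of_mem_irreducibleComponents Z hZ⟩
    exact ⟨I.subscheme, I.subschemeι, inferInstance, DvrDom.isReduced_vanishingIdeal_subscheme _, by
      rw [Scheme.IdealSheafData.range_subschemeι]
      exact Scheme.IdealSheafData.coe_support_vanishingIdeal _⟩
  refine ⟨W, e, he, hWred, hrange, ?_⟩
  have key : ∀ w : W, ∃ U : W.Opens, w ∈ U ∧ Smooth (U.ι ≫ e ≫ φ) := fun w => by
    have hxZ : e w ∈ Z := hrange ▸ ⟨w, rfl⟩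
    obtain ⟨O, T, d, hd, hsm, hxO, hr⟩ : ∃ (O : C.Opens) (T : Scheme.{u}) (d : T ⟶ O), IsClosedImmersion d ∧
        Smooth (d ≫ O.ι ≫ φ) ∧ e w ∈ O ∧ Set.range d = {z : O | z.1 ∈ Z} := by
      rcases hch (e w) with ⟨A, j, hj, U, hxU, q, hq, f, fD, hf, hfq, -, -⟩ | ⟨A, j, hj, U, hxU, q, hq, a, f, hf, hfq, -⟩
      · haveI := hj
        haveI := hf
        haveI := smooth_lineToBase (A := A)
        haveI : Smooth (𝟙 U.toScheme ≫ U.ι ≫ φ) := by rw [Category.id_comp, hq, ← hfq]; infer_instance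
        exact exists_local_model φ U (𝟙 _) hZ hxU hxZ fun z _ => ⟨z, rfl⟩
      · haveI := hj
        haveI := hf
        exact node_case φ j U q hq a f hfq hZ hxU hxZ
    haveI := hd
    haveI := hsm
    haveI := he
    haveI := hWred
    exact exists_smooth_nhd φ e w d hxO (by rw [hr]; subst hrange; rfl)
  choose U hU hsm using key
  exact IsZariskiLocalAtSource.of_openCover (P := @Smooth) (W.openCoverOfIsOpenCover U (eq_top_iff.2 fun w _ => TopologicalSpace.Opens.mem_iSup.2 ⟨w, hU w⟩)) hsm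

end Groth.Agent.S15649
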