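import Groth.Statements.S16847
import Groth.Agent.AVDeg.FrobEnd
import Groth.Agent.S16589

set_option autoImplicit false
universe u
open CategoryTheory MonoidalCategory CartesianMonoidalCategory MonObj GrpObj AlgebraicGeometry
open AbVar

namespace Groth.Agent.S16847

/-- Let k be a finite field with q elements and algebraic closure Ω, ℓ a prime invertible in k, and X an
abelian variety over k (a proper, geometrically integral commutative group scheme over k) of
dimension g, with geometric Frobenius π_X (the endomorphism that is the identity on points and the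
q-th power map on sections); assume, as is the case, that the ℓ-adic Tate module of Ω-points T_ℓ X
is free of finite rank over ℤ_ℓ, and let f_X ∈ ℤ[t] be the polynomial mapping to the characteristic
polynomial of T_ℓ(π_X) (the characteristic polynomial of Frobenius). Then ℚ[π_X] ⊆ End⁰(X) = ℚ ⊗
End_k(X) is a field (equivalently, X is elementary, i.e. isogenous to a power of a simple abelian
variety — that reformulation is not restated) if and only if f_X = h^n for some irreducible h ∈ ℚ[t]
and some n ≥ 1. -/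
theorem result (k Ω : Type u) [Field k] [Finite k] [Field Ω] [Algebra k Ω] [IsAlgClosure k Ω]
    (l : ℕ) [Fact l.Prime] (hl : (l : k) ≠ 0) (X : Over (Spec (CommRingCat.of k)))
    [GrpObj X] [IsCommMonObj X] [IsProper X.hom] [GeometricallyIntegral X.hom]
    (πX : X ⟶ X) [IsMonHom πX] (hπb : πX.left.base = 𝟙 _)
    (hπle : ∀ U : X.left.Opens, U ≤ πX.left ⁻¹ᵁ U)
    (hπapp : ∀ (U : X.left.Opens) (s : Γ(X.left, U)), (πX.left.appLE U U (hπle U)).hom s = s ^ Nat.card k)
    [Module.Free ℤ_[l] (AbDual.TateMod X l (SGA7.pt Ω))] [Module.Finite ℤ_[l] (AbDual.TateMod X l (SGA7.pt Ω))]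
    (P : Polynomial ℤ) (hP : (AbDual.tateMapₗ (l := l) (T := SGA7.pt Ω) πX).charpoly = P.map (Int.castRingHom ℤ_[l])) :
    IsField (EndAV.QAdj (EndAV.End.of πX)) ↔
      ∃ (h : Polynomial ℚ) (n : ℕ), Irreducible h ∧ 0 < n ∧ P.map (Int.castRingHom ℚ) = h ^ n := by
  haveI := Groth.Agent.AVDeg.finite_end0 (A := X)
  haveI : Nonempty X.left := ⟨η[X].left (IsLocalRing.closedPoint k)⟩
  haveI : IsAlgClosed Ω := IsAlgClosure.isAlgClosed k
  obtain ⟨g, hg⟩ := Groth.Agent.AVDeg.exists_dim X
  set a := EndAV.toEnd0 (EndAV.End.of πX) with ha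
  have hone : Subsingleton (EndAV.End0 X) → P.map (Int.castRingHom ℚ) = 1 := fun h0 => by
    haveI : Subsingleton (EndAV.End X) := (Groth.Agent.AVDeg.toEnd0_injective (A := X)).subsingleton
    haveI : Subsingleton (AbDual.TateMod X l (SGA7.pt (K := k) Ω)) := by
      refine subsingleton_of_forall_eq 0 fun x => ?_
      have h := congrArg (fun φ => EndAV.End.tateRep l (SGA7.pt (K := k) Ω) φ x)
        (Subsingleton.elim (1 : EndAV.End X) 0)
      simp only [map_one, map_zero] at h
      exact h
    have h1 : P.map (Int.castRingHom ℤ_[l]) = 1 := by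
      rw [← hP]
      exact Polynomial.eq_one_of_monic_natDegree_zero (LinearMap.charpoly_monic _)
        (by rw [LinearMap.charpoly_natDegree]; exact Module.finrank_zero_of_subsingleton)
    rw [← Polynomial.map_one (Int.castRingHom ℤ_[l])] at h1
    rw [Polynomial.map_injective _ (Int.castRingHom ℤ_[l]).injective_int h1, Polynomial.map_one]
  constructor
  · intro hF
    haveI : Nontrivial (EndAV.QAdj (EndAV.End.of πX)) := ⟨hF.exists_pair_ne⟩
    haveI : IsDomain (EndAV.QAdj (EndAV.End.of πX)) := hF.isDomain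
    haveI : Nontrivial (EndAV.End0 X) :=
      (Subtype.val_injective (p := fun x => x ∈ EndAV.QAdj (EndAV.End.of πX))).nontrivial
    have hirr : Irreducible (minpoly ℚ a) := by
      let a' : EndAV.QAdj (EndAV.End.of πX) := ⟨a, Algebra.subset_adjoin rfl⟩
      rw [show minpoly ℚ a = minpoly ℚ a' from minpoly.algHom_eq (EndAV.QAdj (EndAV.End.of πX)).val
        Subtype.val_injective a']
      exact minpoly.irreducible (IsIntegral.of_finite ℚ a')
    obtain ⟨P', hP', hPQ⟩ := Groth.Agent.S16589.result k Ω l hl X g hg (EndAV.End.of πX) hirr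
    have hPP : P = P' := Polynomial.map_injective _ (Int.castRingHom ℤ_[l]).injective_int (hP.symm.trans hP')
    subst hPP
    refine ⟨_, _, hirr, Nat.pos_of_ne_zero fun h0 => ?_, hPQ⟩
    rw [h0, pow_zero] at hPQ
    have h1 : P = 1 := Polynomial.map_injective _ (Int.castRingHom ℚ).injective_int
      (hPQ.trans (Polynomial.map_one _).symm)
    have hk := Groth.Agent.AVDeg.aeval_eq_zero_of_charpoly Ω hl (EndAV.End.of πX) P hP
    rw [h1, map_one] at hk
    have : (1 : EndAV.End0 X) = 0 := by
      rw [← map_one (EndAV.toEnd0 (A := X)), hk, map_zero]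
    exact one_ne_zero this
  · rintro ⟨h, n, hh, hn, hPh⟩
    have hk := congrArg EndAV.toEnd0
      (Groth.Agent.AVDeg.aeval_eq_zero_of_charpoly Ω hl (EndAV.End.of πX) P hP)
    rw [map_zero] at hk
    have hdvd : minpoly ℚ a ∣ h := by
      refine (Groth.Agent.AVDeg.frob_semisimple πX hπb hπle hπapp).2.1 n h (minpoly.dvd ℚ a ?_)
      rw [← hPh, ← hk, Polynomial.aeval_def, Polynomial.eval₂_map, Polynomial.aeval_def]
      refine Eq.trans ?_ (Polynomial.hom_eval₂ _ _ EndAV.toEnd0.toRingHom _).symm
      exact congrArg (fun f => Polynomial.eval₂ f _ P) (RingHom.ext_int _ _)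
    haveI : Nontrivial (EndAV.End0 X) := by
      by_contra h0
      rw [not_nontrivial_iff_subsingleton] at h0
      have := hone h0
      rw [hPh] at this
      exact hh.not_isUnit (IsUnit.of_pow_eq_one this hn.ne')
    have hirr : Irreducible (minpoly ℚ a) := by
      obtain ⟨c, hc⟩ := hdvd
      have hu := (hh.isUnit_or_isUnit hc).resolve_left (minpoly.not_isUnit ℚ a)
      rw [hc, irreducible_mul_isUnit hu] at hh
      exact hh
    refine ⟨⟨0, 1, zero_ne_one⟩, fun x y => ?_, fun {x} hx => ?_⟩
    · obtain ⟨x, hx⟩ := x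
      obtain ⟨y, hy⟩ := y
      refine Subtype.ext ?_
      show x * y = y * x
      obtain ⟨F, rfl⟩ := (Algebra.adjoin_singleton_eq_range_aeval ℚ a).le hx
      obtain ⟨G, rfl⟩ := (Algebra.adjoin_singleton_eq_range_aeval ℚ a).le hy
      rw [← map_mul, ← map_mul, _root_.mul_comm]
    · obtain ⟨x, hxm⟩ := x
      obtain ⟨F, rfl⟩ := (Algebra.adjoin_singleton_eq_range_aeval ℚ a).le hxm
      have hnd : ¬ minpoly ℚ a ∣ F := fun hd => hx (Subtype.ext (by
        obtain ⟨G, rfl⟩ := hd
        show Polynomial.aeval a (minpoly ℚ a * G) = 0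
        rw [map_mul, minpoly.aeval, zero_mul]))
      obtain ⟨u, v, huv⟩ := (hirr.coprime_iff_not_dvd).2 hnd
      refine ⟨⟨Polynomial.aeval a v, (Algebra.adjoin_singleton_eq_range_aeval ℚ a).ge ⟨v, rfl⟩⟩, Subtype.ext ?_⟩
      show Polynomial.aeval a F * Polynomial.aeval a v = 1
      have h1 := congrArg (Polynomial.aeval a) huv
      rw [map_add, map_mul, map_mul, minpoly.aeval, mul_zero, zero_add, map_one] at h1
      rw [← map_mul, _root_.mul_comm F v, map_mul, h1]

end Groth.Agent.S16847
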