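import Groth.Statements.S16855
import Groth.Agent.AVTate.Cons
import Groth.Agent.S16589

set_option autoImplicit false
universe u
open CategoryTheory MonoidalCategory CartesianMonoidalCategory MonObj GrpObj AlgebraicGeometry
open AbVar

namespace Groth.Agent.S16855

/-- Let k be a finite field with q elements and algebraic closure Ω, ℓ a prime invertible in k, and X an
abelian variety over k (a proper, geometrically integral commutative group scheme over k) of
dimension g, with geometric Frobenius π_X (the endomorphism that is the identity on points and the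
q-th power map on sections); assume, as is the case, that the ℓ-adic Tate module of Ω-points T_ℓ X
is free of finite rank over ℤ_ℓ, and let f_X ∈ ℤ[t] be the polynomial mapping to the characteristic
polynomial of T_ℓ(π_X) (the characteristic polynomial of Frobenius). Assume X is elementary in the
sense that ℚ[π_X] ⊆ End⁰(X) = ℚ ⊗ End_k(X) is a field, of degree e over ℚ, and let h ∈ ℚ[t] be the
minimal polynomial of π_X. Then [End⁰(X) : ℚ[π_X]] is a square d², and d·e = 2g and f_X = h^d: there
is a natural number d with dim_ℚ End⁰(X) = e·d², d·e = 2g and f_X = h^d in ℚ[t]. -/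
theorem result (k Ω : Type u) [Field k] [Finite k] [Field Ω] [Algebra k Ω] [IsAlgClosure k Ω]
    (l : ℕ) [Fact l.Prime] (hl : (l : k) ≠ 0) (X : Over (Spec (CommRingCat.of k)))
    [GrpObj X] [IsCommMonObj X] [IsProper X.hom] [GeometricallyIntegral X.hom]
    (g : ℕ) (hg : topologicalKrullDim X.left = g)
    (πX : X ⟶ X) [IsMonHom πX] (hπb : πX.left.base = 𝟙 _)
    (hπle : ∀ U : X.left.Opens, U ≤ πX.left ⁻¹ᵁ U)
    (hπapp : ∀ (U : X.left.Opens) (s : Γ(X.left, U)), (πX.left.appLE U U (hπle U)).hom s = s ^ Nat.card k)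
    [Module.Free ℤ_[l] (AbDual.TateMod X l (SGA7.pt Ω))] [Module.Finite ℤ_[l] (AbDual.TateMod X l (SGA7.pt Ω))]
    (P : Polynomial ℤ) (hP : (AbDual.tateMapₗ (l := l) (T := SGA7.pt Ω) πX).charpoly = P.map (Int.castRingHom ℤ_[l]))
    (hK : IsField (EndAV.QAdj (EndAV.End.of πX))) :
    ∃ d : ℕ, Module.finrank ℚ (EndAV.End0 X) = Module.finrank ℚ (EndAV.QAdj (EndAV.End.of πX)) * d ^ 2 ∧
      d * Module.finrank ℚ (EndAV.QAdj (EndAV.End.of πX)) = 2 * g ∧
      P.map (Int.castRingHom ℚ) = (minpoly ℚ (EndAV.toEnd0 (EndAV.End.of πX))) ^ d := by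
  classical
  haveI : IsAlgClosed Ω := IsAlgClosure.isAlgClosed k
  haveI := AVDeg.finite_end0 (A := X)
  haveI : IsDomain (EndAV.QAdj (EndAV.End.of πX)) := hK.isDomain
  have hirr : Irreducible (minpoly ℚ (EndAV.toEnd0 (EndAV.End.of πX))) := by
    let a' : EndAV.QAdj (EndAV.End.of πX) := ⟨_, Algebra.subset_adjoin rfl⟩
    rw [show minpoly ℚ (EndAV.toEnd0 (EndAV.End.of πX)) = minpoly ℚ a' from
      minpoly.algHom_eq (EndAV.QAdj (EndAV.End.of πX)).val Subtype.val_injective a']
    exact minpoly.irreducible (IsIntegral.of_finite ℚ a')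
  obtain ⟨P', hP', hPQ⟩ := Groth.Agent.S16589.result k Ω l hl X g hg (EndAV.End.of πX) hirr
  have hPP : P = P' := Polynomial.map_injective _ (Int.castRingHom ℤ_[l]).injective_int (hP.symm.trans hP')
  subst hPP
  refine ⟨_, ?_, ?_, hPQ⟩
  · rw [AVTate.finrank_end0_eq Ω πX hπb hπle hπapp hl hP, hPQ,
      AVTate.sum_sq_pow (minpoly.monic (IsIntegral.of_finite ℚ _)) hirr, AVTate.finrank_qadj]
    ring
  · obtain ⟨hPm, hPd⟩ := AVTate.monic_natDegree Ω πX hl hP hg
    have h := congrArg Polynomial.natDegree hPQ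
    rw [hPm.natDegree_map, hPd, Polynomial.natDegree_pow] at h
    rw [AVTate.finrank_qadj]
    exact h.symm

end Groth.Agent.S16855
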