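import Groth.Statements.S15653
import Groth.Agent.AVTate.Cons
import Groth.Agent.S16589
import Groth.Agent.S15655
import Groth.Agent.S16855
import Groth.Agent.S16847

set_option autoImplicit false
universe u
open CategoryTheory MonoidalCategory CartesianMonoidalCategory MonObj GrpObj AlgebraicGeometry
open AbVar

namespace Groth.Agent.S15653

/-- Let A be a simple abelian variety of dimension g over a finite field k with q elements — a proper,
geometrically integral commutative group scheme over k, of Krull dimension g, whose only abelian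
subvarieties over k (geometrically integral closed subgroup schemes) are the trivial subgroup and A
itself — and π_A its q-Frobenius endomorphism (the identity on points and the q-th power map on
sections; a homomorphism). Then End⁰(A) = ℚ ⊗_ℤ End_k(A) is finite-dimensional over ℚ and its
reduced degree [End⁰(A) : ℚ[π_A]]^(1/2) · [ℚ[π_A] : ℚ] equals 2g: there is a natural number n such
that End⁰(A) has rank n² as a module (by left multiplication) over the ℚ-subalgebra ℚ[π_A] generated
by the image of π_A — a field when A is non-trivial — and n · [ℚ[π_A] : ℚ] = 2g. -/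
theorem result (k : Type u) [Field k] [Finite k]
    (A : Over (Spec (CommRingCat.of k)))
    [GrpObj A] [IsCommMonObj A] [IsProper A.hom] [GeometricallyIntegral A.hom]
    (g : ℕ) (hg : topologicalKrullDim A.left = g)
    (hsimple : ∀ (B : Over (Spec (CommRingCat.of k))) [GrpObj B] [GeometricallyIntegral B.hom] (i : B ⟶ A) [IsMonHom i]
      [IsClosedImmersion i.left], Subsingleton B.left ∨ IsIso i)
    (πA : A ⟶ A) [IsMonHom πA] (hπAb : πA.left.base = 𝟙 _)
    (hπAle : ∀ U : A.left.Opens, U ≤ πA.left ⁻¹ᵁ U)
    (hπAapp : ∀ (U : A.left.Opens) (s : Γ(A.left, U)), (πA.left.appLE U U (hπAle U)).hom s = s ^ Nat.card k) :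
    Module.Finite ℚ (EndAV.End0 A) ∧ ∃ n : ℕ,
      Module.finrank (EndAV.QAdj (EndAV.End.of πA)) (EndAV.End0 A) = n ^ 2 ∧
      n * Module.finrank ℚ (EndAV.QAdj (EndAV.End.of πA)) = 2 * g := by
  set_option synthInstance.maxHeartbeats 400000 in
  classical
  haveI := AVDeg.finite_end0 (A := A)
  refine ⟨inferInstance, ?_⟩
  obtain ⟨l, hlp, hl⟩ := AVTate.exists_prime_ne_zero k
  haveI := Fact.mk hlp
  let Ω := AlgebraicClosure k
  obtain ⟨hf, hr⟩ := AVTate.tate_finite_free (X := A) Ω (l := l) hl
  haveI := hf
  haveI := hr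
  obtain ⟨P, hPm, hPd, -, hPc⟩ := AVDeg.exists_charpoly_tate (Ω := Ω) (l := l) hl hg (EndAV.End.of πA)
  set a := EndAV.toEnd0 (EndAV.End.of πA)
  rcases subsingleton_or_nontrivial (EndAV.End0 A) with h0 | h0
  · haveI : Subsingleton (EndAV.QAdj (EndAV.End.of πA)) := Subtype.val_injective.subsingleton
    refine ⟨1, by rw [one_pow]; exact Module.finrank_subsingleton, ?_⟩
    have h := (AVTate.natDegree_le_sum_sq (hPm.map (Int.castRingHom ℚ))).1
    rw [← AVTate.finrank_end0_eq Ω πA hπAb hπAle hπAapp hl hPc, hPm.natDegree_map, hPd,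
      Module.finrank_zero_of_subsingleton] at h
    rw [Module.finrank_zero_of_subsingleton]
    omega
  · have hu := Groth.Agent.S15655.result k A hsimple
    haveI : NoZeroDivisors (EndAV.End0 A) := ⟨fun {x y} hxy => or_iff_not_imp_left.2 fun hx =>
      (hu x hx).mul_right_eq_zero.1 hxy⟩
    haveI : IsDomain (EndAV.End0 A) := NoZeroDivisors.to_isDomain _
    have hirr : Irreducible (minpoly ℚ a) := minpoly.irreducible (IsIntegral.of_finite ℚ a)
    have hK : IsField (EndAV.QAdj (EndAV.End.of πA)) := by
      obtain ⟨P', hP', hPQ⟩ := Groth.Agent.S16589.result k Ω l hl A g hg (EndAV.End.of πA) hirr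
      have hPP : P = P' := Polynomial.map_injective _ (Int.castRingHom ℤ_[l]).injective_int (hPc.symm.trans hP')
      subst hPP
      refine (Groth.Agent.S16847.result k Ω l hl A πA hπAb hπAle hπAapp P hPc).2
        ⟨_, _, hirr, Nat.pos_of_ne_zero fun h0' => ?_, hPQ⟩
      have h := AVTate.finrank_end0_eq Ω πA hπAb hπAle hπAapp hl hPc
      rw [hPQ, h0', pow_zero] at h
      simp only [UniqueFactorizationMonoid.normalizedFactors_one, Multiset.toFinset_zero, Finset.sum_empty] at h
      exact Module.finrank_pos.ne' h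
    obtain ⟨d, hd1, hd2, -⟩ := Groth.Agent.S16855.result k Ω l hl A g hg πA hπAb hπAle hπAapp P hPc hK
    refine ⟨d, ?_, hd2⟩
    letI := @IsField.toField _ (Subalgebra.toRing _) hK
    haveI : Nontrivial (EndAV.QAdj (EndAV.End.of πA)) := ⟨hK.exists_pair_ne⟩
    have hpos : 0 < Module.finrank ℚ (EndAV.QAdj (EndAV.End.of πA)) := by
      haveI : Module.Finite ℚ (EndAV.QAdj (EndAV.End.of πA)) :=
        Module.Finite.of_injective (EndAV.QAdj (EndAV.End.of πA)).val.toLinearMap Subtype.val_injective
      exact Module.finrank_pos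
    exact Nat.eq_of_mul_eq_mul_left hpos ((Module.finrank_mul_finrank ℚ _ _).trans hd1)

end Groth.Agent.S15653
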