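import Groth.Statements.S1569
import Mathlib
import Groth.Agent.DimOne.Geom
import Groth.Agent.S0549

set_option autoImplicit false
universe u
open CategoryTheory CategoryTheory.Limits AlgebraicGeometry
open Divisors

namespace Groth.Agent.S1569

/-- On a Noetherian scheme, an effective Cartier divisor which is integral as a closed subscheme has a
discrete valuation ring as the local ring of the ambient scheme at its generic point. -/
theorem result (X : Scheme.{u}) [IsNoetherian X]
    (D : X.IdealSheafData) (hD : BlowUp.IsEffCartierIdeal D) [IsIntegral D.subscheme]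
    (ξ : X) (hξ : IsGenericPoint ξ (D.support : Set X)) :
    ∃ _ : IsDomain (X.presheaf.stalk ξ), IsDiscreteValuationRing (X.presheaf.stalk ξ) := by
  obtain ⟨W, hξW, g, hnz, hg⟩ := hD ξ
  have hgen : ∀ y ∈ (D.support : Set X), y ⤳ ξ → y = ξ := fun y hy h =>
    (h.antisymm (hξ.specializes hy)).eq
  obtain ⟨hmin, -, hdim⟩ :=
    Groth.Agent.DimOne.stalk_of_locPrincipal D W g hg ξ hξW hξ.mem hgen
  replace hdim := hdim hnz
  letI := TopCat.Presheaf.algebra_section_stalk X.presheaf (⟨ξ, hξW⟩ : W.1)
  haveI := W.2.isLocalization_stalk ⟨ξ, hξW⟩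
  haveI : IsNoetherianRing Γ(X, W) := IsLocallyNoetherian.component_noetherian W
  let p := W.2.primeIdealOf ⟨ξ, hξW⟩
  -- the ideal of an integral closed subscheme is prime on an affine open meeting it
  have hprime : (D.ideal W).IsPrime := by
    obtain ⟨x, hx⟩ : ∃ x, D.subschemeι x = ξ := by
      have h : ξ ∈ Set.range D.subschemeι := by
        rw [D.range_subschemeι]; exact hξ.mem
      exact h
    haveI : Nonempty (D.subschemeι ⁻¹ᵁ W.1 : D.subscheme.Opens) := ⟨⟨x, by
      show D.subschemeι x ∈ W.1
      rw [hx]; exact hξW⟩⟩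
    haveI : IsDomain (Γ(X, W) ⧸ D.ideal W) :=
      MulEquiv.isDomain _ (D.subschemeObjIso W).symm.commRingCatIsoToRingEquiv.toMulEquiv
    exact (Ideal.Quotient.isDomain_iff_prime _).1 inferInstance
  have hp : p.asIdeal = Ideal.span {g} := by
    rw [hg] at hprime
    exact le_antisymm (hmin.2 ⟨hprime, le_rfl⟩ hmin.1.2) hmin.1.2
  have hmax : IsLocalRing.maximalIdeal (X.presheaf.stalk ξ) =
      Ideal.span {algebraMap Γ(X, W) (X.presheaf.stalk ξ) g} := by
    rw [← IsLocalization.AtPrime.map_eq_maximalIdeal p.asIdeal (X.presheaf.stalk ξ), hp, Ideal.map_span,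
      Set.image_singleton]
  haveI : IsNoetherianRing (X.presheaf.stalk ξ) :=
    IsLocalization.isNoetherianRing p.asIdeal.primeCompl _ inferInstance
  haveI hreg : IsRegularLocalRing (X.presheaf.stalk ξ) := by
    refine IsRegularLocalRing.of_spanFinrank_maximalIdeal_le (R := X.presheaf.stalk ξ) ?_
    rw [hdim, hmax]
    exact_mod_cast (Submodule.spanFinrank_span_le_ncard_of_finite (Set.finite_singleton _)).trans
      (le_of_eq (Set.ncard_singleton _))
  haveI : IsDomain (X.presheaf.stalk ξ) := Groth.Agent.RegLoc.isDomain _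
  exact ⟨inferInstance, Groth.Agent.S0549.dvr_iff.2 ⟨hreg, hdim⟩⟩

end Groth.Agent.S1569
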