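import Groth.Statements.S15698
import Mathlib
import Groth.Agent.InvFldLib.Fields
-- import your own Groth.Agent.* helpers here

set_option autoImplicit false
universe u
open InvFld

namespace Groth.Agent.S15698

open Groth.Agent.InvFldLib in
/-- The action of the symmetric group on `k(x_1, ..., x_n)`. -/
noncomputable def perm (k : Type u) [Field k] (n : ℕ) :
    Equiv.Perm (Fin n) →* (InvFld.Fld (Fin n) k ≃ₐ[k] InvFld.Fld (Fin n) k) where
  toFun π := AlgEquiv.ofAlgHom (fldHom _ ((algebraicIndependent_X (k := k) (Fin n)).comp π π.injective))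
    (fldHom _ ((algebraicIndependent_X (k := k) (Fin n)).comp π.symm π.symm.injective))
    (algHom_ext_X fun i => by simp [fldHom_X])
    (algHom_ext_X fun i => by simp [fldHom_X])
  map_one' := AlgEquiv.ext fun z => AlgHom.congr_fun (algHom_ext_X (f := fldHom _ ((algebraicIndependent_X (k := k) (Fin n)).comp (1 : Equiv.Perm (Fin n)) (1 : Equiv.Perm (Fin n)).injective)) (g := AlgHom.id k _)
    fun i => by simp [fldHom_X]) z
  map_mul' π ρ := AlgEquiv.ext fun z => AlgHom.congr_fun (algHom_ext_X (f := fldHom _ ((algebraicIndependent_X (k := k) (Fin n)).comp (π * ρ) (π * ρ).injective)) (g := AlgHom.comp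
    (fldHom _ ((algebraicIndependent_X (k := k) (Fin n)).comp π π.injective))
    (fldHom _ ((algebraicIndependent_X (k := k) (Fin n)).comp ρ ρ.injective)))
    fun i => by simp [fldHom_X]) z

theorem perm_X (k : Type u) [Field k] (n : ℕ) (π : Equiv.Perm (Fin n)) (i : Fin n) :
    perm k n π (InvFld.X i) = InvFld.X (π i) := by
  simp only [perm, MonoidHom.coe_mk, OneHom.coe_mk, AlgEquiv.ofAlgHom_apply]
  exact Groth.Agent.InvFldLib.fldHom_X _ _ i

theorem perm_injective (k : Type u) [Field k] (n : ℕ) : Function.Injective (perm k n) := by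
  intro π ρ h
  refine Equiv.ext fun i => ?_
  have h1 : perm k n π (InvFld.X i) = perm k n ρ (InvFld.X i) := by rw [h]
  rw [perm_X, perm_X] at h1
  exact (Groth.Agent.InvFldLib.algebraicIndependent_X (k := k) (Fin n)).injective h1

theorem perm_algebraMap (k : Type u) [Field k] (n : ℕ) (π : Equiv.Perm (Fin n))
    (p : MvPolynomial (Fin n) k) :
    perm k n π (algebraMap _ _ p) = algebraMap _ _ (MvPolynomial.rename π p) := by
  induction p using MvPolynomial.induction_on with
  | C a => rw [MvPolynomial.rename_C]; exact (perm k n π).commutes a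
  | add p q hp hq => simp only [map_add, hp, hq]
  | mul_X p i hp =>
    rw [map_mul, map_mul, hp, map_mul, MvPolynomial.rename_X, map_mul]
    exact congrArg _ (perm_X k n π i)

theorem fixed_pure (k : Type u) [Field k] (n : ℕ) :
    ∃ t : Fin n → ↥(IntermediateField.fixedField (perm k n).range),
      AlgebraicIndependent k t ∧ IntermediateField.adjoin k (Set.range t) = ⊤ := by
  classical
  let ι : MvPolynomial (Fin n) k →ₐ[k] InvFld.Fld (Fin n) k := IsScalarTower.toAlgHom k _ _
  have hι : Function.Injective ι := IsFractionRing.injective _ _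
  have hsym : ∀ p : MvPolynomial (Fin n) k, p.IsSymmetric →
      ι p ∈ IntermediateField.fixedField (perm k n).range := fun p hp =>
    (IntermediateField.mem_fixedField_iff _ _).mpr fun τ hτ => by
      obtain ⟨π, rfl⟩ := hτ
      exact (perm_algebraMap k n π p).trans (congrArg _ (hp π))
  let t : Fin n → ↥(IntermediateField.fixedField (perm k n).range) := fun i =>
    ⟨ι (MvPolynomial.esymm (Fin n) k (i + 1)), hsym _ (MvPolynomial.esymm_isSymmetric _ _ _)⟩
  have hval : ∀ p, ι (MvPolynomial.esymmAlgHom (Fin n) k n p).val = MvPolynomial.aeval (fun i => (t i : InvFld.Fld (Fin n) k)) p := by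
    intro p
    rw [MvPolynomial.esymmAlgHom_apply, ← AlgHom.comp_apply, MvPolynomial.comp_aeval]
  refine ⟨t, AlgebraicIndependent.of_comp (IntermediateField.fixedField (perm k n).range).val ?_, ?_⟩
  · rw [algebraicIndependent_iff_injective_aeval]
    intro p q h
    have h' : ι (MvPolynomial.esymmAlgHom (Fin n) k n p).val = ι (MvPolynomial.esymmAlgHom (Fin n) k n q).val := by
      rw [hval, hval]; exact h
    exact (MvPolynomial.esymmAlgHom_fin_bijective k n).1 (Subtype.ext (hι h'))
  apply IntermediateField.map_injective (IntermediateField.fixedField (perm k n).range).val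
  rw [IntermediateField.adjoin_map, ← Set.range_comp, ← AlgHom.fieldRange_eq_map, IntermediateField.fieldRange_val]
  have hmem : ∀ p : MvPolynomial (Fin n) k, p.IsSymmetric →
      ι p ∈ IntermediateField.adjoin k (Set.range fun i => (t i : InvFld.Fld (Fin n) k)) := by
    intro p hp
    obtain ⟨q, hq⟩ := (MvPolynomial.esymmAlgHom_fin_bijective k n).2 ⟨p, hp⟩
    have h : ι p = MvPolynomial.aeval (fun i => (t i : InvFld.Fld (Fin n) k)) q := by rw [← hval, hq]
    rw [h]
    exact IntermediateField.algebra_adjoin_le_adjoin k _
      (by rw [Algebra.adjoin_range_eq_range_aeval]; exact ⟨q, rfl⟩)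
  refine le_antisymm ?_ ?_
  · rw [IntermediateField.adjoin_le_iff]
    rintro _ ⟨i, rfl⟩
    exact (t i).2
  intro z hz
  obtain ⟨a, b, hb, rfl⟩ := IsFractionRing.div_surjective (A := MvPolynomial (Fin n) k) z
  have hb0 : ι b ≠ 0 := (map_ne_zero_iff ι hι).mpr (nonZeroDivisors.ne_zero hb)
  let N := ∏ π : Equiv.Perm (Fin n), MvPolynomial.rename π b
  let M := a * ∏ π ∈ Finset.univ.erase (1 : Equiv.Perm (Fin n)), MvPolynomial.rename π b
  have hN : N.IsSymmetric := fun ρ => by
    simp only [N, map_prod, MvPolynomial.rename_rename]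
    exact Fintype.prod_equiv (Equiv.mulLeft ρ) _ _ fun π => rfl
  have hN0 : ι N ≠ 0 := by
    rw [map_ne_zero_iff ι hι, Finset.prod_ne_zero_iff]
    exact fun π _ => (map_ne_zero_iff _ (MvPolynomial.rename_injective _ π.injective)).mpr
      (nonZeroDivisors.ne_zero hb)
  have hM : ι M = ι a / ι b * ι N := by
    simp only [M, N]
    rw [← Finset.mul_prod_erase _ _ (Finset.mem_univ (1 : Equiv.Perm (Fin n))), map_mul, map_mul,
      Equiv.Perm.coe_one, MvPolynomial.rename_id, AlgHom.id_apply, ← mul_assoc, div_mul_cancel₀ _ hb0]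
  have hMs : M.IsSymmetric := fun ρ => hι (by
    change algebraMap _ (InvFld.Fld (Fin n) k) _ = _
    rw [← perm_algebraMap]
    change perm k n ρ (ι M) = ι M
    rw [hM, map_mul]
    have h1 : perm k n ρ (ι N) = ι N := (perm_algebraMap k n ρ N).trans (congrArg _ (hN ρ))
    have h2 : perm k n ρ (ι a / ι b) = ι a / ι b :=
      (IntermediateField.mem_fixedField_iff _ _).mp hz _ ⟨ρ, rfl⟩
    rw [h1, h2])
  have h := div_mem (hmem M hMs) (hmem N hN)
  rw [hM, mul_div_assoc, div_self hN0, mul_one] at h
  exact h


/-- Let k be a characteristic-zero field; for each faithful finite-dimensional linear representation V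
of the symmetric group S_n over k, the field of invariants k(V)^{S_n} is stably pure over k. Stated
with V = k^m: G is a finite group of k-algebra automorphisms of k(x_1, ..., x_m), each sending every
variable to a k-linear combination of the variables, isomorphic as an abstract group to the
symmetric group on n letters; then for some r the rational function field in r variables over the
fixed field of G is generated over k by finitely many algebraically independent elements. -/
theorem result (k : Type u) [Field k] [CharZero k] (n m : ℕ)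
    (G : Subgroup (InvFld.Fld (Fin m) k ≃ₐ[k] InvFld.Fld (Fin m) k)) [Finite G] (e : G ≃* Equiv.Perm (Fin n))
    (hG : ∀ σ ∈ G, ∀ i : Fin m, σ (InvFld.X i) ∈ Submodule.span k (Set.range fun j : Fin m => (InvFld.X j : InvFld.Fld (Fin m) k))) :
    ∃ (r N : ℕ) (t : Fin N → InvFld.Fld (Fin r) (IntermediateField.fixedField G)),
      AlgebraicIndependent k t ∧ IntermediateField.adjoin k (Set.range t) = ⊤ := by
  classical
  obtain ⟨⟨φ⟩⟩ : Nonempty (Nonempty (InvFld.Fld (Fin n) (IntermediateField.fixedField G) ≃ₐ[k]
      InvFld.Fld (Fin m) (IntermediateField.fixedField (perm k n).range))) :=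
    ⟨Groth.Agent.InvFldLib.stably_equivalent G (perm k n).range
      (e.trans (MonoidHom.ofInjective (perm_injective k n))) hG
      (by
        rintro _ ⟨π, rfl⟩ i
        rw [perm_X]
        exact Submodule.subset_span ⟨π i, rfl⟩)⟩
  obtain ⟨t, ht, htop⟩ := fixed_pure k n
  have hsum := (ht.sumElim_comp (Groth.Agent.InvFldLib.algebraicIndependent_X
    (k := ↥(IntermediateField.fixedField (perm k n).range)) (Fin m)))
  refine ⟨n, m + n, fun i => φ.symm (Sum.elim InvFld.X
    (algebraMap _ (InvFld.Fld (Fin m) (IntermediateField.fixedField (perm k n).range)) ∘ t)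
      (finSumFinEquiv.symm i)),
    (hsum.comp _ finSumFinEquiv.symm.injective).map' (f := φ.symm.toAlgHom) φ.symm.injective, ?_⟩
  have hall : IntermediateField.adjoin k (Set.range (Sum.elim (InvFld.X (σ := Fin m))
      (algebraMap _ (InvFld.Fld (Fin m) (IntermediateField.fixedField (perm k n).range)) ∘ t))) = ⊤ := by
    rw [eq_top_iff]
    intro z _
    have hz : z ∈ IntermediateField.adjoin ↥(IntermediateField.fixedField (perm k n).range)
        (Set.range (InvFld.X (σ := Fin m))) := by rw [Groth.Agent.InvFldLib.adjoin_X_eq_top]; exact IntermediateField.mem_top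
    induction hz using IntermediateField.adjoin_induction with
    | mem x hx =>
      obtain ⟨i, rfl⟩ := hx
      exact IntermediateField.subset_adjoin k _ ⟨Sum.inl i, rfl⟩
    | algebraMap a =>
      have ha : a ∈ IntermediateField.adjoin k (Set.range t) := htop ▸ IntermediateField.mem_top
      have h : algebraMap _ (InvFld.Fld (Fin m) (IntermediateField.fixedField (perm k n).range)) a ∈
          (IntermediateField.adjoin k (Set.range t)).map (IsScalarTower.toAlgHom k _
            (InvFld.Fld (Fin m) (IntermediateField.fixedField (perm k n).range))) := ⟨a, ha, rfl⟩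
      rw [IntermediateField.adjoin_map, ← Set.range_comp] at h
      refine IntermediateField.adjoin.mono k _ _ ?_ h
      rintro _ ⟨i, rfl⟩
      exact ⟨Sum.inr i, rfl⟩
    | add x y _ _ hx hy => exact add_mem (hx trivial) (hy trivial)
    | inv x _ hx => exact inv_mem (hx trivial)
    | mul x y _ _ hx hy => exact mul_mem (hx trivial) (hy trivial)
  have h := congrArg (IntermediateField.map φ.symm.toAlgHom) hall
  rw [IntermediateField.adjoin_map, ← AlgHom.fieldRange_eq_map, AlgHom.fieldRange_eq_top.mpr φ.symm.surjective,
    ← Set.range_comp] at h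
  rw [← h]
  congr 1
  exact finSumFinEquiv.symm.surjective.range_comp (φ.symm.toAlgHom ∘ Sum.elim _ _)

end Groth.Agent.S15698
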