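import Groth.Statements.S15701
import Mathlib

set_option autoImplicit false
universe u
open CategoryTheory AlgebraicGeometry
open RatVar

namespace Groth.Agent.S15701

/-- A faithful action of a finite group on a geometrically integral variety is almost free. Here k is a
field of characteristic zero, X is an integral separated scheme of finite type over k, and the
finite group G acts on X by k-automorphisms through an injective homomorphism to Aut X; the
conclusion is a non-empty G-stable open subscheme U of X such that for every field K and every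
morphism Spec K → X whose image lies in U, an element of G fixing that K-point is the identity. (X
is taken separated: for the affine line with a doubled origin and the involution exchanging the two
origins the action is faithful while every point off the origins is fixed, so no such U exists;
integrality replaces geometric integrality, which is all the codimension argument uses.) -/
theorem result (k : Type u) [Field k] [CharZero k]
    (X : Scheme.{u}) (f : X ⟶ Spec (CommRingCat.of k)) [IsIntegral X] [LocallyOfFiniteType f]
    [QuasiCompact f] [IsSeparated f]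
    (G : Type u) [Group G] [Finite G] (ρ : G →* Aut X)
    (hρ : ∀ g : G, (ρ g).hom ≫ f = f) (hfaith : Function.Injective ρ) :
    ∃ U : X.Opens, (U : Set X).Nonempty ∧ (∀ g : G, (ρ g).hom ⁻¹ᵁ U = U) ∧
      ∀ (K : Type u) [Field K] (x : Spec (CommRingCat.of K) ⟶ X),
        Set.range x.base ⊆ (U : Set X) → ∀ g : G, x ≫ (ρ g).hom = x → g = 1 := by
  classical
  let γ : G → (X ⟶ Limits.pullback f f) := fun g =>
    Limits.pullback.lift (ρ g).hom (𝟙 X) (by rw [hρ, Category.id_comp])
  let P : G → Scheme.{u} := fun g => Limits.pullback (Limits.pullback.diagonal f) (γ g)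
  let i : ∀ g, P g ⟶ X := fun g => Limits.pullback.snd (Limits.pullback.diagonal f) (γ g)
  have hi : ∀ g, i g ≫ (ρ g).hom = i g := fun g => by
    have h := (Limits.pullback.condition (f := Limits.pullback.diagonal f) (g := γ g))
    have h₁ := congrArg (· ≫ Limits.pullback.fst f f) h
    have h₂ := congrArg (· ≫ Limits.pullback.snd f f) h
    simp only [γ, Category.assoc, Limits.pullback.diagonal_fst, Limits.pullback.diagonal_snd,
      Limits.pullback.lift_fst, Limits.pullback.lift_snd, Category.comp_id] at h₁ h₂
    exact h₁.symm.trans h₂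
  have hfix : ∀ (g : G) (Z : Scheme.{u}) (x : Z ⟶ X), x ≫ (ρ g).hom = x →
      Set.range x.base ⊆ Set.range (i g).base := fun g Z x hx => by
    have e : x ≫ Limits.pullback.diagonal f = x ≫ γ g := by
      apply Limits.pullback.hom_ext <;>
        simp only [γ, Category.assoc, Limits.pullback.diagonal_fst, Limits.pullback.diagonal_snd,
          Limits.pullback.lift_fst, Limits.pullback.lift_snd, Category.comp_id, hx]
    rintro _ ⟨z, rfl⟩
    exact ⟨Limits.pullback.lift x x e z, by
      rw [← Scheme.Hom.comp_apply, Limits.pullback.lift_snd]⟩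
  let C : Set X := ⋃ g : {g : G // g ≠ 1}, Set.range (i g.1).base
  have hC : IsClosed C := isClosed_iUnion_of_finite fun g => (i g.1).isClosedEmbedding.isClosed_range
  let U : X.Opens := ⟨Cᶜ, hC.isOpen_compl⟩
  have hη : genericPoint X ∉ C := fun h => by
    obtain ⟨g, hg⟩ := Set.mem_iUnion.mp h
    have huniv : Set.range (i g.1).base = Set.univ := by
      rw [← Set.univ_subset_iff, ← genericPoint_closure]
      exact (i g.1).isClosedEmbedding.isClosed_range.closure_subset_iff.mpr (Set.singleton_subset_iff.mpr hg)
    have : IsDominant (i g.1) := ⟨by rw [DenseRange, huniv]; exact dense_univ⟩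
    have e : (ρ g.1).hom = 𝟙 X := AlgebraicGeometry.ext_of_isDominant_of_isSeparated f
      (by rw [hρ, Category.id_comp]) (i g.1) (by rw [hi, Category.comp_id])
    exact g.2 (hfaith ((Iso.ext e).trans (map_one ρ).symm))
  have hmul : ∀ a b : G, (ρ (a * b)).hom = (ρ b).hom ≫ (ρ a).hom := fun a b => by
    rw [map_mul]; rfl
  have hC' : ∀ (h : G) (z : X), z ∈ C → (ρ h).hom z ∈ C := fun h z hz => by
    obtain ⟨g, w, rfl⟩ := Set.mem_iUnion.mp hz
    refine Set.mem_iUnion.mpr ⟨⟨h * g.1 * h⁻¹, fun e => g.2 (conj_eq_one_iff.mp e)⟩, ?_⟩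
    refine hfix _ _ (i g.1 ≫ (ρ h).hom) ?_ ⟨w, Scheme.Hom.comp_apply _ _ _⟩
    rw [Category.assoc, ← hmul, inv_mul_cancel_right, hmul, ← Category.assoc, hi]
  refine ⟨U, ⟨genericPoint X, hη⟩, fun g => ?_, fun K _ x hx g hg => ?_⟩
  · ext z
    change ((ρ g).hom z ∉ C) ↔ (z ∉ C)
    refine not_congr ⟨fun h => ?_, hC' g z⟩
    have := hC' g⁻¹ _ h
    rwa [← Scheme.Hom.comp_apply, ← hmul, inv_mul_cancel, map_one] at this
  · by_contra hg1
    let c : Spec (CommRingCat.of K) := IsLocalRing.closedPoint K
    exact hx ⟨c, rfl⟩ (Set.mem_iUnion.mpr ⟨⟨g, hg1⟩, hfix g _ x hg ⟨c, rfl⟩⟩)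

end Groth.Agent.S15701
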