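import Groth.Statements.S15703
import Groth.Agent.AlmostSimple.Commutator
import Groth.Agent.RootBase.Adjoint
-- import your own Groth.Agent.* helpers here

set_option backward.isDefEq.respectTransparency false
set_option linter.style.haveILetI false
set_option synthInstance.maxHeartbeats 400000
set_option maxHeartbeats 1000000

set_option autoImplicit false
universe u
open CategoryTheory MonoidalCategory CartesianMonoidalCategory MonObj GrpObj AlgebraicGeometry
open Red

namespace Groth.Agent.S15703

/-- Every central element of a connected semisimple group over an algebraically closed field of
characteristic zero is the commutator of two elements of finite order. Here K is an algebraically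
closed field of characteristic zero, G is a semisimple K-group scheme in the sense used for
reductive groups over an algebraically closed field (affine, smooth, connected, trivial unipotent
radical, no non-trivial normal subtorus), and the assertion concerns the group G(K) of K-rational
points: a central element c of G(K) equals a b a⁻¹ b⁻¹ for some a, b ∈ G(K) of finite order. (The
published statement is over the complex numbers; this row takes any algebraically closed field of
characteristic zero.) -/
theorem result (K : Type u) [Field K] [IsAlgClosed K] [CharZero K]
    (G : Over (Spec (CommRingCat.of K))) [GrpObj G] (hG : Red.IsSemisimpleOver K G)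
    (c : 𝟙_ (Over (Spec (CommRingCat.of K))) ⟶ G) (hc : c ∈ Subgroup.center (𝟙_ (Over (Spec (CommRingCat.of K))) ⟶ G)) :
    ∃ a b : 𝟙_ (Over (Spec (CommRingCat.of K))) ⟶ G, IsOfFinOrder a ∧ IsOfFinOrder b ∧ c = a * b * a⁻¹ * b⁻¹ := by
  have hss := AlmostSimple.isSemisimple_of_over hG
  obtain ⟨D⟩ := RootBase.nonempty_splitRed_algClosed (G := G) ⟨hss.1, hss.2.1, fun s => (hss.2.2 s).1⟩
  exact AlmostSimple.exists_commutator hss D c hc

end Groth.Agent.S15703
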