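import Groth.Statements.S15704
import Groth.Agent.StableBirat.Main

set_option autoImplicit false
universe u
open CategoryTheory CategoryTheory.Limits MonoidalCategory CartesianMonoidalCategory MonObj GrpObj AlgebraicGeometry
open AGF

namespace Groth.Agent.S15704

/-- Let G be a linear algebraic group over a field k of characteristic zero, contained as a closed
subgroup in two special groups G₁, G₂ whose underlying varieties are k-rational; then G₁/G and G₂/G
are stably k-birationally equivalent. Here G, G₁, G₂ are affine group schemes of finite type over k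
with homomorphic closed immersions G → G_j; 'special' is spelled out: for every action of G_j on a
k-scheme X of finite type and every faithfully flat k-morphism p : X → Y to a k-scheme of finite
type such that (g, x) ↦ (g·x, x) makes G_j × X the fibre product X ×_Y X, every point of Y has an
open neighbourhood over which p has a section; 'k-rational' is birationality over k with an affine
space; Q_j with its G_j-action and base point is a quotient G_j/G; the conclusion is that Q₁ ×_k
Spec k[x_1, ..., x_r] and Q₂ ×_k Spec k[x_1, ..., x_s] are birational over k for some r, s. -/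
theorem result (k : Type u) [Field k] [CharZero k]
    (G G₁ G₂ : Over (Spec (CommRingCat.of k))) [GrpObj G] [GrpObj G₁] [GrpObj G₂]
    [IsAffine G.left] [IsAffine G₁.left] [IsAffine G₂.left]
    [LocallyOfFiniteType G.hom] [LocallyOfFiniteType G₁.hom] [LocallyOfFiniteType G₂.hom]
    (i₁ : G ⟶ G₁) (i₂ : G ⟶ G₂) [IsMonHom i₁] [IsMonHom i₂]
    [IsClosedImmersion i₁.left] [IsClosedImmersion i₂.left]
    (hsp₁ : (∀ (X' Y' : Over (Spec (CommRingCat.of k))) (a : AlgGrp.Action G₁ X') (p : X' ⟶ Y'),
      LocallyOfFiniteType X'.hom → QuasiCompact X'.hom → LocallyOfFiniteType Y'.hom → QuasiCompact Y'.hom →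
      Flat p.left → Surjective p.left → IsPullback a.act.left (snd G₁ X').left p.left p.left →
      ∀ y : ↥Y'.left, ∃ (W : Y'.left.Opens) (s : (W : Scheme.{u}) ⟶ X'.left), y ∈ W ∧ s ≫ p.left = W.ι))
    (hsp₂ : (∀ (X' Y' : Over (Spec (CommRingCat.of k))) (a : AlgGrp.Action G₂ X') (p : X' ⟶ Y'),
      LocallyOfFiniteType X'.hom → QuasiCompact X'.hom → LocallyOfFiniteType Y'.hom → QuasiCompact Y'.hom →
      Flat p.left → Surjective p.left → IsPullback a.act.left (snd G₂ X').left p.left p.left →
      ∀ y : ↥Y'.left, ∃ (W : Y'.left.Opens) (s : (W : Scheme.{u}) ⟶ X'.left), y ∈ W ∧ s ≫ p.left = W.ι))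
    [Scheme.IsRationalOver G₁.hom] [Scheme.IsRationalOver G₂.hom]
    (Q₁ Q₂ : Over (Spec (CommRingCat.of k))) (a₁ : AlgGrp.Action G₁ Q₁) (a₂ : AlgGrp.Action G₂ Q₂)
    (o₁ : 𝟙_ (Over (Spec (CommRingCat.of k))) ⟶ Q₁) (o₂ : 𝟙_ (Over (Spec (CommRingCat.of k))) ⟶ Q₂)
    (hQ₁ : AGF.IsQuotient i₁ Q₁ a₁ o₁) (hQ₂ : AGF.IsQuotient i₂ Q₂ a₂ o₂) :
    ∃ r s : ℕ, Scheme.BirationalOver
      (pullback.fst Q₁.hom (Spec.map (CommRingCat.ofHom (algebraMap k (MvPolynomial (Fin r) k)))) ≫ Q₁.hom)
      (pullback.fst Q₂.hom (Spec.map (CommRingCat.ofHom (algebraMap k (MvPolynomial (Fin s) k)))) ≫ Q₂.hom) := by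
  exact Groth.Agent.StableBirat.main i₁ i₂ hsp₁ hsp₂ a₁ a₂ o₁ o₂ hQ₁ hQ₂

end Groth.Agent.S15704
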