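import Groth.Statements.S15706
import Mathlib.RingTheory.Ideal.AssociatedPrime.Basic
import Mathlib.RingTheory.Ideal.MinimalPrime.Localization
import Mathlib.RingTheory.Ideal.MinimalPrime.Noetherian

set_option autoImplicit false
universe u
open CAlg

namespace Groth.Agent.S15706

/-- Let A be a Noetherian ring with Serre's property (S_1), stated here in the equivalent form that
every associated prime of A is a minimal prime of A. Let I be an ideal of A and b an element of A/I
which is regular (a non-zero-divisor) in A/I. Then b is the image of a regular element of A. -/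
theorem result (A : Type u) [CommRing A]
    [IsNoetherianRing A] (hS1 : ∀ p ∈ associatedPrimes A A, p ∈ minimalPrimes A) (I : Ideal A)
    (b : A ⧸ I) (hb : b ∈ nonZeroDivisors (A ⧸ I)) :
    ∃ a : A, a ∈ nonZeroDivisors A ∧ Ideal.Quotient.mk I a = b := by
  classical
  obtain ⟨a, rfl⟩ := Ideal.Quotient.mk_surjective b
  have hfin : (minimalPrimes A).Finite := minimalPrimes.finite_of_isNoetherianRing A
  let T := hfin.toFinset.filter fun p => a ∈ p
  let U := hfin.toFinset.filter fun p => a ∉ p
  have hprime : ∀ p ∈ hfin.toFinset, p.IsPrime := fun p hp => (hfin.mem_toFinset.1 hp).1.1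
  have hnot : ¬ ((I ⊓ U.inf id : Ideal A) : Set A) ⊆ ⋃ p ∈ (↑T : Set (Ideal A)), (p : Set A) := by
    rw [Ideal.subset_union_prime (f := fun p : Ideal A => p) ⊥ ⊥ fun p hp _ _ => hprime p (Finset.mem_filter.1 hp).1]
    rintro ⟨p, hpT, hle⟩
    obtain ⟨hp, hap⟩ := Finset.mem_filter.1 hpT
    have hmin := hfin.mem_toFinset.1 hp
    haveI := hprime p hp
    rcases (Ideal.IsPrime.inf_le ‹p.IsPrime›).1 hle with hI | hU
    · -- `p` is minimal over `I`, so `a` is a zero divisor modulo `I`
      haveI : (p.map (Ideal.Quotient.mk I)).IsPrime :=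
        Ideal.map_isPrime_of_surjective Ideal.Quotient.mk_surjective (by rw [Ideal.mk_ker]; exact hI)
      have hc : (p.map (Ideal.Quotient.mk I)).comap (Ideal.Quotient.mk I) = p := by
        rw [Ideal.comap_map_of_surjective _ Ideal.Quotient.mk_surjective, ← RingHom.ker_eq_comap_bot, Ideal.mk_ker, sup_eq_left.2 hI]
      refine Set.disjoint_left.1 (Ideal.disjoint_nonZeroDivisors_of_mem_minimalPrimes (p := p.map (Ideal.Quotient.mk I)) ⟨⟨inferInstance, bot_le⟩, fun Q hQ hQle => ?_⟩)
        (Ideal.mem_map_of_mem _ hap) hb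
      haveI := hQ.1
      have h1 : Q.comap (Ideal.Quotient.mk I) ≤ p := hc ▸ Ideal.comap_mono hQle
      have h2 := hmin.2 ⟨inferInstance, bot_le⟩ h1
      exact Ideal.map_le_iff_le_comap.2 h2
    · obtain ⟨r, hr, hrp⟩ := (Ideal.IsPrime.inf_le' (f := id) (s := U) ‹p.IsPrime›).1 hU
      obtain ⟨hr', har⟩ := Finset.mem_filter.1 hr
      exact har ((hmin.2 (hfin.mem_toFinset.1 hr').1 hrp) hap)
  obtain ⟨i, hi, hiT⟩ := Set.not_subset.1 hnot
  rw [SetLike.mem_coe, Submodule.mem_inf, Submodule.mem_finsetInf] at hi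
  refine ⟨a + i, mem_nonZeroDivisors_iff_right.2 fun x hx => by_contra fun hx0 => ?_, by
    rw [map_add, Ideal.Quotient.eq_zero_iff_mem.2 hi.1, add_zero]⟩
  obtain ⟨p, hp, hle⟩ := exists_le_isAssociatedPrime_of_isNoetherianRing A x hx0
  have hmin := hS1 p hp
  have haip : a + i ∈ p := hle (by rw [Submodule.mem_colon_singleton, Submodule.mem_bot, smul_eq_mul, mul_comm]; exact hx)
  by_cases hap : a ∈ p
  · exact hiT (Set.mem_biUnion (Finset.mem_coe.2 (Finset.mem_filter.2 ⟨hfin.mem_toFinset.2 hmin, hap⟩)) ((Ideal.add_mem_iff_right p hap).1 haip))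
  · exact hap ((Ideal.add_mem_iff_left p (hi.2 p (Finset.mem_filter.2 ⟨hfin.mem_toFinset.2 hmin, hap⟩))).1 haip)

end Groth.Agent.S15706
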