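import Groth.Statements.S1699
import Groth.Agent.WeakAssLib.Struct

set_option autoImplicit false
universe u
open CategoryTheory CategoryTheory.Limits AlgebraicGeometry TopologicalSpace
open SDiv

namespace Groth.Agent.S1699

/-- (1) if and only if (3): let X be a locally Noetherian scheme and U an open subscheme. Then U is
scheme-theoretically dense in X if and only if U contains every associated point of X (every point
whose local ring has its maximal ideal as an associated prime). -/
theorem result (X : Scheme.{u}) [IsLocallyNoetherian X] (U : X.Opens) :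
    CInt.IsSchematicallyDense U ↔ ∀ x : ↥X, IsAssociatedPrime (IsLocalRing.maximalIdeal ↑(X.presheaf.stalk x)) ↑(X.presheaf.stalk x) → x ∈ U := by
  simp only [← Groth.Agent.WeakAssLib.isWeakAssPoint_struct_iff]
  constructor
  · intro hdense x hx
    by_contra hxU
    obtain ⟨V, hV, hxV, -⟩ := exists_isAffineOpen_mem_and_subset (X := X) (U := ⊤) (trivial : x ∈ (⊤ : X.Opens))
    have : IsNoetherianRing Γ(X, V) := IsLocallyNoetherian.component_noetherian ⟨V, hV⟩
    obtain ⟨s, hs⟩ := (Groth.Agent.WeakAssLib.isWeakAssPoint_iff hV (Groth.Agent.WeakAssLib.isLoc_struct hV) hxV).1 hx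
    set p := (hV.primeIdealOf ⟨x, hxV⟩).asIdeal
    have hs' : p ∈ Ideal.minimalPrimes (Submodule.colon (⊥ : Submodule Γ(X, V) Γ(X, V)) {(show Γ(X, V) from s)}) := by
      convert hs using 2
      ext r
      simp only [Submodule.mem_colon_singleton, Submodule.mem_bot]
      rfl
    obtain ⟨t, ht⟩ := Submodule.exists_eq_colon_of_mem_minimalPrimes hs'
    have hmem : ∀ b : Γ(X, V), b ∈ p ↔ b * t = 0 := fun b => by
      rw [ht, Submodule.mem_colon_singleton, Submodule.mem_bot, smul_eq_mul]
    have hres : (X.presheaf.map (homOfLE (inf_le_left : V ⊓ U ≤ V)).op) t = 0 := by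
      refine TopCat.Presheaf.section_ext X.sheaf (V ⊓ U) _ _ fun z hz => ?_
      refine ((X.presheaf.germ_res_apply _ _ _ _).trans ?_).trans (map_zero _).symm
      obtain ⟨a, hap, haq⟩ : ∃ a ∈ p, a ∉ (hV.primeIdealOf ⟨z, hz.1⟩).asIdeal := by
        by_contra hcon
        push Not at hcon
        have hspec := ((PrimeSpectrum.le_iff_specializes (hV.primeIdealOf ⟨x, hxV⟩)
          (hV.primeIdealOf ⟨z, hz.1⟩)).1 hcon).map hV.fromSpec.continuous
        have e1 : hV.fromSpec.base (hV.primeIdealOf ⟨x, hxV⟩) = x := hV.fromSpec_primeIdealOf ⟨x, hxV⟩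
        have e2 : hV.fromSpec.base (hV.primeIdealOf ⟨z, hz.1⟩) = z := hV.fromSpec_primeIdealOf ⟨z, hz.1⟩
        rw [e1, e2] at hspec
        exact hxU (hspec.mem_open U.isOpen hz.2)
      have h0 := congrArg (X.presheaf.germ V z hz.1).hom ((hmem a).1 hap)
      rw [map_mul, map_zero] at h0
      exact (Groth.Agent.WeakAssLib.isUnit_germ hV hz.1 haq).mul_right_eq_zero.1 h0
    have ht0 : t = 0 := hdense V (hres.trans (map_zero _).symm)
    exact (hV.primeIdealOf ⟨x, hxV⟩).isPrime.ne_top
      ((Ideal.eq_top_iff_one _).2 ((hmem 1).2 (by rw [ht0, mul_zero])))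
  · intro h V
    rw [injective_iff_map_eq_zero]
    intro s hs
    refine Groth.Agent.WeakAssLib.eq_zero_of_forall (Groth.Agent.QC.isQCoh_unit X) s fun y hy hw => ?_
    rw [← Groth.Agent.WeakAssLib.mgerm_res (Coh.structureModule X) (inf_le_left : V ⊓ U ≤ V) ⟨hy, h y hw⟩ s]
    exact (congrArg _ hs).trans (map_zero _)

end Groth.Agent.S1699
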