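import Groth.Statements.S15712
import Groth.Agent.S1699
import Groth.Agent.QGorD.Basic
import Groth.Agent.WeakAssLib.Basic

set_option autoImplicit false
universe u
open CategoryTheory AlgebraicGeometry TopologicalSpace
open RatSing

set_option backward.isDefEq.respectTransparency false
namespace Groth.Agent.S15712

/-- Let X be a locally Noetherian scheme with Serre's property (S_1), i.e. every local ring O_{X,x} has
depth at least min(1, dim O_{X,x}) (for instance X Cohen–Macaulay), and let U ⊆ X be open. Then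
scheme-theoretic density of U in X is equivalent to U being dense as a subset. (The published
statement assumes every scheme excellent, in particular locally Noetherian.) -/
theorem result (X : Scheme.{u}) [IsLocallyNoetherian X]
    (hS1 : ∀ x : X, min (1 : WithBot ℕ∞) (ringKrullDim (X.presheaf.stalk x)) ≤
      ((LocCoh.depth (X.presheaf.stalk x) (X.presheaf.stalk x) : ℕ∞) : WithBot ℕ∞))
    (U : X.Opens) : CInt.IsSchematicallyDense U ↔ Dense (U : Set X) := by
  rw [Groth.Agent.S1699.result]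
  constructor
  · intro h
    rw [dense_iff_inter_open]
    intro O hO hne
    obtain ⟨y, hyO⟩ := hne
    obtain ⟨W, hW, hyW, hWO⟩ := exists_isAffineOpen_mem_and_subset (show y ∈ (⟨O, hO⟩ : X.Opens) from hyO)
    haveI : IsNoetherianRing Γ(X, W) := IsLocallyNoetherian.component_noetherian ⟨W, hW⟩
    haveI := (hW.primeIdealOf ⟨y, hyW⟩).isPrime
    obtain ⟨P, hP, hle⟩ := Ideal.exists_minimalPrimes_le (I := (⊥ : Ideal Γ(X, W))) (J := (hW.primeIdealOf ⟨y, hyW⟩).asIdeal) bot_le
    let q : PrimeSpectrum Γ(X, W) := ⟨P, Ideal.minimalPrimes_isPrime hP⟩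
    have hxW : hW.fromSpec q ∈ W := hW.range_fromSpec.subset ⟨q, rfl⟩
    have hq : hW.primeIdealOf ⟨hW.fromSpec q, hxW⟩ = q :=
      hW.fromSpec.isOpenEmbedding.injective (hW.fromSpec_primeIdealOf ⟨hW.fromSpec q, hxW⟩)
    refine ⟨hW.fromSpec q, hWO hxW, h _ ?_⟩
    letI := TopCat.Presheaf.algebra_section_stalk X.presheaf (⟨hW.fromSpec q, hxW⟩ : W)
    haveI := hW.isLocalization_stalk ⟨hW.fromSpec q, hxW⟩
    refine Module.associatedPrimes.mem_associatedPrimes_of_comap_mem_associatedPrimes_of_isLocalizedModule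
      (hW.primeIdealOf ⟨hW.fromSpec q, hxW⟩).asIdeal.primeCompl
      (Algebra.linearMap Γ(X, W) (↑(X.presheaf.stalk (hW.fromSpec q)) : Type u)) _ ?_
    have he := IsLocalization.AtPrime.under_maximalIdeal (↑(X.presheaf.stalk (hW.fromSpec q)) : Type u)
      (hW.primeIdealOf ⟨hW.fromSpec q, hxW⟩).asIdeal
    rw [Ideal.under] at he
    rw [he, hq]
    exact Module.associatedPrimes.minimalPrimes_annihilator_subset_associatedPrimes Γ(X, W) Γ(X, W)
      (by rwa [Module.annihilator_eq_bot.2 inferInstance])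
  · intro hU x hx
    have h0 : ringKrullDim (X.presheaf.stalk x) = 0 := by
      refine le_antisymm ?_ ringKrullDim_nonneg_of_nontrivial
      by_contra hd
      have hd1 : (1 : WithBot ℕ∞) ≤ ringKrullDim (X.presheaf.stalk x) := by
        have h2 := not_le.1 hd
        revert h2
        induction ringKrullDim (X.presheaf.stalk x) using WithBot.recBotCoe with
        | bot => intro h2; simp at h2
        | coe a => intro h2; exact WithBot.coe_le_coe.2 (Order.one_le_iff_pos.2 (WithBot.coe_lt_coe.1 h2))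
      have h1 := hS1 x
      rw [min_eq_left hd1] at h1
      obtain ⟨W, hW, hxW, -⟩ := exists_isAffineOpen_mem_and_subset (show x ∈ (⊤ : X.Opens) from trivial)
      obtain ⟨t, ht, hreg⟩ := Groth.Agent.QGorD.exists_regular_of_one_le
        (IsLocalRing.maximalIdeal (X.presheaf.stalk x)) (↑(X.presheaf.stalk x) : Type u) (by exact_mod_cast h1)
      obtain ⟨-, w, hw⟩ := hx
      have hwne : w ≠ 0 := by
        rintro rfl
        refine (IsLocalRing.maximalIdeal.isMaximal (X.presheaf.stalk x)).ne_top ?_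
        rw [hw, (Submodule.colon_eq_top_iff_subset _).2 (by simp), Ideal.radical_top]
      rw [hw] at ht
      obtain ⟨n, hn⟩ := ht
      rw [Submodule.mem_colon_singleton, Submodule.mem_bot] at hn
      exact hwne (hreg.pow n (hn.trans (smul_zero _).symm))
    obtain ⟨W, hW, hxW, -⟩ := exists_isAffineOpen_mem_and_subset (show x ∈ (⊤ : X.Opens) from trivial)
    haveI : IsNoetherianRing Γ(X, W) := IsLocallyNoetherian.component_noetherian ⟨W, hW⟩
    letI := TopCat.Presheaf.algebra_section_stalk X.presheaf (⟨x, hxW⟩ : W)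
    haveI := hW.isLocalization_stalk ⟨x, hxW⟩
    have hmin : (hW.primeIdealOf ⟨x, hxW⟩).asIdeal ∈ minimalPrimes Γ(X, W) := by
      haveI := (hW.primeIdealOf ⟨x, hxW⟩).isPrime
      rw [← Ideal.height_eq_zero_iff]
      have := IsLocalization.AtPrime.ringKrullDim_eq_height (hW.primeIdealOf ⟨x, hxW⟩).asIdeal (↑(X.presheaf.stalk x) : Type u)
      rw [h0] at this
      exact_mod_cast this.symm
    classical
    have hfin := (minimalPrimes.finite_of_isNoetherianRing Γ(X, W)).sdiff (t := {(hW.primeIdealOf ⟨x, hxW⟩).asIdeal})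
    have hb : ∀ Q : hfin.toFinset, ∃ b ∈ Q.1, b ∉ (hW.primeIdealOf ⟨x, hxW⟩).asIdeal := fun Q => by
      obtain ⟨hQ, hne⟩ := hfin.mem_toFinset.1 Q.2
      refine SetLike.not_le_iff_exists.1 fun hle => hne ?_
      exact le_antisymm hle (hmin.2 hQ.1 hle)
    choose b hbQ hbx using hb
    have hxb : x ∈ X.basicOpen (∏ Q, b Q) := (Groth.Agent.WeakAssLib.mem_primeIdealOf hW hxW _).2
      (prod_mem (S := (hW.primeIdealOf ⟨x, hxW⟩).asIdeal.primeCompl) fun Q _ => hbx Q)
    obtain ⟨z, hzb, hzU⟩ := hU.inter_open_nonempty _ (X.basicOpen (∏ Q, b Q)).2 ⟨x, hxb⟩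
    have hzW : z ∈ W := X.basicOpen_le _ hzb
    haveI := (hW.primeIdealOf ⟨z, hzW⟩).isPrime
    obtain ⟨Q, hQ, hQz⟩ := Ideal.exists_minimalPrimes_le (I := (⊥ : Ideal Γ(X, W))) (J := (hW.primeIdealOf ⟨z, hzW⟩).asIdeal) bot_le
    have hQx : Q = (hW.primeIdealOf ⟨x, hxW⟩).asIdeal := by
      by_contra hne
      have hQm : Q ∈ hfin.toFinset := hfin.mem_toFinset.2 ⟨hQ, hne⟩
      exact (Groth.Agent.WeakAssLib.mem_primeIdealOf hW hzW _).1 hzb
        (Ideal.mem_of_dvd _ (Finset.dvd_prod_of_mem b (Finset.mem_univ ⟨Q, hQm⟩)) (hQz (hbQ ⟨Q, hQm⟩)))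
    subst hQx
    have hs := ((PrimeSpectrum.le_iff_specializes (hW.primeIdealOf ⟨x, hxW⟩) (hW.primeIdealOf ⟨z, hzW⟩)).1 hQz).map
      hW.fromSpec.continuous
    rw [hW.fromSpec_primeIdealOf ⟨x, hxW⟩, hW.fromSpec_primeIdealOf ⟨z, hzW⟩] at hs
    exact hs.mem_open U.2 hzU

end Groth.Agent.S15712
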