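import Groth.Statements.S15715
import Groth.Agent.S1699
import Groth.Agent.S12513
import Groth.Agent.MeroLib.Special

set_option autoImplicit false
universe u
open CategoryTheory AlgebraicGeometry TopologicalSpace
open RatSing

set_option backward.isDefEq.respectTransparency false
namespace Groth.Agent.S15715

/-- Let X be a locally Noetherian scheme, φ : F → G a homomorphism of O_X-modules with F quasi-coherent
and torsion-free (over every affine open V, no nonzero section of F is killed by a regular element
of O_X(V)), and U a scheme-theoretically dense open subset of X such that the restriction of φ to U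
is injective. Then φ is injective. (The published statement allows an arbitrary O_X-module F; for
the skyscraper sheaf on the affine line over a field, placed at a closed point with value the local
ring at that point, which is torsion-free in this sense, the zero map to the zero module is
injective over the dense open complement of the point but not injective. This row takes F
quasi-coherent.) -/
theorem result (X : Scheme.{u})
    [IsLocallyNoetherian X] (F G : X.Modules) (hF : Coh.IsQCoh F)
    (htf : ∀ V : X.affineOpens, Submodule.torsion Γ(X, V.1) (F.val.obj (Opposite.op V.1)) = ⊥)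
    (φ : F ⟶ G) (U : X.Opens) (hU : CInt.IsSchematicallyDense U)
    (hφU : ∀ V : X.Opens, V ≤ U → Function.Injective ⇑(ConcreteCategory.hom (φ.val.app (Opposite.op V)))) (V : X.Opens) :
    Function.Injective ⇑(ConcreteCategory.hom (φ.val.app (Opposite.op V))) := by
  refine (injective_iff_map_eq_zero _).2 fun s hs => ?_
  have hass := (Groth.Agent.S1699.result X U).1 hU
  have hden : Groth.Agent.MeroLib.HasDenoms (⊤ : X.Opens) U :=
    Groth.Agent.MeroLib.hasDenoms_of_ass ⊤ U fun z _ hz => hass z hz
  refine Groth.Agent.QC.section_eq_of_locally fun x hx => ?_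
  obtain ⟨W, b, hW, hxW, hWV, hb, hbU⟩ := hden x trivial V hx le_top
  refine ⟨W, hWV, hxW, ?_⟩
  rw [map_zero]
  have h1 : Groth.Agent.QC.res F (X.basicOpen_le b) (Groth.Agent.QC.res F hWV s) = 0 := by
    apply hφU (X.basicOpen b) hbU
    rw [map_zero]
    change φ.app (X.basicOpen b) (Groth.Agent.QC.res F _ (Groth.Agent.QC.res F hWV s)) = 0
    rw [← Groth.Agent.QC.app_res, ← Groth.Agent.QC.app_res, show φ.app V s = 0 from hs, map_zero, map_zero]
  obtain ⟨n, hn⟩ := (Groth.Agent.QC.isLoc_of_isQCoh hW (hM := hF)).exists_pow_smul_eq_zero b _ h1
  have h2 : Groth.Agent.QC.res F hWV s ∈ Submodule.torsion Γ(X, W) (F.val.obj (Opposite.op W)) :=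
    ⟨⟨b ^ n, pow_mem ((Groth.Agent.S12513.result X W hW).le hb) n⟩, hn⟩
  rw [htf ⟨W, hW⟩] at h2
  exact (Submodule.mem_bot _).1 h2

end Groth.Agent.S15715
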