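import Groth.Statements.S15717
import Groth.Agent.CMFlat.Localization

set_option autoImplicit false
universe u
open CAlg

namespace Groth.Agent.S15717

/-- Let R be a Cohen–Macaulay local ring and I an ideal of R with R/I equidimensional (all minimal
primes p over I have the same dim R/p). Then there is a regular sequence r_1, ..., r_n in I such
that the closed subscheme V(r_1, ..., r_n) of Spec R, a local complete intersection, contains V(I),
has the same dimension as V(I), and has the irreducible components of V(I) among its irreducible
components: dim R/(r_1, ..., r_n) = dim R/I and every minimal prime over I is a minimal prime over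
(r_1, ..., r_n). The sequence is asked to be weakly regular (each r_i a non-zero-divisor modulo the
previous ones), which for I proper is the same as regular and which also covers I = R with the
sequence (1). -/
theorem result (R : Type u) [CommRing R]
    [LocCoh.IsCohenMacaulayLocalRing R] (I : Ideal R)
    (hI : ∀ p ∈ I.minimalPrimes, ringKrullDim (R ⧸ p) = ringKrullDim (R ⧸ I)) :
    ∃ rs : List R, RingTheory.Sequence.IsWeaklyRegular R rs ∧ Ideal.ofList rs ≤ I ∧
      ringKrullDim (R ⧸ Ideal.ofList rs) = ringKrullDim (R ⧸ I) ∧
      I.minimalPrimes ⊆ (Ideal.ofList rs).minimalPrimes := by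
  by_cases hne : I = ⊤
  · subst hne
    refine ⟨[1], ?_, le_top, ?_, by simp⟩
    · rw [RingTheory.Sequence.isWeaklyRegular_cons_iff]
      exact ⟨IsSMulRegular.one R, RingTheory.Sequence.IsWeaklyRegular.nil R _⟩
    · rw [show Ideal.ofList [(1 : R)] = ⊤ by simp [Ideal.ofList_singleton]]
  haveI : Nontrivial (R ⧸ I) := Ideal.Quotient.nontrivial_iff.mpr hne
  haveI : IsLocalRing (R ⧸ I) := IsLocalRing.of_surjective' _ Ideal.Quotient.mk_surjective
  obtain ⟨d, hd⟩ := Groth.Agent.SerreReg.exists_dim_nat (R ⧸ I)
  obtain ⟨n, hn⟩ := Groth.Agent.SerreReg.exists_dim_nat R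
  have hdn : d ≤ n := by
    have h := ringKrullDim_le_of_surjective (Ideal.Quotient.mk I) Ideal.Quotient.mk_surjective
    rw [hd, hn] at h; exact_mod_cast h
  obtain ⟨rs, h1, h2, h3, h4⟩ := Groth.Agent.CMFlat.exists_regular_le (n - d) R d I
    (by rw [hn, Nat.sub_add_cancel hdn]) hd fun p hp => (hI p hp).trans hd
  exact ⟨rs, h1, h2, h3.trans hd.symm, h4⟩

end Groth.Agent.S15717
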