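import Groth.Statements.S1572
import Mathlib
import Groth.Agent.DimOne.Geom
import Groth.Agent.DimOne.Ufd

set_option autoImplicit false
universe u
open CategoryTheory CategoryTheory.Limits AlgebraicGeometry
open Divisors

namespace Groth.Agent.S1572

/-- Let X be Noetherian and separated and U a dense affine open such that the local ring of X at every
point outside U is a unique factorisation domain. Then there is an effective Cartier divisor on X
whose support is exactly the complement of U. -/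
theorem result (X : Scheme.{u}) [IsNoetherian X] [X.IsSeparated]
    (U : X.Opens) (hU : IsAffineOpen U) (hdense : Dense (U : Set X))
    (hufd : ∀ x : X, x ∉ U → IsDomain (X.presheaf.stalk x) ∧ UniqueFactorizationMonoid (X.presheaf.stalk x)) :
    ∃ D : X.IdealSheafData, BlowUp.IsEffCartierIdeal D ∧ (D.support : Set X) = (U : Set X)ᶜ := by
  classical
  haveI : IsAffineHom U.ι := by
    haveI : IsAffine U.toScheme := hU
    haveI : IsAffineHom (U.ι ≫ Limits.terminal.from X) := isAffineHom_of_isAffine _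
    exact IsAffineHom.of_comp U.ι (Limits.terminal.from X)
  let Z : TopologicalSpace.Closeds X := ⟨(U : Set X)ᶜ, U.isOpen.isClosed_compl⟩
  let D := Scheme.IdealSheafData.vanishingIdeal Z
  have hsupp : (D.support : Set X) = (U : Set X)ᶜ := by
    simp [D, Z]
  refine ⟨D, fun x => ?_, hsupp⟩
  by_cases hx : x ∈ U
  · refine ⟨⟨U, hU⟩, hx, 1, one_mem _, ?_⟩
    rw [Ideal.span_singleton_one, ← PrimeSpectrum.zeroLocus_empty_iff_eq_top, Set.eq_empty_iff_forall_notMem]
    intro q hq
    have hqU : hU.fromSpec q ∈ U := hU.range_fromSpec.subset ⟨q, rfl⟩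
    have h1 : hU.fromSpec q ∈ D.support := by
      rw [D.mem_support_iff_of_mem (U := ⟨U, hU⟩) hqU]
      exact (Set.ext_iff.1 (hU.fromSpec_preimage_zeroLocus _) q).2 hq
    rw [← SetLike.mem_coe, hsupp] at h1
    exact h1 hqU
  obtain ⟨W, hW, hxW, -⟩ := exists_isAffineOpen_mem_and_subset (X := X) (U := ⊤) (trivial : x ∈ (⊤ : X.Opens))
  haveI : IsNoetherianRing Γ(X, W) := IsLocallyNoetherian.component_noetherian ⟨W, hW⟩
  letI := TopCat.Presheaf.algebra_section_stalk X.presheaf (⟨x, hxW⟩ : W)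
  haveI := hW.isLocalization_stalk ⟨x, hxW⟩
  obtain ⟨hdom, hufdx⟩ := hufd x hx
  haveI := hdom
  haveI := hufdx
  let p := hW.primeIdealOf ⟨x, hxW⟩
  let R := X.presheaf.stalk x
  haveI : IsNoetherianRing R := IsLocalization.isNoetherianRing p.asIdeal.primeCompl _ inferInstance
  let I := D.ideal ⟨W, hW⟩
  let J : Ideal R := I.map (algebraMap Γ(X, W) R)
  have hzero : ∀ q, hW.fromSpec q ∈ U ↔ ¬ I ≤ PrimeSpectrum.asIdeal q := fun q => by
    have hqW : hW.fromSpec q ∈ W := hW.range_fromSpec.subset ⟨q, rfl⟩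
    have h1 : hW.fromSpec q ∈ D.support ↔ I ≤ q.asIdeal := by
      rw [D.mem_support_iff_of_mem (U := ⟨W, hW⟩) hqW]
      exact Set.ext_iff.1 (hW.fromSpec_preimage_zeroLocus _) q
    rw [← h1, ← SetLike.mem_coe (p := D.support), hsupp]
    exact not_not.symm
  have hIrad : I.IsRadical := by
    intro a ha
    show a ∈ PrimeSpectrum.vanishingIdeal (hW.fromSpec ⁻¹' (Z : Set X))
    rw [PrimeSpectrum.mem_vanishingIdeal]
    intro q hq
    obtain ⟨n, hn⟩ := ha
    exact q.2.mem_of_pow_mem n ((PrimeSpectrum.mem_vanishingIdeal _ _).1 hn q hq)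
  have hJrad : J.IsRadical := by
    rw [← Ideal.radical_eq_iff, ← IsLocalization.map_radical p.asIdeal.primeCompl (X.presheaf.stalk x) I,
      hIrad.radical]
  have hpx : hW.fromSpec p = x := hW.fromSpec_primeIdealOf _
  have hIp : I ≤ p.asIdeal := by
    by_contra h
    exact hx (hpx ▸ (hzero p).2 h)
  -- minimal primes of the trace of the complement on the stalk have height at most one
  have hht : ∀ q ∈ J.minimalPrimes, q.height ≤ 1 := fun q hq => by
    haveI := hq.1.1
    rw [IsLocalization.minimalPrimes_map p.asIdeal.primeCompl R I] at hq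
    have hq' : q.under Γ(X, W) ∈ I.minimalPrimes := hq
    let Q : PrimeSpectrum Γ(X, W) := ⟨q.under Γ(X, W), hq'.1.1⟩
    let y := hW.fromSpec Q
    have hyW : y ∈ W := hW.range_fromSpec.subset ⟨Q, rfl⟩
    have hyU : y ∉ U := fun h => (hzero Q).1 h hq'.1.2
    haveI := hW.isOpenImmersion_fromSpec
    have hgen : ∀ z : X, z ∉ U → z ⤳ y → z = y := fun z hz hzy => by
      have hzW : z ∈ W := hzy.mem_open W.isOpen hyW
      obtain ⟨P, rfl⟩ : z ∈ Set.range hW.fromSpec := hW.range_fromSpec.symm.subset hzW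
      have hIP : I ≤ P.asIdeal := by
        by_contra h
        exact hz ((hzero P).2 h)
      have hPQ : P.asIdeal ≤ q.under Γ(X, W) :=
        (PrimeSpectrum.le_iff_specializes P Q).2 (hW.fromSpec.isEmbedding.isInducing.specializes_iff.1 hzy)
      exact congrArg hW.fromSpec (PrimeSpectrum.ext (le_antisymm hPQ (hq'.2 ⟨P.2, hIP⟩ hPQ)) : P = Q)
    have h1 := Groth.Agent.DimOne.ringKrullDim_stalk_le_one U y hyU hgen
    letI := TopCat.Presheaf.algebra_section_stalk X.presheaf (⟨y, hyW⟩ : W)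
    haveI := hW.isLocalization_stalk ⟨y, hyW⟩
    have hyQ : hW.primeIdealOf ⟨y, hyW⟩ = Q :=
      hW.fromSpec.isOpenEmbedding.injective (hW.fromSpec_primeIdealOf ⟨y, hyW⟩)
    rw [IsLocalization.AtPrime.ringKrullDim_eq_height (hW.primeIdealOf ⟨y, hyW⟩).asIdeal (X.presheaf.stalk y), hyQ] at h1
    rw [← IsLocalization.height_under p.asIdeal.primeCompl q]
    exact_mod_cast h1
  have hJ0 : J ≠ ⊥ := fun e => by
    haveI : (⊥ : Ideal R).IsPrime := Ideal.isPrime_bot
    let P₀ : PrimeSpectrum Γ(X, W) := ⟨(⊥ : Ideal R).under Γ(X, W), inferInstance⟩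
    let y := hW.fromSpec P₀
    have hyW : y ∈ W := hW.range_fromSpec.subset ⟨P₀, rfl⟩
    have hyU : y ∉ U := fun h => (hzero P₀).1 h fun a ha => by
      show algebraMap Γ(X, W) R a ∈ (⊥ : Ideal R)
      rw [← e]
      exact Ideal.mem_map_of_mem _ ha
    refine hyU (Groth.Agent.DimOne.mem_of_dense_of_ringKrullDim_le_zero U hdense y ?_)
    haveI := hW.isOpenImmersion_fromSpec
    letI := TopCat.Presheaf.algebra_section_stalk X.presheaf (⟨y, hyW⟩ : W)
    haveI := hW.isLocalization_stalk ⟨y, hyW⟩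
    have hyQ : hW.primeIdealOf ⟨y, hyW⟩ = P₀ :=
      hW.fromSpec.isOpenEmbedding.injective (hW.fromSpec_primeIdealOf ⟨y, hyW⟩)
    rw [IsLocalization.AtPrime.ringKrullDim_eq_height (hW.primeIdealOf ⟨y, hyW⟩).asIdeal (X.presheaf.stalk y), hyQ,
      IsLocalization.height_under p.asIdeal.primeCompl (⊥ : Ideal R), Ideal.height_bot]
    simp
  obtain ⟨t, ht0, hJt⟩ := Groth.Agent.DimOne.exists_span_of_radical J hJrad hJ0 hht
  obtain ⟨⟨⟨a, haI⟩, s⟩, hts⟩ := (IsLocalization.mem_map_algebraMap_iff p.asIdeal.primeCompl R).1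
    (show t ∈ I.map (algebraMap Γ(X, W) R) by
      show t ∈ J
      rw [hJt]; exact Ideal.mem_span_singleton_self t)
  have hsu : IsUnit (algebraMap Γ(X, W) R s) := IsLocalization.map_units R s
  have hJa : J = Ideal.span {algebraMap Γ(X, W) R a} := by
    rw [hJt, ← hts, mul_comm, Ideal.span_singleton_mul_left_unit hsu]
  have ha0 : algebraMap Γ(X, W) R a ≠ 0 := by
    rw [← hts]; exact mul_ne_zero ht0 hsu.ne_zero
  -- finitely many denominators
  obtain ⟨gens, hgens⟩ := IsNoetherian.noetherian I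
  have h1 : ∀ b : gens, ∃ d : p.asIdeal.primeCompl, ∃ c, d.1 * b.1 = c * a := fun b => by
    have hb : algebraMap Γ(X, W) R b.1 ∈ Ideal.span {algebraMap Γ(X, W) R a} := by
      rw [← hJa]; exact Ideal.mem_map_of_mem _ (hgens.le (Submodule.subset_span b.2))
    obtain ⟨r, hr⟩ := Ideal.mem_span_singleton'.1 hb
    obtain ⟨⟨c, d⟩, hcd⟩ := IsLocalization.surj p.asIdeal.primeCompl r
    have h2 : algebraMap Γ(X, W) R (d.1 * b.1) = algebraMap Γ(X, W) R (c * a) := by
      rw [map_mul, map_mul, ← hr, ← hcd]; ring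
    obtain ⟨u, hu⟩ := (IsLocalization.eq_iff_exists p.asIdeal.primeCompl R).1 h2
    exact ⟨u * d, u.1 * c, by rw [Submonoid.coe_mul]; linear_combination hu⟩
  choose d c hdc using h1
  let Ann : Ideal Γ(X, W) := LinearMap.ker (LinearMap.mulRight Γ(X, W) a)
  obtain ⟨anns, hanns⟩ := IsNoetherian.noetherian Ann
  have h3 : ∀ b : anns, ∃ e : p.asIdeal.primeCompl, e.1 * b.1 = 0 := fun b => by
    have hb : b.1 * a = 0 := hanns.le (Submodule.subset_span b.2)
    have h4 : algebraMap Γ(X, W) R b.1 * algebraMap Γ(X, W) R a = 0 := by rw [← map_mul, hb, map_zero]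
    exact (IsLocalization.map_eq_zero_iff p.asIdeal.primeCompl R b.1).1 ((mul_eq_zero.1 h4).resolve_right ha0)
  choose e he using h3
  let g : Γ(X, W) := (∏ b, (d b).1) * ∏ b, (e b).1
  have hgp : g ∉ p.asIdeal := p.asIdeal.primeCompl.mul_mem (prod_mem fun b _ => (d b).2) (prod_mem fun b _ => (e b).2)
  have hxg : x ∈ X.basicOpen g := by
    have : p ∈ hW.fromSpec ⁻¹ᵁ X.basicOpen g := by rw [hW.fromSpec_preimage_basicOpen]; exact hgp
    have h' : hW.fromSpec p ∈ X.basicOpen g := this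
    rwa [hpx] at h'
  let W' : X.affineOpens := ⟨X.basicOpen g, hW.basicOpen g⟩
  let res : Γ(X, W) ⟶ Γ(X, X.basicOpen g) := X.presheaf.map (homOfLE (X.basicOpen_le g)).op
  letI : Algebra Γ(X, W) Γ(X, X.basicOpen g) := res.hom.toAlgebra
  haveI : IsLocalization.Away g Γ(X, X.basicOpen g) :=
    hW.isLocalization_of_eq_basicOpen g (homOfLE (X.basicOpen_le g)) rfl
  have hgu : IsUnit (res g) := IsLocalization.Away.algebraMap_isUnit g
  have hI' : D.ideal W' = Ideal.span {res a} := by
    rw [show D.ideal W' = I.map res.hom from (D.map_ideal_basicOpen ⟨W, hW⟩ g).symm]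
    refine le_antisymm ?_ ((Ideal.span_singleton_le_iff_mem _).2 (Ideal.mem_map_of_mem _ haI))
    rw [Ideal.map_le_iff_le_comap, ← hgens, Submodule.span_le]
    intro b hb
    have h5 : (g : Γ(X, W)) * b ∈ Ideal.span {a} := by
      have h6 : (d ⟨b, hb⟩).1 ∣ g := dvd_mul_of_dvd_left (Finset.dvd_prod_of_mem _ (Finset.mem_univ _)) _
      obtain ⟨q, hq⟩ := h6
      refine Ideal.mem_span_singleton'.2 ⟨q * c ⟨b, hb⟩, ?_⟩
      rw [hq]
      linear_combination (-q) * hdc ⟨b, hb⟩
    have h7 : res g * res b ∈ Ideal.span {res a} := by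
      obtain ⟨q, hq⟩ := Ideal.mem_span_singleton'.1 h5
      exact Ideal.mem_span_singleton'.2 ⟨res q, by rw [← map_mul, hq, map_mul]⟩
    exact (Ideal.unit_mul_mem_iff_mem _ hgu).1 h7
  refine ⟨W', hxg, res a, ?_, hI'⟩
  rw [mem_nonZeroDivisors_iff_right]
  intro z hz
  obtain ⟨⟨r, _, n, rfl⟩, hr⟩ := IsLocalization.surj (Submonoid.powers g) z
  have h8 : algebraMap Γ(X, W) Γ(X, X.basicOpen g) (r * a) = 0 := by
    rw [map_mul, ← hr]
    show z * _ * res a = 0
    rw [mul_comm z, mul_assoc, hz, mul_zero]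
  obtain ⟨⟨_, m, rfl⟩, hm⟩ := (IsLocalization.map_eq_zero_iff (Submonoid.powers g) Γ(X, X.basicOpen g) _).1 h8
  have h9 : g ^ m * r ∈ Ann := by
    show g ^ m * r * a = 0
    rw [mul_assoc]; exact hm
  rw [← hanns] at h9
  have h10 : g * (g ^ m * r) = 0 := by
    have : Submodule.span Γ(X, W) (anns : Set Γ(X, W)) ≤ LinearMap.ker (LinearMap.mulLeft Γ(X, W) g) := by
      rw [Submodule.span_le]
      intro b hb
      have h11 : (e ⟨b, hb⟩).1 ∣ g := dvd_mul_of_dvd_right (Finset.dvd_prod_of_mem _ (Finset.mem_univ _)) _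
      obtain ⟨q, hq⟩ := h11
      show g * b = 0
      rw [hq]
      linear_combination q * he ⟨b, hb⟩
    exact this h9
  refine ((hgu.pow (m + 1)).mul_right_eq_zero).1 ?_
  refine ((hgu.pow n).mul_left_eq_zero).1 ?_
  have h12 := congrArg res h10
  rw [map_zero] at h12
  replace h12 : res g * (res g ^ m * res r) = 0 :=
    ((map_mul res.hom _ _).trans (congrArg (res.hom g * ·) ((map_mul res.hom _ _).trans (congrArg (· * res.hom r) (map_pow res.hom g m))))).symm.trans h12
  have hr' : z * res g ^ n = res r := by rw [← map_pow]; exact hr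
  calc res g ^ (m + 1) * z * res g ^ n = res g * (res g ^ m * (z * res g ^ n)) := by ring
    _ = 0 := by rw [hr']; exact h12

end Groth.Agent.S1572
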