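import Groth.Statements.S1574
import Mathlib
import Groth.Agent.DimOne.Geom
import Groth.Agent.S1607

set_option autoImplicit false
universe u
open CategoryTheory CategoryTheory.Limits AlgebraicGeometry
open Divisors

namespace Groth.Agent.S1574

/-- For a Noetherian local ring A, the punctured spectrum (Spec A minus the closed point, as an open
subscheme) is affine if and only if dim A ≤ 1. -/
theorem result (A : Type u) [CommRing A] [IsLocalRing A] [IsNoetherianRing A] :
    IsAffine (FEt.puncturedSpec A : Scheme.{u}) ↔ ringKrullDim A ≤ 1 := by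
  constructor
  · intro h
    exact Groth.Agent.DimOne.ringKrullDim_le_one_of_isAffineOpen (CommRingCat.of A) (FEt.puncturedSpec A) h
      fun p => Iff.rfl
  · intro h
    refine Groth.Agent.S1607.result (Spec (CommRingCat.of A)) (fun x => ?_) (FEt.puncturedSpec A) ?_
    · let R := Γ(Spec (CommRingCat.of A), ⊤)
      let e : (A : Type u) ≃+* R := (Scheme.ΓSpecIso (CommRingCat.of A)).symm.commRingCatIsoToRingEquiv
      haveI : IsNoetherianRing R := isNoetherianRing_of_ringEquiv A e
      have hT := isAffineOpen_top (Spec (CommRingCat.of A))
      letI := TopCat.Presheaf.algebra_section_stalk (Spec (CommRingCat.of A)).presheaf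
        (⟨x, trivial⟩ : (⊤ : (Spec (CommRingCat.of A)).Opens))
      let p := hT.primeIdealOf ⟨x, trivial⟩
      haveI := hT.isLocalization_stalk ⟨x, trivial⟩
      refine ⟨IsLocalization.isNoetherianRing p.asIdeal.primeCompl _ inferInstance, ?_⟩
      rw [IsLocalization.AtPrime.ringKrullDim_eq_height p.asIdeal ((Spec (CommRingCat.of A)).presheaf.stalk x)]
      exact (Ideal.height_le_ringKrullDim_of_ne_top p.2.ne_top).trans
        ((ringKrullDim_eq_of_ringEquiv e).symm.le.trans h)
    · exact TopologicalSpace.NoetherianSpace.isCompact _

end Groth.Agent.S1574
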