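import Groth.Statements.S15742
import Groth.Agent.QC.OmegaAffineSect


set_option linter.style.haveILetI false

set_option autoImplicit false
universe u
open CategoryTheory AlgebraicGeometry
open Mor

namespace Groth.Agent.S15742

/-- For a commutative ring `A` and a commutative `A`-algebra `B`, the canonical map from the module of
Kähler differentials `Ω[B⁄A]` to the global sections of the sheaf of relative differentials of `Spec
B ⟶ Spec A`, semilinear along the identification of `B` with the ring of global functions on `Spec
B` and sending `D b` to `d_{X/Y}` of the global function `b`, is bijective. -/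
theorem result (A B : Type u) [CommRing A] [CommRing B] [Algebra A B] :
    Function.Bijective (OmAff.toSpec A B) := by
  let f := Spec.map (CommRingCat.ofHom (algebraMap A B))
  obtain ⟨ψ, T, hψ, -, hT, hs, hd⟩ := Groth.Agent.QC.exists_sectEquiv_omega A B f
    (𝟙 _) (𝟙 _) (by simp [f]) ⊤ (by simp)
  have hid : ∀ b, ψ (OmAff.toΓ B b) = b := by
    intro b
    rw [hψ]
    change (((𝟙 (Spec (CommRingCat.of B)) : _ ⟶ _).appLE ⊤ ⊤ _ ≫ (Scheme.ΓSpecIso _).hom)
      ((Scheme.ΓSpecIso (CommRingCat.of B)).inv b)) = b
    simp [Scheme.Hom.appLE]
  have key : ∀ ω, T (OmAff.toSpec A B ω) = ω := by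
    intro ω
    have hx : ω ∈ Submodule.span B (Set.range (KaehlerDifferential.D A B)) := by
      rw [KaehlerDifferential.span_range_derivation]; trivial
    induction hx using Submodule.span_induction with
    | mem y hy =>
        obtain ⟨b, rfl⟩ := hy
        rw [OmAff.toSpec_D, hd, hid]
    | zero => rw [map_zero, map_zero]
    | add y z _ _ hy hz => rw [map_add, map_add, hy, hz]
    | smul b y _ hy => rw [LinearMap.map_smulₛₗ, hs, hid, hy]
  exact ⟨fun a b hab => (key a).symm.trans ((congrArg T hab).trans (key b)),
    fun m => ⟨T m, hT.1 (key _)⟩⟩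


end Groth.Agent.S15742
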