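import Groth.Statements.S15749
import Mathlib.RingTheory.LaurentSeries
import Mathlib.RingTheory.Idempotents
import Mathlib.RingTheory.Nilpotent.Lemmas
import Mathlib.RingTheory.PowerSeries.Inverse

set_option autoImplicit false
universe u
open CAlg

namespace Groth.Agent.S15749

/-- For an arbitrary commutative ring R, every idempotent of the ring of formal Laurent series R((t)) is
the constant series attached to a unique idempotent of R. Equivalently, the structure map R → R((t))
induces a bijection on idempotents, so that the spectrum of R((t)) is connected if and only if the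
spectrum of R is. No reducedness is assumed. -/
theorem result (R : Type u) [CommRing R]
    (e : LaurentSeries R) (he : IsIdempotentElem e) :
    ∃! r : R, IsIdempotentElem r ∧ HahnSeries.C r = e := by
  classical
  -- the positive and negative coefficients are nilpotent
  have hnil : ∀ n : ℤ, n ≠ 0 → IsNilpotent (e.coeff n) := fun n hn => by
    rw [← mem_nilradical, nilradical_eq_sInf, Ideal.mem_sInf]
    intro P hP
    haveI : P.IsPrime := hP
    let π := Ideal.Quotient.mk P
    let eq' : HahnSeries ℤ (R ⧸ P) := e.map π
    have hidem : IsIdempotentElem eq' := by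
      show e.map π * e.map π = e.map π
      ext k
      have h := congrArg (fun s => s.coeff k) (HahnSeries.map_mul π.toNonUnitalRingHom (x := e) (y := e))
      rw [he.eq] at h
      exact h.symm
    refine Ideal.Quotient.eq_zero_iff_mem.1 ?_
    rcases IsIdempotentElem.iff_eq_zero_or_one.1 hidem with h | h
    · exact congrArg (fun s : HahnSeries ℤ (R ⧸ P) => s.coeff n) h
    · exact (congrArg (fun s : HahnSeries ℤ (R ⧸ P) => s.coeff n) h).trans (HahnSeries.coeff_one.trans (if_neg hn))
  -- lift the constant coefficient to an idempotent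
  have hc : IsNilpotent (e.coeff 0 * e.coeff 0 - e.coeff 0) := by
    rw [← mem_nilradical, nilradical_eq_sInf, Ideal.mem_sInf]
    intro P hP
    haveI : P.IsPrime := hP
    let π := Ideal.Quotient.mk P
    have hidem : IsIdempotentElem (e.map π : HahnSeries ℤ (R ⧸ P)) := by
      show e.map π * e.map π = e.map π
      ext k
      have h := congrArg (fun s => s.coeff k) (HahnSeries.map_mul π.toNonUnitalRingHom (x := e) (y := e))
      rw [he.eq] at h
      exact h.symm
    refine Ideal.Quotient.eq_zero_iff_mem.1 ?_
    rw [map_sub, map_mul, sub_eq_zero]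
    rcases IsIdempotentElem.iff_eq_zero_or_one.1 hidem with h | h
    · rw [show Ideal.Quotient.mk P (e.coeff 0) = 0 from congrArg (fun s : HahnSeries ℤ (R ⧸ P) => s.coeff 0) h, mul_zero]
    · rw [show Ideal.Quotient.mk P (e.coeff 0) = 1 from
        (congrArg (fun s : HahnSeries ℤ (R ⧸ P) => s.coeff 0) h).trans (HahnSeries.coeff_one.trans (if_pos rfl)), mul_one]
  obtain ⟨r, hr, hre⟩ : ∃ r, IsIdempotentElem r ∧ IsNilpotent (e.coeff 0 - r) := by
    obtain ⟨r, hr, hre⟩ := exists_isIdempotentElem_eq_of_ker_isNilpotent (Ideal.Quotient.mk (nilradical R))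
      (fun x hx => by rwa [Ideal.mk_ker, mem_nilradical] at hx) (Ideal.Quotient.mk _ (e.coeff 0)) ⟨_, rfl⟩
      (by rw [IsIdempotentElem, ← map_mul, Ideal.Quotient.eq]; exact hc)
    exact ⟨r, hr, mem_nilradical.1 (Ideal.Quotient.eq.1 hre.symm)⟩
  let d : LaurentSeries R := e - HahnSeries.C r
  have hd : ∀ n, IsNilpotent (d.coeff n) := fun n => by
    rcases eq_or_ne n 0 with rfl | hn
    · simpa [d] using hre
    · simpa [d, HahnSeries.C_apply, HahnSeries.coeff_single_of_ne hn] using hnil n hn
  -- `d = d₋ + (power series)`
  let m : Finset ℤ := Finset.Ico (min (HahnSeries.order d) 0) 0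
  let dneg : LaurentSeries R := ∑ n ∈ m, HahnSeries.single n (d.coeff n)
  have hdneg : IsNilpotent dneg := isNilpotent_sum fun n _ => by
    rw [← mul_one (d.coeff n), show n = 0 + n from (zero_add n).symm, ← HahnSeries.single_mul_single]
    exact Commute.isNilpotent_mul_right (Commute.all _ _) ((hd _).map HahnSeries.C)
  let p : PowerSeries R := PowerSeries.mk fun j => d.coeff (j : ℤ)
  have hsplit : d = dneg + HahnSeries.ofPowerSeries ℤ R p := by
    ext n
    rw [HahnSeries.coeff_add, show dneg.coeff n = if n ∈ m then d.coeff n else 0 by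
      simp only [dneg, HahnSeries.coeff_sum, HahnSeries.coeff_single]
      rw [← Finset.sum_ite_eq m n (fun x => d.coeff x)]
      exact Finset.sum_congr rfl fun x _ => by split_ifs with h1 <;> rfl]
    rcases lt_or_ge n 0 with hn | hn
    · rw [show (HahnSeries.ofPowerSeries ℤ R p).coeff n = 0 by
        rw [PowerSeries.coeff_coe, if_pos hn]]
      split_ifs with h
      · rw [add_zero]
      · rw [add_zero]
        simp only [m, Finset.mem_Ico, not_and_or, not_le] at h
        exact HahnSeries.coeff_eq_zero_of_lt_order (lt_min_iff.1 (h.resolve_right (not_not.2 hn))).1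
    · obtain ⟨j, rfl⟩ := Int.eq_ofNat_of_zero_le hn
      rw [if_neg (by simp [m]), zero_add, LaurentSeries.coeff_coe_powerSeries]
      simp [p]
  have hunit : IsUnit (d * d - 1) := by
    have hp : IsUnit (p * p - 1) := PowerSeries.isUnit_iff_constantCoeff.2 (by
      have hn : IsNilpotent (PowerSeries.constantCoeff p) := by simpa [p] using hd 0
      rw [map_sub, map_mul, map_one]
      exact IsNilpotent.isUnit_sub_one (Commute.isNilpotent_mul_right (Commute.all _ _) hn))
    have h1 := hp.map (HahnSeries.ofPowerSeries ℤ R)
    rw [map_sub, map_mul, map_one] at h1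
    have h2 : IsNilpotent (dneg * (dneg + 2 * HahnSeries.ofPowerSeries ℤ R p)) := Commute.isNilpotent_mul_right (Commute.all _ _) hdneg
    have h3 := h2.isUnit_add_right_of_commute h1 (Commute.all _ _)
    rw [hsplit]
    convert h3 using 1
    ring
  have hrC : IsIdempotentElem (HahnSeries.C r : LaurentSeries R) := hr.map HahnSeries.C
  have hd3 : d * (d * d - 1) = 0 := by
    have h1 : e * e = e := he.eq
    have h2 : (HahnSeries.C r : LaurentSeries R) * HahnSeries.C r = HahnSeries.C r := hrC.eq
    linear_combination (e - 3 * HahnSeries.C r + 1) * h1 + (3 * e - HahnSeries.C r - 1) * h2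
  have hd0 : d = 0 := hunit.mul_left_eq_zero.1 hd3
  refine ⟨r, ⟨hr, (sub_eq_zero.1 hd0).symm⟩, fun s ⟨_, hs⟩ => ?_⟩
  exact HahnSeries.C_injective (hs.trans (sub_eq_zero.1 hd0))

end Groth.Agent.S15749
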