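import Groth.Statements.S15750
import Mathlib.RingTheory.LaurentSeries
import Mathlib.RingTheory.Spectrum.Prime.Topology
import Mathlib.RingTheory.PowerSeries.Inverse
import Mathlib.RingTheory.Idempotents
import Mathlib.RingTheory.Nilpotent.Lemmas

set_option autoImplicit false
universe u
open CAlg

namespace Groth.Agent.S15750

/-- Let R be a nonzero reduced commutative ring with no idempotents other than 0 and 1. Then every unit
of the Laurent series ring R((t)) is t^n · u for a unique integer n and a unique unit u of the power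
series ring R[[t]]. (The published statement is for an arbitrary torus T over a reduced ring R, with
n replaced by a locally constant integer-valued function on Spec R, i.e. a point of the cocharacter
lattice; this row is the case where T is the multiplicative group and Spec R is connected, to which
the published proof reduces.) -/
theorem result (R : Type u) [CommRing R]
    [IsReduced R] [Nontrivial R] (hconn : ∀ e : R, IsIdempotentElem e → e = 0 ∨ e = 1)
    (f : (LaurentSeries R)ˣ) :
    ∃! p : ℤ × (PowerSeries R)ˣ,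
      (f : LaurentSeries R) = HahnSeries.single p.1 (1 : R) * HahnSeries.ofPowerSeries ℤ R (p.2 : PowerSeries R) := by
  classical
  set g : LaurentSeries R := ((f⁻¹ : (LaurentSeries R)ˣ) : LaurentSeries R) with hg
  have hfg : (f : LaurentSeries R) * g = 1 := f.mul_inv
  have hord : ∀ p : PrimeSpectrum R, ∃ n : ℤ, (f : LaurentSeries R).coeff n ∉ p.asIdeal ∧ g.coeff (-n) ∉ p.asIdeal ∧
      (∀ i < n, (f : LaurentSeries R).coeff i ∈ p.asIdeal) ∧ ∀ j < -n, g.coeff j ∈ p.asIdeal := by
    intro p
    let φ := Ideal.Quotient.mk p.asIdeal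
    have h1 : (f : LaurentSeries R).map φ * g.map φ = 1 := by
      refine (HahnSeries.map_mul φ.toNonUnitalRingHom).symm.trans ?_
      rw [hfg]
      exact HahnSeries.map_one φ.toMonoidWithZeroHom
    have hf0 : (f : LaurentSeries R).map φ ≠ 0 := fun h => zero_ne_one (by rwa [h, zero_mul] at h1)
    have hg0 : g.map φ ≠ 0 := fun h => zero_ne_one (by rwa [h, mul_zero] at h1)
    have hsum := HahnSeries.order_mul hf0 hg0
    rw [h1, HahnSeries.order_one] at hsum
    refine ⟨((f : LaurentSeries R).map φ).order, ?_, ?_, fun i hi => ?_, fun j hj => ?_⟩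
    · intro h
      exact HahnSeries.coeff_order_eq_zero.not.2 hf0 (Ideal.Quotient.eq_zero_iff_mem.2 h)
    · rw [show -((f : LaurentSeries R).map φ).order = (g.map φ).order by omega]
      intro h
      exact HahnSeries.coeff_order_eq_zero.not.2 hg0 (Ideal.Quotient.eq_zero_iff_mem.2 h)
    · exact Ideal.Quotient.eq_zero_iff_mem.1 (HahnSeries.coeff_eq_zero_of_lt_order hi)
    · exact Ideal.Quotient.eq_zero_iff_mem.1 (HahnSeries.coeff_eq_zero_of_lt_order (show j < (g.map φ).order by omega))
  choose n hn hn' hlt hlt' using hord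
  obtain ⟨p₀⟩ : Nonempty (PrimeSpectrum R) := inferInstance
  have hconst : ∀ p, n p = n p₀ := by
    let s : Set (PrimeSpectrum R) := {p | n p = n p₀}
    have hop : IsOpen s := by
      refine isOpen_iff_forall_mem_open.2 fun p hp => ?_
      refine ⟨_, fun q hq => ?_, ((PrimeSpectrum.basicOpen ((f : LaurentSeries R).coeff (n p))).isOpen.inter (PrimeSpectrum.basicOpen (g.coeff (-n p))).isOpen), hn p, hn' p⟩
      have h1 : ¬ n p < n q := fun h => hq.1 (hlt q _ h)
      have h2 : ¬ -n p < -n q := fun h => hq.2 (hlt' q _ h)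
      show n q = n p₀
      have hp : n p = n p₀ := hp
      omega
    have hcl : IsClosed s := by
      rw [← isOpen_compl_iff]
      refine isOpen_iff_forall_mem_open.2 fun p hp => ?_
      refine ⟨_, fun q hq => ?_, ((PrimeSpectrum.basicOpen ((f : LaurentSeries R).coeff (n p))).isOpen.inter (PrimeSpectrum.basicOpen (g.coeff (-n p))).isOpen), hn p, hn' p⟩
      have h1 : ¬ n p < n q := fun h => hq.1 (hlt q _ h)
      have h2 : ¬ -n p < -n q := fun h => hq.2 (hlt' q _ h)
      show ¬ n q = n p₀
      have hp : ¬ n p = n p₀ := hp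
      omega
    obtain ⟨e, he, hes⟩ := PrimeSpectrum.isClopen_iff.1 ⟨hcl, hop⟩
    have he1 : e = 1 := (hconn e he).resolve_left fun h => by
      have : p₀ ∈ s := rfl
      rw [hes, h, PrimeSpectrum.basicOpen_zero] at this
      exact this
    intro p
    have : p ∈ s := by rw [hes, he1, PrimeSpectrum.basicOpen_one]; trivial
    exact this
  have hzero : ∀ i < n p₀, (f : LaurentSeries R).coeff i = 0 := fun i hi => by
    refine IsReduced.eq_zero _ ?_
    rw [nilpotent_iff_mem_prime]
    exact fun P hP => hlt ⟨P, hP⟩ i ((hconst _).symm ▸ hi)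
  have hunit : IsUnit ((f : LaurentSeries R).coeff (n p₀)) := by
    by_contra h
    obtain ⟨m, hm, hle⟩ := exists_max_ideal_of_mem_nonunits (mem_nonunits_iff.2 h)
    exact hn ⟨m, hm.isPrime⟩ ((hconst ⟨m, hm.isPrime⟩).symm ▸ hle)
  let P : PowerSeries R := PowerSeries.mk fun k => (f : LaurentSeries R).coeff (n p₀ + k)
  have hP : IsUnit P := by
    rw [PowerSeries.isUnit_iff_constantCoeff, ← PowerSeries.coeff_zero_eq_constantCoeff_apply, PowerSeries.coeff_mk]
    simpa using hunit
  have hcoeff : ∀ (m : ℤ) (Q : PowerSeries R) (i : ℤ), (HahnSeries.single m (1 : R) * HahnSeries.ofPowerSeries ℤ R Q).coeff i =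
      if m ≤ i then PowerSeries.coeff (i - m).toNat Q else 0 := by
    intro m Q i
    have h1 := HahnSeries.coeff_single_mul_add (r := (1 : R)) (x := HahnSeries.ofPowerSeries ℤ R Q) (a := i - m) (b := m)
    rw [sub_add_cancel, one_mul] at h1
    rw [h1]
    by_cases h : m ≤ i
    · rw [if_pos h]
      obtain ⟨k, hk⟩ := Int.eq_ofNat_of_zero_le (sub_nonneg.2 h)
      rw [hk, Int.toNat_natCast, HahnSeries.ofPowerSeries_apply_coeff]
    · rw [if_neg h, HahnSeries.ofPowerSeries_apply, HahnSeries.embDomain_notin_range]
      rintro ⟨k, hk⟩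
      have : (k : ℤ) = i - m := hk
      omega
  refine ⟨(n p₀, hP.unit), HahnSeries.ext (funext fun i => ?_), ?_⟩
  · rw [hcoeff]
    by_cases h : n p₀ ≤ i
    · rw [if_pos h]
      show _ = PowerSeries.coeff _ P
      rw [PowerSeries.coeff_mk, Int.toNat_of_nonneg (sub_nonneg.2 h), add_sub_cancel]
    · rw [if_neg h, hzero i (not_le.1 h)]
  · rintro ⟨m, Q⟩ hQ
    have hQ0 : IsUnit (PowerSeries.coeff 0 (Q : PowerSeries R)) := by
      rw [PowerSeries.coeff_zero_eq_constantCoeff_apply]
      exact Q.isUnit.map _
    have hm : m = n p₀ := by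
      have h1 : ¬ n p₀ < m := fun h => by
        have := hcoeff m Q (n p₀)
        rw [← hQ, if_neg (not_le.2 h)] at this
        exact hunit.ne_zero this
      have h2 : ¬ m < n p₀ := fun h => by
        have := hcoeff m Q m
        rw [← hQ, if_pos le_rfl, sub_self, hzero m h] at this
        exact hQ0.ne_zero this.symm
      omega
    subst hm
    refine Prod.ext rfl (Units.ext (PowerSeries.ext fun k => ?_))
    have := hcoeff (n p₀) Q (n p₀ + k)
    rw [← hQ, if_pos (by omega), add_sub_cancel_left, Int.toNat_natCast] at this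
    rw [← this]
    show _ = PowerSeries.coeff k P
    rw [PowerSeries.coeff_mk]

end Groth.Agent.S15750
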