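import Groth.Statements.S15754
import Groth.Agent.AffineHorrocks.Descent

set_option autoImplicit false
set_option linter.style.haveILetI false
set_option backward.isDefEq.respectTransparency false
open Groth.Agent
universe u
open TensorProduct
open CAlg

namespace Groth.Agent.S15754

/-- For an arbitrary commutative ring R, non-isomorphic finitely generated projective R-modules cannot
become isomorphic over the Laurent series ring R((t)): for an R-algebra L that is R-isomorphic to
R((t)), if L ⊗_R M ≅ L ⊗_R N as L-modules then M ≅ N. (L is R((t)) up to an R-algebra isomorphism;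
it is kept abstract only so that the L-module structure on L ⊗_R M elaborates.) -/
theorem result (R : Type u) [CommRing R]
    (L : Type u) [CommRing L] [Algebra R L] (eL : L ≃ₐ[R] LaurentSeries R)
    (M N : Type u) [AddCommGroup M] [Module R M] [Module.Finite R M] [Module.Projective R M]
    [AddCommGroup N] [Module R N] [Module.Finite R N] [Module.Projective R N]
    (e : L ⊗[R] M ≃ₗ[L] L ⊗[R] N) :
    Nonempty (M ≃ₗ[R] N) := by
  classical
  obtain ⟨n, q, i, -, -, hqi⟩ := Module.Finite.exists_comp_eq_id_of_projective R M
  obtain ⟨m, q', i', -, -, hqi'⟩ := Module.Finite.exists_comp_eq_id_of_projective R N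
  have hq : ∀ z, q (i z) = z := fun z => DFunLike.congr_fun hqi z
  have hq' : ∀ z, q' (i' z) = z := fun z => DFunLike.congr_fun hqi' z
  obtain ⟨x, y, hxy, hyx⟩ := AffHorrocks.exists_matrices_of_equiv L hq hq' e
  have halg : ∀ r : R, eL (algebraMap R L r) = (HahnSeries.C r : LaurentSeries R) := fun r => by
    rw [eL.commutes]
    first
      | rfl
      | exact HahnSeries.ofPowerSeries_C r
      | simp [IsScalarTower.algebraMap_apply R (PowerSeries R) (LaurentSeries R), HahnSeries.ofPowerSeries_C]
  obtain ⟨u, v, huv, hvu⟩ := AffHorrocks.exists_equiv_of_laurentSeries (AffHorrocks.frame_idem hq)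
    (AffHorrocks.frame_idem hq') (x := x.map eL) (y := y.map eL)
    (by rw [← Matrix.map_mul, hxy]; exact Matrix.ext fun a b => halg _)
    (by rw [← Matrix.map_mul, hyx]; exact Matrix.ext fun a b => halg _)
  exact AffHorrocks.nonempty_equiv_of_matrices hq hq' huv hvu

end Groth.Agent.S15754
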