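import Groth.Statements.S15756
import Groth.Agent.RigPts.SmoothNewton
import Groth.Agent.RigPts.ComplEquiv

set_option autoImplicit false
set_option linter.style.haveILetI false
set_option backward.isDefEq.respectTransparency false
open Groth.Agent
universe u
open CAlg

namespace Groth.Agent.S15756

/-- Case of the whole affine base U = Spec A, the unit ideal I = A and an affine scheme X: let A be a
ring with an element t such that (A, tA) is a Henselian pair and the t-power torsion of A is
bounded, let Â be the t-adic completion, and let B be an A-algebra of finite type with B[1/t] smooth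
over A[1/t]. Then every A-algebra homomorphism B → Â is congruent modulo t^n, for any prescribed n,
to an A-algebra homomorphism B → A. (The published statement allows any quasi-compact open U of Spec
A containing Spec A[1/t], any bounded Zariski Gabber–Ramero triple (A, t, I) that is Henselian (or,
instead, satisfies a lifting condition for Zariski pairs over A[1/t]), and U-schemes locally of
finite type that are ind-quasi-affine or subprojective and smooth over A[1/t], and it asserts
density of X(U) in X(U_Â) for the (t, I)-adic topology; this row is the case U = Spec A, I = A, X =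
Spec B affine, under the Henselian alternative.) -/
theorem result (A : Type u) [CommRing A] (t : A)
    [HenselianRing A (Ideal.span {t})]
    (hbd : ∃ N : ℕ, ∀ a : A, (∃ m : ℕ, t ^ m * a = 0) → t ^ N * a = 0)
    (B : Type u) [CommRing B] [Algebra A B] [Algebra.FiniteType A B]
    (hsm : Algebra.Smooth (Localization.Away t)
      (Localization (Algebra.algebraMapSubmonoid B (Submonoid.powers t))))
    (n : ℕ) (σ : B →ₐ[A] AdicCompletion (Ideal.span {t}) A) :
    ∃ τ : B →ₐ[A] A,
      (Ideal.Quotient.mkₐ A (Ideal.span {t} ^ n)).comp τ =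
        (AdicCompletion.evalₐ (Ideal.span {t}) n).comp σ := by
  classical
  obtain ⟨N₀, hN₀⟩ := hbd
  let B' := Localization (Algebra.algebraMapSubmonoid B (Submonoid.powers t))
  haveI : Algebra.Smooth (Localization.Away t) B' := hsm
  haveI : Algebra.Smooth A (Localization.Away t) := Algebra.Smooth.of_isLocalization_Away t
  haveI : Algebra.Smooth A B' := Algebra.Smooth.comp A (Localization.Away t) B'
  haveI : IsLocalization (Submonoid.powers (algebraMap A B t)) B' := by
    rw [← Algebra.algebraMapSubmonoid_powers]
    exact inferInstanceAs (IsLocalization (Algebra.algebraMapSubmonoid B (Submonoid.powers t)) B')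
  let e : B' ≃ₐ[A] RigPts.Aw B t :=
    (IsLocalization.algEquiv (Submonoid.powers (algebraMap A B t)) B' (RigPts.Aw B t)).restrictScalars A
  haveI : Algebra.Smooth A (RigPts.Aw B t) := Algebra.Smooth.of_equiv e
  obtain ⟨k, π, hπ⟩ := Algebra.FiniteType.iff_quotient_mvPolynomial''.1 (inferInstance : Algebra.FiniteType A B)
  obtain ⟨r, f, g, c, hf, hg, hrel, htors⟩ := RigPts.exists_smooth_system t π hπ
  let a := N₀ + 2 * c + 1 + n
  let I : Ideal A := Ideal.span {t}
  choose x₀ hx₀ using fun i => Ideal.Quotient.mk_surjective (AdicCompletion.evalₐ I (a + c) (σ (π (MvPolynomial.X i))))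
  have hev : ∀ (m : ℕ), m ≤ a + c → ∀ p : MvPolynomial (Fin k) A,
      Ideal.Quotient.mk (I ^ m) (MvPolynomial.eval x₀ p) = AdicCompletion.evalₐ I m (σ (π p)) := by
    intro m hm p
    induction p using MvPolynomial.induction_on with
    | C b =>
      rw [MvPolynomial.eval_C, ← MvPolynomial.algebraMap_eq, AlgHom.commutes, AlgHom.commutes, AlgHom.commutes]
      rfl
    | add p q hp hq => simp only [map_add, hp, hq]
    | mul_X p i hp =>
      simp only [map_mul, MvPolynomial.eval_X, hp]
      rw [← RigPts.evalₐ_compat I hm (σ (π (MvPolynomial.X i))), ← hx₀ i]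
      rfl
  have hpow : ∀ m, I ^ m = Ideal.span {t ^ m} := fun m => Ideal.span_singleton_pow t m
  have hx₀J : ∀ p, π p = 0 → MvPolynomial.eval x₀ p ∈ Ideal.span {t ^ (a + c)} := fun p hp => by
    rw [← hpow, ← Ideal.Quotient.eq_zero_iff_mem, hev _ le_rfl, hp, map_zero, map_zero]
  obtain ⟨x, hx, hxf⟩ := RigPts.smooth_newton t N₀ hN₀ f g hg c hrel a (by omega) (by omega) x₀
    fun i => hx₀J _ (hf i)
  have hker : RingHom.ker π ≤ RingHom.ker (MvPolynomial.eval x) := by
    intro p hp
    rw [RingHom.mem_ker]
    obtain ⟨m, hm⟩ := htors p hp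
    have hle : Ideal.span (Set.range f) ≤ RingHom.ker (MvPolynomial.eval x) := Ideal.span_le.2 (by
      rintro _ ⟨i, rfl⟩
      exact hxf i)
    have h1 : MvPolynomial.eval x (MvPolynomial.C (t ^ m) * p) = 0 := hle hm
    rw [map_mul, MvPolynomial.eval_C] at h1
    have h2 : MvPolynomial.eval x p ∈ Ideal.span {t ^ a} := by
      have h := add_mem (Hensel.eval_sub_eval_mem p hx)
        (Ideal.span_singleton_le_span_singleton.2 (pow_dvd_pow t (Nat.le_add_right a c)) (hx₀J p hp))
      rwa [sub_add_cancel] at h
    obtain ⟨w, hw⟩ := Ideal.mem_span_singleton'.1 h2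
    have h3 := hN₀ w ⟨m + a, by rw [pow_add, mul_assoc, mul_comm (t ^ a) w, hw, h1]⟩
    rw [← hw, ← Nat.sub_add_cancel (show N₀ ≤ a by omega), pow_add]
    calc w * (t ^ (a - N₀) * t ^ N₀) = t ^ (a - N₀) * (t ^ N₀ * w) := by ring
      _ = 0 := by rw [h3, mul_zero]
  let τ : B →ₐ[A] A := AlgHom.liftOfSurjective π hπ (MvPolynomial.aeval x) (by
    intro p hp
    show MvPolynomial.aeval x p = 0
    rw [MvPolynomial.aeval_eq_eval]
    exact hker hp)
  refine ⟨τ, AlgHom.ext fun b => ?_⟩
  obtain ⟨p, rfl⟩ := hπ b
  have hτ : τ (π p) = MvPolynomial.eval x p := by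
    rw [show τ (π p) = MvPolynomial.aeval x p from AlgHom.liftOfSurjective_apply π hπ _ _ p, MvPolynomial.aeval_eq_eval]
  show Ideal.Quotient.mk (I ^ n) (τ (π p)) = AdicCompletion.evalₐ I n (σ (π p))
  rw [hτ, ← hev n (by omega) p, Ideal.Quotient.eq, hpow]
  exact Ideal.span_singleton_le_span_singleton.2 (pow_dvd_pow t (by omega)) (Hensel.eval_sub_eval_mem p hx)

end Groth.Agent.S15756
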