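import Groth.Statements.S15759
import Groth.Agent.AffineHorrocks.Dense

set_option autoImplicit false
set_option linter.style.haveILetI false
set_option backward.isDefEq.respectTransparency false
open Groth.Agent
universe u
open Polynomial TensorProduct
open CAlg

namespace Groth.Agent.S15759

/-- Let R be a ring, L = R(t) the localisation of R[t] at the monoid generated by t and the polynomials
with constant term 1 (that is, (R[t]_{1+tR[t]})[1/t]), and L' an L-algebra identified with R((t))
compatibly with R[t] → R((t)). Then (b) finitely generated projective L-modules that become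
isomorphic over L' are isomorphic, and (c) every stably free L'-module is the base change of a
stably free L-module. -/
theorem result (R : Type u) [CommRing R]
    (L : Type u) [CommRing L] [Algebra R[X] L]
    [IsLocalization (Submonoid.closure ({f : R[X] | f.coeff 0 = 1} ∪ {X})) L]
    (L' : Type u) [CommRing L'] [Algebra L L'] (e : L' ≃+* LaurentSeries R)
    (he : ∀ p : R[X], e (algebraMap L L' (algebraMap R[X] L p)) =
      HahnSeries.ofPowerSeries ℤ R (Polynomial.coeToPowerSeries.ringHom p)) :
    (∀ (M N : Type u) [AddCommGroup M] [Module L M] [Module.Finite L M] [Module.Projective L M]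
        [AddCommGroup N] [Module L N] [Module.Finite L N] [Module.Projective L N],
        Nonempty (L' ⊗[L] M ≃ₗ[L'] L' ⊗[L] N) → Nonempty (M ≃ₗ[L] N)) ∧
    (∀ (M' : Type u) [AddCommGroup M'] [Module L' M'] [Module.Finite L' M'],
        (∃ n m : ℕ, Nonempty ((M' × (Fin n → L')) ≃ₗ[L'] (Fin m → L'))) →
        ∃ (M : Type u) (_ : AddCommGroup M) (_ : Module L M), Module.Finite L M ∧
          (∃ n m : ℕ, Nonempty ((M × (Fin n → L)) ≃ₗ[L] (Fin m → L))) ∧
          Nonempty (L' ⊗[L] M ≃ₗ[L'] M')) := by
  classical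
  let up : PowerSeries R →+* LaurentSeries R := HahnSeries.ofPowerSeries ℤ R
  let φ := algebraMap L L'
  let co : R[X] →+* PowerSeries R := Polynomial.coeToPowerSeries.ringHom
  let τ : L := algebraMap R[X] L Polynomial.X
  have heφ : ∀ p : R[X], e (φ (algebraMap R[X] L p)) = up (co p) := he
  have heτ : e (φ τ) = up PowerSeries.X := by rw [heφ]; simp [co]
  have hS : ∀ s ∈ Submonoid.closure ({f : R[X] | f.coeff 0 = 1} ∪ {Polynomial.X}),
      ∃ (a : ℕ) (g : R[X]), g.coeff 0 = 1 ∧ s = Polynomial.X ^ a * g := by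
    intro s hs
    induction hs using Submonoid.closure_induction with
    | mem x hx =>
      rcases hx with hx | hx
      · exact ⟨0, x, hx, by simp⟩
      · exact ⟨1, 1, by simp, by simp [Set.mem_singleton_iff.1 hx]⟩
    | one => exact ⟨0, 1, by simp, by simp⟩
    | mul x y _ _ hx hy =>
      obtain ⟨a, g, hg, rfl⟩ := hx
      obtain ⟨b, h, hh, rfl⟩ := hy
      exact ⟨a + b, g * h, by rw [Polynomial.mul_coeff_zero, hg, hh, one_mul], by ring⟩
  have hτu : IsUnit τ := IsLocalization.map_units L (⟨Polynomial.X, Submonoid.subset_closure (Or.inr rfl)⟩ :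
    Submonoid.closure ({f : R[X] | f.coeff 0 = 1} ∪ {Polynomial.X}))
  have htu : IsUnit (φ τ) := hτu.map φ
  have hclear : ∀ z : L', ∃ (K : ℕ) (q : PowerSeries R), e (φ τ ^ K * z) = up q := by
    intro z
    refine ⟨(-(e z).order).toNat, LaurentSeries.powerSeriesPart (e z) *
      PowerSeries.X ^ (((-(e z).order).toNat : ℤ) + (e z).order).toNat, ?_⟩
    simp only [map_mul, map_pow, heτ, up]
    rw [← map_pow, ← map_pow, LaurentSeries.ofPowerSeries_powerSeriesPart, HahnSeries.ofPowerSeries_X_pow,
      HahnSeries.ofPowerSeries_X_pow, mul_right_comm, HahnSeries.single_mul_single, one_mul,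
      Int.toNat_of_nonneg (a := ((-(e z).order).toNat : ℤ) + (e z).order) (by omega)]
    rw [show -(e z).order + (((-(e z).order).toNat : ℤ) + (e z).order) = (((-(e z).order).toNat : ℕ) : ℤ) by omega]
  let D : AffHorrocks.DenseData L L' :=
    { J := {z | ∃ q : PowerSeries R, e z = up (PowerSeries.X * q)}
      τ := τ
      zero_mem := ⟨0, by simp⟩
      add_mem := fun ⟨p, hp⟩ ⟨q, hq⟩ => ⟨p + q, by rw [map_add, hp, hq, ← map_add, ← mul_add]⟩
      neg_mem := fun ⟨p, hp⟩ => ⟨-p, by rw [map_neg, hp, mul_neg, ← map_neg]⟩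
      mul_mem := fun ⟨p, hp⟩ ⟨q, hq⟩ => ⟨p * (PowerSeries.X * q), by rw [map_mul, hp, hq, ← map_mul, mul_assoc]⟩
      tau_mul := fun ⟨p, hp⟩ => ⟨PowerSeries.X * p, by rw [map_mul, heτ, hp, ← map_mul]⟩
      scale := fun z => by
        obtain ⟨K, q, hq⟩ := hclear z
        exact ⟨K + 1, q, by rw [pow_succ', mul_assoc, map_mul, heτ, hq, ← map_mul]⟩
      approx := fun z N => by
        obtain ⟨K, q, hq⟩ := hclear z
        obtain ⟨r, hr⟩ : (PowerSeries.X : PowerSeries R) ^ (K + N + 1) ∣ co (PowerSeries.trunc (K + N + 1) q) - q :=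
          PowerSeries.X_pow_dvd_iff.2 fun l hl => by simp [co, PowerSeries.coeff_trunc, hl]
        obtain ⟨v, hv⟩ := (hτu.pow K).exists_left_inv
        refine ⟨v * algebraMap R[X] L (PowerSeries.trunc (K + N + 1) q), e.symm (up (PowerSeries.X * r)),
          ⟨r, e.apply_symm_apply _⟩, (htu.pow K).mul_left_cancel (e.injective ?_)⟩
        have hv' : φ τ ^ K * φ v = 1 := by rw [← map_pow, ← map_mul, mul_comm, hv, map_one]
        rw [mul_sub, map_mul, ← mul_assoc, hv', one_mul, map_sub e, heφ, hq, ← map_sub, hr]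
        rw [map_mul e, map_mul e, map_pow e, map_pow e, e.apply_symm_apply]
        simp only [show e (algebraMap L L' τ) = up PowerSeries.X from heτ, heτ]
        simp only [map_mul, map_pow, pow_add, pow_one]
        ring
      unit' := fun j ⟨q, hq⟩ => by
        refine (MulEquiv.isUnit_map e).1 ?_
        rw [map_add, map_one, hq, ← map_one up, ← map_add]
        exact (PowerSeries.isUnit_iff_constantCoeff.2 (by simp)).map up
      unit := fun l ⟨q, hq⟩ => by
        obtain ⟨⟨p, s⟩, hps⟩ := IsLocalization.surj (Submonoid.closure ({f : R[X] | f.coeff 0 = 1} ∪ {Polynomial.X})) l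
        obtain ⟨a, g, hg, hsg⟩ := hS s s.2
        have h1 : co p = co (s : R[X]) * (PowerSeries.X * q) := HahnSeries.ofPowerSeries_injective (by
          show up (co p) = up (co (s : R[X]) * (PowerSeries.X * q))
          rw [map_mul up, ← hq, ← heφ, ← heφ, ← map_mul e, ← map_mul φ, mul_comm _ l, hps])
        obtain ⟨p', hp'⟩ : Polynomial.X ^ (a + 1) ∣ p := by
          refine Polynomial.X_pow_dvd_iff.2 fun d hd => ?_
          have h2 : (PowerSeries.X : PowerSeries R) ^ (a + 1) ∣ co p :=
            ⟨co g * q, by rw [h1, hsg]; simp [co]; ring⟩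
          simpa [co] using PowerSeries.X_pow_dvd_iff.1 h2 d hd
        have hm : (s : R[X]) + p ∈ Submonoid.closure ({f : R[X] | f.coeff 0 = 1} ∪ {Polynomial.X}) := by
          rw [hsg, hp', pow_succ, mul_assoc, ← mul_add]
          refine mul_mem (pow_mem ?_ a) ?_
          · exact Submonoid.subset_closure (Set.mem_union_right _ rfl)
          · refine Submonoid.subset_closure (Set.mem_union_left _ ?_)
            simp [hg]
        have h3 : IsUnit ((1 + l) * algebraMap R[X] L (s : R[X])) := by
          rw [add_mul, one_mul, hps, ← map_add]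
          exact IsLocalization.map_units L ⟨_, hm⟩
        exact isUnit_of_mul_isUnit_left h3 }
  refine ⟨fun M N _ _ _ _ _ _ _ _ => D.nonempty_linearEquiv M N, fun M' _ _ _ h => ?_⟩
  obtain ⟨n, m, ⟨ψ⟩⟩ := h
  obtain ⟨M, _, _, hfin, hiso, hbc⟩ := D.exists_stablyFree M' n m ψ
  exact ⟨M, inferInstance, inferInstance, hfin, ⟨n, m, hiso⟩, hbc⟩

end Groth.Agent.S15759
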