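import Groth.Statements.S15765
import Mathlib.AlgebraicGeometry.QuasiAffine
import Mathlib.Topology.Algebra.Ring.Basic
import Mathlib.Topology.ContinuousOn

set_option autoImplicit false
set_option backward.isDefEq.respectTransparency false
set_option linter.style.haveILetI false
universe u
open CategoryTheory AlgebraicGeometry
open CAlg

namespace Groth.Agent.S15765

/-- Let B be a topological ring in which the units form an open subset, B₀ → B a ring map with dense
image and X a quasi-affine scheme over B₀. Then the image of any B-point Spec B → X over B₀ is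
contained in an affine open of X. (The published statement allows X ind-quasi-affine, i.e. with all
quasi-compact opens quasi-affine; since a B-point lands in a quasi-compact open, this row's
quasi-affine case carries the content.) -/
theorem result (B : Type u) [CommRing B] [TopologicalSpace B]
    [IsTopologicalRing B] (hB : IsOpen {b : B | IsUnit b})
    (B₀ : Type u) [CommRing B₀] (φ : B₀ →+* B) (hφ : DenseRange φ)
    (X : Scheme.{u}) [X.IsQuasiAffine] (p : X ⟶ Spec (CommRingCat.of B₀))
    (f : Spec (CommRingCat.of B) ⟶ X) (hf : f ≫ p = Spec.map (CommRingCat.ofHom φ)) :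
    ∃ U : X.Opens, IsAffineOpen U ∧ Set.range f.base ⊆ (U : Set X) := by
  classical
  let A := Γ(X, ⊤)
  let α : B₀ →+* A := ((Scheme.ΓSpecIso (CommRingCat.of B₀)).inv ≫ p.appTop).hom
  let β : A →+* B := (f.appTop ≫ (Scheme.ΓSpecIso (CommRingCat.of B)).hom).hom
  have hαβ : β.comp α = φ := by
    have h1 : p.appTop ≫ f.appTop = (Spec.map (CommRingCat.ofHom φ)).appTop := by
      rw [← Scheme.Hom.comp_appTop, hf]
    have h2 : ((Scheme.ΓSpecIso (CommRingCat.of B₀)).inv ≫ p.appTop) ≫ f.appTop ≫ (Scheme.ΓSpecIso (CommRingCat.of B)).hom =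
        CommRingCat.ofHom φ := by
      rw [Category.assoc, ← Category.assoc p.appTop, h1, Scheme.ΓSpecIso_naturality, Iso.inv_hom_id_assoc]
    exact congrArg CommRingCat.Hom.hom h2
  -- `X` is an open subscheme of `Spec A`
  let W : Set (PrimeSpectrum A) := Set.range X.toSpecΓ
  obtain ⟨s, hs⟩ : ∃ s : Set A, W = (PrimeSpectrum.zeroLocus s)ᶜ := by
    obtain ⟨s, hs⟩ := (PrimeSpectrum.isOpen_iff W).mp X.toSpecΓ.opensRange.2
    exact ⟨s, by rw [← hs, compl_compl]⟩
  have hbo : ∀ r ∈ Ideal.span s, (PrimeSpectrum.basicOpen r : Set (PrimeSpectrum A)) ⊆ W := by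
    intro r hr P hP
    rw [hs]
    intro hPs
    exact hP ((Ideal.span_le.mpr hPs : Ideal.span s ≤ P.asIdeal) hr)
  have hcomp : ∀ Q, (f ≫ X.toSpecΓ) Q = PrimeSpectrum.comap β Q := by
    intro Q
    have e : f ≫ X.toSpecΓ = Spec.map (f.appTop ≫ (Scheme.ΓSpecIso (CommRingCat.of B)).hom) := by
      rw [Scheme.toSpecΓ_naturality, Spec.map_comp, ← Scheme.isoSpec_Spec_hom]
      rfl
    rw [e]
    rfl
  have htop : (Ideal.span s).map β = ⊤ := by
    by_contra hne
    obtain ⟨Q, hQ, hle⟩ := Ideal.exists_le_maximal _ hne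
    have hmem : (PrimeSpectrum.comap β ⟨Q, hQ.isPrime⟩) ∈ W := by
      rw [← hcomp]
      exact ⟨f _, rfl⟩
    rw [hs] at hmem
    exact hmem fun a ha => hle (Ideal.mem_map_of_mem β (Ideal.subset_span ha))
  -- perturb a relation `1 = Σ bᵢ aᵢ`
  have hone : (1 : B) ∈ Ideal.span (β '' s) := by rw [← Ideal.map_span, htop]; trivial
  obtain ⟨m, b, v, hv⟩ := (Submodule.mem_span_set' (R := B)).mp hone
  let g : (Fin m → B) → B := fun x => ∑ i, x i * (v i : B)
  have hg : Continuous g := continuous_finset_sum _ fun i _ => (continuous_apply i).mul continuous_const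
  have hO : IsOpen (g ⁻¹' {b | IsUnit b}) := hB.preimage hg
  have hne : (g ⁻¹' {b | IsUnit b}).Nonempty := ⟨b, by
    show IsUnit (∑ i, b i * (v i : B))
    rw [show ∑ i, b i * (v i : B) = 1 from hv]
    exact isUnit_one⟩
  have hd : DenseRange (Pi.map fun _ : Fin m => (φ : B₀ → B)) := DenseRange.piMap fun _ => hφ
  obtain ⟨c, hc⟩ := hd.exists_mem_open hO hne
  choose w hws hwv using fun i => (v i).2
  let r : A := ∑ i, α (c i) * w i
  have hr : r ∈ Ideal.span s := sum_mem fun i _ => Ideal.mul_mem_left _ _ (Ideal.subset_span (hws i))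
  have hru : IsUnit (β r) := by
    have : β r = g (Pi.map (fun _ : Fin m => (φ : B₀ → B)) c) := by
      simp only [r, g, map_sum, map_mul, hwv, Pi.map_apply, ← hαβ, RingHom.comp_apply]
    rw [this]
    exact hc
  refine ⟨X.basicOpen r, ?_, ?_⟩
  · rw [← Scheme.toSpecΓ_preimage_basicOpen, ← Scheme.Hom.isAffineOpen_iff_of_isOpenImmersion X.toSpecΓ]
    convert! IsAffineOpen.Spec_basicOpen r
    exact SetLike.coe_injective (Set.image_preimage_eq_of_subset (hbo r hr))
  · rintro _ ⟨Q, rfl⟩
    rw [← Scheme.toSpecΓ_preimage_basicOpen]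
    show X.toSpecΓ (f Q) ∈ PrimeSpectrum.basicOpen r
    rw [← Scheme.Hom.comp_apply, hcomp]
    exact fun h => (Q : PrimeSpectrum B).isPrime.ne_top (Ideal.eq_top_of_isUnit_mem _ h hru)

end Groth.Agent.S15765
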