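import Groth.Statements.S15768
import Groth.Agent.AffineHorrocks.DenseInst

set_option autoImplicit false
set_option linter.style.haveILetI false
set_option backward.isDefEq.respectTransparency false
open Groth.Agent
universe u
open Polynomial
open CAlg

namespace Groth.Agent.S15768

/-- For any ring R and a henselization B of R[t] along (t), every idempotent of B[1/t] comes from a
unique idempotent of R under R → R[t] → B → B[1/t]. -/
theorem result (R : Type u) [CommRing R]
    (B : Type u) [CommRing B] [Algebra R[X] B] (hB : Hens2.IsPairHenselization R[X] (Ideal.span {(X : R[X])}) B)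
    (e : Localization.Away (algebraMap R[X] B X)) (he : IsIdempotentElem e) :
    ∃! r : R, IsIdempotentElem r ∧
      algebraMap B (Localization.Away (algebraMap R[X] B X)) (algebraMap R[X] B (Polynomial.C r)) = e := by
  obtain ⟨g, hg, -⟩ := hB.2 (PowerSeries R) (Ideal.span {PowerSeries.X}) Polynomial.coeToPowerSeries.ringHom
    inferInstance (by rw [Ideal.map_span, Set.image_singleton]; simp)
  let ψ : B →ₐ[R[X]] PowerSeries R := { g with
    commutes' := fun p => by
      show g _ = _
      rw [← RingHom.comp_apply, hg]
      simp [PowerSeries.algebraMap_apply'] }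
  have hu : IsUnit (((HahnSeries.ofPowerSeries ℤ R).comp ψ.toRingHom) (algebraMap R[X] B X)) := by
    refine IsUnit.of_mul_eq_one (HahnSeries.single (-1 : ℤ) 1) ?_
    show HahnSeries.ofPowerSeries ℤ R (ψ _) * _ = 1
    rw [AffHorrocks.psi_X, HahnSeries.ofPowerSeries_X, HahnSeries.single_mul_single, one_mul]
    rfl
  letI : Algebra (Localization.Away (algebraMap R[X] B X)) (LaurentSeries R) :=
    (IsLocalization.Away.lift (algebraMap R[X] B X) hu).toAlgebra
  have he' : ∀ b : B, RingEquiv.refl (LaurentSeries R) (algebraMap (Localization.Away (algebraMap R[X] B X)) _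
      (algebraMap B _ b)) = HahnSeries.ofPowerSeries ℤ R (ψ b) :=
    fun b => IsLocalization.Away.lift_eq _ hu b
  have hC : ∀ r : R, algebraMap (Localization.Away (algebraMap R[X] B X)) (LaurentSeries R)
      (algebraMap B _ (algebraMap R[X] B (Polynomial.C r))) = HahnSeries.C r := fun r =>
    (he' _).trans (by rw [AffHorrocks.psi_algebraMap]; simp)
  let D := AffHorrocks.laurentDense hB ψ (RingEquiv.refl _) he'
  obtain ⟨r, hr, hr'⟩ := AffHorrocks.idempotent_laurentSeries _ (he.map (algebraMap _ (LaurentSeries R)))
  refine ⟨r, ⟨hr, D.idempotent_ext (((hr.map (Polynomial.C : R →+* R[X])).map (algebraMap R[X] B)).map (algebraMap B _)) he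
    ((hC r).trans hr'.symm)⟩, fun s ⟨_, hs⟩ => HahnSeries.C_injective (Γ := ℤ) ?_⟩
  rw [← hC s, hs, hr']

end Groth.Agent.S15768
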