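import Groth.Statements.S15769
import Groth.Agent.EtGlueLib.Basic
import Groth.Prelude.Def_EtGlue

set_option autoImplicit false
universe u
open CategoryTheory AlgebraicGeometry
open CAlg

namespace Groth.Agent.S15769

/-- The glueing pair of the hypotheses. -/
theorem pair {A A' : Type u} [CommRing A] [CommRing A'] [Algebra A A'] (t : A)
    (hq : ∀ m : ℕ, Function.Bijective (Ideal.quotientMap (Ideal.map (algebraMap A A') (Ideal.span {t} ^ m))
      (algebraMap A A') Ideal.le_comap_map))
    (htor : ∀ a' : A', (∃ m : ℕ, algebraMap A A' t ^ m * a' = 0) →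
      ∃! a : A, (∃ m : ℕ, t ^ m * a = 0) ∧ algebraMap A A' a = a') :
    EtGlue.IsGlueingPair A A' t := by
  have hq' : EtGlue.QuotPowBijective A A' t := fun n _ => by
    have key : ∀ J, J = Ideal.span {t} ^ n → Function.Bijective
        (Ideal.quotientMap (Ideal.map (algebraMap A A') J) (algebraMap A A') Ideal.le_comap_map) := by
      rintro J rfl; exact hq n
    exact key _ (Ideal.span_singleton_pow t n).symm
  refine (EtGlueLib.isGlueingPair_iff hq').2 ⟨fun x hx hx0 => ?_, fun x' hx' => ?_⟩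
  · obtain ⟨a, -, hu⟩ := htor 0 ⟨0, mul_zero _⟩
    exact (hu x ⟨hx, hx0⟩).trans (hu 0 ⟨⟨0, mul_zero _⟩, map_zero _⟩).symm
  · exact (htor x' hx').exists

variable {A A' : Type u} [CommRing A] [CommRing A'] [Algebra A A'] {t : A}

/-- Ring maps into the first ring glue. -/
theorem exists_ringHom (h : EtGlue.IsGlueingPair A A' t) {D : Type u} [CommRing D] (β₀ : D →+* A')
    (β₁ : D →+* Localization.Away t)
    (he : (algebraMap A' (Localization.Away (algebraMap A A' t))).comp β₀ =
      (Localization.awayMap (algebraMap A A') t).comp β₁) :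
    ∃ β : D →+* A, (algebraMap A A').comp β = β₀ ∧ (algebraMap A (Localization.Away t)).comp β = β₁ := by
  have hm : ∀ d, ∃ r : A, algebraMap A A' r = β₀ d ∧ algebraMap A (Localization.Away t) r = β₁ d := fun d =>
    h.2.2.1 _ _ (RingHom.congr_fun he d)
  choose β hβ0 hβ1 using hm
  refine ⟨
    { toFun := β
      map_one' := h.2.1 (Prod.ext (by simp [hβ0]) (by simp [hβ1]))
      map_mul' := fun a b => h.2.1 (Prod.ext (by simp [hβ0]) (by simp [hβ1]))
      map_zero' := h.2.1 (Prod.ext (by simp [hβ0]) (by simp [hβ1]))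
      map_add' := fun a b => h.2.1 (Prod.ext (by simp [hβ0]) (by simp [hβ1])) },
    RingHom.ext hβ0, RingHom.ext hβ1⟩

theorem hom_ext (h : EtGlue.IsGlueingPair A A' t) {D : CommRingCat.{u}} {α β : Spec (CommRingCat.of A) ⟶ Spec D}
    (e₀ : Spec.map (CommRingCat.ofHom (algebraMap A A')) ≫ α = Spec.map (CommRingCat.ofHom (algebraMap A A')) ≫ β)
    (e₁ : Spec.map (CommRingCat.ofHom (algebraMap A (Localization.Away t))) ≫ α =
      Spec.map (CommRingCat.ofHom (algebraMap A (Localization.Away t))) ≫ β) : α = β := by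
  rw [← Spec.map_preimage α, ← Spec.map_preimage β] at e₀ e₁ ⊢
  rw [← Spec.map_comp, ← Spec.map_comp] at e₀ e₁
  congr 1
  ext d
  exact h.2.1 (Prod.ext (RingHom.congr_fun (congrArg CommRingCat.Hom.hom (Spec.map_injective e₀)) d)
    (RingHom.congr_fun (congrArg CommRingCat.Hom.hom (Spec.map_injective e₁)) d))

theorem mem_range (h : EtGlue.IsGlueingPair A A' t) (p : PrimeSpectrum A) :
    p ∈ Set.range (PrimeSpectrum.comap (algebraMap A A')) ∨
      p ∈ Set.range (PrimeSpectrum.comap (algebraMap A (Localization.Away t))) := by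
  by_cases hp : t ∈ p.asIdeal
  · left
    let e : A ⧸ Ideal.span {t ^ 1} ≃+* A' ⧸ Ideal.map (algebraMap A A') (Ideal.span {t ^ 1}) :=
      RingEquiv.ofBijective _ (h.1 1 Nat.one_pos)
    let ψ : A ⧸ Ideal.span {t ^ 1} →+* A ⧸ p.asIdeal := Ideal.Quotient.factor (by
      rw [Ideal.span_le, Set.singleton_subset_iff, pow_one]; exact hp)
    let χ : A' →+* A ⧸ p.asIdeal := ψ.comp (e.symm.toRingHom.comp (Ideal.Quotient.mk _))
    refine ⟨⟨RingHom.ker χ, RingHom.ker_isPrime _⟩, PrimeSpectrum.ext (Ideal.ext fun x => ?_)⟩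
    have : χ (algebraMap A A' x) = Ideal.Quotient.mk p.asIdeal x := by
      show ψ (e.symm (Ideal.Quotient.mk _ (algebraMap A A' x))) = _
      rw [show Ideal.Quotient.mk (Ideal.map (algebraMap A A') (Ideal.span {t ^ 1})) (algebraMap A A' x) =
        e (Ideal.Quotient.mk _ x) from rfl, RingEquiv.symm_apply_apply]
      rfl
    show χ (algebraMap A A' x) = 0 ↔ _
    rw [this, Ideal.Quotient.eq_zero_iff_mem]
  · right
    rw [PrimeSpectrum.localization_away_comap_range (Localization.Away t) t]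
    exact hp

theorem exists_point (h : EtGlue.IsGlueingPair A A' t) (X : Scheme.{u}) [X.IsQuasiAffine]
    (x' : Spec (CommRingCat.of A') ⟶ X) (xt : Spec (CommRingCat.of (Localization.Away t)) ⟶ X)
    (he : Spec.map (CommRingCat.ofHom (algebraMap A' (Localization.Away (algebraMap A A' t)))) ≫ x' =
      Spec.map (CommRingCat.ofHom (Localization.awayMap (algebraMap A A') t)) ≫ xt) :
    ∃ s : Spec (CommRingCat.of A) ⟶ X, Spec.map (CommRingCat.ofHom (algebraMap A A')) ≫ s = x' ∧
      Spec.map (CommRingCat.ofHom (algebraMap A (Localization.Away t))) ≫ s = xt := by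
  have e : Spec.preimage (x' ≫ X.toSpecΓ) ≫
        CommRingCat.ofHom (algebraMap A' (Localization.Away (algebraMap A A' t))) =
      Spec.preimage (xt ≫ X.toSpecΓ) ≫ CommRingCat.ofHom (Localization.awayMap (algebraMap A A') t) :=
    Spec.map_injective (by rw [Spec.map_comp, Spec.map_comp, Spec.map_preimage, Spec.map_preimage, reassoc_of% he])
  obtain ⟨β, h0, h1⟩ := exists_ringHom h (Spec.preimage (x' ≫ X.toSpecΓ)).hom (Spec.preimage (xt ≫ X.toSpecΓ)).hom
    (congrArg CommRingCat.Hom.hom e)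
  let α : Spec (CommRingCat.of A) ⟶ Spec Γ(X, ⊤) := Spec.map (CommRingCat.ofHom β)
  have hα0 : Spec.map (CommRingCat.ofHom (algebraMap A A')) ≫ α = x' ≫ X.toSpecΓ := by
    rw [← Spec.map_comp, ← Spec.map_preimage (x' ≫ X.toSpecΓ)]; exact congrArg Spec.map (CommRingCat.hom_ext h0)
  have hα1 : Spec.map (CommRingCat.ofHom (algebraMap A (Localization.Away t))) ≫ α = xt ≫ X.toSpecΓ := by
    rw [← Spec.map_comp, ← Spec.map_preimage (xt ≫ X.toSpecΓ)]; exact congrArg Spec.map (CommRingCat.hom_ext h1)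
  have hsub : Set.range α ⊆ Set.range X.toSpecΓ := by
    rintro _ ⟨p, rfl⟩
    rcases mem_range h p with ⟨q, rfl⟩ | ⟨q, rfl⟩
    · exact ⟨x' q, (congrArg (fun m => m q) hα0).symm⟩
    · exact ⟨xt q, (congrArg (fun m => m q) hα1).symm⟩
  refine ⟨IsOpenImmersion.lift X.toSpecΓ α hsub, (cancel_mono X.toSpecΓ).1 ?_, (cancel_mono X.toSpecΓ).1 ?_⟩
  · rw [Category.assoc, IsOpenImmersion.lift_fac, hα0]
  · rw [Category.assoc, IsOpenImmersion.lift_fac, hα1]

/-- Case of a quasi-affine X over U = Spec A: let φ : A → A' and t ∈ A be such that A/t^m → A'/t^m is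
bijective for every m and φ restricts to a bijection between the t-power-torsion submodules; let X
be a quasi-affine scheme over Spec A. Then sections of X over Spec A correspond bijectively to pairs
of an A'-point and an A[1/t]-point of X over A that agree over A'[1/t]. (The published statement
allows a flat A-scheme U as base and X either ind-quasi-affine or subprojective over U; this row is
U = Spec A with X quasi-affine.) -/
theorem result (A A' : Type u) [CommRing A] [CommRing A']
    (φ : A →+* A') (t : A)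
    (hq : ∀ m : ℕ, Function.Bijective (Ideal.quotientMap (Ideal.map φ (Ideal.span {t} ^ m)) φ Ideal.le_comap_map))
    (htor : ∀ a' : A', (∃ m : ℕ, φ t ^ m * a' = 0) → ∃! a : A, (∃ m : ℕ, t ^ m * a = 0) ∧ φ a = a')
    (X : Scheme.{u}) [X.IsQuasiAffine] (p : X ⟶ Spec (CommRingCat.of A)) :
    (∀ s₁ s₂ : Spec (CommRingCat.of A) ⟶ X, s₁ ≫ p = 𝟙 _ → s₂ ≫ p = 𝟙 _ →
        Spec.map (CommRingCat.ofHom φ) ≫ s₁ = Spec.map (CommRingCat.ofHom φ) ≫ s₂ →
        Spec.map (CommRingCat.ofHom (algebraMap A (Localization.Away t))) ≫ s₁ =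
          Spec.map (CommRingCat.ofHom (algebraMap A (Localization.Away t))) ≫ s₂ →
        s₁ = s₂) ∧
    (∀ (x' : Spec (CommRingCat.of A') ⟶ X) (xt : Spec (CommRingCat.of (Localization.Away t)) ⟶ X),
        x' ≫ p = Spec.map (CommRingCat.ofHom φ) →
        xt ≫ p = Spec.map (CommRingCat.ofHom (algebraMap A (Localization.Away t))) →
        Spec.map (CommRingCat.ofHom (algebraMap A' (Localization.Away (φ t)))) ≫ x' =
          Spec.map (CommRingCat.ofHom (Localization.awayMap φ t)) ≫ xt →
        ∃ s : Spec (CommRingCat.of A) ⟶ X, s ≫ p = 𝟙 _ ∧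
          Spec.map (CommRingCat.ofHom φ) ≫ s = x' ∧
          Spec.map (CommRingCat.ofHom (algebraMap A (Localization.Away t))) ≫ s = xt) := by
  letI := φ.toAlgebra
  have h := pair (A := A) (A' := A') t hq htor
  refine ⟨fun s₁ s₂ _ _ e₀ e₁ => (cancel_mono X.toSpecΓ).1 (hom_ext h ?_ ?_), fun x' xt hx' hxt he => ?_⟩
  · exact (reassoc_of% e₀) X.toSpecΓ
  · exact (reassoc_of% e₁) X.toSpecΓ
  · obtain ⟨s, h0, h1⟩ := exists_point h X x' xt he
    refine ⟨s, hom_ext h ?_ ?_, h0, h1⟩
    · rw [reassoc_of% h0, Category.comp_id]; exact hx'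
    · rw [reassoc_of% h1, Category.comp_id]; exact hxt

end Groth.Agent.S15769
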