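import Groth.Statements.S1577
import Groth.Agent.WeakAssLib.Basic

set_option autoImplicit false
universe u
open CategoryTheory CategoryTheory.Limits AlgebraicGeometry
open Divisors

namespace Groth.Agent.S1577

/-- Let X be locally Noetherian and F quasi-coherent. A point of the support of F which is not a
specialisation of a different point of the support is an associated point of F. -/
theorem result (X : Scheme.{u}) [IsLocallyNoetherian X]
    (F : X.Modules) (hF : Coh.IsQCoh F) (x : X) (hx : x ∈ CohB1.support F)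
    (hmax : ∀ y ∈ CohB1.support F, y ⤳ x → y = x) : Curv2.IsAssPoint F x := by
  obtain ⟨U, hU, hxU, -⟩ := AlgebraicGeometry.exists_isAffineOpen_mem_and_subset (X := X) (U := ⊤)
    (trivial : x ∈ (⊤ : X.Opens))
  have hx' : ¬ Subsingleton (F.presheaf.stalk x) := hx
  have := not_subsingleton_iff_nontrivial.1 hx'
  obtain ⟨t, ht⟩ := exists_ne (0 : F.presheaf.stalk x)
  obtain ⟨a, s, ha, has⟩ := Groth.Agent.WeakAssLib.exists_germ hU
    (Groth.Agent.QC.isLoc_of_isQCoh hU (hM := hF)) hxU t
  have hne : Groth.Agent.WeakAssLib.mgerm F hxU s ≠ 0 := fun h =>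
    ht ((Groth.Agent.WeakAssLib.isUnit_germ hU hxU ha).smul_eq_zero.1 (has.trans h))
  obtain ⟨y, hy, hyx, hwa, hne'⟩ := Groth.Agent.WeakAssLib.exists_weakAss hF hxU s hne
  have hys : y ∈ CohB1.support F := fun (h : Subsingleton (F.presheaf.stalk y)) =>
    hne' (Subsingleton.elim _ _)
  exact (Groth.Agent.WeakAssLib.isAssPoint_iff F x).2 (hmax y hys hyx ▸ hwa)

end Groth.Agent.S1577
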