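import Groth.Statements.S15770
import Mathlib.Topology.Algebra.Module.ModuleTopology
import Mathlib.Topology.Instances.Matrix
import Mathlib.LinearAlgebra.Matrix.ToLin
import Mathlib.LinearAlgebra.Matrix.NonsingularInverse
import Mathlib.Algebra.Module.Projective
import Mathlib.RingTheory.Finiteness.Cardinality
import Mathlib.Algebra.Module.FinitePresentation

set_option autoImplicit false
universe u
open CAlg

namespace Groth.Agent.S15770

/-- Let B be a topological ring with Bˣ ⊂ B open and M, M' finitely generated projective B-modules, and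
endow Hom_B(M, M') with the module topology (the canonical topology of a finite module). Then the
set of surjective B-linear maps M → M' is open. -/
theorem result (B : Type u) [CommRing B] [TopologicalSpace B]
    [IsTopologicalRing B] (hB : IsOpen {b : B | IsUnit b})
    (M M' : Type u) [AddCommGroup M] [Module B M] [Module.Finite B M] [Module.Projective B M]
    [AddCommGroup M'] [Module B M'] [Module.Finite B M'] [Module.Projective B M']
    [TopologicalSpace (M →ₗ[B] M')] [IsModuleTopology B (M →ₗ[B] M')] :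
    IsOpen {f : M →ₗ[B] M' | Function.Surjective f} := by
  classical
  rw [isOpen_iff_mem_nhds]
  intro f₀ hf₀
  obtain ⟨σ, hσ⟩ := Module.projective_lifting_property f₀ LinearMap.id hf₀
  obtain ⟨n, π, ι, -, -, hπι⟩ := Module.Finite.exists_comp_eq_id_of_projective B M'
  let L : (M →ₗ[B] M') →ₗ[B] Matrix (Fin n) (Fin n) B :=
    { toFun := fun f => LinearMap.toMatrix' (ι ∘ₗ f ∘ₗ σ ∘ₗ π)
      map_add' := fun f g => by rw [← map_add, LinearMap.add_comp, LinearMap.comp_add]
      map_smul' := fun c f => by rw [RingHom.id_apply, ← map_smul, LinearMap.smul_comp, LinearMap.comp_smul] }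
  let c : Matrix (Fin n) (Fin n) B := LinearMap.toMatrix' (LinearMap.id - ι ∘ₗ π)
  have hcont : Continuous fun f : M →ₗ[B] M' => (L f + c).det :=
    ((IsModuleTopology.continuous_of_linearMap L).add continuous_const).matrix_det
  have h1 : IsUnit (L f₀ + c).det := by
    have e : ι ∘ₗ f₀ ∘ₗ σ ∘ₗ π = ι ∘ₗ π := by rw [← LinearMap.comp_assoc π σ f₀, hσ, LinearMap.id_comp]
    show IsUnit (LinearMap.toMatrix' (ι ∘ₗ f₀ ∘ₗ σ ∘ₗ π) + c).det
    rw [← map_add, e, add_sub_cancel, LinearMap.toMatrix'_id, Matrix.det_one]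
    exact isUnit_one
  refine Filter.mem_of_superset ((hB.preimage hcont).mem_nhds h1) fun f hf y => ?_
  have hu : IsUnit (L f + c) := (Matrix.isUnit_iff_isUnit_det _).mpr hf
  let E : (Fin n → B) →ₗ[B] (Fin n → B) := ι ∘ₗ f ∘ₗ σ ∘ₗ π + (LinearMap.id - ι ∘ₗ π)
  obtain ⟨u, hu⟩ := hu
  have hEu : LinearMap.toMatrix' E = (u : Matrix (Fin n) (Fin n) B) := by rw [hu, map_add]; rfl
  let v := ((u⁻¹ : (Matrix (Fin n) (Fin n) B)ˣ) : Matrix (Fin n) (Fin n) B).mulVec (ι y)
  have hv : E v = ι y := by
    rw [← Matrix.toLin'_toMatrix' E, Matrix.toLin'_apply, hEu, Matrix.mulVec_mulVec, u.mul_inv, Matrix.one_mulVec]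
  refine ⟨σ (π v), ?_⟩
  have := congrArg π hv
  have hπ' : ∀ z, π (ι z) = z := fun z => LinearMap.congr_fun hπι z
  simp only [E, LinearMap.add_apply, LinearMap.comp_apply, LinearMap.sub_apply, LinearMap.id_apply, map_add, map_sub, hπ', sub_self, add_zero] at this
  exact this

end Groth.Agent.S15770
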