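import Groth.Statements.S15771
import Mathlib.Topology.Algebra.Module.Basic
import Mathlib.Topology.Algebra.Group.Basic
import Mathlib.LinearAlgebra.TensorProduct.Tower

set_option autoImplicit false
universe u
open TensorProduct
open CAlg

namespace Groth.Agent.S15771

/-- For a ring map B₀ → B with dense image into a topological ring B, a finitely generated B₀-module M₀
and any topological B-module structure on M = B ⊗_{B₀} M₀, the natural map M₀ → M has dense image. -/
theorem result (B₀ B : Type u) [CommRing B₀] [CommRing B] [Algebra B₀ B]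
    [TopologicalSpace B] [IsTopologicalRing B] (hφ : DenseRange (algebraMap B₀ B))
    (M₀ : Type u) [AddCommGroup M₀] [Module B₀ M₀] [Module.Finite B₀ M₀]
    [TopologicalSpace (B ⊗[B₀] M₀)] [IsTopologicalAddGroup (B ⊗[B₀] M₀)] [ContinuousSMul B (B ⊗[B₀] M₀)] :
    DenseRange (fun m : M₀ => (1 : B) ⊗ₜ[B₀] m) := by
  let T : AddSubgroup (B ⊗[B₀] M₀) := (AddSubgroup.topologicalClosure
    (TensorProduct.mk B₀ B M₀ 1).toAddMonoidHom.range)
  intro z
  change z ∈ closure (Set.range fun m : M₀ => (1 : B) ⊗ₜ[B₀] m)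
  have hT : ∀ z : B ⊗[B₀] M₀, z ∈ T := by
    intro z
    induction z with
    | zero => exact T.zero_mem
    | add a b ha hb => exact T.add_mem ha hb
    | tmul b m =>
      have hc : Continuous fun c : B => c • ((1 : B) ⊗ₜ[B₀] m : B ⊗[B₀] M₀) := continuous_id.smul (continuous_const (y := ((1 : B) ⊗ₜ[B₀] m : B ⊗[B₀] M₀)))
      have h1 : b • ((1 : B) ⊗ₜ[B₀] m : B ⊗[B₀] M₀) ∈ closure ((fun c : B => c • ((1 : B) ⊗ₜ[B₀] m : B ⊗[B₀] M₀)) '' Set.range (algebraMap B₀ B)) :=
        image_closure_subset_closure_image hc ⟨b, hφ b, rfl⟩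
      have h2 : b ⊗ₜ[B₀] m = b • ((1 : B) ⊗ₜ[B₀] m : B ⊗[B₀] M₀) := by
        rw [TensorProduct.smul_tmul', smul_eq_mul, mul_one]
      rw [h2]
      refine closure_mono ?_ h1
      rintro _ ⟨_, ⟨c, rfl⟩, rfl⟩
      refine ⟨c • m, ?_⟩
      change (1 : B) ⊗ₜ[B₀] (c • m) = _
      dsimp only
      rw [← TensorProduct.smul_tmul, algebraMap_smul, TensorProduct.smul_tmul']
  exact hT z

end Groth.Agent.S15771
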