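import Groth.Statements.S15773
import Groth.Agent.WPrep.Ideals

set_option autoImplicit false
universe u
open Polynomial
open CAlg

namespace Groth.Agent.S15773

/-- For a Henselian local ring (R, m), a henselization B of R[t] along (t), L = B[1/t] and the R-algebra
map ψ : R[s] → L sending s to t⁻¹, extension and contraction along ψ are mutually inverse bijections
between the ideals of R[s] comaximal with mR[s] and the ideals of L comaximal with mL, and R[s]/I →
L/IL is bijective for every such I. (The published statement is phrased with closed subschemes of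
Spec R[t⁻¹] and of Spec L not meeting the residue fibre, matched by base change and schematic image,
and treats the localisation (R[t]_{1+tR[t]})[1/t] alongside R{t}[1/t]; this row states it with
ideals and includes the bijection of the corresponding quotient rings.) -/
theorem result (R : Type u) [CommRing R]
    [HenselianLocalRing R] (B : Type u) [CommRing B] [Algebra R B] [Algebra R[X] B] [IsScalarTower R R[X] B]
    (hB : Hens2.IsPairHenselization R[X] (Ideal.span {(X : R[X])}) B)
    (ψ : R[X] →ₐ[R] Localization.Away (algebraMap R[X] B X))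
    (hψ : ψ X * algebraMap B (Localization.Away (algebraMap R[X] B X)) (algebraMap R[X] B X) = 1) :
    (∀ I : Ideal R[X], I ⊔ (IsLocalRing.maximalIdeal R).map (algebraMap R R[X]) = ⊤ →
        (I.map ψ.toRingHom).comap ψ.toRingHom = I ∧
        I.map ψ.toRingHom ⊔ (IsLocalRing.maximalIdeal R).map
          (algebraMap R (Localization.Away (algebraMap R[X] B X))) = ⊤ ∧
        Function.Bijective (Ideal.quotientMap (I.map ψ.toRingHom) ψ.toRingHom Ideal.le_comap_map)) ∧
    (∀ J : Ideal (Localization.Away (algebraMap R[X] B X)),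
        J ⊔ (IsLocalRing.maximalIdeal R).map (algebraMap R (Localization.Away (algebraMap R[X] B X))) = ⊤ →
        (J.comap ψ.toRingHom).map ψ.toRingHom = J ∧
        J.comap ψ.toRingHom ⊔ (IsLocalRing.maximalIdeal R).map (algebraMap R R[X]) = ⊤) := by
  refine ⟨fun I hI => ?_, fun J hJ => ?_⟩
  · obtain ⟨a, ha, b, hb, hab⟩ := Submodule.mem_sup.1
      (show (1 : R[X]) ∈ I ⊔ (IsLocalRing.maximalIdeal R).map (algebraMap R R[X]) by rw [hI]; trivial)
    have ha1 : a - 1 ∈ Ideal.map (C : R →+* R[X]) (IsLocalRing.maximalIdeal R) := by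
      rw [← hab, sub_add_cancel_left]
      exact (Submodule.neg_mem_iff _).2 hb
    obtain ⟨hs, hk⟩ := Groth.Agent.WPrep.quotient_corr hB ψ hψ ha1
    obtain ⟨h1, h2⟩ := Groth.Agent.WPrep.ideal_corr ψ.toRingHom hs hk ha
    refine ⟨h1, ?_, h2⟩
    have := congrArg (Ideal.map ψ.toRingHom) hI
    rwa [Ideal.map_sup, Ideal.map_top, Ideal.map_map, show ψ.toRingHom.comp (algebraMap R R[X]) = _ from
      RingHom.ext ψ.commutes] at this
  · obtain ⟨f, hf1, hfJ⟩ := Groth.Agent.WPrep.exists_mem_of_comax hB ψ hψ hJ
    obtain ⟨hs, -⟩ := Groth.Agent.WPrep.quotient_corr hB ψ hψ hf1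
    refine ⟨Groth.Agent.WPrep.map_comap_of_surj ψ.toRingHom hs hfJ, (Ideal.eq_top_iff_one _).2 ?_⟩
    rw [show (1 : R[X]) = f - (f - 1) by ring]
    exact Submodule.sub_mem _ (Ideal.mem_sup_left hfJ) (Ideal.mem_sup_right hf1)

end Groth.Agent.S15773
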