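import Groth.Statements.S15778
import Groth.Agent.AffineHorrocks.Dense
import Mathlib.RingTheory.AdicCompletion.Completeness
import Mathlib.RingTheory.AdicCompletion.Algebra

set_option autoImplicit false
set_option linter.style.haveILetI false
set_option backward.isDefEq.respectTransparency false
open Groth.Agent
universe u
open TensorProduct
open CAlg

namespace Groth.Agent.S15778

/-- The instance A[1/t] → Â[1/t] for modules: let t lie in the Jacobson radical of A (a Zariski pair (A,
tA)) with bounded t-power torsion, Â the t-adic completion, and give Â[1/t] the A[1/t]-algebra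
structure of the canonical map. Then finitely generated projective A[1/t]-modules isomorphic over
Â[1/t] are isomorphic, and every stably free Â[1/t]-module is extended from a stably free
A[1/t]-module. (The published statement also asserts injectivity on H¹ for inner forms of GL_n; this
row omits that clause.) -/
theorem result (A : Type u) [CommRing A]
    (t : A) (ht : t ∈ (⊥ : Ideal A).jacobson)
    (hbd : ∃ N : ℕ, ∀ a : A, (∃ m : ℕ, t ^ m * a = 0) → t ^ N * a = 0)
    [Algebra (Localization.Away t) (Localization.Away (algebraMap A (AdicCompletion (Ideal.span {t}) A) t))]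
    (halg : algebraMap (Localization.Away t) (Localization.Away (algebraMap A (AdicCompletion (Ideal.span {t}) A) t)) = Localization.awayMap (algebraMap A (AdicCompletion (Ideal.span {t}) A)) t) :
    (∀ (M N : Type u) [AddCommGroup M] [Module (Localization.Away t) M] [Module.Finite (Localization.Away t) M] [Module.Projective (Localization.Away t) M]
        [AddCommGroup N] [Module (Localization.Away t) N] [Module.Finite (Localization.Away t) N] [Module.Projective (Localization.Away t) N],
        Nonempty ((Localization.Away (algebraMap A (AdicCompletion (Ideal.span {t}) A) t)) ⊗[Localization.Away t] M ≃ₗ[Localization.Away (algebraMap A (AdicCompletion (Ideal.span {t}) A) t)] (Localization.Away (algebraMap A (AdicCompletion (Ideal.span {t}) A) t)) ⊗[Localization.Away t] N) → Nonempty (M ≃ₗ[Localization.Away t] N)) ∧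
    (∀ (M' : Type u) [AddCommGroup M'] [Module (Localization.Away (algebraMap A (AdicCompletion (Ideal.span {t}) A) t)) M'] [Module.Finite (Localization.Away (algebraMap A (AdicCompletion (Ideal.span {t}) A) t)) M'],
        (∃ n m : ℕ, Nonempty ((M' × (Fin n → Localization.Away (algebraMap A (AdicCompletion (Ideal.span {t}) A) t))) ≃ₗ[Localization.Away (algebraMap A (AdicCompletion (Ideal.span {t}) A) t)] (Fin m → Localization.Away (algebraMap A (AdicCompletion (Ideal.span {t}) A) t)))) →
        ∃ (M : Type u) (_ : AddCommGroup M) (_ : Module (Localization.Away t) M), Module.Finite (Localization.Away t) M ∧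
          (∃ n m : ℕ, Nonempty ((M × (Fin n → Localization.Away t)) ≃ₗ[Localization.Away t] (Fin m → Localization.Away t))) ∧
          Nonempty ((Localization.Away (algebraMap A (AdicCompletion (Ideal.span {t}) A) t)) ⊗[Localization.Away t] M ≃ₗ[Localization.Away (algebraMap A (AdicCompletion (Ideal.span {t}) A) t)] M')) := by
  classical
  let I := Ideal.span {t}
  let Ah := AdicCompletion I A
  let th : Ah := algebraMap A Ah t
  let B := Localization.Away th
  let L := Localization.Away t
  let φ := algebraMap L B
  have hfg : I.FG := ⟨{t}, by simp [I]⟩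
  have hcomm : ∀ a : A, φ (algebraMap A L a) = algebraMap Ah B (algebraMap A Ah a) := fun a => by
    show algebraMap L B (algebraMap A L a) = _
    rw [halg]
    exact IsLocalization.map_eq _ _
  have hτ : φ (algebraMap A L t) = algebraMap Ah B th := hcomm t
  have htu : IsUnit (algebraMap Ah B th) := IsLocalization.Away.algebraMap_isUnit th
  have happ : ∀ (x : Ah) (n : ℕ), ∃ a : A, ∃ y : Ah, algebraMap A Ah a - x = th ^ n * y := by
    intro x n
    obtain ⟨a, ha⟩ := Submodule.Quotient.mk_surjective (I ^ n • ⊤ : Submodule A A) (AdicCompletion.eval I A n x)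
    refine ⟨a, ?_⟩
    have h1 : algebraMap A Ah a - x ∈ (AdicCompletion.eval I A n).ker := by
      rw [LinearMap.mem_ker, map_sub, sub_eq_zero, ← ha]
      rfl
    rw [← AdicCompletion.pow_smul_top_eq_ker_eval hfg, Ideal.span_singleton_pow,
      Submodule.ideal_span_singleton_smul, Submodule.mem_smul_pointwise_iff_exists] at h1
    obtain ⟨y, -, hy⟩ := h1
    exact ⟨y, by rw [← hy, Algebra.smul_def, map_pow]⟩
  have hdown : ∀ (a : A) (y : Ah) (n : ℕ), algebraMap A Ah a = th ^ n * y → ∃ b, a = t ^ n * b := by
    intro a y n h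
    have h1 := congrArg (AdicCompletion.evalₐ I n) h
    rw [map_mul, map_pow, AlgHom.commutes, AlgHom.commutes, Ideal.Quotient.algebraMap_eq, ← map_pow,
      Ideal.Quotient.eq_zero_iff_mem.2 (Ideal.pow_mem_pow (Ideal.mem_span_singleton_self t) n), zero_mul,
      Ideal.Quotient.eq_zero_iff_mem] at h1
    rw [Ideal.span_singleton_pow] at h1
    exact Ideal.mem_span_singleton.1 h1
  haveI : IsAdicComplete (I.map (algebraMap A Ah)) Ah :=
    (IsAdicComplete.map_algebraMap_iff _ _).mpr (AdicCompletion.isAdicComplete hfg)
  have hjac : th ∈ (⊥ : Ideal Ah).jacobson :=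
    IsAdicComplete.le_jacobson_bot (I.map (algebraMap A Ah)) (Ideal.mem_map_of_mem _ (Ideal.mem_span_singleton_self t))
  let D : AffHorrocks.DenseData L B :=
    { J := {z | ∃ y : Ah, z = algebraMap Ah B (th * y)}
      τ := algebraMap A L t
      zero_mem := ⟨0, by simp⟩
      add_mem := fun ⟨p, hp⟩ ⟨q, hq⟩ => ⟨p + q, by rw [hp, hq, ← map_add, ← mul_add]⟩
      neg_mem := fun ⟨p, hp⟩ => ⟨-p, by rw [hp, mul_neg, ← map_neg]⟩
      mul_mem := fun ⟨p, hp⟩ ⟨q, hq⟩ => ⟨p * (th * q), by rw [hp, hq, ← map_mul, mul_assoc]⟩
      tau_mul := fun ⟨p, hp⟩ => ⟨th * p, by rw [hτ, hp, ← map_mul]⟩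
      scale := fun z => by
        obtain ⟨⟨a, s⟩, hs⟩ := IsLocalization.surj (Submonoid.powers th) z
        obtain ⟨k, hk⟩ := s.2
        exact ⟨k + 1, a, by rw [hτ, map_mul, ← hs, ← map_pow, pow_succ']; simp [← hk]; ring⟩
      approx := fun z N => by
        obtain ⟨⟨x, s⟩, hs⟩ := IsLocalization.surj (Submonoid.powers th) z
        obtain ⟨k, hk⟩ := s.2
        obtain ⟨a, y, hy⟩ := happ x (k + N + 1)
        obtain ⟨v, hv⟩ := ((IsLocalization.Away.algebraMap_isUnit (S := L) t).pow k).exists_left_inv
        refine ⟨v * algebraMap A L a, algebraMap Ah B (th * y), ⟨y, rfl⟩, (htu.pow k).mul_left_cancel ?_⟩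
        have hv' : algebraMap Ah B th ^ k * φ v = 1 := by
          rw [← hτ, ← map_pow, ← map_mul, mul_comm, hv, map_one]
        rw [mul_sub, map_mul, ← mul_assoc, hv', one_mul, hcomm, hτ, mul_comm _ z, ← map_pow (algebraMap Ah B),
          show z * algebraMap Ah B (th ^ k) = algebraMap Ah B x by rw [← hs, ← hk], ← map_sub, hy]
        simp only [map_mul, map_pow, pow_add, pow_one]
        ring
      unit' := fun j ⟨y, hy⟩ => by
        rw [hy, ← map_one (algebraMap Ah B), ← map_add]
        refine IsUnit.map _ ?_
        rw [add_comm]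
        exact Ideal.mem_jacobson_bot.1 hjac y
      unit := fun l ⟨y, hy⟩ => by
        obtain ⟨⟨a, s⟩, hs⟩ := IsLocalization.surj (Submonoid.powers t) l
        obtain ⟨k, hk⟩ := s.2
        have h1 : algebraMap Ah B (algebraMap A Ah a) = algebraMap Ah B (th ^ (k + 1) * y) := by
          rw [← hcomm, ← hs, map_mul, hy, hcomm, ← hk, pow_succ, map_pow]
          simp only [map_mul, map_pow]
          ring
        obtain ⟨⟨_, m, rfl⟩, hm⟩ := IsLocalization.exists_of_eq (M := Submonoid.powers th) h1
        obtain ⟨b, hb⟩ := hdown (t ^ m * a) y (m + k + 1) (by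
          rw [map_mul, map_pow]
          show th ^ m * algebraMap A Ah a = _
          rw [show th ^ m * algebraMap A Ah a = th ^ m * (th ^ (k + 1) * y) from hm]
          ring)
        have hl : l = algebraMap A L (t * b) := by
          have hu : IsUnit (algebraMap A L (t ^ m) * algebraMap A L s) := by
            rw [map_pow]
            exact ((IsLocalization.Away.algebraMap_isUnit t).pow m).mul (IsLocalization.map_units L s)
          refine hu.mul_right_cancel ?_
          calc l * (algebraMap A L (t ^ m) * algebraMap A L s) = algebraMap A L (t ^ m * a) := by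
                rw [map_mul, ← hs]; ring
            _ = _ := by rw [hb, ← hk, ← map_mul, ← map_mul]; congr 1; ring
        rw [hl, ← map_one (algebraMap A L), ← map_add, add_comm]
        exact (Ideal.mem_jacobson_bot.1 ht b).map _ }
  refine ⟨fun M N _ _ _ _ _ _ _ _ => D.nonempty_linearEquiv M N, fun M' _ _ _ h => ?_⟩
  obtain ⟨n, m, ⟨ψ⟩⟩ := h
  obtain ⟨M, _, _, hfin, hiso, hbc⟩ := D.exists_stablyFree M' n m ψ
  exact ⟨M, inferInstance, inferInstance, hfin, ⟨n, m, hiso⟩, hbc⟩

end Groth.Agent.S15778
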