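import Groth.Statements.S15779
import Mathlib
import Groth.Agent.Hensel.Factor
-- import your own Groth.Agent.* helpers here

set_option autoImplicit false
universe u
open Polynomial
open CAlg

namespace Groth.Agent.S15779

section aux

variable {R : Type u} [CommRing R] {L : Type u} [CommRing L] [Algebra R[X] L] [Algebra R L] [IsScalarTower R R[X] L]

/-- `algebraMap m * s ^ n = ψ (reflect n m)`. -/
theorem algebraMap_mul_pow (ψ : R[X] →ₐ[R] L) (hψ : ψ X * algebraMap R[X] L X = 1) (m : R[X]) (n : ℕ)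
    (hn : m.natDegree ≤ n) : algebraMap R[X] L m * ψ X ^ n = ψ (reflect n m) := by
  letI : Invertible (ψ X) := ⟨algebraMap R[X] L X, by rw [mul_comm]; exact hψ, hψ⟩
  rw [show ψ (reflect n m) = aeval (ψ X) (reflect n m) from by rw [aeval_algHom_apply, aeval_X_left_apply]]
  have h := eval₂_reflect_mul_pow (algebraMap R L) (ψ X) n (reflect n m) (natDegree_reflect_le.trans (max_le le_rfl hn))
  rw [reflect_reflect] at h
  rw [aeval_def, ← h]
  congr 1
  have e : ⅟(ψ X) = algebraMap R[X] L X := invOf_eq_right_inv hψ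
  rw [e, ← aeval_def, aeval_algebraMap_apply, aeval_X_left_apply]

/-- Elements of the monoid reflect to monic polynomials. -/
theorem exists_monic_reflect (m : R[X]) (hm : m ∈ Submonoid.closure ({f : R[X] | f.coeff 0 = 1} ∪ {X})) :
    ∃ n, m.natDegree ≤ n ∧ (reflect n m).Monic := by
  induction hm using Submonoid.closure_induction with
  | mem f hf =>
    rcases hf with hf | hf
    · refine ⟨f.natDegree, le_rfl, monic_of_natDegree_le_of_coeff_eq_one f.natDegree
        (natDegree_reflect_le.trans (max_le le_rfl le_rfl)) ?_⟩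
      rw [coeff_reflect, revAt_le le_rfl, Nat.sub_self]; exact hf
    · rw [Set.mem_singleton_iff.1 hf]
      refine ⟨1, natDegree_X_le, ?_⟩
      rw [show reflect 1 (X : R[X]) = 1 from ?_]
      · exact monic_one
      · simpa using reflect_C_mul_X_pow (1 : R) 1 1
  | one => exact ⟨0, natDegree_one.le, by simp⟩
  | mul a b _ _ iha ihb =>
    obtain ⟨i, hi, hi'⟩ := iha
    obtain ⟨j, hj, hj'⟩ := ihb
    exact ⟨i + j, natDegree_mul_le.trans (add_le_add hi hj), by rw [reflect_mul a b hi hj]; exact hi'.mul hj'⟩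

variable [IsLocalization (Submonoid.closure ({f : R[X] | f.coeff 0 = 1} ∪ {X})) L]
  (ψ : R[X] →ₐ[R] L) (hψ : ψ X * algebraMap R[X] L X = 1)
include hψ

theorem isUnit_monic {G : R[X]} (hG : G.Monic) : IsUnit (ψ G) := by
  have hc : (reflect G.natDegree G).coeff 0 = 1 := by rw [coeff_reflect, revAt_zero]; exact hG
  have h := algebraMap_mul_pow ψ hψ (reflect G.natDegree G) G.natDegree (natDegree_reflect_le.trans (max_le le_rfl le_rfl))
  rw [reflect_reflect] at h
  rw [← h]
  exact (IsLocalization.map_units L (M := Submonoid.closure ({f : R[X] | f.coeff 0 = 1} ∪ {X}))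
    ⟨_, Submonoid.subset_closure (Or.inl hc)⟩).mul ((IsUnit.of_mul_eq_one _ hψ).pow _)

theorem exists_mul_eq (z : L) : ∃ G P : R[X], G.Monic ∧ z * ψ G = ψ P := by
  obtain ⟨⟨a, ⟨m, hm⟩⟩, h⟩ := IsLocalization.surj (Submonoid.closure ({f : R[X] | f.coeff 0 = 1} ∪ {X})) z
  obtain ⟨n, hn, hG⟩ := exists_monic_reflect m hm
  refine ⟨reflect n m * X ^ a.natDegree, reflect a.natDegree a * X ^ n, hG.mul (monic_X_pow _), ?_⟩
  rw [map_mul, map_mul, map_pow, map_pow, ← algebraMap_mul_pow ψ hψ m n hn, ← algebraMap_mul_pow ψ hψ a _ le_rfl, ← h]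
  ring

theorem exists_monic_mul_eq_zero {p : R[X]} (hp : ψ p = 0) : ∃ G : R[X], G.Monic ∧ G * p = 0 := by
  have hdeg : (reflect p.natDegree p).natDegree ≤ p.natDegree := natDegree_reflect_le.trans (max_le le_rfl le_rfl)
  have h := algebraMap_mul_pow ψ hψ (reflect p.natDegree p) p.natDegree hdeg
  rw [reflect_reflect, hp, IsUnit.mul_left_eq_zero ((IsUnit.of_mul_eq_one _ hψ).pow _)] at h
  obtain ⟨⟨m, hm⟩, hmz⟩ := (IsLocalization.map_eq_zero_iff (Submonoid.closure ({f : R[X] | f.coeff 0 = 1} ∪ {X})) L _).1 h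
  obtain ⟨n, hn, hG⟩ := exists_monic_reflect m hm
  refine ⟨reflect n m, hG, ?_⟩
  have := reflect_mul m (reflect p.natDegree p) hn hdeg
  rw [hmz, reflect_zero, reflect_reflect] at this
  exact this.symm

theorem exists_mem_of_mem_map (I : Ideal R[X]) {x : L} (hx : x ∈ I.map ψ.toRingHom) :
    ∃ G P : R[X], G.Monic ∧ P ∈ I ∧ x * ψ G = ψ P := by
  induction hx using Submodule.span_induction with
  | mem x hx =>
    obtain ⟨p, hp, rfl⟩ := hx
    exact ⟨1, p, monic_one, hp, by simp⟩
  | zero => exact ⟨1, 0, monic_one, zero_mem _, by simp⟩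
  | add x y _ _ ihx ihy =>
    obtain ⟨G, P, hG, hP, h⟩ := ihx
    obtain ⟨G', P', hG', hP', h'⟩ := ihy
    exact ⟨G * G', P * G' + P' * G, hG.mul hG', add_mem (I.mul_mem_right _ hP) (I.mul_mem_right _ hP'),
      by simp only [map_mul, map_add, ← h, ← h']; ring⟩
  | smul c x _ ih =>
    obtain ⟨G, P, hG, hP, h⟩ := ih
    obtain ⟨G', P', hG', h'⟩ := exists_mul_eq ψ hψ c
    exact ⟨G' * G, P' * P, hG'.mul hG, I.mul_mem_left _ hP, by simp only [map_mul, smul_eq_mul, ← h, ← h']; ring⟩

omit [Algebra R[X] L] [IsScalarTower R R[X] L] hψ [IsLocalization (Submonoid.closure ({f : R[X] | f.coeff 0 = 1} ∪ {X})) L] in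
theorem exists_inv_mod [IsLocalRing R] (I : Ideal R[X])
    (hI : I ⊔ (IsLocalRing.maximalIdeal R).map (algebraMap R R[X]) = ⊤) {G : R[X]} (hG : G.Monic) :
    ∃ u : R[X], G * u - 1 ∈ I := by
  have htop : Ideal.span {G} ⊔ I = ⊤ := by
    by_contra hne
    obtain ⟨M, hM, hle⟩ := Ideal.exists_le_maximal _ hne
    haveI : Module.Finite R (R[X] ⧸ Ideal.span {G}) := hG.finite_quotient
    haveI : Algebra.IsIntegral R (R[X] ⧸ M) := by
      have hle' : Ideal.span {G} ≤ M := le_sup_left.trans hle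
      haveI : Module.Finite R (R[X] ⧸ M) := Module.Finite.of_surjective
        (Ideal.Quotient.factorₐ R hle').toLinearMap (Ideal.Quotient.factor_surjective hle')
      infer_instance
    haveI : (⊥ : Ideal (R[X] ⧸ M)).IsMaximal := (Ideal.bot_quotient_isMaximal_iff M).2 hM
    have hmax : ((⊥ : Ideal (R[X] ⧸ M)).comap (algebraMap R (R[X] ⧸ M))).IsMaximal :=
      Ideal.isMaximal_comap_of_isIntegral_of_isMaximal _
    have hm : (IsLocalRing.maximalIdeal R).map (algebraMap R R[X]) ≤ M := by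
      rw [Ideal.map_le_iff_le_comap, ← IsLocalRing.eq_maximalIdeal hmax]
      intro r hr
      refine Ideal.mem_comap.2 ?_
      exact Ideal.Quotient.eq_zero_iff_mem.1 (show Ideal.Quotient.mk M (algebraMap R R[X] r) = 0 from hr)
    exact hM.ne_top (top_le_iff.1 (hI ▸ sup_le (le_sup_right.trans hle) hm))
  obtain ⟨a, ha, b, hb, hab⟩ := Submodule.mem_sup.1 ((Ideal.eq_top_iff_one _).1 htop)
  obtain ⟨u, rfl⟩ := Ideal.mem_span_singleton'.1 ha
  exact ⟨u, by rw [← hab, mul_comm G u, sub_add_cancel_left]; exact neg_mem hb⟩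

end aux

/-- For a Henselian local ring (R, m), L the localisation of R[t] at the monoid generated by t and the
polynomials with constant term 1, and ψ : R[s] → L the R-algebra map with s ↦ t⁻¹, extension and
contraction along ψ are mutually inverse bijections between the ideals of R[s] comaximal with mR[s]
and the ideals of L comaximal with mL, and R[s]/I → L/IL is bijective for every such I. -/
theorem result (R : Type u) [CommRing R]
    [HenselianLocalRing R] (L : Type u) [CommRing L] [Algebra R[X] L]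
    [IsLocalization (Submonoid.closure ({f : R[X] | f.coeff 0 = 1} ∪ {X})) L]
    [Algebra R L] [IsScalarTower R R[X] L]
    (ψ : R[X] →ₐ[R] L) (hψ : ψ X * algebraMap R[X] L X = 1) :
    (∀ I : Ideal R[X], I ⊔ (IsLocalRing.maximalIdeal R).map (algebraMap R R[X]) = ⊤ →
        (I.map ψ.toRingHom).comap ψ.toRingHom = I ∧
        I.map ψ.toRingHom ⊔ (IsLocalRing.maximalIdeal R).map (algebraMap R L) = ⊤ ∧
        Function.Bijective (Ideal.quotientMap (I.map ψ.toRingHom) ψ.toRingHom Ideal.le_comap_map)) ∧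
    (∀ J : Ideal L, J ⊔ (IsLocalRing.maximalIdeal R).map (algebraMap R L) = ⊤ →
        (J.comap ψ.toRingHom).map ψ.toRingHom = J ∧
        J.comap ψ.toRingHom ⊔ (IsLocalRing.maximalIdeal R).map (algebraMap R R[X]) = ⊤) := by
  have hmap : ∀ J : Ideal R, (J.map (algebraMap R R[X])).map ψ.toRingHom = J.map (algebraMap R L) := fun J => by
    rw [Ideal.map_map]; congr 1; exact ψ.comp_algebraMap
  refine ⟨fun I hI => ?_, fun J hJ => ?_⟩
  · have hcomap : (I.map ψ.toRingHom).comap ψ.toRingHom = I := by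
      refine le_antisymm (fun p hp => ?_) Ideal.le_comap_map
      obtain ⟨G, P, hG, hP, h⟩ := exists_mem_of_mem_map ψ hψ I hp
      obtain ⟨G', hG', h'⟩ := exists_monic_mul_eq_zero ψ hψ (p := p * G - P) (by rw [map_sub, map_mul, sub_eq_zero]; exact h)
      obtain ⟨u, hu⟩ := exists_inv_mod I hI (hG'.mul hG)
      have hGp : G' * G * p ∈ I := by
        rw [mul_sub, sub_eq_zero] at h'
        rw [show G' * G * p = G' * (p * G) by ring, h']
        exact I.mul_mem_left _ hP
      rw [show p = u * (G' * G * p) - p * (G' * G * u - 1) by ring]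
      exact sub_mem (I.mul_mem_left _ hGp) (I.mul_mem_left _ hu)
    refine ⟨hcomap, ?_, ?_, ?_⟩
    · rw [← hmap, ← Ideal.map_sup, hI, Ideal.map_top]
    · exact Ideal.quotientMap_injective' hcomap.le
    · intro z
      obtain ⟨z, rfl⟩ := Ideal.Quotient.mk_surjective z
      obtain ⟨G, P, hG, h⟩ := exists_mul_eq ψ hψ z
      obtain ⟨u, hu⟩ := exists_inv_mod I hI hG
      refine ⟨Ideal.Quotient.mk _ (P * u), ?_⟩
      rw [Ideal.quotientMap_mk, Ideal.Quotient.eq, map_mul]
      show ψ P * ψ u - z ∈ _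
      rw [show ψ P * ψ u - z = z * ψ (G * u - 1) by rw [map_sub, map_mul, map_one, ← h]; ring]
      exact Ideal.mul_mem_left _ _ (Ideal.mem_map_of_mem ψ.toRingHom hu)
  · refine ⟨le_antisymm Ideal.map_comap_le fun z hz => ?_, ?_⟩
    · obtain ⟨G, P, hG, h⟩ := exists_mul_eq ψ hψ z
      have hP : P ∈ J.comap ψ.toRingHom := show ψ P ∈ J from h ▸ J.mul_mem_right _ hz
      rw [show z = ψ P * ((isUnit_monic ψ hψ hG).unit⁻¹ : Lˣ) by rw [← h, mul_assoc, IsUnit.mul_val_inv, mul_one]]
      exact Ideal.mul_mem_right _ _ (Ideal.mem_map_of_mem ψ.toRingHom hP)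
    · obtain ⟨j, hj, μ, hμ, hjμ⟩ := Submodule.mem_sup.1 ((Ideal.eq_top_iff_one _).1 hJ)
      rw [← hmap] at hμ
      obtain ⟨G, P, hG, hP, h⟩ := exists_mem_of_mem_map ψ hψ _ hμ
      have hker : RingHom.ker (mapRingHom (IsLocalRing.residue R)) = (IsLocalRing.maximalIdeal R).map (algebraMap R R[X]) := by
        rw [Polynomial.ker_mapRingHom, IsLocalRing.ker_residue]; rfl
      have hf : (G - P).map (IsLocalRing.residue R) = G.map (IsLocalRing.residue R) * 1 := by
        rw [mul_one, Polynomial.map_sub, sub_eq_self]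
        exact (RingHom.mem_ker (f := mapRingHom (IsLocalRing.residue R))).1 (hker ▸ hP)
      obtain ⟨g, k, hgk, hg, -, hk⟩ := Groth.Agent.Hensel.exists_factor R (G - P) _ 1 (hG.map _) isCoprime_one_right hf
      have hfJ : ψ (G - P) ∈ J := by
        rw [map_sub, ← h, show ψ G - μ * ψ G = j * ψ G by rw [eq_sub_of_add_eq hjμ]; ring]
        exact J.mul_mem_right _ hj
      have hkJ : k ∈ J.comap ψ.toRingHom := by
        rw [hgk, map_mul] at hfJ
        exact (J.unit_mul_mem_iff_mem (isUnit_monic ψ hψ hg)).1 hfJ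
      refine (Ideal.eq_top_iff_one _).2 (Submodule.mem_sup.2 ⟨k, hkJ, 1 - k, ?_, by ring⟩)
      rw [← hker, RingHom.mem_ker, map_sub, map_one, coe_mapRingHom, hk, sub_self]

end Groth.Agent.S15779
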