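import Groth.Statements.S1578
import Mathlib

set_option autoImplicit false
universe u
open CategoryTheory CategoryTheory.Limits AlgebraicGeometry
open Divisors

namespace Groth.Agent.S1578

/-- Let M be a module over a ring A, F the associated quasi-coherent module on Spec A, and p a prime of
A. If p is an associated prime of M then p is an associated point of F; the converse holds when p is
finitely generated. -/
theorem result (A : CommRingCat.{u}) (M : ModuleCat.{u} A)
    (p : Spec A) :
    (p.asIdeal ∈ associatedPrimes A M → Curv2.IsAssPoint (tilde M) p) ∧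
    (p.asIdeal.FG → Curv2.IsAssPoint (tilde M) p → p.asIdeal ∈ associatedPrimes A M) := by
  classical
  let T := (Spec A).presheaf.stalk p
  let N := (tilde M).presheaf.stalk p
  letI : Algebra A T := (StructureSheaf.toStalk A p).hom.toAlgebra
  haveI : IsScalarTower A T N := .of_algebraMap_smul fun _ _ => rfl
  haveI : IsLocalization.AtPrime T p.asIdeal :=
    inferInstanceAs (IsLocalization.AtPrime ((AlgebraicGeometry.structurePresheafInCommRingCat A).stalk p) p.asIdeal)
  let g : M →ₗ[A] N := (tilde.toStalk M p).hom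
  haveI hg : IsLocalizedModule p.asIdeal.primeCompl g :=
    inferInstanceAs (IsLocalizedModule p.asIdeal.primeCompl (tilde.toStalk M p).hom)
  have hmax : ∀ a : A, algebraMap A T a ∈ IsLocalRing.maximalIdeal T ↔ a ∈ p.asIdeal :=
    fun a => IsLocalization.AtPrime.to_map_mem_maximal_iff T p.asIdeal a
  have hcolon : ∀ (m : M) (a : A), a ∈ (Submodule.colon (⊥ : Submodule A M) {m}) ↔ a • m = 0 := fun m a => by
    rw [Submodule.mem_colon_singleton, Submodule.mem_bot]
  have hcolonT : ∀ (t : N) (r : T), r ∈ (Submodule.colon (⊥ : Submodule T N) {t}) ↔ r • t = 0 := fun t r => by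
    rw [Submodule.mem_colon_singleton, Submodule.mem_bot]
  constructor
  · rintro ⟨hp, m, hm⟩
    have hle : (Submodule.colon (⊥ : Submodule T N) {g m}).radical ≤ IsLocalRing.maximalIdeal T := by
      refine IsLocalRing.le_maximalIdeal fun e => ?_
      rw [Ideal.radical_eq_top, Ideal.eq_top_iff_one, hcolonT, one_smul] at e
      obtain ⟨⟨c, hc⟩, hcm⟩ := (IsLocalizedModule.eq_zero_iff p.asIdeal.primeCompl g).1 e
      refine hc ?_
      rw [hm]
      exact Ideal.le_radical ((hcolon m c).2 hcm)
    refine ⟨(IsLocalRing.maximalIdeal.isMaximal T).isPrime, g m, le_antisymm ?_ hle⟩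
    rw [← IsLocalization.AtPrime.map_eq_maximalIdeal p.asIdeal T, Ideal.map_le_iff_le_comap]
    intro a ha
    rw [hm] at ha
    obtain ⟨n, hn⟩ := ha
    refine ⟨n, (hcolonT _ _).2 ?_⟩
    rw [← map_pow, algebraMap_smul, ← g.map_smul, (hcolon m _).1 hn, map_zero]
  · rintro hfg ⟨-, t, ht⟩
    obtain ⟨⟨m, s⟩, hs⟩ := IsLocalizedModule.surj p.asIdeal.primeCompl g t
    let J : Ideal A :=
      Ideal.comap (algebraMap A T) (Submodule.colon (⊥ : Submodule T N) {t})
    have hJ : p.asIdeal ≤ J.radical := fun a ha => by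
      have h1 := (hmax a).2 ha
      change algebraMap A T a ∈ IsLocalRing.maximalIdeal ((Spec A).presheaf.stalk p) at h1
      rw [ht] at h1
      obtain ⟨n, hn⟩ := h1
      exact ⟨n, Ideal.mem_comap.2 (by rw [map_pow]; exact hn)⟩
    obtain ⟨n, hn⟩ := Ideal.exists_pow_le_of_le_radical_of_fg hJ hfg
    obtain ⟨gens, hgens⟩ := Submodule.FG.pow hfg n
    have hc : ∀ a : gens, ∃ c : p.asIdeal.primeCompl, c • (a.1 • m) = 0 := fun a => by
      refine (IsLocalizedModule.eq_zero_iff p.asIdeal.primeCompl g).1 ?_
      have h1 := (hcolonT _ _).1 (hn (hgens.le (Submodule.subset_span a.2)))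
      rw [algebraMap_smul] at h1
      rw [g.map_smul, show g m = (s : A) • t from hs.symm]
      show a.1 • ((s : A) • t) = 0
      rw [smul_comm, h1, smul_zero]
    choose c hc using hc
    refine ⟨p.2, (∏ a, (c a : A)) • m, le_antisymm ?_ ?_⟩
    · intro a ha
      refine ⟨n, (hcolon _ _).2 ?_⟩
      have h2 : p.asIdeal ^ n ≤ Submodule.colon (⊥ : Submodule A M) {(∏ b, (c b : A)) • m} := by
        rw [← hgens, Ideal.span_le]
        intro b hb
        refine (hcolon _ _).2 ?_
        rw [smul_comm, ← Finset.prod_erase_mul Finset.univ (fun b => (c b : A)) (Finset.mem_univ ⟨b, hb⟩), mul_smul]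
        exact (congrArg _ (hc ⟨b, hb⟩)).trans (smul_zero _)
      exact (hcolon _ _).1 (h2 (Ideal.pow_mem_pow ha n))
    · refine p.2.radical_le_iff.2 fun a ha => ?_
      by_contra hap
      have h1 : g ((a * ∏ b, (c b : A)) • m) = 0 := by rw [mul_smul, (hcolon _ _).1 ha, map_zero]
      rw [g.map_smul, show g m = (s : A) • t from hs.symm] at h1
      have h2 : algebraMap A T ((a * ∏ b, (c b : A)) * s) ∈ (Submodule.colon (⊥ : Submodule T N) {t}).radical :=
        Ideal.le_radical ((hcolonT _ _).2 (by rw [algebraMap_smul, mul_smul]; exact h1))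
      have h3 : (a * ∏ b, (c b : A)) * s ∉ p.asIdeal :=
        p.asIdeal.primeCompl.mul_mem (p.asIdeal.primeCompl.mul_mem hap (prod_mem fun b _ => (c b).2)) s.2
      refine h3 ((hmax _).1 ?_)
      show _ ∈ IsLocalRing.maximalIdeal ((Spec A).presheaf.stalk p)
      rw [ht]
      exact h2

end Groth.Agent.S1578
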