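import Groth.Statements.S15784
import Mathlib

set_option autoImplicit false
universe u
open Neron

namespace Groth.Agent.S15784

/-- Let O be a discrete valuation ring with fraction field L and uniformizer ϖ', let ϖ be an element of
the maximal ideal of O, let q = u·ϖ'^n with u a unit of O and n ≥ 1, and let m ≥ 1 be a divisor of
n. Then the following are equivalent: (i) there is a nonzero element z = w·ϖ'^a of L, with w a unit
of O and a an integer congruent to n/m modulo n, and an integer j such that z^m·q^j lies in 1 + ϖO;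
(ii) ϖ'^n/q is an m-th power in the group of units of O/ϖO, that is, u·(y^m + ϖ·r) = 1 for some y, r
∈ O. (The published statement phrases (i) geometrically, as the existence of a point of order m in
the special fibre of the Néron model of the Weil restriction of the Tate curve with parameter q from
L down to a subfield over which L is totally ramified with ϖ a uniformizer of the subfield, whose
image in the component group also has order m; this row states the equivalence between (i) and (ii)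
that the printed argument establishes.) -/
theorem result
    (O : Type u) [CommRing O] [IsDomain O] [IsDiscreteValuationRing O]
    (L : Type u) [Field L] [Algebra O L] [IsFractionRing O L]
    (ϖ' : O) (hϖ' : Irreducible ϖ') (ϖ : O) (hϖ : ϖ ∈ IsLocalRing.maximalIdeal O)
    (n : ℕ) (hn : 1 ≤ n) (u : Oˣ) (q : O) (hq : q = u * ϖ' ^ n)
    (m : ℕ) (hm : 1 ≤ m) (hmn : m ∣ n) :
    (∃ (w : Oˣ) (a j t : ℤ) (r : O), a = (n / m : ℕ) + t * n ∧
        (algebraMap O L w * algebraMap O L ϖ' ^ a) ^ m * algebraMap O L q ^ j = algebraMap O L (1 + ϖ * r)) ↔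
      ∃ y r : O, (u : O) * (y ^ m + ϖ * r) = 1 := by
  have hinj : Function.Injective (algebraMap O L) := IsFractionRing.injective O L
  obtain ⟨k, rfl⟩ := hmn
  have hm0 : (m : ℤ) ≠ 0 := by omega
  have hk : k ≠ 0 := by rintro rfl; simp at hn
  have hdiv : m * k / m = k := Nat.mul_div_cancel_left k hm
  have hπ : algebraMap O L ϖ' ≠ 0 := by simpa using hinj.ne hϖ'.ne_zero
  let U := Units.map (algebraMap O L : O →* L)
  let P : Lˣ := Units.mk0 _ hπ
  have hone : ∀ r : O, IsUnit (1 + ϖ * r) := fun r => by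
    by_contra hc
    exact (IsLocalRing.maximalIdeal O).ne_top_iff_one.1 (IsLocalRing.maximalIdeal.isMaximal O).ne_top
      (by simpa using sub_mem ((IsLocalRing.mem_maximalIdeal _).2 hc) (Ideal.mul_mem_right r _ hϖ))
  have hqL : algebraMap O L q = ((U u * P ^ ((m * k : ℕ) : ℤ) : Lˣ) : L) := by
    rw [zpow_natCast]; subst hq; simp [U, P, map_mul, map_pow]
  constructor
  · rintro ⟨w, a, j, t, r, ha, he⟩
    obtain ⟨z, hz⟩ := hone r
    have he' : (U w * P ^ a) ^ m * (U u * P ^ ((m * k : ℕ) : ℤ)) ^ j = U z := by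
      ext
      simp only [Units.val_mul, Units.val_pow_eq_pow_val, Units.val_zpow_eq_zpow_val]
      rw [← Units.val_zpow_eq_zpow_val P ((m * k : ℕ) : ℤ), ← Units.val_mul, ← hqL]
      simpa [U, P, hz] using he
    have e1 : U (w ^ m * u ^ j * z⁻¹) * P ^ (a * m + ((m * k : ℕ) : ℤ) * j) = 1 := by
      have h0 := mul_inv_eq_one.2 he'
      rw [mul_pow, mul_zpow, ← zpow_natCast (P ^ a) m, ← zpow_mul, ← zpow_mul] at h0
      rw [map_mul, map_mul, map_inv, map_pow, map_zpow, zpow_add]
      rw [← h0]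
      simp only [mul_assoc, mul_left_comm, mul_comm]
    have hexp : a * m + ((m * k : ℕ) : ℤ) * j = 0 := by
      set e := a * m + ((m * k : ℕ) : ℤ) * j
      set v := w ^ m * u ^ j * z⁻¹
      by_contra hne
      have hnu : ∀ N : ℕ, N ≠ 0 → ∀ v' : Oˣ, ϖ' ^ N ≠ (v' : O) := fun N hN v' h' =>
        hϖ'.not_isUnit ((isUnit_pow_iff hN).1 (h' ▸ v'.isUnit))
      rcases Int.natAbs_eq e with h' | h'
      · refine hnu e.natAbs (by omega) v⁻¹ (hinj ?_)
        have h2 : P ^ (e.natAbs : ℕ) = U v⁻¹ := by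
          rw [← zpow_natCast, ← h', map_inv]; exact eq_inv_of_mul_eq_one_right e1
        simpa [U, P] using congrArg Units.val h2
      · refine hnu e.natAbs (by omega) v (hinj ?_)
        have h2 : P ^ (e.natAbs : ℕ) = U v := by
          rw [← zpow_natCast, show (e.natAbs : ℤ) = -e by omega, zpow_neg]; exact (eq_inv_of_mul_eq_one_left e1).symm
        simpa [U, P] using congrArg Units.val h2
    rw [hdiv] at ha
    have hj : j = -(1 + t * m) := by
      have : (k : ℤ) * m * (1 + t * m + j) = 0 := by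
        rw [← hexp, ha]; push_cast; ring
      rcases mul_eq_zero.1 this with h' | h'
      · exfalso; exact (mul_ne_zero (by omega) hm0) h'
      · omega
    rw [hexp, zpow_zero, mul_one, ← map_one U, hj] at e1
    have e2 : w ^ m * u ^ (-(1 + t * m)) * z⁻¹ = 1 := Units.map_injective hinj e1
    rw [mul_inv_eq_one] at e2
    -- `y = (w u^{-t})⁻¹`
    let y : Oˣ := (w * u ^ (-t))⁻¹
    have h3 : u * y ^ m = z⁻¹ := by
      refine eq_inv_of_mul_eq_one_left ?_
      rw [← e2]
      have hyw : y * w = u ^ t := by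
        rw [show y = (u ^ (-t))⁻¹ * w⁻¹ from mul_inv_rev w _, inv_mul_cancel_right, zpow_neg, inv_inv]
      calc u * y ^ m * (w ^ m * u ^ (-(1 + t * (m : ℤ))))
          = u ^ (1 : ℤ) * ((y * w) ^ m * u ^ (-(1 + t * (m : ℤ)))) := by rw [mul_pow, zpow_one]; ac_rfl
        _ = u ^ ((1 : ℤ) + (t * m + -(1 + t * (m : ℤ)))) := by
              rw [hyw, ← zpow_natCast (u ^ t), ← zpow_mul, zpow_add, zpow_add]
        _ = 1 := by rw [show (1 : ℤ) + (t * m + -(1 + t * (m : ℤ))) = 0 by ring, zpow_zero]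
    refine ⟨y, r * (y ^ m : Oˣ), ?_⟩
    calc (u : O) * ((y : O) ^ m + ϖ * (r * ((y ^ m : Oˣ) : O))) = ((u * y ^ m : Oˣ) : O) * (1 + ϖ * r) := by
          push_cast; ring
      _ = 1 := by rw [h3, ← hz, Units.inv_mul]
  · rintro ⟨y, r, he⟩
    rcases Nat.eq_zero_or_pos m with hm' | -
    · omega
    have hy : IsUnit y := by
      by_contra hc
      have hin : y ^ m + ϖ * r ∈ IsLocalRing.maximalIdeal O :=
        add_mem (Ideal.pow_mem_of_mem _ ((IsLocalRing.mem_maximalIdeal _).2 hc) m hm) (Ideal.mul_mem_right r _ hϖ)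
      exact (IsLocalRing.maximalIdeal O).ne_top_iff_one.1 (IsLocalRing.maximalIdeal.isMaximal O).ne_top
        (he ▸ Ideal.mul_mem_left _ _ hin)
    obtain ⟨y, rfl⟩ := hy
    refine ⟨y⁻¹, k, -1, 0, r * ((y⁻¹ ^ m : Oˣ) : O), by simp [hdiv], ?_⟩
    have e3 : ((y⁻¹ ^ m * u⁻¹ : Oˣ) : O) = 1 + ϖ * (r * ((y⁻¹ ^ m : Oˣ) : O)) := by
      have h' : (u : O) * ((y : O) ^ m + ϖ * r) * ((y⁻¹ ^ m * u⁻¹ : Oˣ) : O) = ((y⁻¹ ^ m * u⁻¹ : Oˣ) : O) := by
        rw [he, one_mul]
      rw [← h']
      have hyy : ((y : O) ^ m) * ((y⁻¹ ^ m : Oˣ) : O) = 1 := by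
        rw [← Units.val_pow_eq_pow_val, ← Units.val_mul, inv_pow, mul_inv_cancel, Units.val_one]
      rw [Units.val_mul]
      linear_combination (hyy + ϖ * r * ((y⁻¹ ^ m : Oˣ) : O) - ϖ * r * ((y⁻¹ ^ m : Oˣ) : O)) +
        ((y⁻¹ ^ m : Oˣ) : O) * ((y : O) ^ m + ϖ * r) * (Units.mul_inv u)
    rw [← e3, hqL]
    have : (U y⁻¹ * P ^ (k : ℤ)) ^ m * (U u * P ^ ((m * k : ℕ) : ℤ)) ^ (-1 : ℤ) = U (y⁻¹ ^ m * u⁻¹) := by
      rw [mul_pow, zpow_neg_one, mul_inv, map_mul, map_pow, map_inv U u, ← zpow_natCast (P ^ (k : ℤ)), ← zpow_mul,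
        show (k : ℤ) * m = ((m * k : ℕ) : ℤ) by push_cast; ring, mul_mul_mul_comm, mul_inv_cancel, mul_one]
    simpa [U, P] using congrArg Units.val this

end Groth.Agent.S15784
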