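import Groth.Statements.S15789
-- import your own Groth.Agent.* helpers here
import Groth.Agent.ASFam.Family

set_option autoImplicit false
universe u
open WildQuot

namespace Groth.Agent.S15789

open MvPolynomial in
/-- Let `k` be a field of characteristic `p > 0`, `n ≥ 2`, `R = k[[x_1, …, x_n]]`, `a_1, …, a_n ∈ R`
nonzero with zero constant term, and `A = R[u_1, …, u_n] / (u_i ^ p - a_i ^ (p-1) u_i - x_i : i =
1..n)`. Then the group of `R`-algebra automorphisms of `A` has exactly `p ^ n` elements, is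
commutative and every element has `p`-th power the identity (it is the elementary abelian group
generated by the substitutions `u_i ↦ u_i + a_i`), and an element of `A` is fixed by every
`R`-algebra automorphism if and only if it comes from `R`. (The published statement says that
`Frac(A)/Frac(R)` is Galois with group `(ℤ/pℤ)^n` and `R = A^H`; this row states it through the
`R`-algebra automorphisms of `A`.) -/
theorem result
    (p : ℕ) [Fact p.Prime] (k : Type u) [Field k] [CharP k p] (n : ℕ) (hn : 2 ≤ n)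
    (a : Fin n → MvPowerSeries (Fin n) k)
    (ha0 : ∀ i, a i ≠ 0) (ham : ∀ i, MvPowerSeries.constantCoeff (a i) = 0) :
    let R := MvPowerSeries (Fin n) k
    let I : Ideal (MvPolynomial (Fin n) R) :=
      Ideal.span (Set.range fun i : Fin n =>
        X i ^ p - C (a i ^ (p - 1)) * X i - C (MvPowerSeries.X i))
    Nat.card ((MvPolynomial (Fin n) R ⧸ I) ≃ₐ[R] (MvPolynomial (Fin n) R ⧸ I)) = p ^ n ∧
      (∀ σ τ : (MvPolynomial (Fin n) R ⧸ I) ≃ₐ[R] (MvPolynomial (Fin n) R ⧸ I), σ * τ = τ * σ) ∧
      (∀ σ : (MvPolynomial (Fin n) R ⧸ I) ≃ₐ[R] (MvPolynomial (Fin n) R ⧸ I), σ ^ p = 1) ∧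
      (∀ b : MvPolynomial (Fin n) R ⧸ I,
        (∀ σ : (MvPolynomial (Fin n) R ⧸ I) ≃ₐ[R] (MvPolynomial (Fin n) R ⧸ I), σ b = b) ↔
          b ∈ Set.range (algebraMap R (MvPolynomial (Fin n) R ⧸ I))) := by
  intro R I
  haveI := ASFam.isDomain_family p a ham
  have hb := ASFam.bijective_shiftHom p a (fun i => MvPowerSeries.X i) ha0
  refine ⟨?_, ?_, ?_, ?_⟩
  · refine (Nat.card_eq_of_bijective _ hb).symm.trans ?_
    show Nat.card (Fin n → ZMod p) = _
    rw [Nat.card_pi]
    simp
  · intro σ τ
    obtain ⟨j, rfl⟩ := hb.2 σ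
    obtain ⟨j', rfl⟩ := hb.2 τ
    exact (map_mul _ j j').symm.trans ((congrArg _ (mul_comm j j')).trans (map_mul _ j' j))
  · intro σ
    obtain ⟨j, rfl⟩ := hb.2 σ
    refine (map_pow _ j p).symm.trans ((congrArg _ ?_).trans (map_one _))
    refine Multiplicative.toAdd.injective ?_
    rw [toAdd_pow, toAdd_one]
    funext i
    simp
  · intro b
    refine ⟨fun h => ASFam.mem_range_of_fixed p a (fun i => MvPowerSeries.X i) ha0 b
      fun j => h (ASFam.shiftEquiv p a _ j), ?_⟩
    rintro ⟨r, rfl⟩ σ
    exact σ.commutes r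

end Groth.Agent.S15789
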