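import Groth.Statements.S15791
import Mathlib.RingTheory.Length
import Mathlib.RingTheory.RegularLocalRing.Defs

set_option autoImplicit false
universe u v
open WildQuot

namespace Groth.Agent.S15791

open IsLocalRing

/-- `length A/(J + (ab)) ≤ length A/(J + (a)) + length A/(J + (b))`. -/
theorem length_mul_le {A : Type u} [CommRing A] (J : Ideal A) (a b : A) :
    Module.length A (A ⧸ (J ⊔ Ideal.span {a * b})) ≤
      Module.length A (A ⧸ (J ⊔ Ideal.span {a})) + Module.length A (A ⧸ (J ⊔ Ideal.span {b})) := by
  set K := J ⊔ Ideal.span {a * b} with hK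
  set Ka := J ⊔ Ideal.span {a} with hKa
  set Kb := J ⊔ Ideal.span {b} with hKb
  have hle : K ≤ Ka := sup_le_sup_left
    ((Ideal.span_singleton_le_iff_mem _).2 (Ideal.mul_mem_right b _ (Ideal.mem_span_singleton_self a))) J
  let f : (A ⧸ Kb) →ₗ[A] (A ⧸ K) := Kb.liftQ (K.mkQ ∘ₗ LinearMap.mulLeft A a) (by
    refine sup_le (fun x hx ↦ ?_) ((Ideal.span_singleton_le_iff_mem _).2 ?_)
    · exact (Submodule.Quotient.mk_eq_zero _).2 (le_sup_left (a := J) (J.mul_mem_left a hx))
    · exact (Submodule.Quotient.mk_eq_zero _).2 (le_sup_right (a := J) (Ideal.mem_span_singleton_self _)))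
  let g : (A ⧸ K) →ₗ[A] (A ⧸ Ka) := K.mapQ Ka LinearMap.id hle
  have hg : Function.Surjective g := fun x ↦ by
    obtain ⟨x, rfl⟩ := Submodule.mkQ_surjective Ka x
    exact ⟨K.mkQ x, rfl⟩
  have hfg : LinearMap.ker g = LinearMap.range f := by
    apply le_antisymm
    · intro x hx
      obtain ⟨x, rfl⟩ := Submodule.mkQ_surjective K x
      obtain ⟨j, hj, y, hy, rfl⟩ := Submodule.mem_sup.1 ((Submodule.Quotient.mk_eq_zero Ka).1 hx)
      obtain ⟨c, rfl⟩ := Ideal.mem_span_singleton'.1 hy
      refine ⟨Kb.mkQ c, ?_⟩
      show K.mkQ (a * c) = K.mkQ (j + c * a)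
      rw [Submodule.mkQ_apply, Submodule.mkQ_apply, Submodule.Quotient.eq]
      rw [show a * c - (j + c * a) = -j by ring]
      exact le_sup_left (a := J) (J.neg_mem hj)
    · rintro _ ⟨x, rfl⟩
      obtain ⟨x, rfl⟩ := Submodule.mkQ_surjective Kb x
      exact (Submodule.Quotient.mk_eq_zero Ka).2
        (le_sup_right (a := J) (Ideal.mem_span_singleton'.2 ⟨x, mul_comm _ _⟩))
  rw [Module.length_eq_add_of_exact (LinearMap.ker g).subtype g (Submodule.injective_subtype _) hg
    g.exact_subtype_ker_map, hfg, add_comm]
  exact add_le_add le_rfl (Module.length_le_of_surjective f.rangeRestrict f.surjective_rangeRestrict)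

theorem length_prod_le {A : Type u} [CommRing A] (J : Ideal A) {ι : Type*} (s : Finset ι)
    (a : ι → A) :
    Module.length A (A ⧸ (J ⊔ Ideal.span {∏ i ∈ s, a i})) ≤
      ∑ i ∈ s, Module.length A (A ⧸ (J ⊔ Ideal.span {a i})) := by
  classical
  induction s using Finset.induction_on with
  | empty =>
    rw [Finset.prod_empty, Ideal.span_singleton_one, sup_top_eq]
    exact le_of_eq (Module.length_eq_zero)
  | @insert i s hi ih =>
    rw [Finset.prod_insert hi, Finset.sum_insert hi]
    exact (length_mul_le J _ _).trans (add_le_add le_rfl ih)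

/-- Let `A` be a regular local ring of Krull dimension `n` with maximal ideal `m`, let a finite group
`G` of order `g` act on `A` by ring automorphisms, and let `u_1, …, u_n` be an admissible regular
system of parameters: for every choice `σ_1, …, σ_n ∈ G`, the elements `σ_1 u_1, …, σ_n u_n`
generate `m`. With `x_i = ∏_{σ ∈ G} σ u_i` the norms, the length of `A / (x_1, …, x_n)` is at most
`g ^ n`. (The published statement is for a complete regular local ring containing a `G`-fixed field
of representatives and asserts that the length equals `g ^ n`; this row states the upper bound for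
any regular local ring.) -/
theorem result
    (A : Type u) [CommRing A] [IsRegularLocalRing A]
    (G : Type v) [Group G] [Fintype G] [MulSemiringAction G A]
    (n : ℕ) (hn : ringKrullDim A = n) (u : Fin n → A)
    (hu : ∀ τ : Fin n → G,
      Ideal.span (Set.range fun i => τ i • u i) = IsLocalRing.maximalIdeal A) :
    Module.length A (A ⧸ Ideal.span (Set.range fun i => ∏ σ : G, σ • u i)) ≤
      (Fintype.card G ^ n : ℕ) := by
  classical
  let x : Fin n → A := fun i => ∏ σ : G, σ • u i
  -- replace the norms by conjugates one at a time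
  have key : ∀ S : Finset (Fin n), ∀ τ : Fin n → G,
      Module.length A (A ⧸ Ideal.span (Set.range fun i => if i ∈ S then x i else τ i • u i)) ≤
        ((Fintype.card G ^ S.card : ℕ) : ℕ∞) := by
    intro S
    induction S using Finset.induction_on with
    | empty =>
      intro τ
      rw [show (fun i => if i ∈ (∅ : Finset (Fin n)) then x i else τ i • u i) = fun i => τ i • u i from
        funext fun i => if_neg (Finset.notMem_empty i), hu τ, Finset.card_empty, pow_zero, Nat.cast_one]
      haveI : IsSimpleModule A (A ⧸ maximalIdeal A) :=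
        isSimpleModule_iff_isCoatom.mpr (maximalIdeal.isMaximal A).out
      exact le_of_eq (Module.length_eq_one A _)
    | @insert j S hj ih =>
      intro τ
      let J : Ideal A := Ideal.span
        ((fun i => if i ∈ S then x i else τ i • u i) '' {j}ᶜ)
      have hspan : ∀ f : Fin n → A,
          (∀ i, i ≠ j → f i = if i ∈ S then x i else τ i • u i) →
          Ideal.span (Set.range f) = J ⊔ Ideal.span {f j} := fun f hf ↦ by
        rw [← Ideal.span_union]
        congr 1
        ext y
        constructor
        · rintro ⟨i, rfl⟩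
          rcases eq_or_ne i j with rfl | hij
          · exact Or.inr rfl
          · exact Or.inl ⟨i, hij, (hf i hij).symm⟩
        · rintro (⟨i, hij, rfl⟩ | rfl)
          · exact ⟨i, hf i hij⟩
          · exact ⟨j, rfl⟩
      rw [hspan _ (fun i hij ↦ by simp [Finset.mem_insert, hij]), if_pos (Finset.mem_insert_self _ _)]
      refine (length_prod_le J Finset.univ fun σ : G => σ • u j).trans ?_
      rw [Finset.card_insert_of_notMem hj, pow_succ', Nat.cast_mul]
      refine (Finset.sum_le_sum fun σ _ ↦ ?_).trans (le_of_eq ?_)
        (b := ∑ _σ : G, ((Fintype.card G ^ S.card : ℕ) : ℕ∞))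
      · have := ih (Function.update τ j σ)
        rw [hspan _ (fun i hij ↦ by simp [Function.update_of_ne hij]), if_neg hj,
          Function.update_self] at this
        exact this
      · rw [Finset.sum_const, Finset.card_univ, nsmul_eq_mul]
  have h := key Finset.univ (fun _ => 1)
  rw [show (fun i => if i ∈ (Finset.univ : Finset (Fin n)) then x i else (1 : G) • u i) = x from
    funext fun i => if_pos (Finset.mem_univ i), Finset.card_univ, Fintype.card_fin] at h
  exact h

end Groth.Agent.S15791
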