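import Groth.Statements.S15794
-- import your own Groth.Agent.* helpers here
import Groth.Agent.WildRam.Quot

set_option autoImplicit false
universe u v w
open WildQuot

namespace Groth.Agent.S15794
open Groth.Agent.WildRam

/-- Let `A` be a complete regular local ring of Krull dimension at least `2` and prime characteristic
`p`, with maximal ideal `m`; let `k` be a field with a ring map `k → A` whose composite with `A →
A/m` is onto; let `G` be a group of order `p` acting on `A` by ring automorphisms fixing the image
of `k` and ramified precisely at the origin (for every prime `P ≠ m`, the inertia subgroup of `P`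
(the elements of `G` fixing every element modulo `P`) is trivial). Then `A` is not a flat module
over the ring of invariants `A^G`. (The published statement also asserts that `A^G ⊂ A` is local and
finite of degree `p` with trivial residue field extension; this row omits those clauses.) -/
theorem result
    (p : ℕ) [Fact p.Prime] (A : Type u) [CommRing A] [IsRegularLocalRing A] [CharP A p]
    [IsAdicComplete (IsLocalRing.maximalIdeal A) A] (hdim : 2 ≤ ringKrullDim A)
    (k : Type v) [Field k] [Algebra k A]
    (hk : Function.Surjective (IsLocalRing.residue A ∘ algebraMap k A))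
    (G : Type w) [Group G] [Finite G] [MulSemiringAction G A] (hcard : Nat.card G = p)
    (hGk : ∀ (σ : G) (c : k), σ • algebraMap k A c = algebraMap k A c)
    (hram : ∀ P : Ideal A, P.IsPrime → P ≠ IsLocalRing.maximalIdeal A → P.inertia G = ⊥) :
    ¬ Module.Flat (FixedPoints.subring A G) A := by
  haveI : Nontrivial G := Finite.one_lt_card_iff_nontrivial.1 (hcard ▸ (Fact.out : p.Prime).one_lt)
  haveI : IsDomain A := Groth.Agent.RegLoc.isDomain A
  haveI : IsIntegrallyClosed A := Groth.Agent.RegLoc.isIntegrallyClosed
  have hG : ∀ g h : G, g * h = h * g := by
    haveI := isCyclic_of_prime_card hcard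
    obtain ⟨g₀, hg₀⟩ := IsCyclic.exists_generator (α := G)
    intro g h
    obtain ⟨a, rfl⟩ := Subgroup.mem_zpowers_iff.1 (hg₀ g)
    obtain ⟨b, rfl⟩ := Subgroup.mem_zpowers_iff.1 (hg₀ h)
    exact zpow_mul_comm g₀ a b
  obtain ⟨hN, hF, hC⟩ := finite_fixed (G := G) hk hGk
  intro hflat
  haveI := hN
  haveI := hF
  exact not_free hram hk hGk hG hdim Module.free_of_flat_of_isLocalRing

end Groth.Agent.S15794
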