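import Groth.Statements.S15796
-- import your own Groth.Agent.* helpers here
import Mathlib

set_option autoImplicit false
universe u v
open WildQuot

namespace Groth.Agent.S15796

/-- Let `A` be a Noetherian local ring of Krull dimension `n` whose maximal ideal `m` is generated by
`u_1, …, u_n`, and let a finite group `G` act on `A` by ring automorphisms. If some `σ ∈ G` maps
some `u_i` into the ideal generated by the `u_j` with `j ≠ i`, then the system `u` is not weakly
admissible: for some choice `σ_1, …, σ_n ∈ G` the radical of `(σ_1 u_1, …, σ_n u_n)` does not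
contain `m`. (The published statement is for a linear action on `k[[u_1, …, u_n]]` whose matrix has
a zero diagonal entry; this row assumes instead that some `σ u_i` lies in the ideal generated by the
other `u_j`.) -/
theorem result
    (A : Type u) [CommRing A] [IsLocalRing A] [IsNoetherianRing A]
    (G : Type v) [Group G] [Finite G] [MulSemiringAction G A]
    (n : ℕ) (hn : ringKrullDim A = n) (u : Fin n → A)
    (hu : Ideal.span (Set.range u) = IsLocalRing.maximalIdeal A)
    (σ : G) (i : Fin n) (hσ : σ • u i ∈ Ideal.span (u '' {j | j ≠ i})) :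
    ∃ τ : Fin n → G,
      ¬ IsLocalRing.maximalIdeal A ≤ (Ideal.span (Set.range fun j => τ j • u j)).radical := by
  classical
  let τ : Fin n → G := fun j => if j = i then σ else 1
  refine ⟨τ, fun hle => ?_⟩
  set s : Finset A := (Finset.univ.erase i).image u
  have hs : u '' {j | j ≠ i} = (s : Set A) := by ext y; simp [s]
  have hT : Ideal.span (Set.range fun j => τ j • u j) ≤ Ideal.span (s : Set A) := by
    rw [Ideal.span_le]
    rintro _ ⟨j, rfl⟩
    rw [← hs]
    by_cases hj : j = i
    · subst hj; simpa [τ] using hσ
    · simpa [τ, hj] using Ideal.subset_span (Set.mem_image_of_mem u (show j ∈ {l | l ≠ i} from hj))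
  have hsm : Ideal.span (s : Set A) ≤ IsLocalRing.maximalIdeal A := by
    rw [← hu, ← hs]
    exact Ideal.span_mono (Set.image_subset_range _ _)
  have hmin : IsLocalRing.maximalIdeal A ∈ (Ideal.span (s : Set A)).minimalPrimes := by
    refine ⟨⟨(IsLocalRing.maximalIdeal.isMaximal A).isPrime, hsm⟩, fun q hq _ => ?_⟩
    exact hle.trans ((Ideal.radical_mono hT).trans ((Ideal.IsPrime.radical_le_iff hq.1).2 hq.2))
  have h1 := Ideal.height_le_card_of_mem_minimalPrimes_span_finset hmin
  have h2 : ((IsLocalRing.maximalIdeal A).height : WithBot ℕ∞) = n :=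
    IsLocalRing.maximalIdeal_height_eq_ringKrullDim.trans hn
  have h3 : s.card < n := by
    refine lt_of_le_of_lt Finset.card_image_le ?_
    rw [Finset.card_erase_of_mem (Finset.mem_univ i), Finset.card_univ, Fintype.card_fin]
    exact Nat.sub_one_lt (by have := i.2; omega)
  have h4 : (n : ℕ∞) ≤ s.card := by
    have := WithBot.coe_le_coe.2 h1
    rw [h2] at this
    exact_mod_cast this
  exact absurd (ENat.coe_le_coe.1 h4) (not_le.2 h3)

end Groth.Agent.S15796
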