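import Groth.Statements.S15797
-- import your own Groth.Agent.* helpers here
import Groth.Agent.SerreReg.MiracleFinite

set_option autoImplicit false
universe u v
open WildQuot

namespace Groth.Agent.S15797

open IsLocalRing
open Groth.Agent

theorem le_length_mul {A : Type u} [CommRing A] (J : Ideal A) (a b : A) (ha : ∀ c, c * a ∈ J → c ∈ J) :
    Module.length A (A ⧸ (J ⊔ Ideal.span {a})) + Module.length A (A ⧸ (J ⊔ Ideal.span {b})) ≤
      Module.length A (A ⧸ (J ⊔ Ideal.span {a * b})) := by
  set K := J ⊔ Ideal.span {a * b}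
  set Ka := J ⊔ Ideal.span {a}
  set Kb := J ⊔ Ideal.span {b}
  have hle : K ≤ Ka := sup_le_sup_left
    ((Ideal.span_singleton_le_iff_mem _).2 (Ideal.mul_mem_right b _ (Ideal.mem_span_singleton_self a))) J
  let g : (A ⧸ K) →ₗ[A] (A ⧸ Ka) := K.mapQ Ka LinearMap.id hle
  have hg : Function.Surjective g := fun x ↦ by
    obtain ⟨x, rfl⟩ := Submodule.mkQ_surjective Ka x
    exact ⟨K.mkQ x, rfl⟩
  let f : (A ⧸ Kb) →ₗ[A] LinearMap.ker g := LinearMap.codRestrict _ (Kb.liftQ (K.mkQ ∘ₗ LinearMap.mulLeft A a) (by
    refine sup_le (fun x hx ↦ ?_) ((Ideal.span_singleton_le_iff_mem _).2 ?_)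
    · exact (Submodule.Quotient.mk_eq_zero _).2 (le_sup_left (a := J) (J.mul_mem_left a hx))
    · exact (Submodule.Quotient.mk_eq_zero _).2 (le_sup_right (a := J) (Ideal.mem_span_singleton_self _)))) fun x => by
      obtain ⟨x, rfl⟩ := Submodule.mkQ_surjective Kb x
      exact (Submodule.Quotient.mk_eq_zero Ka).2 (le_sup_right (a := J) (Ideal.mem_span_singleton'.2 ⟨x, mul_comm _ _⟩))
  have hf : Function.Injective f := (injective_iff_map_eq_zero f).2 fun x hx => by
    obtain ⟨x, rfl⟩ := Submodule.mkQ_surjective Kb x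
    obtain ⟨j, hj, y, hy, hjy⟩ := Submodule.mem_sup.1 ((Submodule.Quotient.mk_eq_zero K).1 (congrArg Subtype.val hx :))
    obtain ⟨c, rfl⟩ := Ideal.mem_span_singleton'.1 hy
    have h1 : x - c * b ∈ J := ha _ (by
      rw [show (x - c * b) * a = j by simp only [LinearMap.mulLeft_apply] at hjy; linear_combination -hjy]
      exact hj)
    refine (Submodule.Quotient.mk_eq_zero Kb).2 ?_
    rw [← sub_add_cancel x (c * b)]
    exact Submodule.add_mem_sup h1 (Ideal.mem_span_singleton'.2 ⟨c, rfl⟩)
  rw [Module.length_eq_add_of_exact (LinearMap.ker g).subtype g (Submodule.injective_subtype _) hg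
    g.exact_subtype_ker_map, add_comm]
  exact add_le_add (Module.length_le_of_injective f hf) le_rfl

theorem le_length_prod {A : Type u} [CommRing A] (J : Ideal A) {ι : Type*} (s : Finset ι) (a : ι → A)
    (ha : ∀ i ∈ s, ∀ c, c * a i ∈ J → c ∈ J) :
    ∑ i ∈ s, Module.length A (A ⧸ (J ⊔ Ideal.span {a i})) ≤
      Module.length A (A ⧸ (J ⊔ Ideal.span {∏ i ∈ s, a i})) := by
  classical
  induction s using Finset.induction_on with
  | empty => simp
  | @insert i s hi ih =>
    rw [Finset.prod_insert hi, Finset.sum_insert hi]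
    exact (add_le_add le_rfl (ih fun j hj => ha j (Finset.mem_insert_of_mem hj))).trans
      (le_length_mul J _ _ (ha i (Finset.mem_insert_self i s)))

/-- Let `A` be a regular local ring of Krull dimension `n` with maximal ideal `m` generated by `u_1, …,
u_n`, let a finite group `G` of order `g` act on `A` by ring automorphisms, and suppose `u` is
weakly admissible: for every choice `σ_1, …, σ_n ∈ G` the radical of `(σ_1 u_1, …, σ_n u_n)`
contains `m`. With `x_i = ∏_{σ ∈ G} σ u_i` the norms, the length of `A / (x_1, …, x_n)` is at least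
`g ^ n` (so the finite flat map from `k[[x_1, …, x_n]]` has degree at least `g ^ n`). (The published
statement is for a complete regular local ring containing a `G`-fixed field of representatives; this
row does not assume those.) -/
theorem result
    (A : Type u) [CommRing A] [IsRegularLocalRing A]
    (G : Type v) [Group G] [Fintype G] [MulSemiringAction G A]
    (n : ℕ) (hn : ringKrullDim A = n) (u : Fin n → A)
    (hu : Ideal.span (Set.range u) = IsLocalRing.maximalIdeal A)
    (hwa : ∀ τ : Fin n → G,
      IsLocalRing.maximalIdeal A ≤ (Ideal.span (Set.range fun i => τ i • u i)).radical) :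
    ((Fintype.card G ^ n : ℕ) : ℕ∞) ≤
      Module.length A (A ⧸ Ideal.span (Set.range fun i => ∏ σ : G, σ • u i)) := by
  classical
  obtain ⟨rs, hlen, hreg, hspan⟩ := Groth.Agent.SerreReg.exists_regular_rsop n A hn
  have hR : CMSop.HasRegSeq (R := A) n A := hlen ▸
    CMSop.hasRegSeq_of_isWeaklyRegular rs A hreg (fun r hr => hspan ▸ Ideal.subset_span hr)
  let x : Fin n → A := fun i => ∏ σ : G, σ • u i
  have hum : ∀ (σ : G) (i : Fin n), σ • u i ∈ maximalIdeal A := fun σ i hun => by
    have h1 : IsUnit (u i) := by simpa using hun.map (MulSemiringAction.toRingHom G A σ⁻¹)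
    exact (hu ▸ Ideal.subset_span ⟨i, rfl⟩ : u i ∈ maximalIdeal A) h1
  let f : Finset (Fin n) → (Fin n → G) → Fin n → A := fun S τ i => if i ∈ S then x i else τ i • u i
  have hsop : ∀ S τ, CMSop.IsSop (f S τ) := by
    intro S τ
    refine le_antisymm ((maximalIdeal.isMaximal A).isPrime.radical_le_iff.2 (Ideal.span_le.2 ?_)) ?_
    · rintro _ ⟨i, rfl⟩
      show f S τ i ∈ maximalIdeal A
      simp only [f]
      split_ifs with hi
      · simp only [x]
        rw [← Finset.mul_prod_erase Finset.univ (fun σ : G => σ • u i) (Finset.mem_univ 1)]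
        exact Ideal.mul_mem_right _ _ (hum 1 i)
      · exact hum (τ i) i
    · rw [Ideal.radical_eq_sInf]
      refine le_sInf fun P ⟨hP, hPp⟩ => ?_
      have hex : ∀ i, ∃ σ : G, σ • u i ∈ P := fun i => by
        have h1 : f S τ i ∈ P := hP (Ideal.subset_span ⟨i, rfl⟩)
        simp only [f] at h1
        split_ifs at h1 with hi
        · obtain ⟨σ, -, hσ⟩ := hPp.prod_mem_iff.1 h1
          exact ⟨σ, hσ⟩
        · exact ⟨τ i, h1⟩
      choose τ' hτ' using hex
      refine (hwa τ').trans (hPp.radical_le_iff.2 (Ideal.span_le.2 ?_))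
      rintro _ ⟨i, rfl⟩
      exact hτ' i
  have key : ∀ (S : Finset (Fin n)) (τ : Fin n → G),
      ((Fintype.card G ^ S.card : ℕ) : ℕ∞) ≤ Module.length A (A ⧸ Ideal.span (Set.range (f S τ))) := by
    intro S
    induction S using Finset.induction_on with
    | empty =>
      intro τ
      rw [Finset.card_empty, pow_zero, Nat.cast_one, Order.one_le_iff_ne_zero, ne_eq, Module.length_eq_zero_iff]
      intro h
      exact (maximalIdeal.isMaximal A).ne_top (top_le_iff.1 ((Ideal.Quotient.subsingleton_iff.1 h).ge.trans (hsop ∅ τ).span_le))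
    | @insert j S hj ih =>
      intro τ
      let J : Ideal A := CMSop.omitSpan (f (insert j S) τ) j
      have hspan' : Ideal.span (Set.range (f (insert j S) τ)) = J ⊔ Ideal.span {∏ σ : G, σ • u j} := by
        rw [← CMSop.omitSpan_sup (f (insert j S) τ) j, show f (insert j S) τ j = ∏ σ : G, σ • u j from
          if_pos (Finset.mem_insert_self j S)]
      have hσ : ∀ σ : G, ((Fintype.card G ^ S.card : ℕ) : ℕ∞) ≤ Module.length A (A ⧸ (J ⊔ Ideal.span {σ • u j})) ∧
          ∀ c, c * (σ • u j) ∈ J → c ∈ J := by
        intro σ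
        have hJ : CMSop.omitSpan (f S (Function.update τ j σ)) j = J := CMSop.omitSpan_congr fun i hij => by
          simp [f, Finset.mem_insert, hij]
        have hfj : f S (Function.update τ j σ) j = σ • u j := by simp [f, hj]
        refine ⟨?_, fun c hc => ?_⟩
        · have h1 := ih (Function.update τ j σ)
          rwa [← CMSop.omitSpan_sup _ j, hJ, hfj] at h1
        · rw [← hJ] at hc ⊢
          rw [← hfj, mul_comm] at hc
          exact (hsop S _).mem_of_mul_mem hR j hc
      rw [Finset.card_insert_of_notMem hj, pow_succ', Nat.cast_mul, hspan']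
      refine le_trans ?_ (le_length_prod J Finset.univ (fun σ : G => σ • u j) fun σ _ => (hσ σ).2)
      refine le_trans (le_of_eq ?_) (Finset.sum_le_sum fun σ _ => (hσ σ).1)
      rw [Finset.sum_const, Finset.card_univ, nsmul_eq_mul]
  have h := key Finset.univ fun _ => 1
  rw [Finset.card_univ, Fintype.card_fin] at h
  rw [show f Finset.univ (fun _ => (1 : G)) = x from funext fun i => if_pos (Finset.mem_univ i)] at h
  exact h

end Groth.Agent.S15797
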