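import Groth.Statements.S15801
-- import your own Groth.Agent.* helpers here
import Groth.Agent.WildRam.Noether

set_option autoImplicit false
universe u v
open WildQuot

namespace Groth.Agent.S15801

/-- Let `A` be a complete regular local ring of Krull dimension `n`, `k` a field with `k → A` mapping
onto the residue field, `x_1, …, x_n ∈ A` a system of parameters (the radical of `(x_1, …, x_n)` is
the maximal ideal), and `φ : k[[X_1, …, X_n]] → A` the `k`-algebra map with `φ X_i = x_i`. Then `A`
is a finite free module over `k[[X_1, …, X_n]]` through `φ`, of rank the length `d` of `A / (x_1, …,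
x_n)`: there are `b_1, …, b_d ∈ A` such that `(r_1, …, r_d) ↦ Σ φ(r_i) b_i` is a bijection from
`d`-tuples of power series onto `A`. -/
theorem result
    (A : Type u) [CommRing A] [IsRegularLocalRing A]
    [IsAdicComplete (IsLocalRing.maximalIdeal A) A] (n : ℕ) (hn : ringKrullDim A = n)
    (k : Type v) [Field k] [Algebra k A]
    (hk : Function.Surjective (IsLocalRing.residue A ∘ algebraMap k A))
    (x : Fin n → A) (hx : (Ideal.span (Set.range x)).radical = IsLocalRing.maximalIdeal A)
    (φ : MvPowerSeries (Fin n) k →ₐ[k] A) (hφ : ∀ i, φ (MvPowerSeries.X i) = x i) :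
    ∃ (d : ℕ) (b : Fin d → A), (d : ℕ∞) = Module.length A (A ⧸ Ideal.span (Set.range x)) ∧
      Function.Bijective (fun r : Fin d → MvPowerSeries (Fin n) k => ∑ i, φ (r i) * b i) := by
  let k' := (algebraMap k A).range
  let e : k ≃+* k' := RingEquiv.ofBijective (algebraMap k A).rangeRestrict
    ⟨fun x y h => (algebraMap k A).injective (congrArg Subtype.val h), RingHom.rangeRestrict_surjective _⟩
  letI : Field k' := (e.toMulEquiv.symm.isField (Field.toIsField k)).toField
  let E : MvPowerSeries (Fin n) k ≃+* MvPowerSeries (Fin n) k' :=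
    RingEquiv.ofBijective (MvPowerSeries.map e.toRingHom)
      ⟨fun f g h => MvPowerSeries.ext fun d => e.injective (by
        have := congrArg (MvPowerSeries.coeff d) h
        simpa using this),
       fun g => ⟨MvPowerSeries.map e.symm.toRingHom g, MvPowerSeries.ext fun d => by simp⟩⟩
  have hE : ∀ c : k', E.symm (MvPowerSeries.C c) = MvPowerSeries.C (e.symm c) := fun c => by
    rw [RingEquiv.symm_apply_eq]
    simp [E]
  have hEX : ∀ i, E.symm (MvPowerSeries.X i) = MvPowerSeries.X i := fun i => by
    rw [RingEquiv.symm_apply_eq]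
    simp [E]
  have hec : ∀ c : k', algebraMap k A (e.symm c) = (c : A) := fun c => congrArg Subtype.val (e.apply_symm_apply c)
  let φ' : MvPowerSeries (Fin n) k' →ₐ[k'] A :=
    { φ.toRingHom.comp E.symm.toRingHom with
      commutes' := fun c => by
        show φ (E.symm (MvPowerSeries.C c)) = (c : A)
        rw [hE]
        exact (φ.commutes (e.symm c)).trans (hec c) }
  obtain ⟨d, b, hd, hb⟩ := Groth.Agent.WildRam.exists_basis_of_sop hn (k := k')
    (fun z => by obtain ⟨c, hc⟩ := hk z; exact ⟨⟨_, c, rfl⟩, hc⟩) x hx φ' (fun i => by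
      show φ (E.symm (MvPowerSeries.X i)) = x i
      rw [hEX, hφ])
  refine ⟨d, b, hd, ?_⟩
  have : (fun r : Fin d → MvPowerSeries (Fin n) k => ∑ i, φ (r i) * b i) =
      (fun r : Fin d → MvPowerSeries (Fin n) k' => ∑ i, φ' (r i) * b i) ∘ Equiv.piCongrRight (fun _ => E.toEquiv) := by
    funext r
    refine Finset.sum_congr rfl fun i _ => ?_
    show φ (r i) * b i = φ (E.symm (E (r i))) * b i
    rw [RingEquiv.symm_apply_apply]
  rw [this]
  exact hb.comp (Equiv.bijective _)

end Groth.Agent.S15801
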