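import Groth.Statements.S15799
import Groth.Agent.S15790
import Groth.Agent.S15801
import Groth.Agent.WildExt.Cover
import Groth.Agent.WildExt.Closed
import Groth.Agent.WildRam.Quot

set_option autoImplicit false
universe u v w
open WildQuot

namespace Groth.Agent.S15799

/-- Let `A` be a complete regular local ring of Krull dimension `n ≥ 2` and prime characteristic `p`,
`k` a field with `k → A` mapping onto the residue field, and `G` a group of order `p` acting on `A`
by `k`-algebra automorphisms, ramified precisely at the origin (for every non-maximal prime `P`, the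
inertia subgroup of `P` (the elements of `G` fixing every element modulo `P`) is trivial). Let `u_1,
…, u_n` be an admissible regular system of parameters (for every choice `σ_1, …, σ_n ∈ G`, the
elements `σ_i u_i` generate the maximal ideal) and let `φ : k[[X_1, …, X_n]] → A` be the `k`-algebra
map with `φ X_i = x_i = ∏_{σ} σ u_i`, whose image is the norm subring `R`. Then `Frac(A^G)` is not
purely inseparable over `Frac(R)`; equivalently (as `A` is integral over the integrally closed `R`),
some `G`-invariant `y ∈ A` has no iterated `p`-th power `y ^ (p ^ e)` in `R`. -/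
theorem result
    (p : ℕ) [Fact p.Prime] (A : Type u) [CommRing A] [IsRegularLocalRing A] [CharP A p]
    [IsAdicComplete (IsLocalRing.maximalIdeal A) A] (n : ℕ) (hn : ringKrullDim A = n) (h2 : 2 ≤ n)
    (k : Type v) [Field k] [Algebra k A]
    (hk : Function.Surjective (IsLocalRing.residue A ∘ algebraMap k A))
    (G : Type w) [Group G] [Fintype G] [MulSemiringAction G A] (hcard : Fintype.card G = p)
    [SMulCommClass G k A]
    (hram : ∀ P : Ideal A, P.IsPrime → P ≠ IsLocalRing.maximalIdeal A → P.inertia G = ⊥)
    (u : Fin n → A)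
    (hu : ∀ τ : Fin n → G,
      Ideal.span (Set.range fun i => τ i • u i) = IsLocalRing.maximalIdeal A)
    (φ : MvPowerSeries (Fin n) k →ₐ[k] A) (hφ : ∀ i, φ (MvPowerSeries.X i) = ∏ σ : G, σ • u i) :
    ∃ y : A, (∀ σ : G, σ • y = y) ∧ ∀ e : ℕ, y ^ p ^ e ∉ Set.range φ := by
  classical
  by_contra hcon
  push Not at hcon
  haveI := RegLoc.isDomain A
  haveI : IsIntegrallyClosed A := RegLoc.isIntegrallyClosed
  haveI : IsNoetherianRing A := inferInstance
  let x : Fin n → A := fun i => ∏ σ : G, σ • u i
  have hu1 : Ideal.span (Set.range u) = IsLocalRing.maximalIdeal A := by simpa using hu fun _ => 1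
  have hxle : IsLocalRing.maximalIdeal A ≤ (Ideal.span (Set.range x)).radical :=
    (S15790.result A G n u hu1).2 fun τ => by rw [hu τ]; exact Ideal.le_radical
  have hxm : ∀ i, x i ∈ IsLocalRing.maximalIdeal A := fun i => by
    rw [← hu1]
    show ∏ σ : G, σ • u i ∈ _
    rw [← Finset.mul_prod_erase Finset.univ (fun σ : G => σ • u i) (Finset.mem_univ 1), one_smul]
    exact Ideal.mul_mem_right _ _ (Ideal.subset_span ⟨i, rfl⟩)
  have hx : (Ideal.span (Set.range x)).radical = IsLocalRing.maximalIdeal A := le_antisymm
    (((IsLocalRing.maximalIdeal.isMaximal A).isPrime.radical_le_iff).2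
      (Ideal.span_le.2 (by rintro _ ⟨i, rfl⟩; exact hxm i))) hxle
  obtain ⟨d, b, -, hb⟩ := S15801.result A n hn k hk x hx φ hφ
  let P := MvPowerSeries (Fin n) k
  letI : Algebra P A := φ.toRingHom.toAlgebra
  have hinj : Function.Injective (algebraMap P A) := by
    rw [injective_iff_map_eq_zero]
    intro f hf
    rcases Nat.eq_zero_or_pos d with rfl | hd
    · obtain ⟨r, hr⟩ := hb.2 1
      simp at hr
    have h := hb.1 (a₁ := Pi.single ⟨0, hd⟩ f) (a₂ := 0) (by
      simp only [Pi.zero_apply, map_zero, zero_mul, Finset.sum_const_zero]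
      refine Finset.sum_eq_zero fun i _ => ?_
      by_cases hi : i = ⟨0, hd⟩
      · subst hi
        rw [Pi.single_eq_same, show φ f = 0 from hf, zero_mul]
      · rw [Pi.single_eq_of_ne hi, map_zero, zero_mul])
    simpa using congrFun h ⟨0, hd⟩
  haveI : Module.Finite P A := ⟨⟨Finset.univ.image b, by
    rw [eq_top_iff]
    intro a _
    obtain ⟨r, rfl⟩ := hb.2 a
    exact Submodule.sum_mem _ fun i _ => Submodule.smul_mem _ (r i) (Submodule.subset_span (by simp))⟩⟩
  haveI : FaithfulSMul P A := (faithfulSMul_iff_algebraMap_injective P A).2 hinj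
  haveI : Algebra.IsIntegral P A := Algebra.IsIntegral.of_finite P A
  haveI : IsDomain P := hinj.isDomain _
  haveI := RegLoc.isIntegrallyClosed (A := P)
  haveI : IsNoetherianRing P := inferInstance
  -- the action is linear over the power series ring
  have hfix : ∀ (σ : G) (f : P), σ • φ f = φ f := by
    intro σ f
    have key : ∀ (N : ℕ) (f : P), σ • φ f - φ f ∈ IsLocalRing.maximalIdeal A ^ N := by
      intro N
      induction N with
      | zero => intro f; simp
      | succ N ih =>
        intro f
        have hf : f - MvPowerSeries.C (MvPowerSeries.constantCoeff f) ∈ IsLocalRing.maximalIdeal P := by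
          rw [IsLocalRing.mem_maximalIdeal, mem_nonunits_iff, MvPowerSeries.isUnit_iff_constantCoeff]
          simp
        rw [← ArtPow.span_X_eq_maximalIdeal] at hf
        obtain ⟨g, hg⟩ := Ideal.mem_span_range_iff_exists_fun.1 hf
        have h1 : f = MvPowerSeries.C (MvPowerSeries.constantCoeff f) + ∑ i, g i * MvPowerSeries.X i := by
          rw [hg]; ring
        have h2 : φ (MvPowerSeries.C (MvPowerSeries.constantCoeff f)) = algebraMap k A (MvPowerSeries.constantCoeff f) :=
          φ.commutes _
        have h3 : ∀ i, σ • x i = x i := fun i => by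
          show σ • ∏ τ : G, τ • u i = ∏ τ : G, τ • u i
          rw [Finset.smul_prod']
          exact Fintype.prod_equiv (Equiv.mulLeft σ) _ _ fun τ => (mul_smul σ τ (u i)).symm
        rw [h1]
        simp only [map_add, map_sum, map_mul, smul_add, Finset.smul_sum, smul_mul', h2, smul_algebraMap]
        rw [add_sub_add_left_eq_sub, ← Finset.sum_sub_distrib]
        refine Ideal.sum_mem _ fun i _ => ?_
        rw [hφ, h3, ← sub_mul, pow_succ]
        exact Ideal.mul_mem_mul (ih _) (hxm i)
    rw [← sub_eq_zero]
    have hmem : σ • φ f - φ f ∈ (⨅ N, IsLocalRing.maximalIdeal A ^ N : Ideal A) :=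
      Ideal.mem_iInf.2 fun N => key N f
    rwa [Ideal.iInf_pow_eq_bot_of_isLocalRing _ (IsLocalRing.maximalIdeal.isMaximal A).ne_top, Ideal.mem_bot] at hmem
  haveI : SMulCommClass G P A := ⟨fun σ f a => by
    rw [Algebra.smul_def, Algebra.smul_def, smul_mul']
    exact congrArg (· * σ • a) (hfix σ f)⟩
  -- fraction fields
  let L := FractionRing A
  let K := FractionRing P
  letI := FractionRing.liftAlgebra P L
  letI := IsFractionRing.mulSemiringAction G A L
  haveI : SMulCommClass G K L := IsFractionRing.smulCommClass G P A K L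
  haveI : CharP L p := charP_of_injective_algebraMap (IsFractionRing.injective A L) p
  haveI : CharP K p := (algebraMap K L).charP (algebraMap K L).injective p
  haveI : ExpChar K p := ExpChar.prime Fact.out
  haveI : ExpChar A p := ExpChar.prime Fact.out
  haveI : FiniteDimensional K L := FiniteDimensional.of_finrank_pos (by
    rw [IsFractionRing.finrank_eq P K A L]
    exact Module.finrank_pos)
  let Ls := separableClosure K L
  haveI : IsPurelyInseparable Ls L := separableClosure.isPurelyInseparable K L
  -- the separable part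
  let C : Subalgebra P A := (Ls.toSubalgebra.restrictScalars P).comap (IsScalarTower.toAlgHom P A L)
  have hC : ∀ a : A, a ∈ C ↔ algebraMap A L a ∈ Ls := fun a => Iff.rfl
  have hstab : ∀ (σ : G) (a : A), a ∈ C → σ • a ∈ C := by
    intro σ a ha
    rw [hC, mem_separableClosure_iff] at ha ⊢
    rw [show algebraMap A L (σ • a) = σ • algebraMap A L a from algebraMap.coe_smul' σ a L]
    unfold IsSeparable at ha ⊢
    rwa [show σ • algebraMap A L a = MulSemiringAction.toAlgEquiv K L σ (algebraMap A L a) from rfl,
      minpoly.algEquiv_eq]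
  letI : MulSemiringAction G C :=
    { smul := fun σ c => ⟨σ • (c : A), hstab σ c c.2⟩
      one_smul := fun c => Subtype.ext (one_smul G (c : A))
      mul_smul := fun σ τ c => Subtype.ext (mul_smul σ τ (c : A))
      smul_zero := fun σ => Subtype.ext (smul_zero σ)
      smul_add := fun σ c d => Subtype.ext (smul_add σ (c : A) d)
      smul_one := fun σ => Subtype.ext (smul_one σ)
      smul_mul := fun σ c d => Subtype.ext (smul_mul' σ (c : A) d) }
  haveI : SMulCommClass G P C := ⟨fun σ f c => Subtype.ext (smul_comm σ f (c : A))⟩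
  -- powers land in `C`
  have hpow : ∀ a : A, ∃ e : ℕ, a ^ p ^ e ∈ C := by
    intro a
    haveI : ExpChar Ls p := expChar_of_injective_algebraMap (algebraMap K Ls).injective p
    obtain ⟨e, y, hy⟩ := IsPurelyInseparable.pow_mem Ls p (algebraMap A L a)
    refine ⟨e, (hC _).2 ?_⟩
    rw [map_pow, ← hy]
    exact y.2
  have hzero : ∀ (σ : G) (Q : Ideal A), Q.IsPrime → (∀ c : C, ((σ • c : C) : A) - c ∈ Q) → ∀ a, σ • a - a ∈ Q := by
    intro σ Q hQ h a
    obtain ⟨e, he⟩ := hpow a
    have := h ⟨_, he⟩
    rw [show ((σ • (⟨_, he⟩ : C) : C) : A) = σ • (a ^ p ^ e) from rfl, smul_pow',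
      ← sub_pow_expChar_pow] at this
    exact hQ.mem_of_pow_mem _ this
  have hne : (⊥ : Ideal A) ≠ IsLocalRing.maximalIdeal A := fun he => by
    have h1 := IsLocalRing.maximalIdeal_height_eq_ringKrullDim (R := A)
    rw [← he, Ideal.height_bot, hn] at h1
    have : (0 : ℕ) = n := by exact_mod_cast h1
    omega
  haveI : FaithfulSMul G C := ⟨fun {σ τ} h => by
    have h2 : τ⁻¹ * σ ∈ (⊥ : Ideal A).inertia G := hzero _ ⊥ Ideal.isPrime_bot fun c => by
      rw [mul_smul, h c, inv_smul_smul, sub_self]
      exact zero_mem _
    rw [hram ⊥ Ideal.isPrime_bot hne, Subgroup.mem_bot, inv_mul_eq_one] at h2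
    exact h2.symm⟩
  haveI : Module.Finite P C := Module.Finite.of_injective C.val.toLinearMap Subtype.val_injective
  haveI : IsNoetherianRing C := IsNoetherianRing.of_finite P C
  haveI hCint : Algebra.IsIntegral C A := Algebra.IsIntegral.tower_top (R := P)
  haveI : IsLocalRing C := by
    have hu : ∀ c : C, IsUnit c ↔ IsUnit (c : A) := fun c => by
      haveI := RingHom.IsIntegral.isLocalHom (algebraMap_isIntegral_iff.2 hCint)
        (Subtype.val_injective : Function.Injective (algebraMap C A))
      exact ⟨fun h => h.map C.val, fun h => IsLocalHom.map_nonunit (f := algebraMap C A) c h⟩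
    exact IsLocalRing.of_nonunits_add fun a b ha hb => by
      rw [mem_nonunits_iff, hu] at ha hb ⊢
      exact (IsLocalRing.maximalIdeal A).add_mem ha hb
  haveI : IsLocalHom (algebraMap C A) := RingHom.IsIntegral.isLocalHom (algebraMap_isIntegral_iff.2 hCint)
    (Subtype.val_injective : Function.Injective (algebraMap C A))
  haveI : IsIntegrallyClosed C := by
    refine (isIntegrallyClosed_iff (FractionRing C)).2 fun {z} hz => ?_
    obtain ⟨a, c, hc, rfl⟩ := IsFractionRing.div_surjective (A := C) z
    let g : FractionRing C →+* L := IsFractionRing.lift (g := (algebraMap A L).comp C.val.toRingHom)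
      ((IsFractionRing.injective A L).comp Subtype.val_injective)
    have hg : ∀ y : C, g (algebraMap C (FractionRing C) y) = algebraMap A L (y : A) := fun y =>
      IsFractionRing.lift_algebraMap _ y
    have hint : IsIntegral A (g (algebraMap C (FractionRing C) a / algebraMap C (FractionRing C) c)) := by
      obtain ⟨q, hq, hq0⟩ := hz
      refine ⟨q.map C.val.toRingHom, hq.map _, ?_⟩
      rw [Polynomial.eval₂_map, show (algebraMap A L).comp C.val.toRingHom = g.comp (algebraMap C (FractionRing C))
        from RingHom.ext fun y => (hg y).symm, ← Polynomial.hom_eval₂, hq0, map_zero]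
    obtain ⟨y, hy⟩ := IsIntegrallyClosed.isIntegral_iff.1 hint
    have hc0 : (c : A) ≠ 0 := fun h => nonZeroDivisors.ne_zero hc (Subtype.ext h)
    have hy2 : y ∈ C := by
      rw [hC, hy, map_div₀, hg, hg]
      exact div_mem a.2 c.2
    refine ⟨⟨y, hy2⟩, g.injective ?_⟩
    rw [hg]
    exact hy
  -- invariants
  have hfixC : ∀ c : C, (∀ σ : G, σ • c = c) → c ∈ Set.range (algebraMap P C) := by
    intro c hc
    obtain ⟨e, he⟩ := hcon (c : A) fun σ => congrArg Subtype.val (hc σ)
    obtain ⟨f, hf⟩ := he
    have hsep : IsSeparable K (algebraMap A L (c : A)) := mem_separableClosure_iff.1 c.2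
    have hbot : IntermediateField.adjoin K {algebraMap A L (c : A)} = ⊥ := by
      rw [IntermediateField.adjoin_simple_eq_adjoin_pow_expChar_pow_of_isSeparable K L (q := p) hsep e,
        IntermediateField.adjoin_simple_eq_bot_iff, ← map_pow, ← hf]
      refine IntermediateField.mem_bot.2 ⟨algebraMap P K f, ?_⟩
      rw [← IsScalarTower.algebraMap_apply P K L, IsScalarTower.algebraMap_apply P A L]
      rfl
    rw [IntermediateField.adjoin_simple_eq_bot_iff, IntermediateField.mem_bot] at hbot
    obtain ⟨z, hz⟩ := hbot
    have hzi : IsIntegral P z := (isIntegral_algHom_iff (IsScalarTower.toAlgHom P K L) (algebraMap K L).injective).1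
      (by rw [IsScalarTower.toAlgHom_apply, hz]
          exact (Algebra.IsIntegral.isIntegral (R := P) (c : A)).algebraMap)
    obtain ⟨f', rfl⟩ := IsIntegrallyClosed.isIntegral_iff.1 hzi
    refine ⟨f', Subtype.ext (IsFractionRing.injective A L ?_)⟩
    rw [← hz, ← IsScalarTower.algebraMap_apply P K L, IsScalarTower.algebraMap_apply P A L]
    rfl
  haveI : Algebra.Etale P C := WildExt.etale_of_inertia_eq_bot (H := G)
    (fun f g h => hinj (congrArg Subtype.val h)) hfixC fun q hq hq1 => by
      obtain ⟨Q, -, hQ, hQq⟩ := Ideal.exists_ideal_over_prime_of_isIntegral q (⊥ : Ideal A) (by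
        rw [← RingHom.ker_eq_comap_bot, (RingHom.injective_iff_ker_eq_bot _).1
          (Subtype.val_injective : Function.Injective (algebraMap C A))]
        exact bot_le)
      have hQm : Q ≠ IsLocalRing.maximalIdeal A := by
        rintro rfl
        have hqm : q = IsLocalRing.maximalIdeal C := by
          rw [← hQq]
          exact IsLocalRing.maximalIdeal_comap (algebraMap C A)
        have h1 := IsLocalRing.maximalIdeal_height_eq_ringKrullDim (R := C)
        rw [← hqm, hq1, SegreDim.ringKrullDim_eq_of_injective_integral (A := C) (B := A) Subtype.val_injective, hn] at h1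
        have : (1 : ℕ) = n := by exact_mod_cast h1
        omega
      rw [eq_bot_iff, ← hram Q hQ hQm]
      intro σ hσ
      exact hzero σ Q hQ fun c => by
        have := hσ c
        rw [← hQq] at this
        exact this
  haveI : Algebra.FormallyUnramified P C := inferInstance
  have h1 : ∀ σ : G, σ = 1 := fun σ => WildExt.eq_one_of_smul_sub_mem (R := P) (C := C) σ fun c => by
    rw [← IsLocalRing.maximalIdeal_comap (algebraMap C A)]
    exact WildRam.smul_sub_mem hk (fun τ a => smul_algebraMap τ a) σ (c : A)
  haveI : Subsingleton G := ⟨fun a b => by rw [h1 a, h1 b]⟩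
  rw [Fintype.card_eq_one_iff.2 ⟨1, h1⟩] at hcard
  exact (Fact.out : p.Prime).ne_one hcard.symm

end Groth.Agent.S15799
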