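import Groth.Statements.S1580
import Mathlib
import Groth.Agent.WeakAssLib.Basic
import Groth.Agent.QC.Localisation

set_option autoImplicit false
universe u
open CategoryTheory CategoryTheory.Limits AlgebraicGeometry
open Divisors

namespace Groth.Agent.S1580

/-- Let f : X → S be quasi-compact and quasi-separated and F quasi-coherent on X. A point of S not in
the image of f is not weakly associated to f_* F. -/
theorem result {X S : Scheme.{u}} (f : X ⟶ S) [QuasiCompact f] [QuasiSeparated f]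
    (F : X.Modules) (hF : Coh.IsQCoh F) (s : S) (hs : s ∉ Set.range f.base) :
    ¬ Curv2.IsWeakAssPoint ((Coh.push f).obj F) s := by
  classical
  intro hs'
  haveI := hF
  obtain ⟨V, hV, hsV, -⟩ := exists_isAffineOpen_mem_and_subset (X := S) (U := ⊤) (trivial : s ∈ (⊤ : S.Opens))
  have hq : Coh.IsQCoh ((Scheme.Modules.pushforward f).obj F) := Groth.Agent.QC.isQCoh_pushforward (M := F) f
  obtain ⟨t, ht⟩ := (Groth.Agent.WeakAssLib.isWeakAssPoint_iff hV (Groth.Agent.QC.isLoc_of_isQCoh hV (hM := hq)) hsV).1 hs'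
  let p := (hV.primeIdealOf ⟨s, hsV⟩).asIdeal
  haveI : p.IsPrime := (hV.primeIdealOf ⟨s, hsV⟩).isPrime
  have hc : IsCompact ((f ⁻¹ᵁ V : X.Opens) : Set X) :=
    QuasiCompact.isCompact_preimage (f := f) (V : Set S) V.isOpen hV.isCompact
  obtain ⟨W, hWfin, hW⟩ := isCompact_iff_finite_and_eq_biUnion_affineOpens.1 hc
  have hle : ∀ w : hWfin.toFinset, w.1.1 ≤ f ⁻¹ᵁ V := fun w => by
    rw [hW]; exact le_iSup₂ (f := fun (i : X.affineOpens) (_ : i ∈ W) => (i : X.Opens)) w.1 (hWfin.mem_toFinset.1 w.2)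
  let ts : Γ(F, f ⁻¹ᵁ V) := t
  let J : ∀ w : hWfin.toFinset, Ideal Γ(S, V) := fun w =>
    Ideal.comap (f.appLE V w.1.1 (hle w)).hom (LinearMap.ker (LinearMap.toSpanSingleton Γ(X, w.1.1) Γ(F, w.1.1)
      (Groth.Agent.QC.res F (hle w) ts)))
  have hJ : ∀ w a, a ∈ LinearMap.ker (LinearMap.toSpanSingleton Γ(S, V) Γ((Scheme.Modules.pushforward f).obj F, V) t) →
      a ∈ J w := fun w a ha => by
    show (f.appLE V w.1.1 (hle w)).hom a • Groth.Agent.QC.res F (hle w) ts = 0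
    have h1 : (f.app V).hom a • ts = 0 := ha
    have h2 := congrArg (Groth.Agent.QC.res F (hle w)) h1
    rw [map_zero, Groth.Agent.QC.res_smul] at h2
    exact h2
  have hinf : ∀ a, (∀ w, a ∈ J w) →
      a ∈ LinearMap.ker (LinearMap.toSpanSingleton Γ(S, V) Γ((Scheme.Modules.pushforward f).obj F, V) t) := fun a ha => by
    show (f.app V).hom a • ts = 0
    refine Groth.Agent.QC.section_eq_of_locally fun x hx => ?_
    rw [hW, TopologicalSpace.Opens.mem_iSup] at hx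
    obtain ⟨w, hx⟩ := hx
    rw [TopologicalSpace.Opens.mem_iSup] at hx
    obtain ⟨hw, hxw⟩ := hx
    let w' : hWfin.toFinset := ⟨w, hWfin.mem_toFinset.2 hw⟩
    refine ⟨w.1, hle w', hxw, ?_⟩
    rw [Groth.Agent.QC.res_smul, map_zero]
    exact ha w'
  obtain ⟨w, hw⟩ : ∃ w, J w ≤ p := by
    have h : (Finset.univ.inf J) ≤ p := fun a ha => ht.1.2 (hinf a fun w =>
      (Finset.inf_le (f := J) (Finset.mem_univ w)) ha)
    obtain ⟨w, -, hw⟩ := (Ideal.IsPrime.inf_le' (s := Finset.univ) (f := J) inferInstance).1 h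
    exact ⟨w, hw⟩
  have hmin : p ∈ (J w).minimalPrimes :=
    ⟨⟨inferInstance, hw⟩, fun q ⟨hq1, hq2⟩ hqp => ht.2 ⟨hq1, fun a ha => hq2 (hJ w a ha)⟩ hqp⟩
  obtain ⟨q, hq', hqp⟩ := Ideal.exists_minimalPrimes_comap_eq (f.appLE V w.1.1 (hle w)).hom _ hmin
  let q' : Spec Γ(X, w.1.1) := ⟨q, hq'.1.1⟩
  refine hs ⟨w.1.2.fromSpec q', ?_⟩
  have h1 := congrArg (fun g : Spec Γ(X, w.1.1) ⟶ S => g q') (hV.SpecMap_appLE_fromSpec f w.1.2 (hle w))
  have e : Spec.map (f.appLE V w.1.1 (hle w)) q' = hV.primeIdealOf ⟨s, hsV⟩ := PrimeSpectrum.ext hqp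
  change hV.fromSpec (Spec.map (f.appLE V w.1.1 (hle w)) q') = f (w.1.2.fromSpec q') at h1
  rw [e, hV.fromSpec_primeIdealOf] at h1
  exact h1.symm

end Groth.Agent.S1580
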