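import Groth.Statements.S15803
-- import your own Groth.Agent.* helpers here
import Groth.Agent.Purity.Inertia

set_option autoImplicit false
universe u v w
open WildQuot

namespace Groth.Agent.S15803

/-- Let `R` be a regular local ring and `A` a normal local domain, finite over `R` (with `R → A`
injective) and with the same residue field; let a finite group `H` act faithfully on `A` by
`R`-algebra automorphisms with ring of invariants exactly `R` (so `Frac(A)/Frac(R)` is Galois with
group `H`); let `p` be a prime and suppose that every nontrivial inertia subgroup of a height-one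
prime of `A` has order `p` and is normal in `H`. Then `H` is commutative and every element satisfies
`h ^ p = 1`: `H` is an elementary abelian `p`-group (of order the degree of `Frac(A)` over
`Frac(R)`). (The published statement is for `A` a complete regular local ring with an action
ramified precisely at the origin, `R = k[[x_1, …, x_n]]` a norm subring and `H` the Galois group of
`Frac(A)/Frac(R)`, when that extension is Galois; this row assumes only the hypotheses listed
above.) -/
theorem result
    (p : ℕ) [Fact p.Prime] (R : Type u) [CommRing R] [IsRegularLocalRing R]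
    (A : Type v) [CommRing A] [IsDomain A] [IsIntegrallyClosed A] [IsLocalRing A]
    [Algebra R A] [Module.Finite R A] (hinj : Function.Injective (algebraMap R A))
    (hres : Function.Surjective (IsLocalRing.residue A ∘ algebraMap R A))
    (H : Type w) [Group H] [Finite H] [MulSemiringAction H A] [SMulCommClass H R A] [FaithfulSMul H A]
    (hfix : ∀ a : A, (∀ h : H, h • a = a) → a ∈ Set.range (algebraMap R A))
    (hMR2 : ∀ P : Ideal A, P.IsPrime → P.height = 1 → P.inertia H ≠ ⊥ →
      Nat.card (P.inertia H) = p ∧ (P.inertia H).Normal) :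
    (∀ g h : H, g * h = h * g) ∧ ∀ h : H, h ^ p = 1 := by
  have htop := Purity.iSup_inertia_eq_top R A hinj hres H hfix
  have hmem : ∀ g : H, g ∈ ⨆ P : {P : Ideal A // P.IsPrime ∧ P.height = 1}, P.1.inertia H :=
    fun g => htop ▸ Subgroup.mem_top g
  have hc : ∀ (P : {P : Ideal A // P.IsPrime ∧ P.height = 1}) (x : H), x ∈ P.1.inertia H → ∀ h : H, x * h = h * x := by
    intro P x hx h
    by_cases hP : P.1.inertia H = ⊥
    · rw [hP, Subgroup.mem_bot] at hx
      rw [hx, one_mul, mul_one]
    have hle : (⨆ Q : {Q : Ideal A // Q.IsPrime ∧ Q.height = 1}, Q.1.inertia H) ≤ Subgroup.centralizer {x} := by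
      refine iSup_le fun Q y hy => Subgroup.mem_centralizer_iff.2 fun z hz => ?_
      rw [Set.mem_singleton_iff] at hz
      subst hz
      by_cases hQ : Q.1.inertia H = ⊥
      · rw [hQ, Subgroup.mem_bot] at hy
        rw [hy, one_mul, mul_one]
      obtain ⟨hcP, hnP⟩ := hMR2 _ P.2.1 P.2.2 hP
      obtain ⟨hcQ, hnQ⟩ := hMR2 _ Q.2.1 Q.2.2 hQ
      by_cases he : P.1.inertia H = Q.1.inertia H
      · haveI : IsCyclic (P.1.inertia H) := isCyclic_of_prime_card hcP
        letI : CommGroup (P.1.inertia H) := IsCyclic.commGroup
        exact congrArg Subtype.val (mul_comm (⟨z, hx⟩ : P.1.inertia H) ⟨y, he ▸ hy⟩)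
      · refine (Subgroup.commute_of_normal_of_disjoint _ _ hnP hnQ ?_ z y hx hy).eq
        rw [Subgroup.disjoint_def]
        intro w hw hw'
        by_contra hw1
        have gen : ∀ (K : Subgroup H), Nat.card K = p → w ∈ K → K = Subgroup.zpowers w := by
          intro K hK hwK
          haveI : Finite K := Subtype.finite
          refine (Subgroup.eq_of_le_of_card_ge ((Subgroup.zpowers_le).2 hwK) ?_).symm
          have hd := Subgroup.card_dvd_of_le ((Subgroup.zpowers_le).2 hwK)
          rw [hK] at hd
          rcases (Nat.dvd_prime (Fact.out : p.Prime)).1 hd with h1 | h1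
          · exact absurd (Subgroup.zpowers_eq_bot.1 (Subgroup.eq_bot_of_card_eq _ h1)) hw1
          · rw [hK, h1]
        exact he ((gen _ hcP hw).trans (gen _ hcQ hw').symm)
    exact (Subgroup.mem_centralizer_iff.1 (hle (hmem h)) x rfl)
  have hcomm : ∀ g h : H, g * h = h * g := by
    intro g h
    induction hmem g using Subgroup.iSup_induction' with
    | hp P x hx => exact hc P x hx h
    | h1 => rw [one_mul, mul_one]
    | hmul x y _ _ hx hy => rw [mul_assoc, hy, ← mul_assoc, hx, mul_assoc]
  refine ⟨hcomm, fun g => ?_⟩
  induction hmem g using Subgroup.iSup_induction' with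
  | hp P x hx =>
    by_cases hP : P.1.inertia H = ⊥
    · rw [hP, Subgroup.mem_bot] at hx
      rw [hx, one_pow]
    · have h1 := pow_card_eq_one' (G := P.1.inertia H) (x := ⟨x, hx⟩)
      rw [(hMR2 _ P.2.1 P.2.2 hP).1] at h1
      exact congrArg Subtype.val h1
  | h1 => rw [one_pow]
  | hmul x y _ _ hx hy => rw [(show Commute x y from hcomm x y).mul_pow, hx, hy, one_mul]

end Groth.Agent.S15803
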