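import Groth.Statements.S15805
-- import your own Groth.Agent.* helpers here
import Groth.Agent.ASFam.Frobenius
import Groth.Agent.ASFam.Family

set_option autoImplicit false
universe u v
open WildQuot

namespace Groth.Agent.S15805

open MvPolynomial in
/-- Let `k` be a field of characteristic `p > 0`, `R = k[[x_1, …, x_n]]`, `a_1, …, a_n ∈ R` with zero
constant term and not all zero, and `A = R[u_1, …, u_n] / (u_i ^ p - a_i ^ (p-1) u_i - x_i : i =
1..n)`. Let `G` be a group of order `p` acting on `A` by `R`-algebra automorphisms, generated by an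
element `g` acting by `u_i ↦ u_i + a_i`. Then the skew group ring `A∗G` (free `A`-module on `G` with
`(a g)(b h) = a g(b) gh`) is a symmetric `R`-algebra: there is an `R`-linear form `φ : A∗G → R` with
`φ(xy) = φ(yx)` for all `x, y`, such that `y ↦ (x ↦ φ(x y))` is injective and reaches every
`R`-linear form on `A∗G` (so `Hom_R(A∗G, R) ≅ A∗G` as bimodules). -/
theorem result
    (p : ℕ) [Fact p.Prime] (k : Type u) [Field k] [CharP k p] (n : ℕ)
    (a : Fin n → MvPowerSeries (Fin n) k)
    (ham : ∀ i, MvPowerSeries.constantCoeff (a i) = 0) (hne : ∃ i, a i ≠ 0) :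
    let R := MvPowerSeries (Fin n) k
    let I : Ideal (MvPolynomial (Fin n) R) :=
      Ideal.span (Set.range fun i : Fin n =>
        X i ^ p - C (a i ^ (p - 1)) * X i - C (MvPowerSeries.X i))
    let A := MvPolynomial (Fin n) R ⧸ I
    ∀ (G : Type v) [Group G] [Finite G] [MulSemiringAction G A] [SMulCommClass G R A]
      (g : G), Nat.card G = p → (∀ h : G, h ∈ Subgroup.zpowers g) →
      (∀ i, g • (Ideal.Quotient.mk I (X i)) = Ideal.Quotient.mk I (X i) + algebraMap R A (a i)) →
      ∃ φ : SkewMonoidAlgebra A G →ₗ[R] R,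
        (∀ x y : SkewMonoidAlgebra A G, φ (x * y) = φ (y * x)) ∧
        Function.Injective (fun y : SkewMonoidAlgebra A G => fun x : SkewMonoidAlgebra A G => φ (x * y)) ∧
        ∀ ψ : SkewMonoidAlgebra A G →ₗ[R] R, ∃ y : SkewMonoidAlgebra A G, ∀ x, ψ x = φ (x * y) := by
  intro R I A G _ _ _ _ g hcard hgen hg
  classical
  haveI := Fintype.ofFinite G
  let Θ : A →ₗ[R] R := ASFam.topForm p (fun i => a i ^ (p - 1)) (fun i => MvPowerSeries.X i)
  have hinv : ∀ (h : G) (t : A), Θ (h • t) = Θ t := by
    let H : Subgroup G :=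
      { carrier := {h | ∀ t : A, Θ (h • t) = Θ t}
        one_mem' := fun t => by rw [one_smul]
        mul_mem' := fun hx hy t => by rw [mul_smul, hx, hy]
        inv_mem' := fun {x} hx t => by rw [← hx (x⁻¹ • t), smul_inv_smul] }
    have hgH : g ∈ H := fun t =>
      ASFam.topForm_shift p (fun i => a i ^ (p - 1)) (fun i => MvPowerSeries.X i) a
        (MulSemiringAction.toAlgHom R A g) hg t
    exact fun h => (Subgroup.zpowers_le.2 hgH) (hgen h)
  let φ : SkewMonoidAlgebra A G →ₗ[R] R :=
    { toFun := fun x => Θ (x.coeff 1)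
      map_add' := fun x y => by rw [SkewMonoidAlgebra.coeff_add, Finsupp.add_apply, map_add]
      map_smul' := fun r x => by
        rw [SkewMonoidAlgebra.coeff_smul, Finsupp.smul_apply, map_smul, RingHom.id_apply] }
  have hmul : ∀ x y : SkewMonoidAlgebra A G,
      φ (x * y) = ∑ h : G, Θ (x.coeff h * h • y.coeff h⁻¹) := by
    intro x y
    show Θ ((x * y).coeff 1) = _
    rw [SkewMonoidAlgebra.coeff_mul_left, SkewMonoidAlgebra.sum_def, Finsupp.sum_fintype, map_sum]
    · simp only [mul_one]
    · intro h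
      rw [zero_mul]
  refine ⟨φ, fun x y => ?_, fun y y' hyy => ?_, fun ψ => ?_⟩
  · rw [hmul, hmul]
    refine Fintype.sum_equiv (Equiv.inv G) _ _ fun h => ?_
    rw [Equiv.inv_apply, inv_inv, mul_comm (y.coeff h⁻¹), ← hinv h⁻¹ (x.coeff h * h • y.coeff h⁻¹),
      smul_mul', inv_smul_smul]
  · refine SkewMonoidAlgebra.ext fun h => ?_
    have key : ∀ t : A, Θ (t * (h⁻¹ • (y.coeff h - y'.coeff h))) = 0 := by
      intro t
      have h1 := congrFun hyy (SkewMonoidAlgebra.single h⁻¹ t)
      simp only [hmul] at h1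
      rw [Finset.sum_eq_single h⁻¹, Finset.sum_eq_single h⁻¹] at h1
      · rw [SkewMonoidAlgebra.coeff_single, Finsupp.single_eq_same, inv_inv] at h1
        rw [smul_sub, mul_sub, map_sub, h1, sub_self]
      · intro l _ hl
        rw [SkewMonoidAlgebra.coeff_single, Finsupp.single_eq_of_ne hl, zero_mul, map_zero]
      · exact fun h' => absurd (Finset.mem_univ _) h'
      · intro l _ hl
        rw [SkewMonoidAlgebra.coeff_single, Finsupp.single_eq_of_ne hl, zero_mul, map_zero]
      · exact fun h' => absurd (Finset.mem_univ _) h'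
    exact sub_eq_zero.1 ((smul_eq_zero_iff_eq h⁻¹).1
      (ASFam.eq_zero_of_topForm p (fun i => a i ^ (p - 1)) (fun i => MvPowerSeries.X i) _ key))
  · choose d hd using fun h : G => ASFam.exists_topForm_eq p (fun i => a i ^ (p - 1))
      (fun i => MvPowerSeries.X i)
      ({ toFun := fun t => ψ (SkewMonoidAlgebra.single h t)
         map_add' := fun s t => by rw [SkewMonoidAlgebra.single_add, map_add]
         map_smul' := fun r t => by
           rw [← SkewMonoidAlgebra.smul_single, map_smul, RingHom.id_apply] } : A →ₗ[R] R)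
    refine ⟨⟨Finsupp.equivFunOnFinite.symm fun l : G => l • d l⁻¹⟩, fun x => ?_⟩
    have hx : x = ∑ h : G, SkewMonoidAlgebra.single h (x.coeff h) := by
      conv_lhs => rw [← SkewMonoidAlgebra.sum_single x]
      rw [SkewMonoidAlgebra.sum_def, Finsupp.sum_fintype]
      intro h
      exact SkewMonoidAlgebra.single_zero h
    rw [hmul]
    conv_lhs => rw [hx]
    rw [map_sum]
    refine Finset.sum_congr rfl fun h _ => (hd h (x.coeff h)).trans (congrArg (fun z => Θ (x.coeff h * z)) ?_)
    rw [SkewMonoidAlgebra.coeff_ofCoeff, Finsupp.coe_equivFunOnFinite_symm, inv_inv, smul_inv_smul]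

end Groth.Agent.S15805
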