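import Groth.Statements.S1581
import Mathlib
import Groth.Agent.FpqcDescent.Sep

set_option autoImplicit false
universe u
open CategoryTheory CategoryTheory.Limits AlgebraicGeometry
open Variety

namespace Groth.Agent.S1581

/-- Let X be a scheme over a field k and K a field extension of k. If X_K is proper over K then X is
proper over k. -/
theorem result (k : Type u) [Field k] (X : Scheme.{u}) [X.Over (Spec (CommRingCat.of k))] (K : Type u) [Field K] [Algebra k K]
    [IsProper (Curv2.bcSnd k X K)] : IsProper (X ↘ (Spec (CommRingCat.of k))) := by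
  set g := Spec.map (CommRingCat.ofHom (algebraMap k K)) with hg
  haveI : Flat g := by
    rw [HasRingHomProperty.Spec_iff (P := @Flat)]
    show (algebraMap k K).Flat
    rw [RingHom.flat_algebraMap_iff]
    infer_instance
  haveI : Surjective g := ⟨fun y => ⟨default, Subsingleton.elim _ _⟩⟩
  haveI : QuasiCompact g := inferInstance
  have hQ : ((@Surjective ⊓ @Flat ⊓ @QuasiCompact : MorphismProperty Scheme.{u})) g :=
    ⟨⟨‹Surjective g›, ‹Flat g›⟩, ‹QuasiCompact g›⟩
  have h1 : IsSeparated (X ↘ Spec (CommRingCat.of k)) :=
    MorphismProperty.of_pullback_snd_of_descendsAlong (P := @IsSeparated) hQ (inferInstanceAs (IsSeparated (Curv2.bcSnd k X K)))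
  have h2 : UniversallyClosed (X ↘ Spec (CommRingCat.of k)) :=
    MorphismProperty.of_pullback_snd_of_descendsAlong (P := @UniversallyClosed) hQ (inferInstanceAs (UniversallyClosed (Curv2.bcSnd k X K)))
  have h3 : LocallyOfFiniteType (X ↘ Spec (CommRingCat.of k)) :=
    MorphismProperty.of_pullback_snd_of_descendsAlong (P := @LocallyOfFiniteType) hQ (inferInstanceAs (LocallyOfFiniteType (Curv2.bcSnd k X K)))
  exact { }

end Groth.Agent.S1581
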