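import Groth.Statements.S15810
-- import your own Groth.Agent.* helpers here
import Groth.Agent.ASFam.OrthInv

set_option autoImplicit false
universe u
open WildQuot

namespace Groth.Agent.S15810

open MvPolynomial in
/-- Let `k` be a field of characteristic `p > 0`, `n ≥ 2`, `R = k[[x_1, …, x_n]]`, `a_1, …, a_n ∈ R`
with zero constant term and pairwise coprime, `μ ∈ R` nonzero and coprime to each `a_i`, `A = R[u_1,
…, u_n] / (u_i ^ p - (μ a_i) ^ (p-1) u_i - x_i : i = 1..n)`, and `σ_1, …, σ_n` the `R`-algebra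
automorphisms of `A` with `σ_i u_j = u_j + δ_{ij} μ a_i` (they generate an elementary abelian group
`H` of order `p ^ n`). For a nonzero vector `s ∈ (ℤ/p)^n` let `H_s = {ν : Σ ν_i s_i = 0}`, `α =
∏_{s_i ≠ 0} a_i`, `α_i = ∏_{j ≠ i, s_j ≠ 0} a_j`, `z_s = Σ_{s_i ≠ 0} s_i α_i u_i` and `f_s(T) = T ^
p - (μ α) ^ (p-1) T - Σ_{s_i ≠ 0} s_i α_i ^ p x_i`. Then an element of `A` is fixed by `∏_i σ_i ^
{ν_i}` for every `ν ∈ H_s` if and only if it is a polynomial over `R` in `z_s`, and the kernel of
`R[T] → A`, `T ↦ z_s`, is generated by `f_s`: the ring of invariants of `H_s` is `R[T]/(f_s)`, in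
particular free of rank `p` over `R`. -/
theorem result
    (p : ℕ) [Fact p.Prime] (k : Type u) [Field k] [CharP k p] (n : ℕ) (hn : 2 ≤ n)
    (a : Fin n → MvPowerSeries (Fin n) k) (μ : MvPowerSeries (Fin n) k)
    (ham : ∀ i, MvPowerSeries.constantCoeff (a i) = 0) (hcop : ∀ i j, i ≠ j → IsRelPrime (a i) (a j))
    (hμ : μ ≠ 0) (hμa : ∀ i, IsRelPrime μ (a i))
    (s : Fin n → ZMod p) (hs : s ≠ 0) :
    let R := MvPowerSeries (Fin n) k
    let I : Ideal (MvPolynomial (Fin n) R) :=
      Ideal.span (Set.range fun i : Fin n =>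
        X i ^ p - C ((μ * a i) ^ (p - 1)) * X i - C (MvPowerSeries.X i))
    let A := MvPolynomial (Fin n) R ⧸ I
    let u : Fin n → A := fun i => Ideal.Quotient.mk I (X i)
    let c : Fin n → R := fun i => algebraMap k R (ZMod.castHom (dvd_refl p) k (s i))
    let α : R := ∏ i ∈ Finset.univ.filter (fun i => s i ≠ 0), a i
    let αi : Fin n → R := fun i => ∏ j ∈ (Finset.univ.filter (fun j => s j ≠ 0)).erase i, a j
    let z : A := ∑ i ∈ Finset.univ.filter (fun i => s i ≠ 0), algebraMap R A (c i * αi i) * u i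
    let f : Polynomial R := Polynomial.X ^ p - Polynomial.C ((μ * α) ^ (p - 1)) * Polynomial.X
      - Polynomial.C (∑ i ∈ Finset.univ.filter (fun i => s i ≠ 0), c i * αi i ^ p * MvPowerSeries.X i)
    ∀ σ : Fin n → (A ≃ₐ[R] A),
      (∀ i j, σ i (u j) = u j + (if i = j then algebraMap R A (μ * a i) else 0)) →
      (∀ t : A, (∀ ν : Fin n → ZMod p, ∑ i, ν i * s i = 0 →
          (List.ofFn (fun i : Fin n => σ i ^ (ν i).val)).prod t = t) ↔
        t ∈ (Polynomial.aeval z : Polynomial R →ₐ[R] A).range) ∧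
      RingHom.ker (Polynomial.aeval z : Polynomial R →ₐ[R] A) = Ideal.span {f} := by
  intro R I A u c α αi z f σ hσ
  classical
  haveI : IsDomain R := NoZeroDivisors.to_isDomain _
  haveI : IsDomain A := ASFam.isDomain_family p (fun i => μ * a i) (ASFam.constantCoeff_mul_eq_zero a μ ham)
  haveI : CharP A p := ASFam.charP_alg p (fun i => μ * a i) (fun i => MvPowerSeries.X i)
  have ha0 := ASFam.ne_zero_of_relPrime hn a ham hcop
  have hc : ∀ i, c i = ZMod.castHom (dvd_refl p) R (s i) := fun i =>
    ASFam.castHom_zmod p (algebraMap k R) (s i)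
  have hz : z = ASFam.zElt p a μ s := by
    refine Eq.trans ?_ (Finset.sum_subset (Finset.subset_univ (ASFam.sSupp p s)) fun i _ hi => ?_)
    · refine Finset.sum_congr rfl fun i _ => ?_
      rw [hc]
      rfl
    · rw [ASFam.zCoef, show s i = 0 by simpa [ASFam.sSupp] using hi, map_zero, zero_mul, map_zero, zero_mul]
  have hf : f = Polynomial.X ^ p - (Polynomial.C ((μ * α) ^ (p - 1)) * Polynomial.X
      + Polynomial.C (ASFam.zConst p a s)) := by
    show _ - _ - Polynomial.C _ = _
    rw [sub_sub]
    congr 3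
    refine Eq.trans ?_ (Finset.sum_subset (Finset.subset_univ (ASFam.sSupp p s)) fun i _ hi => ?_)
    · refine Finset.sum_congr rfl fun i _ => ?_
      rw [hc]
      rfl
    · rw [show s i = 0 by simpa [ASFam.sSupp] using hi, map_zero, zero_mul, zero_mul]
  have hdeg : (Polynomial.C ((μ * α) ^ (p - 1)) * Polynomial.X + Polynomial.C (ASFam.zConst p a s)).degree
      < (p : WithBot ℕ) :=
    lt_of_le_of_lt Polynomial.degree_linear_le (by exact_mod_cast (Fact.out : p.Prime).one_lt)
  have hfm : f.Monic := hf ▸ Polynomial.monic_X_pow_sub hdeg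
  have hfd : f.natDegree = p := by
    refine Polynomial.natDegree_eq_of_degree_eq_some ?_
    rw [hf, Polynomial.degree_sub_eq_left_of_degree_lt (by rw [Polynomial.degree_X_pow]; exact hdeg),
      Polynomial.degree_X_pow]
  have hfz : Polynomial.aeval z f = 0 := by
    rw [hz, hf, map_sub, map_add, map_mul, map_pow, Polynomial.aeval_X, Polynomial.aeval_C, Polynomial.aeval_C]
    exact sub_eq_zero.2 (ASFam.zElt_pow p a μ s)
  obtain ⟨i₀, hi₀⟩ := Function.ne_iff.1 hs
  constructor
  · intro t
    have hprod : ∀ ν : Fin n → ZMod p, (List.ofFn (fun i : Fin n => σ i ^ (ν i).val)).prod =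
        ASFam.shiftEquiv p (fun i => μ * a i) (fun i => MvPowerSeries.X i) ν := by
      intro ν
      have hone : ∀ i, σ i = ASFam.shiftHom p (fun i => μ * a i) (fun i => MvPowerSeries.X i)
          (Multiplicative.ofAdd (Pi.single i 1)) := fun i =>
        ASFam.algEquiv_ext p _ _ fun j => (hσ i j).trans (by
          refine Eq.symm ((ASFam.shiftEquiv_gen p (fun i => μ * a i) (fun i => MvPowerSeries.X i) _ j).trans ?_)
          rw [toAdd_ofAdd, Pi.single_apply]
          by_cases hij : i = j
          · subst hij; rw [if_pos rfl, if_pos rfl, map_one, one_mul]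
          · rw [if_neg (Ne.symm hij), if_neg hij, map_zero, zero_mul])
      have : (List.ofFn (fun i : Fin n => σ i ^ (ν i).val)) = (List.ofFn fun i : Fin n =>
          (Multiplicative.ofAdd (Pi.single i 1) : Multiplicative (Fin n → ZMod p)) ^ (ν i).val).map
            (ASFam.shiftHom p (fun i => μ * a i) (fun i => MvPowerSeries.X i)) := by
        rw [List.map_ofFn]
        congr 1
        funext i
        rw [Function.comp_apply, map_pow, ← hone]
      rw [this, ← map_list_prod, List.prod_ofFn]
      show ASFam.shiftEquiv p _ _ _ = _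
      congr 1
      rw [toAdd_prod]
      funext j
      simp [Finset.sum_apply, Pi.single_apply, Pi.natCast_apply, -ZMod.natCast_val, ZMod.natCast_zmod_val]
    constructor
    · intro h
      rw [hz]
      refine ASFam.mem_range_aeval_of_fixed p a μ s ham hμ ha0 hcop hs t fun ν hν => ?_
      have h1 := h ν hν
      rw [hprod] at h1
      exact h1
    · rintro ⟨Q, rfl⟩ ν hν
      rw [hprod]
      show ASFam.shift p (fun i => μ * a i) (fun i => MvPowerSeries.X i) ν (Polynomial.aeval z Q) =
        Polynomial.aeval z Q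
      rw [hz, ← Polynomial.aeval_algHom_apply, ASFam.shift_zElt, hν, map_zero, zero_mul, map_zero, add_zero]
  · refine le_antisymm (fun Q hQ => ?_) ((Ideal.span_singleton_le_iff_mem _).2 hfz)
    rw [Ideal.mem_span_singleton, ← Polynomial.modByMonic_eq_zero_iff_dvd hfm]
    refine ASFam.eq_zero_of_aeval_zElt p a μ s ha0 i₀ hi₀ _ ?_ ?_
    · exact lt_of_lt_of_eq (Polynomial.natDegree_modByMonic_lt _ hfm (fun h => by
        rw [h, Polynomial.natDegree_one] at hfd; exact (Fact.out : p.Prime).ne_zero hfd.symm)) hfd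
    · rw [← hz, Polynomial.aeval_modByMonic_eq_self_of_root hfz]
      exact hQ

end Groth.Agent.S15810
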