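import Groth.Statements.S15811
-- import your own Groth.Agent.* helpers here
import Mathlib

set_option autoImplicit false
universe u
open WildQuot

namespace Groth.Agent.S15811

/-- Let `R` be an integrally closed domain of prime characteristic `p` with fraction field `K`, and `α ∈
R`. Then `α ≠ 0` and the polynomial `T ^ p - α T` splits into linear factors over `K` — which says
that the finite flat group scheme `Spec R[T]/(T ^ p - α T)` of order `p` has constant generic fibre
(its `p` roots are then distinct) — if and only if `α = a ^ (p-1)` for some nonzero `a ∈ R`. (The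
published statement is that the generic fibre of the finite flat group scheme of order `p` with
parameters `α, β` satisfying `α β = 0`, whose underlying scheme is `Spec R[T]/(T ^ p - α T)`, is
constant if and only if `β = 0` and `α` is the `(p-1)`-th power of a nonzero element of `R`; this
row states the polynomial condition, in which `α ≠ 0` already forces `β = 0` over a domain.) -/
theorem result
    (p : ℕ) [Fact p.Prime] (R : Type u) [CommRing R] [IsDomain R] [IsIntegrallyClosed R]
    [CharP R p] (α : R) :
    (α ≠ 0 ∧ (Polynomial.map (algebraMap R (FractionRing R))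
        (Polynomial.X ^ p - Polynomial.C α * Polynomial.X)).Splits) ↔
      ∃ a : R, a ≠ 0 ∧ α = a ^ (p - 1) := by
  classical
  have hp := (Fact.out : p.Prime)
  have h1 : p - 1 + 1 = p := Nat.sub_add_cancel hp.one_le
  haveI : CharP (FractionRing R) p := charP_of_injective_algebraMap (IsFractionRing.injective R _) p
  constructor
  · rintro ⟨hα, hsplit⟩
    have hmap : Polynomial.map (algebraMap R (FractionRing R)) (Polynomial.X ^ p - Polynomial.C α * Polynomial.X) =
        (Polynomial.X ^ (p - 1) - Polynomial.C (algebraMap R (FractionRing R) α)) * Polynomial.X := by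
      rw [Polynomial.map_sub, Polynomial.map_mul, Polynomial.map_pow, Polynomial.map_X, Polynomial.map_C, sub_mul,
        ← pow_succ, h1]
    have hne : (Polynomial.X ^ (p - 1) - Polynomial.C (algebraMap R (FractionRing R) α)) * Polynomial.X ≠ 0 :=
      mul_ne_zero (Polynomial.X_pow_sub_C_ne_zero (by have := hp.two_le; omega) _) Polynomial.X_ne_zero
    rw [hmap] at hsplit
    have hs := Polynomial.Splits.of_dvd hsplit hne (dvd_mul_right _ _)
    obtain ⟨t, ht⟩ := hs.exists_eval_eq_zero (by
      rw [Polynomial.degree_X_pow_sub_C (by have := hp.two_le; omega)]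
      have := hp.two_le
      exact_mod_cast (show p - 1 ≠ 0 by omega))
    rw [Polynomial.eval_sub, Polynomial.eval_pow, Polynomial.eval_X, Polynomial.eval_C, sub_eq_zero] at ht
    have hint : IsIntegral R t := IsIntegral.of_pow (n := p - 1) (by have := hp.two_le; omega) (ht ▸ isIntegral_algebraMap)
    obtain ⟨a, rfl⟩ := IsIntegrallyClosed.isIntegral_iff.1 hint
    rw [← map_pow] at ht
    refine ⟨a, fun h => hα ?_, (IsFractionRing.injective R _ ht).symm⟩
    rw [← IsFractionRing.injective R _ ht, h, zero_pow (by have := hp.two_le; omega)]
  · rintro ⟨a, ha, rfl⟩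
    refine ⟨pow_ne_zero _ ha, ?_⟩
    set K := FractionRing R
    set P := Polynomial.map (algebraMap R K) (Polynomial.X ^ p - Polynomial.C (a ^ (p - 1)) * Polynomial.X)
    have hP : P = Polynomial.X ^ p - Polynomial.C (algebraMap R K a ^ (p - 1)) * Polynomial.X := by
      simp [P, Polynomial.map_sub, Polynomial.map_mul, Polynomial.map_pow]
    have hdeg : (Polynomial.C (algebraMap R K a ^ (p - 1)) * Polynomial.X).degree < (p : WithBot ℕ) :=
      lt_of_le_of_lt (Polynomial.degree_C_mul_X_le _) (by exact_mod_cast hp.one_lt)
    have hnat : P.natDegree = p := by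
      refine Polynomial.natDegree_eq_of_degree_eq_some ?_
      rw [hP, Polynomial.degree_sub_eq_left_of_degree_lt (by rw [Polynomial.degree_X_pow]; exact hdeg),
        Polynomial.degree_X_pow]
    have hP0 : P ≠ 0 := fun h => hp.ne_zero (by rw [← hnat, h, Polynomial.natDegree_zero])
    have hA : algebraMap R K a ≠ 0 := fun h => ha (IsFractionRing.injective R K (h.trans (map_zero _).symm))
    let f : ZMod p ↪ K := ⟨fun z => ZMod.castHom (dvd_refl p) K z * algebraMap R K a,
      fun x y h => (ZMod.castHom (dvd_refl p) K).injective (mul_right_cancel₀ hA h)⟩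
    have hroots : (Finset.univ.map f).val ≤ P.roots := by
      refine (Multiset.le_iff_subset (Finset.univ.map f).nodup).2 fun z hz => ?_
      obtain ⟨w, -, rfl⟩ := Finset.mem_map.1 hz
      rw [Polynomial.mem_roots hP0, hP, Polynomial.IsRoot]
      simp only [Polynomial.eval_sub, Polynomial.eval_pow, Polynomial.eval_X, Polynomial.eval_mul, Polynomial.eval_C]
      show (ZMod.castHom (dvd_refl p) K w * algebraMap R K a) ^ p -
        algebraMap R K a ^ (p - 1) * (ZMod.castHom (dvd_refl p) K w * algebraMap R K a) = 0
      rw [mul_pow, ← map_pow, ZMod.pow_card, mul_left_comm, ← pow_succ, h1, sub_self]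
    rw [Polynomial.splits_iff_card_roots]
    refine le_antisymm P.card_roots' ?_
    have := Multiset.card_le_card hroots
    rwa [Finset.card_val, Finset.card_map, Finset.card_univ, ZMod.card, ← hnat] at this

end Groth.Agent.S15811
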