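import Groth.Statements.S15812
-- import your own Groth.Agent.* helpers here
import Groth.Agent.InvGen.Main
import Groth.Agent.RegLoc.Normal

set_option autoImplicit false
universe u v w
open WildQuot

namespace Groth.Agent.S15812
open Groth.Agent.InvGen
open scoped Pointwise

/-- Let `R` be a regular local ring and `A` a normal local domain, finite over `R` (with `R → A`
injective) and with the same residue field; let a finite group `H` act faithfully on `A` by
`R`-algebra automorphisms with ring of invariants exactly `R` (so `Frac(A)/Frac(R)` is Galois with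
group `H`); assume `H` is commutative of order `p ^ n` (`p` prime) and let `G_1, …, G_n ≤ H` be
subgroups of order `p` generating `H`, each the inertia subgroup of some height-one prime of `A`,
such that every nontrivial inertia subgroup of a height-one prime of `A` is one of the `G_i`. Put
`G_i^⊥ =` the subgroup generated by the `G_j` with `j ≠ i`, and assume each invariant ring
`A^{G_i^⊥}` is a free `R`-module (the published statement asks them to be Cohen–Macaulay, which for
a finite algebra over the regular local ring `R` is the same). Then the subalgebras `A^{G_1^⊥}, …,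
A^{G_n^⊥}` generate `A` over `R`. (The published conclusion is that the product map `A^{G_1^⊥} ⊗_R ⋯
⊗_R A^{G_n^⊥} → A` is an isomorphism; as each factor is then free of rank `p` and `A` has rank `p ^
n` over `R`, that is equivalent to the generation statement given here. The published statement is
for `A` a complete regular local ring with an action ramified precisely at the origin, `R = k[[x_1,
…, x_n]]` a norm subring and `H` the Galois group of `Frac(A)/Frac(R)`, when that extension is
Galois; this row assumes only the hypotheses listed above.) -/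
theorem result
    (p : ℕ) [Fact p.Prime] (R : Type u) [CommRing R] [IsRegularLocalRing R]
    (A : Type v) [CommRing A] [IsDomain A] [IsIntegrallyClosed A] [IsLocalRing A]
    [Algebra R A] [Module.Finite R A] (hinj : Function.Injective (algebraMap R A))
    (hres : Function.Surjective (IsLocalRing.residue A ∘ algebraMap R A))
    (H : Type w) [Group H] [Finite H] [MulSemiringAction H A] [SMulCommClass H R A] [FaithfulSMul H A]
    (hfix : ∀ a : A, (∀ h : H, h • a = a) → a ∈ Set.range (algebraMap R A))
    (hcomm : ∀ g h : H, g * h = h * g)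
    (n : ℕ) (hcard : Nat.card H = p ^ n) (Gi : Fin n → Subgroup H)
    (hGi : ∀ i, Nat.card (Gi i) = p) (hsup : (⨆ i, Gi i) = ⊤)
    (hinert : ∀ i, ∃ P : Ideal A, P.IsPrime ∧ P.height = 1 ∧ P.inertia H = Gi i)
    (hMR3 : ∀ P : Ideal A, P.IsPrime → P.height = 1 → P.inertia H ≠ ⊥ → ∃ i, P.inertia H = Gi i)
    (hMR4 : ∀ i, Module.Free R
      (FixedPoints.subalgebra R A ↥(⨆ j ∈ (Finset.univ.erase i : Finset (Fin n)), Gi j : Subgroup H))) :
    (⨆ i, FixedPoints.subalgebra R A ↥(⨆ j ∈ (Finset.univ.erase i : Finset (Fin n)), Gi j : Subgroup H)) = ⊤ := by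
  letI : CommGroup H := { ‹Group H› with mul_comm := hcomm }
  haveI : IsDomain R := Groth.Agent.RegLoc.isDomain R
  haveI : IsIntegrallyClosed R := Groth.Agent.RegLoc.isIntegrallyClosed
  haveI : Algebra.IsIntegral R A := Algebra.IsIntegral.of_finite R A
  classical
  let φ : (∀ i, Gi i) →* H :=
    { toFun := fun f => ∏ i, (f i : H)
      map_one' := by simp
      map_mul' := fun f f' => by simp [Finset.prod_mul_distrib] }
  have hrange : φ.range = ⊤ := by
    refine eq_top_iff.2 (hsup ▸ iSup_le fun i x hx => ⟨Pi.mulSingle i ⟨x, hx⟩, ?_⟩)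
    show ∏ j, ((Pi.mulSingle i (⟨x, hx⟩ : Gi i) : ∀ j, Gi j) j : H) = x
    rw [Finset.prod_eq_single i (fun j _ hj => by rw [Pi.mulSingle_eq_of_ne hj]; rfl) (by simp)]
    simp
  have hφ : Function.Injective fun f : (∀ i, Gi i) => ∏ i, (f i : H) :=
    ((Nat.bijective_iff_surjective_and_card φ).2 ⟨MonoidHom.range_eq_top.1 hrange, by
      rw [Nat.card_pi, hcard]; simp [hGi]⟩).1
  haveI : Algebra.IsInvariant R A H := ⟨fun a h => hfix a h⟩
  haveI : ∀ i, Module.Free R (fix R A (grp Gi (Finset.univ.erase i))) := hMR4
  refine iSup_fix_eq_top (Gi := Gi) hinj hfix hφ (by simpa [grp] using hsup) fun p _ hp => ?_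
  have hht : ∀ P : Ideal A, P.IsPrime → P.comap (algebraMap R A) = p → P.height = 1 := fun P hP hPp => by
    haveI := hP
    refine le_antisymm (Ideal.height_le_iff.2 fun Q hQ hQP => ?_) (Order.one_le_iff_ne_zero.2 fun e => ?_)
    · obtain ⟨x, hxP, hxQ⟩ := SetLike.exists_of_lt hQP
      have h1 : Q.comap (algebraMap R A) < p :=
        hPp ▸ Ideal.comap_lt_comap_of_integral_mem_sdiff hQP.le ⟨hxP, hxQ⟩ (Algebra.IsIntegral.isIntegral x)
      have h2 : (Q.comap (algebraMap R A)).height < 1 :=
        (Ideal.height_le_iff (n := 1)).1 hp.le _ (hQ.comap _) h1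
      have h3 : Q.comap (algebraMap R A) = ⊥ := by
        haveI := hQ.comap (algebraMap R A)
        by_contra hne
        exact absurd ((Ideal.height_le_iff (n := 0)).1 (Order.le_of_lt_add_one (by simpa using h2)) ⊥ Ideal.isPrime_bot
          (bot_lt_iff_ne_bot.2 hne)) not_lt_zero
      rw [Ideal.eq_bot_of_comap_eq_bot (R := R) h3, Ideal.height_bot]
      exact zero_lt_one
    · have hP0 : P ≠ ⊥ := fun h => by
        rw [h, Ideal.comap_bot_of_injective _ hinj] at hPp
        rw [← hPp, Ideal.height_bot] at hp
        exact zero_ne_one hp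
      exact absurd ((Ideal.height_le_iff (n := 0)).1 (le_of_eq e) ⊥ Ideal.isPrime_bot (bot_lt_iff_ne_bot.2 hP0)) not_lt_zero
  by_cases hram : ∃ P : Ideal A, P.IsPrime ∧ P.comap (algebraMap R A) = p ∧ P.inertia H ≠ ⊥
  · obtain ⟨P₀, hP₀, hP₀p, hne⟩ := hram
    obtain ⟨i, hi⟩ := hMR3 P₀ hP₀ (hht P₀ hP₀ hP₀p) hne
    refine Or.inr ⟨i, fun P hP hPp g hg => hi ▸ ?_⟩
    haveI := hP
    haveI := hP₀
    obtain ⟨c, rfl⟩ := Algebra.IsInvariant.exists_smul_of_under_eq R A H P₀ P (hP₀p.trans hPp.symm)
    rw [AddSubgroup.mem_inertia] at hg ⊢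
    intro x
    have h1 : g • (c • x) - c • x ∈ c • P₀ := hg (c • x)
    rw [← mul_smul, mul_comm, mul_smul, ← smul_sub, Ideal.smul_mem_pointwise_smul_iff] at h1
    exact h1
  · push Not at hram
    exact Or.inl hram

end Groth.Agent.S15812
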