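import Groth.Statements.S15813
import Mathlib.RingTheory.PowerSeries.Order
import Mathlib.RingTheory.PowerSeries.Inverse
import Mathlib.Algebra.CharP.Lemmas
import Mathlib.Algebra.CharP.Algebra
import Mathlib.RingTheory.Localization.FractionRing
import Mathlib.RingTheory.IntegralClosure.IntegrallyClosed
import Mathlib.RingTheory.Polynomial.RationalRoot
import Mathlib.Tactic.LinearCombination

set_option autoImplicit false
universe u
open WildQuot

namespace Groth.Agent.S15813

open PowerSeries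

section
variable {k : Type u} [Field k]

/-- `f` has order exactly `n`. -/
def HasOrd (f : PowerSeries k) (n : ℕ) : Prop := ∃ g, f = X ^ n * g ∧ constantCoeff g ≠ 0

theorem hasOrd_iff {f : PowerSeries k} {n : ℕ} : HasOrd f n ↔ f.order = (n : ℕ∞) := by
  rw [order_eq_nat]
  constructor
  · rintro ⟨g, rfl, hg⟩
    refine ⟨?_, X_pow_dvd_iff.1 ⟨g, rfl⟩⟩
    rwa [show coeff n (X ^ n * g) = coeff (0 + n) (X ^ n * g) by rw [Nat.zero_add], coeff_X_pow_mul,
      coeff_zero_eq_constantCoeff_apply]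
  · rintro ⟨h1, h2⟩
    obtain ⟨g, rfl⟩ := X_pow_dvd_iff.2 h2
    rw [show coeff n (X ^ n * g) = coeff (0 + n) (X ^ n * g) by rw [Nat.zero_add], coeff_X_pow_mul,
      coeff_zero_eq_constantCoeff_apply] at h1
    exact ⟨g, rfl, h1⟩

theorem HasOrd.ne_zero {f : PowerSeries k} {n : ℕ} (h : HasOrd f n) : f ≠ 0 := by
  obtain ⟨g, rfl, hg⟩ := h
  exact mul_ne_zero (pow_ne_zero _ X_ne_zero) fun h => hg (by rw [h, map_zero])

theorem dvd_sigma_sub {σ : PowerSeries k ≃ₐ[k] PowerSeries k} {m : ℕ} {w : PowerSeries k}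
    (hX : σ X = X + X ^ (m + 1) * w) (g : PowerSeries k) : X ^ (m + 1) ∣ σ g - g := by
  suffices h : ∀ N g, N ≤ m + 1 → X ^ N ∣ σ g - g from h _ g le_rfl
  intro N
  induction N with
  | zero => exact fun g _ => by rw [pow_zero]; exact one_dvd _
  | succ N ih =>
    intro g hN
    obtain ⟨c, h, rfl⟩ : ∃ (c : k) (h : PowerSeries k), g = C c + X * h :=
      ⟨_, _, (eq_X_mul_shift_add_const g).trans (add_comm _ _)⟩
    obtain ⟨d, hd⟩ := ih h (by omega)
    rw [map_add, map_mul, hX, show σ (C c) = C c from σ.commutes c,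
      show C c + (X + X ^ (m + 1) * w) * σ h - (C c + X * h) = X ^ (m + 1) * (w * σ h) + X * (σ h - h) by ring, hd]
    exact dvd_add (dvd_mul_of_dvd_left (pow_dvd_pow _ hN) _) ⟨d, by ring⟩

theorem constantCoeff_sigma {σ : PowerSeries k ≃ₐ[k] PowerSeries k} {m : ℕ} {w : PowerSeries k}
    (hX : σ X = X + X ^ (m + 1) * w) (g : PowerSeries k) : constantCoeff (σ g) = constantCoeff g := by
  obtain ⟨d, hd⟩ := dvd_sigma_sub hX g
  have := congrArg constantCoeff hd
  simpa [sub_eq_zero] using this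

theorem hasOrd_sigma_sub {σ : PowerSeries k ≃ₐ[k] PowerSeries k} {m : ℕ} {w : PowerSeries k}
    (hX : σ X = X + X ^ (m + 1) * w) (hw : constantCoeff w ≠ 0) (hm : 1 ≤ m) {f : PowerSeries k} {n : ℕ}
    (hf : HasOrd f n) (hn : (n : k) ≠ 0) : HasOrd (σ f - f) (n + m) := by
  obtain ⟨g, rfl, hg⟩ := hf
  obtain ⟨d, hd⟩ := dvd_sigma_sub hX g
  obtain ⟨Q, hQ⟩ : ∃ Q, (1 + X ^ m * w) ^ n = 1 + (n : PowerSeries k) * (X ^ m * w) + (X ^ m * w) ^ 2 * Q := by
    clear hn
    induction n with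
    | zero => exact ⟨0, by simp⟩
    | succ i ih =>
      obtain ⟨Q, hQ⟩ := ih
      exact ⟨Q + Q * (X ^ m * w) + (i : PowerSeries k), by rw [pow_succ, hQ]; push_cast; ring⟩
  refine ⟨((n : PowerSeries k) * w + X ^ m * w ^ 2 * Q) * σ g + X * d, ?_, ?_⟩
  · rw [map_mul, map_pow, hX, show X + X ^ (m + 1) * w = X * (1 + X ^ m * w) by ring, mul_pow, hQ]
    linear_combination X ^ n * hd
  · simp [constantCoeff_sigma hX, map_natCast, zero_pow (show m ≠ 0 by omega), hn, hw, hg]

end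

/-- Let `k` be a field of characteristic `p > 0`, `A = k[[u]]`, and `σ` a `k`-algebra automorphism of
`A` of order exactly `p`, with ramification break `m`: `σ u - u` has order `m + 1`. Let `x = ∏_{i <
p} σ^i u` be the norm of `u`, let `f ∈ A` be `σ`-invariant with nonzero constant term (a unit of the
invariant ring `k[[x]]`), let `μ > 0` be prime to `p`, and let `z ∈ Frac(A)` satisfy the
Artin–Schreier equation `z ^ p - z = f / x ^ μ`. Then `μ = m`. (The published statement also records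
that `Frac(A) = Frac(A^σ)(z)`; that follows from the equation since `p` does not divide `μ`, so it
is not repeated as a hypothesis.) -/
theorem result
    (p : ℕ) [Fact p.Prime] (k : Type u) [Field k] [CharP k p]
    (σ : PowerSeries k ≃ₐ[k] PowerSeries k) (hσp : σ ^ p = 1) (hσ1 : σ ≠ 1)
    (m : ℕ) (hm : (σ PowerSeries.X - PowerSeries.X).order = ((m + 1 : ℕ) : ℕ∞))
    (f : PowerSeries k) (hfσ : σ f = f) (hf0 : PowerSeries.constantCoeff f ≠ 0)
    (μ : ℕ) (hμ : 0 < μ) (hpμ : ¬ p ∣ μ)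
    (z : FractionRing (PowerSeries k))
    (hz : z ^ p - z = algebraMap (PowerSeries k) (FractionRing (PowerSeries k)) f /
      algebraMap (PowerSeries k) (FractionRing (PowerSeries k))
        (∏ i ∈ Finset.range p, (σ ^ i) PowerSeries.X) ^ μ) :
    μ = m := by
  classical
  have hp : p.Prime := Fact.out
  haveI : CharP (PowerSeries k) p := charP_of_injective_algebraMap (algebraMap k (PowerSeries k)).injective p
  obtain ⟨w, hX', hw⟩ := hasOrd_iff.2 hm
  have hX : σ X = X + X ^ (m + 1) * w := by rw [← hX']; ring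
  have hm1 : 1 ≤ m := by
    by_contra h0
    obtain rfl : m = 0 := by omega
    have h1 : ∀ i : ℕ, ∃ v, (σ ^ i) X = X * v ∧ constantCoeff v = (1 + constantCoeff w) ^ i := fun i => by
      induction i with
      | zero => exact ⟨1, by simp, by simp⟩
      | succ i ih =>
        obtain ⟨v, hv, hv0⟩ := ih
        refine ⟨(1 + w) * σ v, ?_, ?_⟩
        · rw [pow_succ', AlgEquiv.mul_apply, hv, map_mul, hX]; ring
        · rw [map_mul, map_add, map_one, constantCoeff_sigma hX, hv0, pow_succ']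
    obtain ⟨v, hv, hv0⟩ := h1 p
    rw [hσp, AlgEquiv.one_apply] at hv
    have hv1 : v = 1 := mul_left_cancel₀ X_ne_zero (by rw [mul_one]; exact hv.symm)
    rw [hv1, map_one, add_pow_char, one_pow, left_eq_add] at hv0
    exact hw (pow_eq_zero_iff hp.ne_zero |>.1 hv0)
  let N : PowerSeries k := ∏ i ∈ Finset.range p, (σ ^ i) X
  have hσN : σ N = N := by
    rw [map_prod]
    have h1 : ∀ i, σ ((σ ^ i) X) = (σ ^ (i + 1)) X := fun i => by rw [pow_succ', AlgEquiv.mul_apply]
    simp only [h1]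
    obtain ⟨q, hq⟩ : ∃ q, p = q + 1 := ⟨p - 1, by have := hp.two_le; omega⟩
    show ∏ i ∈ Finset.range p, (σ ^ (i + 1)) X = ∏ i ∈ Finset.range p, (σ ^ i) X
    rw [hq, Finset.prod_range_succ, Finset.prod_range_succ', ← hq, hσp, pow_zero]
  obtain ⟨v, hv, hv0⟩ : HasOrd N p := by
    have h1 : ∀ i, ∃ v, (σ ^ i) X = X * v ∧ constantCoeff v = 1 := fun i => by
      induction i with
      | zero => exact ⟨1, by simp, by simp⟩
      | succ i ih =>
        obtain ⟨v, hv, hv0⟩ := ih
        refine ⟨(1 + X ^ m * w) * σ v, ?_, ?_⟩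
        · rw [pow_succ', AlgEquiv.mul_apply, hv, map_mul, hX]; ring
        · simp [constantCoeff_sigma hX, hv0, zero_pow (show m ≠ 0 by omega)]
    choose v hv hv0 using h1
    exact ⟨∏ i ∈ Finset.range p, v i, by simp only [N, hv, Finset.prod_mul_distrib, Finset.prod_const, Finset.card_range],
      by simp [map_prod, hv0]⟩
  let K := FractionRing (PowerSeries k)
  let ι := algebraMap (PowerSeries k) K
  have hι : Function.Injective ι := IsFractionRing.injective (PowerSeries k) K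
  have hN0 : N ≠ 0 := HasOrd.ne_zero ⟨v, hv, hv0⟩
  let F' : PowerSeries k := f * (v⁻¹) ^ μ
  have hvv : v⁻¹ * v = 1 := PowerSeries.inv_mul_cancel v hv0
  have hFN : F' * N ^ μ = f * (X ^ p) ^ μ := by
    rw [hv, mul_pow]
    have h1 : v⁻¹ ^ μ * v ^ μ = 1 := by rw [← mul_pow, hvv, one_pow]
    linear_combination (f * (X ^ p) ^ μ) * h1
  let A : PowerSeries k := (X ^ μ) ^ (p - 1)
  have hy : (z * ι X ^ μ) ^ p - ι A * (z * ι X ^ μ) = ι F' := by
    have hNι : ι N ^ μ ≠ 0 := pow_ne_zero _ fun h => hN0 (hι (by rw [h, map_zero]))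
    apply mul_right_cancel₀ hNι
    rw [show ι F' * ι N ^ μ = ι f * (ι X ^ p) ^ μ by rw [← map_pow, ← map_mul, hFN, map_mul, map_pow, map_pow]]
    have hz' : (z ^ p - z) * ι N ^ μ = ι f := by rw [hz, div_mul_cancel₀ _ hNι]
    have hT : (ι X ^ μ) ^ p = (ι X ^ μ) ^ (p - 1) * ι X ^ μ := by rw [← pow_succ, Nat.sub_add_cancel hp.pos]
    simp only [A, map_mul, map_pow]
    rw [pow_right_comm (ι X) p μ, mul_pow]
    linear_combination (ι X ^ μ) ^ p * hz' + z * ι N ^ μ * hT
  obtain ⟨y, hy'⟩ : ∃ y, ι y = z * ι X ^ μ := by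
    have hmon : (Polynomial.X ^ p - Polynomial.C A * Polynomial.X - Polynomial.C F' : Polynomial (PowerSeries k)).Monic := by
      rw [sub_sub]
      refine Polynomial.monic_X_pow_sub ((Polynomial.degree_add_le _ _).trans_lt (max_lt ?_ ?_))
      · exact (Polynomial.degree_C_mul_X_le A).trans_lt (by exact_mod_cast hp.one_lt)
      · exact Polynomial.degree_C_le.trans_lt (by exact_mod_cast hp.pos)
    exact IsIntegrallyClosed.algebraMap_eq_of_integral ⟨_, hmon, by simpa [Polynomial.eval₂_sub, sub_eq_zero] using hy⟩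
  have heq : y ^ p - A * y = F' := hι (by rw [map_sub, map_mul, map_pow, hy']; exact hy)
  have hy0 : constantCoeff y ≠ 0 := fun h => by
    have h1 := congrArg constantCoeff heq
    simp [F', A, h, zero_pow hp.ne_zero, zero_pow hμ.ne', zero_pow (show p - 1 ≠ 0 by have := hp.two_le; omega)] at h1
    rcases h1 with h1 | h1
    · exact hf0 h1
    · exact hv0 h1.1
  obtain ⟨d, hd⟩ := dvd_sigma_sub hX y
  have hSX : σ (X ^ μ) = X ^ μ * (1 + X ^ m * w) ^ μ := by rw [map_pow, hX, ← mul_pow]; ring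
  obtain ⟨Q, hQ⟩ : ∃ Q, (1 + X ^ m * w) ^ μ = 1 + (μ : PowerSeries k) * (X ^ m * w) + (X ^ m * w) ^ 2 * Q := by
    clear hμ hpμ hz hy hy' heq hy0 hSX hFN
    induction μ with
    | zero => exact ⟨0, by simp⟩
    | succ i ih =>
      obtain ⟨Q, hQ⟩ := ih
      exact ⟨Q + Q * (X ^ m * w) + (i : PowerSeries k), by rw [pow_succ, hQ]; push_cast; ring⟩
  let S := σ (X ^ μ)
  let T : PowerSeries k := X ^ μ
  have hkey : (T * σ y - S * y) ^ p = (S * T) ^ (p - 1) * (T * σ y - S * y) := by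
    have e1 : (y ^ p - T ^ (p - 1) * y) * S ^ p = (σ y ^ p - S ^ (p - 1) * σ y) * T ^ p := by
      have h0 : (y ^ p - A * y) * N ^ μ = f * T ^ p := by rw [heq, hFN, pow_right_comm X p μ]
      have h1 := congrArg σ h0
      simp only [map_mul, map_sub, map_pow, hσN, hfσ, A] at h1
      rw [show (σ X) ^ μ = S from (map_pow σ X μ).symm] at h1
      simp only [A] at h0
      have hTσ : σ T = S := rfl
      rw [hTσ] at h1
      apply mul_left_cancel₀ (pow_ne_zero μ hN0)
      linear_combination S ^ p * h0 - T ^ p * h1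
    rw [sub_pow_char, mul_pow, mul_pow, mul_pow]
    have hT : T ^ p = T ^ (p - 1) * T := by rw [← pow_succ, Nat.sub_add_cancel hp.pos]
    have hS : S ^ p = S ^ (p - 1) * S := by rw [← pow_succ, Nat.sub_add_cancel hp.pos]
    linear_combination -e1 - T ^ (p - 1) * y * hS + S ^ (p - 1) * σ y * hT
  have hD : HasOrd (T * σ y - S * y) (μ + m) := by
    refine ⟨X * d - ((μ : PowerSeries k) * w + X ^ m * w ^ 2 * Q) * y, ?_, ?_⟩
    · simp only [T, S, hSX, hQ]
      linear_combination X ^ μ * hd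
    · have : (μ : k) ≠ 0 := by rwa [Ne, CharP.cast_eq_zero_iff k p]
      simp [map_natCast, zero_pow (show m ≠ 0 by omega), this, hw, hy0]
  obtain ⟨g, hg, hg0⟩ := hD
  have h := hkey
  rw [show S * T = X ^ (μ + μ) * (1 + X ^ m * w) ^ μ by simp only [S, T, hSX]; rw [pow_add]; ring, hg] at h
  have hD0 : X ^ (μ + m) * g ≠ 0 := mul_ne_zero (pow_ne_zero _ X_ne_zero) fun h => hg0 (by rw [h, map_zero])
  rw [show (X ^ (μ + m) * g) ^ p = (X ^ (μ + m) * g) ^ (p - 1) * (X ^ (μ + m) * g) by rw [← pow_succ, Nat.sub_add_cancel hp.pos]] at h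
  have h2 := mul_right_cancel₀ hD0 h
  have o1 : HasOrd ((X ^ (μ + m) * g) ^ (p - 1)) ((μ + m) * (p - 1)) :=
    ⟨g ^ (p - 1), by rw [mul_pow, ← pow_mul], by rw [map_pow]; exact pow_ne_zero _ hg0⟩
  have o2 : HasOrd ((X ^ (μ + μ) * (1 + X ^ m * w) ^ μ) ^ (p - 1)) ((μ + μ) * (p - 1)) :=
    ⟨((1 + X ^ m * w) ^ μ) ^ (p - 1), by rw [mul_pow, ← pow_mul], by simp [zero_pow (show m ≠ 0 by omega)]⟩
  rw [h2] at o1
  have h3 : (μ + m) * (p - 1) = (μ + μ) * (p - 1) := ENat.coe_inj.1 ((hasOrd_iff.1 o1).symm.trans (hasOrd_iff.1 o2))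
  have := Nat.eq_of_mul_eq_mul_right (by have := hp.two_le; omega) h3
  omega

end Groth.Agent.S15813
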