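import Groth.Statements.S15814
import Groth.Agent.SerreReg.MiracleFinite
import Mathlib.RingTheory.TensorProduct.Maps
import Mathlib.RingTheory.Flat.Stability

set_option autoImplicit false
universe u v w
open WildQuot

namespace Groth.Agent.S15814

open scoped TensorProduct

section Aux

open IsLocalRing

theorem free_of_injective {R : Type u} [CommRing R] [IsRegularLocalRing R] {A : Type v} [CommRing A]
    [IsRegularLocalRing A] [Algebra R A] [Module.Finite R A]
    (hinj : Function.Injective (algebraMap R A)) : Module.Free R A := by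
  let e : R ≃+* (algebraMap R A).range :=
    RingEquiv.ofBijective (algebraMap R A).rangeRestrict
      ⟨fun a b h => hinj (congrArg Subtype.val h), (algebraMap R A).rangeRestrict_surjective⟩
  haveI : IsRegularLocalRing (algebraMap R A).range := IsRegularLocalRing.of_ringEquiv e
  have hsmul : ∀ (r : R) (a : A), (e r) • a = r • a := fun r a => (Algebra.smul_def r a).symm
  haveI : Module.Finite (algebraMap R A).range A := by
    obtain ⟨s, hs⟩ := (Module.finite_def.mp ‹Module.Finite R A›)
    refine ⟨s, top_le_iff.mp ?_⟩
    intro a _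
    have : a ∈ Submodule.span R (s : Set A) := hs ▸ Submodule.mem_top
    induction this using Submodule.span_induction with
    | mem x hx => exact Submodule.subset_span hx
    | zero => exact zero_mem _
    | add x y _ _ hx hy => exact add_mem (hx trivial) (hy trivial)
    | smul r x _ hx => rw [← hsmul]; exact Submodule.smul_mem _ _ (hx trivial)
  haveI : Module.Free (algebraMap R A).range A :=
    SerreReg.free_of_finite_of_isRegularLocalRing (algebraMap R A).range A Subtype.val_injective
  let b := Module.Free.chooseBasis (algebraMap R A).range A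
  exact Module.Free.of_basis (b.mapCoeffs e.symm fun c x => by
    rw [← hsmul, RingEquiv.apply_symm_apply])

theorem exists_retraction {R : Type u} [CommRing R] [IsLocalRing R] {A : Type v} [CommRing A]
    [Nontrivial A] [Algebra R A] [Module.Finite R A] [Module.Free R A] :
    ∃ r : A →ₗ[R] R, r 1 = 1 := by
  classical
  let b := Module.Free.chooseBasis R A
  obtain ⟨i, hi⟩ : ∃ i, IsUnit (b.repr 1 i) := by
    by_contra hall
    push Not at hall
    have h1 : (⊤ : Submodule R A) ≤ maximalIdeal R • ⊤ := fun a _ => by
      rw [← mul_one a, ← b.sum_repr 1, Finset.mul_sum]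
      refine Submodule.sum_mem _ fun j _ => ?_
      rw [mul_smul_comm]
      exact Submodule.smul_mem_smul ((mem_maximalIdeal _).mpr (hall j)) trivial
    have h2 := Submodule.eq_bot_of_le_smul_of_le_jacobson_bot (maximalIdeal R) (⊤ : Submodule R A)
      Module.Finite.fg_top h1 (IsLocalRing.maximalIdeal_le_jacobson _)
    exact one_ne_zero ((Submodule.mem_bot R).mp (h2 ▸ (Submodule.mem_top : (1 : A) ∈ ⊤)))
  exact ⟨hi.unit⁻¹.val • b.coord i, by simp⟩

theorem free_and_regular {R : Type u} [CommRing R] [IsRegularLocalRing R] {A : Type v} [CommRing A]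
    [IsRegularLocalRing A] [Algebra R A] [Module.Finite R A] (hinj : Function.Injective (algebraMap R A))
    (B B' : Subalgebra R A) (ψ : A →ₐ[R] B ⊗[R] B')
    (hψl : ∀ b : B, ψ b = b ⊗ₜ 1) (hψr : ∀ b : B', ψ b = 1 ⊗ₜ b)
    (hμψ : (Algebra.TensorProduct.productMap B.val B'.val).comp ψ = AlgHom.id R A) :
    Module.Free R B ∧ IsRegularLocalRing B := by
  haveI := free_of_injective hinj
  let μ := Algebra.TensorProduct.productMap B.val B'.val
  have hψμ : ∀ z, ψ (μ z) = z := by
    intro z
    induction z using TensorProduct.induction_on with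
    | zero => rw [map_zero, map_zero]
    | tmul x y =>
      rw [Algebra.TensorProduct.productMap_apply_tmul, map_mul, Subalgebra.coe_val, Subalgebra.coe_val,
        hψl, hψr, Algebra.TensorProduct.tmul_mul_tmul, mul_one, one_mul]
    | add x y hx hy => rw [map_add, map_add, hx, hy]
  let e : A ≃ₐ[R] B ⊗[R] B' :=
    AlgEquiv.ofAlgHom ψ μ (AlgHom.ext hψμ) hμψ
  obtain ⟨r, hr⟩ := exists_retraction (R := R) (A := A)
  haveI : Module.Free R (B ⊗[R] B') := Module.Free.of_equiv e.toLinearEquiv
  have hB : Module.Projective R B := by
    let i : B →ₗ[R] B ⊗[R] B' := (TensorProduct.mk R B B').flip 1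
    let s : B ⊗[R] B' →ₗ[R] B :=
      (TensorProduct.rid R B).toLinearMap.comp ((r.comp B'.val.toLinearMap).lTensor B)
    refine Module.Projective.of_split i s (LinearMap.ext fun b => ?_)
    simp [i, s, hr]
  have hB' : Module.Projective R B' := by
    let i : B' →ₗ[R] B ⊗[R] B' := TensorProduct.mk R B B' 1
    let s : B ⊗[R] B' →ₗ[R] B' :=
      (TensorProduct.lid R B').toLinearMap.comp ((r.comp B.val.toLinearMap).rTensor B')
    refine Module.Projective.of_split i s (LinearMap.ext fun b => ?_)
    simp [i, s, hr]
  haveI : IsNoetherian R A := isNoetherian_of_isNoetherianRing_of_finite R A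
  haveI : Module.Finite R B := Module.Finite.of_injective B.val.toLinearMap Subtype.val_injective
  haveI : Module.Free R B := Module.free_of_flat_of_isLocalRing
  refine ⟨inferInstance, ?_⟩
  haveI : IsNoetherianRing B := isNoetherian_of_tower R inferInstance
  haveI : Module.Finite B A := Module.Finite.of_restrictScalars_finite R B A
  have hBA : Function.Injective (algebraMap B A) := Subtype.val_injective
  haveI : Algebra.IsIntegral B A := Algebra.IsIntegral.of_finite B A
  haveI : IsLocalHom (algebraMap B A) := RingHom.IsIntegral.isLocalHom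
    (fun a => Algebra.IsIntegral.isIntegral a) hBA
  haveI : IsLocalRing B := (algebraMap B A).domain_isLocalRing
  haveI : Module.Flat B (B ⊗[R] B') := inferInstance
  let eB : (B ⊗[R] B') ≃ₗ[B] A :=
    { e.symm.toLinearEquiv.toAddEquiv with
      map_smul' := fun b z => by
        show μ (b • z) = b • μ z
        induction z using TensorProduct.induction_on with
        | zero => rw [smul_zero, map_zero, smul_zero]
        | add x y hx hy => rw [smul_add, map_add, map_add, hx, hy, smul_add]
        | tmul x y =>
          rw [TensorProduct.smul_tmul', Algebra.TensorProduct.productMap_apply_tmul,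
            Algebra.TensorProduct.productMap_apply_tmul, smul_eq_mul, map_mul, mul_assoc]
          rfl }
  haveI : Module.Flat B A := Module.Flat.of_linearEquiv eB.symm
  exact SerreReg.isRegularLocalRing_of_flat B A

end Aux

/-- Let `R` be a regular local ring and `A` a regular local ring, finite over `R` (with `R → A`
injective) and with the same residue field; let a finite commutative group `H` of order `p ^ n` (`p`
prime) act faithfully on `A` by `R`-algebra automorphisms with ring of invariants exactly `R`, and
let `G_1, …, G_n ≤ H` be subgroups of order `p` generating `H`, each the inertia subgroup of some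
height-one prime of `A`. Put `G_i^⊥ =` the subgroup generated by the `G_j` with `j ≠ i` and `B_i =
A^{G_i^⊥}`. Suppose `A` is the coproduct of the `R`-algebras `B_1, …, B_n`: every family of
`R`-algebra maps `B_i → C` into a commutative `R`-algebra `C` is the restriction of a unique
`R`-algebra map `A → C` (that is, the product map `B_1 ⊗_R ⋯ ⊗_R B_n → A` is an isomorphism). Then
every `B_i` is a free `R`-module and a regular local ring. (The published statement is for `A`
complete regular with an action ramified precisely at the origin, `R` a norm subring and `H` the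
Galois group of `Frac(A)/Frac(R)`, when that extension is Galois, and adds that the branch-locus
equations `a_1, …, a_n` of the `B_i` over `R` form a system of parameters of `R`; that last clause
is not included, and the test algebras `C` are taken in one universe large enough to contain the
tensor product.) -/
theorem result
    (p : ℕ) [Fact p.Prime] (R : Type u) [CommRing R] [IsRegularLocalRing R]
    (A : Type v) [CommRing A] [IsRegularLocalRing A]
    [Algebra R A] [Module.Finite R A] (hinj : Function.Injective (algebraMap R A))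
    (hres : Function.Surjective (IsLocalRing.residue A ∘ algebraMap R A))
    (H : Type w) [Group H] [Finite H] [MulSemiringAction H A] [SMulCommClass H R A] [FaithfulSMul H A]
    (hfix : ∀ a : A, (∀ h : H, h • a = a) → a ∈ Set.range (algebraMap R A))
    (hcomm : ∀ g h : H, g * h = h * g)
    (n : ℕ) (hcard : Nat.card H = p ^ n) (Gi : Fin n → Subgroup H)
    (hGi : ∀ i, Nat.card (Gi i) = p) (hsup : (⨆ i, Gi i) = ⊤)
    (hinert : ∀ i, ∃ P : Ideal A, P.IsPrime ∧ P.height = 1 ∧ P.inertia H = Gi i)
    (hcoprod : ∀ (C : Type (max u v)) [CommRing C] [Algebra R C]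
      (φ : ∀ i : Fin n,
        FixedPoints.subalgebra R A ↥(⨆ j ∈ (Finset.univ.erase i : Finset (Fin n)), Gi j : Subgroup H) →ₐ[R] C),
      ∃! ψ : A →ₐ[R] C, ∀ i
        (x : FixedPoints.subalgebra R A ↥(⨆ j ∈ (Finset.univ.erase i : Finset (Fin n)), Gi j : Subgroup H)),
        ψ x = φ i x) :
    ∀ i, Module.Free R
        (FixedPoints.subalgebra R A ↥(⨆ j ∈ (Finset.univ.erase i : Finset (Fin n)), Gi j : Subgroup H)) ∧
      IsRegularLocalRing
        (FixedPoints.subalgebra R A ↥(⨆ j ∈ (Finset.univ.erase i : Finset (Fin n)), Gi j : Subgroup H)) := by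
  intro i
  set Bi : Fin n → Subalgebra R A := fun i =>
    FixedPoints.subalgebra R A ↥(⨆ j ∈ (Finset.univ.erase i : Finset (Fin n)), Gi j : Subgroup H)
  let B' : Subalgebra R A := Algebra.adjoin R (⋃ (j : Fin n) (_ : j ≠ i), (Bi j : Set A))
  have hle : ∀ j, j ≠ i → Bi j ≤ B' := fun j hj x hx =>
    Algebra.subset_adjoin (Set.mem_iUnion₂.mpr ⟨j, hj, hx⟩)
  classical
  let φ : ∀ j, Bi j →ₐ[R] ULift.{u} (Bi i ⊗[R] B') := fun j =>
    ULift.algEquiv.symm.toAlgHom.comp
      (if h : j = i then Algebra.TensorProduct.includeLeft.comp (Subalgebra.inclusion (by rw [h]))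
        else Algebra.TensorProduct.includeRight.comp (Subalgebra.inclusion (hle j h)))
  obtain ⟨ψ', hψ', -⟩ := hcoprod (ULift.{u} (Bi i ⊗[R] B')) φ
  let ψ : A →ₐ[R] Bi i ⊗[R] B' := ULift.algEquiv.toAlgHom.comp ψ'
  have hψ : ∀ j (x : Bi j), ψ x =
      (if h : j = i then Algebra.TensorProduct.includeLeft.comp (Subalgebra.inclusion (by rw [h]))
        else Algebra.TensorProduct.includeRight.comp (Subalgebra.inclusion (hle j h)) :
          Bi j →ₐ[R] Bi i ⊗[R] B') x := fun j x => by
    show ULift.algEquiv (R := R) (ψ' (x : A)) = _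
    rw [hψ' j x]
    exact AlgEquiv.apply_symm_apply _ _
  have hψl : ∀ b : Bi i, ψ b = b ⊗ₜ 1 := fun b => by
    rw [hψ i b, dif_pos rfl]; rfl
  have hψr : ∀ b : B', ψ b = 1 ⊗ₜ b := by
    rintro ⟨b, hb⟩
    induction hb using Algebra.adjoin_induction with
    | mem x hx =>
      obtain ⟨j, hj, hxj⟩ := Set.mem_iUnion₂.mp hx
      rw [show ψ x = ψ ((⟨x, hxj⟩ : Bi j) : A) from rfl, hψ j ⟨x, hxj⟩, dif_neg hj]
      rfl
    | algebraMap r =>
      rw [AlgHom.commutes, ← (Algebra.TensorProduct.includeRight : B' →ₐ[R] Bi i ⊗[R] B').commutes r]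
      rfl
    | add x y hx hy ihx ihy =>
      simp only [map_add, ihx, ihy, ← TensorProduct.tmul_add]
      rfl
    | mul x y hx hy ihx ihy =>
      simp only [map_mul, ihx, ihy, Algebra.TensorProduct.tmul_mul_tmul, one_mul]
      rfl
  refine free_and_regular hinj (Bi i) B' ψ hψl hψr ?_
  let ι : A →ₐ[R] ULift.{u} A := ULift.algEquiv.symm.toAlgHom
  obtain ⟨ψ₀, -, huniq⟩ := hcoprod (ULift.{u} A) (fun j => ι.comp (Bi j).val)
  have h2 : ι.comp ((Algebra.TensorProduct.productMap (Bi i).val B'.val).comp ψ) = ψ₀ := by
    refine huniq _ fun j x => ?_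
    simp only [AlgHom.comp_apply]
    congr 1
    by_cases hj : j = i
    · subst hj
      rw [hψl, Algebra.TensorProduct.productMap_apply_tmul, map_one, mul_one]
    · rw [show ψ (x : A) = ψ ((⟨x.1, hle j hj x.2⟩ : B') : A) from rfl, hψr,
        Algebra.TensorProduct.productMap_apply_tmul, map_one, one_mul]
      rfl
  have h3 : ι.comp (AlgHom.id R A) = ψ₀ := huniq _ fun j x => rfl
  refine AlgHom.ext fun a => ?_
  have := AlgHom.congr_fun (h2.trans h3.symm) a
  exact (ULift.algEquiv (R := R) (A := A)).symm.injective this

end Groth.Agent.S15814
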