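import Groth.Statements.S15816
import Groth.Agent.KoszulLib.ScaleX
import Groth.Agent.S15821
import Mathlib.LinearAlgebra.TensorProduct.Quotient

set_option autoImplicit false
universe u
open CategoryTheory
open scoped TensorProduct
open Koszul

namespace Groth.Agent.S15816

/-- Let A be a commutative ring, f = (f_1, …, f_n) a sequence in A that is regular in the weak sense
(f_1 is a non-zero-divisor of A and each f_i is a non-zero-divisor modulo (f_1, …, f_{i-1})), with
Koszul complex K(f) and differentials ∂^q, and let x be a non-zero-divisor of A. Then for every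
integer q < 0 the q-th cohomology module of the Koszul complex of (x f_1, …, x f_n) is isomorphic as
an A-module to Ker(∂^q) ⊗_A A/(x) (existence of an A-linear isomorphism; mapping-cone model of the
Koszul complex). -/
theorem result (A : Type u) [CommRing A] (l : List A)
    (hl : RingTheory.Sequence.IsWeaklyRegular A l) (x : A) (hx : x ∈ nonZeroDivisors A) (q : ℤ) (hq : q < 0) :
    Nonempty ((Koszul.koszul A (l.map (fun f => x * f))).homology q ≅
      ModuleCat.of A (↥(LinearMap.ker ((Koszul.koszul A l).d q (q + 1)).hom) ⊗[A] (A ⧸ Ideal.span {x}))) := by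
  obtain ⟨e⟩ := Groth.Agent.KoszulLib.nonempty_homology_scale l hx q
  let Z := LinearMap.ker ((Koszul.koszul A l).d q (q + 1)).hom
  have hB : LinearMap.range ((Koszul.koszul A l).d (q - 1) q).hom = Z := by
    refine le_antisymm ?_ fun z hz =>
      (Groth.Agent.FlatCx.isZero_homology_iff (K := Koszul.koszul A l) (i := q - 1) (j := q) (k := q + 1) (by simp) (by simp)).1
        ((Groth.Agent.S15821.result A l hl).1 q (by omega)) z hz
    rintro _ ⟨v, rfl⟩
    exact congr($((Koszul.koszul A l).d_comp_d (q - 1) q (q + 1)) v)
  have hS : Submodule.comap Z.subtype (Ideal.span {x} • LinearMap.range ((Koszul.koszul A l).d (q - 1) q).hom) =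
      Ideal.span {x} • (⊤ : Submodule A Z) := by
    rw [hB]
    have h : Ideal.span {x} • Z = Submodule.map Z.subtype (Ideal.span {x} • (⊤ : Submodule A Z)) := by
      rw [Submodule.map_smul'', Submodule.map_subtype_top]
    rw [h]
    exact Submodule.comap_map_eq_of_injective Z.injective_subtype _
  exact ⟨e ≪≫ ((Submodule.quotEquivOfEq _ _ hS).trans (TensorProduct.tensorQuotEquivQuotSMul Z (Ideal.span {x})).symm).toModuleIso⟩

end Groth.Agent.S15816
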