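import Groth.Statements.S15817
import Mathlib.Algebra.Category.ModuleCat.Basic
import Mathlib.LinearAlgebra.Quotient.Basic
import Mathlib.CategoryTheory.Limits.Shapes.Pullback.IsPullback.Basic

set_option autoImplicit false
universe u v
open CategoryTheory
open CAlg

namespace Groth.Agent.S15817

/-- Let A be a commutative ring, M an A-module and P, Q submodules of M. Then the commuting square of
quotient projections with corners M/(P ∩ Q), M/P, M/Q and M/(P + Q) is cartesian in the category of
A-modules: M/(P ∩ Q) is the fibre product of M/P and M/Q over M/(P + Q). -/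
theorem result (A : Type u) [CommRing A] (M : Type v) [AddCommGroup M] [Module A M]
    (P Q : Submodule A M) :
    IsPullback (ModuleCat.ofHom (Submodule.factor (inf_le_left : P ⊓ Q ≤ P)))
      (ModuleCat.ofHom (Submodule.factor (inf_le_right : P ⊓ Q ≤ Q)))
      (ModuleCat.ofHom (Submodule.factor (le_sup_left : P ≤ P ⊔ Q)))
      (ModuleCat.ofHom (Submodule.factor (le_sup_right : Q ≤ P ⊔ Q))) := by
  have hsurj : ∀ (x : M ⧸ P) (y : M ⧸ Q), Submodule.factor (le_sup_left : P ≤ P ⊔ Q) x = Submodule.factor (le_sup_right : Q ≤ P ⊔ Q) y →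
      ∃! z : M ⧸ (P ⊓ Q), Submodule.factor (inf_le_left : P ⊓ Q ≤ P) z = x ∧ Submodule.factor (inf_le_right : P ⊓ Q ≤ Q) z = y := by
    intro x y hxy
    obtain ⟨x, rfl⟩ := Submodule.Quotient.mk_surjective _ x
    obtain ⟨y, rfl⟩ := Submodule.Quotient.mk_surjective _ y
    obtain ⟨p, hp, q, hq, hpq⟩ := Submodule.mem_sup.1 ((Submodule.Quotient.eq _).1 hxy)
    replace hpq : p + q = x - y := hpq
    refine ⟨Submodule.Quotient.mk (x - p), ⟨(Submodule.Quotient.eq _).2 (by simpa using hp),
      (Submodule.Quotient.eq _).2 (by show x - p - y ∈ Q; rw [show x - p - y = q by rw [sub_right_comm, ← hpq, add_sub_cancel_left]]; exact hq)⟩, ?_⟩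
    rintro w ⟨hw1, hw2⟩
    obtain ⟨w, rfl⟩ := Submodule.Quotient.mk_surjective _ w
    refine (Submodule.Quotient.eq _).2 ⟨?_, ?_⟩
    · simpa [sub_sub_eq_add_sub, add_sub_right_comm] using P.add_mem ((Submodule.Quotient.eq _).1 hw1) hp
    · have h1 : w - y ∈ Q := (Submodule.Quotient.eq _).1 hw2
      obtain rfl : q = x - y - p := eq_sub_of_add_eq' hpq
      show w - (x - p) ∈ Q
      rw [show w - (x - p) = (w - y) - (x - y - p) by abel]
      exact Q.sub_mem h1 hq
  refine ⟨⟨?_⟩, ⟨?_⟩⟩
  · ext z
    rfl
  refine Limits.PullbackCone.IsLimit.mk _ (fun t => ModuleCat.ofHom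
    { toFun := fun z => (hsurj (t.fst z) (t.snd z) (ConcreteCategory.congr_hom t.condition z)).choose
      map_add' := fun a b => ?_
      map_smul' := fun c a => ?_ }) ?_ ?_ ?_
  · refine ((hsurj _ _ (ConcreteCategory.congr_hom t.condition (a + b))).choose_spec.2 _ ⟨?_, ?_⟩).symm
    · rw [map_add, (hsurj _ _ _).choose_spec.1.1, (hsurj _ _ _).choose_spec.1.1, map_add]
      all_goals first | rfl | exact ConcreteCategory.congr_hom t.condition _
    · rw [map_add, (hsurj _ _ _).choose_spec.1.2, (hsurj _ _ _).choose_spec.1.2, map_add]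
      all_goals first | rfl | exact ConcreteCategory.congr_hom t.condition _
  · refine ((hsurj _ _ (ConcreteCategory.congr_hom t.condition (c • a))).choose_spec.2 _ ⟨?_, ?_⟩).symm
    · rw [RingHom.id_apply, map_smul, (hsurj _ _ _).choose_spec.1.1, map_smul]
      all_goals first | rfl | exact ConcreteCategory.congr_hom t.condition _
    · rw [RingHom.id_apply, map_smul, (hsurj _ _ _).choose_spec.1.2, map_smul]
      all_goals first | rfl | exact ConcreteCategory.congr_hom t.condition _
  · intro t; ext z
    exact (hsurj (t.fst z) (t.snd z) (ConcreteCategory.congr_hom t.condition z)).choose_spec.1.1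
  · intro t; ext z
    exact (hsurj (t.fst z) (t.snd z) (ConcreteCategory.congr_hom t.condition z)).choose_spec.1.2
  · intro t m h1 h2; ext z
    exact (hsurj (t.fst z) (t.snd z) (ConcreteCategory.congr_hom t.condition z)).choose_spec.2 _
      ⟨ConcreteCategory.congr_hom h1 z, ConcreteCategory.congr_hom h2 z⟩

end Groth.Agent.S15817
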