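import Groth.Statements.S15822
import Groth.Agent.KosSpan.Basic

set_option autoImplicit false
universe u
open CategoryTheory
open Koszul

namespace Groth.Agent.S15822

/-- Let A be a commutative ring, M an A-module, x = (x_1, …, x_s) a sequence in A and y_1, …, y_r
elements of the ideal (x_1, …, x_s). Then for every integer m, the m-th cohomology module of the
complex K(x_1, …, x_s, y_1, …, y_r) ⊗_A M (Koszul complex of the concatenated sequence in the
iterated mapping-cone model, tensored termwise with M) is isomorphic as an A-module to the direct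
sum over j = 0, …, r of (r choose j) copies of the (m + j)-th cohomology module of K(x_1, …, x_s)
⊗_A M (existence of an A-linear isomorphism). In the published indexing: H^{-q}(K(x, y) ⊗ M) ≅
⊕_{i+j=q} H^{-i}(K(x) ⊗ M) ⊗ ∧^j A^r. -/
theorem result (A : Type u) [CommRing A] (M : ModuleCat.{u} A)
    (xs ys : List A) (hy : ∀ y ∈ ys, y ∈ Ideal.span {a | a ∈ xs}) (m : ℤ) :
    Nonempty ((DRing.tensorCx (Koszul.koszul A (xs ++ ys)) M).homology m ≅
      ModuleCat.of A ((j : Fin (ys.length + 1)) → Fin (ys.length.choose j) →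
        (DRing.tensorCx (Koszul.koszul A xs) M).homology (m + j))) := by
  let M' := Groth.Agent.CechX.single0 M
  obtain ⟨ι, _, w, hw, he⟩ := Groth.Agent.KosSpan.exists_homology_KC (xs := xs) M ys hy
  obtain ⟨e₁⟩ := he m
  obtain ⟨p⟩ := Groth.Agent.KosSpan.kc_perm (List.perm_append_comm (l₁ := xs) (l₂ := ys)) M'
  obtain ⟨e₂⟩ := Groth.Agent.KosSpan.nonempty_pi_fibres (R := A) w ys.length hw
    (fun j : ℕ => ((Groth.Agent.CechX.KC xs M').homology (m + j) : Type u))
  let t := fun l => Groth.Agent.KosSpan.tensorKoszulIso M l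
  let e₀ := (HomologicalComplex.homologyMapIso (t (xs ++ ys) ≪≫ p ≪≫
    eqToIso (Groth.Agent.CechX.KC_append ys xs M')) m).toLinearEquiv
  exact ⟨(e₀ ≪≫ₗ e₁ ≪≫ₗ e₂ ≪≫ₗ LinearEquiv.piCongrRight fun j => LinearEquiv.piCongrRight fun _ =>
    (HomologicalComplex.homologyMapIso (t xs).symm (m + (j : ℕ))).toLinearEquiv).toModuleIso⟩

end Groth.Agent.S15822
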