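import Groth.Statements.S15824
import Groth.Agent.CMFlat.RegImm

set_option autoImplicit false
universe u
open CategoryTheory AlgebraicGeometry
open RegImm

namespace Groth.Agent.S15824

/-- Let X be a locally Noetherian scheme all of whose local rings are Cohen–Macaulay, and i : Z → X a
closed immersion which is regular (around every point, on some affine open of X the ideal of Z is
generated by a regular sequence). Then Z has no embedded points (each associated point of Z is
generic in an irreducible component): for every point z of Z, if the maximal ideal of O_{Z,z} is an
associated prime of O_{Z,z} (as a module over itself), then O_{Z,z} has Krull dimension 0. (The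
published statement takes X Noetherian and Z a local complete intersection subscheme; the assertion
is local on X and uses only that the ideal of Z is locally generated by a regular sequence.) -/
theorem result {X Z : Scheme.{u}}
    [IsLocallyNoetherian X] (hCM : ∀ x : X, LocCoh.IsCohenMacaulayLocalRing (X.presheaf.stalk x))
    (i : Z ⟶ X) [IsClosedImmersion i] (hi : RegImm.IsRegularImmersion RegImm.Kind.regular i) (z : Z)
    (hz : IsAssociatedPrime (IsLocalRing.maximalIdeal (Z.presheaf.stalk z)) (Z.presheaf.stalk z)) :
    ringKrullDim (Z.presheaf.stalk z) = 0 := by
  haveI := Groth.Agent.CMFlat.isCohenMacaulay_stalk_of_regularImmersion i hi z (hCM _)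
  obtain ⟨n, hn⟩ := Groth.Agent.SerreReg.exists_dim_nat (Z.presheaf.stalk z)
  have h := Groth.Agent.CMSop.le_ringKrullDim_quotient_of_hasRegSeq n inferInstance
    (Groth.Agent.CMFlat.hasRegSeq_of_cm hn) _ (AssociatedPrimes.mem_iff.mpr hz)
  letI := Ideal.Quotient.field (IsLocalRing.maximalIdeal (Z.presheaf.stalk z))
  rw [ringKrullDim_eq_zero_of_field (Z.presheaf.stalk z ⧸ IsLocalRing.maximalIdeal _)] at h
  rw [hn]
  exact_mod_cast Nat.le_zero.mp (by exact_mod_cast h)

end Groth.Agent.S15824
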