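import Groth.Statements.S15825
import Mathlib
import Groth.Agent.S2428
import Groth.Agent.CMFlat.Quotient
import Groth.Agent.K0ResLF.TorVan
import Groth.Agent.KoszulLib.SchNoeth
-- import your own Groth.Agent.* helpers here

set_option autoImplicit false
set_option linter.style.haveILetI false
set_option maxHeartbeats 1000000
universe u
open CategoryTheory CategoryTheory.Limits AlgebraicGeometry
open RegImm

namespace Groth.Agent.S15825

open RingTheory.Sequence TensorProduct

theorem ker_fst_comp {X Y Z : Scheme.{u}} (i : Y ⟶ X) (j : Z ⟶ X) [IsClosedImmersion i] [IsClosedImmersion j] :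
    (pullback.fst i j ≫ i).ker = i.ker ⊔ j.ker := by
  refine le_antisymm ?_ (sup_le (Scheme.Hom.le_ker_comp _ _) ?_)
  · set L := i.ker ⊔ j.ker
    let a := IsClosedImmersion.lift i L.subschemeι (by rw [L.ker_subschemeι]; exact le_sup_left)
    let b := IsClosedImmersion.lift j L.subschemeι (by rw [L.ker_subschemeι]; exact le_sup_right)
    let l : L.subscheme ⟶ pullback i j := pullback.lift a b (by
      rw [IsClosedImmersion.lift_fac, IsClosedImmersion.lift_fac])
    calc (pullback.fst i j ≫ i).ker ≤ (l ≫ pullback.fst i j ≫ i).ker := Scheme.Hom.le_ker_comp _ _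
      _ = L := by rw [pullback.lift_fst_assoc, IsClosedImmersion.lift_fac, L.ker_subschemeι]
  · rw [pullback.condition]
    exact Scheme.Hom.le_ker_comp _ _

/-- The ideal of a closed subscheme at a point does not depend on the affine open. -/
theorem map_germ_ker_eq {X Y : Scheme.{u}} (i : Y ⟶ X) [IsClosedImmersion i] (U V : X.affineOpens) (x : X)
    (hU : x ∈ U.1) (hV : x ∈ V.1) :
    (RingHom.ker (i.app U.1).hom).map (X.presheaf.germ U.1 x hU).hom =
      (RingHom.ker (i.app V.1).hom).map (X.presheaf.germ V.1 x hV).hom := by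
  obtain ⟨W, hW, hxW, hle⟩ := exists_isAffineOpen_mem_and_subset
    (show x ∈ U.1 ⊓ V.1 from ⟨hU, hV⟩)
  have key : ∀ (U : X.affineOpens) (hU : x ∈ U.1) (e : W ≤ U.1),
      (RingHom.ker (i.app U.1).hom).map (X.presheaf.germ U.1 x hU).hom =
        (RingHom.ker (i.app W).hom).map (X.presheaf.germ W x hxW).hom := fun U hU e => by
    rw [(KoszulLib.ker_app_of_le i U inferInstance ⟨W, hW⟩ e).2, Ideal.map_map, ← CommRingCat.hom_comp,
      TopCat.Presheaf.germ_res]
  exact (key U hU (hle.trans inf_le_left)).trans (key V hV (hle.trans inf_le_right)).symm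

/-- The local equations at a point of the intersection. -/
theorem core {X Y Z : Scheme.{u}}
    [IsLocallyNoetherian X] (hCM : ∀ x : X, LocCoh.IsCohenMacaulayLocalRing (X.presheaf.stalk x))
    (iY : Y ⟶ X) (iZ : Z ⟶ X) [IsClosedImmersion iY] [IsClosedImmersion iZ] (a b : ℕ)
    (hY : RegImm.IsRegularImmersionOfCodim RegImm.Kind.regular a iY)
    (hZ : RegImm.IsRegularImmersionOfCodim RegImm.Kind.regular b iZ)
    (hcodim : ∀ w : ↥(pullback iY iZ), ((a + b : ℕ) : WithBot ℕ∞) ≤
      ringKrullDim (X.presheaf.stalk ((pullback.fst iY iZ ≫ iY).base w)))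
    (x : X) (y : Y) (z : Z) (hy : iY y = x) (hz : iZ z = x) :
    ∃ (V : X.affineOpens) (hx : x ∈ V.1) (rY rZ : List Γ(X, V.1)),
      rY.length = a ∧ rZ.length = b ∧ RingHom.ker (iY.app V.1).hom = Ideal.ofList rY ∧
      RingHom.ker (iZ.app V.1).hom = Ideal.ofList rZ ∧
      RingHom.ker ((pullback.fst iY iZ ≫ iY).app V.1).hom = Ideal.ofList (rY ++ rZ) ∧
      IsWeaklyRegular (X.presheaf.stalk x) ((rY ++ rZ).map (X.presheaf.germ V.1 x hx).hom) ∧
      IsWeaklyRegular (X.presheaf.stalk x) (rZ.map (X.presheaf.germ V.1 x hx).hom) := by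
  obtain ⟨-, hY⟩ := hY
  obtain ⟨-, hZ⟩ := hZ
  obtain ⟨UY, hyU, hcY, rsY, hlY, hregY, hkY⟩ := hY y
  obtain ⟨UZ, hzU, hcZ, rsZ, hlZ, hregZ, hkZ⟩ := hZ z
  rw [hy] at hyU
  rw [hz] at hzU
  obtain ⟨V₀, hV, hxV, hle⟩ := exists_isAffineOpen_mem_and_subset (show x ∈ UY.1 ⊓ UZ.1 from ⟨hyU, hzU⟩)
  let V : X.affineOpens := ⟨V₀, hV⟩
  have hle : V.1 ≤ UY.1 ⊓ UZ.1 := hle
  let ρY := (X.presheaf.map (homOfLE (hle.trans inf_le_left : V.1 ≤ UY.1)).op).hom
  let ρZ := (X.presheaf.map (homOfLE (hle.trans inf_le_right : V.1 ≤ UZ.1)).op).hom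
  have hkerY : RingHom.ker (iY.app V.1).hom = Ideal.ofList (rsY.map ρY) := by
    rw [(KoszulLib.ker_app_of_le iY UY hcY V (hle.trans inf_le_left)).2, hkY, Ideal.map_ofList]
  have hkerZ : RingHom.ker (iZ.app V.1).hom = Ideal.ofList (rsZ.map ρZ) := by
    rw [(KoszulLib.ker_app_of_le iZ UZ hcZ V (hle.trans inf_le_right)).2, hkZ, Ideal.map_ofList]
  have hkerW : RingHom.ker ((pullback.fst iY iZ ≫ iY).app V.1).hom = Ideal.ofList (rsY.map ρY ++ rsZ.map ρZ) := by
    have h := congrArg (fun J : X.IdealSheafData => J.ideal V) (ker_fst_comp iY iZ)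
    simp only [Scheme.IdealSheafData.ideal_sup, Pi.sup_apply, Scheme.Hom.ker_apply] at h
    rw [h, hkerY, hkerZ, Ideal.ofList_append]
  refine ⟨V, hxV, rsY.map ρY, rsZ.map ρZ, by rw [List.length_map, hlY], by rw [List.length_map, hlZ], hkerY, hkerZ,
    hkerW, ?_, ?_⟩
  · letI := (X.presheaf.germ V.1 x hxV).hom.toAlgebra
    haveI := V.2.isLocalization_stalk ⟨x, hxV⟩
    haveI := hCM x
    set φ := (X.presheaf.germ V.1 x hxV).hom
    set rs := rsY.map ρY ++ rsZ.map ρZ with hrs
    have hm : ∀ t ∈ rs.map φ, t ∈ IsLocalRing.maximalIdeal (X.presheaf.stalk x) := by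
      intro t ht
      obtain ⟨s, hs, rfl⟩ := List.mem_map.1 ht
      rw [← IsLocalization.AtPrime.map_eq_maximalIdeal (V.2.primeIdealOf ⟨x, hxV⟩).asIdeal (X.presheaf.stalk x)]
      refine Ideal.mem_map_of_mem _ ?_
      have hsY := KoszulLib.ker_le_primeIdealOf iY V inferInstance y (hy.symm ▸ hxV)
      have hsZ := KoszulLib.ker_le_primeIdealOf iZ V inferInstance z (hz.symm ▸ hxV)
      have e1 : V.2.primeIdealOf ⟨iY y, hy.symm ▸ hxV⟩ = V.2.primeIdealOf ⟨x, hxV⟩ := by subst hy; rfl
      have e2 : V.2.primeIdealOf ⟨iZ z, hz.symm ▸ hxV⟩ = V.2.primeIdealOf ⟨x, hxV⟩ := by subst hz; rfl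
      rw [e1, hkerY] at hsY
      rw [e2, hkerZ] at hsZ
      rcases List.mem_append.1 hs with h | h
      · exact hsY (Ideal.subset_span h)
      · exact hsZ (Ideal.subset_span h)
    refine (CMFlat.isWeaklyRegular_of_height _ hm fun p hp hle' => ?_).1
    let q : PrimeSpectrum Γ(X, V.1) := ⟨p.comap φ, inferInstance⟩
    rw [← Ideal.map_ofList, Ideal.map_le_iff_le_comap, hrs, ← hkerW] at hle'
    obtain ⟨w, hwV, hw⟩ := KoszulLib.exists_point_of_ker_le (pullback.fst iY iZ ≫ iY) V inferInstance q hle'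
    letI := (X.presheaf.germ V.1 _ hwV).hom.toAlgebra
    haveI := V.2.isLocalization_stalk ⟨_, hwV⟩
    have h1 : ringKrullDim (X.presheaf.stalk ((pullback.fst iY iZ ≫ iY).base w)) = (p.height : WithBot ℕ∞) := by
      rw [IsLocalization.AtPrime.ringKrullDim_eq_height
        (V.2.primeIdealOf ⟨_, hwV⟩).asIdeal (X.presheaf.stalk ((pullback.fst iY iZ ≫ iY).base w)), hw]
      exact congrArg _ (IsLocalization.height_under (V.2.primeIdealOf ⟨x, hxV⟩).asIdeal.primeCompl p)
    have h2 := hcodim w
    rw [h1] at h2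
    have hlen : (rs.map φ).length = a + b := by
      simp only [hrs, List.length_map, List.length_append, hlY, hlZ]
    rw [hlen]
    exact WithBot.coe_le_coe.mp h2
  · letI := (X.presheaf.germ UZ.1 x hzU).hom.toAlgebra
    haveI := UZ.2.isLocalization_stalk ⟨x, hzU⟩
    haveI : Module.Flat Γ(X, UZ.1) (X.presheaf.stalk x) :=
      IsLocalization.flat _ (UZ.2.primeIdealOf ⟨x, hzU⟩).asIdeal.primeCompl
    have h := hregZ.toIsWeaklyRegular.of_flat (S := X.presheaf.stalk x)
    rw [List.map_map, show ((X.presheaf.germ V.1 x hxV).hom : Γ(X, V.1) → X.presheaf.stalk x) ∘ ρZ =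
      algebraMap Γ(X, UZ.1) (X.presheaf.stalk x) from funext fun s =>
        TopCat.Presheaf.germ_res_apply X.presheaf _ x hxV s]
    exact h

/-- `Tor` along linear equivalences. -/
theorem subsingleton_tor_congr {A : Type u} [CommRing A] {i : ℕ} {M M' N N' : Type u} [AddCommGroup M] [Module A M]
    [AddCommGroup M'] [Module A M'] [AddCommGroup N] [Module A N] [AddCommGroup N'] [Module A N']
    (e : M ≃ₗ[A] M') (e' : N ≃ₗ[A] N') (h : Subsingleton (DRing.Tor A i M' N')) :
    Subsingleton (DRing.Tor A i M N) :=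
  (((CategoryTheory.Tor (ModuleCat.{u} A) i).mapIso e.toModuleIso).app (ModuleCat.of A N) ≪≫
    ((CategoryTheory.Tor (ModuleCat.{u} A) i).obj (ModuleCat.of A M')).mapIso e'.toModuleIso).toLinearEquiv.injective.subsingleton

theorem subsingleton_tor_zero {A : Type u} [CommRing A] {i : ℕ} (M N : Type u) [AddCommGroup M] [Module A M]
    [AddCommGroup N] [Module A N] [Subsingleton N] : Subsingleton (DRing.Tor A i M N) := by
  let T := (CategoryTheory.Tor (ModuleCat.{u} A) i).obj (ModuleCat.of A M)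
  haveI : T.Additive := K0ResLF.additive_leftDerived _ _
  exact ModuleCat.subsingleton_of_isZero (T.map_isZero (ModuleCat.isZero_of_subsingleton _))

/-- The affine-local statement. -/
theorem tor_quot {A : Type u} [CommRing A] (I J : Ideal A) (i : ℕ) (hi : 0 < i)
    (h : ∀ (P : Ideal A) [P.IsPrime], P.IsMaximal → I ≤ P → J ≤ P →
      ∃ (L : Type u) (_ : CommRing L) (_ : Algebra A L) (_ : IsLocalization.AtPrime L P) (lY lZ : List L),
        Ideal.ofList lY = I.map (algebraMap A L) ∧ Ideal.ofList lZ = J.map (algebraMap A L) ∧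
        IsWeaklyRegular L (lY ++ lZ) ∧ IsWeaklyRegular L lZ) :
    Subsingleton (DRing.Tor A i (A ⧸ I) (A ⧸ J)) := by
  classical
  refine Module.subsingleton_of_localization_maximal (R := A)
    (fun P _ => LocalizedModule P.primeCompl (DRing.Tor A i (A ⧸ I) (A ⧸ J)))
    (fun P _ => LocalizedModule.mkLinearMap P.primeCompl _) fun P hP => ?_
  haveI : P.IsPrime := hP.isPrime
  suffices H : ∃ (L : Type u) (_ : CommRing L) (_ : Algebra A L) (_ : IsLocalization.AtPrime L P),
      Subsingleton (DRing.Tor L i (L ⧸ I.map (algebraMap A L)) (L ⧸ J.map (algebraMap A L))) by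
    obtain ⟨L, _, _, _, hs⟩ := H
    haveI : Module.Flat A L := IsLocalization.flat L P.primeCompl
    obtain ⟨e⟩ := S2428.result A L (A ⧸ I) (A ⧸ J) i
    haveI := subsingleton_tor_congr (i := i)
      (Algebra.TensorProduct.quotIdealMapEquivTensorQuot L I).toLinearEquiv.symm
      (Algebra.TensorProduct.quotIdealMapEquivTensorQuot L J).toLinearEquiv.symm hs
    haveI : Subsingleton (L ⊗[A] DRing.Tor A i (A ⧸ I) (A ⧸ J)) := e.injective.subsingleton
    exact (IsLocalizedModule.iso P.primeCompl
      (TensorProduct.mk A L (DRing.Tor A i (A ⧸ I) (A ⧸ J)) 1)).injective.subsingleton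
  by_cases hI : I ≤ P
  · by_cases hJ : J ≤ P
    · obtain ⟨L, _, _, _, lY, lZ, eY, eZ, h1, h2⟩ := h P hP hI hJ
      refine ⟨L, inferInstance, inferInstance, inferInstance, ?_⟩
      rw [← eY, ← eZ]
      rw [isWeaklyRegular_append_iff] at h1
      have hM : IsWeaklyRegular (L ⧸ Ideal.ofList lY) lZ :=
        ((Submodule.quotEquivOfEq (Ideal.ofList lY • ⊤ : Submodule L L) (Ideal.ofList lY)
          (by simp)).isWeaklyRegular_congr lZ).1 h1.2
      exact K0ResLF.subsingleton_tor_regular lZ h2 (L ⧸ Ideal.ofList lY) hM hi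
    · refine ⟨Localization.AtPrime P, inferInstance, inferInstance, inferInstance, ?_⟩
      haveI : Subsingleton (Localization.AtPrime P ⧸ J.map (algebraMap A (Localization.AtPrime P))) :=
        Ideal.Quotient.subsingleton_iff.2 (IsLocalization.AtPrime.map_eq_top_of_not_le _ hJ)
      exact subsingleton_tor_zero _ _
  · refine ⟨Localization.AtPrime P, inferInstance, inferInstance, inferInstance, ?_⟩
    haveI : Subsingleton (Localization.AtPrime P ⧸ I.map (algebraMap A (Localization.AtPrime P))) :=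
      Ideal.Quotient.subsingleton_iff.2 (IsLocalization.AtPrime.map_eq_top_of_not_le _ hI)
    exact FMTool.subsingleton_tor_swap hi (subsingleton_tor_zero _ _)


/-- Let X be a locally Noetherian scheme all of whose local rings are Cohen–Macaulay, and let iY : Y → X
and iZ : Z → X be closed immersions which are regular of constant codimension a and b respectively
(around every point, on some affine open of X the ideal is generated by a regular sequence of length
a, resp. b). Let W = Y ×_X Z be the scheme-theoretic intersection, with closed immersion w = pr_1 ≫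
iY : W → X, and suppose W has the expected codimension: at every point of W the local ring of X has
Krull dimension at least a + b. Then w is a regular immersion of codimension a + b (so W is again a
local complete intersection in X), and the fibre square formed by W, Y, Z, X is Tor-independent: for
every affine open U of X and every i > 0 the module Tor_i over Γ(X, U) of Γ(Y, iY⁻¹U) and Γ(Z,
iZ⁻¹U) (module structures through iY and iZ; Tor computed by resolving the second argument) is zero.
(The published statement is phrased with local complete intersections in a Cohen–Macaulay scheme and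
the global codimension of Y ∩ Z; regular sequences of the stated lengths and the pointwise dimension
bound express the same hypotheses, and the vanishing of these Tor modules on affine opens is
equivalent to the vanishing of the stalkwise Tor groups at the points of W.) -/
theorem result {X Y Z : Scheme.{u}}
    [IsLocallyNoetherian X] (hCM : ∀ x : X, LocCoh.IsCohenMacaulayLocalRing (X.presheaf.stalk x))
    (iY : Y ⟶ X) (iZ : Z ⟶ X) [IsClosedImmersion iY] [IsClosedImmersion iZ] (a b : ℕ)
    (hY : RegImm.IsRegularImmersionOfCodim RegImm.Kind.regular a iY)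
    (hZ : RegImm.IsRegularImmersionOfCodim RegImm.Kind.regular b iZ)
    (hcodim : ∀ w : ↥(pullback iY iZ), ((a + b : ℕ) : WithBot ℕ∞) ≤
      ringKrullDim (X.presheaf.stalk ((pullback.fst iY iZ ≫ iY).base w))) :
    RegImm.IsRegularImmersionOfCodim RegImm.Kind.regular (a + b) (pullback.fst iY iZ ≫ iY) ∧
      ∀ (U : X.Opens), IsAffineOpen U → ∀ (i : ℕ), 0 < i →
        Subsingleton (@DRing.Tor Γ(X, U) _ i Γ(Y, iY ⁻¹ᵁ U) Γ(Z, iZ ⁻¹ᵁ U) _ (iY.app U).hom.toModule _ (iZ.app U).hom.toModule) := by
  refine ⟨⟨inferInstance, fun w => ?_⟩, fun U hU i hi => ?_⟩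
  · obtain ⟨V, hx, rY, rZ, hlY, hlZ, -, -, hk, hreg, -⟩ := core hCM iY iZ a b hY hZ hcodim
      ((pullback.fst iY iZ ≫ iY).base w) ((pullback.fst iY iZ).base w) ((pullback.snd iY iZ).base w) rfl
      (by rw [← Scheme.Hom.comp_apply, ← pullback.condition])
    haveI : IsNoetherianRing Γ(X, V.1) := IsLocallyNoetherian.component_noetherian V
    set rs := rY ++ rZ with hrs
    letI := (X.presheaf.germ V.1 _ hx).hom.toAlgebra
    haveI := V.2.isLocalization_stalk ⟨_, hx⟩
    let P := V.2.primeIdealOf ⟨_, hx⟩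
    obtain ⟨g, hg, hw⟩ := KoszulLib.exists_wReg_away_of_localization P.asIdeal rs.get
      (X.presheaf.stalk ((pullback.fst iY iZ ≫ iY).base w))
      (by rw [← List.map_ofFn, List.ofFn_get]; exact hreg)
    have hP : Ideal.ofList rs ≤ P.asIdeal := hk ▸ KoszulLib.ker_le_primeIdealOf _ V inferInstance w hx
    have hxg : (pullback.fst iY iZ ≫ iY).base w ∈ X.basicOpen g := by
      rw [show (pullback.fst iY iZ ≫ iY).base w = V.2.fromSpec P from (V.2.fromSpec_primeIdealOf ⟨_, hx⟩).symm]
      show P ∈ V.2.fromSpec ⁻¹ᵁ X.basicOpen g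
      rw [V.2.fromSpec_preimage_basicOpen]
      exact hg
    let W : X.affineOpens := X.affineBasicOpen (U := V) g
    obtain ⟨hc, hkW⟩ := KoszulLib.ker_app_of_le (pullback.fst iY iZ ≫ iY) V inferInstance W (X.basicOpen_le g)
    letI : Algebra Γ(X, V.1) Γ(X, W.1) := (X.presheaf.map (homOfLE (X.basicOpen_le g)).op).hom.toAlgebra
    haveI : IsLocalization.Away g Γ(X, W.1) := V.2.isLocalization_basicOpen g
    refine ⟨W, hxg, hc, rs.map (algebraMap Γ(X, V.1) Γ(X, W.1)), ?_, ⟨?_, fun htop => ?_⟩, ?_⟩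
    · rw [List.length_map, hrs, List.length_append, hlY, hlZ]
    · have h1 := hw Γ(X, W.1)
      rw [← List.map_ofFn, List.ofFn_get] at h1
      exact h1
    · have h2 : Ideal.ofList (rs.map (algebraMap Γ(X, V.1) Γ(X, W.1))) = ⊤ := by
        simp only [smul_eq_mul, Ideal.mul_top] at htop
        exact htop.symm
      rw [← Ideal.map_ofList] at h2
      have h3 : (Ideal.ofList rs).map (algebraMap Γ(X, V.1) Γ(X, W.1)) ≤
          P.asIdeal.map (algebraMap Γ(X, V.1) Γ(X, W.1)) := Ideal.map_mono hP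
      rw [h2, top_le_iff] at h3
      have hdisj : Disjoint (Submonoid.powers g : Set Γ(X, V.1)) P.asIdeal := by
        rw [Set.disjoint_left]
        rintro _ ⟨k, rfl⟩ hm
        exact hg (P.isPrime.mem_of_pow_mem k hm)
      exact (IsLocalization.isPrime_of_isPrime_disjoint (Submonoid.powers g) _ P.asIdeal P.isPrime hdisj).ne_top h3
    · rw [hkW, hk, Ideal.map_ofList]
      rfl
  · letI := (iY.app U).hom.toAlgebra
    letI := (iZ.app U).hom.toAlgebra
    have sY : Function.Surjective (iY.app U).hom := KoszulLib.app_surjective iY (U := ⟨U, hU⟩) inferInstance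
    have sZ : Function.Surjective (iZ.app U).hom := KoszulLib.app_surjective iZ (U := ⟨U, hU⟩) inferInstance
    refine subsingleton_tor_congr (A := Γ(X, U))
      (Ideal.quotientKerAlgEquivOfSurjective (f := Algebra.ofId Γ(X, U) Γ(Y, iY ⁻¹ᵁ U)) sY).toLinearEquiv.symm
      (Ideal.quotientKerAlgEquivOfSurjective (f := Algebra.ofId Γ(X, U) Γ(Z, iZ ⁻¹ᵁ U)) sZ).toLinearEquiv.symm
      (tor_quot (RingHom.ker (iY.app U).hom) (RingHom.ker (iZ.app U).hom) i hi fun P _ hP hIP hJP => ?_)
    obtain ⟨y, hy, ey⟩ := KoszulLib.exists_point_of_ker_le iY ⟨U, hU⟩ inferInstance ⟨P, hP.isPrime⟩ hIP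
    obtain ⟨z, hz, ez⟩ := KoszulLib.exists_point_of_ker_le iZ ⟨U, hU⟩ inferInstance ⟨P, hP.isPrime⟩ hJP
    have hyz : iZ z = iY y := by
      have e1 := hU.fromSpec_primeIdealOf ⟨iY y, hy⟩
      have e2 := hU.fromSpec_primeIdealOf ⟨iZ z, hz⟩
      rw [ey] at e1
      rw [ez] at e2
      exact e2.symm.trans e1
    obtain ⟨V, hx, rY, rZ, -, -, hkY, hkZ, -, h1, h2⟩ := core hCM iY iZ a b hY hZ hcodim (iY y) y z rfl hyz
    letI := (X.presheaf.germ U (iY y) hy).hom.toAlgebra
    have hloc : IsLocalization.AtPrime (X.presheaf.stalk (iY y)) P := by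
      have h := hU.isLocalization_stalk ⟨iY y, hy⟩
      rw [ey] at h
      exact h
    refine ⟨X.presheaf.stalk (iY y), inferInstance, inferInstance, hloc,
      rY.map (X.presheaf.germ V.1 (iY y) hx).hom, rZ.map (X.presheaf.germ V.1 (iY y) hx).hom, ?_, ?_, ?_, h2⟩
    · rw [← Ideal.map_ofList, ← hkY]
      exact (map_germ_ker_eq iY ⟨U, hU⟩ V (iY y) hy hx).symm
    · rw [← Ideal.map_ofList, ← hkZ]
      exact (map_germ_ker_eq iZ ⟨U, hU⟩ V (iY y) hy hx).symm
    · rw [← List.map_append]
      exact h1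

end Groth.Agent.S15825
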