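import Groth.Statements.S15827
import Groth.Agent.SGA6Ext.Lambda
import Groth.Agent.TMul.Power
import Groth.Agent.ZeroSch.Basic
-- import your own Groth.Agent.* helpers here

set_option autoImplicit false
set_option linter.style.haveILetI false
set_option backward.isDefEq.respectTransparency false
set_option backward.isDefEq.respectTransparency.types false
universe u
open CategoryTheory AlgebraicGeometry
open ExtPow

namespace Groth.Agent.S15827

open CategoryTheory.Limits TopologicalSpace Opposite
open Groth.Agent.QC (res resO res_res res_self res_smul app_res resO_resO)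
open Groth.Agent.SGA6Ext
open TMul (tm IsGen pw)

variable {X : Scheme.{u}}

lemma map_smul_hom {R : Type u} [CommRing R] {P Q : Type u} [AddCommGroup P] [Module R P] [AddCommGroup Q]
    [Module R Q] (k : ℕ) (c : R) (f : P →ₗ[R] Q) :
    exteriorPower.map k (c • f) = c ^ k • exteriorPower.map k f := by
  refine exteriorPower.linearMap_ext (AlternatingMap.ext fun e => ?_)
  simp only [LinearMap.compAlternatingMap_apply, exteriorPower.map_apply_ιMulti, LinearMap.smul_apply]
  change (exteriorPower.ιMulti R k).toMultilinearMap (fun j => c • f (e j)) = _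
  rw [MultilinearMap.map_smul_univ, Finset.prod_const, Finset.card_univ, Fintype.card_fin]
  rfl

variable (E L : X.Modules)

/-- tensoring with a section -/
noncomputable def tl {V : X.Opens} (l : Γ(L, V)) : Sec E V →ₗ[Γ(X, V)] Sec (CohB1.tensorMod E L) V where
  toFun m := (tm (M := E) (N := L) m l : Γ(CohB1.tensorMod E L, V))
  map_add' a b := TMul.tm_add (M := E) (N := L) a b l
  map_smul' r a := TMul.smul_tm (M := E) (N := L) r a l

variable {E L}

lemma bijective_tl {V : X.Opens} {l : Γ(L, V)} (hl : IsGen l) : Function.Bijective (tl E L l) := by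
  have := TMul.tm_bijective (M := E) hl V le_rfl
  rw [res_self] at this
  exact this

/-- the affine opens on which `L` is free -/
def Good (L : X.Modules) (V : X.Opens) : Prop := IsAffineOpen V ∧ ∃ l : Γ(L, V), IsGen l

lemma isBase_good (hL : PicF.IsInvertible L) : IsBase (Good L) := fun U x hx => by
  obtain ⟨U₁, l, hx₁, hl⟩ := TMul.exists_isGen hL x
  obtain ⟨V, hV, hxV, hle⟩ := exists_isAffineOpen_mem_and_subset (X := X) (x := x) (U := U ⊓ U₁) ⟨hx, hx₁⟩
  have hle' : V ≤ U ⊓ U₁ := hle
  exact ⟨V, ⟨hV, _, hl.res (hle'.trans inf_le_right)⟩, hxV, hle'.trans inf_le_left⟩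

variable {M N : X.Modules} {k : ℕ}

/-- the local comparison map -/
noncomputable def th (φM : Phi k (CohB1.tensorMod E L) M) (φN : Phi k E N) {V : X.Opens} (hV : IsAffineOpen V)
    (l : Γ(L, V)) : Sec N V →ₗ[Γ(X, V)] Sec M V :=
  (φM ⟨V, hV⟩).symm.toLinearMap ∘ₗ exteriorPower.map k (tl E L l) ∘ₗ (φN ⟨V, hV⟩).toLinearMap

lemma bijective_th (φM : Phi k (CohB1.tensorMod E L) M) (φN : Phi k E N) {V : X.Opens} (hV : IsAffineOpen V)
    {l : Γ(L, V)} (hl : IsGen l) : Function.Bijective (th φM φN hV l) := by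
  let e := LinearEquiv.ofBijective (tl E L l) (bijective_tl hl)
  have hm : Function.Bijective (exteriorPower.map k (tl E L l)) := by
    refine Function.bijective_iff_has_inverse.2
      ⟨exteriorPower.map k e.symm.toLinearMap, fun z => ?_, fun z => ?_⟩
    · change exteriorPower.map k e.symm.toLinearMap (exteriorPower.map k e.toLinearMap z) = z
      rw [← LinearMap.comp_apply, ← exteriorPower.map_comp, LinearEquiv.comp_coe, e.self_trans_symm]
      exact LinearMap.congr_fun exteriorPower.map_id z
    · change exteriorPower.map k e.toLinearMap (exteriorPower.map k e.symm.toLinearMap z) = z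
      rw [← LinearMap.comp_apply, ← exteriorPower.map_comp, LinearEquiv.comp_coe, e.symm_trans_self]
      exact LinearMap.congr_fun exteriorPower.map_id z
  exact (φM ⟨V, hV⟩).symm.bijective.comp (hm.comp (φN ⟨V, hV⟩).bijective)

lemma th_res {φM : Phi k (CohB1.tensorMod E L) M} (hM : PhiCompat φM) {φN : Phi k E N} (hN : PhiCompat φN)
    {W V : X.Opens} (hW : IsAffineOpen W) (hV : IsAffineOpen V) (h : W ≤ V) (l : Γ(L, V)) (m : Γ(N, V)) :
    res M h (th φM φN hV l m : Γ(M, V)) = (th φM φN hW (res L h l) (res N h m) : Γ(M, W)) := by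
  have h1 := phi_res hM ⟨V, hV⟩ ⟨W, hW⟩ h (th φM φN hV l m)
  change secRes M h (th φM φN hV l m) = (φM ⟨W, hW⟩).symm
    (exteriorPower.map k (tl E L (res L h l)) (φN ⟨W, hW⟩ (secRes N h m)))
  rw [LinearEquiv.eq_symm_apply, phi_res hM ⟨V, hV⟩ ⟨W, hW⟩ h, phi_res hN ⟨V, hV⟩ ⟨W, hW⟩ h]
  change extS (resO X h) (secRes (CohB1.tensorMod E L) h) (secRes_smul _ h) k
    ((φM ⟨V, hV⟩) ((φM ⟨V, hV⟩).symm (exteriorPower.map k (tl E L l) (φN ⟨V, hV⟩ m)))) = _
  rw [LinearEquiv.apply_symm_apply]
  exact extS_map _ _ _ _ _ _ (fun a => TMul.res_tm (M := E) (N := L) h a l) k _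

lemma th_smul (φM : Phi k (CohB1.tensorMod E L) M) (φN : Phi k E N) {V : X.Opens} (hV : IsAffineOpen V)
    (c : Γ(X, V)) (l : Γ(L, V)) (m : Sec N V) :
    th φM φN hV (c • l) m = c ^ k • th φM φN hV l m := by
  have : tl E L (c • l) = c • tl E L l := LinearMap.ext fun a => TMul.tm_smul (M := E) (N := L) c a l
  change (φM ⟨V, hV⟩).symm (exteriorPower.map k (tl E L (c • l)) (φN ⟨V, hV⟩ m)) = _
  rw [this, map_smul_hom, LinearMap.smul_apply, map_smul]
  rfl

theorem nonempty_iso (hL : PicF.IsInvertible L) (hM : ExtPow.IsExtPow k (CohB1.tensorMod E L) M)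
    (hN : ExtPow.IsExtPow k E N) : Nonempty (M ≅ CohB1.tensorMod N (CohB1.tensorPow L k)) := by
  classical
  obtain ⟨φM, hφM⟩ := hM
  obtain ⟨φN, hφN⟩ := hN
  have hG := isBase_good hL
  let g : ∀ V : X.Opens, Good L V → Γ(L, V) := fun V hV => hV.2.choose
  have hg : ∀ V hV, IsGen (g V hV) := fun V hV => hV.2.choose_spec
  let co : ∀ V hV, Γ(X, V) ≃ₗ[Γ(X, V)] Γ(CohB1.tensorPow L k, V) := fun V hV =>
    TMul.coeffEquiv (TMul.isGen_pw (hg V hV) k) (le_refl V)
  have hco : ∀ V hV c, co V hV c = c • pw (g V hV) k := fun V hV c => by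
    change c • res (CohB1.tensorPow L k) (le_refl V) (pw (g V hV) k) = _
    rw [res_self]
  let B : ∀ V : X.Opens, Good L V →
      Γ(N, V) →ₗ[Γ(X, V)] Γ(CohB1.tensorPow L k, V) →ₗ[Γ(X, V)] Γ(M, V) := fun V hV =>
    LinearMap.mk₂ _ (fun m s => (co V hV).symm s • (th φM φN hV.1 (g V hV) m : Γ(M, V)))
      (fun a b s => by
        rw [← smul_add]
        exact congrArg ((co V hV).symm s • ·) (map_add (th φM φN hV.1 (g V hV)) a b))
      (fun r a s => by
        rw [smul_comm r]
        exact congrArg ((co V hV).symm s • ·) (map_smul (th φM φN hV.1 (g V hV)) r a))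
      (fun a s t => by rw [map_add, add_smul])
      (fun r a s => by rw [map_smul, smul_eq_mul, mul_smul])
  obtain ⟨ψ, hψ⟩ := exists_bilHom (M := N) (N := CohB1.tensorPow L k) (P := M) hG B
    (fun W V hW hV h m s => by
      obtain ⟨c, rfl⟩ := (co V hV).surjective s
      obtain ⟨v, hv⟩ := (hg W hW W le_rfl).2 (res L h (g V hV))
      rw [res_self] at hv
      change res M h ((co V hV).symm (co V hV c) • (th φM φN hV.1 (g V hV) m : Γ(M, V))) =
        (co W hW).symm (res (CohB1.tensorPow L k) h (co V hV c)) • (th φM φN hW.1 (g W hW) (res N h m) : Γ(M, W))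
      rw [LinearEquiv.symm_apply_apply, res_smul, th_res hφM hφN hW.1 hV.1 h, hco V hV,
        res_smul (CohB1.tensorPow L k) h, TMul.res_pw, ← hv, TMul.pw_smul, smul_smul, ← hco W hW,
        LinearEquiv.symm_apply_apply, th_smul, mul_smul])
  have hb : ∀ V, Good L V → Function.Bijective (ψ.app V) := fun V hV => by
    have h1 : Function.Bijective fun m : Γ(N, V) =>
        (tm m (pw (g V hV) k) : Γ(CohB1.tensorMod N (CohB1.tensorPow L k), V)) := by
      have := TMul.tm_bijective (M := N) (TMul.isGen_pw (hg V hV) k) V le_rfl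
      rwa [res_self] at this
    refine (Function.Bijective.of_comp_iff _ h1).1 ?_
    rw [show (ψ.app V) ∘ (fun m : Γ(N, V) => tm m (pw (g V hV) k)) =
      fun m => (th φM φN hV.1 (g V hV) m : Γ(M, V)) from funext fun m => by
        rw [Function.comp_apply, hψ V hV]
        change (co V hV).symm (pw (g V hV) k) • (th φM φN hV.1 (g V hV) m : Γ(M, V)) = _
        rw [show pw (g V hV) k = co V hV 1 from by rw [hco V hV, one_smul], LinearEquiv.symm_apply_apply, one_smul]]
    exact bijective_th φM φN hV.1 (hg V hV)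
  haveI := mono_of_base hG ψ fun V hV => (hb V hV).1
  haveI := epi_of_base hG ψ fun V hV => (hb V hV).2
  haveI : IsIso ψ := isIso_of_mono_of_epi ψ
  exact ⟨(asIso ψ).symm⟩

/-- Let X be a scheme, E a finite locally free O_X-module and L a finite locally free O_X-module of rank
1 (an invertible module), and k a natural number. If M is a k-th exterior power of E ⊗ L and N is a
k-th exterior power of E (affine-local characterisation of exterior powers), then M is isomorphic to
N ⊗ L^{⊗k} as an O_X-module (existence of an isomorphism; the published isomorphism is induced by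
(e_1 ⊗ l_1) ∧ ⋯ ∧ (e_k ⊗ l_k) ↦ (e_1 ∧ ⋯ ∧ e_k) ⊗ l_1 ⋯ l_k). -/
theorem result {X : Scheme.{u}} (E L : X.Modules)
    (hE : FlatMod.IsFinLocFree E) (hL : FlatMod.IsFinLocFreeOfRank 1 L) (k : ℕ) (M N : X.Modules)
    (hM : ExtPow.IsExtPow k (CohB1.tensorMod E L) M) (hN : ExtPow.IsExtPow k E N) :
    Nonempty (M ≅ CohB1.tensorMod N (CohB1.tensorPow L k)) := by
  exact nonempty_iso (ZeroSch.isInvertible_of_rankOne hL) hM hN

end Groth.Agent.S15827
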