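import Groth.Statements.S15828
import Mathlib
import Groth.Agent.MapBifunctorCone.Basic

set_option autoImplicit false
universe u
open CategoryTheory CategoryTheory.Limits MonoidalCategory
open Koszul

namespace Groth.Agent.S15828

noncomputable def coneIso {A : Type u} [CommRing A] {P Q : CochainComplex (ModuleCat.{u} A) ℤ} (φ : P ⟶ P) (ψ : Q ⟶ Q)
    (e : P ≅ Q) (comm : φ ≫ e.hom = e.hom ≫ ψ) : CochainComplex.mappingCone φ ≅ CochainComplex.mappingCone ψ where
  hom := CochainComplex.mappingCone.map φ ψ e.hom e.hom comm
  inv := CochainComplex.mappingCone.map ψ φ e.inv e.inv (by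
    rw [← cancel_epi e.hom, ← reassoc_of% comm, e.hom_inv_id, Category.comp_id, e.hom_inv_id_assoc])
  hom_inv_id := by
    rw [← CochainComplex.mappingCone.map_comp]
    simp [CochainComplex.mappingCone.map_id]
  inv_hom_id := by
    rw [← CochainComplex.mappingCone.map_comp]
    simp [CochainComplex.mappingCone.map_id]

/-- Let A be a commutative ring and f = (f_1, …, f_r), g = (g_1, …, g_s) finite sequences of elements of
A (Koszul complexes of free modules of finite rank with chosen bases). Then the tensor product of
cochain complexes K(f) ⊗ K(g) is isomorphic to the Koszul complex K(f_1, …, f_r, g_1, …, g_s) of the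
concatenated sequence (existence of an isomorphism of cochain complexes of A-modules; the Koszul
complexes are the iterated mapping-cone model and ⊗ is the tensor product of complexes). The second
assertion of the published statement, K(f, g) ≅ Cone(g : K(f) → K(f)) for a single element g, is the
defining recursion of the mapping-cone model and is not restated. -/
theorem result (A : Type u) [CommRing A] (f g : List A) :
    Nonempty ((MonoidalCategoryStruct.tensorObj (C := DRing.Cx A) (Koszul.koszul A f) (Koszul.koszul A g)) ≅
      Koszul.koszul A (f ++ g)) := by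
  induction f with
  | nil => exact ⟨λ_ (Koszul.koszul A g)⟩
  | cons a l ih =>
    obtain ⟨e⟩ := ih
    let K := Koszul.koszul A l
    let L := Koszul.koszul A g
    have hr : Groth.Agent.MapBifunctorCone.rightMap (a • 𝟙 K) L (curriedTensor (ModuleCat.{u} A)) =
        a • 𝟙 (CochainComplex.mapBifunctor K L (curriedTensor (ModuleCat.{u} A))) := by
      refine HomologicalComplex.hom_ext _ _ fun n => HomologicalComplex.mapBifunctor.hom_ext (fun i j h => ?_)
      simp [Groth.Agent.MapBifunctorCone.rightMap]
    have comm : (a • 𝟙 (CochainComplex.mapBifunctor K L (curriedTensor (ModuleCat.{u} A)))) ≫ e.hom =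
        e.hom ≫ (a • 𝟙 (Koszul.koszul A (l ++ g))) := by
      rw [Linear.smul_comp, Linear.comp_smul, Category.id_comp, Category.comp_id]
    exact ⟨(Groth.Agent.MapBifunctorCone.iso (a • 𝟙 K) L (curriedTensor (ModuleCat.{u} A))).symm ≪≫
      eqToIso (congrArg (fun φ => CochainComplex.mappingCone φ) hr) ≪≫ coneIso _ _ e comm⟩

end Groth.Agent.S15828
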