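import Groth.Statements.S16674
import Mathlib
import Groth.Agent.FinHopf.Power
import Groth.Agent.FinHopf.Aug
import Groth.Agent.Comod.Cosemisimple

set_option autoImplicit false
universe u
open CartDual
open scoped TensorProduct

namespace Groth.Agent.S16674

/-- Let k be a field of characteristic p > 0 and A a finite-dimensional commutative and cocommutative
Hopf algebra over k, the coordinate ring of a finite commutative k-group scheme G, with Cartier dual
the convolution Hopf algebra Hom_k(A, k). Then G is étale-étale, i.e. both A and its dual are étale
k-algebras, if and only if p does not divide the rank dim_k A of G. -/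
theorem result (k : Type u) [Field k] (p : ℕ) [Fact p.Prime] [CharP k p]
    (A : Type u) [CommRing A] [HopfAlgebra k A] [Coalgebra.IsCocomm k A] [FiniteDimensional k A] :
    (Algebra.Etale k A ∧ Algebra.Etale k (CartDual.D k A)) ↔ ¬ p ∣ Module.finrank k A := by
  have hfin : Module.finrank k (CartDual.D k A) = Module.finrank k A :=
    (CartDual.toDual k A).finrank_eq.trans Subspace.dual_finrank_eq
  constructor
  · rintro ⟨hA, hD⟩ hp
    haveI := hA
    haveI := hD
    haveI : IsNoetherianRing A := IsNoetherianRing.of_finite k A
    obtain ⟨f, hf, hK⟩ := (Ideal.isIdempotentElem_iff_of_fg _ (IsNoetherian.noetherian _)).1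
      (show IsIdempotentElem (RingHom.ker (Bialgebra.counitAlgHom k A)) by
        rw [IsIdempotentElem, ← pow_two]; exact FinHopf.aug_sq_eq_of_formallyUnramified k A)
    let l : CartDual.D k A := WithConv.toConv (Algebra.trace k A)
    have hεf : Bialgebra.counitAlgHom k A f = 0 := by
      rw [← RingHom.mem_ker, hK]; exact Ideal.mem_span_singleton_self f
    have hl1 : l (1 - f) = 1 := by
      show Algebra.trace k A (1 - f) = 1
      rw [Algebra.trace_apply, show Algebra.lmul k A (1 - f) =
        (Coalgebra.counit (R := k) (A := A)).smulRight (1 - f) from LinearMap.ext fun a => ?_,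
        LinearMap.trace_smulRight, ← Bialgebra.counitAlgHom_apply, map_sub, map_one, hεf, sub_zero]
      show (1 - f) * a = Coalgebra.counit (R := k) a • (1 - f)
      have : a - algebraMap k A (Coalgebra.counit a) ∈ RingHom.ker (Bialgebra.counitAlgHom k A) := by
        simp [RingHom.mem_ker, Bialgebra.counit_algebraMap]
      rw [hK, Ideal.mem_span_singleton'] at this
      obtain ⟨c, hc⟩ := this
      rw [Algebra.smul_def]
      linear_combination (-(1 - f)) * hc + c * (-hf.eq)
    have hll : l * l = 0 := by
      apply WithConv.ext
      refine LinearMap.ext fun a => ?_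
      rw [LinearMap.convMul_apply]
      have key : ∀ z : A ⊗[k] A, LinearMap.mul' k k (TensorProduct.map l.ofConv l.ofConv z) =
          Algebra.trace k A (TensorProduct.rid k A ((Algebra.trace k A).lTensor A z)) := by
        intro z
        induction z using TensorProduct.induction_on with
        | zero => simp
        | add x y hx hy => simp only [map_add, hx, hy]
        | tmul x y => simp [l, mul_comm]
      rw [key, Comod.trace_integral, Algebra.trace_algebraMap, nsmul_eq_mul,
        (CharP.cast_eq_zero_iff k p _).2 hp, zero_mul]
      rfl
    haveI : Module.Finite k (CartDual.D k A) := inferInstance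
    haveI : IsReduced (CartDual.D k A) := Algebra.FormallyUnramified.isReduced_of_field k (CartDual.D k A)
    have : l = 0 := IsNilpotent.eq_zero ⟨2, by rw [pow_two]; exact hll⟩
    rw [this] at hl1
    exact zero_ne_one hl1
  · intro hp
    have hA : (Module.finrank k A : k) ≠ 0 := fun h => hp ((CharP.cast_eq_zero_iff k p _).1 h)
    exact ⟨FinHopf.etale_of_finrank_ne_zero (k := k) (A := A) (h := hA), FinHopf.etale_of_finrank_ne_zero (k := k) (A := CartDual.D k A) (h := by rw [hfin]; exact hA)⟩

end Groth.Agent.S16674
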