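import Groth.Statements.S15832
import Mathlib.Tactic.Group
-- import your own Groth.Agent.* helpers here

set_option autoImplicit false
universe u
open TopGrp

namespace Groth.Agent.S15832

/-- For a group T with a topology, let B be the family of two-sided translates x Γ y, where Γ runs over
the subgroups of T open in the given topology and x, y over T; the topology generated by B makes T a
topological group in which every neighbourhood of the identity contains a subgroup open for that
topology. (The published statement is for the free topological product of two Noohi groups whose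
open subgroups form a basis of neighbourhoods of the identity; the argument uses only the group
structure and the chosen family of subgroups, so the row is stated for an arbitrary group with a
topology. The published conventions include Hausdorffness in the word topological group; this row
does not assert it, and the published argument does not prove it.) -/
theorem result (T : Type u) [Group T]
    [TopologicalSpace T] :
    @NonarchimedeanGroup T _ (TopologicalSpace.generateFrom
      {S : Set T | ∃ (Γ : OpenSubgroup T) (x y : T), S = (fun g : T => x * g * y) '' (Γ : Set T)}) := by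
  set G : Set (Set T) :=
    {S : Set T | ∃ (Γ : OpenSubgroup T) (x y : T), S = (fun g : T => x * g * y) '' (Γ : Set T)}
    with hG
  letI t : TopologicalSpace T := TopologicalSpace.generateFrom G
  have sub : ∀ S ∈ G, @IsOpen T t S := fun S hS => TopologicalSpace.GenerateOpen.basic S hS
  have key : ∀ S ∈ G, ∀ c ∈ S, ∀ a b : T, a * b = c →
      ∃ U V : Set T, @IsOpen T t U ∧ @IsOpen T t V ∧ a ∈ U ∧ b ∈ V ∧
        ∀ u ∈ U, ∀ v ∈ V, u * v ∈ S := by
    rintro S ⟨Γ, x, y, rfl⟩ c ⟨γ, hγ, rfl⟩ a b hab
    refine ⟨(fun g => x * g * (x⁻¹ * a)) '' (Γ : Set T),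
      (fun g => (a⁻¹ * x) * g * (x⁻¹ * a * b)) '' (Γ : Set T),
      sub _ ⟨Γ, _, _, rfl⟩, sub _ ⟨Γ, _, _, rfl⟩,
      ⟨1, one_mem Γ, by group⟩, ⟨1, one_mem Γ, by group⟩, ?_⟩
    rintro _ ⟨g, hg, rfl⟩ _ ⟨g', hg', rfl⟩
    refine ⟨g * g' * γ, mul_mem (mul_mem hg hg') hγ, ?_⟩
    simp only at hab ⊢
    have : b = a⁻¹ * (x * γ * y) := by rw [← hab]; group
    rw [this]; group
  haveI : @IsTopologicalGroup T t _ :=
    { continuous_mul := by
        refine continuous_generateFrom_iff.2 fun S hS => ?_
        refine isOpen_iff_forall_mem_open.2 fun p hp => ?_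
        obtain ⟨U, V, hU, hV, ha, hb, hUV⟩ := key S hS _ hp p.1 p.2 rfl
        exact ⟨U ×ˢ V, fun q hq => hUV q.1 hq.1 q.2 hq.2, hU.prod hV, ⟨ha, hb⟩⟩
      continuous_inv := by
        refine continuous_generateFrom_iff.2 fun S hS => ?_
        obtain ⟨Γ, x, y, rfl⟩ := hS
        refine sub _ ⟨Γ, y⁻¹, x⁻¹, ?_⟩
        ext z
        constructor
        · rintro ⟨g, hg, hgz⟩
          simp only at hgz
          refine ⟨g⁻¹, inv_mem hg, ?_⟩
          have : z = (x * g * y)⁻¹ := by rw [hgz, inv_inv]
          rw [this]; group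
        · rintro ⟨g, hg, rfl⟩
          refine ⟨g⁻¹, inv_mem hg, ?_⟩
          simp only
          group }
  refine @NonarchimedeanGroup.mk T _ t _ fun U hU => ?_
  obtain ⟨W, hWU, hW, h1⟩ := mem_nhds_iff.1 hU
  suffices h : ∀ W : Set T, TopologicalSpace.GenerateOpen G W → (1 : T) ∈ W →
      ∃ H : @OpenSubgroup T _ t, (H : Set T) ⊆ W by
    obtain ⟨H, hH⟩ := h W hW h1
    exact ⟨H, hH.trans hWU⟩
  intro W hW
  induction hW with
  | basic S hS =>
    obtain ⟨Γ, x, y, rfl⟩ := hS
    rintro ⟨γ, hγ, hγ1⟩
    simp only at hγ1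
    let φ : T →* T := (MulAut.conj x).toMonoidHom
    refine ⟨⟨(Γ : Subgroup T).map φ, ?_⟩, ?_⟩
    · refine sub _ ⟨Γ, x, x⁻¹, ?_⟩
      rfl
    · rintro _ ⟨g, hg, rfl⟩
      refine ⟨g * γ, mul_mem hg hγ, ?_⟩
      simp only [φ, MulEquiv.coe_toMonoidHom, MulAut.conj_apply]
      have : x⁻¹ = γ * y := by
        calc x⁻¹ = x⁻¹ * (x * γ * y) := by rw [hγ1, mul_one]
          _ = γ * y := by group
      rw [this]; group
  | univ => exact fun _ => ⟨⊤, Set.subset_univ _⟩
  | inter A B hA hB ihA ihB =>
    intro h
    obtain ⟨H, hH⟩ := ihA h.1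
    obtain ⟨K, hK⟩ := ihB h.2
    exact ⟨H ⊓ K, fun z hz => ⟨hH hz.1, hK hz.2⟩⟩
  | sUnion A hA ih =>
    rintro ⟨B, hB, hB1⟩
    obtain ⟨H, hH⟩ := ih B hB hB1
    exact ⟨H, hH.trans (Set.subset_sUnion_of_mem hB)⟩

end Groth.Agent.S15832
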