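import Groth.Statements.S15833
import Mathlib

set_option autoImplicit false
universe u
open EtBase

namespace Groth.Agent.S15833

open CategoryTheory CategoryTheory.Limits AlgebraicGeometry in
/-- Let i : X₀ ⟶ X be a surjective closed immersion of schemes and f : Y ⟶ X a morphism. Then f
satisfies the valuative criterion (existence and uniqueness of a lift in every valuative square,
over arbitrary valuation rings) if and only if its base change Y ×_X X₀ ⟶ X₀ does. (The published
statement takes X locally Noetherian and connected, X₀ the reduced closed subscheme with the same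
underlying space and f étale, and combines this step with the equivalence between étale schemes over
X and over X₀ to identify the geometric coverings, i.e. the étale morphisms satisfying the valuative
criterion, of X and of X₀; the argument for this step uses only that X₀ ⟶ X is a surjective closed
immersion and that valuation rings are reduced.) -/
theorem result {X X₀ Y : Scheme.{u}} (i : X₀ ⟶ X)
    [IsClosedImmersion i] [Surjective i] (f : Y ⟶ X) :
    ValuativeCriterion f ↔ ValuativeCriterion (pullback.snd f i) := by
  constructor
  · exact fun h => by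
      rw [ValuativeCriterion.iff] at h ⊢
      refine ⟨?_, ?_⟩
      · intro S
        have hc : CommSq (S.i₁ ≫ pullback.fst f i) (Spec.map (CommRingCat.ofHom (algebraMap S.R S.K))) f (S.i₂ ≫ i) := ⟨by
          rw [Category.assoc, pullback.condition, ← Category.assoc, S.commSq.w, Category.assoc]⟩
        obtain ⟨⟨l⟩⟩ := h.1 ⟨S.R, S.K, _, _, hc⟩
        refine ⟨⟨⟨pullback.lift l.l S.i₂ l.fac_right, ?_, pullback.lift_snd _ _ _⟩⟩⟩
        apply pullback.hom_ext
        · exact (Category.assoc _ _ _).trans ((congrArg (_ ≫ ·) (pullback.lift_fst _ _ _)).trans l.fac_left)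
        · exact (Category.assoc _ _ _).trans ((congrArg (_ ≫ ·) (pullback.lift_snd _ _ _)).trans S.commSq.w.symm)
      · intro S
        have hc : CommSq (S.i₁ ≫ pullback.fst f i) (Spec.map (CommRingCat.ofHom (algebraMap S.R S.K))) f (S.i₂ ≫ i) := ⟨by
          rw [Category.assoc, pullback.condition, ← Category.assoc, S.commSq.w, Category.assoc]⟩
        have := h.2 ⟨S.R, S.K, _, _, hc⟩
        refine ⟨fun a b => ?_⟩
        have h1 := Subsingleton.elim
          (⟨a.l ≫ pullback.fst f i, by rw [← Category.assoc, a.fac_left], by
            rw [Category.assoc, pullback.condition, ← Category.assoc, a.fac_right]⟩ : hc.LiftStruct)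
          ⟨b.l ≫ pullback.fst f i, by rw [← Category.assoc, b.fac_left], by
            rw [Category.assoc, pullback.condition, ← Category.assoc, b.fac_right]⟩
        ext1
        exact pullback.hom_ext (congrArg CommSq.LiftStruct.l h1) (a.fac_right.trans b.fac_right.symm)
  · intro h S
    have : IsIso (pullback.snd i S.i₂) := isIso_of_isClosedImmersion_of_surjective _
    let t : Spec (.of S.R) ⟶ X₀ := inv (pullback.snd i S.i₂) ≫ pullback.fst i S.i₂
    have ht : t ≫ i = S.i₂ := by
      simp only [t, Category.assoc]
      rw [pullback.condition, IsIso.inv_hom_id_assoc]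
    have hw : S.i₁ ≫ f = (Spec.map (CommRingCat.ofHom (algebraMap S.R S.K)) ≫ t) ≫ i := by
      rw [Category.assoc, ht, S.commSq.w]
    let S' : ValuativeCommSq (pullback.snd f i) := ⟨S.R, S.K, pullback.lift S.i₁ _ hw, t,
      ⟨pullback.lift_snd _ _ _⟩⟩
    obtain ⟨⟨⟨l⟩, hl⟩⟩ := h S'
    refine ⟨⟨⟨⟨l.l ≫ pullback.fst f i, ?_, ?_⟩⟩, fun a => ?_⟩⟩
    · rw [← Category.assoc, l.fac_left]; exact pullback.lift_fst _ _ _
    · rw [Category.assoc, pullback.condition, ← Category.assoc, l.fac_right]; exact ht
    · have ha : a.l ≫ f = t ≫ i := a.fac_right.trans ht.symm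
      have key := hl ⟨pullback.lift a.l t ha, by
        apply pullback.hom_ext
        · exact (Category.assoc _ _ _).trans ((congrArg (_ ≫ ·) (pullback.lift_fst _ _ _)).trans
            (a.fac_left.trans (pullback.lift_fst _ _ _).symm))
        · exact (Category.assoc _ _ _).trans ((congrArg (_ ≫ ·) (pullback.lift_snd _ _ _)).trans
            (pullback.lift_snd _ _ _).symm), pullback.lift_snd _ _ _⟩
      apply CommSq.LiftStruct.ext
      show a.l = l.l ≫ pullback.fst f i
      exact (pullback.lift_fst _ _ _).symm.trans (congrArg (· ≫ pullback.fst f i) (congrArg CommSq.LiftStruct.l key))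

end Groth.Agent.S15833
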