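import Groth.Statements.S15837
import Groth.Agent.ClosedRep.LFP
import Groth.Agent.ClosedRep.FinLocFree
import Groth.Agent.LimDesc.FPCancel

set_option autoImplicit false
set_option backward.isDefEq.respectTransparency false
set_option backward.isDefEq.respectTransparency.types false
set_option linter.style.haveILetI false
set_option maxHeartbeats 800000
universe u
open CategoryTheory MonoidalCategory CartesianMonoidalCategory MonObj GrpObj AlgebraicGeometry
open SprIso

namespace Groth.Agent.S15837

theorem diag_facts {S : Scheme.{u}} (X : Over S) [IsAffineHom X.hom] [LocallyOfFinitePresentation X.hom] :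
    IsClosedImmersion (lift (𝟙 X) (𝟙 X)).left ∧ LocallyOfFinitePresentation (lift (𝟙 X) (𝟙 X)).left ∧
      ∀ (T : Over S) (x y : T ⟶ X), (∃ b : T ⟶ X, lift x y = b ≫ lift (𝟙 X) (𝟙 X)) ↔ x = y := by
  have h : (lift (𝟙 X) (𝟙 X)).left = Limits.pullback.diagonal X.hom := by
    apply Limits.pullback.hom_ext
    · rw [Limits.pullback.diagonal_fst]; simp
    · rw [Limits.pullback.diagonal_snd]; simp
  refine ⟨by rw [h]; exact IsSeparated.diagonal_isClosedImmersion (self := inferInstanceAs (IsSeparated X.hom)),
    by rw [h]; exact (by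
      haveI : LocallyOfFinitePresentation (Limits.pullback.diagonal X.hom ≫ Limits.pullback.fst X.hom X.hom) := by
        rw [Limits.pullback.diagonal_fst]; infer_instance
      haveI : LocallyOfFiniteType (Limits.pullback.fst X.hom X.hom) := inferInstance
      exact Groth.Agent.LimDesc.lfp_of_comp _ (Limits.pullback.fst X.hom X.hom)), fun T x y => ⟨?_, ?_⟩⟩
  · rintro ⟨b, hb⟩
    have h1 := congrArg (· ≫ CartesianMonoidalCategory.fst X X) hb
    have h2 := congrArg (· ≫ CartesianMonoidalCategory.snd X X) hb
    simp at h1 h2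
    rw [h1, h2]
  · rintro rfl
    exact ⟨x, by ext1 <;> simp⟩


/-- Let S be a scheme, G an S-group scheme of finite presentation acting on an S-scheme X which is
affine and of finite presentation over S, and Y a closed subscheme of X which is finite, flat and of
finite presentation over S. Then the functorial stabilizer of Y in G — whose points with values in
an S-scheme T are the points g of G such that g acts as the identity on every point of Y with values
in a scheme over T — is represented by a closed subscheme of G whose inclusion is of finite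
presentation. -/
theorem result (S : Scheme.{u}) (G X Y : Over S) [GrpObj G]
    [LocallyOfFinitePresentation G.hom] [QuasiCompact G.hom] [QuasiSeparated G.hom]
    [IsAffineHom X.hom] [LocallyOfFinitePresentation X.hom] (a : AlgGrp.Action G X)
    (i : Y ⟶ X) [IsClosedImmersion i.left] [IsFinite Y.hom] [Flat Y.hom] [LocallyOfFinitePresentation Y.hom] :
    ∃ (Z : Over S) (j : Z ⟶ G), IsClosedImmersion j.left ∧ LocallyOfFinitePresentation j.left ∧
      ∀ (T : Over S) (g : T ⟶ G), (∃ z : T ⟶ Z, z ≫ j = g) ↔
        ∀ (T' : Over S) (t : T' ⟶ T) (y : T' ⟶ Y), lift (t ≫ g) (y ≫ i) ≫ a.act = y ≫ i := by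
  obtain ⟨hci, hlfp, hiff⟩ := diag_facts X
  haveI := hci
  haveI := hlfp
  haveI : IsAffineHom Y.hom := inferInstance
  let f : Y ⊗ G ⟶ X ⊗ X := lift (lift (snd Y G) (fst Y G ≫ i) ≫ a.act) (fst Y G ≫ i)
  obtain ⟨W, j, hj, hjl, hW⟩ := Groth.Agent.ClosedRep.exists_closed_preimage_lfp f (lift (𝟙 X) (𝟙 X))
    (Groth.Agent.ClosedRep.isLocFree_of_finLocFree Y.hom)
  refine ⟨W, j, hj, hjl, fun T g => (hW T g).trans (forall_congr' fun T' => forall_congr' fun t => forall_congr' fun y => ?_)⟩
  rw [show lift y (t ≫ g) ≫ f = lift (lift (t ≫ g) (y ≫ i) ≫ a.act) (y ≫ i) by simp [f, comp_lift_assoc, ← Category.assoc]]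
  exact hiff T' _ _

end Groth.Agent.S15837
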