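import Groth.Statements.S15838
import Mathlib

set_option autoImplicit false
universe u
open scoped TensorProduct
open SprIso

namespace Groth.Agent.S15838

/-- General linear group case: this is the case G = GL(V), to which the general case reduces along a
closed embedding. Let k be a perfect field and V a finite-dimensional k-vector space. If an
invertible endomorphism g of V has multiplicative Jordan decomposition g = t u (t semisimple, u
unipotent, t and u commuting), then the scheme-theoretic centralizer of g in GL(V) is the
centralizer of u inside the centralizer of t: for every commutative k-algebra R, an R-linear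
endomorphism h of R ⊗ V commutes with g_R if and only if it commutes with both t_R and u_R.
Likewise, if an endomorphism X of V has additive Jordan decomposition X = Y + N (Y semisimple, N
nilpotent, commuting), then h commutes with X_R if and only if it commutes with both Y_R and N_R. -/
theorem result (k : Type u) [Field k] [PerfectField k]
    (V : Type u) [AddCommGroup V] [Module k V] [FiniteDimensional k V]
    (R : Type u) [CommRing R] [Algebra k R] (h : Module.End R (R ⊗[k] V)) :
    (∀ (g t u : Module.End k V), IsUnit g → t.IsSemisimple → IsNilpotent (u - 1) → Commute t u → g = t * u →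
      (Commute h (g.baseChange R) ↔ Commute h (t.baseChange R) ∧ Commute h (u.baseChange R))) ∧
    (∀ (X Y N : Module.End k V), Y.IsSemisimple → IsNilpotent N → Commute Y N → X = Y + N →
      (Commute h (X.baseChange R) ↔ Commute h (Y.baseChange R) ∧ Commute h (N.baseChange R))) := by
  let φ : Module.End k V →ₐ[k] Module.End R (R ⊗[k] V) := Module.End.baseChangeHom k R V
  have key : ∀ {X t : Module.End k V}, t ∈ Algebra.adjoin k {X} → Commute h (φ X) → Commute h (φ t) := by
    intro X t ht hX
    induction ht using Algebra.adjoin_induction with
    | mem x hx => rw [Set.mem_singleton_iff.1 hx]; exact hX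
    | algebraMap r => rw [AlgHom.commutes]; exact (Algebra.commutes r h).symm
    | add x y _ _ hx hy => rw [map_add]; exact hx.add_right hy
    | mul x y _ _ hx hy => rw [map_mul]; exact hx.mul_right hy
  have mem : ∀ {X Y N : Module.End k V}, Y.IsSemisimple → IsNilpotent N → Commute Y N → X = Y + N →
      Y ∈ Algebra.adjoin k {X} := by
    intro X Y N hY hN hYN hX
    obtain ⟨n, hn, s, hs, hn', hs', hX'⟩ := X.exists_isNilpotent_isSemisimple
    have := Module.End.isNilpotent_isSemisimple_unique hN hY hn' hs' hYN.symm
      (Algebra.commute_of_mem_adjoin_singleton_of_commute hs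
        (Algebra.commute_of_mem_adjoin_self hn).symm)
      (by rw [add_comm N Y, ← hX, ← hX'])
    exact this.2 ▸ hs
  refine ⟨fun g t u hg ht hu htu hgtu => ?_, fun X Y N hY hN hYN hX => ?_⟩
  · have htu' : Commute t (u - 1) := htu.sub_right (Commute.one_right t)
    have hmem : t ∈ Algebra.adjoin k {g} :=
      mem ht ((htu'.isNilpotent_mul_left hu)) ((Commute.refl t).mul_right htu') (by rw [hgtu, mul_sub, mul_one, add_sub_cancel])
    have hunit : IsUnit t := (htu.isUnit_mul_iff.1 (hgtu ▸ hg)).1
    change Commute h (φ g) ↔ Commute h (φ t) ∧ Commute h (φ u)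
    refine ⟨fun hh => ⟨key hmem hh, ?_⟩, fun hh => by rw [hgtu, map_mul]; exact hh.1.mul_right hh.2⟩
    have h1 := key hmem hh
    obtain ⟨w, hw⟩ := hunit.map φ
    have h2 : φ u = ↑w⁻¹ * φ g := by rw [hgtu, map_mul, ← hw, Units.inv_mul_cancel_left]
    rw [h2]
    exact ((hw ▸ h1 : Commute h ↑w).units_inv_right).mul_right hh
  · have hmem := mem hY hN hYN hX
    change Commute h (φ X) ↔ Commute h (φ Y) ∧ Commute h (φ N)
    refine ⟨fun hh => ⟨key hmem hh, ?_⟩, fun hh => by rw [hX, map_add]; exact hh.1.add_right hh.2⟩
    have h2 := hh.eq
    rw [hX, map_add, mul_add, add_mul, (key hmem hh).eq] at h2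
    exact LinearMap.ext fun z => add_left_cancel (LinearMap.congr_fun h2 z)

end Groth.Agent.S15838
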