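import Groth.Statements.S15839
import Groth.Agent.LimDesc.FPCancel

set_option autoImplicit false
set_option backward.isDefEq.respectTransparency false
set_option backward.isDefEq.respectTransparency.types false
set_option linter.style.haveILetI false
set_option maxHeartbeats 800000
universe u
open CategoryTheory MonoidalCategory CartesianMonoidalCategory MonObj GrpObj AlgebraicGeometry
open SprIso

namespace Groth.Agent.S15839

theorem diag_facts {S : Scheme.{u}} (X : Over S) [IsAffineHom X.hom] [LocallyOfFinitePresentation X.hom] :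
    IsClosedImmersion (lift (𝟙 X) (𝟙 X)).left ∧ LocallyOfFinitePresentation (lift (𝟙 X) (𝟙 X)).left ∧
      ∀ (T : Over S) (x y : T ⟶ X), (∃ b : T ⟶ X, lift x y = b ≫ lift (𝟙 X) (𝟙 X)) ↔ x = y := by
  have h : (lift (𝟙 X) (𝟙 X)).left = Limits.pullback.diagonal X.hom := by
    apply Limits.pullback.hom_ext
    · rw [Limits.pullback.diagonal_fst]; simp
    · rw [Limits.pullback.diagonal_snd]; simp
  refine ⟨by rw [h]; exact IsSeparated.diagonal_isClosedImmersion (self := inferInstanceAs (IsSeparated X.hom)),
    by rw [h]; exact (by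
      haveI : LocallyOfFinitePresentation (Limits.pullback.diagonal X.hom ≫ Limits.pullback.fst X.hom X.hom) := by
        rw [Limits.pullback.diagonal_fst]; infer_instance
      haveI : LocallyOfFiniteType (Limits.pullback.fst X.hom X.hom) := inferInstance
      exact Groth.Agent.LimDesc.lfp_of_comp _ (Limits.pullback.fst X.hom X.hom)), fun T x y => ⟨?_, ?_⟩⟩
  · rintro ⟨b, hb⟩
    have h1 := congrArg (· ≫ CartesianMonoidalCategory.fst X X) hb
    have h2 := congrArg (· ≫ CartesianMonoidalCategory.snd X X) hb
    simp at h1 h2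
    rw [h1, h2]
  · rintro rfl
    exact ⟨x, by ext1 <;> simp⟩


/-- Let S be a scheme, G an S-group scheme which is affine and of finite presentation over S, and g a
section of G over S. Then the centralizer of g — the subfunctor of G whose points with values in an
S-scheme T are the points x of G with x g_T = g_T x — is represented by a closed subscheme of G
whose inclusion is of finite presentation. -/
theorem result (S : Scheme.{u}) (G : Over S) [GrpObj G]
    [IsAffineHom G.hom] [LocallyOfFinitePresentation G.hom] (g : 𝟙_ (Over S) ⟶ G) :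
    ∃ (Z : Over S) (j : Z ⟶ G), IsClosedImmersion j.left ∧ LocallyOfFinitePresentation j.left ∧
      ∀ (T : Over S) (x : T ⟶ G), (∃ z : T ⟶ Z, z ≫ j = x) ↔
        x * (toUnit T ≫ g) = (toUnit T ≫ g) * x := by
  obtain ⟨hci, hlfp, hiff⟩ := diag_facts G
  let x₀ : G ⟶ G := 𝟙 G
  let c : G ⟶ G := toUnit G ≫ g
  let F : G ⟶ G ⊗ G := lift (x₀ * c) (c * x₀)
  let Z : Over S := Over.mk (Limits.pullback.fst F.left (lift (𝟙 G) (𝟙 G)).left ≫ G.hom)
  haveI := hci
  haveI := hlfp
  refine ⟨Z, Over.homMk (Limits.pullback.fst _ _) rfl, MorphismProperty.pullback_fst _ _ hci,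
    MorphismProperty.pullback_fst _ _ hlfp, fun T x => ?_⟩
  have hF : x ≫ F = lift (x * (toUnit T ≫ g)) ((toUnit T ≫ g) * x) := by
    have h1 : x ≫ c = toUnit T ≫ g := by rw [← Category.assoc]; congr 1; exact toUnit_unique _ _
    rw [comp_lift, MonObj.comp_mul, MonObj.comp_mul, Category.comp_id, h1]
  rw [← hiff T (x * (toUnit T ≫ g)) ((toUnit T ≫ g) * x), ← hF]
  constructor
  · rintro ⟨z, rfl⟩
    refine ⟨Over.homMk (z.left ≫ Limits.pullback.snd _ _) ?_, ?_⟩
    · have h := congrArg (· ≫ (G ⊗ G).hom) (Limits.pullback.condition (f := F.left) (g := (lift (𝟙 G) (𝟙 G)).left))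
      simp only [Category.assoc, Over.w] at h
      rw [Category.assoc, ← h]
      exact Over.w z
    · apply Over.OverMorphism.ext
      change (z.left ≫ Limits.pullback.fst F.left (lift (𝟙 G) (𝟙 G)).left) ≫ F.left =
        (z.left ≫ Limits.pullback.snd F.left (lift (𝟙 G) (𝟙 G)).left) ≫ (lift (𝟙 G) (𝟙 G)).left
      rw [Category.assoc, Category.assoc, Limits.pullback.condition]
  · rintro ⟨b, hb⟩
    exact ⟨Over.homMk (Limits.pullback.lift x.left b.left (congrArg CommaMorphism.left hb))
      (by simp [Z]), Over.OverMorphism.ext (Limits.pullback.lift_fst _ _ _)⟩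

end Groth.Agent.S15839
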