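import Groth.Statements.S15853
import Groth.Agent.StabK3.RankTwoExt

set_option autoImplicit false
universe u
open CategoryTheory CategoryTheory.Limits AlgebraicGeometry Polynomial
open ShStab

namespace Groth.Agent.S15853

/-- Let k be an algebraically closed field of characteristic zero and S a K3 surface over k — a smooth
projective surface (integral, smooth over k, of dimension two, with a closed immersion over k into
some projective space) whose structure sheaf is a second exterior power of its sheaf of
differentials and with H^1(S, O_S) = 0 — whose Picard group is infinite cyclic, generated by the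
class of an ample invertible sheaf L. Let V be a coherent O_S-module with torsion-free stalks,
stable of dimension two with respect to L, and let P be its Hilbert polynomial with respect to L,
P(m) = χ(V ⊗ L^m). Assume: the leading coefficient of P is twice that of the Hilbert polynomial of
O_S (V has rank two); the coefficients of m and of m^2 in P agree (on such a surface this says
c_1(V)·L = L^2, i.e. the first Chern class of V is the class of L); and P(0) = χ(V) ≥ 1
(equivalently c_2(V) ≤ L^2/2 + 3). Then V is an extension of L ⊗ I_Z by O_S for some finite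
subscheme Z: there are a coherent subsheaf N ⊆ L with L/N supported in dimension at most zero and a
short exact sequence 0 → O_S → V → N → 0, which moreover does not split. -/
theorem result
    (k : Type u) [Field k] [IsAlgClosed k] [CharZero k]
    (S : Scheme.{u}) [S.Over (Spec (CommRingCat.of k))] [IsIntegral S]
    [Smooth (S ↘ Spec (CommRingCat.of k))] (hdim : topologicalKrullDim S = 2)
    [IsProper (S ↘ Spec (CommRingCat.of k))]
    (hproj : ∃ (n : ℕ) (ι : S ⟶ CohB1.ProjSpace n k), IsClosedImmersion ι ∧
      ι ≫ CohB1.ProjSpace.toSpec n k = S ↘ Spec (CommRingCat.of k))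
    (hK : Canon.IsTopDiff (S ↘ Spec (CommRingCat.of k)) 2 (Coh.structureModule S))
    (hq : Module.finrank k (Coh.HH S (Coh.structureModule S) 1) = 0)
    (L : S.Modules) (hLi : PicF.IsInvertible L) (hLa : CohB1.IsAmple L)
    [PicGrp.Law S] (hgen : ∀ c : PicLoc.PicSet S, ∃ n : ℤ, c = PicGrp.cls L hLi ^ n)
    (hfree : ∀ n : ℤ, PicGrp.cls L hLi ^ n = 1 → n = 0)
    (V : S.Modules) (hV : Coh.IsCoh V) (hVtf : TorSh.IsTorsionFree V)
    (hst : ShStab.IsStable k S L V 2)
    (P PO : ℚ[X]) (hP : ShStab.IsHilbPoly k S L V P)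
    (hPO : ShStab.IsHilbPoly k S L (Coh.structureModule S) PO)
    (hrk : P.coeff 2 = 2 * PO.coeff 2) (hc1 : P.coeff 1 = P.coeff 2) (hchi : 1 ≤ P.coeff 0) :
    ∃ (N : S.Modules) (ι : N ⟶ L) (_ : Mono ι) (_ : Coh.IsCoh N)
      (_ : topologicalKrullDim (CohB1.support (cokernel ι)) ≤ 0)
      (a : Coh.structureModule S ⟶ V) (b : V ⟶ N) (w : a ≫ b = 0),
      (ShortComplex.mk a b w).ShortExact ∧
        ∀ r : V ⟶ Coh.structureModule S, a ≫ r ≠ 𝟙 (Coh.structureModule S) := by
  haveI := Groth.Agent.CurveRR.isNoetherian_of_proper k S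
  rw [Groth.Agent.StabLib.Sh.hilb_iff k hLa.1 hV] at hP
  rw [Groth.Agent.StabLib.Sh.hilb_iff k hLa.1 Groth.Agent.RefStalk.isCoh_structureModule] at hPO
  subst hP hPO
  have hμ := Groth.Agent.StabK3.μ_pos k hdim hLa
  have h2 := Groth.Agent.StabK3.coeff_two k hdim hLa hV
  have hVr : Groth.Agent.W7Slope.grk V = 2 := by
    rw [hrk] at h2
    have h3 : (Groth.Agent.W7Slope.grk V : ℚ) = 2 := (mul_right_cancel₀ hμ.ne' h2).symm
    exact_mod_cast h3
  have hVδ : Groth.Agent.StabK3.δ k L V = 2 * Groth.Agent.StabK3.μ k L := by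
    rw [Groth.Agent.StabK3.δ, hc1, hrk]
  refine Groth.Agent.StabK3.exists_extension_structure k hdim hLa hgen hst hVtf hVr hK hVδ ?_
  have h0 := Groth.Agent.StabLib.Sh.isHilbPoly_hp k hLa.1 hV 0
  rw [Nat.cast_zero, ← Polynomial.coeff_zero_eq_eval_zero, ShStab.twist,
    Groth.Agent.CurveRR.euler_eq_of_iso
      (TMul.commIso V (CohB1.tensorPow L 0) ≪≫ TMul.leftUnitIso V)] at h0
  rw [← h0] at hchi
  exact_mod_cast hchi

end Groth.Agent.S15853
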