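import Groth.Statements.S15854
import Groth.Agent.StabK3.RankTwoExt

set_option autoImplicit false
universe u
open CategoryTheory CategoryTheory.Limits AlgebraicGeometry Polynomial
open ShStab

namespace Groth.Agent.S15854

/-- Let k be an algebraically closed field of characteristic zero and S a K3 surface over k — a smooth
projective surface (integral, smooth over k, of dimension two, with a closed immersion over k into
some projective space) whose structure sheaf is a second exterior power of its sheaf of
differentials and with H^1(S, O_S) = 0 — whose Picard group is infinite cyclic, generated by the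
class of an ample invertible sheaf L. Let V be a locally free O_S-module of rank two, stable of
dimension two with respect to L, with Hilbert polynomial P, P(m) = χ(V ⊗ L^m), such that the
coefficients of m and m^2 in P agree (c_1(V)·L = L^2, i.e. the first Chern class of V is the class
of L), and let n be a natural number with P(n) = χ(V ⊗ L^n) ≥ 1 (by Riemann–Roch this is the bound
c_2(V) ≤ (n^2 + n + 1/2) L^2 + 3). Then V is an extension of type m for some m ≤ n: there are a
natural number m ≤ n, an invertible O_S-module M whose class is the inverse of the class of L^{⊗m},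
a coherent subsheaf N ⊆ L^{⊗(m+1)} whose quotient is supported in dimension at most zero (N is
L^{⊗(m+1)} twisted by the ideal of a finite subscheme Z_m), and a short exact sequence 0 → M → V → N
→ 0. (The published statement also records the length of Z_m as c_2 + m(m+1)L^2; that Chern-class
bookkeeping is not restated here. The published statement also assumes the lower bound c_2 >
((n-1)^2 + (n-1) + 1/2) L^2 + 3 with n ≥ 1; the argument uses only the upper bound, and neither the
lower bound nor n ≥ 1 is assumed here.) -/
theorem result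
    (k : Type u) [Field k] [IsAlgClosed k] [CharZero k]
    (S : Scheme.{u}) [S.Over (Spec (CommRingCat.of k))] [IsIntegral S]
    [Smooth (S ↘ Spec (CommRingCat.of k))] (hdim : topologicalKrullDim S = 2)
    [IsProper (S ↘ Spec (CommRingCat.of k))]
    (hproj : ∃ (n : ℕ) (ι : S ⟶ CohB1.ProjSpace n k), IsClosedImmersion ι ∧
      ι ≫ CohB1.ProjSpace.toSpec n k = S ↘ Spec (CommRingCat.of k))
    (hK : Canon.IsTopDiff (S ↘ Spec (CommRingCat.of k)) 2 (Coh.structureModule S))
    (hq : Module.finrank k (Coh.HH S (Coh.structureModule S) 1) = 0)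
    (L : S.Modules) (hLi : PicF.IsInvertible L) (hLa : CohB1.IsAmple L)
    [PicGrp.Law S] (hgen : ∀ c : PicLoc.PicSet S, ∃ n : ℤ, c = PicGrp.cls L hLi ^ n)
    (hfree : ∀ n : ℤ, PicGrp.cls L hLi ^ n = 1 → n = 0)
    (V : S.Modules) (hV : FlatMod.IsFinLocFreeOfRank 2 V)
    (hst : ShStab.IsStable k S L V 2)
    (P : ℚ[X]) (hP : ShStab.IsHilbPoly k S L V P) (hc1 : P.coeff 1 = P.coeff 2)
    (n : ℕ) (hn : 1 ≤ P.eval (n : ℚ)) :
    ∃ (m : ℕ) (_ : m ≤ n) (M : S.Modules) (hM : PicF.IsInvertible M)
      (_ : PicGrp.cls M hM * PicGrp.cls L hLi ^ m = 1)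
      (N : S.Modules) (ι : N ⟶ CohB1.tensorPow L (m + 1)) (_ : Mono ι) (_ : Coh.IsCoh N)
      (_ : topologicalKrullDim (CohB1.support (cokernel ι)) ≤ 0)
      (a : M ⟶ V) (b : V ⟶ N) (w : a ≫ b = 0),
      (ShortComplex.mk a b w).ShortExact := by
  haveI := Groth.Agent.CurveRR.isNoetherian_of_proper k S
  have hV' := hst.1
  have hflf := Groth.Agent.W7Slope.isFinLocFree_of_rank hV
  rw [Groth.Agent.StabLib.Sh.hilb_iff k hLa.1 hV'] at hP
  subst hP
  have hVr : Groth.Agent.W7Slope.grk V = 2 := Groth.Agent.W7Slope.grk_of_rank hV
  have h2 := Groth.Agent.StabK3.coeff_two k hdim hLa hV'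
  rw [hVr] at h2
  have hVδ : Groth.Agent.StabK3.δ k L V = 2 * Groth.Agent.StabK3.μ k L := by
    rw [Groth.Agent.StabK3.δ, hc1, h2]
    norm_num
  have hVtf : TorSh.IsTorsionFree V := fun x => by
    haveI := Groth.Agent.LocFree.free_stalk_of_isFinLocFree hflf x
    infer_instance
  refine Groth.Agent.StabK3.exists_extension_type_le k hdim hLa hgen hst hVtf hVr hK hVδ (fun x => by
    haveI := Groth.Agent.LocFree.free_stalk_of_isFinLocFree hflf x
    haveI := Groth.Agent.RegDual.finite_stalk hV' x
    infer_instance) n ?_
  have h0 := Groth.Agent.StabLib.Sh.isHilbPoly_hp k hLa.1 hV' n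
  rw [ShStab.twist] at h0
  rw [← h0] at hn
  exact_mod_cast hn

end Groth.Agent.S15854
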