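import Groth.Statements.S15859
import Groth.Agent.ExtFamily.Semi

set_option autoImplicit false
set_option backward.isDefEq.respectTransparency false
set_option backward.isDefEq.respectTransparency.types false
universe u
open CategoryTheory CategoryTheory.Limits AlgebraicGeometry
open Surf

namespace Groth.Agent.S15859

/-- Let k be an algebraically closed field of characteristic zero, S a smooth projective surface over k
(integral, smooth over k, of dimension two, with a closed immersion over k into some projective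
space) and P an integral one-dimensional k-scheme locally of finite type (a curve, not necessarily
proper). Let 𝒜, 𝒜', 𝒜'' be coherent O-modules on S ×_k P, flat over P, with monomorphisms 𝒜' → 𝒜 and
𝒜' → 𝒜'' whose cokernels 𝒬 and 𝒬~ are flat over P, the fibres of 𝒬~ being supported in dimension at
most zero (so they have constant length). For a k-point p of P write F_p for the pull-back of a
module F along the section S → S ×_k P at p (identity on S, p on the second factor), a module on S.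
Suppose that at some k-point p₀ one has dim H^0(S, 𝒜'_{p₀}) = dim H^0(S, 𝒜_{p₀}) and dim H^1(S,
𝒜'_{p₀}) = dim H^1(S, 𝒜''_{p₀}), and that dim H^0(S, 𝒜''_p) ≥ dim H^0(S, 𝒜''_{p₀}) for every k-point
p. Then dim H^0(S, 𝒜_p) ≥ dim H^0(S, 𝒜_{p₀}) for every k-point p. (The published statement also
assumes that the fibres 𝒜_p, 𝒜'_p, 𝒜''_p are rank-one torsion-free sheaves on curves C_p ⊆ S, using
this only to see that the fibrewise maps are injective; that follows here from the flatness of the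
cokernels, so the assumption is not made.) -/
theorem result
    (k : Type u) [Field k] [IsAlgClosed k] [CharZero k]
    (S : Scheme.{u}) [S.Over (Spec (CommRingCat.of k))] [IsIntegral S]
    [Smooth (S ↘ Spec (CommRingCat.of k))] (hdim : topologicalKrullDim S = 2)
    [IsProper (S ↘ Spec (CommRingCat.of k))]
    (hproj : ∃ (n : ℕ) (ι : S ⟶ CohB1.ProjSpace n k), IsClosedImmersion ι ∧
      ι ≫ CohB1.ProjSpace.toSpec n k = (S ↘ Spec (CommRingCat.of k)))
    (P : Scheme.{u}) (pP : P ⟶ Spec (CommRingCat.of k)) [IsIntegral P] [LocallyOfFiniteType pP]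
    (hP : topologicalKrullDim P = 1)
    (𝒜 𝒜' 𝒜'' : (pullback (S ↘ Spec (CommRingCat.of k)) pP).Modules) (h𝒜 : Coh.IsCoh 𝒜) (h𝒜' : Coh.IsCoh 𝒜') (h𝒜'' : Coh.IsCoh 𝒜'')
    (hfl : FlatMod.IsFlatOver (pullback.snd (S ↘ Spec (CommRingCat.of k)) pP) 𝒜)
    (hfl' : FlatMod.IsFlatOver (pullback.snd (S ↘ Spec (CommRingCat.of k)) pP) 𝒜')
    (hfl'' : FlatMod.IsFlatOver (pullback.snd (S ↘ Spec (CommRingCat.of k)) pP) 𝒜'')
    (α : 𝒜' ⟶ 𝒜) (β : 𝒜' ⟶ 𝒜'') [Mono α] [Mono β]
    (hQ : FlatMod.IsFlatOver (pullback.snd (S ↘ Spec (CommRingCat.of k)) pP) (cokernel α))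
    (hQ' : FlatMod.IsFlatOver (pullback.snd (S ↘ Spec (CommRingCat.of k)) pP) (cokernel β))
    (hQ'0 : ∀ (t : Spec (CommRingCat.of k) ⟶ P) (_ : t ≫ pP = 𝟙 _)
      (s : S ⟶ pullback (S ↘ Spec (CommRingCat.of k)) pP) (_ : s ≫ pullback.fst (S ↘ Spec (CommRingCat.of k)) pP = 𝟙 S)
      (_ : s ≫ pullback.snd (S ↘ Spec (CommRingCat.of k)) pP = (S ↘ Spec (CommRingCat.of k)) ≫ t),
      topologicalKrullDim (CohB1.support ((Scheme.Modules.pullback s).obj (cokernel β))) ≤ 0)
    (t₀ : Spec (CommRingCat.of k) ⟶ P) (ht₀ : t₀ ≫ pP = 𝟙 _)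
    (s₀ : S ⟶ pullback (S ↘ Spec (CommRingCat.of k)) pP) (hs₀ : s₀ ≫ pullback.fst (S ↘ Spec (CommRingCat.of k)) pP = 𝟙 S)
    (hs₀' : s₀ ≫ pullback.snd (S ↘ Spec (CommRingCat.of k)) pP = (S ↘ Spec (CommRingCat.of k)) ≫ t₀)
    (h0 : Module.finrank k (Coh.HH S ((Scheme.Modules.pullback s₀).obj 𝒜') 0) =
      Module.finrank k (Coh.HH S ((Scheme.Modules.pullback s₀).obj 𝒜) 0))
    (h1 : Module.finrank k (Coh.HH S ((Scheme.Modules.pullback s₀).obj 𝒜') 1) =
      Module.finrank k (Coh.HH S ((Scheme.Modules.pullback s₀).obj 𝒜'') 1))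
    (hup : ∀ (t : Spec (CommRingCat.of k) ⟶ P) (_ : t ≫ pP = 𝟙 _)
      (s : S ⟶ pullback (S ↘ Spec (CommRingCat.of k)) pP) (_ : s ≫ pullback.fst (S ↘ Spec (CommRingCat.of k)) pP = 𝟙 S)
      (_ : s ≫ pullback.snd (S ↘ Spec (CommRingCat.of k)) pP = (S ↘ Spec (CommRingCat.of k)) ≫ t),
      Module.finrank k (Coh.HH S ((Scheme.Modules.pullback s₀).obj 𝒜'') 0) ≤
        Module.finrank k (Coh.HH S ((Scheme.Modules.pullback s).obj 𝒜'') 0))
    (t : Spec (CommRingCat.of k) ⟶ P) (ht : t ≫ pP = 𝟙 _)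
    (s : S ⟶ pullback (S ↘ Spec (CommRingCat.of k)) pP) (hs : s ≫ pullback.fst (S ↘ Spec (CommRingCat.of k)) pP = 𝟙 S)
    (hs' : s ≫ pullback.snd (S ↘ Spec (CommRingCat.of k)) pP = (S ↘ Spec (CommRingCat.of k)) ≫ t) :
    Module.finrank k (Coh.HH S ((Scheme.Modules.pullback s₀).obj 𝒜) 0) ≤
      Module.finrank k (Coh.HH S ((Scheme.Modules.pullback s).obj 𝒜) 0) := by
  obtain rfl : s₀ = Pic13.sliceAt k S pP t₀ ht₀ := pullback.hom_ext
    (hs₀.trans (pullback.lift_fst _ _ _).symm) (hs₀'.trans (pullback.lift_snd _ _ _).symm)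
  obtain rfl : s = Pic13.sliceAt k S pP t ht := pullback.hom_ext
    (hs.trans (pullback.lift_fst _ _ _).symm) (hs'.trans (pullback.lift_snd _ _ _).symm)
  exact Groth.Agent.ExtFamily.h0_fibre_le k pP h𝒜 h𝒜' h𝒜'' α β hQ hQ'
    (fun u hu => hQ'0 u hu _ (pullback.lift_fst _ _ _) (pullback.lift_snd _ _ _)) t t₀ ht ht₀ h0 h1
    (hup t ht _ (pullback.lift_fst _ _ _) (pullback.lift_snd _ _ _))

end Groth.Agent.S15859
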