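import Groth.Statements.S15860
import Groth.Agent.BlowP2.Tables
-- import your own Groth.Agent.* helpers here

set_option autoImplicit false
open CategoryTheory CategoryTheory.Limits AlgebraicGeometry
open BlowUp

namespace Groth.Agent.S15860

/-- Case of a non-positive coefficient of the exceptional divisor. Let σ : X ⟶ P² be the blow-up of the
complex projective plane at a closed point (universal property), I_E the ideal of the exceptional
curve and H = σ^*O(1). For an integer p and a natural number b write M = σ^*O(p) ⊗ I_E ^ b (the line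
bundle pH − bE) and C(n,2) for the binomial coefficient, taken to be 0 when n < 2. Then the
dimensions h^i = dim H^i(X, M) are: if b ≤ p, h^0 = C(p+2,2) − C(b+1,2) and h^1 = h^2 = 0; if p = b
− 1, h^0 = h^1 = h^2 = 0; if p ≤ b − 2, h^0 = 0, h^1 = C(b+1,2) − C(p+2,2) and h^2 = C(−p−1,2). (The
structure of scheme over C on X is the composite through σ.) -/
theorem result
    (x : ↥(CohB1.ProjSpace 2 ℂ)) (hx : IsClosed ({x} : Set ↥(CohB1.ProjSpace 2 ℂ)))
    {X : Scheme.{0}} [X.Over (Spec (CommRingCat.of ℂ))] (σ : X ⟶ CohB1.ProjSpace 2 ℂ)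
    (hσk : σ ≫ CohB1.ProjSpace.toSpec 2 ℂ = X ↘ Spec (CommRingCat.of ℂ))
    (hσ : BlowUp.IsBlowUp σ (Scheme.IdealSheafData.vanishingIdeal ⟨{x}, hx⟩)) (p : ℤ) (b : ℕ) :
    ((b : ℤ) ≤ p →
      (Module.finrank ℂ (Coh.HH X (CohB1.tensorMod ((Scheme.Modules.pullback σ).obj (Twist.twistProjSpace 2 ℂ p))
        (ClSub.idealMod ((BlowUp.exceptional σ (Scheme.IdealSheafData.vanishingIdeal ⟨{x}, hx⟩)) ^ b))) 0) : ℤ) = ((p + 2).toNat.choose 2 : ℤ) - ((b + 1).choose 2 : ℤ) ∧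
      Module.finrank ℂ (Coh.HH X (CohB1.tensorMod ((Scheme.Modules.pullback σ).obj (Twist.twistProjSpace 2 ℂ p))
        (ClSub.idealMod ((BlowUp.exceptional σ (Scheme.IdealSheafData.vanishingIdeal ⟨{x}, hx⟩)) ^ b))) 1) = 0 ∧
      Module.finrank ℂ (Coh.HH X (CohB1.tensorMod ((Scheme.Modules.pullback σ).obj (Twist.twistProjSpace 2 ℂ p))
        (ClSub.idealMod ((BlowUp.exceptional σ (Scheme.IdealSheafData.vanishingIdeal ⟨{x}, hx⟩)) ^ b))) 2) = 0) ∧
    (p = (b : ℤ) - 1 →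
      Module.finrank ℂ (Coh.HH X (CohB1.tensorMod ((Scheme.Modules.pullback σ).obj (Twist.twistProjSpace 2 ℂ p))
        (ClSub.idealMod ((BlowUp.exceptional σ (Scheme.IdealSheafData.vanishingIdeal ⟨{x}, hx⟩)) ^ b))) 0) = 0 ∧
      Module.finrank ℂ (Coh.HH X (CohB1.tensorMod ((Scheme.Modules.pullback σ).obj (Twist.twistProjSpace 2 ℂ p))
        (ClSub.idealMod ((BlowUp.exceptional σ (Scheme.IdealSheafData.vanishingIdeal ⟨{x}, hx⟩)) ^ b))) 1) = 0 ∧
      Module.finrank ℂ (Coh.HH X (CohB1.tensorMod ((Scheme.Modules.pullback σ).obj (Twist.twistProjSpace 2 ℂ p))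
        (ClSub.idealMod ((BlowUp.exceptional σ (Scheme.IdealSheafData.vanishingIdeal ⟨{x}, hx⟩)) ^ b))) 2) = 0) ∧
    (p ≤ (b : ℤ) - 2 →
      Module.finrank ℂ (Coh.HH X (CohB1.tensorMod ((Scheme.Modules.pullback σ).obj (Twist.twistProjSpace 2 ℂ p))
        (ClSub.idealMod ((BlowUp.exceptional σ (Scheme.IdealSheafData.vanishingIdeal ⟨{x}, hx⟩)) ^ b))) 0) = 0 ∧
      (Module.finrank ℂ (Coh.HH X (CohB1.tensorMod ((Scheme.Modules.pullback σ).obj (Twist.twistProjSpace 2 ℂ p))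
        (ClSub.idealMod ((BlowUp.exceptional σ (Scheme.IdealSheafData.vanishingIdeal ⟨{x}, hx⟩)) ^ b))) 1) : ℤ) = ((b + 1).choose 2 : ℤ) - ((p + 2).toNat.choose 2 : ℤ) ∧
      Module.finrank ℂ (Coh.HH X (CohB1.tensorMod ((Scheme.Modules.pullback σ).obj (Twist.twistProjSpace 2 ℂ p))
        (ClSub.idealMod ((BlowUp.exceptional σ (Scheme.IdealSheafData.vanishingIdeal ⟨{x}, hx⟩)) ^ b))) 2) = (-p - 1).toNat.choose 2) := by
  haveI := BlowP2.isProper_over x hx σ hσk hσ
  have hχ := BlowP2.euler_twist_pow x hx σ hσk hσ p b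
  rw [BlowP2.euler_three fun i hi =>
    BlowP2.subsingleton_MI_ge_two x hx σ hσ p b (by omega) (fun h => by omega)] at hχ
  have h2 := BlowP2.finrank_MI_two x hx σ hσk hσ p b
  have h0 : p < b → Module.finrank ℂ (Coh.HH X (BlowP2.MI x hx σ p b) 0) = 0 := fun h => by
    haveI := BlowP2.subsingleton_MI_zero x hx σ hσk hσ p b h
    exact Module.finrank_zero_of_subsingleton
  have h1 : (b = 0 ∨ (b : ℤ) ≤ p + 1) → Module.finrank ℂ (Coh.HH X (BlowP2.MI x hx σ p b) 1) = 0 := fun h => by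
    haveI := BlowP2.subsingleton_MI_one x hx σ hσ p b h
    exact Module.finrank_zero_of_subsingleton
  change 2 * ((Module.finrank ℂ (Coh.HH X (BlowP2.MI x hx σ p b) 0) : ℤ) -
    (Module.finrank ℂ (Coh.HH X (BlowP2.MI x hx σ p b) 1) : ℤ) +
    (Module.finrank ℂ (Coh.HH X (BlowP2.MI x hx σ p b) 2) : ℤ)) = _ at hχ
  have hb := BlowP2.two_mul_choose_two (b + 1)
  push_cast at hb
  refine ⟨fun h => ?_, fun h => ?_, fun h => ?_⟩
  · have e2 : Module.finrank ℂ (Coh.HH X (BlowP2.MI x hx σ p b) 2) = 0 := by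
      rw [h2, Nat.choose_eq_zero_of_lt (by omega)]
    have e1 := h1 (Or.inr (by omega))
    refine ⟨?_, e1, e2⟩
    obtain ⟨q, rfl⟩ : ∃ q : ℕ, p = (q : ℤ) := ⟨p.toNat, by omega⟩
    rw [show ((q : ℤ) + 2).toNat = q + 2 by omega]
    have hq := BlowP2.two_mul_choose_two (q + 2)
    push_cast at hq
    rw [e1, e2] at hχ
    push_cast at hχ
    change (Module.finrank ℂ (Coh.HH X (BlowP2.MI x hx σ (q : ℤ) b) 0) : ℤ) = _
    linarith
  · refine ⟨h0 (by omega), h1 (Or.inr (by omega)), ?_⟩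
    exact h2.trans (Nat.choose_eq_zero_of_lt (by omega))
  · refine ⟨h0 (by omega), ?_, h2⟩
    rw [h0 (by omega), h2] at hχ
    push_cast at hχ
    change (Module.finrank ℂ (Coh.HH X (BlowP2.MI x hx σ p b) 1) : ℤ) = _
    rcases lt_or_ge p (-1) with hp | hp
    · obtain ⟨q, rfl⟩ : ∃ q : ℕ, p = -((q : ℤ) + 1) := ⟨(-p - 1).toNat, by omega⟩
      rw [show (-((q : ℤ) + 1) + 2).toNat = 1 - q by omega, BlowP2.choose_two_low (1 - q) (by omega)]
      rw [show (-(-((q : ℤ) + 1)) - 1).toNat = q by omega] at hχ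
      have hq := BlowP2.two_mul_choose_two q
      linarith
    · obtain ⟨q, rfl⟩ : ∃ q : ℕ, p = (q : ℤ) - 1 := ⟨(p + 1).toNat, by omega⟩
      rw [show ((q : ℤ) - 1 + 2).toNat = q + 1 by omega]
      rw [show (-((q : ℤ) - 1) - 1).toNat = 0 by omega, BlowP2.choose_two_low 0 (by omega)] at hχ
      have hq := BlowP2.two_mul_choose_two (q + 1)
      push_cast at hq
      linarith

end Groth.Agent.S15860
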