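import Groth.Statements.S15861
import Groth.Agent.BlowP2.Tables
-- import your own Groth.Agent.* helpers here

set_option autoImplicit false
open CategoryTheory CategoryTheory.Limits AlgebraicGeometry
open BlowUp

namespace Groth.Agent.S15861

/-- Case of a non-negative coefficient of the exceptional divisor. Let σ : X ⟶ P² be the blow-up of the
complex projective plane at a closed point (universal property), I_E the ideal of the exceptional
curve, H = σ^*O(1), and L an O_X-module with L ⊗ I_E ≅ O_X (L is O_X(E)). For an integer p and a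
natural number b write M = σ^*O(p) ⊗ L^{⊗b} (the line bundle pH + bE) and C(n,2) for the binomial
coefficient, taken to be 0 when n < 2. Then the dimensions h^i = dim H^i(X, M) are: if p + b ≥ 0,
h^0 = C(p+2,2), h^1 = C(b,2) − C(−p−1,2) and h^2 = 0; if p + b = −1, h^0 = h^1 = h^2 = 0; if p + b ≤
−2, h^0 = h^1 = 0 and h^2 = C(−p−1,2) − C(b,2). (The structure of scheme over C on X is the
composite through σ.) -/
theorem result
    (x : ↥(CohB1.ProjSpace 2 ℂ)) (hx : IsClosed ({x} : Set ↥(CohB1.ProjSpace 2 ℂ)))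
    {X : Scheme.{0}} [X.Over (Spec (CommRingCat.of ℂ))] (σ : X ⟶ CohB1.ProjSpace 2 ℂ)
    (hσk : σ ≫ CohB1.ProjSpace.toSpec 2 ℂ = X ↘ Spec (CommRingCat.of ℂ))
    (hσ : BlowUp.IsBlowUp σ (Scheme.IdealSheafData.vanishingIdeal ⟨{x}, hx⟩))
    (L : X.Modules) (hL : ClSub.IsInverseOf L (ClSub.idealMod (BlowUp.exceptional σ (Scheme.IdealSheafData.vanishingIdeal ⟨{x}, hx⟩))))
    (p : ℤ) (b : ℕ) :
    (0 ≤ p + b →
      Module.finrank ℂ (Coh.HH X (CohB1.tensorMod ((Scheme.Modules.pullback σ).obj (Twist.twistProjSpace 2 ℂ p)) (CohB1.tensorPow L b)) 0) = (p + 2).toNat.choose 2 ∧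
      (Module.finrank ℂ (Coh.HH X (CohB1.tensorMod ((Scheme.Modules.pullback σ).obj (Twist.twistProjSpace 2 ℂ p)) (CohB1.tensorPow L b)) 1) : ℤ) = (b.choose 2 : ℤ) - ((-p - 1).toNat.choose 2 : ℤ) ∧
      Module.finrank ℂ (Coh.HH X (CohB1.tensorMod ((Scheme.Modules.pullback σ).obj (Twist.twistProjSpace 2 ℂ p)) (CohB1.tensorPow L b)) 2) = 0) ∧
    (p + b = -1 →
      Module.finrank ℂ (Coh.HH X (CohB1.tensorMod ((Scheme.Modules.pullback σ).obj (Twist.twistProjSpace 2 ℂ p)) (CohB1.tensorPow L b)) 0) = 0 ∧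
      Module.finrank ℂ (Coh.HH X (CohB1.tensorMod ((Scheme.Modules.pullback σ).obj (Twist.twistProjSpace 2 ℂ p)) (CohB1.tensorPow L b)) 1) = 0 ∧
      Module.finrank ℂ (Coh.HH X (CohB1.tensorMod ((Scheme.Modules.pullback σ).obj (Twist.twistProjSpace 2 ℂ p)) (CohB1.tensorPow L b)) 2) = 0) ∧
    (p + b ≤ -2 →
      Module.finrank ℂ (Coh.HH X (CohB1.tensorMod ((Scheme.Modules.pullback σ).obj (Twist.twistProjSpace 2 ℂ p)) (CohB1.tensorPow L b)) 0) = 0 ∧
      Module.finrank ℂ (Coh.HH X (CohB1.tensorMod ((Scheme.Modules.pullback σ).obj (Twist.twistProjSpace 2 ℂ p)) (CohB1.tensorPow L b)) 1) = 0 ∧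
      (Module.finrank ℂ (Coh.HH X (CohB1.tensorMod ((Scheme.Modules.pullback σ).obj (Twist.twistProjSpace 2 ℂ p)) (CohB1.tensorPow L b)) 2) : ℤ) = ((-p - 1).toNat.choose 2 : ℤ) - (b.choose 2 : ℤ)) := by
  haveI := BlowP2.isProper_over x hx σ hσk hσ
  have hχ := BlowP2.euler_ML x hx σ hσk hσ hL p b
  rw [BlowP2.euler_three fun i hi => BlowP2.subsingleton_ML_ge_three x hx σ hσk hσ hL p hi b] at hχ
  have h0 := BlowP2.finrank_ML_zero x hx σ hσk hσ hL p b
  have h1 : p + b < 0 → Module.finrank ℂ (Coh.HH X (BlowP2.ML σ L p b) 1) = 0 := fun h => by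
    haveI := BlowP2.subsingleton_ML_small x hx σ hσ hL p b (by omega) (Or.inr h) 1 one_lt_two
    exact Module.finrank_zero_of_subsingleton
  have h2 : -1 ≤ p + b → Module.finrank ℂ (Coh.HH X (BlowP2.ML σ L p b) 2) = 0 := fun h => by
    haveI := BlowP2.subsingleton_ML_two x hx σ hσk hσ hL p b h
    exact Module.finrank_zero_of_subsingleton
  have hb := BlowP2.two_mul_choose_two b
  refine ⟨fun h => ⟨h0, ?_, h2 (by omega)⟩, fun h => ⟨?_, h1 (by omega), h2 (by omega)⟩,
    fun h => ⟨?_, h1 (by omega), ?_⟩⟩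
  · change (Module.finrank ℂ (Coh.HH X (BlowP2.ML σ L p b) 1) : ℤ) = _
    rw [h0, h2 (by omega)] at hχ
    push_cast at hχ
    rcases lt_or_ge p (-1) with hp | hp
    · obtain ⟨q, rfl⟩ : ∃ q : ℕ, p = -((q : ℤ) + 1) := ⟨(-p - 1).toNat, by omega⟩
      rw [show (-(-((q : ℤ) + 1)) - 1).toNat = q by omega]
      rw [show (-((q : ℤ) + 1) + 2).toNat = 1 - q by omega, BlowP2.choose_two_low (1 - q) (by omega)] at hχ
      have hq := BlowP2.two_mul_choose_two q
      linarith
    · obtain ⟨q, rfl⟩ : ∃ q : ℕ, p = (q : ℤ) - 1 := ⟨(p + 1).toNat, by omega⟩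
      rw [show (-((q : ℤ) - 1) - 1).toNat = 0 by omega, BlowP2.choose_two_low 0 (by omega)]
      rw [show ((q : ℤ) - 1 + 2).toNat = q + 1 by omega] at hχ
      have hq := BlowP2.two_mul_choose_two (q + 1)
      push_cast at hq
      linarith
  · exact h0.trans (Nat.choose_eq_zero_of_lt (by omega))
  · exact h0.trans (Nat.choose_eq_zero_of_lt (by omega))
  · change (Module.finrank ℂ (Coh.HH X (BlowP2.ML σ L p b) 2) : ℤ) = _
    obtain ⟨q, rfl⟩ : ∃ q : ℕ, p = -((q : ℤ) + 1) := ⟨(-p - 1).toNat, by omega⟩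
    rw [show (-(-((q : ℤ) + 1)) - 1).toNat = q by omega]
    rw [h0, h1 (by omega), show (-((q : ℤ) + 1) + 2).toNat = 1 - q by omega,
      BlowP2.choose_two_low (1 - q) (by omega)] at hχ
    push_cast at hχ
    have hq := BlowP2.two_mul_choose_two q
    linarith

end Groth.Agent.S15861
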