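import Groth.Statements.S15878
import Groth.Agent.WeilAff.QuotKer
-- import your own Groth.Agent.* helpers here

set_option backward.isDefEq.respectTransparency false
set_option linter.style.haveILetI false
set_option synthInstance.maxHeartbeats 400000
set_option maxHeartbeats 1000000

set_option autoImplicit false
universe u
open CategoryTheory MonoidalCategory CartesianMonoidalCategory MonObj GrpObj AlgebraicGeometry
open AGF

namespace Groth.Agent.S15878

/-- With k'/k finite purely inseparable, G a k-group locally of finite type, q : G_{k'} → Ḡ a faithfully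
flat homomorphism with quasi-compact kernel onto a commutative k'-group locally of finite type, (R,
q_R) a Weil restriction of Ḡ to k with q_R a homomorphism, H the image of the comparison
homomorphism i : G → R (H a closed subgroup of R through which i factors by a faithfully flat
homomorphism), and π : R → Q the fppf quotient group of R by H: Q is affine and its geometric fibre
has no non-trivial subtorus. (The published statement says that Q is a commutative unipotent
k-group; the absence of geometric subtori is the weaker property recorded here, and commutativity is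
inherited from R.) -/
theorem result (k k' : Type u) [Field k] [Field k']
    [Algebra k k'] [Module.Finite k k'] [IsPurelyInseparable k k']
    (G : Over (Spec (CommRingCat.of k))) [GrpObj G] [LocallyOfFiniteType G.hom]
    (Gbar : Over (Spec (CommRingCat.of k'))) [GrpObj Gbar] [LocallyOfFiniteType Gbar.hom]
    (q : Red.bc (Spec.map (CommRingCat.ofHom (algebraMap k k'))) G ⟶ Gbar) [IsMonHom q] [Surjective q.left] [Flat q.left]
    (N : Over (Spec (CommRingCat.of k'))) (iN : N ⟶ Red.bc (Spec.map (CommRingCat.ofHom (algebraMap k k'))) G) (hN : AlgGrp.IsKernel iN q) [CompactSpace N.left]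
    (R : Over (Spec (CommRingCat.of k))) [GrpObj R] (qR : Red.bc (Spec.map (CommRingCat.ofHom (algebraMap k k'))) R ⟶ Gbar) [IsMonHom qR]
    (hR : WeilRes.IsWeilRes (Spec.map (CommRingCat.ofHom (algebraMap k k'))) Gbar R qR)
    (H : Over (Spec (CommRingCat.of k))) [GrpObj H] (j : H ⟶ R) [IsMonHom j] [IsClosedImmersion j.left]
    (p : G ⟶ H) [IsMonHom p] [Surjective p.left] [Flat p.left] (hfac : p ≫ j = hR.lift G q)
    [IsCommMonObj Gbar]
    (Q : Over (Spec (CommRingCat.of k))) [GrpObj Q] (π : R ⟶ Q) [IsMonHom π] (hQ : RedSub.IsQuotient j π) :
    IsAffine Q.left ∧ (∀ s : ↥(Spec (CommRingCat.of k)), Red.HasNoSubtorus (AlgebraicClosure ((Spec (CommRingCat.of k)).residueField s)) (Red.geomFibre s Q)) := by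
  obtain ⟨hs, hf, hl, hpb⟩ := hQ
  haveI := hs; haveI := hf; haveI := hl
  have hjπ : j ≫ π = 1 := by
    have h := congrArg (fun t => lift (1 : H ⟶ R) (𝟙 H) ≫ t) hpb.w
    simpa only [← Category.assoc, lift_fst, ← Hom.mul_def, lift_whiskerLeft, Category.id_comp, _root_.one_mul, MonObj.one_comp] using h.symm
  exact WeilAff.quot_affine_noSubtorus q qR hR p hfac π hjπ

end Groth.Agent.S15878
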