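import Groth.Statements.S15880
import Groth.Agent.FreeAlgP.Basic
import Groth.Agent.S0024

set_option autoImplicit false
universe u
open CategoryTheory CategoryTheory.Limits AlgebraicGeometry
open CohB1

namespace Groth.Agent.S15880

/-- Let k be a field, s a k-point of P^n_k and f : F → P^n_k a finite morphism whose direct image of the
structure sheaf is isomorphic to the free module O^{⊕d} on P^n_k. Then F is, over P^n_k, isomorphic
to the base change F_s ×_k P^n_k of its fibre at s (existence of an isomorphism over P^n_k). (The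
published statement is the equivalence of categories between finite k-schemes and finite flat
P^n_k-schemes with free direct image of the structure sheaf, with inverse F ↦ s^*F; this row states
its essential surjectivity in the pinned form F ≅ (s^*F) ×_k P^n_k.) -/
theorem result (k : Type u) [Field k] (n d : ℕ)
    (s : Spec (CommRingCat.of k) ⟶ CohB1.ProjSpace n k) (hs : s ≫ CohB1.ProjSpace.toSpec n k = 𝟙 _)
    (F : Scheme.{u}) (f : F ⟶ CohB1.ProjSpace n k) [IsFinite f]
    (e : (Scheme.Modules.pushforward f).obj (SheafOfModules.unit F.ringCatSheaf) ≅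
      ∐ fun _ : ULift.{u} (Fin d) => (SheafOfModules.unit (CohB1.ProjSpace n k).ringCatSheaf :
        (CohB1.ProjSpace n k).Modules)) :
    Nonempty (Over.mk f ≅ Over.mk (pullback.snd (pullback.snd f s) (CohB1.ProjSpace.toSpec n k))) := by
  haveI : IsIso (CohB1.ProjSpace.toSpec n k).appTop := Groth.Agent.S0024.result n k
  let t' : CommRingCat.of k ⟶ Γ(CohB1.ProjSpace n k, ⊤) :=
    (Scheme.ΓSpecIso (CommRingCat.of k)).inv ≫ (CohB1.ProjSpace.toSpec n k).appTop
  have ht : (CohB1.ProjSpace n k).toSpecΓ ≫ Spec.map t' = CohB1.ProjSpace.toSpec n k := by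
    rw [show Spec.map t' = Spec.map (CohB1.ProjSpace.toSpec n k).appTop ≫
        Spec.map (Scheme.ΓSpecIso (CommRingCat.of k)).inv from Spec.map_comp _ _,
      ← Category.assoc, ← Scheme.toSpecΓ_naturality, Category.assoc, toSpecΓ_SpecMap_ΓSpecIso_inv,
      Category.comp_id]
  haveI : IsIso t' := inferInstanceAs (IsIso (_ ≫ _))
  have h1 : IsPullback F.toSpecΓ f (Spec.map f.appTop ≫ Spec.map t') (CohB1.ProjSpace.toSpec n k) :=
    (Groth.Agent.FreeAlgP.isPullback_toSpecΓ f e).flip.of_iso (Iso.refl _) (Iso.refl _) (Iso.refl _) (asIso (Spec.map t'))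
      (by simp) (by simp) (by simp) (by simp [ht])
  have h2 : IsPullback (pullback.fst f s ≫ F.toSpecΓ) (pullback.snd f s) (Spec.map f.appTop ≫ Spec.map t')
      (s ≫ CohB1.ProjSpace.toSpec n k) :=
    (IsPullback.of_hasPullback f s).paste_horiz h1
  rw [hs] at h2
  haveI : IsIso (pullback.fst f s ≫ F.toSpecΓ) := h2.isIso_fst_of_isIso
  have h3 : IsPullback (F.toSpecΓ ≫ inv (pullback.fst f s ≫ F.toSpecΓ)) f (pullback.snd f s)
      (CohB1.ProjSpace.toSpec n k) :=
    h1.of_iso (Iso.refl _) (asIso (pullback.fst f s ≫ F.toSpecΓ)).symm (Iso.refl _) (Iso.refl _)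
      (by simp) (by simp)
      (by rw [Iso.symm_hom, asIso_inv, IsIso.eq_inv_comp, Iso.refl_hom, Category.comp_id, h2.w, Category.comp_id])
      (by simp)
  exact ⟨Over.isoMk h3.isoPullback h3.isoPullback_hom_snd⟩

end Groth.Agent.S15880
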