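import Groth.Statements.S15888
import Groth.Agent.BMCoh.Vanish

set_option autoImplicit false
universe u
open CategoryTheory AlgebraicGeometry Opposite
open BMCoh

namespace Groth.Agent.S15888

/-- Let T be a twisted Borel–Moore cohomology theory with coefficients in A on a constructible class V
of Noetherian schemes, X an object of V whose underlying scheme is integral, and f : U → X a
morphism of V (an open immersion with dim U = dim X) whose image is a big open subset: every point
of X outside the image has codimension at least 2 in X, that is, its closure has dimension less than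
dim X − 1. Then for every coefficient module M and every integer n the restriction map H^2(X, M(n))
→ H^2(U, M(n)) along f is bijective. (The published remark is made for the rank-one Tate-twisted
coefficients of an ℓ-adic theory; the exactness-and-vanishing argument it indicates involves neither
the coefficient module nor the twist, and the statement is made here for all of them.) -/
theorem result (V : ObjectProperty Scheme.{u}) [BMCoh.IsConstructible V] (R : Type u) [CommRing R] (A : BMCoh.Coefs R) (T : BMCoh.TheoryOn V R A) {U X : BMCoh.Obj V} [IsIntegral X.scheme] (f : U ⟶ X) (hbig : ∀ x : X.scheme, x ∉ Set.range f.hom → 2 ≤ WeilCoh.codim X.scheme x) (M : A.Cat) (n : ℤ) : Function.Bijective (T.pull f M 2 n).hom := by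
  have hU₀ : _root_.BMCoh.ContainsFj X 1 f.hom.opensRange := fun y hy ↦ by
    by_contra h
    have := hbig y h
    omega
  let g : U ⟶ X.res f.hom.opensRange :=
    ⟨f.hom.isoOpensRange.hom, inferInstance,
      f.dim_eq.trans (BMCoh.dim_eq_of_containsFj X hU₀).symm⟩
  have : IsIso g.hom := (inferInstance : IsIso f.hom.isoOpensRange.hom)
  have hf : f = g ≫ X.resι _ (BMCoh.dim_eq_of_containsFj X hU₀) :=
    _root_.BMCoh.Hom.ext (Scheme.Hom.isoOpensRange_hom_ι f.hom).symm
  have h := (BMCoh.pull_bijective_of_isIso T.toPreTheory g (M := M) (i := 2) (n := n)).comp
    (BMCoh.pull_open_bijective_of_containsFj T.toPreTheory X (M := M) (i := 2) (n := n) (j := 1)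
      (by norm_num) (fun Y y k n hk ↦ T.pt_vanish Y y M k n hk) hU₀)
  convert h using 1
  funext a
  exact (BMCoh.pull_congr T.toPreTheory (congrArg _root_.BMCoh.Hom.hom hf) a).trans
    (BMCoh.pull_pull T.toPreTheory g _ a).symm

end Groth.Agent.S15888
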