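import Groth.Statements.S15891
import Groth.Agent.HopfSmDim.Versch

set_option autoImplicit false
universe u
open scoped TensorProduct
open Versch

namespace Groth.Agent.S15891

/-- Let p be a prime, R a commutative ring of characteristic p and A a commutative and cocommutative
Hopf algebra over R which is finitely generated and projective as an R-module, of characteristic p
(a finite locally free commutative group scheme G = Spec A over S = Spec R), and let v : A → A^(p) =
A ⊗_R R^(Frob) be the comorphism of the Verschiebung V : G^(p) → G (the ring map whose transpose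
under the canonical pairing is the relative Frobenius of the dual Hopf algebra). Then F ∘ V = [p] is
multiplication by p on the S-group G^(p): the ring endomorphism v ∘ F* of A^(p), where F* : A^(p) →
A is the relative Frobenius comorphism, transported along the symmetry A ⊗_R R^(Frob) ≅ R^(Frob) ⊗_R
A, is the p-th convolution power of the identity of the Hopf algebra R^(Frob) ⊗_R A over R^(Frob)
(the base change of A along the Frobenius of R). (The published notes work over a Noetherian base
ring; the row allows any commutative base ring of characteristic p.) -/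
theorem result (p : ℕ) [Fact p.Prime] (R : Type u) [CommRing R] [CharP R p]
    (A : Type u) [CommRing A] [HopfAlgebra R A] [Coalgebra.IsCocomm R A] [Module.Finite R A] [Module.Projective R A]
    [CharP A p] (v : A →+* FrobAlg.BaseChange p R A) (hv : Versch.IsVerschiebung p R A v) :
    ((Algebra.TensorProduct.comm R A (FrobAlg.Twist p R)).toRingEquiv.toRingHom.comp
        ((v.comp (FrobAlg.relFrob p R A)).comp
          (Algebra.TensorProduct.comm R A (FrobAlg.Twist p R)).symm.toRingEquiv.toRingHom)) =
      (SGA3b.powConv (FrobAlg.Twist p R) (FrobAlg.Twist p R ⊗[R] A) p).toRingHom := by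
  refine RingHom.ext fun z => ?_
  induction z using TensorProduct.induction_on with
  | zero => simp only [map_zero]
  | add z w hz hw => rw [map_add, map_add, hz, hw]
  | tmul s a =>
    have hR : (SGA3b.powConv (FrobAlg.Twist p R) (FrobAlg.Twist p R ⊗[R] A) p).toRingHom (s ⊗ₜ[R] a) =
        s ⊗ₜ[R] SGA3b.powConv R A p a := by
      have e : s ⊗ₜ[R] a = algebraMap (FrobAlg.Twist p R) (FrobAlg.Twist p R ⊗[R] A) s * ((1 : FrobAlg.Twist p R) ⊗ₜ[R] a) := by
        simp
      rw [e, map_mul]
      show SGA3b.powConv (FrobAlg.Twist p R) (FrobAlg.Twist p R ⊗[R] A) p _ * SGA3b.powConv (FrobAlg.Twist p R) (FrobAlg.Twist p R ⊗[R] A) p _ = _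
      rw [AlgHom.commutes, Groth.Agent.VerschComp.powConv_one_tmul]
      simp
    rw [hR]
    show Algebra.TensorProduct.comm R A (FrobAlg.Twist p R) (v (FrobAlg.relFrob p R A (a ⊗ₜ[R] s))) = _
    rw [Groth.Agent.VerschComp.relFrob_tmul, map_mul v, Groth.Agent.VerschComp.verschiebung_pow p v hv,
      Groth.Agent.VerschComp.verschiebung_algebraMap p v hv, Algebra.TensorProduct.tmul_mul_tmul, one_mul, mul_one,
      Algebra.TensorProduct.comm_tmul, RingEquiv.apply_symm_apply]

end Groth.Agent.S15891
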