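import Groth.Statements.S15893
import Mathlib

set_option autoImplicit false
universe u v w
open CartDual

namespace Groth.Agent.S15893

open TensorProduct

/-- Let R be a commutative ring and A, B commutative and cocommutative Hopf algebras over R, each
finitely generated and projective as an R-module (finite locally free commutative group schemes G =
Spec A, H = Spec B over Spec R). Then Cartier duality is a fully faithful contravariant functor: the
map sending a bialgebra homomorphism f : A → B (a homomorphism of group schemes H → G) to its
transpose between the dual Hopf algebras, Hom_R(B, R) → Hom_R(A, R) (the dual homomorphism G^D →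
H^D), is a bijection between bialgebra homomorphisms A → B and bialgebra homomorphisms Hom_R(B, R) →
Hom_R(A, R). (The published statement also asserts that the canonical map to the double dual is an
isomorphism, which makes duality an involutory anti-equivalence; that part is not restated here. The
published notes work over a Noetherian base ring; the row allows any commutative base ring.) -/
theorem result (R : Type u) [CommRing R] (A : Type v) (B : Type w)
    [CommRing A] [HopfAlgebra R A] [Coalgebra.IsCocomm R A] [Module.Finite R A] [Module.Projective R A]
    [CommRing B] [HopfAlgebra R B] [Coalgebra.IsCocomm R B] [Module.Finite R B] [Module.Projective R B] :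
    Function.Bijective (fun f : A →ₐc[R] B => CartDual.transpose R f) := by
  classical
  let dA := CartDual.toDual R A
  let dB := CartDual.toDual R B
  have hsep : ∀ {M : Type w} [AddCommGroup M] [Module R M] [Module.Finite R M] [Module.Projective R M] (x y : M),
      (∀ φ : Module.Dual R M, φ x = φ y) → x = y := fun {M} _ _ _ _ x y h =>
    (Module.evalEquiv R M).injective (LinearMap.ext fun φ => h φ)
  refine ⟨fun f g h => BialgHom.ext fun a => hsep _ _ fun φ => ?_, fun g => ?_⟩
  · exact congrArg (fun F : CartDual.D R B →ₐc[R] CartDual.D R A => (F (WithConv.toConv φ)) a) h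
  · let gl : Module.Dual R B →ₗ[R] Module.Dual R A :=
      (CartDual.toDual R A).toLinearMap ∘ₗ (g : CartDual.D R B →ₗ[R] CartDual.D R A) ∘ₗ (CartDual.toDual R B).symm.toLinearMap
    let f : A →ₗ[R] B := (Module.evalEquiv R B).symm.toLinearMap ∘ₗ gl.dualMap ∘ₗ (Module.evalEquiv R A).toLinearMap
    have hf : ∀ (a : A) (x : CartDual.D R B), x (f a) = g x a := by
      intro a x
      have h1 := LinearMap.congr_fun ((Module.evalEquiv R B).apply_symm_apply (gl.dualMap (Module.evalEquiv R A a))) x.ofConv
      exact h1
    have hone : f 1 = 1 := hsep _ _ fun φ => by
      have h1 := hf 1 (WithConv.toConv φ)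
      have h2 := CoalgHomClass.counit_comp_apply g (WithConv.toConv φ)
      exact h1.trans h2
    have hmul : ∀ a b, f (a * b) = f a * f b := fun a b => hsep _ _ fun φ => by
      let x : CartDual.D R B := WithConv.toConv φ
      have h1 : CartDual.ev₂ R A (Coalgebra.comul (R := R) (g x)) (a ⊗ₜ[R] b) = g x (a * b) :=
        CartDual.ev₂_comul_tmul R A (g x) a b
      have h2 : CartDual.ev₂ R B (Coalgebra.comul (R := R) x) (f a ⊗ₜ[R] f b) = x (f a * f b) :=
        CartDual.ev₂_comul_tmul R B x _ _
      show x (f (a * b)) = x (f a * f b)
      rw [hf, ← h1, ← h2, ← CoalgHomClass.map_comp_comul_apply g x]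
      induction Coalgebra.comul (R := R) x using TensorProduct.induction_on with
      | zero => simp
      | add u v hu hv => simp only [map_add, LinearMap.add_apply, hu, hv]
      | tmul u v => simp [hf]
    let fa : A →ₐ[R] B := AlgHom.ofLinearMap f hone hmul
    have hcounit : ∀ a, Coalgebra.counit (R := R) (f a) = Coalgebra.counit (R := R) a := by
      intro a
      have h1 := hf a 1
      rw [map_one g] at h1
      simpa [LinearMap.convOne_apply] using h1
    have hsep2 : ∀ u v : B ⊗[R] B, (∀ x y : CartDual.D R B, CartDual.ev₂ R B (x ⊗ₜ y) u = CartDual.ev₂ R B (x ⊗ₜ y) v) → u = v := by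
      intro u v h
      refine hsep _ _ fun φ => ?_
      obtain ⟨z, rfl⟩ := (CartDual.ev₂ R B).surjective φ
      induction z using TensorProduct.induction_on with
      | zero => simp
      | add p q hp hq => simp only [map_add, LinearMap.add_apply, hp, hq]
      | tmul x y => exact h x y
    have hcomul : ∀ a, Coalgebra.comul (R := R) (f a) =
        Algebra.TensorProduct.map fa fa (Coalgebra.comul (R := R) a) := by
      intro a
      refine hsep2 _ _ fun x y => ?_
      have e1 : ∀ b : B, CartDual.ev₂ R B (x ⊗ₜ y) (Coalgebra.comul (R := R) b) = (x * y) b := by
        intro b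
        rw [LinearMap.convMul_apply]
        induction Coalgebra.comul (R := R) b using TensorProduct.induction_on with
        | zero => simp
        | add u v hu hv => simp only [map_add, hu, hv]
        | tmul u v => simp
      rw [e1, hf, map_mul g, LinearMap.convMul_apply]
      induction Coalgebra.comul (R := R) a using TensorProduct.induction_on with
      | zero => simp
      | add u v hu hv => simp only [map_add, hu, hv]
      | tmul u v => simp [← hf]; rfl
    refine ⟨BialgHom.ofAlgHom fa (AlgHom.ext fun a => hcounit a) (AlgHom.ext fun a => (hcomul a).symm), ?_⟩
    refine BialgHom.ext fun x => WithConv.ext (LinearMap.ext fun a => ?_)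
    exact hf a x

end Groth.Agent.S15893
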