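import Groth.Statements.S15895
import Groth.Agent.HopfSmDim.Versch

set_option autoImplicit false
universe u
open scoped TensorProduct
open Versch

namespace Groth.Agent.S15895

/-- Let p be a prime, R a commutative ring of characteristic p and B = Hom_R(R[ℤ/p], R) the dual Hopf
algebra of the group algebra of the cyclic group of order p: the Hopf algebra of the constant group
scheme ℤ/p over Spec R (the Cartier dual of μ_p). Let v : B → B ⊗_R R^(Frob) be the comorphism of
the Verschiebung V : (ℤ/p)^(p) → ℤ/p (the ring map whose transpose under the canonical pairing is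
the relative Frobenius of the dual Hopf algebra of B). Then V is the trivial homomorphism: v is the
composite of the counit ε : B → R, the identity of underlying rings R → R^(Frob) and the inclusion
of the twisted factor R^(Frob) → B ⊗_R R^(Frob), i.e. v(b) = 1 ⊗ ε(b). -/
theorem result (p : ℕ) [Fact p.Prime] (R : Type u) [CommRing R]
    [CharP R p] (v : CartDual.D R (MonoidAlgebra R (Multiplicative (ZMod p))) →+* FrobAlg.BaseChange p R (CartDual.D R (MonoidAlgebra R (Multiplicative (ZMod p)))))
    (hv : Versch.IsVerschiebung p R (CartDual.D R (MonoidAlgebra R (Multiplicative (ZMod p)))) v) :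
    v = ((Algebra.TensorProduct.includeRight (R := R) (A := CartDual.D R (MonoidAlgebra R (Multiplicative (ZMod p))))
            (B := FrobAlg.Twist p R)).toRingHom.comp (FrobAlg.toTwist p R).toRingHom).comp
          (Bialgebra.counitAlgHom R (CartDual.D R (MonoidAlgebra R (Multiplicative (ZMod p))))).toRingHom := by
  classical
  let B := CartDual.D R (MonoidAlgebra R (Multiplicative (ZMod p)))
  obtain ⟨n, e, x, hex⟩ := Groth.Agent.VerschComp.exists_dual_basis R B
  refine RingHom.ext fun φ => ?_
  rw [Groth.Agent.VerschComp.verschiebung_apply p e x hex v hv]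
  refine Eq.trans ?_ (Groth.Agent.VerschComp.eq_sum_evTw p e x hex _).symm
  refine Finset.sum_congr rfl fun i _ => ?_
  have key : ∀ X : CartDual.D R B, (X ^ p) φ = X 1 ^ p * φ 1 := by
    intro X
    obtain ⟨a, ha⟩ := (Module.evalEquiv R (MonoidAlgebra R (Multiplicative (ZMod p)))).surjective
      (X.ofConv.comp (CartDual.toDual R (MonoidAlgebra R (Multiplicative (ZMod p)))).symm.toLinearMap)
    have hX : ∀ y : B, X y = y a := fun y => by
      have := LinearMap.congr_fun ha y.ofConv
      simpa [CartDual.coe_apply] using this.symm
    have hpow : ∀ (m : ℕ) (y : B), (X ^ m) y = y (a ^ m) := by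
      intro m
      induction m with
      | zero => intro y; simp [LinearMap.convOne_apply]; exact CartDual.coalgebra_counit_apply (R := R) (A := MonoidAlgebra R (Multiplicative (ZMod p))) y
      | succ m ih =>
        intro y
        rw [pow_succ, LinearMap.convMul_apply, pow_succ]
        have h2 : ∀ t : B ⊗[R] B, LinearMap.mul' R R (TensorProduct.map (X ^ m : CartDual.D R B).ofConv X.ofConv t) =
            CartDual.ev₂ R (MonoidAlgebra R (Multiplicative (ZMod p))) t ((a ^ m) ⊗ₜ[R] a) := by
          intro t
          induction t using TensorProduct.induction_on with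
          | zero => simp
          | add u w hu hw => simp only [map_add, LinearMap.add_apply, hu, hw]
          | tmul u w =>
            rw [TensorProduct.map_tmul, LinearMap.mul'_apply, CartDual.ev₂_tmul, ← ih u, ← hX w]
        rw [h2, CartDual.ev₂_coalgebra_comul_tmul]
    rw [hpow, hX]
    haveI : CharP (MonoidAlgebra R (Multiplicative (ZMod p))) p :=
      charP_of_injective_algebraMap (Bialgebra.algebraMap_injective (R := R) _) p
    have hap : a ^ p = (Coalgebra.counit (R := R) a) ^ p • (1 : MonoidAlgebra R (Multiplicative (ZMod p))) := by
      clear ha hX hpow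
      induction a using MonoidAlgebra.induction_linear with
      | zero => simp [zero_pow (Fact.out : p.Prime).ne_zero]
      | add u w hu hw => rw [add_pow_char, hu, hw, map_add, add_pow_char, add_smul]
      | single g r =>
        have hg : g ^ p = 1 := by
          rw [← toAdd_eq_zero, toAdd_pow, nsmul_eq_mul, ZMod.natCast_self, zero_mul]
        rw [MonoidAlgebra.single_pow, hg]
        simp [MonoidAlgebra.one_def]
    rw [hap]
    have h1 : (1 : B) a = Coalgebra.counit (R := R) a := by simp [B, CartDual.coe_apply, LinearMap.convOne_apply]
    rw [h1]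
    simp [CartDual.coe_apply]
  refine congrArg (fun s => e i ⊗ₜ[R] s) ?_
  show _ = Versch.evTw p R B (x i) ((1 : B) ⊗ₜ[R] FrobAlg.toTwist p R (Coalgebra.counit (R := R) φ))
  rw [Versch.evTw_tmul', ← map_mul, CartDual.coalgebra_counit_apply, key]

end Groth.Agent.S15895
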