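import Groth.Statements.S15896
import Mathlib
import Groth.Agent.FinHopf.Aug
import Groth.Agent.S13404
import Groth.Agent.S15062

set_option autoImplicit false
universe u
open scoped TensorProduct
open Hopf

namespace Groth.Agent.S15896

theorem mulLeft_of_mk {R C : Type u} [CommRing R] [CommRing C] [Algebra R C] (e : C) (he : IsIdempotentElem e)
    (z : C ⊗[R] C) (x : C)
    (h : Algebra.TensorProduct.map (AlgHom.id R C) (Ideal.Quotient.mkₐ R (Ideal.span ({1 - e} : Set C))) z =
      x ⊗ₜ[R] 1) :
    LinearMap.lTensor C (LinearMap.mulLeft R e) z = x ⊗ₜ[R] e := by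
  let I := Ideal.span ({1 - e} : Set C)
  let s : (C ⧸ I) →ₗ[R] C := Submodule.liftQ (I.restrictScalars R) (LinearMap.mulLeft R e) (fun x hx => by
    obtain ⟨c, rfl⟩ := Ideal.mem_span_singleton'.1 hx
    rw [LinearMap.mem_ker, LinearMap.mulLeft_apply, ← mul_assoc, mul_comm e c, mul_assoc, mul_sub, mul_one,
      he.eq, sub_self, mul_zero]) ∘ₗ
    (Submodule.Quotient.restrictScalarsEquiv R I).symm.toLinearMap
  have hs : ∀ y, s (Ideal.Quotient.mk I y) = e * y := fun y => rfl
  have key : ∀ w : C ⊗[R] C, s.lTensor C (Algebra.TensorProduct.map (AlgHom.id R C) (Ideal.Quotient.mkₐ R I) w) =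
      LinearMap.lTensor C (LinearMap.mulLeft R e) w := by
    intro w
    induction w using TensorProduct.induction_on with
    | zero => simp
    | add u v hu hv => simp only [map_add, hu, hv]
    | tmul u v => rfl
  rw [← key, h, LinearMap.lTensor_tmul, show (1 : C ⧸ I) = Ideal.Quotient.mk I 1 from rfl, hs, mul_one]


/-- Let R be a henselian Noetherian local ring and A a commutative and cocommutative Hopf algebra over R
which is finitely generated and projective as an R-module (a finite flat commutative R-group G =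
Spec A). Let e ∈ A be an idempotent with ε(e) = 1 such that the ideal (1 − e) is a Hopf ideal and A⁰
= A/(1 − e) is a local ring, projective over R, with cocommutative quotient structure (G⁰ = Spec A⁰
is the connected component of the unit section). Let B = Hom_R(A⁰, R) be the dual Hopf algebra (the
Cartier dual (G⁰)^D) and e' ∈ B an idempotent with ε(e') = 1 and B/(1 − e') local (the unit
component of (G⁰)^D). Say that x ∈ B is invariant when (id ⊗ (multiplication by e'))(Δ x) = x ⊗ e',
i.e. x is invariant under translation by the unit component of (G⁰)^D, so that the invariant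
elements form the Hopf algebra of the maximal étale quotient of (G⁰)^D; the ideal in A⁰ of the
closed subgroup G_μ ⊆ G⁰ ⊆ G consists of the elements annihilated by every invariant x (G_μ is the
Cartier dual of the étale quotient of (G⁰)^D, a connected multiplicative subgroup of G). Then G_μ is
the largest connected multiplicative closed subgroup of G: for every Hopf ideal J of A such that A/J
is a local ring, projective over R, cocommutative, and has étale dual Hopf algebra Hom_R(A/J, R) (H
= Spec A/J a connected closed subgroup with étale Cartier dual), every a ∈ A whose image in A⁰ is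
annihilated by all invariant x lies in J, i.e. H ⊆ G_μ. -/
theorem result (R : Type u) [CommRing R]
    [HenselianLocalRing R] [IsNoetherianRing R] (A : Type u) [CommRing A] [HopfAlgebra R A] [Coalgebra.IsCocomm R A]
    [Module.Finite R A] [Module.Projective R A] (e : A) (he : IsIdempotentElem e)
    (hε : Bialgebra.counitAlgHom R A e = 1) [(Ideal.span ({1 - e} : Set A)).IsHopfIdeal R] [IsLocalRing (A ⧸ Ideal.span ({1 - e} : Set A))]
    [Module.Projective R (A ⧸ Ideal.span ({1 - e} : Set A))] [Coalgebra.IsCocomm R (A ⧸ Ideal.span ({1 - e} : Set A))]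
    (e' : CartDual.D R (A ⧸ Ideal.span ({1 - e} : Set A))) (he' : IsIdempotentElem e')
    (hε' : Bialgebra.counitAlgHom R (CartDual.D R (A ⧸ Ideal.span ({1 - e} : Set A))) e' = 1)
    [IsLocalRing (CartDual.D R (A ⧸ Ideal.span ({1 - e} : Set A)) ⧸ Ideal.span ({1 - e'} : Set (CartDual.D R (A ⧸ Ideal.span ({1 - e} : Set A)))))]
    (J : Ideal A) [J.IsHopfIdeal R] [IsLocalRing (A ⧸ J)] [Module.Projective R (A ⧸ J)]
    [Coalgebra.IsCocomm R (A ⧸ J)] [Algebra.Etale R (CartDual.D R (A ⧸ J))]
    (a : A) (ha : ∀ x : CartDual.D R (A ⧸ Ideal.span ({1 - e} : Set A)), LinearMap.lTensor (CartDual.D R (A ⧸ Ideal.span ({1 - e} : Set A))) (LinearMap.mulLeft R e') (Coalgebra.comul (R := R) x) = x ⊗ₜ[R] e' → x (Ideal.Quotient.mk (Ideal.span ({1 - e} : Set A)) a) = 0) :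
    a ∈ J := by
  have hle : J ≤ RingHom.ker (Bialgebra.counitAlgHom R A) := fun z hz =>
    (inferInstance : (J.restrictScalars R).IsCoideal).counit_eq_zero hz
  let εJ : A ⧸ J →ₐ[R] R := Ideal.Quotient.liftₐ J (Bialgebra.counitAlgHom R A) fun z hz => hle hz
  have heJ : Ideal.Quotient.mk J e = 1 := by
    refine (IsIdempotentElem.iff_eq_one_of_isUnit ?_).1 (he.map _)
    by_contra hn
    have := ((IsLocalRing.isUnit_or_isUnit_of_add_one (a := Ideal.Quotient.mk J e) (b := 1 - Ideal.Quotient.mk J e)
      (by ring)).resolve_left hn).map εJ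
    rw [map_sub, map_one, show εJ (Ideal.Quotient.mk J e) = 1 from hε, sub_self] at this
    exact not_isUnit_zero this
  have hIJ : (Ideal.span ({1 - e} : Set A)) ≤ J := Ideal.span_le.2 (Set.singleton_subset_iff.2 (by
    rw [SetLike.mem_coe, ← Ideal.Quotient.eq_zero_iff_mem, map_sub, map_one, heJ, sub_self]))
  let φ : A ⧸ (Ideal.span ({1 - e} : Set A)) →ₐ[R] A ⧸ J := Ideal.Quotient.factorₐ R hIJ
  have hcm : ∀ z : A ⊗[R] A,
      Algebra.TensorProduct.map φ φ (Algebra.TensorProduct.map (Ideal.Quotient.mkₐ R (Ideal.span ({1 - e} : Set A))) (Ideal.Quotient.mkₐ R (Ideal.span ({1 - e} : Set A))) z) =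
        Algebra.TensorProduct.map (Ideal.Quotient.mkₐ R J) (Ideal.Quotient.mkₐ R J) z := by
    intro z
    induction z using TensorProduct.induction_on with
    | zero => simp
    | add u v hu hv => simp only [map_add, hu, hv]
    | tmul u v => rfl
  let q : A ⧸ (Ideal.span ({1 - e} : Set A)) →ₐc[R] A ⧸ J := BialgHom.ofAlgHom φ
    (AlgHom.ext fun y => by
      obtain ⟨y, rfl⟩ := Ideal.Quotient.mk_surjective y
      rfl)
    (AlgHom.ext fun y => by
      obtain ⟨y, rfl⟩ := Ideal.Quotient.mk_surjective y
      exact hcm _)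
  let t := CartDual.transpose R q
  refine Ideal.Quotient.eq_zero_iff_mem.1 ?_
  refine (Module.forall_dual_apply_eq_zero_iff R _).1 fun z => ?_
  have hz := (Groth.Agent.S15062.result R (CartDual.D R (A ⧸ (Ideal.span ({1 - e} : Set A)))) e' he' hε').1 (CartDual.D R (A ⧸ J)) t (WithConv.toConv z)
  refine ha (t (WithConv.toConv z)) ?_
  have hz' : Algebra.TensorProduct.map (AlgHom.id R (CartDual.D R (A ⧸ (Ideal.span ({1 - e} : Set A)))))
      (Ideal.Quotient.mkₐ R (Ideal.span ({1 - e'} : Set (CartDual.D R (A ⧸ (Ideal.span ({1 - e} : Set A)))))))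
      (Coalgebra.comul (R := R) (t (WithConv.toConv z))) = t (WithConv.toConv z) ⊗ₜ[R] 1 := hz
  exact mulLeft_of_mk e' he' _ _ hz'

end Groth.Agent.S15896
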