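import Groth.Statements.S15897


set_option autoImplicit false
universe u v
open CartDual

open scoped TensorProduct

namespace Groth.Agent.S15897

/-- Let R be a commutative ring and A a commutative Hopf algebra over R which is finitely generated and
projective as an R-module (a finite locally free R-group scheme G = Spec A, not assumed
commutative). If the convolution product on the dual Hopf algebra Hom_R(A, R) is commutative, then A
is cocommutative, i.e. G is a commutative group scheme. (The dual Hopf algebra is commutative
exactly when A is cocommutative; the other implication is immediate and not stated. The published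
notes work over a Noetherian base ring; the row allows any commutative base ring.) -/
theorem result (R : Type u) [CommRing R] (A : Type v) [CommRing A] [HopfAlgebra R A]
    [Module.Finite R A] [Module.Projective R A] (h : ∀ x y : CartDual.D R A, x * y = y * x) :
    Coalgebra.IsCocomm R A := by
  refine ⟨LinearMap.ext fun a => ?_⟩
  rw [← sub_eq_zero, ← Module.forall_dual_apply_eq_zero_iff R]
  intro φ
  obtain ⟨w, rfl⟩ := (CartDual.dualTensorEquiv R A A).surjective φ
  induction w using TensorProduct.induction_on with
  | zero => simp
  | add x y hx hy => simp only [map_add, LinearMap.add_apply, hx, hy, add_zero]
  | tmul f g =>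
    have h := congr(($(h (WithConv.toConv f) (WithConv.toConv g))).ofConv a)
    rw [LinearMap.convMul_apply, LinearMap.convMul_apply] at h
    simp only [map_sub, LinearMap.comp_apply, LinearEquiv.coe_coe]
    generalize Coalgebra.comul (R := R) a = t at h ⊢
    have e1 : ∀ t : A ⊗[R] A, CartDual.dualTensorEquiv R A A (f ⊗ₜ g) (TensorProduct.comm R A A t) =
        LinearMap.mul' R R (TensorProduct.map g f t) := by
      intro t
      induction t using TensorProduct.induction_on with
      | zero => simp
      | tmul x y => simp [mul_comm]
      | add x y hx hy => simp only [map_add, hx, hy]
    have e2 : ∀ t : A ⊗[R] A, CartDual.dualTensorEquiv R A A (f ⊗ₜ g) t =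
        LinearMap.mul' R R (TensorProduct.map f g t) := by
      intro t
      induction t using TensorProduct.induction_on with
      | zero => simp
      | tmul x y => simp
      | add x y hx hy => simp only [map_add, hx, hy]
    rw [e1, e2, sub_eq_zero]
    exact h.symm

end Groth.Agent.S15897
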