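import Groth.Statements.S15906
-- import your own Groth.Agent.* helpers here
import Groth.Agent.ConicEnum.Basic

set_option autoImplicit false
open Surf

namespace Groth.Agent.S15906

open W4c3severiratdp in
/-- Work in the lattice of vectors (a; b_1, …, b_δ), standing for divisor classes a ℓ − Σ b_i e_i on the
blow-up of the projective plane at δ points written in a standard basis, with intersection form a a'
− Σ b_i b_i' and canonical class K = (−3; −1, …, −1); a conic class is a class Q with Q·Q = 0 and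
K·Q = −2, an exceptional class (the class of a (−1)-curve) is a class E with E·E = −1 and K·E = −1,
and the Weyl group W_δ is the group of additive automorphisms of the lattice preserving the form and
fixing K. For δ = 8, a class (a; b_1, …, b_8) is a conic class if and only if, up to a permutation
of b_1, …, b_8, it is one of the fifteen vectors (1; 1, 0, 0, 0, 0, 0, 0, 0), (2; 1, 1, 1, 1, 0, 0,
0, 0), (3; 2, 1, 1, 1, 1, 1, 0, 0), (4; 2, 2, 2, 1, 1, 1, 1, 0), (4; 3, 1, 1, 1, 1, 1, 1, 1), (5; 2,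
2, 2, 2, 2, 2, 1, 0), (5; 3, 2, 2, 2, 1, 1, 1, 1), (6; 3, 3, 2, 2, 2, 2, 1, 1), (7; 3, 3, 3, 3, 2,
2, 2, 1), (7; 4, 3, 2, 2, 2, 2, 2, 2), (8; 4, 3, 3, 3, 3, 2, 2, 2), (8; 3, 3, 3, 3, 3, 3, 3, 1), (9;
4, 4, 3, 3, 3, 3, 3, 2), (10; 4, 4, 4, 4, 3, 3, 3, 3), (11; 4, 4, 4, 4, 4, 4, 4, 3). (One line of
the published table is illegible in the available copy; the fifteen vectors here are the complete
solution set of the two defining equations a² = Σ b_i², 3a − Σ b_i = 2.) -/
theorem result (v : DP 8) :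
    IsConic v ↔
      ∃ t ∈ ({![1, 1, 0, 0, 0, 0, 0, 0, 0],
        ![2, 1, 1, 1, 1, 0, 0, 0, 0],
        ![3, 2, 1, 1, 1, 1, 1, 0, 0],
        ![4, 2, 2, 2, 1, 1, 1, 1, 0],
        ![4, 3, 1, 1, 1, 1, 1, 1, 1],
        ![5, 2, 2, 2, 2, 2, 2, 1, 0],
        ![5, 3, 2, 2, 2, 1, 1, 1, 1],
        ![6, 3, 3, 2, 2, 2, 2, 1, 1],
        ![7, 3, 3, 3, 3, 2, 2, 2, 1],
        ![7, 4, 3, 2, 2, 2, 2, 2, 2],
        ![8, 4, 3, 3, 3, 3, 2, 2, 2],
        ![8, 3, 3, 3, 3, 3, 3, 3, 1],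
        ![9, 4, 4, 3, 3, 3, 3, 3, 2],
        ![10, 4, 4, 4, 4, 3, 3, 3, 3],
        ![11, 4, 4, 4, 4, 4, 4, 4, 3]} : Set (DP 8)),
        ∃ σ : Equiv.Perm (Fin 8), v 0 = t 0 ∧ ∀ i : Fin 8, v (σ i).succ = t i.succ := by
  classical
  let tblF : List (DP 8) := [![1, 1, 0, 0, 0, 0, 0, 0, 0],
    ![2, 1, 1, 1, 1, 0, 0, 0, 0],
    ![3, 2, 1, 1, 1, 1, 1, 0, 0],
    ![4, 2, 2, 2, 1, 1, 1, 1, 0],
    ![4, 3, 1, 1, 1, 1, 1, 1, 1],
    ![5, 2, 2, 2, 2, 2, 2, 1, 0],
    ![5, 3, 2, 2, 2, 1, 1, 1, 1],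
    ![6, 3, 3, 2, 2, 2, 2, 1, 1],
    ![7, 3, 3, 3, 3, 2, 2, 2, 1],
    ![7, 4, 3, 2, 2, 2, 2, 2, 2],
    ![8, 4, 3, 3, 3, 3, 2, 2, 2],
    ![8, 3, 3, 3, 3, 3, 3, 3, 1],
    ![9, 4, 4, 3, 3, 3, 3, 3, 2],
    ![10, 4, 4, 4, 4, 3, 3, 3, 3],
    ![11, 4, 4, 4, 4, 4, 4, 4, 3]]
  have hconic : IsConic v ↔ List.ofFn v ∈ Groth.Agent.ConicEnum.conics 8 := by
    rw [Groth.Agent.ConicEnum.mem_conics le_rfl]
    simp only [IsConic, form, canon, Fin.cases_zero, Fin.cases_succ, neg_one_mul, Finset.sum_neg_distrib]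
    constructor <;> rintro ⟨h1, h2⟩ <;> constructor <;> linarith
  constructor
  · intro hv
    have key : (Groth.Agent.ConicEnum.conics 8).all (fun l => (tblF.map List.ofFn).any fun t =>
        decide (l.head? = t.head? ∧ l.tail.insertionSort (· ≥ ·) = t.tail)) = true := by decide +kernel
    rw [List.all_eq_true] at key
    have h1 := key _ (hconic.mp hv)
    rw [List.any_eq_true] at h1
    obtain ⟨t, ht, hh⟩ := h1
    rw [decide_eq_true_eq] at hh
    rw [List.mem_map] at ht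
    obtain ⟨t', ht', rfl⟩ := ht
    obtain ⟨hh1, hh2⟩ := hh
    simp only [List.ofFn_succ (n := 8), List.head?_cons] at hh1
    simp only [List.ofFn_succ (n := 8), List.tail_cons] at hh2
    have hperm : (List.ofFn fun i : Fin 8 => t' i.succ).Perm (List.ofFn fun i : Fin 8 => v i.succ) := by
      rw [← hh2]; exact List.perm_insertionSort _ _
    obtain ⟨σ, hσ⟩ : ∃ σ : Equiv.Perm (Fin 8), (fun i : Fin 8 => v i.succ) ∘ σ = fun i : Fin 8 => t' i.succ := by
      let f := fun i : Fin 8 => v i.succ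
      let g := fun i : Fin 8 => t' i.succ
      have hp : (List.ofFn (f ∘ Tuple.sort f)).Perm (List.ofFn (g ∘ Tuple.sort g)) :=
        ((Equiv.Perm.ofFn_comp_perm _ f).trans hperm.symm).trans (Equiv.Perm.ofFn_comp_perm _ g).symm
      have he : f ∘ Tuple.sort f = g ∘ Tuple.sort g := List.ofFn_injective
        (hp.eq_of_sortedLE (Tuple.monotone_sort f).sortedLE_ofFn (Tuple.monotone_sort g).sortedLE_ofFn)
      refine ⟨(Tuple.sort g).symm.trans (Tuple.sort f), funext fun i => ?_⟩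
      have := congrFun he ((Tuple.sort g).symm i)
      simp only [Function.comp_apply, Equiv.apply_symm_apply] at this
      simpa [Equiv.trans_apply] using this
    refine ⟨t', ?_, σ, Option.some.inj hh1, fun i => congrFun hσ i⟩
    simpa [tblF, Set.mem_insert_iff, Set.mem_singleton_iff] using ht'
  · rintro ⟨t, ht, σ, h0, hσ⟩
    have h1 : ∑ i : Fin 8, v i.succ = ∑ i : Fin 8, t i.succ := by
      rw [← Equiv.sum_comp σ fun i => v i.succ]; exact Finset.sum_congr rfl fun i _ => hσ i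
    have h2 : ∑ i : Fin 8, v i.succ * v i.succ = ∑ i : Fin 8, t i.succ * t i.succ := by
      rw [← Equiv.sum_comp σ fun i => v i.succ * v i.succ]
      exact Finset.sum_congr rfl fun i _ => by rw [hσ i]
    simp only [IsConic, form, canon, Fin.cases_zero, Fin.cases_succ, neg_one_mul, Finset.sum_neg_distrib,
      h0, h1, h2]
    simp only [Set.mem_insert_iff, Set.mem_singleton_iff] at ht
    rcases ht with rfl | rfl | rfl | rfl | rfl | rfl | rfl | rfl | rfl | rfl | rfl | rfl | rfl | rfl | rfl <;>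
      decide

end Groth.Agent.S15906
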