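import Groth.Statements.S1591
import Groth.Agent.NodeFib.Open
-- import your own Groth.Agent.* helpers here

set_option autoImplicit false
set_option backward.isDefEq.respectTransparency false
set_option backward.isDefEq.respectTransparency.types false
set_option maxHeartbeats 1000000
universe u
open CategoryTheory CategoryTheory.Limits AlgebraicGeometry
open Curves

namespace Groth.Agent.S1591

/-- Let f : X → S be flat and locally of finite presentation. There is a largest open subscheme U of X
on which f is at-worst-nodal of relative dimension one, and its formation commutes with base change: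
for every g : S' → S the preimage of U in X ×_S S' is the largest open on which the base change of f
is at-worst-nodal of relative dimension one. -/
theorem result {X S : Scheme.{u}} (f : X ⟶ S) [Flat f] [LocallyOfFinitePresentation f] :
    ∃ U : X.Opens, (Curv2.IsNodalFamily (U.ι ≫ f) ∧ ∀ V : X.Opens, Curv2.IsNodalFamily (V.ι ≫ f) → V ≤ U) ∧
      ∀ (S' : Scheme.{u}) (g : S' ⟶ S),
        Curv2.IsNodalFamily ((pullback.fst f g ⁻¹ᵁ U).ι ≫ pullback.snd f g) ∧
        ∀ V : (pullback f g).Opens, Curv2.IsNodalFamily (V.ι ≫ pullback.snd f g) → V ≤ pullback.fst f g ⁻¹ᵁ U := by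
  have hmax : ∀ {X S : Scheme.{u}} (f : X ⟶ S) [Flat f] [LocallyOfFinitePresentation f] (U : X.Opens),
      (∀ x, x ∈ U ↔ NodeFib.Good f x) →
      Curv2.IsNodalFamily (U.ι ≫ f) ∧ ∀ V : X.Opens, Curv2.IsNodalFamily (V.ι ≫ f) → V ≤ U := fun {X S} f _ _ U hU => by
    refine ⟨(NodeFib.isNodalFamily_iff _).2 ⟨inferInstance, inferInstance, fun z =>
      (NodeFib.good_openImmersion_comp U f z).2 ((hU _).1 z.2)⟩, fun V hV x hx => ?_⟩
    exact (hU x).2 ((NodeFib.good_openImmersion_comp V f ⟨x, hx⟩).1
      (((NodeFib.isNodalFamily_iff _).1 hV).2.2 ⟨x, hx⟩))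
  refine ⟨⟨_, NodeFib.isOpen_good f⟩, hmax f _ fun x => Iff.rfl, fun S' g => hmax (pullback.snd f g) _ fun x => ?_⟩
  exact (NodeFib.good_baseChange f g (pullback.fst f g) (pullback.snd f g) (IsPullback.of_hasPullback f g) x).symm

end Groth.Agent.S1591
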