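import Groth.Statements.S15922
import Groth.Agent.CurveRR.Point
import Groth.Agent.CurveRR.Tensor
import Groth.Agent.CurveRR.Multi2
import Groth.Agent.CurveRR.Series

set_option autoImplicit false
universe u
open CategoryTheory CategoryTheory.Limits AlgebraicGeometry
open Curves

set_option backward.isDefEq.respectTransparency false
set_option backward.isDefEq.respectTransparency.types false

open Groth.Agent Groth.Agent.CurveRR Groth.Agent.CohFinite CategoryTheory.Limits

namespace Groth.Agent.S15922

/-- Let k be an algebraically closed field, X a curve over k (proper over k, reduced, connected, every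
irreducible component of dimension one) and P a closed point of X, with m_P the ideal sheaf of the
reduced point P viewed as an O_X-module. Then m_P is a torsion-free sheaf of rank one and degree -1:
regular elements of each local ring O_{X,x} act injectively on the stalk of m_P at x, the stalk at
every generic point of an irreducible component has dimension one over the local ring there, and
χ(X, m_P) - χ(X, O_X) = -1. -/
theorem result (k : Type u) [Field k] [IsAlgClosed k] (X : Scheme.{u}) [X.Over (Spec (CommRingCat.of k))] [IsProper (X ↘ (Spec (CommRingCat.of k)))] [IsReduced X] [ConnectedSpace X]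
    (hequi : ∀ Z ∈ irreducibleComponents (X : Type u), topologicalKrullDim Z = 1)
    (P : X) (hP : IsClosed ({P} : Set X)) :
    TorSh.IsTorsionFree (ClSub.idealMod (Scheme.IdealSheafData.vanishingIdeal ⟨{P}, hP⟩)) ∧
    (∀ η : X, closure ({η} : Set X) ∈ irreducibleComponents (X : Type u) →
      Module.finrank (X.presheaf.stalk η) ((ClSub.idealMod (Scheme.IdealSheafData.vanishingIdeal ⟨{P}, hP⟩)).presheaf.stalk η) = 1) ∧
    Curv2.deg k X (ClSub.idealMod (Scheme.IdealSheafData.vanishingIdeal ⟨{P}, hP⟩)) 1 = -1 := by
  haveI := isNoetherian_of_proper k X
  set I := Scheme.IdealSheafData.vanishingIdeal ⟨{P}, hP⟩ with hI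
  haveI : Mono (ClSub.idealModι I) := inferInstanceAs (Mono (kernel.ι _))
  have hinj : ∀ x : X, Function.Injective ((DerSch.stalkFunctor X x).map (ClSub.idealModι I)).hom := fun x =>
    (ModuleCat.mono_iff_injective _).1 inferInstance
  have hstr : ∀ x : X, ∃ e : X.presheaf.stalk x ≃ₗ[X.presheaf.stalk x] (Coh.structureModule X).presheaf.stalk x, True :=
    fun x => (Multi.nonempty_stalk_equiv TMul.isInvertible_structureModule x).elim fun e => ⟨e, trivial⟩
  refine ⟨fun x => ?_, fun η hη => ?_, ?_⟩
  · obtain ⟨e, -⟩ := hstr x
    exact Function.Injective.moduleIsTorsionFree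
      (f := (e.symm.toLinearMap).comp ((DerSch.stalkFunctor X x).map (ClSub.idealModι I)).hom)
      (e.symm.injective.comp (hinj x)) (fun r m => map_smul _ r m)
  · have hne : η ∉ Set.range I.subschemeι := by
      rw [I.range_subschemeι, hI, Scheme.IdealSheafData.coe_support_vanishingIdeal]
      rintro (h : η = P)
      have h1 := hequi _ hη
      rw [h, hP.closure_eq] at h1
      have h2 := topologicalKrullDim_zero_of_discreteTopology ({P} : Set X)
      rw [h1] at h2
      exact absurd h2 (by decide)
    obtain ⟨e, -⟩ := hstr η
    have hsurj : Function.Surjective ((DerSch.stalkFunctor X η).map (ClSub.idealModι I)).hom := by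
      intro v
      have hsub : Subsingleton ((ClSub.quotMod I).presheaf.stalk η) :=
        subsingleton_stalk fun h => hne (support_push I.subschemeι _ h)
      exact ((ShortComplex.moduleCat_exact_iff _).1
        ((ideal_shortExact I).exact.map (DerSch.stalkFunctor X η))) v (@Subsingleton.elim _ hsub _ _)
    exact (((LinearEquiv.ofBijective _ ⟨hinj η, hsurj⟩).trans e.symm).finrank_eq).trans (Module.finrank_self _)
  · have h := euler_pointIdeal (k := k) hP (TMul.isInvertible_structureModule (X := X))
    rw [euler_eq_of_iso (TMul.commIso _ _ ≪≫ TMul.leftUnitIso _)] at h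
    rw [Curv2.deg, h]
    push_cast
    ring

end Groth.Agent.S15922
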