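import Groth.Statements.S15923
import Groth.Agent.CurvePtCartier.Main
import Groth.Agent.CurveRR.Euler

set_option autoImplicit false
universe u
open CategoryTheory CategoryTheory.Limits AlgebraicGeometry
open Curves

set_option backward.isDefEq.respectTransparency false
set_option backward.isDefEq.respectTransparency.types false

namespace Groth.Agent.S15923

/-- Let k be an algebraically closed field, X a curve over k (proper over k, reduced, connected, every
irreducible component of dimension one) and P a closed point of X, with m_P the ideal sheaf of the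
reduced point P as an O_X-module. Then m_P is invertible (locally on X isomorphic to the structure
sheaf) exactly when some open neighbourhood of P is smooth over k. -/
theorem result (k : Type u) [Field k] [IsAlgClosed k] (X : Scheme.{u}) [X.Over (Spec (CommRingCat.of k))] [IsProper (X ↘ (Spec (CommRingCat.of k)))] [IsReduced X] [ConnectedSpace X]
    (hequi : ∀ Z ∈ irreducibleComponents (X : Type u), topologicalKrullDim Z = 1)
    (P : X) (hP : IsClosed ({P} : Set X)) :
    PicF.IsInvertible (ClSub.idealMod (Scheme.IdealSheafData.vanishingIdeal ⟨{P}, hP⟩)) ↔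
      ∃ U : X.Opens, P ∈ U ∧ Smooth (U.ι ≫ (X ↘ (Spec (CommRingCat.of k)))) := by
  haveI := Groth.Agent.CurveRR.isNoetherian_of_proper k X
  haveI : LocallyOfFinitePresentation (X ↘ Spec (CommRingCat.of k)) :=
    Groth.Agent.InfLift.lfp_of_lft _
  rw [Groth.Agent.CurvePtCartier.isInvertible_iff_regular hequi hP, ← (Groth.Agent.S1561.result k X).1 P]
  constructor
  · intro h
    refine ⟨(X ↘ Spec (CommRingCat.of k)).smoothLocus, h, ?_⟩
    rw [← Scheme.Hom.smoothLocus_eq_top_iff, ← Scheme.Hom.preimage_smoothLocus_eq]
    exact Scheme.Opens.ι_preimage_self _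
  · rintro ⟨U, hPU, hU⟩
    exact Groth.Agent.SmDesc.mem_smoothLocus_of_smooth_ι _ hPU

end Groth.Agent.S15923
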