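import Groth.Statements.S15924
import Groth.Agent.NodeSplit.Main

set_option autoImplicit false
universe u
open CategoryTheory CategoryTheory.Limits AlgebraicGeometry
open Curves

set_option backward.isDefEq.respectTransparency false
set_option backward.isDefEq.respectTransparency.types false

namespace Groth.Agent.S15924

/-- Let k be an algebraically closed field, X a curve over k (proper over k, reduced, connected, every
irreducible component of dimension one) and P a separating node of X, i.e. a closed point which is a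
node and whose complement X ∖ {P} is not connected. Then the ideal sheaf m_P of the reduced point P,
as an O_X-module, is not simple: it admits an idempotent endomorphism other than 0 and the identity.
(The converse, simplicity of m_P when P is not a separating node, also holds but is not part of this
statement.) -/
theorem result (k : Type u) [Field k] [IsAlgClosed k] (X : Scheme.{u}) [X.Over (Spec (CommRingCat.of k))] [IsProper (X ↘ (Spec (CommRingCat.of k)))] [IsReduced X] [ConnectedSpace X]
    (hequi : ∀ Z ∈ irreducibleComponents (X : Type u), topologicalKrullDim Z = 1)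
    (P : X) (hP : IsClosed ({P} : Set X)) (hnode : Curv2.IsNode k X P) (hsep : ¬ IsPreconnected (({P} : Set X)ᶜ)) :
    ∃ e : ClSub.idealMod (Scheme.IdealSheafData.vanishingIdeal ⟨{P}, hP⟩) ⟶ ClSub.idealMod (Scheme.IdealSheafData.vanishingIdeal ⟨{P}, hP⟩),
      e ≫ e = e ∧ e ≠ 0 ∧ e ≠ 𝟙 _ := by
  haveI := Groth.Agent.CurveRR.isNoetherian_of_proper k X
  have hd : topologicalKrullDim X ≤ 1 := Groth.Agent.TopDegRep.topologicalKrullDim_le_of_components X 1 hequi
  have hmax : ¬ Groth.Agent.Unibranch.IsMaxPt P := fun h => by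
    have h1 := hequi _ h.mem_irreducibleComponents
    rw [hP.closure_eq] at h1
    haveI : Subsingleton ↥({P} : Set X) := Set.subsingleton_singleton.coe_sort
    exact absurd (h1 ▸ topologicalKrullDim_zero_of_discreteTopology ({P} : Set X)) (by norm_num)
  have hδ := Groth.Agent.DeltaNorm.deltaInv_of_isNode k hequi hnode
  rw [_root_.IsPreconnected] at hsep
  push Not at hsep
  obtain ⟨u, v, hu, hv, hcov, ⟨y₁, hy₁⟩, ⟨y₂, hy₂⟩, hdisj⟩ := hsep
  let A : X.Opens := ⟨({P} : Set X)ᶜ ∩ u, hP.isOpen_compl.inter hu⟩
  let B : X.Opens := ⟨({P} : Set X)ᶜ ∩ v, hP.isOpen_compl.inter hv⟩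
  refine Groth.Agent.NodeSplit.main hd hP hmax hδ A B (fun y hA hB => ?_) (fun h => h.1 rfl) (fun h => h.1 rfl)
    (fun y hy => (hcov hy).imp (fun h => ⟨hy, h⟩) (fun h => ⟨hy, h⟩)) ⟨y₁, hy₁⟩ ⟨y₂, hy₂⟩
  exact (Set.eq_empty_iff_forall_notMem.1 hdisj) y ⟨hA.1, hA.2, hB.2⟩

end Groth.Agent.S15924
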