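import Groth.Statements.S15926
import Groth.Agent.NodalDeg.Main

set_option autoImplicit false
universe u
open CategoryTheory CategoryTheory.Limits AlgebraicGeometry
open Curves

set_option backward.isDefEq.respectTransparency false
set_option backward.isDefEq.respectTransparency.types false

namespace Groth.Agent.S15926

/-- Let k be an algebraically closed field, X a nodal curve over k (proper over k, connected, every
irreducible component of dimension one, at-worst-nodal singularities), and L, M coherent
torsion-free O_X-modules of rank one (regular elements of each local ring act injectively on the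
stalk; the stalk at each generic point of an irreducible component has dimension one) such that
every point of X has an open neighbourhood on which L or M is isomorphic to the structure sheaf (M
is invertible wherever L is not). Then deg(L ⊗ M) = deg(L) + deg(M), degrees of rank-one sheaves
being χ(X, −) − χ(X, O_X). (L ⊗ M is again torsion-free of rank one; that clause is not part of this
statement.) -/
theorem result (k : Type u) [Field k] [IsAlgClosed k] (X : Scheme.{u}) [X.Over (Spec (CommRingCat.of k))] [IsProper (X ↘ (Spec (CommRingCat.of k)))] [ConnectedSpace X]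
    (hequi : ∀ Z ∈ irreducibleComponents (X : Type u), topologicalKrullDim Z = 1) (hX : Curv2.AtWorstNodal k X)
    (L M : X.Modules) (hLc : Coh.IsCoh L) (hMc : Coh.IsCoh M) (hLt : TorSh.IsTorsionFree L) (hMt : TorSh.IsTorsionFree M)
    (hLr : ∀ η : X, closure ({η} : Set X) ∈ irreducibleComponents (X : Type u) → Module.finrank (X.presheaf.stalk η) (L.presheaf.stalk η) = 1)
    (hMr : ∀ η : X, closure ({η} : Set X) ∈ irreducibleComponents (X : Type u) → Module.finrank (X.presheaf.stalk η) (M.presheaf.stalk η) = 1)
    (hLM : ∀ P : X, (∃ U : X.Opens, P ∈ U ∧ Nonempty (L.restrict U.ι ≅ Coh.structureModule (↑U : Scheme.{u}))) ∨ (∃ U : X.Opens, P ∈ U ∧ Nonempty (M.restrict U.ι ≅ Coh.structureModule (↑U : Scheme.{u})))) :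
    Curv2.deg k X (CohB1.tensorMod L M) 1 = Curv2.deg k X L 1 + Curv2.deg k X M 1 := by
  haveI := CurveRR.isNoetherian_of_proper k X
  haveI : Nonempty (X : Type u) := inferInstance
  obtain ⟨y⟩ := (inferInstance : Nonempty (X : Type u))
  have hdim : topologicalKrullDim X = 1 := by
    have hy := hequi _ (irreducibleComponent_mem_irreducibleComponents y)
    refine le_antisymm ?_ (hy ▸ topologicalKrullDim_subspace_le _ _)
    refine le_trans (Unibranch.topologicalKrullDim_le_of_components (β := ↥(irreducibleComponent y))
      fun Z hZ => ⟨Set.univ, ?_⟩) hy.le
    rw [hequi Z hZ, ← hy]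
    exact ((Homeomorph.Set.univ _).isHomeomorph.topologicalKrullDim_eq).symm
  exact NodalDeg.deg_tensor_rankOne (k := k) hdim (NodalRed.isReduced_stalk k X hX) hLc hMc hLr hMr
    fun x => (hLM x).imp NodalDeg.exists_gen_of_iso NodalDeg.exists_gen_of_iso

end Groth.Agent.S15926
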