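import Groth.Statements.S1593
import Groth.Agent.NodeFib.Family
import Groth.Agent.Grpd.FlatComp
-- import your own Groth.Agent.* helpers here

set_option autoImplicit false
set_option backward.isDefEq.respectTransparency false
set_option backward.isDefEq.respectTransparency.types false
set_option maxHeartbeats 1000000
universe u
open CategoryTheory CategoryTheory.Limits AlgebraicGeometry
open Curves

namespace Groth.Agent.S1593

/-- Being an at-worst-nodal family of curves is étale local on the source: let f : X → S be a morphism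
and g_i : U_i → X a jointly surjective family of étale morphisms. If every composite g_i ≫ f is
at-worst-nodal of relative dimension one, then so is f. -/
theorem result {X S : Scheme.{u}} (f : X ⟶ S) (ι : Type u) (U : ι → Scheme.{u})
    (g : ∀ i, U i ⟶ X) [∀ i, Etale (g i)] (hsurj : ∀ x : X, ∃ i, x ∈ Set.range (g i).base)
    (h : ∀ i, Curv2.IsNodalFamily (g i ≫ f)) : Curv2.IsNodalFamily f := by
  have h' := fun i => (NodeFib.isNodalFamily_iff _).1 (h i)
  let p : (∐ U) ⟶ X := Sigma.desc g
  haveI : Etale p := by
    rw [IsZariskiLocalAtSource.iff_of_openCover (P := @Etale) (sigmaOpenCover _)]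
    intro i
    show Etale (Sigma.ι U i ≫ p)
    rw [Sigma.ι_desc]
    infer_instance
  haveI : Surjective p := ⟨fun x => by
    obtain ⟨i, y, rfl⟩ := hsurj x
    refine ⟨Sigma.ι U i y, ?_⟩
    rw [← Scheme.Hom.comp_apply, Sigma.ι_desc]⟩
  haveI : LocallyOfFinitePresentation (p ≫ f) := by
    rw [IsZariskiLocalAtSource.iff_of_openCover (P := @LocallyOfFinitePresentation) (sigmaOpenCover _)]
    intro i
    show LocallyOfFinitePresentation (Sigma.ι U i ≫ p ≫ f)
    rw [Sigma.ι_desc_assoc]
    exact (h' i).2.1
  haveI : Flat (p ≫ f) := by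
    rw [IsZariskiLocalAtSource.iff_of_openCover (P := @Flat) (sigmaOpenCover _)]
    intro i
    show Flat (Sigma.ι U i ≫ p ≫ f)
    rw [Sigma.ι_desc_assoc]
    exact (h' i).1
  haveI : LocallyOfFinitePresentation f := AlgSpLib.SrcDesc.lfp p f
  haveI : Flat f := GrpdLib.flat_of_flat_comp p f
  refine (NodeFib.isNodalFamily_iff _).2 ⟨inferInstance, inferInstance, fun x => ?_⟩
  obtain ⟨i, y, rfl⟩ := hsurj x
  exact (NodeFib.good_etale_comp (g i) f y).1 ((h' i).2.2 y)

end Groth.Agent.S1593
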