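import Groth.Statements.S15936
import Groth.Agent.W7SeeK.Glue
import Groth.Agent.W7See.Fibre
import Groth.Agent.LBDesc.App
import Groth.Agent.AVOmega.Push
import Groth.Agent.CurveRR.Curve
import Groth.Agent.ParaFLib.Ext
import Groth.Agent.ResDesc.ResProp

set_option autoImplicit false
universe u
open CategoryTheory CategoryTheory.Limits AlgebraicGeometry
open Canon

set_option backward.isDefEq.respectTransparency false
set_option backward.isDefEq.respectTransparency.types false

namespace Groth.Agent.S15936

/-- Let S be a locally Noetherian scheme and f : X ⟶ S a locally projective morphism, smooth of relative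
dimension n, whose fibres are non-empty and geometrically connected; let ω be an n-th exterior power
of the sheaf of relative differentials of f (the relative canonical sheaf K_{X/S}) and let m ≥ 1 be
an integer such that the evaluation map f^* f_* K^{⊗m} ⟶ K^{⊗m}, the counit of the adjunction
between pullback and pushforward of modules, is an isomorphism. Then the direct image f_* K^{⊗m} is
an invertible O_S-module: finite locally free of rank one. (The published statement has f projective
and smooth, of possibly varying relative dimension, and also asserts that the formation of f_*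
K^{⊗m} commutes with base change; this row takes f locally projective of constant relative dimension
n and states the invertibility only.) -/
theorem result
    {X S : Scheme.{u}} [IsLocallyNoetherian S] (f : X ⟶ S)
    (hproj : RedSub.IsLocallyProjective (Over.mk f))
    (n : ℕ) [SmoothOfRelativeDimension n f] [GeometricallyConnected f]
    (ω : X.Modules) (hω : Canon.IsTopDiff f n ω) (m : ℕ) (hm : 1 ≤ m)
    (hev : IsIso ((Scheme.Modules.pullbackPushforwardAdjunction f).counit.app (CohB1.tensorPow ω m))) :
    FlatMod.IsFinLocFreeOfRank 1 ((Scheme.Modules.pushforward f).obj (CohB1.tensorPow ω m)) := by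
  haveI : IsProper f := Groth.Agent.W7SeeK.isProper_of_isLocallyProjective f hproj
  haveI : Smooth f := SmoothOfRelativeDimension.smooth n f
  haveI : GeometricallyReduced f := Groth.Agent.Rigid.geometricallyReduced_of_smooth f
  haveI : Surjective f := inferInstance
  have hL : PicF.IsInvertible (CohB1.tensorPow ω m) := Groth.Agent.W7SeeK.isInvertible_pow f n hω m
  let L := CohB1.tensorPow ω m
  have hf : ∀ U : S.Opens, Function.Bijective (f.app U) :=
    Groth.Agent.W7See.app_bijective_of_local f fun y =>
      Groth.Agent.W7Hull.exists_nhd_app_bijective f y (Groth.Agent.W7See.bijective_fiber f y)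
  haveI := hev
  let c : (Scheme.Modules.pullback f).obj ((Scheme.Modules.pushforward f).obj L) ≅ L :=
    asIso ((Scheme.Modules.pullbackPushforwardAdjunction f).counit.app L)
  let i : (Scheme.Modules.pullback (pullback.fst f f)).obj L ≅ (Scheme.Modules.pullback (pullback.snd f f)).obj L :=
    (Scheme.Modules.pullback (pullback.fst f f)).mapIso c.symm ≪≫
      (Scheme.Modules.pullbackComp (pullback.fst f f) f).app _ ≪≫
      (Scheme.Modules.pullbackCongr pullback.condition).app _ ≪≫
      ((Scheme.Modules.pullbackComp (pullback.snd f f) f).app _).symm ≪≫
      (Scheme.Modules.pullback (pullback.snd f f)).mapIso c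
  obtain ⟨N, hN, ⟨j⟩⟩ := Groth.Agent.LBDesc.exists_eq_pullback_of_fpqc f hf f hL hL i
  haveI := Groth.Agent.AVOmega.isIso_unit_of_finLocFree f
    (fun W => (ConcreteCategory.isIso_iff_bijective _).mpr (hf W))
    (Groth.Agent.ResDesc.isFinLocFree_of_isInvertible hN)
  refine Groth.Agent.CurveRR.isFinLocFreeOfRank_one (Groth.Agent.ParaFLib.isInvertible_of_iso
    ((asIso ((Scheme.Modules.pullbackPushforwardAdjunction f).unit.app N)) ≪≫ (Scheme.Modules.pushforward f).mapIso j.symm) hN)

end Groth.Agent.S15936
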