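import Groth.Statements.S15938
import Groth.Agent.W7SeeK.Glue
import Groth.Agent.PerfPush.H0
import Groth.Agent.AlgSpLib.Reduced
import Groth.Agent.ExtFund.SmoothPn
import Groth.Agent.ExtFund.CanonRows
import Groth.Agent.W7Hull.FlatTwist
import Groth.Agent.ResDesc.ResProp
import Groth.Agent.FppfModDesc.Descent
import Groth.Agent.AVOmega.Push
import Groth.Agent.K0Coh.Basic

set_option autoImplicit false
universe u
open CategoryTheory CategoryTheory.Limits AlgebraicGeometry
open Canon

set_option backward.isDefEq.respectTransparency false
set_option backward.isDefEq.respectTransparency.types false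

namespace Groth.Agent.S15938

/-- Let S be a locally Noetherian scheme, f : X ⟶ S locally projective and smooth of relative dimension
n with non-empty geometrically connected fibres, ω an n-th exterior power of the relative
differentials (the relative canonical sheaf K_{X/S}), and m ≥ 1 such that the evaluation map f^* f_*
K^{⊗m} ⟶ K^{⊗m} is an isomorphism. Then the formation of f_* K^{⊗m} commutes with base change: for
every morphism g : S′ ⟶ S with S′ locally Noetherian, writing f′ : X ×_S S′ ⟶ S′ and g′ : X ×_S S′ ⟶
X for the projections, the base-change morphism g^* f_* K^{⊗m} ⟶ f′_* g′^* K^{⊗m} (adjoint to g′^*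
of the evaluation map, through the canonical identifications of iterated pullbacks) is an
isomorphism. (The published statement has f projective and smooth, of possibly varying relative
dimension; this row takes f locally projective of constant relative dimension n and base changes by
locally Noetherian schemes.) -/
theorem result
    {X S : Scheme.{u}} [IsLocallyNoetherian S] (f : X ⟶ S)
    (hproj : RedSub.IsLocallyProjective (Over.mk f))
    (n : ℕ) [SmoothOfRelativeDimension n f] [GeometricallyConnected f]
    (ω : X.Modules) (hω : Canon.IsTopDiff f n ω) (m : ℕ) (hm : 1 ≤ m)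
    (hev : IsIso ((Scheme.Modules.pullbackPushforwardAdjunction f).counit.app (CohB1.tensorPow ω m)))
    {S' : Scheme.{u}} [IsLocallyNoetherian S'] (g : S' ⟶ S) :
    IsIso (((Scheme.Modules.pullbackPushforwardAdjunction (pullback.snd f g)).homEquiv _ _)
      ((Scheme.Modules.pullbackComp (pullback.snd f g) g).hom.app _ ≫
        (Scheme.Modules.pullbackCongr (pullback.condition (f := f) (g := g))).inv.app _ ≫
        (Scheme.Modules.pullbackComp (pullback.fst f g) f).inv.app _ ≫
        (Scheme.Modules.pullback (pullback.fst f g)).map
          ((Scheme.Modules.pullbackPushforwardAdjunction f).counit.app (CohB1.tensorPow ω m)))) := by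
  haveI : IsProper f := Groth.Agent.W7SeeK.isProper_of_isLocallyProjective f hproj
  haveI : Smooth f := SmoothOfRelativeDimension.smooth n f
  haveI : Smooth (pullback.snd f g) := MorphismProperty.pullback_snd _ _ ‹Smooth f›
  haveI : IsProper (pullback.snd f g) := MorphismProperty.pullback_snd _ _ ‹IsProper f›
  haveI : GeometricallyConnected (pullback.snd f g) := MorphismProperty.pullback_snd _ _ ‹GeometricallyConnected f›
  have happ : ∀ V, IsIso ((pullback.snd f g).app V) := fun V => by
    refine Groth.Agent.PerfPush.isIso_app _ (fun s => ?_) V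
    refine Groth.Agent.PerfPush.isIso_fiber_appTop _ (fun K _ _ t => ⟨?_, ?_⟩) s
    · haveI : Smooth (pullback.snd (pullback.snd f g) t) := MorphismProperty.pullback_snd _ _ ‹Smooth (pullback.snd f g)›
      exact Groth.Agent.AlgSpLib.isReduced_of_smooth (pullback.snd (pullback.snd f g) t)
    · exact GeometricallyConnected.geometrically_connectedSpace (f := pullback.snd f g) t _ _ (IsPullback.of_hasPullback _ t)
  haveI := hev
  have hL : PicF.IsInvertible (CohB1.tensorPow ω m) :=
    TMul.isInvertible_tensorPow (Groth.Agent.ExtFund.isInvertible_of_hasDet (Groth.Agent.ExtFund.hasDet_omega f n hω)) m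
  have hpb : FlatMod.IsFinLocFree ((Scheme.Modules.pullback f).obj ((Scheme.Modules.pushforward f).obj (CohB1.tensorPow ω m))) :=
    Groth.Agent.W7Hull.isFinLocFree_of_iso
      (asIso ((Scheme.Modules.pullbackPushforwardAdjunction f).counit.app (CohB1.tensorPow ω m))).symm
      (Groth.Agent.ResDesc.isFinLocFree_of_isInvertible hL)
  haveI : Surjective f := ⟨fun s => by
    haveI : ConnectedSpace ↥(f.fiber s) :=
      GeometricallyConnected.geometrically_connectedSpace (f := f) (S.fromSpecResidueField s) _ _
        (IsPullback.of_hasPullback f (S.fromSpecResidueField s))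
    obtain ⟨y⟩ := (inferInstance : Nonempty ↥(f.fiber s))
    exact ⟨f.fiberι s y, by rw [← Scheme.Hom.comp_apply, Scheme.Hom.fiber_fac, Scheme.Hom.comp_apply,
      Scheme.fromSpecResidueField_apply]⟩⟩
  have hEq : Coh.IsQCoh ((Scheme.Modules.pushforward f).obj (CohB1.tensorPow ω m)) := by
    haveI : (CohB1.tensorPow ω m).IsQuasicoherent := (Groth.Agent.K0Coh.isCoh_of_isFinLocFree
      (Groth.Agent.ResDesc.isFinLocFree_of_isInvertible hL)).1
    exact Groth.Agent.QC.isQCoh_pushforward f
  have hE : FlatMod.IsFinLocFree ((Scheme.Modules.pushforward f).obj (CohB1.tensorPow ω m)) :=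
    Groth.Agent.FppfModDesc.isFinLocFree_of_cover hEq f.singleton_mem_fppfPrecoverage (fun V v hv => by
      cases hv
      exact hpb)
  haveI := Groth.Agent.AVOmega.isIso_unit_of_finLocFree (pullback.snd f g) happ
    (Groth.Agent.DerPerf.isFinLocFree_pullback g hE)
  rw [Adjunction.homEquiv_unit]
  infer_instance

end Groth.Agent.S15938
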