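import Groth.Statements.S15939
import Mathlib.FieldTheory.PurelyInseparable.Basic
import Mathlib.FieldTheory.SeparableClosure
import Mathlib.RingTheory.AdjoinRoot
import Mathlib.FieldTheory.KummerPolynomial
import Mathlib.Algebra.DualNumber
import Mathlib.RingTheory.Artinian.Module
import Mathlib.RingTheory.Adjoin.Polynomial.Basic
import Mathlib.Algebra.Polynomial.Expand
import Mathlib.Tactic.LinearCombination
import Mathlib.Order.Atoms

set_option autoImplicit false
universe u
open CAlg

namespace Groth.Agent.S15939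

open Polynomial in
/-- Let κ be a field and A a commutative κ-algebra whose only κ-subalgebras are the image of κ and A
itself, these two being different. Then A is finite-dimensional over κ, and A is isomorphic as a
κ-algebra to the dual numbers over κ, or to κ × κ, or A is a field which is either separable over κ
or isomorphic to κ[X]/(X^p - a) with p the (positive) characteristic of κ and a an element of κ that
is not a p-th power. (The published statement also records that these four cases exclude one
another; that part is not restated.) -/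
theorem result (κ A : Type u) [Field κ] [CommRing A] [Algebra κ A]
    (h : IsSimpleOrder (Subalgebra κ A)) :
    FiniteDimensional κ A ∧
    (Nonempty (A ≃ₐ[κ] DualNumber κ) ∨ Nonempty (A ≃ₐ[κ] (κ × κ)) ∨
      (IsField A ∧ (Algebra.IsSeparable κ A ∨
        ∃ (p : ℕ) (a : κ), p.Prime ∧ CharP κ p ∧ (∀ b : κ, b ^ p ≠ a) ∧
          Nonempty (A ≃ₐ[κ] AdjoinRoot (X ^ p - C a))))) := by
  classical
  have hne : Nontrivial A := by
    by_contra hA
    rw [not_nontrivial_iff_subsingleton] at hA
    exact h.toNontrivial.exists_pair_ne.elim fun a ⟨b, hab⟩ => hab (SetLike.ext fun x => by simp [Subsingleton.elim x 0])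
  have hgen : ∀ (S : Subalgebra κ A) (x : A), x ∈ S → x ∉ (⊥ : Subalgebra κ A) → S = ⊤ := fun S x hx hx' =>
    (h.eq_bot_or_eq_top S).resolve_left fun hS => hx' (hS ▸ hx)
  obtain ⟨x, hx⟩ : ∃ x : A, x ∉ (⊥ : Subalgebra κ A) := by
    by_contra! hh
    exact h.toNontrivial.exists_pair_ne.elim fun a ⟨b, hab⟩ => hab (by
      have hb : (⊥ : Subalgebra κ A) = ⊤ := eq_top_iff.mpr fun y _ => hh y
      exact (h.eq_bot_or_eq_top a).elim (fun ha => (h.eq_bot_or_eq_top b).elim (fun hb' => ha.trans hb'.symm) (fun hb' => ha.trans (hb.trans hb'.symm)))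
        (fun ha => (h.eq_bot_or_eq_top b).elim (fun hb' => ha.trans (hb.symm.trans hb'.symm)) (fun hb' => ha.trans hb'.symm)))
  have hint : IsIntegral κ x := by
    by_contra hnot
    have htr : Transcendental κ x := fun halg => hnot halg.isIntegral
    have hx2 : x ^ 2 ∉ (⊥ : Subalgebra κ A) := by
      intro h2
      obtain ⟨c, hc⟩ := Algebra.mem_bot.mp h2
      exact hnot ⟨Polynomial.X ^ 2 - Polynomial.C c, Polynomial.monic_X_pow_sub_C _ two_ne_zero, by simp [hc]⟩
    have hmem : x ∈ Algebra.adjoin κ ({x ^ 2} : Set A) := by rw [hgen _ (x ^ 2) (Algebra.self_mem_adjoin_singleton κ _) hx2]; exact Algebra.mem_top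
    rw [Algebra.adjoin_singleton_eq_range_aeval] at hmem
    obtain ⟨P, hP⟩ := hmem
    change Polynomial.aeval (x ^ 2) P = x at hP
    refine htr ⟨Polynomial.expand κ 2 P - Polynomial.X, fun h0 => ?_, by simp [Polynomial.expand_aeval, hP]⟩
    have := congrArg (fun Q => Polynomial.coeff Q 1) h0
    simp [Polynomial.coeff_expand] at this
  have hfin : FiniteDimensional κ A := by
    have h1 := hint.fg_adjoin_singleton
    rw [hgen _ x (Algebra.self_mem_adjoin_singleton κ x) hx, Algebra.top_toSubmodule] at h1
    exact Module.finite_def.mpr h1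
  refine ⟨hfin, ?_⟩
  by_cases hA : IsField A
  · refine Or.inr (Or.inr ⟨hA, ?_⟩)
    let F : Field A := hA.toField
    rw [or_iff_not_imp_left]
    intro hsep
    obtain ⟨p, hep⟩ : ∃ p, ExpChar κ p := ⟨_, ringExpChar.expChar κ⟩
    haveI := hep
    have hbot : separableClosure κ A = ⊥ := by
      rcases h.eq_bot_or_eq_top (separableClosure κ A).toSubalgebra with h1 | h1
      · exact IntermediateField.toSubalgebra_injective (h1.trans IntermediateField.bot_toSubalgebra.symm)
      · exact absurd ((separableClosure.eq_top_iff κ A).mp (IntermediateField.toSubalgebra_injective (h1.trans IntermediateField.top_toSubalgebra.symm))) hsep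
    have hpi : IsPurelyInseparable κ A := separableClosure.eq_bot_iff.mp hbot
    obtain ⟨n, hn⟩ := (isPurelyInseparable_iff_pow_mem κ p).mp hpi x
    let N := Nat.find (p := fun n => x ^ p ^ n ∈ (⊥ : Subalgebra κ A)) ⟨n, Algebra.mem_bot.mpr hn⟩
    have hN : x ^ p ^ N ∈ (⊥ : Subalgebra κ A) := Nat.find_spec (p := fun n => x ^ p ^ n ∈ (⊥ : Subalgebra κ A)) ⟨n, Algebra.mem_bot.mpr hn⟩
    obtain ⟨M, hM⟩ : ∃ M, N = M + 1 := Nat.exists_eq_succ_of_ne_zero fun h0 => hx (by simpa [h0] using hN)
    have hy : x ^ p ^ M ∉ (⊥ : Subalgebra κ A) := Nat.find_min (p := fun n => x ^ p ^ n ∈ (⊥ : Subalgebra κ A)) ⟨n, Algebra.mem_bot.mpr hn⟩ (show M < N by omega)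
    set y := x ^ p ^ M with hydef
    obtain ⟨a, ha⟩ : ∃ a : κ, algebraMap κ A a = y ^ p := by
      obtain ⟨a, ha⟩ := Algebra.mem_bot.mp hN
      exact ⟨a, by rw [ha, hydef, ← pow_mul, ← pow_succ, hM]⟩
    have hp : p.Prime ∧ CharP κ p := by
      rcases hep with _ | ⟨hp⟩
      · exact absurd (Algebra.mem_bot.mpr ⟨a, by simpa using ha⟩) hy
      · exact ⟨hp, inferInstance⟩
    have : Fact p.Prime := ⟨hp.1⟩
    haveI := hp.2
    have hnot : ∀ b : κ, b ^ p ≠ a := by
      intro b hb
      haveI : CharP A p := charP_of_injective_algebraMap (algebraMap κ A).injective p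
      refine hy (Algebra.mem_bot.mpr ⟨b, frobenius_inj A p ?_⟩)
      simp only [frobenius_def]
      rw [← ha, ← map_pow, hb]
    refine ⟨p, a, hp.1, hp.2, hnot, ?_⟩
    have hirr := X_pow_sub_C_irreducible_of_prime hp.1 hnot
    haveI : Fact (Irreducible (Polynomial.X ^ p - Polynomial.C a)) := ⟨hirr⟩
    let φ : AdjoinRoot (Polynomial.X ^ p - Polynomial.C a) →ₐ[κ] A := AdjoinRoot.liftAlgHom _ (Algebra.ofId κ A) y (by
      simp [ha])
    have hyr : y ∈ φ.range := ⟨AdjoinRoot.root _, by simp [φ]⟩
    exact ⟨(AlgEquiv.ofBijective φ ⟨φ.toRingHom.injective, AlgHom.range_eq_top φ |>.mp (hgen _ y hyr hy)⟩).symm⟩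
  · obtain ⟨a, ha0, hau⟩ : ∃ a : A, a ≠ 0 ∧ ¬ IsUnit a := by
      by_contra! hh
      exact hA ⟨exists_pair_ne A, mul_comm, fun {a} ha => ⟨(((hh a ha).unit⁻¹ : Aˣ) : A), (hh a ha).mul_val_inv⟩⟩
    haveI : IsArtinianRing A := IsArtinianRing.of_finite κ A
    obtain ⟨n, b, hb⟩ := IsArtinian.exists_pow_succ_smul_dvd a (1 : A)
    simp only [smul_eq_mul, mul_one] at hb
    have hk : ∀ k, a ^ (n + k) * b ^ k = a ^ n := by
      intro k
      induction k with
      | zero => simp
      | succ k ih =>
        calc a ^ (n + (k + 1)) * b ^ (k + 1) = a ^ k * (a ^ n.succ * b) * b ^ k := by rw [Nat.succ_eq_add_one]; ring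
          _ = a ^ (n + k) * b ^ k := by rw [hb]; ring
          _ = a ^ n := ih
    let e := a ^ n * b ^ n
    have he : e * e = e := by
      calc e * e = (a ^ (n + n) * b ^ n) * b ^ n := by simp only [e]; ring
        _ = e := by rw [hk n]
    by_cases he0 : e = 0
    · have hnil : ∃ k, a ^ k = 0 := ⟨n, by rw [← hk n, pow_add, mul_assoc, show a ^ n * b ^ n = e from rfl, he0, mul_zero]⟩
      let k := Nat.find hnil
      have hk0 : a ^ k = 0 := Nat.find_spec hnil
      have hk1 : 2 ≤ k := by
        by_contra hlt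
        rcases (show k = 0 ∨ k = 1 by omega) with h1 | h1
        · rw [h1, pow_zero] at hk0; exact one_ne_zero hk0
        · rw [h1, pow_one] at hk0; exact ha0 hk0
      let η := a ^ (k - 1)
      have hη : η ≠ 0 := Nat.find_min hnil (show k - 1 < k by omega)
      have hη2 : η * η = 0 := by rw [← pow_add]; exact pow_eq_zero_of_le (by omega) hk0
      have hηb : η ∉ (⊥ : Subalgebra κ A) := fun hm => by
        obtain ⟨c, hc⟩ := Algebra.mem_bot.mp hm
        rw [← hc, ← map_mul, map_eq_zero, mul_self_eq_zero] at hη2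
        exact hη (by rw [← hc, hη2, map_zero])
      left
      let φ : DualNumber κ →ₐ[κ] A := DualNumber.lift ⟨(Algebra.ofId κ A, η), hη2, fun _ => Commute.all _ _⟩
      have hφ : ∀ z : DualNumber κ, φ z = algebraMap κ A z.fst + z.snd • η := fun z => by
        rw [DualNumber.lift_apply_apply, Algebra.smul_def]; rfl
      have hinj : Function.Injective φ := by
        rw [injective_iff_map_eq_zero]
        intro z hz
        rw [hφ] at hz
        have hs : TrivSqZeroExt.snd z = 0 := by
          by_contra hs
          refine hηb (Algebra.mem_bot.mpr ⟨-(TrivSqZeroExt.snd z)⁻¹ * TrivSqZeroExt.fst z, ?_⟩)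
          rw [← Algebra.algebraMap_self_apply (R := A) η] at hz
          have := congrArg (fun w => (TrivSqZeroExt.snd z)⁻¹ • w) hz
          simp only [smul_add, smul_zero, smul_smul, inv_mul_cancel₀ hs, one_smul, Algebra.algebraMap_self_apply] at this
          rw [map_mul, map_neg, ← eq_neg_of_add_eq_zero_right this |>.symm, Algebra.smul_def, neg_mul]
        rw [hs, zero_smul, add_zero, map_eq_zero] at hz
        exact TrivSqZeroExt.ext hz hs
      have hr : η ∈ φ.range := ⟨DualNumber.eps, DualNumber.lift_apply_eps _⟩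
      exact ⟨(AlgEquiv.ofBijective φ ⟨hinj, AlgHom.range_eq_top φ |>.mp (hgen _ η hr hηb)⟩).symm⟩
    · right; left
      have he1 : e ≠ 1 := by
        intro h1
        refine hau (IsUnit.of_mul_eq_one (a ^ (n - 1) * b ^ n) ?_)
        rcases Nat.eq_zero_or_pos n with h0 | h0
        · exfalso
          rw [h0] at hb
          exact hau (IsUnit.of_mul_eq_one b (by simpa using hb))
        · rw [← mul_assoc, ← pow_succ', Nat.sub_add_cancel h0]; exact h1
      have heb : e ∉ (⊥ : Subalgebra κ A) := fun hm => by
        obtain ⟨c, hc⟩ := Algebra.mem_bot.mp hm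
        rw [← hc, ← map_mul] at he
        have := (algebraMap κ A).injective he
        rcases eq_or_ne c 0 with h0 | h0
        · exact he0 (by rw [← hc, h0, map_zero])
        · exact he1 (by rw [← hc, (mul_eq_right₀ h0).mp this, map_one])
      let φ : (κ × κ) →ₐ[κ] A :=
        { toFun := fun z => algebraMap κ A z.1 * e + algebraMap κ A z.2 * (1 - e)
          map_one' := by simp
          map_zero' := by simp
          map_add' := fun z w => by simp only [Prod.fst_add, Prod.snd_add, map_add]; ring
          map_mul' := fun z w => by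
            simp only [Prod.fst_mul, Prod.snd_mul, map_mul]
            linear_combination (-algebraMap κ A z.1 * algebraMap κ A w.1 - algebraMap κ A z.2 * algebraMap κ A w.2 + algebraMap κ A z.1 * algebraMap κ A w.2 + algebraMap κ A z.2 * algebraMap κ A w.1) * he
          commutes' := fun c => by simp [← mul_add] }
      have hinj : Function.Injective φ := by
        rw [injective_iff_map_eq_zero]
        intro z hz
        change algebraMap κ A z.1 * e + algebraMap κ A z.2 * (1 - e) = 0 at hz
        have h1 : algebraMap κ A z.1 * e = 0 := by linear_combination e * hz - (algebraMap κ A z.1 - algebraMap κ A z.2) * he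
        have h2 : algebraMap κ A z.2 * (1 - e) = 0 := by rw [h1, zero_add] at hz; exact hz
        refine Prod.ext ?_ ?_
        · by_contra h0
          exact he0 ((IsUnit.mul_right_eq_zero ((IsUnit.mk0 _ h0).map (algebraMap κ A))).mp h1)
        · by_contra h0
          exact he1 (sub_eq_zero.mp ((IsUnit.mul_right_eq_zero ((IsUnit.mk0 _ h0).map (algebraMap κ A))).mp h2)).symm
      have hr : e ∈ φ.range := ⟨(1, 0), show algebraMap κ A 1 * e + algebraMap κ A 0 * (1 - e) = e by simp⟩
      exact ⟨(AlgEquiv.ofBijective φ ⟨hinj, AlgHom.range_eq_top φ |>.mp (hgen _ e hr heb)⟩).symm⟩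

end Groth.Agent.S15939
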