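import Groth.Statements.S1594
import Groth.Agent.NodeFib.Family
import Groth.Agent.Grpd.FlatComp
import Mathlib.AlgebraicGeometry.Morphisms.LocalFlatDescent
-- import your own Groth.Agent.* helpers here

set_option autoImplicit false
set_option backward.isDefEq.respectTransparency false
set_option backward.isDefEq.respectTransparency.types false
set_option maxHeartbeats 1000000
universe u
open CategoryTheory CategoryTheory.Limits AlgebraicGeometry
open Curves

namespace Groth.Agent.S1594

/-- (2) implies (1), for a covering by one flat quasi-compact surjective morphism: let f : X → S and g :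
S' → S flat, quasi-compact and surjective. If the base change X ×_S S' → S' is at-worst-nodal of
relative dimension one then so is f. -/
theorem result {X S S' : Scheme.{u}} (f : X ⟶ S) (g : S' ⟶ S) [Flat g] [QuasiCompact g] [Surjective g]
    (h : Curv2.IsNodalFamily (pullback.snd f g)) : Curv2.IsNodalFamily f := by
  obtain ⟨_, _, h'⟩ := (NodeFib.isNodalFamily_iff _).1 h
  haveI : LocallyOfFinitePresentation f :=
    MorphismProperty.of_pullback_snd_of_descendsAlong (P := @LocallyOfFinitePresentation)
      (Q := @Surjective ⊓ @Flat ⊓ @QuasiCompact) ⟨⟨inferInstance, inferInstance⟩, inferInstance⟩ ‹_›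
  haveI : Flat (pullback.fst f g ≫ f) := by
    rw [pullback.condition]
    infer_instance
  haveI : Flat f := GrpdLib.flat_of_flat_comp (pullback.fst f g) f
  refine (NodeFib.isNodalFamily_iff _).2 ⟨inferInstance, inferInstance, fun x => ?_⟩
  obtain ⟨x', rfl⟩ := (pullback.fst f g).surjective x
  exact (NodeFib.good_baseChange f g _ _ (IsPullback.of_hasPullback f g) x').1 (h' x')

end Groth.Agent.S1594
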