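import Groth.Statements.S15941
import Groth.Agent.WeakNorm.AwnPerfect

set_option autoImplicit false
universe u
open HTop

namespace Groth.Agent.S15941

/-- An integrally closed integral domain is a seminormal ring, that is, whenever x^3 = y^2 there is
exactly one element a with x = a^2 and y = a^3. (The published statement is for a normal Noetherian
scheme and reduces at once to this affine integral case; the Noetherian hypothesis plays no role.) -/
theorem result (A : Type u) [CommRing A] [IsDomain A]
    [IsIntegrallyClosed A] : HTop.IsSeminormalRing A := by
  exact Groth.Agent.WeakNorm.isSeminormalRing_of_isIntegrallyClosed A

end Groth.Agent.S15941
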