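import Groth.Statements.S15942
import Groth.Agent.NeronSpread.Dedekind

set_option autoImplicit false
universe u
open Neron

namespace Groth.Agent.S15942

open CategoryTheory AlgebraicGeometry in
/-- Let S be a Dedekind scheme (integral, Noetherian, separated, of dimension one, with regular local
rings), K its function field with generic point η : Spec K → S, and G → S a smooth separated
S-scheme. Suppose that for every closed point p of S the base change G_p = G ×_S Spec O_{S,p} is a
Néron lft-model of its generic fibre over Spec O_{S,p}: for every smooth scheme Y over Spec O_{S,p},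
restricting to generic fibres is a bijection from morphisms Y → G_p over Spec O_{S,p} onto morphisms
of generic fibres over K. Then G is a Néron lft-model of its generic fibre over S: for every smooth
S-scheme Y, restriction along η is a bijection from S-morphisms Y → G onto K-morphisms Y_η → G_η.
(The published statement is for a smooth separated group scheme; the group structure plays no part
in the property or in its proof and is not assumed here.) -/
theorem result
    {S : Scheme.{u}} [IsIntegral S] [IsNoetherian S] [S.IsSeparated]
    (hreg : ∀ s : S, IsRegularLocalRing (S.presheaf.stalk s)) (hdim : topologicalKrullDim S = 1)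
    (G : Over S) [Smooth G.hom] [IsSeparated G.hom]
    (hloc : ∀ p : S, IsClosed ({p} : Set S) →
      ∀ Y : Over (Spec (S.presheaf.stalk p)), Smooth Y.hom →
        Function.Bijective (fun g : Y ⟶ (Over.pullback (S.fromSpecStalk p)).obj G =>
          (Over.pullback (Spec.map (S.presheaf.stalkSpecializes (genericPoint_specializes p)))).map g)) :
    ∀ Y : Over S, Smooth Y.hom →
      Function.Bijective (fun g : Y ⟶ G => (Over.pullback (S.fromSpecStalk (genericPoint S))).map g) := by
  have hl : ∀ s : S, IsClosed ({s} : Set S) → ∀ {K : Scheme.{u}} (q : K ⟶ Spec (S.presheaf.stalk s)), Smooth q →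
      Groth.Agent.NeronSpread.Uniq (S.fromSpecStalk s) (Groth.Agent.NeronSpread.genMap s) G.hom q ∧
        Groth.Agent.NeronSpread.Extn (S.fromSpecStalk s) (Groth.Agent.NeronSpread.genMap s) G.hom q :=
    fun s hs _ q hq => (Groth.Agent.NeronSpread.bijective_iff _ _ (Over.mk q) G).1 (hloc s hs (Over.mk q) hq)
  have hua := fun (W : Scheme.{u}) [IsAffine W] (q : W ⟶ S) (hq : Smooth q) =>
    Groth.Agent.NeronSpread.uniq_dedekind G.hom hdim (fun s hs {K} q hq => (hl s hs q hq).1) W q hq
  have hu : ∀ {Z : Scheme.{u}} (q : Z ⟶ S), Smooth q →
      Groth.Agent.NeronSpread.Uniq (𝟙 S) (S.fromSpecStalk (genericPoint S)) G.hom q :=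
    fun q hq => haveI := hq; Groth.Agent.NeronSpread.uniq_of_affine _ _ _ hua q
  intro Y hY
  rw [Groth.Agent.NeronSpread.bijective_iff_id]
  exact ⟨hu Y.hom hY, Groth.Agent.NeronSpread.extn_of_affine _ _ _ hua (fun W _ q hq =>
    Groth.Agent.NeronSpread.extn_dedekind G.hom hdim (fun q hq => hu q hq) (fun s hs {K} q hq => (hl s hs q hq).2) W q hq) _⟩

end Groth.Agent.S15942
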