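import Groth.Statements.S15954
import Groth.Agent.Pinch.BaseChange
import Groth.Agent.Pinch.Charts

set_option autoImplicit false
universe u
open Pinch

open CategoryTheory Limits AlgebraicGeometry Groth.Agent
set_option backward.isDefEq.respectTransparency false
namespace Groth.Agent.S15954

theorem key {T Y Z : Scheme.{u}} (ξ : Z ⟶ T) (t : T ⟶ Y) [IsAffineHom t] [IsAffineHom ξ] [Flat ξ] [Surjective ξ]
    {U : Y.Opens} (hU : IsAffineOpen U)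
    (hv : @Pinch.CokerProjective Γ(Y, U) Γ(Z, (ξ ≫ t) ⁻¹ᵁ U) Γ(T, t ⁻¹ᵁ U) _ _ _ ((ξ ≫ t).app U).hom.toAlgebra (ξ.app (t ⁻¹ᵁ U)).hom)
    (B : T.Opens) (hB : B = t ⁻¹ᵁ U) (C : Z.Opens) (hC : C = (ξ ≫ t) ⁻¹ᵁ U) (hCB : C ≤ ξ ⁻¹ᵁ B)
    (s : Z ⟶ Y) (hs : s = ξ ≫ t) (hle : C ≤ s ⁻¹ᵁ U)
    (alg : Algebra Γ(Y, U) Γ(Z, C)) (halg : algebraMap Γ(Y, U) Γ(Z, C) = (s.appLE U C hle).hom)
    [Algebra Γ(Y, U) Γ(T, B)] (δ : Γ(T, B) →ₐ[Γ(Y, U)] Γ(Z, C)) (hδ : δ.toRingHom = (ξ.appLE B C hCB).hom) :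
    Function.Injective δ ∧ Module.Projective Γ(Y, U) (Γ(Z, C) ⧸ LinearMap.range δ.toLinearMap) := by
  subst hs hC hB
  have h1 : ξ.appLE (t ⁻¹ᵁ U) ((ξ ≫ t) ⁻¹ᵁ U) hCB = ξ.app (t ⁻¹ᵁ U) := (Scheme.Hom.app_eq_appLE ξ).symm
  rw [h1] at hδ
  have ha : alg = ((ξ ≫ t).app U).hom.toAlgebra := Algebra.algebra_ext _ _ fun r => by
    rw [halg, ← Scheme.Hom.app_eq_appLE]; rfl
  subst ha
  refine ⟨?_, ?_⟩
  · have hfun : (δ : Γ(T, t ⁻¹ᵁ U) → Γ(Z, (ξ ≫ t) ⁻¹ᵁ U)) = (ξ.app (t ⁻¹ᵁ U)).hom :=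
      funext fun x => RingHom.congr_fun hδ x
    rw [hfun]
    haveI : IsAffine ((t ⁻¹ᵁ U : T.Opens) : Scheme.{u}) := hU.preimage t
    haveI : IsAffine ((ξ ⁻¹ᵁ (t ⁻¹ᵁ U) : Z.Opens) : Scheme.{u}) := (hU.preimage t).preimage ξ
    haveI : Surjective (ξ ∣_ (t ⁻¹ᵁ U)) := IsZariskiLocalAtTarget.restrict ‹Surjective ξ› _
    have hf := (Flat.flat_and_surjective_iff_faithfullyFlat_of_isAffine (f := ξ ∣_ (t ⁻¹ᵁ U))).1 ⟨inferInstance, inferInstance⟩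
    have hi := hf.injective
    rw [morphismRestrict_appTop] at hi
    have hi' : Function.Injective (ξ.app ((t ⁻¹ᵁ U).ι ''ᵁ ⊤)).hom := Function.Injective.of_comp hi
    rwa [Scheme.Opens.ι_image_top] at hi'
  · letI := ((ξ ≫ t).app U).hom.toAlgebra
    have hr : LinearMap.range δ.toLinearMap = Submodule.span Γ(Y, U) (Set.range δ.toLinearMap) := by
      rw [← LinearMap.coe_range, Submodule.span_eq]
    rw [hr, show (δ.toLinearMap : Γ(T, t ⁻¹ᵁ U) → Γ(Z, (ξ ≫ t) ⁻¹ᵁ U)) = (ξ.app (t ⁻¹ᵁ U)).hom from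
      funext fun x => RingHom.congr_fun hδ x]
    exact hv


open CategoryTheory AlgebraicGeometry in
/-- Let Y be a scheme, f : X → Y a morphism, t : T → Y a scheme affine over Y, ξ : Z → T a morphism with
Z affine over Y via ξ followed by t, and ι : Z → X a closed immersion over Y; assume every point of
Y has an affine open neighbourhood U together with an affine open V of X inside the preimage of U
containing the image under ι of the part of Z over U; assume moreover that Y is locally Noetherian,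
f and t are of finite type and ξ is finite, and let X → P ← T be a push-out of ι and ξ in the
category of schemes; assume finally that ξ is faithfully flat and that over every affine open U of Y
the cokernel of the map from functions on t⁻¹(U) to functions on the part of Z over U is a
projective module over the functions on U. Let p : P → Y be the induced morphism. Then the push-out
commutes with every base change: for every morphism Y' → Y the square obtained by pulling back Z →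
X, Z → T, X → P and T → P along Y' → Y is a push-out square in the category of schemes. -/
theorem result {X Y T Z : Scheme.{u}} (f : X ⟶ Y) (t : T ⟶ Y) (ξ : Z ⟶ T) (ι : Z ⟶ X)
    [IsAffineHom t] [IsAffineHom (ξ ≫ t)] [IsClosedImmersion ι] (hsq : ι ≫ f = ξ ≫ t)
    (hstd : ∀ y : Y, ∃ U : Y.Opens, IsAffineOpen U ∧ y ∈ U ∧ ∃ V : X.Opens, IsAffineOpen V ∧
      V ≤ f ⁻¹ᵁ U ∧ ∀ z : Z, (ξ ≫ t).base z ∈ U → ι.base z ∈ V)
    [IsLocallyNoetherian Y] [LocallyOfFiniteType f] [QuasiCompact f] [LocallyOfFiniteType t] [QuasiCompact t]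
    [IsFinite ξ] {P : Scheme.{u}} (a : X ⟶ P) (b : T ⟶ P) (hP : IsPushout ι ξ a b)
    [Flat ξ] [Surjective ξ]
    (hv : ∀ U : Y.affineOpens, @Pinch.CokerProjective Γ(Y, U) Γ(Z, (ξ ≫ t) ⁻¹ᵁ U) Γ(T, t ⁻¹ᵁ U) _ _ _
      ((ξ ≫ t).app U).hom.toAlgebra (ξ.app (t ⁻¹ᵁ U)).hom)
    (p : P ⟶ Y) (hap : a ≫ p = f) (hbp : b ≫ p = t) {Y' : Scheme.{u}} (g : Y' ⟶ Y) :
    IsPushout ((Over.pullback g).map (Over.homMk ι hsq : Over.mk (ξ ≫ t) ⟶ Over.mk f)).left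
      ((Over.pullback g).map (Over.homMk ξ rfl : Over.mk (ξ ≫ t) ⟶ Over.mk t)).left
      ((Over.pullback g).map (Over.homMk a hap : Over.mk f ⟶ Over.mk p)).left
      ((Over.pullback g).map (Over.homMk b hbp : Over.mk t ⟶ Over.mk p)).left := by
  have hc : Pinch.HasCharts ι ξ := fun τ => by
    obtain ⟨U, hU, hyU, V, hV, hVU, hz⟩ := hstd (t τ)
    refine ⟨V, t ⁻¹ᵁ U, ⟨hV, hU.preimage t, hV.preimage ι, ?_⟩, hyU⟩
    ext z
    refine ⟨fun hzV => ?_, fun hzU => hz z hzU⟩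
    have := hVU hzV
    show t (ξ z) ∈ U
    rw [← Scheme.Hom.comp_apply, ← hsq, Scheme.Hom.comp_apply]
    exact this
  have h := Pinch.isPinch_of_isPushout hc hP
  refine Pinch.isPushout_of_isPinch (Pinch.isPinch_baseChange h p g (fun x y' hxy => ?_)
    (IsPullback.of_hasPullback p g) (Pinch.isPullback_over (Over.homMk a hap : Over.mk f ⟶ Over.mk p) g)
    (Pinch.isPullback_over (Over.homMk b hbp : Over.mk t ⟶ Over.mk p) g)
    (Pinch.isPullback_over (Over.homMk ι hsq : Over.mk (ξ ≫ t) ⟶ Over.mk f) g)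
    (Pinch.isPullback_over (Over.homMk ξ rfl : Over.mk (ξ ≫ t) ⟶ Over.mk t) g).w.symm
    (by apply pullback.hom_ext <;> simp [hP.w]))
  obtain ⟨U, hU, hxU, V, hV, hVU, hz⟩ := hstd (p x)
  obtain ⟨Y₁, hY₁, hyY₁, hY₁U⟩ := exists_isAffineOpen_mem_and_subset (U := g ⁻¹ᵁ U) (x := y') (show g y' ∈ U from hxy ▸ hxU)
  have hsat : ι ⁻¹ᵁ V = ξ ⁻¹ᵁ (t ⁻¹ᵁ U) := by
    ext z
    refine ⟨fun hzV => ?_, fun hzU => hz z hzU⟩
    have := hVU hzV
    show t (ξ z) ∈ U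
    rw [← Scheme.Hom.comp_apply, ← hsq, Scheme.Hom.comp_apply]
    exact this
  obtain ⟨W, hW, hWX, hWT⟩ := Pinch.exists_chart_opens h (U := V) (V := t ⁻¹ᵁ U) ⟨hV, hU.preimage t, hV.preimage ι, hsat⟩
  have hWle : W ≤ p ⁻¹ᵁ U := by
    intro w hw
    rcases Pinch.surj_of_top (Pinch.top_of_isPinch h) w with ⟨x₀, rfl⟩ | ⟨τ, rfl⟩
    · have hx₀ := hVU (show x₀ ∈ V from hWX ▸ hw)
      show p (a x₀) ∈ U
      rw [← Scheme.Hom.comp_apply, hap]; exact hx₀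
    · show p (b τ) ∈ U
      rw [← Scheme.Hom.comp_apply, hbp]; exact (show τ ∈ t ⁻¹ᵁ U from hWT ▸ hw)
  have hGW : Pinch.Good ι a b W := ⟨hW, hWX ▸ hV, hWT ▸ hU.preimage t, hWX ▸ hV.preimage ι⟩
  by_cases hxW : x ∈ W
  · refine ⟨W, U, Y₁, hWle, hY₁U, hGW, hU, hY₁, hxW, hyY₁, fun _ _ _ _ _ q _ hA _ hδ => ?_⟩
    obtain ⟨hinj, hproj⟩ := key ξ t hU (hv ⟨U, hU⟩) (b ⁻¹ᵁ W) hWT (ι ⁻¹ᵁ (a ⁻¹ᵁ W)) (by rw [hWX, hsat]; rfl)
      (Pinch.le_preimage (Pinch.w_of_isPinch h) W)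
      (ι ≫ a ≫ p) (by rw [hap, hsq]) (fun _ hw => hWle hw) _ hA q.δ hδ
    exact q.injBC_of_projective_coker _ hinj
  · have hxX : ∃ x₀ : X, a x₀ = x ∧ x₀ ∉ Set.range ι := by
      rcases Pinch.surj_of_top (Pinch.top_of_isPinch h) x with ⟨x₀, rfl⟩ | ⟨τ, rfl⟩
      · refine ⟨x₀, rfl, ?_⟩
        rintro ⟨z, rfl⟩
        refine hxW (show ι z ∈ a ⁻¹ᵁ W from hWX ▸ hz z ?_)
        have h1 : p (a (ι z)) ∈ U := hxU
        rwa [← Scheme.Hom.comp_apply, ← Scheme.Hom.comp_apply, hap, hsq] at h1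
      · refine absurd (show τ ∈ b ⁻¹ᵁ W from hWT ▸ ?_) hxW
        have h1 : p (b τ) ∈ U := hxU
        rwa [← Scheme.Hom.comp_apply, hbp] at h1
    obtain ⟨x₀, rfl, hx₀⟩ := hxX
    have hfU : x₀ ∈ f ⁻¹ᵁ U := by
      show f x₀ ∈ U
      rw [← hap, Scheme.Hom.comp_apply]; exact hxU
    obtain ⟨V', hV', hxV', hV'le⟩ := exists_isAffineOpen_mem_and_subset
      (U := f ⁻¹ᵁ U ⊓ (⟨(Set.range ι)ᶜ, ι.isClosedEmbedding.isClosed_range.isOpen_compl⟩ : X.Opens)) ⟨hfU, hx₀⟩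
    have he : ι ⁻¹ᵁ V' = ⊥ := by
      ext z
      simpa using fun hzV : ι z ∈ V' => (hV'le hzV).2 ⟨z, rfl⟩
    obtain ⟨W', hW', hWX', hWT'⟩ := Pinch.exists_chart_opens h (U := V') (V := ⊥)
      ⟨hV', isAffineOpen_bot T, he ▸ isAffineOpen_bot Z, by rw [he]; rfl⟩
    have hW'le : W' ≤ p ⁻¹ᵁ U := by
      intro w hw
      rcases Pinch.surj_of_top (Pinch.top_of_isPinch h) w with ⟨x₁, rfl⟩ | ⟨τ, rfl⟩
      · have hx₁ := (hV'le (show x₁ ∈ V' from hWX' ▸ hw)).1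
        show p (a x₁) ∈ U
        rw [← Scheme.Hom.comp_apply, hap]; exact hx₁
      · exact absurd (show τ ∈ (⊥ : T.Opens) from hWT' ▸ hw) id
    refine ⟨W', U, Y₁, hW'le, hY₁U, ⟨hW', hWX' ▸ hV', hWT' ▸ isAffineOpen_bot T, hWX' ▸ he ▸ isAffineOpen_bot Z⟩,
      hU, hY₁, show x₀ ∈ a ⁻¹ᵁ W' from hWX' ▸ hxV', hyY₁, fun _ _ _ _ _ q _ _ _ _ => ?_⟩
    haveI : Subsingleton Γ(Z, ι ⁻¹ᵁ (a ⁻¹ᵁ W')) := by rw [hWX', he]; infer_instance
    exact q.injBC_of_flat_corner _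

end Groth.Agent.S15954
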