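import Groth.Statements.S15956
import Groth.Agent.PicProper.NoUnirational
import Groth.Agent.S0558
import Groth.Agent.RegLoc.Normal
-- import your own Groth.Agent.* helpers here

set_option autoImplicit false
universe u
open Neron

namespace Groth.Agent.S15956

open CategoryTheory AlgebraicGeometry in
/-- Let κ be an arbitrary field and C a proper geometrically reduced scheme over κ with regular local
rings, all of whose irreducible components have dimension one (a regular proper geometrically
reduced curve). Let (J, φ) be the Jacobian Pic⁰_{C/κ} with its group law, rendered as: J is a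
commutative group scheme over κ and φ exhibits J as representing the fppf sheafification of the
functor of invertible modules on C ×_κ T algebraically equivalent to zero on every geometric fibre,
compatibly with tensor products. Then the maximal unirational subgroup of J is trivial: every smooth
closed subgroup scheme H of J that admits a dominant κ-morphism from a nonempty open subscheme of an
affine space over κ is the trivial group. -/
theorem result
    (κ : Type u) [Field κ] {C : Scheme.{u}} (g : C ⟶ Spec (CommRingCat.of κ)) [IsProper g] [GeometricallyReduced g]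
    (hC : ∀ x : C, IsRegularLocalRing (C.presheaf.stalk x))
    (hdimC : ∀ W ∈ irreducibleComponents (C : Type u), topologicalKrullDim W = 1)
    (J : Over (Spec (CommRingCat.of κ))) [GrpObj J] [IsCommMonObj J]
    (φ : ∀ T : Over (Spec (CommRingCat.of κ)), PicF.Cl (PicF.XT g T) → (T ⟶ J))
    (hJ : AbDual.IsDualAV Scheme.fppfPrecoverage (Over.mk g) J φ)
    (H : Over (Spec (CommRingCat.of κ))) [GrpObj H] (i : H ⟶ J) [IsMonHom i]
    (hi : IsClosedImmersion i.left) [Smooth H.hom]
    (huni : ∃ (n : ℕ) (V : (AffineSpace (ULift.{u} (Fin n)) (Spec (CommRingCat.of κ))).Opens)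
        (ψ : (V : Scheme.{u}) ⟶ H.left),
      (V : Set (AffineSpace (ULift.{u} (Fin n)) (Spec (CommRingCat.of κ)))).Nonempty ∧ DenseRange ψ.base ∧
      ψ ≫ H.hom = V.ι ≫ (AffineSpace (ULift.{u} (Fin n)) (Spec (CommRingCat.of κ)) ↘ Spec (CommRingCat.of κ))) :
    IsIso H.hom := by
  obtain ⟨n, V, ψ, hne, hdense, hψ⟩ := huni
  haveI : Nonempty V := ⟨⟨_, hne.some_mem⟩⟩
  have hN : Pi1.IsNormalScheme C := fun x => by
    haveI := hC x
    haveI := Groth.Agent.S0558.result (C.presheaf.stalk x)
    exact ⟨inferInstance, Groth.Agent.RegLoc.isIntegrallyClosed (A := C.presheaf.stalk x)⟩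
  haveI : IsSeparated J.hom := Groth.Agent.ClosedRep.isSeparated_of_field κ J
  haveI : IsSeparated H.hom := Groth.Agent.ClosedRep.isSeparated_of_field κ H
  let K := SeparableClosure κ
  let w : Spec (CommRingCat.of K) ⟶ Spec (CommRingCat.of κ) := Spec.map (CommRingCat.ofHom (algebraMap κ K))
  haveI : Surjective w := ⟨fun _ => ⟨IsLocalRing.closedPoint K, Subsingleton.elim (α := PrimeSpectrum κ) _ _⟩⟩
  haveI : IsIntegralHom w := IsIntegralHom.SpecMap_iff.2 Algebra.IsIntegral.isIntegral
  let ι := ULift.{u} (Fin n)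
  let m := AffineSpace.map ι w
  have hm := AffineSpace.isPullback_map (n := ι) w
  haveI : Surjective m := MorphismProperty.of_isPullback (P := @Surjective) hm.flip inferInstance
  let VK : (𝔸(ι; Spec (CommRingCat.of K))).Opens := m ⁻¹ᵁ V
  let mV : (VK : Scheme.{u}) ⟶ V := m ∣_ V
  haveI : Surjective mV := IsZariskiLocalAtTarget.restrict (P := @Surjective) ‹Surjective m› V
  haveI : Nonempty ↥(Groth.Agent.PicProper.affOpen VK).left := ⟨(mV.surjective (Classical.arbitrary V)).choose⟩
  have hw : (mV ≫ ψ) ≫ H.hom = ((Groth.Agent.PicProper.affOpen VK).hom ≫ w) := by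
    rw [Category.assoc, hψ, ← Category.assoc, morphismRestrict_ι, Category.assoc]
    show VK.ι ≫ _ = (VK.ι ≫ _) ≫ w
    rw [Category.assoc]
    exact congrArg (VK.ι ≫ ·) (AffineSpace.map_over w)
  let ψK : Groth.Agent.PicRelBC.bar (Groth.Agent.PicProper.sw (κ := κ) (K := K)) (Groth.Agent.PicProper.affOpen VK) ⟶ J :=
    Over.homMk (mV ≫ ψ) hw ≫ i
  haveI : GeometricallyReduced (Over.mk g).hom := ‹GeometricallyReduced g›
  obtain ⟨a, ha⟩ := Groth.Agent.PicProper.exists_eq_const_picZero (κ := κ) (K := K) g hN J φ hJ.relPic VK ψK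
  have hconst : ∀ p q : VK, ψ (mV p) = ψ (mV q) := fun p q => by
    apply i.left.isClosedEmbedding.injective
    have h : ∀ p : VK, i.left (ψ (mV p)) = a (IsLocalRing.closedPoint K) := fun p => by
      have h := congrArg (fun f : (VK : Scheme.{u}) ⟶ J.left => f p) (show (mV ≫ ψ) ≫ i.left = _ from ha)
      simp only [Scheme.Hom.comp_apply] at h
      exact h.trans (congrArg a (Subsingleton.elim (α := PrimeSpectrum K) _ _))
    rw [h, h]
  let p₀ : VK := (inferInstance : Nonempty ↥(Groth.Agent.PicProper.affOpen VK).left).some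
  let h₀ : H.left := ψ (mV p₀)
  have hrange : Set.range ψ = {h₀} := by
    refine Set.eq_singleton_iff_unique_mem.2 ⟨⟨_, rfl⟩, ?_⟩
    rintro _ ⟨x, rfl⟩
    obtain ⟨p, rfl⟩ := mV.surjective x
    exact hconst p p₀
  -- the point is closed
  have hclosed : IsClosed ({h₀} : Set H.left) := by
    haveI : Smooth (𝔸(ι; Spec (CommRingCat.of K)) ↘ Spec (CommRingCat.of K)) := by
      haveI : Algebra.Smooth K (MvPolynomial ι K) := ⟨inferInstance, inferInstance⟩
      rw [← MorphismProperty.cancel_left_of_respectsIso (P := @Smooth) (AffineSpace.SpecIso ι (CommRingCat.of K)).inv,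
        AffineSpace.SpecIso_inv_over, HasRingHomProperty.Spec_iff (P := @Smooth)]
      exact RingHom.smooth_algebraMap.2 inferInstance
    haveI : Smooth (Groth.Agent.PicProper.affOpen VK).hom :=
      inferInstanceAs (Smooth (VK.ι ≫ (𝔸(ι; Spec (CommRingCat.of K)) ↘ _)))
    obtain ⟨_, v, hv, -⟩ := (Groth.Agent.PtsDense.dense_rational K (Groth.Agent.PicProper.affOpen VK).hom).nonempty
    let b : Spec (CommRingCat.of K) ⟶ H.left := v ≫ mV ≫ ψ
    haveI : IsIntegralHom (b ≫ H.hom) := by
      show IsIntegralHom ((v ≫ mV ≫ ψ) ≫ H.hom)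
      rw [Category.assoc, hw, ← Category.assoc, hv, Category.id_comp]
      infer_instance
    haveI : IsIntegralHom b := MorphismProperty.of_postcomp (W := @IsIntegralHom) (W' := @IsSeparated) b H.hom inferInstance ‹_›
    have hb : Set.range b = {h₀} := by
      refine Set.eq_singleton_iff_unique_mem.2 ⟨⟨IsLocalRing.closedPoint K, ?_⟩, ?_⟩
      · rw [Scheme.Hom.comp_apply, Scheme.Hom.comp_apply]
        exact hconst _ p₀
      · rintro _ ⟨x, rfl⟩
        rw [Scheme.Hom.comp_apply, Scheme.Hom.comp_apply]
        exact hconst _ p₀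
    rw [← hb]
    exact b.isClosedMap.isClosed_range
  have huniv : ∀ x : H.left, x = h₀ := fun x => by
    have := hdense x
    rw [hrange, hclosed.closure_eq] at this
    exact this
  haveI : Subsingleton H.left := ⟨fun x y => (huniv x).trans (huniv y).symm⟩
  haveI : IsReduced H.left := Groth.Agent.SmoothRed.isReduced_of_smooth_scheme H.hom
  let e := (MonObj.one (X := H)).left
  have he : e ≫ H.hom = 𝟙 _ := Over.w (MonObj.one (X := H))
  haveI : IsClosedImmersion (e ≫ H.hom) := by rw [he]; exact inferInstanceAs (IsClosedImmersion (𝟙 (Spec (CommRingCat.of κ))))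
  haveI : IsClosedImmersion e := IsClosedImmersion.of_comp e H.hom
  haveI : Surjective e := ⟨fun x => ⟨IsLocalRing.closedPoint κ, Subsingleton.elim _ _⟩⟩
  haveI := isIso_of_isClosedImmersion_of_surjective e
  exact ⟨e, by rw [← cancel_epi e, reassoc_of% he]; exact (Category.comp_id _).symm, he⟩

end Groth.Agent.S15956
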