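import Groth.Statements.S15958
import Groth.Agent.Assoc.Kernel
import Mathlib.AlgebraicGeometry.Morphisms.LocalFlatDescent
import Groth.Agent.LimDesc.FPCancel
import Mathlib.AlgebraicGeometry.Sites.Fpqc
-- import your own Groth.Agent.* helpers here

set_option autoImplicit false
universe u
open Neron

open CategoryTheory CategoryTheory.Limits MonoidalCategory CartesianMonoidalCategory MonObj GrpObj AlgebraicGeometry
open scoped CategoryTheory.Obj
set_option linter.style.haveILetI false
set_option backward.isDefEq.respectTransparency false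

namespace Groth.Agent.S15958

lemma isPullback_map_left {S S' : Scheme.{u}} {A B : Over S} (p : A ⟶ B) (h : S' ⟶ S) :
    IsPullback (pullback.fst A.hom h) ((Over.pullback h).map p).left p.left (pullback.fst B.hom h) := by
  refine IsPullback.of_bot (h₁₁ := pullback.fst A.hom h) ?_ ?_
    (IsPullback.of_hasPullback B.hom h)
  · rw [Over.w p]
    convert IsPullback.of_hasPullback A.hom h using 1
    exact Over.w ((Over.pullback h).map p)
  · simp

open CategoryTheory AlgebraicGeometry MonObj in
/-- Let S be a Dedekind scheme (integral, Noetherian, separated, of dimension one, with regular local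
rings) with generic point η : Spec K → S, and let G', G and G'' be smooth separated group schemes
over S sitting in a short exact sequence 0 → G' → G → G'' → 0: i : G' → G and q : G → G'' are
homomorphisms, i identifies G' with the kernel of q, and q is flat and surjective. If G' and G'' are
Néron lft-models of their generic fibres (for every smooth S-scheme Y, restriction to η is a
bijection from S-morphisms into them onto K-morphisms of generic fibres), then so is G. -/
theorem result
    {S : Scheme.{u}} [IsIntegral S] [IsNoetherian S] [S.IsSeparated]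
    (hreg : ∀ s : S, IsRegularLocalRing (S.presheaf.stalk s)) (hdim : topologicalKrullDim S = 1)
    (G' G G'' : Over S) [GrpObj G'] [GrpObj G] [GrpObj G'']
    [Smooth G'.hom] [IsSeparated G'.hom] [Smooth G.hom] [IsSeparated G.hom] [Smooth G''.hom] [IsSeparated G''.hom]
    (i : G' ⟶ G) (q : G ⟶ G'') [IsMonHom i] [IsMonHom q]
    (hker : AlgGrp.IsKernel i q) [Flat q.left] [Surjective q.left]
    (hG' : ∀ Y : Over S, Smooth Y.hom →
        Function.Bijective (fun g : Y ⟶ G' => (Over.pullback (S.fromSpecStalk (genericPoint S))).map g))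
    (hG'' : ∀ Y : Over S, Smooth Y.hom →
        Function.Bijective (fun g : Y ⟶ G'' => (Over.pullback (S.fromSpecStalk (genericPoint S))).map g)) :
    ∀ Y : Over S, Smooth Y.hom →
        Function.Bijective (fun g : Y ⟶ G => (Over.pullback (S.fromSpecStalk (genericPoint S))).map g) := by
  intro Y hY
  haveI := hY
  set F := Over.pullback (S.fromSpecStalk (genericPoint S)) with hF
  have hmul : ∀ {A : Over S} {H : Over S} [GrpObj H] (a b : A ⟶ H), F.map (a * b) = F.map a * F.map b :=
    fun a b => map_mul F.homMonoidHom a b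
  have hone : ∀ (A H : Over S) [GrpObj H], F.map (1 : A ⟶ H) = 1 := fun A H _ => map_one (F.homMonoidHom (X := A) (M := H))
  have hinv : ∀ {A : Over S} {H : Over S} [GrpObj H] (a : A ⟶ H), F.map a⁻¹ = (F.map a)⁻¹ :=
    fun a => map_inv F.homMonoidHom a
  have inj : ∀ (A : Over S), Smooth A.hom → ∀ g h : A ⟶ G, F.map g = F.map h → g = h := by
    intro A hA g h e
    have hd : F.map (g * h⁻¹) = 1 := by rw [hmul, hinv, e, mul_inv_cancel]
    have hq : (g * h⁻¹) ≫ q = 1 := (hG'' A hA).1 (by
      show F.map ((g * h⁻¹) ≫ q) = F.map 1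
      rw [F.map_comp, hd, hone, MonObj.one_comp])
    obtain ⟨c, hc⟩ : ∃ c, c ≫ i = g * h⁻¹ :=
      ⟨hker.lift (g * h⁻¹) (toUnit _) (by rw [hq, Hom.one_def]), hker.lift_fst _ _ _⟩
    haveI : Mono i := hker.mono_fst_of_mono
    have hkF := hker.map F
    haveI : Mono (F.map i) := by
      haveI : IsSplitMono η[G''] := ⟨⟨⟨toUnit _, toUnit_unique _ _⟩⟩⟩
      haveI : Mono (F.map η[G'']) := inferInstance
      exact hkF.mono_fst_of_mono
    have hc0 : c = 1 := (hG' A hA).1 (by
      show F.map c = F.map 1
      rw [← cancel_mono (F.map i), ← F.map_comp, hc, hd, hone, MonObj.one_comp])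
    rwa [hc0, MonObj.one_comp, eq_comm, mul_inv_eq_one] at hc
  refine ⟨fun g h e => inj Y hY g h e, fun yK => ?_⟩
  obtain ⟨a, ha⟩ := (hG'' Y hY).2 (yK ≫ F.map q)
  -- the torsor
  haveI : LocallyOfFinitePresentation (q.left ≫ G''.hom) := by rw [Over.w q]; infer_instance
  haveI : LocallyOfFinitePresentation q.left := LimDesc.lfp_of_comp q.left G''.hom
  haveI : Smooth q.left := by
    have e : IsPullback (fst G G').left ((G ◁ i) ≫ μ[G]).left q.left q.left :=
      (Assoc.kernel_isPullback i q hker).map (Over.forget S)
    have hs : Smooth (fst G G').left := MorphismProperty.pullback_fst G.hom G'.hom inferInstance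
    exact MorphismProperty.of_isPullback_of_descendsAlong (P := @Smooth)
      (Q := @Surjective ⊓ @Flat ⊓ @LocallyOfFinitePresentation) e
      ⟨⟨inferInstance, inferInstance⟩, inferInstance⟩ hs
  let P : Over S := Over.mk (pullback.fst a.left q.left ≫ Y.hom)
  haveI hPs : Smooth P.hom := inferInstanceAs (Smooth (pullback.fst a.left q.left ≫ Y.hom))
  let pr : P ⟶ Y := Over.homMk (pullback.fst a.left q.left) rfl
  let b : P ⟶ G := Over.homMk (pullback.snd a.left q.left) (by
    show pullback.snd a.left q.left ≫ G.hom = pullback.fst a.left q.left ≫ Y.hom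
    rw [← Over.w q, ← Over.w a, pullback.condition_assoc])
  have hbq : b ≫ q = pr ≫ a := Over.OverMorphism.ext pullback.condition.symm
  change F.map a = yK ≫ F.map q at ha
  let dK := (F.map pr ≫ yK) * (F.map b)⁻¹
  have hdK : dK ≫ F.map q = 1 := by
    simp only [dK, MonObj.mul_comp, GrpObj.inv_comp, Category.assoc]
    rw [← ha, ← F.map_comp, ← F.map_comp, hbq, mul_inv_cancel]
  have hkF := hker.map F
  obtain ⟨cK, hcK⟩ : ∃ cK, cK ≫ F.map i = dK :=
    ⟨hkF.lift dK (F.map (toUnit _)) (by rw [hdK, ← F.map_comp, ← Hom.one_def, hone]), hkF.lift_fst _ _ _⟩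
  obtain ⟨c, hc⟩ := (hG' P hPs).2 cK
  change F.map c = cK at hc
  let g := (c ≫ i) * b
  have hg : F.map g = F.map pr ≫ yK := by
    simp only [g]
    rw [hmul, F.map_comp, hc, hcK]
    simp only [dK]
    rw [inv_mul_cancel_right]
  -- descent
  haveI : Surjective pr.left := inferInstanceAs (Surjective (pullback.fst a.left q.left))
  haveI : Flat pr.left := inferInstanceAs (Flat (pullback.fst a.left q.left))
  haveI : LocallyOfFinitePresentation pr.left :=
    inferInstanceAs (LocallyOfFinitePresentation (pullback.fst a.left q.left))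
  have hdesc : ∀ {Z : Scheme.{u}} (g₁ g₂ : Z ⟶ P.left), g₁ ≫ pr.left = g₂ ≫ pr.left → g₁ ≫ g.left = g₂ ≫ g.left := by
    intro Z g₁ g₂ e
    let R : Over S := Over.mk (pullback.fst pr.left pr.left ≫ P.hom)
    haveI : Smooth R.hom := inferInstanceAs (Smooth (pullback.fst (pullback.fst a.left q.left) (pullback.fst a.left q.left) ≫ P.hom))
    let r₁ : R ⟶ P := Over.homMk (pullback.fst pr.left pr.left) rfl
    let r₂ : R ⟶ P := Over.homMk (pullback.snd pr.left pr.left) (by
      show pullback.snd pr.left pr.left ≫ P.hom = pullback.fst pr.left pr.left ≫ P.hom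
      rw [← Over.w pr, pullback.condition_assoc])
    have hr : r₁ ≫ pr = r₂ ≫ pr := Over.OverMorphism.ext pullback.condition
    have := inj R inferInstance (r₁ ≫ g) (r₂ ≫ g) (by
      rw [F.map_comp, F.map_comp, hg, ← Category.assoc, ← Category.assoc, ← F.map_comp, ← F.map_comp, hr])
    have h2 : pullback.fst pr.left pr.left ≫ g.left = pullback.snd pr.left pr.left ≫ g.left :=
      congrArg Over.Hom.left this
    rw [← pullback.lift_fst g₁ g₂ e, Category.assoc, h2, pullback.lift_snd_assoc]
  let g₀ := EffectiveEpi.desc pr.left g.left (fun g₁ g₂ e => hdesc g₁ g₂ e)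
  have hg₀ : pr.left ≫ g₀ = g.left := EffectiveEpi.fac _ _ _
  let g' : Y ⟶ G := Over.homMk g₀ (by
    rw [← cancel_epi pr.left, reassoc_of% hg₀, Over.w g, Over.w pr])
  refine ⟨g', ?_⟩
  show F.map g' = yK
  haveI : Epi (F.map pr) := by
    haveI : Epi (F.map pr).left := by
      haveI : Surjective (F.map pr).left := MorphismProperty.of_isPullback (isPullback_map_left pr _) inferInstance
      haveI : Flat (F.map pr).left := MorphismProperty.of_isPullback (isPullback_map_left pr _) inferInstance
      haveI : LocallyOfFinitePresentation (F.map pr).left := MorphismProperty.of_isPullback (isPullback_map_left pr _) inferInstance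
      infer_instance
    exact Over.epi_of_epi_left _
  rw [← cancel_epi (F.map pr), ← F.map_comp, ← hg]
  exact congrArg F.map (Over.OverMorphism.ext hg₀)

end Groth.Agent.S15958
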