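import Groth.Statements.S1596
import Groth.Agent.CurveFam.EpiFibre
import Groth.Agent.S1589
import Groth.Agent.TopDegRep.Basic
import Groth.Agent.CurveRR.Euler
import Groth.Agent.W7Cech.NNStatements
import Groth.Agent.K0Coh.Basic
import Groth.Agent.W7See.Fibre
import Groth.Agent.SchDense.Unit

set_option autoImplicit false
universe u
open CategoryTheory CategoryTheory.Limits AlgebraicGeometry
open Curves

set_option backward.isDefEq.respectTransparency false
set_option backward.isDefEq.respectTransparency.types false

namespace Groth.Agent.S1596

/-- Let f : X → S be a proper morphism of schemes that is at-worst-nodal of relative dimension one with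
geometrically connected fibres. Then R¹f_*O_X is a finite locally free O_S-module and R^q f_*O_X = 0
for every q ≥ 2. The published statement also includes the compatibility of these direct images with
base change, which is not asserted here. (Existence of injective resolutions in the category of
O_X-modules is carried as an instance binder.) -/
theorem result {X S : Scheme.{u}} (f : X ⟶ S) [IsProper f] (hf : Curv2.IsNodalFamily f)
    [GeometricallyConnected f] [HasInjectiveResolutions X.Modules] :
    FlatMod.IsFinLocFree ((Coh.Rpush f 1).obj (Coh.structureModule X)) ∧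
      ∀ q : ℕ, 2 ≤ q → IsZero ((Coh.Rpush f q).obj (Coh.structureModule X)) := by
  obtain ⟨_, _, hfib⟩ := hf
  have hq : Coh.IsQCoh (Coh.structureModule X) := QC.isQCoh_unit X
  have hF : CohB1.IsFP (Coh.structureModule X) := SchDense.isFP_unit X
  have hfl : FlatMod.IsFlatOver f (Coh.structureModule X) := SchDense.isFlatOver_unit f
  have hdim : ∀ s : S, topologicalKrullDim ↥(f.fiber s) ≤ 1 := fun s =>
    TopDegRep.topologicalKrullDim_le_of_components _ 1 (hfib s).1
  have hvan : ∀ (s : S) (q : ℕ), 2 ≤ q → Subsingleton (CohIII.fiberH f (Coh.structureModule X) s q) := fun s q hq => by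
    letI : (f.fiber s).Over (Spec (S.residueField s)) := ⟨f.fiberToSpecResidueField s⟩
    haveI : IsProper (f.fiber s ↘ Spec (CommRingCat.of (S.residueField s))) :=
      MorphismProperty.pullback_snd _ _ ‹IsProper f›
    exact CurveRR.subsingleton_of_two_le (k := S.residueField s) (hdim s) _ q hq
  constructor
  · intro y
    haveI : IsProper (f.fiberToSpecResidueField y) := MorphismProperty.pullback_snd _ _ ‹IsProper f›
    haveI : GeometricallyConnected (f.fiberToSpecResidueField y) :=
      MorphismProperty.pullback_snd _ _ ‹GeometricallyConnected f›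
    haveI : GeometricallyReduced (f.fiberToSpecResidueField y) := by
      letI : (f.fiber y).Over (Spec (S.residueField y)) := ⟨f.fiberToSpecResidueField y⟩
      haveI : LocallyOfFiniteType (f.fiber y ↘ Spec (CommRingCat.of (S.residueField y))) :=
        inferInstanceAs (LocallyOfFiniteType (f.fiberToSpecResidueField y))
      exact (S1589.result (S.residueField y) (f.fiber y) (hfib y).1 (hfib y).2).2
    obtain ⟨W, hyW, hW⟩ := W7Hull.exists_nhd_epi_of_fibre f y
      (W7See.bijective_global_field (K := S.residueField y) (f.fiberToSpecResidueField y))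
    obtain ⟨U, hyU, -, ⟨e⟩⟩ := W7Cech.locFree_of_good_nn f hq hF hfl 1 W (fun V hV hVW m =>
      W7Cech.good_of_exact m.L m.hL 1
        ((W7Cech.T_epi_iff_mono_succ m.L (W7Cech.flatX m.L m.hL) 0).1 (hW V hV hVW m))
        ((W7Cech.T_epi_iff_mono_succ m.L (W7Cech.flatX m.L m.hL) 1).2
          (W7Cech.isZero_T_of_isZero_homology_all m.L
            (fun M => m.isZero_T f 2 (fun z _ => hvan z 2 le_rfl) M)).1)) y hyW
    exact ⟨U, _, hyU, ⟨e⟩⟩
  · intro q hq'
    refine K0Coh.isZero_of_restrict_cover (fun _ => ⊤) (fun _ => trivial) fun _ => ?_
    exact W7Cech.isZero_restrict_of_vanish_nn f hq hF hfl q ⊤ fun y _ => hvan y q hq'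

end Groth.Agent.S1596
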