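import Groth.Statements.S15975
import Groth.Agent.Multisec.Main
import Groth.Agent.S1639
import Groth.Agent.AffCompl.Main
import Groth.Agent.PnSpec.Basic
import Groth.Agent.ProjMor.Segre
import Groth.Agent.ProjMor.ProjSpaceBase
import Groth.Agent.TMul.RelAmple

set_option autoImplicit false
set_option backward.isDefEq.respectTransparency false
universe u
open IntSh

namespace Groth.Agent.S15975

open CategoryTheory CategoryTheory.Limits AlgebraicGeometry in
/-- Let k be a field, X a scheme over k admitting a closed immersion into a projective space over k, Y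
an integral normal scheme separated and of finite type over k, and π : X → Y a proper surjective
k-morphism which is equidimensional in the sense that all fibres π⁻¹(y), y ∈ Y, have the same Krull
dimension d. Then Y admits a closed immersion into a projective space over k. -/
theorem result
    {k : Type u} [Field k] {X Y : Scheme.{u}}
    (sX : X ⟶ Spec (CommRingCat.of k)) (sY : Y ⟶ Spec (CommRingCat.of k))
    (π : X ⟶ Y) (hπ : π ≫ sY = sX)
    (hX : RelProj.IsHProjective sX)
    [IsIntegral Y] [IsSeparated sY] [LocallyOfFiniteType sY] [QuasiCompact sY]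
    (hN : Pi1.IsNormalScheme Y)
    [IsProper π] [Surjective π]
    (d : ℕ) (hd : ∀ y : Y, topologicalKrullDim (↥(π.fiber y) : Type u) = d) :
    RelProj.IsHProjective sY := by
  obtain ⟨n, i, hi, hisX⟩ := hX
  obtain ⟨eP, heP⟩ := PnSpec.exists_iso n k
  have := hi
  let e : X ⟶ CohB1.ProjSpace n k := i ≫ eP.inv
  have hsX : e ≫ CohB1.ProjSpace.toSpec n k = sX := by
    rw [← heP, Category.assoc, Iso.inv_hom_id_assoc, hisX]
  haveI : IsProper sX := by
    rw [← hsX]
    haveI : IsProper (CohB1.ProjSpace.toSpec n k) := ProjMor.isProper_toSpec n k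
    infer_instance
  haveI : IsProper (π ≫ sY) := hπ ▸ inferInstance
  haveI : UniversallyClosed sY := UniversallyClosed.of_comp_surjective π sY
  haveI : IsProper sY := {}
  obtain ⟨X', m, hm, hfin, hsurj⟩ := Multisec.exists_multisection e π hsX hπ hd
  haveI := hm
  haveI := hfin
  haveI := hsurj
  have hamp : CohB1.IsAmple ((Scheme.Modules.pullback i).obj (Twist.twistOver n (Spec (CommRingCat.of k)) 1)) :=
    TMul.isAmple_pullback_of_isAffineHom i (ProjMor.isAmple_twistOver n _)
  obtain ⟨L, hL⟩ := S1639.result (m ≫ π) hN _ (TMul.isAmple_pullback_of_isAffineHom m hamp)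
  obtain ⟨r, c, hc, hcs⟩ := AffCompl.exists_closedImmersion_of_ample sY hL
  obtain ⟨eR, heR⟩ := PnSpec.exists_iso r k
  haveI := hc
  exact ⟨r, c ≫ eR.hom, inferInstance, by rw [Category.assoc, heR, hcs]⟩

end Groth.Agent.S15975
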