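import Groth.Statements.S15979
import Groth.Agent.QFactDesc.Local
import Groth.Agent.QFactDesc.Fibre
import Groth.Agent.QFactDesc.Cartier
import Groth.Agent.SymAlg.ProjProper
import Groth.Agent.Devissage.Core
import Groth.Agent.ConstFib.Scheme

set_option autoImplicit false
set_option backward.isDefEq.respectTransparency false
universe u
open IntSh

namespace Groth.Agent.S15979

open CategoryTheory CategoryTheory.Limits AlgebraicGeometry in
/-- Let π : X → Y be a surjective locally projective morphism between normal separated Noetherian
integral schemes which is equidimensional in the sense that all fibres π⁻¹(y), y ∈ Y, have the same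
Krull dimension d. If X is ℚ-factorial, so is Y. Here a normal Noetherian integral scheme is called
ℚ-factorial when for every point ξ whose local ring has dimension one the prime divisor given by the
closure of ξ is, as a set, the support of some effective Cartier divisor (equivalently: some
positive multiple of every Weil divisor is Cartier). -/
theorem result
    {X Y : Scheme.{u}} [IsNoetherian X] [IsNoetherian Y] [IsIntegral X] [IsIntegral Y]
    [X.IsSeparated] [Y.IsSeparated]
    (hXn : Pi1.IsNormalScheme X) (hYn : Pi1.IsNormalScheme Y)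
    (π : X ⟶ Y) (hπ : RelProj.IsLocallyProjective π) [Surjective π]
    (d : ℕ) (hd : ∀ y : Y, topologicalKrullDim (↥(π.fiber y) : Type u) = d)
    (hX : ∀ ξ : X, ringKrullDim (X.presheaf.stalk ξ) = 1 →
      ∃ I : X.IdealSheafData, FGA.IsEffCartier I ∧ (I.support : Set X) = closure {ξ}) :
    ∀ η : Y, ringKrullDim (Y.presheaf.stalk η) = 1 →
      ∃ J : Y.IdealSheafData, FGA.IsEffCartier J ∧ (J.support : Set Y) = closure {η} := by
  intro η hη
  haveI : IsProper π := by
    choose U hU hP using hπ
    have hsup : iSup U = ⊤ := top_le_iff.1 fun s _ => TopologicalSpace.Opens.mem_iSup.2 ⟨s, hU s⟩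
    exact (IsZariskiLocalAtTarget.iff_of_iSup_eq_top (P := @IsProper) U hsup).2 fun s =>
      (SymAlg.isProper_and_ftData_of_isProjective (hP s)).1
  have hgen : π (genericPoint X) = genericPoint Y := ConstFib.genericPoint_map_of_surjective π π.surjective
  have hle : ∀ y, Unibranch.ChainsLE π Set.univ y d := fun y =>
    (Unibranch.topologicalKrullDim_le_iff π (π.fiberι y).isEmbedding
      (by rw [Set.univ_inter]; exact Scheme.Hom.range_fiberι π y)).1 (hd y).le
  have hge : Unibranch.HasChain π Set.univ (genericPoint Y) d :=
    (Unibranch.natCast_le_topologicalKrullDim_iff π (π.fiberι (genericPoint Y)).isEmbedding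
      (by rw [Set.univ_inter]; exact Scheme.Hom.range_fiberι π (genericPoint Y))).1 (hd (genericPoint Y)).ge
  obtain ⟨I, hI, hsub, hfull⟩ := QFactDesc.exists_divisor_of_fibre π hgen d hle hge hX hη
  have hgD : ¬ η ⤳ genericPoint Y := fun h => by
    have e : η = genericPoint Y := (h.antisymm (genericPoint_specializes η)).eq
    rw [e, ringKrullDim_stalk_eq_coheight,
      Order.coheight_eq_zero.2 (fun z _ => genericPoint_specializes z)] at hη
    exact zero_ne_one (by exact_mod_cast hη : (0 : ℕ∞) = 1)
  refine QFactDesc.exists_cartier_of_local hYn hη fun y => ?_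
  obtain ⟨w, V, hw, hyV, hV, hfin⟩ := QFactDesc.exists_multisection_nhd hπ d hd y
  let Zs := Scheme.IdealSheafData.vanishingIdeal (Devissage.Zc w)
  haveI : AlgebraicGeometry.IsIntegral Zs.subscheme := Devissage.Zi_isIntegral w
  have hwg : Zs.subschemeι (genericPoint Zs.subscheme) = w := Devissage.genericPoint_Zi w
  have hgenZ : (Zs.subschemeι ≫ π) (genericPoint Zs.subscheme) = genericPoint Y := by
    rw [Scheme.Hom.comp_apply, hwg, hw]
  haveI := hfin
  exact QFactDesc.exists_local_of_multisection hYn (Zs.subschemeι ≫ π) hgenZ I hI Zs.subschemeι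
    (fun z hz => hsub _ hz) (fun z hz => hfull _ hz) hgD hV hyV

end Groth.Agent.S15979
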