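import Groth.Statements.S15985
import Groth.Agent.W7Cech.NNStatements

set_option autoImplicit false
universe u
open Coherent

open CategoryTheory CategoryTheory.Limits AlgebraicGeometry
namespace Groth.Agent.S15985

open AlgebraicGeometry CategoryTheory Scheme.Modules in
/-- Let π : X → Y be proper of finite presentation, F a quasi-coherent O_X-module of finite
presentation, flat over Y, and p a natural number such that H^p(X_y, F|_{X_y}) = 0 for every point y
of Y (cohomology of the restriction of F to the scheme-theoretic fibre at y). Then the higher direct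
image R^p π_* F (the p-th right derived functor of π_* on O_X-modules, applied to F) is zero. -/
theorem result
    {X Y : Scheme.{u}} (π : X ⟶ Y) [IsProper π] [LocallyOfFinitePresentation π]
    [HasInjectiveResolutions X.Modules]
    (F : X.Modules) [Coh.IsQCoh F] (hfp : CohB1.IsFP F) (hfl : FlatMod.IsFlatOver π F) (p : ℕ)
    (h0 : ∀ y : Y, Subsingleton (CohIII.fiberH π F y p)) :
    Limits.IsZero ((Coh.Rpush π p).obj F) := by
  refine Groth.Agent.CohFinite.isZero_of_affine_cover ((Coh.Rpush π p).obj F)
    (Groth.Agent.RPushQC.isQCoh_rpush π F ‹Coh.IsQCoh F› p)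
    (fun V : Y.affineOpens => V.1) (fun V => V.2)
    (fun x => by
      obtain ⟨V, hV, hx, -⟩ := exists_isAffineOpen_mem_and_subset (X := Y) (x := x) (U := ⊤) trivial
      exact ⟨⟨V, hV⟩, hx⟩) fun V s => ?_
  obtain ⟨m⟩ := Groth.Agent.W7Cech.nonempty_ModelNN π ‹Coh.IsQCoh F› hfp hfl V.2
  obtain ⟨e⟩ := m.hR p
  haveI : Subsingleton (CohIII.T m.L (p : ℤ) (ModuleCat.of Γ(Y, V.1) Γ(Y, V.1))) :=
    ModuleCat.subsingleton_of_isZero (m.isZero_T π p (fun y _ => h0 y) _)
  haveI : Subsingleton (Groth.Agent.FlatCx.Hm m.L (p : ℤ)) :=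
    (Groth.Agent.FlatCx.HmEquivT m.L (Groth.Agent.W7Cech.flatX m.L m.hL) (p : ℤ)).injective.subsingleton
  exact e.injective (Subsingleton.elim _ _)

end Groth.Agent.S15985
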