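import Groth.Statements.S15986
import Groth.Agent.CurveDual.Family

set_option autoImplicit false
universe u
open Curves

set_option backward.isDefEq.respectTransparency false
set_option backward.isDefEq.respectTransparency.types false

namespace Groth.Agent.S15986

open AlgebraicGeometry CategoryTheory Scheme.Modules in
/-- Let π : C → B be proper, smooth of relative dimension 1, with geometrically connected fibres (a
family of smooth curves over an arbitrary base; no genus is fixed here, so the rank may vary over
B). Then the direct image π_* Ω_{C/B} of the sheaf of relative differentials is finite locally free,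
and it commutes with every base change: for every cartesian square with vertex C' = C ×_B B',
projections f : C' → C and ζ : C' → B', over α : B' → B, the degree-0 base change map α^* π_*
Ω_{C/B} → ζ_* f^* Ω_{C/B} — the adjoint of π_* of the unit Ω_{C/B} → f_* f^* Ω_{C/B} followed by the
identification π_* f_* = α_* ζ_* — is an isomorphism. (The source states the fibre at a point b as
H^0(C_b, Ω_{C_b}); here this is the base change statement together with the compatibility of Ω with
base change.) -/
theorem result
    {C B : Scheme.{u}} (π : C ⟶ B) [IsProper π] [SmoothOfRelativeDimension 1 π] [GeometricallyConnected π] :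
    FlatMod.IsFinLocFree ((pushforward π).obj (Omega.sheaf π)) ∧
      ∀ ⦃C' B' : Scheme.{u}⦄ (f : C' ⟶ C) (ζ : C' ⟶ B') (α : B' ⟶ B) (h : IsPullback f ζ π α),
        IsIso (((pullbackPushforwardAdjunction α).homEquiv ((pushforward π).obj (Omega.sheaf π))
            ((pushforward ζ).obj ((pullback f).obj (Omega.sheaf π)))).symm
          ((pushforward π).map ((pullbackPushforwardAdjunction f).unit.app (Omega.sheaf π)) ≫
            (pushforwardComp f π).hom.app ((pullback f).obj (Omega.sheaf π)) ≫
            (pushforwardCongr h.w).hom.app ((pullback f).obj (Omega.sheaf π)) ≫
            (pushforwardComp ζ α).inv.app ((pullback f).obj (Omega.sheaf π)))) := by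
  haveI : Smooth π := SmoothOfRelativeDimension.smooth 1 π
  have hdim := CurveDual.dim_fiber_of_relDim π
  refine ⟨fun x => ?_, fun C' B' f ζ α h => CurveDual.isIso_bc0_omega π hdim α ζ f h⟩
  obtain ⟨U, hU, ⟨e⟩⟩ := CurveDual.push_omega_locFree π hdim x
  exact ⟨U, _, hU, ⟨e⟩⟩

end Groth.Agent.S15986
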