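import Groth.Statements.S15987


set_option autoImplicit false
universe u v
open Deform

namespace Groth.Agent.S15987

open TrivSqZeroExt in
/-- Let k be a field, A a commutative k-algebra and q_i : A → k (i ∈ ι) k-algebra maps (marked k-points
of Spec A). The k-algebra automorphisms φ of the ring of dual numbers A[ε] that fix ε (so are
k[ε]-linear), are the identity modulo ε, and satisfy q_i((φ x)_ε) = q_i(x_ε) for all i and x
(compatibility with the trivial lifts A[ε] → k[ε] of the marked points) are in bijection with the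
k-derivations D : A → A such that q_i ∘ D = 0 for every i, the bijection sending φ to a ↦ (φ(a))_ε.
(The source identifies the right-hand side with the global vector fields vanishing at the marked
points; the condition the computation yields is q_i ∘ D = 0, which is the same for Spec A smooth
over k but is weaker in general, e.g. for A = k[x]/(x^2) with 2 invertible in k.) -/
theorem result
    (k : Type u) [Field k] (A : Type u) [CommRing A] [Algebra k A] {ι : Type v} (q : ι → (A →ₐ[k] k)) :
    ∃ e : {φ : DualNumber A ≃ₐ[k] DualNumber A //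
            φ DualNumber.eps = DualNumber.eps ∧ (∀ x, (φ x).fst = x.fst) ∧
              ∀ i x, q i (φ x).snd = q i x.snd} ≃
          {D : Derivation k A A // ∀ i a, q i (D a) = 0},
      ∀ φ (a : A), (e φ).1 a = (φ.1 (inl a : DualNumber A)).snd := by
  have hsplit : ∀ x : DualNumber A, x = inl x.fst + DualNumber.eps * inl x.snd := fun x =>
    TrivSqZeroExt.ext (by simp) (by simp)
  have hsnd : ∀ φ : DualNumber A ≃ₐ[k] DualNumber A, φ DualNumber.eps = DualNumber.eps → (∀ x, (φ x).fst = x.fst) →
      ∀ x, (φ x).snd = (φ (inl x.fst)).snd + x.snd := fun φ h1 h2 x => by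
    conv_lhs => rw [hsplit x, map_add, map_mul, h1]
    simp [h2]
  let toD : {φ : DualNumber A ≃ₐ[k] DualNumber A //
      φ DualNumber.eps = DualNumber.eps ∧ (∀ x, (φ x).fst = x.fst) ∧ ∀ i x, q i (φ x).snd = q i x.snd} →
      {D : Derivation k A A // ∀ i a, q i (D a) = 0} := fun φ =>
    ⟨Derivation.mk'
      { toFun := fun a => (φ.1 (inl a : DualNumber A)).snd
        map_add' := fun a b => by rw [inl_add, map_add, snd_add]
        map_smul' := fun c a => by
          rw [RingHom.id_apply, inl_smul, map_smul, snd_smul] }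
      (fun a b => by
        show (φ.1 (inl (a * b) : DualNumber A)).snd = a • (φ.1 (inl b : DualNumber A)).snd + b • (φ.1 (inl a : DualNumber A)).snd
        rw [inl_mul, map_mul, DualNumber.snd_mul, φ.2.2.1, φ.2.2.1]
        simp [mul_comm]),
      fun i a => by
        show q i (φ.1 (inl a : DualNumber A)).snd = 0
        rw [φ.2.2.2 i (inl a), snd_inl, map_zero]⟩
  have hauto : ∀ D : Derivation k A A, ∃ φ : DualNumber A ≃ₐ[k] DualNumber A,
      ∀ x, (φ x).fst = x.fst ∧ (φ x).snd = x.snd + D x.fst := fun D => by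
    let f : Derivation k A A → (DualNumber A →ₐ[k] DualNumber A) := fun E =>
      { toFun := fun x => inl x.fst + inr (x.snd + E x.fst)
        map_one' := TrivSqZeroExt.ext (by simp) (by simp)
        map_mul' := fun x y => TrivSqZeroExt.ext (by simp) (by simp; ring)
        map_zero' := TrivSqZeroExt.ext (by simp) (by simp)
        map_add' := fun x y => TrivSqZeroExt.ext (by simp) (by simp; ring)
        commutes' := fun c => TrivSqZeroExt.ext (by simp [TrivSqZeroExt.algebraMap_eq_inl'])
          (by simp [TrivSqZeroExt.algebraMap_eq_inl']) }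
    have hf : ∀ E x, (f E x).fst = x.fst ∧ (f E x).snd = x.snd + E x.fst := fun E x => by
      refine ⟨?_, ?_⟩ <;> simp [f]
    refine ⟨AlgEquiv.ofAlgHom (f D) (f (-D)) (AlgHom.ext fun x => ?_) (AlgHom.ext fun x => ?_), fun x => hf D x⟩
    · refine TrivSqZeroExt.ext ?_ ?_
      · simp [(hf _ _).1]
      · simp [(hf _ _).1, (hf _ _).2]
    · refine TrivSqZeroExt.ext ?_ ?_
      · simp [(hf _ _).1]
      · simp [(hf _ _).1, (hf _ _).2]
  refine ⟨Equiv.ofBijective toD ⟨fun φ ψ h => Subtype.ext (AlgEquiv.ext fun x => ?_), fun D => ?_⟩, fun φ a => rfl⟩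
  · refine TrivSqZeroExt.ext ((φ.2.2.1 x).trans (ψ.2.2.1 x).symm) ?_
    rw [hsnd φ.1 φ.2.1 φ.2.2.1 x, hsnd ψ.1 ψ.2.1 ψ.2.2.1 x]
    exact congrArg (· + x.snd) (DFunLike.congr_fun (congrArg Subtype.val h) x.fst)
  · obtain ⟨φ, hφ⟩ := hauto D.1
    refine ⟨⟨φ, TrivSqZeroExt.ext ((hφ _).1) ?_, fun x => (hφ x).1, fun i x => ?_⟩, Subtype.ext (Derivation.ext fun a => ?_)⟩
    · rw [(hφ _).2]; simp
    · rw [(hφ x).2, map_add, D.2, add_zero]
    · show (φ (inl a : DualNumber A)).snd = D.1 a
      rw [(hφ _).2]; simp

end Groth.Agent.S15987
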