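import Groth.Statements.S15988


set_option autoImplicit false
universe u v
open Deform

namespace Groth.Agent.S15988

open TrivSqZeroExt in
/-- Let k be a field, A a smooth commutative k-algebra, q_i : A → k (i ∈ ι, ι finite) pairwise distinct
k-algebra maps, and q'_i : A[ε] → k[ε] k-algebra maps with q'_i(ε) = ε which reduce to q_i modulo ε
(marked points of a first-order deformation with underlying trivial deformation). Then some
k-algebra automorphism φ of A[ε] with φ(ε) = ε and φ = id modulo ε carries every q'_i to the trivial
lift of q_i: q'_i(φ x) = (q_i(x_0), q_i(x_ε)) for all i and x. Together with the triviality of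
first-order deformations of a smooth affine scheme this gives the source's statement that
first-order deformations of a smooth affine scheme with marked points are trivial. (The published
statement does not say that the finitely many marked points are distinct; for two coincident points
with different lifts no such automorphism exists, so the points are taken pairwise distinct here,
and the source's non-singular is read as smooth over k.) -/
theorem result
    (k : Type u) [Field k] (A : Type u) [CommRing A] [Algebra k A] [Algebra.Smooth k A]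
    {ι : Type v} [Finite ι] (q : ι → (A →ₐ[k] k)) (hq : Function.Injective q)
    (q' : ι → (DualNumber A →ₐ[k] DualNumber k))
    (hε : ∀ i, q' i DualNumber.eps = DualNumber.eps) (hq' : ∀ i x, (q' i x).fst = q i x.fst) :
    ∃ φ : DualNumber A ≃ₐ[k] DualNumber A,
      φ DualNumber.eps = DualNumber.eps ∧ (∀ x, (φ x).fst = x.fst) ∧
        ∀ i x, (q' i (φ x)).fst = q i x.fst ∧ (q' i (φ x)).snd = q i x.snd := by
  classical
  haveI := Fintype.ofFinite ι
  letI : Algebra A (ι → k) := (RingHom.pi fun i => (q i).toRingHom).toAlgebra
  have hB : ∀ (a : A) (v : ι → k) (i : ι), (a • v) i = q i a * v i := fun a v i => rfl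
  haveI : IsScalarTower k A (ι → k) := IsScalarTower.of_algebraMap_eq fun c => funext fun i =>
    ((q i).commutes c).symm
  have hsurj : Function.Surjective (Algebra.linearMap A (ι → k)) := by
    let K : ι → Ideal A := fun i => RingHom.ker (q i).toRingHom
    have hK : ∀ i, (K i).IsMaximal := fun i =>
      RingHom.ker_isMaximal_of_surjective _ fun c => ⟨algebraMap k A c, (q i).commutes c⟩
    have hco : Pairwise fun i j => IsCoprime (K i) (K j) := fun i j hij =>
      Ideal.isCoprime_iff_sup_eq.2 (Ideal.IsMaximal.coprime_of_ne (hK i) (hK j) fun h => hij (hq (AlgHom.ext fun a => by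
        have h0 : a - algebraMap k A (q i a) ∈ K i := by simp [K, RingHom.mem_ker]
        rw [h] at h0
        have h1 : q j a - q i a = 0 := by simpa [K, RingHom.mem_ker] using h0
        exact (sub_eq_zero.1 h1).symm)))
    intro v
    obtain ⟨a, ha⟩ := Ideal.pi_quotient_surjective hco fun i => Ideal.Quotient.mk _ (algebraMap k A (v i))
    refine ⟨a, funext fun i => ?_⟩
    have := Ideal.Quotient.eq.1 (ha i)
    show q i a = v i
    simpa [K, RingHom.mem_ker, sub_eq_zero] using this
  let dd : A →ₗ[k] (ι → k) := LinearMap.pi fun i =>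
    { toFun := fun a => (q' i (TrivSqZeroExt.inl a)).snd
      map_add' := fun a b => by rw [TrivSqZeroExt.inl_add, map_add]; rfl
      map_smul' := fun c a => by rw [TrivSqZeroExt.inl_smul, map_smul]; rfl }
  let D : Derivation k A (ι → k) := Derivation.mk' dd fun a b => funext fun i => by
    show (q' i (TrivSqZeroExt.inl (a * b))).snd =
      q i a * (q' i (TrivSqZeroExt.inl b)).snd + q i b * (q' i (TrivSqZeroExt.inl a)).snd
    rw [TrivSqZeroExt.inl_mul, map_mul, DualNumber.snd_mul, hq', hq', TrivSqZeroExt.fst_inl, TrivSqZeroExt.fst_inl]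
    ring
  obtain ⟨L, hL⟩ := Module.projective_lifting_property (Algebra.linearMap A (ι → k))
    (-D).liftKaehlerDifferential hsurj
  let D₀ : Derivation k A A := L.compDer (KaehlerDifferential.D k A)
  have hD : ∀ a i, q i (D₀ a) = -(q' i (TrivSqZeroExt.inl a)).snd := fun a i => by
    have h1 := congr($hL (KaehlerDifferential.D k A a))
    rw [LinearMap.comp_apply, Derivation.liftKaehlerDifferential_comp_D] at h1
    exact congr_fun h1 i
  let φ : ∀ E : Derivation k A A, DualNumber A →ₐ[k] DualNumber A := fun E =>
    { toFun := fun x => TrivSqZeroExt.inl x.fst + TrivSqZeroExt.inr (x.snd + E x.fst)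
      map_one' := TrivSqZeroExt.ext (by simp) (by simp)
      map_mul' := fun x y => TrivSqZeroExt.ext (by simp) (by simp [DualNumber.snd_mul]; ring)
      map_zero' := TrivSqZeroExt.ext (by simp) (by simp)
      map_add' := fun x y => TrivSqZeroExt.ext (by simp) (by simp; ring)
      commutes' := fun c => TrivSqZeroExt.ext (by simp [TrivSqZeroExt.algebraMap_eq_inl'])
        (by simp [TrivSqZeroExt.algebraMap_eq_inl']) }
  refine ⟨AlgEquiv.ofAlgHom (φ D₀) (φ (-D₀)) (AlgHom.ext fun x => TrivSqZeroExt.ext (by simp [φ]) (by simp [φ]))
    (AlgHom.ext fun x => TrivSqZeroExt.ext (by simp [φ]) (by simp [φ])), ?_, fun x => by simp [φ], fun i x => ?_⟩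
  · exact TrivSqZeroExt.ext (by simp [φ]) (by simp [φ])
  · show (q' i (φ D₀ x)).fst = _ ∧ (q' i (φ D₀ x)).snd = _
    have e : φ D₀ x = TrivSqZeroExt.inl x.fst + TrivSqZeroExt.inl (x.snd + D₀ x.fst) * DualNumber.eps :=
      TrivSqZeroExt.ext (by simp [φ]) (by simp [φ, DualNumber.snd_mul])
    rw [e, map_add, map_mul, hε, TrivSqZeroExt.fst_add, TrivSqZeroExt.snd_add, TrivSqZeroExt.fst_mul, DualNumber.snd_mul,
      hq', hq', DualNumber.fst_eps, DualNumber.snd_eps, TrivSqZeroExt.fst_inl, TrivSqZeroExt.fst_inl, map_add, hD]
    exact ⟨by ring, by ring⟩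

end Groth.Agent.S15988
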