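import Groth.Statements.S15993
import Groth.Agent.SectExtU.Dense
import Mathlib.AlgebraicGeometry.Morphisms.SchemeTheoreticallyDominant
import Mathlib.AlgebraicGeometry.Morphisms.FlatDescent

set_option autoImplicit false
open CategoryTheory AlgebraicGeometry
universe u
open EtHull

set_option backward.isDefEq.respectTransparency false

namespace Groth.Agent.S15993

open CategoryTheory.Limits

/-- Let f : X → S be a morphism of schemes which is faithfully flat (flat and surjective), quasi-compact
and separated, and schematically birational in the following sense: there are schematically dense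
opens U of S and V of X, with the inclusion V → X quasi-compact, such that f maps V into U and the
induced morphism V → U is an isomorphism. Then f is an isomorphism. (The source states this for
algebraic spaces and puts no quasi-compactness condition on the dense opens. Its proof base-changes
along f and uses that the inverse image of V in X ×_S X is again schematically dense, which holds
when V → X is quasi-compact, for instance when X is locally Noetherian, and fails in general: over
the Boolean ring of eventually constant sequences of elements of the field with two elements, the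
spectrum of the ring of eventually two-periodic sequences is faithfully flat and affine, and it is
an isomorphism above the open set of principal points, which is schematically dense on both sides,
yet it is not an isomorphism, the point at infinity being doubled. So V is taken retrocompact in X
here, and X, S are schemes.) -/
theorem result {X S : Scheme.{u}} (f : X ⟶ S)
    [Flat f] [Surjective f] [QuasiCompact f] [IsSeparated f]
    (U : S.Opens) (V : X.Opens) [QuasiCompact V.ι]
    (hU : CInt.IsSchematicallyDense U) (hV : CInt.IsSchematicallyDense V)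
    (hle : V ≤ f ⁻¹ᵁ U) (hiso : IsIso (f.resLE U V hle)) : IsIso f := by
  haveI : IsIso (f.resLE U V hle) := hiso
  haveI hVd : IsSchemeTheoreticallyDominant V.ι := ⟨Groth.Agent.SectExtU.ker_ι_eq_bot hV⟩
  haveI : Mono (V.ι ≫ f) := by
    rw [← Scheme.Hom.resLE_comp_ι f hle]
    infer_instance
  have hVU : V = f ⁻¹ᵁ U := by
    let j : (V : Scheme.{u}) ⟶ (f ⁻¹ᵁ U : X.Opens) := X.homOfLE hle
    have hj : j ≫ (f ∣_ U) = f.resLE U V hle := by
      rw [← cancel_mono U.ι, Category.assoc, morphismRestrict_ι, Scheme.Hom.resLE_comp_ι]
      simp [j]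
    haveI : IsClosedImmersion (j ≫ (f ∣_ U)) := by rw [hj]; infer_instance
    haveI : IsClosedImmersion j := IsClosedImmersion.of_comp j (f ∣_ U)
    haveI : IsDominant V.ι := inferInstance
    refine le_antisymm hle fun x hx => ?_
    have hc : IsClosed (Set.range j.base) := j.isClosedEmbedding.isClosed_range
    by_contra hxV
    have hnot : (⟨x, hx⟩ : (f ⁻¹ᵁ U : X.Opens)) ∈ (Set.range j.base)ᶜ := by
      rintro ⟨v, hv⟩
      refine hxV ?_
      have h2 : (f ⁻¹ᵁ U).ι.base (j.base v) = v.1 := by
        rw [← Scheme.Hom.comp_apply, Scheme.homOfLE_ι]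
        rfl
      rw [hv] at h2
      exact (show x = v.1 from h2) ▸ v.2
    have hopen := (f ⁻¹ᵁ U).ι.isOpenEmbedding.isOpenMap _ hc.isOpen_compl
    obtain ⟨_, ⟨z, hz, rfl⟩, v, hv⟩ := V.ι.denseRange.inter_open_nonempty _ hopen ⟨x, _, hnot, rfl⟩
    refine hz ⟨v, (f ⁻¹ᵁ U).ι.isOpenEmbedding.injective ?_⟩
    rw [← hv, ← Scheme.Hom.comp_apply, Scheme.homOfLE_ι]
  let p₁ := pullback.fst f f
  let p₂ := pullback.snd f f
  haveI : Flat p₁ := inferInstanceAs (Flat (pullback.fst f f))
  let j' := pullback.snd V.ι p₁
  haveI : IsSchemeTheoreticallyDominant j' :=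
    inferInstanceAs (IsSchemeTheoreticallyDominant (pullback.snd V.ι p₁))
  have hj' : pullback.fst V.ι p₁ ≫ V.ι = j' ≫ p₁ := pullback.condition
  have hr : Set.range (j' ≫ p₂) ⊆ Set.range V.ι := by
    rintro _ ⟨w, rfl⟩
    rw [Scheme.Opens.range_ι]
    show (j' ≫ p₂) w ∈ V
    refine (SetLike.ext_iff.1 hVU _).2 ?_
    show f ((j' ≫ p₂) w) ∈ U
    rw [← Scheme.Hom.comp_apply, Category.assoc, ← pullback.condition, ← Category.assoc, ← hj',
      Scheme.Hom.comp_apply, Scheme.Hom.comp_apply]
    exact hle (pullback.fst V.ι p₁ w).2
  have he : j' ≫ p₁ = j' ≫ p₂ := by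
    rw [← hj', ← IsOpenImmersion.lift_fac V.ι (j' ≫ p₂) hr]
    refine congrArg (· ≫ V.ι) ((cancel_mono (V.ι ≫ f)).1 ?_)
    rw [← Category.assoc, ← Category.assoc, IsOpenImmersion.lift_fac, hj', Category.assoc, Category.assoc,
      pullback.condition]
  have hfac : (j' ≫ p₁) ≫ pullback.diagonal f = j' := by
    refine pullback.hom_ext ?_ ?_
    · rw [Category.assoc, pullback.diagonal_fst, Category.comp_id]
    · rw [Category.assoc, pullback.diagonal_snd, Category.comp_id, he]
  have hk : (pullback.diagonal f).ker = ⊥ := le_bot_iff.1 (by
    rw [← j'.ker_eq_bot]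
    conv_rhs => rw [← hfac]
    exact Scheme.Hom.le_ker_comp (j' ≫ p₁) (pullback.diagonal f))
  haveI : IsClosedImmersion (pullback.diagonal f) := inferInstance
  haveI : IsIso (pullback.diagonal f) := IsClosedImmersion.isIso_iff_ker_eq_bot.2 hk
  have hp : IsIso (pullback.fst f f) := by
    rw [show pullback.fst f f = inv (pullback.diagonal f) from
      (IsIso.inv_eq_of_hom_inv_id (pullback.diagonal_fst f)).symm]
    infer_instance
  exact MorphismProperty.of_pullback_fst_of_descendsAlong (P := MorphismProperty.isomorphisms Scheme)
    (Q := @Surjective ⊓ @Flat ⊓ @QuasiCompact) (f := f) (g := f) ⟨⟨inferInstance, inferInstance⟩, inferInstance⟩ hp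

end Groth.Agent.S15993
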