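import Groth.Statements.S16005
import Groth.Agent.Higgs.Destab

set_option autoImplicit false
open CategoryTheory AlgebraicGeometry CategoryTheory.Limits
open VBCurve

set_option backward.isDefEq.respectTransparency false
set_option backward.isDefEq.respectTransparency.types false

open Groth.Agent

namespace Groth.Agent.S16005

/-- Let X be a smooth proper integral curve over the complex numbers and L an invertible O_X-module; an
L-valued pair is a finite locally free O_X-module E of rank r ≥ 1 with a map φ : E → E ⊗ L; a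
submodule j : G → E (a monomorphism) is φ-invariant when some χ : G → G ⊗ L followed by j ⊗ L equals
j followed by φ; the pair is semistable when deg G · r ≤ deg E · n for every φ-invariant finite
locally free submodule G of rank n ≥ 1, degrees being χ − rank · χ(O_X). Let (E, φ) be a pair and ψ
: E → E an endomorphism commuting with φ (ψ followed by φ equals φ followed by ψ ⊗ L); a submodule
is ψ-invariant when ψ restricts to an endomorphism of it. Then (E, φ, ψ) is semistable, meaning deg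
G · r ≤ deg E · n for every finite locally free submodule G of rank n ≥ 1 that is both φ-invariant
and ψ-invariant, if and only if the pair (E, φ) is semistable. (The published statement takes L to
be the canonical sheaf; the row allows any invertible L.) -/
theorem result
    (X : Scheme.{0}) [X.Over (Spec (CommRingCat.of ℂ))] [IsIntegral X]
    [IsProper (X ↘ Spec (CommRingCat.of ℂ))] [Smooth (X ↘ Spec (CommRingCat.of ℂ))]
    (hdim : topologicalKrullDim X = 1)
    (L : X.Modules) (hL : PicF.IsInvertible L)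
    (r : ℕ) (hr : 0 < r) (E : X.Modules) (hE : FlatMod.IsFinLocFreeOfRank r E)
    (φ : E ⟶ CohB1.tensorMod E L) (ψ : E ⟶ E)
    (hcomm : ψ ≫ φ = φ ≫ (CohB1.sheafifyMod X).map (MonoidalCategoryStruct.whiskerRight (C := CohB1.PMod X) ψ.val (CohB1.toPMod L))) :
    (∀ (G : X.Modules) (n : ℕ) (j : G ⟶ E) (χ : G ⟶ CohB1.tensorMod G L) (ψ' : G ⟶ G), Mono j → 0 < n →
      FlatMod.IsFinLocFreeOfRank n G →
      χ ≫ (CohB1.sheafifyMod X).map (MonoidalCategoryStruct.whiskerRight (C := CohB1.PMod X) j.val (CohB1.toPMod L)) = j ≫ φ → ψ' ≫ j = j ≫ ψ →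
      Curv2.deg ℂ X G n * (r : ℤ) ≤ Curv2.deg ℂ X E r * (n : ℤ)) ↔
    (∀ (G : X.Modules) (n : ℕ) (j : G ⟶ E) (χ : G ⟶ CohB1.tensorMod G L), Mono j → 0 < n →
      FlatMod.IsFinLocFreeOfRank n G →
      χ ≫ (CohB1.sheafifyMod X).map (MonoidalCategoryStruct.whiskerRight (C := CohB1.PMod X) j.val (CohB1.toPMod L)) = j ≫ φ →
      Curv2.deg ℂ X G n * (r : ℤ) ≤ Curv2.deg ℂ X E r * (n : ℤ)) := by
  have hX := W7Slope.regCurve_of_smooth (k := ℂ) (X := X) hdim
  refine ⟨fun h G n j χ hj hn hG hχ => ?_, fun h G n j χ ψ' hj hn hG hχ _ => h G n j χ hj hn hG hχ⟩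
  rw [W7Slope.whisker_eq] at hcomm hχ
  obtain ⟨E₁, r₁, i₁, hi₁, hr₁, hE₁, ⟨χ₁, hχ₁⟩, hmax, hmax'⟩ :=
    Higgs.exists_max_slope_of ℂ hX hr hE (fun _ j => Higgs.Inv φ j)
      ⟨φ, by
        rw [Category.id_comp]
        rw [CohFinite.tmap_id, Category.comp_id]⟩
  have hc : i₁ ≫ φ ≫ CohFinite.tmap (cokernel.π i₁) L = 0 := by
    rw [← Category.assoc, ← hχ₁, Category.assoc, ← CohFinite.tmap_comp, cokernel.condition, CohFinite.tmap_zero,
      comp_zero]
  have hφ' : cokernel.π i₁ ≫ cokernel.desc i₁ (φ ≫ CohFinite.tmap (cokernel.π i₁) L) hc =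
      φ ≫ CohFinite.tmap (cokernel.π i₁) L := cokernel.π_desc _ _ _
  have hf := Higgs.hom_coker_eq_zero ℂ hX hL hE φ hr₁ hE₁ i₁ hχ₁ hmax hmax' _ hφ' (i₁ ≫ ψ ≫ cokernel.π i₁) (by
    simp only [Category.assoc, hφ', reassoc_of% hcomm, CohFinite.tmap_comp, reassoc_of% hχ₁])
  have hψ : (i₁ ≫ ψ) ≫ cokernel.π i₁ = 0 := by rw [Category.assoc]; exact hf
  have h1 := hmax G n j hj hn hG ⟨χ, hχ⟩
  have h2 := h E₁ r₁ i₁ χ₁ (Abelian.monoLift i₁ _ hψ) hi₁ hr₁ hE₁ (by rw [W7Slope.whisker_eq]; exact hχ₁)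
    (Abelian.monoLift_comp i₁ _ hψ)
  refine le_of_mul_le_mul_right ?_ (show (0 : ℤ) < r₁ by exact_mod_cast hr₁)
  nlinarith [mul_le_mul_of_nonneg_right h1 (Int.natCast_nonneg r), mul_le_mul_of_nonneg_right h2 (Int.natCast_nonneg n)]

end Groth.Agent.S16005
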