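import Groth.Statements.S16006
import Groth.Agent.VBTwo.Basic
import Groth.Agent.W7Slope.Twist

set_option autoImplicit false
open CategoryTheory AlgebraicGeometry CategoryTheory.Limits
open VBCurve

set_option backward.isDefEq.respectTransparency false
set_option backward.isDefEq.respectTransparency.types false

open Groth.Agent

namespace Groth.Agent.S16006

/-- Let X be a smooth proper integral curve of genus 1 over the complex numbers (genus = dim H¹(O_X))
and L an invertible O_X-module of degree 0 such that L ⊗ L is not isomorphic to O_X; an L-valued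
pair is a finite locally free O_X-module E of rank r ≥ 1 with a map φ : E → E ⊗ L; a submodule j : G
→ E (a monomorphism) is φ-invariant when some χ : G → G ⊗ L followed by j ⊗ L equals j followed by
φ; the pair is semistable when deg G · r ≤ deg E · n for every φ-invariant finite locally free
submodule G of rank n ≥ 1, degrees being χ − rank · χ(O_X), and it is stable when deg G · r < deg E
· n for every φ-invariant finite locally free submodule G of rank n with 1 ≤ n < r. If (E, φ) is a
stable pair of rank 2, then E is slope-stable as a module of rank 2: deg G · 2 < deg E · n for every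
finite locally free submodule G of rank n with 1 ≤ n < 2, φ-invariant or not. (The published
statement assumes only that L is not isomorphic to O_X. For L of order two and E = O_X ⊕ L, the
isomorphism φ : E → E ⊗ L = (O_X ⊗ L) ⊕ (L ⊗ L) that maps the summand O_X of E onto the summand L ⊗
L ≅ O_X and the summand L onto O_X ⊗ L ≅ L leaves no rank-one submodule of degree 0 invariant, so
(E, φ) is a stable pair while E is not stable; the published argument derives L ⊗ L ≅ O_X in the
split case, so the row assumes L ⊗ L ≄ O_X.) -/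
theorem result
    (X : Scheme.{0}) [X.Over (Spec (CommRingCat.of ℂ))] [IsIntegral X]
    [IsProper (X ↘ Spec (CommRingCat.of ℂ))] [Smooth (X ↘ Spec (CommRingCat.of ℂ))]
    (hdim : topologicalKrullDim X = 1)
    (hg : Curv2.genus ℂ X = 1)
    (L : X.Modules) (hL : PicF.IsInvertible L) (hL0 : Curv2.deg ℂ X L 1 = 0)
    (hL2 : ¬ Nonempty (CohB1.tensorMod L L ≅ Coh.structureModule X))
    (E : X.Modules) (hE : FlatMod.IsFinLocFreeOfRank 2 E)
    (φ : E ⟶ CohB1.tensorMod E L)
    (hst : (∀ (G : X.Modules) (n : ℕ) (j : G ⟶ E) (χ : G ⟶ CohB1.tensorMod G L), Mono j → 0 < n → n < 2 →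
      FlatMod.IsFinLocFreeOfRank n G →
      χ ≫ (CohB1.sheafifyMod X).map (MonoidalCategoryStruct.whiskerRight (C := CohB1.PMod X) j.val (CohB1.toPMod L)) = j ≫ φ →
      Curv2.deg ℂ X G n * (2 : ℤ) < Curv2.deg ℂ X E 2 * (n : ℤ))) :
    ∀ (G : X.Modules) (n : ℕ) (j : G ⟶ E), Mono j → 0 < n → n < 2 → FlatMod.IsFinLocFreeOfRank n G →
      Curv2.deg ℂ X G n * (2 : ℤ) < Curv2.deg ℂ X E 2 * (n : ℤ) := by
  haveI := CurveRR.isNoetherian_of_proper ℂ X
  have hX := W7Slope.regCurve_of_smooth (k := ℂ) hdim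
  simp only [W7Slope.whisker_eq] at hst
  intro G n j hj hn0 hn2 hG
  obtain rfl : n = 1 := by omega
  haveI := hj
  have key : ∀ (M : X.Modules) (i : M ⟶ E) (Q : X.Modules) (p : E ⟶ Q) (w : i ≫ p = 0),
      (ShortComplex.mk i p w).ShortExact → PicF.IsInvertible M → i ≫ φ ≫ CohFinite.tmap p L = 0 →
      Curv2.deg ℂ X M 1 * 2 < Curv2.deg ℂ X E 2 := fun M i Q p w hS hM h => by
    haveI := hS.mono_f
    haveI := W7Slope.mono_tmap hL i
    have hT := CohFinite.shortExact_tmap hL hS
    have := hst M 1 i (hT.exact.lift (i ≫ φ) (by rw [Category.assoc]; exact h)) inferInstance one_pos one_lt_two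
      (CurveRR.isFinLocFreeOfRank_one hM) (hT.exact.lift_f _ _)
    push_cast at this
    linarith
  obtain ⟨L₁, Q, i, l, p, w, hS, -, hL₁, hQ, hle, -, hdeg⟩ :=
    VBTwo.exists_sat ℂ hX (ZeroSch.isInvertible_of_rankOne hG) hE j
  push_cast
  by_contra hlt
  have hne : i ≫ φ ≫ CohFinite.tmap p L ≠ 0 := fun h => by
    have := key L₁ i Q p w hS hL₁ h
    omega
  have hQL := TMul.isInvertible_tensorMod hQ hL
  have hdQL := CurveRR.deg_tensor_inv (k := ℂ) hX.dim hQ hL
  obtain ⟨h1, h2⟩ := CurveRR.deg_le_and_isIso (k := ℂ) hX.dim hL₁ hQL _ hne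
  haveI := h2 (by omega)
  -- the sequence splits
  have hLno : ¬ Nonempty (L ≅ Coh.structureModule X) := fun ⟨e⟩ =>
    hL2 ⟨PicGrp.tensorModIso e e ≪≫ TMul.leftUnitIso _⟩
  obtain ⟨Q', hQ', ⟨e⟩⟩ := W7Hull.exists_tensor_inverse hQ
  have hN := TMul.isInvertible_tensorMod hL₁ hQ'
  have eN : CohB1.tensorMod L₁ Q' ≅ L :=
    PicGrp.tensorModIso (asIso (i ≫ φ ≫ CohFinite.tmap p L) ≪≫ TMul.commIso _ _) (Iso.refl Q') ≪≫ W7Slope.untw e L
  have h1N : Subsingleton (Coh.HH X (CohB1.tensorMod L₁ Q') 1) := by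
    haveI := CohFinite.finite_proper ℂ X _ (CurveRR.isCoh_of_inv hN) 1
    apply (Module.finrank_zero_iff (R := ℂ)).1
    have hχ := CurveRR.euler_eq (k := ℂ) hX.dim L
    have hdL := hL0
    rw [Curv2.deg, CurveRR.euler_structure hX.dim (CurveRR.h0_structure ℂ X), hg] at hdL
    have h0 : CurveRR.h ℂ L 0 = 0 := by
      by_contra hne
      obtain ⟨s, hs⟩ := CurveRR.exists_section (k := ℂ) hne
      exact hLno (CurveRR.nonempty_iso_of_section (k := ℂ) hX.dim hL s hs hL0.le)
    push_cast at hdL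
    have := CurveRR.h_eq_of_iso (k := ℂ) eN (q := 1)
    simp only [CurveRR.h] at this hχ h0 ⊢
    omega
  haveI : IsSplitEpi p := W7Slope.isSplitEpi_of_h1 ℂ _ hS hQ' (TMul.commIso _ _ ≪≫ e) h1N
  let sp := ShortComplex.Splitting.ofExactOfSection _ hS.exact (section_ p) (IsSplitEpi.id p) hS.mono_f
  have w' : section_ p ≫ sp.r = 0 := sp.s_r
  have hS' : (ShortComplex.mk (section_ p) sp.r w').ShortExact :=
    (ShortComplex.Splitting.mk (S := ShortComplex.mk (section_ p) sp.r w') p i sp.s_g sp.f_r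
      (by rw [add_comm]; exact sp.id)).shortExact
  have hne2 : section_ p ≫ φ ≫ CohFinite.tmap sp.r L = 0 := by
    by_contra hne2
    obtain ⟨h3, h4⟩ := CurveRR.deg_le_and_isIso (k := ℂ) hX.dim hQ (TMul.isInvertible_tensorMod hL₁ hL) _ hne2
    haveI := h4 (by rw [CurveRR.deg_tensor_inv (k := ℂ) hX.dim hL₁ hL]; omega)
    refine hL2 ⟨?_⟩
    exact (W7Slope.untw e (CohB1.tensorMod L L)).symm ≪≫ PicGrp.tensorModIso (TMul.assocIso L L Q ≪≫
      PicGrp.tensorModIso (Iso.refl L) (TMul.commIso L Q ≪≫ (asIso (i ≫ φ ≫ CohFinite.tmap p L)).symm) ≪≫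
      TMul.commIso L L₁ ≪≫ (asIso (section_ p ≫ φ ≫ CohFinite.tmap sp.r L)).symm) (Iso.refl Q') ≪≫ e
  have := key Q (section_ p) L₁ sp.r w' hS' hQ hne2
  omega

end Groth.Agent.S16006
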