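import Groth.Statements.S16008
import Groth.Agent.W7Slope.Twist
import Groth.Agent.W7Slope.H1Quot
import Groth.Agent.VBTwo.Basic

set_option autoImplicit false
open CategoryTheory AlgebraicGeometry CategoryTheory.Limits
open VBCurve

set_option backward.isDefEq.respectTransparency false
set_option backward.isDefEq.respectTransparency.types false

open Groth.Agent

namespace Groth.Agent.S16008

/-- Let X be a smooth proper integral curve over the complex numbers, of genus g = dim H¹(O_X), E a
finite locally free O_X-module of rank r ≥ 1 and C an integer such that every finite locally free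
submodule G of E of rank n ≥ 1 satisfies deg G · r ≤ (deg E + r·C) · n, that is, μ(G) ≤ μ(E) + C
(degrees being χ − rank · χ(O_X)). Then H¹(X, E ⊗ N) vanishes for every invertible module N with deg
E + r · deg N > r(r − 1)·C + r(2g − 2), that is, whenever μ(E) + deg N > (r − 1)C + 2g − 2. (Only
the degree of the twisting line bundle enters, so any invertible N replaces the twist O_X(m). The
published argument, written for the twists E(m) by a degree-one polarisation, prints the threshold
as m ≥ μ(E) + (r − 1)C + 2g − 1; for E = O(−1) on the projective line and m = −2 that threshold is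
met while H¹(O(−3)) ≠ 0. The degree count in the argument gives the threshold −μ(E) + (r − 1)C + 2g
− 2 < m stated here.) -/
theorem result
    (X : Scheme.{0}) [X.Over (Spec (CommRingCat.of ℂ))] [IsIntegral X]
    [IsProper (X ↘ Spec (CommRingCat.of ℂ))] [Smooth (X ↘ Spec (CommRingCat.of ℂ))]
    (hdim : topologicalKrullDim X = 1)
    (r : ℕ) (hr : 0 < r) (E : X.Modules) (hE : FlatMod.IsFinLocFreeOfRank r E) (C : ℤ)
    (hC : ∀ (G : X.Modules) (n : ℕ) (j : G ⟶ E), Mono j → 0 < n → FlatMod.IsFinLocFreeOfRank n G →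
      Curv2.deg ℂ X G n * (r : ℤ) ≤ (Curv2.deg ℂ X E r + (r : ℤ) * C) * (n : ℤ))
    (N : X.Modules) (hN : PicF.IsInvertible N)
    (hbig : (r : ℤ) * ((r : ℤ) - 1) * C + (r : ℤ) * (2 * (Curv2.genus ℂ X : ℤ) - 2) <
      Curv2.deg ℂ X E r + (r : ℤ) * Curv2.deg ℂ X N 1) :
    Subsingleton (Coh.HH X (CohB1.tensorMod E N) 1) := by
  haveI := CurveRR.isNoetherian_of_proper ℂ X
  have hX := W7Slope.regCurve_of_smooth (k := ℂ) hdim
  by_contra h1
  obtain ⟨K, i, n, hi, hK, hn, hle⟩ := W7Slope.exists_quotient_deg_le ℂ hdim hX (W7Slope.rank_tensor_inv hE hN) h1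
  haveI := hi
  have hd := W7Slope.deg_twist (k := ℂ) hX.dim hE hN
  obtain ⟨N', hN', ⟨e⟩⟩ := W7Hull.exists_tensor_inverse hN
  have hdN := W7Slope.deg_twist (k := ℂ) hX.dim (CurveRR.isFinLocFreeOfRank_one hN) hN'
  rw [W7Slope.deg_iso (k := ℂ) e, CurveRR.deg_structure] at hdN
  push_cast at hdN
  rcases Nat.eq_zero_or_pos n with rfl | hn0
  · rw [W7Slope.deg_rank_zero ℂ hK] at hle
    subst hn
    push_cast at hbig hd hle ⊢
    rw [hd] at hle
    nlinarith
  · haveI := W7Slope.mono_tmap hN' i
    have h2 := hC _ n (CohFinite.tmap i N' ≫ (W7Slope.untw e E).hom) (mono_comp _ _) hn0 (W7Slope.rank_tensor_inv hK hN')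
    rw [W7Slope.deg_twist (k := ℂ) hX.dim hK hN'] at h2
    have hN'd : Curv2.deg ℂ X N' 1 = -Curv2.deg ℂ X N 1 := by omega
    rw [hN'd] at h2
    rw [hd] at hle
    subst hn
    push_cast at hbig hle h2 ⊢
    nlinarith

end Groth.Agent.S16008
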