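import Groth.Statements.S1601

import Mathlib

set_option autoImplicit false
universe u
open Resolve MvPolynomial

namespace Groth.Agent.S1601


open MvPolynomial

/-- a derivation of a field of characteristic two killing `s` and sending `t` to one -/
lemma exists_delta {κ : Type u} [Field κ] (h2 : (2 : κ) = 0) (s t : κ) (ht : ∀ p q : κ, t ≠ p ^ 2 + s * q ^ 2) :
    ∃ δ : κ → κ, (∀ x y, δ (x + y) = δ x + δ y) ∧ (∀ x y, δ (x * y) = x * δ y + δ x * y) ∧
      δ s = 0 ∧ δ t = 1 := by
  classical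
  let K₀ : Subfield κ :=
    { carrier := {z | ∃ p q : κ, z = p ^ 2 + s * q ^ 2}
      mul_mem' := by
        rintro _ _ ⟨p, q, rfl⟩ ⟨p', q', rfl⟩
        exact ⟨p * p' + s * q * q', p * q' + q * p', by linear_combination (-2 * s * p * p' * q * q') * h2⟩
      one_mem' := ⟨1, 0, by ring⟩
      add_mem' := by
        rintro _ _ ⟨p, q, rfl⟩ ⟨p', q', rfl⟩
        exact ⟨p + p', q + q', by linear_combination (-(p * p') - s * q * q') * h2⟩
      zero_mem' := ⟨0, 0, by ring⟩
      neg_mem' := by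
        rintro _ ⟨p, q, rfl⟩
        exact ⟨p, q, by linear_combination (-(p ^ 2) - s * q ^ 2) * h2⟩
      inv_mem' := by
        rintro _ ⟨p, q, rfl⟩
        by_cases hz : p ^ 2 + s * q ^ 2 = 0
        · exact ⟨0, 0, by rw [hz]; simp⟩
        · refine ⟨p * (p ^ 2 + s * q ^ 2)⁻¹, q * (p ^ 2 + s * q ^ 2)⁻¹, ?_⟩
          field_simp }
  obtain ⟨K, hK₀, ⟨htK, hmax⟩⟩ : ∃ K : Subfield κ, K₀ ≤ K ∧ Maximal (fun L : Subfield κ => t ∉ L) K := by
    refine zorn_le_nonempty₀ {L : Subfield κ | t ∉ L} ?_ K₀ fun ⟨p, q, h⟩ => ht p q h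
    intro c hc hchain L₀ hL₀
    refine ⟨sSup c, ?_, fun L hL => le_sSup hL⟩
    rw [Set.mem_setOf_eq, Subfield.mem_sSup_of_directedOn ⟨L₀, hL₀⟩ hchain.directedOn]
    rintro ⟨L, hL, htL⟩
    exact hc hL htL
  have hsq : ∀ z : κ, z ^ 2 ∈ K := fun z => hK₀ ⟨z, 0, by ring⟩
  have hneg : ∀ z : κ, -z = z := fun z => by linear_combination (-z) * h2
  have hdec : ∀ z : κ, ∃ v : κ, v ∈ K ∧ z - v * t ∈ K := by
    intro z
    by_cases hz : z ∈ K
    · exact ⟨0, zero_mem _, by simpa using hz⟩
    let L : Subfield κ :=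
      { carrier := {w | ∃ u v : κ, u ∈ K ∧ v ∈ K ∧ w = u + v * z}
        mul_mem' := by
          rintro _ _ ⟨u, v, hu, hv, rfl⟩ ⟨u', v', hu', hv', rfl⟩
          exact ⟨u * u' + v * v' * z ^ 2, u * v' + v * u', by
            exact add_mem (mul_mem hu hu') (mul_mem (mul_mem hv hv') (hsq z)), by
            exact add_mem (mul_mem hu hv') (mul_mem hv hu'), by ring⟩
        one_mem' := ⟨1, 0, one_mem _, zero_mem _, by ring⟩
        add_mem' := by
          rintro _ _ ⟨u, v, hu, hv, rfl⟩ ⟨u', v', hu', hv', rfl⟩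
          exact ⟨u + u', v + v', add_mem hu hu', add_mem hv hv', by ring⟩
        zero_mem' := ⟨0, 0, zero_mem _, zero_mem _, by ring⟩
        neg_mem' := by
          rintro _ ⟨u, v, hu, hv, rfl⟩
          exact ⟨u, v, hu, hv, hneg _⟩
        inv_mem' := by
          rintro _ ⟨u, v, hu, hv, rfl⟩
          by_cases hw : u + v * z = 0
          · exact ⟨0, 0, zero_mem _, zero_mem _, by rw [hw]; simp⟩
          · refine ⟨u * ((u + v * z)⁻¹) ^ 2, v * ((u + v * z)⁻¹) ^ 2, mul_mem hu (hsq _), mul_mem hv (hsq _), ?_⟩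
            field_simp }
    have htL : t ∈ L := by
      by_contra htL
      exact hz (hmax htL (fun w hw => ⟨w, 0, hw, zero_mem _, by ring⟩) ⟨0, 1, zero_mem _, one_mem _, by ring⟩)
    obtain ⟨u, v, hu, hv, huv⟩ := htL
    have hv0 : v ≠ 0 := fun h => htK (by rw [huv, h]; simpa using hu)
    refine ⟨v⁻¹, inv_mem hv, ?_⟩
    have : z - v⁻¹ * t = -(v⁻¹ * u) := by rw [huv]; field_simp; ring
    rw [this]
    exact neg_mem (mul_mem (inv_mem hv) hu)
  choose δ hδ hδ' using hdec
  have huniq : ∀ z v, v ∈ K → z - v * t ∈ K → δ z = v := by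
    intro z v hv hv'
    by_contra hne
    refine htK ?_
    have h1 : ((z - v * t) - (z - δ z * t)) * (δ z - v)⁻¹ = t := by
      have h0 : δ z - v ≠ 0 := sub_ne_zero.2 hne
      field_simp
      ring
    rw [← h1]
    exact mul_mem (sub_mem hv' (hδ' z)) (inv_mem (sub_mem (hδ z) hv))
  refine ⟨δ, fun x y => huniq _ _ (add_mem (hδ x) (hδ y)) ?_, fun x y => huniq _ _ ?_ ?_,
    huniq _ _ (zero_mem _) ?_, huniq _ _ (one_mem _) (by simp)⟩
  · rw [show x + y - (δ x + δ y) * t = (x - δ x * t) + (y - δ y * t) by ring]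
    exact add_mem (hδ' x) (hδ' y)
  · have e : x * δ y + δ x * y = (x - δ x * t) * δ y + δ x * (y - δ y * t) := by
      linear_combination (δ x * δ y * t) * h2
    rw [e]
    exact add_mem (mul_mem (hδ' x) (hδ y)) (mul_mem (hδ x) (hδ' y))
  · rw [show x * y - (x * δ y + δ x * y) * t = (x - δ x * t) * (y - δ y * t) - δ x * δ y * t ^ 2 by ring]
    exact sub_mem (mul_mem (hδ' x) (hδ' y)) (mul_mem (mul_mem (hδ x) (hδ y)) (hsq t))
  · rw [zero_mul, sub_zero]
    exact hK₀ ⟨0, 1, by ring⟩

variable {κ : Type u} [Field κ]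

lemma mem_of_derivation {R : Type u} [CommRing R] (I : Ideal R) (D : R → R) (hadd : ∀ x y, D (x + y) = D x + D y)
    (hmul : ∀ x y, D (x * y) = x * D y + D x * y) {z : R} (hz : z ∈ I ^ 2) : D z ∈ I := by
  rw [pow_two] at hz
  refine Submodule.mul_induction_on hz (fun x hx y hy => ?_) (fun x y hx hy => ?_)
  · rw [hmul]; exact add_mem (I.mul_mem_right _ hx) (I.mul_mem_left _ hy)
  · rw [hadd]; exact add_mem hx hy

/-- extend a derivation of the coefficients to polynomials -/
lemma exists_coeff_derivation (δ : κ → κ) (hadd : ∀ x y, δ (x + y) = δ x + δ y)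
    (hmul : ∀ x y, δ (x * y) = x * δ y + δ x * y) :
    ∃ D : MvPolynomial (Fin 2) κ → MvPolynomial (Fin 2) κ, (∀ x y, D (x + y) = D x + D y) ∧
      (∀ x y, D (x * y) = x * D y + D x * y) ∧ (∀ r, D (C r) = C (δ r)) ∧ (∀ i, D (X i) = 0) := by
  have h1 : δ 1 = 0 := by
    have := hmul 1 1
    simp only [one_mul, mul_one] at this
    exact left_eq_add.1 this
  have h0 : δ 0 = 0 := by
    have := hadd 0 0
    simp only [add_zero] at this
    exact left_eq_add.1 this
  let φ : κ →+* DualNumber (MvPolynomial (Fin 2) κ) :=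
    { toFun := fun r => TrivSqZeroExt.inl (C r) + TrivSqZeroExt.inr (C (δ r))
      map_one' := by ext <;> simp [h1]
      map_zero' := by ext <;> simp [h0]
      map_add' := fun x y => by ext <;> simp [hadd]
      map_mul' := fun x y => by
        refine TrivSqZeroExt.ext ?_ ?_
        · simp
        · simp [hmul, mul_comm] }
  let Φ : MvPolynomial (Fin 2) κ →+* DualNumber (MvPolynomial (Fin 2) κ) :=
    eval₂Hom φ (fun i => TrivSqZeroExt.inl (X i))
  have hfst : ∀ p, (Φ p).fst = p := by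
    intro p
    induction p using MvPolynomial.induction_on with
    | C a => simp [Φ, φ]
    | add p q hp hq => simp [hp, hq]
    | mul_X p i hp => simp [Φ] at hp ⊢; simp [hp]
  refine ⟨fun p => (Φ p).snd, fun x y => by simp, fun x y => ?_, fun r => by simp [Φ, φ], fun i => by simp [Φ]⟩
  simp only [map_mul, TrivSqZeroExt.snd_mul, hfst, smul_eq_mul, op_smul_eq_smul]
  ring

/-- the case where the ideal contains a linear form -/
lemma linear_case (I : Ideal (MvPolynomial (Fin 2) κ)) (hI : ¬ ∀ g, ∃ r, g - C r ∈ I)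
    {i0 i1 : Fin 2} (hi : i0 ≠ i1) (u0 u2 : κ) (hl : C u0 + X i0 + C u2 * X i1 ∈ I)
    (a b c d e f : κ)
    (hmem : C a + C b * X i0 + C c * X i1 + C d * X i0 ^ 2 + C e * X i0 * X i1 + C f * X i1 ^ 2 ∈ I ^ 2) :
    ∃ j, C a + C b * X i0 + C c * X i1 + C d * X i0 ^ 2 + C e * X i0 * X i1 + C f * X i1 ^ 2 =
      C j * (C u0 + X i0 + C u2 * X i1) ^ 2 := by
  classical
  let l : MvPolynomial (Fin 2) κ := C u0 + X i0 + C u2 * X i1
  let ρ : MvPolynomial (Fin 2) κ →+* Polynomial κ :=
    eval₂Hom Polynomial.C fun i => if i = i0 then -(Polynomial.C u0 + Polynomial.C u2 * Polynomial.X) else Polynomial.X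
  let σ : Polynomial κ →+* MvPolynomial (Fin 2) κ := Polynomial.eval₂RingHom C (X i1)
  have hρ0 : ρ (X i0) = -(Polynomial.C u0 + Polynomial.C u2 * Polynomial.X) := by simp [ρ]
  have hρ1 : ρ (X i1) = Polynomial.X := by simp [ρ, hi.symm]
  have hρC : ∀ r, ρ (C r) = Polynomial.C r := fun r => by simp [ρ]
  have hρl : ρ l = 0 := by simp only [l, map_add, map_mul, hρC, hρ0, hρ1]; ring
  have hσ : ∀ g, g - σ (ρ g) ∈ Ideal.span {l} := by
    intro g
    induction g using MvPolynomial.induction_on with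
    | C r => simp [hρC, σ]
    | add p q hp hq =>
      have := add_mem hp hq
      convert this using 1
      simp only [map_add]; ring
    | mul_X p i hp =>
      have hX : X i - σ (ρ (X i)) ∈ Ideal.span {l} := by
        rcases (show i = i0 ∨ i = i1 by omega) with h | h <;> subst h
        · rw [hρ0]
          refine Ideal.mem_span_singleton.2 ⟨1, ?_⟩
          simp [σ, l]; ring
        · simp [hρ1, σ]
      have := add_mem (Ideal.mul_mem_right (X i) _ hp) (Ideal.mul_mem_left _ (σ (ρ p)) hX)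
      convert this using 1
      simp only [map_mul]; ring
  have hspan : Ideal.span {l} ≤ I := by rw [Ideal.span_le, Set.singleton_subset_iff]; exact hl
  have hρσ : ∀ q, ρ (σ q) = q := fun q => by
    induction q using Polynomial.induction_on' with
    | add p q hp hq => simp [hp, hq]
    | monomial n r => simp [σ, hρC, hρ1, ← Polynomial.C_mul_X_pow_eq_monomial]
  let J : Ideal (Polynomial κ) := I.comap σ
  have hρJ : ∀ g ∈ I, ρ g ∈ J := fun g hg => by
    have : σ (ρ g) ∈ I := by
      have := sub_mem hg (hspan (hσ g))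
      rwa [sub_sub_cancel] at this
    exact this
  obtain ⟨p, hp⟩ := (IsPrincipalIdealRing.principal J).principal
  have hdeg : ∀ q ∈ J, q.natDegree < 2 → q = 0 := by
    intro q hq hq2
    by_contra hq0
    apply hI
    intro g
    rcases (show q.natDegree = 0 ∨ q.natDegree = 1 by omega) with h | h
    · refine ⟨0, ?_⟩
      have hJ : J = ⊤ := Ideal.eq_top_of_isUnit_mem _ hq (Polynomial.isUnit_iff_degree_eq_zero.2 (by
        rw [Polynomial.degree_eq_natDegree hq0, h]; rfl))
      have h1 : σ (ρ g) ∈ I := (hJ ▸ Submodule.mem_top : ρ g ∈ J)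
      simpa using add_mem (hspan (hσ g)) h1
    · have hroot : ∀ h' : Polynomial κ, h' - Polynomial.C (h'.eval (-(q.coeff 0) / q.coeff 1)) ∈ J := by
        intro h'
        obtain ⟨w, hw⟩ := Polynomial.X_sub_C_dvd_sub_C_eval (p := h') (a := -(q.coeff 0) / q.coeff 1)
        have hq1 : q.coeff 1 ≠ 0 := by rw [← h]; exact Polynomial.leadingCoeff_ne_zero.2 hq0
        have hqe : q = Polynomial.C (q.coeff 1) * (Polynomial.X - Polynomial.C (-(q.coeff 0) / q.coeff 1)) := by
          conv_lhs => rw [Polynomial.eq_X_add_C_of_natDegree_le_one h.le]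
          rw [mul_sub, ← Polynomial.C_mul]
          field_simp
          simp
        rw [hw]
        refine J.mul_mem_right _ ?_
        have := J.mul_mem_left (Polynomial.C (q.coeff 1)⁻¹) hq
        have e : Polynomial.C (q.coeff 1)⁻¹ * q =
            Polynomial.X - Polynomial.C (-(q.coeff 0) / q.coeff 1) := by
          conv_lhs => arg 2; rw [hqe]
          rw [← mul_assoc, ← Polynomial.C_mul, inv_mul_cancel₀ hq1, Polynomial.C_1, one_mul]
        rwa [e] at this
      refine ⟨(ρ g).eval (-(q.coeff 0) / q.coeff 1), ?_⟩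
      have h1 : σ (ρ g - Polynomial.C _) ∈ I := hroot (ρ g)
      simpa [σ] using add_mem (hspan (hσ g)) h1
  let m : MvPolynomial (Fin 2) κ := C (b - d * u0) + C d * X i0 + C (e - d * u2) * X i1
  have hQ : C a + C b * X i0 + C c * X i1 + C d * X i0 ^ 2 + C e * X i0 * X i1 + C f * X i1 ^ 2 =
      l * m + (C (a - u0 * (b - d * u0)) + C (c - u0 * (e - d * u2) - u2 * (b - d * u0)) * X i1 +
        C (f - u2 * (e - d * u2)) * X i1 ^ 2) := by
    simp only [l, m, map_sub, map_mul]; ring
  -- the quadric restricted to the line vanishes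
  have hI2 : ∀ g ∈ I ^ 2, ρ g ∈ J * J := by
    intro g hg
    rw [pow_two] at hg
    refine Submodule.mul_induction_on hg (fun x hx y hy => ?_) (fun x y hx hy => ?_)
    · rw [map_mul]; exact Ideal.mul_mem_mul (hρJ x hx) (hρJ y hy)
    · rw [map_add]; exact add_mem hx hy
  have hres := hI2 _ hmem
  rw [hQ, map_add, map_mul, hρl, zero_mul, zero_add, hp, Ideal.submodule_span_eq, Ideal.span_singleton_mul_span_singleton,
    Ideal.mem_span_singleton] at hres
  have hp2 : p = 0 ∨ 2 ≤ p.natDegree := by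
    by_cases h0 : p = 0
    · exact Or.inl h0
    right
    by_contra hlt
    exact h0 (hdeg p (hp ▸ Submodule.mem_span_singleton_self p) (by omega))
  have hr0 : ρ (C (a - u0 * (b - d * u0)) + C (c - u0 * (e - d * u2) - u2 * (b - d * u0)) * X i1 +
        C (f - u2 * (e - d * u2)) * X i1 ^ 2) = 0 := by
    rcases hp2 with h | h
    · rw [h, mul_zero, zero_dvd_iff] at hres; exact hres
    · refine Polynomial.eq_zero_of_dvd_of_natDegree_lt hres ?_
      have h0 : p ≠ 0 := fun h0 => by simp [h0] at h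
      rw [Polynomial.natDegree_mul h0 h0]
      simp only [map_add, map_mul, map_pow, hρC, hρ1]
      refine lt_of_le_of_lt (b := 2) ?_ (by omega)
      compute_degree
  simp only [map_add, map_mul, map_pow, hρC, hρ1] at hr0
  have c0 := congrArg (fun q : Polynomial κ => q.coeff 0) hr0
  have c1 := congrArg (fun q : Polynomial κ => q.coeff 1) hr0
  have c2 := congrArg (fun q : Polynomial κ => q.coeff 2) hr0
  simp only [Polynomial.coeff_add, Polynomial.coeff_C_mul, Polynomial.coeff_X_pow, Polynomial.coeff_X, Polynomial.coeff_C, Polynomial.coeff_zero] at c0 c1 c2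
  norm_num at c0 c1 c2
  rw [hQ, c0, c1, c2] at hmem ⊢
  simp only [map_zero, zero_mul, add_zero] at hmem ⊢
  -- the cofactor lies in the ideal
  have hm : m ∈ I := by
    have hkey : ∀ g ∈ I ^ 2, ∃ i ∈ I, ∃ r, g = l * i + r * (σ p * σ p) := by
      intro g hg
      rw [pow_two] at hg
      refine Submodule.mul_induction_on hg (fun x hx y hy => ?_) ?_
      · obtain ⟨x', hx'⟩ := Ideal.mem_span_singleton.1 (hσ x)
        obtain ⟨y', hy'⟩ := Ideal.mem_span_singleton.1 (hσ y)
        have hxJ : ρ x ∈ J := hρJ x hx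
        have hyJ : ρ y ∈ J := hρJ y hy
        rw [hp, Ideal.submodule_span_eq, Ideal.mem_span_singleton] at hxJ hyJ
        obtain ⟨x'', hx''⟩ := hxJ
        obtain ⟨y'', hy''⟩ := hyJ
        refine ⟨x' * y + σ (ρ x) * y', ?_, σ x'' * σ y'', ?_⟩
        · exact add_mem (I.mul_mem_left _ hy) (I.mul_mem_right _ (hρJ x hx))
        · have ex : σ (ρ x) = σ p * σ x'' := by rw [hx'', map_mul]
          have ey : σ (ρ y) = σ p * σ y'' := by rw [hy'', map_mul]
          linear_combination y * hx' + σ (ρ x) * hy' + σ (ρ y) * ex + σ p * σ x'' * ey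
      · rintro _ _ ⟨i, hi, r, rfl⟩ ⟨i', hi', r', rfl⟩
        exact ⟨i + i', add_mem hi hi', r + r', by ring⟩
    obtain ⟨i, hi', r, hr⟩ := hkey _ hmem
    by_cases h0 : p = 0
    · rw [h0, map_zero, mul_zero, mul_zero, add_zero] at hr
      have hl0 : l ≠ 0 := fun h => by
        have := congrArg (pderiv i0) h
        simp [l, pderiv_X_of_ne hi.symm] at this
      rw [mul_left_cancel₀ hl0 hr]; exact hi'
    have h1 := congrArg ρ hr
    simp only [map_add, map_mul, hρl, hρσ, zero_mul, zero_add] at h1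
    have hr0 : ρ r = 0 := by
      have := h1.symm
      simp [h0] at this
      exact this
    obtain ⟨r', hr'⟩ := Ideal.mem_span_singleton.1 (by simpa [hr0] using hσ r : r ∈ Ideal.span {l})
    have hl0 : l ≠ 0 := fun h => by
      have := congrArg (pderiv i0) h
      simp [l, pderiv_X_of_ne hi.symm] at this
    have hsp : σ p ∈ I := (hp ▸ Submodule.mem_span_singleton_self p : p ∈ J)
    have : m = i + r' * (σ p * σ p) := by
      refine mul_left_cancel₀ hl0 ?_
      rw [hr, hr']; ring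
    rw [this]
    exact add_mem hi' (I.mul_mem_left _ (I.mul_mem_left _ hsp))
  have hm0 : ρ m = 0 := by
    refine hdeg _ (hρJ m hm) ?_
    simp only [m, map_add, map_mul, hρC, hρ0, hρ1]
    refine lt_of_le_of_lt (b := 1) ?_ one_lt_two
    compute_degree
  simp only [m, map_add, map_mul, hρC, hρ0, hρ1] at hm0
  have e0 := congrArg (fun q : Polynomial κ => q.coeff 0) hm0
  have e1 := congrArg (fun q : Polynomial κ => q.coeff 1) hm0
  simp [Polynomial.coeff_X, Polynomial.coeff_C] at e0 e1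
  refine ⟨d, ?_⟩
  have e0' : b - d * u0 = d * u0 := by linear_combination e0
  have e1' : e - d * u2 = d * u2 := by linear_combination e1
  simp only [l, m, e0', e1', map_mul]
  ring

lemma square_case (I : Ideal (MvPolynomial (Fin 2) κ)) (hI : ¬ ∀ g, ∃ r, g - C r ∈ I)
    (hlin : ∀ u0 u1 u2 : κ, C u0 + C u1 * X 0 + C u2 * X 1 ∈ I → u1 = 0 ∧ u2 = 0)
    (p q s d : κ) (hU : (X 0 + C p : MvPolynomial (Fin 2) κ) ^ 2 ∈ I)
    (hV : (X 1 + C q : MvPolynomial (Fin 2) κ) ^ 2 ∈ I)
    (hmem : C d * ((X 0 + C p) ^ 2 + C s * (X 1 + C q) ^ 2) ∈ I ^ 2) : d = 0 := by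
  classical
  let U : MvPolynomial (Fin 2) κ := X 0 + C p
  let V : MvPolynomial (Fin 2) κ := X 1 + C q
  have hdec : ∀ g, ∃ g0 α β γ : κ, ∃ h ∈ Ideal.span {U ^ 2, V ^ 2},
      g = C g0 + C α * U + C β * V + C γ * (U * V) + h := by
    intro g
    induction g using MvPolynomial.induction_on with
    | C r => exact ⟨r, 0, 0, 0, 0, zero_mem _, by simp⟩
    | add x y hx hy =>
      obtain ⟨a, b, c, d, h, hh, rfl⟩ := hx
      obtain ⟨a', b', c', d', h', hh', rfl⟩ := hy
      exact ⟨a + a', b + b', c + c', d + d', h + h', add_mem hh hh', by simp only [map_add]; ring⟩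
    | mul_X x i hx =>
      obtain ⟨a, b, c, d, h, hh, rfl⟩ := hx
      have hU2 : U ^ 2 ∈ Ideal.span {U ^ 2, V ^ 2} := Ideal.subset_span (by simp)
      have hV2 : V ^ 2 ∈ Ideal.span {U ^ 2, V ^ 2} := Ideal.subset_span (by simp)
      fin_cases i
      · refine ⟨-(a * p), a - b * p, -(c * p), c - d * p, (C b + C d * V) * U ^ 2 + X 0 * h,
          add_mem (Ideal.mul_mem_left _ _ hU2) (Ideal.mul_mem_left _ _ hh), ?_⟩
        simp only [U, V, map_neg, map_sub, map_mul]; simp; ring
      · refine ⟨-(a * q), -(b * q), a - c * q, b - d * q, (C c + C d * U) * V ^ 2 + X 1 * h,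
          add_mem (Ideal.mul_mem_left _ _ hV2) (Ideal.mul_mem_left _ _ hh), ?_⟩
        simp only [U, V, map_neg, map_sub, map_mul]; simp; ring
  have hle : Ideal.span {U ^ 2, V ^ 2} ≤ I := by
    rw [Ideal.span_le]; exact Set.insert_subset hU (Set.singleton_subset_iff.2 hV)
  have hM2 : I ≤ Ideal.span {U ^ 2, V ^ 2, U * V} := by
    intro g hg
    obtain ⟨g0, α, β, γ, h, hh, rfl⟩ := hdec g
    have h' : C g0 + C α * U + C β * V + C γ * (U * V) ∈ I := by simpa using sub_mem hg (hle hh)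
    have hscal : ∀ r : κ, r ≠ 0 → C r * (U * V) ∈ I → U * V ∈ I := fun r hr0 hr => by
      have := I.mul_mem_left (C r⁻¹) hr
      rwa [← mul_assoc, ← map_mul, inv_mul_cancel₀ hr0, map_one, one_mul] at this
    have hlow : U * V ∈ I → α = 0 ∧ β = 0 := fun huv => by
      refine hlin (g0 + α * p + β * q) α β ?_
      convert sub_mem h' (I.mul_mem_left (C γ) huv) using 1
      simp only [U, V, map_add, map_mul]; ring
    have e0 : g0 = 0 := by
      by_contra h0
      have huv : U * V ∈ I := hscal g0 h0 (by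
        have h1 := I.mul_mem_right (U * V) h'
        have h2 : (C α * V + C γ * V ^ 2) * U ^ 2 + C β * U * V ^ 2 ∈ I :=
          add_mem (I.mul_mem_left _ hU) (I.mul_mem_left _ hV)
        convert sub_mem h1 h2 using 1; ring)
      obtain ⟨rfl, rfl⟩ := hlow huv
      have h1 : C g0 ∈ I := by
        have := sub_mem h' (I.mul_mem_left (C γ) huv)
        simpa using this
      apply hI
      intro z
      refine ⟨0, ?_⟩
      rw [Ideal.eq_top_of_isUnit_mem _ h1 ((isUnit_iff_ne_zero.2 h0).map C)]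
      trivial
    subst e0
    have e1 : β = 0 := by
      by_contra h1
      refine h1 (hlow (hscal β h1 ?_)).2
      have h2 : (C α + C γ * V) * U ^ 2 ∈ I := I.mul_mem_left _ hU
      convert sub_mem (I.mul_mem_right U h') h2 using 1; simp only [map_zero]; ring
    subst e1
    have e2 : α = 0 := by
      by_contra h1
      refine h1 (hlow (hscal α h1 ?_)).1
      have h2 : C γ * U * V ^ 2 ∈ I := I.mul_mem_left _ hV
      convert sub_mem (I.mul_mem_right V h') h2 using 1; simp only [map_zero]; ring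
    subst e2
    simp only [map_zero, zero_mul, zero_add]
    exact add_mem (Ideal.mul_mem_left _ _ (Ideal.subset_span (by simp)))
      (Ideal.span_mono (by intro z; simp; tauto) hh)
  let τ : MvPolynomial (Fin 2) κ →+* Polynomial κ :=
    eval₂Hom Polynomial.C ![Polynomial.X - Polynomial.C p, -Polynomial.C q]
  have hτU : τ U = Polynomial.X := by simp [τ, U]
  have hτV : τ V = 0 := by simp [τ, V]
  have hτI : ∀ g ∈ I, (Polynomial.X : Polynomial κ) ^ 2 ∣ τ g := by
    intro g hg
    have h1 := Ideal.mem_map_of_mem τ (hM2 hg)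
    rw [← Ideal.mem_span_singleton]
    refine (Ideal.map_le_iff_le_comap.2 (Ideal.span_le.2 ?_)) h1
    intro z hz
    simp only [Set.mem_insert_iff, Set.mem_singleton_iff] at hz
    rcases hz with rfl | rfl | rfl
    · simp [hτU]
    · simp [hτV]
    · simp [hτV]
  have h4 : (Polynomial.X : Polynomial κ) ^ 4 ∣ τ (C d * (U ^ 2 + C s * V ^ 2)) := by
    rw [pow_two] at hmem
    refine Submodule.mul_induction_on hmem (fun x hx y hy => ?_) (fun x y hx hy => ?_)
    · rw [map_mul, show (Polynomial.X : Polynomial κ) ^ 4 = Polynomial.X ^ 2 * Polynomial.X ^ 2 by ring]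
      exact mul_dvd_mul (hτI x hx) (hτI y hy)
    · rw [map_add]; exact dvd_add hx hy
  have hτd : τ (C d * (U ^ 2 + C s * V ^ 2)) = Polynomial.C d * Polynomial.X ^ 2 := by
    simp [map_add, map_mul, map_pow, hτU, hτV, τ]
  rw [hτd, Polynomial.X_pow_dvd_iff] at h4
  simpa [Polynomial.coeff_C_mul, Polynomial.coeff_X_pow] using h4 2 (by norm_num)

/-- Let κ be a field and I an ideal of κ[x, y] whose colength is greater than one (the quotient is not
of dimension at most one over κ). If a nonzero polynomial a + bx + cy + dx^2 + exy + fy^2 lies in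
I^2, then it equals j (g + hx + iy)^2 for some scalars j, g, h, i. -/
theorem result (κ : Type u) [Field κ] (I : Ideal (MvPolynomial (Fin 2) κ))
    (hI : ¬ (Module.Finite κ (MvPolynomial (Fin 2) κ ⧸ I) ∧ Module.finrank κ (MvPolynomial (Fin 2) κ ⧸ I) ≤ 1))
    (a b c d e f : κ) (hne : (a, b, c, d, e, f) ≠ (0, 0, 0, 0, 0, 0))
    (hmem : (MvPolynomial.C a + MvPolynomial.C b * MvPolynomial.X 0 + MvPolynomial.C c * MvPolynomial.X 1 +
      MvPolynomial.C d * MvPolynomial.X 0 ^ 2 + MvPolynomial.C e * MvPolynomial.X 0 * MvPolynomial.X 1 +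
      MvPolynomial.C f * MvPolynomial.X 1 ^ 2 : MvPolynomial (Fin 2) κ) ∈ I ^ 2) :
    ∃ j g h i : κ, (MvPolynomial.C a + MvPolynomial.C b * MvPolynomial.X 0 + MvPolynomial.C c * MvPolynomial.X 1 +
      MvPolynomial.C d * MvPolynomial.X 0 ^ 2 + MvPolynomial.C e * MvPolynomial.X 0 * MvPolynomial.X 1 +
      MvPolynomial.C f * MvPolynomial.X 1 ^ 2 : MvPolynomial (Fin 2) κ) =
      MvPolynomial.C j * (MvPolynomial.C g + MvPolynomial.C h * MvPolynomial.X 0 + MvPolynomial.C i * MvPolynomial.X 1) ^ 2 := by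
  classical
  have hI' : ¬ ∀ g, ∃ r, g - C r ∈ I := by
    intro h
    have key : ∀ w : MvPolynomial (Fin 2) κ ⧸ I, ∃ r : κ, r • (1 : MvPolynomial (Fin 2) κ ⧸ I) = w := by
      intro w
      obtain ⟨g, rfl⟩ := Ideal.Quotient.mk_surjective w
      obtain ⟨r, hr⟩ := h g
      refine ⟨r, ?_⟩
      rw [← Ideal.Quotient.mkₐ_eq_mk κ, ← map_one (Ideal.Quotient.mkₐ κ I), ← map_smul,
        Ideal.Quotient.mkₐ_eq_mk, Ideal.Quotient.eq]
      simpa [smul_eq_C_mul] using neg_mem hr
    refine hI ⟨Module.Finite.of_surjective (LinearMap.toSpanSingleton κ _ (1 : MvPolynomial (Fin 2) κ ⧸ I)) key,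
      finrank_le_one _ key⟩
  by_cases hlin : ∀ u0 u1 u2 : κ, C u0 + C u1 * X 0 + C u2 * X 1 ∈ I → u1 = 0 ∧ u2 = 0
  swap
  · push Not at hlin
    obtain ⟨u0, u1, u2, hu, hne'⟩ := hlin
    by_cases h1 : u1 = 0
    · have h2 : u2 ≠ 0 := hne' h1
      have hl : C (u0 / u2) + X 1 + C (0 : κ) * X 0 ∈ I := by
        have := I.mul_mem_left (C u2⁻¹) hu
        rw [mul_add, mul_add, ← map_mul, ← mul_assoc, ← mul_assoc, ← map_mul, ← map_mul, h1,
          inv_mul_cancel₀ h2] at this
        simpa [div_eq_inv_mul] using this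
      obtain ⟨j, hj⟩ := linear_case I hI' (by decide : (1 : Fin 2) ≠ 0) _ _ hl a c b f e d
        (by convert hmem using 1; ring)
      refine ⟨j, u0 / u2, 0, 1, ?_⟩
      simp only [map_zero, map_one, zero_mul, one_mul, add_zero] at hj ⊢
      linear_combination hj
    · have hl : C (u0 / u1) + X 0 + C (u2 / u1) * X 1 ∈ I := by
        have := I.mul_mem_left (C u1⁻¹) hu
        rw [mul_add, mul_add, ← map_mul, ← mul_assoc, ← mul_assoc, ← map_mul, ← map_mul,
          inv_mul_cancel₀ h1] at this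
        simpa [div_eq_inv_mul] using this
      obtain ⟨j, hj⟩ := linear_case I hI' (by decide : (0 : Fin 2) ≠ 1) _ _ hl a b c d e f hmem
      exact ⟨j, u0 / u1, 1, u2 / u1, by simpa using hj⟩
  -- no linear forms
  have hC : ∀ r : κ, C r ∈ I → r = 0 := fun r hr => by
    by_contra h0
    apply hI'
    intro z
    refine ⟨0, ?_⟩
    rw [Ideal.eq_top_of_isUnit_mem _ hr ((isUnit_iff_ne_zero.2 h0).map C)]
    trivial
  have hx := mem_of_derivation I (pderiv (0 : Fin 2)) (fun x y => map_add _ x y)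
    (fun x y => by rw [pderiv_mul]; ring) hmem
  have hy := mem_of_derivation I (pderiv (1 : Fin 2)) (fun x y => map_add _ x y)
    (fun x y => by rw [pderiv_mul]; ring) hmem
  have hx' : C b + C (2 * d) * X 0 + C e * X 1 ∈ I := by
    convert hx using 1; simp [pderiv_mul, pderiv_pow, pderiv_X_of_ne, map_ofNat]; ring
  have hy' : C c + C e * X 0 + C (2 * f) * X 1 ∈ I := by
    convert hy using 1; simp [pderiv_mul, pderiv_pow, pderiv_X_of_ne, map_ofNat]; ring
  obtain ⟨hd2, rfl⟩ := hlin _ _ _ hx'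
  obtain ⟨-, hf2⟩ := hlin _ _ _ hy'
  obtain rfl : b = 0 := hC _ (by simpa [hd2] using hx')
  obtain rfl : c = 0 := hC _ (by simpa [hf2] using hy')
  have hfI := Ideal.pow_le_self two_ne_zero hmem
  have hdf : d ≠ 0 ∨ f ≠ 0 := by
    by_contra h
    push Not at h
    obtain ⟨rfl, rfl⟩ := h
    exact hne (by simp [hC a (by simpa using hfI)])
  by_cases h2 : (2 : κ) = 0
  swap
  · rcases hdf with h | h
    · exact absurd ((mul_eq_zero.1 hd2).resolve_left h2) h
    · exact absurd ((mul_eq_zero.1 hf2).resolve_left h2) h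
  -- applying a derivation of the coefficients
  have happ : ∀ (δ : κ → κ), (∀ x y, δ (x + y) = δ x + δ y) → (∀ x y, δ (x * y) = x * δ y + δ x * y) →
      ∀ u v w : κ, C u + C v * X 0 ^ 2 + C w * X 1 ^ 2 ∈ I ^ 2 →
        C (δ u) + C (δ v) * X 0 ^ 2 + C (δ w) * X 1 ^ 2 ∈ I := by
    intro δ ha hm u v w h
    obtain ⟨D, hDa, hDm, hDC, hDX⟩ := exists_coeff_derivation δ ha hm
    have := mem_of_derivation I D hDa hDm h
    simpa [hDa, hDm, hDC, hDX, pow_two] using this
  have h2P : (2 : MvPolynomial (Fin 2) κ) = 0 := by rw [← map_ofNat C, h2, map_zero]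
  have hδ1 : ∀ {δ : κ → κ}, (∀ x y, δ (x * y) = x * δ y + δ x * y) → ∀ r, δ (r ^ 2) = 0 := fun {δ} hm r => by
    rw [pow_two, hm]; linear_combination (r * δ r) * h2
  have hnorm : ∀ r : κ, r ≠ 0 → C (a / r) + C (d / r) * X 0 ^ 2 + C (f / r) * X 1 ^ 2 ∈ I ^ 2 := by
    intro r _
    convert Ideal.mul_mem_left (I ^ 2) (C r⁻¹) hmem using 1
    simp only [map_mul, div_eq_inv_mul, map_zero]; ring
  have hkill : ∀ r g q : κ, r ≠ 0 → (∀ p : κ, g ≠ p ^ 2) →
      (∀ δ : κ → κ, (∀ x y, δ (x + y) = δ x + δ y) → (∀ x y, δ (x * y) = x * δ y + δ x * y) →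
        δ g = 1 → δ (a / r) = 1 ∧ δ (d / r) = q * 0 ∧ δ (f / r) = q * 0) → False := by
    intro r g q hr hg h
    obtain ⟨δ, hδa, hδm, -, hδg⟩ := exists_delta h2 0 g (fun p q => by simpa using hg p)
    obtain ⟨e1, e2, e3⟩ := h δ hδa hδm hδg
    have := happ δ hδa hδm _ _ _ (hnorm r hr)
    rw [e1, e2, e3] at this
    exact one_ne_zero (hC 1 (by simpa using this))
  by_cases hd : d = 0
  · subst hd
    have hf : f ≠ 0 := hdf.resolve_left (fun h => h rfl)
    by_cases hsq : ∃ g, a / f = g ^ 2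
    · obtain ⟨g, hg⟩ := hsq
      refine ⟨f, g, 0, 1, ?_⟩
      rw [show a = f * g ^ 2 by rw [← hg]; field_simp]
      simp only [map_mul, map_pow, map_zero, map_one]
      linear_combination (-(C f * C g * X 1)) * h2P
    · push Not at hsq
      exact (hkill f (a / f) 0 hf hsq fun δ _ hm h1 => ⟨h1, by simpa using hδ1 hm 0,
        by rw [div_self hf]; simpa using hδ1 hm 1⟩).elim
  let s := f / d
  by_cases hs : ∃ h, s = h ^ 2
  · obtain ⟨h, hh⟩ := hs
    by_cases hsq : ∃ g, a / d = g ^ 2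
    · obtain ⟨g, hg⟩ := hsq
      refine ⟨d, g, 1, h, ?_⟩
      rw [show a = d * g ^ 2 by rw [← hg]; field_simp, show f = d * h ^ 2 by rw [← hh]; simp only [s]; field_simp]
      simp only [map_mul, map_pow, map_zero, map_one]
      linear_combination (-(C d * (C g * X 0 + C g * C h * X 1 + C h * X 0 * X 1))) * h2P
    · push Not at hsq
      exact (hkill d (a / d) 0 hd hsq fun δ _ hm h1 => ⟨h1, by rw [div_self hd]; simpa using hδ1 hm 1,
        by rw [show f / d = h ^ 2 from hh]; simpa using hδ1 hm h⟩).elim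
  push Not at hs
  by_cases hd' : ∃ p q, a / d = p ^ 2 + s * q ^ 2
  swap
  · push Not at hd'
    obtain ⟨δ, hδa, hδm, hδs, hδt⟩ := exists_delta h2 s (a / d) hd'
    have := happ δ hδa hδm _ _ _ (hnorm d hd)
    rw [show δ (f / d) = 0 from hδs, hδt, div_self hd, show δ 1 = 0 by simpa using hδ1 hδm 1] at this
    exact absurd (hC 1 (by simpa using this)) one_ne_zero
  obtain ⟨p, q, hpq⟩ := hd'
  have hQ : (C (a / d) + C (d / d) * X 0 ^ 2 + C (f / d) * X 1 ^ 2 : MvPolynomial (Fin 2) κ) =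
      (X 0 + C p) ^ 2 + C s * (X 1 + C q) ^ 2 := by
    rw [hpq, div_self hd, show f / d = s from rfl]
    simp only [map_add, map_mul, map_pow, map_one]
    linear_combination (-(X 0 * C p + C s * X 1 * C q)) * h2P
  obtain ⟨δ, hδa, hδm, -, hδs⟩ := exists_delta h2 0 s (fun p q => by simpa using hs p)
  have hV : (X 1 + C q : MvPolynomial (Fin 2) κ) ^ 2 ∈ I := by
    have := happ δ hδa hδm _ _ _ (hnorm d hd)
    rw [hpq, hδa, hδm, hδ1 hδm, hδ1 hδm, show f / d = s from rfl, hδs, div_self hd,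
      show δ 1 = 0 by simpa using hδ1 hδm 1] at this
    convert this using 1
    simp only [map_zero, map_one, map_pow, zero_mul, mul_zero, zero_add, add_zero, one_mul]
    linear_combination (X 1 * C q) * h2P
  have hQ2 := hnorm d hd
  rw [hQ] at hQ2
  have hU : (X 0 + C p : MvPolynomial (Fin 2) κ) ^ 2 ∈ I := by
    have := sub_mem (Ideal.pow_le_self two_ne_zero hQ2) (I.mul_mem_left (C s) hV)
    simpa using this
  exact absurd (square_case I hI' hlin p q s 1 hU hV (by simpa using hQ2)) one_ne_zero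

end Groth.Agent.S1601
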