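import Groth.Statements.S16017
import Mathlib

set_option linter.style.haveILetI false

set_option autoImplicit false
universe u
open W4c3ghconstell

namespace Groth.Agent.S16017

/-- Let ι index the irreducible representations, θ : ι → ℚ a weight negative at only finitely many
indices (the finite set D₋), h h' : ι → ℕ with h' ≤ h pointwise (the isotypic dimensions of an
object and of a sub-object) and Σ_i θ_i h_i summable. For a finite set D of indices put S_D = Σ_{i ∉
D} θ_i h_i, d = #(D ∖ D₋), and θ̃_D = Σ_{i ∈ D} θ_i h'_i + (S_D / d) · Σ_{i ∈ D ∖ D₋} h'_i / h_i,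
the modified weight attached to the parameters chosen for D (for D ⊇ D₋ the first sum is the
negative part plus the part over D ∖ D₋). Then θ̃_D tends to Σ_i θ_i h'_i as D grows through the
finite subsets of ι. (Here D runs over all finite sets of indices and a quotient by zero is zero;
the source lets D run over the finite subsets of the locus θ ≠ 0 containing D₋, and the same tail
estimate gives both.) -/
theorem result {ι : Type u} [DecidableEq ι] (θ : ι → ℚ) (h h' : ι → ℕ)
    (hle : ∀ i, h' i ≤ h i) (hfin : {i | θ i < 0}.Finite)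
    (hsum : Summable (fun i => (θ i : ℝ) * (h i : ℝ))) :
    Filter.Tendsto
      (fun D : Finset ι =>
        (∑ i ∈ D, (θ i : ℝ) * (h' i : ℝ)) +
          ((∑' i, if i ∈ D then (0 : ℝ) else (θ i : ℝ) * (h i : ℝ)) / ((D \ hfin.toFinset).card : ℝ)) *
            ∑ i ∈ D \ hfin.toFinset, ((h' i : ℝ) / (h i : ℝ)))
      Filter.atTop (nhds (∑' i, (θ i : ℝ) * (h' i : ℝ))) := by
  classical
  have hg : Summable (fun i => (θ i : ℝ) * (h' i : ℝ)) := by
    refine Summable.of_norm_bounded hsum.norm fun i => ?_
    rw [norm_mul, norm_mul]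
    refine mul_le_mul_of_nonneg_left ?_ (norm_nonneg _)
    simpa using (Nat.cast_le (α := ℝ)).mpr (hle i)
  have htail : ∀ D : Finset ι, (∑' i, if i ∈ D then (0 : ℝ) else (θ i : ℝ) * (h i : ℝ)) =
      (∑' i, (θ i : ℝ) * (h i : ℝ)) - ∑ i ∈ D, (θ i : ℝ) * (h i : ℝ) := by
    intro D
    have hs : Summable (fun i => if i ∈ D then (θ i : ℝ) * (h i : ℝ) else 0) :=
      summable_of_ne_finset_zero (s := D) fun i hi => if_neg hi
    rw [show (∑ i ∈ D, (θ i : ℝ) * (h i : ℝ)) = ∑' i, if i ∈ D then (θ i : ℝ) * (h i : ℝ) else 0 by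
        rw [tsum_eq_sum (s := D) fun i hi => if_neg hi]; exact Finset.sum_congr rfl fun i hi => (if_pos hi).symm,
      ← hsum.tsum_sub hs]
    exact tsum_congr fun i => by split_ifs <;> simp
  have h0 : Filter.Tendsto (fun D : Finset ι => ∑' i, if i ∈ D then (0 : ℝ) else (θ i : ℝ) * (h i : ℝ))
      Filter.atTop (nhds 0) := by
    have := (tendsto_const_nhds (x := ∑' i, (θ i : ℝ) * (h i : ℝ)) (f := (Filter.atTop : Filter (Finset ι)))).sub hsum.hasSum
    rw [sub_self] at this
    simpa [htail] using this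
  have h2 : Filter.Tendsto (fun D : Finset ι =>
      ((∑' i, if i ∈ D then (0 : ℝ) else (θ i : ℝ) * (h i : ℝ)) / ((D \ hfin.toFinset).card : ℝ)) *
            ∑ i ∈ D \ hfin.toFinset, ((h' i : ℝ) / (h i : ℝ))) Filter.atTop (nhds 0) := by
    refine squeeze_zero_norm (fun D => ?_) (tendsto_zero_iff_norm_tendsto_zero.mp h0)
    set R := ∑ i ∈ D \ hfin.toFinset, ((h' i : ℝ) / (h i : ℝ)) with hR
    set d := ((D \ hfin.toFinset).card : ℝ)
    have hR0 : 0 ≤ R := Finset.sum_nonneg fun i _ => by positivity
    have hR1 : R ≤ d := by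
      refine (Finset.sum_le_card_nsmul _ _ 1 fun i _ => ?_).trans (by simp [d])
      exact div_le_one_of_le₀ (by exact_mod_cast hle i) (by positivity)
    rw [norm_mul, norm_div, Real.norm_of_nonneg hR0, Real.norm_of_nonneg (show (0 : ℝ) ≤ d by positivity)]
    rcases (show (0 : ℝ) ≤ d by positivity).eq_or_lt with hd | hd
    · rw [← hd]; simp
    · rw [div_mul_eq_mul_div, div_le_iff₀ hd]
      exact mul_le_mul_of_nonneg_left hR1 (norm_nonneg _)
  simpa using Filter.Tendsto.add hg.hasSum h2


end Groth.Agent.S16017
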