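import Groth.Statements.S16028
import Groth.Agent.SpChev.FinStage
import Groth.Agent.SpQS.DecentProps

set_option autoImplicit false
universe u
open CategoryTheory CategoryTheory.Limits AlgebraicGeometry
open AlgSp

namespace Groth.Agent.S16028

/-- Let S be a locally Noetherian scheme and X an algebraic space over S, separated over S and presented
by a scheme locally of finite presentation over S through an étale surjective quasi-compact chart.
Let X̃ be a scheme over S with a morphism π : X̃ ⟶ X which is integral and surjective and whose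
fibre over every point of X is contained in an affine open of X̃. Then X is a scheme. -/
theorem result
    (S : Scheme.{u}) [IsLocallyNoetherian S] (X : AlgSp.Sp S) (hX : AlgSp.IsAlgSpace X)
    (hsep : AlgSp.IsSeparatedSp X)
    (hpres : ∃ (Y : Over S) (p : (AlgSp.yon S).obj Y ⟶ X),
      AlgSp.RepWith @Etale p ∧ AlgSp.RepWith @Surjective p ∧ AlgSp.RepWith @QuasiCompact p ∧
        LocallyOfFinitePresentation Y.hom)
    (Xt : Over S) (π : (AlgSp.yon S).obj Xt ⟶ X)
    (hint : AlgSp.RepWith @IsIntegralHom π) (hsurj : AlgSp.RepWith @Surjective π)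
    (hfib : ∀ x : AlgSp.Points X, ∃ U : Xt.left.Opens, IsAffineOpen U ∧
      ∀ y : ↥Xt.left, AlgSp.Points.ofPt π y = x → y ∈ U) :
    X.obj.IsRepresentable := by
  open _root_.AlgSp Groth.Agent.AlgSpLib Groth.Agent.SpChev in
  obtain ⟨Y, p, hpe, hps, -, hYlfp⟩ := hpres
  have hπc : IsClosedMap (Points.ofPt π) := Groth.Agent.SpChev.isClosedMap_ofPt_of_univClosed hX
    (Groth.Agent.AlgSpLib.repWith_mono (fun _ _ r hr => by
      have : IsIntegralHom r := hr
      exact (inferInstance : UniversallyClosed r)) hint)
  open _root_.AlgSp Groth.Agent.AlgSpLib Groth.Agent.SpChev in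
  have hloc : ∀ y : Y.left, ∃ (W : Set (Points X)), IsOpen W ∧ Points.ofPt p y ∈ W ∧ IsSch (subSheaf W) := by
    intro y
    obtain ⟨U, hU, hFU⟩ := hfib (Points.ofPt p y)
    obtain ⟨O, hO, hyO, hON⟩ := exists_isAffineOpen_mem_and_subset (x := y)
      (U := ⟨Points.ofPt p ⁻¹' (Points.ofPt π '' (↑U : Set Xt.left)ᶜ)ᶜ,
        (hπc _ U.isOpen.isClosed_compl).isOpen_compl.preimage (Points.continuous_ofPt p)⟩) (by
        rintro ⟨t, ht, e⟩
        exact ht (hFU t e))
    let W : Set (Points X) := Points.ofPt p '' (O : Set Y.left)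
    have hW : IsOpen W := (Groth.Agent.AlgSpLib.isOpenMap_ofPt (repWith_mono (fun _ _ r hr => by
      have : Etale r := hr
      exact (inferInstance : UniversallyOpen r)) hpe)) _ O.isOpen
    let Oo : Over S := Over.mk (O.ι ≫ Y.hom)
    obtain ⟨a, ha⟩ := exists_factor_subInc (W := W) ((yon S).map (Over.homMk O.ι rfl : Oo ⟶ Y) ≫ p) fun z => by
      obtain ⟨v, rfl⟩ := (Points.schemeHomeo _).surjective z
      rw [← ofPt_eq_map, ofPt_comp]
      exact ⟨v.1, v.2, rfl⟩
    have hWa := isAlgSpace_subSheaf hX hW
    have hae : RepWith @Etale a := repWith_of_comp_mono (m := subInc W) (by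
      rw [ha]
      exact repWith_comp ((repWith_yon_iff _).2 (inferInstanceAs (Etale O.ι))) hpe)
    have hasur : RepWith @Surjective a := repWith_surjective_of_isSurjectiveMor hae.1 fun w => by
      obtain ⟨v, hv, e⟩ := map_subInc_mem w
      refine ⟨Points.schemeHomeo Oo (⟨v, hv⟩ : O.toScheme), SchImg.injective_map_of_mono (i := subInc W) ?_⟩
      rw [← Points.map_comp, ha, ← ofPt_eq_map, ofPt_comp, ← e]
      rfl
    have : IsAffine Oo.left := hO
    have : LocallyOfFinitePresentation Y.hom := hYlfp
    have : LocallyOfFiniteType (O.ι ≫ Y.hom) := inferInstance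
    have : IsLocallyNoetherian Oo.left := LocallyOfFiniteType.isLocallyNoetherian (O.ι ≫ Y.hom)
    have hWq : IsQuasiCompactSp (subSheaf W) :=
      isQuasiCompactSp_of_isSurjectiveMor hWa a (isSurjectiveMor_of_repWith hasur) (isQuasiCompactSp_yon Oo)
    have hWs : IsQuasiSeparatedSp (subSheaf W) :=
      isQuasiSeparatedSp_of_mor (ValLib.isQuasiSeparatedMor_of_separated (subInc W)
        (UnivInjMor.isSeparatedMor_of_mono (subInc W))) (repWith_mono (fun _ _ r hr => by
          have : IsClosedImmersion r := hr
          infer_instance) hsep)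
    -- the part of the cover over `W`
    let P : Xt.left.Opens := ⟨Points.ofPt π ⁻¹' W, hW.preimage (Points.continuous_ofPt π)⟩
    let Po : Over S := Over.mk (P.ι ≫ Xt.hom)
    obtain ⟨f, hf⟩ := exists_factor_subInc (W := W) ((yon S).map (Over.homMk P.ι rfl : Po ⟶ Xt) ≫ π) fun z => by
      obtain ⟨v, rfl⟩ := (Points.schemeHomeo _).surjective z
      rw [← ofPt_eq_map, ofPt_comp]
      exact v.2
    have sqf := isPullback_subInc_of_preimage hW P rfl hf
    have hfi : RepWith @IsIntegralHom f := repWith_baseChange sqf hint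
    have : CompactSpace Po.left := by
      obtain ⟨V, pV', qV, sqV, hqV⟩ := exists_repWith hfi a
      obtain ⟨pV, rfl⟩ := exists_map_eq pV'
      have : IsIntegralHom qV.left := hqV
      have : IsAffine V.left := isAffine_of_isAffineHom qV.left
      exact (surjective_of_repWith_chart hasur sqV).compactSpace pV.left.continuous
    have hPU : P ≤ U := fun t ht => by
      obtain ⟨v, hv, e⟩ := ht
      by_contra h
      exact hON hv ⟨t, h, e.symm⟩
    have : IsAffine U.toScheme := hU
    have : CompactSpace P.toScheme := ‹CompactSpace Po.left›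
    have : QuasiCompact (Xt.left.homOfLE hPU) := inferInstance
    have : P.toScheme.IsQuasiAffine := Scheme.IsQuasiAffine.of_isImmersion (Xt.left.homOfLE hPU)
    -- its reduction
    let I := Scheme.IdealSheafData.vanishingIdeal (⊤ : TopologicalSpace.Closeds Po.left)
    let R : Over S := Over.mk (I.subschemeι ≫ Po.hom)
    let r : R ⟶ Po := Over.homMk I.subschemeι rfl
    have : IsClosedImmersion r.left := inferInstanceAs (IsClosedImmersion I.subschemeι)
    have : IsReduced R.left := inferInstanceAs (IsReduced I.subscheme)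
    have : Po.left.IsQuasiAffine := ‹P.toScheme.IsQuasiAffine›
    have : R.left.IsQuasiAffine := Scheme.IsQuasiAffine.of_isAffineHom r.left
    obtain ⟨T, g, hT, hg, hgs⟩ := exists_finite_qa hWa (f := (yon S).map r ≫ f)
      (repWith_comp ((repWith_yon_iff r).2 (inferInstance : IsIntegralHom r.left)) hfi) fun w => by
        obtain ⟨t, ht⟩ := ofPt_surjective hsurj (Points.map (subInc W) w)
        have htP : t ∈ P := by
          show Points.ofPt π t ∈ W
          rw [ht]
          exact map_subInc_mem w
        obtain ⟨z, hz⟩ : (⟨t, htP⟩ : P.toScheme) ∈ Set.range r.left := by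
          show _ ∈ Set.range I.subschemeι
          rw [I.range_subschemeι, Scheme.IdealSheafData.coe_support_vanishingIdeal]
          trivial
        refine ⟨z, SchImg.injective_map_of_mono (i := subInc W) ?_⟩
        rw [Points.map_ofPt, Category.assoc, hf, ofPt_comp, hz, ofPt_comp, ← ht]
        rfl
    have := hT
    exact ⟨W, hW, ⟨y, hyO, rfl⟩, isSch_of_finite_qa hWa hWq hWs hg hgs hae hasur⟩
  open _root_.AlgSp Groth.Agent.AlgSpLib Groth.Agent.SpChev in
  choose W hWo hyW hWs using hloc
  open _root_.AlgSp Groth.Agent.AlgSpLib Groth.Agent.SpChev in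
  choose Q hQ using hWs
  open _root_.AlgSp Groth.Agent.AlgSpLib Groth.Agent.SpChev in
  obtain ⟨T, ⟨θ⟩⟩ := exists_iso_yon_of_open_cover hX Q (fun y => (hQ y).some.hom ≫ subInc (W y))
    (fun y => (repWith_iso_comp_iff _ _).2 (repWith_subInc (hWo y))) (fun x => by
      obtain ⟨y, rfl⟩ := ofPt_surjective hps x
      obtain ⟨z, hz⟩ := (range_subInc (W y)).symm ▸ hyW y
      exact ⟨y, Points.map (hQ y).some.inv z, by rw [← Points.map_comp, Iso.inv_hom_id_assoc, hz]⟩)
  exact Groth.Agent.LqfRep.isRepresentable_of_iso θ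

end Groth.Agent.S16028
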