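import Groth.Statements.S1603
import Groth.Agent.CurveRR.GenusMap
import Groth.Agent.CurveRR.Series
import Groth.Agent.CurveRR.Deg

set_option autoImplicit false
universe u
open CategoryTheory CategoryTheory.Limits AlgebraicGeometry
open Curves

set_option backward.isDefEq.respectTransparency false
set_option backward.isDefEq.respectTransparency.types false

open Groth.Agent Groth.Agent.CurveRR Groth.Agent.CohFinite CategoryTheory.Limits

namespace Groth.Agent.S1603

/-- In the situation of the first part assume moreover that X is reduced, that H^0(X, O_X) → H^0(X',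
O_{X'}) is surjective and that the two H^1 have the same dimension. Then f is an isomorphism. -/
theorem result (k : Type u) [Field k] (X X' : Scheme.{u}) [X.Over (Spec (CommRingCat.of k))] [X'.Over (Spec (CommRingCat.of k))]
    [IsProper (X ↘ (Spec (CommRingCat.of k)))] [IsReduced X] (hdim : topologicalKrullDim X ≤ 1) (f : X' ⟶ X) [IsProper f] (hf : f ≫ (X ↘ (Spec (CommRingCat.of k))) = X' ↘ (Spec (CommRingCat.of k)))
    (U : X.Opens) (hU : Dense (U : Set X)) (hU' : Dense ((f ⁻¹ᵁ U : X'.Opens) : Set X')) (hfU : IsIso (f ∣_ U))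
    (h0 : Function.Surjective (f.app ⊤).hom) (h1 : Curv2.genus k X' = Curv2.genus k X) : IsIso f := by
  haveI := hfU
  haveI := isFinite_of_iso_dense (k := k) hdim f U hU hU'
  haveI := isNoetherian_of_proper k X
  have hloc : ∀ W : X.Opens, W ≤ U → Function.Injective (f.app W).hom := by
    intro W hWU
    have key : ∀ V : X.Opens, V = W → Function.Injective (f.app V).hom → Function.Injective (f.app W).hom := by
      rintro V rfl h; exact h
    refine key (U.ι ''ᵁ U.ι ⁻¹ᵁ W) ?_ ?_
    · rw [Scheme.Hom.image_preimage_eq_opensRange_inf, Scheme.Opens.opensRange_ι]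
      exact inf_eq_right.2 hWU
    · have h := (ConcreteCategory.bijective_of_isIso ((f ∣_ U).app (U.ι ⁻¹ᵁ W))).1
      rw [morphismRestrict_app] at h
      exact fun a b hab => h (by rw [ConcreteCategory.comp_apply, ConcreteCategory.comp_apply]; exact congrArg _ hab)
  have hinj : ∀ W : X.Opens, Function.Injective (f.app W).hom := by
    intro W
    refine (injective_iff_map_eq_zero _).2 fun a ha => ?_
    rw [← AlgebraicGeometry.basicOpen_eq_bot_iff]
    by_contra hne
    obtain ⟨z, hz⟩ := hU.inter_open_nonempty _ (X.basicOpen a).2 (by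
      exact Set.nonempty_iff_ne_empty.2 fun h => hne (SetLike.coe_injective (h.trans TopologicalSpace.Opens.coe_bot.symm)))
    have hzW : z ∈ W ⊓ U := ⟨X.basicOpen_le a hz.1, hz.2⟩
    have h0 : X.presheaf.map (homOfLE (inf_le_left : W ⊓ U ≤ W)).op a = 0 := by
      refine hloc _ inf_le_right ?_
      rw [map_zero]
      refine (ConcreteCategory.congr_hom (f.naturality (homOfLE (inf_le_left : W ⊓ U ≤ W)).op) a).trans ?_
      show (X'.presheaf.map _).hom ((f.app W).hom a) = 0
      rw [ha, map_zero]
    have hb := X.basicOpen_res a (homOfLE (inf_le_left : W ⊓ U ≤ W)).op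
    rw [h0, Scheme.basicOpen_zero] at hb
    exact (hb.ge ⟨hzW, hz.1⟩ : z ∈ (⊥ : X.Opens))
  let φ := ClSub.unitToPush f
  haveI : Mono φ := Preadditive.mono_of_cancel_zero _ fun {P} g hg => Scheme.Modules.hom_ext _ _ fun W => by
    ext t
    refine hinj W ?_
    exact (congrArg (fun ψ : P ⟶ _ => ψ.app W t) hg).trans (map_zero _).symm
  have hd := dim_compl_le_zero hdim U hU
  have hsurjU := fun W hW hWU => surjective_app_of_restrict f U W hW hWU
  have hsupp : CohB1.support (cokernel φ) ⊆ ((U : Set X)ᶜ) := by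
    intro η hη hηU
    refine notMem_support_coker φ η (fun v => ?_) hη
    obtain ⟨V, hV, s, rfl⟩ := ((Scheme.Modules.pushforward f).obj (Coh.structureModule X')).presheaf.exists_germ_eq
      (x := η) v
    obtain ⟨W, hW, hηW, hWV⟩ := exists_isAffineOpen_mem_and_subset (x := η) (U := V ⊓ U) ⟨hV, hηU⟩
    obtain ⟨a, ha⟩ := hsurjU W hW (hWV.trans inf_le_right)
      (Groth.Agent.QC.res ((Scheme.Modules.pushforward f).obj (Coh.structureModule X')) (hWV.trans inf_le_left) s)
    refine ⟨WeakAssLib.mgerm (Coh.structureModule X) hηW a, ?_⟩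
    rw [WeakAssLib.stalkHom_germ]
    refine Eq.trans ?_ (WeakAssLib.mgerm_res _ (hWV.trans inf_le_left) hηW s)
    exact congrArg (WeakAssLib.mgerm _ hηW) ha
  have hsurj := h1_surjective (k := k) hdim φ U.2.isClosed_compl hd hsupp
  haveI : (Coh.structureModule X').IsQuasicoherent := Groth.Agent.QC.isQCoh_unit X'
  obtain ⟨e⟩ := hh_push_linear k f hf (Coh.structureModule X')
    (CohQC.directAcyclic_of_isAffineHom f (Coh.structureModule X')) 1
  haveI := finite_proper k X (Coh.structureModule X) RefStalk.isCoh_structureModule 1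
  haveI : Module.Finite k (Coh.HH X ((Scheme.Modules.pushforward f).obj (Coh.structureModule X')) 1) :=
    Module.Finite.of_surjective _ hsurj
  have hinj1 : Function.Injective (hhMap k φ 1) :=
    (LinearMap.injective_iff_surjective_of_finrank_eq_finrank (by rw [← e.finrank_eq]; exact h1.symm)).2 hsurj
  have hS : (ShortComplex.mk φ (cokernel.π φ) (cokernel.condition φ)).ShortExact :=
    { exact := ShortComplex.exact_cokernel φ }
  have hπ : Function.Surjective ((cokernel.π φ).app ⊤) := by
    rw [← surjective_hh0_iff (k := k)]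
    intro x
    refine (δH_eq_zero_iff (shortExact_toAb hS) 0 x).1 (hinj1 ?_)
    rw [map_zero]
    exact LinearMap.mem_ker.1 ((range_δ_eq_ker_f hS 0).le ⟨x, rfl⟩)
  have hC0 : Subsingleton Γ(cokernel φ, ⊤) := by
    refine ⟨fun a b => ?_⟩
    have hz : ∀ c : Γ(cokernel φ, ⊤), c = 0 := fun c => by
      obtain ⟨y, rfl⟩ := hπ c
      obtain ⟨x, rfl⟩ := h0 y
      exact congrArg (fun ψ : Coh.structureModule X ⟶ cokernel φ => ψ.app ⊤ x) (cokernel.condition φ)
    rw [hz a, hz b]
  haveI : Epi φ := Preadditive.epi_of_isZero_cokernel φ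
    (isZero_of_h0 (k := k) U.2.isClosed_compl hd hsupp hC0)
  haveI : IsIso φ := isIso_of_mono_of_epi φ
  have hbij : ∀ W : X.Opens, Function.Bijective (f.app W).hom := fun W =>
    ConcreteCategory.bijective_of_isIso (φ.app W)
  haveI : IsClosedImmersion f := by
    refine (HasAffineProperty.iff_of_iSup_eq_top (P := @IsClosedImmersion) (fun W : X.affineOpens => W)
      (iSup_affineOpens_eq_top X)).2 fun W => ⟨W.2.preimage f, ?_⟩
    rw [morphismRestrict_appTop]
    intro z
    obtain ⟨a, ha⟩ := (hbij (W.1.ι ''ᵁ ⊤)).2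
      ((inv (X'.presheaf.map (eqToHom (image_morphismRestrict_preimage f W.1 ⊤)).op)).hom z)
    refine ⟨a, ?_⟩
    rw [ConcreteCategory.comp_apply]; erw [ha]
    exact CategoryTheory.Iso.inv_hom_id_apply (asIso (X'.presheaf.map (eqToHom (image_morphismRestrict_preimage f W.1 ⊤)).op)) z
  rw [IsClosedImmersion.isIso_iff_ker_eq_bot]
  refine Scheme.IdealSheafData.ext (funext fun W => ?_)
  rw [Scheme.Hom.ker_apply, Scheme.IdealSheafData.ideal_bot, Pi.bot_apply]
  exact (RingHom.injective_iff_ker_eq_bot _).1 (hbij W.1).1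

end Groth.Agent.S1603
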