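import Groth.Statements.S16030
import Mathlib.RingTheory.Spectrum.Prime.Topology
import Mathlib.RingTheory.Ideal.Operations

set_option autoImplicit false
universe u
open CAlg

namespace Groth.Agent.S16030

/-- For a finite set F of points of the spectrum of a commutative ring A and an open subset U containing
F, some basic open D(a) contains F and is contained in U. -/
theorem result
    (A : Type u) [CommRing A] (F : Set (PrimeSpectrum A)) (hF : F.Finite)
    (U : TopologicalSpace.Opens (PrimeSpectrum A)) (hFU : F ⊆ (U : Set (PrimeSpectrum A))) :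
    ∃ a : A, F ⊆ (PrimeSpectrum.basicOpen a : Set (PrimeSpectrum A)) ∧ PrimeSpectrum.basicOpen a ≤ U := by
  classical
  rcases F.eq_empty_or_nonempty with rfl | ⟨q₀, hq₀⟩
  · exact ⟨0, Set.empty_subset _, by simp⟩
  obtain ⟨J, hJ⟩ := (PrimeSpectrum.isClosed_iff_zeroLocus_ideal _).1 U.isOpen.isClosed_compl
  have hnot : ¬ ((J : Set A) ⊆ ⋃ q ∈ (↑hF.toFinset : Set (PrimeSpectrum A)), (q.asIdeal : Set A)) := by
    rw [Ideal.subset_union_prime (f := PrimeSpectrum.asIdeal) q₀ q₀ (fun q _ _ _ => q.isPrime)]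
    rintro ⟨q, hq, hle⟩
    have : q ∈ PrimeSpectrum.zeroLocus (J : Set A) := hle
    rw [← hJ] at this
    exact this (hFU ((Set.Finite.mem_toFinset hF).1 hq))
  obtain ⟨a, haJ, ha⟩ := Set.not_subset.1 hnot
  refine ⟨a, fun q hq h => ha (Set.mem_biUnion (Finset.mem_coe.2 (hF.mem_toFinset.2 hq)) h), fun q hq => ?_⟩
  by_contra hU
  have : q ∈ PrimeSpectrum.zeroLocus (J : Set A) := hJ ▸ hU
  exact hq (this haJ)

end Groth.Agent.S16030
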