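import Groth.Statements.S16032
import Groth.Agent.RelHull.Main
-- import your own Groth.Agent.* helpers here

set_option autoImplicit false
universe u
open CategoryTheory CategoryTheory.Limits AlgebraicGeometry MonoidalCategory MonObj
open GrpSch

namespace Groth.Agent.S16032

open scoped CategoryTheory.Obj

variable {S T : Scheme.{u}} (t : T ⟶ S)

/-- the square comparing a map with its base change -/
theorem isPullback_map {A B : Over S} (f : A ⟶ B) :
    IsPullback (pullback.fst A.hom t) ((Over.pullback t).map f).left f.left (pullback.fst B.hom t) := by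
  have hfst : ((Over.pullback t).map f).left ≫ pullback.fst B.hom t = pullback.fst A.hom t ≫ f.left :=
    pullback.lift_fst _ _ _
  refine IsPullback.of_bot ?_ hfst.symm (IsPullback.of_hasPullback B.hom t)
  have h : ((Over.pullback t).map f).left ≫ pullback.snd B.hom t = pullback.snd A.hom t :=
    Over.w ((Over.pullback t).map f)
  rw [h, Over.w f]
  exact IsPullback.of_hasPullback A.hom t

/-- the generic fibre of `u` is affine when its kernel has affine generic fibre -/
theorem isAffineHom_fibHom {G H : Over S} [GrpObj G] [GrpObj H] [LocallyOfFiniteType G.hom]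
    [LocallyOfFiniteType H.hom] (u : G ⟶ H) [IsMonHom u] [QuasiCompact u.left] (s : S)
    (hker : IsAffine ((pullback.fst u.left η[H].left ≫ G.hom).fiber s)) :
    IsAffineHom (pullback.snd u.left (pullback.fst H.hom (S.fromSpecResidueField s))) := by
  let F := Over.pullback (S.fromSpecResidueField s)
  letI : GrpObj (Groth.Agent.GrpField.fib G s) := Groth.Agent.GrpField.fibGrp G s
  letI : GrpObj (Groth.Agent.GrpField.fib H s) := Groth.Agent.GrpField.fibGrp H s
  haveI : QuasiCompact (Groth.Agent.GrpField.fibHom u s).left :=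
    MorphismProperty.of_isPullback (Groth.Agent.GrpField.isPullback_fibHom u s) ‹QuasiCompact u.left›
  haveI : LocallyOfFiniteType (Groth.Agent.GrpField.fib G s).hom :=
    inferInstanceAs (LocallyOfFiniteType (pullback.snd G.hom _))
  haveI : LocallyOfFiniteType (Groth.Agent.GrpField.fib H s).hom :=
    inferInstanceAs (LocallyOfFiniteType (pullback.snd H.hom _))
  let N : Over S := Over.mk (pullback.fst u.left η[H].left ≫ G.hom)
  let a : N ⟶ G := Over.homMk (pullback.fst u.left η[H].left)
  let c : N ⟶ 𝟙_ (Over S) := Over.homMk (pullback.snd u.left η[H].left) (by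
    show pullback.snd u.left η[H].left ≫ (𝟙_ (Over S)).hom = pullback.fst u.left η[H].left ≫ G.hom
    rw [← Over.w u, pullback.condition_assoc, ← Over.w η[H]])
  have sq : IsPullback a c u η[H] :=
    .of_map (Over.forget S) (by ext1; exact pullback.condition) (IsPullback.of_hasPullback u.left η[H].left)
  have sq' : IsPullback (F.map a) (F.map c) (F.map u) (F.map η[H]) := sq.map F
  let e := (Functor.Monoidal.εIso F).symm
  have sq'' : IsPullback (F.map a) (F.map c ≫ e.hom) (F.map u)
      (η[Groth.Agent.GrpField.fib H s] : 𝟙_ _ ⟶ Groth.Agent.GrpField.fib H s) :=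
    sq'.of_iso (Iso.refl _) (Iso.refl _) e (Iso.refl _) (by simp) (by simp) (by simp) (by
      rw [Iso.refl_hom, Category.comp_id]
      change F.map η[H] = e.hom ≫ (Functor.LaxMonoidal.ε F ≫ F.map η[H])
      rw [show e.hom ≫ Functor.LaxMonoidal.ε F ≫ F.map η[H] = (e.hom ≫ e.inv) ≫ F.map η[H] from
        (Category.assoc _ _ _).symm, Iso.hom_inv_id, Category.id_comp])
  have sq3 := sq''.map (Over.forget _)
  haveI : IsAffine (pullback (Groth.Agent.GrpField.fibHom u s).left
      (η[Groth.Agent.GrpField.fib H s] : 𝟙_ _ ⟶ Groth.Agent.GrpField.fib H s).left) := by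
    haveI : IsAffine ((Over.forget _).obj (F.obj N)) := hker
    exact .of_isIso sq3.isoPullback.inv
  have h := Groth.Agent.RelHull.isAffineHom_of_kernel (k := S.residueField s) (Groth.Agent.GrpField.fibHom u s) inferInstance
  rw [← (Groth.Agent.GrpField.isPullback_fibHom u s).isoPullback_inv_snd]
  exact MorphismProperty.comp_mem _ _ _ inferInstance h

/-- Let S be a Dedekind scheme, G and G₀ group schemes of finite type over S and u : G ⟶ G₀ a
homomorphism which is separated, with G flat over S and with the generic fibre of the kernel of u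
affine. Then u is affine. -/
theorem result
    (S : Scheme.{u}) [IsIntegral S] (hD : ∀ U : S.affineOpens, Nonempty (U : S.Opens) → IsDedekindDomain Γ(S, U))
    (G G₀ : Over S) [GrpObj G] [GrpObj G₀]
    [LocallyOfFiniteType G.hom] [QuasiCompact G.hom] [LocallyOfFiniteType G₀.hom] [QuasiCompact G₀.hom]
    [Flat G.hom] (u : G ⟶ G₀) [IsMonHom u] [IsSeparated u.left]
    (hker : IsAffine ((pullback.fst u.left η[G₀].left ≫ G.hom).fiber (genericPoint ↥S))) :
    IsAffineHom u.left := by
  have hξ : ∀ U : S.Opens, Nonempty U → genericPoint ↥S ∈ U := fun U hU => by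
    obtain ⟨x⟩ := hU
    exact (genericPoint_spec S).mem_open_set_iff U.2 |>.2 ⟨x.1, Set.mem_univ _, x.2⟩
  haveI : IsLocallyNoetherian S := by
    refine ⟨fun U => ?_⟩
    by_cases hU : Nonempty (U : S.Opens)
    · exact (hD U hU).toIsNoetherian
    · haveI : Subsingleton Γ(S, U) := by
        have : (U : S.Opens) = ⊥ := by
          ext x; exact ⟨fun hx => (hU ⟨⟨x, hx⟩⟩).elim, fun hx => hx.elim⟩
        rw [this]; infer_instance
      haveI : Finite Γ(S, U) := Finite.of_subsingleton
      exact isNoetherian_of_finite _ _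
  haveI : IsLocallyNoetherian G₀.left := LocallyOfFiniteType.isLocallyNoetherian G₀.hom
  haveI : QuasiCompact u.left := by
    haveI : QuasiCompact (u.left ≫ G₀.hom) := by rw [Over.w u]; infer_instance
    exact QuasiCompact.of_comp u.left G₀.hom
  have hK := isAffineHom_fibHom u (genericPoint ↥S) hker
  let Idx := {U : S.affineOpens // Nonempty (U : S.Opens)}
  refine IsZariskiLocalAtTarget.of_iSup_eq_top (P := @IsAffineHom) (fun U : Idx => G₀.hom ⁻¹ᵁ (U.1 : S.Opens))
    (top_le_iff.1 fun x _ => ?_) fun ⟨⟨U, hU⟩, hne⟩ => ?_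
  · obtain ⟨_, ⟨U, hU, rfl⟩, hxU, -⟩ :=
      S.isBasis_affineOpens.exists_subset_of_mem_open (Set.mem_univ (G₀.hom x)) isOpen_univ
    exact TopologicalSpace.Opens.mem_iSup.2 ⟨⟨⟨U, hU⟩, ⟨⟨_, hxU⟩⟩⟩, hxU⟩
  show IsAffineHom (u.left ∣_ (G₀.hom ⁻¹ᵁ U))
  let R : CommRingCat := Γ(S, U)
  haveI : IsDedekindDomain R := hD ⟨U, hU⟩ hne
  let j : Spec R ⟶ S := hU.fromSpec
  let F := Over.pullback j
  haveI : LocallyOfFiniteType (F.obj G).hom := inferInstanceAs (LocallyOfFiniteType (pullback.snd G.hom j))
  haveI : QuasiCompact (F.obj G).hom := inferInstanceAs (QuasiCompact (pullback.snd G.hom j))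
  haveI : LocallyOfFiniteType (F.obj G₀).hom := inferInstanceAs (LocallyOfFiniteType (pullback.snd G₀.hom j))
  haveI : Flat (F.obj G).hom := inferInstanceAs (Flat (pullback.snd G.hom j))
  letI : GrpObj (F.obj G) := Functor.grpObjObj (F := F)
  letI : GrpObj (F.obj G₀) := Functor.grpObjObj (F := F)
  haveI : IsMonHom (F.map u) := inferInstanceAs (IsMonHom ((Over.pullback j).map u))
  have sq := isPullback_map j u
  haveI : IsSeparated (F.map u).left := MorphismProperty.of_isPullback sq ‹IsSeparated u.left›
  -- the generic point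
  let c := S.fromSpecResidueField (genericPoint ↥S)
  have hc : Set.range c ⊆ Set.range j := by
    rw [Scheme.range_fromSpecResidueField, hU.range_fromSpec]
    exact Set.singleton_subset_iff.2 (hξ U hne)
  let b := IsOpenImmersion.lift j c hc
  have hbj : b ≫ j = c := IsOpenImmersion.lift_fac _ _ _
  let φ : R ⟶ S.residueField (genericPoint ↥S) := Spec.preimage b
  have hφ : Spec.map φ = b := Spec.map_preimage _
  have hinj : Function.Injective φ := by
    let z : Spec (S.residueField (genericPoint ↥S)) := IsLocalRing.closedPoint _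
    have hz : b z = genericPoint ↥(Spec R) := by
      refine j.isOpenEmbedding.injective ?_
      rw [genericPoint_eq_of_isOpenImmersion, ← Scheme.Hom.comp_apply, hbj]
      have : c z ∈ Set.range c := ⟨z, rfl⟩
      rw [Scheme.range_fromSpecResidueField] at this
      exact this
    have h2 : (Spec.map φ z).asIdeal = ⊥ := by
      rw [hφ, hz, genericPoint_eq_bot_of_affine]; rfl
    have h3 : RingHom.ker φ.hom = ⊥ := by
      rw [← h2]
      show RingHom.ker φ.hom = Ideal.comap φ.hom (IsLocalRing.maximalIdeal _)
      rw [IsLocalRing.maximalIdeal_eq_bot]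
      rfl
    exact (RingHom.injective_iff_ker_eq_bot _).2 h3
  haveI : Flat b := by
    rw [← hφ, HasRingHomProperty.Spec_iff (P := @Flat)]
    letI := φ.hom.toAlgebra
    haveI : Module.IsTorsionFree R (S.residueField (genericPoint ↥S)) :=
      Module.IsTorsionFree.of_smul_eq_zero fun r g h => by
        rw [Algebra.smul_def] at h
        exact (mul_eq_zero.1 h).imp_left fun h' => hinj (h'.trans (map_zero φ.hom).symm)
    exact IsDedekindDomain.flat_iff_torsion_eq_bot.2 (Submodule.isTorsionFree_iff_torsion_eq_bot.1 ‹_›)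
  haveI : IsAffineHom b := isAffineHom_of_isAffine b
  haveI : IsSchemeTheoreticallyDominant b := by
    refine (isSchemeTheoreticallyDominant_iff _).2 (Groth.Agent.HullDed.ker_eq_bot_of_injective _ ?_)
    rw [← hφ]
    intro x y hxy
    apply (ConcreteCategory.bijective_of_isIso (Scheme.ΓSpecIso R).hom).1
    apply hinj
    have e := Scheme.ΓSpecIso_naturality φ
    exact congr($e x).symm.trans ((congrArg (Scheme.ΓSpecIso _).hom hxy).trans congr($e y))
  let q := pullback.fst (F.obj G₀).hom b
  let q₀ := pullback.fst G₀.hom j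
  let qξ := pullback.fst G₀.hom c
  let w : pullback (F.obj G₀).hom b ⟶ pullback G₀.hom c :=
    pullback.lift (q ≫ q₀) (pullback.snd _ _) (by
      rw [Category.assoc, pullback.condition, ← hbj]
      show q ≫ (F.obj G₀).hom ≫ j = _
      rw [pullback.condition_assoc])
  have hw : w ≫ qξ = q ≫ q₀ := pullback.lift_fst _ _ _
  have hgen : IsAffineHom (pullback.snd (F.map u).left q) := by
    have h1 : IsAffineHom (pullback.snd u.left (q ≫ q₀)) := by
      rw [← hw, ← pullbackLeftPullbackSndIso_inv_snd_snd]
      exact MorphismProperty.comp_mem _ _ _ inferInstance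
        (MorphismProperty.pullback_snd (P := @IsAffineHom) _ w hK)
    have sq2 := (IsPullback.of_hasPullback (F.map u).left q).paste_horiz sq
    rw [← sq2.isoPullback_hom_snd]
    exact MorphismProperty.comp_mem _ _ _ inferInstance h1
  have hmain : IsAffineHom (F.map u).left :=
    Groth.Agent.RelHull.isAffineHom_of_generic (F.obj G) (F.obj G₀) (F.map u) b hgen
  let W := G₀.hom ⁻¹ᵁ U
  have hW : Set.range (W.ι ≫ G₀.hom) ⊆ Set.range j := by
    rw [hU.range_fromSpec]
    rintro _ ⟨x, rfl⟩
    exact x.2
  let v : (W : Scheme.{u}) ⟶ pullback G₀.hom j :=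
    pullback.lift W.ι (IsOpenImmersion.lift j (W.ι ≫ G₀.hom) hW) (IsOpenImmersion.lift_fac _ _ _).symm
  have hv : v ≫ q₀ = W.ι := pullback.lift_fst _ _ _
  have h2 : IsAffineHom (pullback.snd u.left q₀) := by
    rw [← sq.isoPullback_inv_snd]
    exact MorphismProperty.comp_mem _ _ _ inferInstance hmain
  have h3 : IsAffineHom (pullback.snd u.left W.ι) := by
    rw [← hv, ← pullbackLeftPullbackSndIso_inv_snd_snd]
    exact MorphismProperty.comp_mem _ _ _ inferInstance (MorphismProperty.pullback_snd (P := @IsAffineHom) _ v h2)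
  rw [← (isPullback_morphismRestrict u.left W).flip.isoPullback_hom_snd]
  exact MorphismProperty.comp_mem _ _ _ inferInstance h3

end Groth.Agent.S16032
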