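import Groth.Statements.S16033
import Groth.Agent.Chev.Divisible
import Groth.Agent.Chev.AntiAff
import Groth.Agent.GrpField.SchDomFlat
import Groth.Agent.GrpField.SchImgExists
import Groth.Agent.AdjRep.KerObj
import Groth.Agent.FpqcDescent.Affine
-- import your own Groth.Agent.* helpers here

set_option autoImplicit false
universe u
open CategoryTheory CategoryTheory.Limits AlgebraicGeometry MonoidalCategory MonObj
open GrpSch

namespace Groth.Agent.S16033

section
open CartesianMonoidalCategory GrpObj
variable {k : Type u} [Field k]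

set_option backward.isDefEq.respectTransparency false in
/-- An algebraic group killed by a positive integer is affine. -/
theorem isAffine_of_pow_eq_one (K : Over (Spec (CommRingCat.of k))) [GrpObj K] [LocallyOfFiniteType K.hom]
    [QuasiCompact K.hom] (n : ℕ) (hn : 0 < n) (hK : (𝟙 K) ^ n = 1) : IsAffine K.left := by
  obtain ⟨hQ, D, hD, i, hqm, hqf, hqs, hql, hQl, him, hic, hker, hanti, hDl, hDq⟩ :=
    Groth.Agent.Chev.exists_anti_kernel K
  haveI := hqm; haveI := hqf; haveI := hqs; haveI := hql; haveI := him; haveI := hic; haveI := hDl; haveI := hDq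
  haveI : Mono i := Groth.Agent.GrpField.SchImg.mono_of_isClosedImmersion i
  have hDn : (𝟙 D) ^ n = 1 := by
    rw [← cancel_mono i, MonObj.one_comp, MonObj.pow_comp, Category.id_comp,
      show i ^ n = i ≫ (𝟙 K) ^ n by rw [MonObj.comp_pow, Category.comp_id], hK, MonObj.comp_one]
  haveI := Groth.Agent.Chev.smooth_of_anti D hanti
  haveI := Groth.Agent.Chev.isReduced_of_smooth' D
  obtain ⟨z⟩ : Nonempty (Spec (CommRingCat.of k)) := inferInstance
  haveI : Subsingleton (Spec (CommRingCat.of k)) := inferInstanceAs (Subsingleton (PrimeSpectrum k))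
  haveI : Subsingleton D.left := by
    refine ⟨fun a b => ?_⟩
    have hs := Groth.Agent.Chev.surjective_pow_of_anti' D hanti hn
    rw [hDn, Hom.one_def, Over.comp_left] at hs
    have hc : ∀ x : D.left, x = η[D].left z := fun x => by
      obtain ⟨y, hy⟩ := hs.surj x
      rw [← hy, Scheme.Hom.comp_apply]
      exact congrArg _ (@Subsingleton.elim _ (inferInstanceAs (Subsingleton (Spec (CommRingCat.of k)))) _ _)
    rw [hc a, hc b]
  haveI : IsAffine D.left := by
    obtain ⟨U, hU, hzU, -⟩ := exists_isAffineOpen_mem_and_subset (X := D.left) (x := η[D].left z) (U := ⊤) trivial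
    have : U = ⊤ := by
      ext x; simp only [TopologicalSpace.Opens.coe_top, Set.mem_univ, iff_true]
      rw [Subsingleton.elim x (η[D].left z)]; exact hzU
    subst this
    haveI : IsAffine ((⊤ : D.left.Opens) : Scheme.{u}) := hU
    exact IsAffine.of_isIso D.left.topIso.inv
  haveI : IsIso D.hom.appTop := by
    rw [ConcreteCategory.isIso_iff_bijective]
    have e : ⇑D.hom.appTop.hom = ⇑((Scheme.ΓSpecIso (CommRingCat.of k)).inv ≫ D.hom.appTop).hom ∘ ⇑(Scheme.ΓSpecIso (CommRingCat.of k)).hom.hom := by
      funext x; simp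
    exact e ▸ hanti.comp (ConcreteCategory.bijective_of_isIso (Scheme.ΓSpecIso (CommRingCat.of k)).hom)
  haveI : IsIso D.hom := by
    rw [← MorphismProperty.isomorphisms.iff, MorphismProperty.arrow_mk_iso_iff (MorphismProperty.isomorphisms _)
      (arrowIsoSpecΓOfIsAffine D.hom)]
    exact inferInstanceAs (IsIso (Spec.map D.hom.appTop))
  haveI : Mono (toUnit D) := by
    refine ⟨fun a b h => Over.OverMorphism.ext ?_⟩
    rw [← cancel_mono D.hom, Over.w a, Over.w b]
  haveI : Mono (AffHull.toHull K) := by
    refine ⟨fun {T} a b h => ?_⟩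
    have h1 : (a * b⁻¹) ≫ AffHull.toHull K = 1 := by
      rw [MonObj.mul_comp, GrpObj.inv_comp, h, mul_inv_cancel]
    obtain ⟨w, hw, -⟩ := IsPullback.exists_lift hker (a * b⁻¹) (toUnit T) (by rw [h1, Hom.one_def])
    have hw1 : w = 1 := (cancel_mono (toUnit D)).1 (toUnit_unique _ _)
    rw [hw1, MonObj.one_comp] at hw
    exact mul_inv_eq_one.1 hw.symm
  haveI : Mono (AffHull.toHull K).left := (Over.forget _).map_mono (AffHull.toHull K)
  haveI : IsAffineHom (AffHull.hull K).hom := isAffineHom_of_isAffine _
  haveI : QuasiCompact (AffHull.toHull K).left := by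
    haveI : QuasiCompact ((AffHull.toHull K).left ≫ (AffHull.hull K).hom) := by rw [Over.w]; infer_instance
    exact QuasiCompact.of_comp _ (AffHull.hull K).hom
  haveI : IsIso (AffHull.toHull K).left := Flat.isIso_of_surjective_of_mono _
  exact IsAffine.of_isIso (AffHull.toHull K).left

end

open CartesianMonoidalCategory in

/-- For a commutative group scheme G of finite type over a field and an integer n > 0, the n-th power
homomorphism n_G : G ⟶ G is an affine morphism. -/
theorem result
    (k : Type u) [Field k] (G : Over (Spec (CommRingCat.of k))) [GrpObj G] [IsCommMonObj G]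
    [LocallyOfFiniteType G.hom] [QuasiCompact G.hom] (n : ℕ) (hn : 0 < n) :
    IsAffineHom ((𝟙 G ^ n : G ⟶ G).left) := by
  haveI : IsSeparated G.hom := Groth.Agent.GrpField.isSeparated_hom G
  let f : G ⟶ G := 𝟙 G ^ n
  haveI : IsMonHom f := Groth.Agent.Chev.isMonHom_pow G n
  haveI : QuasiCompact f.left := by
    haveI : QuasiCompact (f.left ≫ G.hom) := by rw [Over.w]; infer_instance
    exact QuasiCompact.of_comp f.left G.hom
  obtain ⟨H, _, h₀, g, hh₀, hg, hgi, hcl, hd, hqc, hsu⟩ := Groth.Agent.GrpField.SchImg.exists_image f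
  haveI : LocallyOfFiniteType H.hom := by rw [← Over.w h₀]; infer_instance
  haveI : Flat g.left := Groth.Agent.GrpField.flat_of_schDom g ((isSchemeTheoreticallyDominant_iff _).1 hd)
  obtain ⟨N, _, i, hi, hic, -, hker⟩ := Groth.Agent.AdjRep.exists_kernel g
  haveI : Mono i := Groth.Agent.GrpField.SchImg.mono_of_isClosedImmersion i
  have hi1 : i ≫ g = 1 := by rw [hker.w, Hom.one_def]
  have hN : (𝟙 N) ^ n = 1 := by
    rw [← cancel_mono i, MonObj.one_comp, MonObj.pow_comp, Category.id_comp,
      show i ^ n = i ≫ f by rw [MonObj.comp_pow, Category.comp_id], ← hgi, ← Category.assoc, hi1, MonObj.one_comp]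
  haveI : LocallyOfFiniteType N.hom := by rw [← Over.w i]; infer_instance
  haveI : QuasiCompact N.hom := by rw [← Over.w i]; infer_instance
  haveI := isAffine_of_pow_eq_one N n hn hN
  have hsq := hker.map (Over.forget _)
  simp only [Over.forget_map] at hsq
  have hk : IsAffineHom (pullback.snd g.left η[H].left) := by
    refine (MorphismProperty.cancel_left_of_respectsIso @IsAffineHom hsq.isoPullback.hom _).1 ?_
    erw [hsq.isoPullback_hom_snd]
    haveI : IsAffine N.left := ‹_›
    exact @isAffineHom_of_isAffine N.left _ _ ‹_› (isAffine_Spec _)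
  have h2 := Groth.Agent.GrpField.snd_self_iff g @IsAffineHom hk
  haveI : IsAffineHom g.left := by
    refine MorphismProperty.of_pullback_snd_of_descendsAlong (P := @IsAffineHom)
      (Q := @Surjective ⊓ @Flat ⊓ @QuasiCompact) (f := g.left) (g := g.left) ⟨⟨hsu, ‹_›⟩, hqc⟩ h2
  change IsAffineHom f.left
  rw [← hgi, Over.comp_left]
  infer_instance

end Groth.Agent.S16033
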