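import Groth.Statements.S16045
import Groth.Agent.Pinch.BaseChange
import Groth.Agent.Pinch.Charts

set_option autoImplicit false
universe u
open CategoryTheory CategoryTheory.Limits AlgebraicGeometry
open FlatMor

open CategoryTheory Limits AlgebraicGeometry Groth.Agent
set_option backward.isDefEq.respectTransparency false
namespace Groth.Agent.S16045

/-- Let θ₁ : Y ⟶ X₁ and θ₂ : Y ⟶ X₂ be closed immersions of schemes over S and X their pushout in
schemes over S. For a flat morphism g : S' ⟶ S, the square obtained by base change along g is a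
pushout in schemes over S': pinching along a closed subscheme commutes with flat base change. -/
theorem result
    {S S' : Scheme.{u}} (g : S' ⟶ S) [Flat g]
    {Y X₁ X₂ X : Over S} (θ₁ : Y ⟶ X₁) (θ₂ : Y ⟶ X₂) [IsClosedImmersion θ₁.left] [IsClosedImmersion θ₂.left]
    (φ₁ : X₁ ⟶ X) (φ₂ : X₂ ⟶ X) (hX : IsPushout θ₁ θ₂ φ₁ φ₂) :
    IsPushout ((Over.pullback g).map θ₁) ((Over.pullback g).map θ₂)
      ((Over.pullback g).map φ₁) ((Over.pullback g).map φ₂) := by
  have hc := Pinch.hasCharts_of_closed θ₁.left θ₂.left
  have h := Pinch.isPinch_of_isPushout hc (hX.map (Over.forget S))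
  haveI := Pinch.isAffineHom_a hc h
  refine IsPushout.of_map (Over.forget S') (by rw [← Functor.map_comp, ← Functor.map_comp, hX.w]) ?_
  refine Pinch.isPushout_of_isPinch (Pinch.isPinch_baseChange_flat hc h X.hom g
    (IsPullback.of_hasPullback X.hom g) (Pinch.isPullback_over φ₁ g) (Pinch.isPullback_over φ₂ g)
    (Pinch.isPullback_over θ₁ g) (Pinch.isPullback_over θ₂ g).w.symm ?_)
  exact (congrArg (fun f => ((Over.pullback g).map f).left) hX.w.symm |> fun e => by simp only [Functor.map_comp, Over.comp_left] at e; exact e)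

end Groth.Agent.S16045
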