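import Groth.Statements.S16046
import Mathlib

set_option autoImplicit false
universe u
open TensorProduct
open ValRing

namespace Groth.Agent.S16046

/-- A valuation ring is the trace of any valuation ring dominating it. -/
theorem mem_of_dominates {A A' K K' : Type u} [CommRing A] [IsDomain A] [ValuationRing A] [Field K] [Algebra A K]
    [IsFractionRing A K] [CommRing A'] [IsDomain A'] [Field K'] [Algebra A' K'] [IsFractionRing A' K']
    [Algebra A A'] [IsLocalHom (algebraMap A A')] [Algebra K K'] [Algebra A K'] [IsScalarTower A A' K']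
    [IsScalarTower A K K'] (c : K) (c' : A') (h : algebraMap A' K' c' = algebraMap K K' c) :
    ∃ a : A, algebraMap A K a = c := by
  rcases ValuationRing.isInteger_or_isInteger A c with ⟨a, ha⟩ | ⟨a, ha⟩
  · exact ⟨a, ha⟩
  rcases eq_or_ne c 0 with rfl | hc
  · exact ⟨0, map_zero _⟩
  have h1 : algebraMap A A' a * c' = 1 := by
    apply IsFractionRing.injective A' K'
    rw [map_mul, map_one, ← IsScalarTower.algebraMap_apply, IsScalarTower.algebraMap_apply A K K', h, ← map_mul, ha,
      inv_mul_cancel₀ hc, map_one]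
  have hu : IsUnit a := isUnit_of_map_unit (algebraMap A A') a ((IsUnit.of_mul_eq_one _ h1))
  refine ⟨↑hu.unit⁻¹, ?_⟩
  apply mul_left_cancel₀ (inv_ne_zero hc)
  rw [inv_mul_cancel₀ hc, ← ha, ← map_mul, IsUnit.mul_val_inv, map_one]

/-- Density: every element of the big field differs from one of the small field by an integral element. -/
theorem exists_sub_mem {A A' K K' : Type u} [CommRing A] [IsDomain A] [Field K] [Algebra A K]
    [IsFractionRing A K] [CommRing A'] [IsDomain A'] [ValuationRing A'] [Field K'] [Algebra A' K'] [IsFractionRing A' K']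
    [Algebra A A'] [Algebra K K'] [Algebra A K'] [IsScalarTower A A' K'] [IsScalarTower A K K']
    (hdense : ∀ a' b' : A', b' ≠ 0 → ∃ a : A, b' ∣ a' - algebraMap A A' a) (c : K') :
    ∃ (k : K) (e : A'), c = algebraMap A' K' e + algebraMap K K' k := by
  rcases ValuationRing.isInteger_or_isInteger A' c with ⟨a, ha⟩ | ⟨d, hd⟩
  · exact ⟨0, a, by rw [ha, map_zero, add_zero]⟩
  rcases eq_or_ne c 0 with rfl | hc
  · exact ⟨0, 0, by simp⟩
  by_cases hdu : IsUnit d
  · refine ⟨0, ↑hdu.unit⁻¹, ?_⟩
    rw [map_zero, add_zero]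
    apply mul_left_cancel₀ (inv_ne_zero hc)
    rw [inv_mul_cancel₀ hc, ← hd, ← map_mul, IsUnit.mul_val_inv, map_one]
  have hd0 : d ≠ 0 := fun h => inv_ne_zero hc (by rw [← hd, h, map_zero])
  obtain ⟨a, e, he⟩ := hdense d (d * d) (mul_ne_zero hd0 hd0)
  have hv : IsUnit (1 - d * e) := by
    rcases IsLocalRing.isUnit_or_isUnit_one_sub_self (d * e) with h | h
    · exact absurd (isUnit_of_mul_isUnit_left h) hdu
    · exact h
  obtain ⟨v, hv⟩ := hv
  have ha : algebraMap A A' a = d * v := by rw [hv]; linear_combination -he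
  have haK : algebraMap A K' a = c⁻¹ * algebraMap A' K' v := by
    rw [IsScalarTower.algebraMap_apply A A' K', ha, map_mul, hd]
  have hv0 : algebraMap A' K' (v : A') ≠ 0 := (v.isUnit.map _).ne_zero
  refine ⟨(algebraMap A K a)⁻¹, -(↑v⁻¹ * e), ?_⟩
  rw [map_inv₀, ← IsScalarTower.algebraMap_apply A K K', haK, map_neg, map_mul, map_units_inv]
  have h2 : algebraMap A' K' (v : A') = 1 - c⁻¹ * algebraMap A' K' e := by
    rw [hv, map_sub, map_one, map_mul, hd]
  have h3 : c * algebraMap A' K' (v : A') = c - algebraMap A' K' e := by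
    rw [h2, mul_sub, mul_one, ← mul_assoc, mul_inv_cancel₀ hc, one_mul]
  field_simp
  linear_combination h3

open TensorProduct in
theorem integral_of_one_tmul {A A' K K' L : Type u} [CommRing A] [IsDomain A] [ValuationRing A] [Field K] [Algebra A K]
    [IsFractionRing A K] [CommRing A'] [IsDomain A'] [ValuationRing A'] [Field K'] [Algebra A' K'] [IsFractionRing A' K']
    [Algebra A A'] [IsLocalHom (algebraMap A A')] [Algebra K K'] [Algebra A K'] [IsScalarTower A A' K']
    [IsScalarTower A K K'] [Field L] [Algebra K L] [FiniteDimensional K L] [Algebra A L] [IsScalarTower A K L]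
    (y : L) (hy : IsIntegral A' ((1 : K') ⊗ₜ[K] y)) : IsIntegral A y := by
  obtain ⟨h, hm, hh⟩ := hy
  let μ := minpoly K y
  have hμ : μ.Monic := minpoly.monic (IsIntegral.of_finite K y)
  let Y : K' ⊗[K] L := (1 : K') ⊗ₜ[K] y
  have hμY : Polynomial.aeval Y (μ.map (algebraMap K K')) = 0 := by
    rw [Polynomial.aeval_map_algebraMap, show Y = (Algebra.TensorProduct.includeRight : L →ₐ[K] K' ⊗[K] L) y from rfl,
      Polynomial.aeval_algHom_apply, minpoly.aeval, map_zero]
  have hdvd : μ.map (algebraMap K K') ∣ h.map (algebraMap A' K') := by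
    rw [← (Polynomial.modByMonic_eq_zero_iff_dvd (hμ.map _))]
    set r := h.map (algebraMap A' K') %ₘ μ.map (algebraMap K K') with hr
    have hrY : Polynomial.aeval Y r = 0 := by
      rw [hr, Polynomial.aeval_modByMonic_eq_self_of_root hμY, Polynomial.aeval_map_algebraMap]
      exact hh
    have hdeg : r.degree < (μ.natDegree : WithBot ℕ) := by
      refine (Polynomial.degree_modByMonic_lt _ (hμ.map _)).trans_eq ?_
      rw [Polynomial.degree_eq_natDegree (hμ.map _).ne_zero, hμ.natDegree_map]
    have hli : LinearIndependent K' fun i : Fin μ.natDegree => Y ^ (i : ℕ) := by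
      have h1 := Module.Flat.linearIndependent_one_tmul (S := K') (linearIndependent_pow (K := K) y)
      simpa [Y, Algebra.TensorProduct.tmul_pow, μ] using h1
    by_contra hr0
    have hlt : r.natDegree < μ.natDegree := (Polynomial.natDegree_lt_iff_degree_lt hr0).2 hdeg
    have h2 := Fintype.linearIndependent_iff.1 hli (fun i => r.coeff i) (by
      rw [← hrY, Polynomial.aeval_eq_sum_range' hlt Y,
        ← Fin.sum_univ_eq_sum_range (fun i => r.coeff i • Y ^ i)]) ⟨r.natDegree, hlt⟩
    exact hr0 (Polynomial.leadingCoeff_eq_zero.1 h2)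
  obtain ⟨g, hg⟩ := IsIntegrallyClosed.eq_map_mul_C_of_dvd K' hm hdvd
  rw [(hμ.map _).leadingCoeff, map_one, mul_one] at hg
  have hlift : μ ∈ Polynomial.lifts (algebraMap A K) := by
    rw [Polynomial.lifts_iff_coeff_lifts]
    intro i
    exact mem_of_dominates (A := A) (A' := A') (K' := K') (μ.coeff i) (g.coeff i) (by rw [← Polynomial.coeff_map, hg, Polynomial.coeff_map])
  obtain ⟨p, hp, -, hpm⟩ := Polynomial.lifts_and_degree_eq_and_monic hlift hμ
  refine ⟨p, hpm, ?_⟩
  rw [← Polynomial.aeval_def, ← Polynomial.aeval_map_algebraMap K, hp, minpoly.aeval]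

/-- Surjectivity assertion: let A ⊆ A' be valuation rings with fraction fields K ⊆ K', A' dominating A
and A dense in A' for the valuation topology, and L a finite extension of K; put L' = K' ⊗_K L. Then
every element of L' modulo its nilradical which is integral over A' is a finite sum Σ a'ᵢ·lᵢ with
a'ᵢ ∈ A' and lᵢ ∈ L integral over A. (The published statement also identifies the kernel of the map
from the tensor product with the nilradical; that part is not stated here.) -/
theorem result
    (A K L A' K' : Type u) [CommRing A] [IsDomain A] [ValuationRing A] [Field K] [Algebra A K] [IsFractionRing A K]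
    [Field L] [Algebra K L] [FiniteDimensional K L] [Algebra A L] [IsScalarTower A K L]
    [CommRing A'] [IsDomain A'] [ValuationRing A'] [Field K'] [Algebra A' K'] [IsFractionRing A' K']
    [Algebra A A'] [IsLocalHom (algebraMap A A')] (hinj : Function.Injective (algebraMap A A'))
    [Algebra K K'] [Algebra A K'] [IsScalarTower A A' K'] [IsScalarTower A K K']
    (hdense : ∀ a' b' : A', b' ≠ 0 → ∃ a : A, b' ∣ a' - algebraMap A A' a)
    (x : (K' ⊗[K] L) ⧸ nilradical (K' ⊗[K] L))
    (hx : ((Ideal.Quotient.mk (nilradical (K' ⊗[K] L))).comp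
            ((Algebra.TensorProduct.includeLeft : K' →ₐ[K] K' ⊗[K] L).toRingHom.comp (algebraMap A' K'))).IsIntegralElem x) :
    ∃ (n : ℕ) (a : Fin n → A') (l : Fin n → L), (∀ i, IsIntegral A (l i)) ∧
      x = Ideal.Quotient.mk (nilradical (K' ⊗[K] L)) (∑ i, algebraMap A' K' (a i) ⊗ₜ[K] l i) := by
  classical
  obtain ⟨z, rfl⟩ := Ideal.Quotient.mk_surjective x
  have hz : IsIntegral A' z := by
    obtain ⟨g, hg, hgz⟩ := hx
    rw [← Polynomial.hom_eval₂, Ideal.Quotient.eq_zero_iff_mem, mem_nilradical] at hgz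
    obtain ⟨N, hN⟩ := hgz
    exact ⟨g ^ N, hg.pow N, by rw [Polynomial.eval₂_pow]; exact hN⟩
  obtain ⟨s, b, hb⟩ := FiniteDimensional.exists_is_basis_integral A K L
  have hb' := fun i => hb i
  let c := fun i => (Algebra.TensorProduct.basis K' b).repr z i
  have hzsum : z = ∑ i, c i ⊗ₜ[K] b i := by
    conv_lhs => rw [← (Algebra.TensorProduct.basis K' b).sum_repr z]
    refine Finset.sum_congr rfl fun i _ => ?_
    rw [Algebra.TensorProduct.basis_apply, TensorProduct.smul_tmul', smul_eq_mul, mul_one]
  choose k e hce using fun i => exists_sub_mem (A := A) (K := K) hdense (c i)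
  let y : L := ∑ i, k i • b i
  have hsplit : z = (∑ i, algebraMap A' K' (e i) ⊗ₜ[K] b i) + (1 : K') ⊗ₜ[K] y := by
    rw [hzsum, TensorProduct.tmul_sum, ← Finset.sum_add_distrib]
    refine Finset.sum_congr rfl fun i _ => ?_
    rw [hce i, TensorProduct.add_tmul, TensorProduct.tmul_smul, TensorProduct.smul_tmul', Algebra.smul_def, mul_one]
  have hterm : ∀ (a : A') (l : L), IsIntegral A l → IsIntegral A' (algebraMap A' K' a ⊗ₜ[K] l) := by
    intro a l hl
    have h1 : IsIntegral A' ((1 : K') ⊗ₜ[K] l) := by
      obtain ⟨p, hp, hpl⟩ := hl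
      refine ⟨p.map (algebraMap A A'), hp.map _, ?_⟩
      rw [Polynomial.eval₂_map]
      have h2 := congrArg (Algebra.TensorProduct.includeRight : L →ₐ[K] K' ⊗[K] L) hpl
      rw [map_zero] at h2
      erw [Polynomial.hom_eval₂] at h2
      rw [← h2]
      congr 1
      ext r
      show algebraMap A' (K' ⊗[K] L) (algebraMap A A' r) = (1 : K') ⊗ₜ[K] algebraMap A L r
      rw [Algebra.TensorProduct.algebraMap_apply, ← IsScalarTower.algebraMap_apply A A' K',
        IsScalarTower.algebraMap_apply A K K', IsScalarTower.algebraMap_apply A K L,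
        Algebra.algebraMap_eq_smul_one, TensorProduct.smul_tmul, ← Algebra.algebraMap_eq_smul_one]
    have h3 := (isIntegral_algebraMap (A := K' ⊗[K] L) (x := a)).mul h1
    rwa [Algebra.TensorProduct.algebraMap_apply, Algebra.TensorProduct.tmul_mul_tmul, mul_one, one_mul] at h3
  have hY : IsIntegral A' ((1 : K') ⊗ₜ[K] y) := by
    have h4 := hz.sub (IsIntegral.sum (fun i => algebraMap A' K' (e i) ⊗ₜ[K] b i) (s := Finset.univ)
      fun i _ => hterm (e i) (b i) (hb' i))
    rwa [hsplit, add_sub_cancel_left] at h4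
  have hy := integral_of_one_tmul (A := A) y hY
  let eqv := Fintype.equivFin ↥s
  refine ⟨Fintype.card ↥s + 1, Fin.snoc (fun j => e (eqv.symm j)) 1, Fin.snoc (fun j => b (eqv.symm j)) y, ?_, ?_⟩
  · intro i
    induction i using Fin.lastCases with
    | last => simpa using hy
    | cast j => simpa using hb' (eqv.symm j)
  · congr 1
    rw [Fin.sum_univ_castSucc]
    simp only [Fin.snoc_castSucc, Fin.snoc_last, map_one]
    rw [hsplit, ← Equiv.sum_comp eqv.symm (fun i => algebraMap A' K' (e i) ⊗ₜ[K] b i)]

end Groth.Agent.S16046
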