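import Groth.Statements.S16048
import Groth.Agent.ArtKit.PSVersal
import Groth.Agent.ArtKit.HomDer

set_option autoImplicit false
universe u v
open CategoryTheory
open ArtFun

namespace Groth.Agent.S16048

/-- Let Λ be a complete local Noetherian ring with residue field k and F a functor on Artinian local
Λ-algebras with residue field k which admits a hull. A family ξ of F over a complete local
Noetherian Λ-algebra R with residue field k such that R is isomorphic over Λ to a power series ring
Λ[[t_1, …, t_n]] and the induced map on tangent spaces h_R(k[ε]) → F(k[ε]) is bijective is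
miniversal. (The source states this for the deformation functor of a rational double point over the
Witt vectors of an algebraically closed field, with the Kodaira–Spencer map as the tangent map and
the existence of a hull taken from Schlessinger's criteria; the argument uses only the existence of
a hull, so the hull is carried as a hypothesis and Λ is any complete local Noetherian ring with
residue field k.) -/
theorem result {Λ : Type u} {k : Type u}
    [CommRing Λ] [Field k] [Algebra Λ k] [IsNoetherianRing Λ] [Module.Finite Λ k]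
    [IsLocalRing Λ] [IsAdicComplete (IsLocalRing.maximalIdeal Λ) Λ]
    (hk : Function.Surjective (algebraMap Λ k))
    {F : ArtFun.Art Λ k ⥤ Type v} (hF : ArtFun.HasHull F)
    (R : ArtFun.CRing Λ k) (n : ℕ) (e : R.carrier ≃ₐ[Λ] MvPowerSeries (Fin n) Λ)
    (ξ : ArtFun.Family R.carrier R.res F)
    (hξ : Function.Bijective (ArtFun.TangentSpace.ofFamily ξ)) :
    ArtFun.IsMiniversal ξ := by
  obtain ⟨⟨R0, ξ0, hv0, hb0⟩⟩ := hF
  have h0 : H0 F := Groth.Agent.ArtKit.h0_of_surjective (ξ := ξ0) fun y => by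
    obtain ⟨φ, hφ⟩ := hb0.2 (F.map Art.baseToDual y)
    refine ⟨HomSet.map (Art.toBase _) φ, ?_⟩
    rw [ξ0.natural, hφ, ← Groth.Agent.ArtKit.map_comp_app,
      show Art.baseToDual ≫ Art.toBase (Art.dual Λ k) = 𝟙 _ from (Art.eq_toBase _).trans (Art.eq_toBase _).symm,
      Groth.Agent.ArtKit.map_id_app]
  obtain ⟨g, hg, hgξ⟩ := Groth.Agent.ArtKit.exists_along_eq h0 hv0 R ξ.toFormalElt
  have happ : ∀ (A : Art Λ k) (v : HomSet R.carrier R.res A), (ξ0.along g hg).app A v = ξ.app A v :=
    Groth.Agent.ArtKit.family_app_eq hgξ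
  have happ2 : ∀ {v v' : HomSet R.carrier R.res (Art.dual Λ k)}, v.1.comp g = v'.1.comp g → v = v' := by
    intro v v' e
    refine hξ.1 ?_
    show ξ.app _ v = ξ.app _ v'
    rw [← happ, ← happ]
    exact congrArg (ξ0.app _) (Subtype.ext e)
  have hgs : Function.Surjective g :=
    Groth.Agent.ArtKit.surjective_of_dual_injective R0 R g hg fun _ _ => happ2
  obtain ⟨σ, hσ⟩ := Groth.Agent.ArtKit.exists_section_of_smooth R
    ((Groth.Agent.ArtKit.isSmoothFunctor_hR_iff_ps hk R).2 ⟨n, ⟨e⟩⟩) R0 g hg hgs
  have hh : R0.res.comp (σ.comp g) = R0.res := by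
    rw [← hg, AlgHom.comp_assoc, ← AlgHom.comp_assoc g, hσ, AlgHom.id_comp]
  have hσg : Function.Bijective (σ.comp g) := by
    refine Groth.Agent.ArtKit.bijective_of_surjective_endo (σ.comp g).toRingHom
      (Groth.Agent.ArtKit.surjective_of_dual_injective R0 R0 _ hh fun u₁ u₂ e => ?_)
    have hfix : ∀ u : HomSet R0.carrier R0.res (Art.dual Λ k), u.1.comp (σ.comp g) = u.1 := fun u => by
      obtain ⟨v, hv⟩ := hξ.2 (ξ0.app _ u)
      have h' : (⟨v.1.comp g, by rw [← AlgHom.comp_assoc, v.2, hg]⟩ : HomSet R0.carrier R0.res (Art.dual Λ k)) = u :=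
        hb0.1 ((happ _ v).trans hv)
      rw [← h']
      show (v.1.comp g).comp (σ.comp g) = v.1.comp g
      rw [AlgHom.comp_assoc, ← AlgHom.comp_assoc g, hσ, AlgHom.id_comp]
    exact Subtype.ext (by rw [← hfix u₁, ← hfix u₂]; exact e)
  have hinj : Function.Injective g := Function.Injective.of_comp (f := σ) hσg.1
  refine ⟨fun B A μ hμ φ y hy => ?_, hξ⟩
  let φ0 : HomSet R0.carrier R0.res A := ⟨φ.1.comp g, by rw [← AlgHom.comp_assoc, φ.2, hg]⟩
  obtain ⟨ψ0, h1, h2⟩ := hv0 μ hμ φ0 y (hy.trans (happ A φ).symm)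
  let ei := AlgEquiv.ofBijective g ⟨hinj, hgs⟩
  let ψ : HomSet R.carrier R.res B := ⟨ψ0.1.comp (ei.symm : R.carrier →ₐ[Λ] R0.carrier), by
    rw [← AlgHom.comp_assoc, ψ0.2]
    refine AlgHom.ext fun r => ?_
    rw [← hg]
    exact congrArg R.res (ei.apply_symm_apply r)⟩
  refine ⟨ψ, Subtype.ext (AlgHom.ext fun r => ?_), ?_⟩
  · refine (DFunLike.congr_fun (congrArg Subtype.val h1) (ei.symm r)).trans ?_
    exact congrArg φ.1 (ei.apply_symm_apply r)
  · rw [← happ, ← h2]
    exact congrArg (ξ0.app _) (Subtype.ext (AlgHom.ext fun r => congrArg ψ0.1 (ei.symm_apply_apply r)))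

end Groth.Agent.S16048
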