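import Groth.Statements.S1605
import Groth.Agent.DualGeneric.SubG
-- import your own Groth.Agent.* helpers here

set_option autoImplicit false
set_option backward.isDefEq.respectTransparency false
set_option backward.isDefEq.respectTransparency.types false
set_option maxHeartbeats 1000000
universe u
open CategoryTheory CategoryTheory.Limits AlgebraicGeometry
open Curves

namespace Groth.Agent.S1605

/-- Let X be proper over k, reduced, connected, of dimension one; L an invertible module; Z a closed
subscheme of dimension zero with ideal sheaf I. If H^1(X, I ⊗ L) ≠ 0, then there is a reduced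
connected closed subscheme Y of X of dimension one with deg(L|_Y) ≤ -2 χ(Y, O_Y) + deg(Z ∩ Y), the
scheme-theoretic intersection having degree dim_k H^0 of its structure sheaf. -/
theorem result (k : Type u) [Field k] (X : Scheme.{u}) [X.Over (Spec (CommRingCat.of k))] [IsProper (X ↘ (Spec (CommRingCat.of k)))] [IsReduced X] [ConnectedSpace X]
    (hdim : topologicalKrullDim X = 1) (L : X.Modules) (hL : PicF.IsInvertible L)
    (Z : X.IdealSheafData) (hZ : topologicalKrullDim (Z.support : Set X) ≤ 0)
    (h1 : Nontrivial (Coh.HH X (CohB1.tensorMod (ClSub.idealMod Z) L) 1)) :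
    ∃ (J : X.IdealSheafData), IsReduced J.subscheme ∧ ConnectedSpace J.subscheme ∧ topologicalKrullDim J.subscheme = 1 ∧
      @Curv2.deg k _ J.subscheme ⟨J.subschemeι ≫ (X ↘ (Spec (CommRingCat.of k)))⟩ ((Scheme.Modules.pullback J.subschemeι).obj L) 1 ≤
        -2 * @Curv2.euler k _ J.subscheme ⟨J.subschemeι ≫ (X ↘ (Spec (CommRingCat.of k)))⟩ (Coh.structureModule J.subscheme) +
          Module.finrank k (Coh.HH X (ClSub.quotMod (Z ⊔ J)) 0) := by
  classical
  haveI := CurveRR.isNoetherian_of_proper k X
  obtain ⟨S, hS, hcl, hcomp⟩ := DualGeneric.Sub.exists_gens k (X := X)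
  obtain ⟨e⟩ := DualGeneric.Sub.nonempty_iso_G Z hL hcl
  haveI := CohFinite.finite_proper k X _ (CurveRR.isCoh_tensor' (CurveRR.isCoh_idealMod Z).1 (CurveRR.isCoh_of_inv hL)) 1
  have hne : CurveRR.h k (DualGeneric.Sub.G Z L (DualGeneric.Sub.clo S)) 1 ≠ 0 := by
    rw [← CurveRR.h_eq_of_iso e 1]
    exact (Module.finrank_pos (R := k) (M := Coh.HH X (CohB1.tensorMod (ClSub.idealMod Z) L) 1)).ne'
  obtain ⟨T, hTS, hT, hc, hb⟩ := DualGeneric.Sub.exists_deg_le k Z hL hdim.le hZ S hS hne
  refine ⟨DualGeneric.Sub.vI (DualGeneric.Sub.clo T), DvrDom.isReduced_vanishingIdeal_subscheme _,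
    DualGeneric.Sub.connected_subscheme _ hc,
    DualGeneric.Sub.dim_sub k hdim hT (fun ξ hξ => hcomp ξ (hTS hξ)), ?_⟩
  rw [DualGeneric.Sub.euler_A k] at hb
  simp only [DualGeneric.Sub.degC, CurveRR.h] at hb
  omega


end Groth.Agent.S1605
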