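import Groth.Statements.S16050
import Groth.Agent.PSHyper.Basic

set_option autoImplicit false
universe u
open CategoryTheory
open LCI

namespace Groth.Agent.S16050

/-- Let k be an algebraically closed field of characteristic p > 0, P = k[[x, y, z]] the power series
ring in three variables, f a non-unit of P defining an isolated singularity — some power of the
maximal ideal of P is contained in (f) + J, where J is the ideal generated by the values D(f) of all
k-derivations D of P (the Jacobian ideal (f_x, f_y, f_z)) — and R₀ = P/(f). Then Ext²_{R₀}(Ω_{R₀/k},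
R₀) = 0 and Ext¹_{R₀}(Ω_{R₀/k}, R₀) is isomorphic as an R₀-module to R₀/J R₀, the Tjurina algebra
(existence of an R₀-linear isomorphism only; the source obtains it from the boundary map of the
dualized conormal sequence). The source states this for the normal form of a rational double point;
the hypotheses used are those given here. Here Ω is the module of Kähler differentials of the
k-algebra R₀. (The lemma also identifies first-order deformations of R₀ with this Ext¹ group; that
identification is quoted there from another work and is not part of this row.) -/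
theorem result (k : Type u) [Field k] [IsAlgClosed k]
    (p : ℕ) [Fact p.Prime] [CharP k p]
    (f : MvPowerSeries (Fin 3) k) (hf : f ∈ IsLocalRing.maximalIdeal (MvPowerSeries (Fin 3) k))
    (hiso : ∃ N : ℕ, IsLocalRing.maximalIdeal (MvPowerSeries (Fin 3) k) ^ N ≤
      Ideal.span {f} ⊔ Ideal.span {g | ∃ D : Derivation k (MvPowerSeries (Fin 3) k) (MvPowerSeries (Fin 3) k), g = D f}) :
    Subsingleton (Abelian.Ext
        (ModuleCat.of (MvPowerSeries (Fin 3) k ⧸ Ideal.span {f})
          (KaehlerDifferential k (MvPowerSeries (Fin 3) k ⧸ Ideal.span {f})))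
        (ModuleCat.of (MvPowerSeries (Fin 3) k ⧸ Ideal.span {f}) (MvPowerSeries (Fin 3) k ⧸ Ideal.span {f})) 2) ∧
      Nonempty (Abelian.Ext
        (ModuleCat.of (MvPowerSeries (Fin 3) k ⧸ Ideal.span {f})
          (KaehlerDifferential k (MvPowerSeries (Fin 3) k ⧸ Ideal.span {f})))
        (ModuleCat.of (MvPowerSeries (Fin 3) k ⧸ Ideal.span {f}) (MvPowerSeries (Fin 3) k ⧸ Ideal.span {f})) 1 ≃ₗ[MvPowerSeries (Fin 3) k ⧸ Ideal.span {f}]
        ((MvPowerSeries (Fin 3) k ⧸ Ideal.span {f}) ⧸ Ideal.map (Ideal.Quotient.mk (Ideal.span {f}))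
          (Ideal.span {g | ∃ D : Derivation k (MvPowerSeries (Fin 3) k) (MvPowerSeries (Fin 3) k), g = D f}))) := by
  haveI : PerfectRing k p := PerfectField.toPerfectRing p
  obtain ⟨N, hN⟩ := hiso
  refine Groth.Agent.PSHyper.main f (le_refl 2 |>.trans (by norm_num)) p ?_ N hN
  intro h0
  subst h0
  have h1 : IsLocalRing.maximalIdeal (MvPowerSeries (Fin 3) k) ^ N = ⊥ := by
    refine le_bot_iff.mp (hN.trans (sup_le (by simp) (Ideal.span_le.mpr ?_)))
    rintro _ ⟨D, rfl⟩
    simp
  have hX : (MvPowerSeries.X 0 : MvPowerSeries (Fin 3) k) ∈ IsLocalRing.maximalIdeal (MvPowerSeries (Fin 3) k) := by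
    rw [IsLocalRing.mem_maximalIdeal, mem_nonunits_iff, MvPowerSeries.isUnit_iff_constantCoeff,
      MvPowerSeries.constantCoeff_X]
    exact not_isUnit_zero
  have h2 := Ideal.pow_mem_pow hX N
  rw [h1, Ideal.mem_bot] at h2
  have h3 := congrArg (MvPowerSeries.coeff (Finsupp.single (0 : Fin 3) N)) h2
  classical
  simp [MvPowerSeries.coeff_X_pow] at h3

end Groth.Agent.S16050
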