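import Groth.Statements.S16051
import Mathlib.RingTheory.Finiteness.Prod
import Mathlib.LinearAlgebra.Dimension.Constructions
-- import your own Groth.Agent.* helpers here

set_option autoImplicit false
set_option linter.all false
universe u
open LieAlg

namespace Groth.Agent.S16051

noncomputable section

attribute [local instance 100] LieRing.ofAssociativeRing LieAlgebra.ofAssociativeAlgebra

variable {O : Type u} [CommRing O] (n : ℕ)

/-- Jordan nilpotent block of size n, padded by zero. -/
def Nm : Matrix (Fin (n + 1)) (Fin (n + 1)) O :=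
  Matrix.of fun i j => if j.val = i.val + 1 ∧ j.val < n then 1 else 0

/-- Unit matrix with natural-number indices. -/
def E (a b : ℕ) : Matrix (Fin (n + 1)) (Fin (n + 1)) O :=
  Matrix.of fun i j => if i.val = a ∧ j.val = b then 1 else 0

def adN : Matrix (Fin (n + 1)) (Fin (n + 1)) O →ₗ[O] Matrix (Fin (n + 1)) (Fin (n + 1)) O :=
  LinearMap.mulLeft O (Nm n) - LinearMap.mulRight O (Nm n)

lemma adN_apply (Y : Matrix (Fin (n + 1)) (Fin (n + 1)) O) :
    adN n Y = Nm n * Y - Y * Nm n := rfl

lemma E_eq_single (a b : Fin (n + 1)) :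
    (E n a.val b.val : Matrix (Fin (n + 1)) (Fin (n + 1)) O) = Matrix.single a b 1 := by
  ext i j
  simp only [E, Matrix.of_apply, Matrix.single_apply, Fin.ext_iff]
  exact if_congr (by omega) rfl rfl

lemma Nm_mul_E (a b : ℕ) :
    (Nm n * E n a b : Matrix (Fin (n + 1)) (Fin (n + 1)) O)
      = if 1 ≤ a ∧ a < n then E n (a - 1) b else 0 := by
  ext i j
  rw [Matrix.mul_apply]
  by_cases ha : a < n + 1
  · rw [Finset.sum_eq_single (⟨a, ha⟩ : Fin (n + 1))]
    · by_cases h : 1 ≤ a ∧ a < n
      · rw [if_pos h]
        simp only [Nm, E, Matrix.of_apply]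
        split_ifs <;> first | (exfalso; simp only [true_and, and_true] at *; omega) | simp
      · rw [if_neg h]
        simp only [Nm, E, Matrix.of_apply, Matrix.zero_apply]
        split_ifs <;> first | (exfalso; simp only [true_and, and_true] at *; omega) | simp
    · intro k _ hk
      have : ¬ k.val = a := fun h => hk (Fin.ext h)
      simp [E, this]
    · intro h; exact absurd (Finset.mem_univ _) h
  · rw [if_neg (by omega), Matrix.zero_apply]
    refine Finset.sum_eq_zero fun k _ => ?_
    have : ¬ k.val = a := by have := k.isLt; omega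
    simp [E, this]

lemma E_mul_Nm (a b : ℕ) :
    (E n a b * Nm n : Matrix (Fin (n + 1)) (Fin (n + 1)) O)
      = if b + 1 < n then E n a (b + 1) else 0 := by
  ext i j
  rw [Matrix.mul_apply]
  by_cases hb : b < n + 1
  · rw [Finset.sum_eq_single (⟨b, hb⟩ : Fin (n + 1))]
    · by_cases h : b + 1 < n
      · rw [if_pos h]
        simp only [Nm, E, Matrix.of_apply]
        split_ifs <;> first | (exfalso; simp only [true_and, and_true] at *; omega) | simp
      · rw [if_neg h]
        simp only [Nm, E, Matrix.of_apply, Matrix.zero_apply]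
        split_ifs <;> first | (exfalso; simp only [true_and, and_true] at *; omega) | simp
    · intro k _ hk
      have : ¬ k.val = b := fun h => hk (Fin.ext h)
      simp [E, this]
    · intro h; exact absurd (Finset.mem_univ _) h
  · rw [if_neg (by omega), Matrix.zero_apply]
    refine Finset.sum_eq_zero fun k _ => ?_
    have : ¬ k.val = b := by have := k.isLt; omega
    simp [E, this]

lemma adN_E (a b : ℕ) : adN n (E n a b : Matrix (Fin (n + 1)) (Fin (n + 1)) O)
    = (if 1 ≤ a ∧ a < n then E n (a - 1) b else 0) - (if b + 1 < n then E n a (b + 1) else 0) := by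
  rw [adN_apply, Nm_mul_E, E_mul_Nm]

abbrev P : Type u := ((Fin n → O) × O × O) × O

/-- The coordinate: trace against the centralizer. -/
def Φ : Matrix (Fin (n + 1)) (Fin (n + 1)) O →ₗ[O] P (O := O) n where
  toFun Y := ((fun d => ∑ b : Fin (n + 1),
      if h : b.val + d.val < n then Y ⟨b.val + d.val, by omega⟩ b else 0,
    Y ⟨n - 1, by omega⟩ (Fin.last n), Y (Fin.last n) 0), Y (Fin.last n) (Fin.last n))
  map_add' Y Z := by
    refine Prod.ext (Prod.ext ?_ rfl) rfl
    funext d
    simp only [Prod.fst_add, Pi.add_apply, ← Finset.sum_add_distrib]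
    refine Finset.sum_congr rfl fun b _ => ?_
    split_ifs <;> simp
  map_smul' c Y := by
    refine Prod.ext (Prod.ext ?_ rfl) rfl
    funext d
    simp only [RingHom.id_apply, Prod.smul_fst, Pi.smul_apply, Finset.smul_sum]
    refine Finset.sum_congr rfl fun b _ => ?_
    split_ifs <;> simp

lemma Φ_E (a b : ℕ) :
    Φ n (E n a b : Matrix (Fin (n + 1)) (Fin (n + 1)) O) =
      ((fun d : Fin n => if a < n ∧ a = b + d.val then 1 else 0,
        if n - 1 = a ∧ n = b then 1 else 0, if n = a ∧ 0 = b then 1 else 0),
        if n = a ∧ n = b then 1 else 0) := by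
  refine Prod.ext (Prod.ext ?_ (Prod.ext ?_ ?_)) ?_
  · funext d
    show (∑ c : Fin (n + 1), if h : c.val + d.val < n then
      (if c.val + d.val = a ∧ c.val = b then (1 : O) else 0) else 0) =
      (if a < n ∧ a = b + d.val then (1 : O) else 0)
    by_cases h : a < n ∧ a = b + d.val
    · rw [if_pos h, Finset.sum_eq_single (⟨b, by omega⟩ : Fin (n + 1))]
      · obtain ⟨h1, h2⟩ := h
        rw [dif_pos]
        · exact if_pos ⟨show b + d.val = a by omega, rfl⟩
        · show b + d.val < n
          omega
      · intro c _ hc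
        have : ¬ c.val = b := fun h => hc (Fin.ext h)
        simp [this]
      · intro h; exact absurd (Finset.mem_univ _) h
    · rw [if_neg h]
      refine Finset.sum_eq_zero fun c _ => ?_
      by_cases h' : c.val + d.val < n
      · rw [dif_pos h']
        exact if_neg fun hh => h ⟨by omega, by omega⟩
      · rw [dif_neg h']
  · show E n a b (⟨n - 1, by omega⟩ : Fin (n + 1)) (Fin.last n) = _
    simp [E]
  · show (if n = a ∧ (0 : Fin (n + 1)).val = b then (1 : O) else 0) = _
    exact if_congr (by simp) rfl rfl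
  · show E n a b (Fin.last n) (Fin.last n) = _
    simp [E]

/-- A section of `Φ`. -/
def s : P (O := O) n →ₗ[O] Matrix (Fin (n + 1)) (Fin (n + 1)) O where
  toFun c := (∑ d : Fin n, c.1.1 d • E n d.val 0) + c.1.2.1 • E n (n - 1) n
    + c.1.2.2 • E n n 0 + c.2 • E n n n
  map_add' c c' := by
    simp only [Prod.fst_add, Prod.snd_add, Pi.add_apply, add_smul, Finset.sum_add_distrib]
    abel
  map_smul' r c := by
    simp only [RingHom.id_apply, Prod.smul_fst, Prod.smul_snd, Pi.smul_apply, smul_eq_mul,
      mul_smul, Finset.smul_sum, smul_add]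

lemma Φ_s (hn : 1 ≤ n) (c : P (O := O) n) : Φ n (s n c) = c := by
  show Φ n ((∑ d : Fin n, c.1.1 d • E n d.val 0) + c.1.2.1 • E n (n - 1) n
    + c.1.2.2 • E n n 0 + c.2 • E n n n) = c
  simp only [map_add, map_sum, map_smul, Φ_E]
  refine Prod.ext (Prod.ext ?_ (Prod.ext ?_ ?_)) ?_
  · funext e
    simp only [Prod.fst_add, Prod.fst_sum, Prod.smul_fst, Pi.add_apply, Finset.sum_apply,
      Pi.smul_apply, smul_eq_mul]
    rw [Finset.sum_eq_single e]
    · have := e.isLt
      rw [if_pos ⟨this, by omega⟩, if_neg (by omega), if_neg (by omega), if_neg (by omega)]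
      ring
    · intro d _ hd
      have : ¬ d.val = e.val := fun h => hd (Fin.ext h)
      rw [if_neg (by omega), mul_zero]
    · intro h; exact absurd (Finset.mem_univ _) h
  all_goals
    simp only [Prod.fst_add, Prod.snd_add, Prod.fst_sum, Prod.snd_sum, Prod.smul_fst,
      Prod.smul_snd, smul_eq_mul]
    rw [Finset.sum_eq_zero fun d _ => by have := d.isLt; rw [if_neg (by omega), mul_zero]]
    simp [show ¬ n - 1 = n by omega, show ¬ n = n - 1 by omega, show ¬ n = 0 by omega,
      show ¬ 0 = n by omega]

lemma Φ_adN (Y : Matrix (Fin (n + 1)) (Fin (n + 1)) O) : Φ n (adN n Y) = 0 := by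
  have h : ∀ a b : Fin (n + 1), Φ n (adN n (Matrix.single a b (1 : O))) = 0 := fun a b => by
    rw [← E_eq_single, adN_E]
    have ha := a.isLt
    have hb := b.isLt
    have e1 : Φ n (if 1 ≤ a.val ∧ a.val < n then
        (E n (a.val - 1) b.val : Matrix (Fin (n + 1)) (Fin (n + 1)) O) else 0)
        = ((fun d : Fin n => if (1 ≤ a.val ∧ a.val < n) ∧ a.val = b.val + d.val + 1 then 1 else 0,
            if (1 ≤ a.val ∧ a.val < n) ∧ n - 1 = a.val - 1 ∧ n = b.val then 1 else 0,
            if (1 ≤ a.val ∧ a.val < n) ∧ n = a.val - 1 ∧ 0 = b.val then 1 else 0),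
            if (1 ≤ a.val ∧ a.val < n) ∧ n = a.val - 1 ∧ n = b.val then 1 else 0) := by
      by_cases hc : 1 ≤ a.val ∧ a.val < n
      · rw [if_pos hc, Φ_E]
        refine Prod.ext (Prod.ext (funext fun d => if_congr (by omega) rfl rfl)
          (Prod.ext (if_congr (by omega) rfl rfl) (if_congr (by omega) rfl rfl)))
          (if_congr (by omega) rfl rfl)
      · rw [if_neg hc, map_zero]
        refine Prod.ext (Prod.ext (funext fun d => (if_neg (by omega)).symm)
          (Prod.ext (if_neg (by omega)).symm (if_neg (by omega)).symm))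
          (if_neg (by omega)).symm
    have e2 : Φ n (if b.val + 1 < n then
        (E n a.val (b.val + 1) : Matrix (Fin (n + 1)) (Fin (n + 1)) O) else 0)
        = ((fun d : Fin n => if b.val + 1 < n ∧ a.val < n ∧ a.val = b.val + 1 + d.val then 1 else 0,
            0, 0), 0) := by
      by_cases hc : b.val + 1 < n
      · rw [if_pos hc, Φ_E]
        refine Prod.ext (Prod.ext (funext fun d => if_congr (by omega) rfl rfl)
          (Prod.ext (if_neg (by omega)) (if_neg (by omega))))
          (if_neg (by omega))
      · rw [if_neg hc, map_zero]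
        refine Prod.ext (Prod.ext (funext fun d => (if_neg (by omega)).symm) rfl) rfl
    rw [map_sub, e1, e2, sub_eq_zero]
    refine Prod.ext (Prod.ext (funext fun d => if_congr (by omega) rfl rfl)
      (Prod.ext (if_neg (by omega)) (if_neg (by omega)))) (if_neg (by omega))
  conv_lhs => rw [Matrix.matrix_eq_sum_single Y]
  simp only [map_sum]
  refine Finset.sum_eq_zero fun a _ => Finset.sum_eq_zero fun b _ => ?_
  rw [← mul_one (Y a b), ← smul_eq_mul, ← Matrix.smul_single, map_smul, map_smul, h, smul_zero]

abbrev R : Submodule O (Matrix (Fin (n + 1)) (Fin (n + 1)) O) := LinearMap.range (adN n)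

lemma left_mem (a b : ℕ) : (if 1 ≤ a ∧ a < n then E n (a - 1) b else 0) -
    (if b + 1 < n then E n a (b + 1) else 0) ∈ R (O := O) n := by
  rw [← adN_E]; exact LinearMap.mem_range_self _ _

lemma upper_mem : ∀ a b : ℕ, a < b → b < n →
    (E n a b : Matrix (Fin (n + 1)) (Fin (n + 1)) O) ∈ R n := by
  intro a
  induction a with
  | zero =>
    intro b hb hbn
    have := left_mem (O := O) n 0 (b - 1)
    rw [if_neg (by omega), if_pos (by omega), zero_sub, show b - 1 + 1 = b by omega] at this
    exact neg_mem_iff.1 this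
  | succ a ih =>
    intro b hb hbn
    have := left_mem (O := O) n (a + 1) (b - 1)
    rw [if_pos (by omega), if_pos (by omega), show b - 1 + 1 = b by omega,
      show a + 1 - 1 = a by omega] at this
    have := Submodule.sub_mem _ (ih (b - 1) (by omega) (by omega)) this
    simpa using this

lemma lower_mem : ∀ b d : ℕ, b + d < n →
    (E n (b + d) b : Matrix (Fin (n + 1)) (Fin (n + 1)) O) - E n d 0 ∈ R n := by
  intro b
  induction b with
  | zero => intro d _; simp
  | succ b ih =>
    intro d hd
    have := left_mem (O := O) n (b + 1 + d) b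
    rw [if_pos (by omega), if_pos (by omega), show b + 1 + d - 1 = b + d by omega] at this
    have := Submodule.sub_mem _ (ih d (by omega)) this
    convert this using 1
    abel

lemma single_sub_mem (hn : 1 ≤ n) (a b : Fin (n + 1)) :
    (Matrix.single a b (1 : O)) - s n (Φ n (Matrix.single a b (1 : O))) ∈ R n := by
  rw [← E_eq_single]
  have ha := a.isLt
  have hb := b.isLt
  generalize hA : a.val = A at ha ⊢
  generalize hB : b.val = B at hb ⊢
  rw [Φ_E]
  show E n A B - ((∑ d : Fin n, (if A < n ∧ A = B + d.val then (1 : O) else 0) • E n d.val 0)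
    + (if n - 1 = A ∧ n = B then (1 : O) else 0) • E n (n - 1) n
    + (if n = A ∧ 0 = B then (1 : O) else 0) • E n n 0
    + (if n = A ∧ n = B then (1 : O) else 0) • E n n n) ∈ R (O := O) n
  rcases Nat.lt_or_ge A n with hAn | hAn
  · rw [if_neg (show ¬(n = A ∧ 0 = B) by omega), if_neg (show ¬(n = A ∧ n = B) by omega)]
    rcases Nat.lt_or_ge B n with hBn | hBn
    · rw [if_neg (show ¬(n - 1 = A ∧ n = B) by omega)]
      simp only [zero_smul, add_zero]
      rcases Nat.lt_or_ge A B with h | h
      · rw [Finset.sum_eq_zero fun d _ => by rw [if_neg (by omega), zero_smul], sub_zero]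
        exact upper_mem n A B h hBn
      · rw [Finset.sum_eq_single (⟨A - B, by omega⟩ : Fin n)]
        · rw [if_pos ⟨hAn, by simp only; omega⟩, one_smul]
          have := lower_mem (O := O) n B (A - B) (by omega)
          rwa [show B + (A - B) = A by omega] at this
        · intro d _ hd
          have : ¬ d.val = A - B := fun h => hd (Fin.ext h)
          rw [if_neg (by omega), zero_smul]
        · intro h; exact absurd (Finset.mem_univ _) h
    · obtain rfl : n = B := by omega
      rw [Finset.sum_eq_zero fun d _ => by rw [if_neg (by omega), zero_smul]]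
      by_cases h : n - 1 = A
      · rw [if_pos ⟨h, rfl⟩, ← h]; simp
      · rw [if_neg (by omega)]
        simp only [zero_smul, add_zero, sub_zero]
        have := left_mem (O := O) n (A + 1) n
        rwa [if_pos (by omega), if_neg (by omega), sub_zero, show A + 1 - 1 = A by omega] at this
  · obtain rfl : n = A := by omega
    rw [Finset.sum_eq_zero fun d _ => by rw [if_neg (by omega), zero_smul],
      if_neg (show ¬(n - 1 = n ∧ n = B) by omega)]
    rcases eq_or_ne B 0 with rfl | hB0
    · rw [if_pos ⟨rfl, rfl⟩, if_neg (by omega)]; simp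
    · rcases eq_or_ne B n with rfl | hBn
      · rw [if_neg (by omega), if_pos ⟨rfl, rfl⟩]; simp
      · rw [if_neg (by omega), if_neg (by omega)]
        simp only [zero_smul, add_zero, sub_zero]
        have := left_mem (O := O) n n (B - 1)
        rw [if_neg (by omega), if_pos (by omega), zero_sub, show B - 1 + 1 = B by omega] at this
        exact neg_mem_iff.1 this

lemma sub_mem_R (hn : 1 ≤ n) (Y : Matrix (Fin (n + 1)) (Fin (n + 1)) O) :
    Y - s n (Φ n Y) ∈ R n := by
  let T : Matrix (Fin (n + 1)) (Fin (n + 1)) O →ₗ[O] Matrix (Fin (n + 1)) (Fin (n + 1)) O :=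
    LinearMap.id - (s (O := O) n).comp (Φ n)
  show T Y ∈ R n
  rw [Matrix.matrix_eq_sum_single Y]
  simp only [map_sum]
  refine Submodule.sum_mem _ fun a _ => Submodule.sum_mem _ fun b _ => ?_
  rw [← mul_one (Y a b), ← smul_eq_mul, ← Matrix.smul_single, map_smul]
  exact Submodule.smul_mem _ _ (single_sub_mem n hn a b)

lemma trace_eq (hn : 1 ≤ n) (Y : Matrix (Fin (n + 1)) (Fin (n + 1)) O) :
    Y.trace = (Φ n Y).1.1 ⟨0, hn⟩ + (Φ n Y).2 := by
  show Y.trace = (∑ b : Fin (n + 1),
      if h : b.val + 0 < n then Y ⟨b.val + 0, by omega⟩ b else 0) + Y (Fin.last n) (Fin.last n)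
  rw [Matrix.trace, Fin.sum_univ_castSucc, Fin.sum_univ_castSucc (n := n)]
  rw [dif_neg (by simp), add_zero]
  congr 1
  refine Finset.sum_congr rfl fun b _ => ?_
  rw [dif_pos (by simp)]
  rfl

open LieAlgebra.SpecialLinear in
theorem main (hn : 1 ≤ n) (hu : IsUnit ((n + 1 : ℕ) : O)) [Nontrivial O]
    (x : sl (Fin (n + 1)) O) (hx : (x : Matrix (Fin (n + 1)) (Fin (n + 1)) O) = Nm n) :
    Module.Free O (sl (Fin (n + 1)) O ⧸
        LinearMap.range (LieAlgebra.ad O (sl (Fin (n + 1)) O) x)) ∧
      Module.finrank O (sl (Fin (n + 1)) O ⧸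
        LinearMap.range (LieAlgebra.ad O (sl (Fin (n + 1)) O) x)) = n + 2 := by
  let ψ : sl (Fin (n + 1)) O →ₗ[O] (Fin n → O) × O × O :=
    ((LinearMap.fst O _ _).comp (Φ n)).comp (sl (Fin (n + 1)) O).toSubmodule.subtype
  have hψ : ∀ Y : sl (Fin (n + 1)) O, ψ Y = (Φ n Y.val).1 := fun Y => rfl
  have htr : ∀ Y : sl (Fin (n + 1)) O, (Y.val).trace = 0 := fun Y => Y.2
  have hsurj : Function.Surjective ψ := by
    intro c
    have hmem : (s n (c, -(c.1 ⟨0, hn⟩)) : Matrix (Fin (n + 1)) (Fin (n + 1)) O).trace = 0 := by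
      rw [trace_eq n hn, Φ_s n hn]; simp
    refine ⟨⟨_, hmem⟩, ?_⟩
    rw [hψ, Φ_s n hn]
  have hker : LinearMap.ker ψ = LinearMap.range (LieAlgebra.ad O (sl (Fin (n + 1)) O) x) := by
    ext Y
    rw [LinearMap.mem_ker, hψ, LinearMap.mem_range]
    constructor
    · intro h
      have hΦ : Φ n Y.val = 0 := by
        refine Prod.ext h ?_
        have := trace_eq n hn Y.val
        rw [htr, h] at this
        simpa using this.symm
      have := sub_mem_R n hn Y.val
      rw [hΦ, map_zero, sub_zero] at this
      obtain ⟨Z, hZ⟩ := this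
      obtain ⟨w, hw⟩ := hu
      let Z' := Z - (↑w⁻¹ * Z.trace : O) • (1 : Matrix (Fin (n + 1)) (Fin (n + 1)) O)
      have hZ' : Z'.trace = 0 := by
        simp only [Z', Matrix.trace_sub, Matrix.trace_smul, Matrix.trace_one, Fintype.card_fin,
          smul_eq_mul, ← hw]
        rw [mul_right_comm, Units.inv_mul, one_mul, sub_self]
      refine ⟨⟨Z', hZ'⟩, Subtype.ext ?_⟩
      show ((⁅x, (⟨Z', hZ'⟩ : sl (Fin (n + 1)) O)⁆ : sl (Fin (n + 1)) O) : Matrix _ _ O) = Y.val
      rw [sl_bracket, hx]
      show Nm n * Z' - Z' * Nm n = _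
      rw [← hZ, adN_apply]
      simp [Z', mul_sub, sub_mul]
    · rintro ⟨Z, rfl⟩
      show (Φ n ((⁅x, Z⁆ : sl (Fin (n + 1)) O) : Matrix _ _ O)).1 = 0
      rw [sl_bracket, hx, ← adN_apply, Φ_adN]; rfl
  let e := (Submodule.quotEquivOfEq _ _ hker.symm).trans (ψ.quotKerEquivOfSurjective hsurj)
  refine ⟨Module.Free.of_equiv e.symm, ?_⟩
  rw [e.finrank_eq, Module.finrank_prod, Module.finrank_prod, Module.finrank_pi,
    Module.finrank_self, Fintype.card_fin]

end

/-- Let O be a discrete valuation ring of characteristic zero with residue field of characteristic p,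
let 1 ≤ n with n + 1 < p (type A_n with p above the Coxeter number), and let x ∈ sl_{n+1}(O) be the
standard subregular nilpotent element, the matrix with entries x_{i,i+1} = 1 for i + 1 < n and 0
elsewhere (one Jordan block of size n and one of size 1; in the source this is the sum of the root
vectors of the first n − 1 simple roots, completed there to an sl₂-triple). Then the quotient of
sl_{n+1}(O) by the image of ad_x is a free O-module of rank n + 2. (The source works over a complete
such ring with algebraically closed residue field; completeness and algebraic closedness are not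
used for this statement.) -/
theorem result (O : Type u) [CommRing O] [IsDomain O] [IsDiscreteValuationRing O]
    [CharZero O] (p : ℕ) [Fact p.Prime] [CharP (IsLocalRing.ResidueField O) p]
    (n : ℕ) (hn : 1 ≤ n) (hp : n + 1 < p)
    (x : LieAlgebra.SpecialLinear.sl (Fin (n + 1)) O)
    (hx : ∀ i j : Fin (n + 1), (x : Matrix (Fin (n + 1)) (Fin (n + 1)) O) i j =
      if j.val = i.val + 1 ∧ j.val < n then 1 else 0) :
    Module.Free O (LieAlgebra.SpecialLinear.sl (Fin (n + 1)) O ⧸
        LinearMap.range (LieAlgebra.ad O (LieAlgebra.SpecialLinear.sl (Fin (n + 1)) O) x)) ∧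
      Module.finrank O (LieAlgebra.SpecialLinear.sl (Fin (n + 1)) O ⧸
        LinearMap.range (LieAlgebra.ad O (LieAlgebra.SpecialLinear.sl (Fin (n + 1)) O) x)) = n + 2 := by
  have hu : IsUnit ((n + 1 : ℕ) : O) := by
    by_contra h
    have h' : ((n + 1 : ℕ) : IsLocalRing.ResidueField O) = 0 := by
      rw [← map_natCast (IsLocalRing.residue O), IsLocalRing.residue_eq_zero_iff]
      exact h
    exact Nat.not_dvd_of_pos_of_lt (Nat.succ_pos _) hp
      ((CharP.cast_eq_zero_iff _ p _).1 h')
  exact main n hn hu x (Matrix.ext fun i j => hx i j)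

end Groth.Agent.S16051
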