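import Groth.Statements.S16052
import Mathlib.FieldTheory.KummerExtension
import Mathlib.RingTheory.RootsOfUnity.AlgebraicallyClosed
import Mathlib.RingTheory.Polynomial.Eisenstein.Basic
import Mathlib.RingTheory.Polynomial.GaussLemma
import Mathlib.RingTheory.DiscreteValuationRing.Basic
import Mathlib.Algebra.GCDMonoid.Nat
import Mathlib.Tactic.LinearCombination

set_option autoImplicit false
universe u
open Polynomial
open CAlg

namespace Groth.Agent.S16052

open IsLocalRing Polynomial

/-- Hensel lifting of roots of `X ^ e - w` for `e` prime to the residue characteristic. -/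
theorem exists_root_unit {O : Type u} [CommRing O] [HenselianLocalRing O] [IsAlgClosed (ResidueField O)] (e : ℕ)
    (he : IsUnit (e : O)) (he0 : 0 < e) (w : O) (hw : IsUnit w) : ∃ a : O, a ^ e = w := by
  obtain ⟨a₀, ha₀⟩ := IsAlgClosed.exists_pow_nat_eq (residue O w) he0
  obtain ⟨a₀, rfl⟩ := residue_surjective a₀
  rw [← map_pow] at ha₀
  have h1 : a₀ ^ e - w ∈ maximalIdeal O := Ideal.Quotient.eq.1 ha₀
  have hu : IsUnit a₀ := by
    by_contra h
    exact (show w ∈ maximalIdeal O by simpa using sub_mem (Ideal.pow_mem_of_mem _ h e he0) h1) hw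
  obtain ⟨a, ha, -⟩ := HenselianLocalRing.is_henselian (X ^ e - C w) (monic_X_pow_sub_C w (by omega)) a₀ (by simpa using h1)
    (by simpa [derivative_X_pow] using he.mul (hu.pow (e - 1)))
  exact ⟨a, sub_eq_zero.1 (by simpa [IsRoot] using ha)⟩

theorem exists_primitive {O : Type u} [CommRing O] [HenselianLocalRing O] [IsAlgClosed (ResidueField O)] (e : ℕ)
    (he : IsUnit (e : O)) (he0 : 0 < e) : ∃ ζ : O, IsPrimitiveRoot ζ e := by
  haveI : NeZero (e : ResidueField O) := ⟨by rw [← map_natCast (residue O)]; exact (residue_ne_zero_iff_isUnit _).2 he⟩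
  haveI : NeZero e := ⟨by omega⟩
  obtain ⟨μ, hμ⟩ := (inferInstance : HasEnoughRootsOfUnity (ResidueField O) e).prim
  obtain ⟨μ', hμ'⟩ := residue_surjective μ
  obtain ⟨a, ha, ha'⟩ := HenselianLocalRing.is_henselian (X ^ e - C 1) (monic_X_pow_sub_C 1 (by omega)) μ'
    (by rw [eval_sub, eval_pow, eval_X, eval_C, ← residue_eq_zero_iff, map_sub, map_pow, map_one, hμ', hμ.pow_eq_one, sub_self])
    (by
      have hu : IsUnit μ' := (residue_ne_zero_iff_isUnit _).1 (by rw [hμ']; exact hμ.ne_zero (by omega))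
      simpa [derivative_X_pow] using he.mul (hu.pow (e - 1)))
  exact ⟨a, sub_eq_zero.1 (by simpa [IsRoot] using ha), fun l hl => hμ.dvd_of_pow_eq_one l (by
    rw [← hμ', show residue O μ' = residue O a from (Ideal.Quotient.eq.2 ha').symm, ← map_pow, hl, map_one])⟩

/-- Roots of order `r` and `s` of the same element give a root of order `lcm r s`. -/
theorem exists_pow_lcm_eq {L : Type u} [Field L] {c : L} (hc : c ≠ 0) {r s : ℕ} (hr : 0 < r) (hs : 0 < s)
    {x y : L} (hx : x ^ r = c) (hy : y ^ s = c) : ∃ z : L, z ^ Nat.lcm r s = c := by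
  obtain ⟨r', hr'⟩ := Nat.gcd_dvd_left r s
  obtain ⟨s', hs'⟩ := Nat.gcd_dvd_right r s
  have hg : 0 < Nat.gcd r s := Nat.gcd_pos_of_pos_left _ hr
  have hl1 : Nat.lcm r s = r * s' := by
    rw [Nat.lcm, Nat.mul_div_assoc _ (Nat.gcd_dvd_right r s), Nat.div_eq_of_eq_mul_right hg hs']
  have hl2 : Nat.lcm r s = s * r' := by
    rw [Nat.lcm_comm, Nat.lcm, Nat.gcd_comm, Nat.mul_div_assoc _ (Nat.gcd_dvd_left r s), Nat.div_eq_of_eq_mul_right hg hr']
  have hb := Nat.gcd_eq_gcd_ab r s
  refine ⟨x ^ (Nat.gcdB r s) * y ^ (Nat.gcdA r s), ?_⟩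
  have h1 : (x ^ (Nat.gcdB r s)) ^ Nat.lcm r s = c ^ (Nat.gcdB r s * s') := by
    rw [hl1, ← zpow_natCast, ← zpow_mul, ← hx, ← zpow_natCast x r, ← zpow_mul]
    congr 1; push_cast; ring
  have h2 : (y ^ (Nat.gcdA r s)) ^ Nat.lcm r s = c ^ (Nat.gcdA r s * r') := by
    rw [hl2, ← zpow_natCast, ← zpow_mul, ← hy, ← zpow_natCast y s, ← zpow_mul]
    congr 1; push_cast; ring
  rw [mul_pow, h1, h2, ← zpow_add₀ hc, show Nat.gcdB r s * s' + Nat.gcdA r s * r' = (1 : ℤ) from ?_, zpow_one]
  apply mul_left_cancel₀ (show ((Nat.gcd r s : ℕ) : ℤ) ≠ 0 by exact_mod_cast hg.ne')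
  have e1 : (r : ℤ) = (Nat.gcd r s : ℕ) * (r' : ℤ) := by exact_mod_cast hr'
  have e2 : (s : ℤ) = (Nat.gcd r s : ℕ) * (s' : ℤ) := by exact_mod_cast hs'
  linear_combination -hb - Nat.gcdA r s * e1 - Nat.gcdB r s * e2

/-- Let O be a henselian discrete valuation ring of characteristic zero with algebraically closed
residue field of characteristic p, ϖ a uniformizer and K the fraction field. Let r_1, …, r_m ≥ 1 and
b_1, …, b_m ≥ 1 be integers with gcd(r_i, b_i) = 1 for each i and r_1 + ⋯ + r_m < p, and let v_1, …,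
v_m be units of O. Then the splitting field over K of the polynomial ∏_i (y^{r_i} − v_i ϖ^{b_i}) has
degree lcm(r_1, …, r_m) over K. (In the source O is complete and this polynomial is the y-part of a
deformation y ↦ x² + z² + f(y) of an A_n-singularity with n + 1 = Σ r_i; the proposition goes on to
identify the monodromy element, which is not stated here.) -/
theorem result (O : Type u) [CommRing O] [IsDomain O]
    [IsDiscreteValuationRing O] [HenselianLocalRing O] [CharZero O] [IsAlgClosed (IsLocalRing.ResidueField O)]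
    (p : ℕ) [Fact p.Prime] [CharP (IsLocalRing.ResidueField O) p]
    (ϖ : O) (hϖ : Irreducible ϖ) (m : ℕ) (r b : Fin m → ℕ) (v : Fin m → Oˣ)
    (hr : ∀ i, 1 ≤ r i) (hb : ∀ i, 1 ≤ b i) (hrb : ∀ i, Nat.Coprime (r i) (b i)) (hp : ∑ i, r i < p) :
    Module.finrank (FractionRing O)
        (∏ i, (X ^ (r i) - C (algebraMap O (FractionRing O) ((v i : O) * ϖ ^ (b i))))).SplittingField =
      Finset.univ.lcm r := by
  classical
  let K := FractionRing O
  let F : K[X] := ∏ i, (X ^ (r i) - C (algebraMap O K ((v i : O) * ϖ ^ (b i))))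
  let L := F.SplittingField
  let N := Finset.univ.lcm r
  have hu : ∀ i, IsUnit ((r i : ℕ) : O) := fun i => (residue_ne_zero_iff_isUnit _).1 (by
    rw [map_natCast]
    intro h
    have h1 := Nat.le_of_dvd (hr i) ((CharP.cast_eq_zero_iff _ p (r i)).1 h)
    have h2 := Finset.single_le_sum (fun j _ => Nat.zero_le (r j)) (Finset.mem_univ i)
    omega)
  have hNu : IsUnit ((N : ℕ) : O) := by
    obtain ⟨d, hd⟩ := Finset.lcm_dvd (f := r) (s := Finset.univ) (a := ∏ i, r i) fun i hi => Finset.dvd_prod_of_mem r hi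
    have : IsUnit ((∏ i, r i : ℕ) : O) := by rw [Nat.cast_prod]; exact IsUnit.prod_univ_iff.2 hu
    rw [hd, Nat.cast_mul] at this
    exact isUnit_of_mul_isUnit_left this
  have hN : 0 < N := Nat.pos_of_ne_zero fun h => by
    obtain ⟨i, -, hi⟩ := Finset.lcm_eq_zero_iff.1 h; exact absurd hi (by have := hr i; omega)
  obtain ⟨ζ, hζ⟩ := exists_primitive N hNu hN
  have hζK : IsPrimitiveRoot (algebraMap O K ζ) N := hζ.map_of_injective (IsFractionRing.injective O K)
  have hζL : IsPrimitiveRoot (algebraMap O L ζ) N := by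
    rw [IsScalarTower.algebraMap_apply O K L]; exact hζK.map_of_injective (algebraMap K L).injective
  choose w hw using fun i => exists_root_unit (r i) (hu i) (hr i) (v i : O) (v i).isUnit
  let c : L := algebraMap O L ϖ
  have hinj : Function.Injective (algebraMap O L) := by
    rw [IsScalarTower.algebraMap_eq O K L]; exact (algebraMap K L).injective.comp (IsFractionRing.injective O K)
  have hc : c ≠ 0 := fun h => hϖ.ne_zero (hinj (by rw [map_zero]; exact h))
  have hF0 : F ≠ 0 := Finset.prod_ne_zero_iff.2 fun i _ => (monic_X_pow_sub_C _ (by have := hr i; omega)).ne_zero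
  -- a root of each order
  have hx : ∀ i, ∃ x : L, x ^ r i = c := fun i => by
    obtain ⟨y, hy⟩ := (SplittingField.splits F |>.of_dvd (Polynomial.map_ne_zero hF0)
      (Polynomial.map_dvd _ (Finset.dvd_prod_of_mem _ (Finset.mem_univ i)))).exists_eval_eq_zero (by
        rw [degree_map, degree_X_pow_sub_C (hr i)]; exact_mod_cast (by have := hr i; omega))
    rw [eval_map_algebraMap, map_sub, map_pow, aeval_X, aeval_C, sub_eq_zero, ← IsScalarTower.algebraMap_apply, map_mul,
      map_pow] at hy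
    have hwL : (algebraMap O L (w i)) ^ r i = algebraMap O L (v i : O) := by rw [← map_pow, hw]
    have hw0 : algebraMap O L (w i) ≠ 0 := fun h => by
      rw [h, zero_pow (by have := hr i; omega)] at hwL
      exact (v i).ne_zero (hinj (by rw [map_zero]; exact hwL.symm))
    have hbz := Nat.gcd_eq_gcd_ab (r i) (b i)
    rw [(hrb i).gcd_eq_one] at hbz
    refine ⟨(y / algebraMap O L (w i)) ^ (Nat.gcdB (r i) (b i)) * c ^ (Nat.gcdA (r i) (b i)), ?_⟩
    have h1 : (y / algebraMap O L (w i)) ^ r i = c ^ b i := by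
      rw [div_pow, hy, hwL, mul_div_cancel_left₀ _ ((hwL ▸ pow_ne_zero _ hw0))]
    rw [mul_pow, ← zpow_natCast ((y / _) ^ _), ← zpow_mul, mul_comm (Nat.gcdB _ _), zpow_mul, zpow_natCast, h1,
      ← zpow_natCast c (b i), ← zpow_mul, ← zpow_natCast (c ^ _), ← zpow_mul, ← zpow_add₀ hc,
      show (b i : ℤ) * Nat.gcdB (r i) (b i) + Nat.gcdA (r i) (b i) * (r i) = 1 by push_cast at hbz; linear_combination -hbz,
      zpow_one]
  obtain ⟨x₀, hx₀⟩ : ∃ x : L, x ^ N = c := by
    have h : ∀ s : Finset (Fin m), 0 < s.lcm r ∧ ∃ x : L, x ^ s.lcm r = c := fun s => by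
      induction s using Finset.induction_on with
      | empty => exact ⟨by simp, c, by simp⟩
      | insert a s _ ih =>
        obtain ⟨h0, x, hx'⟩ := ih
        obtain ⟨y, hy⟩ := hx a
        rw [Finset.lcm_insert]
        exact ⟨Nat.pos_of_ne_zero (Nat.lcm_ne_zero (by have := hr a; omega) h0.ne'), exists_pow_lcm_eq hc (hr a) h0 hy hx'⟩
    exact (h Finset.univ).2
  have hH : Irreducible (X ^ N - C (algebraMap O K ϖ)) := by
    have hm : (X ^ N - C ϖ : O[X]).Monic := monic_X_pow_sub_C ϖ (by omega)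
    have hE : (X ^ N - C ϖ : O[X]).IsEisensteinAt (maximalIdeal O) :=
      { leading := by rw [hm.leadingCoeff]; exact fun h => (Ideal.ne_top_iff_one _).1 (maximalIdeal.isMaximal O).ne_top h
        mem := fun {n} hn => by
          rw [natDegree_X_pow_sub_C] at hn
          rw [coeff_sub, coeff_X_pow, if_neg hn.ne, zero_sub, coeff_C, hϖ.maximalIdeal_eq]
          split_ifs
          · exact neg_mem (Ideal.mem_span_singleton_self ϖ)
          · simp
        notMem := by
          rw [coeff_sub, coeff_X_pow, if_neg (show ¬ 0 = N by omega), zero_sub, coeff_C_zero, hϖ.maximalIdeal_eq,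
            Ideal.span_singleton_pow, neg_mem_iff, Ideal.mem_span_singleton]
          rintro ⟨d, hd⟩
          exact hϖ.not_isUnit (IsUnit.of_mul_eq_one d (mul_left_cancel₀ hϖ.ne_zero (by linear_combination -hd))) }
    simpa using (hm.irreducible_iff_irreducible_map_fraction_map (K := K)).1
      (hE.irreducible (maximalIdeal.isMaximal O).isPrime hm.isPrimitive (by rw [natDegree_X_pow_sub_C]; omega))
  have htop : IntermediateField.adjoin K {x₀} = ⊤ := by
    refine IntermediateField.toSubalgebra_injective (top_le_iff.1 ?_)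
    rw [← SplittingField.adjoin_rootSet F, Algebra.adjoin_le_iff]
    intro y hy
    have hy0 := (mem_rootSet.1 hy).2
    simp only [F, map_prod, Finset.prod_eq_zero_iff, map_sub, map_pow, aeval_X, aeval_C, sub_eq_zero] at hy0
    obtain ⟨i, -, hi⟩ := hy0
    rw [← IsScalarTower.algebraMap_apply, map_mul, map_pow, ← hw i, map_pow] at hi
    obtain ⟨d, hd⟩ : r i ∣ N := Finset.dvd_lcm (f := r) (Finset.mem_univ i)
    haveI : NeZero (r i) := ⟨by have := hr i; omega⟩
    have hprim : IsPrimitiveRoot (algebraMap O L ζ ^ d) (r i) := hζL.pow hN (by rw [hd, mul_comm])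
    let z : L := algebraMap O L (w i) * (x₀ ^ d) ^ b i
    have hz : z ^ r i = y ^ r i := by
      rw [hi, mul_pow, ← pow_mul (x₀ ^ d), mul_comm (b i), pow_mul, ← pow_mul x₀, mul_comm d, ← hd, hx₀]
    have hz0 : z ≠ 0 := fun h => by
      rw [h, zero_pow (by have := hr i; omega)] at hz
      rw [hi] at hz
      exact (mul_ne_zero (by rw [← map_pow, hw]; exact fun h' => (v i).ne_zero (hinj (by rw [map_zero]; exact h'))) (pow_ne_zero _ hc)) hz.symm
    obtain ⟨j, -, hj⟩ := hprim.eq_pow_of_pow_eq_one (show (y / z) ^ r i = 1 by rw [div_pow, ← hz, div_self (pow_ne_zero _ hz0)])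
    rw [show y = algebraMap K L (algebraMap O K ((ζ ^ d) ^ j * w i)) * (x₀ ^ d) ^ b i by
      rw [← IsScalarTower.algebraMap_apply, map_mul, map_pow, map_pow, mul_assoc, hj, div_mul_cancel₀ _ hz0]]
    exact mul_mem (IntermediateField.algebraMap_mem _ _)
      (pow_mem (pow_mem (IntermediateField.mem_adjoin_simple_self _ x₀) _) _)
  rw [← IntermediateField.finrank_top' (F := K) (E := L), ← htop,
    IntermediateField.adjoin.finrank (Algebra.IsIntegral.isIntegral x₀),
    ← minpoly.eq_of_irreducible_of_monic hH (by simp [hx₀, c, ← IsScalarTower.algebraMap_apply])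
      (monic_X_pow_sub_C _ (by omega)), natDegree_X_pow_sub_C]

end Groth.Agent.S16052
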