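import Groth.Statements.S16053
import Mathlib.FieldTheory.KummerExtension
import Mathlib.FieldTheory.PolynomialGaloisGroup
import Mathlib.RingTheory.RootsOfUnity.AlgebraicallyClosed
import Mathlib.RingTheory.Polynomial.Eisenstein.Basic
import Mathlib.RingTheory.Polynomial.GaussLemma
import Mathlib.RingTheory.DiscreteValuationRing.Basic
import Mathlib.Tactic.LinearCombination
import Groth.Agent.Hensel.Local
import Groth.Agent.Hensel.Branches

set_option autoImplicit false
universe u
open Polynomial
open CAlg Groth.Agent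

namespace Groth.Agent.S16053

open IsLocalRing

/-- Hensel lifting of roots of `X ^ e - w` for `e` prime to the residue characteristic. -/
theorem exists_pow_eq {S : Type u} [CommRing S] [HenselianLocalRing S] (e : ℕ) (he : IsUnit (e : S)) (he0 : e ≠ 0)
    (w a₀ : S) (hw : IsUnit w) (ha₀ : a₀ ^ e - w ∈ maximalIdeal S) : ∃ a, a ^ e = w ∧ a - a₀ ∈ maximalIdeal S := by
  have hu : IsUnit a₀ := by
    by_contra h
    exact (show w ∈ maximalIdeal S by simpa using sub_mem (Ideal.pow_mem_of_mem _ h e (Nat.pos_of_ne_zero he0)) ha₀) hw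
  obtain ⟨a, ha, ha'⟩ := HenselianLocalRing.is_henselian (X ^ e - C w) (monic_X_pow_sub_C w he0) a₀ (by simpa using ha₀)
    (by simpa [derivative_X_pow] using he.mul (hu.pow (e - 1)))
  exact ⟨a, sub_eq_zero.1 (by simpa [IsRoot] using ha), ha'⟩

theorem exists_pow_eq_uniformizer (O : Type u) [CommRing O] [IsDomain O] [IsDiscreteValuationRing O]
    [HenselianLocalRing O] [IsAlgClosed (ResidueField O)] (f : O[X]) (hmon : f.Monic) (e : ℕ) (hdeg : f.natDegree = e)
    (he : 1 ≤ e) (heu : IsUnit (e : O)) (hf : f.IsEisensteinAt (maximalIdeal O)) (ϖ : O) (hϖ : Irreducible ϖ)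
    (L : Type u) [Field L] [Algebra O L] [Algebra (FractionRing O) L] [IsScalarTower O (FractionRing O) L]
    (z : L) (hz : aeval z f = 0) :
    ∃ x ∈ IntermediateField.adjoin (FractionRing O) {z}, x ^ e = algebraMap O L ϖ := by
  have hinj : Function.Injective (algebraMap O L) := by
    rw [IsScalarTower.algebraMap_eq O (FractionRing O) L]
    exact (algebraMap (FractionRing O) L).injective.comp (IsFractionRing.injective O (FractionRing O))
  have hmem : ∀ i < e, ∃ c, f.coeff i = ϖ * c := fun i hi =>
    Ideal.mem_span_singleton.1 (hϖ.maximalIdeal_eq ▸ hf.mem (by omega))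
  choose c hc using hmem
  have hc0 : IsUnit (c 0 he) := by
    by_contra h
    refine hf.notMem ?_
    rw [hc 0 he, sq]
    exact Ideal.mul_mem_mul (hϖ.maximalIdeal_eq ▸ Ideal.mem_span_singleton_self ϖ) h
  let S := Algebra.adjoin O ({z} : Set L)
  haveI : Module.Finite O S := Module.Finite.iff_fg.2 (IsIntegral.fg_adjoin_singleton ⟨f, hmon, hz⟩)
  haveI : Algebra.IsIntegral O S := Algebra.IsIntegral.of_finite O S
  haveI : IsLocalRing S := Hensel.isLocalRing_of_integral_domain O S
  haveI : HenselianLocalRing S := Hensel.henselianLocalRing_finite O S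
  let t : S := ⟨z, Algebra.self_mem_adjoin_singleton O z⟩
  let w : S := -∑ i : Fin e, algebraMap O S (c i i.2) * t ^ (i : ℕ)
  have hw : t ^ e = algebraMap O S ϖ * w := by
    apply Subtype.ext
    rw [aeval_eq_sum_range, hdeg, Finset.sum_range_succ, Finset.sum_range] at hz
    rw [show f.coeff e = 1 by rw [← hdeg]; exact hmon, one_smul] at hz
    push_cast [w, t]
    rw [mul_neg, Finset.mul_sum]
    rw [Finset.sum_congr rfl fun (i : Fin e) _ => show f.coeff (i : ℕ) • z ^ (i : ℕ) =
      algebraMap O L ϖ * (algebraMap O L (c i i.2) * z ^ (i : ℕ)) by rw [Algebra.smul_def, hc i i.2, map_mul, mul_assoc]] at hz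
    linear_combination hz
  have hcomap : ∀ a ∈ maximalIdeal O, algebraMap O S a ∈ maximalIdeal S := fun a ha => by
    have hm : ((maximalIdeal S).comap (algebraMap O S)).IsMaximal :=
      Ideal.isMaximal_comap_of_isIntegral_of_isMaximal (maximalIdeal S)
    rw [← eq_maximalIdeal hm] at ha
    exact ha
  have htm : t ∈ maximalIdeal S := (maximalIdeal.isMaximal S).isPrime.mem_of_pow_mem e
    (hw ▸ Ideal.mul_mem_right _ _ (hcomap ϖ (hϖ.maximalIdeal_eq ▸ Ideal.mem_span_singleton_self ϖ)))
  have hw0 : w - algebraMap O S (-c 0 he) ∈ maximalIdeal S := by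
    rw [map_neg, sub_neg_eq_add, neg_add_eq_sub, ← neg_mem_iff, neg_sub,
      ← Finset.add_sum_erase _ _ (Finset.mem_univ (⟨0, he⟩ : Fin e)), pow_zero, mul_one, add_sub_cancel_left]
    exact Ideal.sum_mem _ fun i hi => Ideal.mul_mem_left _ _ (Ideal.pow_mem_of_mem _ htm i
      (Nat.pos_of_ne_zero fun h => (Finset.mem_erase.1 hi).1 (Fin.ext h)))
  obtain ⟨a₀, ha₀⟩ := IsAlgClosed.exists_pow_nat_eq (residue O (-c 0 he)) he
  obtain ⟨a₀, rfl⟩ := residue_surjective a₀
  rw [← map_pow] at ha₀
  have h1 : algebraMap O S a₀ ^ e - w ∈ maximalIdeal S := by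
    have h2 := hcomap _ (Ideal.Quotient.eq.1 ha₀)
    rw [map_sub, map_pow] at h2
    rw [← sub_sub_sub_cancel_right _ _ (algebraMap O S (-c 0 he))]
    exact sub_mem h2 hw0
  have hwu : IsUnit w := by
    by_contra h
    exact (hc0.neg.map (algebraMap O S)).map (residue S) |>.ne_zero
      ((residue_eq_zero_iff _).2 (by simpa using sub_mem h hw0))
  obtain ⟨a, ha, -⟩ := exists_pow_eq e (by simpa using heu.map (algebraMap O S)) (by omega) w _ hwu h1
  refine ⟨z / (a : L), div_mem (IntermediateField.mem_adjoin_simple_self _ z) ?_, ?_⟩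
  · exact (Algebra.adjoin_le (S := (IntermediateField.adjoin (FractionRing O) {z}).toSubalgebra.restrictScalars O)
      (Set.singleton_subset_iff.2 (IntermediateField.mem_adjoin_simple_self _ z))) a.2
  · have hwL : (w : L) ≠ 0 := fun h => hwu.ne_zero (Subtype.ext h)
    rw [div_pow, show (a : L) ^ e = (w : L) from congrArg Subtype.val ha,
      show z ^ e = algebraMap O L ϖ * (w : L) from congrArg Subtype.val hw, mul_div_cancel_right₀ _ hwL]

/-- Let O be a henselian discrete valuation ring of characteristic zero with algebraically closed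
residue field of characteristic p and fraction field K, and let f ∈ O[y] be a monic polynomial of
degree e with 1 ≤ e < p which is Eisenstein at the maximal ideal of O. Then the splitting field of f
over K has degree e over K and the Galois group of f over K is cyclic. (In the source O is complete,
e = n + 1 and f is the y-part y^{n+1} + u_n ϖ^{a_n} y^{n−1} + ⋯ + u_1 ϖ of an A_n-degeneration
meeting the discriminant transversally; the corollary's conclusion that monodromy acts through a
Coxeter element is not stated here.) -/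
theorem result (O : Type u) [CommRing O] [IsDomain O]
    [IsDiscreteValuationRing O] [HenselianLocalRing O] [CharZero O] [IsAlgClosed (IsLocalRing.ResidueField O)]
    (p : ℕ) [Fact p.Prime] [CharP (IsLocalRing.ResidueField O) p]
    (f : O[X]) (hmon : f.Monic) (e : ℕ) (hdeg : f.natDegree = e) (he : 1 ≤ e) (hep : e < p)
    (hf : f.IsEisensteinAt (IsLocalRing.maximalIdeal O)) :
    Module.finrank (FractionRing O) (f.map (algebraMap O (FractionRing O))).SplittingField = e ∧
      IsCyclic (f.map (algebraMap O (FractionRing O))).Gal := by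
  classical
  obtain ⟨ϖ, hϖ⟩ := IsDiscreteValuationRing.exists_irreducible O
  let K := FractionRing O
  let fK := f.map (algebraMap O K)
  let L := fK.SplittingField
  have hek : (e : IsLocalRing.ResidueField O) ≠ 0 := fun h => by
    have := Nat.le_of_dvd he ((CharP.cast_eq_zero_iff _ p e).1 h); omega
  have heu : IsUnit (e : O) := (residue_ne_zero_iff_isUnit _).1 (by rwa [map_natCast])
  haveI : NeZero (e : IsLocalRing.ResidueField O) := ⟨hek⟩
  haveI : NeZero e := ⟨by omega⟩
  obtain ⟨μ, hμ⟩ := (inferInstance : HasEnoughRootsOfUnity (IsLocalRing.ResidueField O) e).prim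
  obtain ⟨μ', hμ'⟩ := residue_surjective μ
  obtain ⟨ζ, hζ1, hζμ⟩ := exists_pow_eq e heu (by omega) 1 μ' isUnit_one
    ((residue_eq_zero_iff _).1 (by rw [map_sub, map_pow, map_one, hμ', hμ.pow_eq_one, sub_self]))
  have hζ : IsPrimitiveRoot ζ e := ⟨hζ1, fun l hl => hμ.dvd_of_pow_eq_one l (by
    rw [← hμ', show residue O μ' = residue O ζ from (Ideal.Quotient.eq.2 hζμ).symm, ← map_pow, hl, map_one])⟩
  have hζK : IsPrimitiveRoot (algebraMap O K ζ) e := hζ.map_of_injective (IsFractionRing.injective O K)
  have hζne : (primitiveRoots e K).Nonempty := ⟨_, (mem_primitiveRoots he).2 hζK⟩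
  have hfirr : Irreducible fK := (hmon.irreducible_iff_irreducible_map_fraction_map (K := K)).1
    (hf.irreducible (IsLocalRing.maximalIdeal.isMaximal O).isPrime hmon.isPrimitive (by omega))
  have hH : Irreducible (X ^ e - C (algebraMap O K ϖ)) := by
    have hm : (X ^ e - C ϖ : O[X]).Monic := monic_X_pow_sub_C ϖ (by omega)
    have hE : (X ^ e - C ϖ : O[X]).IsEisensteinAt (maximalIdeal O) :=
      { leading := by rw [hm.leadingCoeff]; exact fun h => (Ideal.ne_top_iff_one _).1 (maximalIdeal.isMaximal O).ne_top h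
        mem := fun {n} hn => by
          rw [natDegree_X_pow_sub_C] at hn
          rw [coeff_sub, coeff_X_pow, if_neg hn.ne, zero_sub, coeff_C, hϖ.maximalIdeal_eq]
          split_ifs
          · exact neg_mem (Ideal.mem_span_singleton_self ϖ)
          · simp
        notMem := by
          rw [coeff_sub, coeff_X_pow, if_neg (show ¬ 0 = e by omega), zero_sub, coeff_C_zero, hϖ.maximalIdeal_eq,
            Ideal.span_singleton_pow, neg_mem_iff, Ideal.mem_span_singleton]
          rintro ⟨d, hd⟩
          exact hϖ.not_isUnit (IsUnit.of_mul_eq_one d (mul_left_cancel₀ hϖ.ne_zero (by linear_combination -hd))) }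
    have := (hm.irreducible_iff_irreducible_map_fraction_map (K := K)).1
      (hE.irreducible (maximalIdeal.isMaximal O).isPrime hm.isPrimitive (by rw [natDegree_X_pow_sub_C]; omega))
    simpa using this
  let y : L := algebraMap O L ϖ
  have hdegx : ∀ x : L, x ^ e = y → Module.finrank K (IntermediateField.adjoin K {x}) = e := fun x hx => by
    have hint : IsIntegral K x := Algebra.IsIntegral.isIntegral x
    have hx' : x ^ e = algebraMap K L (algebraMap O K ϖ) := hx.trans (IsScalarTower.algebraMap_apply O K L ϖ)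
    rw [IntermediateField.adjoin.finrank hint, ← minpoly.eq_of_irreducible_of_monic hH (by simp [hx'])
      (monic_X_pow_sub_C _ (by omega)), natDegree_X_pow_sub_C]
  have hdegz : ∀ z : L, aeval z fK = 0 → Module.finrank K (IntermediateField.adjoin K {z}) = e := fun z hz => by
    rw [IntermediateField.adjoin.finrank (Algebra.IsIntegral.isIntegral z),
      ← minpoly.eq_of_irreducible_of_monic hfirr hz (hmon.map _), hmon.natDegree_map, hdeg]
  have hroot : ∀ z : L, aeval z fK = 0 → ∃ x : L, x ^ e = y ∧ z ∈ IntermediateField.adjoin K {x} := fun z hz => by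
    obtain ⟨x, hx, hxe⟩ := exists_pow_eq_uniformizer O f hmon e hdeg he heu hf ϖ hϖ L z (by
      rwa [aeval_map_algebraMap] at hz)
    refine ⟨x, hxe, ?_⟩
    rw [IntermediateField.eq_of_le_of_finrank_eq (IntermediateField.adjoin_simple_le_iff.2 hx) ((hdegx x hxe).trans (hdegz z hz).symm)]
    exact IntermediateField.mem_adjoin_simple_self _ z
  obtain ⟨z₀, hz₀⟩ : ∃ z : L, aeval z fK = 0 := by
    obtain ⟨z, hz⟩ := (SplittingField.splits fK).exists_eval_eq_zero (by
      rw [degree_map, degree_eq_natDegree (hmon.map _).ne_zero, hmon.natDegree_map, hdeg]; exact_mod_cast (by omega))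
    exact ⟨z, by rwa [eval_map_algebraMap] at hz⟩
  obtain ⟨x₀, hx₀, -⟩ := hroot z₀ hz₀
  have hy : y ≠ 0 := fun h => hϖ.ne_zero (IsFractionRing.injective O K ((algebraMap K L).injective (by
    rw [← IsScalarTower.algebraMap_apply, map_zero, map_zero]; exact h)))
  have htop : IntermediateField.adjoin K {x₀} = ⊤ := by
    refine IntermediateField.toSubalgebra_injective (top_le_iff.1 ?_)
    rw [← SplittingField.adjoin_rootSet fK, Algebra.adjoin_le_iff]
    intro z hz
    obtain ⟨x, hx, hzx⟩ := hroot z (mem_rootSet.1 hz).2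
    refine IntermediateField.adjoin_simple_le_iff.2 ?_ hzx
    obtain ⟨i, -, hi⟩ := (hζK.map_of_injective (algebraMap K L).injective).eq_pow_of_pow_eq_one
      (show (x / x₀) ^ e = 1 by rw [div_pow, hx, hx₀, div_self hy])
    have hne : x₀ ≠ 0 := fun h => hy (by rw [← hx₀, h, zero_pow (by omega)])
    rw [show x = algebraMap K L (algebraMap O K ζ ^ i) * x₀ by rw [map_pow, hi, div_mul_cancel₀ _ hne]]
    exact mul_mem (IntermediateField.algebraMap_mem _ _) (IntermediateField.mem_adjoin_simple_self _ x₀)
  have hfr : Module.finrank K L = e := by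
    have := hdegx x₀ hx₀
    rwa [htop, IntermediateField.finrank_top'] at this
  haveI : IsSplittingField K L (X ^ e - C (algebraMap O K ϖ)) :=
    hfr ▸ isSplittingField_X_pow_sub_C_of_root_adjoin_eq_top (hfr.symm ▸ hζne)
      (by rw [hfr, hx₀]; exact IsScalarTower.algebraMap_apply O K L ϖ) htop
  exact ⟨hfr, isCyclic_of_isSplittingField_X_pow_sub_C hζne hH L⟩

end Groth.Agent.S16053
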