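import Groth.Statements.S16071
import Mathlib

set_option autoImplicit false
universe u
open CartDual

namespace Groth.Agent.S16071

open scoped TensorProduct

/-- Let p be a prime, R a commutative ring of characteristic p and A = R[X]/(X^p) the Hopf algebra of
α_p over Spec R, with X primitive. Then the Cartier dual of α_p is again α_p: there is a bialgebra
isomorphism e from the dual Hopf algebra Hom_R(A, R), with the transposed structure maps, to A,
whose inverse sends X to the linear form dual to X with respect to the basis 1, X, …, X^{p-1} of A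
(so e⁻¹(X) takes the value 1 on X and 0 on the other powers X^i, i < p). (Any commutative base ring
of characteristic p is allowed.) -/
theorem result (p : ℕ) [Fact p.Prime] (R : Type u) [CommRing R] [CharP R p] :
    ∃ e : CartDual.D R (AlphaP.A p R) ≃ₐc[R] AlphaP.A p R,
      ∀ i : ℕ, i < p → (e.symm (AlphaP.x p R)) (AlphaP.x p R ^ i) = if i = 1 then 1 else 0 := by
  classical
  haveI : Nontrivial R := CharP.nontrivial_of_char_ne_one (R := R) (v := p) (Fact.out : p.Prime).ne_one
  let x : AlphaP.A p R := AlphaP.x p R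
  let b := AlphaP.basis p R
  let y : CartDual.D R (AlphaP.A p R) := WithConv.toConv (b.coord ⟨1, (Fact.out : p.Prime).one_lt⟩)
  have hy : ∀ j, y (x ^ j) = if j = 1 then 1 else 0 := by
    intro j
    show b.coord _ (x ^ j) = _
    by_cases hj : j < p
    · rw [show x ^ j = b ⟨j, hj⟩ from (AlphaP.basis_apply p R ⟨j, hj⟩).symm, Module.Basis.coord_apply, b.repr_self,
        Finsupp.single_apply]
      simp [Fin.ext_iff]
    · rw [show x ^ j = 0 from AlphaP.x_pow_of_le p R (not_lt.1 hj), map_zero,
        if_neg (by have := (Fact.out : p.Prime).one_lt; omega)]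
  have hx0 : ∀ j, Coalgebra.counit (R := R) (x ^ j) = if j = 0 then (1 : R) else 0 := by
    intro j
    rw [← Bialgebra.counitAlgHom_apply, map_pow, Bialgebra.counitAlgHom_apply, AlphaP.counit_x, zero_pow_eq]
  have hpow : ∀ m j, (y ^ m) (x ^ j) = if j = m then (m.factorial : R) else 0 := by
    intro m
    induction m with
    | zero =>
      intro j
      rw [pow_zero, CartDual.coe_apply, LinearMap.convOne_apply, hx0]
      simp
    | succ m ih =>
      intro j
      rw [pow_succ', LinearMap.convMul_apply, Bialgebra.comul_pow, AlphaP.comul_x, add_pow, map_sum, map_sum]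
      have e : ∀ l, LinearMap.mul' R R (TensorProduct.map y.ofConv (y ^ m).ofConv
          ((x ⊗ₜ[R] (1 : (AlphaP.A p R))) ^ l * ((1 : (AlphaP.A p R)) ⊗ₜ[R] x) ^ (j - l) * (j.choose l : (AlphaP.A p R) ⊗[R] (AlphaP.A p R)))) =
          (j.choose l : R) * (y (x ^ l) * (y ^ m) (x ^ (j - l))) := by
        intro l
        rw [Algebra.TensorProduct.tmul_pow, Algebra.TensorProduct.tmul_pow, one_pow, one_pow,
          Algebra.TensorProduct.tmul_mul_tmul, one_mul, mul_one, ← nsmul_eq_mul', map_nsmul, map_nsmul,
          TensorProduct.map_tmul, LinearMap.mul'_apply, nsmul_eq_mul]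
      refine (Finset.sum_congr rfl fun l _ => e l).trans ?_
      simp only [hy, ih]
      rcases j with _ | j
      · simp
      · rw [Finset.sum_eq_single 1]
        · by_cases h : j = m
          · subst h; simp [Nat.factorial_succ]
          · simp [h]
        · intro l _ hl; simp [hl]
        · intro h; simp at h
  have hunit : ∀ j, j < p → IsUnit (j.factorial : R) := fun j hj =>
    (CharP.isUnit_natCast_iff (Fact.out : p.Prime)).2 (fun h => by
      have := ((Fact.out : p.Prime).dvd_factorial).1 h; omega)
  have hyp : y ^ p = 0 := by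
    refine WithConv.ext (b.ext fun i => ?_)
    rw [AlphaP.basis_apply]
    have := hpow p i.1
    rw [if_neg i.2.ne] at this
    exact this
  let f : (AlphaP.A p R) →ₐ[R] CartDual.D R (AlphaP.A p R) := AlphaP.lift p R y hyp
  have hfx : f (AlphaP.x p R) = y := AlphaP.lift_x _ _
  have hfb : ∀ (i j : Fin p), f (b i) (b j) = if j = i then (i.1.factorial : R) else 0 := by
    intro i j
    rw [AlphaP.basis_apply, AlphaP.basis_apply, map_pow f, hfx]
    refine (hpow i.1 j.1).trans ?_
    simp [Fin.ext_iff]
  have hfc : ∀ (c : Fin p → R) (j : Fin p), f (∑ i, c i • b i) (b j) = c j * (j.1.factorial : R) := by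
    intro c j
    rw [map_sum, CartDual.coe_apply, WithConv.ofConv_sum, LinearMap.sum_apply]
    refine (Finset.sum_eq_single j ?_ (by simp)).trans ?_
    · intro i _ hi
      rw [map_smul, WithConv.ofConv_smul, LinearMap.smul_apply, ← CartDual.coe_apply, hfb, if_neg hi.symm, smul_zero]
    · rw [map_smul, WithConv.ofConv_smul, LinearMap.smul_apply, ← CartDual.coe_apply, hfb, if_pos rfl, smul_eq_mul]
  have hd : ∀ a c : (AlphaP.A p R), y (a * c) = Coalgebra.counit (R := R) a * y c + Coalgebra.counit (R := R) c * y a := by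
    have : (LinearMap.mul R (AlphaP.A p R)).compr₂ y.ofConv =
        (LinearMap.mul R R).compl₁₂ (Coalgebra.counit (R := R) (A := AlphaP.A p R)) y.ofConv +
          ((LinearMap.mul R R).compl₁₂ (Coalgebra.counit (R := R) (A := AlphaP.A p R)) y.ofConv).flip := by
      refine b.ext fun i => b.ext fun j => ?_
      simp only [LinearMap.compr₂_apply, LinearMap.mul_apply', LinearMap.add_apply, LinearMap.compl₁₂_apply,
        LinearMap.flip_apply, b, AlphaP.basis_apply]
      rw [← pow_add, ← CartDual.coe_apply, ← CartDual.coe_apply, ← CartDual.coe_apply, hy, hy, hy, hx0, hx0]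
      split_ifs <;> simp <;> omega
    exact fun a c => LinearMap.congr_fun (LinearMap.congr_fun this a) c
  have hprim : Coalgebra.comul (R := R) y = y ⊗ₜ[R] (1 : CartDual.D R (AlphaP.A p R)) + (1 : CartDual.D R (AlphaP.A p R)) ⊗ₜ[R] y := by
    apply (CartDual.ev₂ R (AlphaP.A p R)).injective
    refine TensorProduct.ext' fun a c => ?_
    show CartDual.ev₂ R (AlphaP.A p R) (CartDual.comul R (AlphaP.A p R) y) (a ⊗ₜ[R] c) = _
    rw [CartDual.ev₂_comul_tmul, hd, map_add, LinearMap.add_apply, CartDual.ev₂_tmul, CartDual.ev₂_tmul]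
    simp [LinearMap.convOne_apply]
    ring
  have h1 : (Bialgebra.counitAlgHom R (CartDual.D R (AlphaP.A p R))).comp f = Bialgebra.counitAlgHom R (AlphaP.A p R) := by
    apply AlphaP.algHom_ext
    rw [AlgHom.comp_apply]
    show Coalgebra.counit (R := R) (f x) = Coalgebra.counit (R := R) x
    rw [hfx, AlphaP.counit_x]
    show y 1 = 0
    simpa using hy 0
  have h2 : (Algebra.TensorProduct.map f f).comp (Bialgebra.comulAlgHom R (AlphaP.A p R)) = (Bialgebra.comulAlgHom R (CartDual.D R (AlphaP.A p R))).comp f := by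
    apply AlphaP.algHom_ext
    show Algebra.TensorProduct.map f f (Coalgebra.comul (R := R) x) = Coalgebra.comul (R := R) (f x)
    rw [hfx, hprim, AlphaP.comul_x, map_add, Algebra.TensorProduct.map_tmul, Algebra.TensorProduct.map_tmul,
      map_one, hfx]
  let F : (AlphaP.A p R) →ₐc[R] CartDual.D R (AlphaP.A p R) := BialgHom.ofAlgHom f h1 h2
  have hbij : Function.Bijective F := by
    refine ⟨(injective_iff_map_eq_zero f).2 fun a ha => ?_, fun φ => ?_⟩
    · rw [← b.sum_repr a] at ha ⊢
      refine Finset.sum_eq_zero fun j _ => ?_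
      have h := hfc (fun i => b.repr a i) j
      rw [ha] at h
      rw [(hunit j.1 j.2).mul_left_eq_zero.1 h.symm, zero_smul]
    · refine ⟨∑ i : Fin p, (φ (b i) * ↑(hunit i.1 i.2).unit⁻¹) • b i, WithConv.ext (b.ext fun j => ?_)⟩
      show f (∑ i : Fin p, (φ (b i) * ↑(hunit i.1 i.2).unit⁻¹) • b i) (b j) = φ (b j)
      rw [hfc, mul_assoc, IsUnit.val_inv_mul, mul_one]
  refine ⟨(BialgEquiv.ofBijective F hbij).symm, fun i _ => ?_⟩
  show ((BialgEquiv.ofBijective F hbij).symm.symm x) (x ^ i) = _
  show (f x) (x ^ i) = _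
  rw [hfx, hy]

end Groth.Agent.S16071
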