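import Groth.Statements.S16072
import Mathlib

set_option autoImplicit false
universe u
open Hopf

namespace Groth.Agent.S16072

/-- Let p be a prime and R a commutative ring of characteristic p (p = 0 in R, R nonzero). Then the
constant group scheme ℤ/p and the group scheme μ_p of p-th roots of unity over Spec R are not
isomorphic: there is no R-bialgebra isomorphism between the Hopf algebra Maps(ℤ/p, R) of functions
on the cyclic group of order p and the group algebra R[ℤ/p]. (Any nonzero commutative base ring of
characteristic p is allowed. The published statement allows any ring R with p·R = 0; over the zero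
ring both Hopf algebras are the zero ring and hence isomorphic, so R is assumed nonzero here.) -/
theorem result (p : ℕ) [Fact p.Prime] (R : Type u) [CommRing R]
    [CharP R p] :
    IsEmpty (ConstGrp.F R (Multiplicative (ZMod p)) ≃ₐc[R] MonoidAlgebra R (Multiplicative (ZMod p))) := by
  classical
  refine ⟨fun e => ?_⟩
  haveI : Nontrivial R := CharP.nontrivial_of_char_ne_one (Nat.Prime.ne_one (Fact.out : p.Prime))
  obtain ⟨m, hm⟩ := Ideal.exists_maximal R
  letI : Field (R ⧸ m) := Ideal.Quotient.field m
  haveI : CharP (R ⧸ m) p := (CharP.charP_iff_prime_eq_zero Fact.out).mpr (by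
    rw [← map_natCast (Ideal.Quotient.mk m), CharP.cast_eq_zero, map_zero])
  let χ : Multiplicative (ZMod p) → MonoidAlgebra R (Multiplicative (ZMod p)) →ₐ[R] R ⧸ m := fun a =>
    ((Ideal.Quotient.mkₐ R m).comp (ConstGrp.ev R a)).comp (e.symm.toAlgEquiv.toAlgHom)
  have key : ∀ a g, χ a (MonoidAlgebra.single g 1) = 1 := by
    intro a g
    have hp : (MonoidAlgebra.single g (1 : R)) ^ p = 1 := by
      rw [MonoidAlgebra.single_pow, one_pow]
      congr 1
      refine Multiplicative.toAdd.injective ?_
      simp
    have h := congrArg (χ a) hp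
    rw [map_pow, map_one] at h
    haveI : ExpChar (R ⧸ m) p := ExpChar.prime Fact.out
    exact frobenius_inj (R ⧸ m) p (by rw [frobenius_def, frobenius_def, h, one_pow])
  have heq : ∀ a b, χ a = χ b := fun a b => AlgHom.toLinearMap_injective
    ((MonoidAlgebra.basis _ R).ext fun g => by rw [MonoidAlgebra.basis_apply]; exact (key a g).trans (key b g).symm)
  let a₁ : Multiplicative (ZMod p) := Multiplicative.ofAdd 1
  have h := congrArg (fun φ : MonoidAlgebra R (Multiplicative (ZMod p)) →ₐ[R] R ⧸ m =>
    φ (e (ConstGrp.e R a₁))) (heq a₁ 1)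
  have hne : (1 : Multiplicative (ZMod p)) ≠ a₁ := fun h0 => by
    have := congrArg Multiplicative.toAdd h0
    simp [a₁] at this
  have hsa : e.symm.toAlgEquiv.toAlgHom (e (ConstGrp.e R a₁)) = ConstGrp.e R a₁ := e.symm_apply_apply _
  simp only [χ, AlgHom.comp_apply, hsa, ConstGrp.ev_apply, ConstGrp.e_apply_self,
    ConstGrp.e_apply_of_ne hne, map_one, map_zero] at h
  exact one_ne_zero h

end Groth.Agent.S16072
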