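import Groth.Statements.S16073
import Mathlib

set_option autoImplicit false
universe u
open Hopf

namespace Groth.Agent.S16073

/-- Let p be a prime and R a commutative ring of characteristic p (p = 0 in R, R nonzero). Then the
constant group scheme ℤ/p and α_p over Spec R are not isomorphic: there is no R-bialgebra
isomorphism between the Hopf algebra Maps(ℤ/p, R) of functions on the cyclic group of order p and
the Hopf algebra R[X]/(X^p) of α_p (X primitive). (Any nonzero commutative base ring of
characteristic p is allowed. The published statement allows any ring R with p·R = 0; over the zero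
ring both Hopf algebras are the zero ring and hence isomorphic, so R is assumed nonzero here.) -/
theorem result (p : ℕ) [Fact p.Prime] (R : Type u) [CommRing R] [CharP R p] :
    IsEmpty (ConstGrp.F R (Multiplicative (ZMod p)) ≃ₐc[R] AlphaP.A p R) := by
  classical
  refine ⟨fun e => ?_⟩
  haveI : Nontrivial R := CharP.nontrivial_of_char_ne_one (Nat.Prime.ne_one (Fact.out : p.Prime))
  obtain ⟨m, hm⟩ := Ideal.exists_maximal R
  letI : Field (R ⧸ m) := Ideal.Quotient.field m
  let χ : Multiplicative (ZMod p) → AlphaP.A p R →ₐ[R] R ⧸ m := fun a =>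
    ((Ideal.Quotient.mkₐ R m).comp (ConstGrp.ev R a)).comp (e.symm.toAlgEquiv.toAlgHom)
  have key : ∀ a, χ a (AlphaP.x p R) = 0 := fun a =>
    eq_zero_of_pow_eq_zero (n := p) (by rw [← map_pow, AlphaP.x_pow, map_zero])
  have heq : ∀ a b, χ a = χ b := fun a b => AlphaP.algHom_ext (by rw [key, key])
  let a₁ : Multiplicative (ZMod p) := Multiplicative.ofAdd 1
  have h := congrArg (fun φ : AlphaP.A p R →ₐ[R] R ⧸ m => φ (e (ConstGrp.e R a₁))) (heq a₁ 1)
  have hne : (1 : Multiplicative (ZMod p)) ≠ a₁ := fun h0 => by
    have := congrArg Multiplicative.toAdd h0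
    simp [a₁] at this
  have hsa : e.symm.toAlgEquiv.toAlgHom (e (ConstGrp.e R a₁)) = ConstGrp.e R a₁ := e.symm_apply_apply _
  simp only [χ, AlgHom.comp_apply, hsa, ConstGrp.ev_apply, ConstGrp.e_apply_self,
    ConstGrp.e_apply_of_ne hne, map_one, map_zero] at h
  exact one_ne_zero h

end Groth.Agent.S16073
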