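import Groth.Statements.S16074
import Mathlib

set_option autoImplicit false
universe u
open Hopf

namespace Groth.Agent.S16074

open scoped TensorProduct

/-- Let p be a prime and R a commutative ring of characteristic p (p = 0 in R, R nonzero). Then μ_p and
α_p over Spec R are not isomorphic: there is no R-bialgebra isomorphism between the group algebra
R[ℤ/p] of the cyclic group of order p (group elements group-like) and the Hopf algebra R[X]/(X^p) of
α_p (X primitive), although the underlying R-algebras R[ℤ/p] = R[Y]/(Y^p) and R[X]/(X^p) are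
isomorphic. (Any nonzero commutative base ring of characteristic p is allowed. The published
statement allows any ring R with p·R = 0; over the zero ring both Hopf algebras are the zero ring
and hence isomorphic, so R is assumed nonzero here.) -/
theorem result (p : ℕ) [Fact p.Prime] (R : Type u) [CommRing R] [CharP R p] :
    IsEmpty (MonoidAlgebra R (Multiplicative (ZMod p)) ≃ₐc[R] AlphaP.A p R) := by
  classical
  refine ⟨fun e => ?_⟩
  haveI : Nontrivial R := CharP.nontrivial_of_char_ne_one (Nat.Prime.ne_one (Fact.out : p.Prime))
  have hp : 1 < p := (Fact.out : p.Prime).one_lt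
  set y := e.symm (AlphaP.x p R) with hy
  have hprim : Coalgebra.comul (R := R) y = y ⊗ₜ[R] 1 + 1 ⊗ₜ[R] y := by
    have h1 : Coalgebra.comul (R := R) (AlphaP.x p R) =
        AlphaP.x p R ⊗ₜ[R] (1 : AlphaP.A p R) + (1 : AlphaP.A p R) ⊗ₜ[R] AlphaP.x p R :=
      AlphaP.comulAlg_x p R
    rw [hy, ← CoalgHomClass.map_comp_comul_apply e.symm, h1, map_add, TensorProduct.map_tmul,
      TensorProduct.map_tmul]
    have he1 : (e.symm : AlphaP.A p R →ₗ[R] MonoidAlgebra R (Multiplicative (ZMod p))) 1 = 1 :=
      map_one e.symm
    erw [he1]
    rfl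
  let φ : Multiplicative (ZMod p) → MonoidAlgebra R (Multiplicative (ZMod p)) →ₗ[R] R := fun g =>
    { toFun := fun a => a.coeff g
      map_add' := fun _ _ => rfl
      map_smul' := fun _ _ => rfl }
  have hφ : ∀ g a, φ g a = a.coeff g := fun _ _ => rfl
  let π : Multiplicative (ZMod p) → MonoidAlgebra R (Multiplicative (ZMod p)) ⊗[R]
      MonoidAlgebra R (Multiplicative (ZMod p)) →ₗ[R] R := fun g =>
    (TensorProduct.lid R R).toLinearMap ∘ₗ TensorProduct.map (φ g) (φ g)
  have hcom : ∀ g a, π g (Coalgebra.comul (R := R) a) = φ g a := by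
    intro g a
    induction a using MonoidAlgebra.induction_linear with
    | zero => simp
    | add x z hx hz => rw [map_add, map_add, hx, hz, map_add]
    | single h r =>
      simp only [MonoidAlgebra.comul_single, CommSemiring.comul_apply, TensorProduct.map_tmul,
        MonoidAlgebra.lsingle_apply]
      by_cases hg : h = g
      · subst hg; simp [π, hφ]
      · simp [π, hφ, Finsupp.single_eq_of_ne (Ne.symm hg)]
  have hzero : y = 0 := by
    ext g
    have h := congrArg (π g) hprim
    rw [hcom] at h
    rcases eq_or_ne g 1 with rfl | hg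
    · simp [π, hφ, MonoidAlgebra.one_def] at h
      simpa using h
    · simpa [π, hφ, MonoidAlgebra.one_def, Finsupp.single_eq_of_ne hg] using h
  have hx0 : AlphaP.x p R = 0 := by
    rw [← e.apply_symm_apply (AlphaP.x p R), ← hy, hzero, map_zero]
  have := (AlphaP.basis p R).ne_zero ⟨1, hp⟩
  rw [AlphaP.basis_apply, pow_one] at this
  exact this hx0

end Groth.Agent.S16074
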