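import Groth.Statements.S16075
import Mathlib

set_option autoImplicit false
universe u
open Hopf

namespace Groth.Agent.S16075

open scoped TensorProduct

/-- Let p be a prime, T a commutative ring of characteristic p (p = 0 in T, T nonzero) and A =
T[X]/(X^p) the Hopf algebra of α_p over Spec T, with X primitive. Then the endomorphisms of the
T-group α_{p,T} are exactly the scalings: every T-bialgebra endomorphism f of A has f(X) = λ·X for a
unique λ ∈ T, and for every λ ∈ T there is a T-bialgebra endomorphism f of A with f(X) = λ·X. So the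
endomorphisms of α_{p,T} correspond bijectively to the elements of T. (Only this bijection is
stated; that it turns addition and composition of endomorphisms into addition and multiplication in
T, and its naturality in T, are not stated here. The zero ring, allowed as T in the published
statement, is excluded by the characteristic hypothesis here.) -/
theorem result (p : ℕ) [Fact p.Prime] (T : Type u) [CommRing T] [CharP T p] :
    (∀ f : AlphaP.A p T →ₐc[T] AlphaP.A p T, ∃! c : T, f (AlphaP.x p T) = c • AlphaP.x p T) ∧
      (∀ c : T, ∃ f : AlphaP.A p T →ₐc[T] AlphaP.A p T, f (AlphaP.x p T) = c • AlphaP.x p T) := by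
  classical
  have hp := (Fact.out : p.Prime)
  haveI : Nontrivial T := CharP.nontrivial_of_char_ne_one hp.ne_one
  let b := AlphaP.basis p T
  have hb : ∀ i, b i = AlphaP.x p T ^ (i : ℕ) := AlphaP.basis_apply p T
  let i₀ : Fin p := ⟨0, hp.pos⟩
  let i₁ : Fin p := ⟨1, hp.one_lt⟩
  have hx1 : b i₁ = AlphaP.x p T := by rw [hb]; exact pow_one _
  have hΔ : ∀ n, Coalgebra.comul (R := T) (AlphaP.x p T ^ n) =
      ∑ j ∈ Finset.range (n + 1), (n.choose j : T) • ((AlphaP.x p T ^ j) ⊗ₜ[T] (AlphaP.x p T ^ (n - j))) := by
    intro n
    show Bialgebra.comulAlgHom T (AlphaP.A p T) (AlphaP.x p T ^ n) = _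
    rw [AlphaP.comulAlgHom_eq, map_pow, AlphaP.comulAlg_x, add_pow]
    refine Finset.sum_congr rfl fun j _ => ?_
    rw [Algebra.TensorProduct.tmul_pow, Algebra.TensorProduct.tmul_pow, Algebra.TensorProduct.tmul_mul_tmul,
      one_pow, one_pow, mul_one, one_mul, Algebra.smul_def, map_natCast, mul_comm]
  refine ⟨fun f => ?_, fun c => ?_⟩
  · set y := f (AlphaP.x p T) with hy
    have hprim : Coalgebra.comul (R := T) y = y ⊗ₜ[T] 1 + 1 ⊗ₜ[T] y := by
      have h1 : Coalgebra.comul (R := T) (AlphaP.x p T) =
          AlphaP.x p T ⊗ₜ[T] (1 : AlphaP.A p T) + (1 : AlphaP.A p T) ⊗ₜ[T] AlphaP.x p T :=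
        AlphaP.comulAlg_x p T
      rw [hy, ← CoalgHomClass.map_comp_comul_apply f, h1, map_add, TensorProduct.map_tmul,
        TensorProduct.map_tmul]
      have he1 : (f : AlphaP.A p T →ₗ[T] AlphaP.A p T) 1 = 1 := map_one f
      rw [he1]
      rfl
    have hcounit : Coalgebra.counit (R := T) y = 0 := by
      rw [hy, CoalgHomClass.counit_comp_apply]
      exact AlphaP.counitAlg_x p T
    let bb := b.tensorProduct b
    have hcoef : ∀ (n : Fin p) (j : Fin p), 0 < (j : ℕ) → (j : ℕ) < n → b.repr y n = 0 := by
      intro n j hj hjn
      let j' : Fin p := ⟨n - j, by have := n.2; omega⟩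
      have h := congrArg (fun t => bb.repr t (j, j')) hprim
      have hy' : y = ∑ i, b.repr y i • AlphaP.x p T ^ (i : ℕ) := by
        conv_lhs => rw [← b.sum_repr y]
        exact Finset.sum_congr rfl fun i _ => by rw [hb]
      have hone : b.repr (1 : AlphaP.A p T) = Finsupp.single i₀ 1 := by
        rw [← b.repr_self i₀, hb]; simp [i₀]
      have hpow : ∀ a : ℕ, ∀ ha : a < p, b.repr (AlphaP.x p T ^ a) = Finsupp.single ⟨a, ha⟩ 1 := by
        intro a ha
        rw [← b.repr_self ⟨a, ha⟩, hb]
      have hr : bb.repr (y ⊗ₜ[T] 1 + 1 ⊗ₜ[T] y) (j, j') = 0 := by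
        have e1 : i₀ ≠ j := fun h0 => by have := congrArg Fin.val h0; simp [i₀] at this; omega
        have e2 : i₀ ≠ j' := fun h0 => by have := congrArg Fin.val h0; simp [i₀, j'] at this; omega
        simp [bb, Module.Basis.tensorProduct_repr_tmul_apply, hone, Finsupp.single_eq_of_ne (Ne.symm e1),
          Finsupp.single_eq_of_ne (Ne.symm e2)]
      simp only [hr] at h
      rw [hy', map_sum, map_sum, Finsupp.finset_sum_apply] at h
      rw [Finset.sum_eq_single n] at h
      · rw [map_smul, map_smul, hΔ, map_sum, Finsupp.smul_apply, Finsupp.finset_sum_apply,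
          Finset.sum_eq_single (j : ℕ)] at h
        · rw [map_smul, Finsupp.smul_apply, Module.Basis.tensorProduct_repr_tmul_apply,
            hpow (j : ℕ) j.2, hpow _ j'.2, Finsupp.single_eq_same, smul_eq_mul, smul_eq_mul, smul_eq_mul] at h
          simp only [j', Fin.eta, Finsupp.single_eq_same, one_mul, mul_one] at h
          have hu : IsUnit (((n : ℕ).choose j : ℕ) : T) := by
            refine (CharP.isUnit_natCast_iff hp).mpr fun hd => ?_
            have := n.2
            have hfac : p ∣ (n : ℕ).factorial :=
              Nat.choose_mul_factorial_mul_factorial hjn.le ▸ (hd.mul_right _).mul_right _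
            have hpn := hp.dvd_factorial.mp hfac
            omega
          exact hu.mul_left_eq_zero.mp h
        · intro a ha haj
          rw [Finset.mem_range] at ha
          have hap : a < p := by have := n.2; omega
          rw [map_smul, Finsupp.smul_apply, Module.Basis.tensorProduct_repr_tmul_apply,
            hpow a hap, Finsupp.single_eq_of_ne (by intro h0; exact haj (congrArg Fin.val h0).symm)]
          simp
        · intro hj'; simp at hj'; omega
      · intro i _ hi
        rw [map_smul, map_smul, hΔ, map_sum, Finsupp.smul_apply, Finsupp.finset_sum_apply]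
        refine smul_eq_zero_of_right _ (Finset.sum_eq_zero fun a ha => ?_)
        rw [Finset.mem_range] at ha
        have hap : a < p := by have := i.2; omega
        have hap' : (i : ℕ) - a < p := by have := i.2; omega
        rw [map_smul, Finsupp.smul_apply, Module.Basis.tensorProduct_repr_tmul_apply,
          hpow a hap, hpow _ hap']
        by_cases h1 : (⟨a, hap⟩ : Fin p) = j
        · have h2 : (⟨(i : ℕ) - a, hap'⟩ : Fin p) ≠ j' := by
            intro h2
            apply hi
            have e1 := congrArg Fin.val h1
            have e2 := congrArg Fin.val h2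
            simp [j'] at e1 e2
            ext; omega
          simp [Finsupp.single_eq_of_ne (Ne.symm h2)]
        · simp [Finsupp.single_eq_of_ne (Ne.symm h1)]
      · intro h; exact absurd (Finset.mem_univ n) h
    have hy1 : y = b.repr y i₁ • AlphaP.x p T := by
      conv_lhs => rw [← b.sum_repr y]
      rw [Finset.sum_eq_single i₁]
      · rw [hx1]
      · intro n _ hn
        rcases Nat.eq_zero_or_pos (n : ℕ) with h0 | hpos
        · have : b.repr y i₀ = 0 := by
            have h := hcounit
            rw [← b.sum_repr y, map_sum, Finset.sum_eq_single i₀] at h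
            · rw [map_smul, hb] at h
              simpa [i₀] using h
            · intro i _ hi
              rw [map_smul, hb]
              have hi0 : (i : ℕ) ≠ 0 := fun h => hi (Fin.ext h)
              show b.repr y i • Bialgebra.counitAlgHom T (AlphaP.A p T) (AlphaP.x p T ^ (i : ℕ)) = 0
              rw [AlphaP.counitAlgHom_eq, map_pow, AlphaP.counitAlg_x, zero_pow hi0, smul_zero]
            · intro h; exact absurd (Finset.mem_univ _) h
          rw [show n = i₀ from Fin.ext h0, this, zero_smul]
        · have h2 : 2 ≤ (n : ℕ) := by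
            rcases Nat.lt_or_ge (n : ℕ) 2 with hlt | hge
            · exact absurd (Fin.ext (show (n : ℕ) = 1 by omega)) hn
            · exact hge
          rw [hcoef n i₁ (by simp [i₁]) (by simp [i₁]; omega), zero_smul]
      · intro h; exact absurd (Finset.mem_univ _) h
    refine ⟨b.repr y i₁, hy1, fun c hc => ?_⟩
    show c = b.repr y i₁
    have hyc : y = c • b i₁ := by rw [hx1]; exact hc
    rw [hyc]
    simp
  · let g := AlphaP.lift p T (c • AlphaP.x p T) (by rw [smul_pow, AlphaP.x_pow, smul_zero])
    have hg : g (AlphaP.x p T) = c • AlphaP.x p T := AlphaP.lift_x _ _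
    refine ⟨BialgHom.ofAlgHom g (AlphaP.algHom_ext ?_) (AlphaP.algHom_ext ?_), hg⟩
    · simp [AlphaP.counitAlgHom_eq, hg]
    · simp [AlphaP.comulAlgHom_eq, hg, TensorProduct.tmul_smul, TensorProduct.smul_tmul',
        smul_add]

end Groth.Agent.S16075
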