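import Groth.Statements.S16076
import Groth.Agent.HopfSmDim.Versch

set_option autoImplicit false
universe u
open scoped TensorProduct
open Versch

namespace Groth.Agent.S16076

/-- Let p be a prime, R a commutative ring of characteristic p and A = R[X]/(X^p) the Hopf algebra of
α_p over Spec R, with X primitive. Let v : A → A ⊗_R R^(Frob) be the comorphism of the Verschiebung
V : α_p^(p) → α_p (the ring map whose transpose under the canonical pairing is the relative
Frobenius of the dual Hopf algebra Hom_R(A, R)). Then V is the trivial homomorphism: v is the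
composite of the counit ε : A → R, the identity of underlying rings R → R^(Frob) and the inclusion
of the twisted factor R^(Frob) → A ⊗_R R^(Frob), i.e. v(a) = 1 ⊗ ε(a). (Any commutative base ring of
characteristic p is allowed.) -/
theorem result (p : ℕ) [Fact p.Prime] (R : Type u) [CommRing R] [CharP R p]
    (v : AlphaP.A p R →+* FrobAlg.BaseChange p R (AlphaP.A p R))
    (hv : Versch.IsVerschiebung p R (AlphaP.A p R) v) :
    v = ((Algebra.TensorProduct.includeRight (R := R) (A := AlphaP.A p R) (B := FrobAlg.Twist p R)).toRingHom.comp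
          (FrobAlg.toTwist p R).toRingHom).comp (Bialgebra.counitAlgHom R (AlphaP.A p R)).toRingHom := by
  classical
  obtain ⟨n, e, x, hex⟩ := Groth.Agent.VerschComp.exists_dual_basis R (AlphaP.A p R)
  refine RingHom.ext fun a => ?_
  rw [Groth.Agent.VerschComp.verschiebung_apply p e x hex v hv]
  refine Eq.trans ?_ (Groth.Agent.VerschComp.eq_sum_evTw p e x hex _).symm
  refine Finset.sum_congr rfl fun i _ => ?_
  refine congrArg (fun s => e i ⊗ₜ[R] s) ?_
  show _ = Versch.evTw p R (AlphaP.A p R) (x i) ((1 : AlphaP.A p R) ⊗ₜ[R] FrobAlg.toTwist p R (Coalgebra.counit (R := R) a))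
  rw [Versch.evTw_tmul', ← map_mul]
  refine congrArg _ ?_
  let X := x i
  let y : CartDual.D R (AlphaP.A p R) := X - algebraMap R _ (X 1)
  have hy1 : y 1 = 0 := by
    show (X - algebraMap R _ (X 1)).ofConv 1 = 0
    rw [WithConv.ofConv_sub, LinearMap.sub_apply, LinearMap.convAlgebraMap_apply, Bialgebra.counit_one]
    simp [CartDual.coe_apply]
  have hv0 : ∀ m j : ℕ, j < m → (y ^ m) (AlphaP.x p R ^ j) = 0 := by
    intro m
    induction m with
    | zero => intro j hj; omega
    | succ m ih =>
      intro j hj
      rw [pow_succ', LinearMap.convMul_apply, Bialgebra.comul_pow, AlphaP.comul_x, add_pow, map_sum, map_sum]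
      refine Finset.sum_eq_zero fun l hl => ?_
      rw [Algebra.TensorProduct.tmul_pow, Algebra.TensorProduct.tmul_pow, one_pow, one_pow,
        Algebra.TensorProduct.tmul_mul_tmul, one_mul, mul_one,
        ← nsmul_eq_mul' ((AlphaP.x p R ^ l) ⊗ₜ[R] (AlphaP.x p R ^ (j - l))), map_nsmul, map_nsmul,
        TensorProduct.map_tmul, LinearMap.mul'_apply]
      have hlj := Finset.mem_range.1 hl
      rcases Nat.eq_zero_or_pos l with rfl | hl0
      · rw [pow_zero]
        exact (congrArg (_ • ·) ((congrArg (· * _) hy1).trans (zero_mul _))).trans (smul_zero _)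
      · exact (congrArg (_ • ·) ((congrArg (_ * ·) (ih (j - l) (by omega))).trans (mul_zero _))).trans (smul_zero _)
  have hyp : ∀ b, (y ^ p) b = 0 := by
    intro b
    obtain ⟨f, rfl⟩ := AlphaP.mk_surjective p R b
    induction f using Polynomial.induction_on' with
    | add f g hf hg => rw [map_add]; exact (map_add (y ^ p).ofConv _ _).trans (by rw [← CartDual.coe_apply, ← CartDual.coe_apply, hf, hg, add_zero])
    | monomial j r =>
      rw [← Polynomial.C_mul_X_pow_eq_monomial, ← Polynomial.smul_eq_C_mul, map_smul, map_pow, AlphaP.mk_X]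
      refine (map_smul (y ^ p).ofConv r _).trans ?_
      rcases lt_or_ge j p with hj | hj
      · exact (congrArg (r • ·) (hv0 p j hj)).trans (smul_zero r)
      · rw [AlphaP.x_pow_of_le p R hj, map_zero, smul_zero]
  have hX : X ^ p = algebraMap R _ ((X 1) ^ p) := by
    have h1 : y ^ p = 0 := WithConv.ext (LinearMap.ext hyp)
    rw [show X = y + algebraMap R _ (X 1) by simp [y], add_pow_char, h1, zero_add, map_pow]
    simp [y]
  show (X ^ p) a = _
  rw [hX]
  show (algebraMap R (CartDual.D R (AlphaP.A p R)) ((X 1) ^ p)).ofConv a = _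
  rw [LinearMap.convAlgebraMap_apply, Algebra.algebraMap_self_apply]
  exact smul_eq_mul _ _

end Groth.Agent.S16076
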