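import Groth.Statements.S16078
import Mathlib

set_option autoImplicit false
universe u
open scoped TensorProduct
open Hopf

namespace Groth.Agent.S16078

theorem flat_factor {S A : Type u} [CommRing S] [CommRing A] [Algebra S A] [Module.Flat S A] (e : A)
    (he : IsIdempotentElem e) : Module.Flat S (A ⧸ Ideal.span ({1 - e} : Set A)) := by
  let I := Ideal.span ({1 - e} : Set A)
  let s : (A ⧸ I) →ₗ[S] A := Submodule.liftQ (I.restrictScalars S) (LinearMap.mulLeft S e) (fun x hx => by
    obtain ⟨c, rfl⟩ := Ideal.mem_span_singleton'.1 hx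
    rw [LinearMap.mem_ker, LinearMap.mulLeft_apply, ← mul_assoc, mul_comm e c, mul_assoc, mul_sub, mul_one,
      he.eq, sub_self, mul_zero]) ∘ₗ
    (Submodule.Quotient.restrictScalarsEquiv S I).symm.toLinearMap
  refine Module.Flat.of_retract s (Ideal.Quotient.mkₐ S I).toLinearMap (LinearMap.ext fun y => ?_)
  obtain ⟨x, rfl⟩ := Ideal.Quotient.mk_surjective y
  show Ideal.Quotient.mk I (e * x) = Ideal.Quotient.mk I x
  refine Ideal.Quotient.eq.2 (Ideal.mem_span_singleton'.2 ⟨-x, ?_⟩)
  ring

theorem flat_quotient {A Q : Type u} [CommRing A] (I : Ideal A) [CommRing Q] [Algebra A Q] [Algebra (A ⧸ I) Q]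
    [IsScalarTower A (A ⧸ I) Q] [Module.Flat A Q] : Module.Flat (A ⧸ I) Q := by
  let i : Q →ₗ[A ⧸ I] TensorProduct A (A ⧸ I) Q :=
    { toFun := fun q => TensorProduct.tmul A (1 : A ⧸ I) q
      map_add' := TensorProduct.tmul_add _
      map_smul' := fun c q => by
        obtain ⟨a, rfl⟩ := Ideal.Quotient.mk_surjective c
        rw [RingHom.id_apply, ← Ideal.Quotient.algebraMap_eq, algebraMap_smul, algebraMap_smul, TensorProduct.tmul_smul] }
  let r : TensorProduct A (A ⧸ I) Q →ₗ[A ⧸ I] Q :=
    TensorProduct.AlgebraTensorModule.lift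
      ((LinearMap.lsmul (A ⧸ I) (Q →ₗ[A] Q)).flip LinearMap.id)
  exact Module.Flat.of_retract i r (LinearMap.ext fun q => by simp [i, r])

theorem quot_local {A : Type u} [CommRing A] (J : Ideal A) (e : A) [IsLocalRing (A ⧸ (J ⊔ Ideal.span ({1 - e} : Set A)))] :
    IsLocalRing ((A ⧸ J) ⧸ Ideal.span ({1 - Ideal.Quotient.mk J e} : Set (A ⧸ J))) := by
  have h : Ideal.span ({1 - Ideal.Quotient.mk J e} : Set (A ⧸ J)) =
      (Ideal.span ({1 - e} : Set A)).map (Ideal.Quotient.mk J) := by
    rw [Ideal.map_span, Set.image_singleton, map_sub, map_one]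
  rw [h]
  exact (DoubleQuot.quotQuotEquivQuotSup J (Ideal.span ({1 - e} : Set A))).symm.isLocalRing

theorem absorb {R E : Type u} [CommRing R] [Nontrivial R] [CommRing E] [Algebra R E] (ε : E →ₐ[R] R) (f g : E)
    (hf : IsIdempotentElem f) (hf1 : ε f = 1) (hg : IsIdempotentElem g) (hg1 : ε g = 1)
    (hl : IsLocalRing (E ⧸ Ideal.span ({1 - g} : Set E))) : f * g = g := by
  haveI := hl
  set L := Ideal.span ({1 - g} : Set E) with hL
  let ε' : E ⧸ L →ₐ[R] R := Ideal.Quotient.liftₐ L ε fun x hx => by
    obtain ⟨c, rfl⟩ := Ideal.mem_span_singleton'.1 hx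
    rw [map_mul, map_sub, map_one, hg1, sub_self, mul_zero]
  have hu : IsUnit (Ideal.Quotient.mk L f) := by
    by_contra hn
    have := ((IsLocalRing.isUnit_or_isUnit_of_add_one (a := Ideal.Quotient.mk L f)
      (b := 1 - Ideal.Quotient.mk L f) (by ring)).resolve_left hn).map ε'
    rw [map_sub, map_one, show ε' (Ideal.Quotient.mk L f) = 1 from hf1, sub_self] at this
    exact not_isUnit_zero this
  have h := (IsIdempotentElem.iff_eq_one_of_isUnit hu).1 (hf.map _)
  rw [← map_one (Ideal.Quotient.mk L), Ideal.Quotient.eq, hL, Ideal.mem_span_singleton'] at h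
  obtain ⟨c, hc⟩ := h
  linear_combination (-g) * hc + (-c) * hg.eq


/-- Let R be a henselian Noetherian local ring, A and A'' commutative Hopf algebras over R which are
finite and flat as R-modules, and A'' → A an R-algebra homomorphism compatible with
comultiplications and counits making A faithfully flat over A'' (a faithfully flat homomorphism π :
G → G'' of finite flat R-groups); let J ⊆ A be the ideal generated by the image of the augmentation
ideal of A'' (G' = Spec A/J = ker π, so that 1 → G' → G → G'' → 1 is exact). Let e ∈ A and e'' ∈ A''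
be idempotents with ε(e) = 1, ε(e'') = 1 and A/(1 − e), A''/(1 − e'') local rings (the unit
components G⁰ and G''⁰), and let e' ∈ A be an element whose image in A/J is an idempotent, with
ε(e') = 1 and A/(J + (1 − e')) local (so G'⁰ = Spec (A/J)/(1 − e') is the unit component of G').
Suppose g : A''/(1 − e'') → A/(1 − e) is the ring homomorphism induced by A'' → A (the restriction
π⁰ : G⁰ → G''⁰ of π, which exists because G⁰ is connected). Then g is faithfully flat, and e ≡ e'
modulo J, i.e. J + (1 − e) = J + (1 − e') and the kernel of π⁰, which is cut out in G⁰ by J, is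
exactly G'⁰: the sequence 1 → G'⁰ → G⁰ → G''⁰ → 1 is exact. (The published statement also asserts
exactness of the maximal étale quotient G ↦ G^ét, not stated here.) -/
theorem result (R : Type u) [CommRing R] [HenselianLocalRing R]
    [IsNoetherianRing R] (A A'' : Type u) [CommRing A] [HopfAlgebra R A] [Module.Finite R A] [Module.Flat R A]
    [CommRing A''] [HopfAlgebra R A''] [Module.Finite R A''] [Module.Flat R A'']
    [Algebra A'' A] [IsScalarTower R A'' A] [Module.FaithfullyFlat A'' A]
    (hΔ : (Bialgebra.comulAlgHom R A).comp (IsScalarTower.toAlgHom R A'' A) =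
      (Algebra.TensorProduct.map (IsScalarTower.toAlgHom R A'' A) (IsScalarTower.toAlgHom R A'' A)).comp
        (Bialgebra.comulAlgHom R A''))
    (hε : (Bialgebra.counitAlgHom R A).comp (IsScalarTower.toAlgHom R A'' A) = Bialgebra.counitAlgHom R A'')
    (e : A) (he : IsIdempotentElem e) (heε : Bialgebra.counitAlgHom R A e = 1)
    [IsLocalRing (A ⧸ Ideal.span ({1 - e} : Set A))]
    (e'' : A'') (he'' : IsIdempotentElem e'') (he''ε : Bialgebra.counitAlgHom R A'' e'' = 1)
    [IsLocalRing (A'' ⧸ Ideal.span ({1 - e''} : Set A''))]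
    (e' : A) (he' : IsIdempotentElem (Ideal.Quotient.mk ((RingHom.ker (Bialgebra.counitAlgHom R A'')).map (algebraMap A'' A)) e'))
    (he'ε : Bialgebra.counitAlgHom R A e' = 1)
    [IsLocalRing (A ⧸ (((RingHom.ker (Bialgebra.counitAlgHom R A'')).map (algebraMap A'' A)) ⊔ Ideal.span ({1 - e'} : Set A)))]
    (g : (A'' ⧸ Ideal.span ({1 - e''} : Set A'')) →+* (A ⧸ Ideal.span ({1 - e} : Set A)))
    (hg : g.comp (Ideal.Quotient.mk (Ideal.span ({1 - e''} : Set A''))) =
      (Ideal.Quotient.mk (Ideal.span ({1 - e} : Set A))).comp (algebraMap A'' A)) :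
    g.FaithfullyFlat ∧
      Ideal.Quotient.mk ((RingHom.ker (Bialgebra.counitAlgHom R A'')).map (algebraMap A'' A)) e = Ideal.Quotient.mk ((RingHom.ker (Bialgebra.counitAlgHom R A'')).map (algebraMap A'' A)) e' := by
  revert g hg
  set I := Ideal.span ({1 - e} : Set A) with hI
  set I'' := Ideal.span ({1 - e''} : Set A'') with hI''
  set K := RingHom.ker (Bialgebra.counitAlgHom R A'') with hK
  set J := K.map (algebraMap A'' A) with hJ
  have hJle : J ≤ RingHom.ker (Bialgebra.counitAlgHom R A) := Ideal.map_le_iff_le_comap.2 fun x hx => by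
    rw [Ideal.mem_comap, RingHom.mem_ker]
    exact (DFunLike.congr_fun hε x).trans hx
  intro g hg
  refine ⟨?_, ?_⟩
  · haveI : Module.Finite A'' A := Module.Finite.of_restrictScalars_finite R A'' A
    haveI : Module.Finite A'' (A ⧸ I) := Module.Finite.of_surjective
      (Ideal.Quotient.mkₐ A'' I).toLinearMap Ideal.Quotient.mk_surjective
    haveI : Module.Flat A'' (A ⧸ I) := flat_factor e he
    letI := g.toAlgebra
    haveI : IsScalarTower A'' (A'' ⧸ I'') (A ⧸ I) := IsScalarTower.of_algebraMap_eq fun x => by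
      show algebraMap A'' (A ⧸ I) x = g (Ideal.Quotient.mk I'' x)
      rw [show g (Ideal.Quotient.mk I'' x) = Ideal.Quotient.mk I (algebraMap A'' A x) from DFunLike.congr_fun hg x]
      rfl
    haveI : Module.Finite (A'' ⧸ I'') (A ⧸ I) := Module.Finite.of_restrictScalars_finite A'' _ _
    haveI : Module.Flat (A'' ⧸ I'') (A ⧸ I) := flat_quotient I''
    haveI : IsLocalHom (algebraMap (A'' ⧸ I'') (A ⧸ I)) := ⟨fun a ha => by
      by_contra hu
      haveI := Ideal.isMaximal_comap_of_isIntegral_of_isMaximal (R := A'' ⧸ I'') (IsLocalRing.maximalIdeal (A ⧸ I))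
      have hmem : a ∈ (IsLocalRing.maximalIdeal (A ⧸ I)).comap (algebraMap (A'' ⧸ I'') (A ⧸ I)) := by
        rw [IsLocalRing.eq_maximalIdeal this]
        exact (IsLocalRing.mem_maximalIdeal _).2 hu
      exact (IsLocalRing.mem_maximalIdeal _).1 hmem ha⟩
    exact Module.FaithfullyFlat.of_flat_of_isLocalHom
  · let ε0 : A ⧸ J →ₐ[R] R := Ideal.Quotient.liftₐ J (Bialgebra.counitAlgHom R A) fun x hx => hJle hx
    have h1 : Ideal.Quotient.mk J e * Ideal.Quotient.mk J e' = Ideal.Quotient.mk J e' :=
      absorb ε0 (Ideal.Quotient.mk J e) (Ideal.Quotient.mk J e') (he.map _) heε he' he'ε (quot_local J e')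
    have h2 : Ideal.Quotient.mk J e' * Ideal.Quotient.mk J e = Ideal.Quotient.mk J e := by
      refine absorb ε0 (Ideal.Quotient.mk J e') (Ideal.Quotient.mk J e) he' he'ε (he.map _) heε ?_
      have hne : Ideal.span ({1 - Ideal.Quotient.mk J e} : Set (A ⧸ J)) ≠ ⊤ := fun htop => by
        obtain ⟨c, hc⟩ := Ideal.mem_span_singleton'.1 (htop.symm ▸ Submodule.mem_top (x := (1 : A ⧸ J)))
        have := congrArg ε0 hc
        rw [map_mul, map_sub, map_one, show ε0 (Ideal.Quotient.mk J e) = 1 from heε, sub_self, mul_zero] at this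
        exact zero_ne_one this
      haveI : Nontrivial ((A ⧸ J) ⧸ Ideal.span ({1 - Ideal.Quotient.mk J e} : Set (A ⧸ J))) :=
        Ideal.Quotient.nontrivial_iff.2 hne
      let f : A ⧸ I →+* (A ⧸ J) ⧸ Ideal.span ({1 - Ideal.Quotient.mk J e} : Set (A ⧸ J)) :=
        Ideal.Quotient.lift I ((Ideal.Quotient.mk _).comp (Ideal.Quotient.mk J)) fun x hx => by
          obtain ⟨c, rfl⟩ := Ideal.mem_span_singleton'.1 hx
          rw [RingHom.comp_apply, Ideal.Quotient.eq_zero_iff_mem, map_mul, map_sub, map_one]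
          exact Ideal.mul_mem_left _ _ (Ideal.mem_span_singleton_self _)
      exact IsLocalRing.of_surjective' f fun y => by
        obtain ⟨y, rfl⟩ := Ideal.Quotient.mk_surjective y
        obtain ⟨y, rfl⟩ := Ideal.Quotient.mk_surjective y
        exact ⟨Ideal.Quotient.mk I y, rfl⟩
    rw [← h2, mul_comm, h1]

end Groth.Agent.S16078
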