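import Groth.Statements.S16079
import Mathlib

set_option autoImplicit false
universe u
open scoped TensorProduct
open Hopf

namespace Groth.Agent.S16079

theorem local_one {R E : Type u} [CommRing R] [Nontrivial R] [CommRing E] [Algebra R E] [IsLocalRing E]
    (ε : E →ₐ[R] R) (f : E) (hf : IsIdempotentElem f) (hf1 : ε f = 1) : f = 1 := by
  refine (IsIdempotentElem.iff_eq_one_of_isUnit ?_).1 hf
  by_contra hn
  have := ((IsLocalRing.isUnit_or_isUnit_of_add_one (a := f) (b := 1 - f) (by ring)).resolve_left hn).map ε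
  rw [map_sub, map_one, hf1, sub_self] at this
  exact not_isUnit_zero this


/-- Let R be a henselian Noetherian local ring, A and B commutative and cocommutative Hopf algebras over
R which are finitely generated and projective as R-modules (finite flat commutative R-groups G =
Spec A and H = Spec B), and ψ : B → A an R-bialgebra homomorphism (a homomorphism φ : G → H). Let
e_A ∈ A be an idempotent with ε(e_A) = 1 such that (1 − e_A) is a Hopf ideal and A⁰ = A/(1 − e_A) is
local, R-projective and cocommutative (the unit component G⁰), and let e'_A be an idempotent of the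
dual Hopf algebra Hom_R(A⁰, R) with ε(e'_A) = 1 and local quotient by (1 − e'_A) (the unit component
of the Cartier dual (G⁰)^D); similarly e_B, B⁰ = B/(1 − e_B) and e'_B for H. Call a linear form x on
A⁰ invariant when (id ⊗ multiplication by e'_A)(Δx) = x ⊗ e'_A, i.e. x is invariant under
translation by the unit component of (G⁰)^D and so lies in the Hopf algebra of its étale quotient;
the elements of A⁰ annihilated by all invariant x form the ideal of G_μ ⊆ G⁰ ⊆ G, the largest
connected multiplicative closed subgroup of G; likewise for B and H_μ. Then the filtration G_μ ⊆ G⁰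
⊆ G is respected by φ at the G_μ step: φ maps G_μ into H_μ, i.e. for every b ∈ B whose image in B⁰
is annihilated by all invariant linear forms on B⁰ (b in the ideal of H_μ), the image of ψ(b) in A⁰
is annihilated by all invariant linear forms on A⁰ (ψ(b) in the ideal of G_μ). (That φ maps G⁰ into
H⁰ is the universal property of the unit component and is not restated.) -/
theorem result (R : Type u) [CommRing R]
    [HenselianLocalRing R] [IsNoetherianRing R] (A B : Type u) [CommRing A] [HopfAlgebra R A] [Coalgebra.IsCocomm R A]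
    [Module.Finite R A] [Module.Projective R A] [CommRing B] [HopfAlgebra R B] [Coalgebra.IsCocomm R B]
    [Module.Finite R B] [Module.Projective R B] (ψ : B →ₐc[R] A)
    (eA : A) (heA : IsIdempotentElem eA) (heAε : Bialgebra.counitAlgHom R A eA = 1)
    [(Ideal.span ({1 - eA} : Set A)).IsHopfIdeal R] [IsLocalRing (A ⧸ Ideal.span ({1 - eA} : Set A))] [Module.Projective R (A ⧸ Ideal.span ({1 - eA} : Set A))] [Coalgebra.IsCocomm R (A ⧸ Ideal.span ({1 - eA} : Set A))]
    (fA : CartDual.D R (A ⧸ Ideal.span ({1 - eA} : Set A))) (hfA : IsIdempotentElem fA)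
    (hfAε : Bialgebra.counitAlgHom R (CartDual.D R (A ⧸ Ideal.span ({1 - eA} : Set A))) fA = 1)
    [IsLocalRing (CartDual.D R (A ⧸ Ideal.span ({1 - eA} : Set A)) ⧸ Ideal.span ({1 - fA} : Set (CartDual.D R (A ⧸ Ideal.span ({1 - eA} : Set A)))))]
    (eB : B) (heB : IsIdempotentElem eB) (heBε : Bialgebra.counitAlgHom R B eB = 1)
    [(Ideal.span ({1 - eB} : Set B)).IsHopfIdeal R] [IsLocalRing (B ⧸ Ideal.span ({1 - eB} : Set B))] [Module.Projective R (B ⧸ Ideal.span ({1 - eB} : Set B))] [Coalgebra.IsCocomm R (B ⧸ Ideal.span ({1 - eB} : Set B))]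
    (fB : CartDual.D R (B ⧸ Ideal.span ({1 - eB} : Set B))) (hfB : IsIdempotentElem fB)
    (hfBε : Bialgebra.counitAlgHom R (CartDual.D R (B ⧸ Ideal.span ({1 - eB} : Set B))) fB = 1)
    [IsLocalRing (CartDual.D R (B ⧸ Ideal.span ({1 - eB} : Set B)) ⧸ Ideal.span ({1 - fB} : Set (CartDual.D R (B ⧸ Ideal.span ({1 - eB} : Set B)))))]
    (b : B) (hb : ∀ y : CartDual.D R (B ⧸ Ideal.span ({1 - eB} : Set B)), LinearMap.lTensor (CartDual.D R (B ⧸ Ideal.span ({1 - eB} : Set B))) (LinearMap.mulLeft R fB) (Coalgebra.comul (R := R) y) = y ⊗ₜ[R] fB → y (Ideal.Quotient.mk (Ideal.span ({1 - eB} : Set B)) b) = 0)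
    (x : CartDual.D R (A ⧸ Ideal.span ({1 - eA} : Set A))) (hx : LinearMap.lTensor (CartDual.D R (A ⧸ Ideal.span ({1 - eA} : Set A))) (LinearMap.mulLeft R fA) (Coalgebra.comul (R := R) x) = x ⊗ₜ[R] fA) :
    x (Ideal.Quotient.mk (Ideal.span ({1 - eA} : Set A)) (ψ b)) = 0 := by
  have hle : (Ideal.span ({1 - eA} : Set A)) ≤ RingHom.ker (Bialgebra.counitAlgHom R A) := by
    refine Ideal.span_le.2 (Set.singleton_subset_iff.2 ?_)
    rw [SetLike.mem_coe, RingHom.mem_ker, map_sub, map_one, heAε, sub_self]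
  let εA : A ⧸ (Ideal.span ({1 - eA} : Set A)) →ₐ[R] R := Ideal.Quotient.liftₐ (Ideal.span ({1 - eA} : Set A)) (Bialgebra.counitAlgHom R A) fun x hx => hle hx
  have hψe : Ideal.Quotient.mk (Ideal.span ({1 - eA} : Set A)) (ψ eB) = 1 :=
    local_one εA _ ((heB.map ψ).map _) ((CoalgHomClass.counit_comp_apply ψ eB).trans heBε)
  have hIB0 : ∀ z ∈ (Ideal.span ({1 - eB} : Set B)), ((Ideal.Quotient.mkₐ R (Ideal.span ({1 - eA} : Set A))).comp (ψ : B →ₐ[R] A)) z = 0 := by
    intro z hz
    obtain ⟨c, rfl⟩ := Ideal.mem_span_singleton'.1 hz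
    rw [map_mul, map_sub, map_one, show (Ideal.Quotient.mkₐ R (Ideal.span ({1 - eA} : Set A))).comp (ψ : B →ₐ[R] A) eB = 1 from hψe, sub_self,
      mul_zero]
  let φ : B ⧸ (Ideal.span ({1 - eB} : Set B)) →ₐ[R] A ⧸ (Ideal.span ({1 - eA} : Set A)) := Ideal.Quotient.liftₐ (Ideal.span ({1 - eB} : Set B)) ((Ideal.Quotient.mkₐ R (Ideal.span ({1 - eA} : Set A))).comp (ψ : B →ₐ[R] A)) hIB0
  have hcm : ∀ z : B ⊗[R] B,
      Algebra.TensorProduct.map φ φ (Algebra.TensorProduct.map (Ideal.Quotient.mkₐ R (Ideal.span ({1 - eB} : Set B))) (Ideal.Quotient.mkₐ R (Ideal.span ({1 - eB} : Set B))) z) =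
        Algebra.TensorProduct.map (Ideal.Quotient.mkₐ R (Ideal.span ({1 - eA} : Set A))) (Ideal.Quotient.mkₐ R (Ideal.span ({1 - eA} : Set A)))
          (TensorProduct.map (ψ : B →ₗ[R] A) (ψ : B →ₗ[R] A) z) := by
    intro z
    induction z using TensorProduct.induction_on with
    | zero => simp
    | add u v hu hv => simp only [map_add, hu, hv]
    | tmul u v => rfl
  let ψ0 : B ⧸ (Ideal.span ({1 - eB} : Set B)) →ₐc[R] A ⧸ (Ideal.span ({1 - eA} : Set A)) := BialgHom.ofAlgHom φ
    (AlgHom.ext fun y => by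
      obtain ⟨y, rfl⟩ := Ideal.Quotient.mk_surjective y
      exact CoalgHomClass.counit_comp_apply ψ y)
    (AlgHom.ext fun y => by
      obtain ⟨y, rfl⟩ := Ideal.Quotient.mk_surjective y
      show Algebra.TensorProduct.map φ φ (Algebra.TensorProduct.map (Ideal.Quotient.mkₐ R (Ideal.span ({1 - eB} : Set B)))
        (Ideal.Quotient.mkₐ R (Ideal.span ({1 - eB} : Set B))) (Coalgebra.comul (R := R) y)) =
        Algebra.TensorProduct.map (Ideal.Quotient.mkₐ R (Ideal.span ({1 - eA} : Set A))) (Ideal.Quotient.mkₐ R (Ideal.span ({1 - eA} : Set A))) (Coalgebra.comul (R := R) (ψ y))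
      rw [← CoalgHomClass.map_comp_comul_apply ψ y]
      exact hcm _)
  let t := CartDual.transpose R ψ0
  show x (ψ0 (Ideal.Quotient.mk (Ideal.span ({1 - eB} : Set B)) b)) = 0
  rw [← CartDual.transpose_apply]
  refine hb (t x) ?_
  let εB : CartDual.D R (B ⧸ (Ideal.span ({1 - eB} : Set B))) →ₐ[R] R := Bialgebra.counitAlgHom R _
  have hleB : Ideal.span ({1 - fB} : Set (CartDual.D R (B ⧸ (Ideal.span ({1 - eB} : Set B))))) ≤ RingHom.ker εB := by
    refine Ideal.span_le.2 (Set.singleton_subset_iff.2 ?_)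
    rw [SetLike.mem_coe, RingHom.mem_ker, map_sub, map_one, hfBε, sub_self]
  have h1 : Ideal.Quotient.mk (Ideal.span ({1 - fB} : Set (CartDual.D R (B ⧸ (Ideal.span ({1 - eB} : Set B)))))) (t fA) = 1 :=
    local_one (E := CartDual.D R (B ⧸ (Ideal.span ({1 - eB} : Set B))) ⧸ Ideal.span ({1 - fB} : Set (CartDual.D R (B ⧸ (Ideal.span ({1 - eB} : Set B))))))
      (Ideal.Quotient.liftₐ _ εB fun z hz => hleB hz) (Ideal.Quotient.mk _ (t fA)) ((hfA.map t).map _)
      ((CoalgHomClass.counit_comp_apply t fA).trans hfAε)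
  have h2 : fB * t fA = fB := by
    rw [← map_one (Ideal.Quotient.mk (Ideal.span ({1 - fB} : Set (CartDual.D R (B ⧸ (Ideal.span ({1 - eB} : Set B))))))), Ideal.Quotient.eq,
      Ideal.mem_span_singleton'] at h1
    obtain ⟨c, hc⟩ := h1
    linear_combination (-fB) * hc + (-c) * hfB.eq
  have key : ∀ z : CartDual.D R (A ⧸ (Ideal.span ({1 - eA} : Set A))) ⊗[R] CartDual.D R (A ⧸ (Ideal.span ({1 - eA} : Set A))),
      LinearMap.lTensor (CartDual.D R (B ⧸ (Ideal.span ({1 - eB} : Set B)))) (LinearMap.mulLeft R fB)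
        (TensorProduct.map (t : CartDual.D R (A ⧸ (Ideal.span ({1 - eA} : Set A))) →ₗ[R] CartDual.D R (B ⧸ (Ideal.span ({1 - eB} : Set B))))
          (t : CartDual.D R (A ⧸ (Ideal.span ({1 - eA} : Set A))) →ₗ[R] CartDual.D R (B ⧸ (Ideal.span ({1 - eB} : Set B)))) z) =
      LinearMap.lTensor (CartDual.D R (B ⧸ (Ideal.span ({1 - eB} : Set B)))) (LinearMap.mulLeft R fB)
        (TensorProduct.map (t : CartDual.D R (A ⧸ (Ideal.span ({1 - eA} : Set A))) →ₗ[R] CartDual.D R (B ⧸ (Ideal.span ({1 - eB} : Set B))))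
          (t : CartDual.D R (A ⧸ (Ideal.span ({1 - eA} : Set A))) →ₗ[R] CartDual.D R (B ⧸ (Ideal.span ({1 - eB} : Set B))))
          (LinearMap.lTensor (CartDual.D R (A ⧸ (Ideal.span ({1 - eA} : Set A)))) (LinearMap.mulLeft R fA) z)) := by
    intro z
    induction z using TensorProduct.induction_on with
    | zero => simp
    | add u v hu hv => simp only [map_add, hu, hv]
    | tmul u v =>
      simp only [LinearMap.lTensor_tmul, TensorProduct.map_tmul, LinearMap.mulLeft_apply]
      congr 1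
      show fB * t v = fB * t (fA * v)
      rw [map_mul, ← mul_assoc, h2]
  rw [← CoalgHomClass.map_comp_comul_apply t x, key, hx, TensorProduct.map_tmul, LinearMap.lTensor_tmul,
    LinearMap.mulLeft_apply]
  congr 1

end Groth.Agent.S16079
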