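import Groth.Statements.S16080
import Groth.Agent.RefStalk.Open
import Groth.Agent.LocNoethTop.ClosedPoint
-- import your own Groth.Agent.* helpers here

set_option autoImplicit false
universe u
open CategoryTheory CategoryTheory.Limits AlgebraicGeometry TopologicalSpace
open SDiv

set_option backward.isDefEq.respectTransparency false

namespace Groth.Agent.S16080

/-- Let X be an integral locally Noetherian scheme, and suppose F is an O_X-module that is coherent.
Then these three conditions on F are mutually equivalent: (1) F has the reflexive property, i.e. the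
canonical map F ⟶ F^** into the reflexive hull is an isomorphism; (2) for every point x the stalk
F_x is a reflexive O_{X,x}-module; (3) for every closed point x the stalk F_x is a reflexive
O_{X,x}-module. -/
theorem result (X : Scheme.{u}) [IsIntegral X] [IsLocallyNoetherian X] (F : X.Modules)
    (hF : Coh.IsCoh F) :
    [RefHull.IsReflexive F, ∀ x : ↥X, RefHull.IsReflexiveAt F x,
      ∀ x : ↥X, IsClosed ({x} : Set ↥X) → RefHull.IsReflexiveAt F x].TFAE := by
  have h2 := Groth.Agent.RefStalk.isReflexive_iff hF
  tfae_have 1 → 2 := h2.1
  tfae_have 2 → 3 := fun h x _ => h x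
  tfae_have 3 → 1 := fun h => by
    have hdual := Groth.Agent.RefStalk.isCoh_homSh hF (Groth.Agent.RefStalk.isCoh_structureModule (X := X))
    have hdd := Groth.Agent.RefStalk.isCoh_homSh hdual (Groth.Agent.RefStalk.isCoh_structureModule (X := X))
    have hb : ∀ x, Function.Bijective
        (RefHull.evalStalk (RefHull.dual F) (Coh.structureModule X) x) := fun x =>
      Groth.Agent.RefStalk.bijective_evalStalk_of_isCoh hdual x
    refine Groth.Agent.ZCl.isIso_of_stalk _ (Groth.Agent.RefStalk.isIso_of_closedPoints (RefHull.bidualMap F)
      (Groth.Agent.QC.isFP_of_isQCoh_of_isFT (hM := hF.1) hF.2)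
      (Groth.Agent.QC.isFP_of_isQCoh_of_isFT (hM := hdd.1) hdd.2)
      (fun Z hZ hne => Groth.Agent.LocNoethTop.exists_isClosed_singleton X hZ hne) fun x hx => ?_)
    rw [← (hb x).of_comp_iff',
      show (RefHull.evalStalk (RefHull.dual F) (Coh.structureModule X) x) ∘ (RefHull.stalkMapₗ (RefHull.bidualMap F) x)
        = RefHull.bidualAt F x from funext (Groth.Agent.RefStalk.evalStalk_stalkMap_bidualMap F x),
      Groth.Agent.RefStalk.bijective_bidualAt_iff hF]
    exact h x hx
  tfae_finish

end Groth.Agent.S16080
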