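import Groth.Statements.S16081
import Groth.Agent.RefStalk.Dual
import Groth.Agent.RefStalk.Refl
import Groth.Agent.RegDual.Scheme
-- import your own Groth.Agent.* helpers here

set_option autoImplicit false
universe u
open CategoryTheory CategoryTheory.Limits AlgebraicGeometry TopologicalSpace
open SDiv

set_option backward.isDefEq.respectTransparency false

namespace Groth.Agent.S16081

/-- Let X be an integral locally Noetherian scheme and F, G coherent O_X-modules with G reflexive. Then
the sheaf Hom 𝓗om_{O_X}(F, G) is reflexive: its canonical map into its reflexive hull is an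
isomorphism. -/
theorem result (X : Scheme.{u}) [IsIntegral X] [IsLocallyNoetherian X] (F G : X.Modules)
    (hF : Coh.IsCoh F) (hG : Coh.IsCoh G) (hGr : RefHull.IsReflexive G) :
    RefHull.IsReflexive (RefHull.homSh F G) := by
  rw [Groth.Agent.RefStalk.isReflexive_iff (Groth.Agent.RefStalk.isCoh_homSh hF hG)]
  intro x
  haveI := Groth.Agent.RegDual.finite_stalk hF x
  haveI := Groth.Agent.RegDual.finite_stalk hG x
  haveI hN : Module.IsReflexive (X.presheaf.stalk x) (G.presheaf.stalk x) :=
    (Groth.Agent.RefStalk.isReflexive_iff hG).1 hGr x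
  obtain ⟨k, π, hπ⟩ := Module.Finite.exists_fin' (X.presheaf.stalk x) (G.presheaf.stalk x)
  haveI : Module.Finite (X.presheaf.stalk x) (Module.Dual (X.presheaf.stalk x) (G.presheaf.stalk x)) :=
    Module.Finite.of_injective π.dualMap (LinearMap.dualMap_injective_of_surjective hπ)
  let ev := LinearEquiv.ofBijective _ (Groth.Agent.RefStalk.bijective_evalStalk_of_isCoh (G := G) hF x)
  let e : (RefHull.homSh F G).presheaf.stalk x ≃ₗ[X.presheaf.stalk x]
      Module.Dual (X.presheaf.stalk x) (TensorProduct (X.presheaf.stalk x) (F.presheaf.stalk x)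
        (Module.Dual (X.presheaf.stalk x) (G.presheaf.stalk x))) :=
    ev ≪≫ₗ LinearEquiv.arrowCongr (LinearEquiv.refl _ _) (Module.evalEquiv _ _) ≪≫ₗ
      TensorProduct.lift.equiv (RingHom.id _) _ _ _
  haveI := Groth.Agent.RefStalk.isReflexive_dual (R := X.presheaf.stalk x)
    (M := TensorProduct (X.presheaf.stalk x) (F.presheaf.stalk x)
      (Module.Dual (X.presheaf.stalk x) (G.presheaf.stalk x)))
  exact Module.IsReflexive.of_split e.toLinearMap e.symm.toLinearMap
    (LinearMap.ext fun m => e.symm_apply_apply m)

end Groth.Agent.S16081
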