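import Groth.Statements.S16082
import Mathlib

set_option autoImplicit false
universe u
open CategoryTheory CategoryTheory.Limits AlgebraicGeometry TopologicalSpace
open SDiv

namespace Groth.Agent.S16082

/-- Let X be an integral scheme and F, G quasi-coherent O_X-modules with F of finite presentation and G
torsion free (every stalk G_x is a torsion-free module over the domain O_{X,x}). Then every stalk of
the sheaf Hom 𝓗om_{O_X}(F, G) is torsion free as well. -/
theorem result (X : Scheme.{u}) [IsIntegral X] (F G : X.Modules) (hF : Coh.IsQCoh F)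
    (hFp : CohB1.IsFP F) (hG : Coh.IsQCoh G) (hGt : TorSh.IsTorsionFree G) :
    TorSh.IsTorsionFree (RefHull.homSh F G) := by
  intro x
  refine ⟨fun r hr m m' hmm => ?_⟩
  rw [← sub_eq_zero] at hmm ⊢
  rw [← smul_sub] at hmm
  obtain ⟨V, hxV, g, hg⟩ := (RefHull.homSh F G).presheaf.exists_germ_eq (x := x) (m - m')
  rw [← hg] at hmm ⊢
  obtain ⟨W, hxW, a, rfl⟩ := X.presheaf.exists_germ_eq (x := x) r
  change (X.presheaf.germ W x hxW) a • (RefHull.homSh F G).presheaf.germ V x hxV g = 0 at hmm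
  have e1 : (X.presheaf.germ W x hxW) a =
      (X.presheaf.germ (W ⊓ V) x ⟨hxW, hxV⟩) (X.presheaf.map (homOfLE (inf_le_left : W ⊓ V ≤ W)).op a) :=
    (X.presheaf.germ_res_apply _ _ _ _).symm
  have e2 : (RefHull.homSh F G).presheaf.germ V x hxV g = (RefHull.homSh F G).presheaf.germ (W ⊓ V) x ⟨hxW, hxV⟩
      ((RefHull.homSh F G).presheaf.map (homOfLE (inf_le_right : W ⊓ V ≤ V)).op g) :=
    ((RefHull.homSh F G).presheaf.germ_res_apply _ _ _ _).symm
  rw [e2] at hmm ⊢
  rw [e1, ← Mero.germ_smul] at hmm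
  obtain ⟨W', hxW', i₁, i₂, he⟩ :=
    TopCat.Presheaf.germ_eq (RefHull.homSh F G).presheaf (U := W ⊓ V) (V := W ⊓ V) x ⟨hxW, hxV⟩ ⟨hxW, hxV⟩ _ 0 (hmm.trans (map_zero _).symm)
  refine (TopCat.Presheaf.germ_res_apply (RefHull.homSh F G).presheaf i₁ x hxW' _).symm.trans ?_
  refine (congrArg _ ?_).trans (map_zero _)
  apply Subtype.ext
  funext y
  have hy : y.1 ∈ W ⊓ V := i₁.le y.2
  have h1 := congrFun (congrArg Subtype.val he) y
  erw [Mero.modOf_map_apply, Mero.modOf_smul_apply, map_zero] at h1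
  erw [TopCat.Presheaf.germ_res_apply] at h1
  change (X.presheaf.germ W y.1 hy.1 a) • g.1 ⟨y.1, hy.2⟩ = 0 at h1
  have ha : X.presheaf.germ W y.1 hy.1 a ≠ 0 := by
    intro h0
    have ha0 : a = 0 := AlgebraicGeometry.germ_injective_of_isIntegral X y.1 hy.1 (h0.trans (map_zero _).symm)
    rw [ha0, map_zero] at hr
    exact not_isRegular_zero hr
  haveI := hGt y.1
  ext m
  have h2 : (X.presheaf.germ W y.1 hy.1 a) • g.1 ⟨y.1, hy.2⟩ m = 0 := by
    have := congrArg (fun φ : RefHull.StalkHom F G y.1 => φ m) h1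
    exact this
  exact (smul_eq_zero.1 h2).resolve_left ha

end Groth.Agent.S16082
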