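import Groth.Statements.S16084
import Groth.Agent.RefStalk.RankOne
import Groth.Agent.RefStalk.Codim
import Groth.Agent.TMul.AmpleComp
import Groth.Agent.S2875
import Groth.Agent.S16491
-- import your own Groth.Agent.* helpers here

set_option autoImplicit false
set_option backward.isDefEq.respectTransparency false
universe u
open CategoryTheory CategoryTheory.Limits AlgebraicGeometry TopologicalSpace
open SDiv

namespace Groth.Agent.S16084

open Groth.Agent
open Groth.Agent.QC (res resO res_res res_smul resO_resO isLoc_of_isQCoh)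
open TMul (IsGen)
open Groth.Agent.S16491 (isGen_of_restrict)
open Groth.Agent.WeakAssLib (mgerm mgerm_smul mgerm_res)

/-- Over a ring of depth two a torsion-free module element is a multiple of `m` if it is one at every nonclosed prime. -/
lemma exists_smul_eq {R M : Type u} [CommRing R] [IsDomain R] [IsLocalRing R] [IsNoetherianRing R]
    [AddCommGroup M] [Module R M] [Module.IsTorsionFree R M] (h : (2 : ℕ∞) ≤ LocCoh.depth R R) {m : M}
    (hm : m ≠ 0) (v : M)
    (hv : ∀ P : Ideal R, P.IsPrime → P ≠ IsLocalRing.maximalIdeal R → ∃ d c : R, d ∉ P ∧ d • v = c • m) :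
    ∃ r : R, r • m = v := by
  obtain ⟨a, ha, b, hb, hareg, hab⟩ := S2875.exists_pair h
  let I : Ideal R :=
    { carrier := {d | ∃ c : R, d • v = c • m}
      zero_mem' := ⟨0, by simp⟩
      add_mem' := fun {d d'} ⟨c, hc⟩ ⟨c', hc'⟩ => ⟨c + c', by rw [add_smul, add_smul, hc, hc']⟩
      smul_mem' := fun r d ⟨c, hc⟩ => ⟨r * c, by rw [smul_eq_mul, mul_smul, mul_smul, hc]⟩ }
  have hle : IsLocalRing.maximalIdeal R ≤ I.radical := by
    rw [Ideal.radical_eq_sInf]
    refine le_sInf fun P hP => ?_
    by_contra hc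
    obtain ⟨d, c, hd, hdc⟩ := hv P hP.2 fun e => hc (by rw [e])
    exact hd (hP.1 ⟨c, hdc⟩)
  obtain ⟨k, hk⟩ := Ideal.exists_pow_le_of_le_radical_of_fg hle (IsNoetherian.noetherian _)
  clear hle
  induction k with
  | zero =>
    obtain ⟨c, hc⟩ := hk (show (1 : R) ∈ _ by simp)
    exact ⟨c, by rw [← hc, one_smul]⟩
  | succ k ih =>
    refine ih fun d hd => ?_
    obtain ⟨u, hu⟩ := hk (show a * d ∈ _ by rw [pow_succ']; exact Ideal.mul_mem_mul ha hd)
    obtain ⟨w, hw⟩ := hk (show b * d ∈ _ by rw [pow_succ']; exact Ideal.mul_mem_mul hb hd)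
    have he : b * u = a * w := smul_left_injective R hm (by
      show (b * u) • m = (a * w) • m
      rw [mul_smul, mul_smul, ← hu, ← hw, smul_smul, smul_smul]; congr 1; ring)
    obtain ⟨c, hc⟩ := hab u w he
    have ha0 : a ≠ 0 := fun e => one_ne_zero (hareg (by simp [e] : a • (1 : R) = a • 0))
    refine ⟨c, smul_right_injective M ha0 ?_⟩
    show a • (d • v) = a • (c • m)
    rw [smul_smul, hu, hc, mul_smul]

/-- Let X be an integral locally Noetherian normal scheme, F a rank one coherent reflexive O_X-module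
and s a nonzero global section of F. Let Z be the set of points x at which multiplication by the
germ of s, O_{X,x} → F_x, fails to be bijective (the complement of the open where s generates F).
Then every irreducible component of Z has codimension 1 in X: at each point z of Z to which no other
point of Z specializes, the local ring O_{X,z} has dimension 1. -/
theorem result (X : Scheme.{u}) [IsIntegral X] [IsLocallyNoetherian X]
    (hX : Pi1.IsNormalScheme X) (F : X.Modules) (hF : RefHull.IsRef1 F) (s : Γ(F, ⊤)) (hs : s ≠ 0) (z : ↥X)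
    (hz : ¬ Function.Bijective fun a : ↑(X.presheaf.stalk z) => a • F.presheaf.germ ⊤ z trivial s)
    (hmax : ∀ y : ↥X, ¬ Function.Bijective (fun a : ↑(X.presheaf.stalk y) => a • F.presheaf.germ ⊤ y trivial s) →
      y ⤳ z → y = z) :
    ringKrullDim ↑(X.presheaf.stalk z) = 1 := by
  classical
  obtain ⟨hFc, hFr, hFg⟩ := hF
  have hrefl := (RefStalk.isReflexive_iff hFc).1 hFr
  have htf : ∀ x : X, Module.IsTorsionFree (X.presheaf.stalk x) (F.presheaf.stalk x) := fun x => by
    haveI : Module.IsReflexive (X.presheaf.stalk x) (F.presheaf.stalk x) := hrefl x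
    exact RefStalk.isTorsionFree_of_isReflexive _
  let η := genericPoint (↥X)
  let m : ∀ x : X, F.presheaf.stalk x := fun x => mgerm F (show x ∈ (⊤ : X.Opens) from trivial) s
  -- the germs of `s` do not vanish
  have hm0 : ∀ y : X, m y ≠ 0 := by
    intro y hy
    apply hs
    refine WeakAssLib.ext_germ F s fun x hx => ?_
    obtain ⟨V, hV, hxV, -⟩ := exists_isAffineOpen_mem_and_subset (x := y) (U := (⊤ : X.Opens)) trivial
    obtain ⟨W, hW, hxW, -⟩ := exists_isAffineOpen_mem_and_subset (x := x) (U := (⊤ : X.Opens)) trivial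
    have hyV : mgerm F hxV (res F le_top s) = 0 := (mgerm_res F le_top hxV s).trans hy
    obtain ⟨b, hb, hbs⟩ := (WeakAssLib.germ_eq_zero_iff hV (isLoc_of_isQCoh hV (hM := hFc.1)) hxV _).1 hyV
    have hηV : η ∈ V := ((genericPoint_spec ↥X).specializes (Set.mem_univ y)).mem_open V.2 hxV
    have hηW : η ∈ W := ((genericPoint_spec ↥X).specializes (Set.mem_univ x)).mem_open W.2 hxW
    have hηs : mgerm F hηV (res F le_top s) = 0 := by
      have h := congrArg (mgerm F hηV) hbs
      rw [mgerm_smul, map_zero] at h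
      haveI := htf η
      refine (smul_eq_zero.1 h).resolve_left fun h0 => hb ?_
      have hb0 : b = 0 := AlgebraicGeometry.germ_injective_of_isIntegral (X := X) (U := V) η hηV
        (h0.trans (map_zero _).symm)
      rw [hb0]; exact Ideal.zero_mem _
    have hηs' : mgerm F hηW (res F le_top s) = 0 :=
      ((mgerm_res F le_top hηW s).trans (mgerm_res F le_top hηV s).symm).trans hηs
    obtain ⟨c, hc, hcs⟩ := (WeakAssLib.germ_eq_zero_iff hW (isLoc_of_isQCoh hW (hM := hFc.1)) hηW _).1 hηs'
    have h := congrArg (mgerm F hxW) hcs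
    rw [mgerm_smul, map_zero] at h
    haveI := htf x
    refine (mgerm_res F le_top hxW s).symm.trans ((smul_eq_zero.1 h).resolve_left fun h0 => hc ?_)
    have hc0 : c = 0 := AlgebraicGeometry.germ_injective_of_isIntegral (X := X) (U := W) x hxW
      (h0.trans (map_zero _).symm)
    rw [hc0]; exact Ideal.zero_mem _
  have hinj : ∀ y : X, Function.Injective fun a : X.presheaf.stalk y => a • m y := fun y => by
    haveI := htf y
    exact smul_left_injective _ (hm0 y)
  -- at the generic point the germ generates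
  have hgenη : Function.Surjective fun a : X.presheaf.stalk η => a • m η := by
    obtain ⟨U, hUd, hUi⟩ := hFg
    obtain ⟨η', hη'⟩ := hUd.nonempty
    obtain ⟨A, a, hηA, ha⟩ := TMul.exists_isGen hUi (⟨η', hη'⟩ : (U : Scheme.{u}))
    let W : X.Opens := U.ι ''ᵁ A
    let e : Γ(F, W) := a
    have he : IsGen e := isGen_of_restrict ha
    have hηW : η ∈ W :=
      ((genericPoint_spec ↥X).specializes (Set.mem_univ η')).mem_open W.2 ⟨⟨η', hη'⟩, hηA, rfl⟩
    have hrep : ∀ u : F.presheaf.stalk η, ∃ c : X.presheaf.stalk η, c • mgerm F hηW e = u := by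
      intro u
      obtain ⟨O, hO, t, rfl⟩ := TopCat.Presheaf.exists_germ_eq F.presheaf u
      obtain ⟨c, hc⟩ := (he (O ⊓ W) inf_le_right).2 (res F inf_le_left t)
      refine ⟨X.presheaf.germ (O ⊓ W) η ⟨hO, hηW⟩ c, ?_⟩
      have h := congrArg (mgerm F (show η ∈ O ⊓ W from ⟨hO, hηW⟩)) hc
      rw [mgerm_smul, mgerm_res, mgerm_res] at h
      exact h
    intro u
    obtain ⟨c, hc⟩ := hrep u
    obtain ⟨a', ha'⟩ := hrep (m η)
    have ha0 : IsUnit a' := Ne.isUnit (fun h => hm0 η (by rw [← ha', h, zero_smul]) :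
      (a' : X.functionField) ≠ 0)
    refine ⟨c * ↑ha0.unit⁻¹, ?_⟩
    show (c * ↑ha0.unit⁻¹) • m η = u
    rw [← ha', smul_smul, mul_assoc, IsUnit.val_inv_mul, mul_one, hc]
  let R := X.presheaf.stalk z
  by_contra hne
  -- two possibilities: dimension zero or at least two
  rcases le_or_gt (ringKrullDim R) 1 with h1 | h1
  · have h0 : ringKrullDim R = 0 := by
      have hnn : (0 : WithBot ℕ∞) ≤ ringKrullDim R := ringKrullDim_nonneg_of_nontrivial
      revert h1 hnn hne
      generalize ringKrullDim R = d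
      intro hne h1 hnn
      match d with
      | ⊥ => exact absurd hnn (by simp)
      | (⊤ : ℕ∞) => exact absurd h1 (by decide)
      | ((n : ℕ) : ℕ∞) =>
        have : n ≤ 1 := by exact_mod_cast h1
        interval_cases n
        · rfl
        · exact absurd rfl hne
    haveI : Ring.KrullDimLE 0 R := Ring.krullDimLE_iff.2 h0.le
    have hη : z = η := by
      letI := specializationOrder X
      have hco : Order.coheight z = 0 := by
        have := ringKrullDim_stalk_eq_coheight z
        rw [h0] at this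
        exact_mod_cast this.symm
      exact le_antisymm ((genericPoint_spec ↥X).specializes (Set.mem_univ z))
        (Order.coheight_eq_zero.1 hco ((genericPoint_spec ↥X).specializes (Set.mem_univ z)))
    exact hz ⟨hinj z, by subst hη; exact hgenη⟩
  · have h2 : (2 : WithBot ℕ∞) ≤ ringKrullDim R := RefStalk.two_le_iff.2 h1.not_ge
    haveI : IsDomain R := (hX z).1
    haveI := htf z
    refine hz ⟨hinj z, fun v => ?_⟩
    obtain ⟨U, hU, hzU, -⟩ := exists_isAffineOpen_mem_and_subset (x := z) (U := (⊤ : X.Opens)) trivial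
    have hL := isLoc_of_isQCoh hU (hM := hFc.1)
    obtain ⟨b, t, hb, hbt⟩ := WeakAssLib.exists_germ hU hL hzU v
    let s' : Γ(F, U) := res F le_top s
    have hs' : mgerm F hzU s' = m z := mgerm_res F le_top hzU s
    suffices ∃ r : R, r • m z = mgerm F hzU t by
      obtain ⟨r, hr⟩ := this
      have hbu := WeakAssLib.isUnit_germ hU hzU hb
      refine ⟨↑hbu.unit⁻¹ * r, ?_⟩
      show (↑hbu.unit⁻¹ * r) • m z = v
      rw [mul_smul, hr, ← hbt, smul_smul, IsUnit.val_inv_mul, one_smul]
    refine exists_smul_eq (RefStalk.two_le_depth hX z h2) (hm0 z) _ fun P hP hPm => ?_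
    letI := (X.presheaf.germ U z hzU).hom.toAlgebra
    haveI := hU.isLocalization_stalk ⟨z, hzU⟩
    let p := (hU.primeIdealOf ⟨z, hzU⟩).asIdeal
    let q : PrimeSpectrum Γ(X, U) := ⟨P.comap (X.presheaf.germ U z hzU).hom, Ideal.comap_isPrime _ _⟩
    have hqp : q.asIdeal ≤ p := fun b hb => by
      by_contra hbp
      exact hP.ne_top (Ideal.eq_top_of_isUnit_mem _ hb
        (IsLocalization.map_units R (⟨b, hbp⟩ : p.primeCompl)))
    let y := hU.fromSpec q
    have hyz : y ⤳ z := by
      have e : hU.fromSpec (hU.primeIdealOf ⟨z, hzU⟩) = z := hU.fromSpec_primeIdealOf _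
      rw [← e]
      exact Specializes.map ((PrimeSpectrum.le_iff_specializes _ _).1 hqp) hU.fromSpec.continuous
    have hyU : y ∈ U := hU.range_fromSpec.le ⟨q, rfl⟩
    have hpy : hU.primeIdealOf ⟨y, hyU⟩ = q :=
      hU.fromSpec.isOpenEmbedding.injective (hU.fromSpec_primeIdealOf ⟨y, hyU⟩)
    have hyne : y ≠ z := fun e => by
      have hqe : q = hU.primeIdealOf ⟨z, hzU⟩ := hU.fromSpec.isOpenEmbedding.injective
        (e.trans (hU.fromSpec_primeIdealOf ⟨z, hzU⟩).symm)
      apply hPm
      rw [← IsLocalization.map_under p.primeCompl R P]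
      rw [show P.under Γ(X, U) = p from congrArg PrimeSpectrum.asIdeal hqe]
      exact IsLocalization.AtPrime.map_eq_maximalIdeal p R
    obtain ⟨c, hc⟩ := (not_not.1 fun hb => hyne (hmax y hb hyz)).2 (mgerm F hyU t)
    change c • m y = mgerm F hyU t at hc
    letI := (X.presheaf.germ U y hyU).hom.toAlgebra
    haveI := hU.isLocalization_stalk ⟨y, hyU⟩
    obtain ⟨⟨c', d⟩, hcd⟩ := IsLocalization.surj (hU.primeIdealOf ⟨y, hyU⟩).asIdeal.primeCompl c
    have hcd' : (X.presheaf.germ U y hyU).hom d.1 * c = (X.presheaf.germ U y hyU).hom c' := by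
      rw [mul_comm]; exact hcd
    have heq : mgerm F hyU (d.1 • t - c' • s') = 0 := by
      rw [map_sub, mgerm_smul, mgerm_smul, mgerm_res, ← hc, smul_smul, hcd', sub_self]
    obtain ⟨e, he, hes⟩ := (WeakAssLib.germ_eq_zero_iff hU hL hyU _).1 heq
    refine ⟨X.presheaf.germ U z hzU (e * d.1), X.presheaf.germ U z hzU (e * c'), fun hin => ?_, ?_⟩
    · have hin' : e * d.1 ∈ (hU.primeIdealOf ⟨y, hyU⟩).asIdeal := (congrArg PrimeSpectrum.asIdeal hpy).ge hin
      exact ((hU.primeIdealOf ⟨y, hyU⟩).isPrime.mem_or_mem hin').elim he d.2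
    · have h := congrArg (mgerm F hzU) hes
      rw [smul_sub, map_sub, map_zero, sub_eq_zero, smul_smul, smul_smul, mgerm_smul, mgerm_smul, hs'] at h
      exact h

end Groth.Agent.S16084
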