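import Groth.Statements.S16085
import Groth.Agent.RefDiv.Ops

set_option autoImplicit false
universe u
open CategoryTheory CategoryTheory.Limits AlgebraicGeometry TopologicalSpace
open SDiv

namespace Groth.Agent.S16085

open Groth.Agent.RefDiv

/-- Let X be an integral locally Noetherian normal scheme. Sending (F, G) to the reflexive hull (F
⊗_{O_X} G)^** makes the isomorphism classes of rank one coherent reflexive O_X-modules into an
abelian group: on that set there are a commutative and associative composition law, a neutral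
element and inverses, such that the product of the classes of F and G is the class of the reflexive
hull of F ⊗_{O_X} G, the neutral element is the class of O_X, and the inverse of the class of F is
the class of its dual 𝓗om_{O_X}(F, O_X). -/
theorem result (X : Scheme.{u}) [IsIntegral X] [IsLocallyNoetherian X] (hX : Pi1.IsNormalScheme X) :
    ∃ (mul : {c : PicF.Cl X // ∃ F : X.Modules, PicF.cl F = c ∧ RefHull.IsRef1 F} →
          {c : PicF.Cl X // ∃ F : X.Modules, PicF.cl F = c ∧ RefHull.IsRef1 F} →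
            {c : PicF.Cl X // ∃ F : X.Modules, PicF.cl F = c ∧ RefHull.IsRef1 F})
      (one : {c : PicF.Cl X // ∃ F : X.Modules, PicF.cl F = c ∧ RefHull.IsRef1 F})
      (inv : {c : PicF.Cl X // ∃ F : X.Modules, PicF.cl F = c ∧ RefHull.IsRef1 F} →
          {c : PicF.Cl X // ∃ F : X.Modules, PicF.cl F = c ∧ RefHull.IsRef1 F}),
      (∀ a b, mul a b = mul b a) ∧ (∀ a b c, mul (mul a b) c = mul a (mul b c)) ∧ (∀ a, mul one a = a) ∧
        (∀ a, mul (inv a) a = one) ∧
        (∀ (F G : X.Modules) (hF : RefHull.IsRef1 F) (hG : RefHull.IsRef1 G),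
          (mul ⟨PicF.cl F, F, rfl, hF⟩ ⟨PicF.cl G, G, rfl, hG⟩).1 = PicF.cl (RefHull.ddual (CohB1.tensorMod F G))) ∧
        one.1 = PicF.cl (Coh.structureModule X) ∧
        (∀ (F : X.Modules) (hF : RefHull.IsRef1 F), (inv ⟨PicF.cl F, F, rfl, hF⟩).1 = PicF.cl (RefHull.dual F)) := by

  classical
  let C := {c : PicF.Cl X // ∃ F : X.Modules, PicF.cl F = c ∧ RefHull.IsRef1 F}
  let rep : C → X.Modules := fun a => a.2.choose
  have hr : ∀ a : C, RefHull.IsRef1 (rep a) := fun a => a.2.choose_spec.2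
  have hc : ∀ a : C, PicF.cl (rep a) = a.1 := fun a => a.2.choose_spec.1
  have heq : ∀ {F G : X.Modules}, RefHull.IsRef1 F → RefHull.IsRef1 G → ∀ {D : X → ℤ},
      HasDiv F D → HasDiv G D → PicF.cl F = PicF.cl G := fun {F G} hF hG {D} hDF hDG =>
    Quot.sound (nonempty_iso hX hF hG hDF hDG)
  have hex : ∀ {F : X.Modules}, RefHull.IsRef1 F → ∃ D, HasDiv F D := fun {F} hF => by
    obtain ⟨s, hs, -⟩ := (lat_of_isRef1 hF).gen
    exact ⟨_, s, hs, fun x _ => rfl⟩
  have hT : ∀ {F G : X.Modules} {D D' : X → ℤ}, RefHull.IsRef1 F → RefHull.IsRef1 G → HasDiv F D → HasDiv G D' →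
      HasDiv (RefHull.ddual (CohB1.tensorMod F G)) (fun x => D x + D' x) :=
    fun {F G D D'} hF hG ⟨s, hs, hsD⟩ ⟨t, ht, htD⟩ => by
      obtain ⟨w, hw, h⟩ := hasDiv_tensor hX (lat_of_isRef1 hF) (lat_of_isRef1 hG) hs ht
      exact ⟨w, hw, fun x hx => by rw [h x hx, hsD x hx, htD x hx]⟩
  have hiso : ∀ {F : X.Modules} (a : C), RefHull.IsRef1 F → PicF.cl F = a.1 → ∀ {D : X → ℤ},
      HasDiv F D → HasDiv (rep a) D := fun {F} a hF he {D} hD => by
    have hgen : Relation.EqvGen (fun L L' : X.Modules => Nonempty (L ≅ L')) F (rep a) :=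
      Quot.eqvGen_exact (he.trans (hc a).symm)
    have hequiv : Equivalence (fun L L' : X.Modules => Nonempty (L ≅ L')) :=
      ⟨fun L => ⟨Iso.refl L⟩, fun ⟨e⟩ => ⟨e.symm⟩, fun ⟨e⟩ ⟨e'⟩ => ⟨e ≪≫ e'⟩⟩
    obtain ⟨e⟩ := hequiv.eqvGen_iff.1 hgen
    exact hasDiv_iso hX (lat_of_isRef1 hF) (lat_of_isRef1 (hr a)) e hD
  have hTr : ∀ a b : C, RefHull.IsRef1 (RefHull.ddual (CohB1.tensorMod (rep a) (rep b))) := fun a b =>
    isRef1_tensor (lat_of_isRef1 (hr a)) (lat_of_isRef1 (hr b))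
  let mul : C → C → C := fun a b => ⟨_, _, rfl, hTr a b⟩
  let one : C := ⟨_, _, rfl, isRef1_structureModule⟩
  let inv : C → C := fun a => ⟨_, _, rfl, isRef1_dual (lat_of_isRef1 (hr a))⟩
  have hmul : ∀ a b {D D'}, HasDiv (rep a) D → HasDiv (rep b) D' →
      HasDiv (rep (mul a b)) (fun x => D x + D' x) := fun a b {D D'} hD hD' =>
    hiso (mul a b) (hTr a b) rfl (hT (hr a) (hr b) hD hD')
  have ext' : ∀ a b : C, ∀ {D : X → ℤ}, HasDiv (rep a) D → HasDiv (rep b) D → a = b := fun a b {D} ha hb =>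
    Subtype.ext (by rw [← hc a, ← hc b]; exact heq (hr a) (hr b) ha hb)
  have hone : HasDiv (rep one) (fun _ => 0) :=
    hiso one isRef1_structureModule rfl (hasDiv_structureModule hX)
  refine ⟨mul, one, inv, fun a b => ?_, fun a b c => ?_, fun a => ?_, fun a => ?_, fun F G hF hG => ?_, rfl,
    fun F hF => ?_⟩
  · obtain ⟨D, hD⟩ := hex (hr a)
    obtain ⟨D', hD'⟩ := hex (hr b)
    refine ext' _ _ (hmul a b hD hD') ?_
    convert hmul b a hD' hD using 2 with x
    exact add_comm _ _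
  · obtain ⟨D, hD⟩ := hex (hr a)
    obtain ⟨D', hD'⟩ := hex (hr b)
    obtain ⟨D'', hD''⟩ := hex (hr c)
    refine ext' _ _ (hmul _ c (hmul a b hD hD') hD'') ?_
    convert hmul a _ hD (hmul b c hD' hD'') using 2 with x
    exact add_assoc _ _ _
  · obtain ⟨D, hD⟩ := hex (hr a)
    refine ext' _ _ ?_ hD
    convert hmul one a hone hD using 2 with x
    exact (zero_add _).symm
  · obtain ⟨D, hD⟩ := hex (hr a)
    refine ext' _ _ ?_ hone
    convert hmul (inv a) a (hiso (inv a) (isRef1_dual (lat_of_isRef1 (hr a))) rfl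
      (hasDiv_dual hX (lat_of_isRef1 (hr a)) hD)) hD using 2 with x
    exact (neg_add_cancel _).symm
  · obtain ⟨D, hD⟩ := hex hF
    obtain ⟨D', hD'⟩ := hex hG
    exact heq (hTr _ _) (isRef1_tensor (lat_of_isRef1 hF) (lat_of_isRef1 hG))
      (hT (hr _) (hr _) (hiso _ hF rfl hD) (hiso _ hG rfl hD')) (hT hF hG hD hD')
  · obtain ⟨D, hD⟩ := hex hF
    exact heq (isRef1_dual (lat_of_isRef1 (hr _))) (isRef1_dual (lat_of_isRef1 hF))
      (hasDiv_dual hX (lat_of_isRef1 (hr _)) (hiso _ hF rfl hD)) (hasDiv_dual hX (lat_of_isRef1 hF) hD)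

end Groth.Agent.S16085
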