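import Groth.Statements.S16086
import Groth.Agent.RefDiv.Ops

set_option autoImplicit false
universe u
open CategoryTheory CategoryTheory.Limits AlgebraicGeometry TopologicalSpace
open SDiv

namespace Groth.Agent.S16086

open Groth.Agent.RefDiv

/-- The class map is well defined and injective: fix a scheme X that is integral, normal and locally
Noetherian, and write η for its generic point; suppose F and G are rank one coherent reflexive
O_X-modules and let s ∈ F_η and t ∈ G_η be nonzero rational sections. At a point x of codimension 1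
the stalks F_x, G_x are free of rank one over the discrete valuation ring O_{X,x}, so s and t have
orders ord_{x,F}(s), ord_{x,G}(t). Then F ≅ G if and only if the Weil divisors of s and t are
linearly equivalent: for some nonzero rational function f one has ord_{x,F}(s) = ord_{x,G}(t) +
ord_x(f) at every point x of codimension 1. -/
theorem result (X : Scheme.{u}) [IsIntegral X] [IsLocallyNoetherian X]
    (hX : Pi1.IsNormalScheme X) (F G : X.Modules) (hF : RefHull.IsRef1 F) (hG : RefHull.IsRef1 G)
    (s : Cyc.secFibre F (genericPoint ↥X)) (hs : s ≠ 0) (t : Cyc.secFibre G (genericPoint ↥X)) (ht : t ≠ 0) :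
    Nonempty (F ≅ G) ↔
      ∃ f : ↑X.functionField, f ≠ 0 ∧
        ∀ (x : ↥X), Order.coheight x = 1 →
          Cyc.secOrdAt F (genericPoint ↥X) x ((genericPoint_spec ↥X).specializes (Set.mem_univ x)) s =
            Cyc.secOrdAt G (genericPoint ↥X) x ((genericPoint_spec ↥X).specializes (Set.mem_univ x)) t +
              Scheme.ord f x := by

  obtain ⟨v, rfl⟩ := Submodule.Quotient.mk_surjective _ s
  obtain ⟨w, rfl⟩ := Submodule.Quotient.mk_surjective _ t
  have hv : v ≠ 0 := fun h => hs (by rw [h]; rfl)
  have hw : w ≠ 0 := fun h => ht (by rw [h]; rfl)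
  have lF := lat_of_isRef1 hF
  have lG := lat_of_isRef1 hG
  constructor
  · rintro ⟨e⟩
    obtain ⟨f, hf⟩ := lG.exists_smul hw (RefHull.stalkMapₗ e.hom _ v)
    have hf0 : f ≠ 0 := fun h => hv ((stalkMap_iso_bijective e _).1
      (hf.symm.trans (by rw [h, map_zero]; exact zero_smul _ w)))
    refine ⟨f, hf0, fun x hx => ?_⟩
    show dv F x v = dv G x w + Scheme.ord f x
    rw [← dv_iso hX lF lG e hv hx, ← hf, dv_smul hX lG hw hf0 hx, add_comm]
  · rintro ⟨f, hf, h⟩
    refine nonempty_iso hX hF hG (D := fun x => dv F x v) ⟨v, hv, fun x _ => rfl⟩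
      ⟨f • w, smul_ne_zero' hw hf, fun x hx => ?_⟩
    show dv G x (f • w) = dv F x v
    rw [dv_smul hX lG hw hf hx, add_comm]
    exact (h x hx).symm

end Groth.Agent.S16086
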