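import Groth.Statements.S16088
import Groth.Agent.S8914
import Groth.Agent.W7Hull.InvDual
import Groth.Agent.KFlat.PullTensor
import Groth.Agent.DerPerf.Local
import Groth.Agent.ResDesc.AmpleFam

set_option autoImplicit false
universe u
open CategoryTheory CategoryTheory.Limits AlgebraicGeometry TopologicalSpace
open SDiv

set_option backward.isDefEq.respectTransparency false
set_option backward.isDefEq.respectTransparency.types false

namespace Groth.Agent.S16088

/-- Let S be a scheme, D ⊆ S an effective Cartier divisor with ideal sheaf 𝓓 and i : D ⟶ S its closed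
immersion. The normal sheaf of D in S, the O_D-dual of the conormal sheaf i^*𝓓, is isomorphic to the
restriction i^*(O_S(D)) to D of O_S(D) = 𝓗om_{O_S}(𝓓, O_S), the dual of the invertible ideal 𝓓.
Existence of an isomorphism of O_D-modules only; the canonical identification is not named here. -/
theorem result (S : Scheme.{u}) (𝓓 : S.IdealSheafData)
    (hD : BlowUp.IsEffCartierIdeal 𝓓) :
    Nonempty (RefHull.dual (Omega.conormal 𝓓.subschemeι) ≅
      (Scheme.Modules.pullback 𝓓.subschemeι).obj (RefHull.dual (ClSub.idealMod 𝓓))) := by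
  have hi : PicF.IsInvertible (ClSub.idealMod 𝓓) := (Groth.Agent.S8914.result 𝓓).2 hD
  set i := 𝓓.subschemeι
  let I := ClSub.idealMod 𝓓
  let P := (Scheme.Modules.pullback i).obj I
  have hP : PicF.IsInvertible P := PicLoc.isInvertible_pullback i hi
  have hk : Omega.conormal i = P := by
    show (Scheme.Modules.pullback i).obj (ClSub.idealMod i.ker) = _
    rw [show i.ker = 𝓓 from 𝓓.ker_subschemeι]
  rw [hk]
  haveI := W7Hull.isIso_evDual hP
  haveI := W7Hull.isIso_evDual hi
  -- two inverses of the same invertible module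
  let b : CohB1.tensorMod P (RefHull.dual P) ≅ Coh.structureModule _ := asIso (W7Hull.evDual P)
  let a : CohB1.tensorMod P ((Scheme.Modules.pullback i).obj (RefHull.dual I)) ≅ Coh.structureModule _ :=
    KFlat.pullTensorIso i _ _ ≪≫ (Scheme.Modules.pullback i).mapIso (asIso (W7Hull.evDual I)) ≪≫
      DerPerf.pullUnitIso i
  let B := (Scheme.Modules.pullback i).obj (RefHull.dual I)
  exact ⟨(SecTwist.unitorR _).symm ≪≫ PicGrp.tensorModIso (Iso.refl _) a.symm ≪≫ (TMul.assocIso _ _ _).symm ≪≫
    PicGrp.tensorModIso (TMul.commIso _ _ ≪≫ b) (Iso.refl B) ≪≫ TMul.leftUnitIso B⟩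

end Groth.Agent.S16088
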