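import Groth.Statements.S1609
import Groth.Agent.GeomConn.Basic


set_option autoImplicit false
universe u
open CategoryTheory CategoryTheory.Limits AlgebraicGeometry
open Variety

set_option backward.isDefEq.respectTransparency false
namespace Groth.Agent.S1609

/-- Geometric irreducibility of a k-scheme can be checked after an arbitrary extension of the base
field. -/
theorem result (k : Type u) [Field k] (X : Scheme.{u}) [X.Over (Spec (CommRingCat.of k))] (k' : Type u) [Field k'] [Algebra k k']
    [GeometricallyIrreducible (Curv2.bcSnd k X k')] : GeometricallyIrreducible (X ↘ (Spec (CommRingCat.of k))) := by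
  haveI : Surjective (Spec.map (CommRingCat.ofHom (algebraMap k k'))) :=
    ⟨Function.surjective_to_subsingleton (α := Spec (CommRingCat.of k')) _⟩
  exact ⟨Groth.Agent.GeomConn.geometrically_descends _ (fun A B q _ h => @Groth.Agent.GeomConn.irreducibleSpace_of_surjective A B q _ h)
    (X ↘ Spec (CommRingCat.of k)) (Spec.map (CommRingCat.ofHom (algebraMap k k')))
    (GeometricallyIrreducible.geometrically_irreducibleSpace (f := Curv2.bcSnd k X k'))⟩

end Groth.Agent.S1609
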