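import Groth.Statements.S16092
import Groth.Agent.RefDiv.Inv

set_option autoImplicit false
universe u
open CategoryTheory CategoryTheory.Limits AlgebraicGeometry TopologicalSpace
open SDiv

namespace Groth.Agent.S16092

open Groth.Agent.RefDiv

/-- Let X be an integral scheme that is locally Noetherian, with generic point η, let L and N be
invertible O_X-modules and s ∈ L_η, t ∈ N_η nonzero rational sections, with orders ord_{x,L}(s),
ord_{x,N}(t) along the prime divisors, i.e. at the points x with dim O_{X,x} = 1, taken with respect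
to generators of the stalks. Then L ⊗_{O_X} N has a nonzero rational section w with ord_{x,L ⊗ N}(w)
= ord_{x,L}(s) + ord_{x,N}(t) at every such x; hence the Weil divisor class of L ⊗ N is the sum of
the classes of L and N. The published statement names w as the product s·t; here only the existence
of such a w is asserted. -/
theorem result (X : Scheme.{u}) [IsIntegral X] [IsLocallyNoetherian X] (L N : X.Modules)
    (hL : PicF.IsInvertible L) (hN : PicF.IsInvertible N) (s : Cyc.secFibre L (genericPoint ↥X)) (hs : s ≠ 0)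
    (t : Cyc.secFibre N (genericPoint ↥X)) (ht : t ≠ 0) :
    ∃ w : Cyc.secFibre (CohB1.tensorMod L N) (genericPoint ↥X), w ≠ 0 ∧
      ∀ (x : ↥X), ringKrullDim ↑(X.presheaf.stalk x) = 1 →
        Cyc.secOrdAt (CohB1.tensorMod L N) (genericPoint ↥X) x ((genericPoint_spec ↥X).specializes (Set.mem_univ x)) w =
          Cyc.secOrdAt L (genericPoint ↥X) x ((genericPoint_spec ↥X).specializes (Set.mem_univ x)) s +
            Cyc.secOrdAt N (genericPoint ↥X) x ((genericPoint_spec ↥X).specializes (Set.mem_univ x)) t := by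

  obtain ⟨v, rfl⟩ := Submodule.Quotient.mk_surjective _ s
  obtain ⟨v', rfl⟩ := Submodule.Quotient.mk_surjective _ t
  have hv : v ≠ 0 := fun e => hs (by rw [e]; rfl)
  have hv' : v' ≠ 0 := fun e => ht (by rw [e]; rfl)
  have lL := lat_of_isInvertible hL
  have lN := lat_of_isInvertible hN
  have lT := lat_of_isInvertible (TMul.isInvertible_tensorMod hL hN)
  obtain ⟨W₁, hW₁, e₁, he₁⟩ := lL.exists_isGen_generic
  obtain ⟨W₂, hW₂, f₁, hf₁⟩ := lN.exists_isGen_generic
  have hη : genericPoint X ∈ W₁ ⊓ W₂ := ⟨hW₁, hW₂⟩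
  have he := he₁.res (inf_le_left : W₁ ⊓ W₂ ≤ W₁)
  have hf := hf₁.res (inf_le_right : W₁ ⊓ W₂ ≤ W₂)
  obtain ⟨φ₀, hφ₀⟩ := (bijective_germ_of_isGen he hη).2 v
  obtain ⟨ψ₀, hψ₀⟩ := (bijective_germ_of_isGen hf hη).2 v'
  change φ₀ • _ = v at hφ₀
  change ψ₀ • _ = v' at hψ₀
  have hφ0 : (φ₀ : X.functionField) ≠ 0 := fun e => hv (by rw [← hφ₀, e]; exact zero_smul _ _)
  have hψ0 : (ψ₀ : X.functionField) ≠ 0 := fun e => hv' (by rw [← hψ₀, e]; exact zero_smul _ _)
  let g := WeakAssLib.mgerm (CohB1.tensorMod L N) hη (TMul.tm (QC.res L inf_le_left e₁) (QC.res N inf_le_right f₁))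
  have hg0 : g ≠ 0 := fun h0 => zero_ne_one (α := X.functionField)
    ((bijective_germ_of_isGen (TMul.isGen_tm he hf) hη).1
    (show (0 : X.functionField) • g = (1 : X.functionField) • g by rw [h0, smul_zero, smul_zero]))
  refine ⟨Submodule.Quotient.mk ((φ₀ * ψ₀ : X.functionField) • g),
    fun e => smul_ne_zero' hg0 (mul_ne_zero hφ0 hψ0) (Lat.mk_injective _ (e.trans (Submodule.Quotient.mk_zero _).symm)),
    fun x hx => ?_⟩
  rw [ringKrullDim_stalk_eq_coheight] at hx
  have h1 : Order.coheight x = 1 := WithBot.coe_inj.1 hx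
  obtain ⟨A, a, hxA, ha⟩ := TMul.exists_isGen hL x
  obtain ⟨B, b, hxB, hb⟩ := TMul.exists_isGen hN x
  have hxO : x ∈ A ⊓ B := ⟨hxA, hxB⟩
  have hηO : genericPoint X ∈ A ⊓ B := (RefStalk.toGen x).mem_open (A ⊓ B).2 hxO
  have ha' := ha.res (inf_le_left : A ⊓ B ≤ A)
  have hb' := hb.res (inf_le_right : A ⊓ B ≤ B)
  obtain ⟨φ, hφ⟩ := (bijective_germ_of_isGen ha' hηO).2 v
  obtain ⟨ψ, hψ⟩ := (bijective_germ_of_isGen hb' hηO).2 v'
  change φ • _ = v at hφ
  change ψ • _ = v' at hψ
  have hφ1 : (φ : X.functionField) ≠ 0 := fun e => hv (by rw [← hφ, e]; exact zero_smul _ _)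
  have hψ1 : (ψ : X.functionField) ≠ 0 := fun e => hv' (by rw [← hψ, e]; exact zero_smul _ _)
  have hea : ((φ : X.functionField)⁻¹ * φ₀) • WeakAssLib.mgerm L hη (QC.res L inf_le_left e₁) =
      WeakAssLib.mgerm L hηO (QC.res L inf_le_left a) := by
    rw [mul_smul, hφ₀, ← hφ, smul_smul]
    exact (congrArg (· • _) (inv_mul_cancel₀ hφ1)).trans (one_smul _ _)
  have heb : ((ψ : X.functionField)⁻¹ * ψ₀) • WeakAssLib.mgerm N hη (QC.res N inf_le_right f₁) =
      WeakAssLib.mgerm N hηO (QC.res N inf_le_right b) := by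
    rw [mul_smul, hψ₀, ← hψ, smul_smul]
    exact (congrArg (· • _) (inv_mul_cancel₀ hψ1)).trans (one_smul _ _)
  rw [lT.secOrdAt_mk h1 (span_eq_top_of_surjective (bijective_germ_of_isGen (TMul.isGen_tm ha' hb') hxO).2)
      (mul_ne_zero hφ1 hψ1) ?_,
    lL.secOrdAt_mk h1 (span_eq_top_of_surjective (bijective_germ_of_isGen ha' hxO).2) hφ1
      ((congrArg ((φ : X.functionField) • ·) (RefStalk.msp_germ L _ hxO _)).trans hφ),
    lN.secOrdAt_mk h1 (span_eq_top_of_surjective (bijective_germ_of_isGen hb' hxO).2) hψ1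
      ((congrArg ((ψ : X.functionField) • ·) (RefStalk.msp_germ N _ hxO _)).trans hψ),
    Scheme.ord_mul hφ1 hψ1]
  rw [RefStalk.msp_germ, germ_tm_eq hηO hη he hf hea heb, smul_smul]
  exact congrArg (· • g) (by field_simp)

end Groth.Agent.S16092
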