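import Groth.Statements.S16093
import Groth.Agent.KoszTwLib.Basic

set_option autoImplicit false
set_option backward.isDefEq.respectTransparency false
set_option backward.isDefEq.respectTransparency.types false
set_option maxHeartbeats 1000000
universe u
open CategoryTheory AlgebraicGeometry Opposite
open KoszTw

namespace Groth.Agent.S16093

open Groth.Agent.KoszTwLib

/-- Let X be a scheme, F a finite locally free O_X-module, L an invertible O_X-module, s : F → O_X a
cosection, λ : O_X → L an injective morphism (a global section of L) and t : F ⊗ L → O_X a cosection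
of the twisted module compatible with s and λ, in the sense that λ(t(f ⊗ l)) = s(f) · l for all
sections f of F and l of L over every open. Let K(F, s) and K(F ⊗ L, t) be Koszul complexes of s and
of t, with differentials ∂ and δ and with degree-p terms K_p(F, s) and K_p(F ⊗ L, t) the p-th
exterior powers of F and of F ⊗ L; fix q ≥ 0 and let θ : K_{q+1}(F ⊗ L, t) ≅ K_{q+1}(F, s) ⊗
L^{⊗(q+1)} be the identification Λ^{q+1}(F ⊗ L) ≅ Λ^{q+1} F ⊗ L^{⊗(q+1)} that sends (f_0 ⊗ l_0) ∧ ⋯
∧ (f_q ⊗ l_q) to (f_0 ∧ ⋯ ∧ f_q) ⊗ (l_0 ⊗ ⋯ ⊗ l_q) on sections over every affine open. Then the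
kernel of the composite of θ with ∂_{q+1} ⊗ 1 : K_{q+1}(F, s) ⊗ L^{⊗(q+1)} → K_q(F, s) ⊗ L^{⊗(q+1)}
equals the kernel of δ_{q+1} : K_{q+1}(F ⊗ L, t) → K_q(F ⊗ L, t), as subobjects of K_{q+1}(F ⊗ L,
t); in words, θ identifies Ker(δ_{q+1}) with Ker(∂_{q+1} ⊗ 1_{L^{⊗(q+1)}}). (The published statement
is for an arbitrary integer twist n and reads Ker(∂_{q+1} ⊗ 1_{L^{⊗n}}) = Ker(δ_{q+1}) ⊗
L^{⊗(n-q-1)}; that family follows from the case n = q + 1 stated here by tensoring with the
invertible module L^{⊗(n-q-1)}, negative tensor powers not being used here. The published hypothesis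
is that s is non-zero, which forces λ to be injective when X is integral; injectivity of λ is what
the argument uses and is assumed here directly, for an arbitrary scheme X: on the spectrum of k × k
with F = L = O_X, s = λ = multiplication by (1, 0) and t the identity, s is non-zero while the two
kernels differ.) -/
theorem result {X : Scheme.{u}} (F L : X.Modules)
    (hF : FlatMod.IsFinLocFree F) (hL : PicF.IsInvertible L)
    (s : F ⟶ Coh.structureModule X) (lam : Coh.structureModule X ⟶ L) [Mono lam]
    (t : CohB1.tensorMod F L ⟶ Coh.structureModule X) (htri : KoszTw.TwistTriangle s lam t)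
    (C : KoszSh.Cx F s) (D : KoszSh.Cx (CohB1.tensorMod F L) t) (q : ℕ) (θ : KoszTw.CxDecData C D (q + 1)) :
    Limits.kernelSubobject (θ.iso.hom ≫ KoszTw.tensorMap (C.K.d (q + 1) q) (𝟙 (CohB1.tensorPow L (q + 1)))) =
      Limits.kernelSubobject (D.K.d (q + 1) q) := by
  have hS := isBasisFam_isChart hF hL
  have key : ∀ U ∈ {U : X.Opens | IsChart F L U}, ∀ w,
      (θ.iso.hom ≫ KoszTw.tensorMap (C.K.d (q + 1) q) (𝟙 (CohB1.tensorPow L (q + 1)))).app U w = 0 ↔
        (D.K.d (q + 1) q).app U w = 0 := by
    rintro U ⟨hU, ⟨e, he⟩, n, ⟨b⟩⟩ w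
    lift U to X.affineOpens using hU
    obtain ⟨c, hc⟩ := exists_coeff he lam
    have h1 : (θ.iso.hom ≫ KoszTw.tensorMap (C.K.d (q + 1) q) (𝟙 (CohB1.tensorPow L (q + 1)))).app U.1 w =
        TMul.tm (c • untw he C D q ((D.K.d (q + 1) q).app U.1 w)) (TMul.pw e (q + 1)) := by
      rw [Scheme.Modules.Hom.comp_app, ConcreteCategory.comp_apply]
      rw [app_iso he C D θ, ← d_untw he C D lam htri hc]
      exact KoszTw.tensorMap_tmul _ _ _ _ _
    rw [h1]
    constructor
    · intro h
      refine (untw he C D q).injective ?_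
      rw [map_zero]
      refine KosTwist.smul_inj_of_basis ((b.exteriorPower q).map (C.loc q U).symm)
        (mem_nonZeroDivisors_coeff lam hc) ?_
      refine Eq.trans ?_ (smul_zero c).symm
      exact (tm_bij _ (TMul.isGen_pw he (q + 1))).1 (h.trans (TMul.zero_tm _).symm)
    · intro h
      rw [h, map_zero, smul_zero, TMul.zero_tm]
  exact le_antisymm (kernelSubobject_le _ _ hS fun U hU w h => (key U hU w).1 h)
    (kernelSubobject_le _ _ hS fun U hU w h => (key U hU w).2 h)

end Groth.Agent.S16093
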