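import Groth.Statements.S16099
import Groth.Agent.FunFld.Extra

set_option autoImplicit false
universe u
open FunFld

namespace Groth.Agent.S16099

/-- For a function field `K/k` of one variable of genus `g` and any place `P`, the `k`-space `K /
(O_{\{P\}} + O_P)` is finite-dimensional of dimension `g` (the number of Weierstrass gaps when `P`
is rational), where `O_{\{P\}}` is the ring of elements of `K` integral at every place other than
`P` and `O_P` is the valuation ring of `P` (written as the elements integral at every place outside
the complement of `\{P\}`). (The published example is for a curve over an algebraically closed field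
and is stated with completions at `P`; this is the equivalent form inside `K`, over any field `k`
algebraically closed in `K`.) -/
theorem result (k K : Type u) [Field k] [Field K]
    [Algebra k K] (hK : FunFld.IsFunctionField k K) (P : FunFld.Place k K) :
    FiniteDimensional k (K ⧸ (Subalgebra.toSubmodule (AdFn.SInt ({P} : Set (FunFld.Place k K))) ⊔
        Subalgebra.toSubmodule (AdFn.SInt (({P} : Set (FunFld.Place k K))ᶜ)))) ∧
    Module.finrank k (K ⧸ (Subalgebra.toSubmodule (AdFn.SInt ({P} : Set (FunFld.Place k K))) ⊔
        Subalgebra.toSubmodule (AdFn.SInt (({P} : Set (FunFld.Place k K))ᶜ)))) = FunFld.genus k K := by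
  open Groth.Agent.FunFld in
  classical
  let emb : K →ₗ[k] ↥(adele k K) :=
    { toFun := fun x => ⟨fun Q => if Q = P then x else 0, Filter.eventually_cofinite.2
        ((Set.finite_singleton P).subset fun Q hQ => by
          by_contra hc; exact hQ (by simp [(show Q ≠ P from hc)]))⟩
      map_add' := fun x y => Subtype.ext (funext fun Q => by
        show (if Q = P then x + y else 0) = (if Q = P then x else 0) + (if Q = P then y else 0)
        split_ifs <;> simp)
      map_smul' := fun c x => Subtype.ext (funext fun Q => by
        show (if Q = P then c • x else 0) = c • (if Q = P then x else 0)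
        split_ifs <;> simp) }
  let φ : K →ₗ[k] ↥(adele k K) ⧸ ADK (0 : Divisor k K) := (ADK (0 : Divisor k K)).mkQ ∘ₗ emb
  have hker : LinearMap.ker φ = Subalgebra.toSubmodule (AdFn.SInt ({P} : Set (FunFld.Place k K))) ⊔
      Subalgebra.toSubmodule (AdFn.SInt (({P} : Set (FunFld.Place k K))ᶜ)) := by
    ext x
    rw [LinearMap.mem_ker]
    show Submodule.Quotient.mk (emb x) = 0 ↔ _
    rw [Submodule.Quotient.mk_eq_zero]
    show (fun Q => if Q = P then x else 0) ∈ AD (0 : Divisor k K) ⊔ LinearMap.range (diag k K) ↔ _
    rw [Submodule.mem_sup, Submodule.mem_sup]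
    constructor
    · rintro ⟨b, hb, _, ⟨z, rfl⟩, h⟩
      refine ⟨z, fun Q hQ => ?_, x - z, fun Q hQ => ?_, by abel⟩
      · have e := congrFun h Q
        simp only [Pi.add_apply, if_neg (show Q ≠ P from hQ)] at e
        have hz : z = -(b Q) := eq_neg_of_add_eq_zero_right e
        rw [hz, Valuation.map_neg]
        simpa using hb Q
      · obtain rfl : Q = P := not_not.1 hQ
        have e := congrFun h Q
        simp only [Pi.add_apply, if_true] at e
        rw [← e]
        show Q.1 (b Q + z - z) ≤ 1
        rw [add_sub_cancel_right]
        simpa using hb Q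
    · rintro ⟨z, hz, w, hw, rfl⟩
      refine ⟨fun Q => if Q = P then w else -z, fun Q => ?_, diag k K z, ⟨z, rfl⟩, funext fun Q => ?_⟩
      · dsimp only
        split_ifs with hQ
        · simpa using hw Q (fun h => h hQ)
        · simpa using hz Q hQ
      · show (if Q = P then w else -z) + z = if Q = P then z + w else 0
        split_ifs <;> ring
  obtain ⟨N, hN⟩ := exists_deg_bound hK
  set E : Divisor k K := Finsupp.single P (N.toNat : ℤ)
  have hdeg : N ≤ E.deg := by
    rw [deg_single]
    have h1 : (1 : ℤ) ≤ P.deg := by exact_mod_cast deg_pos hK P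
    have := Int.self_le_toNat N
    nlinarith [Int.natCast_nonneg N.toNat]
  obtain ⟨hfE, heE⟩ := adele_idx hK E
  rw [hN E hdeg, sub_self] at heE
  have hsubE : Subsingleton (↥(adele k K) ⧸ ADK E) := Module.finrank_zero_iff.1 (by exact_mod_cast heE)
  rw [Submodule.Quotient.subsingleton_iff] at hsubE
  have hsurj : Function.Surjective φ := fun q => by
    obtain ⟨a, rfl⟩ := Submodule.Quotient.mk_surjective _ q
    obtain ⟨b, hb, c, hc, hbc⟩ := Submodule.mem_sup.1
      (show (a : Place k K → K) ∈ AD E ⊔ LinearMap.range (diag k K) from (hsubE ▸ Submodule.mem_top : a ∈ ADK E))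
    refine ⟨b P, ?_⟩
    show Submodule.Quotient.mk (emb (b P)) = _
    rw [Submodule.Quotient.eq]
    show (fun Q => if Q = P then b P else 0) - (a : Place k K → K) ∈ AD (0 : Divisor k K) ⊔ LinearMap.range (diag k K)
    refine Submodule.mem_sup.2 ⟨(fun Q => if Q = P then b P else 0) - b, fun Q => ?_, -c, neg_mem hc, ?_⟩
    · show Q.1 ((if Q = P then b P else 0) - b Q) ≤ _
      split_ifs with hQ
      · subst hQ; simp
      · rw [zero_sub, Valuation.map_neg]
        have := hb Q
        simpa [E, Finsupp.single_eq_of_ne hQ] using this
    · rw [← hbc]; abel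
  let e := (Submodule.quotEquivOfEq _ _ hker.symm).trans (φ.quotKerEquivOfSurjective hsurj)
  obtain ⟨hf, he⟩ := adele_idx hK (0 : Divisor k K)
  refine ⟨Module.Finite.equiv e.symm, ?_⟩
  rw [e.finrank_eq]
  rw [delta_zero hK, sub_zero] at he
  exact_mod_cast he

end Groth.Agent.S16099
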