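import Groth.Statements.S16104
import Mathlib

set_option autoImplicit false
universe u v
open LunaSt

namespace Groth.Agent.S16104

/-- Case of local rings. Let φ : A → B be a local homomorphism of Noetherian local rings whose composite
A → B/m_B² is surjective (the first infinitesimal neighbourhoods give a closed immersion), and
assume that A/m_A^(n+1) and B/m_B^(n+1) have the same length for every n (the associated graded
modules of the two maximal ideals have pieces of the same dimension over the common residue field).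
Then for every n the composite A → B/m_B^(n+1) is surjective with kernel m_A^(n+1): φ identifies all
infinitesimal neighbourhoods. (The published statement is for a pointed morphism of Noetherian local
algebraic stacks; its proof reduces to this case of local rings.) -/
theorem result
    (A : Type u) (B : Type v) [CommRing A] [CommRing B] [IsLocalRing A] [IsLocalRing B]
    [IsNoetherianRing A] [IsNoetherianRing B] (φ : A →+* B) [IsLocalHom φ]
    (h1 : Function.Surjective ((Ideal.Quotient.mk (IsLocalRing.maximalIdeal B ^ 2)).comp φ))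
    (hlen : ∀ n : ℕ, Module.length A (A ⧸ IsLocalRing.maximalIdeal A ^ (n + 1)) =
      Module.length B (B ⧸ IsLocalRing.maximalIdeal B ^ (n + 1))) (n : ℕ) :
    Function.Surjective ((Ideal.Quotient.mk (IsLocalRing.maximalIdeal B ^ (n + 1))).comp φ) ∧
      RingHom.ker ((Ideal.Quotient.mk (IsLocalRing.maximalIdeal B ^ (n + 1))).comp φ) =
        IsLocalRing.maximalIdeal A ^ (n + 1) := by
  let mA := IsLocalRing.maximalIdeal A
  let mB := IsLocalRing.maximalIdeal B
  have hφ : ∀ (k : ℕ) (a : A), a ∈ mA ^ k → φ a ∈ mB ^ k := fun k a ha => by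
    have h := Ideal.mem_map_of_mem φ ha
    rw [Ideal.map_pow] at h
    exact Ideal.pow_right_mono (Ideal.map_le_iff_le_comap.2 fun x hx => by
      rw [Ideal.mem_comap]
      exact (IsLocalRing.mem_maximalIdeal _).2 fun hu =>
        (IsLocalRing.mem_maximalIdeal x).1 hx (isUnit_of_map_unit φ x hu)) k h
  have h1' : ∀ b : B, ∃ a, b - φ a ∈ mB ^ 2 := fun b => by
    obtain ⟨a, ha⟩ := h1 (Ideal.Quotient.mk _ b)
    exact ⟨a, Ideal.Quotient.eq.1 ha.symm⟩
  have hm1 : ∀ y ∈ mB, ∃ a ∈ mA, y - φ a ∈ mB ^ 2 := by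
    intro y hy
    obtain ⟨a, ha⟩ := h1' y
    refine ⟨a, (IsLocalRing.mem_maximalIdeal _).2 fun hu => ?_, ha⟩
    have h2 : φ a ∈ mB := by
      have := sub_mem hy (Ideal.pow_le_self (by omega : 2 ≠ 0) ha)
      rwa [sub_sub_cancel] at this
    exact (IsLocalRing.mem_maximalIdeal _).1 h2 (hu.map φ)
  have hpow : ∀ (k : ℕ), ∀ z ∈ mB ^ k, ∃ a ∈ mA ^ k, z - φ a ∈ mB ^ (k + 1) := by
    intro k
    induction k with
    | zero =>
      intro z _
      obtain ⟨a, ha⟩ := h1' z
      exact ⟨a, by simp, by simpa using Ideal.pow_le_self (by omega : 2 ≠ 0) ha⟩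
    | succ k ih =>
      intro z hz
      rw [pow_succ] at hz
      refine Submodule.mul_induction_on hz (fun y hy w hw => ?_) (fun y w hy hw => ?_)
      · obtain ⟨a, ha, ha'⟩ := ih y hy
        obtain ⟨b, hb, hb'⟩ := hm1 w hw
        refine ⟨a * b, by rw [pow_succ]; exact Ideal.mul_mem_mul ha hb, ?_⟩
        rw [show y * w - φ (a * b) = (y - φ a) * w + φ a * (w - φ b) by rw [map_mul]; ring]
        refine add_mem ?_ ?_
        · rw [pow_succ]; exact Ideal.mul_mem_mul ha' hw
        · rw [show k + 1 + 1 = k + 2 from rfl, pow_add]; exact Ideal.mul_mem_mul (hφ k a ha) hb'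
      · obtain ⟨a, ha, ha'⟩ := hy
        obtain ⟨b, hb, hb'⟩ := hw
        exact ⟨a + b, add_mem ha hb, by rw [map_add, add_sub_add_comm]; exact add_mem ha' hb'⟩
  have hsurj : ∀ (k : ℕ) (b : B), ∃ a, b - φ a ∈ mB ^ (k + 1) := by
    intro k
    induction k with
    | zero =>
      intro b
      obtain ⟨a, ha⟩ := h1' b
      exact ⟨a, by simpa using Ideal.pow_le_self (by omega : 2 ≠ 0) ha⟩
    | succ k ih =>
      intro b
      obtain ⟨a, ha⟩ := ih b
      obtain ⟨a', -, ha'⟩ := hpow _ _ ha
      exact ⟨a + a', by rw [map_add, ← sub_sub]; exact ha'⟩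
  set ψ := (Ideal.Quotient.mk (mB ^ (n + 1))).comp φ with hψ
  have hψs : Function.Surjective ψ := fun q => by
    obtain ⟨b, rfl⟩ := Ideal.Quotient.mk_surjective q
    obtain ⟨a, ha⟩ := hsurj n b
    exact ⟨a, (Ideal.Quotient.eq.2 ha).symm⟩
  refine ⟨hψs, ?_⟩
  letI : Algebra A B := φ.toAlgebra
  have hle : mA ^ (n + 1) ≤ RingHom.ker ψ := fun a ha => Ideal.Quotient.eq_zero_iff_mem.2 (hφ _ a ha)
  have e1 : Module.length A (B ⧸ mB ^ (n + 1)) = Module.length B (B ⧸ mB ^ (n + 1)) := by
    rw [Module.length_eq_of_surjective (R := B ⧸ mB ^ (n + 1)) (S := A) hψs,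
      Module.length_eq_of_surjective (R := B ⧸ mB ^ (n + 1)) (S := B) Ideal.Quotient.mk_surjective]
  let g : (A ⧸ mA ^ (n + 1)) →ₗ[A] B ⧸ mB ^ (n + 1) :=
    Submodule.liftQ _ (Algebra.linearMap A _) hle
  have hg : Function.Surjective g := fun q => by
    obtain ⟨a, rfl⟩ := hψs q
    exact ⟨Submodule.Quotient.mk a, rfl⟩
  have hlen' := Module.length_eq_add_of_exact (LinearMap.ker g).subtype g Subtype.val_injective hg
    (LinearMap.exact_subtype_ker_map g)
  rw [hlen n, e1] at hlen'
  have hfin : Module.length B (B ⧸ mB ^ (n + 1)) ≠ ⊤ := by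
    haveI : IsArtinianRing (B ⧸ mB ^ (n + 1)) := IsLocalRing.quotient_artinian_of_mem_minimalPrimes_of_isLocalRing _ (by
      refine ⟨⟨(IsLocalRing.maximalIdeal.isMaximal B).isPrime, Ideal.pow_le_self (by omega)⟩, fun q hq _ => ?_⟩
      exact hq.1.le_of_pow_le hq.2)
    rw [Module.length_eq_of_surjective (R := B ⧸ mB ^ (n + 1)) (S := B) Ideal.Quotient.mk_surjective]
    exact Module.length_ne_top
  have hk : Module.length A (LinearMap.ker g) = 0 := by
    obtain ⟨d, hd⟩ := ENat.ne_top_iff_exists.1 hfin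
    rw [← hd] at hlen'
    cases h : Module.length A (LinearMap.ker g) with
    | top => rw [h] at hlen'; simp at hlen'
    | coe e => rw [h] at hlen'; norm_cast at hlen' ⊢; omega
  rw [Module.length_eq_zero_iff] at hk
  refine le_antisymm (fun a ha => ?_) hle
  have h2 : (⟨Submodule.Quotient.mk a, ha⟩ : LinearMap.ker g) = 0 := Subsingleton.elim _ _
  exact (Submodule.Quotient.mk_eq_zero _).1 (congrArg Subtype.val h2)

end Groth.Agent.S16104
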