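import Groth.Statements.S16106
import Groth.Agent.Popescu.EtaleNbhd
import Groth.Agent.ColimFP.Basic

set_option autoImplicit false
universe u
open CategoryTheory CategoryTheory.Limits
open LunaSt

namespace Groth.Agent.S16106

/-- Local form. Let A be a local G-ring, that is a Noetherian local ring all of whose local rings have
regular completion maps (for instance an excellent local ring), with maximal ideal m and m-adic
completion Â. Let F be a functor from A-algebras (commutative rings under A) to sets preserving
filtered colimits, let ξ ∈ F(Â) and N ≥ 0. Then there exist an étale A-algebra A′, a map of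
A-algebras φ : A′ → A/m^(N+1) (an étale neighbourhood of the closed point with trivial residue field
extension) and ξ′ ∈ F(A′) such that ξ′ and ξ have the same image in F(A/m^(N+1)); here π is the
A-algebra map Â → A/m^(N+1), pinned by its underlying ring map. (The published statement is for any
point of the spectrum of a G-ring, with a functor locally of finite presentation on all schemes over
it; its proof first localizes at the point, and only the values of the functor on affine schemes
enter, so the row states this local form for a functor on A-algebras preserving filtered colimits.) -/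
theorem result (A : Type u) [CommRing A] [IsLocalRing A]
    (hG : CAlg.IsGRing A)
    (F : Under (CommRingCat.of A) ⥤ Type u)
    (hF : ∀ (J : Type u) [SmallCategory J] [IsFiltered J], PreservesColimitsOfShape J F)
    (N : ℕ)
    (π : Under.mk (CommRingCat.ofHom (algebraMap A
        (AdicCompletion (IsLocalRing.maximalIdeal A) A))) ⟶
      Under.mk (CommRingCat.ofHom (algebraMap A (A ⧸ IsLocalRing.maximalIdeal A ^ (N + 1)))))
    (hπ : π.right = CommRingCat.ofHom
      (AdicCompletion.evalₐ (IsLocalRing.maximalIdeal A) (N + 1) :
        AdicCompletion (IsLocalRing.maximalIdeal A) A →ₐ[A]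
          A ⧸ IsLocalRing.maximalIdeal A ^ (N + 1)).toRingHom)
    (ξ : F.obj (Under.mk (CommRingCat.ofHom (algebraMap A
        (AdicCompletion (IsLocalRing.maximalIdeal A) A))))) :
    ∃ (A' : Type u) (_ : CommRing A') (_ : Algebra A A') (_ : Algebra.Etale A A')
      (φ : Under.mk (CommRingCat.ofHom (algebraMap A A')) ⟶
        Under.mk (CommRingCat.ofHom (algebraMap A (A ⧸ IsLocalRing.maximalIdeal A ^ (N + 1)))))
      (ξ' : F.obj (Under.mk (CommRingCat.ofHom (algebraMap A A')))),
      F.map φ ξ' = F.map π ξ := by
  haveI := hG.1
  haveI := Groth.Agent.Popescu.isLocalRing_quotient_pow (A := A) N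
  haveI := Groth.Agent.FormalStalk.isNoetherianRing (IsLocalRing.maximalIdeal A)
  haveI := hF (ColimFP.Idx A (AdicCompletion (IsLocalRing.maximalIdeal A) A))
  obtain ⟨i, y, hy⟩ := Types.jointly_surjective_of_isColimit
    (isColimitOfPreserves F (ColimFP.isColimit (R := A) (A := AdicCompletion (IsLocalRing.maximalIdeal A) A))) ξ
  obtain ⟨E, _, _, _, w, ψ, hw⟩ := Groth.Agent.Popescu.exists_etale_point
    (Groth.Agent.S0600.result A hG (IsLocalRing.maximalIdeal A))
    (AdicCompletion.evalₐ (IsLocalRing.maximalIdeal A) (N + 1))
    (Groth.Agent.Popescu.lifts_of_surjective Ideal.Quotient.mk_surjective)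
    (ColimFP.alg i) (ColimFP.finitePresentation i) (ColimFP.toA i)
  let φ : Under.mk (CommRingCat.ofHom (algebraMap A E)) ⟶
      Under.mk (CommRingCat.ofHom (algebraMap A (A ⧸ IsLocalRing.maximalIdeal A ^ (N + 1)))) :=
    Under.homMk (CommRingCat.ofHom ψ.toRingHom) (CommRingCat.hom_ext (RingHom.ext fun r => ψ.commutes r))
  let g : (ColimFP.diag A (AdicCompletion (IsLocalRing.maximalIdeal A) A)).obj i ⟶
      Under.mk (CommRingCat.ofHom (algebraMap A E)) :=
    Under.homMk (CommRingCat.ofHom w.toRingHom) (CommRingCat.hom_ext (RingHom.ext fun r => w.commutes r))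
  refine ⟨E, inferInstance, inferInstance, inferInstance, φ, F.map g y, ?_⟩
  have hcomp : g ≫ φ = (ColimFP.cocone A (AdicCompletion (IsLocalRing.maximalIdeal A) A)).ι.app i ≫ π := by
    refine Under.UnderMorphism.ext (CommRingCat.hom_ext (RingHom.ext fun z => ?_))
    show ψ (w z) = π.right (ColimFP.toA i z)
    rw [hπ]
    exact AlgHom.congr_fun hw z
  rw [← hy]
  show (F.map g ≫ F.map φ) y = (F.map _ ≫ F.map π) y
  rw [← F.map_comp, hcomp]
  exact ConcreteCategory.congr_hom (F.map_comp _ π) y

end Groth.Agent.S16106
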