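import Groth.Statements.S16111
import Groth.Agent.Sumihiro.Main
import Groth.Agent.TMul.RelAmple

set_option autoImplicit false
universe u
open CategoryTheory MonoidalCategory CartesianMonoidalCategory MonObj GrpObj AlgebraicGeometry CategoryTheory.Limits
open AlgGrp

namespace Groth.Agent.S16111

/-- Over an algebraically closed field k, let G be a connected linear algebraic group (an affine,
smooth, connected k-group scheme) acting on a normal irreducible variety X (an integral normal
separated k-scheme of finite type). Then X is covered by G-stable quasi-projective open subschemes: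
every point x of X lies in an open U with σ⁻¹U = p₂⁻¹U in G × X (σ the action, p₂ the projection)
such that U is quasi-projective over k. (The published conclusion is a cover by G-quasi-projective
opens, i.e. opens admitting an equivariant immersion into the projective space of a
finite-dimensional G-module; such opens are in particular G-stable and quasi-projective, which is
what is stated here.) -/
theorem result (k : Type u) [Field k] [IsAlgClosed k]
    (G X : Over (Spec (CommRingCat.of k))) [GrpObj G] [IsAffine G.left] [Smooth G.hom] [ConnectedSpace ↥G.left]
    [IsIntegral X.left] [IsSeparated X.hom] [LocallyOfFiniteType X.hom] [QuasiCompact X.hom]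
    (hX : Pi1.IsNormalScheme X.left) (a : AlgGrp.Action G X) (x : ↥X.left) :
    ∃ U : X.left.Opens, x ∈ U ∧ a.act.left ⁻¹ᵁ U = (snd G X).left ⁻¹ᵁ U ∧
      RelProj.IsQuasiProjective (U.ι ≫ X.hom) := by
  haveI : IsLocallyNoetherian X.left := LocallyOfFiniteType.isLocallyNoetherian X.hom
  haveI : CompactSpace X.left := QuasiCompact.compactSpace_of_compactSpace X.hom
  haveI : IsNoetherian X.left := ⟨⟩
  obtain ⟨U, hxU, hUst, L, hL⟩ := Groth.Agent.Sumihiro.exists_stable_ample hX a x
  haveI : CompactSpace (U : Scheme.{u}) := hL.2.1
  haveI : QuasiCompact (U.ι ≫ X.hom) := (quasiCompact_iff_compactSpace _).2 inferInstance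
  exact ⟨U, hxU, hUst, inferInstance, inferInstance, L, (TMul.isRelAmple_iff_isAmple).2 hL⟩

end Groth.Agent.S16111
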