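import Groth.Statements.S16112
import Groth.Agent.Sumihiro.TorusMain

set_option autoImplicit false
universe u
open CategoryTheory MonoidalCategory CartesianMonoidalCategory MonObj GrpObj AlgebraicGeometry CategoryTheory.Limits
open AlgGrp

namespace Groth.Agent.S16112

/-- Over an algebraically closed field k, let T be a torus (a k-group scheme isomorphic to the
diagonalizable group of ℤ^r for some r) acting on a normal irreducible variety X (an integral normal
separated k-scheme of finite type). Then X is covered by T-stable affine open subschemes: every
point x of X lies in an affine open U with σ⁻¹U = p₂⁻¹U in T × X (σ the action, p₂ the projection).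
(The published statement takes X normal and possibly reducible; it is stated here for irreducible X,
the case its argument reduces to.) -/
theorem result (k : Type u) [Field k] [IsAlgClosed k]
    (T X : Over (Spec (CommRingCat.of k))) [GrpObj T] (r : ℕ) (hT : Red.IsSplitTorusWith (Fin r → ℤ) T)
    [IsIntegral X.left] [IsSeparated X.hom] [LocallyOfFiniteType X.hom] [QuasiCompact X.hom]
    (hX : Pi1.IsNormalScheme X.left) (a : AlgGrp.Action T X) (x : ↥X.left) :
    ∃ U : X.left.Opens, x ∈ U ∧ IsAffineOpen U ∧ a.act.left ⁻¹ᵁ U = (snd T X).left ⁻¹ᵁ U := by
  exact Groth.Agent.Sumihiro.exists_stable_affine hT hX a x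

end Groth.Agent.S16112
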