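import Groth.Statements.S16115
import Groth.Agent.Rosenlicht.Product
import Groth.Agent.SmoothRed.Scheme
import Groth.Agent.S16114

set_option autoImplicit false
universe u
open CategoryTheory MonoidalCategory CartesianMonoidalCategory MonObj GrpObj AlgebraicGeometry CategoryTheory.Limits
open AlgGrp

namespace Groth.Agent.S16115

/-- Over an algebraically closed field k, let G be a connected algebraic group (a smooth connected
k-group scheme of finite type) and X an irreducible variety (an integral separated k-scheme of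
finite type). Then every unit f of Γ(G × X, O) is of the form p₁^*(χ) · p₂^*(u) with χ a character
of G (a unit of Γ(G, O_G) with e^*(χ) = 1 and m^*(χ) = p₁^*(χ) · p₂^*(χ)) and u a unit of Γ(X, O_X).
(The published statement asserts that the product map from characters of G times units of X to units
of G × X is an isomorphism; injectivity is immediate by restriction to e × X and is not restated.) -/
theorem result (k : Type u) [Field k] [IsAlgClosed k]
    (G X : Over (Spec (CommRingCat.of k))) [GrpObj G] [Smooth G.hom] [QuasiCompact G.hom] [ConnectedSpace ↥G.left]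
    [IsIntegral X.left] [IsSeparated X.hom] [LocallyOfFiniteType X.hom] [QuasiCompact X.hom]
    (f : Γ((G ⊗ X).left, ⊤)) (hf : IsUnit f) :
    ∃ (χ : Γ(G.left, ⊤)) (u : Γ(X.left, ⊤)), IsUnit χ ∧ η[G].left.appTop χ = 1 ∧
      μ[G].left.appTop χ = (fst G G).left.appTop χ * (snd G G).left.appTop χ ∧ IsUnit u ∧
      f = (fst G X).left.appTop χ * (snd G X).left.appTop u := by
  haveI : IrreducibleSpace ↥(Spec (CommRingCat.of k)) := inferInstanceAs (IrreducibleSpace (PrimeSpectrum k))
  haveI hgi := Groth.Agent.GrpField.geometricallyIrreducible_of_connected G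
  haveI : UniversallyOpen G.hom := inferInstance
  haveI : IrreducibleSpace ↥G.left := GeometricallyIrreducible.irreducibleSpace G.hom G.hom.isOpenMap
  haveI : AlgebraicGeometry.IsReduced G.left := Groth.Agent.SmoothRed.isReduced_of_smooth_scheme G.hom
  haveI : IsIntegral G.left := isIntegral_of_irreducibleSpace_of_isReduced _
  obtain ⟨y0⟩ := Groth.Agent.Rosenlicht.exists_point X
  have h := Groth.Agent.Rosenlicht.unit_mul_const η[G] y0 f hf
  obtain ⟨u, hu⟩ := hf
  have hc : ∀ {Z W : Over (Spec (CommRingCat.of k))} (p : Z ⟶ W) (q : W ⟶ G ⊗ X) (g : Γ((G ⊗ X).left, ⊤)),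
        p.left.appTop (q.left.appTop g) = (p ≫ q).left.appTop g := fun p q g => rfl
  let χ : Γ(G.left, ⊤) := (lift (𝟙 G) (toUnit G ≫ y0)).left.appTop f *
    (toUnit G ≫ lift η[G] y0).left.appTop (↑u⁻¹ : Γ((G ⊗ X).left, ⊤))
  have hχ : IsUnit χ := ((hu ▸ u.isUnit).map _).mul (u⁻¹.isUnit.map _)
  have he : η[G].left.appTop χ = 1 := by
    rw [map_mul, hc, hc, comp_lift, Category.comp_id, comp_toUnit_assoc, comp_toUnit_assoc,
      Subsingleton.elim (toUnit (𝟙_ (Over (Spec (CommRingCat.of k))))) (𝟙 _), Category.id_comp, Category.id_comp,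
      ← map_mul, ← hu, u.mul_inv, map_one]
  refine ⟨χ, (lift (toUnit X ≫ η[G]) (𝟙 X)).left.appTop f, hχ, he,
    Groth.Agent.S16114.result k G χ hχ he, (hu ▸ u.isUnit).map _, ?_⟩
  show f = (fst G X).left.appTop ((lift (𝟙 G) (toUnit G ≫ y0)).left.appTop f *
    (toUnit G ≫ lift η[G] y0).left.appTop (↑u⁻¹ : Γ((G ⊗ X).left, ⊤))) * _
  rw [map_mul, hc, hc, hc]
  simp only [comp_lift, Category.comp_id, comp_toUnit_assoc] at h ⊢
  rw [mul_right_comm, ← h, _root_.mul_assoc, ← map_mul, ← hu, u.mul_inv, map_one, _root_.mul_one]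

end Groth.Agent.S16115
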