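import Groth.Statements.S16116
import Groth.Agent.S16115
import Groth.Agent.Rosenlicht.Product

set_option autoImplicit false
universe u
open CategoryTheory MonoidalCategory CartesianMonoidalCategory MonObj GrpObj AlgebraicGeometry CategoryTheory.Limits
open AlgGrp

namespace Groth.Agent.S16116

/-- Over an algebraically closed field k, let G be a connected algebraic group (a smooth connected
k-group scheme of finite type) acting by σ on an irreducible variety X (an integral separated
k-scheme of finite type), and let f be a unit of Γ(X, O_X). Then f is a semi-invariant: there is a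
unique character χ of G (a unit of Γ(G, O_G) with e^*(χ) = 1 and m^*(χ) = p₁^*(χ) · p₂^*(χ)) such
that σ^*(f) = p₁^*(χ) · p₂^*(f) in Γ(G × X, O). -/
theorem result (k : Type u) [Field k] [IsAlgClosed k]
    (G X : Over (Spec (CommRingCat.of k))) [GrpObj G] [Smooth G.hom] [QuasiCompact G.hom] [ConnectedSpace ↥G.left]
    [IsIntegral X.left] [IsSeparated X.hom] [LocallyOfFiniteType X.hom] [QuasiCompact X.hom] (a : AlgGrp.Action G X)
    (f : Γ(X.left, ⊤)) (hf : IsUnit f) :
    ∃! χ : Γ(G.left, ⊤), IsUnit χ ∧ η[G].left.appTop χ = 1 ∧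
      μ[G].left.appTop χ = (fst G G).left.appTop χ * (snd G G).left.appTop χ ∧
      a.act.left.appTop f = (fst G X).left.appTop χ * (snd G X).left.appTop f := by
  have hact : IsUnit (a.act.left.appTop f) := hf.map _
  obtain ⟨χ, v, hχ, he, hm, hv, heq⟩ := Groth.Agent.S16115.result k G X _ hact
  have hc : ∀ {Z W V : Over (Spec (CommRingCat.of k))} (p : Z ⟶ W) (q : W ⟶ V) (g : Γ(V.left, ⊤)),
        p.left.appTop (q.left.appTop g) = (p ≫ q).left.appTop g := fun p q g => rfl
  have hid : ∀ g : Γ(X.left, ⊤), (𝟙 X : X ⟶ X).left.appTop g = g := fun g => by simp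
  have hs : lift (toUnit X ≫ η[G]) (𝟙 X) ≫ a.act = 𝟙 X := by
    rw [show lift (toUnit X ≫ η[G]) (𝟙 X) = lift (toUnit X) (𝟙 X) ≫ (η[G] ▷ X) by simp, Category.assoc, a.one_act]
    simp
  have hfv : f = v := by
    have h := congrArg (lift (toUnit X ≫ η[G]) (𝟙 X)).left.appTop heq
    rw [map_mul, hc, hc, hc, lift_fst, lift_snd, hs, hid, hid, ← hc, he, map_one, _root_.one_mul] at h
    exact h
  subst hfv
  refine ⟨χ, ⟨hχ, he, hm, heq⟩, fun χ' ⟨_, he', _, heq'⟩ => ?_⟩
  obtain ⟨x0⟩ := Groth.Agent.Rosenlicht.exists_point X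
  have h := congrArg (lift (𝟙 G) (toUnit G ≫ x0)).left.appTop (heq'.symm.trans heq)
  rw [map_mul, map_mul, hc, hc, hc, lift_fst, lift_snd] at h
  have hid' : ∀ g : Γ(G.left, ⊤), (𝟙 G : G ⟶ G).left.appTop g = g := fun g => by simp
  rw [hid', hid'] at h
  exact (hf.map _).mul_right_cancel h

end Groth.Agent.S16116
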