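import Groth.Statements.S16120
import Groth.Agent.DivDescMod.AffineOpen
import Groth.Agent.Rosenlicht.Product
import Groth.Agent.Assoc.Reduced
import Groth.Agent.TMul.Pullback
import Mathlib

set_option autoImplicit false
universe u
open CategoryTheory MonoidalCategory CartesianMonoidalCategory MonObj GrpObj AlgebraicGeometry CategoryTheory.Limits
open PicGrp

namespace Groth.Agent.S16120

open Groth.Agent

theorem pullCl_mulCl {A B : Scheme.{u}} (g : A ⟶ B) (c d : PicF.Cl B) :
    PicF.pullCl g (PicGrp.mulCl c d) = PicGrp.mulCl (PicF.pullCl g c) (PicF.pullCl g d) := by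
  induction c using Quot.ind with | mk L => ?_
  induction d using Quot.ind with | mk M => ?_
  obtain ⟨e⟩ := TMul.nonempty_pullTensorIso g L M
  exact Quot.sound ⟨e.symm⟩

theorem pullCl_unit {A B : Scheme.{u}} (g : A ⟶ B) :
    PicF.pullCl g (PicF.cl (Coh.structureModule B)) = PicF.cl (Coh.structureModule A) :=
  Quot.sound ⟨PicLoc.pullbackStructureIso g⟩

variable {k : Type u} [Field k]

theorem pullCl_of_point {A : Scheme.{u}} (g : A ⟶ Spec (CommRingCat.of k)) {c : PicF.Cl (Spec (CommRingCat.of k))}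
    (hc : PicF.IsInvertibleCl c) : PicF.pullCl g c = PicF.cl (Coh.structureModule A) := by
  obtain ⟨L, rfl, hL⟩ := hc
  rw [show PicF.cl L = PicF.cl (Coh.structureModule (Spec (CommRingCat.of k))) from
    Quot.sound (DivDescMod.nonempty_trivial_of_openImmersion (𝟙 (Spec (CommRingCat.of k))) hL)]
  exact pullCl_unit g

variable [IsAlgClosed k]

theorem geometricallyIntegral (Y : Over (Spec (CommRingCat.of k))) [IsIntegral Y.left] [LocallyOfFiniteType Y.hom] :
    GeometricallyIntegral Y.hom := by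
  haveI := Rosenlicht.geometricallyIrreducible Y
  haveI : GeometricallyReduced Y.hom := ⟨fun L _ y Z a b h => by
    haveI : IsReduced (pullback Y.hom y) := Assoc.isReduced_pullback k Y.hom y
    exact isReduced_of_isOpenImmersion h.isoPullback.hom⟩
  exact GeometricallyIntegral.of_geometricallyReduced_of_geometricallyIrreducible Y.hom

/-- Over an algebraically closed field k, let X and Y be normal irreducible varieties (integral normal
separated k-schemes of finite type) and assume X rational: some nonempty open subscheme of X is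
isomorphic over k to an open subscheme of an affine space 𝔸ⁿ_k. Assume the Picard group laws on X, Y
and X × Y, with pullback along the two projections multiplicative. Then the map Pic(X) × Pic(Y) →
Pic(X × Y), (c, d) ↦ p₁^*(c) · p₂^*(d), is bijective. (The published companion assertion on divisor
class groups is not stated here.) -/
theorem result (k : Type u) [Field k] [IsAlgClosed k]
    (X Y : Over (Spec (CommRingCat.of k))) [IsIntegral X.left] [IsSeparated X.hom] [LocallyOfFiniteType X.hom] [QuasiCompact X.hom]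
    [IsIntegral Y.left] [IsSeparated Y.hom] [LocallyOfFiniteType Y.hom] [QuasiCompact Y.hom]
    (hX : Pi1.IsNormalScheme X.left) (hY : Pi1.IsNormalScheme Y.left)
    (hrat : ∃ (U : X.left.Opens) (n : ℕ) (V : (𝔸(ULift.{u} (Fin n); Spec (CommRingCat.of k))).Opens)
      (e : (U : Scheme.{u}) ≅ (V : Scheme.{u})), (U : Set ↥X.left).Nonempty ∧
        e.hom ≫ V.ι ≫ (𝔸(ULift.{u} (Fin n); Spec (CommRingCat.of k)) ↘ Spec (CommRingCat.of k)) = U.ι ≫ X.hom)
    [PicGrp.Law X.left] [PicGrp.Law Y.left] [PicGrp.Law (X ⊗ Y).left]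
    (h₁ : PicGrp.PullMul (fst X Y).left) (h₂ : PicGrp.PullMul (snd X Y).left) :
    Function.Bijective (fun cd : PicLoc.PicSet X.left × PicLoc.PicSet Y.left =>
      PicGrp.pullHom (fst X Y).left h₁ cd.1 * PicGrp.pullHom (snd X Y).left h₂ cd.2) := by
  classical
  obtain ⟨U, n, V, e, hne, hcomm⟩ := hrat
  let sk := Spec (CommRingCat.of k)
  haveI : Nonempty ↥Y.left := inferInstance
  haveI : Nonempty ↥X.left := inferInstance
  obtain ⟨x0⟩ := Groth.Agent.Rosenlicht.exists_point X
  obtain ⟨y0⟩ := Groth.Agent.Rosenlicht.exists_point Y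
  let p₁ : (X ⊗ Y).left ⟶ X.left := pullback.fst X.hom Y.hom
  let p₂ : (X ⊗ Y).left ⟶ Y.left := pullback.snd X.hom Y.hom
  let sX : X.left ⟶ (X ⊗ Y).left := pullback.lift (𝟙 X.left) (X.hom ≫ y0.left)
    (by rw [Category.assoc, Over.w y0]; simp)
  let sY : Y.left ⟶ (X ⊗ Y).left := pullback.lift (Y.hom ≫ x0.left) (𝟙 Y.left)
    (by rw [Category.assoc, Over.w x0]; simp)
  have hs11 : sX ≫ p₁ = 𝟙 _ := pullback.lift_fst _ _ _
  have hs12 : sX ≫ p₂ = X.hom ≫ y0.left := pullback.lift_snd _ _ _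
  have hs21 : sY ≫ p₁ = Y.hom ≫ x0.left := pullback.lift_fst _ _ _
  have hs22 : sY ≫ p₂ = 𝟙 _ := pullback.lift_snd _ _ _
  have hval : ∀ cd : PicLoc.PicSet X.left × PicLoc.PicSet Y.left,
      (PicGrp.pullHom (fst X Y).left h₁ cd.1 * PicGrp.pullHom (snd X Y).left h₂ cd.2).1 =
        PicGrp.mulCl (PicF.pullCl p₁ cd.1.1) (PicF.pullCl p₂ cd.2.1) := fun cd => by
    rw [PicGrp.mul_val, PicGrp.pullHom_apply_val, PicGrp.pullHom_apply_val]
    rfl
  have hfst : ∀ c : PicLoc.PicSet X.left × PicLoc.PicSet Y.left,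
      PicF.pullCl sX (PicGrp.mulCl (PicF.pullCl p₁ c.1.1) (PicF.pullCl p₂ c.2.1)) = c.1.1 := fun c => by
    rw [pullCl_mulCl, ← Groth.Agent.PicRelBC.pullCl_comp, ← Groth.Agent.PicRelBC.pullCl_comp, hs11, hs12,
      Groth.Agent.PicRelBC.pullCl_id, Groth.Agent.PicRelBC.pullCl_comp,
      pullCl_of_point X.hom (PicLoc.isInvertibleCl_pullCl y0.left c.2.2), ← PicGrp.one_val, ← PicGrp.mul_val,
      _root_.mul_one]
  have hsnd : ∀ c : PicLoc.PicSet X.left × PicLoc.PicSet Y.left,
      PicF.pullCl sY (PicGrp.mulCl (PicF.pullCl p₁ c.1.1) (PicF.pullCl p₂ c.2.1)) = c.2.1 := fun c => by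
    rw [pullCl_mulCl, ← Groth.Agent.PicRelBC.pullCl_comp, ← Groth.Agent.PicRelBC.pullCl_comp, hs21, hs22,
      Groth.Agent.PicRelBC.pullCl_id, Groth.Agent.PicRelBC.pullCl_comp,
      pullCl_of_point Y.hom (PicLoc.isInvertibleCl_pullCl x0.left c.1.2), ← PicGrp.one_val, ← PicGrp.mul_val,
      _root_.one_mul]
  refine ⟨fun a b hab => ?_, fun l => ?_⟩
  · have h := congrArg Subtype.val hab
    simp only [hval] at h
    exact Prod.ext (Subtype.ext (by rw [← hfst a, h, hfst b])) (Subtype.ext (by rw [← hsnd a, h, hsnd b]))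
  haveI : IsNoetherian sk := inferInstance
  haveI : IsLocallyNoetherian X.left := LocallyOfFiniteType.isLocallyNoetherian X.hom
  haveI : IsLocallyNoetherian Y.left := LocallyOfFiniteType.isLocallyNoetherian Y.hom
  haveI : CompactSpace Y.left := QuasiCompact.compactSpace_of_compactSpace Y.hom
  haveI : IsNoetherian Y.left := {}
  -- the part over the rational open
  let W : ((X ⊗ Y).left).Opens := p₁ ⁻¹ᵁ U
  let a := 𝔸(ULift.{u} (Fin n); sk) ↘ sk
  haveI : Nonempty (V : Scheme.{u}) := ⟨e.hom ⟨hne.choose, hne.choose_spec⟩⟩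
  haveI : LocallyOfFiniteType (Over.mk (V.ι ≫ a)).hom := inferInstanceAs (LocallyOfFiniteType (V.ι ≫ a))
  haveI : Nonempty ↥(Over.mk (V.ι ≫ a)).left := inferInstanceAs (Nonempty (V : Scheme.{u}))
  obtain ⟨v⟩ := Groth.Agent.Rosenlicht.exists_point (Over.mk (V.ι ≫ a))
  have hv : v.left ≫ V.ι ≫ a = 𝟙 sk := Over.w v
  have hW : IsPullback (W.ι ≫ p₂) ((p₁ ∣_ U) ≫ e.hom) Y.hom (V.ι ≫ a) := by
    have h1 : IsPullback W.ι (p₁ ∣_ U) p₁ U.ι := (isPullback_morphismRestrict p₁ U).flip
    have h2 : IsPullback p₂ p₁ Y.hom X.hom := (IsPullback.of_hasPullback X.hom Y.hom).flip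
    have h3 := h1.paste_horiz h2
    exact IsPullback.of_iso h3 (Iso.refl _) (Iso.refl _) e (Iso.refl _) (by simp) (by simp) (by simp)
      (by simp only [Iso.refl_hom, Category.comp_id]; exact hcomm.symm)
  let i := hW.isoPullback
  obtain ⟨c₀, ⟨hc₀, hc₀e⟩, -⟩ := Groth.Agent.DivDescMod.pullCl_bijective (S := sk) (U := V) v.left hv Y.hom hY
    (PicF.pullCl i.inv (PicF.pullCl W.ι l.1))
    (PicLoc.isInvertibleCl_pullCl _ (PicLoc.isInvertibleCl_pullCl _ l.2))
  let d : PicLoc.PicSet Y.left := ⟨c₀, hc₀⟩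
  have hl : PicF.pullCl W.ι l.1 = PicF.pullCl (W.ι ≫ p₂) d.1 := by
    have h := congrArg (PicF.pullCl i.hom) hc₀e
    rw [← Groth.Agent.PicRelBC.pullCl_comp, ← Groth.Agent.PicRelBC.pullCl_comp i.hom i.inv, i.hom_inv_id,
      Groth.Agent.PicRelBC.pullCl_id, hW.isoPullback_hom_fst] at h
    exact h.symm
  let l' : PicLoc.PicSet (X ⊗ Y).left := l * PicGrp.pullHom (snd X Y).left h₂ d⁻¹
  have hl' : PicF.pullCl W.ι l'.1 = PicF.cl (Coh.structureModule (W : Scheme.{u})) := by
    rw [PicGrp.mul_val, pullCl_mulCl, hl, PicGrp.pullHom_apply_val,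
      show (snd X Y).left = p₂ from rfl, ← Groth.Agent.PicRelBC.pullCl_comp, ← pullCl_mulCl, ← PicGrp.mul_val,
      mul_inv_cancel, PicGrp.one_val, pullCl_unit]
  -- descend along the first projection
  haveI := geometricallyIntegral Y
  haveI : GeometricallyIntegral p₁ := inferInstanceAs (GeometricallyIntegral (pullback.fst X.hom Y.hom))
  haveI : Flat Y.hom := inferInstance
  haveI : Flat p₁ := inferInstanceAs (Flat (pullback.fst X.hom Y.hom))
  haveI : QuasiCompact p₁ := inferInstanceAs (QuasiCompact (pullback.fst X.hom Y.hom))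
  haveI : LocallyOfFiniteType p₁ := inferInstanceAs (LocallyOfFiniteType (pullback.fst X.hom Y.hom))
  haveI : IsLocallyNoetherian (X ⊗ Y).left := LocallyOfFiniteType.isLocallyNoetherian p₁
  haveI : Surjective p₁ := inferInstance
  obtain ⟨L', hL'e, hL'⟩ := l'.2
  obtain ⟨M, hM, ⟨eM⟩⟩ := Groth.Agent.DivDescMod.exists_invertible (f := p₁) (Or.inl inferInstance) hX
    (fun x _ => GeometricallyIntegral.geometrically_isIntegral _ _ _ (.of_hasPullback _ _)) hL'
    (fun pt hpt => Nonempty.some (by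
      have hptU : pt ∈ U := by
        obtain rfl : genericPoint ↥X.left = pt := hpt _ ((genericPoint_spec ↥X.left).specializes trivial)
        exact ((genericPoint_spec ↥X.left).mem_open_set_iff U.2).2 (by simpa using hne)
      have hr : Set.range (p₁.fiberι pt) ⊆ Set.range W.ι := by
        rw [Scheme.Opens.range_ι, p₁.range_fiberι]
        intro z hz
        show p₁ z ∈ U
        rw [show p₁ z = pt from hz]
        exact hptU
      have h := congrArg (PicF.pullCl (IsOpenImmersion.lift W.ι (p₁.fiberι pt) hr)) hl'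
      rw [pullCl_unit, ← Groth.Agent.PicRelBC.pullCl_comp, IsOpenImmersion.lift_fac, ← hL'e] at h
      exact (PicGrp.cl_eq_cl_iff _ _).1 h))
  let c : PicLoc.PicSet X.left := ⟨PicF.cl M, M, rfl, hM⟩
  refine ⟨(c, d), ?_⟩
  have hc : PicGrp.pullHom (fst X Y).left h₁ c = l' := Subtype.ext ((Quot.sound ⟨eM⟩ :
    PicF.cl ((Scheme.Modules.pullback p₁).obj M) = PicF.cl L').trans hL'e)
  show PicGrp.pullHom (fst X Y).left h₁ c * PicGrp.pullHom (snd X Y).left h₂ d = l
  rw [hc, show l' = l * PicGrp.pullHom (snd X Y).left h₂ d⁻¹ from rfl, map_inv]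
  exact inv_mul_cancel_right l _

end Groth.Agent.S16120
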