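import Groth.Statements.S16122
import Groth.Agent.PicFinite.Main

set_option autoImplicit false
universe u
open CategoryTheory MonoidalCategory CartesianMonoidalCategory MonObj GrpObj AlgebraicGeometry CategoryTheory.Limits
open AlgGrp

namespace Groth.Agent.S16122

/-- Over an algebraically closed field k, if G is a connected linear algebraic group (an affine, smooth,
connected k-group scheme), then Pic(G) is finite: there are only finitely many isomorphism classes
of invertible O_G-modules. -/
theorem result (k : Type u) [Field k] [IsAlgClosed k]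
    (G : Over (Spec (CommRingCat.of k))) [GrpObj G] [IsAffine G.left] [Smooth G.hom] [ConnectedSpace ↥G.left] :
    Finite (PicLoc.PicSet G.left) := by
  obtain ⟨⟨A⟩, ⟨e⟩⟩ : (hopfSpec (CommRingCat.of k)).essImage (Grp.mk G) := essImage_hopfSpec.mpr ‹_›
  let a : (Groth.Agent.MTBridge.specGrp k A).X ⟶ G := e.hom.hom.hom
  let b : G ⟶ (Groth.Agent.MTBridge.specGrp k A).X := e.inv.hom.hom
  have hab : a ≫ b = 𝟙 _ := congrArg (fun q => q.hom.hom) e.hom_inv_id
  have hba : b ≫ a = 𝟙 _ := congrArg (fun q => q.hom.hom) e.inv_hom_id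
  haveI : IsIso a := ⟨b, hab, hba⟩
  haveI : IsIso a.left := inferInstanceAs (IsIso ((Over.forget _).map a))
  haveI : IsIso b := ⟨a, hba, hab⟩
  haveI : IsIso b.left := inferInstanceAs (IsIso ((Over.forget _).map b))
  haveI : Smooth ((Spec (CommRingCat.of A)).asOver (Spec (CommRingCat.of k))).hom := by
    rw [← Over.w a]
    exact inferInstanceAs (Smooth (a.left ≫ G.hom))
  haveI : ConnectedSpace ↥((Spec (CommRingCat.of A)).asOver (Spec (CommRingCat.of k))).left :=
    b.left.surjective.connectedSpace b.left.continuous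
  haveI := Groth.Agent.PicFinite.finite_pic (k := k) (A := A)
  refine Finite.of_surjective (fun M : CommRing.Pic A => (⟨PicF.pullCl b.left (Groth.Agent.PicFinite.tau M).1,
    PicLoc.isInvertibleCl_pullCl _ (Groth.Agent.PicFinite.tau M).2⟩ : PicLoc.PicSet G.left)) fun c => ?_
  obtain ⟨M, hM⟩ := Groth.Agent.PicFinite.tau_surjective (⟨PicF.pullCl a.left c.1, PicLoc.isInvertibleCl_pullCl _ c.2⟩ :
    PicLoc.PicSet (Spec (CommRingCat.of A)))
  refine ⟨M, Subtype.ext ?_⟩
  show PicF.pullCl b.left (Groth.Agent.PicFinite.tau M).1 = c.1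
  rw [hM]
  show PicF.pullCl b.left (PicF.pullCl a.left c.1) = c.1
  rw [← PicLoc.pullCl_comp, ← Over.comp_left, hba, Over.id_left, PicLoc.pullCl_id]

end Groth.Agent.S16122
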