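import Groth.Statements.S16126
import Groth.Agent.CentralChar.Basic
import Groth.Agent.MTBridge.FreeAct
import Groth.Agent.HomRep.FieldHom

set_option autoImplicit false
set_option backward.isDefEq.respectTransparency false
set_option linter.style.haveILetI false
set_option synthInstance.maxHeartbeats 400000
set_option maxHeartbeats 1000000
universe u
open CategoryTheory MonoidalCategory CartesianMonoidalCategory MonObj GrpObj AlgebraicGeometry CategoryTheory.Limits
open AlgGrp TensorProduct WithConv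
open Groth.Agent
open scoped CategoryTheory.Obj CategoryTheory.MonObj

namespace Groth.Agent.S16126

/-- Over an algebraically closed field k, let E and G be linear algebraic groups (affine smooth k-group
schemes) with G connected, i : 𝔾_m → E a homomorphism which is a closed immersion with central
image, and f : E → G a flat surjective homomorphism with kernel i (a central extension 1 → 𝔾_m → E →
G → 1). Then there exist a character χ : E → 𝔾_m and an integer n ≥ 1 such that χ ∘ i is the n-th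
power map of 𝔾_m: for every point t of 𝔾_m with values in a k-scheme T, χ(i(t)) = tⁿ in the group of
T-points of 𝔾_m. (The published lemma is stated in a setting where all groups are linear; for a
connected G that is not linear the conclusion can fail.) -/
theorem result (k : Type u) [Field k] [IsAlgClosed k]
    (E G : Over (Spec (CommRingCat.of k))) [GrpObj E] [IsAffine E.left] [Smooth E.hom]
    [GrpObj G] [IsAffine G.left] [Smooth G.hom] [ConnectedSpace ↥G.left]
    (i : Red.Gm (Spec (CommRingCat.of k)) ⟶ E) [IsMonHom i] [IsClosedImmersion i.left]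
    (hcent : ∀ (T : Over (Spec (CommRingCat.of k))) (t : T ⟶ Red.Gm (Spec (CommRingCat.of k))) (g : T ⟶ E),
      (t ≫ i) * g = g * (t ≫ i))
    (f : E ⟶ G) [IsMonHom f] [Flat f.left] [Surjective f.left] (hker : AlgGrp.IsKernel i f) :
    ∃ (χ : E ⟶ Red.Gm (Spec (CommRingCat.of k))) (n : ℕ), IsMonHom χ ∧ 1 ≤ n ∧
      ∀ (T : Over (Spec (CommRingCat.of k))) (t : T ⟶ Red.Gm (Spec (CommRingCat.of k))), (t ≫ i) ≫ χ = t ^ n := by
  classical
  obtain ⟨⟨A⟩, ⟨e⟩⟩ : (hopfSpec (CommRingCat.of k)).essImage (Grp.mk E) := essImage_hopfSpec.mpr ‹_›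
  obtain ⟨d⟩ := MTBridge.nonempty_DS_iso k ℤ
  haveI : IsMonHom e.hom.hom.hom := e.hom.hom.isMonHom_hom
  haveI : IsMonHom e.inv.hom.hom := e.inv.hom.isMonHom_hom
  haveI : IsMonHom d.hom.hom.hom := d.hom.hom.isMonHom_hom
  haveI : IsMonHom d.inv.hom.hom := d.inv.hom.isMonHom_hom
  let S := MTBridge.specGrp k A
  let D := MTBridge.specGrp k (CentralChar.B k)
  let a : S.X ⟶ E := e.hom.hom.hom
  let b : E ⟶ S.X := e.inv.hom.hom
  have hab : a ≫ b = 𝟙 _ := congrArg (fun q => q.hom.hom) e.hom_inv_id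
  let c : D.X ⟶ Red.Gm (Spec (CommRingCat.of k)) := d.inv.hom.hom
  let c' : Red.Gm (Spec (CommRingCat.of k)) ⟶ D.X := d.hom.hom.hom
  have hc'c : c' ≫ c = 𝟙 _ := congrArg (fun q => q.hom.hom) d.hom_inv_id
  haveI : IsMonHom a := ‹_›
  haveI : IsMonHom b := ‹_›
  haveI : IsMonHom c := ‹_›
  haveI : IsMonHom c' := ‹_›
  obtain ⟨q, hq⟩ : ∃ q : Opposite.op (CommHopfAlgCat.of k (CentralChar.B k)) ⟶ Opposite.op A,
      (hopfSpec (CommRingCat.of k)).map q = d.inv ≫ Grp.homMk i ≫ e.inv :=
    ⟨_, hopfSpec.fullyFaithful.map_preimage _⟩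
  let π : A →ₐc[k] CentralChar.B k := q.unop.hom
  have hπ : MTBridge.spMap (π : A →ₐ[k] CentralChar.B k) = c ≫ i ≫ b :=
    (Over.OverMorphism.ext rfl : MTBridge.spMap (π : A →ₐ[k] CentralChar.B k) = _).trans
      (congrArg (fun w => w.hom.hom) hq)
  haveI : IsIso c.left := inferInstanceAs (IsIso ((Over.forget _).map ((Grp.forget _).map d.inv)))
  haveI : IsIso b.left := inferInstanceAs (IsIso ((Over.forget _).map ((Grp.forget _).map e.inv)))
  have hsurj : Function.Surjective π := by
    have h : IsClosedImmersion (Spec.map (CommRingCat.ofHom (π : A →ₐ[k] CentralChar.B k).toRingHom)) := by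
      rw [← MTBridge.spMap_left, hπ]
      show IsClosedImmersion (c.left ≫ i.left ≫ b.left)
      infer_instance
    intro y
    obtain ⟨z, hz⟩ := (IsClosedImmersion.isAffine_surjective_of_isAffine
      (Spec.map (CommRingCat.ofHom (π : A →ₐ[k] CentralChar.B k).toRingHom))).2
        ((Scheme.ΓSpecIso (CommRingCat.of (CentralChar.B k))).inv y)
    refine ⟨(Scheme.ΓSpecIso (CommRingCat.of A)).hom z, ?_⟩
    have h2 : (Scheme.ΓSpecIso (CommRingCat.of (CentralChar.B k))).hom
        ((Spec.map (CommRingCat.ofHom (π : A →ₐ[k] CentralChar.B k).toRingHom)).appTop z) =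
        π ((Scheme.ΓSpecIso (CommRingCat.of A)).hom z) :=
      ConcreteCategory.congr_hom (Scheme.ΓSpecIso_naturality
        (CommRingCat.ofHom (π : A →ₐ[k] CentralChar.B k).toRingHom)) z
    rw [hz] at h2
    exact h2.symm.trans (by simp)
  let iL : A →ₐ[k] A ⊗[k] CentralChar.B k := Algebra.TensorProduct.includeLeft
  let iR : CentralChar.B k →ₐ[k] A ⊗[k] CentralChar.B k := Algebra.TensorProduct.includeRight
  have hcent' : WithConv.toConv iL * WithConv.toConv (iR.comp (π : A →ₐ[k] CentralChar.B k)) =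
      WithConv.toConv (iR.comp (π : A →ₐ[k] CentralChar.B k)) * WithConv.toConv iL := by
    apply WithConv.ofConv_injective
    apply MTBridge.spMap_injective
    rw [← HomRep.spMap_mul, ← HomRep.spMap_mul, ← MTBridge.spMap_comp, hπ]
    have h := congrArg (fun w => w ≫ b) (hcent _ (MTBridge.spMap iR ≫ c) (MTBridge.spMap iL ≫ a))
    simp only [MonObj.mul_comp, Category.assoc, hab, Category.comp_id] at h
    exact h.symm
  obtain ⟨χ₀, n, hn, hpow⟩ := CentralChar.exists_hom π hsurj hcent'
  let g : S ⟶ D := (hopfSpec (CommRingCat.of k)).map (CommHopfAlgCat.ofHom χ₀).op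
  have hg : g.hom.hom = MTBridge.spMap (χ₀ : CentralChar.B k →ₐ[k] A) := Over.OverMorphism.ext rfl
  haveI : IsMonHom g.hom.hom := g.hom.isMonHom_hom
  refine ⟨b ≫ g.hom.hom ≫ c, n, inferInstance, hn, fun T t => ?_⟩
  have hp : ∀ (m : ℕ) (φ : WithConv (CentralChar.B k →ₐ[k] CentralChar.B k)),
      MTBridge.spMap (φ ^ m).ofConv =
        (MTBridge.spMap φ.ofConv : MTBridge.Pt D.X (CentralChar.B k)) ^ m := by
    intro m φ
    induction m with
    | zero =>
      rw [pow_zero, pow_zero, MTBridge.spMap_eq_pt, WithConv.toConv_ofConv]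
      exact map_one Spec.mapMulEquiv
    | succ m ih => rw [pow_succ, pow_succ, ← ih]; exact (HomRep.spMap_mul _ _).symm
  have hmid : c ≫ i ≫ b ≫ g.hom.hom = (𝟙 D.X : D.X ⟶ D.X) ^ n := by
    calc c ≫ i ≫ b ≫ g.hom.hom = (c ≫ i ≫ b) ≫ g.hom.hom := by simp only [Category.assoc]
      _ = MTBridge.spMap ((π : A →ₐ[k] CentralChar.B k).comp (χ₀ : CentralChar.B k →ₐ[k] A)) := by
          rw [← hπ, hg]; exact MTBridge.spMap_comp _ _
      _ = _ := by
          rw [← WithConv.ofConv_toConv (x := (π : A →ₐ[k] CentralChar.B k).comp (χ₀ : CentralChar.B k →ₐ[k] A)),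
            hpow, hp, WithConv.ofConv_toConv, MTBridge.spMap_id]
  have hmain : i ≫ b ≫ g.hom.hom ≫ c = (𝟙 (Red.Gm (Spec (CommRingCat.of k)))) ^ n := by
    calc i ≫ b ≫ g.hom.hom ≫ c = c' ≫ (c ≫ i ≫ b ≫ g.hom.hom) ≫ c := by
          conv_lhs => rw [← Category.id_comp i, ← hc'c]
          simp only [Category.assoc]
      _ = c' ≫ ((𝟙 D.X : D.X ⟶ D.X) ^ n) ≫ c := by rw [hmid]
      _ = _ := by rw [MonObj.pow_comp, MonObj.comp_pow, Category.id_comp, hc'c]
  rw [Category.assoc, hmain, MonObj.comp_pow, Category.comp_id]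

end Groth.Agent.S16126
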