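import Groth.Statements.S16127
import Mathlib.AlgebraicGeometry.Morphisms.FlatDescent
import Mathlib.AlgebraicGeometry.Sites.Fpqc

set_option autoImplicit false
universe u
open CategoryTheory MonoidalCategory CartesianMonoidalCategory MonObj GrpObj AlgebraicGeometry CategoryTheory.Limits
open AlgGrp

namespace Groth.Agent.S16127

/-- Over an algebraically closed field k, let G be an algebraic group (a smooth k-group scheme of finite
type) acting by σ on a variety X, and let f : X → Y be a principal G-bundle over a variety Y (X, Y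
reduced separated k-schemes of finite type; f flat and surjective, the square σ, p₂ : G × X → X, f,
f cartesian). Then f^* identifies Γ(Y, O_Y) with the invariants Γ(X, O_X)^G: f^* on global sections
is injective and its range is the set of global functions s on X with σ^*(s) = p₂^*(s). -/
theorem result (k : Type u) [Field k] [IsAlgClosed k]
    (G X Y : Over (Spec (CommRingCat.of k))) [GrpObj G] [Smooth G.hom] [QuasiCompact G.hom]
    [IsReduced X.left] [IsSeparated X.hom] [LocallyOfFiniteType X.hom] [QuasiCompact X.hom]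
    [IsReduced Y.left] [IsSeparated Y.hom] [LocallyOfFiniteType Y.hom] [QuasiCompact Y.hom]
    (a : AlgGrp.Action G X) (f : X ⟶ Y) [Flat f.left] [Surjective f.left]
    (hsq : IsPullback a.act.left (snd G X).left f.left f.left) :
    Function.Injective (f.left.appTop) ∧
      Set.range (f.left.appTop) = {s : Γ(X.left, ⊤) | a.act.left.appTop s = (snd G X).left.appTop s} := by
  have : LocallyOfFiniteType (f.left ≫ Y.hom) := by rw [Over.w]; infer_instance
  have : LocallyOfFiniteType f.left := locallyOfFiniteType_of_comp f.left Y.hom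
  have : IsLocallyNoetherian Y.left := LocallyOfFiniteType.isLocallyNoetherian Y.hom
  have : LocallyOfFinitePresentation f.left := inferInstance
  let L := CommRingCat.of (Polynomial (ULift.{u} ℤ))
  let sec : ∀ {Z : Scheme.{u}}, Γ(Z, ⊤) → (Z ⟶ Spec L) := fun {Z} s ↦
    Z.toSpecΓ ≫ Spec.map (CommRingCat.ofHom
      (Polynomial.eval₂RingHom ((Int.castRingHom Γ(Z, ⊤)).comp ULift.ringEquiv.toRingHom) s))
  let un : ∀ {Z : Scheme.{u}}, (Z ⟶ Spec L) → Γ(Z, ⊤) := fun {Z} g ↦
    g.appTop ((Scheme.ΓSpecIso L).inv Polynomial.X)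
  have un_sec : ∀ {Z : Scheme.{u}} (s : Γ(Z, ⊤)), un (sec s) = s := fun {Z} s ↦ by
    simp only [un, sec]
    rw [Scheme.Hom.comp_appTop, CommRingCat.comp_apply, ← CommRingCat.comp_apply _ (Spec.map _).appTop]
    rw [← Scheme.ΓSpecIso_inv_naturality, CommRingCat.comp_apply, Scheme.toSpecΓ_appTop]
    simp
    exact Polynomial.eval₂_X _ _
  have sec_un : ∀ {Z : Scheme.{u}} (g g' : Z ⟶ Spec L), un g = un g' → g = g' := fun {Z} g g' e ↦ by
    apply ext_to_Spec
    ext : 1
    refine Polynomial.ringHom_ext' ?_ e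
    exact RingHom.ext fun z ↦ by
      obtain ⟨z, rfl⟩ : ∃ w, ULift.up w = z := ⟨z.down, rfl⟩
      exact congrArg (· z) (RingHom.ext_int
        (((((Scheme.ΓSpecIso L).inv ≫ g.appTop).hom.comp Polynomial.C).comp ULift.ringEquiv.symm.toRingHom))
        (((((Scheme.ΓSpecIso L).inv ≫ g'.appTop).hom.comp Polynomial.C).comp ULift.ringEquiv.symm.toRingHom)))
  refine ⟨fun s s' e ↦ ?_, Set.ext fun s ↦ ⟨?_, fun hs ↦ ?_⟩⟩
  · have : f.left ≫ sec s = f.left ≫ sec s' := sec_un _ _ (by
      simp only [un, Scheme.Hom.comp_appTop, CommRingCat.comp_apply]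
      change f.left.appTop (un (sec s)) = f.left.appTop (un (sec s'))
      rw [un_sec, un_sec, e])
    rw [← un_sec s, ← un_sec s', (cancel_epi f.left).mp this]
  · rintro ⟨y, rfl⟩
    change (f.left.appTop ≫ a.act.left.appTop) y = (f.left.appTop ≫ (snd G X).left.appTop) y
    rw [← Scheme.Hom.comp_appTop, ← Scheme.Hom.comp_appTop, hsq.w]
  · have hact : a.act.left ≫ sec s = (snd G X).left ≫ sec s := sec_un _ _ (by
      simp only [un, Scheme.Hom.comp_appTop, CommRingCat.comp_apply]
      change a.act.left.appTop (un (sec s)) = (snd G X).left.appTop (un (sec s))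
      rw [un_sec]; exact hs)
    have hd : ∀ {T : Scheme.{u}} (g₁ g₂ : T ⟶ X.left), g₁ ≫ f.left = g₂ ≫ f.left → g₁ ≫ sec s = g₂ ≫ sec s :=
      fun g₁ g₂ h ↦ by
        rw [← hsq.lift_fst g₁ g₂ h, Category.assoc, hact, ← Category.assoc, hsq.lift_snd]
    refine ⟨un (EffectiveEpi.desc f.left (sec s) hd), ?_⟩
    simp only [un]
    rw [← CommRingCat.comp_apply _ f.left.appTop, ← Scheme.Hom.comp_appTop, EffectiveEpi.fac]
    exact un_sec s

end Groth.Agent.S16127
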