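import Groth.Statements.S16132
import Groth.Agent.Chev.CharQuot
import Groth.Agent.Chev.UnitsAxes

set_option autoImplicit false
universe u
open CategoryTheory MonoidalCategory CartesianMonoidalCategory MonObj GrpObj AlgebraicGeometry CategoryTheory.Limits
open AlgGrp

namespace Groth.Agent.S16132
open Groth.Agent Groth.Agent.Chev Groth.Agent.Chev.CharQuot
open scoped CategoryTheory.Obj

set_option maxHeartbeats 1000000 in
/-- Over an algebraically closed field k, let G be a connected algebraic group (a smooth connected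
k-group scheme of finite type, not necessarily affine). Then G has a largest torus quotient through
which all characters factor: there are a torus T (isomorphic to the diagonalizable group of ℤ^r for
some r), a flat surjective homomorphism q : G → T such that every character χ : G → 𝔾_m is χ' ∘ q
for some character χ' of T, and a kernel h : H → G of q (a homomorphism from a k-group scheme H
making the square against the unit section of T cartesian) with H connected and every character of H
trivial. (So H is the smallest closed normal subgroup scheme of G with G/H a torus, and restriction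
identifies the characters of G/H with those of G.) -/
theorem result (k : Type u) [Field k] [IsAlgClosed k]
    (G : Over (Spec (CommRingCat.of k))) [GrpObj G] [Smooth G.hom] [QuasiCompact G.hom] [ConnectedSpace ↥G.left] :
    ∃ (r : ℕ) (T : Over (Spec (CommRingCat.of k))) (_ : GrpObj T) (_ : Red.IsSplitTorusWith (Fin r → ℤ) T)
      (q : G ⟶ T) (_ : IsMonHom q) (H : Over (Spec (CommRingCat.of k))) (_ : GrpObj H) (h : H ⟶ G) (_ : IsMonHom h),
      Flat q.left ∧ Surjective q.left ∧ AlgGrp.IsKernel h q ∧ ConnectedSpace ↥H.left ∧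
      (∀ χ : G ⟶ Red.Gm (Spec (CommRingCat.of k)), IsMonHom χ → ∃ χ' : T ⟶ Red.Gm (Spec (CommRingCat.of k)), IsMonHom χ' ∧ q ≫ χ' = χ) ∧
      (∀ ψ : H ⟶ Red.Gm (Spec (CommRingCat.of k)), IsMonHom ψ → ψ = 1) := by
  obtain ⟨n, q, hqm, hinj, hfac⟩ := exists_char_lattice G
  haveI := hqm
  obtain ⟨hqs, hqf, hqq, hqe⟩ := surjective_of_char_lattice q hinj
  haveI := hqs; haveI := hqf; haveI := hqq; haveI := hqe
  have hT : Red.IsTorus (Red.DS (Spec (CommRingCat.of k)) (Fin n → ℤ)) := isTorus_DS n
  haveI := isCommMonObj_of_isTorus hT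
  haveI := smooth_of_isTorus hT
  haveI := connectedSpace_of_isTorus hT
  haveI := isAffine_of_isTorus hT
  haveI : QuasiCompact (Red.DS (Spec (CommRingCat.of k)) (Fin n → ℤ)).hom :=
    haveI := isAffineHom_of_isAffine (Red.DS (Spec (CommRingCat.of k)) (Fin n → ℤ)).hom; inferInstance
  haveI : LocallyOfFiniteType (Red.DS (Spec (CommRingCat.of k)) (Fin n → ℤ)).hom := inferInstance
  haveI : IsSeparated G.hom := GrpField.isSeparated_hom G
  haveI : IsSeparated (Red.DS (Spec (CommRingCat.of k)) (Fin n → ℤ)).hom := GrpField.isSeparated_hom _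
  -- the kernel and its reduced identity component
  obtain ⟨K, hK, jK, hjKm, hjKc, hjKn, hjKk⟩ := AdjRep.exists_kernel q
  haveI := hjKm; haveI := hjKc
  haveI : Mono jK := GrpField.SchImg.mono_of_isClosedImmersion jK
  haveI : LocallyOfFiniteType K.hom := by rw [← Over.w jK]; infer_instance
  haveI : QuasiCompact K.hom := by rw [← Over.w jK]; infer_instance
  obtain ⟨R, hR, c, hcjm, hcjc, hcs, hRsm, hRn⟩ := exists_red_subgroup jK hjKn
  haveI := hcjm; haveI := hcjc; haveI := hcs; haveI := hRsm
  haveI := Chev.isMonHom_of_comp c jK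
  haveI : IsClosedImmersion c.left := by
    haveI : IsClosedImmersion (c.left ≫ jK.left) := by rw [← Over.comp_left]; infer_instance
    exact IsClosedImmersion.of_comp c.left jK.left
  haveI : QuasiCompact R.hom := by rw [← Over.w c]; infer_instance
  obtain ⟨H, hH, c₀, hc₀m, hc₀c, hc₀f, hc₀r, hgi, -, hbij⟩ := GrpComp.exists_identity_subgroup R
  haveI := hc₀m; haveI := hc₀c; haveI := hc₀f; haveI := hgi
  haveI : LocallyOfFiniteType H.hom := by rw [← Over.w c₀]; infer_instance
  haveI : QuasiCompact H.hom := by rw [← Over.w c₀]; infer_instance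
  haveI : IrreducibleSpace ↥(Spec (CommRingCat.of k)) := inferInstanceAs (IrreducibleSpace (PrimeSpectrum k))
  haveI : IrreducibleSpace H.left := GeometricallyIrreducible.irreducibleSpace H.hom
    (fun _ _ => @isOpen_discrete _ _ (by
      have : Subsingleton (Spec (CommRingCat.of k)) := inferInstanceAs (Subsingleton (PrimeSpectrum k))
      infer_instance) _)
  haveI : IsReduced R.left := isReduced_of_smooth' R
  haveI : ∀ w, _root_.IsReduced (H.left.presheaf.stalk w) := fun w =>
    isReduced_of_injective _ (RingEquiv.ofBijective _ (hbij w)).symm.injective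
  haveI : Smooth H.hom := GrpBasic.smooth_of_perfect_stalk H (SubGen.rpt (1 : RP H))
  haveI : ConnectedSpace H.left := inferInstance
  let h : H ⟶ G := c₀ ≫ c ≫ jK
  haveI hhc : IsClosedImmersion h.left := by
    show IsClosedImmersion (c₀ ≫ c ≫ jK).left
    rw [Over.comp_left]; infer_instance
  haveI : IsMonHom h := inferInstanceAs (IsMonHom (c₀ ≫ c ≫ jK))
  haveI : Mono h := GrpField.SchImg.mono_of_isClosedImmersion h
  have hhn : AlgGrp.IsNormalHom h := isNormalHom_component (c ≫ jK) hRn c₀ hc₀r
  have hhq : h ≫ q = 1 := by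
    show (c₀ ≫ c ≫ jK) ≫ q = 1
    rw [Category.assoc, Category.assoc, hjKk.w, comp_toUnit_assoc, comp_toUnit_assoc, ← Hom.one_def]
  -- the quotient is a torus
  obtain ⟨L, hL, p, hpm, hpf, hps, hpk, hLsep, hLsm, hLqc, hLc, hplfp⟩ := exists_quotient_group' h hhn
  haveI := hpm; haveI := hpf; haveI := hps; haveI := hLsm; haveI := hLqc; haveI := hLc; haveI := hplfp
  haveI : QuasiCompact p.left := by
    haveI : QuasiCompact (p.left ≫ L.hom) := by rw [Over.w]; infer_instance
    exact QuasiCompact.of_comp _ L.hom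
  haveI : Epi p := AVQuot.epi_of_covering p
  obtain ⟨π, hπ⟩ := AdjRep.exists_desc h p hpk q hhq
  haveI : IsMonHom (p ≫ π) := by rw [hπ]; infer_instance
  haveI := Chev.isMonHom_desc p π
  haveI : Surjective π.left := by
    haveI : Surjective (p.left ≫ π.left) := by rw [← Over.comp_left, hπ]; infer_instance
    exact Surjective.of_comp p.left π.left
  obtain ⟨N, hN, iN, hiNm, hiNc, -, hiNk⟩ := AdjRep.exists_kernel π
  haveI := hiNm; haveI := hiNc
  haveI : Mono iN := GrpField.SchImg.mono_of_isClosedImmersion iN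
  haveI : LocallyOfFiniteType N.hom := by rw [← Over.w iN]; infer_instance
  haveI : QuasiCompact N.hom := by rw [← Over.w iN]; infer_instance
  haveI : IsSeparated N.hom := by rw [← Over.w iN]; infer_instance
  let uK : K ⟶ N := hiNk.lift (jK ≫ p) (toUnit K) (by rw [Category.assoc, hπ, hjKk.w])
  have huK : uK ≫ iN = jK ≫ p := hiNk.lift_fst _ _ _
  haveI : IsMonHom (uK ≫ iN) := by rw [huK]; infer_instance
  haveI := Chev.isMonHom_of_comp uK iN
  have hsq : IsPullback jK uK p iN := by
    refine IsPullback.mk' huK.symm (fun U a b e₁ _ => (cancel_mono jK).1 e₁) fun U a b e => ?_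
    have h1 : a ≫ q = toUnit U ≫ η := by
      rw [← hπ, reassoc_of% e, hiNk.w, comp_toUnit_assoc]
    refine ⟨hjKk.lift a _ h1, hjKk.lift_fst _ _ _, ?_⟩
    rw [← cancel_mono iN, Category.assoc, huK, ← Category.assoc, hjKk.lift_fst, e]
  haveI : Flat uK.left := MorphismProperty.of_isPullback (hsq.map (Over.forget _)) hpf
  haveI : Surjective uK.left := MorphismProperty.of_isPullback (hsq.map (Over.forget _)) hps
  haveI : Finite N.left := by
    refine Chev.finite_of_component_singleton N fun x hx => ?_
    let t := IsLocalRing.closedPoint k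
    have hc0 : uK.left (c.left (η[R].left t)) = η[N].left t := by
      show (η[R] ≫ c ≫ uK).left t = _
      rw [IsMonHom.one_hom (c ≫ uK)]
    obtain ⟨y, hy, hyx⟩ := Flat.generalizingMap uK.left (hc0 ▸ hx : x ⤳ uK.left (c.left (η[R].left t)))
    obtain ⟨z, rfl⟩ := c.left.surjective y
    have hz : z ⤳ η[R].left t := c.left.isClosedEmbedding.isInducing.specializes_iff.1 hy
    have hzc : z ∈ connectedComponent (GrpComp.ept R) :=
      (isPreconnected_singleton.closure).subset_connectedComponent (x := GrpComp.ept R) hz.mem_closure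
        (subset_closure rfl)
    rw [← hc₀r] at hzc
    obtain ⟨w, rfl⟩ := hzc
    rw [← hyx]
    have h2 : c₀ ≫ c ≫ uK = 1 := by
      rw [← cancel_mono iN, Category.assoc, Category.assoc, huK, MonObj.one_comp, ← Category.assoc c,
        ← Category.assoc, hpk.w, Hom.one_def]
    have h3 := congrArg (fun φ => φ.left w) h2
    simp only [Over.comp_left, Scheme.Hom.comp_apply, Hom.one_def] at h3
    rw [h3]
    exact congrArg η[N].left (Subsingleton.elim (α := PrimeSpectrum k) _ _)
  haveI : LocallyQuasiFinite N.hom :=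
    LocallyQuasiFinite.of_finite_preimage_singleton N.hom fun y => Set.toFinite _
  haveI : IsFinite N.hom := IsFinite.of_locallyQuasiFinite N.hom
  have hLt : Red.IsTorus L := isTorus_of_finite_kernel hT π iN hiNk
  haveI hπi : IsIso π := isIso_of_torus_quotient q hfac hLt p π hπ
  have hker : AlgGrp.IsKernel h q := by
    refine IsPullback.mk' (by rw [hhq, Hom.one_def]) (fun U a b e₁ _ => (cancel_mono h).1 e₁) fun U a b e => ?_
    have h1 : a ≫ p = toUnit U ≫ η[L] := by
      rw [← cancel_mono π, Category.assoc, hπ, e, Category.assoc, IsMonHom.one_hom, toUnit_unique b (toUnit U)]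
    exact ⟨hpk.lift a _ h1, hpk.lift_fst _ _ _, toUnit_unique _ _⟩
  haveI : Surjective q.left := hqs
  refine ⟨n, Red.DS (Spec (CommRingCat.of k)) (Fin n → ℤ), Red.grpObj_bc _ _, ⟨Iso.refl _⟩, q, hqm, H, hH, h,
    inferInstance, hqf, hqs, hker, inferInstance, fun χ hχ => ?_, fun ψ hψ => ?_⟩
  · obtain ⟨θ, hθ⟩ := hfac ℤ χ hχ
    exact ⟨_, isMonHom_of_map_mul (Red.DSmap (Spec (CommRingCat.of k)) θ) fun {_} a b => HomDiag.ch_ext fun m => by
      rw [HomDiag.ch_DSmap, HomDiag.ch_mul, HomDiag.ch_mul, HomDiag.ch_DSmap, HomDiag.ch_DSmap], hθ⟩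
  · haveI := hψ
    haveI := smooth_tensor_irreducible G
    haveI := smooth_tensor_irreducible H
    haveI : IsSeparated H.hom := GrpField.isSeparated_hom H
    obtain ⟨y, hy⟩ := hhn (G ⊗ H) (fst G H) (snd G H)
    have hGm : Red.IsTorus (Red.Gm (Spec (CommRingCat.of k))) := by
      let f : Red.DS (Spec (CommRingCat.of k)) (Fin 1 → ℤ) ⟶ Red.Gm (Spec (CommRingCat.of k)) :=
        Red.DSmap _ (AddMonoidHom.mk' (fun a _ => a) (fun _ _ => rfl))
      let f' : Red.Gm (Spec (CommRingCat.of k)) ⟶ Red.DS (Spec (CommRingCat.of k)) (Fin 1 → ℤ) :=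
        Red.DSmap _ (Pi.evalAddMonoidHom (fun _ => ℤ) 0)
      haveI : IsMonHom f' := isMonHom_of_map_mul f' fun {_} a b => HomDiag.ch_ext fun m => by
        rw [HomDiag.ch_DSmap, HomDiag.ch_mul, HomDiag.ch_mul, HomDiag.ch_DSmap, HomDiag.ch_DSmap]
      let ei : Red.Gm (Spec (CommRingCat.of k)) ≅ Red.DS (Spec (CommRingCat.of k)) (Fin 1 → ℤ) :=
        { hom := f'
          inv := f
          hom_inv_id := by
            apply HomDiag.ch_ext; intro m
            rw [← Category.id_comp (f' ≫ f), ← Category.assoc, HomDiag.ch_DSmap, HomDiag.ch_DSmap]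
            rfl
          inv_hom_id := by
            apply HomDiag.ch_ext; intro m
            rw [← Category.id_comp (f ≫ f'), ← Category.assoc, HomDiag.ch_DSmap, HomDiag.ch_DSmap]
            refine congrArg (fun a => HomDiag.ch (𝟙 _) (Multiplicative.ofAdd a)) (funext fun i => ?_)
            exact congrArg m.toAdd (Subsingleton.elim 0 i) }
      haveI : IsMonHom ei.hom := ‹IsMonHom f'›
      exact isTorus_of_isSplit (𝟙 _) (r := 1) ⟨bcIdIso _ ≪≫ Grp.mkIso' ei⟩
    haveI : Mono h := inferInstance
    let w : G ⊗ H ⟶ Red.Gm (Spec (CommRingCat.of k)) := (y ≫ ψ) * (snd G H ≫ ψ)⁻¹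
    haveI : LocallyOfFiniteType H.hom := inferInstance
    have hw : w = 1 := by
      refine Chev.eq_one_of_axes_algClosed hGm (1 : 𝟙_ _ ⟶ G) (1 : 𝟙_ _ ⟶ H) w ?_ ?_
      · have e : lift (𝟙 G) (toUnit G ≫ (1 : 𝟙_ _ ⟶ H)) ≫ y = 1 := by
          rw [← cancel_mono h, Category.assoc, ← hy]
          simp [MonObj.comp_mul, GrpObj.comp_inv]
        simp only [w, MonObj.comp_mul, GrpObj.comp_inv, reassoc_of% e, lift_snd_assoc]
        simp
      · have e : lift (toUnit H ≫ (1 : 𝟙_ _ ⟶ G)) (𝟙 H) ≫ y = 𝟙 H := by
          rw [← cancel_mono h, Category.assoc, ← hy]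
          simp [MonObj.comp_mul, GrpObj.comp_inv]
        simp only [w, MonObj.comp_mul, GrpObj.comp_inv, reassoc_of% e, lift_snd_assoc]
        simp
    have hinv : y ≫ ψ = snd G H ≫ ψ := mul_inv_eq_one.1 hw
    obtain ⟨S, hS, g, iS, hSt, hgm, hgs, hiSm, hiSc, hgi'⟩ := exists_torus_image hGm ψ
    haveI := hgm; haveI := hgs; haveI := hiSm; haveI := hiSc
    haveI : Mono iS := GrpField.SchImg.mono_of_isClosedImmersion iS
    haveI := smooth_of_isTorus hSt
    haveI := connectedSpace_of_isTorus hSt
    haveI := isAffine_of_isTorus hSt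
    haveI : QuasiCompact S.hom := haveI := isAffineHom_of_isAffine S.hom; inferInstance
    haveI : IsSeparated S.hom := GrpField.isSeparated_hom S
    haveI : IsReduced S.left := isReduced_of_smooth' S
    haveI : QuasiCompact g.left := by
      haveI : QuasiCompact (g.left ≫ S.hom) := by rw [Over.w]; infer_instance
      exact QuasiCompact.of_comp _ S.hom
    haveI : Flat g.left := GrpField.flat_of_surjective_reduced g
    obtain ⟨M, hM, n₀, hn₀m, hn₀c, -, hn₀k⟩ := AdjRep.exists_kernel g
    haveI := hn₀m; haveI := hn₀c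
    let j : M ⟶ G := n₀ ≫ h
    haveI : IsMonHom j := inferInstanceAs (IsMonHom (n₀ ≫ h))
    haveI : IsClosedImmersion j.left := by
      show IsClosedImmersion (n₀ ≫ h).left
      rw [Over.comp_left]; infer_instance
    have hjn : AlgGrp.IsNormalHom j := fun U a b => by
      let z := lift a (b ≫ n₀) ≫ y
      have h1 : z ≫ g = toUnit U ≫ η[S] := by
        rw [← cancel_mono iS, Category.assoc z, hgi', Category.assoc (toUnit U), IsMonHom.one_hom]
        show (lift a (b ≫ n₀) ≫ y) ≫ ψ = _
        rw [Category.assoc, hinv, lift_snd_assoc, ← hgi', Category.assoc, reassoc_of% hn₀k.w, IsMonHom.one_hom,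
          comp_toUnit_assoc]
      refine ⟨hn₀k.lift z _ h1, ?_⟩
      show _ = hn₀k.lift z _ h1 ≫ n₀ ≫ h
      rw [reassoc_of% hn₀k.lift_fst, Category.assoc, ← hy]
      simp [j, MonObj.comp_mul, GrpObj.comp_inv]
    obtain ⟨L', hL', p', hp'm, hp'f, hp's, hp'k, hL'sep, hL'sm, hL'qc, hL'c, hp'lfp⟩ := exists_quotient_group' j hjn
    haveI := hp'm; haveI := hp'f; haveI := hp's; haveI := hL'sm; haveI := hL'qc; haveI := hL'c; haveI := hp'lfp
    haveI : QuasiCompact p'.left := by
      haveI : QuasiCompact (p'.left ≫ L'.hom) := by rw [Over.w]; infer_instance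
      exact QuasiCompact.of_comp _ L'.hom
    haveI : Epi p' := AVQuot.epi_of_covering p'
    obtain ⟨π', hπ'⟩ := AdjRep.exists_desc j p' hp'k q (by
      show (n₀ ≫ h) ≫ q = 1
      rw [Category.assoc, hhq, MonObj.comp_one])
    haveI : IsMonHom (p' ≫ π') := by rw [hπ']; infer_instance
    haveI := Chev.isMonHom_desc p' π'
    haveI : Surjective π'.left := by
      haveI : Surjective (p'.left ≫ π'.left) := by rw [← Over.comp_left, hπ']; infer_instance
      exact Surjective.of_comp p'.left π'.left
    haveI : QuasiCompact π'.left := by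
      haveI : QuasiCompact (π'.left ≫ (Red.DS (Spec (CommRingCat.of k)) (Fin n → ℤ)).hom) := by
        rw [Over.w]; infer_instance
      exact QuasiCompact.of_comp _ (Red.DS (Spec (CommRingCat.of k)) (Fin n → ℤ)).hom
    haveI : IsReduced (Red.DS (Spec (CommRingCat.of k)) (Fin n → ℤ)).left := isReduced_of_smooth' _
    haveI : IsSeparated L'.hom := hL'sep
    haveI : Flat π'.left := GrpField.flat_of_surjective_reduced π'
    obtain ⟨P, hP, iP, hiPm, hiPc, -, hiPk⟩ := AdjRep.exists_kernel π'
    haveI := hiPm; haveI := hiPc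
    haveI : Mono iP := GrpField.SchImg.mono_of_isClosedImmersion iP
    haveI : LocallyOfFiniteType P.hom := by rw [← Over.w iP]; infer_instance
    haveI : QuasiCompact P.hom := by rw [← Over.w iP]; infer_instance
    let u : H ⟶ P := hiPk.lift (h ≫ p') (toUnit H) (by rw [Category.assoc, hπ', hhq, Hom.one_def])
    have hu : u ≫ iP = h ≫ p' := hiPk.lift_fst _ _ _
    haveI : IsMonHom (u ≫ iP) := by rw [hu]; infer_instance
    haveI := Chev.isMonHom_of_comp u iP
    have hsq' : IsPullback h u p' iP := by
      refine IsPullback.mk' hu.symm (fun U a b e₁ _ => (cancel_mono h).1 e₁) fun U a b e => ?_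
      have h1 : a ≫ q = toUnit U ≫ η := by
        rw [← hπ', reassoc_of% e, hiPk.w, comp_toUnit_assoc]
      refine ⟨hker.lift a _ h1, hker.lift_fst _ _ _, ?_⟩
      rw [← cancel_mono iP, Category.assoc, hu, ← Category.assoc, hker.lift_fst, e]
    haveI : Flat u.left := MorphismProperty.of_isPullback (hsq'.map (Over.forget _)) hp'f
    haveI : Surjective u.left := MorphismProperty.of_isPullback (hsq'.map (Over.forget _)) hp's
    haveI : IsReduced H.left := isReduced_of_smooth' H
    haveI : IsReduced P.left := FlatMor.isReduced_of_flat_surjective u.left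
    haveI : Smooth P.hom := by
      haveI : GeometricallyReduced H.hom := Rigid.geometricallyReduced_of_smooth _
      haveI : PerfectField k := inferInstance
      letI : GrpObj (Over.mk P.hom) := hP
      exact GrpBasic.smooth_of_grpObj_perfect P.hom
    haveI : ConnectedSpace P.left := u.left.surjective.connectedSpace u.left.continuous
    obtain ⟨i₀, hi₀⟩ := AdjRep.exists_desc n₀ g hn₀k u (by
      rw [← cancel_mono iP, Category.assoc, hu, ← Category.assoc, hp'k.w, MonObj.one_comp, Hom.one_def])
    haveI : LocallyOfFinitePresentation g.left := by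
      haveI : LocallyOfFiniteType (g.left ≫ S.hom) := by rw [Over.w]; infer_instance
      haveI : LocallyOfFiniteType g.left := locallyOfFiniteType_of_comp g.left S.hom
      haveI : IsLocallyNoetherian S.left := LocallyOfFiniteType.isLocallyNoetherian S.hom
      infer_instance
    haveI : IsMonHom (g ≫ i₀) := by rw [hi₀]; infer_instance
    haveI := Chev.isMonHom_desc g i₀
    haveI : Surjective i₀.left := by
      haveI : Surjective (g.left ≫ i₀.left) := by rw [← Over.comp_left, hi₀]; infer_instance
      exact Surjective.of_comp g.left i₀.left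
    have hPt : Red.IsTorus P := isTorus_of_surjective hSt i₀
    haveI := isAffine_of_isTorus hPt
    haveI : IsCommMonObj L' :=
      (isSA_of_extension iP π' hiPk (isSA_of_torus hPt) (isSA_of_torus hT)).isCommMonObj
    haveI : IsAffineHom π'.left := by
      refine RelHull.isAffineHom_of_kernel π' ?_
      haveI : IsAffine ((Over.forget _).obj P) := inferInstanceAs (IsAffine P.left)
      exact IsAffine.of_isIso ((hiPk.map (Over.forget _)).isoPullback).inv
    haveI : IsAffine L'.left := isAffine_of_isAffineHom π'.left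
    have hL't : Red.IsTorus L' := isTorus_of_comm_extension hPt hT iP π' hiPk
    haveI : IsIso π' := isIso_of_torus_quotient q hfac hL't p' π' hπ'
    have hP1 : iP = 1 := by
      rw [← cancel_mono π', hiPk.w, MonObj.one_comp, Hom.one_def]
    have h1 : h ≫ p' = toUnit H ≫ η[L'] := by
      rw [← hu, hP1, MonObj.comp_one, Hom.one_def]
    let v : H ⟶ M := hp'k.lift h _ h1
    have hv : v ≫ n₀ = 𝟙 H := by
      rw [← cancel_mono h, Category.assoc, Category.id_comp]
      exact hp'k.lift_fst _ _ _
    rw [← hgi', ← Category.id_comp g, ← hv, Category.assoc v, hn₀k.w, comp_toUnit_assoc, ← Hom.one_def,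
      MonObj.one_comp]

end Groth.Agent.S16132
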