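import Groth.Statements.S16133
import Groth.Agent.Assoc.Bundle
import Groth.Agent.Assoc.Reduced
import Groth.Agent.FlatMor.ReducedDescent
import Mathlib.AlgebraicGeometry.Morphisms.LocalFlatDescent

set_option autoImplicit false
universe u
open CategoryTheory MonoidalCategory CartesianMonoidalCategory MonObj GrpObj AlgebraicGeometry CategoryTheory.Limits
open AlgGrp

namespace Groth.Agent.S16133

/-- Over an algebraically closed field k, let G be an algebraic group (a smooth k-group scheme of finite
type), f : X → Y a principal G-bundle between varieties (X, Y reduced separated k-schemes of finite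
type; σ the action on X; f flat and surjective with the square σ, p₂, f, f cartesian), and Z an
affine variety with an action τ of G. Then the associated fibre bundle X ×^G Z → Y exists: there are
a variety W (reduced, separated, of finite type over k), a morphism φ : X × Z → W which is invariant
for the diagonal action g · (x, z) = (g · x, g · z), and a morphism ψ : W → Y such that the square
formed by p₁ : X × Z → X, φ, f and ψ is cartesian. (The published statement covers every
G-quasi-projective Z; affine G-varieties are G-quasi-projective, and only that case is stated here.) -/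
theorem result (k : Type u) [Field k] [IsAlgClosed k]
    (G X Y Z : Over (Spec (CommRingCat.of k))) [GrpObj G] [Smooth G.hom] [QuasiCompact G.hom]
    [IsReduced X.left] [IsSeparated X.hom] [LocallyOfFiniteType X.hom] [QuasiCompact X.hom]
    [IsReduced Y.left] [IsSeparated Y.hom] [LocallyOfFiniteType Y.hom] [QuasiCompact Y.hom]
    [IsReduced Z.left] [IsAffine Z.left] [LocallyOfFiniteType Z.hom]
    (a : AlgGrp.Action G X) (f : X ⟶ Y) [Flat f.left] [Surjective f.left]
    (hsq : IsPullback a.act.left (snd G X).left f.left f.left) (b : AlgGrp.Action G Z) :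
    ∃ (W : Over (Spec (CommRingCat.of k))) (φ : X ⊗ Z ⟶ W) (ψ : W ⟶ Y),
      IsReduced W.left ∧ IsSeparated W.hom ∧ LocallyOfFiniteType W.hom ∧ QuasiCompact W.hom ∧
      lift ((G ◁ fst X Z) ≫ a.act) ((G ◁ snd X Z) ≫ b.act) ≫ φ = snd G (X ⊗ Z) ≫ φ ∧
      IsPullback (fst X Z).left φ.left f.left ψ.left := by
  have : QuasiCompact (f.left ≫ Y.hom) := by rw [Over.w]; infer_instance
  have : QuasiCompact f.left := QuasiCompact.of_comp f.left Y.hom
  have : IsAffineHom Z.hom := isAffineHom_of_isAffine _
  obtain ⟨W, φ, ψ, heq, hpb⟩ := Groth.Agent.Assoc.exists_bundle a b f hsq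
  have haff : IsAffineHom (fst X Z).left := by
    change IsAffineHom (pullback.fst X.hom Z.hom)
    exact MorphismProperty.pullback_fst (P := @IsAffineHom) _ _ ‹_›
  have hlft : LocallyOfFiniteType (fst X Z).left := by
    change LocallyOfFiniteType (pullback.fst X.hom Z.hom)
    exact MorphismProperty.pullback_fst (P := @LocallyOfFiniteType) _ _ ‹_›
  have hQ : (@Surjective ⊓ @Flat ⊓ @QuasiCompact : MorphismProperty Scheme.{u}) f.left :=
    ⟨⟨‹_›, ‹_›⟩, ‹_›⟩
  have : IsAffineHom ψ.left :=
    MorphismProperty.of_isPullback_of_descendsAlong (P := @IsAffineHom) hpb hQ haff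
  have : LocallyOfFiniteType ψ.left :=
    MorphismProperty.of_isPullback_of_descendsAlong (P := @LocallyOfFiniteType) hpb hQ hlft
  have : Flat φ.left := MorphismProperty.of_isPullback hpb (inferInstance : Flat f.left)
  have : Surjective φ.left := MorphismProperty.of_isPullback hpb (inferInstance : Surjective f.left)
  have : IsReduced (X ⊗ Z).left := Groth.Agent.Assoc.isReduced_pullback k X.hom Z.hom
  refine ⟨W, φ, ψ, Groth.Agent.FlatMor.isReduced_of_flat_surjective φ.left, ?_, ?_, ?_, heq, hpb⟩
  · rw [← Over.w ψ]; infer_instance
  · rw [← Over.w ψ]; infer_instance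
  · rw [← Over.w ψ]; infer_instance

end Groth.Agent.S16133
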