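import Groth.Statements.S16134
import Groth.Agent.Assoc2.Bundle
import Groth.Agent.Assoc2.Isotrivial
import Groth.Agent.Assoc2.FAF
import Groth.Agent.Assoc2.Variety
import Groth.Agent.Sumihiro.Main

set_option autoImplicit false
universe u
open CategoryTheory MonoidalCategory CartesianMonoidalCategory MonObj GrpObj AlgebraicGeometry CategoryTheory.Limits
open AlgGrp

namespace Groth.Agent.S16134

/-- Over an algebraically closed field k, let G be a connected linear algebraic group (an affine,
smooth, connected k-group scheme), f : X → Y a principal G-bundle between varieties (X, Y reduced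
separated k-schemes of finite type; σ the action on X; f flat and surjective with the square σ, p₂,
f, f cartesian), and Z a normal irreducible variety (an integral normal separated k-scheme of finite
type) with an action τ of G. Then the associated fibre bundle X ×^G Z → Y exists: there are a
variety W (reduced, separated, of finite type over k), a morphism φ : X × Z → W invariant for the
diagonal action g · (x, z) = (g · x, g · z), and a morphism ψ : W → Y such that the square formed by
p₁ : X × Z → X, φ, f and ψ is cartesian. (The published statement takes Z normal, possibly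
reducible; it is stated here for irreducible Z.) -/
theorem result (k : Type u) [Field k] [IsAlgClosed k]
    (G X Y Z : Over (Spec (CommRingCat.of k))) [GrpObj G] [IsAffine G.left] [Smooth G.hom] [ConnectedSpace ↥G.left]
    [IsReduced X.left] [IsSeparated X.hom] [LocallyOfFiniteType X.hom] [QuasiCompact X.hom]
    [IsReduced Y.left] [IsSeparated Y.hom] [LocallyOfFiniteType Y.hom] [QuasiCompact Y.hom]
    [IsIntegral Z.left] [IsSeparated Z.hom] [LocallyOfFiniteType Z.hom] [QuasiCompact Z.hom] (hZ : Pi1.IsNormalScheme Z.left)
    (a : AlgGrp.Action G X) (f : X ⟶ Y) [Flat f.left] [Surjective f.left]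
    (hsq : IsPullback a.act.left (snd G X).left f.left f.left) (b : AlgGrp.Action G Z) :
    ∃ (W : Over (Spec (CommRingCat.of k))) (φ : X ⊗ Z ⟶ W) (ψ : W ⟶ Y),
      IsReduced W.left ∧ IsSeparated W.hom ∧ LocallyOfFiniteType W.hom ∧ QuasiCompact W.hom ∧
      lift ((G ◁ fst X Z) ≫ a.act) ((G ◁ snd X Z) ≫ b.act) ≫ φ = snd G (X ⊗ Z) ≫ φ ∧
      IsPullback (fst X Z).left φ.left f.left ψ.left := by
  haveI : IsReduced Z.left := inferInstance
  haveI : QuasiCompact (f.left ≫ Y.hom) := by rw [Over.w]; infer_instance
  haveI : QuasiCompact f.left := QuasiCompact.of_comp f.left Y.hom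
  obtain ⟨W, φ, ψ, heq, hpb⟩ := Groth.Agent.Assoc2.exists_bundle a b f hsq
    (Groth.Agent.Assoc2.finEtSec_torsor a f hsq) (fun z => by
      obtain ⟨Z', hz, hst, L, hL⟩ := Groth.Agent.Sumihiro.exists_stable_ample hZ b z
      exact ⟨Z', hz, hst, Groth.Agent.Assoc2.FAF.of_isAmple hL⟩)
  obtain ⟨h1, h2, h3, h4⟩ := Groth.Agent.Assoc2.variety_of_isPullback f φ ψ hpb
  exact ⟨W, φ, ψ, h1, h2, h3, h4, heq, hpb⟩

end Groth.Agent.S16134
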