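import Groth.Statements.S16137
import Groth.Agent.W7Slope.Hom

set_option autoImplicit false
universe u
open CategoryTheory CategoryTheory.Limits AlgebraicGeometry
open VBCurve
open Groth.Agent Groth.Agent.CurveRR

set_option backward.isDefEq.respectTransparency false
set_option backward.isDefEq.respectTransparency.types false

namespace Groth.Agent.S16137

/-- Let k be an algebraically closed field of characteristic zero and X a smooth proper geometrically
connected curve over k (topological dimension one) of genus at least 2 (the text's standing setting: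
a smooth projective complex curve of genus at least 2). Let 0 → F → E → G → 0 be a short exact
sequence of O_X-modules in which E is finite locally free of rank r ≥ 1 and slope-stable (deg F' · r
< deg E · r' for every finite locally free submodule F' of E of rank r' with 0 < r' < r). Then
Hom(G, F) = 0: every morphism from the quotient G to the submodule F is zero. (The published
statement writes the conclusion as h^0(G^* ⊗ F) = 0.) -/
theorem result (k : Type u) [Field k] [IsAlgClosed k] [CharZero k]
    (X : Scheme.{u}) [X.Over (Spec (CommRingCat.of k))]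
    [IsProper (X ↘ Spec (CommRingCat.of k))] [Smooth (X ↘ Spec (CommRingCat.of k))]
    [GeometricallyConnected (X ↘ Spec (CommRingCat.of k))] (hdim : topologicalKrullDim ↥X = 1)
    (hg : 2 ≤ Curv2.genus k X)
    (T : ShortComplex X.Modules) (hT : T.ShortExact)
    (r : ℕ) (hr : 0 < r) (hE : FlatMod.IsFinLocFreeOfRank r T.X₂)
    (hst : ModFun.IsSlopeStable k X T.X₂ r)
    (φ : T.X₃ ⟶ T.X₁) : φ = 0 := by
  haveI := W7Slope.isIntegral_of_geomConn k hdim
  have hX : W7Slope.RegCurve X := W7Slope.regCurve_of_smooth (k := k) hdim
  haveI : Mono T.f := hT.mono_f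
  haveI : Epi T.g := hT.epi_g
  by_contra hφ
  let ψ : T.X₂ ⟶ T.X₂ := T.g ≫ φ ≫ T.f
  have hψ : ψ ≠ 0 := fun h => hφ (by
    have h' : T.g ≫ φ ≫ T.f = T.g ≫ 0 ≫ T.f := by rw [zero_comp, comp_zero]; exact h
    exact (cancel_mono T.f).1 ((cancel_epi T.g).1 h'))
  haveI := W7Slope.mono_of_stable k hX hr hE hE hst (W7Slope.ss_of_slopeStable k hX hE hst) le_rfl ψ hψ
  apply hψ
  rw [← cancel_mono ψ, zero_comp]
  simp only [ψ, Category.assoc]
  simp

end Groth.Agent.S16137
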