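import Groth.Statements.S16141
import Groth.Agent.W7Slope.RaynaudTheta

set_option autoImplicit false
universe u
open CategoryTheory CategoryTheory.Limits AlgebraicGeometry
open VBCurve

namespace Groth.Agent.S16141

/-- Let k be an algebraically closed field of characteristic zero and X a smooth proper geometrically
connected curve over k (topological dimension one) of genus g ≥ 2 (the text's standing setting: a
smooth projective complex curve of genus at least 2). Let E be a slope-semistable finite locally
free O_X-module of rank 2 with trivial determinant: some second exterior power of E is isomorphic to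
O_X. Then there is an invertible O_X-module L of degree g − 1 (degree χ(L) − χ(O_X)) with H^0(X, E ⊗
L) = 0. (The published statement says that the determinant linear series on the moduli space of
rank-2 bundles with trivial determinant has no base points; this row states the equivalent vanishing
for every semistable bundle that its proof establishes.) -/
theorem result
    (k : Type u) [Field k] [IsAlgClosed k] [CharZero k]
    (X : Scheme.{u}) [X.Over (Spec (CommRingCat.of k))]
    [IsProper (X ↘ Spec (CommRingCat.of k))] [Smooth (X ↘ Spec (CommRingCat.of k))]
    [GeometricallyConnected (X ↘ Spec (CommRingCat.of k))] (hdim : topologicalKrullDim ↥X = 1)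
    (g : ℕ) (hg : Curv2.genus k X = g) (hg2 : 2 ≤ g)
    (E : X.Modules) (hE : FlatMod.IsFinLocFreeOfRank 2 E) (hEss : ModFun.IsSlopeSemistable k X E 2)
    (hdet : ∃ D : X.Modules, ExtPow.IsExtPow 2 E D ∧ Nonempty (D ≅ Coh.structureModule X)) :
    ∃ L : X.Modules, PicF.IsInvertible L ∧ Curv2.deg k X L 1 = (g : ℤ) - 1 ∧
      Subsingleton (Coh.HH X (CohB1.tensorMod E L) 0) := by
  haveI : IsIntegral X := Groth.Agent.W7Slope.isIntegral_of_geomConn k hdim
  haveI := Groth.Agent.CurveRR.isNoetherian_of_proper k X
  obtain ⟨D, hD, ⟨e⟩⟩ := hdet
  have hd := Groth.Agent.DetDeg.hasDet_of_isExtPow hE hD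
  have hdeg : Curv2.deg k X E 2 = 0 := by
    rw [Groth.Agent.DetDeg.deg_eq_of_hasDet_integral hdim hE hd, Groth.Agent.W7Slope.deg_iso (k := k) e,
      Groth.Agent.CurveRR.deg_structure]
  exact Groth.Agent.W7Slope.Theta.exists_twist_no_sections k hdim hg hE hdeg hEss

end Groth.Agent.S16141
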