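import Groth.Statements.S16149
import Groth.Agent.WeakAssLib.Struct
import Groth.Agent.QC.Coherent

set_option autoImplicit false
universe u
open CategoryTheory CategoryTheory.Limits AlgebraicGeometry TopologicalSpace
open SDiv

namespace Groth.Agent.S16149

/-- Let X be a locally Noetherian scheme, F a coherent O_X-module (quasi-coherent of finite type) and s
: O_X → F a global section of F. Then the set of points x of X at which the stalk map (O_X)_x → F_x
of s is bijective is open. (The published statement assumes moreover X integral and normal and F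
reflexive of rank one; the openness assertion uses only that F is coherent on a locally Noetherian
scheme, and it can fail for F quasi-coherent of finite type on a scheme that is not locally
Noetherian.) -/
theorem result (X : Scheme.{u}) [IsLocallyNoetherian X] (F : X.Modules) (hF : Coh.IsCoh F)
    (s : Coh.structureModule X ⟶ F) : IsOpen (RefPow.isoLocus s) := by
  rw [isOpen_iff_forall_mem_open]
  intro x hx
  obtain ⟨U, hU, hxU, -⟩ := exists_isAffineOpen_mem_and_subset (X := X) (U := ⊤) (trivial : x ∈ (⊤ : X.Opens))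
  have : IsNoetherianRing Γ(X, U) := IsLocallyNoetherian.component_noetherian ⟨U, hU⟩
  have hLF := Groth.Agent.QC.isLoc_of_isQCoh hU (hM := hF.1)
  have hLO := Groth.Agent.WeakAssLib.isLoc_struct hU
  haveI : Module.Finite Γ(X, U) Γ(F, U) := (Groth.Agent.QC.isCoh_iff_finite_sections.1 hF).2 ⟨U, hU⟩
  let φ : Γ(Coh.structureModule X, U) →ₗ[Γ(X, U)] Γ(F, U) := Groth.Agent.QC.appₗ s U
  haveI : Module.Finite Γ(X, U) Γ(Coh.structureModule X, U) :=
    (inferInstance : Module.Finite Γ(X, U) Γ(X, U))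
  -- coefficientwise consequences of bijectivity at `x`
  have hsurj : ∀ n : Γ(F, U), ∃ a : Γ(X, U), a ∉ (hU.primeIdealOf ⟨x, hxU⟩).asIdeal ∧ a • n ∈ LinearMap.range φ := by
    intro n
    obtain ⟨t, ht⟩ := hx.2 (Groth.Agent.WeakAssLib.mgerm F hxU n)
    obtain ⟨a, b, ha, hab⟩ := Groth.Agent.WeakAssLib.exists_germ hU hLO hxU t
    have h1 : Groth.Agent.WeakAssLib.mgerm F hxU (a • n - φ b) = 0 := by
      rw [map_sub, Groth.Agent.WeakAssLib.mgerm_smul, ← ht, sub_eq_zero, ← map_smul, hab]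
      exact RefHull.stalkMapₗ_germ s x hxU b
    obtain ⟨c, hc, hcz⟩ := (Groth.Agent.WeakAssLib.germ_eq_zero_iff hU hLF hxU _).1 h1
    refine ⟨c * a, fun h => ((hU.primeIdealOf ⟨x, hxU⟩).isPrime.mem_or_mem h).elim hc ha, c • b, ?_⟩
    rw [smul_sub, sub_eq_zero] at hcz
    rw [map_smul, ← hcz, smul_smul]
  have hinj : ∀ b ∈ LinearMap.ker φ, ∃ a : Γ(X, U), a ∉ (hU.primeIdealOf ⟨x, hxU⟩).asIdeal ∧ a • b = 0 := by
    intro b hb
    refine (Groth.Agent.WeakAssLib.germ_eq_zero_iff hU hLO hxU b).1 (hx.1 ?_)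
    refine (RefHull.stalkMapₗ_germ s x hxU b).trans ?_
    rw [map_zero, show s.app U b = 0 from hb, map_zero]
  obtain ⟨T, hT⟩ := Module.Finite.fg_top (R := Γ(X, U)) (M := Γ(F, U))
  obtain ⟨K, hK⟩ := IsNoetherian.noetherian (LinearMap.ker φ)
  choose a ha hamem using hsurj
  have hKmem : ∀ b ∈ K, b ∈ LinearMap.ker φ := fun b hb => hK ▸ Submodule.subset_span hb
  choose c hc hcmem using hinj
  let f : Γ(X, U) := (∏ n ∈ T, a n) * ∏ b ∈ K.attach, c b.1 (hKmem b.1 b.2)
  have hf : f ∉ (hU.primeIdealOf ⟨x, hxU⟩).asIdeal := fun h => by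
    have hp := (hU.primeIdealOf ⟨x, hxU⟩).isPrime
    rcases hp.mem_or_mem h with h | h
    · obtain ⟨n, -, hn⟩ := hp.prod_mem_iff.1 h
      exact ha n hn
    · obtain ⟨b, -, hb⟩ := hp.prod_mem_iff.1 h
      exact hc _ _ hb
  refine ⟨X.basicOpen f, fun y hy => ?_, (X.basicOpen f).isOpen,
    (Groth.Agent.WeakAssLib.mem_primeIdealOf hU hxU f).2 hf⟩
  have hyU : y ∈ U := X.basicOpen_le f hy
  have hfu := Groth.Agent.WeakAssLib.isUnit_germ hU hyU ((Groth.Agent.WeakAssLib.mem_primeIdealOf hU hyU f).1 hy)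
  have hfsurj : ∀ n : Γ(F, U), ∃ b, φ b = f • n := by
    intro n
    have hle : (⊤ : Submodule Γ(X, U) Γ(F, U)) ≤ (LinearMap.range φ).comap
        (f • (LinearMap.id : Γ(F, U) →ₗ[Γ(X, U)] Γ(F, U))) := by
      rw [← hT, Submodule.span_le]
      intro n hn
      obtain ⟨d, hd⟩ := Finset.dvd_prod_of_mem a hn
      show f • n ∈ LinearMap.range φ
      rw [show f = (d * ∏ b ∈ K.attach, c b.1 (hKmem b.1 b.2)) * a n by
        show (∏ m ∈ T, a m) * _ = _
        rw [hd]; ring, mul_smul]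
      exact Submodule.smul_mem _ _ (hamem n)
    exact hle (x := n) trivial
  have hfinj : ∀ b ∈ LinearMap.ker φ, f • b = 0 := by
    intro b hb
    have hle : LinearMap.ker φ ≤ LinearMap.ker
        (f • (LinearMap.id : Γ(Coh.structureModule X, U) →ₗ[Γ(X, U)] Γ(Coh.structureModule X, U))) := by
      rw [← hK, Submodule.span_le]
      intro b hb
      obtain ⟨d, hd⟩ := Finset.dvd_prod_of_mem (fun b : {b // b ∈ K} => c b.1 (hKmem b.1 b.2))
        (Finset.mem_attach K ⟨b, hb⟩)
      show f • b = 0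
      rw [show f = ((∏ m ∈ T, a m) * d) * c b (hKmem b hb) by
        show _ * (∏ b ∈ K.attach, c b.1 (hKmem b.1 b.2)) = _
        rw [hd]; ring, mul_smul, hcmem, smul_zero]
    exact hle hb
  refine ⟨?_, fun t => ?_⟩
  · rw [injective_iff_map_eq_zero]
    intro t ht
    obtain ⟨d, b, hd, hdb⟩ := Groth.Agent.WeakAssLib.exists_germ hU hLO hyU t
    have h1 : Groth.Agent.WeakAssLib.mgerm F hyU (φ b) = 0 := by
      have := congrArg (RefHull.stalkMapₗ s y) hdb
      rw [map_smul, ht, smul_zero] at this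
      exact (RefHull.stalkMapₗ_germ s y hyU b).symm.trans this.symm
    obtain ⟨e, he, hez⟩ := (Groth.Agent.WeakAssLib.germ_eq_zero_iff hU hLF hyU _).1 h1
    have h2 := hfinj (e • b) (by rw [LinearMap.mem_ker, map_smul, hez])
    have h3 := congrArg (Groth.Agent.WeakAssLib.mgerm (Coh.structureModule X) hyU) h2
    rw [Groth.Agent.WeakAssLib.mgerm_smul, Groth.Agent.WeakAssLib.mgerm_smul, map_zero, hfu.smul_eq_zero,
      (Groth.Agent.WeakAssLib.isUnit_germ hU hyU he).smul_eq_zero, ← hdb,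
      (Groth.Agent.WeakAssLib.isUnit_germ hU hyU hd).smul_eq_zero] at h3
    exact h3
  · obtain ⟨d, n, hd, hdn⟩ := Groth.Agent.WeakAssLib.exists_germ hU hLF hyU t
    obtain ⟨b, hb⟩ := hfsurj n
    obtain ⟨v, hv⟩ := hfu.mul (Groth.Agent.WeakAssLib.isUnit_germ hU hyU hd)
    refine ⟨(↑v⁻¹ : X.presheaf.stalk y) • Groth.Agent.WeakAssLib.mgerm (Coh.structureModule X) hyU b, ?_⟩
    rw [map_smul]
    have e1 : RefHull.stalkMapₗ s y (Groth.Agent.WeakAssLib.mgerm (Coh.structureModule X) hyU b) =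
        Groth.Agent.WeakAssLib.mgerm F hyU (φ b) := RefHull.stalkMapₗ_germ s y hyU b
    rw [e1, hb, Groth.Agent.WeakAssLib.mgerm_smul, ← hdn, ← mul_smul (X.presheaf.germ U y hyU f), ← hv,
      ← mul_smul, Units.inv_mul, one_smul]

end Groth.Agent.S16149
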