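import Groth.Statements.S1615
import Mathlib

set_option autoImplicit false
universe u
open CategoryTheory CategoryTheory.Limits AlgebraicGeometry
open Constr

namespace Groth.Agent.S1615

/-- For a graded ring A, quasi-compactness of Proj A is equivalent to the existence of finitely many
homogeneous elements of positive degree generating an ideal whose radical contains the irrelevant
ideal A_+. -/
theorem result {R A : Type u} [CommRing R] [CommRing A] [Algebra R A] (𝒜 : ℕ → Submodule R A) [GradedAlgebra 𝒜] :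
    CompactSpace ↥(Proj 𝒜) ↔ ∃ s : Finset A, (∀ f ∈ s, ∃ d : ℕ, 0 < d ∧ f ∈ 𝒜 d) ∧
      (HomogeneousIdeal.irrelevant 𝒜).toIdeal ≤ (Ideal.span (s : Set A)).radical := by
  classical
  constructor
  · intro hc
    obtain ⟨t, ht⟩ := hc.isCompact_univ.elim_finite_subcover
      (fun p : {f : A // ∃ d : ℕ, 0 < d ∧ f ∈ 𝒜 d} => ((Proj.basicOpen 𝒜 p.1 : (Proj 𝒜).Opens) : Set ↥(Proj 𝒜)))
      (fun p => (Proj.basicOpen 𝒜 p.1).isOpen) fun x _ => by
        obtain ⟨a, ha, hax⟩ := SetLike.not_le_iff_exists.1 x.not_irrelevant_le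
        obtain ⟨i, hi⟩ : ∃ i, GradedRing.proj 𝒜 i a ∉ x.asHomogeneousIdeal := by
          by_contra hne
          push Not at hne
          refine hax ?_
          rw [← DirectSum.sum_support_decompose 𝒜 a]
          exact Ideal.sum_mem _ fun i _ => hne i
        refine Set.mem_iUnion.2 ⟨⟨GradedRing.proj 𝒜 i a, i, Nat.pos_of_ne_zero ?_, SetLike.coe_mem _⟩, hi⟩
        rintro rfl
        refine hi ?_
        rw [(HomogeneousIdeal.mem_irrelevant_iff _ a).1 ha]
        exact zero_mem _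
    refine ⟨t.image Subtype.val, fun f hf => ?_, ?_⟩
    · obtain ⟨p, -, rfl⟩ := Finset.mem_image.1 hf
      exact p.2
    intro a ha
    rw [Ideal.radical_eq_sInf]
    refine Submodule.mem_sInf.2 fun (P : Ideal A) hP' => ?_
    obtain ⟨hP, hPp⟩ := hP'
    by_contra haP
    have hcore := hPp.homogeneousCore (𝒜 := 𝒜)
    by_cases hirr : HomogeneousIdeal.irrelevant 𝒜 ≤ P.homogeneousCore 𝒜
    · exact haP (P.toIdeal_homogeneousCore_le 𝒜 (hirr ha))
    let x : ↥(Proj 𝒜) := (⟨P.homogeneousCore 𝒜, hcore, hirr⟩ : ProjectiveSpectrum 𝒜)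
    obtain ⟨p, hp, hxp⟩ := Set.mem_iUnion₂.1 (ht (Set.mem_univ x))
    obtain ⟨d, -, hd⟩ := p.2
    exact hxp (Ideal.mem_homogeneousCore_of_homogeneous_of_mem ⟨d, hd⟩
      (hP (Ideal.subset_span (Finset.mem_coe.2 (Finset.mem_image_of_mem _ hp)))))
  · rintro ⟨s, hs, hsr⟩
    choose d hd hfd using hs
    have hu : (Set.univ : Set ↥(Proj 𝒜)) = ⋃ f : s, ((Proj.basicOpen 𝒜 f.1 : (Proj 𝒜).Opens) : Set ↥(Proj 𝒜)) := by
      refine (Set.eq_univ_of_forall fun x => ?_).symm
      by_contra hx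
      simp only [Set.mem_iUnion, not_exists] at hx
      refine x.not_irrelevant_le fun a ha => ?_
      refine x.isPrime.radical_le_iff.2 (Ideal.span_le.2 fun f hf => ?_) (hsr ha)
      exact not_not.1 (hx ⟨f, hf⟩)
    refine ⟨?_⟩
    rw [hu]
    exact isCompact_iUnion fun f =>
      (Proj.isAffineOpen_basicOpen 𝒜 f.1 (hfd f.1 f.2) (hd f.1 f.2)).isCompact

end Groth.Agent.S1615
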