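import Groth.Statements.S16150
import Groth.Agent.RefPowLib.Legs
import Mathlib

set_option autoImplicit false
universe u
open CategoryTheory CategoryTheory.Limits AlgebraicGeometry TopologicalSpace
open SDiv

namespace Groth.Agent.S16150

open Groth.Agent.RefPowLib

/-- Let X be an integral locally Noetherian normal scheme, F a rank one coherent reflexive O_X-module
and s : O_X → F a global section of F. Let U be the open subscheme of X whose points are those x at
which the stalk map (O_X)_x → F_x of s is bijective, and j : U → X its inclusion. Consider the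
system O_X → F → F^[2] → F^[3] → ⋯ of reflexive powers (F^[0] = O_X, F^[1] = F, F^[n+1] the
reflexive hull of F^[n] ⊗ F), each map being multiplication by s. Then j_*(O_X|_U) is the colimit of
this system in the category of O_X-modules; precisely, there is a cocone from the system to
j_*(O_X|_U) whose leg in degree 0 is the restriction map O_X → j_*(O_X|_U) (the unit of the
adjunction between restriction to U and direct image along j) and which is a colimit cocone. -/
theorem result (X : Scheme.{u}) [IsIntegral X] [IsLocallyNoetherian X]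
    (hX : Pi1.IsNormalScheme X) (F : X.Modules) (hF : RefHull.IsRef1 F) (s : Coh.structureModule X ⟶ F)
    (U : X.Opens) (hU : (U : Set X) = RefPow.isoLocus s) :
    ∃ ι : RefPow.diagram F s ⟶ (Functor.const ℕ).obj ((Scheme.Modules.pushforward U.ι).obj ((Coh.structureModule X).restrict U.ι)),
      ι.app 0 = (Scheme.Modules.restrictAdjunction U.ι).unit.app (Coh.structureModule X) ∧
        Nonempty (IsColimit (Cocone.mk _ ι)) := by

  classical
  have hnat : ∀ n : ℕ, (RefPow.diagram F s).map (homOfLE (Nat.le_add_right n 1)) ≫ leg s U hU hX hF (n + 1) =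
      leg s U hU hX hF n ≫ ((Functor.const ℕ).obj (J U)).map (homOfLE (Nat.le_add_right n 1)) := fun n => by
    rw [RefPow.diagram_map F s n]
    exact (mulBy_leg s U hU hX hF n).trans (Category.comp_id _).symm
  let ι : RefPow.diagram F s ⟶ (Functor.const ℕ).obj (J U) :=
    NatTrans.ofSequence (fun n => leg s U hU hX hF n) hnat
  refine ⟨ι, leg_zero s U hU hX hF, ?_⟩
  let c := Cocone.mk _ ι
  let φ := colimit.desc (RefPow.diagram F s) c
  have hφ : ∀ n, colimit.ι (RefPow.diagram F s) n ≫ φ = leg s U hU hX hF n := fun n => colimit.ι_desc c n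
  haveI : IsIso φ := ZCl.isIso_of_stalk φ fun x => by
    suffices h : Function.Bijective (RefHull.stalkMapₗ φ x) from h
    let G := DerSch.stalkFunctor X x
    haveI : PreservesColimitsOfSize.{0, 0} G := preservesSmallestColimits_of_preservesColimits _
    have hc := isColimitOfPreserves G (colimit.isColimit (RefPow.diagram F s))
    have hrep : ∀ z : (colimit (RefPow.diagram F s)).presheaf.stalk x, ∃ (n : ℕ)
        (v : (RefPow.refPow F n).presheaf.stalk x), RefHull.stalkMapₗ (colimit.ι (RefPow.diagram F s) n) x v = z :=
      fun z => by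
        obtain ⟨n, v, hv⟩ := Concrete.isColimit_exists_rep _ hc z
        refine ⟨n, v, Eq.trans ?_ hv⟩
        obtain ⟨O, hO, t, rfl⟩ := TopCat.Presheaf.exists_germ_eq (RefPow.refPow F n).presheaf v
        exact (RefHull.stalkMapₗ_germ _ x hO t).trans (DerSch.stalkFunctor_map_germ x _ O hO t).symm
    have hcomp : ∀ n v, RefHull.stalkMapₗ φ x (RefHull.stalkMapₗ (colimit.ι (RefPow.diagram F s) n) x v) =
        RefHull.stalkMapₗ (leg s U hU hX hF n) x v := fun n v =>
      (RefDiv.stalkMap_comp _ _ _ v).symm.trans (congrArg (fun t => RefHull.stalkMapₗ t x v) (hφ n))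
    by_cases hs : sg s 1 (genericPoint X) = 0
    · have hs0 : s = 0 := by
        refine RefDiv.hom_ext_generic (RefDiv.lat_of_isRef1 hF) fun v => ?_
        obtain ⟨a, rfl⟩ := (RefDiv.oneM_bijective _).2 v
        show RefHull.stalkMapₗ s _ (a • RefDiv.oneM _) = RefHull.stalkMapₗ 0 _ (a • RefDiv.oneM _)
        rw [map_smul, map_smul, show RefHull.stalkMapₗ s (genericPoint X) (RefDiv.oneM _) = 0 from
          ((congrArg (fun t => RefHull.stalkMapₗ t (genericPoint X) (RefDiv.oneM _)) (RefPow.sPow_one s).symm).trans
            (stalkMap_sPow s 1 _)).trans hs, stalkMap_oneM]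
        exact congrArg (a • ·) (map_zero _).symm
      have hzero : ∀ n, RefPow.mulBy s n = 0 := fun n => by
        cases n with
        | zero => exact hs0
        | succ n =>
          apply Scheme.Modules.hom_ext
          intro V
          ext t
          have hv : (SecTwist.val s V : Γ(F, V)) = 0 := by rw [hs0]; rfl
          refine (RefPow.mulBy_succ_app s n V t).trans ?_
          show (RefPow.toRefTensor _ F).app V (TMul.tm t (SecTwist.val s V : Γ(F, V))) = 0
          rw [hv, ← TMul.tt_tmul]
          erw [TensorProduct.tmul_zero, map_zero, map_zero]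
      have hkill : ∀ z : (colimit (RefPow.diagram F s)).presheaf.stalk x, z = 0 := fun z => by
        obtain ⟨n, v, rfl⟩ := hrep z
        have e : colimit.ι (RefPow.diagram F s) n = 0 := by
          rw [← colimit.w (RefPow.diagram F s) (homOfLE (Nat.le_add_right n 1)), RefPow.diagram_map F s n, hzero]
          exact zero_comp
        rw [e]
        obtain ⟨O, hO, t, rfl⟩ := TopCat.Presheaf.exists_germ_eq (RefPow.refPow F n).presheaf v
        exact (RefHull.stalkMapₗ_germ _ x hO t).trans (map_zero _)
      have hJ : ∀ w : (J U).presheaf.stalk x, w = 0 := fun w => by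
        obtain ⟨V, hV, r, rfl⟩ := TopCat.Presheaf.exists_germ_eq (J U).presheaf w
        suffices r = 0 by rw [this, map_zero]
        show (show Γ(X, U.ι ''ᵁ (U.ι ⁻¹ᵁ V)) from r) = 0
        refine TopCat.Presheaf.section_ext X.sheaf _ _ _ fun z hz => ?_
        exact absurd ((image_eq U V).le hz).1 (eq_bot_of_zero s U hU hX hF hs z)
      exact ⟨fun a b _ => (hkill a).trans (hkill b).symm, fun w => ⟨0, (map_zero _).trans (hJ w).symm⟩⟩
    · refine ⟨(injective_iff_map_eq_zero _).2 fun z hz => ?_, fun w => ?_⟩
      · obtain ⟨n, v, rfl⟩ := hrep z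
        rw [hcomp] at hz
        exact (congrArg _ (leg_injective s U hU hX hF hs n x (hz.trans (map_zero _).symm))).trans (map_zero _)
      · obtain ⟨n, v, rfl⟩ := exists_leg_eq s U hU hX hF hs w
        exact ⟨_, hcomp n v⟩
  exact ⟨IsColimit.ofIsoColimit (colimit.isColimit _) (Cocone.ext (asIso φ) hφ)⟩

end Groth.Agent.S16150
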