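import Groth.Statements.S16152
import Mathlib.Algebra.MvPolynomial.PDeriv
import Mathlib.RingTheory.MvPolynomial.Homogeneous
import Mathlib.Tactic.FieldSimp
import Mathlib.Tactic.Ring
import Mathlib.Algebra.CharZero.Defs

set_option autoImplicit false
universe u
open WGauss

namespace Groth.Agent.S16152

open MvPolynomial

theorem exists_between {σ : Type*} (l u : σ →₀ ℕ) (hlu : l ≤ u) {N : ℕ} (hl : l.degree ≤ N)
    (hu : N ≤ u.degree) : ∃ α, l ≤ α ∧ α ≤ u ∧ α.degree = N := by
  classical
  induction N, hl using Nat.le_induction with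
  | base => exact ⟨l, le_rfl, hlu, rfl⟩
  | succ N _ ih =>
    obtain ⟨α, h1, h2, h3⟩ := ih (by omega)
    obtain ⟨i, hi⟩ : ∃ i, α i < u i := by
      by_contra hcon
      push Not at hcon
      have : u = α := Finsupp.ext fun i => le_antisymm (hcon i) (h2 i)
      rw [this, h3] at hu
      omega
    refine ⟨α + Finsupp.single i 1, h1.trans le_self_add, fun j => ?_, by
      rw [map_add, Finsupp.degree_single, h3]⟩
    rw [Finsupp.add_apply, Finsupp.single_apply]
    split_ifs with h
    · subst h; omega
    · simpa using h2 j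

section
variable {k : Type u} [Field k] {n : ℕ}

/-- the tuple with a single monomial -/
noncomputable def unitVec (k : Type u) [Field k] {n : ℕ} (γ : Fin (n + 1) →₀ ℕ) (i : Fin (n + 1)) :
    Fin (n + 1) → MvPolynomial (Fin (n + 1)) k :=
  Pi.single i (monomial (γ - Finsupp.single i 1) 1)

theorem gauss_eq (a b : ℕ) (α β : Fin (n + 1) →₀ ℕ) :
    (fun i => (b : k) • (monomial β (1 : k) * pderiv i (monomial α 1)) -
      (a : k) • (monomial α (1 : k) * pderiv i (monomial β 1))) =
      ∑ i, ((b : k) * α i - (a : k) * β i) • unitVec k (α + β) i := by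
  funext i
  rw [Finset.sum_apply, Finset.sum_eq_single i (fun j _ hj => by simp [unitVec, Ne.symm hj]) (by simp)]
  simp only [pderiv_monomial, monomial_mul, one_mul, smul_monomial, smul_eq_mul, unitVec, Pi.smul_apply,
    Pi.single_eq_same, mul_one, sub_mul]
  have h1 : monomial (β + (α - Finsupp.single i 1)) ((b : k) * α i) =
      monomial (α + β - Finsupp.single i 1) ((b : k) * α i) := by
    rcases Nat.eq_zero_or_pos (α i) with h | h
    · simp [h]
    · rw [add_comm β, tsub_add_eq_add_tsub (Finsupp.single_le_iff.2 h)]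
  have h2 : monomial (α + (β - Finsupp.single i 1)) ((a : k) * β i) =
      monomial (α + β - Finsupp.single i 1) ((a : k) * β i) := by
    rcases Nat.eq_zero_or_pos (β i) with h | h
    · simp [h]
    · rw [add_tsub_assoc_of_le (Finsupp.single_le_iff.2 h)]
  rw [h1, h2, map_sub]

end

open MvPolynomial in
/-- Over a field k of characteristic zero, for e, a, b positive integers with a < b, the weighted
Gaussian map of the line bundle O(e) on projective n-space is surjective. Concretely, identifying
global sections of O(m) with homogeneous polynomials of degree m in X_0, ..., X_n and global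
sections of the twisted cotangent sheaf Omega^1(t) with the (n+1)-tuples of homogeneous polynomials
of degree t - 1 killed by the Euler map (f_i) to sum_i X_i f_i, every such tuple with t = (a+b)e is
a k-linear combination of the tuples (b tau (d sigma / d X_i) - a sigma (d tau / d X_i))_i with
sigma homogeneous of degree ae and tau homogeneous of degree be. (The source works over the complex
numbers; the statement is one of linear algebra and is given here over any field of characteristic
zero.) -/
theorem result
    (k : Type u) [Field k] [CharZero k] (n e a b : ℕ) (he : 0 < e) (ha : 0 < a) (hab : a < b)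
    (f : Fin (n + 1) → MvPolynomial (Fin (n + 1)) k)
    (hf : ∀ i, (f i).IsHomogeneous ((a + b) * e - 1))
    (hEuler : ∑ i, X i * f i = 0) :
    f ∈ Submodule.span k
      {g : Fin (n + 1) → MvPolynomial (Fin (n + 1)) k |
        ∃ σ τ : MvPolynomial (Fin (n + 1)) k, σ.IsHomogeneous (a * e) ∧ τ.IsHomogeneous (b * e) ∧
          g = fun i => (b : k) • (τ * pderiv i σ) - (a : k) • (σ * pderiv i τ)} := by
  classical
  set W := Submodule.span k
    {g : Fin (n + 1) → MvPolynomial (Fin (n + 1)) k |
      ∃ σ τ : MvPolynomial (Fin (n + 1)) k, σ.IsHomogeneous (a * e) ∧ τ.IsHomogeneous (b * e) ∧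
        g = fun i => (b : k) • (τ * pderiv i σ) - (a : k) • (σ * pderiv i τ)} with hW
  have hb : 0 < b := ha.trans hab
  have hpos : 0 < (a + b) * e := Nat.mul_pos (by omega) he
  have hwt : ((a : k) + (b : k)) ≠ 0 := by
    exact_mod_cast (by omega : a + b ≠ 0)
  have hgen : ∀ α γ : Fin (n + 1) →₀ ℕ, α ≤ γ → α.degree = a * e → γ.degree = (a + b) * e →
      ∑ i, (((a : k) + b) * α i - (a : k) * γ i) • unitVec k γ i ∈ W := by
    intro α γ hαγ hα hγ
    obtain ⟨β, rfl⟩ := exists_add_of_le hαγ
    refine Submodule.subset_span ⟨monomial α 1, monomial β 1, isHomogeneous_monomial _ hα,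
      isHomogeneous_monomial _ ?_, ?_⟩
    · rw [map_add, hα] at hγ
      rw [add_mul] at hγ
      omega
    · rw [gauss_eq]
      refine Finset.sum_congr rfl fun i _ => ?_
      congr 1
      rw [Finsupp.add_apply, Nat.cast_add]
      ring
  have hdiff : ∀ γ : Fin (n + 1) →₀ ℕ, γ.degree = (a + b) * e → ∀ i j, γ i ≠ 0 → γ j ≠ 0 →
      unitVec k γ i - unitVec k γ j ∈ W := by
    intro γ hγ i j hi hj
    rcases eq_or_ne i j with rfl | hij
    · rw [sub_self]; exact zero_mem _
    have hae : 0 < a * e := Nat.mul_pos ha he
    have hbe : 0 < b * e := Nat.mul_pos hb he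
    have hsi : Finsupp.single i 1 ≤ γ := Finsupp.single_le_iff.2 (Nat.pos_of_ne_zero hi)
    obtain ⟨α, h1, h2, h3⟩ := exists_between (Finsupp.single j 1) (γ - Finsupp.single i 1)
      (Finsupp.single_le_iff.2 (by
        rw [Finsupp.tsub_apply, Finsupp.single_apply, if_neg hij]
        omega))
      (N := a * e) (by rw [Finsupp.degree_single]; omega) (by
        have h := congrArg Finsupp.degree (tsub_add_cancel_of_le hsi)
        rw [map_add, Finsupp.degree_single, hγ, add_mul] at h
        omega)
    have hαj : Finsupp.single j 1 ≤ α := h1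
    have hαγ : α ≤ γ := h2.trans tsub_le_self
    set α' := α - Finsupp.single j 1 + Finsupp.single i 1
    have hα'γ : α' ≤ γ := fun l => by
      have hl := h2 l
      have hl2 := hαγ l
      simp only [α', Finsupp.add_apply, Finsupp.tsub_apply, Finsupp.single_apply] at hl ⊢
      rcases eq_or_ne i l with rfl | hil
      · rw [if_pos rfl] at hl ⊢
        rw [if_neg (Ne.symm hij)]
        omega
      · rw [if_neg hil] at hl ⊢
        rcases eq_or_ne j l with rfl | hjl
        · rw [if_pos rfl]; omega
        · rw [if_neg hjl]; omega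
    have hα'deg : α'.degree = a * e := by
      have h := congrArg Finsupp.degree (tsub_add_cancel_of_le hαj)
      rw [map_add, Finsupp.degree_single, h3] at h
      rw [map_add, Finsupp.degree_single]
      omega
    have hmem := W.smul_mem ((a : k) + b)⁻¹
      (sub_mem (hgen α' γ hα'γ hα'deg hγ) (hgen α γ hαγ h3 hγ))
    rw [← Finset.sum_sub_distrib, Finset.smul_sum] at hmem
    rw [show unitVec k γ i - unitVec k γ j =
      ∑ l, ((if l = i then 1 else 0) - (if l = j then 1 else 0) : k) • unitVec k γ l by
        simp [sub_smul, ite_smul, Finset.sum_sub_distrib]]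
    convert hmem using 1
    refine Finset.sum_congr rfl fun l _ => ?_
    rw [← sub_smul, smul_smul]
    congr 1
    have hl : (α' l : k) = α l - (if l = j then 1 else 0) + (if l = i then 1 else 0) := by
      have hj1 := Finsupp.single_le_iff.1 hαj
      simp only [α', Finsupp.add_apply, Finsupp.tsub_apply, Finsupp.single_apply, Nat.cast_add]
      rcases eq_or_ne l j with rfl | hlj
      · rw [if_pos rfl, if_pos rfl, Nat.cast_sub hj1, if_neg hij, if_neg (Ne.symm hij)]
        simp
      · rw [if_neg (Ne.symm hlj), if_neg hlj]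
        rcases eq_or_ne l i with rfl | hli
        · simp
        · simp [Ne.symm hli, hli]
    rw [hl]
    field_simp
    ring
  set Γ : Finset (Fin (n + 1) →₀ ℕ) :=
    Finset.univ.biUnion fun i => (f i).support.image (· + Finsupp.single i 1)
  let c : (Fin (n + 1) →₀ ℕ) → Fin (n + 1) → k := fun γ i =>
    if γ i = 0 then 0 else (f i).coeff (γ - Finsupp.single i 1)
  have hf_eq : f = ∑ γ ∈ Γ, ∑ i, c γ i • unitVec k γ i := by
    funext i
    refine MvPolynomial.ext _ _ fun d => ?_
    simp only [Finset.sum_apply, Pi.smul_apply, coeff_sum, coeff_smul, smul_eq_mul, unitVec]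
    rw [Finset.sum_eq_single (d + Finsupp.single i 1)]
    · rw [Finset.sum_eq_single i (fun j _ hj => by simp [Ne.symm hj]) (by simp)]
      simp [c]
    · intro γ _ hne
      refine Finset.sum_eq_zero fun j _ => ?_
      rcases eq_or_ne j i with rfl | hj
      · by_cases h0 : γ j = 0
        · simp [c, h0]
        · rw [Pi.single_eq_same, coeff_monomial, if_neg, mul_zero]
          intro h
          exact hne (by rw [← h, tsub_add_cancel_of_le (Finsupp.single_le_iff.2 (Nat.pos_of_ne_zero h0))])
      · simp [Ne.symm hj]
    · intro hnot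
      refine Finset.sum_eq_zero fun j _ => ?_
      rcases eq_or_ne j i with rfl | hj
      · have h0 : (f j).coeff d = 0 := by
          by_contra h
          exact hnot (Finset.mem_biUnion.2 ⟨j, Finset.mem_univ _,
            Finset.mem_image.2 ⟨d, mem_support_iff.2 h, rfl⟩⟩)
        simp [c, h0]
      · simp [Ne.symm hj]
  rw [hf_eq]
  refine Submodule.sum_mem _ fun γ hγ => ?_
  obtain ⟨i₀, -, hi₀⟩ := Finset.mem_biUnion.1 hγ
  obtain ⟨d, hd, hdγ⟩ := Finset.mem_image.1 hi₀
  have hi0 : γ i₀ ≠ 0 := by rw [← hdγ]; simp
  have hγdeg : γ.degree = (a + b) * e := by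
    rw [← hdγ, map_add, Finsupp.degree_single]
    have := (hf i₀) (mem_support_iff.1 hd)
    have e2 : d.degree = Finsupp.weight 1 d := by rw [Finsupp.degree_eq_weight_one]; rfl
    omega
  have hsum : ∑ i, c γ i = 0 := by
    have h := congrArg (coeff γ) hEuler
    rw [coeff_sum, coeff_zero] at h
    rw [← h]
    refine Finset.sum_congr rfl fun i _ => ?_
    rw [coeff_X_mul']
    by_cases h0 : γ i = 0
    · rw [if_neg (by simpa using h0)]; simp [c, h0]
    · rw [if_pos (by simpa using h0)]; simp [c, h0]
  have hrw : ∑ i, c γ i • unitVec k γ i = ∑ i, c γ i • (unitVec k γ i - unitVec k γ i₀) := by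
    simp only [smul_sub, Finset.sum_sub_distrib, ← Finset.sum_smul, hsum, zero_smul, sub_zero]
  rw [hrw]
  refine Submodule.sum_mem _ fun i _ => ?_
  by_cases h0 : γ i = 0
  · simp [c, h0]
  · exact W.smul_mem _ (hdiff γ hγdeg i i₀ h0 hi0)

end Groth.Agent.S16152
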