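import Groth.Statements.S16153
import Mathlib

set_option autoImplicit false
universe u
open SpinRat

namespace Groth.Agent.S16153

set_option maxHeartbeats 8000000 in
open MvPolynomial in
/-- In the bigraded polynomial ring k[x0, x1, y0, y1] of the quadric surface (variables X 0, X 1, X 2, X
3 in this order), over a field k of characteristic zero, let iota exchange x_i with y_i, let l = x0
y1 - x1 y0 be the diagonal, h1 = x0 (y1 - y0) + y0 (x1 - x0), h2 = x1 (y0 - y1) + y1 (x0 - x1), h3 =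
x0 y1 + x1 y0, h = h1 + h2 + h3, h13 = h1 - h3, h23 = h2 - h3, and let c = x0 x1 (x0 - x1) y0 y1 (y0
- y1) be the product of the six rulings through the three diagonal points (1:0)x(1:0), (0:1)x(0:1),
(1:1)x(1:1). Let I be the space of forms of bidegree (3,3) whose restriction to the diagonal is
divisible by (x0 x1 (x0 - x1))^2, that is, the bidegree-(3,3) forms through the length-six subscheme
of the diagonal doubled at those three points. Then the iota-invariant forms in I are exactly the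
span of c, l^2 h, l^2 h13, l^2 h23; the iota-anti-invariant forms in I are exactly the span of l
h^2, l h h13, l h h23, l h13^2, l h23^2, l h13 h23; and these ten forms are linearly independent.
(The source works over the complex numbers and writes the two eigenspaces as direct sums of the
displayed pieces; the six-line form c is read as the product of the two cubic factors.) -/
theorem result
    (k : Type u) [Field k] [CharZero k]
    (l h1 h2 h3 h h13 h23 c : MvPolynomial (Fin 4) k)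
    (hl : l = X 0 * X 3 - X 1 * X 2)
    (hh1 : h1 = X 0 * (X 3 - X 2) + X 2 * (X 1 - X 0))
    (hh2 : h2 = X 1 * (X 2 - X 3) + X 3 * (X 0 - X 1))
    (hh3 : h3 = X 0 * X 3 + X 1 * X 2)
    (hh : h = h1 + h2 + h3) (hh13 : h13 = h1 - h3) (hh23 : h23 = h2 - h3)
    (hc : c = X 0 * X 1 * (X 0 - X 1) * (X 2 * X 3 * (X 2 - X 3)))
    (I : Submodule k (MvPolynomial (Fin 4) k))
    (hI : ∀ f, f ∈ I ↔
      (f.IsWeightedHomogeneous (![1, 1, 0, 0] : Fin 4 → ℕ) 3 ∧
       f.IsWeightedHomogeneous (![0, 0, 1, 1] : Fin 4 → ℕ) 3 ∧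
       (X 0 * X 1 * (X 0 - X 1)) ^ 2 ∣ rename (![0, 1, 0, 1] : Fin 4 → Fin 2) f)) :
    (∀ f, (f ∈ I ∧ rename (![2, 3, 0, 1] : Fin 4 → Fin 4) f = f) ↔
        f ∈ Submodule.span k ({c, l ^ 2 * h, l ^ 2 * h13, l ^ 2 * h23} : Set (MvPolynomial (Fin 4) k))) ∧
    (∀ f, (f ∈ I ∧ rename (![2, 3, 0, 1] : Fin 4 → Fin 4) f = -f) ↔
        f ∈ Submodule.span k ({l * h ^ 2, l * h * h13, l * h * h23, l * h13 ^ 2, l * h23 ^ 2, l * h13 * h23} :
          Set (MvPolynomial (Fin 4) k))) ∧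
    LinearIndependent k
      ![c, l ^ 2 * h, l ^ 2 * h13, l ^ 2 * h23, l * h ^ 2, l * h * h13, l * h * h23, l * h13 ^ 2, l * h23 ^ 2,
        l * h13 * h23] := by
  classical
  let m : Fin 4 → Fin 4 → (Fin 4 →₀ ℕ) := fun i j => Finsupp.equivFunOnFinite.symm ![3 - (i : ℕ), (i : ℕ), 3 - (j : ℕ), (j : ℕ)]
  let mono : Fin 4 → Fin 4 → MvPolynomial (Fin 4) k := fun i j => X 0 ^ (3 - (i : ℕ)) * X 1 ^ (i : ℕ) * X 2 ^ (3 - (j : ℕ)) * X 3 ^ (j : ℕ)
  have hminj : ∀ i j i' j', m i j = m i' j' → i = i' ∧ j = j' := by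
    intro i j i' j' h
    exact ⟨Fin.ext (by simpa [m] using DFunLike.congr_fun h 1), Fin.ext (by simpa [m] using DFunLike.congr_fun h 3)⟩
  have hmono : ∀ i j, mono i j = monomial (m i j) 1 := by
    intro i j
    rw [monomial_eq, map_one, one_mul, Finsupp.prod_fintype _ _ (fun x => pow_zero (X x))]
    simp [Fin.prod_univ_four, m, mono]
  have hcoeff : ∀ (A : Fin 4 → Fin 4 → k) (i j : Fin 4), coeff (m i j) (∑ a, ∑ b, C (A a b) * mono a b) = A i j := by
    intro A i j
    simp only [coeff_sum, hmono, C_mul_monomial, mul_one, coeff_monomial]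
    rw [Finset.sum_eq_single i, Finset.sum_eq_single j, if_pos rfl]
    · exact fun b _ hb => if_neg fun h => hb (hminj _ _ _ _ h).2
    · simp
    · exact fun a _ ha => Finset.sum_eq_zero fun b _ => if_neg fun h => ha (hminj _ _ _ _ h).1
    · simp
  let W₁ : Fin 4 → ℕ := ![1, 1, 0, 0]
  let W₂ : Fin 4 → ℕ := ![0, 0, 1, 1]
  have hrep : ∀ f : MvPolynomial (Fin 4) k, f.IsWeightedHomogeneous W₁ 3 → f.IsWeightedHomogeneous W₂ 3 →
      f = ∑ a, ∑ b, C (coeff (m a b) f) * mono a b := by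
    intro f h1 h2
    ext d
    by_cases hd : ∃ i j, d = m i j
    · obtain ⟨i, j, rfl⟩ := hd
      rw [hcoeff]
    · have h0 : coeff d f = 0 := by
        by_contra hne
        have e1 := h1 hne
        have e2 := h2 hne
        simp only [Finsupp.weight_apply, Finsupp.sum_fintype, zero_smul, implies_true, Fin.sum_univ_four] at e1 e2
        simp [W₁, W₂] at e1 e2
        refine hd ⟨⟨d 1, by omega⟩, ⟨d 3, by omega⟩, Finsupp.ext fun x => ?_⟩
        fin_cases x <;> simp [m] <;> omega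
      rw [h0]
      simp only [coeff_sum, hmono, C_mul_monomial, mul_one, coeff_monomial]
      exact (Finset.sum_eq_zero fun a _ => Finset.sum_eq_zero fun b _ => if_neg fun h => hd ⟨a, b, h.symm⟩).symm
  have hhom : ∀ (A : Fin 4 → Fin 4 → k), (∑ a, ∑ b, C (A a b) * mono a b).IsWeightedHomogeneous W₁ 3 ∧
      (∑ a, ∑ b, C (A a b) * mono a b).IsWeightedHomogeneous W₂ 3 := by
    intro A
    constructor <;> refine IsWeightedHomogeneous.sum _ _ _ fun a _ => IsWeightedHomogeneous.sum _ _ _ fun b _ => ?_ <;>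
      rw [hmono, C_mul_monomial] <;> refine isWeightedHomogeneous_monomial _ _ _ ?_ <;>
      simp [Finsupp.weight_apply, Finsupp.sum_fintype, Fin.sum_univ_four, W₁, W₂, m] <;> omega
  have hmapC : ∀ (σ : Fin 4 → Fin 4) (A : Fin 4 → Fin 4 → k), rename σ (∑ a, ∑ b, C (A a b) * mono a b) = ∑ a, ∑ b, C (A a b) * rename σ (mono a b) := by
    intro σ A
    simp only [map_sum, map_mul, rename_C]
  have hswap : ∀ f : MvPolynomial (Fin 4) k, f.IsWeightedHomogeneous W₁ 3 → f.IsWeightedHomogeneous W₂ 3 →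
      ∀ i j, coeff (m i j) (rename (![2, 3, 0, 1] : Fin 4 → Fin 4) f) = coeff (m j i) f := by
    intro f h1 h2 i j
    conv_lhs => rw [hrep f h1 h2, hmapC, Finset.sum_comm]
    have hm : ∀ a b, rename (![2, 3, 0, 1] : Fin 4 → Fin 4) (mono a b) = (mono b a : MvPolynomial (Fin 4) k) := by
      intro a b
      simp [mono]
      ring
    simp only [hm]
    exact hcoeff (fun b a => coeff (m a b) f) i j
  let A0 : Fin 4 → Fin 4 → ℤ := ![![0, 0, 0, 0], ![0, 1, -1, 0], ![0, -1, 1, 0], ![0, 0, 0, 0]]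
  have hA0 : c = ∑ a, ∑ b, C ((A0 a b : k)) * mono a b := by
    simp [hl, hh1, hh2, hh3, hh, hh13, hh23, hc, A0, mono, Fin.sum_univ_four, Matrix.cons_val]
    ring
  let A1 : Fin 4 → Fin 4 → ℤ := ![![0, 0, -2, 3], ![0, 4, -3, -2], ![-2, -3, 4, 0], ![3, -2, 0, 0]]
  have hA1 : (l ^ 2 * h) = ∑ a, ∑ b, C ((A1 a b : k)) * mono a b := by
    simp [hl, hh1, hh2, hh3, hh, hh13, hh23, hc, A1, mono, Fin.sum_univ_four, Matrix.cons_val]
    ring
  let A2 : Fin 4 → Fin 4 → ℤ := ![![0, 0, -2, 0], ![0, 4, 0, 0], ![-2, 0, 0, 0], ![0, 0, 0, 0]]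
  have hA2 : (l ^ 2 * h13) = ∑ a, ∑ b, C ((A2 a b : k)) * mono a b := by
    simp [hl, hh1, hh2, hh3, hh, hh13, hh23, hc, A2, mono, Fin.sum_univ_four, Matrix.cons_val]
    ring
  let A3 : Fin 4 → Fin 4 → ℤ := ![![0, 0, 0, 0], ![0, 0, 0, -2], ![0, 0, 4, 0], ![0, -2, 0, 0]]
  have hA3 : (l ^ 2 * h23) = ∑ a, ∑ b, C ((A3 a b : k)) * mono a b := by
    simp [hl, hh1, hh2, hh3, hh, hh13, hh23, hc, A3, mono, Fin.sum_univ_four, Matrix.cons_val]
    ring
  let A4 : Fin 4 → Fin 4 → ℤ := ![![0, 4, -12, 9], ![-4, 0, 17, -12], ![12, -17, 0, 4], ![-9, 12, -4, 0]]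
  have hA4 : (l * h ^ 2) = ∑ a, ∑ b, C ((A4 a b : k)) * mono a b := by
    simp [hl, hh1, hh2, hh3, hh, hh13, hh23, hc, A4, mono, Fin.sum_univ_four, Matrix.cons_val]
    ring
  let A5 : Fin 4 → Fin 4 → ℤ := ![![0, 4, -6, 0], ![-4, 0, 4, 0], ![6, -4, 0, 0], ![0, 0, 0, 0]]
  have hA5 : (l * h * h13) = ∑ a, ∑ b, C ((A5 a b : k)) * mono a b := by
    simp [hl, hh1, hh2, hh3, hh, hh13, hh23, hc, A5, mono, Fin.sum_univ_four, Matrix.cons_val]
    ring
  let A6 : Fin 4 → Fin 4 → ℤ := ![![0, 0, 0, 0], ![0, 0, 4, -6], ![0, -4, 0, 4], ![0, 6, -4, 0]]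
  have hA6 : (l * h * h23) = ∑ a, ∑ b, C ((A6 a b : k)) * mono a b := by
    simp [hl, hh1, hh2, hh3, hh, hh13, hh23, hc, A6, mono, Fin.sum_univ_four, Matrix.cons_val]
    ring
  let A7 : Fin 4 → Fin 4 → ℤ := ![![0, 4, 0, 0], ![-4, 0, 0, 0], ![0, 0, 0, 0], ![0, 0, 0, 0]]
  have hA7 : (l * h13 ^ 2) = ∑ a, ∑ b, C ((A7 a b : k)) * mono a b := by
    simp [hl, hh1, hh2, hh3, hh, hh13, hh23, hc, A7, mono, Fin.sum_univ_four, Matrix.cons_val]
    ring
  let A8 : Fin 4 → Fin 4 → ℤ := ![![0, 0, 0, 0], ![0, 0, 0, 0], ![0, 0, 0, 4], ![0, 0, -4, 0]]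
  have hA8 : (l * h23 ^ 2) = ∑ a, ∑ b, C ((A8 a b : k)) * mono a b := by
    simp [hl, hh1, hh2, hh3, hh, hh13, hh23, hc, A8, mono, Fin.sum_univ_four, Matrix.cons_val]
    ring
  let A9 : Fin 4 → Fin 4 → ℤ := ![![0, 0, 0, 0], ![0, 0, 4, 0], ![0, -4, 0, 0], ![0, 0, 0, 0]]
  have hA9 : (l * h13 * h23) = ∑ a, ∑ b, C ((A9 a b : k)) * mono a b := by
    simp [hl, hh1, hh2, hh3, hh, hh13, hh23, hc, A9, mono, Fin.sum_univ_four, Matrix.cons_val]
    ring
  have hres : ∀ {a : k} {f : MvPolynomial (Fin 4) k}, f.IsWeightedHomogeneous W₁ 3 → f.IsWeightedHomogeneous W₂ 3 →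
      rename (![0, 1, 0, 1] : Fin 4 → Fin 2) f = C a * (X 0 * X 1 * (X 0 - X 1)) ^ 2 → f ∈ I := by
    intro a f h1 h2 h3
    exact (hI f).2 ⟨h1, h2, h3 ▸ dvd_mul_left _ _⟩
  have hmem0 : c ∈ I ∧ rename (![2, 3, 0, 1] : Fin 4 → Fin 4) c = c := by
    refine ⟨hres (a := ((1 : ℤ) : k)) (hA0 ▸ (hhom _).1) (hA0 ▸ (hhom _).2) ?_, ?_⟩
    · simp only [hl, hh1, hh2, hh3, hh, hh13, hh23, hc, map_mul, map_add, map_sub, map_pow, rename_X, map_ofNat, map_one, map_zero, map_neg, map_intCast, Matrix.cons_val_zero, Matrix.cons_val_one, Matrix.cons_val]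
      push_cast
      ring
    · simp only [hl, hh1, hh2, hh3, hh, hh13, hh23, hc, map_mul, map_add, map_sub, map_pow, rename_X, Matrix.cons_val_zero, Matrix.cons_val_one, Matrix.cons_val]
      ring
  have hmem1 : (l ^ 2 * h) ∈ I ∧ rename (![2, 3, 0, 1] : Fin 4 → Fin 4) (l ^ 2 * h) = (l ^ 2 * h) := by
    refine ⟨hres (a := ((0 : ℤ) : k)) (hA1 ▸ (hhom _).1) (hA1 ▸ (hhom _).2) ?_, ?_⟩
    · simp only [hl, hh1, hh2, hh3, hh, hh13, hh23, hc, map_mul, map_add, map_sub, map_pow, rename_X, map_ofNat, map_one, map_zero, map_neg, map_intCast, Matrix.cons_val_zero, Matrix.cons_val_one, Matrix.cons_val]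
      push_cast
      ring
    · simp only [hl, hh1, hh2, hh3, hh, hh13, hh23, hc, map_mul, map_add, map_sub, map_pow, rename_X, Matrix.cons_val_zero, Matrix.cons_val_one, Matrix.cons_val]
      ring
  have hmem2 : (l ^ 2 * h13) ∈ I ∧ rename (![2, 3, 0, 1] : Fin 4 → Fin 4) (l ^ 2 * h13) = (l ^ 2 * h13) := by
    refine ⟨hres (a := ((0 : ℤ) : k)) (hA2 ▸ (hhom _).1) (hA2 ▸ (hhom _).2) ?_, ?_⟩
    · simp only [hl, hh1, hh2, hh3, hh, hh13, hh23, hc, map_mul, map_add, map_sub, map_pow, rename_X, map_ofNat, map_one, map_zero, map_neg, map_intCast, Matrix.cons_val_zero, Matrix.cons_val_one, Matrix.cons_val]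
      push_cast
      ring
    · simp only [hl, hh1, hh2, hh3, hh, hh13, hh23, hc, map_mul, map_add, map_sub, map_pow, rename_X, Matrix.cons_val_zero, Matrix.cons_val_one, Matrix.cons_val]
      ring
  have hmem3 : (l ^ 2 * h23) ∈ I ∧ rename (![2, 3, 0, 1] : Fin 4 → Fin 4) (l ^ 2 * h23) = (l ^ 2 * h23) := by
    refine ⟨hres (a := ((0 : ℤ) : k)) (hA3 ▸ (hhom _).1) (hA3 ▸ (hhom _).2) ?_, ?_⟩
    · simp only [hl, hh1, hh2, hh3, hh, hh13, hh23, hc, map_mul, map_add, map_sub, map_pow, rename_X, map_ofNat, map_one, map_zero, map_neg, map_intCast, Matrix.cons_val_zero, Matrix.cons_val_one, Matrix.cons_val]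
      push_cast
      ring
    · simp only [hl, hh1, hh2, hh3, hh, hh13, hh23, hc, map_mul, map_add, map_sub, map_pow, rename_X, Matrix.cons_val_zero, Matrix.cons_val_one, Matrix.cons_val]
      ring
  have hmem4 : (l * h ^ 2) ∈ I ∧ rename (![2, 3, 0, 1] : Fin 4 → Fin 4) (l * h ^ 2) = -(l * h ^ 2) := by
    refine ⟨hres (a := ((0 : ℤ) : k)) (hA4 ▸ (hhom _).1) (hA4 ▸ (hhom _).2) ?_, ?_⟩
    · simp only [hl, hh1, hh2, hh3, hh, hh13, hh23, hc, map_mul, map_add, map_sub, map_pow, rename_X, map_ofNat, map_one, map_zero, map_neg, map_intCast, Matrix.cons_val_zero, Matrix.cons_val_one, Matrix.cons_val]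
      push_cast
      ring
    · simp only [hl, hh1, hh2, hh3, hh, hh13, hh23, hc, map_mul, map_add, map_sub, map_pow, rename_X, Matrix.cons_val_zero, Matrix.cons_val_one, Matrix.cons_val]
      ring
  have hmem5 : (l * h * h13) ∈ I ∧ rename (![2, 3, 0, 1] : Fin 4 → Fin 4) (l * h * h13) = -(l * h * h13) := by
    refine ⟨hres (a := ((0 : ℤ) : k)) (hA5 ▸ (hhom _).1) (hA5 ▸ (hhom _).2) ?_, ?_⟩
    · simp only [hl, hh1, hh2, hh3, hh, hh13, hh23, hc, map_mul, map_add, map_sub, map_pow, rename_X, map_ofNat, map_one, map_zero, map_neg, map_intCast, Matrix.cons_val_zero, Matrix.cons_val_one, Matrix.cons_val]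
      push_cast
      ring
    · simp only [hl, hh1, hh2, hh3, hh, hh13, hh23, hc, map_mul, map_add, map_sub, map_pow, rename_X, Matrix.cons_val_zero, Matrix.cons_val_one, Matrix.cons_val]
      ring
  have hmem6 : (l * h * h23) ∈ I ∧ rename (![2, 3, 0, 1] : Fin 4 → Fin 4) (l * h * h23) = -(l * h * h23) := by
    refine ⟨hres (a := ((0 : ℤ) : k)) (hA6 ▸ (hhom _).1) (hA6 ▸ (hhom _).2) ?_, ?_⟩
    · simp only [hl, hh1, hh2, hh3, hh, hh13, hh23, hc, map_mul, map_add, map_sub, map_pow, rename_X, map_ofNat, map_one, map_zero, map_neg, map_intCast, Matrix.cons_val_zero, Matrix.cons_val_one, Matrix.cons_val]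
      push_cast
      ring
    · simp only [hl, hh1, hh2, hh3, hh, hh13, hh23, hc, map_mul, map_add, map_sub, map_pow, rename_X, Matrix.cons_val_zero, Matrix.cons_val_one, Matrix.cons_val]
      ring
  have hmem7 : (l * h13 ^ 2) ∈ I ∧ rename (![2, 3, 0, 1] : Fin 4 → Fin 4) (l * h13 ^ 2) = -(l * h13 ^ 2) := by
    refine ⟨hres (a := ((0 : ℤ) : k)) (hA7 ▸ (hhom _).1) (hA7 ▸ (hhom _).2) ?_, ?_⟩
    · simp only [hl, hh1, hh2, hh3, hh, hh13, hh23, hc, map_mul, map_add, map_sub, map_pow, rename_X, map_ofNat, map_one, map_zero, map_neg, map_intCast, Matrix.cons_val_zero, Matrix.cons_val_one, Matrix.cons_val]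
      push_cast
      ring
    · simp only [hl, hh1, hh2, hh3, hh, hh13, hh23, hc, map_mul, map_add, map_sub, map_pow, rename_X, Matrix.cons_val_zero, Matrix.cons_val_one, Matrix.cons_val]
      ring
  have hmem8 : (l * h23 ^ 2) ∈ I ∧ rename (![2, 3, 0, 1] : Fin 4 → Fin 4) (l * h23 ^ 2) = -(l * h23 ^ 2) := by
    refine ⟨hres (a := ((0 : ℤ) : k)) (hA8 ▸ (hhom _).1) (hA8 ▸ (hhom _).2) ?_, ?_⟩
    · simp only [hl, hh1, hh2, hh3, hh, hh13, hh23, hc, map_mul, map_add, map_sub, map_pow, rename_X, map_ofNat, map_one, map_zero, map_neg, map_intCast, Matrix.cons_val_zero, Matrix.cons_val_one, Matrix.cons_val]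
      push_cast
      ring
    · simp only [hl, hh1, hh2, hh3, hh, hh13, hh23, hc, map_mul, map_add, map_sub, map_pow, rename_X, Matrix.cons_val_zero, Matrix.cons_val_one, Matrix.cons_val]
      ring
  have hmem9 : (l * h13 * h23) ∈ I ∧ rename (![2, 3, 0, 1] : Fin 4 → Fin 4) (l * h13 * h23) = -(l * h13 * h23) := by
    refine ⟨hres (a := ((0 : ℤ) : k)) (hA9 ▸ (hhom _).1) (hA9 ▸ (hhom _).2) ?_, ?_⟩
    · simp only [hl, hh1, hh2, hh3, hh, hh13, hh23, hc, map_mul, map_add, map_sub, map_pow, rename_X, map_ofNat, map_one, map_zero, map_neg, map_intCast, Matrix.cons_val_zero, Matrix.cons_val_one, Matrix.cons_val]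
      push_cast
      ring
    · simp only [hl, hh1, hh2, hh3, hh, hh13, hh23, hc, map_mul, map_add, map_sub, map_pow, rename_X, Matrix.cons_val_zero, Matrix.cons_val_one, Matrix.cons_val]
      ring
  have hext : ∀ f g : MvPolynomial (Fin 4) k, f.IsWeightedHomogeneous W₁ 3 → f.IsWeightedHomogeneous W₂ 3 →
      g.IsWeightedHomogeneous W₁ 3 → g.IsWeightedHomogeneous W₂ 3 → (∀ i j, coeff (m i j) f = coeff (m i j) g) → f = g := by
    intro f g f1 f2 g1 g2 h
    rw [hrep f f1 f2, hrep g g1 g2]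
    exact Finset.sum_congr rfl fun a _ => Finset.sum_congr rfl fun b _ => by rw [h a b]
  have hcond : ∀ f ∈ I, ∀ a : Fin 4 → Fin 4 → k, (∀ i j, coeff (m i j) f = a i j) →
      a 0 0 = 0 ∧ a 0 1 + a 1 0 = 0 ∧ a 2 3 + a 3 2 = 0 ∧ a 3 3 = 0 ∧
      (a 0 2 + a 1 1 + a 2 0) + (a 0 3 + a 1 2 + a 2 1 + a 3 0) + (a 1 3 + a 2 2 + a 3 1) = 0 ∧
      2 * (a 0 2 + a 1 1 + a 2 0) + 3 * (a 0 3 + a 1 2 + a 2 1 + a 3 0) + 4 * (a 1 3 + a 2 2 + a 3 1) = 0 := by
    intro f hf a ha
    obtain ⟨h1, h2, h3⟩ := (hI f).1 hf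
    have hrf : rename (![0, 1, 0, 1] : Fin 4 → Fin 2) f = ∑ i, ∑ j, C (a i j) * (X 0 ^ (6 - ((i : ℕ) + j)) * X 1 ^ ((i : ℕ) + j)) := by
      conv_lhs => rw [hrep f h1 h2]
      simp only [ha, map_sum, map_mul, rename_C]
      refine Finset.sum_congr rfl fun i _ => Finset.sum_congr rfl fun j _ => congrArg _ ?_
      simp only [mono, map_mul, map_pow, rename_X]
      rw [show 6 - ((i : ℕ) + j) = (3 - (i : ℕ)) + (3 - (j : ℕ)) by omega]
      simp
      ring
    rw [hrf] at h3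
    have hd0 := map_dvd (aeval (![1, Polynomial.X] : Fin 2 → Polynomial k)) h3
    have hd6 := map_dvd (aeval (![Polynomial.X, 1] : Fin 2 → Polynomial k)) h3
    simp only [map_sum, map_mul, map_pow, map_sub, aeval_C, aeval_X, Matrix.cons_val_zero, Matrix.cons_val_one,
      Matrix.cons_val_fin_one, one_mul, mul_one, one_pow] at hd0 hd6
    simp only [Fin.sum_univ_four] at hd0 hd6
    obtain ⟨u, hu⟩ := hd0
    obtain ⟨w, hw⟩ := hd6
    have e0 := congrArg (Polynomial.coeff · 0) hu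
    have e1 := congrArg (Polynomial.coeff · 1) hu
    have e6 := congrArg (Polynomial.coeff · 0) hw
    have e5 := congrArg (Polynomial.coeff · 1) hw
    have es := congrArg (Polynomial.eval 1) hu
    have ed := congrArg (fun p => Polynomial.eval 1 (Polynomial.derivative p)) hu
    simp only [mul_pow, mul_assoc, Polynomial.coeff_X_pow_mul'] at e0 e1 e6 e5
    simp [Polynomial.coeff_one, Polynomial.coeff_X] at e0 e1 e6 e5
    simp [Polynomial.derivative_pow, Polynomial.derivative_mul, mul_pow] at es ed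
    refine ⟨by linear_combination e0, by linear_combination e1, by linear_combination e5, by linear_combination e6,
      by linear_combination es - e0 - e1 - e5 - e6, by linear_combination ed - e1 - 5 * e5 - 6 * e6⟩
  refine ⟨?_, ?_, ?_⟩
  · intro f
    constructor
    · rintro ⟨hf, hs⟩
      obtain ⟨h1, h2, -⟩ := (hI f).1 hf
      obtain ⟨a, ha⟩ : ∃ a : Fin 4 → Fin 4 → k, ∀ i j, coeff (m i j) f = a i j := ⟨_, fun _ _ => rfl⟩
      obtain ⟨c00, c01, c23, c33, cs, cd⟩ := hcond f hf a ha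
      have hsym : ∀ i j, a j i = a i j := by
        intro i j
        rw [← ha, ← ha, ← hswap f h1 h2 i j, hs]
      let t0 : k := ((12) * a 0 2 + (6) * a 1 1) / 6
      let t1 : k := ((2) * a 0 3) / 6
      let t2 : k := ((-3) * a 0 2 + (-2) * a 0 3) / 6
      let t3 : k := ((-2) * a 0 3 + (-3) * a 1 3) / 6
      suffices hft : f = C t0 * c + C t1 * (l ^ 2 * h) + C t2 * (l ^ 2 * h13) + C t3 * (l ^ 2 * h23) by
        rw [hft]
        repeat' refine add_mem ?_ ?_
        all_goals rw [← smul_eq_C_mul]; refine Submodule.smul_mem _ _ (Submodule.subset_span ?_); simp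
      refine hext _ _ h1 h2 ?_ ?_ fun i j => ?_
      · repeat' refine IsWeightedHomogeneous.add ?_ ?_
        · exact IsWeightedHomogeneous.C_mul (hA0 ▸ (hhom _).1) _
        · exact IsWeightedHomogeneous.C_mul (hA1 ▸ (hhom _).1) _
        · exact IsWeightedHomogeneous.C_mul (hA2 ▸ (hhom _).1) _
        · exact IsWeightedHomogeneous.C_mul (hA3 ▸ (hhom _).1) _
      · repeat' refine IsWeightedHomogeneous.add ?_ ?_
        · exact IsWeightedHomogeneous.C_mul (hA0 ▸ (hhom _).2) _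
        · exact IsWeightedHomogeneous.C_mul (hA1 ▸ (hhom _).2) _
        · exact IsWeightedHomogeneous.C_mul (hA2 ▸ (hhom _).2) _
        · exact IsWeightedHomogeneous.C_mul (hA3 ▸ (hhom _).2) _
      rw [ha, hA0, hA1, hA2, hA3]
      simp only [coeff_add, coeff_C_mul, hcoeff]
      have s01 := hsym 0 1; have s02 := hsym 0 2; have s03 := hsym 0 3; have s12 := hsym 1 2; have s13 := hsym 1 3; have s23 := hsym 2 3
      have s00 := hsym 0 0; have s11 := hsym 1 1; have s22 := hsym 2 2; have s33 := hsym 3 3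
      fin_cases i <;> fin_cases j <;> simp [t0, t1, t2, t3, A0, A1, A2, A3] <;> grind
    · intro hf
      refine Submodule.span_induction (p := fun x _ => x ∈ I ∧ rename (![2, 3, 0, 1] : Fin 4 → Fin 4) x = x) ?_ ?_ ?_ ?_ hf
      · intro x hx
        simp only [Set.mem_insert_iff, Set.mem_singleton_iff] at hx
        obtain hx | hx | hx | hx := hx <;> rw [hx]
        exacts [hmem0, hmem1, hmem2, hmem3]
      · simp
      · intro x y _ _ hx hy
        refine ⟨I.add_mem hx.1 hy.1, ?_⟩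
        rw [map_add, hx.2, hy.2]
      · intro t x _ hx
        refine ⟨I.smul_mem t hx.1, ?_⟩
        rw [map_smul, hx.2]
  · intro f
    constructor
    · rintro ⟨hf, hs⟩
      obtain ⟨h1, h2, -⟩ := (hI f).1 hf
      obtain ⟨a, ha⟩ : ∃ a : Fin 4 → Fin 4 → k, ∀ i j, coeff (m i j) f = a i j := ⟨_, fun _ _ => rfl⟩
      obtain ⟨c00, c01, c23, c33, cs, cd⟩ := hcond f hf a ha
      have hsym : ∀ i j, a j i = -a i j := by
        intro i j
        rw [← ha, ← ha, ← hswap f h1 h2 i j, hs, coeff_neg]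
      let t0 : k := ((4) * a 0 3) / 36
      let t1 : k := ((-6) * a 0 2 + (-8) * a 0 3) / 36
      let t2 : k := ((-8) * a 0 3 + (-6) * a 1 3) / 36
      let t3 : k := ((9) * a 0 1 + (6) * a 0 2 + (4) * a 0 3) / 36
      let t4 : k := ((4) * a 0 3 + (6) * a 1 3 + (9) * a 2 3) / 36
      let t5 : k := ((6) * a 0 2 + (-1) * a 0 3 + (9) * a 1 2 + (6) * a 1 3) / 36
      suffices hft : f = C t0 * (l * h ^ 2) + C t1 * (l * h * h13) + C t2 * (l * h * h23) + C t3 * (l * h13 ^ 2) + C t4 * (l * h23 ^ 2) + C t5 * (l * h13 * h23) by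
        rw [hft]
        repeat' refine add_mem ?_ ?_
        all_goals rw [← smul_eq_C_mul]; refine Submodule.smul_mem _ _ (Submodule.subset_span ?_); simp
      refine hext _ _ h1 h2 ?_ ?_ fun i j => ?_
      · repeat' refine IsWeightedHomogeneous.add ?_ ?_
        · exact IsWeightedHomogeneous.C_mul (hA4 ▸ (hhom _).1) _
        · exact IsWeightedHomogeneous.C_mul (hA5 ▸ (hhom _).1) _
        · exact IsWeightedHomogeneous.C_mul (hA6 ▸ (hhom _).1) _
        · exact IsWeightedHomogeneous.C_mul (hA7 ▸ (hhom _).1) _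
        · exact IsWeightedHomogeneous.C_mul (hA8 ▸ (hhom _).1) _
        · exact IsWeightedHomogeneous.C_mul (hA9 ▸ (hhom _).1) _
      · repeat' refine IsWeightedHomogeneous.add ?_ ?_
        · exact IsWeightedHomogeneous.C_mul (hA4 ▸ (hhom _).2) _
        · exact IsWeightedHomogeneous.C_mul (hA5 ▸ (hhom _).2) _
        · exact IsWeightedHomogeneous.C_mul (hA6 ▸ (hhom _).2) _
        · exact IsWeightedHomogeneous.C_mul (hA7 ▸ (hhom _).2) _
        · exact IsWeightedHomogeneous.C_mul (hA8 ▸ (hhom _).2) _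
        · exact IsWeightedHomogeneous.C_mul (hA9 ▸ (hhom _).2) _
      rw [ha, hA4, hA5, hA6, hA7, hA8, hA9]
      simp only [coeff_add, coeff_C_mul, hcoeff]
      have s01 := hsym 0 1; have s02 := hsym 0 2; have s03 := hsym 0 3; have s12 := hsym 1 2; have s13 := hsym 1 3; have s23 := hsym 2 3
      have s00 := hsym 0 0; have s11 := hsym 1 1; have s22 := hsym 2 2; have s33 := hsym 3 3
      fin_cases i <;> fin_cases j <;> simp [t0, t1, t2, t3, t4, t5, A4, A5, A6, A7, A8, A9] <;> grind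
    · intro hf
      refine Submodule.span_induction (p := fun x _ => x ∈ I ∧ rename (![2, 3, 0, 1] : Fin 4 → Fin 4) x = -x) ?_ ?_ ?_ ?_ hf
      · intro x hx
        simp only [Set.mem_insert_iff, Set.mem_singleton_iff] at hx
        obtain hx | hx | hx | hx | hx | hx := hx <;> rw [hx]
        exacts [hmem4, hmem5, hmem6, hmem7, hmem8, hmem9]
      · simp
      · intro x y _ _ hx hy
        refine ⟨I.add_mem hx.1 hy.1, ?_⟩
        rw [map_add, hx.2, hy.2]
        ring
      · intro t x _ hx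
        refine ⟨I.smul_mem t hx.1, ?_⟩
        rw [map_smul, hx.2]
        rw [smul_neg]
  · rw [Fintype.linearIndependent_iff]
    intro t ht
    simp only [Fin.sum_univ_succ, Fin.sum_univ_zero] at ht
    simp at ht
    simp only [smul_eq_C_mul, hA0, hA1, hA2, hA3, hA4, hA5, hA6, hA7, hA8, hA9] at ht
    have E01 := congrArg (coeff (m 0 1)) ht
    have E02 := congrArg (coeff (m 0 2)) ht
    have E03 := congrArg (coeff (m 0 3)) ht
    have E10 := congrArg (coeff (m 1 0)) ht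
    have E11 := congrArg (coeff (m 1 1)) ht
    have E12 := congrArg (coeff (m 1 2)) ht
    have E13 := congrArg (coeff (m 1 3)) ht
    have E20 := congrArg (coeff (m 2 0)) ht
    have E21 := congrArg (coeff (m 2 1)) ht
    have E23 := congrArg (coeff (m 2 3)) ht
    have E30 := congrArg (coeff (m 3 0)) ht
    have E31 := congrArg (coeff (m 3 1)) ht
    have E32 := congrArg (coeff (m 3 2)) ht
    simp only [coeff_add, coeff_zero, coeff_C_mul, hcoeff] at E01 E02 E03 E10 E11 E12 E13 E20 E21 E23 E30 E31 E32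
    simp [A0, A1, A2, A3, A4, A5, A6, A7, A8, A9] at E01 E02 E03 E10 E11 E12 E13 E20 E21 E23 E30 E31 E32
    intro i
    fin_cases i <;> simp only [Fin.zero_eta, Fin.mk_one, Fin.reduceFinMk]
    · linear_combination (12/12 : k) * (E02 + E20) + (6/12 : k) * (E11 + E11)
    · linear_combination (2/12 : k) * (E03 + E30)
    · linear_combination (-3/12 : k) * (E02 + E20) + (-2/12 : k) * (E03 + E30)
    · linear_combination (-2/12 : k) * (E03 + E30) + (-3/12 : k) * (E13 + E31)
    · linear_combination (4/72 : k) * (E03 - E30)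
    · linear_combination (-6/72 : k) * (E02 - E20) + (-8/72 : k) * (E03 - E30)
    · linear_combination (-8/72 : k) * (E03 - E30) + (-6/72 : k) * (E13 - E31)
    · linear_combination (9/72 : k) * (E01 - E10) + (6/72 : k) * (E02 - E20) + (4/72 : k) * (E03 - E30)
    · linear_combination (4/72 : k) * (E03 - E30) + (6/72 : k) * (E13 - E31) + (9/72 : k) * (E23 - E32)
    · linear_combination (6/72 : k) * (E02 - E20) + (-1/72 : k) * (E03 - E30) + (9/72 : k) * (E12 - E21) + (6/72 : k) * (E13 - E31)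

end Groth.Agent.S16153
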