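import Groth.Statements.S16154
import Groth.Agent.CompInt.Top

set_option autoImplicit false
universe u
open CategoryTheory CategoryTheory.Limits AlgebraicGeometry
open WGauss

namespace Groth.Agent.S16154

/-- Let k be a field and X in projective n-space over k the common zero scheme of m forms G_j of degrees
d_1 >= d_2 >= ... >= d_m >= 2 (m >= 1), smooth over k of relative dimension kk >= 1 with kk + m = n,
so that X is a smooth complete intersection of dimension kk whose twisted conormal bundle N_X^*(t)
is the direct sum of the O_X(t - d_j). Then, for an integer t, H^1(X, O_X(t - d_j)) = 0 for every j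
(that is, H^1(X, N_X^*(t)) = 0) if and only if either kk >= 2, or kk = 1 and t > 2 d_1 + d_2 + ... +
d_m - n - 1. Here O_X(c) is the pullback of O(c) from projective space along the inclusion of X.
(The source works over the complex numbers with X smooth projective; the statement is given over any
field.) -/
theorem result
    (k : Type u) [Field k] (n kk m : ℕ) (hkk : 1 ≤ kk) (hm : 1 ≤ m) (hn : kk + m = n)
    (d : Fin m → ℕ) (hd2 : ∀ j, 2 ≤ d j) (hanti : Antitone d)
    (G : ∀ j : Fin m, LefPen.Form n k (d j))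
    [SmoothOfRelativeDimension kk ((LefPen.ciIdeal G).subschemeι ≫ CohB1.ProjSpace.toSpec n k)]
    (t : ℤ) :
    (∀ j : Fin m, Subsingleton (Coh.HH (LefPen.ciIdeal G).subscheme
        ((Scheme.Modules.pullback (LefPen.ciIdeal G).subschemeι).obj
          (Twist.twistProjSpace n k (t - (d j : ℤ)))) 1)) ↔
      (2 ≤ kk ∨ (kk = 1 ∧ ((d ⟨0, hm⟩ : ℤ) + ∑ j : Fin m, (d j : ℤ)) - (n : ℤ) - 1 < t)) := by
  subst hn
  have ha : ∀ j, 1 ≤ d j := fun j => (by norm_num : 1 ≤ 2).trans (hd2 j)
  by_cases hk : 2 ≤ kk
  · exact iff_of_true (fun j => ((Groth.Agent.HodgeCI.good_of_smooth (n := kk) (d := m) ha G) _).1 1 one_pos hk) (Or.inl hk)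
  · obtain rfl : kk = 1 := by omega
    refine ⟨fun h => Or.inr ⟨rfl, ?_⟩, fun h j => (Groth.Agent.CompInt.curve_iff ha G _).2 ?_⟩
    · have := (Groth.Agent.CompInt.curve_iff ha G _).1 (h ⟨0, hm⟩)
      linarith
    · obtain h | ⟨-, h⟩ := h
      · omega
      · have h1 : (d j : ℤ) ≤ (d ⟨0, hm⟩ : ℤ) := by exact_mod_cast hanti (show (⟨0, hm⟩ : Fin m) ≤ j from Nat.zero_le _)
        linarith

end Groth.Agent.S16154
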