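import Groth.Statements.S16160
import Mathlib.LinearAlgebra.Eigenspace.Basic
import Mathlib.RingTheory.Bialgebra.Convolution
import Mathlib.RingTheory.Noetherian.Basic

set_option autoImplicit false
set_option backward.isDefEq.respectTransparency false
set_option linter.style.haveILetI false
universe u v w
open scoped TensorProduct
open MadRed

namespace Groth.Agent.S16160

open Coalgebra in
theorem ptAct_ptAct (k : Type u) [Field k] (A : Type v) [CommRing A] [HopfAlgebra k A] (R : Type w) [CommRing R]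
    [Algebra k R] (g h : A →ₐ[k] R) (z : R ⊗[k] A) :
    MadRed.ptAct k A R g (MadRed.ptAct k A R h z) =
      MadRed.ptAct k A R (WithConv.toConv g * WithConv.toConv h).ofConv z := by
  have e1 : ∀ (f : A →ₐ[k] R) (r : R) (a : A) {ι : Type v} (ra : Coalgebra.Repr k a ι),
      MadRed.ptAct k A R f (r ⊗ₜ a) = ∑ i ∈ ra.index, (r * f (ra.right i)) ⊗ₜ[k] ra.left i := by
    intro f r a ι ra
    rw [MadRed.ptAct, Algebra.TensorProduct.lift_tmul, MadRed.translAux, AlgHom.comp_apply, AlgHom.comp_apply,
      Bialgebra.comulAlgHom_apply, ← ra.eq, map_sum, map_sum, Finset.mul_sum]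
    refine Finset.sum_congr rfl fun i _ => ?_
    simp
  induction z using TensorProduct.induction_on with
  | zero => simp
  | add x y hx hy => rw [map_add, map_add, map_add, hx, hy]
  | tmul r a =>
    let ra := Coalgebra.Repr.arbitrary k a
    let a₁ := fun i => Coalgebra.Repr.arbitrary k (ra.left i)
    let a₂ := fun i => Coalgebra.Repr.arbitrary k (ra.right i)
    have key := congrArg ((TensorProduct.comm k A R).toLinearMap ∘ₗ TensorProduct.map LinearMap.id
      (LinearMap.mul' k R ∘ₗ TensorProduct.map g.toLinearMap h.toLinearMap)) (sum_tmul_tmul_eq ra a₁ a₂)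
    simp only [map_sum, LinearMap.comp_apply, TensorProduct.map_tmul, LinearMap.id_apply, LinearMap.mul'_apply,
      AlgHom.toLinearMap_apply, LinearEquiv.coe_coe, TensorProduct.comm_tmul] at key
    rw [e1 h r a ra, map_sum, e1 _ r a ra]
    have key' := congrArg (fun t => (r ⊗ₜ[k] (1 : A)) * t) key
    simp only [Finset.mul_sum, Algebra.TensorProduct.tmul_mul_tmul, one_mul] at key'
    calc _ = ∑ i ∈ ra.index, ∑ j ∈ (a₁ i).index,
          (r * (g ((a₁ i).right j) * h (ra.right i))) ⊗ₜ[k] (a₁ i).left j :=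
          Finset.sum_congr rfl fun i _ => (e1 g _ _ (a₁ i)).trans
            (Finset.sum_congr rfl fun j _ => by rw [mul_assoc, mul_comm (h (ra.right i))])
      _ = _ := key'
      _ = _ := Finset.sum_congr rfl fun i _ => by
        rw [← TensorProduct.sum_tmul]
        congr 1
        rw [← Finset.mul_sum]
        congr 1
        show _ = (WithConv.toConv g * WithConv.toConv h) (ra.right i)
        rw [AlgHom.convMul_apply, ← (a₂ i).eq, map_sum]
        simp

theorem exists_fg_orbit (k : Type u) [Field k] (A : Type v) [CommRing A] [HopfAlgebra k A] (R : Type w) [CommRing R]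
    [Algebra k R] (x : R ⊗[k] A) :
    ∃ L : Submodule R (R ⊗[k] A), L.FG ∧ x ∈ L ∧ ∀ p : A →ₐ[k] R, MadRed.ptAct k A R p x ∈ L := by
  classical
  induction x using TensorProduct.induction_on with
  | zero => exact ⟨⊥, Submodule.fg_bot, zero_mem _, fun p => by simp⟩
  | add x y hx hy =>
    obtain ⟨L, hL, hx, hpx⟩ := hx
    obtain ⟨L', hL', hy, hpy⟩ := hy
    exact ⟨L ⊔ L', hL.sup hL', Submodule.add_mem_sup hx hy,
      fun p => by rw [map_add]; exact Submodule.add_mem_sup (hpx p) (hpy p)⟩
  | tmul r a =>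
    let ra := Coalgebra.Repr.arbitrary k a
    refine ⟨Submodule.span R (insert (r ⊗ₜ[k] a) (ra.index.image fun i => (1 : R) ⊗ₜ[k] ra.left i : Set (R ⊗[k] A))),
      Submodule.fg_span (Set.Finite.insert _ (Finset.finite_toSet _)), Submodule.subset_span (Or.inl rfl), fun p => ?_⟩
    rw [MadRed.ptAct, Algebra.TensorProduct.lift_tmul, MadRed.translAux, AlgHom.comp_apply, AlgHom.comp_apply,
      Bialgebra.comulAlgHom_apply, ← ra.eq, map_sum, map_sum, Finset.mul_sum]
    refine Submodule.sum_mem _ fun i hi => ?_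
    have : (r * p (ra.right i)) • ((1 : R) ⊗ₜ[k] ra.left i) ∈ Submodule.span R
        (insert (r ⊗ₜ[k] a) (ra.index.image fun i => (1 : R) ⊗ₜ[k] ra.left i : Set (R ⊗[k] A))) :=
      Submodule.smul_mem _ _ (Submodule.subset_span (Or.inr (Finset.mem_image_of_mem _ hi)))
    rw [TensorProduct.smul_tmul', smul_eq_mul, mul_one] at this
    simpa using this

theorem decomp (k : Type u) [Field k] (R : Type w) [CommRing R] [Algebra k R] [IsNoetherianRing R]
    {V : Type*} [AddCommGroup V] [Module R V] [Module k V] [IsScalarTower k R V] {ι : Type*}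
    (T : ι → V →ₗ[R] V) (hc : ∀ g h z, T g (T h z) = T h (T g z))
    (hd : ∀ g, ⨆ μ : k, Module.End.eigenspace ((T g).restrictScalars k) μ = ⊤)
    (N : Submodule R V) (hN : N.FG) (hst : ∀ g, ∀ z ∈ N, T g z ∈ N) {x : V} (hx : x ∈ N) :
    x ∈ ⨆ χ : ι → k, ⨅ g, Module.End.eigenspace ((T g).restrictScalars k) (χ g) := by
  classical
  by_contra hxJ
  set J := ⨆ χ : ι → k, ⨅ g, Module.End.eigenspace ((T g).restrictScalars k) (χ g)
  let S : Set (Submodule R N) := {P₀ | ∃ C : Submodule R V, C ≤ N ∧ (∀ g, ∀ z ∈ C, T g z ∈ C) ∧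
    (P₀.map N.subtype) ⊔ C = N ∧ (P₀.map N.subtype) ⊓ C = ⊥ ∧ (∀ g, ∀ z ∈ P₀.map N.subtype, T g z ∈ P₀.map N.subtype) ∧
    ¬ C.restrictScalars k ≤ J}
  haveI : Module.Finite R N := Module.Finite.iff_fg.mpr hN
  have hS : S.Nonempty := ⟨⊥, N, le_rfl, hst, by simp, by simp, by simp, fun h => hxJ (h hx)⟩
  obtain ⟨P₀, ⟨C, hCN, hCst, hsup, hinf, hPst, hCJ⟩, hmax⟩ :=
    set_has_maximal_iff_noetherian.mpr (inferInstance : IsNoetherian R N) S hS
  set P := P₀.map N.subtype with hP
  have hnon : ∃ g, ∀ μ : k, ∃ z ∈ C, T g z ≠ μ • z := by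
    by_contra! hcon
    choose χ hχ using hcon
    refine hCJ fun z hz => Submodule.mem_iSup_of_mem χ ((Submodule.mem_iInf _).mpr fun g => ?_)
    exact Module.End.mem_eigenspace_iff.mpr (hχ g z hz)
  obtain ⟨g, hg⟩ := hnon
  let E : k → Submodule R V := fun μ => C ⊓ LinearMap.ker (T g - (algebraMap k R μ) • LinearMap.id)
  have memE : ∀ μ z, z ∈ E μ ↔ z ∈ C ∧ T g z = μ • z := fun μ z => by
    simp [E, sub_eq_zero, algebraMap_smul]
  have split : ∀ (s : Finset k) (v : k → V), (∀ μ, T g (v μ) = μ • v μ) → ∑ μ ∈ s, v μ ∈ C → ∀ μ ∈ s, v μ ∈ C := by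
    intro s
    induction s using Finset.induction_on with
    | empty => simp
    | insert a s ha ih =>
      intro v hv hsum
      rw [Finset.sum_insert ha] at hsum
      have h1 : ∑ μ ∈ s, (μ - a) • v μ ∈ C := by
        have h2 := C.sub_mem (hCst g _ hsum) (C.smul_mem (algebraMap k R a) hsum)
        rw [map_add, map_sum, hv, algebraMap_smul, smul_add, Finset.smul_sum, add_sub_add_left_eq_sub,
          ← Finset.sum_sub_distrib] at h2
        simpa [hv, sub_smul] using h2
      have h3 : ∀ μ ∈ s, v μ ∈ C := fun μ hμ => by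
        have h4 := ih (fun μ => (μ - a) • v μ) (fun ν => by
          show T g ((ν - a) • v ν) = ν • ((ν - a) • v ν)
          rw [LinearMap.map_smul_of_tower, hv, smul_comm]) h1 μ hμ
        have h5 := C.smul_mem (algebraMap k R (μ - a)⁻¹) h4
        rwa [algebraMap_smul, inv_smul_smul₀ (sub_ne_zero.mpr fun h : μ = a => ha (h ▸ hμ))] at h5
      intro μ hμ
      rcases Finset.mem_insert.mp hμ with rfl | hμ
      · have := C.sub_mem hsum (C.sum_mem h3)
        simpa using this
      · exact h3 μ hμ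
  have hCE : C ≤ ⨆ μ, E μ := by
    intro z hz
    obtain ⟨f, hf, hfz⟩ := (Submodule.mem_iSup_iff_exists_finsupp _ z).mp
      (show z ∈ ⨆ μ : k, Module.End.eigenspace ((T g).restrictScalars k) μ by rw [hd g]; trivial)
    have hf' : ∀ μ, T g (f μ) = μ • f μ := fun μ => Module.End.mem_eigenspace_iff.mp (hf μ)
    rw [← hfz]
    refine Submodule.sum_mem _ fun μ hμ => Submodule.mem_iSup_of_mem μ ((memE μ _).mpr ⟨?_, hf' μ⟩)
    exact split f.support f hf' (by rw [← hfz] at hz; exact hz) μ hμ
  obtain ⟨μ₀, hμ₀⟩ : ∃ μ, ¬ (E μ).restrictScalars k ≤ J := by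
    by_contra! hcon
    refine hCJ fun z hz => ?_
    have hz' := hCE hz
    clear hz
    induction hz' using Submodule.iSup_induction' with
    | mem μ y hy => exact hcon μ hy
    | zero => exact zero_mem _
    | add y w _ _ hy hw => exact add_mem hy hw
  set C' := ⨆ (μ : k) (_ : μ ≠ μ₀), E μ with hC'
  have hC'C : C' ≤ C := iSup₂_le fun μ _ => inf_le_left
  have hEst : ∀ h μ z, z ∈ E μ → T h z ∈ E μ := fun h μ z hz => by
    obtain ⟨hz1, hz2⟩ := (memE μ z).mp hz
    refine (memE μ _).mpr ⟨hCst h z hz1, ?_⟩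
    rw [hc, hz2, ← algebraMap_smul R μ z, map_smul, algebraMap_smul]
  have hC'st : ∀ h, ∀ z ∈ C', T h z ∈ C' := by
    intro h z hz
    have hle : C' ≤ C'.comap (T h) := iSup₂_le fun μ hμ y hy =>
      Submodule.mem_iSup_of_mem μ (Submodule.mem_iSup_of_mem hμ (hEst h μ y hy))
    exact hle hz
  have hdis : E μ₀ ⊓ C' = ⊥ := by
    have hind := (Module.End.eigenspaces_iSupIndep ((T g).restrictScalars k)) μ₀
    rw [Submodule.eq_bot_iff]
    rintro z ⟨hz, hz'⟩
    refine (Submodule.disjoint_def.mp hind) z (Module.End.mem_eigenspace_iff.mpr ((memE μ₀ z).mp hz).2) ?_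
    rw [hC'] at hz'
    clear hz
    induction hz' using Submodule.iSup_induction' with
    | mem μ y hy =>
      by_cases hμ : μ = μ₀
      · rw [iSup_neg (not_not.mpr hμ)] at hy
        rw [(Submodule.mem_bot R).mp hy]
        exact zero_mem _
      · rw [iSup_pos hμ] at hy
        exact Submodule.mem_iSup_of_mem μ (Submodule.mem_iSup_of_mem hμ (Module.End.mem_eigenspace_iff.mpr ((memE μ y).mp hy).2))
    | zero => exact zero_mem _
    | add y w _ _ hy hw => exact add_mem hy hw
  have hsup' : C' ⊔ E μ₀ = C := by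
    refine le_antisymm (sup_le hC'C inf_le_left) (hCE.trans (iSup_le fun μ => ?_))
    by_cases hμ : μ = μ₀
    · exact hμ ▸ le_sup_right
    · exact le_sup_of_le_left (le_iSup₂_of_le μ hμ le_rfl)
  have hne : ¬ C' ≤ P := by
    intro hle
    have h0 : C' = ⊥ := eq_bot_iff.mpr (hinf ▸ le_inf hle hC'C)
    rw [h0, bot_sup_eq] at hsup'
    obtain ⟨z, hz, hz'⟩ := hg μ₀
    rw [← hsup'] at hz
    exact hz' ((memE μ₀ z).mp hz).2
  have hPN : P ⊔ C' ≤ N := sup_le (Submodule.map_subtype_le _ _) (hC'C.trans hCN)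
  have hmapP : ((P ⊔ C').comap N.subtype).map N.subtype = P ⊔ C' := by
    rw [Submodule.map_comap_subtype, inf_eq_right.mpr hPN]
  refine hmax ((P ⊔ C').comap N.subtype) ⟨E μ₀, inf_le_left.trans hCN, fun h => hEst h μ₀, ?_, ?_, ?_, hμ₀⟩ ?_
  · rw [hmapP, sup_assoc, hsup', hsup]
  · rw [hmapP, Submodule.eq_bot_iff]
    rintro z ⟨hz, hzE⟩
    obtain ⟨p, hp, c, hc', rfl⟩ := Submodule.mem_sup.mp hz
    have hp0 : p = 0 := (Submodule.mem_bot R).mp (hinf ▸ ⟨hp, by
      have := C.sub_mem (inf_le_left (b := LinearMap.ker (T g - (algebraMap k R μ₀) • LinearMap.id)) hzE) (hC'C hc')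
      rwa [add_sub_cancel_right] at this⟩)
    subst hp0
    rw [zero_add] at hzE ⊢
    exact (Submodule.mem_bot R).mp (hdis ▸ ⟨hzE, hc'⟩)
  · rw [hmapP]
    intro h z hz
    obtain ⟨p, hp, c, hc', rfl⟩ := Submodule.mem_sup.mp hz
    rw [map_add]
    exact Submodule.add_mem_sup (hPst h p hp) (hC'st h c hc')
  · refine lt_of_le_not_ge (fun z hz => Submodule.mem_sup_left (Submodule.mem_map_of_mem hz)) fun hle => hne ?_
    exact (le_sup_right.trans hmapP.ge).trans (Submodule.map_mono hle)


/-- Let k be a field, G = Spec A an affine k-group with A a commutative Hopf algebra over k, and R a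
commutative Noetherian k-algebra, so that R ⊗ A is the coordinate ring of the base change G_R and
the k-algebra maps A → R are its R-valued points. Let H be a set of R-valued points which pairwise
commute for the convolution product of G(R) (the case of an abelian subgroup of G(R)). If every g in
H is diagonalizable over k on R ⊗ A, meaning that the eigenspaces of right translation by g, for
eigenvalues in k, span R ⊗ A, then H is simultaneously diagonalizable over k on R ⊗ A: the common
eigenspaces of the right translations by all g in H span R ⊗ A. The standing assumptions of the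
source at this point (k algebraically closed of characteristic zero, G reductive) are not used. -/
theorem result (k : Type u) [Field k]
    (A : Type v) [CommRing A] [HopfAlgebra k A] (R : Type w) [CommRing R] [Algebra k R]
    [IsNoetherianRing R] (H : Set (A →ₐ[k] R))
    (hcomm : ∀ g ∈ H, ∀ h ∈ H,
      WithConv.toConv g * WithConv.toConv h = WithConv.toConv h * WithConv.toConv g)
    (hdiag : ∀ g ∈ H, ⨆ μ : k,
      Module.End.eigenspace (((MadRed.ptAct k A R g).toLinearMap).restrictScalars k) μ = ⊤) :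
    ⨆ χ : H → k, ⨅ g : H,
      Module.End.eigenspace (((MadRed.ptAct k A R g.1).toLinearMap).restrictScalars k) (χ g) = ⊤ := by
  classical
  let T : H → (R ⊗[k] A →ₐ[R] R ⊗[k] A) := fun g => MadRed.ptAct k A R g.1
  have hcomm' : ∀ g h : H, ∀ z, T g (T h z) = T h (T g z) := fun g h z => by
    show MadRed.ptAct k A R g.1 (MadRed.ptAct k A R h.1 z) = MadRed.ptAct k A R h.1 (MadRed.ptAct k A R g.1 z)
    rw [ptAct_ptAct, ptAct_ptAct, hcomm g.1 g.2 h.1 h.2]
  rw [eq_top_iff]
  intro x _
  obtain ⟨L, hLfg, hL⟩ := exists_fg_orbit k A R x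
  let N : Submodule R (R ⊗[k] A) :=
    Submodule.span R (insert x (Set.range fun p : A →ₐ[k] R => MadRed.ptAct k A R p x))
  have hNfg : N.FG := by
    haveI : Module.Finite R L := Module.Finite.iff_fg.mpr hLfg
    have : N ≤ L := Submodule.span_le.mpr (Set.insert_subset hL.1 (by rintro _ ⟨p, rfl⟩; exact hL.2 p))
    exact Submodule.FG.of_le hLfg this
  have hNst : ∀ g : H, ∀ z ∈ N, T g z ∈ N := by
    intro g z hz
    induction hz using Submodule.span_induction with
    | mem z hz =>
      rcases hz with rfl | ⟨p, rfl⟩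
      · exact Submodule.subset_span (Or.inr ⟨g.1, rfl⟩)
      · refine Submodule.subset_span (Or.inr ⟨_, (ptAct_ptAct k A R g.1 p x).symm⟩)
    | zero => rw [map_zero]; exact zero_mem _
    | add y w _ _ hy hw => rw [map_add]; exact add_mem hy hw
    | smul r y _ hy => rw [map_smul]; exact Submodule.smul_mem _ r hy
  exact decomp k R (fun g => (T g).toLinearMap) hcomm' (fun g => hdiag g.1 g.2) N hNfg hNst
    (Submodule.subset_span (Or.inl rfl))

end Groth.Agent.S16160
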