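import Groth.Statements.S16161
import Mathlib

set_option autoImplicit false
universe u v
open MadRed

namespace Groth.Agent.S16161

/-- Let k be an algebraically closed field of characteristic zero and R a reduced finitely generated
commutative k-algebra whose spectrum is connected (R has no idempotents besides 0 and 1); let W =
R^n be a free R-module of finite rank and g an R-linear endomorphism of W of finite order, g^m = 1
with m > 0 (an element of finite order of GL(W)(R)). Then the action of g on W is diagonalizable
over k: viewing g as a k-linear map, its eigenspaces for eigenvalues in k span W. The source also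
assumes that g is diagonalizable over k on every fibre W ⊗ k(x), x a point of Spec R; for g of
finite order this holds automatically (k is algebraically closed of characteristic zero), as the
source itself notes, so that hypothesis is omitted. -/
theorem result
    (k : Type u) [Field k] [IsAlgClosed k] [CharZero k]
    (R : Type v) [CommRing R] [Algebra k R] [IsReduced R] [Algebra.FiniteType k R]
    (hconn : ∀ e : R, IsIdempotentElem e → e = 0 ∨ e = 1)
    (n : ℕ) (g : Module.End R (Fin n → R)) (m : ℕ) (hm : 0 < m) (hg : g ^ m = 1) :
    ⨆ μ : k, Module.End.eigenspace (g.restrictScalars k) μ = ⊤ := by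
  classical
  haveI : NeZero (m : k) := ⟨Nat.cast_ne_zero.2 hm.ne'⟩
  haveI : NeZero m := ⟨hm.ne'⟩
  obtain ⟨ζ, hζ⟩ := HasEnoughRootsOfUnity.exists_primitiveRoot k m
  let s := Polynomial.nthRootsFinset m (1 : k)
  have hne : s.Nonempty := ⟨1, (Polynomial.mem_nthRootsFinset hm 1).2 (one_pow m)⟩
  have hprod : ∏ z ∈ s, (Polynomial.X - Polynomial.C z) = (Polynomial.X : Polynomial k) ^ m - 1 :=
    (Polynomial.X_pow_sub_one_eq_prod hm hζ).symm
  set f := g.restrictScalars k
  have hpow : ∀ j : ℕ, ∀ x, (f ^ j) x = (g ^ j) x := by
    intro j
    induction j with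
    | zero => intro x; rfl
    | succ j ih =>
      intro x
      rw [pow_succ, pow_succ, Module.End.mul_apply, Module.End.mul_apply, ih]
      rfl
  rw [eq_top_iff]
  intro x _
  have hx : x = ∑ z ∈ s, Polynomial.aeval f (Lagrange.basis s id z) x := by
    rw [← LinearMap.sum_apply, ← map_sum, Lagrange.sum_basis (Function.injective_id.injOn) hne, map_one,
      Module.End.one_apply]
  rw [hx]
  refine Submodule.sum_mem _ fun z hz => Submodule.mem_iSup_of_mem z ?_
  rw [Module.End.mem_eigenspace_iff, ← sub_eq_zero]
  have key : ∃ c : k, (Polynomial.X - Polynomial.C z) * Lagrange.basis s id z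
      = Polynomial.C c * ((Polynomial.X : Polynomial k) ^ m - 1) := by
    refine ⟨∏ j ∈ s.erase z, (z - j)⁻¹, ?_⟩
    rw [← hprod, ← Finset.mul_prod_erase s _ hz]
    simp only [Lagrange.basis, Lagrange.basisDivisor, id_eq, Finset.prod_mul_distrib, map_prod]
    ring
  obtain ⟨c, hc⟩ := key
  have h0 : Polynomial.aeval f ((Polynomial.X - Polynomial.C z) * Lagrange.basis s id z) x = 0 := by
    rw [hc, map_mul, map_sub, map_one, map_pow, Polynomial.aeval_X, Module.End.mul_apply, LinearMap.sub_apply,
      hpow, hg]
    simp
  rw [map_mul, map_sub, Polynomial.aeval_X, Polynomial.aeval_C, Module.End.mul_apply, LinearMap.sub_apply,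
    Module.algebraMap_end_apply] at h0
  exact h0

end Groth.Agent.S16161
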