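import Groth.Statements.S16162


set_option autoImplicit false
open CategoryTheory MonoidalCategory CartesianMonoidalCategory MonObj GrpObj AlgebraicGeometry
universe u
open MadRed

namespace Groth.Agent.S16162

/-- Let S be a scheme, G a group scheme over S, and X an S-scheme with an action of G making X → S a
principal G-bundle (a torsor in the representable fppf sense: X → S surjective, flat and locally of
finite presentation, and G ×_S X → X ×_S X, (g, x) ↦ (g·x, x), an isomorphism). Let P be a closed
subset of X stable under the action: the action map sends into P every point of G ×_S X whose second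
projection lies in P. Then the image of P in S is closed, and P is the full preimage of its image.
(The source works with varieties over the complex numbers and an affine algebraic group; the
assertion holds over any base. Its second assertion, that P → image is again a principal bundle for
the induced reduced structures, then comes from base change and is not part of this row.) -/
theorem result {S : Scheme.{u}}
    {G X : Over S} [GrpObj G] (a : AlgGrp.Action G X) (ha : RedSub.IsTorsor a)
    (P : Set X.left) (hP : IsClosed P)
    (hstab : ∀ w : (G ⊗ X).left, (snd G X).left.base w ∈ P → a.act.left.base w ∈ P) :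
    IsClosed (X.hom.base '' P) ∧ X.hom.base ⁻¹' (X.hom.base '' P) = P := by
  obtain ⟨hs, hf, hfp, hi⟩ := ha
  haveI := hs; haveI := hf; haveI := hfp; haveI := hi
  have hsat : X.hom.base ⁻¹' (X.hom.base '' P) = P := by
    refine Set.Subset.antisymm (fun x ⟨y, hy, hxy⟩ => ?_) (Set.subset_preimage_image _ _)
    obtain ⟨z, hz₁, hz₂⟩ := Scheme.Pullback.exists_preimage_pullback (f := X.hom) (g := X.hom) x y hxy.symm
    haveI : IsIso (lift a.act (snd G X)).left := ((Over.forget S).mapIso (asIso (lift a.act (snd G X)))).isIso_hom
    obtain ⟨w, hw⟩ : ∃ w, (lift a.act (snd G X)).left w = z :=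
      (lift a.act (snd G X)).left.homeomorph.surjective z
    have e₁ : (fst X X).left z = a.act.left w := by
      rw [← hw, ← Scheme.Hom.comp_apply, ← Over.comp_left, lift_fst]
    have e₂ : (snd X X).left z = (snd G X).left w := by
      rw [← hw, ← Scheme.Hom.comp_apply, ← Over.comp_left, lift_snd]
    have hx : (fst X X).left z = x := hz₁
    have hy' : (snd X X).left z = y := hz₂
    rw [← hx, e₁]
    exact hstab w (by rw [← e₂, hy']; exact hy)
  refine ⟨?_, hsat⟩
  have ho : IsOpenMap X.hom.base := by
    haveI : UniversallyOpen X.hom := inferInstance
    exact X.hom.isOpenMap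
  have hc : (X.hom.base '' P)ᶜ = X.hom.base '' Pᶜ := by
    rw [← Set.image_preimage_eq (X.hom.base '' P)ᶜ hs.surj, Set.preimage_compl, hsat]
  rw [← isOpen_compl_iff, hc]
  exact ho _ hP.isOpen_compl

end Groth.Agent.S16162
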