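import Groth.Statements.S16164


set_option autoImplicit false
open Neron

namespace Groth.Agent.S16164

open Matrix in
theorem norm_block {κ₁ κ₂ : Type} [Fintype κ₁] [Fintype κ₂]
    (Ψ₁ : Matrix κ₁ κ₁ ℤ) (Ψ₂ : Matrix κ₂ κ₂ ℤ) (y₁ : κ₁ → ℤ) (y₂ : κ₂ → ℤ) :
    Sum.elim y₁ y₂ ⬝ᵥ (Matrix.fromBlocks Ψ₁ 0 0 Ψ₂).mulVec (Sum.elim y₁ y₂) =
      y₁ ⬝ᵥ Ψ₁.mulVec y₁ + y₂ ⬝ᵥ Ψ₂.mulVec y₂ := by
  rw [Matrix.fromBlocks_mulVec]
  simp [Matrix.zero_mulVec, sumElim_dotProduct_sumElim]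

/-- Let X, Y₁, Y₂ be finitely generated free abelian groups with chosen bases, so that homomorphisms are
integer matrices acting on column vectors and each group is identified with its dual; let P : X → Y₁
and Q : X → Y₂ be surjective with A = (P over Q) : X → Y₁ ⊕ Y₂ injective, and let Ψ₁, Ψ₂ be
symmetric positive-definite integer matrices on Y₁ and Y₂, Ψ their block-diagonal sum. If the image
of Aᵀ Ψ : Y₁ ⊕ Y₂ → X coincides with the image of Aᵀ Ψ A : X → X (the reverse inclusion always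
holds), then A is bijective. (In the source X, Y₁, Y₂ are character groups of maximal tori, P and Q
specialization maps, Ψ₁ and Ψ₂ monodromy pairings, and the hypothesis expresses that two groups of
components coincide.) -/
theorem result
    {ι κ₁ κ₂ : Type} [Fintype ι] [Fintype κ₁] [Fintype κ₂]
    (P : Matrix κ₁ ι ℤ) (Q : Matrix κ₂ ι ℤ)
    (hP : Function.Surjective P.mulVec) (hQ : Function.Surjective Q.mulVec)
    (hA : Function.Injective (Matrix.fromRows P Q).mulVec)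
    (Ψ₁ : Matrix κ₁ κ₁ ℤ) (Ψ₂ : Matrix κ₂ κ₂ ℤ) (hΨ₁ : Ψ₁.IsSymm) (hΨ₂ : Ψ₂.IsSymm)
    (hΨ₁pos : ∀ y : κ₁ → ℤ, y ≠ 0 → 0 < y ⬝ᵥ Ψ₁.mulVec y)
    (hΨ₂pos : ∀ y : κ₂ → ℤ, y ≠ 0 → 0 < y ⬝ᵥ Ψ₂.mulVec y)
    (himage : LinearMap.range ((Matrix.fromRows P Q).transpose * Matrix.fromBlocks Ψ₁ 0 0 Ψ₂).mulVecLin =
      LinearMap.range ((Matrix.fromRows P Q).transpose * Matrix.fromBlocks Ψ₁ 0 0 Ψ₂ * Matrix.fromRows P Q).mulVecLin) :
    Function.Bijective (Matrix.fromRows P Q).mulVec := by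
  refine ⟨hA, ?_⟩
  set A := Matrix.fromRows P Q with hAdef
  set Ψ := Matrix.fromBlocks Ψ₁ 0 0 Ψ₂ with hΨdef
  have hnonneg : ∀ y : κ₁ ⊕ κ₂ → ℤ, 0 ≤ y ⬝ᵥ Ψ.mulVec y ∧ (y ⬝ᵥ Ψ.mulVec y = 0 → y = 0) := by
    intro y
    rw [← Sum.elim_comp_inl_inr y, hΨdef, norm_block]
    have n1 : ∀ z : κ₁ → ℤ, 0 ≤ z ⬝ᵥ Ψ₁.mulVec z := fun z => by
      rcases eq_or_ne z 0 with rfl | hz
      · simp
      · exact (hΨ₁pos z hz).le
    have n2 : ∀ z : κ₂ → ℤ, 0 ≤ z ⬝ᵥ Ψ₂.mulVec z := fun z => by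
      rcases eq_or_ne z 0 with rfl | hz
      · simp
      · exact (hΨ₂pos z hz).le
    refine ⟨add_nonneg (n1 _) (n2 _), fun h => ?_⟩
    have h1 := n1 (y ∘ Sum.inl)
    have h2 := n2 (y ∘ Sum.inr)
    have e1 : y ∘ Sum.inl = 0 := by
      by_contra hz
      have := hΨ₁pos _ hz
      omega
    have e2 : y ∘ Sum.inr = 0 := by
      by_contra hz
      have := hΨ₂pos _ hz
      omega
    rw [e1, e2]
    funext i
    rcases i with i | i <;> rfl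
  -- the orthogonal decomposition
  have hdec : ∀ y : κ₁ ⊕ κ₂ → ℤ, ∃ (x : ι → ℤ) (r : κ₁ ⊕ κ₂ → ℤ), y = A.mulVec x + r ∧
      ∀ z : ι → ℤ, A.mulVec z ⬝ᵥ Ψ.mulVec r = 0 := by
    intro y
    have hmem : (A.transpose * Ψ).mulVecLin y ∈ LinearMap.range (A.transpose * Ψ * A).mulVecLin :=
      himage ▸ LinearMap.mem_range_self _ y
    obtain ⟨x, hx⟩ := hmem
    simp only [Matrix.mulVecLin_apply] at hx
    refine ⟨x, y - A.mulVec x, by abel, fun z => ?_⟩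
    rw [Matrix.dotProduct_mulVec, ← Matrix.vecMul_transpose, Matrix.vecMul_vecMul, ← Matrix.dotProduct_mulVec,
      Matrix.mulVec_sub, Matrix.mulVec_mulVec, hx, sub_self, dotProduct_zero]
  have hΨsym : ∀ u v : κ₁ ⊕ κ₂ → ℤ, u ⬝ᵥ Ψ.mulVec v = v ⬝ᵥ Ψ.mulVec u := by
    intro u v
    have hs : Ψ.transpose = Ψ := by
      rw [hΨdef, Matrix.fromBlocks_transpose, hΨ₁.eq, hΨ₂.eq, Matrix.transpose_zero, Matrix.transpose_zero]
    rw [Matrix.dotProduct_mulVec, ← hs, Matrix.vecMul_transpose, dotProduct_comm, hs]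
  suffices ∀ (n : ℕ) (y : κ₁ ⊕ κ₂ → ℤ), (y ⬝ᵥ Ψ.mulVec y).toNat = n → ∃ x, A.mulVec x = y from
    fun y => this _ y rfl
  intro n
  induction n using Nat.strong_induction_on with
  | _ n ih =>
    intro y hy
    -- induction step for a vector supported on one factor
    have single : ∀ z x₀, z ⬝ᵥ Ψ.mulVec z ≤ y ⬝ᵥ Ψ.mulVec y →
        ((∀ r : κ₁ ⊕ κ₂ → ℤ, r = z → r ⬝ᵥ Ψ.mulVec (A.mulVec x₀) = z ⬝ᵥ Ψ.mulVec z)) →
        ∃ x, A.mulVec x = z := by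
      intro z x₀ hz hx₀
      obtain ⟨x, r, hxr, horth⟩ := hdec z
      have hN : z ⬝ᵥ Ψ.mulVec z = A.mulVec x ⬝ᵥ Ψ.mulVec (A.mulVec x) + r ⬝ᵥ Ψ.mulVec r := by
        rw [hxr, Matrix.mulVec_add, add_dotProduct, dotProduct_add, dotProduct_add, horth x,
          hΨsym r (A.mulVec x), horth x]
        ring
      rcases eq_or_ne (A.mulVec x) 0 with h0 | h0
      · have hzr : r = z := by rw [hxr, h0, zero_add]
        have := hx₀ r hzr
        rw [hΨsym, horth x₀] at this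
        exact ⟨0, by rw [(hnonneg z).2 this.symm, Matrix.mulVec_zero]⟩
      · have hpos : 0 < A.mulVec x ⬝ᵥ Ψ.mulVec (A.mulVec x) :=
          lt_of_le_of_ne (hnonneg _).1 fun h => h0 ((hnonneg _).2 h.symm)
        have hlt : (r ⬝ᵥ Ψ.mulVec r).toNat < n := by
          have := (hnonneg r).1
          omega
        obtain ⟨x', hx'⟩ := ih _ hlt r rfl
        exact ⟨x + x', by rw [Matrix.mulVec_add, hx', ← hxr]⟩
    obtain ⟨x₁, hx₁⟩ := hP (y ∘ Sum.inl)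
    obtain ⟨x₂, hx₂⟩ := hQ (y ∘ Sum.inr)
    have hsplit : y ⬝ᵥ Ψ.mulVec y = Sum.elim (y ∘ Sum.inl) 0 ⬝ᵥ Ψ.mulVec (Sum.elim (y ∘ Sum.inl) 0) +
        Sum.elim 0 (y ∘ Sum.inr) ⬝ᵥ Ψ.mulVec (Sum.elim 0 (y ∘ Sum.inr)) := by
      conv_lhs => rw [← Sum.elim_comp_inl_inr y]
      rw [hΨdef, norm_block, norm_block, norm_block]
      simp
    obtain ⟨a, ha⟩ := single (Sum.elim (y ∘ Sum.inl) 0) x₁
      (by have := (hnonneg (Sum.elim 0 (y ∘ Sum.inr))).1; omega) (fun r hr => by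
        subst hr
        rw [hΨdef, hAdef, Matrix.fromRows_mulVec, Matrix.fromBlocks_mulVec, Matrix.fromBlocks_mulVec]
        simp [sumElim_dotProduct_sumElim, hx₁])
    obtain ⟨b, hb⟩ := single (Sum.elim 0 (y ∘ Sum.inr)) x₂
      (by have := (hnonneg (Sum.elim (y ∘ Sum.inl) 0)).1; omega) (fun r hr => by
        subst hr
        rw [hΨdef, hAdef, Matrix.fromRows_mulVec, Matrix.fromBlocks_mulVec, Matrix.fromBlocks_mulVec]
        simp [sumElim_dotProduct_sumElim, hx₂])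
    refine ⟨a + b, ?_⟩
    rw [Matrix.mulVec_add, ha, hb]
    funext i
    rcases i with i | i <;> simp

end Groth.Agent.S16164
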