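import Groth.Statements.S16170
import Mathlib

set_option autoImplicit false
open Neron

namespace Groth.Agent.S16170

/-- Let M and N be symmetric positive-semidefinite integer matrices on the same finite index set whose
sum M + N is positive definite, and let χ₁, χ₂ be integer matrices with χ₁ + χ₂ = 1 and M χ₂ = N χ₁.
Then χ₁ and χ₂ are idempotent. (In the intended application M = Pᵀ Ψ₁ P and N = Qᵀ Ψ₂ Q for
surjective integer matrices P, Q and positive-definite Ψ₁, Ψ₂.) -/
theorem result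
    {ι : Type} [Fintype ι] [DecidableEq ι]
    (M N χ₁ χ₂ : Matrix ι ι ℤ) (hM : M.IsSymm) (hN : N.IsSymm)
    (hMpos : ∀ v : ι → ℤ, 0 ≤ v ⬝ᵥ M.mulVec v) (hNpos : ∀ v : ι → ℤ, 0 ≤ v ⬝ᵥ N.mulVec v)
    (hpos : ∀ v : ι → ℤ, v ≠ 0 → 0 < v ⬝ᵥ (M + N).mulVec v)
    (hsum : χ₁ + χ₂ = 1) (hrel : M * χ₂ = N * χ₁) :
    χ₁ * χ₁ = χ₁ ∧ χ₂ * χ₂ = χ₂ := by
  have hP2 : χ₂ = 1 - χ₁ := eq_sub_of_add_eq' hsum
  set P := M + N with hPdef
  have hPs : P.IsSymm := hM.add hN
  have hMP : P * χ₁ = M := by
    rw [hP2, mul_sub, mul_one] at hrel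
    rw [hPdef, add_mul, ← hrel]; abel
  set χ := χ₁
  have hsymP : χ.transpose * P = P * χ := by
    rw [hMP]
    conv_rhs => rw [← hM.eq, ← hMP, Matrix.transpose_mul, hPs.eq]
  -- the inner product
  let b : (ι → ℤ) → (ι → ℤ) → ℤ := fun v w => v ⬝ᵥ P.mulVec w
  have hbχ : ∀ v w, b (χ.mulVec v) w = b v (χ.mulVec w) := by
    intro v w
    show χ.mulVec v ⬝ᵥ P.mulVec w = v ⬝ᵥ P.mulVec (χ.mulVec w)
    rw [Matrix.mulVec_mulVec, ← hsymP, ← Matrix.mulVec_mulVec, Matrix.dotProduct_mulVec v,
      Matrix.vecMul_transpose]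
  have hbadd : ∀ u v w, b u (v - w) = b u v - b u w := fun u v w => by
    simp only [b, Matrix.mulVec_sub, dotProduct_sub]
  have hbadd' : ∀ u v w, b (u - v) w = b u w - b v w := fun u v w => by
    simp only [b, sub_dotProduct]
  let A₀ : (ι → ℤ) → (ι → ℤ) := fun v => χ.mulVec v - χ.mulVec (χ.mulVec v)
  have hbA : ∀ v w, b (A₀ v) w = b v (A₀ w) := fun v w => by
    simp only [A₀, hbadd, hbadd', hbχ]
  have hq : ∀ v, 0 ≤ b v (A₀ v) := by
    intro v
    have h1 : b v (A₀ v) = b (v - χ.mulVec v) (χ.mulVec (v - χ.mulVec v)) +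
        (b (χ.mulVec v) (χ.mulVec v) - b (χ.mulVec v) (χ.mulVec (χ.mulVec v))) := by
      simp only [A₀, hbadd, hbadd', hbχ, Matrix.mulVec_sub]
      ring
    rw [h1]
    refine add_nonneg ?_ ?_
    · have := hMpos (v - χ.mulVec v)
      rwa [← hMP, ← Matrix.mulVec_mulVec] at this
    · have := hNpos (χ.mulVec v)
      rw [show N = P - P * χ by rw [hMP, hPdef]; abel, Matrix.sub_mulVec, dotProduct_sub,
        ← Matrix.mulVec_mulVec] at this
      exact this
  have hb0 : ∀ v, 0 ≤ b v v := fun v => by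
    rcases eq_or_ne v 0 with rfl | hv
    · simp [b]
    · exact (hpos v hv).le
  let D : (ι → ℤ) → (ι → ℤ) := fun v => v - 2 • χ.mulVec v
  have hD1 : ∀ v, b v v - 4 * b v (A₀ v) = b (D v) (D v) := fun v => by
    simp only [A₀, D, two_smul, hbadd, hbadd', hbχ]
    simp only [b, Matrix.mulVec_add, dotProduct_add, add_dotProduct, Matrix.mulVec_sub, dotProduct_sub,
      sub_dotProduct]
    have e := hbχ v v
    simp only [b] at e
    have e2 := hbχ v (χ.mulVec v)
    simp only [b] at e2
    linarith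
  have hD2 : ∀ v, b v (A₀ v) - 4 * b (A₀ v) (A₀ v) = b (D v) (A₀ (D v)) := fun v => by
    simp only [A₀, D, two_smul, Matrix.mulVec_sub, Matrix.mulVec_add, hbadd, hbadd', hbχ]
    simp only [b, Matrix.mulVec_add, dotProduct_add, add_dotProduct, Matrix.mulVec_sub, dotProduct_sub,
      sub_dotProduct]
    have h : ∀ x y, (χ.mulVec x) ⬝ᵥ P.mulVec y = x ⬝ᵥ P.mulVec (χ.mulVec y) := hbχ
    simp only [h]
    ring
  have hdec : ∀ v, 16 * b (A₀ v) (A₀ v) ≤ b v v := fun v => by
    have h1 := hD1 v; have h2 := hD2 v; have h3 := hb0 (D v); have h4 := hq (D v)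
    linarith
  have hA0 : ∀ v, A₀ v = 0 := by
    intro v
    have hsmall : ∀ n : ℕ, ∀ w, b w w ≤ (n : ℤ) → A₀^[n + 1] w = 0 := by
      intro n
      induction n with
      | zero =>
        intro w hw
        have : w = 0 := by
          by_contra hw0
          have := hpos w hw0
          simp only [b] at hw
          omega
        subst this
        simp [A₀]
      | succ n ih =>
        intro w hw
        rw [Function.iterate_succ_apply]
        rcases eq_or_ne (A₀ w) 0 with h0 | h0
        · rw [h0, Function.iterate_fixed (by simp [A₀])]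
        · refine ih _ ?_
          have := hdec w
          have h5 := hpos _ h0
          simp only [b] at this hw ⊢
          push_cast at hw
          omega
    have hdown : ∀ n : ℕ, ∀ w, A₀^[n + 1] w = 0 → A₀ w = 0 := by
      intro n
      induction n with
      | zero => intro w hw; exact hw
      | succ n ih =>
        intro w hw
        rw [Function.iterate_succ_apply] at hw
        have h2 : A₀ (A₀ w) = 0 := ih _ hw
        by_contra h0
        have h5 := hpos _ h0
        have : b (A₀ w) (A₀ w) = 0 := by rw [hbA, h2]; simp [b]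
        simp only [b] at this
        omega
    obtain ⟨n, hn⟩ : ∃ n : ℕ, b v v ≤ n := ⟨(b v v).toNat, Int.self_le_toNat _⟩
    exact hdown n v (hsmall n v hn)
  have h1 : χ * χ = χ := by
    refine Matrix.toLin'.injective (LinearMap.ext fun v => ?_)
    rw [Matrix.toLin'_apply, Matrix.toLin'_apply, ← Matrix.mulVec_mulVec]
    exact (sub_eq_zero.mp (hA0 v)).symm
  refine ⟨h1, ?_⟩
  rw [hP2, mul_sub, sub_mul, sub_mul, one_mul, one_mul, mul_one, h1]
  abel

end Groth.Agent.S16170
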