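import Groth.Statements.S16174
-- import your own Groth.Agent.* helpers here
import Groth.Agent.Hensel.Etale
import Groth.Agent.Hensel.Ops
import Groth.Agent.Hensel.Local

set_option autoImplicit false
universe u
open Hensel

namespace Groth.Agent.S16174

/-- Let V be a Henselian valuation ring and p a prime ideal of V. Then the local rings V_p (localisation
at p) and V/p are Henselian. (Both are again valuation rings, which is elementary and not restated.) -/
theorem result (V : Type u) [CommRing V]
    [IsDomain V] [ValuationRing V] [HenselianLocalRing V] (p : Ideal V) [p.IsPrime] :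
    HenselianLocalRing (Localization.AtPrime p) ∧ HenselianLocalRing (V ⧸ p) := by
  classical
  haveI : HenselianRing V p := Hensel.henselianRing_mono (J := IsLocalRing.maximalIdeal V)
    (IsLocalRing.le_maximalIdeal (Ideal.IsPrime.ne_top inferInstance))
  constructor
  · rw [Hensel.henselianLocalRing_iff, Hensel.henselianRing_iff_gRoot]
    refine ⟨(IsLocalRing.jacobson_eq_maximalIdeal ⊥ bot_ne_top).ge, fun P n hP hmap => ?_⟩
    let φ := algebraMap V (Localization.AtPrime p)
    have key : ∀ x ∈ IsLocalRing.maximalIdeal (Localization.AtPrime p), ∃ y ∈ p, φ y = x := by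
      intro x hx
      obtain ⟨a, s, rfl⟩ := IsLocalization.exists_mk'_eq p.primeCompl x
      have ha : a ∈ p := (IsLocalization.AtPrime.mk'_mem_maximal_iff (Localization.AtPrime p) p a s).1 hx
      rcases ValuationRing.dvd_total s.1 a with ⟨y, rfl⟩ | h
      · refine ⟨y, ((inferInstance : p.IsPrime).mem_or_mem ha).resolve_left s.2, ?_⟩
        rw [eq_comm, IsLocalization.mk'_eq_iff_eq_mul, ← map_mul, mul_comm]
      · exact absurd (p.mem_of_dvd h ha) s.2
    let T : Polynomial (Localization.AtPrime p) := Polynomial.X ^ n * (Polynomial.X - 1)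
    have hco : ∀ i, (P - T).coeff i ∈ IsLocalRing.maximalIdeal (Localization.AtPrime p) := fun i => by
      rw [← Ideal.Quotient.eq_zero_iff_mem, ← Polynomial.coeff_map, Polynomial.map_sub, hmap]
      simp [T]
    choose y hy hφy using fun i => key _ (hco i)
    have hT : T.Monic := (Polynomial.monic_X_pow n).mul (by simpa using Polynomial.monic_X_sub_C (1 : Localization.AtPrime p))
    have hnat : P.natDegree = n + 1 := by
      rw [← hP.natDegree_map (Ideal.Quotient.mk (IsLocalRing.maximalIdeal (Localization.AtPrime p))), hmap,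
        ← map_one Polynomial.C, Polynomial.natDegree_mul (pow_ne_zero _ Polynomial.X_ne_zero) (Polynomial.X_sub_C_ne_zero 1),
        Polynomial.natDegree_X_pow, Polynomial.natDegree_X_sub_C]
    have hnatT : T.natDegree = n + 1 := by
      simp only [T]
      rw [← map_one Polynomial.C, Polynomial.natDegree_mul (pow_ne_zero _ Polynomial.X_ne_zero) (Polynomial.X_sub_C_ne_zero 1),
        Polynomial.natDegree_X_pow, Polynomial.natDegree_X_sub_C]
    let Q : Polynomial V := ∑ i ∈ Finset.range (n + 1), Polynomial.C (y i) * Polynomial.X ^ i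
    have hQdeg : Q.degree < (n + 1 : ℕ) := (Polynomial.degree_sum_le _ _).trans_lt
      ((Finset.sup_lt_iff (WithBot.bot_lt_coe _)).2 fun i hi => (Polynomial.degree_C_mul_X_pow_le i _).trans_lt
        (WithBot.coe_lt_coe.2 (Finset.mem_range.1 hi)))
    let P₀ : Polynomial V := Polynomial.X ^ n * (Polynomial.X - 1) + Q
    have hT₀ : (Polynomial.X ^ n * (Polynomial.X - 1) : Polynomial V).Monic :=
      (Polynomial.monic_X_pow n).mul (by simpa using Polynomial.monic_X_sub_C (1 : V))
    have hP₀ : P₀.Monic := hT₀.add_of_left (by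
      rw [Polynomial.degree_eq_natDegree hT₀.ne_zero, ← map_one Polynomial.C,
        Polynomial.natDegree_mul (pow_ne_zero _ Polynomial.X_ne_zero) (Polynomial.X_sub_C_ne_zero 1),
        Polynomial.natDegree_X_pow, Polynomial.natDegree_X_sub_C]
      exact hQdeg)
    have hmap₀ : P₀.map φ = P := by
      have h1 : (P₀.map φ) = T + Q.map φ := by simp [P₀, T]
      rw [h1, eq_comm, ← sub_eq_iff_eq_add']
      ext i
      simp only [Q, Polynomial.map_sum, Polynomial.finset_sum_coeff, Polynomial.map_mul, Polynomial.map_C,
        Polynomial.map_pow, Polynomial.map_X, Polynomial.coeff_C_mul_X_pow]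
      rw [Finset.sum_ite_eq]
      split_ifs with hi
      · exact (hφy i).symm
      · rw [Finset.mem_range, not_lt] at hi
        rw [Polynomial.coeff_sub]
        rcases eq_or_lt_of_le hi with h | h
        · rw [← h]
          nth_rewrite 1 [← hnat]
          rw [← hnatT, hP.coeff_natDegree, hT.coeff_natDegree, sub_self]
        · rw [Polynomial.coeff_eq_zero_of_natDegree_lt (hnat ▸ h), Polynomial.coeff_eq_zero_of_natDegree_lt (hnatT ▸ h), sub_zero]
    obtain ⟨α, hα, hα1⟩ := (Hensel.henselianRing_iff_gRoot.1 (inferInstance : HenselianRing V p)).2 P₀ n hP₀ (by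
      have hQ0 : Q.map (Ideal.Quotient.mk p) = 0 := by
        simp [Q, Polynomial.map_sum, fun i => Ideal.Quotient.eq_zero_iff_mem.2 (hy i)]
      simp [P₀, hQ0])
    refine ⟨φ α, ?_, ?_⟩
    · rw [← hmap₀, Polynomial.IsRoot.def, Polynomial.eval_map_apply, hα.eq_zero, map_zero]
    · rw [← map_one φ, ← map_sub]
      exact (IsLocalization.AtPrime.to_map_mem_maximal_iff (Localization.AtPrime p) p _).2 hα1
  · haveI : IsLocalRing (V ⧸ p) := IsLocalRing.of_surjective' (Ideal.Quotient.mk p) Ideal.Quotient.mk_surjective
    exact Hensel.henselianLocalRing_finite V (V ⧸ p)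

end Groth.Agent.S16174
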