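import Groth.Statements.S16184
import Groth.Agent.S8071
import Groth.Agent.RootSys.Datum
import Groth.Agent.Chev.SolvTorus
import Mathlib.LinearAlgebra.RootSystem.Finite.Nondegenerate
-- import your own Groth.Agent.* helpers here

set_option autoImplicit false
universe u
open CategoryTheory MonoidalCategory CartesianMonoidalCategory MonObj GrpObj AlgebraicGeometry
open AGF

set_option backward.isDefEq.respectTransparency false

namespace Groth.Agent.S16184
section

variable {S : Scheme.{u}} {T G : Over S} [GrpObj G] (i : T ⟶ G) [Mono i]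

theorem grpObj_eq_of_mono (g₁ g₂ : GrpObj T) (h₁ : @IsMonHom (Over S) _ _ T G g₁.toMonObj _ i)
    (h₂ : @IsMonHom (Over S) _ _ T G g₂.toMonObj _ i) : g₁ = g₂ := by
  refine GrpObj.ext _ _ (MonObj.ext _ _ ?_)
  exact (cancel_mono i).1 ((@IsMonHom.mul_hom (Over S) _ _ T G g₁.toMonObj _ i h₁).trans
    (@IsMonHom.mul_hom (Over S) _ _ T G g₂.toMonObj _ i h₂).symm)

end


/-- Let G be a semisimple group over an algebraically closed field k and T ⊆ G a maximal torus. A
character χ : T → 𝔾_m which is Weyl-invariant — χ ∘ φ = χ whenever φ : T → T is induced by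
conjugation by a k-point of G carrying T into itself — is the trivial character. (In the source this
is the vanishing of the Weyl-invariants of the character lattice of the maximal torus of the derived
subgroup.) -/
theorem result (k : Type u) [Field k] [IsAlgClosed k]
    (G : Over (Spec (CommRingCat.of k))) [GrpObj G] (hG : Red.IsSemisimple G)
    (T : Over (Spec (CommRingCat.of k))) [GrpObj T] (iT : T ⟶ G) (hT : Red.IsMaximalTorus iT)
    (χ : T ⟶ Red.Gm (Spec (CommRingCat.of k))) [IsMonHom χ]
    (hχ : ∀ (n : 𝟙_ (Over (Spec (CommRingCat.of k))) ⟶ G) (φ : T ⟶ T), φ ≫ iT = AGF.conjBy n iT → φ ≫ χ = χ) :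
    χ = 1 := by
  classical
  rename_i gG gT hmχ
  have hred : Red.IsReductive G := ⟨hG.1, hG.2.1, fun s => (hG.2.2 s).1⟩
  obtain ⟨i1, i2, i3⟩ := RootSys.red_inst hred
  obtain ⟨r, ⟨E⟩⟩ := Chev.Borel.split_of_isTorus hT.2.2.1
  obtain ⟨D, hDT, hDi⟩ := RootSys.exists_splitRed hred hT E
  subst hDT
  obtain rfl := eq_of_heq hDi
  haveI := D.maximalTorus.2.1
  obtain rfl := grpObj_eq_of_mono D.i gT D.grpT hT.1 D.maximalTorus.1
  have h1 : D.split.hom.hom.hom ≫ D.split.inv.hom.hom = 𝟙 D.T := congrArg (fun z => z.hom.hom) D.split.hom_inv_id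
  have h2 : D.split.inv.hom.hom ≫ D.split.hom.hom.hom = 𝟙 _ := congrArg (fun z => z.hom.hom) D.split.inv_hom_id
  obtain ⟨m, hm⟩ : ∃ m : D.M, D.split.inv.hom.hom ≫ χ = Red.chi _ m := by
    haveI := D.split.inv.hom.isMonHom_hom
    haveI : IsMonHom (D.split.inv.hom.hom ≫ χ) := inferInstance
    exact RootSys.exists_eq_chi _
  have hcor : ∀ a : D.idx, D.P.coroot a m = 0 := by
    intro a
    obtain ⟨n, hn⟩ := D.refl a
    let θ := (D.P.reflection a).toLinearMap.toAddMonoidHom
    let φ : D.T ⟶ D.T := D.split.hom.hom.hom ≫ Red.DSmap _ θ ≫ D.split.inv.hom.hom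
    have hφ : φ ≫ D.i = AGF.conjBy n D.i := by
      have h := hn D.T (𝟙 D.T)
      rw [Category.id_comp, Category.id_comp] at h
      simp only [φ, Category.assoc, AGF.conjBy]
      exact h.symm
    have h := congrArg (D.split.inv.hom.hom ≫ ·) (hχ n φ hφ)
    simp only [φ, Category.assoc, reassoc_of% h2, hm] at h
    rw [Red.chi, RootIntrinsic.DSmap_comp_apply] at h
    have h3 := congr($(RootIntrinsic.DSmap_injective (k := k) h) (1 : ℤ))
    simp only [θ, AddMonoidHom.comp_apply, zmultiplesHom_apply, one_smul, LinearMap.toAddMonoidHom_coe,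
      LinearEquiv.coe_coe, RootPairing.reflection_apply, D.pairing_eq, RootPairing.coroot'] at h3
    have h4 : D.P.coroot a m • D.P.root a = 0 := sub_eq_self.1 h3
    exact (smul_eq_zero.1 h4).resolve_right (D.P.ne_zero a)
  have hrank : Module.finrank ℤ (D.P.corootSpan ℤ) = Module.finrank ℤ (Module.Dual ℤ D.M) := by
    rw [RootPairing.finrank_corootSpan_eq]
    refine Eq.trans ?_ (Module.finrank_linearMap_self ℤ ℤ D.M).symm
    exact (S8071.result k G D).1 hG
  haveI := RootSys.finite_quotient_of_rank (D.P.corootSpan ℤ) hrank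
  have hm0 : m = 0 := (Module.forall_dual_apply_eq_zero_iff ℤ m).1 fun f => by
    let c := Nat.card (Module.Dual ℤ D.M ⧸ D.P.corootSpan ℤ)
    have hc : c • f ∈ D.P.corootSpan ℤ := by
      rw [← Submodule.Quotient.mk_eq_zero]
      exact (Submodule.mkQ (D.P.corootSpan ℤ)).map_smul_of_tower c f |>.trans card_nsmul_eq_zero'
    have h : (c • f) m = 0 := by
      refine Submodule.span_induction (fun x hx => ?_) (by simp) (fun x y _ _ hx hy => by simp [hx, hy])
        (fun r x _ hx => by simp [hx]) hc
      obtain ⟨a, rfl⟩ := hx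
      exact hcor a
    rw [LinearMap.smul_apply] at h
    exact (smul_eq_zero.1 h).resolve_left Nat.card_pos.ne'
  rw [hm0, RootSys.chi_zero] at hm
  rw [← Category.id_comp χ, ← h1, Category.assoc, hm, MonObj.comp_one]

end Groth.Agent.S16184
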