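import Groth.Statements.S16187
import Groth.Agent.FittLib.CITOne
import Groth.Agent.S12482

set_option autoImplicit false
universe u
open CategoryTheory
open Fitt Groth.Agent
set_option backward.isDefEq.respectTransparency false

namespace Groth.Agent.S16187

/-- Let k be an algebraically closed field and let B be a reduced k-algebra presented as k[T_1, …,
T_r]/(a_1, …, a_c) with a_1, …, a_c a regular sequence in the polynomial ring, so that Spec B is a
reduced complete intersection of dimension d = r - c. Then the d-th Fitting ideal of Ω_{B/k} equals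
the 0-th Fitting ideal of the B-module T^1 = Ext^1_B(Ω_{B/k}, B). (The source states the equality
Fitt_d of the formal sheaf of differentials = Fitt_0 of T^1 for a flat morphism 𝔛 → Spf k[[t]] of
locally Noetherian formal schemes that is a local complete intersection of relative dimension d and
has reduced closed fibre, and obtains it on affine charts from a two-term free resolution of the
differentials given by the conormal sequence; stated here is that chart computation on the closed
fibre, for a global complete intersection in affine r-space.) -/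
theorem result
    (k : Type u) [Field k] [IsAlgClosed k] (r c : ℕ)
    (B : Type u) [CommRing B] [Algebra k B] [IsReduced B]
    (φ : MvPolynomial (Fin r) k →ₐ[k] B) (hφ : Function.Surjective φ)
    (a : Fin c → MvPolynomial (Fin r) k)
    (ha : RingTheory.Sequence.IsRegular (MvPolynomial (Fin r) k) (List.ofFn a))
    (hker : RingHom.ker φ.toRingHom = Ideal.span (Set.range a)) :
    Fitt.ideal B (KaehlerDifferential k B) (r - c) =
      Fitt.ideal B (Abelian.Ext.{u} (ModuleCat.of B (KaehlerDifferential k B)) (ModuleCat.of B B) 1) 0 := by
  classical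
  let v : Fin r → B := fun i => φ (MvPolynomial.X i)
  have hv : (MvPolynomial.aeval v : MvPolynomial (Fin r) k →ₐ[k] B) = φ :=
    MvPolynomial.algHom_ext fun i => by simp [v]
  let P := Algebra.Generators.ofSurjective v (hv ▸ hφ)
  have hval : ∀ p : P.Ring, MvPolynomial.aeval P.val p = φ p := fun p => DFunLike.congr_fun hv p
  have hker' : P.ker = Ideal.span (Set.range a) := by
    rw [← hker]
    ext p
    change MvPolynomial.aeval P.val p = 0 ↔ φ p = 0
    rw [hval]
  have ha' : ∀ j, a j ∈ P.ker := fun j => hker' ▸ Ideal.subset_span ⟨j, rfl⟩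
  obtain ⟨b, hb⟩ := S12482.result (MvPolynomial (Fin r) k) c a ha.toIsWeaklyRegular
  have hli : ∀ g : Fin c → P.Ring, ∑ j, g j * a j ∈ P.ker ^ 2 → ∀ j, g j ∈ P.ker := by
    intro g hg
    intro j
    rw [hker'] at hg ⊢
    exact FittLib.coeff_mem_of_sum_mem_sq a b hb g hg j
  let J : (Fin c → B) →ₗ[B] (Fin r → B) :=
    Fintype.linearCombination B (fun j i => φ (MvPolynomial.pderiv i (a j)))
  have hJ' : ∀ (g : Fin c → MvPolynomial (Fin r) k) (i : Fin r),
      φ (MvPolynomial.pderiv i (∑ j, g j * a j)) = J (fun j => φ (g j)) i := by
    intro g i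
    simp only [map_sum, Derivation.leibniz, map_add, smul_eq_mul, map_mul, J,
      Fintype.linearCombination_apply, Finset.sum_apply, Pi.smul_apply]
    refine Finset.sum_congr rfl fun j _ => ?_
    rw [show φ (a j) = 0 from RingHom.mem_ker.1 (hker ▸ Ideal.subset_span ⟨j, rfl⟩ :
      a j ∈ RingHom.ker φ.toRingHom), zero_mul, add_zero]
  let π : (Fin r → B) →ₗ[B] KaehlerDifferential k B :=
    P.toExtension.toKaehler.comp P.cotangentSpaceBasis.equivFun.symm.toLinearMap
  refine FittLib.ideal_eq_ideal_ext_one J π ?_ ?_ ?_
  · rw [injective_iff_map_eq_zero]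
    intro u hu
    choose g hg using fun j => hφ (u j)
    funext j
    rw [Pi.zero_apply, ← hg, ← hval]
    refine FittLib.eq_zero_of_conormal P a ha' hli g (fun i => ?_) j
    rw [hval]
    refine (hJ' g i).trans ?_
    rw [funext hg, hu]
    rfl
  · exact P.toExtension.toKaehler_surjective.comp P.cotangentSpaceBasis.equivFun.symm.surjective
  · intro z
    constructor
    · intro hz
      obtain ⟨x, hx⟩ := (P.toExtension.exact_cotangentComplex_toKaehler _).1 hz
      obtain ⟨⟨y, hy⟩, rfl⟩ := Algebra.Extension.Cotangent.mk_surjective x
      obtain ⟨g, hg⟩ := Ideal.mem_span_range_iff_exists_fun.1 (show y ∈ Ideal.span (Set.range a) from hker' ▸ hy)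
      refine ⟨fun j => φ (g j), funext fun i => ?_⟩
      rw [← hJ' g i, hg, ← hval]
      have h1 := congrArg (fun w => P.cotangentSpaceBasis.repr w i) hx
      rw [Algebra.Extension.cotangentComplex_mk] at h1
      refine ((P.cotangentSpaceBasis_repr_one_tmul _ _).symm.trans h1).trans ?_
      show P.cotangentSpaceBasis.repr (P.cotangentSpaceBasis.equivFun.symm z) i = z i
      rw [← Module.Basis.equivFun_apply, LinearEquiv.apply_symm_apply]
    · rintro ⟨u, rfl⟩
      choose g hg using fun j => hφ (u j)
      have hy : ∑ j, g j * a j ∈ P.ker := Submodule.sum_mem _ fun j _ => Ideal.mul_mem_left _ _ (ha' j)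
      refine (P.toExtension.exact_cotangentComplex_toKaehler _).2 ⟨Algebra.Extension.Cotangent.mk ⟨_, hy⟩, ?_⟩
      apply P.cotangentSpaceBasis.equivFun.injective
      rw [LinearEquiv.coe_coe, LinearEquiv.apply_symm_apply]
      funext i
      rw [Algebra.Extension.cotangentComplex_mk, Module.Basis.equivFun_apply, ← funext hg, ← hJ' g i, ← hval]
      exact P.cotangentSpaceBasis_repr_one_tmul _ _

end Groth.Agent.S16187
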