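import Groth.Statements.S16188
import Mathlib
import Groth.Agent.DvrDom.ClosedProper

set_option autoImplicit false
universe u
open CategoryTheory AlgebraicGeometry TopologicalSpace
open SchMor

namespace Groth.Agent.S16188

/-- Let f : X → Y be a morphism of schemes with X reduced and irreducible. Then f factors through an
irreducible component of Y carrying its reduced closed-subscheme structure: there are an irreducible
component Z of Y and a morphism g from X to the closed subscheme of Y cut out by the vanishing ideal
sheaf of Z with g followed by the inclusion equal to f; that closed subscheme is integral. -/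
theorem result
    {X Y : Scheme.{u}} (f : X ⟶ Y) [IsReduced X] [IrreducibleSpace X] :
    ∃ (Z : Closeds Y) (_ : (Z : Set Y) ∈ irreducibleComponents Y)
      (_ : IsIntegral (Scheme.IdealSheafData.vanishingIdeal Z).subscheme)
      (g : X ⟶ (Scheme.IdealSheafData.vanishingIdeal Z).subscheme),
      g ≫ (Scheme.IdealSheafData.vanishingIdeal Z).subschemeι = f := by
  let η := genericPoint (X : Type u)
  let Z : Closeds Y := ⟨irreducibleComponent (f η), isClosed_irreducibleComponent⟩
  have hle : Z ≤ Z := le_rfl
  have hrange : Set.range f ⊆ Z := by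
    rintro _ ⟨x, rfl⟩
    exact ((genericPoint_specializes x).map f.continuous).mem_closed Z.isClosed mem_irreducibleComponent
  let J := Scheme.IdealSheafData.vanishingIdeal Z
  have hsupp : (J.support : Set Y) = Z := rfl
  have hker : J ≤ f.ker := by
    refine Scheme.IdealSheafData.le_ofIdeals_iff.2 fun U a ha => ?_
    rw [RingHom.mem_ker]
    apply eq_zero_of_basicOpen_eq_bot
    rw [eq_bot_iff, ← Scheme.preimage_basicOpen]
    intro x hx
    have hmem : f x ∈ (J.support : Set Y) := hsupp.symm ▸ hrange ⟨x, rfl⟩
    have h := (J.coe_support_inter U).le ⟨hmem, Y.basicOpen_le a hx⟩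
    exact (Scheme.mem_zeroLocus_iff _ _ _).1 h.1 a ha hx
  haveI : IsReduced J.subscheme := Groth.Agent.DvrDom.isReduced_vanishingIdeal_subscheme Z
  haveI : IrreducibleSpace J.subscheme := by
    have hZ : IsIrreducible (Z : Set Y) := isIrreducible_irreducibleComponent
    rw [← hsupp, ← Scheme.IdealSheafData.range_subschemeι] at hZ
    haveI : Nonempty J.subscheme := Set.range_nonempty_iff_nonempty.mp hZ.nonempty
    haveI : PreirreducibleSpace J.subscheme := by
      refine ⟨fun U V hU hV hUn hVn => ?_⟩
      obtain ⟨U', hU', rfl⟩ := J.subschemeι.isClosedEmbedding.isInducing.isOpen_iff.1 hU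
      obtain ⟨V', hV', rfl⟩ := J.subschemeι.isClosedEmbedding.isInducing.isOpen_iff.1 hV
      obtain ⟨a, -, ha⟩ := hUn
      obtain ⟨b, -, hb⟩ := hVn
      obtain ⟨_, ⟨c, rfl⟩, hc⟩ := hZ.2 U' V' hU' hV' ⟨_, ⟨a, rfl⟩, ha⟩ ⟨_, ⟨b, rfl⟩, hb⟩
      exact ⟨c, trivial, hc⟩
    exact ⟨inferInstance⟩
  refine ⟨Z, irreducibleComponent_mem_irreducibleComponents _, isIntegral_of_irreducibleSpace_of_isReduced _,
    IsClosedImmersion.lift J.subschemeι f (by rwa [Scheme.IdealSheafData.ker_subschemeι]),
    IsClosedImmersion.lift_fac _ _ _⟩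

end Groth.Agent.S16188
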