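import Groth.Statements.S1619
import Groth.Agent.WeilLib.Trdeg
import Groth.Agent.BMCoh.Height
import Groth.Agent.CycDim.DegBase


set_option autoImplicit false
universe u
open CategoryTheory CategoryTheory.Limits AlgebraicGeometry
attribute [local instance] Curv2.stalkAlgebra Curv2.resAlgebra
open Variety

set_option backward.isDefEq.respectTransparency false
namespace Groth.Agent.S1619

/-- Let X be irreducible and locally of finite type over a field k, with generic point ξ. If the residue
field of ξ has transcendence degree n over k then X has Krull dimension n. -/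
theorem result (k : Type u) [Field k] (X : Scheme.{u}) [X.Over (Spec (CommRingCat.of k))] [LocallyOfFiniteType (X ↘ (Spec (CommRingCat.of k)))] [IrreducibleSpace X]
    (n : ℕ) (hn : Algebra.trdeg k (X.residueField (genericPoint X)) = n) : topologicalKrullDim X = n := by
  let f := X ↘ Spec (CommRingCat.of k)
  have hr : ∀ z : X, Algebra.trdeg k (X.residueField z) = Groth.Agent.WeilLib.trd f z := fun z => by
    unfold Groth.Agent.WeilLib.trd
    have : Groth.Agent.WeilLib.kStr f z = Curv2.resMap k X z := by
      refine RingHom.ext fun c => ?_
      simp only [Groth.Agent.WeilLib.kStr, Groth.Agent.WeilLib.secStr, Scheme.Hom.appLE]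
      simp [Curv2.resMap, Curv2.stalkMap, Coh.toGlobal, Scheme.evaluation]
      rfl
    rw [this]
  have h' := (hr (genericPoint X)).symm.trans hn
  rw [(Groth.Agent.WeilLib.exists_pdim_eq_trd f _).1, Nat.cast_inj] at h'
  rw [← h']
  show _ = ((WeilCoh.pdim X (genericPoint X) : ℕ∞) : WithBot ℕ∞)
  rw [← (Groth.Agent.WeilLib.exists_pdim_eq_trd f _).2, ← Groth.Agent.BMCoh.topologicalKrullDim_closure_singleton,
    genericPoint_closure]
  exact (IsHomeomorph.topologicalKrullDim_eq _ (Homeomorph.Set.univ ↥X).isHomeomorph).symm

end Groth.Agent.S1619
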