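import Groth.Statements.S16194
import Mathlib
-- import your own Groth.Agent.* helpers here

set_option autoImplicit false
universe u
open DivAlg

namespace Groth.Agent.S16194

/-- In an associative unital ring R, not necessarily commutative, every element r of the Jacobson
radical (the set of elements lying in every maximal left ideal) is quasiregular, i.e. 1 - r is a
two-sided unit. -/
theorem result {R : Type u} [Ring R] (r : R)
    (hr : r ∈ Ring.jacobson R) : IsUnit (1 - r) := by
  have key : ∀ x ∈ Ring.jacobson R, ∃ z : R, z * (1 - x) = 1 := by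
    intro x hx
    rw [← Ideal.jacobson_bot, Ideal.mem_jacobson_iff] at hx
    obtain ⟨z, hz⟩ := hx (-1)
    rw [Ideal.mem_bot, sub_eq_zero] at hz
    have e : z * (1 - x) = z * -1 * x + z := by noncomm_ring
    exact ⟨z, e.trans hz⟩
  obtain ⟨z, hz⟩ := key r hr
  have hz' : z = 1 - (-(z * r)) := by
    have : z - z * r = 1 := (by noncomm_ring : z - z * r = z * (1 - r)).trans hz
    rw [← this]; abel
  have h2 : -(z * r) ∈ Ring.jacobson R := neg_mem (Ideal.mul_mem_left _ z hr)
  obtain ⟨w, hw⟩ := key _ h2
  rw [← hz'] at hw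
  have hwz : w = 1 - r := by
    calc w = w * (z * (1 - r)) := by rw [hz, mul_one]
      _ = (w * z) * (1 - r) := (mul_assoc _ _ _).symm
      _ = 1 - r := by rw [hw, one_mul]
  exact ⟨⟨1 - r, z, hwz ▸ hw, hz⟩, rfl⟩

end Groth.Agent.S16194
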