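import Groth.Statements.S16195
-- import your own Groth.Agent.* helpers here
import Mathlib

set_option autoImplicit false
universe u v w
open DivAlg

namespace Groth.Agent.S16195

/-- Let R be a ring (associative, unital, not necessarily commutative) and M, N left R-modules. For an
R-module P write BiEnd_R(P) for the ring of endomorphisms of P that are linear over the ring
End_R(P), which acts on P through evaluation. Then every T in BiEnd_R(M × N) preserves the two
summands and is induced by a pair (T₁, T₂) with T₁ in BiEnd_R(M) and T₂ in BiEnd_R(N). -/
theorem result {R : Type u} [Ring R] (M : Type v) (N : Type w)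
    [AddCommGroup M] [Module R M] [AddCommGroup N] [Module R N]
    (T : Module.End (Module.End R (M × N)) (M × N)) :
    ∃ (T₁ : Module.End (Module.End R M) M) (T₂ : Module.End (Module.End R N) N),
      ∀ (m : M) (n : N), T (m, n) = (T₁ m, T₂ n) := by
  let emb₁ : Module.End R M → Module.End R (M × N) := fun φ => φ.prodMap 0
  let emb₂ : Module.End R N → Module.End R (M × N) := fun φ => (0 : Module.End R M).prodMap φ
  have hT : ∀ (φ : Module.End R (M × N)) (p : M × N), T (φ p) = φ (T p) := fun φ p => T.map_smul φ p
  have h1 : ∀ m, (T (m, 0)).2 = 0 := fun m => by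
    have := congrArg Prod.snd (hT (emb₁ 1) (m, 0))
    simpa [emb₁] using this
  have h2 : ∀ n, (T (0, n)).1 = 0 := fun n => by
    have := congrArg Prod.fst (hT (emb₂ 1) (0, n))
    simpa [emb₂] using this
  refine ⟨{ toFun := fun m => (T (m, 0)).1
            map_add' := fun a b => by rw [← Prod.fst_add, ← map_add, Prod.mk_add_mk, add_zero]
            map_smul' := fun φ m => ?_ },
    { toFun := fun n => (T (0, n)).2
      map_add' := fun a b => by rw [← Prod.snd_add, ← map_add, Prod.mk_add_mk, add_zero]
      map_smul' := fun φ n => ?_ }, fun m n => ?_⟩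
  · have := congrArg Prod.fst (hT (emb₁ φ) (m, 0))
    simpa [emb₁] using this
  · have := congrArg Prod.snd (hT (emb₂ φ) (0, n))
    simpa [emb₂] using this
  · have h : T (m, n) = T (m, 0) + T (0, n) := by rw [← map_add]; simp
    rw [h]
    exact Prod.ext (by simp [h2]) (by simp [h1])

end Groth.Agent.S16195
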