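import Groth.Statements.S16197
-- import your own Groth.Agent.* helpers here
import Mathlib

set_option autoImplicit false
universe u v w
open DivAlg

namespace Groth.Agent.S16197

/-- Let R be a ring (associative, unital, not necessarily commutative) and M a left R-module which is a
generator, used here only through the existence of an R-linear surjection from a direct sum of
copies of M, indexed by an arbitrary type, onto R. Then some finite power M^n decomposes as R × Q
for a submodule Q of M^n. (The published statement is an equivalence; this row states only the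
implication from the existence of such a surjection to the splitting.) -/
theorem result {R : Type u} [Ring R] (M : Type v)
    [AddCommGroup M] [Module R M]
    (hgen : ∃ (ι : Type w) (f : (ι →₀ M) →ₗ[R] R), Function.Surjective f) :
    ∃ (n : ℕ) (Q : Submodule R (Fin n → M)), Nonempty ((Fin n → M) ≃ₗ[R] (R × Q)) := by
  classical
  obtain ⟨ι, f, hf⟩ := hgen
  obtain ⟨x, hx⟩ := hf 1
  let e := x.support.equivFin
  let g : (Fin x.support.card → M) →ₗ[R] R :=
    ∑ i, f ∘ₗ Finsupp.lsingle ((e.symm i : x.support) : ι) ∘ₗ LinearMap.proj i
  let y : Fin x.support.card → M := fun i => x (e.symm i : x.support)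
  have hy : g y = 1 := by
    rw [← hx]
    conv_rhs => rw [← Finsupp.sum_single x, Finsupp.sum, map_sum, ← Finset.sum_coe_sort,
      ← e.symm.sum_comp]
    simp [g, y]
  let s : R →ₗ[R] (Fin x.support.card → M) := LinearMap.toSpanSingleton R _ y
  have hgs : ∀ r, g (s r) = r := fun r => by simp [s, hy]
  refine ⟨x.support.card, LinearMap.ker g, ⟨LinearEquiv.ofLinear
    (g.prod ((LinearMap.id - s ∘ₗ g).codRestrict (LinearMap.ker g) fun z => by simp [hgs]))
    (s.coprod (LinearMap.ker g).subtype) ?_ ?_⟩⟩
  · refine LinearMap.ext fun p => ?_
    obtain ⟨r, z, hz⟩ := p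
    have hz' : g z = 0 := hz
    refine Prod.ext ?_ (Subtype.ext ?_) <;> simp [hgs, hz']
  · exact LinearMap.ext fun z => by simp

end Groth.Agent.S16197
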