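import Groth.Statements.S16198
import Mathlib

set_option autoImplicit false
universe u v
open DivAlg

namespace Groth.Agent.S16198

section
open scoped TensorProduct
open Module

variable {R : Type u} [CommRing R] (N : Type v) [AddCommGroup N] [Module R N] [Module.Invertible R N]

lemma smul_swap (g : N →ₗ[R] R) (a c : N) : g c • a = g a • c := by
  have h := congrArg ((TensorProduct.lid R N).toLinearMap ∘ₗ g.rTensor N) (Module.Invertible.tmul_comm (R := R) (m₁ := c) (m₂ := a))
  simpa using h

lemma alt_zero (ω : N →ₗ[R] N →ₗ[R] R) (h : ∀ a, ω a a = 0) (a b : N) : ω a b = 0 := by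
  let K : Ideal R := LinearMap.ker (LinearMap.toSpanSingleton R R (ω a b))
  have hsq : ∀ (g : N →ₗ[R] R) (c : N), g c ∈ K.radical := fun g c ↦ by
    refine ⟨2, ?_⟩
    show g c ^ 2 • ω a b = 0
    rw [pow_two, mul_smul, ← LinearMap.map_smul (ω a), ← LinearMap.smul_apply, ← map_smul,
      smul_swap N g a c, smul_swap N g b c, map_smul, map_smul]
    simp [h]
  have h1 : (1 : R) ∈ K.radical := by
    obtain ⟨t, ht⟩ := (Module.Invertible.linearEquiv R N).surjective 1
    rw [← ht]
    clear ht
    induction t with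
    | zero => rw [map_zero]; exact K.radical.zero_mem
    | tmul g c => exact hsq g c
    | add x y hx hy => rw [map_add]; exact K.radical.add_mem hx hy
  obtain ⟨m, hm⟩ := h1
  rw [one_pow] at hm
  have hm' : (1 : R) • ω a b = 0 := hm
  rwa [one_smul] at hm'

lemma tpow_pic : ∀ n : ℕ, ∃ h : Module.Invertible R (⨂[R] _ : Fin n, N),
    (letI := h; CommRing.Pic.mk R (⨂[R] _ : Fin n, N)) = CommRing.Pic.mk R N ^ n
  | 0 => by
    haveI : Module.Invertible R (⨂[R] _ : Fin 0, N) := .congr (PiTensorProduct.isEmptyEquiv (Fin 0)).symm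
    exact ⟨this, by rw [pow_zero, CommRing.Pic.mk_eq_one_iff]; exact ⟨PiTensorProduct.isEmptyEquiv (Fin 0)⟩⟩
  | n + 1 => by
    obtain ⟨h, hp⟩ := tpow_pic n
    let e : (⨂[R] _ : Fin n, N) ⊗[R] N ≃ₗ[R] ⨂[R] _ : Fin (n + 1), N :=
      ((PiTensorProduct.subsingletonEquiv (R := R) (s := fun _ : Fin 1 ↦ N) 0).symm.lTensor _) ≪≫ₗ
        PiTensorProduct.tmulEquiv R N ≪≫ₗ PiTensorProduct.reindex R (fun _ ↦ N) finSumFinEquiv
    haveI : Module.Invertible R (⨂[R] _ : Fin (n + 1), N) := .congr e
    refine ⟨this, ?_⟩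
    rw [pow_succ, ← hp, ← CommRing.Pic.mk_tensor, CommRing.Pic.mk_eq_mk_iff]
    exact ⟨e.symm⟩

variable (n : ℕ) (e : (Fin n → N) →ₗ[R] (Fin n → R))

/-- The determinant of the images of the axes. -/
noncomputable def D : MultilinearMap R (fun _ : Fin n ↦ N) R :=
  (Matrix.detRowAlternating : (Fin n → R) [⋀^Fin n]→ₗ[R] R).toMultilinearMap.compLinearMap
    fun i ↦ e ∘ₗ LinearMap.single R (fun _ ↦ N) i

lemma one_mem (he : Function.Surjective e) : (1 : R) ∈ LinearMap.range (PiTensorProduct.lift (D N n e)) := by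
  classical
  let d := (Matrix.detRowAlternating : (Fin n → R) [⋀^Fin n]→ₗ[R] R)
  let ψ := fun i ↦ e ∘ₗ LinearMap.single R (fun _ ↦ N) i
  choose y hy using fun j : Fin n ↦ he (Pi.single j 1)
  have h1 : (1 : R) = d fun j ↦ ∑ i, ψ i (y j i) := by
    have : (fun j ↦ ∑ i, ψ i (y j i)) = fun j ↦ (Pi.single j 1 : Fin n → R) := funext fun j ↦ by
      rw [← hy j]
      simp only [ψ, LinearMap.comp_apply]
      rw [← map_sum]
      exact congrArg e (LinearMap.sum_single_apply (fun _ ↦ N) (y j))
    rw [this]
    refine (Matrix.det_one (n := Fin n) (R := R)).symm.trans (congrArg Matrix.det ?_)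
    ext i j
    simp [Matrix.one_apply, Pi.single_apply, eq_comm]
  rw [h1]
  show d.toMultilinearMap _ ∈ _
  rw [MultilinearMap.map_sum]
  refine Submodule.sum_mem _ fun f _ ↦ ?_
  by_cases hf : Function.Injective f
  · let σ := Equiv.ofBijective f hf.bijective_of_finite
    have : (fun j ↦ ψ (f j) (y j (f j))) = (fun i ↦ ψ i (y (σ.symm i) i)) ∘ σ := funext fun j ↦ by
      show ψ (f j) (y j (f j)) = ψ (σ j) (y (σ.symm (σ j)) (σ j))
      rw [σ.symm_apply_apply]
      rfl
    show d (fun j ↦ ψ (f j) (y j (f j))) ∈ _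
    rw [this, AlternatingMap.map_perm]
    refine Submodule.smul_of_tower_mem _ _ ⟨PiTensorProduct.tprod R fun i ↦ y (σ.symm i) i, ?_⟩
    rw [PiTensorProduct.lift.tprod]
    rfl
  · obtain ⟨i, j, hij, hne⟩ := Function.not_injective_iff.mp hf
    let r : Fin n → Fin n → R := fun l ↦ ψ (f l) (y l (f l))
    let ω : N →ₗ[R] N →ₗ[R] R := LinearMap.mk₂ R
      (fun a b ↦ d (Function.update (Function.update r i (ψ (f i) a)) j (ψ (f i) b)))
      (fun a a' b ↦ by simp [Function.update_comm hne, AlternatingMap.map_update_add])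
      (fun c a b ↦ by simp [Function.update_comm hne, AlternatingMap.map_update_smul])
      (fun a b b' ↦ by simp [AlternatingMap.map_update_add])
      (fun c a b ↦ by simp [AlternatingMap.map_update_smul])
    have hω : ω (y i (f i)) (y j (f i)) = 0 := alt_zero N ω (fun a ↦
      d.map_eq_zero_of_eq _ (by simp [Function.update_of_ne hne]) hne) _ _
    have : d r = 0 := by
      rw [← hω]
      simp only [ω, LinearMap.mk₂_apply]
      congr 1
      rw [show ψ (f i) (y i (f i)) = r i from rfl, Function.update_eq_self, show ψ (f i) (y j (f i)) = r j by rw [hij],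
        Function.update_eq_self]
    show d r ∈ _
    rw [this]
    exact Submodule.zero_mem _

end

/-- In the case of a commutative ring R, let N be an invertible R-module such that the direct sum N^n is
isomorphic to R^n for some natural number n. Then the class of N in Pic(R) satisfies [N]^n = 1. (The
published statement is for invertible modules on an arbitrary ringed site; this row states the case
of a commutative ring.) -/
theorem result {R : Type u} [CommRing R] (N : Type v)
    [AddCommGroup N] [Module R N] [Module.Invertible R N] (n : ℕ)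
    (e : (Fin n → N) ≃ₗ[R] (Fin n → R)) :
    CommRing.Pic.mk R N ^ n = 1 := by
  obtain ⟨hinv, hpic⟩ := tpow_pic (R := R) N n
  rw [← hpic, CommRing.Pic.mk_eq_one_iff]
  refine ⟨LinearEquiv.ofBijective (PiTensorProduct.lift (D N n e.toLinearMap)) (Module.Invertible.bijective_of_surjective ?_)⟩
  have h1 := one_mem N n e.toLinearMap e.surjective
  intro r
  obtain ⟨t, ht⟩ := h1
  exact ⟨r • t, by rw [map_smul, ht, smul_eq_mul, mul_one]⟩

end Groth.Agent.S16198
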