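import Groth.Statements.S16199
import Groth.Agent.MatAutLib
import Mathlib.RingTheory.SimpleModule.WedderburnArtin

set_option autoImplicit false
universe u
open DivAlg
open Matrix

namespace Groth.Agent.S16199

/-- Let R be a commutative ring and n ≥ 1. The natural map from GL_n(R) to the R-algebra automorphisms
of M_n(R) is surjective (every automorphism is inner) if and only if Pic_(n)(R) = 0, i.e. every
invertible R-module N with N^n ≅ R^n is free. (For n = 0 the left side holds trivially while the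
right side fails whenever Pic(R) ≠ 0, so this row assumes n ≥ 1, which the published statement
leaves implicit; invertible modules are quantified in the universe of R, which loses nothing since
every invertible module is finitely generated.) -/
theorem result {R : Type u} [CommRing R] (n : ℕ)
    (hn : 1 ≤ n) :
    (∀ φ : Matrix (Fin n) (Fin n) R ≃ₐ[R] Matrix (Fin n) (Fin n) R,
        ∃ P : GL (Fin n) R, ∀ A : Matrix (Fin n) (Fin n) R, φ A = P.1 * A * (P⁻¹).1) ↔
      (∀ (N : Type u) [AddCommGroup N] [Module R N] [Module.Invertible R N],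
        Nonempty ((Fin n → N) ≃ₗ[R] (Fin n → R)) → Module.Free R N) := by
  have : NeZero n := ⟨by omega⟩
  constructor
  · intro hinn N _ _ _ ⟨e⟩
    rw [Module.Invertible.free_iff_linearEquiv]
    let S : R ≃ₐ[R] Module.End R N :=
      AlgEquiv.ofBijective (Algebra.ofId R (Module.End R N)) (Module.Invertible.toModuleEnd_bijective R N)
    let φ : Matrix (Fin n) (Fin n) R ≃ₐ[R] Matrix (Fin n) (Fin n) R :=
      S.mapMatrix.trans ((endVecAlgEquivMatrixEnd (Fin n) R R N).symm.trans
        ((e.conjAlgEquiv R).trans LinearMap.toMatrixAlgEquiv'))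
    obtain ⟨P, hP⟩ := hinn φ
    have hPP : ∀ y, P.1 *ᵥ ((P⁻¹).1 *ᵥ y) = y := fun y => by
      rw [Matrix.mulVec_mulVec, ← Units.val_mul, mul_inv_cancel, Units.val_one, Matrix.one_mulVec]
    have hPP' : ∀ y, (P⁻¹).1 *ᵥ (P.1 *ᵥ y) = y := fun y => by
      rw [Matrix.mulVec_mulVec, ← Units.val_mul, inv_mul_cancel, Units.val_one, Matrix.one_mulVec]
    let G : (Fin n → R) →ₗ[R] (Fin n → N) := e.symm.toLinearMap ∘ₗ Matrix.toLin' P.1
    have key : ∀ y : Fin n → R, G ((Matrix.single 0 0 1 : Matrix (Fin n) (Fin n) R) *ᵥ y) = Pi.single 0 (G y 0) := by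
      intro y
      have h := congrArg (fun Z => Z *ᵥ (P.1 *ᵥ y)) (hP (Matrix.single 0 0 1 : Matrix (Fin n) (Fin n) R))
      simp only [← Matrix.mulVec_mulVec, hPP'] at h
      have h2 : φ (Matrix.single 0 0 1 : Matrix (Fin n) (Fin n) R) *ᵥ (P.1 *ᵥ y) = e (Pi.single 0 (G y 0)) := by
        have hf : ∀ (f : Module.End R (Fin n → R)) v, LinearMap.toMatrixAlgEquiv' f *ᵥ v = f v := fun f v => by
          rw [← Matrix.toLinAlgEquiv'_apply, Matrix.toLinAlgEquiv'_toMatrixAlgEquiv']
        simp only [φ, AlgEquiv.trans_apply, hf]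
        show e ((endVecAlgEquivMatrixEnd (Fin n) R R N).symm (S.mapMatrix (Matrix.single 0 0 1 : Matrix (Fin n) (Fin n) R))
          (e.symm (P.1 *ᵥ y))) = _
        congr 1
        ext i
        simp [endVecRingEquivMatrixEnd, S, Matrix.single_apply, G, apply_ite (Algebra.ofId R (Module.End R N)),
          ite_and, Pi.single_apply, Finset.sum_ite_eq', Finset.sum_ite_eq, eq_comm]
        split_ifs with hi
        · rw [Finset.sum_eq_single 0 (fun x _ hx => by simp [hx]) (by simp), if_pos rfl]; rfl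
        · simp
      rw [h2] at h
      show e.symm (P.1 *ᵥ _) = _
      rw [← h, e.symm_apply_apply]
    have hsingle : ∀ r : R, (Matrix.single 0 0 1 : Matrix (Fin n) (Fin n) R) *ᵥ (Pi.single 0 r : Fin n → R) = Pi.single 0 r := fun r => by
      ext i; simp [Matrix.mulVec, dotProduct, Matrix.single_apply, Pi.single_apply, ite_and, eq_comm]
    refine ⟨LinearEquiv.ofLinearMap
      (LinearMap.proj 0 ∘ₗ Matrix.toLin' (P⁻¹).1 ∘ₗ e.toLinearMap ∘ₗ LinearMap.single R (fun _ : Fin n => N) 0)
      (LinearMap.proj 0 ∘ₗ G ∘ₗ LinearMap.single R (fun _ : Fin n => R) 0) ?_ ?_⟩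
    · refine LinearMap.ext fun r => ?_
      show ((P⁻¹).1 *ᵥ e (Pi.single 0 (G (Pi.single 0 r : Fin n → R) 0))) 0 = r
      rw [← key, show (Matrix.single 0 0 1 : Matrix (Fin n) (Fin n) R) *ᵥ (Pi.single 0 r : Fin n → R) = Pi.single 0 r from hsingle r]
      show ((P⁻¹).1 *ᵥ e (e.symm (P.1 *ᵥ _))) 0 = r
      rw [e.apply_symm_apply, hPP', Pi.single_eq_same]
    · refine LinearMap.ext fun v => ?_
      have hG : G ((P⁻¹).1 *ᵥ e (Pi.single 0 v)) = Pi.single 0 v := by
        show e.symm (P.1 *ᵥ _) = _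
        rw [hPP, e.symm_apply_apply]
      have h1 : (Matrix.single 0 0 1 : Matrix (Fin n) (Fin n) R) *ᵥ ((P⁻¹).1 *ᵥ e (Pi.single 0 v)) =
          Pi.single 0 (((P⁻¹).1 *ᵥ e (Pi.single 0 v)) 0) := by
        ext i; simp [Matrix.mulVec, dotProduct, Matrix.single_apply, Pi.single_apply, ite_and, eq_comm]
      show G (Pi.single 0 (((P⁻¹).1 *ᵥ e (Pi.single 0 v)) 0) : Fin n → R) 0 = v
      rw [← h1, key, hG, Pi.single_eq_same, Pi.single_eq_same]
  · intro hpic φ
    have := MatAut.invertible φ
    have := hpic (MatAut.L φ) ⟨MatAut.piEquiv φ⟩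
    obtain ⟨g⟩ := Module.Invertible.free_iff_linearEquiv.1 this
    let M : MatAut.L φ := g.symm 1
    have hbij : Function.Bijective fun x => (M : Matrix (Fin n) (Fin n) R) *ᵥ x := by
      let T : (Fin n → R) ≃ₗ[R] (Fin n → R) :=
        (LinearEquiv.piCongrRight fun _ => g.symm).trans (MatAut.piEquiv φ)
      have hT : ∀ x, T x = (M : Matrix (Fin n) (Fin n) R) *ᵥ x := fun x => by
        ext a
        show ∑ i, (g.symm (x i) : Matrix (Fin n) (Fin n) R) a i = ∑ i, (M : Matrix (Fin n) (Fin n) R) a i * x i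
        refine Finset.sum_congr rfl fun i _ => ?_
        rw [show g.symm (x i) = x i • M by rw [← map_smul, smul_eq_mul, mul_one]]
        simp [mul_comm]
      exact (funext hT : (T : (Fin n → R) → (Fin n → R)) = _) ▸ T.bijective
    have hu : IsUnit (M : Matrix (Fin n) (Fin n) R) := Matrix.mulVec_surjective_iff_isUnit.1 hbij.2
    refine ⟨hu.unit, fun A => ?_⟩
    rw [IsUnit.unit_spec, (MatAut.mem_L φ).1 M.2 A, mul_assoc]
    show φ A = φ A * (hu.unit.1 * (hu.unit⁻¹).1)
    rw [← Units.val_mul, mul_inv_cancel, Units.val_one, mul_one]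

end Groth.Agent.S16199
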