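import Groth.Statements.S1620
import Groth.Agent.WeilLib.Trdeg
import Groth.Agent.BMCoh.Height
import Groth.Agent.CycDim.DegBase


set_option autoImplicit false
universe u
open CategoryTheory CategoryTheory.Limits AlgebraicGeometry
attribute [local instance] Curv2.stalkAlgebra Curv2.resAlgebra
open Variety

set_option backward.isDefEq.respectTransparency false
namespace Groth.Agent.S1620

/-- Let X be locally of finite type over a field k and x ⤳ x' an immediate specialisation (x ≠ x' and no
point strictly in between). If the residue field of x' has transcendence degree n over k then the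
residue field of x has transcendence degree n + 1. -/
theorem result (k : Type u) [Field k] (X : Scheme.{u}) [X.Over (Spec (CommRingCat.of k))] [LocallyOfFiniteType (X ↘ (Spec (CommRingCat.of k)))] (x x' : X) (hne : x ≠ x') (hsp : x ⤳ x')
    (himm : ∀ y : X, x ⤳ y → y ⤳ x' → y = x ∨ y = x')
    (n : ℕ) (hn : Algebra.trdeg k (X.residueField x') = n) : Algebra.trdeg k (X.residueField x) = n + 1 := by
  let f := X ↘ Spec (CommRingCat.of k)
  have hr : ∀ z : X, Algebra.trdeg k (X.residueField z) = Groth.Agent.WeilLib.trd f z := fun z => by
    unfold Groth.Agent.WeilLib.trd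
    have : Groth.Agent.WeilLib.kStr f z = Curv2.resMap k X z := by
      refine RingHom.ext fun c => ?_
      simp only [Groth.Agent.WeilLib.kStr, Groth.Agent.WeilLib.secStr, Scheme.Hom.appLE]
      simp [Curv2.resMap, Curv2.stalkMap, Coh.toGlobal, Scheme.evaluation]
      rfl
    rw [this]
  have h' := (hr x').symm.trans hn
  rw [(Groth.Agent.WeilLib.exists_pdim_eq_trd f x').1, Nat.cast_inj] at h'
  rw [hr x, (Groth.Agent.WeilLib.exists_pdim_eq_trd f x).1]
  have h := (Groth.Agent.CycDeg.isDimFun_dl f x x' hsp hne).2 himm
  simp only [Groth.Agent.CycDeg.dl] at h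
  exact_mod_cast (show WeilCoh.pdim X x = n + 1 by omega)

end Groth.Agent.S1620
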