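import Groth.Statements.S16201
import Mathlib
open AlgebraicGeometry CategoryTheory

set_option autoImplicit false
open CategoryTheory AlgebraicGeometry
open Variety

set_option backward.isDefEq.respectTransparency false
namespace Groth.Agent.S16201

section

theorem exists_open_sub_of_dense {Z : Type*} [TopologicalSpace Z] [PreirreducibleSpace Z] [Nonempty Z]
    {s : Set Z} (hs : Topology.IsConstructible s) (hd : Dense s) : ∃ O : Set Z, IsOpen O ∧ O.Nonempty ∧ O ⊆ s := by
  have key : (∃ O : Set Z, IsOpen O ∧ O.Nonempty ∧ O ⊆ s) ∨ (∃ O : Set Z, IsOpen O ∧ O.Nonempty ∧ O ⊆ sᶜ) := by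
    clear hd
    induction hs using Topology.IsConstructible.empty_union_induction with
    | open_retrocompact U hUo _ =>
      rcases U.eq_empty_or_nonempty with h | h
      · exact Or.inr ⟨Set.univ, isOpen_univ, Set.univ_nonempty, by simp [h]⟩
      · exact Or.inl ⟨U, hUo, h, subset_rfl⟩
    | union s _ t _ hs' ht' =>
      rcases hs' with ⟨O, a, b, c⟩ | ⟨O, a, b, c⟩
      · exact Or.inl ⟨O, a, b, c.trans Set.subset_union_left⟩
      rcases ht' with ⟨O', a', b', c'⟩ | ⟨O', a', b', c'⟩
      · exact Or.inl ⟨O', a', b', c'.trans Set.subset_union_right⟩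
      · exact Or.inr ⟨O ∩ O', a.inter a', nonempty_preirreducible_inter a a' b b',
          Set.compl_union s t ▸ Set.inter_subset_inter c c'⟩
    | compl s _ h => rwa [compl_compl, or_comm]
  refine key.resolve_right fun ⟨O, a, b, c⟩ => ?_
  obtain ⟨x, hxO, hxs⟩ := hd.inter_open_nonempty O a b
  exact c hxO hxs

theorem nonempty_closedPoint_fibre {Y Z : Scheme.{0}} {f : Y ⟶ Z} [JacobsonSpace Z] {V : Z.Opens} (hV : (V : Set Z).Nonempty)
    (hirr : ∀ z ∈ V, IsClosed ({z} : Set Z) → IsIrreducible (f.base ⁻¹' {z})) : Nonempty Y := by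
  obtain ⟨z, hz, hzc⟩ := nonempty_inter_closedPoints hV V.2.isLocallyClosed
  obtain ⟨y, -⟩ := (hirr z hz hzc).1
  exact ⟨y⟩

end


/-- Let f : Y → Z be a morphism of schemes of finite type over ℂ, with Z irreducible. Suppose that the
general fibre of f is irreducible, in the sense that there is a nonempty open subset V of Z such
that the fibre of f over every closed point of V is an irreducible topological space, and that each
irreducible component of Y has dense image in Z. Then Y is irreducible. (The published statement is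
for a morphism of projective varieties; only finiteness of type over the field is used, and the row
is stated in that generality.) -/
theorem result
    (Y Z : Scheme.{0}) (g : Z ⟶ Spec (CommRingCat.of ℂ)) (f : Y ⟶ Z)
    [LocallyOfFiniteType g] [QuasiCompact g] [LocallyOfFiniteType f] [QuasiCompact f]
    [IrreducibleSpace Z]
    (hgen : ∃ V : Z.Opens, (V : Set Z).Nonempty ∧
      ∀ z ∈ V, IsClosed ({z} : Set Z) → IsIrreducible (f.base ⁻¹' {z}))
    (hdom : ∀ W ∈ irreducibleComponents Y, Dense (f.base '' W)) :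
    IrreducibleSpace Y := by
  obtain ⟨V, hV, hirr⟩ := hgen
  haveI : IsLocallyNoetherian Z := LocallyOfFiniteType.isLocallyNoetherian g
  haveI : CompactSpace Z := QuasiCompact.compactSpace_of_compactSpace g
  haveI : IsNoetherian Z := {}
  haveI : IsLocallyNoetherian Y := LocallyOfFiniteType.isLocallyNoetherian f
  haveI : CompactSpace Y := QuasiCompact.compactSpace_of_compactSpace f
  haveI : IsNoetherian Y := {}
  haveI : JacobsonSpace Z := LocallyOfFiniteType.jacobsonSpace g
  let C := irreducibleComponents Y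
  have hCfin : C.Finite := TopologicalSpace.NoetherianSpace.finite_irreducibleComponents
  let U : Set Y → Set Y := fun W => (⋃₀ (C \ {W}))ᶜ
  have hUo : ∀ W, IsOpen (U W) := fun W =>
    (show IsClosed (⋃₀ (C \ {W})) by
      rw [Set.sUnion_eq_biUnion]; exact Set.Finite.isClosed_biUnion (hCfin.subset Set.diff_subset) fun T hT => isClosed_of_mem_irreducibleComponents T hT.1).isOpen_compl
  have hUW : ∀ W, ∀ y ∈ U W, y ∈ W := fun W y hy => by
    by_contra h
    exact hy ⟨irreducibleComponent y, ⟨irreducibleComponent_mem_irreducibleComponents y,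
      fun e => h (Set.mem_singleton_iff.1 e ▸ mem_irreducibleComponent)⟩, mem_irreducibleComponent⟩
  have hUne : ∀ W ∈ C, (U W).Nonempty := fun W hW => by
    by_contra h
    have hsub : W ⊆ ⋃₀ (C \ {W}) := fun y _ => by_contra fun hy => h ⟨y, hy⟩
    obtain ⟨T, hT, hWT⟩ := isIrreducible_iff_sUnion_isClosed.1 hW.1 ((hCfin.subset Set.diff_subset).toFinset)
      (fun T hT => isClosed_of_mem_irreducibleComponents T ((hCfin.subset Set.diff_subset).mem_toFinset.1 hT).1)
      (by simpa using hsub)
    have hT' := (hCfin.subset Set.diff_subset).mem_toFinset.1 hT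
    exact hT'.2 (Set.mem_singleton_iff.2 ((hW.eq_of_ge hT'.1.1 hWT)))
  have hdense : ∀ W ∈ C, Dense (f.base '' (U W)) := fun W hW => by
    have hcl : W ⊆ closure (U W) := by
      have := hW.1.2
      refine fun y hy => mem_closure_iff.2 fun O hO hyO => ?_
      obtain ⟨z, -, hzO, hzU⟩ := this O (U W) hO (hUo W) ⟨y, hy, hyO⟩ ((hUne W hW).imp fun z hz => ⟨hUW W z hz, hz⟩)
      exact ⟨z, hzO, hzU⟩
    exact (hdom W hW).closure.mono (closure_minimal ((Set.image_mono hcl).trans (image_closure_subset_closure_image f.base.hom.continuous)) isClosed_closure) |>.of_closure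
  have hopen : ∀ W ∈ C, ∃ O : Set Z, IsOpen O ∧ O.Nonempty ∧ O ⊆ f.base '' (U W) := fun W hW => by
    have hcons : Topology.IsConstructible (f.base '' (U W)) := f.isConstructible_image
      ((TopologicalSpace.NoetherianSpace.isCompact _).isConstructible (hUo W))
    exact exists_open_sub_of_dense hcons (hdense W hW)
  have hsub : ∀ W₁ ∈ C, ∀ W₂ ∈ C, W₁ = W₂ := by
    intro W₁ h₁ W₂ h₂
    obtain ⟨O₁, o₁, n₁, s₁⟩ := hopen W₁ h₁
    obtain ⟨O₂, o₂, n₂, s₂⟩ := hopen W₂ h₂
    have hne : ((O₁ ∩ O₂) ∩ (V : Set Z)).Nonempty := by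
      refine nonempty_preirreducible_inter (o₁.inter o₂) V.2 ?_ hV
      exact nonempty_preirreducible_inter o₁ o₂ n₁ n₂
    obtain ⟨z, hz, hzc⟩ := nonempty_inter_closedPoints hne ((o₁.inter o₂).inter V.2).isLocallyClosed
    have hF := hirr z hz.2 hzc
    obtain ⟨y₁, hy₁, e₁⟩ := s₁ hz.1.1
    obtain ⟨y₂, hy₂, e₂⟩ := s₂ hz.1.2
    obtain ⟨T, hT, hFT⟩ := isIrreducible_iff_sUnion_isClosed.1 hF hCfin.toFinset
      (fun T hT => isClosed_of_mem_irreducibleComponents T (hCfin.mem_toFinset.1 hT))
      (fun y _ => ⟨irreducibleComponent y, hCfin.mem_toFinset.2 (irreducibleComponent_mem_irreducibleComponents y), mem_irreducibleComponent⟩)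
    have key : ∀ W, ∀ y ∈ U W, f.base y = z → T = W := fun W y hy e => by
      by_contra hne
      exact hy ⟨T, ⟨hCfin.mem_toFinset.1 hT, hne⟩, hFT e⟩
    exact (key W₁ y₁ hy₁ e₁).symm.trans (key W₂ y₂ hy₂ e₂)
  haveI : Nonempty Y := by
    haveI := nonempty_closedPoint_fibre hV hirr
    exact this
  have huniv : ∀ y : Y, irreducibleComponent y = Set.univ := fun y => Set.eq_univ_of_forall fun z =>
    hsub _ (irreducibleComponent_mem_irreducibleComponents z) _ (irreducibleComponent_mem_irreducibleComponents y) ▸ mem_irreducibleComponent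
  refine { toNonempty := inferInstance, toPreirreducibleSpace := ⟨?_⟩ }
  have := (isIrreducible_irreducibleComponent (x := Classical.arbitrary Y)).2
  rwa [huniv] at this

end Groth.Agent.S16201
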