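import Groth.Statements.S16204
import Groth.Agent.BendBreak.Cor
import Mathlib.Analysis.Complex.Polynomial.Basic

set_option autoImplicit false
set_option backward.isDefEq.respectTransparency false
set_option backward.isDefEq.respectTransparency.types false
open CategoryTheory MonoidalCategory CartesianMonoidalCategory AlgebraicGeometry
open RatCurv

namespace Groth.Agent.S16204

/-- Let X be a projective variety over ℂ, C a smooth projective curve, c₀ a point of C and p a point of
X. Suppose the pointed curve (C, c₀) moves in X keeping c₀ at p: there are an integral curve B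
(separated, of finite type over ℂ, not necessarily complete) and a morphism F : C × B → X over ℂ
with F(c₀, b) = p for every b, such that F does not factor through the projection C × B → C. Then X
contains a rational curve passing through p: a nonconstant ℂ-morphism from the projective line to X
whose image contains p. Products, points and the projection are taken in the cartesian monoidal
category of ℂ-schemes. (The published statement also assumes X smooth; smoothness is not used and is
not assumed here.) -/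
theorem result
    (X C B : Over (Spec (CommRingCat.of ℂ))) [IsIntegral X.left]
    (hX : (∃ (n : ℕ) (ι : X.left ⟶ CohB1.ProjSpace n ℂ), IsClosedImmersion ι ∧ ι ≫ CohB1.ProjSpace.toSpec n ℂ = X.hom))
    [IsIntegral C.left] [IsProper C.hom] [Smooth C.hom] (hC : topologicalKrullDim C.left = 1)
    [IsIntegral B.left] [IsSeparated B.hom] [LocallyOfFiniteType B.hom] [QuasiCompact B.hom]
    (hB : topologicalKrullDim B.left = 1)
    (F : C ⊗ B ⟶ X) (c₀ : 𝟙_ (Over (Spec (CommRingCat.of ℂ))) ⟶ C) (p : 𝟙_ (Over (Spec (CommRingCat.of ℂ))) ⟶ X)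
    (hfix : lift (toUnit B ≫ c₀) (𝟙 B) ≫ F = toUnit B ≫ p)
    (hvar : ¬ ∃ G : C ⟶ X, F = fst C B ≫ G) :
    ∃ (g : Over.mk (CohB1.ProjSpace.toSpec 1 ℂ) ⟶ X) (t : 𝟙_ (Over (Spec (CommRingCat.of ℂ))) ⟶ Over.mk (CohB1.ProjSpace.toSpec 1 ℂ)),
      t ≫ g = p ∧ ¬ ∃ x : X.left, Set.range g.left.base ⊆ {x} := by
  haveI : IsProper X.hom := by
    obtain ⟨n, ι, hι, hιk⟩ := hX
    haveI := hι
    haveI : IsProper (CohB1.ProjSpace.toSpec n ℂ) := _root_.ProjMor.isProper_toSpec n ℂ
    rw [← hιk]; infer_instance
  haveI : IsProper (CohB1.ProjSpace.toSpec 1 ℂ) := _root_.ProjMor.isProper_toSpec 1 ℂ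
  by_contra hno
  push Not at hno
  refine hvar (Groth.Agent.BendBreak.exists_factor_fst hC hB F c₀ p hfix fun φ hφ hp => ?_)
  let g : Over.mk (CohB1.ProjSpace.toSpec 1 ℂ) ⟶ X := Over.homMk φ hφ
  obtain ⟨a, ha⟩ := hp
  let Z : Set (CohB1.ProjSpace 1 ℂ) := φ ⁻¹' {p.left (IsLocalRing.closedPoint ℂ)}
  haveI : JacobsonSpace (CohB1.ProjSpace 1 ℂ) := LocallyOfFiniteType.jacobsonSpace (CohB1.ProjSpace.toSpec 1 ℂ)
  haveI : LocallyOfFiniteType (Over.mk (CohB1.ProjSpace.toSpec 1 ℂ)).hom :=
    inferInstanceAs (LocallyOfFiniteType (CohB1.ProjSpace.toSpec 1 ℂ))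
  obtain ⟨c, hc, hcc⟩ := nonempty_inter_closedPoints (Z := Z) ⟨a, ha⟩
    ((Groth.Agent.BendBreak.point_closed p).preimage φ.continuous).isLocallyClosed
  obtain ⟨t, ht⟩ := Groth.Agent.BendBreak.exists_point_of_closed (X := Over.mk (CohB1.ProjSpace.toSpec 1 ℂ)) hcc
  have htg : t ≫ g = p := Groth.Agent.BendBreak.point_eq_of_apply_eq _ _ (by
    rw [Over.comp_left, Scheme.Hom.comp_apply, ht]; exact hc)
  exact hno g t htg

end Groth.Agent.S16204
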