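import Groth.Statements.S16209
import Groth.Agent.DualGeneric.DegSum
import Groth.Agent.DualGeneric.Marked
import Groth.Agent.SymAlg.InvDual
import Groth.Agent.DerPush.Basic
import Groth.Agent.CurveRR.GGVanish
import Groth.Agent.DCohShriek.DualModuleField
-- import your own Groth.Agent.* helpers here

set_option autoImplicit false
set_option backward.isDefEq.respectTransparency false
set_option backward.isDefEq.respectTransparency.types false
set_option maxHeartbeats 1000000
universe u
open CategoryTheory CategoryTheory.Limits AlgebraicGeometry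
attribute [local instance] HasDerivedCategory.standard
attribute [local instance] HasDerivedCategory.standard
open Curves

namespace Groth.Agent.S16209

/-- Let k be an algebraically closed field and X a proper reduced connected scheme of dimension 1 over k
with at-worst-nodal singularities and H^1(X, O_X) = 0 (so X is a tree of smooth rational curves).
For an irreducible component E of X write k_E for the number of points of E lying on the other
components and deg_E for the degree of the restriction to E with its reduced structure. Let L be an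
invertible module and E_0 an irreducible component with deg_{E_0}(L) ≤ k_{E_0} − 1 and deg_E(L) ≤
k_E − 2 for every other irreducible component E. Then H^0(X, L) = 0. -/
theorem result (k : Type u) [Field k] [IsAlgClosed k] (X : Scheme.{u}) [X.Over (Spec (CommRingCat.of k))]
    [IsProper (X ↘ (Spec (CommRingCat.of k)))] [IsReduced X] [ConnectedSpace X]
    (hdim : topologicalKrullDim X = 1) (hX : Curv2.AtWorstNodal k X)
    (hg : Subsingleton (Coh.HH X (Coh.structureModule X) 1)) (L : X.Modules) (hL : PicF.IsInvertible L)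
    (E₀ : Set X) (hE₀ : E₀ ∈ irreducibleComponents (X : Type u))
    (h₀ : @Curv2.deg k _ (Scheme.IdealSheafData.vanishingIdeal ⟨E₀, isClosed_of_mem_irreducibleComponents E₀ hE₀⟩).subscheme ⟨(Scheme.IdealSheafData.vanishingIdeal ⟨E₀, isClosed_of_mem_irreducibleComponents E₀ hE₀⟩).subschemeι ≫ (X ↘ (Spec (CommRingCat.of k)))⟩ ((Scheme.Modules.pullback (Scheme.IdealSheafData.vanishingIdeal ⟨E₀, isClosed_of_mem_irreducibleComponents E₀ hE₀⟩).subschemeι).obj L) 1 ≤ ((E₀ ∩ closure E₀ᶜ).ncard : ℤ) - 1)
    (hE : ∀ (E : Set X) (hE : E ∈ irreducibleComponents (X : Type u)), E ≠ E₀ →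
      @Curv2.deg k _ (Scheme.IdealSheafData.vanishingIdeal ⟨E, isClosed_of_mem_irreducibleComponents E hE⟩).subscheme ⟨(Scheme.IdealSheafData.vanishingIdeal ⟨E, isClosed_of_mem_irreducibleComponents E hE⟩).subschemeι ≫ (X ↘ (Spec (CommRingCat.of k)))⟩ ((Scheme.Modules.pullback (Scheme.IdealSheafData.vanishingIdeal ⟨E, isClosed_of_mem_irreducibleComponents E hE⟩).subschemeι).obj L) 1 ≤ ((E ∩ closure Eᶜ).ncard : ℤ) - 2) :
    Subsingleton (Coh.HH X L 0) := by
  classical
  haveI := CurveRR.isNoetherian_of_proper k X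
  haveI : QuasiCompact (X ↘ Spec (CommRingCat.of k)) := quasiCompact_of_compactSpace (X ↘ Spec (CommRingCat.of k))
  haveI : QuasiSeparated (X ↘ Spec (CommRingCat.of k)) := inferInstance
  haveI := DerPush.hasRpush_sch (X ↘ Spec (CommRingCat.of k))
  have h : DCoh.RpushPreservesQCoh (X ↘ Spec (CommRingCat.of k)) := fun E hE =>
    DQPush.isQCohD_rpush (X ↘ Spec (CommRingCat.of k)) hE
  haveI : DCoh.HasShriek (X ↘ Spec (CommRingCat.of k)) h := DCohShriek.isLeftAdjoint_rpushQ (X ↘ Spec (CommRingCat.of k)) h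
  let OY := (DCohShriek.tildeQ k).obj (DCohShriek.unitD k)
  have hOY : Nonempty (OY.obj ≅ DCoh.inD (Spec (CommRingCat.of k)) (Coh.structureModule (Spec (CommRingCat.of k)))) :=
    ⟨DCohShriek.tildeUnitIso k⟩
  have hω := DualGeneric.Marked.invertible_omega k h OY hOY hdim hX
  refine subsingleton_of_forall_eq 0 fun z => ?_
  by_contra hz
  letI := CurveRR.secMod k L ⊤
  let s : Γ(L, ⊤) := (CurveRR.secH0 (k := k) L).symm z
  have hs : s ≠ 0 := fun h0 => hz ((CurveRR.secH0 (k := k) L).symm.injective (h0.trans (map_zero _).symm))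
  obtain ⟨K, hK, ⟨e0⟩⟩ := SymAlg.exists_inverse hL
  obtain ⟨φ, hφ⟩ := DualGeneric.Sub.exists_hom_ne_zero hK hω (TMul.commIso K L ≪≫ e0) hs
  have hM : PicF.IsInvertible (CohB1.tensorMod K (DCoh.dualizingMod (X ↘ Spec (CommRingCat.of k)) h OY 1)) :=
    TMul.isInvertible_tensorMod hK hω
  obtain ⟨tr, ht⟩ := DualGeneric.Sub.exists_trace k h OY hOY hdim.le
  have h1 : ¬ Subsingleton (Coh.HH X (CohB1.tensorMod K (DCoh.dualizingMod (X ↘ Spec (CommRingCat.of k)) h OY 1)) 1) :=
    fun hs' => hφ (CurveRR.hom_eq_zero_of_subsingleton ht (CurveRR.isCoh_of_inv hM).1 hs' φ)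
  obtain ⟨J, hr, hc, hJ, hle⟩ := DualGeneric.Sub.exists_bad_h1 k h OY hOY hω hdim hM h1
  haveI := hr
  haveI := hc
  have hgen : ∀ J : X.IdealSheafData, AlgebraicGeometry.IsReduced J.subscheme → DualGeneric.Sub.genJ k J = 0 := fun J hJr => by
    haveI := hJr
    have hJe := DualGeneric.Sub.eq_vI J
    generalize J.support = S at hJe
    subst hJe
    refine (DualGeneric.Sub.genus_sub k S).trans ?_
    haveI : Subsingleton (Coh.HH X (DualGeneric.Sub.A S) 1) :=
      (DualGeneric.Sub.surjective_h1_q k hdim.le S).subsingleton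
    exact CurveRR.h_eq_zero inferInstance
  have hadd : ∀ J : X.IdealSheafData, topologicalKrullDim J.subscheme = 1 →
      DualGeneric.Sub.degJ k (CohB1.tensorMod K (DCoh.dualizingMod (X ↘ Spec (CommRingCat.of k)) h OY 1)) J =
        DualGeneric.Sub.degJ k (DCoh.dualizingMod (X ↘ Spec (CommRingCat.of k)) h OY 1) J - DualGeneric.Sub.degJ k L J := fun J hJ => by
    have h1 := DualGeneric.Sub.degJ_tensor k hK hω J hJ
    have h2 := DualGeneric.Sub.degJ_tensor k hK hL J hJ
    rw [DualGeneric.Sub.degJ_unit k (TMul.commIso K L ≪≫ e0) J] at h2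
    omega
  have hcomp : ∀ (E : Set X) (hE : E ∈ irreducibleComponents (X : Type u)),
      DualGeneric.Sub.degJ k (CohB1.tensorMod K (DCoh.dualizingMod (X ↘ Spec (CommRingCat.of k)) h OY 1)) (DualGeneric.Sub.cI E hE) =
        ((E ∩ closure Eᶜ).ncard : ℤ) - 2 - DualGeneric.Sub.degJ k L (DualGeneric.Sub.cI E hE) := fun E hE => by
    have hd := DualGeneric.Sub.dim_cI k E hE hdim
    rw [hadd _ hd, DualGeneric.Sub.degJ_omega k h OY hOY hω hdim _ hd, hgen _ inferInstance,
      DualGeneric.Marked.kJ_eq_ncard k h OY hOY hdim hX _ hd, Scheme.IdealSheafData.coe_support_vanishingIdeal]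
    show 2 * ((0 : ℕ) : ℤ) - 2 + ((E ∩ closure Eᶜ).ncard : ℤ) - _ = _
    omega
  have hlow := DualGeneric.Sub.degJ_ge k hdim hM (c := -1) (by omega) E₀
    (fun hE' => by
      have hh := hcomp E₀ hE'
      have h2 : DualGeneric.Sub.degJ k L (DualGeneric.Sub.cI E₀ hE') ≤ ((E₀ ∩ closure E₀ᶜ).ncard : ℤ) - 1 := h₀
      omega)
    (fun E hE' hne => by
      rw [hcomp E hE']
      exact sub_nonneg.2 (hE E hE' hne)) J
  have hw := DualGeneric.Sub.degJ_omega k h OY hOY hω hdim J hJ
  rw [hgen J hr] at hw
  omega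

end Groth.Agent.S16209
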