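import Groth.Statements.S16210
import Groth.Agent.DualGeneric.Marked
import Groth.Agent.S14092
import Groth.Agent.S1664
import Groth.Agent.TMul.Pullback
import Groth.Agent.TMul.AffineLocus
import Groth.Agent.CurveRR.Easy
import Groth.Agent.ParaFLib.Ext
-- import your own Groth.Agent.* helpers here

set_option autoImplicit false
set_option backward.isDefEq.respectTransparency false
set_option backward.isDefEq.respectTransparency.types false
set_option maxHeartbeats 1000000
universe u
open CategoryTheory CategoryTheory.Limits AlgebraicGeometry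
attribute [local instance] HasDerivedCategory.standard
open Curves

namespace Groth.Agent.S16210

/-- Let k be an algebraically closed field and X a proper reduced connected scheme of dimension 1 over k
with at-worst-nodal singularities and H^1(X, O_X) = 0, and let p_1, …, p_n (n ≥ 3) be distinct
closed points at which X is smooth over k. Let ω_X be the dualizing module of X (degree −1
cohomology sheaf of f^! O for the structure morphism f, for any choice of the data Rf_* on D_QCoh
with its right adjoint), N an inverse for the tensor product of the ideal sheaf of the reduced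
closed subscheme {p_1, …, p_n}, and M any module isomorphic to ω_X ⊗ N (the dualizing module twisted
by the marked points). Then the n-pointed curve is semistable, i.e. every irreducible component E of
X has at least 2 special points (points of E on other components plus marked points on E), if and
only if M is globally generated. -/
theorem result (k : Type u) [Field k] [IsAlgClosed k] (X : Scheme.{u}) [X.Over (Spec (CommRingCat.of k))]
    [IsProper (X ↘ (Spec (CommRingCat.of k)))] [IsReduced X] [ConnectedSpace X]
    (hdim : topologicalKrullDim X = 1) (hX : Curv2.AtWorstNodal k X)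
    (hg : Subsingleton (Coh.HH X (Coh.structureModule X) 1))
    (n : ℕ) (p : Fin n → X) (hpinj : Function.Injective p) (hpcl : ∀ i, IsClosed ({p i} : Set X))
    (hpsm : ∀ i, ∃ U : X.Opens, p i ∈ U ∧ Smooth (U.ι ≫ (X ↘ (Spec (CommRingCat.of k))))) (hn : 3 ≤ n)
    (N : X.Modules) (hN : ClSub.IsInverseOf N (ClSub.idealMod
      (Scheme.IdealSheafData.vanishingIdeal ⟨⋃ i, ({p i} : Set X), isClosed_iUnion_of_finite hpcl⟩)))
    [DCoh.HasRpush (X ↘ (Spec (CommRingCat.of k)))] (h : DCoh.RpushPreservesQCoh (X ↘ (Spec (CommRingCat.of k)))) [DCoh.HasShriek (X ↘ (Spec (CommRingCat.of k))) h]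
    (OY : DCoh.DQCoh (Spec (CommRingCat.of k)))
    (hOY : Nonempty (OY.obj ≅ DCoh.inD (Spec (CommRingCat.of k)) (Coh.structureModule (Spec (CommRingCat.of k)))))
    (M : X.Modules) (hM : Nonempty (M ≅ CohB1.tensorMod (DCoh.dualizingMod (X ↘ (Spec (CommRingCat.of k))) h OY 1) N)) :
    (∀ (E : Set X), E ∈ irreducibleComponents (X : Type u) → 2 ≤ (E ∩ closure Eᶜ).ncard + (p ⁻¹' E).ncard) ↔
      Curv2.IsGloballyGenerated M := by
  classical
  haveI := CurveRR.isNoetherian_of_proper k X
  let D : TopologicalSpace.Closeds X := ⟨⋃ i, ({p i} : Set X), isClosed_iUnion_of_finite hpcl⟩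
  have hDe : (D : Set X) = Set.range p := Set.iUnion_singleton_eq_range p
  have hD : (D : Set X).Finite := hDe ▸ Set.finite_range p
  obtain ⟨e⟩ := hM
  have hωN := DualGeneric.Marked.invertible_twist k h OY hOY hdim hX (D := D) hN
  have hM' : PicF.IsInvertible M := ParaFLib.isInvertible_of_iso e.symm hωN
  have hgen : ∀ (C : Set X) (hC : C ∈ irreducibleComponents (X : Type u)),
      DualGeneric.Sub.degJ k M (DualGeneric.Sub.cI C hC) = -2 + ((C ∩ closure Cᶜ).ncard : ℤ) + ((p ⁻¹' C).ncard : ℤ) := by
    intro C hC
    have h1 : DualGeneric.Sub.degJ k M (DualGeneric.Sub.cI C hC) =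
        DualGeneric.Sub.degJ k (CohB1.tensorMod (DCoh.dualizingMod (X ↘ (Spec (CommRingCat.of k))) h OY 1) N) (DualGeneric.Sub.cI C hC) := by
      letI : (DualGeneric.Sub.cI C hC).subscheme.Over (Spec (CommRingCat.of k)) :=
        ⟨(DualGeneric.Sub.cI C hC).subschemeι ≫ (X ↘ (Spec (CommRingCat.of k)))⟩
      haveI : IsProper ((DualGeneric.Sub.cI C hC).subscheme ↘ Spec (CommRingCat.of k)) :=
        inferInstanceAs (IsProper ((DualGeneric.Sub.cI C hC).subschemeι ≫ (X ↘ (Spec (CommRingCat.of k)))))
      show Curv2.deg k (DualGeneric.Sub.cI C hC).subscheme _ 1 = Curv2.deg k (DualGeneric.Sub.cI C hC).subscheme _ 1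
      rw [Curv2.deg, Curv2.deg, CurveRR.euler_eq_of_iso ((Scheme.Modules.pullback (DualGeneric.Sub.cI C hC).subschemeι).mapIso e)]
    have hg0 : DualGeneric.Sub.genJ k (DualGeneric.Sub.cI C hC) = 0 := by
      haveI : Subsingleton (Coh.HH X (DualGeneric.Sub.A ⟨C, isClosed_of_mem_irreducibleComponents C hC⟩) 1) :=
        (DualGeneric.Sub.surjective_h1_q k hdim.le _).subsingleton
      exact (DualGeneric.Sub.genus_sub k _).trans (CurveRR.h_eq_zero inferInstance)
    have hc : ((D : Set X) ∩ C).ncard = (p ⁻¹' C).ncard := by
      rw [hDe, Set.inter_comm, ← Set.image_preimage_eq_inter_range, Set.ncard_image_of_injective _ hpinj]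
    rw [h1, DualGeneric.Marked.degJ_twist_component k h OY hOY hdim hX (D := D) hD hN C hC, hg0, hc]
    omega
  constructor
  · intro hss
    refine (Groth.Agent.S14092.result k X hdim hX (CurveRR.h_eq_zero hg) M hM' fun I hI hId => ?_).1
    obtain ⟨C, hC, rfl⟩ := DualGeneric.Sub.exists_eq_cI hdim I hI hId
    change 0 ≤ DualGeneric.Sub.degJ k M (DualGeneric.Sub.cI C hC)
    have := hgen C hC
    have := hss C hC
    omega
  · intro hgg E hE
    have h0 : 0 ≤ DualGeneric.Sub.degJ k M (DualGeneric.Sub.cI E hE) := by
      let i := (DualGeneric.Sub.cI E hE).subschemeι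
      letI : (DualGeneric.Sub.cI E hE).subscheme.Over (Spec (CommRingCat.of k)) := ⟨i ≫ (X ↘ (Spec (CommRingCat.of k)))⟩
      haveI : IsProper ((DualGeneric.Sub.cI E hE).subscheme ↘ Spec (CommRingCat.of k)) :=
        inferInstanceAs (IsProper (i ≫ (X ↘ (Spec (CommRingCat.of k)))))
      haveI : IrreducibleSpace (DualGeneric.Sub.cI E hE).subscheme := by
        haveI : IrreducibleSpace (Set.range i) := by
          rw [DualGeneric.Sub.range_ι]
          exact Subtype.irreducibleSpace hE.1
        exact i.isClosedEmbedding.isEmbedding.toHomeomorph.symm.surjective.irreducibleSpace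
          i.isClosedEmbedding.isEmbedding.toHomeomorph.symm.continuous
      haveI : IsIntegral (DualGeneric.Sub.cI E hE).subscheme := isIntegral_of_irreducibleSpace_of_isReduced _
      obtain ⟨t, ht⟩ := Groth.Agent.S1664.gen_of_globallyGenerated hM' hgg (i (genericPoint (DualGeneric.Sub.cI E hE).subscheme))
      let ε := (PicLoc.pullbackStructureIso i).symm
      refine CurveRR.Easy.deg_nonneg (k := k) (DualGeneric.Sub.dim_cI k E hE hdim).le (PicLoc.isInvertible_pullback i hM')
        (ε.hom ≫ (Scheme.Modules.pullback i).map t) fun hz => ?_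
      have hmem : genericPoint (DualGeneric.Sub.cI E hE).subscheme ∈ i ⁻¹ᵁ CohB1.genLocus M t := ht
      rw [← TMul.genLocus_pullback i hM' t ε, hz, TMul.genLocus_zero] at hmem
      exact hmem
    rw [hgen E hE] at h0
    omega

end Groth.Agent.S16210
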