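import Groth.Statements.S16211
import Mathlib.RingTheory.Smooth.Basic
import Mathlib.Tactic

set_option autoImplicit false
set_option linter.style.haveILetI false

universe u v
open InvTh

namespace Groth.Agent.S16211

/-- Let R be a commutative ring, O a formally smooth R-algebra and G a finite group whose order is
invertible in R, acting on O by R-algebra automorphisms. Then the largest quotient algebra of O on
which G acts trivially, namely the quotient of O by the ideal generated by all g • f - f (the
coordinate ring of the subscheme of G-fixed points of Spec O), is again formally smooth over R: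
invariant homomorphisms lift along square-zero extensions. The published statement is about a scheme
X smooth and of finite presentation over the base and concludes that its fixed-point scheme is
smooth; this row, the affine step of its proof, assumes only that O is formally smooth over R and
concludes only formal smoothness. -/
theorem result (R : Type u) [CommRing R]
    (O : Type u) [CommRing O] [Algebra R O] [Algebra.FormallySmooth R O]
    (G : Type v) [Group G] [Finite G] [MulSemiringAction G O] [SMulCommClass G R O]
    (hG : IsUnit (Nat.card G : R)) :
    Algebra.FormallySmooth R (O ⧸ Ideal.span {x : O | ∃ (g : G) (f : O), x = g • f - f}) := by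
  classical
  haveI := Fintype.ofFinite G
  let J := Ideal.span {x : O | ∃ (g : G) (f : O), x = g • f - f}
  rw [Algebra.FormallySmooth.iff_comp_surjective]
  intro B _ _ I hI φ
  obtain ⟨h, hh⟩ := Algebra.FormallySmooth.comp_surjective R O I hI (φ.comp (Ideal.Quotient.mkₐ R J))
  obtain ⟨v, hv⟩ := hG.exists_left_inv
  let c : B := algebraMap R B v
  have hc : c * (Fintype.card G : B) = 1 := by
    rw [← map_natCast (algebraMap R B), ← map_mul, ← Nat.card_eq_fintype_card, hv, map_one]
  let δ : G → O → B := fun g x => h (g • x) - h x
  have hδI : ∀ g x, δ g x ∈ I := by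
    intro g x
    rw [← Ideal.Quotient.mk_eq_mk_iff_sub_mem]
    have e : ∀ y, Ideal.Quotient.mk I (h y) = φ (Ideal.Quotient.mk J y) := fun y => AlgHom.congr_fun hh y
    rw [e, e]
    congr 1
    rw [Ideal.Quotient.mk_eq_mk_iff_sub_mem]
    exact Ideal.subset_span ⟨g, x, rfl⟩
  have hII : ∀ a ∈ I, ∀ b ∈ I, a * b = 0 := by
    intro a ha b hb
    have := Ideal.mul_mem_mul ha hb
    rwa [← pow_two, hI, Ideal.mem_bot] at this
  let D : O → B := fun x => c * ∑ g, δ g x
  have hDI : ∀ x, D x ∈ I := fun x => Ideal.mul_mem_left _ _ (Ideal.sum_mem _ fun g _ => hδI g x)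
  let h' : O →ₐ[R] B :=
    { toFun := fun x => h x + D x
      map_one' := by simp [D, δ]
      map_zero' := by simp [D, δ]
      map_mul' := fun x y => by
        have hd : ∀ g, δ g (x * y) = h x * δ g y + h y * δ g x := by
          intro g
          have h0 := hII _ (hδI g x) _ (hδI g y)
          simp only [δ, smul_mul', map_mul] at h0 ⊢
          linear_combination h0
        have h0 := hII _ (hDI x) _ (hDI y)
        simp only [D] at h0 ⊢
        simp only [hd, Finset.sum_add_distrib, ← Finset.mul_sum, map_mul]
        linear_combination -h0
      map_add' := fun x y => by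
        have hd : ∀ g, δ g (x + y) = δ g x + δ g y := fun g => by
          simp only [δ, smul_add, map_add]; ring
        simp only [D, hd, Finset.sum_add_distrib, map_add]
        ring
      commutes' := fun r => by simp [D, δ, smul_algebraMap] }
  have havg : ∀ x, h' x = c * ∑ g : G, h (g • x) := by
    intro x
    change h x + c * ∑ g : G, (h (g • x) - h x) = _
    rw [Finset.sum_sub_distrib, Finset.sum_const, Finset.card_univ, nsmul_eq_mul]
    linear_combination -(h x) * hc
  have hker : ∀ a ∈ J, h' a = 0 := by
    intro a ha
    refine (Ideal.span_le (I := RingHom.ker h')).2 ?_ ha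
    rintro _ ⟨g, f, rfl⟩
    change h' (g • f - f) = 0
    rw [map_sub, havg, havg, sub_eq_zero]
    congr 1
    exact Fintype.sum_equiv (Equiv.mulRight g) _ _ fun k => by simp [mul_smul]
  refine ⟨Ideal.Quotient.liftₐ J h' hker, AlgHom.ext fun q => ?_⟩
  obtain ⟨x, rfl⟩ := Ideal.Quotient.mk_surjective q
  change Ideal.Quotient.mk I (h x + D x) = φ (Ideal.Quotient.mk J x)
  rw [map_add, Ideal.Quotient.eq_zero_iff_mem.2 (hDI x), add_zero]
  exact AlgHom.congr_fun hh x

end Groth.Agent.S16211
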