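import Groth.Statements.S16212
import Groth.Agent.FixFin.Main

set_option autoImplicit false
universe u v
open CategoryTheory AlgebraicGeometry
open AlgGrp

namespace Groth.Agent.S16212

/-- Let S be a scheme, X an S-scheme that is smooth, separated and of finite presentation over S, and G
a finite group whose order is invertible on S (a unit among the global functions of S) acting on X
by S-automorphisms. Then the scheme of G-fixed points of X, namely any S-scheme Z with an S-morphism
ι to X that is itself fixed by every element of G (ι followed by the automorphism of each g equals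
ι) and such that an S-morphism T → X is fixed by every element of G exactly when it factors through
ι, and then uniquely, is a closed subscheme of X (ι is a closed immersion) which is smooth and of
finite presentation over S (smooth, quasi-compact and quasi-separated). The published statement
assumes X only smooth and of finite presentation over S; this row also assumes X separated over S. -/
theorem result (S : Scheme.{u})
    (X : Over S) [Smooth X.hom] [QuasiCompact X.hom] [IsSeparated X.hom]
    (G : Type v) [Group G] [Finite G] (ρ : G →* Aut X)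
    (hG : IsUnit (Nat.card G : Γ(S, ⊤)))
    (Z : Over S) (ι : Z ⟶ X) (hι : ∀ g : G, ι ≫ (ρ g).hom = ι)
    (hZ : ∀ (T : Over S) (t : T ⟶ X), (∀ g : G, t ≫ (ρ g).hom = t) ↔ ∃! t' : T ⟶ Z, t' ≫ ι = t) :
    IsClosedImmersion ι.left ∧ Smooth Z.hom ∧ QuasiCompact Z.hom ∧ QuasiSeparated Z.hom := by
  classical
  let H := ρ.range
  haveI : Finite H := Finite.of_surjective ρ.rangeRestrict ρ.rangeRestrict_surjective
  let ρ' : H →* Aut X.left :=
    { toFun := fun h => (Over.forget S).mapIso h.1
      map_one' := by ext; rfl
      map_mul' := fun a b => by ext; rfl }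
  have hρ' : ∀ h : H, (ρ' h).hom ≫ X.hom = X.hom := fun h => Over.w h.1.hom
  obtain ⟨Z₀, i, _, hi, huniv⟩ := Groth.Agent.S13206.result X.hom H ρ' hρ'
  have hcard : IsUnit (Nat.card H : Γ(S, ⊤)) :=
    isUnit_of_dvd_unit (Nat.cast_dvd_cast (Subgroup.card_dvd_of_surjective ρ.rangeRestrict
      ρ.rangeRestrict_surjective)) hG
  haveI hs : Smooth (i ≫ X.hom) := Groth.Agent.FixFin.smooth_of_fixed X.hom ρ' hρ' hcard i hi
    fun T t ht => (huniv T t ht).exists
  let i' : Over.mk (i ≫ X.hom) ⟶ X := Over.homMk i rfl
  have hi' : ∀ g : G, i' ≫ (ρ g).hom = i' := fun g =>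
    Over.OverMorphism.ext (hi ⟨ρ g, g, rfl⟩)
  obtain ⟨a, ha, -⟩ := (hZ _ i').1 hi'
  obtain ⟨b, hb, -⟩ := huniv Z.left ι.left (fun ⟨_, g, rfl⟩ => congrArg CommaMorphism.left (hι g))
  have hab : b ≫ a.left = 𝟙 _ := by
    let b' : Z ⟶ Over.mk (i ≫ X.hom) := Over.homMk b (by
      show b ≫ i ≫ X.hom = Z.hom
      rw [← Category.assoc, hb, Over.w])
    have h1 : (b' ≫ a) ≫ ι = ι := by
      rw [Category.assoc, ha]
      exact Over.OverMorphism.ext hb
    exact congrArg CommaMorphism.left (((hZ Z ι).1 hι).unique h1 (Category.id_comp _))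
  have hba : a.left ≫ b = 𝟙 _ := by
    rw [← cancel_mono i, Category.assoc, hb, Category.id_comp]
    exact congrArg CommaMorphism.left ha
  haveI : IsIso b := ⟨a.left, hab, hba⟩
  haveI : IsClosedImmersion ι.left := hb ▸ inferInstance
  have hw : Z.hom = b ≫ i ≫ X.hom := by rw [← Category.assoc, hb, Over.w]
  refine ⟨inferInstance, ?_, ?_, ?_⟩ <;> rw [hw] <;> infer_instance

end Groth.Agent.S16212
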