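import Groth.Statements.S16250
import Groth.Agent.EllSect.Group
-- import your own Groth.Agent.* helpers here

set_option autoImplicit false
set_option backward.isDefEq.respectTransparency false
set_option backward.isDefEq.respectTransparency.types false
set_option maxHeartbeats 1600000
universe u
open CategoryTheory CategoryTheory.Limits AlgebraicGeometry MonObj
open AgPol
open Groth.Agent.W7Cube (pull pull_pull pull_cls)
open Groth.Agent Groth.Agent.PicCurve

attribute [local instance] Groth.Agent.W7Cube.law

namespace Groth.Agent.S16250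

/-- Let f : E → S be a family of elliptic curves: proper, smooth of relative dimension one, with
geometrically connected fibres whose structure sheaf has Euler characteristic 0 (genus one),
together with a section σ. Then E, regarded over S, carries one and only one structure of S-group
scheme whose multiplication on T-valued points (T any S-scheme) is characterised by: P·Q = R if and
only if I_P ⊗ I_Q ≅ I_R ⊗ I_{σ_T} ⊗ q^*M on E_T = E ×_S T for some invertible O_T-module M, where q
: E_T → T is the projection, I_P denotes the ideal sheaf of the section of q induced by P, and σ_T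
is the section induced by σ; in divisor notation O(P) ⊗ O(Q) ⊗ O(−σ) ≅ O(R) up to a module pulled
back from T. (The published display of this relation carries O(−R) instead of O(R), a misprint: the
fibre degrees would be 1 and −1.) -/
theorem result
    {E S : Scheme.{u}} (f : E ⟶ S) [IsProper f] [SmoothOfRelativeDimension 1 f]
    (hc : GeometricallyConnected f)
    (hg : ∀ s : S, @FGA.eulerCharLE (S.residueField s) _ (f.fiber s) (f.fiberOverSpecResidueField s)
      (Coh.structureModule (f.fiber s)) 1 = 0)
    (σ : S ⟶ E) (hσ : σ ≫ f = 𝟙 S) :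
    ∃! g : GrpObj (Over.mk f), ∀ (T : Over S) (P Q R : T ⟶ Over.mk f),
      P * Q = R ↔ ∃ M : T.left.Modules, PicF.IsInvertible M ∧
        Nonempty (CohB1.tensorMod
            (ClSub.idealMod (pullback.lift P.left (𝟙 T.left)
              ((Over.w P).trans (Category.id_comp T.hom).symm) : T.left ⟶ PicF.XT f T).ker)
            (ClSub.idealMod (pullback.lift Q.left (𝟙 T.left)
              ((Over.w Q).trans (Category.id_comp T.hom).symm) : T.left ⟶ PicF.XT f T).ker) ≅
          CohB1.tensorMod (CohB1.tensorMod
            (ClSub.idealMod (pullback.lift R.left (𝟙 T.left)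
              ((Over.w R).trans (Category.id_comp T.hom).symm) : T.left ⟶ PicF.XT f T).ker)
            (ClSub.idealMod (PicF.secT f σ hσ T).ker))
            ((Scheme.Modules.pullback (PicF.XTproj f T)).obj M)) := by
  haveI : Smooth f := SmoothOfRelativeDimension.smooth 1 f
  haveI := hc
  have hdim := EllSect.dim_fiber_eq_one f σ hσ
  have h0 : ∀ z : S, PerfAux.betti f (Coh.structureModule E) z 0 = 1 := EllSect.betti_zero f σ hσ
  have hO : ∀ z : S, PerfAux.betti f (Coh.structureModule E) z 0 = 1 ∧
      PerfAux.betti f (Coh.structureModule E) z 1 = 1 := fun z => by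
    have h := (EllSect.euler_fiber f (Coh.structureModule E) z).symm.trans
      ((EllSect.eulerCharLE_iso f z (PicLoc.pullbackStructureIso (f.fiberι z))).trans (hg z))
    rw [h0 z] at h
    exact ⟨h0 z, by omega⟩
  obtain ⟨G, hG⟩ := EllSect.exists_grpObj f hdim hO σ hσ
  have key : ∀ (T : Over S) (P Q R : T ⟶ Over.mk f),
      CartesianMonoidalCategory.lift P Q ≫ G.mul = R ↔ ∃ M : T.left.Modules, PicF.IsInvertible M ∧
        Nonempty (CohB1.tensorMod
            (ClSub.idealMod (pullback.lift P.left (𝟙 T.left)
              ((Over.w P).trans (Category.id_comp T.hom).symm) : T.left ⟶ PicF.XT f T).ker)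
            (ClSub.idealMod (pullback.lift Q.left (𝟙 T.left)
              ((Over.w Q).trans (Category.id_comp T.hom).symm) : T.left ⟶ PicF.XT f T).ker) ≅
          CohB1.tensorMod (CohB1.tensorMod
            (ClSub.idealMod (pullback.lift R.left (𝟙 T.left)
              ((Over.w R).trans (Category.id_comp T.hom).symm) : T.left ⟶ PicF.XT f T).ker)
            (ClSub.idealMod (PicF.secT f σ hσ T).ker))
            ((Scheme.Modules.pullback (PicF.XTproj f T)).obj M)) := by
    intro T P Q R
    rw [EllSect.rel_iff f hdim hO σ hσ G hG]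
    have hinv : ∀ (x : T.left ⟶ E) (hx : x ≫ f = T.hom), PicF.IsInvertible
        (ClSub.idealMod (HilbD.secGraph f T x hx) : (PicF.XT f T).Modules) := fun x hx =>
      (Groth.Agent.S8914.result _).mpr (effCartier_obj f T (d := 1) ⟨_, HilbOne.secGraph_mem f T x hx⟩)
    have hP := hinv P.left (Over.w P)
    have hQ := hinv Q.left (Over.w Q)
    have hR := hinv R.left (Over.w R)
    have hS := hinv (T.hom ≫ σ) (by rw [Category.assoc, hσ, Category.comp_id])
    constructor
    · intro h
      obtain ⟨n, hn⟩ := eq_mul_base_of_rigify_eq f σ hσ h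
      obtain ⟨M, hM, hMc⟩ := PicGrp.exists_eq_cls n⁻¹
      refine ⟨M, hM, (PicGrp.cls_eq_cls_iff (TMul.isInvertible_tensorMod hP hQ)
        (TMul.isInvertible_tensorMod (TMul.isInvertible_tensorMod hR hS)
          (PicLoc.isInvertible_pullback (PicF.XTproj f T) hM))).1 ?_⟩
      show PicGrp.cls _ hP * PicGrp.cls _ hQ =
        PicGrp.cls _ hR * PicGrp.cls _ hS * PicGrp.cls _ (PicLoc.isInvertible_pullback (PicF.XTproj f T) hM)
      rw [← pull_cls (PicF.XTproj f T) M hM, ← hMc, map_inv]
      rw [EllSect.sigCl, ptCl, ptCl, ptCl, ptCl, divCl, divCl, divCl, divCl] at hn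
      rw [← inv_inj, mul_inv, mul_inv, mul_inv, inv_inv]
      exact hn
    · rintro ⟨M, hM, he⟩
      have h2 : PicGrp.cls _ hP * PicGrp.cls _ hQ =
          PicGrp.cls _ hR * PicGrp.cls _ hS * PicGrp.cls _ (PicLoc.isInvertible_pullback (PicF.XTproj f T) hM) :=
        (PicGrp.cls_eq_cls_iff (TMul.isInvertible_tensorMod hP hQ)
          (TMul.isInvertible_tensorMod (TMul.isInvertible_tensorMod hR hS)
            (PicLoc.isInvertible_pullback (PicF.XTproj f T) hM))).2 he
      rw [← pull_cls (PicF.XTproj f T) M hM] at h2
      have h3 := congrArg (fun a => a⁻¹) h2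
      simp only [mul_inv, ← map_inv] at h3
      rw [EllSect.sigCl, ptCl, ptCl, ptCl, ptCl, divCl, divCl, divCl, divCl,
        show (PicGrp.cls _ hP)⁻¹ * (PicGrp.cls _ hQ)⁻¹ = _ from h3, rigify_mul, rigify_base, _root_.mul_one]
  refine ⟨G, key, fun G' hG' => GrpObj.ext _ _ (MonObj.ext _ _ ?_)⟩
  have h := hG' _ (CartesianMonoidalCategory.fst (Over.mk f) (Over.mk f))
    (CartesianMonoidalCategory.snd (Over.mk f) (Over.mk f)) G.mul
  have h1 := (key _ (CartesianMonoidalCategory.fst (Over.mk f) (Over.mk f))
    (CartesianMonoidalCategory.snd (Over.mk f) (Over.mk f)) G.mul).1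
      (by rw [CartesianMonoidalCategory.lift_fst_snd, Category.id_comp])
  have h2 := h.2 h1
  rw [Hom.mul_def, CartesianMonoidalCategory.lift_fst_snd, Category.id_comp] at h2
  exact h2

end Groth.Agent.S16250
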