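import Groth.Statements.S16216
import Groth.Agent.EllSect.Translate
import Groth.Agent.S12410
import Groth.Agent.S16250
import Groth.Agent.ThickProp.Deform
import Groth.Agent.ThickSys.Desc
import Groth.Agent.DefLift.Twisted
import Groth.Agent.DimField.Limit
import Groth.Agent.PicInf.PicZeroCurve
import Groth.Agent.PicSmooth.Degree
import Groth.Agent.AbelMap.Degree
import Groth.Agent.Rigid.FibreTranslate
import Groth.Agent.CurveRR.Deg
-- import your own Groth.Agent.* helpers here

set_option autoImplicit false
set_option backward.isDefEq.respectTransparency false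
set_option backward.isDefEq.respectTransparency.types false
set_option linter.style.haveILetI false
set_option maxHeartbeats 1000000
set_option linter.unusedVariables false
universe u
open CategoryTheory CategoryTheory.Limits AlgebraicGeometry
open PtDefo

namespace Groth.Agent.S16216

open ArtFun ArtFun.Art

section

variable {k : Type u} [Field k] [IsAlgClosed k] {X : Scheme.{u}} [X.Over (Spec (CommRingCat.of k))]

/-- A deformation of a smooth proper curve is a proper smooth family of connected curves. -/
theorem geom_facts {A : ArtFun.Art k k} (ξ : ArtFun.DefSch X (X ↘ Spec (CommRingCat.of k)) A)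
    (hX : Curve.IsSmoothProperCurve k X (X ↘ Spec (CommRingCat.of k)))
    (P : Spec (CommRingCat.of k) ⟶ X) (hP : P ≫ (X ↘ Spec (CommRingCat.of k)) = 𝟙 _) :
    IsProper ξ.f ∧ Smooth ξ.f ∧ GeometricallyConnected ξ.f ∧
      (∀ s, topologicalKrullDim ↥(ξ.f.fiber s) = 1) ∧
      ∀ s, PerfAux.betti ξ.f (Coh.structureModule ξ.total) s 0 = 1 ∧
        PerfAux.betti ξ.f (Coh.structureModule ξ.total) s 1 = Curv2.genus k X := by
  obtain ⟨hp, hs, hi, hd⟩ := hX
  haveI : IsClosedImmersion (specRes A) := IsClosedImmersion.spec_of_surjective _ A.res_surjective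
  haveI : Subsingleton ↥(spec A) := inferInstanceAs (Subsingleton (PrimeSpectrum A))
  haveI : Surjective (specRes A) := ⟨fun a => ⟨Classical.arbitrary _, Subsingleton.elim _ _⟩⟩
  haveI : IsLocallyNoetherian (spec A) := inferInstanceAs (IsLocallyNoetherian (Spec (CommRingCat.of A)))
  haveI : IsProper ξ.f := ThickSys.isProper_of_thickening ξ.isPullback
  haveI : Flat ξ.f := ξ.flat
  haveI : Smooth ξ.f := by
    haveI : Flat (ξ.f ≫ 𝟙 (spec A)) := by rw [Category.comp_id]; exact ξ.flat
    exact ThickProp.smooth_of_deform (f := X ↘ Spec (CommRingCat.of k)) (g := 𝟙 _) (g' := 𝟙 _)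
      (by simpa only [Category.comp_id] using ξ.isPullback) (IsPullback.of_vert_isIso ⟨by simp⟩)
      ξ.isPullback.w (DefLift.Loc.isNilpotent_ker_specRes A)
  have hpt : ∀ s : ↥(spec A), ∃ y, specRes A y = s := fun s => (specRes A).surjective s
  haveI : GeometricallyConnected ξ.f := ⟨fun K _ y Z fst snd h => by
    haveI : ConnectedSpace X := inferInstance
    haveI := Rigid.geometricallyConnected_of_section (X ↘ Spec (CommRingCat.of k)) P hP
    obtain ⟨φ, rfl⟩ : ∃ φ, φ ≫ specRes A = y := by
      let φ₀ : A →+* K := (Spec.preimage y).hom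
      have hker : RingHom.ker A.res.toRingHom ≤ RingHom.ker φ₀ := fun a ha => by
        obtain ⟨n, hn0⟩ := IsArtinianRing.isNilpotent_jacobson_bot (R := A)
        have hn : a ^ n = 0 := by
          have h1 : a ^ n ∈ IsLocalRing.maximalIdeal A ^ n := Ideal.pow_mem_pow ((A.mem_maximalIdeal_iff a).2 ha) n
          rw [← IsLocalRing.jacobson_eq_maximalIdeal (⊥ : Ideal A) bot_ne_top, hn0] at h1
          exact h1
        rw [RingHom.mem_ker]
        exact IsNilpotent.eq_zero ⟨n, by rw [← map_pow, hn, map_zero]⟩
      obtain ⟨ψ, hψ⟩ : ∃ ψ : k →+* K, ψ.comp A.res.toRingHom = φ₀ :=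
        ⟨A.res.toRingHom.liftOfSurjective A.res_surjective ⟨φ₀, hker⟩, RingHom.liftOfSurjective_comp _ _ _⟩
      refine ⟨Spec.map (CommRingCat.ofHom ψ), ?_⟩
      rw [← Spec.map_comp, ← CommRingCat.ofHom_comp, hψ]
      exact Spec.map_preimage y
    have h' := IsPullback.of_right' h ξ.isPullback
    exact GeometricallyConnected.geometrically_connectedSpace _ _ _ h'⟩
  refine ⟨inferInstance, inferInstance, inferInstance, fun s => ?_, fun s => ?_⟩
  · obtain ⟨y, rfl⟩ := hpt s
    rw [← DimField.dim_fiber_eq_of_isPullback ξ.isPullback y, PicInf.PicZeroCurve.dim_fiber_field, hd]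
  · obtain ⟨y, rfl⟩ := hpt s
    have key : ∀ i, PerfAux.betti ξ.f (Coh.structureModule ξ.total) (specRes A y) i =
        CurveRR.h k (Coh.structureModule X) i := fun i =>
      ((PicSmooth.betti_of_isPullback ξ.isPullback _ (QC.isQCoh_unit ξ.total) y i).symm.trans
        (PicSmooth.betti_iso _ (PicLoc.pullbackStructureIso ξ.i) y i)).trans
        (AbelMap.betti_field (QC.isQCoh_unit X) y i)
    exact ⟨(key 0).trans (CurveRR.h0_structure k X), key 1⟩

end

/-- Let k be an algebraically closed field of characteristic neither 2 nor 3, C a smooth proper integral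
curve of genus one over k and P a rational point of C. For every local Artinian k-algebra A with
residue field k the forgetful map, from isomorphism classes of deformations of the pointed curve (C,
P) over A (deformations of C over A with a section through P) to isomorphism classes of deformations
of C over A, is injective: two sections through P of one deformation of C over A are exchanged by an
automorphism of that deformation inducing the identity on C. Genus one is essential here; for genus
at least two it fails. (The characteristic assumption is the standing one of the source's section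
and plays no role.) -/
theorem result
    {k : Type u} [Field k] [IsAlgClosed k] (h2 : (2 : k) ≠ 0) (h3 : (3 : k) ≠ 0)
    (X : Scheme.{u}) [X.Over (Spec (CommRingCat.of k))]
    (hX : Curve.IsSmoothProperCurve k X (X ↘ Spec (CommRingCat.of k))) (hg : Curv2.genus k X = 1)
    (P : Spec (CommRingCat.of k) ⟶ X) (hP : P ≫ (X ↘ Spec (CommRingCat.of k)) = 𝟙 _)
    (A : ArtFun.Art k k) :
    Function.Injective ((PtDefo.forgetPts (Λ := k) X (X ↘ Spec (CommRingCat.of k)) (fun _ : PUnit.{u + 1} => P)).app A) := by
  intro q q'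
  induction q using Quotient.inductionOn with
  | h ξ =>
  induction q' using Quotient.inductionOn with
  | h ξ' =>
  intro h
  obtain ⟨e⟩ := Quotient.exact h
  obtain ⟨hp, hs, hc, hdim, hO⟩ := geom_facts ξ'.toDefSch hX P hP
  rw [hg] at hO
  have hrd : SmoothOfRelativeDimension 1 ξ'.f := S12410.smoothOfRelDim ξ'.f hdim
  let σ : ArtFun.Art.spec A ⟶ ξ'.total := ξ.sect PUnit.unit ≫ e.iso.hom
  have hσ : σ ≫ ξ'.f = 𝟙 _ := by rw [Category.assoc, e.hom_f, ξ.sect_f]
  obtain ⟨t, ht, htσ, hti⟩ := EllSect.exists_translation ξ'.f hdim hO σ hσ (ξ'.sect PUnit.unit) (ξ'.sect_f _)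
  refine Quotient.sound ⟨⟨⟨e.iso ≪≫ t, ?_, ?_⟩, ?_⟩⟩
  · show (e.iso.hom ≫ t.hom) ≫ ξ'.f = ξ.f
    rw [Category.assoc, ht, e.hom_f]
  · show ξ.i ≫ e.iso.hom ≫ t.hom = ξ'.i
    rw [← Category.assoc, e.i_hom]
    refine hti ξ'.i ?_
    rw [ξ'.toDefSch.i_f, Category.assoc, Category.assoc]
    congr 1
    rw [← ξ'.pt_sect, ← Category.assoc, ← ξ.pt_sect, Category.assoc, e.i_hom]
  · rintro ⟨⟩
    show ξ.sect _ ≫ e.iso.hom ≫ t.hom = ξ'.sect _
    rw [← Category.assoc]
    exact htσ

end Groth.Agent.S16216
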