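import Groth.Statements.S16218
import Groth.Agent.ModM0.Basic

set_option autoImplicit false
universe u
open CategoryTheory CategoryTheory.Limits AlgebraicGeometry
open Curves

set_option backward.isDefEq.respectTransparency false
set_option backward.isDefEq.respectTransparency.types false

namespace Groth.Agent.S16218

/-- Let k be an algebraically closed field. For the moduli problem of curves of genus 0 over k-schemes
(smooth proper geometrically irreducible morphisms whose geometric fibres are one-dimensional of
genus 0, up to isomorphism over the base), the point M = Spec k with the morphism φ sending each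
family over T to the structure morphism of T satisfies: (b) every morphism ψ from the problem to a
functor of points h_N, both taken on test schemes of finite type over k, factors as φ followed by a
unique k-morphism Spec k → N; and (a) φ is bijective on geometric points: over every algebraically
closed field Ω over k there is a family of genus-0 curves over Spec Ω and any two are isomorphic. In
particular Spec k is a coarse moduli scheme for curves of genus 0 in this sense (universal property
for test schemes of finite type over k), and the family over Spec k in (a) is a tautological family.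
(The published statement asserts the universal property (b) for all k-schemes as test schemes and
for families projective over the base; its proof treats test schemes of finite type over k,
indicating the general case only in outline, so (b) is stated for finite-type test schemes here, and
properness replaces projectivity, which changes nothing in the argument. Since Spec k is terminal
among k-schemes, φ is unique and is quantified existentially.) -/
theorem result
    {k : Type u} [Field k] [IsAlgClosed k] :
    ∃ φ : (ModFun.Mg (Spec (CommRingCat.of k)) 0).Hom ⊤ (Over.mk (𝟙 (Spec (CommRingCat.of k)))),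
      ModFun.IsBestApprox
          (fun T : Over (Spec (CommRingCat.of k)) => LocallyOfFiniteType T.hom ∧ QuasiCompact T.hom)
          (ModFun.Mg (Spec (CommRingCat.of k)) 0) (Over.mk (𝟙 (Spec (CommRingCat.of k)))) (φ.ofLE le_top) ∧
        ModFun.GeomBij (ModFun.Mg (Spec (CommRingCat.of k)) 0) (Over.mk (𝟙 (Spec (CommRingCat.of k)))) φ := by
  let S := Spec (CommRingCat.of k)
  let M : Over S := Over.mk (𝟙 S)
  let Q : ObjectProperty (Over S) := fun T => LocallyOfFiniteType T.hom ∧ QuasiCompact T.hom
  let F := ModFun.Mg S 0
  let φ : F.Hom ⊤ M :=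
    { app := fun T _ _ _ => Over.homMk T.hom (Category.comp_id _)
      natural := fun g _ _ _ _ _ => by
        apply Over.OverMorphism.ext
        exact (Over.w g).symm
      resp := fun _ _ _ _ _ _ => rfl }
  have hline := ModM0.isCurveOfGenus_line k
  let P₁ : F.Fam M := Over.mk (CohB1.ProjSpace.toSpec 1 k)
  have hP₁ : F.ok M P₁ := ⟨trivial, hline⟩
  have hM : Q M := ⟨inferInstanceAs (LocallyOfFiniteType (𝟙 S)), inferInstanceAs (QuasiCompact (𝟙 S))⟩
  have hpullP : ∀ (T : Over S) (g : T ⟶ M), F.ok T (F.pull g P₁) := fun T g =>
    ⟨trivial, ModM0.isCurveOfGenus_bc (IsPullback.of_hasPullback _ g.left) hline⟩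
  have htriv : ∀ (C : Type u) [CommRing C] [IsArtinianRing C] [IsLocalRing C]
      [IsAlgClosed (IsLocalRing.ResidueField C)] (s : Spec (CommRingCat.of C) ⟶ S) (g : Over.mk s ⟶ M)
      (x : F.Fam (Over.mk s)), F.ok (Over.mk s) x → F.r (Over.mk s) x (F.pull g P₁) := by
    intro C _ _ _ _ s g x hx
    obtain ⟨e₁, he₁⟩ := ModM0.exists_iso_artinian x.hom hx.2
    obtain ⟨e₂, he₂⟩ := ModM0.exists_iso_line g.left
      (IsPullback.of_hasPullback (CohB1.ProjSpace.toSpec 1 k) g.left)
    refine ⟨Over.isoMk (e₁ ≪≫ e₂.symm) ?_⟩
    show (e₁.hom ≫ e₂.inv) ≫ pullback.snd (CohB1.ProjSpace.toSpec 1 k) g.left = x.hom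
    rw [Category.assoc, (Iso.inv_comp_eq e₂).mpr he₂.symm, he₁]
  refine ⟨φ, ?_, ?_⟩
  · intro N ψ
    refine ⟨ψ.app M P₁ hM hP₁, fun T x hT hx => ?_, fun f hf => ?_⟩
    swap
    · have h := hf M P₁ hM hP₁
      rw [show (φ.ofLE le_top).app M P₁ hM hP₁ = 𝟙 M from Over.OverMorphism.ext rfl, Category.id_comp] at h
      exact h.symm
    apply Over.OverMorphism.ext
    show (ψ.app T x hT hx).left = T.hom ≫ (ψ.app M P₁ hM hP₁).left
    haveI := hT.1
    suffices hloc : ∀ (B : CommRingCat.{u}) (c : Spec B ⟶ T.left), IsOpenImmersion c →
        c ≫ (ψ.app T x hT hx).left = c ≫ T.hom ≫ (ψ.app M P₁ hM hP₁).left from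
      T.left.affineCover.hom_ext _ _ fun j =>
        hloc _ (T.left.affineOpenCover.f j) (T.left.affineOpenCover.openCover.map_prop j)
    intro B c _
    letI : Algebra k B := (Spec.preimage (c ≫ T.hom)).hom.toAlgebra
    haveI : Algebra.FiniteType k B := by
      rw [← RingHom.finiteType_algebraMap, RingHom.algebraMap_toAlgebra]
      rw [← HasRingHomProperty.Spec_iff (P := @LocallyOfFiniteType), Spec.map_preimage]
      infer_instance
    haveI : IsNoetherianRing B := Algebra.FiniteType.isNoetherianRing k B
    haveI : IsJacobsonRing B := isJacobsonRing_of_finiteType (A := k)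
    refine ModM0.hom_ext_thickenings _ _ fun m hm n hn => ?_
    let C := (B : Type u) ⧸ m ^ n
    let π : Spec (CommRingCat.of C) ⟶ Spec B := Spec.map (CommRingCat.ofHom (Ideal.Quotient.mk (m ^ n)))
    let s : Spec (CommRingCat.of C) ⟶ S := π ≫ c ≫ T.hom
    haveI : Algebra.FiniteType k C := Algebra.FiniteType.of_surjective (Ideal.Quotient.mkₐ k (m ^ n)) Ideal.Quotient.mk_surjective
    haveI : IsLocalRing C := by
      haveI : Nontrivial C := Ideal.Quotient.nontrivial_iff.mpr fun h => hm.ne_top
        (top_le_iff.mp (h ▸ Ideal.pow_le_self (Nat.one_le_iff_ne_zero.mp hn)))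
      exact IsLocalRing.of_unique_max_ideal ⟨m.map (Ideal.Quotient.mk (m ^ n)),
        Ideal.IsMaximal.map_of_surjective_of_ker_le Ideal.Quotient.mk_surjective
          (by rw [Ideal.mk_ker]; exact Ideal.pow_le_self (Nat.one_le_iff_ne_zero.mp hn)),
        fun J hJ => by
          have hJ' : (J.comap (Ideal.Quotient.mk (m ^ n))) = m := by
            refine (hm.eq_of_le (Ideal.comap_isMaximal_of_surjective _ Ideal.Quotient.mk_surjective (K := J)).ne_top ?_).symm
            refine Ideal.IsPrime.le_of_pow_le (n := n) ?_
            · intro w hw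
              show Ideal.Quotient.mk (m ^ n) w ∈ J
              rw [Ideal.Quotient.eq_zero_iff_mem.mpr hw]
              exact zero_mem _
          exact ((congrArg (Ideal.map (Ideal.Quotient.mk (m ^ n))) hJ').symm.trans (Ideal.map_comap_of_surjective _ Ideal.Quotient.mk_surjective J)).symm⟩
    haveI : IsNoetherianRing C := inferInstance
    haveI : IsArtinianRing C := by
      rw [isArtinianRing_iff_isNoetherianRing_krullDimLE_zero]
      refine ⟨inferInstance, Ring.KrullDimLE.mk₀ fun J hJ => ?_⟩
      have hle : m ≤ J.comap (Ideal.Quotient.mk (m ^ n)) := by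
        refine Ideal.IsPrime.le_of_pow_le (n := n) ?_
        intro w hw
        show Ideal.Quotient.mk (m ^ n) w ∈ J
        rw [Ideal.Quotient.eq_zero_iff_mem.mpr hw]
        exact zero_mem _
      have he := hm.eq_of_le (hJ.comap _).ne_top hle
      rw [← Ideal.map_comap_of_surjective _ Ideal.Quotient.mk_surjective J, ← he]
      exact Ideal.IsMaximal.map_of_surjective_of_ker_le Ideal.Quotient.mk_surjective
        (by rw [Ideal.mk_ker]; exact Ideal.pow_le_self (Nat.one_le_iff_ne_zero.mp hn))
    haveI : IsAlgClosed (IsLocalRing.ResidueField C) := by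
      haveI : Algebra.FiniteType k (IsLocalRing.ResidueField C) :=
        Algebra.FiniteType.of_surjective (IsScalarTower.toAlgHom k C (IsLocalRing.ResidueField C)) IsLocalRing.residue_surjective
      haveI : Module.Finite k (IsLocalRing.ResidueField C) := finite_of_finite_type_of_isJacobsonRing _ _
      exact IsAlgClosed.of_ringEquiv k _ (RingEquiv.ofBijective (algebraMap k (IsLocalRing.ResidueField C))
        IsAlgClosed.algebraMap_bijective_of_isIntegral)
    let T₀ : Over S := Over.mk s
    have hT₀ : Q T₀ := by
      have e : s = Spec.map (CommRingCat.ofHom (algebraMap k C)) := by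
        show π ≫ c ≫ T.hom = _
        rw [← Spec.map_preimage (c ≫ T.hom), ← Spec.map_comp]
        rfl
      refine ⟨?_, ?_⟩
      · show LocallyOfFiniteType s
        rw [e, HasRingHomProperty.Spec_iff (P := @LocallyOfFiniteType)]
        exact RingHom.finiteType_algebraMap.mpr inferInstance
      · show QuasiCompact s
        rw [e]; infer_instance
    let g : T₀ ⟶ T := Over.homMk (π ≫ c) (Category.assoc _ _ _)
    let g₀ : T₀ ⟶ M := Over.homMk s (Category.comp_id _)
    have hx₀ : F.ok T₀ (F.pull g x) := ⟨trivial, ModM0.isCurveOfGenus_bc (IsPullback.of_hasPullback _ g.left) hx.2⟩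
    have h₁ := ψ.resp (F.pull g x) (F.pull g₀ P₁) hT₀ hx₀ (hpullP T₀ g₀) (htriv C s g₀ (F.pull g x) hx₀)
    rw [ψ.natural g x hT hT₀ hx hx₀, ψ.natural g₀ P₁ hM hT₀ hP₁ (hpullP T₀ g₀)] at h₁
    have h₂ : (π ≫ c) ≫ (ψ.app T x hT hx).left = (π ≫ c ≫ T.hom) ≫ (ψ.app M P₁ hM hP₁).left :=
      congrArg CommaMorphism.left h₁
    simpa only [Category.assoc] using h₂
  · intro Ω _ _ t hP
    haveI : IsAlgClosed (IsLocalRing.ResidueField Ω) :=
      IsAlgClosed.of_ringEquiv Ω _ (RingEquiv.ofBijective (IsLocalRing.residue Ω)
        ⟨(IsLocalRing.residue Ω).injective, IsLocalRing.residue_surjective⟩)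
    let g₀ : Over.mk t ⟶ M := Over.homMk t (Category.comp_id _)
    refine ⟨fun g => ⟨F.pull g₀ P₁, hpullP _ g₀, ?_⟩, fun x y hx hy _ => ?_⟩
    · apply Over.OverMorphism.ext
      exact (Over.w g).symm.trans (Category.comp_id _)
    · obtain ⟨a⟩ := htriv Ω t g₀ x hx
      obtain ⟨b⟩ := htriv Ω t g₀ y hy
      exact ⟨a ≪≫ b.symm⟩

end Groth.Agent.S16218
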