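import Groth.Statements.S16225
import Mathlib.RingTheory.TensorProduct.IncludeLeftSubRight
-- import your own Groth.Agent.* helpers here

set_option autoImplicit false
open scoped TensorProduct
universe u v
open CAlg

namespace Groth.Agent.S16225

/-- Let p be a prime, n a natural number and R → R' a faithfully flat homomorphism of commutative rings
in which p is nilpotent. Regard W_n(R') and W_n(R' ⊗_R R') as W_n(R)-algebras through the
componentwise maps induced by R → R' and R → R' ⊗_R R', and let ψ₁, ψ₂ : W_n(R') → W_n(R' ⊗_R R') be
the componentwise maps induced by the two inclusions of R' (these are W_n(R)-algebra maps). Then for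
every flat W_n(R)-module M the sequence 0 → M → M ⊗_{W_n(R)} W_n(R') ⇉ M ⊗_{W_n(R)} W_n(R' ⊗_R R')
is exact: m ↦ m ⊗ 1 is injective and its image is the equalizer of id ⊗ ψ₁ and id ⊗ ψ₂. (This is the
beginning, in degrees 0 and 1, of a complex continued by the higher tensor powers of R', which the
published proof asserts to be exact throughout; W_n(R) → W_n(R') is not flat in general, so this is
not faithfully flat descent.) -/
theorem result (p : ℕ) [Fact p.Prime] (n : ℕ)
    (R R' : Type u) [CommRing R] [CommRing R'] [Algebra R R'] [Module.FaithfullyFlat R R']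
    (hp : IsNilpotent (p : R))
    [Algebra (TruncatedWittVector p n R) (TruncatedWittVector p n R')]
    (h₁ : algebraMap (TruncatedWittVector p n R) (TruncatedWittVector p n R') = WittGrp.truncMap p n (algebraMap R R'))
    [Algebra (TruncatedWittVector p n R) (TruncatedWittVector p n (TensorProduct R R' R'))]
    (h₂ : algebraMap (TruncatedWittVector p n R) (TruncatedWittVector p n (TensorProduct R R' R')) =
      WittGrp.truncMap p n (algebraMap R (TensorProduct R R' R')))
    (ψ₁ ψ₂ : TruncatedWittVector p n R' →ₐ[TruncatedWittVector p n R] TruncatedWittVector p n (TensorProduct R R' R'))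
    (hψ₁ : (ψ₁ : TruncatedWittVector p n R' →+* TruncatedWittVector p n (TensorProduct R R' R')) =
      WittGrp.truncMap p n (Algebra.TensorProduct.includeLeftRingHom : R' →+* TensorProduct R R' R'))
    (hψ₂ : (ψ₂ : TruncatedWittVector p n R' →+* TruncatedWittVector p n (TensorProduct R R' R')) =
      WittGrp.truncMap p n ((Algebra.TensorProduct.includeRight : R' →ₐ[R] TensorProduct R R' R') : R' →+* TensorProduct R R' R'))
    (M : Type v) [AddCommGroup M] [Module (TruncatedWittVector p n R) M] [Module.Flat (TruncatedWittVector p n R) M] :
    Function.Injective (fun m : M => m ⊗ₜ[TruncatedWittVector p n R] (1 : TruncatedWittVector p n R')) ∧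
      ∀ x : M ⊗[TruncatedWittVector p n R] TruncatedWittVector p n R',
        LinearMap.lTensor M ψ₁.toLinearMap x = LinearMap.lTensor M ψ₂.toLinearMap x →
          x ∈ Set.range (fun m : M => m ⊗ₜ[TruncatedWittVector p n R] (1 : TruncatedWittVector p n R')) := by
  set f : TruncatedWittVector p n R →ₗ[TruncatedWittVector p n R] (TruncatedWittVector p n R') := Algebra.linearMap (TruncatedWittVector p n R) ((TruncatedWittVector p n R')) with hf
  set g : (TruncatedWittVector p n R') →ₗ[TruncatedWittVector p n R] TruncatedWittVector p n (TensorProduct R R' R') := ψ₁.toLinearMap - ψ₂.toLinearMap with hg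
  have hinjR : Function.Injective (algebraMap R R') := FaithfulSMul.algebraMap_injective R R'
  have hfi : Function.Injective f := by
    intro a b hab
    refine TruncatedWittVector.ext fun i => hinjR ?_
    have := congrArg (fun w => TruncatedWittVector.coeff i w) hab
    simpa [hf, h₁, WittGrp.coeff_truncMap] using this
  have hfg : Function.Exact f g := by
    have heff : Algebra.IsEffective R R' := Algebra.IsEffective.of_faithfullyFlat R R'
    intro y
    have e1 : ψ₁ y = WittGrp.truncMap p n
        (Algebra.TensorProduct.includeLeftRingHom : R' →+* TensorProduct R R' R') y := by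
      rw [← hψ₁]; rfl
    have e2 : ψ₂ y = WittGrp.truncMap p n
        ((Algebra.TensorProduct.includeRight : R' →ₐ[R] TensorProduct R R' R') :
          R' →+* TensorProduct R R' R') y := by
      rw [← hψ₂]; rfl
    constructor
    · intro hy
      have hy' : ψ₁ y = ψ₂ y := sub_eq_zero.mp hy
      rw [e1, e2] at hy'
      have hc : ∀ i, ∃ r : R, algebraMap R R' r = TruncatedWittVector.coeff i y := by
        intro i
        have := congrArg (fun w => TruncatedWittVector.coeff i w) hy'
        simp only [WittGrp.coeff_truncMap] at this
        exact (heff _).mp (by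
          rw [Algebra.TensorProduct.includeLeftSubRight_apply]
          exact sub_eq_zero.mpr this)
      choose r hr using hc
      refine ⟨TruncatedWittVector.mk p r, TruncatedWittVector.ext fun i => ?_⟩
      simp [hf, h₁, WittGrp.coeff_truncMap, hr]
    · rintro ⟨a, rfl⟩
      simp [hg, hf, AlgHom.commutes]
  have hcomp : ∀ m : M, (LinearMap.lTensor M f) ((TensorProduct.rid (TruncatedWittVector p n R) M).symm m) =
      m ⊗ₜ[TruncatedWittVector p n R] (1 : (TruncatedWittVector p n R')) := by
    intro m; simp [hf]
  refine ⟨?_, ?_⟩
  · intro a b hab
    have hli : Function.Injective (LinearMap.lTensor M f) :=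
      Module.Flat.lTensor_preserves_injective_linearMap f hfi
    exact (TensorProduct.rid (TruncatedWittVector p n R) M).symm.injective (hli (by rw [hcomp, hcomp]; exact hab))
  · intro x hx
    have hgx : LinearMap.lTensor M g x = 0 := by
      simp [hg, LinearMap.lTensor_sub, hx]
    obtain ⟨z, hz⟩ := ((Module.Flat.lTensor_exact M hfg) x).mp hgx
    refine ⟨TensorProduct.rid (TruncatedWittVector p n R) M z, ?_⟩
    change _ ⊗ₜ[TruncatedWittVector p n R] (1 : TruncatedWittVector p n R') = x
    rw [← hz, ← hcomp, LinearEquiv.symm_apply_apply]

end Groth.Agent.S16225
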