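import Groth.Statements.S1623
import Groth.Agent.W7Fib.Birat
import Groth.Agent.FibVan.Main
import Groth.Agent.LocImmBlow.Basic
import Groth.Agent.S0558

set_option autoImplicit false
universe u
open CategoryTheory CategoryTheory.Limits AlgebraicGeometry
open Resolve

set_option backward.isDefEq.respectTransparency false
set_option backward.isDefEq.respectTransparency.types false

namespace Groth.Agent.S1623

/-- Let A be a regular local ring of dimension two and b : X → Spec A a blowing up in the maximal ideal.
For every quasi-coherent O_X-module F and every p ≥ 2, H^p(X, F) = 0. -/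
theorem result (A : Type u) [CommRing A] [IsRegularLocalRing A] (hA : ringKrullDim A = 2)
    (X : Scheme.{u}) (b : X ⟶ Spec (CommRingCat.of A)) (hb : BlowUp.IsBlowUp b (Curv2.idealSheaf A (IsLocalRing.maximalIdeal A)))
    (F : X.Modules) (hF : Coh.IsQCoh F) (p : ℕ) (hp : 2 ≤ p) : Subsingleton (Coh.HH X F p) := by
  haveI : IsDomain A := Groth.Agent.RegLoc.isDomain A
  let I := Curv2.idealSheaf A (IsLocalRing.maximalIdeal A)
  have hI : I ≠ ⊥ := by
    intro h
    have h1 : (Scheme.IdealSheafData.ofIdealTop
        ((IsLocalRing.maximalIdeal A).map (Scheme.ΓSpecIso (CommRingCat.of A)).inv.hom)).ideal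
          ⟨⊤, isAffineOpen_top _⟩ = ⊥ := by
      rw [show Scheme.IdealSheafData.ofIdealTop _ = I from rfl, h, Scheme.IdealSheafData.ideal_bot]; rfl
    rw [Scheme.IdealSheafData.ofIdealTop_ideal] at h1
    have hinj : Function.Injective (Scheme.ΓSpecIso (CommRingCat.of A)).inv.hom :=
      (ConcreteCategory.bijective_of_isIso (Scheme.ΓSpecIso (CommRingCat.of A)).inv).1
    have h2 : IsLocalRing.maximalIdeal A = ⊥ := by
      refine (Ideal.map_eq_bot_iff_of_injective hinj).mp ?_
      simpa using h1
    haveI : IsField A := IsLocalRing.isField_iff_maximalIdeal_eq.mpr h2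
    have := ringKrullDim_eq_zero_of_isField this
    rw [hA] at this
    exact absurd this (by norm_num)
  haveI := Groth.Agent.W7Fib.isIntegral_blowUp hI hb
  haveI : IsProper b := Groth.Agent.LocImmBlow.isProper_blowUp hb
  haveI := Groth.Agent.BlowUpLib.isIso_restrict hb
  haveI := hF
  letI : X.Over (Spec (CommRingCat.of A)) := ⟨b⟩
  haveI : IsProper (X ↘ Spec (CommRingCat.of A)) := inferInstanceAs (IsProper b)
  exact Groth.Agent.FibVan.subsingleton_hh (B := A) 1
    (Groth.Agent.W7Fib.dim_closedFibre_le b I.support.compl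
      ⟨_, Groth.Agent.W7Fib.genericPoint_notMem_support hI⟩ (d := 1) (le_of_eq (by rw [hA]; rfl))) F p (by omega)

end Groth.Agent.S1623
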