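import Groth.Statements.S16232
import Groth.Agent.TameChar.Finite
import Mathlib.FieldTheory.Galois.Profinite
import Mathlib.FieldTheory.IsSepClosed
import Mathlib.RingTheory.RootsOfUnity.EnoughRootsOfUnity

set_option autoImplicit false
universe u v
open VanCyc

namespace Groth.Agent.S16232

theorem res_apply {K : Type u} [Field K] {Ω : Type u} [Field Ω] [Algebra K Ω] (N : IntermediateField K Ω)
    [Normal K N] (σ : Ω ≃ₐ[K] Ω) (x : N) :
    (AlgEquiv.restrictNormalHom (F := K) N σ x : Ω) = σ x :=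
  AlgEquiv.restrictNormal_commutes σ N x

theorem res_eq_iff {K : Type u} [Field K] {Ω : Type u} [Field Ω] [Algebra K Ω] (N : IntermediateField K Ω)
    [Normal K N] (σ τ : Ω ≃ₐ[K] Ω) :
    AlgEquiv.restrictNormalHom (F := K) N σ = AlgEquiv.restrictNormalHom (F := K) N τ ↔
      ∀ x ∈ N, σ x = τ x := by
  refine ⟨fun h x hx => ?_, fun h => AlgEquiv.ext fun x => Subtype.ext ?_⟩
  · rw [← res_apply N σ ⟨x, hx⟩, h, res_apply]
  · rw [res_apply, res_apply, h x x.2]

theorem isClosed_res {K : Type u} [Field K] {Ω : Type u} [Field Ω] [Algebra K Ω] (N : IntermediateField K Ω)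
    [Normal K N] [FiniteDimensional K N] (σ : Ω ≃ₐ[K] Ω) (r : ℕ) :
    IsClosed {p : (Ω ≃ₐ[K] Ω) × (Ω ≃ₐ[K] Ω) | ∀ x ∈ N, σ x = (p.1 ^ r * p.2 ^ r) x} := by
  simp only [← res_eq_iff]
  haveI : DiscreteTopology (N ≃ₐ[K] N) := krullTopology_discreteTopology_of_finiteDimensional K N
  exact isClosed_eq continuous_const
    ((InfiniteGalois.restrictNormalHom_continuous N).comp (by fun_prop))

/-- Let R be a strictly Henselian discrete valuation ring (Henselian, with separably closed residue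
field), K its fraction field, Ω a separable closure of K and G the group of K-algebra automorphisms
of Ω; let r ≥ 1 be an integer invertible in the residue field of R, ϖ a uniformizer of R and ρ an
r-th root of ϖ in Ω, so that the fundamental character χ : G → μ_r(Ω) is σ ↦ σ(ρ)/ρ. Then every
homomorphism φ of the abstract group G into an abelian group M with rM = 0 factors uniquely through
χ: there is exactly one homomorphism u : μ_r(Ω) → M with φ(σ) = u(χ(σ)) for every σ in G.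
(Homomorphisms are written as maps respecting the group laws; χ(σ) is the root of unity ζ with ζρ =
σ(ρ).) -/
theorem result
    (R : Type u) [CommRing R] [IsDomain R] [IsDiscreteValuationRing R] [HenselianLocalRing R]
    [IsSepClosed (IsLocalRing.ResidueField R)]
    (K : Type u) [Field K] [Algebra R K] [IsFractionRing R K]
    (Ω : Type u) [Field Ω] [Algebra K Ω] [IsSepClosure K Ω]
    (r : ℕ) [NeZero r] (hr : IsUnit (r : IsLocalRing.ResidueField R))
    (ϖ : R) (hϖ : Irreducible ϖ) (ρ : Ω) (hρ : ρ ^ r = algebraMap K Ω (algebraMap R K ϖ))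
    (M : Type v) [AddCommGroup M] (hM : ∀ x : M, r • x = 0)
    (φ : (Ω ≃ₐ[K] Ω) → M) (hφ : ∀ σ τ : Ω ≃ₐ[K] Ω, φ (σ * τ) = φ σ + φ τ) :
    ∃! u : ↥(rootsOfUnity r Ω) → M, (∀ ζ ξ : ↥(rootsOfUnity r Ω), u (ζ * ξ) = u ζ + u ξ) ∧
      ∀ (σ : Ω ≃ₐ[K] Ω) (ζ : ↥(rootsOfUnity r Ω)), ((ζ : Ωˣ) : Ω) * ρ = σ ρ → φ σ = u ζ := by
  classical
  -- a primitive root in `K`
  obtain ⟨z, hz⟩ : ∃ z : R, IsPrimitiveRoot z r := by
    haveI : NeZero (r : IsLocalRing.ResidueField R) := ⟨hr.ne_zero⟩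
    obtain ⟨w, hw⟩ := HasEnoughRootsOfUnity.exists_primitiveRoot (IsLocalRing.ResidueField R) r
    obtain ⟨w₀, rfl⟩ := IsLocalRing.residue_surjective w
    have hmonic : (Polynomial.X ^ r - Polynomial.C (1 : R)).Monic :=
      Polynomial.monic_X_pow_sub_C 1 (NeZero.ne r)
    obtain ⟨z, hz, hzw⟩ := HenselianLocalRing.is_henselian _ hmonic w₀
      (by
        rw [← IsLocalRing.residue_eq_zero_iff]
        simp [hw.pow_eq_one])
      (by
        have hu : IsUnit ((r : R) * w₀ ^ (r - 1)) := by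
          rw [← IsLocalRing.residue_ne_zero_iff_isUnit, map_mul, map_natCast, map_pow]
          exact mul_ne_zero hr.ne_zero (pow_ne_zero _ (hw.ne_zero (NeZero.ne r)))
        simpa [Polynomial.derivative_X_pow] using hu)
    rw [← IsLocalRing.residue_eq_zero_iff, map_sub, sub_eq_zero] at hzw
    refine ⟨z, ?_, fun l hl => hw.dvd_of_pow_eq_one l (by rw [← hzw, ← map_pow, hl, map_one])⟩
    simpa [sub_eq_zero] using hz
  have h := hz.map_of_injective (IsFractionRing.injective R K)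
  set a := algebraMap R K ϖ with ha
  have ha0 : algebraMap K Ω a ≠ 0 := by
    rw [ne_eq, map_eq_zero, ha, map_eq_zero_iff _ (IsFractionRing.injective R K)]
    exact hϖ.ne_zero
  have hρ0 : ρ ≠ 0 := fun h0 => ha0 (by rw [← hρ, h0, zero_pow (NeZero.ne r)])
  haveI : IsGalois K Ω := inferInstance
  -- the finite levels
  let L₀ : FiniteGaloisIntermediateField K Ω := FiniteGaloisIntermediateField.adjoin K {ρ}
  have hρL₀ : ρ ∈ L₀.toIntermediateField :=
    FiniteGaloisIntermediateField.subset_adjoin K {ρ} (Set.mem_singleton ρ)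
  have key : ∀ L : FiniteGaloisIntermediateField K Ω, ρ ∈ L.toIntermediateField →
      (∀ d : ℕ, (∀ σ : Ω ≃ₐ[K] Ω, σ (ρ ^ d) = ρ ^ d) → r ∣ d) ∧
      ∀ σ : Ω ≃ₐ[K] Ω, σ ρ = ρ → ∃ g s : Ω ≃ₐ[K] Ω,
        ∀ x ∈ L.toIntermediateField, σ x = (g ^ r * s ^ r) x := by
    intro L hmem
    letI : Algebra R L.toIntermediateField :=
      ((algebraMap K L.toIntermediateField).comp (algebraMap R K)).toAlgebra
    haveI : IsScalarTower R K L.toIntermediateField := IsScalarTower.of_algebraMap_eq' rfl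
    let ρ' : L.toIntermediateField := ⟨ρ, hmem⟩
    have hρ' : ρ' ^ r = algebraMap R L.toIntermediateField ϖ := Subtype.ext hρ
    obtain ⟨h1, h2⟩ := TameChar.finite_level h hr hϖ hρ'
    refine ⟨fun d hd => h1 d fun τ => ?_, fun σ hσ => ?_⟩
    · obtain ⟨σ, rfl⟩ :=
        AlgEquiv.restrictNormalHom_surjective (F := K) (K₁ := L.toIntermediateField) Ω τ
      exact Subtype.ext ((res_apply _ σ (ρ' ^ d)).trans (hd σ))
    · obtain ⟨g, s, hgs⟩ := h2 (AlgEquiv.restrictNormalHom (F := K) L.toIntermediateField σ)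
        (Subtype.ext ((res_apply _ σ ρ').trans hσ))
      obtain ⟨g, rfl⟩ :=
        AlgEquiv.restrictNormalHom_surjective (F := K) (K₁ := L.toIntermediateField) Ω g
      obtain ⟨s, rfl⟩ :=
        AlgEquiv.restrictNormalHom_surjective (F := K) (K₁ := L.toIntermediateField) Ω s
      exact ⟨g, s, (res_eq_iff _ _ _).1 (by rw [hgs, map_mul, map_pow, map_pow])⟩
  -- compactness
  have hdec : ∀ σ : Ω ≃ₐ[K] Ω, σ ρ = ρ → ∃ g s : Ω ≃ₐ[K] Ω, σ = g ^ r * s ^ r := by
    intro σ hσ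
    let t : FiniteGaloisIntermediateField K Ω → Set ((Ω ≃ₐ[K] Ω) × (Ω ≃ₐ[K] Ω)) := fun L =>
      {p | ∀ x ∈ L.toIntermediateField, σ x = (p.1 ^ r * p.2 ^ r) x}
    have hne : ∀ L, (t L).Nonempty := fun L => by
      obtain ⟨g, s, hgs⟩ := (key (L ⊔ L₀)
        ((FiniteGaloisIntermediateField.le_iff _ _).1 le_sup_right hρL₀)).2 σ hσ
      exact ⟨(g, s), fun x hx => hgs x ((FiniteGaloisIntermediateField.le_iff _ _).1 le_sup_left hx)⟩
    have hclosed : ∀ L, IsClosed (t L) := fun L => isClosed_res L.toIntermediateField σ r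
    have hdir : Directed (· ⊇ ·) t := fun L M => by
      refine ⟨L ⊔ M, ?_, ?_⟩ <;> intro p hp x hx <;>
        refine hp x ((FiniteGaloisIntermediateField.le_iff _ _).1 ?_ hx)
      · exact le_sup_left
      · exact le_sup_right
    obtain ⟨⟨g, s⟩, hgs⟩ := IsCompact.nonempty_iInter_of_directed_nonempty_isCompact_isClosed t hdir hne
      (fun L => (hclosed L).isCompact) hclosed
    exact ⟨g, s, AlgEquiv.ext fun x => Set.mem_iInter.1 hgs (FiniteGaloisIntermediateField.adjoin K {x}) x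
      (FiniteGaloisIntermediateField.subset_adjoin K {x} (Set.mem_singleton x))⟩
  -- the character
  let χ := TameChar.chr h ρ hρ0 a hρ
  have hφ1 : φ 1 = 0 := by simpa using hφ 1 1
  have hφp : ∀ (g : Ω ≃ₐ[K] Ω) (n : ℕ), φ (g ^ n) = n • φ g := fun g n => by
    induction n with
    | zero => simp [hφ1]
    | succ n ih => rw [pow_succ, hφ, ih, succ_nsmul]
  have hker : ∀ σ, χ σ = 1 → φ σ = 0 := fun σ hσ => by
    obtain ⟨g, s, rfl⟩ := hdec σ ((TameChar.chr_eq_one_iff h ρ hρ0 a hρ σ).1 hσ)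
    rw [hφ, hφp, hφp, hM, hM, add_zero]
  have hconst : ∀ σ τ, χ σ = χ τ → φ σ = φ τ := fun σ τ hst => by
    have h0 := hker (σ⁻¹ * τ) (by rw [map_mul, map_inv, hst, inv_mul_cancel])
    rw [← add_zero (φ σ), ← h0, ← hφ, mul_inv_cancel_left]
  -- surjectivity
  have hle : χ.range ≤ rootsOfUnity r Ω := by
    rintro _ ⟨σ, rfl⟩
    exact TameChar.chr_pow h ρ hρ0 a hρ σ
  have hsurj : ∀ ζ : rootsOfUnity r Ω, ∃ σ, χ σ = ζ := fun ζ => by
    haveI : Finite χ.range := Finite.of_injective _ (Subgroup.inclusion_injective hle)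
    have hd : r ∣ Nat.card χ.range := (key L₀ hρL₀).1 _ fun σ => by
      rw [← TameChar.chr_pow_eq_one_iff h ρ hρ0 a hρ]
      exact congrArg Subtype.val (pow_card_eq_one' (G := χ.range) (x := ⟨χ σ, σ, rfl⟩))
    have hΩ : Nat.card (rootsOfUnity r Ω) = r :=
      (h.map_of_injective (algebraMap K Ω).injective).card_rootsOfUnity
    have heq : χ.range = rootsOfUnity r Ω :=
      Subgroup.eq_of_le_of_card_ge hle (by rw [hΩ]; exact Nat.le_of_dvd Nat.card_pos hd)
    exact heq.ge ζ.2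
  choose sec hsec using hsurj
  have hspec : ∀ (σ : Ω ≃ₐ[K] Ω) (ζ : rootsOfUnity r Ω),
      ((ζ : Ωˣ) : Ω) * ρ = σ ρ ↔ χ σ = ζ := fun σ ζ => by
    rw [Units.ext_iff]
    change _ ↔ σ ρ / ρ = _
    rw [div_eq_iff hρ0, eq_comm]
  refine ⟨fun ζ => φ (sec ζ), ⟨fun ζ ξ => ?_, fun σ ζ hσ => ?_⟩, fun u hu => funext fun ζ => ?_⟩
  · rw [← hφ]
    exact hconst _ _ (by rw [map_mul, hsec, hsec, hsec]; rfl)
  · exact hconst _ _ (((hspec σ ζ).1 hσ).trans (hsec ζ).symm)
  · exact (hu.2 (sec ζ) ζ ((hspec _ _).2 (hsec ζ))).symm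

end Groth.Agent.S16232
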