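import Groth.Statements.S16234
import Mathlib.RingTheory.HopkinsLevitzki
import Mathlib.RingTheory.Noetherian.Basic
import Mathlib.RingTheory.FiniteLength
import Mathlib.RingTheory.Support
import Mathlib.RingTheory.Artinian.Ring

set_option autoImplicit false
universe u v
open CAlg

namespace Groth.Agent.S16234

/-- For a finitely generated module M over a Noetherian commutative ring A, every prime ideal in the
support of M is a maximal ideal if and only if M has finite length. -/
theorem result (A : Type u) [CommRing A] [IsNoetherianRing A]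
    (M : Type v) [AddCommGroup M] [Module A M] [Module.Finite A M] :
    (∀ p ∈ Module.support A M, p.asIdeal.IsMaximal) ↔ IsFiniteLength A M := by
  have hker : ∀ p : PrimeSpectrum A, p ∈ Module.support A M ↔ Module.annihilator A M ≤ p.asIdeal := fun p => by
    rw [Module.support_eq_zeroLocus]; rfl
  rw [isFiniteLength_iff_isNoetherian_isArtinian]
  let I := Module.annihilator A M
  letI : Module (A ⧸ I) M := Module.IsTorsionBySet.module (fun m a => Module.mem_annihilator.1 a.2 m)
  haveI : IsScalarTower A (A ⧸ I) M := Module.IsTorsionBySet.isScalarTower _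
  haveI : IsNoetherianRing (A ⧸ I) := isNoetherianRing_of_surjective A _ _ Ideal.Quotient.mk_surjective
  refine ⟨fun h => ⟨inferInstance, ?_⟩, fun ⟨_, hA⟩ p hp => ?_⟩
  · haveI : Ring.KrullDimLE 0 (A ⧸ I) := Ring.KrullDimLE.mk₀ fun P hP => by
      haveI := h ⟨P.comap (Ideal.Quotient.mk I), inferInstance⟩ ((hker _).2 (fun x hx => by
        rw [Ideal.mem_comap, Ideal.Quotient.eq_zero_iff_mem.2 hx]; exact P.zero_mem))
      rw [← Ideal.map_comap_of_surjective _ Ideal.Quotient.mk_surjective P]
      refine (Ideal.map_eq_top_or_isMaximal_of_surjective _ Ideal.Quotient.mk_surjective this).resolve_left ?_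
      rw [Ideal.map_comap_of_surjective _ Ideal.Quotient.mk_surjective P]; exact hP.ne_top
    haveI : IsArtinianRing (A ⧸ I) := IsNoetherianRing.isArtinianRing_of_krullDimLE_zero
    haveI : Module.Finite (A ⧸ I) M := Module.Finite.of_restrictScalars_finite A _ _
    haveI hQ : IsArtinian (A ⧸ I) M := isArtinian_of_fg_of_artinian'
    let φ : Submodule A M → Submodule (A ⧸ I) M := fun N =>
      { N.toAddSubmonoid with
        smul_mem' := fun c x hx => by
          obtain ⟨c, rfl⟩ := Ideal.Quotient.mk_surjective c
          exact N.smul_mem c hx }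
    have hφ : StrictMono φ := fun _ _ h => h
    exact ⟨hφ.wellFoundedLT.wf⟩
  · obtain ⟨n, s, hs⟩ := Module.Finite.exists_fin (R := A) (M := M)
    let f : A →ₗ[A] (Fin n → M) := LinearMap.pi fun i => LinearMap.toSpanSingleton A M (s i)
    have hfk : LinearMap.ker f = I := by
      ext a
      refine ⟨fun ha => Module.mem_annihilator.2 fun m => ?_, fun ha => funext fun i => Module.mem_annihilator.1 ha (s i)⟩
      have hle : Submodule.span A (Set.range s) ≤ LinearMap.ker (a • (LinearMap.id : M →ₗ[A] M)) :=
        Submodule.span_le.2 (by rintro _ ⟨i, rfl⟩; exact congr_fun ha i)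
      exact hle (hs ▸ Submodule.mem_top)
    haveI : IsArtinian A (A ⧸ I) := by
      rw [← hfk]; exact (LinearMap.quotKerEquivRange f).isArtinian_iff.2 inferInstance
    haveI : IsArtinianRing (A ⧸ I) := isArtinian_of_tower A ‹_›
    haveI : (p.asIdeal.map (Ideal.Quotient.mk I)).IsPrime :=
      Ideal.map_isPrime_of_surjective Ideal.Quotient.mk_surjective (by rw [Ideal.mk_ker]; exact (hker p).1 hp)
    have hmax : (p.asIdeal.map (Ideal.Quotient.mk I)).IsMaximal := IsArtinianRing.isMaximal_of_isPrime _
    rw [show p.asIdeal = (p.asIdeal.map (Ideal.Quotient.mk I)).comap (Ideal.Quotient.mk I) by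
      rw [Ideal.comap_map_of_surjective _ Ideal.Quotient.mk_surjective, ← RingHom.ker_eq_comap_bot, Ideal.mk_ker, sup_eq_left.2 ((hker p).1 hp)]]
    exact Ideal.comap_isMaximal_of_surjective _ Ideal.Quotient.mk_surjective

end Groth.Agent.S16234
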