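import Groth.Statements.S16235
import Mathlib.RingTheory.Regular.RegularSequence
import Mathlib.RingTheory.Ideal.KrullsHeightTheorem
import Mathlib.RingTheory.Ideal.MinimalPrime.Localization

set_option autoImplicit false
universe u
open CAlg

namespace Groth.Agent.S16235

/-- Let A be a Noetherian commutative ring and x_1, …, x_r a regular sequence on A (each x_i a
non-zero-divisor on A/(x_1, …, x_{i-1})) generating an ideal I ≠ A. Then the height of I, the
infimum of the heights of the minimal primes over I, equals r. -/
theorem result (A : Type u) [CommRing A] [IsNoetherianRing A]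
    (r : ℕ) (x : Fin r → A) (hx : RingTheory.Sequence.IsWeaklyRegular A (List.ofFn x))
    (hI : Ideal.span (Set.range x) ≠ ⊤) :
    (Ideal.span (Set.range x)).height = r := by
  classical
  have hlen : (List.ofFn x).length = r := List.length_ofFn
  have hspan : Ideal.ofList (List.ofFn x) = Ideal.span (Set.range x) := by
    rw [Ideal.ofList]
    congr 1
    ext z
    simp [List.mem_ofFn, eq_comm]
  have key : ∀ k ≤ r, ∀ P : Ideal A, P.IsPrime → Ideal.ofList ((List.ofFn x).take k) ≤ P → (k : ℕ∞) ≤ P.height := by
    intro k
    induction k with
    | zero => intro _ P _ _; simp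
    | succ k ih =>
      intro hk P hP hle
      have hk' : k < (List.ofFn x).length := by omega
      set J := Ideal.ofList ((List.ofFn x).take k) with hJ
      have hJle : J ≤ P := le_trans (Ideal.span_mono (fun z hz => List.take_subset_take_left _ (Nat.le_succ k) hz)) hle
      have hxP : (List.ofFn x)[k] ∈ P := hle (Ideal.subset_span (List.mem_take_iff_getElem.2 ⟨k, by omega, rfl⟩))
      obtain ⟨q, hq, hqP⟩ := Ideal.exists_minimalPrimes_le hJle
      haveI := hq.1.1
      have hann : Module.annihilator A (A ⧸ (J • ⊤ : Submodule A A)) = J := by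
        rw [show (J • ⊤ : Submodule A A) = J from Ideal.mul_top J]
        exact Ideal.annihilator_quotient
      have hnot : (List.ofFn x)[k] ∉ q :=
        (hx.regular_mod_prev k hk').notMem_of_mem_minimalPrimes (by rw [hann]; exact hq)
      have hlt : q < P := lt_of_le_of_ne hqP fun h => hnot (h ▸ hxP)
      calc ((k + 1 : ℕ) : ℕ∞) = (k : ℕ∞) + 1 := by push_cast; rfl
        _ ≤ q.height + 1 := by gcongr; exact ih (by omega) q hq.1.1 hq.1.2
        _ ≤ P.height := Ideal.height_add_one_le_of_lt_of_isPrime hlt
  refine le_antisymm ?_ ?_
  · refine le_trans (Ideal.height_le_spanFinrank _ hI) ?_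
    have h1 : (Ideal.span (Set.range x)).spanFinrank ≤ (Set.range x).ncard :=
      Submodule.spanFinrank_span_le_ncard_of_finite (Set.finite_range x)
    have h2 : (Set.range x).ncard ≤ r := by
      rw [← Set.image_univ]
      refine (Set.ncard_image_le Set.finite_univ).trans ?_
      simp
    exact_mod_cast h1.trans h2
  · rw [Ideal.height_eq_inf_minimalPrimes]
    refine le_iInf₂ fun P hP => ?_
    haveI := hP.1.1
    refine key r le_rfl P hP.1.1 ?_
    rw [List.take_of_length_le (by omega), hspan]
    exact hP.1.2

end Groth.Agent.S16235
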