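import Groth.Statements.S16239
import Groth.Agent.K0Hom.CurvePic

set_option autoImplicit false
set_option backward.isDefEq.respectTransparency false
set_option backward.isDefEq.respectTransparency.types false
universe u
open CategoryTheory CategoryTheory.Limits AlgebraicGeometry
attribute [local instance] HasDerivedCategory.standard
open SGA6

namespace Groth.Agent.S16239

/-- Let X be a smooth proper integral curve (dimension one) over an algebraically closed field k, and
write K for the Grothendieck group of finite locally free O_X-modules. Then every element of K can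
be written as (n − 1)·[O_X] + [L] with n an integer and L an invertible O_X-module, and in such an
expression n and the isomorphism class of L are unique. (This is the bijection ℤ × Pic(X) → K
underlying the ring isomorphism K ≅ ℤ ⊕ Pic(X), α ↦ (rank α, det α), of the source, which identifies
K with K₀ of coherent modules via the Cartan isomorphism. The published statement takes X
projective; a proper curve over a field is projective, so this row takes X proper.) -/
theorem result (k : Type u) [Field k] [IsAlgClosed k]
    (X : Scheme.{u}) [X.Over (Spec (CommRingCat.of k))] [IsIntegral X]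
    [IsProper (X ↘ Spec (CommRingCat.of k))] [Smooth (X ↘ Spec (CommRingCat.of k))]
    (hdim : topologicalKrullDim ↥X = 1) :
    (∀ a : SGA6.Kvb X, ∃ (n : ℤ) (L : X.Modules), PicF.IsInvertible L ∧
        a = (n - 1) • KZero.clSub (fun M : X.Modules => FlatMod.IsFinLocFree M) (Coh.structureModule X) +
          KZero.clSub (fun M : X.Modules => FlatMod.IsFinLocFree M) L) ∧
      (∀ (n m : ℤ) (L L' : X.Modules), PicF.IsInvertible L → PicF.IsInvertible L' →
        (n - 1) • KZero.clSub (fun M : X.Modules => FlatMod.IsFinLocFree M) (Coh.structureModule X) +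
            KZero.clSub (fun M : X.Modules => FlatMod.IsFinLocFree M) L =
          (m - 1) • KZero.clSub (fun M : X.Modules => FlatMod.IsFinLocFree M) (Coh.structureModule X) +
            KZero.clSub (fun M : X.Modules => FlatMod.IsFinLocFree M) L' →
        n = m ∧ Nonempty (L ≅ L')) := by
  haveI : IsLocallyNoetherian X := LocallyOfFiniteType.isLocallyNoetherian (X ↘ Spec (CommRingCat.of k))
  haveI : CompactSpace ↥X := QuasiCompact.compactSpace_of_compactSpace (X ↘ Spec (CommRingCat.of k))
  haveI : IsNoetherian X := ⟨⟩
  haveI : X.IsSeparated := ⟨by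
    rw [← terminal.comp_from (X ↘ Spec (CommRingCat.of k))]; infer_instance⟩
  have hreg : ∀ x : X, IsRegularLocalRing (X.presheaf.stalk x) :=
    Groth.Agent.SmLocalST.isRegularLocalRing_stalk_of_smooth_field (X ↘ Spec (CommRingCat.of k))
  obtain ⟨α, hα, hinj, -⟩ := Groth.Agent.K0Smooth.exists_bijective X hreg (fun U V hU hV => IsAffineOpen.inf hU hV)
  letI : PicGrp.Law X := Groth.Agent.W7Cube.law X
  have hflf : ∀ {L : X.Modules}, PicF.IsInvertible L → FlatMod.IsFinLocFree L := fun hL y =>
    let ⟨U, hU, h⟩ := Groth.Agent.CurveRR.isFinLocFreeOfRank_one hL y; ⟨U, 1, hU, h⟩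
  have hO := PicLoc.isInvertible_structureModule X
  refine ⟨fun a => ?_, fun n m L L' hL hL' h => ?_⟩
  · have hmem : α a ∈ Groth.Agent.K0Hom.picElts hdim.le := by
      have : (QuotientAddGroup.mk' (Groth.Agent.K0Hom.picElts hdim.le)).comp α = 0 :=
        Groth.Agent.K0Filt.hom_ext_cl (fun M : X.Modules => FlatMod.IsFinLocFree M) fun E hE => by
          rw [AddMonoidHom.comp_apply, hα E hE, AddMonoidHom.zero_apply, QuotientAddGroup.mk'_apply,
            QuotientAddGroup.eq_zero_iff]
          exact Groth.Agent.K0Hom.clM_mem hdim hreg hE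
      have := DFunLike.congr_fun this a
      rwa [AddMonoidHom.comp_apply, AddMonoidHom.zero_apply, QuotientAddGroup.mk'_apply,
        QuotientAddGroup.eq_zero_iff] at this
    obtain ⟨n, L, hL, e⟩ := hmem
    refine ⟨n, L, hL, hinj ?_⟩
    rw [e, map_add, map_zsmul, hα _ (hflf hO), hα _ (hflf hL)]
  · have h1 := congrArg (Groth.Agent.K0Hom.rankDet (X := X)) h
    rw [map_add, map_add, map_zsmul, map_zsmul, Groth.Agent.K0Hom.rankDet_cl hO,
      Groth.Agent.K0Hom.rankDet_cl hL, Groth.Agent.K0Hom.rankDet_cl hL', PicGrp.cls_structureModule_eq_one,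
      ofMul_one] at h1
    simp only [Prod.ext_iff, Prod.fst_add, Prod.snd_add, Prod.smul_fst, Prod.smul_snd, smul_zero, zero_add,
      smul_eq_mul, mul_one, sub_add_cancel] at h1
    exact ⟨h1.1, (PicGrp.cls_eq_cls_iff hL hL').1 (Additive.ofMul.injective h1.2)⟩

end Groth.Agent.S16239
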