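import Groth.Statements.S16240
import Groth.Agent.RegDual.Scheme
import Groth.Agent.SerreReg.Regular
import Groth.Agent.QC.Coherent
import Groth.Agent.K0Coh.Basic
import Groth.Agent.KFlat.SchemeStalk

set_option autoImplicit false
universe u
open CategoryTheory CategoryTheory.Limits AlgebraicGeometry
open Coh Groth.Agent IsLocalRing

set_option backward.isDefEq.respectTransparency false
set_option backward.isDefEq.respectTransparency.types false

namespace Groth.Agent.S16240

/-- Let X be a Noetherian scheme all of whose local rings are regular, of (topological Krull) dimension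
at most m, and let S be an exact sequence of O_X-modules G ⟶ E_m ⟶ ⋯ ⟶ E_1 ⟶ F with m + 2 terms (G
in position 0, F in position m + 1), injective at the first map and surjective at the last, in which
F is coherent and E_1, …, E_m are finite locally free. Then G is finite locally free. (The source
asks for p + 1 vector bundles with p ≥ dim X − 1, i.e. at least dim X of them, and finite dimension;
here m bounds the dimension.) -/
theorem result (X : Scheme.{u}) [IsNoetherian X]
    (hreg : ∀ x : X, IsRegularLocalRing (X.presheaf.stalk x)) (m : ℕ)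
    (hdim : topologicalKrullDim ↥X ≤ (m : WithBot ℕ∞))
    (S : ComposableArrows X.Modules (m + 1)) (hS : S.Exact)
    (hmono : Mono (S.map' 0 1 (Nat.zero_le 1) (Nat.le_add_left 1 m)))
    (hepi : Epi (S.map' m (m + 1) (Nat.le_succ m) (le_refl (m + 1))))
    (hE : ∀ i : Fin m, FlatMod.IsFinLocFree (S.obj ⟨i.1 + 1, Nat.succ_lt_succ (Nat.lt_succ_of_lt i.2)⟩))
    (hF : Coh.IsCoh (S.obj (Fin.last (m + 1)))) :
    FlatMod.IsFinLocFree (S.obj 0) := by
  -- coherence of `G`
  have hG : Coh.IsCoh (S.obj 0) := by
    rcases Nat.eq_zero_or_pos m with h0 | hpos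
    · subst h0
      haveI := hmono
      haveI : Epi (S.map' 0 1 (Nat.zero_le 1) (Nat.le_add_left 1 0)) := hepi
      haveI := isIso_of_mono_of_epi (S.map' 0 1 (Nat.zero_le 1) (Nat.le_add_left 1 0))
      exact K0Coh.isCoh_of_iso (asIso (S.map' 0 1 (Nat.zero_le 1) (Nat.le_add_left 1 0))).symm hF
    · haveI := hmono
      have h1 : Coh.IsCoh (S.obj ⟨1, by omega⟩) := K0Coh.isCoh_of_isFinLocFree (hE ⟨0, hpos⟩)
      have h2 : Coh.IsQCoh (S.obj ⟨2, by omega⟩) := by
        by_cases hm : m = 1
        · subst hm
          exact hF.1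
        · exact (K0Coh.isCoh_of_isFinLocFree (hE ⟨1, by omega⟩)).1
      haveI : Mono (S.sc hS.toIsComplex 0).f := hmono
      exact K0Coh.isCoh_of_iso (IsLimit.conePointUniqueUpToIso (limit.isLimit _)
          (hS.exact 0 (show 0 + 2 ≤ m + 1 by omega)).fIsKernel)
        (QC.isCoh_kernel h1 h2 (S.map' 1 2))
  refine RegDual.isFinLocFree_of_free_stalk hG fun x => ?_
  haveI := RegDual.finite_stalk hG x
  haveI := hreg x
  set R := X.presheaf.stalk x
  obtain ⟨d, hd, hdm⟩ : ∃ d : ℕ, ringKrullDim R = (d : WithBot ℕ∞) ∧ d ≤ m := by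
    have h1 := (RegDual.ringKrullDim_stalk_le_topologicalKrullDim x).trans hdim
    refine ⟨(maximalIdeal R).spanFinrank, IsRegularLocalRing.spanFinrank_maximalIdeal.symm, ?_⟩
    rw [show ringKrullDim (X.presheaf.stalk x) = (maximalIdeal R).spanFinrank from
      IsRegularLocalRing.spanFinrank_maximalIdeal.symm] at h1
    exact_mod_cast h1
  let M : ∀ i : ℕ, i ≤ m + 1 → ModuleCat.{u} R := fun i hi =>
    (DerSch.stalkFunctor X x).obj (S.obj ⟨i, Nat.lt_succ_of_le hi⟩)
  let f : ∀ (i : ℕ) (hi : i ≤ m), M i (by omega) →ₗ[R] M (i + 1) (by omega) := fun i hi =>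
    ((DerSch.stalkFunctor X x).map (S.map' i (i + 1) (by omega) (by omega))).hom
  have hex : ∀ (i : ℕ) (hi : i + 1 ≤ m), LinearMap.range (f i (by omega)) = LinearMap.ker (f (i + 1) hi) :=
    fun i hi => (((hS.exact i (by omega)).map (DerSch.stalkFunctor X x))).moduleCat_range_eq_ker
  have hsurj : Function.Surjective (f m le_rfl) := by
    haveI := hepi
    exact (ModuleCat.epi_iff_surjective _).1 (inferInstanceAs
      (Epi ((DerSch.stalkFunctor X x).map (S.map' m (m + 1) (Nat.le_succ m) (le_refl (m + 1))))))
  have key : ∀ (t j : ℕ) (h : j + t = m),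
      SerreReg.PdLE R (LinearMap.range (f j (by omega))) j := by
    intro t
    induction t with
    | zero =>
      intro j h
      obtain rfl : j = m := by omega
      refine SerreReg.pdLE_of_equiv (LinearEquiv.ofTop _ (LinearMap.range_eq_top.2 hsurj)).symm ?_
      exact SerreReg.pdLE_mono hdm (SerreReg.pdLE_of_isRegularLocalRing R d hd _)
    | succ t ih =>
      intro j h
      haveI : Module.Projective R (M (j + 1) (by omega)) := by
        haveI : Module.Free R (M (j + 1) (by omega)) :=
          LocFree.free_stalk_of_isFinLocFree (hE ⟨j, by omega⟩) x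
        infer_instance
      have h1 := (SerreReg.pdLE_succ_iff (f (j + 1) (by omega)).rangeRestrict
        (LinearMap.surjective_rangeRestrict _) j).1 (ih (j + 1) (by omega))
      refine SerreReg.pdLE_of_equiv (LinearEquiv.ofEq _ _ ?_) h1
      rw [LinearMap.ker_rangeRestrict, hex j (by omega)]
  have hinj : Function.Injective (f 0 (Nat.zero_le m)) := by
    haveI := hmono
    exact (ModuleCat.mono_iff_injective _).1 (inferInstanceAs
      (Mono ((DerSch.stalkFunctor X x).map (S.map' 0 1 (Nat.zero_le 1) (Nat.le_add_left 1 m)))))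
  have h0 : SerreReg.PdLE R ((S.obj 0).presheaf.stalk x) 0 :=
    SerreReg.pdLE_of_equiv (LinearEquiv.ofInjective _ hinj).symm (key m 0 (zero_add m))
  haveI : Module.Projective R ((S.obj 0).presheaf.stalk x) := (SerreReg.pdLE_zero_iff _).1 h0
  exact Module.free_of_flat_of_isLocalRing

end Groth.Agent.S16240
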