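import Groth.Statements.S16242
import Groth.Agent.K0Mod.Basic
import Mathlib
-- import your own Groth.Agent.* helpers here

set_option autoImplicit false
set_option linter.all false
universe u
open CategoryTheory
open KZero

namespace Groth.Agent.S16242

noncomputable section
open MvPolynomial TensorProduct

section Generic

variable {A : Type u} [CommRing A]

abbrev FG : ObjectProperty (ModuleCat.{u} A) := fun M => Module.Finite A M

/-- The class of a module. -/
abbrev c (X : Type u) [AddCommGroup X] [Module A X] : KZero.K0sub (FG (A := A)) :=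
  KZero.clSub (FG (A := A)) (ModuleCat.of A X)

theorem hrel (X Y Z : Type u) [AddCommGroup X] [Module A X] [Module.Finite A X]
    [AddCommGroup Y] [Module A Y] [Module.Finite A Y] [AddCommGroup Z] [Module A Z]
    [Module.Finite A Z] (f : X →ₗ[A] Y) (g : Y →ₗ[A] Z) (hf : Function.Injective f)
    (hg : Function.Surjective g) (hfg : Function.Exact f g) :
    c (A := A) Y = c (A := A) X + c (A := A) Z := by
  refine K0Mod.cl_add FG (ShortComplex.mk (ModuleCat.ofHom f) (ModuleCat.ofHom g)
    (ModuleCat.hom_ext hfg.linearMap_comp_eq_zero)) ?_ ?_ ?_ ?_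
  · exact { exact := (ShortComplex.ShortExact.moduleCat_exact_iff_function_exact _).2 hfg
            mono_f := (ModuleCat.mono_iff_injective _).2 hf
            epi_g := (ModuleCat.epi_iff_surjective _).2 hg }
  all_goals assumption

theorem c_subsingleton (X : Type u) [AddCommGroup X] [Module A X] [Module.Finite A X]
    [Subsingleton X] : c (A := A) X = 0 := by
  have := hrel (A := A) X X X LinearMap.id LinearMap.id Function.injective_id
    Function.surjective_id (fun x => ⟨fun _ => ⟨x, rfl⟩, fun _ => Subsingleton.elim _ _⟩)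
  simpa using this

theorem c_congr (X Y : Type u) [AddCommGroup X] [Module A X] [Module.Finite A X]
    [AddCommGroup Y] [Module A Y] [Module.Finite A Y] (e : X ≃ₗ[A] Y) :
    c (A := A) X = c (A := A) Y := by
  have := hrel (A := A) X Y PUnit.{u+1} e.toLinearMap 0 e.injective
    (fun _ => ⟨0, rfl⟩) (fun y => ⟨fun _ => ⟨e.symm y, e.apply_symm_apply y⟩, fun _ => rfl⟩)
  rwa [c_subsingleton PUnit.{u+1}, add_zero, eq_comm] at this

theorem c_pow (B : Type u) [AddCommGroup B] [Module A B] [Module.Finite A B] (n : ℕ) :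
    c (A := A) (Fin n → B) = (n : ℤ) • c (A := A) B := by
  induction n with
  | zero => rw [c_subsingleton]; simp
  | succ n ih =>
    rw [hrel (A := A) B (Fin (n + 1) → B) (Fin n → B)
      (LinearMap.single A (fun _ : Fin (n + 1) => B) 0) (LinearMap.funLeft A B Fin.succ) ?_ ?_ ?_,
      ih]
    · push_cast
      rw [add_zsmul, one_zsmul, add_comm]
    · exact Pi.single_injective (M := fun _ : Fin (n + 1) => B) 0
    · exact LinearMap.funLeft_surjective_of_injective A B _ (Fin.succ_injective n)
    · intro x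
      constructor
      · intro hx
        refine ⟨x 0, ?_⟩
        funext i
        refine Fin.cases (by simp) (fun j => ?_) i
        show Pi.single (M := fun _ : Fin (n + 1) => B) 0 (x 0) j.succ = _
        rw [Pi.single_eq_of_ne (Fin.succ_ne_zero j)]
        exact (congrFun hx j).symm
      · rintro ⟨y, rfl⟩
        funext j
        show Pi.single (M := fun _ : Fin (n + 1) => B) 0 y j.succ = 0
        rw [Pi.single_eq_of_ne (Fin.succ_ne_zero j)]

/-- A module killed by `J`, with `A ⧸ J` a PID, has class a multiple of that of `A ⧸ J`. -/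
theorem c_mem_zmultiples [IsNoetherianRing A] (J : Ideal A) [IsDomain (A ⧸ J)]
    [IsPrincipalIdealRing (A ⧸ J)] (M : Type u) [AddCommGroup M] [Module A M] [Module.Finite A M]
    (hM : Module.IsTorsionBySet A M J) :
    c (A := A) M ∈ AddSubgroup.zmultiples (c (A := A) (A ⧸ J)) := by
  letI := hM.module
  haveI : IsScalarTower A (A ⧸ J) M := hM.isScalarTower
  haveI : Module.Finite (A ⧸ J) M := Module.Finite.of_restrictScalars_finite A (A ⧸ J) M
  obtain ⟨n, p, hp⟩ := Module.Finite.exists_fin' (A ⧸ J) M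
  obtain ⟨m, b⟩ := Submodule.basisOfPid (Pi.basisFun (A ⧸ J) (Fin n)) (LinearMap.ker p)
  let q : (Fin n → A ⧸ J) →ₗ[A] M := p.restrictScalars A
  haveI : IsNoetherian A (Fin n → A ⧸ J) := isNoetherian_of_isNoetherianRing_of_finite A _
  have h := hrel (A := A) (LinearMap.ker q) (Fin n → A ⧸ J) M (LinearMap.ker q).subtype q
    Subtype.val_injective hp (LinearMap.exact_subtype_ker_map q)
  have e : (LinearMap.ker q) ≃ₗ[A] (Fin m → A ⧸ J) := (b.equivFun.restrictScalars A : _)
  rw [c_congr _ _ e, c_pow, c_pow] at h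
  have : c (A := A) M = (n : ℤ) • c (A := A) (A ⧸ J) - (m : ℤ) • c (A := A) (A ⧸ J) := by
    rw [h]; abel
  rw [this]
  exact sub_mem (AddSubgroup.zsmul_mem_zmultiples _ _) (AddSubgroup.zsmul_mem_zmultiples _ _)

theorem c_mem_sup [IsNoetherianRing A] (a b : A) (hab : a * b = 0)
    [IsDomain (A ⧸ Ideal.span {a})] [IsPrincipalIdealRing (A ⧸ Ideal.span {a})]
    [IsDomain (A ⧸ Ideal.span {b})] [IsPrincipalIdealRing (A ⧸ Ideal.span {b})]
    (M : Type u) [AddCommGroup M] [Module A M] [Module.Finite A M] :
    ∃ s t : ℤ, c (A := A) M =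
      s • c (A := A) (A ⧸ Ideal.span {a}) + t • c (A := A) (A ⧸ Ideal.span {b}) := by
  haveI : IsNoetherian A M := isNoetherian_of_isNoetherianRing_of_finite A _
  let N : Submodule A M := LinearMap.range (LinearMap.lsmul A M a)
  have h := hrel (A := A) N M (M ⧸ N) N.subtype N.mkQ Subtype.val_injective N.mkQ_surjective
    (LinearMap.exact_subtype_mkQ N)
  have h1 : Module.IsTorsionBySet A (M ⧸ N) (Ideal.span {a} : Ideal A) := by
    intro x r
    obtain ⟨d, hd⟩ := Ideal.mem_span_singleton'.1 r.2
    obtain ⟨x, rfl⟩ := N.mkQ_surjective x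
    show (r : A) • N.mkQ x = 0
    have h0 : N.mkQ (a • x) = 0 := (Submodule.Quotient.mk_eq_zero N).2 ⟨x, rfl⟩
    rw [← hd, mul_smul, ← map_smul N.mkQ a x, h0, smul_zero]
  have h2 : Module.IsTorsionBySet A N (Ideal.span {b} : Ideal A) := by
    intro x r
    obtain ⟨d, hd⟩ := Ideal.mem_span_singleton'.1 r.2
    obtain ⟨y, hy⟩ := x.2
    refine Subtype.ext ?_
    show (r : A) • (x : M) = 0
    rw [← hy, LinearMap.lsmul_apply, smul_smul, ← hd, mul_assoc, mul_comm b a, hab, mul_zero,
      zero_smul]
  obtain ⟨s, hs⟩ := AddSubgroup.mem_zmultiples_iff.1 (c_mem_zmultiples _ _ h1)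
  obtain ⟨t, ht⟩ := AddSubgroup.mem_zmultiples_iff.1 (c_mem_zmultiples _ _ h2)
  exact ⟨s, t, by rw [h, ← hs, ← ht, add_comm]⟩

/-- The generic rank at a prime `p` at which the local ring is a field. -/
theorem exists_rank_hom (p : Ideal A) [p.IsPrime]
    (hp : ∀ a ∈ p, algebraMap A (Localization.AtPrime p) a = 0) :
    ∃ φ : KZero.K0sub (FG (A := A)) →+ ℤ, φ (c (A := A) (A ⧸ p)) = 1 ∧
      ∀ J : Ideal A, ¬ J ≤ p → φ (c (A := A) (A ⧸ J)) = 0 := by
  have hbot : IsLocalRing.maximalIdeal (Localization.AtPrime p) = ⊥ := by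
    rw [← Localization.AtPrime.map_eq_maximalIdeal]
    exact (Ideal.map_eq_bot_iff_le_ker _).2 fun a ha => hp a ha
  letI : Field (Localization.AtPrime p) :=
    ((IsLocalRing.isField_iff_maximalIdeal_eq).2 hbot).toField
  obtain ⟨φ, hφ⟩ := K0Mod.exists_hom (FG (A := A))
    (fun M => (Module.finrank (Localization.AtPrime p) (Localization.AtPrime p ⊗[A] M) : ℤ))
    fun S hS h₁ h₂ h₃ => by
      haveI : Module.Finite A S.X₁ := h₁
      haveI : Module.Finite A S.X₂ := h₂
      haveI : Module.Finite A S.X₃ := h₃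
      haveI : Module.Flat A (Localization.AtPrime p) := IsLocalization.flat _ p.primeCompl
      have hex := (ShortComplex.ShortExact.moduleCat_exact_iff_function_exact _).1 hS.exact
      have hinj := (ModuleCat.mono_iff_injective _).1 hS.mono_f
      have hsur := (ModuleCat.epi_iff_surjective _).1 hS.epi_g
      let f := S.f.hom.baseChange (Localization.AtPrime p)
      let g := S.g.hom.baseChange (Localization.AtPrime p)
      have hf : Function.Injective f :=
        Module.Flat.lTensor_preserves_injective_linearMap S.f.hom hinj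
      have hg : Function.Surjective g := LinearMap.lTensor_surjective _ hsur
      have hfg : Function.Exact f g := lTensor_exact _ hex hsur
      have e1 := LinearMap.finrank_range_add_finrank_ker g
      rw [LinearMap.range_eq_top.2 hg, finrank_top, hfg.linearMap_ker_eq,
        LinearMap.finrank_range_of_inj hf] at e1
      push_cast [← e1]
      ring
  refine ⟨φ, ?_, fun J hJ => ?_⟩
  · rw [hφ _ (inferInstance : Module.Finite A (A ⧸ p))]
    let r : A ⧸ p →ₗ[A] Localization.AtPrime p :=
      Submodule.liftQ p (Algebra.linearMap A _) fun a ha => hp a ha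
    let e : Localization.AtPrime p ⊗[A] (A ⧸ p) →ₗ[Localization.AtPrime p] Localization.AtPrime p :=
      LinearMap.liftBaseChange (Localization.AtPrime p) r
    have he : ∀ x, e x ⊗ₜ[A] (1 : A ⧸ p) = x := by
      intro x
      induction x using TensorProduct.induction_on with
      | zero => simp
      | add x y hx hy => rw [map_add, TensorProduct.add_tmul, hx, hy]
      | tmul l q =>
        obtain ⟨a, rfl⟩ := Ideal.Quotient.mk_surjective q
        rw [LinearMap.liftBaseChange_tmul]
        show (l • algebraMap A _ a) ⊗ₜ[A] _ = _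
        rw [smul_eq_mul, mul_comm, ← Algebra.smul_def, TensorProduct.smul_tmul]
        congr 1
        show Ideal.Quotient.mk p (a * 1) = _
        rw [mul_one]
    have hinj : Function.Injective e := fun x y h => by rw [← he x, ← he y, h]
    have hsur : Function.Surjective e := fun l => ⟨l ⊗ₜ 1, by
      rw [LinearMap.liftBaseChange_tmul]
      show l • algebraMap A _ 1 = l
      simp⟩
    show (Module.finrank (Localization.AtPrime p) (Localization.AtPrime p ⊗[A] (A ⧸ p)) : ℤ) = _
    rw [(LinearEquiv.ofBijective e ⟨hinj, hsur⟩).finrank_eq, Module.finrank_self]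
    rfl
  · rw [hφ _ (inferInstance : Module.Finite A (A ⧸ J))]
    obtain ⟨a, haJ, hap⟩ := SetLike.not_le_iff_exists.1 hJ
    have hu : IsUnit (algebraMap A (Localization.AtPrime p) a) :=
      IsLocalization.map_units _ (⟨a, hap⟩ : p.primeCompl)
    obtain ⟨u, hu⟩ := hu
    haveI : Subsingleton (Localization.AtPrime p ⊗[A] (A ⧸ J)) := by
      refine subsingleton_of_forall_eq 0 fun x => ?_
      induction x using TensorProduct.induction_on with
      | zero => rfl
      | add x y hx hy => rw [hx, hy, add_zero]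
      | tmul l q =>
        have hl : l = a • ((↑u⁻¹ : Localization.AtPrime p) * l) := by
          rw [Algebra.smul_def, ← hu, Units.mul_inv_cancel_left]
        rw [hl, TensorProduct.smul_tmul]
        obtain ⟨q, rfl⟩ := Ideal.Quotient.mk_surjective q
        have : a • Ideal.Quotient.mk J q = 0 := by
          show Ideal.Quotient.mk J (a * q) = 0
          exact Ideal.Quotient.eq_zero_iff_mem.2 (J.mul_mem_right _ haJ)
        rw [this, TensorProduct.tmul_zero]
    show (Module.finrank (Localization.AtPrime p) (Localization.AtPrime p ⊗[A] (A ⧸ J)) : ℤ) = _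
    rw [Module.finrank_zero_of_subsingleton]
    rfl

end Generic

section Node

variable (k : Type u) [Field k]

abbrev Node : Type u := MvPolynomial (Fin 2) k ⧸ Ideal.span {(X 0 * X 1 : MvPolynomial (Fin 2) k)}

abbrev v (i : Fin 2) : Node k := Ideal.Quotient.mk _ (X i)

theorem v_mul : v k 0 * v k 1 = 0 := by
  show Ideal.Quotient.mk _ (X 0 * X 1) = 0
  exact Ideal.Quotient.eq_zero_iff_mem.2 (Ideal.mem_span_singleton_self _)

def axisPoly (i : Fin 2) : MvPolynomial (Fin 2) k →ₐ[k] Polynomial k :=
  MvPolynomial.aeval fun l => if l = i then 0 else Polynomial.X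

def toPoly (i : Fin 2) : Node k →ₐ[k] Polynomial k :=
  Ideal.Quotient.liftₐ _ (axisPoly k i) fun a ha => by
    obtain ⟨d, rfl⟩ := Ideal.mem_span_singleton'.1 ha
    rw [map_mul, map_mul]
    fin_cases i <;> simp [axisPoly]

theorem toPoly_v (i l : Fin 2) : toPoly k i (v k l) = if l = i then 0 else Polynomial.X := by
  show axisPoly k i (X l) = _
  simp [axisPoly]

def axisEquiv (i j : Fin 2) (hij : i ≠ j) : (Node k ⧸ Ideal.span {v k i}) ≃ₐ[k] Polynomial k :=
  AlgEquiv.ofAlgHom
    (Ideal.Quotient.liftₐ _ (toPoly k i) fun a ha => by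
      obtain ⟨d, rfl⟩ := Ideal.mem_span_singleton'.1 ha
      rw [map_mul, toPoly_v, if_pos rfl, mul_zero])
    (Polynomial.aeval (Ideal.Quotient.mk _ (v k j)))
    (by
      apply Polynomial.algHom_ext
      rw [AlgHom.comp_apply, Polynomial.aeval_X]
      show toPoly k i (v k j) = _
      rw [toPoly_v, if_neg hij.symm]
      rfl)
    (by
      apply Ideal.Quotient.algHom_ext
      apply Ideal.Quotient.algHom_ext
      apply MvPolynomial.algHom_ext
      intro l
      show Polynomial.aeval _ (toPoly k i (v k l)) = Ideal.Quotient.mk _ (v k l)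
      rw [toPoly_v]
      rcases eq_or_ne l i with rfl | h
      · rw [if_pos rfl, map_zero]
        exact (Ideal.Quotient.eq_zero_iff_mem.2 (Ideal.mem_span_singleton_self _)).symm
      · rw [if_neg h, Polynomial.aeval_X, show l = j by omega])

theorem axis_isDomain (i j : Fin 2) (hij : i ≠ j) : IsDomain (Node k ⧸ Ideal.span {v k i}) :=
  (axisEquiv k i j hij).toMulEquiv.isDomain

theorem axis_pid (i j : Fin 2) (hij : i ≠ j) :
    IsPrincipalIdealRing (Node k ⧸ Ideal.span {v k i}) :=
  IsPrincipalIdealRing.of_surjective (axisEquiv k i j hij).symm.toRingEquiv.toRingHom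
    (axisEquiv k i j hij).symm.surjective

theorem notMem (i j : Fin 2) (hij : i ≠ j) : v k j ∉ Ideal.span {v k i} := by
  intro h
  obtain ⟨d, hd⟩ := Ideal.mem_span_singleton'.1 h
  have := congrArg (toPoly k i) hd
  rw [map_mul, toPoly_v, toPoly_v, if_pos rfl, if_neg hij.symm, mul_zero] at this
  exact Polynomial.X_ne_zero this.symm

theorem main : Function.Bijective (fun p : ℤ × ℤ =>
    p.1 • c (A := Node k) (Node k ⧸ Ideal.span {v k 0}) +
      p.2 • c (A := Node k) (Node k ⧸ Ideal.span {v k 1})) := by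
  haveI := axis_isDomain k 0 1 (by decide)
  haveI := axis_isDomain k 1 0 (by decide)
  haveI := axis_pid k 0 1 (by decide)
  haveI := axis_pid k 1 0 (by decide)
  have hrank : ∀ i j : Fin 2, i ≠ j → ∃ φ : KZero.K0sub (FG (A := Node k)) →+ ℤ,
      φ (c (A := Node k) (Node k ⧸ Ideal.span {v k i})) = 1 ∧
      φ (c (A := Node k) (Node k ⧸ Ideal.span {v k j})) = 0 := by
    intro i j hij
    haveI := axis_isDomain k i j hij
    haveI : (Ideal.span {v k i}).IsPrime := (Ideal.Quotient.isDomain_iff_prime _).1 inferInstance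
    obtain ⟨φ, h1, h2⟩ := exists_rank_hom (Ideal.span {v k i}) fun a ha => by
      obtain ⟨d, rfl⟩ := Ideal.mem_span_singleton'.1 ha
      have h0 : v k i * v k j = 0 := by
        fin_cases i <;> fin_cases j <;>
          first | exact absurd rfl hij | exact v_mul k | exact (mul_comm _ _).trans (v_mul k)
      have hu : IsUnit (algebraMap (Node k) (Localization.AtPrime (Ideal.span {v k i})) (v k j)) :=
        IsLocalization.map_units _ (⟨v k j, notMem k i j hij⟩ : (Ideal.span {v k i}).primeCompl)
      have := congrArg (algebraMap (Node k) (Localization.AtPrime (Ideal.span {v k i}))) h0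
      rw [map_mul, map_zero] at this
      rw [map_mul, hu.mul_left_eq_zero.1 this, mul_zero]
    exact ⟨φ, h1, h2 _ fun h => notMem k i j hij (h (Ideal.mem_span_singleton_self _))⟩
  constructor
  · rintro ⟨a, b⟩ ⟨a', b'⟩ h
    obtain ⟨φ, h1, h2⟩ := hrank 0 1 (by decide)
    obtain ⟨ψ, g1, g2⟩ := hrank 1 0 (by decide)
    have e1 := congrArg φ h
    have e2 := congrArg ψ h
    simp only [map_add, map_zsmul, h1, h2, g1, g2, smul_eq_mul, mul_one, mul_zero, add_zero,
      zero_add] at e1 e2
    exact Prod.ext e1 e2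
  · intro z
    obtain ⟨y, rfl⟩ := QuotientAddGroup.mk_surjective z
    induction y using FreeAbelianGroup.induction_on with
    | zero => exact ⟨0, by simp⟩
    | neg X hX =>
      obtain ⟨⟨a, b⟩, h⟩ := hX
      refine ⟨(-a, -b), ?_⟩
      simp only [neg_smul, ← neg_add] at h ⊢
      rw [h]; rfl
    | add x y hx hy =>
      obtain ⟨⟨a, b⟩, hx⟩ := hx
      obtain ⟨⟨a', b'⟩, hy⟩ := hy
      refine ⟨(a + a', b + b'), ?_⟩
      simp only [add_smul] at hx hy ⊢
      rw [QuotientAddGroup.mk_add, ← hx, ← hy]
      abel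
    | of M =>
      obtain ⟨M, hM⟩ := M
      haveI : Module.Finite (Node k) M := hM
      obtain ⟨s, t, h⟩ := c_mem_sup (v k 0) (v k 1) (v_mul k) M
      refine ⟨(s, t), ?_⟩
      show s • _ + t • _ = _
      rw [← h]
      exact dif_pos hM

end Node

end

/-- Let k be a field and A = k[x, y]/(xy) (polynomial ring in two variables x = X_0, y = X_1 modulo xy).
In the Grothendieck group of finitely generated A-modules (free abelian group on them modulo short
exact sequences), the classes of A/(x) ≅ k[y] and A/(y) ≅ k[x] form a basis: the homomorphism ℤ × ℤ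
⟶ K₀ sending (a, b) to a·[A/(x)] + b·[A/(y)] is bijective. -/
theorem result (k : Type u) [Field k] :
    Function.Bijective (fun p : ℤ × ℤ =>
      p.1 • KZero.clSub (fun M : ModuleCat.{u} (MvPolynomial (Fin 2) k ⧸ Ideal.span {(MvPolynomial.X 0 * MvPolynomial.X 1 : MvPolynomial (Fin 2) k)}) => Module.Finite (MvPolynomial (Fin 2) k ⧸ Ideal.span {(MvPolynomial.X 0 * MvPolynomial.X 1 : MvPolynomial (Fin 2) k)}) M)
          (ModuleCat.of (MvPolynomial (Fin 2) k ⧸ Ideal.span {(MvPolynomial.X 0 * MvPolynomial.X 1 : MvPolynomial (Fin 2) k)}) ((MvPolynomial (Fin 2) k ⧸ Ideal.span {(MvPolynomial.X 0 * MvPolynomial.X 1 : MvPolynomial (Fin 2) k)}) ⧸ Ideal.span {Ideal.Quotient.mk (Ideal.span {(MvPolynomial.X 0 * MvPolynomial.X 1 : MvPolynomial (Fin 2) k)}) (MvPolynomial.X 0)})) +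
        p.2 • KZero.clSub (fun M : ModuleCat.{u} (MvPolynomial (Fin 2) k ⧸ Ideal.span {(MvPolynomial.X 0 * MvPolynomial.X 1 : MvPolynomial (Fin 2) k)}) => Module.Finite (MvPolynomial (Fin 2) k ⧸ Ideal.span {(MvPolynomial.X 0 * MvPolynomial.X 1 : MvPolynomial (Fin 2) k)}) M)
          (ModuleCat.of (MvPolynomial (Fin 2) k ⧸ Ideal.span {(MvPolynomial.X 0 * MvPolynomial.X 1 : MvPolynomial (Fin 2) k)}) ((MvPolynomial (Fin 2) k ⧸ Ideal.span {(MvPolynomial.X 0 * MvPolynomial.X 1 : MvPolynomial (Fin 2) k)}) ⧸ Ideal.span {Ideal.Quotient.mk (Ideal.span {(MvPolynomial.X 0 * MvPolynomial.X 1 : MvPolynomial (Fin 2) k)}) (MvPolynomial.X 1)}))) := by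
  exact main k

end Groth.Agent.S16242
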