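import Groth.Statements.S16243
import Groth.Agent.TorNode.Basic
import Groth.Agent.S14414

set_option autoImplicit false
set_option maxHeartbeats 1000000
universe u
open CategoryTheory
open CAlg

namespace Groth.Agent.S16243

/-- Let k be a field, A = k[x, y]/(xy) (x = X_0, y = X_1) and κ = A/(x, y) the residue field at the
origin, viewed as an A-module. Then for every i ≥ 1 the A-module Tor_i^A(κ, κ) has length 2 (it is a
two-dimensional κ-vector space; Tor_0 is κ), and κ admits no finite projective resolution over A: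
for no n is its projective dimension less than n. -/
theorem result (k : Type u) [Field k] :
    (∀ i : ℕ, 1 ≤ i →
      Module.length (MvPolynomial (Fin 2) k ⧸ Ideal.span {(MvPolynomial.X 0 * MvPolynomial.X 1 : MvPolynomial (Fin 2) k)}) ((((Tor (ModuleCat.{u} (MvPolynomial (Fin 2) k ⧸ Ideal.span {(MvPolynomial.X 0 * MvPolynomial.X 1 : MvPolynomial (Fin 2) k)})) i).obj (ModuleCat.of (MvPolynomial (Fin 2) k ⧸ Ideal.span {(MvPolynomial.X 0 * MvPolynomial.X 1 : MvPolynomial (Fin 2) k)}) ((MvPolynomial (Fin 2) k ⧸ Ideal.span {(MvPolynomial.X 0 * MvPolynomial.X 1 : MvPolynomial (Fin 2) k)}) ⧸ Ideal.span {Ideal.Quotient.mk (Ideal.span {(MvPolynomial.X 0 * MvPolynomial.X 1 : MvPolynomial (Fin 2) k)}) (MvPolynomial.X 0), Ideal.Quotient.mk (Ideal.span {(MvPolynomial.X 0 * MvPolynomial.X 1 : MvPolynomial (Fin 2) k)}) (MvPolynomial.X 1)}))).obj (ModuleCat.of (MvPolynomial (Fin 2) k ⧸ Ideal.span {(MvPolynomial.X 0 * MvPolynomial.X 1 : MvPolynomial (Fin 2) k)}) ((MvPolynomial (Fin 2) k ⧸ Ideal.span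 {(MvPolynomial.X 0 * MvPolynomial.X 1 : MvPolynomial (Fin 2) k)}) ⧸ Ideal.span {Ideal.Quotient.mk (Ideal.span {(MvPolynomial.X 0 * MvPolynomial.X 1 : MvPolynomial (Fin 2) k)}) (MvPolynomial.X 0), Ideal.Quotient.mk (Ideal.span {(MvPolynomial.X 0 * MvPolynomial.X 1 : MvPolynomial (Fin 2) k)}) (MvPolynomial.X 1)}))) : Type u) = 2) ∧
    ∀ n : ℕ, ¬ HasProjectiveDimensionLT (ModuleCat.of (MvPolynomial (Fin 2) k ⧸ Ideal.span {(MvPolynomial.X 0 * MvPolynomial.X 1 : MvPolynomial (Fin 2) k)}) ((MvPolynomial (Fin 2) k ⧸ Ideal.span {(MvPolynomial.X 0 * MvPolynomial.X 1 : MvPolynomial (Fin 2) k)}) ⧸ Ideal.span {Ideal.Quotient.mk (Ideal.span {(MvPolynomial.X 0 * MvPolynomial.X 1 : MvPolynomial (Fin 2) k)}) (MvPolynomial.X 0), Ideal.Quotient.mk (Ideal.span {(MvPolynomial.X 0 * MvPolynomial.X 1 : MvPolynomial (Fin 2) k)}) (MvPolynomial.X 1)})) n := by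
  classical
  set I : Ideal (MvPolynomial (Fin 2) k) := Ideal.span {(MvPolynomial.X 0 * MvPolynomial.X 1 : MvPolynomial (Fin 2) k)} with hI
  have hp0 : Prime (MvPolynomial.X 0 : MvPolynomial (Fin 2) k) := MvPolynomial.X_prime
  have hp1 : Prime (MvPolynomial.X 1 : MvPolynomial (Fin 2) k) := MvPolynomial.X_prime
  have h01 : ¬ (MvPolynomial.X 0 : MvPolynomial (Fin 2) k) ∣ MvPolynomial.X 1 := by
    simp [MvPolynomial.X_dvd_X]
  have h10 : ¬ (MvPolynomial.X 1 : MvPolynomial (Fin 2) k) ∣ MvPolynomial.X 0 := by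
    simp [MvPolynomial.X_dvd_X]
  let a := Ideal.Quotient.mk I (MvPolynomial.X 0)
  let b := Ideal.Quotient.mk I (MvPolynomial.X 1)
  have hpair : TorNode.Pair a b := by
    refine ⟨?_, ?_, ?_, ?_⟩
    · show Ideal.Quotient.mk I _ * Ideal.Quotient.mk I _ = 0
      rw [← map_mul, Ideal.Quotient.eq_zero_iff_mem, hI]
      exact Ideal.mem_span_singleton_self _
    · intro u hu
      obtain ⟨u, rfl⟩ := Ideal.Quotient.mk_surjective u
      rw [← map_mul, Ideal.Quotient.eq_zero_iff_mem, hI, Ideal.mem_span_singleton,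
        mul_dvd_mul_iff_left (MvPolynomial.X_ne_zero _)] at hu
      obtain ⟨w, rfl⟩ := hu
      exact ⟨Ideal.Quotient.mk I w, (map_mul _ _ _).symm⟩
    · intro u hu
      obtain ⟨u, rfl⟩ := Ideal.Quotient.mk_surjective u
      rw [← map_mul, Ideal.Quotient.eq_zero_iff_mem, hI, Ideal.mem_span_singleton,
        mul_comm (MvPolynomial.X 0 : MvPolynomial (Fin 2) k), mul_dvd_mul_iff_left (MvPolynomial.X_ne_zero _)] at hu
      obtain ⟨w, rfl⟩ := hu
      exact ⟨Ideal.Quotient.mk I w, (map_mul _ _ _).symm⟩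
    · intro u v huv
      obtain ⟨u, rfl⟩ := Ideal.Quotient.mk_surjective u
      obtain ⟨v, rfl⟩ := Ideal.Quotient.mk_surjective v
      rw [← map_mul, ← map_mul, ← map_add, Ideal.Quotient.eq_zero_iff_mem, hI, Ideal.mem_span_singleton] at huv
      rw [← map_mul, Ideal.Quotient.eq_zero_iff_mem, hI, Ideal.mem_span_singleton]
      have h : (MvPolynomial.X 0 : MvPolynomial (Fin 2) k) ∣ MvPolynomial.X 1 * v :=
        (dvd_add_right (dvd_mul_right _ u)).1 ((dvd_mul_right _ _).trans huv)
      obtain ⟨v', rfl⟩ := (hp0.dvd_or_dvd h).resolve_left h01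
      exact ⟨v', by ring⟩
  have hm : (Ideal.span {a, b}).IsMaximal := by
    let φ : MvPolynomial (Fin 2) k ⧸ I →+* k := Ideal.Quotient.lift I MvPolynomial.constantCoeff (fun p hp => by
      rw [hI, Ideal.mem_span_singleton] at hp
      obtain ⟨c, rfl⟩ := hp
      simp)
    have hker : RingHom.ker φ = Ideal.span {a, b} := by
      refine le_antisymm ?_ ?_
      · intro u hu
        obtain ⟨p, rfl⟩ := Ideal.Quotient.mk_surjective u
        have key : ∀ p : MvPolynomial (Fin 2) k,
            Ideal.Quotient.mk I (p - MvPolynomial.C (MvPolynomial.constantCoeff p)) ∈ Ideal.span {a, b} := by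
          intro p
          induction p using MvPolynomial.induction_on with
          | C c => simp
          | add p q hp hq =>
            convert add_mem hp hq using 1
            simp only [map_add, map_sub]
            ring
          | mul_X p i _ =>
            simp only [map_mul, MvPolynomial.constantCoeff_X, mul_zero, map_zero, sub_zero]
            refine Ideal.mul_mem_left _ _ (Ideal.subset_span ?_)
            fin_cases i <;> simp [a, b]
        have hu' : MvPolynomial.constantCoeff p = 0 := hu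
        have := key p
        rw [hu', map_zero, sub_zero] at this
        exact this
      · rw [Ideal.span_le]
        rintro x (rfl | rfl)
        · exact MvPolynomial.constantCoeff_X k 0
        · exact MvPolynomial.constantCoeff_X k 1
    rw [← hker]
    exact RingHom.ker_isMaximal_of_surjective φ fun c =>
      ⟨Ideal.Quotient.mk I (MvPolynomial.C c), MvPolynomial.constantCoeff_C _ c⟩
  refine ⟨fun i hi => ?_, fun n hn => ?_⟩
  · obtain ⟨j, rfl⟩ := Nat.exists_eq_add_of_le' hi
    exact TorNode.length_tor hpair hm j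
  · set M := ModuleCat.of (MvPolynomial (Fin 2) k ⧸ I) ((MvPolynomial (Fin 2) k ⧸ I) ⧸ Ideal.span {a, b})
    haveI : HasProjectiveDimensionLE M n := hasProjectiveDimensionLT_of_ge M n (n + 1) (Nat.le_succ n)
    have hz := S14414.result (MvPolynomial (Fin 2) k ⧸ I) M M n (n + 1) (Nat.lt_succ_self n)
    have h2 := TorNode.length_tor hpair hm n
    rw [ModuleCat.isZero_iff_subsingleton] at hz
    haveI := hz
    rw [Module.length_eq_zero] at h2
    exact absurd h2 (by norm_num)

end Groth.Agent.S16243
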