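import Groth.Statements.S16244
import Mathlib

set_option autoImplicit false
universe u
open Curves

namespace Groth.Agent.S16244


section helpers
open WeierstrassCurve

variable {k : Type u} [Field k]

lemma mem_stab_iff (h2 : (2 : k) ≠ 0) (h3 : (3 : k) ≠ 0) (W : WeierstrassCurve k) [W.IsShortNF]
    (C : VariableChange k) :
    C ∈ MulAction.stabilizer (VariableChange k) W ↔
      (C.r = 0 ∧ C.s = 0 ∧ C.t = 0 ∧ (C.u : k) ^ 4 * W.a₄ = W.a₄ ∧
        (C.u : k) ^ 6 * W.a₆ = W.a₆) := by
  have hu : (C.u : k) ≠ 0 := C.u.ne_zero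
  rw [MulAction.mem_stabilizer_iff]
  constructor
  · intro h
    have h1 : (C • W).a₁ = W.a₁ := by rw [h]
    have hs : C.s = 0 := by
      rw [variableChange_a₁, W.a₁_of_isShortNF, zero_add] at h1
      simpa [h2] using h1
    have hb : (C • W).a₂ = W.a₂ := by rw [h]
    have hr : C.r = 0 := by
      rw [variableChange_a₂, W.a₁_of_isShortNF, W.a₂_of_isShortNF, hs] at hb
      simpa [h3] using hb
    have hc : (C • W).a₃ = W.a₃ := by rw [h]
    have ht : C.t = 0 := by
      rw [variableChange_a₃, W.a₁_of_isShortNF, W.a₃_of_isShortNF, hr] at hc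
      simpa [h2] using hc
    have hd : (C • W).a₄ = W.a₄ := by rw [h]
    rw [variableChange_a₄, hr, hs, ht, Units.val_inv_eq_inv_val] at hd
    simp at hd
    have he : (C • W).a₆ = W.a₆ := by rw [h]
    rw [variableChange_a₆, hr, ht, Units.val_inv_eq_inv_val] at he
    simp at he
    refine ⟨hr, hs, ht, ?_, ?_⟩
    · field_simp at hd
      linear_combination -hd
    · field_simp at he
      linear_combination -he
  · rintro ⟨hr, hs, ht, h4, h6⟩
    ext
    · simp [variableChange_a₁, W.a₁_of_isShortNF, hs]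
    · simp [variableChange_a₂, W.a₁_of_isShortNF, W.a₂_of_isShortNF, hr, hs]
    · simp [variableChange_a₃, W.a₁_of_isShortNF, W.a₃_of_isShortNF, hr, ht]
    · rw [variableChange_a₄, hr, hs, ht, Units.val_inv_eq_inv_val]
      field_simp
      linear_combination -h4
    · rw [variableChange_a₆, hr, ht, Units.val_inv_eq_inv_val]
      field_simp
      linear_combination -h6

/-- `C ↦ u` on the stabiliser. -/
def toU (W : WeierstrassCurve k) : MulAction.stabilizer (VariableChange k) W →* kˣ where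
  toFun C := C.1.u
  map_one' := rfl
  map_mul' _ _ := rfl

lemma toU_injective (h2 : (2 : k) ≠ 0) (h3 : (3 : k) ≠ 0) (W : WeierstrassCurve k)
    [W.IsShortNF] : Function.Injective (toU W) := by
  intro C D h
  obtain ⟨hr, hs, ht, -, -⟩ := (mem_stab_iff h2 h3 W C.1).1 C.2
  obtain ⟨hr', hs', ht', -, -⟩ := (mem_stab_iff h2 h3 W D.1).1 D.2
  exact Subtype.ext (VariableChange.ext h (hr.trans hr'.symm) (hs.trans hs'.symm)
    (ht.trans ht'.symm))

lemma stab_case [IsAlgClosed k] (h2 : (2 : k) ≠ 0) (h3 : (3 : k) ≠ 0) (W : WeierstrassCurve k)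
    [W.IsShortNF] (m : ℕ) (hm : (m : k) ≠ 0)
    (hiff : ∀ u : k, (u ^ 4 * W.a₄ = W.a₄ ∧ u ^ 6 * W.a₆ = W.a₆) ↔ u ^ m = 1) :
    IsCyclic (MulAction.stabilizer (VariableChange k) W) ∧
      Nat.card (MulAction.stabilizer (VariableChange k) W) = m := by
  haveI : NeZero (m : k) := ⟨hm⟩
  haveI : NeZero m := ⟨fun h => hm (by rw [h, Nat.cast_zero])⟩
  have hr : (toU W).range = rootsOfUnity m k := by
    ext u
    rw [MonoidHom.mem_range, mem_rootsOfUnity, Units.ext_iff, Units.val_pow_eq_pow_val,
      Units.val_one]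
    constructor
    · rintro ⟨C, rfl⟩
      obtain ⟨-, -, -, h4, h6⟩ := (mem_stab_iff h2 h3 W C.1).1 C.2
      exact (hiff _).1 ⟨h4, h6⟩
    · intro hu
      exact ⟨⟨⟨u, 0, 0, 0⟩, (mem_stab_iff h2 h3 W _).2
        ⟨rfl, rfl, rfl, ((hiff _).2 hu).1, ((hiff _).2 hu).2⟩⟩, rfl⟩
  let e : MulAction.stabilizer (VariableChange k) W ≃* rootsOfUnity m k :=
    (MonoidHom.ofInjective (toU_injective h2 h3 W)).trans (MulEquiv.subgroupCongr hr)
  haveI : HasEnoughRootsOfUnity k m := inferInstance
  refine ⟨e.isCyclic.2 inferInstance, ?_⟩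
  rw [Nat.card_congr e.toEquiv]
  exact HasEnoughRootsOfUnity.natCard_rootsOfUnity k m

end helpers

/-- Let k be an algebraically closed field in which 2 and 3 are nonzero, and W a short Weierstrass
equation y² = x³ + a₄x + a₆ over k with nonzero discriminant. The admissible changes of variables
(u, r, s, t) that fix W form a cyclic group, of order 6 when a₄ = 0, of order 4 when a₆ = 0, and of
order 2 when a₄ and a₆ are both nonzero. (The published statement says the automorphism group of the
elliptic curve is cyclic of order 2, 4 or 6; the automorphisms are rendered here as the changes of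
variables preserving the equation, and the case distinction is the one the computation gives.) -/
theorem result
    (k : Type u) [Field k] [IsAlgClosed k] (h2 : (2 : k) ≠ 0) (h3 : (3 : k) ≠ 0)
    (W : WeierstrassCurve k) [W.IsShortNF] (hΔ : W.Δ ≠ 0) :
    IsCyclic ↥(MulAction.stabilizer (WeierstrassCurve.VariableChange k) W) ∧
      (W.a₄ = 0 → Nat.card ↥(MulAction.stabilizer (WeierstrassCurve.VariableChange k) W) = 6) ∧
      (W.a₆ = 0 → Nat.card ↥(MulAction.stabilizer (WeierstrassCurve.VariableChange k) W) = 4) ∧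
      (W.a₄ ≠ 0 → W.a₆ ≠ 0 → Nat.card ↥(MulAction.stabilizer (WeierstrassCurve.VariableChange k) W) = 2) := by
  have h16 := hΔ
  rw [W.Δ_of_isShortNF] at h16
  have h6 : ((6 : ℕ) : k) ≠ 0 := by
    rw [show ((6 : ℕ) : k) = 2 * 3 by norm_num]; exact mul_ne_zero h2 h3
  have h4 : ((4 : ℕ) : k) ≠ 0 := by
    rw [show ((4 : ℕ) : k) = 2 * 2 by norm_num]; exact mul_ne_zero h2 h2
  have h2' : ((2 : ℕ) : k) ≠ 0 := by simpa using h2
  by_cases ha : W.a₄ = 0
  · have hb : W.a₆ ≠ 0 := fun hb => h16 (by rw [ha, hb]; ring)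
    obtain ⟨hc, hn⟩ := stab_case h2 h3 W 6 h6 (fun u => by simp [ha, hb])
    exact ⟨hc, fun _ => hn, fun h => absurd h hb, fun h => absurd ha h⟩
  by_cases hb : W.a₆ = 0
  · obtain ⟨hc, hn⟩ := stab_case h2 h3 W 4 h4 (fun u => by simp [ha, hb])
    exact ⟨hc, fun h => absurd h ha, fun _ => hn, fun _ h => absurd hb h⟩
  · obtain ⟨hc, hn⟩ := stab_case h2 h3 W 2 h2' (fun u => by
      constructor
      · rintro ⟨p, q⟩
        have p' : u ^ 4 = 1 := mul_right_cancel₀ ha (p.trans (one_mul _).symm)
        have q' : u ^ 6 = 1 := mul_right_cancel₀ hb (q.trans (one_mul _).symm)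
        linear_combination q' - u ^ 2 * p'
      · intro p
        constructor
        · linear_combination W.a₄ * (u ^ 2 + 1) * p
        · linear_combination W.a₆ * (u ^ 4 + u ^ 2 + 1) * p)
    exact ⟨hc, fun h => absurd h ha, fun h => absurd h hb, fun _ _ => hn⟩

end Groth.Agent.S16244
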