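import Groth.Statements.S16245
import Groth.Agent.ClosedRep.FinLocFree

set_option autoImplicit false
universe u
open CategoryTheory CategoryTheory.Limits AlgebraicGeometry
open SDiv

set_option backward.isDefEq.respectTransparency false
set_option backward.isDefEq.respectTransparency.types false

namespace Groth.Agent.S16245

/-- Let f : X → S be a morphism of schemes, D ⊆ X an effective Cartier divisor with ideal sheaf 𝓘, and
D' ⊆ X a closed subscheme with ideal sheaf 𝓘' such that D' → S is finite, flat and locally of finite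
presentation (finite locally free). Then there is a closed subscheme Z ⊆ S such that a morphism g :
T → S factors through Z exactly when, on X ×_S T, the inverse image ideal of 𝓘 is contained in the
inverse image ideal of 𝓘', that is, the pull-back of D' is a closed subscheme of the pull-back of D.
This universal property determines Z, and compatibility of Z with base change follows from it. (In
the source X is a family of elliptic curves and D, D' are relative effective Cartier divisors, D'
then being finite locally free over S; the argument uses only the hypotheses stated here.) -/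
theorem result
    {X S : Scheme.{u}} (f : X ⟶ S) (𝓘 𝓘' : X.IdealSheafData) (hD : BlowUp.IsEffCartierIdeal 𝓘)
    [IsFinite (𝓘'.subschemeι ≫ f)] [Flat (𝓘'.subschemeι ≫ f)]
    [LocallyOfFinitePresentation (𝓘'.subschemeι ≫ f)] :
    ∃ 𝓩 : S.IdealSheafData, ∀ (T : Scheme.{u}) (g : T ⟶ S),
      (∃ t : T ⟶ 𝓩.subscheme, t ≫ 𝓩.subschemeι = g) ↔
        𝓘.comap (pullback.fst f g) ≤ 𝓘'.comap (pullback.fst f g) := by
  obtain ⟨J, hJ⟩ := Groth.Agent.ClosedRep.exists_reps_zeroOn (𝓘'.subschemeι ≫ f) (𝟙 S)
    (𝓘.comap (pullback.fst (𝓘'.subschemeι ≫ f) (𝟙 S) ≫ 𝓘'.subschemeι))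
    (Groth.Agent.ClosedRep.isLocFree_of_finLocFree (𝓘'.subschemeι ≫ f))
  refine ⟨J, fun T g => ?_⟩
  rw [hJ.factors_iff, Groth.Agent.ClosedRep.zeroOn_iff _ _ _ g g (Category.comp_id g),
    ← Scheme.IdealSheafData.comap_comp]
  set π := pullback.fst f g
  have h2 : 𝓘'.comap π = (pullback.fst π 𝓘'.subschemeι).ker := by
    rw [Scheme.IdealSheafData.ker_fst_of_isClosedImmersion, Scheme.IdealSheafData.ker_subschemeι]
  rw [h2, ← Groth.Agent.ClosedRep.comap_eq_bot_iff, ← Scheme.IdealSheafData.comap_comp,
    pullback.condition]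
  let e : pullback π 𝓘'.subschemeι ≅ pullback (𝓘'.subschemeι ≫ f) g :=
    pullbackSymmetry _ _ ≪≫ pullbackRightPullbackFstIso f g 𝓘'.subschemeι
  have he : e.hom ≫ pullback.fst (𝓘'.subschemeι ≫ f) g = pullback.snd π 𝓘'.subschemeι := by
    simp [e, π]
  rw [← he, Category.assoc]
  have hpm : Groth.Agent.ClosedRep.pm (𝓘'.subschemeι ≫ f) g (Category.comp_id g) ≫
      pullback.fst (𝓘'.subschemeι ≫ f) (𝟙 S) = pullback.fst (𝓘'.subschemeι ≫ f) g :=
    pullback.lift_fst _ _ _
  rw [reassoc_of% hpm]
  constructor
  · intro h
    rw [Scheme.IdealSheafData.comap_comp, h, Groth.Agent.ClosedRep.bot_comap]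
  · intro h
    have := congrArg (fun I : Scheme.IdealSheafData _ => I.comap e.inv) h
    simp only [← Scheme.IdealSheafData.comap_comp, Iso.inv_hom_id_assoc,
      Groth.Agent.ClosedRep.bot_comap] at this
    exact this

end Groth.Agent.S16245
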