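import Groth.Statements.S16251
import Groth.Agent.EtCons.NoethCons
import Groth.Agent.ARLib.Pow
-- import your own Groth.Agent.* helpers here

set_option autoImplicit false
open CategoryTheory CategoryTheory.Limits AlgebraicGeometry Opposite
universe u
open EtPBC

namespace Groth.Agent.S16251

/-- Let ℓ be a prime, X a locally Noetherian scheme and F = (F_n) an ℓ-adic projective system of abelian
sheaves on the small étale site of X, indexed from 0 (so ℓ^(n+1) F_n = 0 and, for n ≤ m, the
transition map F_m ⟶ F_n is a quotient map modulo ℓ^(n+1)). If the first member F_0 is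
constructible, then every member F_n is constructible. (The converse is trivial. The published
statement indexes the system from 1, with ℓ^n killing the n-th member; the statement here indexes it
from 0.) -/
theorem result (ℓ : ℕ) [Fact ℓ.Prime]
    (X : Scheme.{u}) [IsLocallyNoetherian X]
    (F : ARSys.PS (EtCoh.Ab X)) (hF : ARSys.IsAdic (Ideal.span {(ℓ : ℤ)}) F)
    (h0 : EtPBC.IsConstructible (F.obj (op 0))) (n : ℕ) :
    EtPBC.IsConstructible (F.obj (op n)) := by
  induction n with
  | zero => exact h0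
  | succ n ih =>
    let J : Ideal ℤ := Ideal.span {(ℓ : ℤ)}
    let a : ℤ := (ℓ : ℤ) ^ (n + 1)
    have hq := hF.2
    have ha : a ∈ J ^ (n + 1) := Ideal.pow_mem_pow (Ideal.mem_span_singleton_self _) _
    let t0 := ARSys.tr F (Nat.zero_le (n + 1))
    let p := ARSys.tr F (Nat.le_succ n)
    haveI : Epi t0 := ARLib.quot_epi (hq 0 (n + 1) _)
    haveI : Epi p := ARLib.quot_epi (hq n (n + 1) _)
    obtain ⟨ψ, hψ, -⟩ := (hq 0 (n + 1) (Nat.zero_le _)).2 _ (a • 𝟙 (F.obj (op (n + 1)))) (fun b hb => by
      rw [smul_smul]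
      refine hF.1 (n + 1) _ ?_
      have : b * a ∈ J ^ ((0 + 1) + (n + 1)) := by rw [pow_add]; exact Ideal.mul_mem_mul hb ha
      rwa [show 0 + 1 + (n + 1) = n + 1 + 1 by omega] at this)
    have hψ' : t0 ≫ ψ = a • 𝟙 (F.obj (op (n + 1))) := hψ
    have hw : ψ ≫ p = 0 := by
      rw [← cancel_epi t0, reassoc_of% hψ', comp_zero, Linear.smul_comp, Category.id_comp]
      have := hF.1 n a ha
      rw [show p = p ≫ 𝟙 _ from (Category.comp_id _).symm, ← Linear.comp_smul, this, comp_zero]
    let S := ShortComplex.mk ψ p hw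
    have hk : ∀ {Y : EtCoh.Ab X} (φ : F.obj (op (n + 1)) ⟶ Y), ψ ≫ φ = 0 → ARSys.HomKilledBy (J ^ (n + 1)) φ := by
      intro Y φ hφ b hb
      obtain ⟨c, rfl⟩ : a ∣ b := by
        rw [Ideal.span_singleton_pow, Ideal.mem_span_singleton] at hb; exact hb
      have : a • φ = 0 := by
        rw [← Category.id_comp φ, ← Linear.smul_comp, ← hψ', Category.assoc, hφ, comp_zero]
      rw [mul_comm, mul_smul, this, smul_zero]
    have hS : S.Exact := S.exact_of_g_is_cokernel
      (CokernelCofork.IsColimit.ofπ _ _ (fun φ hφ => ((hq n (n + 1) _).2 _ φ (hk φ hφ)).choose)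
        (fun φ hφ => ((hq n (n + 1) _).2 _ φ (hk φ hφ)).choose_spec.1)
        (fun φ hφ m hm => ((hq n (n + 1) _).2 _ φ (hk φ hφ)).choose_spec.2 m hm))
    haveI := S.exact_iff_epi_kernel_lift.1 hS
    exact EtCons.isConstructible_middle (ShortComplex.mk (kernel.ι p) p (kernel.condition p))
      { exact := ShortComplex.exact_of_f_is_kernel _ (kernelIsKernel p) }
      (EtCons.isConstructible_quotient (kernel.lift S.g S.f S.zero) h0) ih

end Groth.Agent.S16251
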