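import Groth.Statements.S16254
import Mathlib

set_option autoImplicit false
universe u
open scoped BigOperators
open LefPen

namespace Groth.Agent.S16254

/-- Let A be a commutative ring and m_1, …, m_s ∈ A^(N+1) linearly independent vectors whose span M has
projective (that is, locally free) quotient A^(N+1)/M. Write a_0, …, a_N for the coordinate
functions, so that restricting linear forms to M and expressing them in the basis dual to the m_i
gives the A-algebra map A[a_0, …, a_N] ⟶ A[y_1, …, y_s], a_j ↦ Σ_i (m_i)_j y_i (the map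
Sym((A^(N+1))^∨) ⟶ Sym(M^∨)). Its kernel is the ideal generated by the (s+1) × (s+1) minors of the
(s+1) × (N+1) matrix whose first s rows are the coordinate rows of m_1, …, m_s and whose last row is
(a_0, …, a_N). The minors are indexed here by all maps c from Fin (s+1) to Fin (N+1) choosing the
columns (non-injective choices give zero). -/
theorem result
    (A : Type u) [CommRing A] (N s : ℕ) (m : Fin s → (Fin (N + 1) → A))
    (hli : LinearIndependent A m)
    (hproj : Module.Projective A ((Fin (N + 1) → A) ⧸ Submodule.span A (Set.range m))) :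
    RingHom.ker (MvPolynomial.aeval (R := A) (S₁ := MvPolynomial (Fin s) A)
        (fun j : Fin (N + 1) => ∑ i : Fin s, MvPolynomial.C (m i j) * MvPolynomial.X i)) =
      Ideal.span (Set.range fun c : Fin (s + 1) → Fin (N + 1) =>
        (Matrix.of fun (i : Fin (s + 1)) (j : Fin (s + 1)) =>
          (Fin.snoc (α := fun _ => MvPolynomial (Fin (N + 1)) A)
            (fun i' : Fin s => MvPolynomial.C (m i' (c j))) (MvPolynomial.X (c j)) i)).det) := by
  classical
  set ψ := MvPolynomial.aeval (R := A) (S₁ := MvPolynomial (Fin s) A)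
    (fun j : Fin (N + 1) => ∑ i : Fin s, MvPolynomial.C (m i j) * MvPolynomial.X i) with hψ
  let M : (Fin (s + 1) → Fin (N + 1)) → Matrix (Fin (s + 1)) (Fin (s + 1)) (MvPolynomial (Fin (N + 1)) A) :=
    fun c => Matrix.of fun (i : Fin (s + 1)) (j : Fin (s + 1)) =>
      (Fin.snoc (α := fun _ => MvPolynomial (Fin (N + 1)) A)
        (fun i' : Fin s => MvPolynomial.C (m i' (c j))) (MvPolynomial.X (c j)) i)
  show RingHom.ker ψ = Ideal.span (Set.range fun c => (M c).det)
  set I := Ideal.span (Set.range fun c => (M c).det) with hI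
  have hMlast : ∀ c j, M c (Fin.last s) j = MvPolynomial.X (c j) := fun c j => by simp [M]
  have hMcast : ∀ c (i : Fin s) j, M c i.castSucc j = MvPolynomial.C (m i (c j)) := fun c i j => by simp [M]
  have hψX : ∀ l, ψ (MvPolynomial.X l) = ∑ i : Fin s, MvPolynomial.C (m i l) * MvPolynomial.X i := fun l => by
    simp [hψ]
  have hψC : ∀ a, ψ (MvPolynomial.C a) = MvPolynomial.C a := fun a => by simp [hψ]
  apply le_antisymm
  swap
  · rw [hI, Ideal.span_le]
    rintro _ ⟨c, rfl⟩
    show ψ (M c).det = 0
    rw [AlgHom.map_det]
    set B := ψ.mapMatrix (M c) with hB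
    let w : Fin (s + 1) → MvPolynomial (Fin s) A :=
      Fin.snoc (α := fun _ => MvPolynomial (Fin s) A) MvPolynomial.X 0
    have hrow : B (Fin.last s) = ∑ k, w k • B k := by
      funext j
      rw [Finset.sum_apply, Fin.sum_univ_castSucc]
      simp [w, hB, hMlast, hMcast, hψX, hψC, mul_comm]
    have h := Matrix.det_updateRow_sum B (Fin.last s) w
    rw [← hrow, Matrix.updateRow_eq_self] at h
    rw [h]
    simp [w]
  -- a retraction
  obtain ⟨sec, hsec⟩ := Module.projective_lifting_property
    (Submodule.mkQ (Submodule.span A (Set.range m))) LinearMap.id (Submodule.mkQ_surjective _)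
  let r₀ : (Fin (N + 1) → A) →ₗ[A] ↥(Submodule.span A (Set.range m)) :=
    (LinearMap.id - sec.comp (Submodule.mkQ _)).codRestrict _ fun v => by
      rw [← Submodule.Quotient.mk_eq_zero]
      have := LinearMap.congr_fun hsec (Submodule.mkQ (Submodule.span A (Set.range m)) v)
      simp only [LinearMap.comp_apply, LinearMap.id_apply, Submodule.mkQ_apply] at this
      simp [Submodule.Quotient.mk_sub, this]
  have hr₀ : ∀ i, r₀ (m i) = Module.Basis.span hli i := fun i => by
    apply Subtype.ext
    have h0 : Submodule.mkQ (Submodule.span A (Set.range m)) (m i) = 0 :=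
      (Submodule.Quotient.mk_eq_zero _).2 (Submodule.subset_span ⟨i, rfl⟩)
    rw [Module.Basis.span_apply]
    simp [r₀, LinearMap.codRestrict_apply, h0, -Submodule.mkQ_apply]
  let R : Fin (N + 1) → Fin s → A := fun j l => (Module.Basis.span hli).repr (r₀ (Pi.single j 1)) l
  have hR : ∀ i l, ∑ j, m i j * R j l = if i = l then 1 else 0 := by
    intro i l
    have h1 : m i = ∑ j, m i j • (Pi.single j 1 : Fin (N + 1) → A) := pi_eq_sum_univ' (m i)
    have h2 := congrArg (fun v => (Module.Basis.span hli).repr (r₀ v) l) h1
    simp only [map_sum, map_smul, Finsupp.coe_finset_sum, Finset.sum_apply, Finsupp.coe_smul, Pi.smul_apply,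
      smul_eq_mul, hr₀, Module.Basis.repr_self] at h2
    rw [← h2, Finsupp.single_apply]
  -- the maximal minors of `m` generate the unit ideal
  let D : (Fin s → Fin (N + 1)) → A := fun c => (Matrix.of fun i l => m i (c l)).det
  have hone : ∑ c : Fin s → Fin (N + 1), (∏ l, R (c l) l) * D c = 1 := by
    have h1 : (Matrix.of fun l i => ∑ j, R j l * m i j : Matrix (Fin s) (Fin s) A) = 1 := by
      ext l i
      rw [Matrix.of_apply, Matrix.one_apply]
      simp only [mul_comm (R _ l)]
      rw [hR]
      simp [eq_comm]
    have h2 : (Matrix.of fun l i => ∑ j, R j l * m i j : Matrix (Fin s) (Fin s) A) =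
        fun l => ∑ j, R j l • fun i => m i j := by
      funext l i
      simp [Finset.sum_apply]
    have h3 := (Matrix.detRowAlternating (n := Fin s) (R := A)).toMultilinearMap.map_sum
      (fun l (j : Fin (N + 1)) => R j l • fun i => m i j)
    rw [← h2, h1] at h3
    change (1 : Matrix (Fin s) (Fin s) A).det = _ at h3
    rw [Matrix.det_one] at h3
    refine (h3.trans (Finset.sum_congr rfl fun c _ => ?_)).symm
    rw [MultilinearMap.map_smul_univ, smul_eq_mul]
    congr 1
    exact (Matrix.det_transpose (Matrix.of fun i l => m i (c l)))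
  -- linear forms in the kernel
  have hlin : ∀ v : Fin (N + 1) → A, (∀ i, ∑ l, m i l * v l = 0) →
      ∑ l, MvPolynomial.C (v l) * MvPolynomial.X l ∈ I := by
    intro v hv
    have hD : ∀ c', MvPolynomial.C (D c') * ∑ l, MvPolynomial.C (v l) * MvPolynomial.X l ∈ I := by
      intro c'
      have heq : ∑ l, MvPolynomial.C (v l) * (M (Fin.snoc c' l)).det =
          MvPolynomial.C (D c') * ∑ l, MvPolynomial.C (v l) * MvPolynomial.X l := by
        have hsub : ∀ (i : Fin (s + 1)) (l l' : Fin (N + 1)),
            (M (Fin.snoc c' l)).submatrix i.succAbove (Fin.last s).succAbove =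
              (M (Fin.snoc c' l')).submatrix i.succAbove (Fin.last s).succAbove := by
          intro i l l'
          ext a b
          simp [M, Fin.succAbove_last]
        simp only [Matrix.det_succ_column _ (Fin.last s), Finset.mul_sum]
        rw [Finset.sum_comm, Fin.sum_univ_castSucc, Finset.sum_eq_zero, zero_add]
        · refine Finset.sum_congr rfl fun l _ => ?_
          have hKl : ((M (Fin.snoc c' l)).submatrix (Fin.last s).succAbove (Fin.last s).succAbove).det =
              MvPolynomial.C (D c') := by
            rw [RingHom.map_det]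
            congr 1
            ext a b
            simp [M, Fin.succAbove_last]
          rw [hKl, hMlast, Fin.snoc_last, Even.neg_one_pow ⟨_, rfl⟩]
          ring
        · intro i _
          have key : ∀ l, MvPolynomial.C (v l) * ((-1) ^ ((i.castSucc : ℕ) + (Fin.last s : ℕ)) *
              M (Fin.snoc c' l) i.castSucc (Fin.last s) *
              ((M (Fin.snoc c' l)).submatrix i.castSucc.succAbove (Fin.last s).succAbove).det) =
              MvPolynomial.C (m i l * v l) * ((-1) ^ ((i.castSucc : ℕ) + (Fin.last s : ℕ)) *
              ((M (Fin.snoc c' 0)).submatrix i.castSucc.succAbove (Fin.last s).succAbove).det) := fun l => by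
            rw [hsub _ l 0, hMcast, Fin.snoc_last, map_mul]; ring
          simp only [key, ← Finset.sum_mul, ← map_sum, hv, map_zero, zero_mul]
      rw [← heq]
      exact Ideal.sum_mem _ fun l _ => Ideal.mul_mem_left _ _ (Ideal.subset_span ⟨_, rfl⟩)
    have : MvPolynomial.C (∑ c : Fin s → Fin (N + 1), (∏ l, R (c l) l) * D c) *
        ∑ l, MvPolynomial.C (v l) * MvPolynomial.X l ∈ I := by
      rw [map_sum, Finset.sum_mul]
      exact Ideal.sum_mem _ fun c _ => by
        rw [map_mul, mul_assoc]
        exact Ideal.mul_mem_left _ _ (hD c)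
    rwa [hone, map_one, one_mul] at this
  let σ : MvPolynomial (Fin s) A →ₐ[A] MvPolynomial (Fin (N + 1)) A :=
    MvPolynomial.aeval fun i => ∑ j, MvPolynomial.C (R j i) * MvPolynomial.X j
  have hgen : ∀ j, MvPolynomial.X j - σ (ψ (MvPolynomial.X j)) ∈ I := by
    intro j
    have := hlin (fun l => (if l = j then 1 else 0) - ∑ i, m i j * R l i) (fun i' => by
      simp only [mul_sub, Finset.sum_sub_distrib, mul_ite, mul_one, mul_zero, Finset.mul_sum]
      rw [Finset.sum_ite_eq', if_pos (Finset.mem_univ _), Finset.sum_comm]
      simp only [mul_left_comm _ (m _ j), ← Finset.mul_sum, hR]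
      simp)
    convert this using 1
    simp only [map_sub, sub_mul, Finset.sum_sub_distrib]
    congr 1
    · simp
    · rw [hψX, map_sum]
      simp only [map_mul, map_sum, Finset.sum_mul, σ, MvPolynomial.aeval_C, MvPolynomial.aeval_X,
        MvPolynomial.algebraMap_eq, Finset.mul_sum]
      rw [Finset.sum_comm]
      simp only [mul_assoc]
  intro p hp
  have hall : ∀ q, q - σ (ψ q) ∈ I := by
    intro q
    induction q using MvPolynomial.induction_on with
    | C a => simp [σ, hψC]
    | add a b ha hb =>
      rw [show (a + b) - σ (ψ (a + b)) = (a - σ (ψ a)) + (b - σ (ψ b)) by rw [map_add, map_add]; ring]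
      exact Ideal.add_mem _ ha hb
    | mul_X a j ha =>
      rw [show a * MvPolynomial.X j - σ (ψ (a * MvPolynomial.X j)) =
        a * (MvPolynomial.X j - σ (ψ (MvPolynomial.X j))) + σ (ψ (MvPolynomial.X j)) * (a - σ (ψ a)) by
          rw [map_mul, map_mul]; ring]
      exact Ideal.add_mem _ (Ideal.mul_mem_left _ _ (hgen j)) (Ideal.mul_mem_left _ _ ha)
  have := hall p
  rwa [RingHom.mem_ker.1 hp, map_zero, sub_zero] at this

end Groth.Agent.S16254
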