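import Groth.Statements.S16255
import Groth.Agent.QuadSingJac.Model

set_option autoImplicit false
universe u
open VanCyc

namespace Groth.Agent.S16255

/-- (b) ⇔ (c): let k be an algebraically closed field, m ≥ 0, f ∈ k[x_0, …, x_m], B = k[x_0, …, x_m]/(f)
and P a maximal ideal of B (a closed point y of the hypersurface Y = V(f)) containing the classes of
all partial derivatives ∂f/∂x_j, so that y lies in the m-th Jacobian locus of Y (cut out in Y by the
m-th Fitting ideal of Ω_{Y/k}, which is generated by these classes). Then the following are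
equivalent: (b) the classes of the ∂f/∂x_j generate the maximal ideal of the local ring B_P, i.e.
near y the Jacobian locus is the reduced point y; (c) y is a non-degenerate quadratic singularity of
Y of dimension m: the completion of B_P is k-isomorphic to k[[x_0, …, x_m]]/(g) for a power series g
without constant or linear terms whose quadratic part has unit polar discriminant. (The published
statement is for Y a local complete intersection of virtual dimension m over k and a point of the
m-th but not the (m+1)-st Jacobian locus; the statement here is its affine hypersurface case, to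
which its proof reduces by an étale chart. A third equivalent condition there, on the differentials
of the Jacobian scheme at y, is not stated here.) -/
theorem result
    (k : Type u) [Field k] [IsAlgClosed k] (m : ℕ) (f : MvPolynomial (Fin (m + 1)) k)
    (P : Ideal (MvPolynomial (Fin (m + 1)) k ⧸ Ideal.span {f})) [P.IsMaximal]
    (hP : ∀ j : Fin (m + 1), Ideal.Quotient.mk (Ideal.span {f}) (MvPolynomial.pderiv j f) ∈ P) :
    Ideal.map (algebraMap (MvPolynomial (Fin (m + 1)) k ⧸ Ideal.span {f}) (Localization.AtPrime P))
        (Ideal.span (Set.range fun j : Fin (m + 1) =>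
          Ideal.Quotient.mk (Ideal.span {f}) (MvPolynomial.pderiv j f))) =
      IsLocalRing.maximalIdeal (Localization.AtPrime P) ↔
    VanCyc.IsNondegQuadSing k (Localization.AtPrime P) m := by
  classical
  let Q := P.comap (Ideal.Quotient.mk (Ideal.span {f}))
  haveI hQmax : Q.IsMaximal := Ideal.comap_isMaximal_of_surjective _ Ideal.Quotient.mk_surjective
  obtain ⟨a, ha⟩ := (MvPolynomial.isMaximal_iff_eq_vanishingIdeal_singleton (K := k) (I := Q)).1 hQmax
  have hP' : ∀ p, Ideal.Quotient.mk (Ideal.span {f}) p ∈ P ↔ MvPolynomial.aeval a p = 0 := fun p => by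
    show p ∈ Q ↔ _
    rw [ha, MvPolynomial.mem_vanishingIdeal_singleton_iff]
  have hg : Groth.Agent.QuadSingJac.φ0 a f ∈ IsLocalRing.maximalIdeal (MvPowerSeries (Fin (m + 1)) k) ^ 2 := by
    refine Groth.Agent.QuadSingJac.mem_sq_of_noLow ⟨?_, fun i => ?_⟩
    · rw [Groth.Agent.QuadSingJac.constantCoeff_φ0]
      refine (hP' f).1 ?_
      rw [Ideal.Quotient.eq_zero_iff_mem.2 (Ideal.mem_span_singleton_self f)]
      exact zero_mem _
    · have h1 := congrArg MvPowerSeries.constantCoeff (Groth.Agent.QuadSingJac.pderiv_φ0 a i f)
      rw [Groth.Agent.QuadSingJac.constantCoeff_φ0, (hP' _).1 (hP i),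
        ← MvPowerSeries.coeff_zero_eq_constantCoeff_apply, MvPowerSeries.coeff_pderiv] at h1
      simpa using h1
  obtain ⟨-, ⟨E⟩, hiff⟩ := Groth.Agent.QuadSingJac.completion_model f a hg P hP' (Localization.AtPrime P)
  rw [hiff]
  refine ⟨fun h => ⟨_, (Groth.Agent.QuadSingJac.nondeg_iff _ hg).2 h, ⟨E⟩⟩, fun ⟨g', hg', ⟨E'⟩⟩ => ?_⟩
  have hg'2 := Groth.Agent.QuadSingJac.mem_sq_of_noLow hg'.1
  exact Groth.Agent.QuadSingJac.jacFull_of_algEquiv _ g' hg hg'2 (E'.symm.trans E)
    ((Groth.Agent.QuadSingJac.nondeg_iff g' hg'2).1 hg')

end Groth.Agent.S16255
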