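import Groth.Statements.S16262
import Mathlib.Tactic

set_option autoImplicit false
open W4c3wronskmg

namespace Groth.Agent.S16262

open Polynomial in
/-- Let `k` be a field of characteristic zero and `a, b, i` positive integers with `i < a + b`. On the
projective line with `A = 0`, `B = ∞`, `P = -1`, the system `V_{a,b} = H⁰(ω((1+a)A)) ⊕ H⁰(ω((1+b)B))
⊆ H⁰(O(a+b))` is the space of polynomials of degree at most `a+b` with vanishing coefficient of
`X^a`, and `V = V_{a,b}(-iP)` (divided by `(X+1)^i`) is the space of `G` of degree at most `a+b-i`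
such that the coefficient of `X^a` in `(X+1)^i G` vanishes; it is a linear system of dimension and
degree `a+b-i`. Then no point of the projective line other than `A` and `B` is a special
ramification point of `V` (a point of weight at least two); for such a system a point `q` of the
affine line is special exactly when two independent members are divisible by `(X-q)^(a+b-i-1)`, so
the statement is that this fails for every `q ≠ 0`. (The published statement does not except `A` and
`B`, but `A` has weight `max(b-i, 0)` in `V`, which is `2` for `a = 1, b = 3, i = 1`: there `X^3`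
and `X^2` both lie in `V`. It is stated over the complex numbers.) -/
theorem result
    (k : Type*) [Field k] [CharZero k] (a b i : ℕ) (ha : 0 < a) (hb : 0 < b) (hi : 0 < i) (hiab : i < a + b)
    (V : Submodule k (Polynomial k))
    (hV : V = Polynomial.degreeLE k ↑(a + b - i) ⊓
      LinearMap.ker ((Polynomial.lcoeff k a).comp (LinearMap.mulLeft k (((X : Polynomial k) + 1) ^ i))))
    (q : k) (hq : q ≠ 0) :
    Module.finrank k ↥(V ⊓ (Ideal.span {(X - C q) ^ (a + b - i - 1)}).restrictScalars k) ≤ 1 := by
  classical
  obtain ⟨j, hj⟩ : ∃ j, a + b - i = j + 1 := ⟨a + b - i - 1, by omega⟩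
  rw [show a + b - i - 1 = j by omega]
  set P : k[X] := (X + 1) ^ i * (X - C q) ^ j with hP
  have hd : ∀ (r : k) (n : ℕ),
      (X + C r) * derivative ((X + C r) ^ n) = C (n : k) * (X + C r) ^ n := by
    intro r n
    cases n with
    | zero => simp
    | succ n => rw [derivative_pow_succ]; simp; ring
  have hode : X * (X * derivative P) + C (1 - q) * (X * derivative P) - C q * derivative P
      = C ((i : k) + j) * (X * P) + C ((j : k) - i * q) * P := by
    have e1 : (X + 1) * derivative (((X : k[X]) + 1) ^ i) = C (i : k) * (X + 1) ^ i := by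
      simpa using hd 1 i
    have e2 : (X - C q) * derivative ((X - C q) ^ j) = C (j : k) * (X - C q) ^ j := by
      simpa [sub_eq_add_neg] using hd (-q) j
    rw [hP, derivative_mul]
    simp only [map_add, map_sub, map_mul, map_one]
    linear_combination ((X - C q) * (X - C q) ^ j) * e1 + ((X + 1) * (X + 1) ^ i) * e2
  have hX : ∀ n : ℕ, (X * derivative P).coeff n = (n : k) * P.coeff n := by
    intro n
    cases n with
    | zero => simp
    | succ n => rw [coeff_X_mul, coeff_derivative]; push_cast; ring
  have hrec : ∀ l, P.coeff l = 0 → P.coeff (l + 1) = 0 → P.coeff (l + 2) = 0 := by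
    intro l h0 h1
    have h := congrArg (fun p => Polynomial.coeff p (l + 1)) hode
    simp only [coeff_sub, coeff_add, coeff_C_mul, coeff_X_mul, hX, coeff_derivative, h0, h1,
      mul_zero, add_zero, zero_sub, neg_eq_zero, mul_eq_zero, hq, false_or] at h
    refine h.resolve_right ?_
    exact_mod_cast Nat.succ_ne_zero (l + 1)
  have hnz : ¬ (P.coeff (a - 1) = 0 ∧ P.coeff a = 0) := by
    rintro ⟨h0, h1⟩
    obtain ⟨a', rfl⟩ : ∃ a', a = a' + 1 := ⟨a - 1, by omega⟩
    simp only [Nat.add_sub_cancel] at h0
    have hall : ∀ s, P.coeff (a' + s) = 0 ∧ P.coeff (a' + s + 1) = 0 := by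
      intro s
      induction s with
      | zero => exact ⟨h0, h1⟩
      | succ s ih => exact ⟨ih.2, hrec _ ih.1 ih.2⟩
    have hm : ((X + 1 : k[X]) ^ i).Monic := by simpa using (monic_X_add_C (1 : k)).pow i
    have hmon : P.Monic := hm.mul ((monic_X_sub_C q).pow j)
    have hdeg : P.natDegree = i + j := by
      rw [hP, hm.natDegree_mul ((monic_X_sub_C q).pow j), natDegree_pow, natDegree_pow]
      simp [show ((X : k[X]) + 1).natDegree = 1 by simpa using natDegree_X_add_C (1 : k)]
    have h := hmon.coeff_natDegree
    rw [hdeg] at h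
    have h' := (hall (i + j - a')).1
    rw [show a' + (i + j - a') = i + j by omega, h] at h'
    exact one_ne_zero h'
  set g : k[X] := (X - C q) ^ j * (C (P.coeff a) * X - C (P.coeff (a - 1))) with hg
  have hle : V ⊓ (Ideal.span {(X - C q) ^ j}).restrictScalars k ≤ Submodule.span k {g} := by
    rintro G ⟨hGV, hGI⟩
    obtain ⟨H, rfl⟩ := Ideal.mem_span_singleton.mp hGI
    rw [hV] at hGV
    obtain ⟨hdeg, hker⟩ := hGV
    have hH : H.natDegree ≤ 1 := by
      rcases eq_or_ne H 0 with rfl | hH0
      · simp
      have hdeg' := natDegree_le_iff_degree_le.mpr (mem_degreeLE.mp hdeg)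
      rw [((monic_X_sub_C q).pow j).natDegree_mul' hH0, natDegree_pow, natDegree_X_sub_C] at hdeg'
      omega
    obtain ⟨u, v, hHuv⟩ : ∃ u v, H = C u * X + C v :=
      ⟨_, _, eq_X_add_C_of_natDegree_le_one hH⟩
    subst hHuv
    have hzero : u * P.coeff (a - 1) + v * P.coeff a = 0 := by
      have hk : ((X + 1) ^ i * ((X - C q) ^ j * (C u * X + C v))).coeff a = 0 := hker
      have e : (X + 1) ^ i * ((X - C q) ^ j * (C u * X + C v)) = C u * (X * P) + C v * P := by
        rw [hP]; ring
      obtain ⟨a', rfl⟩ : ∃ a', a = a' + 1 := ⟨a - 1, by omega⟩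
      rw [e, coeff_add, coeff_C_mul, coeff_C_mul, coeff_X_mul] at hk
      simpa using hk
    rw [Submodule.mem_span_singleton]
    by_cases h1 : P.coeff a = 0
    · have h0 : P.coeff (a - 1) ≠ 0 := fun h => hnz ⟨h, h1⟩
      have hu : u = 0 := by simpa [h1, h0] using hzero
      refine ⟨-(v / P.coeff (a - 1)), ?_⟩
      rw [hg, h1, hu, smul_eq_C_mul]
      have : C (v / P.coeff (a - 1)) * C (P.coeff (a - 1)) = C v := by
        rw [← map_mul, div_mul_cancel₀ v h0]
      simp only [map_zero, map_neg]
      linear_combination ((X - C q) ^ j) * this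
    · refine ⟨u / P.coeff a, ?_⟩
      rw [hg, smul_eq_C_mul]
      have e1 : C (u / P.coeff a) * C (P.coeff a) = C u := by
        rw [← map_mul, div_mul_cancel₀ u h1]
      have e2 : C (u / P.coeff a) * C (P.coeff (a - 1)) = - C v := by
        rw [← map_mul, ← map_neg]
        congr 1
        field_simp
        linear_combination hzero
      linear_combination ((X - C q) ^ j * X) * e1 - (X - C q) ^ j * e2
  refine (Submodule.finrank_mono hle).trans ((finrank_span_le_card _).trans ?_)
  simp

end Groth.Agent.S16262
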