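import Groth.Statements.S16266
import Groth.Agent.FunFld.VanishGrid

set_option autoImplicit false
open FunFld

namespace Groth.Agent.S16266

/-- Let `K/k` be a function field of one variable over an algebraically closed field `k` of
characteristic zero, `D` a divisor, `V ⊆ L(D)` a linear system of dimension `r + 1` with `r ≥ 1`,
and `P` a place with `V' = V(-P) = V ∩ L(D - P) ≠ V`, an `r`-dimensional system in `L(D - P)`.
Assume that neither `V` nor `V'` has a special ramification point (a place of weight at least two):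
for every place `R`, `dim V ∩ L(D - rR) ≤ 1`, `V ∩ L(D - (r+2)R) = 0`, `dim V' ∩ L(D - P - (r-1)R) ≤
1` and `V' ∩ L(D - P - (r+1)R) = 0`. Then no place `Q ≠ P` is a ramification point of both `V` and
`V'`: for no such `Q` are both `V ∩ L(D - (r+1)Q)` and `V' ∩ L(D - P - rQ)` nonzero. (The published
statement is for a smooth curve over the complex numbers.) -/
theorem result
    (k K : Type*) [Field k] [IsAlgClosed k] [CharZero k] [Field K] [Algebra k K]
    (hK : FunFld.IsFunctionField k K) (D : FunFld.Divisor k K)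
    (V : Submodule k K) (hVD : V ≤ FunFld.L D) (r : ℕ) (hr : Module.finrank k ↥V = r + 1) (hr1 : 1 ≤ r)
    (P : FunFld.Place k K) (hP : V ⊓ FunFld.L (D - Finsupp.single P 1) ≠ V)
    (hns : ∀ R : FunFld.Place k K,
      Module.finrank k ↥(V ⊓ FunFld.L (D - Finsupp.single R (r : ℤ))) ≤ 1 ∧
        V ⊓ FunFld.L (D - Finsupp.single R ((r : ℤ) + 2)) = ⊥)
    (hns' : ∀ R : FunFld.Place k K,
      Module.finrank k ↥(V ⊓ FunFld.L (D - Finsupp.single P 1 - Finsupp.single R ((r : ℤ) - 1))) ≤ 1 ∧
        V ⊓ FunFld.L (D - Finsupp.single P 1 - Finsupp.single R ((r : ℤ) + 1)) = ⊥)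
    (Q : FunFld.Place k K) (hQP : Q ≠ P) :
    ¬ (V ⊓ FunFld.L (D - Finsupp.single Q ((r : ℤ) + 1)) ≠ ⊥ ∧
       V ⊓ FunFld.L (D - Finsupp.single P 1 - Finsupp.single Q (r : ℤ)) ≠ ⊥) := by
  rintro ⟨h1, h2⟩
  haveI : FiniteDimensional k V := Module.finite_of_finrank_eq_succ hr
  classical
  set A := V ⊓ FunFld.L (D - Finsupp.single Q (r : ℤ))
  have hsub1 : V ⊓ FunFld.L (D - Finsupp.single Q ((r : ℤ) + 1)) ≤ A :=
    inf_le_inf_left V (Groth.Agent.FunFld.L_mono fun R => by
      simp only [Finsupp.sub_apply, Finsupp.single_apply]; split_ifs <;> omega)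
  have hsub2 : V ⊓ FunFld.L (D - Finsupp.single P 1 - Finsupp.single Q (r : ℤ)) ≤ A :=
    inf_le_inf_left V (Groth.Agent.FunFld.L_mono fun R => by
      simp only [Finsupp.sub_apply, Finsupp.single_apply]; split_ifs <;> omega)
  haveI : FiniteDimensional k A := Submodule.finiteDimensional_inf_left _ _
  have hpos : ∀ S : Submodule k K, S ≠ ⊥ → S ≤ A → S = A := fun S hS hle => by
    haveI := Submodule.finiteDimensional_of_le hle
    exact Submodule.eq_of_le_of_finrank_le hle ((hns Q).1.trans (Submodule.one_le_finrank_iff.2 hS))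
  obtain ⟨z, hz, hz0⟩ := Submodule.exists_mem_ne_zero_of_ne_bot h1
  have hz2 : z ∈ V ⊓ FunFld.L (D - Finsupp.single P 1 - Finsupp.single Q (r : ℤ)) :=
    (hpos _ h2 hsub2).ge (hsub1 hz)
  have hz3 : z ∈ V ⊓ FunFld.L (D - Finsupp.single P 1 - Finsupp.single Q ((r : ℤ) + 1)) := by
    refine ⟨hz.1, fun R => ?_⟩
    by_cases hR : R = Q
    · subst hR
      refine (hz.2 R).trans (WithZero.exp_le_exp.2 ?_)
      simp [Finsupp.single_eq_of_ne hQP]
    · refine (hz2.2 R).trans (WithZero.exp_le_exp.2 ?_)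
      simp [Finsupp.single_eq_of_ne hR]
  rw [(hns' Q).2] at hz3
  exact hz0 ((Submodule.mem_bot k).1 hz3)

end Groth.Agent.S16266
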