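import Groth.Statements.S16273
import Groth.Agent.CechClass.Basic

set_option autoImplicit false
set_option backward.isDefEq.respectTransparency false
set_option linter.style.haveILetI false
open Groth.Agent
universe w' w v u
open CategoryTheory
open NonAbH1

namespace Groth.Agent.S16273

/-- Let C be a category with a Grothendieck topology J, G a sheaf of groups and U a family of objects
which covers every object of the site. Two G-torsors admitting a common Cech class in H^1(U, G)
(each cut out by some family of sections over the U_i) are equivariantly isomorphic. (The published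
statement is for an etale covering of a scheme; this row is stated for any family of objects
covering the site.) -/
theorem result {C : Type u} [Category.{v} C]
    {J : GrothendieckTopology C} {G : Sheaf J GrpCat.{w}} {I : Type w'} (U : I → C) (hU : J.CoversTop U)
    (P Q : NonAbH1.Torsor G)
    (c : PresheafOfGroups.H1 G.obj U) (hPc : P.HasCechClass U c) (hQc : Q.HasCechClass U c) :
    Nonempty (P.toGSheaf ≅ Q.toGSheaf) := by
  obtain ⟨s, γ, hs, hγ⟩ := hPc
  obtain ⟨t, δ, ht, hδ⟩ := hQc
  obtain ⟨α, hα⟩ := (PresheafOfGroups.OneCocycle.class_eq_iff δ γ).mp (hδ.trans hγ.symm)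
  let t' : ∀ i, Q.P.obj.obj (Opposite.op (U i)) := fun i => Q.smul (α i) (t i)
  have ht' : Q.IsCocycleOf U t' γ := fun i j T a b => by
    simp only [t', Q.map_smul, ← Q.mul_smul]
    rw [← hα i j a b, Q.mul_smul, ht i j a b]
  have hP := P.isTorsor.1
  have hQ := Q.isTorsor.1
  obtain ⟨f, hf⟩ := Groth.Agent.CechClass.exists_hom γ hP hU hs ht'
  obtain ⟨g, hg⟩ := Groth.Agent.CechClass.exists_hom γ hQ hU ht' hs
  have hinv : ∀ {P' Q' : GSheaf G} {s' : ∀ i, P'.P.obj.obj (Opposite.op (U i))} {t' : ∀ i, Q'.P.obj.obj (Opposite.op (U i))}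
      (f' : P' ⟶ Q') (g' : Q' ⟶ P'), P'.IsPseudoTorsor →
      (∀ T q, CechClass.Rel P' Q' s' t' q (f'.hom.hom.app (Opposite.op T) q)) →
      (∀ T q, CechClass.Rel Q' P' t' s' q (g'.hom.hom.app (Opposite.op T) q)) → f' ≫ g' = 𝟙 P' := by
    intro P' Q' s' t' f' g' hP' hf' hg'
    refine NonAbH1.GSheaf.hom_ext (Sheaf.hom_ext ?_)
    refine NatTrans.ext (funext fun T => ConcreteCategory.hom_ext _ _ fun q => ?_)
    refine Groth.Agent.CechClass.sep P' (hU T.unop) fun V r hr => ?_
    obtain ⟨i, ⟨a⟩⟩ := hr
    obtain ⟨k, hk, -⟩ := hP' (Opposite.op V) (P'.P.obj.map a.op (s' i)) (P'.P.obj.map r.op q)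
    have h2 := hg' T.unop _ r i a k (hf' T.unop q r i a k hk)
    exact h2.symm.trans hk
  exact ⟨⟨f, g, hinv f g hP hf hg, hinv g f hQ hg hf⟩⟩

end Groth.Agent.S16273
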