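import Groth.Statements.S16277
import Groth.Agent.HodgeCI.DivApps
-- import your own Groth.Agent.* helpers here

set_option autoImplicit false
universe u
open CategoryTheory CategoryTheory.Limits AlgebraicGeometry
open HodgeNum

namespace Groth.Agent.S16277

/-- Let k be an algebraically closed field of characteristic p > 0, X a smooth projective k-variety of
dimension n + 1 (an integral k-scheme, smooth of relative dimension n + 1 over k, with a closed
immersion into some P^N_k over k) and L an ample invertible O_X-module. Then for d large enough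
every smooth divisor Y in the linear system of L^{⊗d} satisfies h^{p,q}(Y) = h^{p,q}(X) for p + q ≤
n - 1: there is d₀ such that for all d ≥ d₀, every M with M ⊗ L^{⊗d} ≅ O_X, every closed subscheme Y
of X which is smooth of relative dimension n over k and whose ideal sheaf is isomorphic to M, all p,
q with p + q ≤ n - 1, every p-th exterior power F of Ω_{Y/k} and every p-th exterior power E of
Ω_{X/k}, the k-vector spaces H^q(Y, F) and H^q(X, E) have the same dimension. (The published
statement assumes L very ample; its argument only uses that L is ample, which is what is assumed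
here.) -/
theorem result (k : Type u) [Field k] [IsAlgClosed k]
    (pc : ℕ) [Fact pc.Prime] [CharP k pc] (n N : ℕ)
    (X : Scheme.{u}) [X.Over (Spec (CommRingCat.of k))] [IsIntegral X]
    [SmoothOfRelativeDimension (n + 1) (X ↘ Spec (CommRingCat.of k))]
    (ι : X ⟶ CohB1.ProjSpace N k) [IsClosedImmersion ι] (hι : ι ≫ CohB1.ProjSpace.toSpec N k = X ↘ Spec (CommRingCat.of k))
    (L : X.Modules) (hL : CohB1.IsAmple L) :
    ∃ d₀ : ℕ, ∀ d : ℕ, d₀ ≤ d → ∀ M : X.Modules, ClSub.IsInverseOf M (CohB1.tensorPow L d) →
      ∀ (I : X.IdealSheafData) [I.subscheme.Over (Spec (CommRingCat.of k))],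
        I.subscheme ↘ Spec (CommRingCat.of k) = I.subschemeι ≫ X ↘ Spec (CommRingCat.of k) → Nonempty (ClSub.idealMod I ≅ M) →
        SmoothOfRelativeDimension n (I.subscheme ↘ Spec (CommRingCat.of k)) →
        ∀ p q : ℕ, p + q + 1 ≤ n →
          ∀ F : I.subscheme.Modules, ExtPow.IsExtPow p (Omega.sheaf (I.subscheme ↘ Spec (CommRingCat.of k))) F →
          ∀ E : X.Modules, ExtPow.IsExtPow p (Omega.sheaf (X ↘ Spec (CommRingCat.of k))) E →
            Module.finrank k (Coh.HH I.subscheme F q) = Module.finrank k (Coh.HH X E q) := by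
  haveI := Groth.Agent.ExtFund.isProper_of_closed ι hι
  obtain ⟨d₀, hd₀⟩ := Groth.Agent.HodgeCI.exists_neg_vanish (n := n + 1) ι hι L hL
  refine ⟨d₀ + 1, fun d hd M hM I _ hover hI hsm p q hpq F hF E hE => ?_⟩
  haveI := hsm
  haveI : Smooth (I.subscheme ↘ Spec (CommRingCat.of k)) := SmoothOfRelativeDimension.smooth n _
  obtain ⟨iI⟩ := hI
  obtain ⟨w⟩ := hM
  exact ((Groth.Agent.HodgeCI.exists_divisor_map
    (Groth.Agent.SGA6Ext.finLocFree_of_rank (Groth.Agent.ExtFund.isFinLocFreeOfRank_omega _ (n + 1))) I hover L d n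
    ⟨PicGrp.tensorModIso iI (Iso.refl _) ≪≫ w⟩
    (fun m hm M' hM' p q h E hE => hd₀ (d * m) (le_trans (by omega) (Nat.le_mul_of_pos_right _ hm)) M' hM' p q (by omega) E hE)
    p q (by omega) E hE F hF).1 hpq).symm

end Groth.Agent.S16277
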