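import Groth.Statements.S16280
import Groth.Agent.ExtShX.RelCoh
import Groth.Agent.ExtShX.RelRestrict
import Groth.Agent.HQProj.Basic
import Groth.Agent.ProjMor.Segre

set_option autoImplicit false
set_option linter.style.haveILetI false
set_option backward.isDefEq.respectTransparency false
set_option backward.isDefEq.respectTransparency.types false
universe u
open CategoryTheory CategoryTheory.Limits AlgebraicGeometry
open Coherent Groth.Agent

namespace Groth.Agent.S16280

/-- Let Y be a Noetherian scheme, f : X → Y a morphism admitting a factorisation through a closed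
immersion e : X → P^n_Y followed by the projection (a projective morphism), and F, G coherent
O_X-modules. Then for every p ≥ 0 the relative Ext sheaf Ext^p_f(F, G) — the value at G of the p-th
right derived functor of the left exact functor G ↦ f_* Hom_{O_X}(F, G) from O_X-modules to
O_Y-modules — is a coherent O_Y-module. (The internal Hom functor of F, injective resolutions of
O_X-modules and additivity of the composite functor are the stated instance hypotheses, all true.) -/
theorem result (X Y : Scheme.{u}) [IsNoetherian Y] (f : X ⟶ Y)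
    (n : ℕ) (e : X ⟶ CohB1.ProjSpaceOver n Y) [IsClosedImmersion e] (he : e ≫ CohB1.ProjSpaceOver.toBase n Y = f)
    (F G : X.Modules) (hF : Coh.IsCoh F) (hG : Coh.IsCoh G)
    [ModSite.HasSheafHom (O := X.sheaf) F] [HasInjectiveResolutions (ModSite.Mod X.sheaf)]
    [(ModSite.sheafHom (O := X.sheaf) F ⋙ Scheme.Modules.pushforward f).Additive] (p : ℕ) :
    Coh.IsCoh (((ModSite.sheafHom (O := X.sheaf) F ⋙ Scheme.Modules.pushforward f).rightDerived p).obj G) := by
  haveI := ExtShX.preservesFiniteLimits_pushforward f
  haveI := HQProj.isProper_toBase n Y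
  haveI : IsProper f := he ▸ inferInstance
  haveI : IsLocallyNoetherian X := LocallyOfFiniteType.isLocallyNoetherian f
  refine CohFinite.isCoh_of_iso ((ExtShX.relR (Scheme.Modules.pushforward f) F p).app G).symm ?_
  refine K0Coh.isCoh_of_local fun y => ?_
  obtain ⟨W, hW, hy⟩ := Groth.Agent.QC.exists_affine_mem y
  haveI := ExtShX.preservesFiniteLimits_pushforward (f ∣_ W)
  haveI : IsAffine W.toScheme := hW
  haveI : IsProper (f ∣_ W) := inferInstance
  obtain ⟨m, j, hj, hjc, hjf⟩ := HQProj.of_isPullback (isPullback_morphismRestrict f W).flip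
    ⟨n, e, inferInstance, inferInstance, he⟩
  haveI := hj
  haveI : CompactSpace (f ⁻¹ᵁ W).toScheme := QuasiCompact.compactSpace_of_compactSpace (f ∣_ W)
  have hA := TMul.isAmple_pullback j j.isEmbedding.isInducing (ProjMor.isAmple_twistOver m W.toScheme)
  obtain ⟨i⟩ := ExtShX.nonempty_RP_restrict f W F G p
  exact ⟨W, hy, CohFinite.isCoh_of_iso i.symm (ExtShX.isCoh_RP_affine (f ∣_ W) hA _
    ⟨Groth.Agent.QC.isQCoh_restrict _ hG.1, Groth.Agent.QC.isFT_restrict _ hG.2⟩ p _
    ⟨Groth.Agent.QC.isQCoh_restrict _ hF.1, Groth.Agent.QC.isFT_restrict _ hF.2⟩)⟩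

end Groth.Agent.S16280
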