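import Groth.Statements.S16283
import Groth.Agent.GrothSS.Global
import Groth.Agent.CohQC.RpushModules
import Groth.Agent.SiteCoh.TotAcyclic
import Groth.Agent.SiteCoh.PushAcyclic
import Groth.Agent.GrothSS.OpensPull

set_option autoImplicit false
universe u
open CategoryTheory CategoryTheory.Limits AlgebraicGeometry ZeroObject
open Coherent

namespace Groth.Agent.S16283

/-- Let f : X → Y and g : Y → Z be morphisms of schemes, h = g ∘ f, and F, G O_X-modules. For a morphism
u out of X write Ext^b_u(F, -) for the b-th right derived functor of the left exact functor G ↦ u_*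
Hom_{O_X}(F, G) from O_X-modules. Then there is an E₂ spectral sequence of O_Z-modules with E₂^{a,b}
≅ R^a g_*(Ext^b_f(F, G)) for a, b ≥ 0 (and 0 otherwise), bounded, abutting with finite filtrations
to Ext^n_h(F, G) (n ≥ 0; 0 for n < 0). (Stated for schemes, the published statement being for ringed
spaces. Existence only: the E₂ identifications and the abutment are some isomorphisms. The internal
Hom functor of F, injective resolutions on X and Y and additivity of the composite functors are the
stated instance hypotheses, all true.) -/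
theorem result (X Y Z : Scheme.{u}) (f : X ⟶ Y) (g : Y ⟶ Z)
    (F G : X.Modules)
    [ModSite.HasSheafHom (O := X.sheaf) F] [HasInjectiveResolutions (ModSite.Mod X.sheaf)] [HasInjectiveResolutions Y.Modules]
    [(ModSite.sheafHom (O := X.sheaf) F ⋙ Scheme.Modules.pushforward f).Additive]
    [(ModSite.sheafHom (O := X.sheaf) F ⋙ Scheme.Modules.pushforward (f ≫ g)).Additive] :
    ∃ (E : E₂CohomologicalSpectralSequence Z.Modules)
      (a : SpSeq.Abutment E (fun n : ℤ =>
        if 0 ≤ n then ((ModSite.sheafHom (O := X.sheaf) F ⋙ Scheme.Modules.pushforward (f ≫ g)).rightDerived n.toNat).obj G else (0 : Z.Modules))),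
      (∀ n : ℤ, a.IsFinite n) ∧ SpSeq.IsBounded E ∧
      ∀ p q : ℤ, Nonempty ((E.page 2 le_rfl).X (p, q) ≅
        (if 0 ≤ p ∧ 0 ≤ q then (Coh.Rpush g p.toNat).obj (((ModSite.sheafHom (O := X.sheaf) F ⋙ Scheme.Modules.pushforward f).rightDerived q.toNat).obj G)
          else (0 : Z.Modules))) := by
  haveI := Groth.Agent.GrothSS.enoughInjectives_of_resolutions Y.Modules
  haveI : (Scheme.Modules.pushforward g).IsRightAdjoint :=
    (Scheme.Modules.pullbackPushforwardAdjunction g).isRightAdjoint
  haveI : PreservesFiniteLimits (Scheme.Modules.pushforward g) := inferInstance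
  haveI : HasInjectiveResolutions X.Modules := ‹HasInjectiveResolutions (ModSite.Mod X.sheaf)›
  refine Groth.Agent.GrothSS.exists_grothendieck_ite (Scheme.Modules.pushforward g)
    (ModSite.sheafHom (O := X.sheaf) F ⋙ Scheme.Modules.pushforward f) (fun I hI p hp => ?_) G
    (fun n => ((ModSite.sheafHom (O := X.sheaf) F ⋙ Scheme.Modules.pushforward (f ≫ g)).rightDerived n).obj G)
    (fun a b => (Coh.Rpush g a).obj
      (((ModSite.sheafHom (O := X.sheaf) F ⋙ Scheme.Modules.pushforward f).rightDerived b).obj G))
    (0 : Z.Modules) (Limits.isZero_zero _)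
    (fun n => ⟨(Groth.Agent.GrothSS.rightDerivedMapIso (Functor.associator _ _ _ ≪≫
      Functor.isoWhiskerLeft (ModSite.sheafHom (O := X.sheaf) F) (Scheme.Modules.pushforwardComp f g)) n).app G⟩)
    (fun a b => ⟨Iso.refl _⟩)
  obtain ⟨p, rfl⟩ : ∃ r, p = r + 1 := ⟨p - 1, by omega⟩
  haveI := Groth.Agent.GrothSS.preservesFiniteLimits_opensPullback f.base
  let H := (ModSite.sheafHom (O := X.sheaf) F).obj I
  obtain ⟨e⟩ := Groth.Agent.CohQC.toAb_rpush_iso g ((Scheme.Modules.pushforward f).obj H) (p + 1)
  have hH := Groth.Agent.ModSiteHom.isTotallyAcyclic_sheafHom_injective (O := X.sheaf) F I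
  have hz : Limits.IsZero ((Coh.RpushAb g (p + 1)).obj (Coh.toAb ((Scheme.Modules.pushforward f).obj H))) :=
    Groth.Agent.SiteCoh.isZero_rpush_of_acyclic (u := TopologicalSpace.Opens.map g.base) (p + 1) fun W =>
      Groth.Agent.SiteCoh.push_acyclic (TopologicalSpace.Opens.map f.base) p (Coh.toAb H)
        (fun U r => Groth.Agent.SiteCoh.hu_of_totallyAcyclic hH U r) ((TopologicalSpace.Opens.map g.base).obj W)
  rw [Limits.IsZero.iff_id_eq_zero]
  apply (SheafOfModules.toSheaf Z.ringCatSheaf).map_injective
  exact (hz.of_iso e).eq_of_src _ _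

end Groth.Agent.S16283
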