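import Groth.Statements.S16287
import Mathlib
import Groth.Agent.LCZ.Classes
-- import your own Groth.Agent.* helpers here

set_option autoImplicit false
universe u
open CategoryTheory CategoryTheory.Limits TopologicalSpace
open LocCohZ

namespace Groth.Agent.S16287

/-- Let X be a topological space, F an abelian sheaf on X, and U, U' open subsets with closed
complements Z = X ∖ U and Z' = X ∖ U' (so Z ∩ Z' = X ∖ (U ∪ U') and Z ∪ Z' = X ∖ (U ∩ U')). With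
H^i_{X∖W}(X, F) = Ext^i(Z_X/Z_W, F) and the enlargement-of-support maps r : H^i_{Z∩Z'} → H^i_Z, r' :
H^i_{Z∩Z'} → H^i_{Z'}, s : H^i_Z → H^i_{Z∪Z'}, s' : H^i_{Z'} → H^i_{Z∪Z'}: the map H^0_{Z∩Z'} →
H^0_Z ⊕ H^0_{Z'}, x ↦ (r x, r' x), is injective, and there are connecting homomorphisms δ_i :
H^i_{Z∪Z'}(X, F) → H^{i+1}_{Z∩Z'}(X, F) such that for every i the sequence H^i_{Z∩Z'} → H^i_Z ⊕
H^i_{Z'} → H^i_{Z∪Z'} → H^{i+1}_{Z∩Z'} → H^{i+1}_Z ⊕ H^{i+1}_{Z'} is exact, the middle map being (y,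
y') ↦ s y − s' y'. -/
theorem result {X : TopCat.{u}} (F : CohTop.Ab X) (U U' : Opens X) :
    Function.Injective (fun x : LocCohZ.HZc F 0 (U ⊔ U') =>
      (LocCohZ.resZ F 0 (le_top : U ⊔ U' ≤ ⊤) (le_top : U ≤ ⊤) le_sup_left le_rfl x,
       LocCohZ.resZ F 0 (le_top : U ⊔ U' ≤ ⊤) (le_top : U' ≤ ⊤) le_sup_right le_rfl x)) ∧
    ∃ δ : ∀ i : ℕ, LocCohZ.HZc F i (U ⊓ U') →+ LocCohZ.HZc F (i + 1) (U ⊔ U'),
      ∀ i : ℕ,
        (∀ y : LocCohZ.HZc F i U × LocCohZ.HZc F i U',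
          LocCohZ.resZ F i (le_top : U ≤ ⊤) (le_top : U ⊓ U' ≤ ⊤) inf_le_left le_rfl y.1 -
              LocCohZ.resZ F i (le_top : U' ≤ ⊤) (le_top : U ⊓ U' ≤ ⊤) inf_le_right le_rfl y.2 = 0 ↔
            ∃ x : LocCohZ.HZc F i (U ⊔ U'),
              LocCohZ.resZ F i (le_top : U ⊔ U' ≤ ⊤) (le_top : U ≤ ⊤) le_sup_left le_rfl x = y.1 ∧
              LocCohZ.resZ F i (le_top : U ⊔ U' ≤ ⊤) (le_top : U' ≤ ⊤) le_sup_right le_rfl x = y.2) ∧
        (∀ w : LocCohZ.HZc F i (U ⊓ U'),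
          δ i w = 0 ↔ ∃ y : LocCohZ.HZc F i U × LocCohZ.HZc F i U',
            LocCohZ.resZ F i (le_top : U ≤ ⊤) (le_top : U ⊓ U' ≤ ⊤) inf_le_left le_rfl y.1 -
              LocCohZ.resZ F i (le_top : U' ≤ ⊤) (le_top : U ⊓ U' ≤ ⊤) inf_le_right le_rfl y.2 = w) ∧
        (∀ x : LocCohZ.HZc F (i + 1) (U ⊔ U'),
          (LocCohZ.resZ F (i + 1) (le_top : U ⊔ U' ≤ ⊤) (le_top : U ≤ ⊤) le_sup_left le_rfl x = 0 ∧
            LocCohZ.resZ F (i + 1) (le_top : U ⊔ U' ≤ ⊤) (le_top : U' ≤ ⊤) le_sup_right le_rfl x = 0) ↔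
            ∃ w : LocCohZ.HZc F i (U ⊓ U'), δ i w = x) := by
  classical
  let q₁ := LocCohZ.zqMap (le_top : U ⊔ U' ≤ ⊤) (le_top : U ≤ ⊤) le_sup_left le_rfl
  let q₂ := LocCohZ.zqMap (le_top : U ⊔ U' ≤ ⊤) (le_top : U' ≤ ⊤) le_sup_right le_rfl
  let m₁ := LocCohZ.zqMap (le_top : U ≤ ⊤) (le_top : U ⊓ U' ≤ ⊤) inf_le_left le_rfl
  let m₂ := LocCohZ.zqMap (le_top : U' ≤ ⊤) (le_top : U ⊓ U' ≤ ⊤) inf_le_right le_rfl
  let S : ShortComplex (CohTop.Ab X) := ShortComplex.mk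
    (biprod.lift m₁ (-m₂)) (biprod.desc q₁ q₂) (by
      rw [biprod.lift_desc, Preadditive.neg_comp, ← sub_eq_add_neg, sub_eq_zero]
      refine Groth.Agent.LCZ.zqSec_injective (le_top : U ⊓ U' ≤ ⊤) ?_
      rw [Groth.Agent.LCZ.zqSec_zqMap, Groth.Agent.LCZ.zqSec_zqMap]
      have e₁ : Groth.Agent.LCZ.zqSec (le_top : U ≤ ⊤) q₁ = Groth.Agent.LCZ.zqSec (le_top : U ⊔ U' ≤ ⊤) (𝟙 _) := by
        rw [← Category.comp_id q₁, Groth.Agent.LCZ.zqSec_zqMap, Groth.Agent.LCZ.res_self]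
      have e₂ : Groth.Agent.LCZ.zqSec (le_top : U' ≤ ⊤) q₂ = Groth.Agent.LCZ.zqSec (le_top : U ⊔ U' ≤ ⊤) (𝟙 _) := by
        rw [← Category.comp_id q₂, Groth.Agent.LCZ.zqSec_zqMap, Groth.Agent.LCZ.res_self]
      rw [e₁, e₂])
  have hepi : Epi S.g := Preadditive.epi_of_cancel_zero _ fun g hg => by
    have h1 : q₁ ≫ g = 0 := (biprod.inl_desc_assoc q₁ q₂ g).symm.trans ((congrArg (biprod.inl ≫ ·) hg).trans comp_zero)
    refine Groth.Agent.LCZ.zqSec_injective (le_top : U ⊔ U' ≤ ⊤) ?_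
    have := congrArg (Groth.Agent.LCZ.zqSec (le_top : U ≤ ⊤)) h1
    rw [Groth.Agent.LCZ.zqSec_zqMap, Groth.Agent.LCZ.res_self, Groth.Agent.LCZ.zqSec_zero] at this
    rw [this, Groth.Agent.LCZ.zqSec_zero]
  have hmono : Mono S.f := by
    let I := Injective.under (LocCohZ.zq (le_top : U ⊓ U' ≤ ⊤))
    let φ := Injective.ι (LocCohZ.zq (le_top : U ⊓ U' ≤ ⊤))
    have : TopCat.Sheaf.IsFlasque I := Groth.Agent.SiteCoh.injective_isFlasque _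
    let s := Groth.Agent.LCZ.zqSec (le_top : U ⊓ U' ≤ ⊤) φ
    have h0 : Groth.Agent.LCZ.res I (inf_le_left : U' ⊓ U ≤ U') (Groth.Agent.LCZ.res I le_top s) = 0 := by
      rw [Groth.Agent.LCZ.res_res,
        ← Groth.Agent.LCZ.res_res I (le_top : U ⊓ U' ≤ ⊤) (le_inf inf_le_right inf_le_left : U' ⊓ U ≤ U ⊓ U'),
        Groth.Agent.LCZ.res_zqSec (le_top : U ⊓ U' ≤ ⊤) φ, map_zero]
    obtain ⟨a, ha, ha0⟩ := Groth.Agent.LCZ.exists_extension U I (le_top : U' ≤ ⊤) _ h0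
    have ha' : Groth.Agent.LCZ.res I (le_top : U ≤ ⊤) a = 0 := by
      rw [← Groth.Agent.LCZ.res_res I (inf_le_left : (⊤ : TopologicalSpace.Opens X) ⊓ U ≤ ⊤) (le_inf le_top le_rfl), ha0, map_zero]
    have hb : Groth.Agent.LCZ.res I (le_top : U' ≤ ⊤) (a - s) = 0 := by rw [map_sub, ha, sub_self]
    have e : S.f ≫ biprod.desc (Groth.Agent.LCZ.zqHom (le_top : U ≤ ⊤) a ha') (Groth.Agent.LCZ.zqHom (le_top : U' ≤ ⊤) (a - s) hb) = φ := by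
      show biprod.lift m₁ (-m₂) ≫ _ = _
      rw [biprod.lift_desc, Preadditive.neg_comp]
      refine Groth.Agent.LCZ.zqSec_injective (le_top : U ⊓ U' ≤ ⊤) ?_
      rw [Groth.Agent.LCZ.zqSec, Preadditive.comp_add, Preadditive.comp_neg, map_add, map_neg]
      show Groth.Agent.LCZ.zqSec _ (m₁ ≫ _) + -Groth.Agent.LCZ.zqSec _ (m₂ ≫ _) = _
      rw [Groth.Agent.LCZ.zqSec_zqMap, Groth.Agent.LCZ.zqSec_zqMap, Groth.Agent.LCZ.zqSec_zqHom,
        Groth.Agent.LCZ.zqSec_zqHom, Groth.Agent.LCZ.res_self, Groth.Agent.LCZ.res_self]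
      abel
    exact mono_of_mono_fac e
  have hS : S.ShortExact :=
    { exact := ShortComplex.exact_of_g_is_cokernel _ (CokernelCofork.IsColimit.ofπ' _ _ fun {G} k hk => by
        have h1 : m₁ ≫ biprod.inl ≫ k = m₂ ≫ biprod.inr ≫ k := by
          rw [← sub_eq_zero, sub_eq_add_neg, ← Preadditive.neg_comp, ← biprod.lift_desc,
            show biprod.desc (biprod.inl ≫ k) (biprod.inr ≫ k) = k from biprod.hom_ext' _ _ (by simp) (by simp)]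
          exact hk
        have h2 := congrArg (Groth.Agent.LCZ.zqSec (le_top : U ⊓ U' ≤ ⊤)) h1
        rw [Groth.Agent.LCZ.zqSec_zqMap, Groth.Agent.LCZ.zqSec_zqMap, Groth.Agent.LCZ.res_self, Groth.Agent.LCZ.res_self] at h2
        let a := Groth.Agent.LCZ.zqSec (le_top : U ≤ ⊤) (biprod.inl ≫ k)
        have ha : Groth.Agent.LCZ.res G (le_top : U ⊔ U' ≤ ⊤) a = 0 :=
          TopCat.Sheaf.eq_of_locally_eq₂ G (homOfLE le_sup_left) (homOfLE le_sup_right) le_rfl _ _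
            (((Groth.Agent.LCZ.res_res G (le_top : U ⊔ U' ≤ ⊤) le_sup_left a).trans
              (Groth.Agent.LCZ.res_zqSec (le_top : U ≤ ⊤) _)).trans (map_zero _).symm)
            (((Groth.Agent.LCZ.res_res G (le_top : U ⊔ U' ≤ ⊤) le_sup_right a).trans
              ((congrArg (Groth.Agent.LCZ.res G (le_top : U' ≤ ⊤)) h2).trans
                (Groth.Agent.LCZ.res_zqSec (le_top : U' ≤ ⊤) _))).trans (map_zero _).symm)
        refine ⟨Groth.Agent.LCZ.zqHom _ a ha, biprod.hom_ext' _ _ ?_ ?_⟩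
        · refine Groth.Agent.LCZ.zqSec_injective (le_top : U ≤ ⊤) ?_
          erw [biprod.inl_desc_assoc]
          rw [Groth.Agent.LCZ.zqSec_zqMap, Groth.Agent.LCZ.zqSec_zqHom, Groth.Agent.LCZ.res_self]
        · refine Groth.Agent.LCZ.zqSec_injective (le_top : U' ≤ ⊤) ?_
          erw [biprod.inr_desc_assoc]
          rw [Groth.Agent.LCZ.zqSec_zqMap, Groth.Agent.LCZ.zqSec_zqHom, Groth.Agent.LCZ.res_self]
          exact h2) }
  have hj : ∀ (n : ℕ) (z : Abelian.Ext S.X₂ F n) (y : LocCohZ.HZc F n U) (y' : LocCohZ.HZc F n U'),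
      (Abelian.Ext.mk₀ biprod.inl).comp z (zero_add n) = y → (Abelian.Ext.mk₀ biprod.inr).comp z (zero_add n) = y' →
      (Abelian.Ext.mk₀ S.f).comp z (zero_add n) =
        LocCohZ.resZ F n (le_top : U ≤ ⊤) (le_top : U ⊓ U' ≤ ⊤) inf_le_left le_rfl y -
          LocCohZ.resZ F n (le_top : U' ≤ ⊤) (le_top : U ⊓ U' ≤ ⊤) inf_le_right le_rfl y' := by
    intro n z y y' hy hy'
    subst hy hy'
    show (Abelian.Ext.mk₀ (biprod.lift m₁ (-m₂))).comp z (zero_add n) = (Abelian.Ext.mk₀ m₁).comp _ (zero_add n) - (Abelian.Ext.mk₀ m₂).comp _ (zero_add n)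
    rw [show biprod.lift m₁ (-m₂) = m₁ ≫ biprod.inl + (-(m₂ ≫ biprod.inr)) from by
      refine biprod.hom_ext _ _ ?_ ?_ <;> simp, Abelian.Ext.mk₀_add, Abelian.Ext.add_comp, Abelian.Ext.mk₀_neg, Abelian.Ext.neg_comp,
      Abelian.Ext.mk₀_comp_mk₀_assoc, Abelian.Ext.mk₀_comp_mk₀_assoc, sub_eq_add_neg]
  have hpair : ∀ (n : ℕ) (y : LocCohZ.HZc F n U) (y' : LocCohZ.HZc F n U'), ∃ z : Abelian.Ext S.X₂ F n,
      (Abelian.Ext.mk₀ biprod.inl).comp z (zero_add n) = y ∧ (Abelian.Ext.mk₀ biprod.inr).comp z (zero_add n) = y' := by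
    intro n y y'
    refine ⟨(Abelian.Ext.mk₀ biprod.fst).comp y (zero_add n) + (Abelian.Ext.mk₀ biprod.snd).comp y' (zero_add n), ?_, ?_⟩
    · rw [Abelian.Ext.comp_add, Abelian.Ext.mk₀_comp_mk₀_assoc, Abelian.Ext.mk₀_comp_mk₀_assoc, biprod.inl_fst,
        biprod.inl_snd, Abelian.Ext.mk₀_id_comp, Abelian.Ext.mk₀_zero, Abelian.Ext.zero_comp, add_zero]
    · rw [Abelian.Ext.comp_add, Abelian.Ext.mk₀_comp_mk₀_assoc, Abelian.Ext.mk₀_comp_mk₀_assoc, biprod.inr_fst,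
        biprod.inr_snd, Abelian.Ext.mk₀_id_comp, Abelian.Ext.mk₀_zero, Abelian.Ext.zero_comp, zero_add]
  have hext : ∀ (n : ℕ) (z : Abelian.Ext S.X₂ F n), (Abelian.Ext.mk₀ biprod.inl).comp z (zero_add n) = 0 →
      (Abelian.Ext.mk₀ biprod.inr).comp z (zero_add n) = 0 → z = 0 := by
    intro n z h1 h2
    rw [← Abelian.Ext.mk₀_id_comp z, ← biprod.total, Abelian.Ext.mk₀_add, Abelian.Ext.add_comp,
      ← Abelian.Ext.mk₀_comp_mk₀_assoc, ← Abelian.Ext.mk₀_comp_mk₀_assoc, h1, h2, Abelian.Ext.comp_zero, Abelian.Ext.comp_zero, add_zero]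
  have hg₁ : ∀ (n : ℕ) (x : LocCohZ.HZc F n (U ⊔ U')), (Abelian.Ext.mk₀ biprod.inl).comp ((Abelian.Ext.mk₀ S.g).comp x (zero_add n)) (zero_add n) =
      LocCohZ.resZ F n (le_top : U ⊔ U' ≤ ⊤) (le_top : U ≤ ⊤) le_sup_left le_rfl x := fun n x => by
    rw [Abelian.Ext.mk₀_comp_mk₀_assoc, show biprod.inl ≫ S.g = q₁ from biprod.inl_desc _ _]
    rfl
  have hg₂ : ∀ (n : ℕ) (x : LocCohZ.HZc F n (U ⊔ U')), (Abelian.Ext.mk₀ biprod.inr).comp ((Abelian.Ext.mk₀ S.g).comp x (zero_add n)) (zero_add n) =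
      LocCohZ.resZ F n (le_top : U ⊔ U' ≤ ⊤) (le_top : U' ≤ ⊤) le_sup_right le_rfl x := fun n x => by
    rw [Abelian.Ext.mk₀_comp_mk₀_assoc, show biprod.inr ≫ S.g = q₂ from biprod.inr_desc _ _]
    rfl
  refine ⟨fun x x' e => ?_, fun i => hS.extClass.precomp F (Nat.add_comm 1 i), fun i => ⟨fun y => ⟨?_, ?_⟩, fun w => ⟨?_, ?_⟩, fun x => ⟨?_, ?_⟩⟩⟩
  · obtain ⟨φ, rfl⟩ := (Abelian.Ext.mk₀_bijective _ _).2 x
    obtain ⟨ψ, rfl⟩ := (Abelian.Ext.mk₀_bijective _ _).2 x'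
    have e1 := congrArg Prod.fst e
    change (Abelian.Ext.mk₀ q₁).comp (Abelian.Ext.mk₀ φ) (zero_add 0) = (Abelian.Ext.mk₀ q₁).comp (Abelian.Ext.mk₀ ψ) (zero_add 0) at e1
    rw [Abelian.Ext.mk₀_comp_mk₀, Abelian.Ext.mk₀_comp_mk₀] at e1
    have e2 := congrArg (Groth.Agent.LCZ.zqSec (le_top : U ≤ ⊤)) ((Abelian.Ext.mk₀_bijective _ _).1 e1)
    rw [Groth.Agent.LCZ.zqSec_zqMap, Groth.Agent.LCZ.zqSec_zqMap, Groth.Agent.LCZ.res_self, Groth.Agent.LCZ.res_self] at e2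
    rw [Groth.Agent.LCZ.zqSec_injective _ e2]
  · intro h
    obtain ⟨z, hz1, hz2⟩ := hpair i y.1 y.2
    obtain ⟨x, hx⟩ := Abelian.Ext.contravariant_sequence_exact₂ hS F z ((hj i z _ _ hz1 hz2).trans h)
    exact ⟨x, by rw [← hg₁, hx, hz1], by rw [← hg₂, hx, hz2]⟩
  · rintro ⟨x, h1, h2⟩
    refine ((hj i _ y.1 y.2 ((hg₁ i x).trans h1) ((hg₂ i x).trans h2)).symm.trans ?_)
    rw [Abelian.Ext.mk₀_comp_mk₀_assoc, S.zero, Abelian.Ext.mk₀_zero, Abelian.Ext.zero_comp]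
  · intro h
    obtain ⟨z, hz⟩ := Abelian.Ext.contravariant_sequence_exact₁ hS F w (Nat.add_comm 1 i) h
    exact ⟨((Abelian.Ext.mk₀ biprod.inl).comp z (zero_add i), (Abelian.Ext.mk₀ biprod.inr).comp z (zero_add i)), (hj i z _ _ rfl rfl).symm.trans hz⟩
  · rintro ⟨y, rfl⟩
    obtain ⟨z, hz1, hz2⟩ := hpair i y.1 y.2
    rw [← hj i z _ _ hz1 hz2]
    exact hS.extClass_comp_assoc z (h := Nat.add_comm 1 i)
  · rintro ⟨h1, h2⟩
    exact Abelian.Ext.contravariant_sequence_exact₃ hS F x (hext (i + 1) _ ((hg₁ _ x).trans h1) ((hg₂ _ x).trans h2)) (Nat.add_comm 1 i)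
  · rintro ⟨w, rfl⟩
    have h0 : (Abelian.Ext.mk₀ S.g).comp (hS.extClass.comp w (Nat.add_comm 1 i)) (zero_add (i + 1)) = 0 :=
      hS.comp_extClass_assoc w _
    exact ⟨(hg₁ _ _).symm.trans ((congrArg (fun t => (Abelian.Ext.mk₀ biprod.inl).comp t (zero_add (i + 1))) h0).trans (Abelian.Ext.comp_zero _ _ _ _ _)),
      (hg₂ _ _).symm.trans ((congrArg (fun t => (Abelian.Ext.mk₀ biprod.inr).comp t (zero_add (i + 1))) h0).trans (Abelian.Ext.comp_zero _ _ _ _ _))⟩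

end Groth.Agent.S16287
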