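import Groth.Statements.S16289
import Groth.Agent.ExtShX.Rel

set_option autoImplicit false
set_option linter.style.haveILetI false
set_option backward.isDefEq.respectTransparency false
set_option backward.isDefEq.respectTransparency.types false
universe u
open CategoryTheory CategoryTheory.Limits AlgebraicGeometry
open Coherent

namespace Groth.Agent.S16289

/-- For relative Ext sheaves in the first variable; let f : X → Y be a morphism of schemes, 0 → F' → F →
F'' → 0 a short exact sequence of O_X-modules (S below, with S.X₁ = F', S.X₂ = F, S.X₃ = F'') and G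
an O_X-module. For an O_X-module M write Ext^p_f(M, -) for the p-th right derived functor of the
left exact functor G ↦ f_* Hom_{O_X}(M, G), and for u : M' → M write u^* : Ext^p_f(M, G) →
Ext^p_f(M', G) for the map induced (right derived natural transformation) by Hom(M, -) → Hom(M', -).
Then Ext^0_f(F'', G) → Ext^0_f(F, G) is a monomorphism, for every p the pair Ext^p_f(F'', G) →
Ext^p_f(F, G) → Ext^p_f(F', G) composes to zero and is exact, and there are connecting morphisms δ_p
: Ext^p_f(F', G) → Ext^{p+1}_f(F'', G) making Ext^p_f(F, G) → Ext^p_f(F', G) → Ext^{p+1}_f(F'', G)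
and Ext^p_f(F', G) → Ext^{p+1}_f(F'', G) → Ext^{p+1}_f(F, G) compose to zero and exact. (Stated for
schemes, the published statement being for ringed spaces; the connecting maps are asserted to exist
only. The internal Hom functors, injective resolutions and additivity of the composite functors are
the stated instance hypotheses, all true.) -/
theorem result (X Y : Scheme.{u}) (f : X ⟶ Y) (S : ShortComplex X.Modules) (hS : S.ShortExact)
    (G : X.Modules)
    [ModSite.HasSheafHom (O := X.sheaf) S.X₁] [ModSite.HasSheafHom (O := X.sheaf) S.X₂] [ModSite.HasSheafHom (O := X.sheaf) S.X₃]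
    [HasInjectiveResolutions (ModSite.Mod X.sheaf)]
    [(ModSite.sheafHom (O := X.sheaf) S.X₁ ⋙ Scheme.Modules.pushforward f).Additive]
    [(ModSite.sheafHom (O := X.sheaf) S.X₂ ⋙ Scheme.Modules.pushforward f).Additive]
    [(ModSite.sheafHom (O := X.sheaf) S.X₃ ⋙ Scheme.Modules.pushforward f).Additive] :
    Mono ((NatTrans.rightDerived (Functor.whiskerRight (ExtSupp.sheafHomMap (O := X.sheaf) S.g) (Scheme.Modules.pushforward f)) 0).app G) ∧
    (∀ p : ℕ, ∃ w : (NatTrans.rightDerived (Functor.whiskerRight (ExtSupp.sheafHomMap (O := X.sheaf) S.g) (Scheme.Modules.pushforward f)) p).app G ≫ (NatTrans.rightDerived (Functor.whiskerRight (ExtSupp.sheafHomMap (O := X.sheaf) S.f) (Scheme.Modules.pushforward f)) p).app G = 0,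
      (ShortComplex.mk _ _ w).Exact) ∧
    ∃ δ : ∀ p : ℕ, ((ModSite.sheafHom (O := X.sheaf) S.X₁ ⋙ Scheme.Modules.pushforward f).rightDerived p).obj G ⟶ ((ModSite.sheafHom (O := X.sheaf) S.X₃ ⋙ Scheme.Modules.pushforward f).rightDerived (p + 1)).obj G,
      ∀ p : ℕ,
        (∃ w : (NatTrans.rightDerived (Functor.whiskerRight (ExtSupp.sheafHomMap (O := X.sheaf) S.f) (Scheme.Modules.pushforward f)) p).app G ≫ δ p = 0, (ShortComplex.mk _ _ w).Exact) ∧
        (∃ w : δ p ≫ (NatTrans.rightDerived (Functor.whiskerRight (ExtSupp.sheafHomMap (O := X.sheaf) S.g) (Scheme.Modules.pushforward f)) (p + 1)).app G = 0, (ShortComplex.mk _ _ w).Exact) := by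
  haveI : PreservesFiniteLimits (Scheme.Modules.pushforward f) := by
    haveI : PreservesLimitsOfSize.{0, 0} (Scheme.Modules.pushforward f) :=
      (Scheme.Modules.pullbackPushforwardAdjunction f).rightAdjoint_preservesLimits
    infer_instance
  let P := Scheme.Modules.pushforward f
  have hP := ExtShX.good_pushforward (X := X) f
  have sq : ∀ {M M' : X.Modules} [ModSite.HasSheafHom (O := X.sheaf) M] [ModSite.HasSheafHom (O := X.sheaf) M']
      (φ : M' ⟶ M) [(ModSite.sheafHom (O := X.sheaf) M ⋙ Scheme.Modules.pushforward f).Additive]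
      [(ModSite.sheafHom (O := X.sheaf) M' ⋙ Scheme.Modules.pushforward f).Additive] (p : ℕ),
      (NatTrans.rightDerived (Functor.whiskerRight (ExtSupp.sheafHomMap (O := X.sheaf) φ) (Scheme.Modules.pushforward f)) p).app G ≫
        ((ExtShX.relR P M' p).app G).hom = ((ExtShX.relR P M p).app G).hom ≫
          (NatTrans.rightDerived (ExtShX.preP P φ) p).app G := fun φ _ _ p =>
    congrArg (fun t => NatTrans.app t G) (ExtShX.relR_natural P φ p)
  refine ⟨?_, fun p => ?_, fun p => ((ExtShX.relR P S.X₁ p).app G).hom ≫ ExtShX.connP P hS G hP p ≫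
    ((ExtShX.relR P S.X₃ (p + 1)).app G).inv, fun p => ⟨?_, ?_⟩⟩
  · haveI := ExtShX.mono_preP_zero P hS G hP
    haveI : Mono (((ExtShX.relR P S.X₃ 0).app G).hom ≫ (NatTrans.rightDerived (ExtShX.preP P S.g) 0).app G) :=
      mono_comp _ _
    exact mono_of_mono_fac (sq S.g 0)
  · obtain ⟨w, hw⟩ := ExtShX.exact_preP P hS G hP p
    exact ExtShX.exact_transfer _ _ _ (sq S.g p) (sq S.f p) w hw
  · obtain ⟨w, hw⟩ := ExtShX.exact_connP₁ P hS G hP p
    exact ExtShX.exact_transfer _ _ ((ExtShX.relR P S.X₃ (p + 1)).app G) (sq S.f p)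
      ((Category.assoc _ _ _).trans (congrArg (_ ≫ ·) ((Category.assoc _ _ _).trans
        ((congrArg (_ ≫ ·) (Iso.inv_hom_id _)).trans (Category.comp_id _))))) w hw
  · obtain ⟨w, hw⟩ := ExtShX.exact_connP₂ P hS G hP p
    exact ExtShX.exact_transfer _ ((ExtShX.relR P S.X₃ (p + 1)).app G) _
      ((Category.assoc _ _ _).trans (congrArg (_ ≫ ·) ((Category.assoc _ _ _).trans
        ((congrArg (_ ≫ ·) (Iso.inv_hom_id _)).trans (Category.comp_id _))))) (sq S.g (p + 1)) w hw

end Groth.Agent.S16289
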