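import Groth.Statements.S16291
import Groth.Agent.DualGeneric.DivDeg
import Groth.Agent.DualGeneric.H1Vanish
import Groth.Agent.NodalRed.Basic
-- import your own Groth.Agent.* helpers here

set_option autoImplicit false
set_option backward.isDefEq.respectTransparency false
set_option backward.isDefEq.respectTransparency.types false
set_option maxHeartbeats 1000000
universe u
open CategoryTheory CategoryTheory.Limits AlgebraicGeometry
attribute [local instance] HasDerivedCategory.standard
open Curves

namespace Groth.Agent.S16291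

/-- Let k be an algebraically closed field and (X, D) a stable n-pointed curve over k, taken in the
form: X is proper and connected over k, of dimension 1, with at-worst-nodal singularities; D ⊆ X is
a finite closed set of points each having an open neighbourhood smooth over k (the marked points);
ω_X is the dualizing module of X (degree -1 cohomology sheaf of f^! O for the structure morphism f,
for any choice of the data Rf_* on D_QCoh with its right adjoint); L_D is an invertible module with
L_D ⊗ I_D ≅ O_X, where I_D is the ideal sheaf of D with its reduced structure (so L_D plays the role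
of O_X(D)); and the invertible module ω_X(D) := ω_X ⊗ L_D is ample (stability). Then H^1(X,
ω_X(D)^{⊗m}) = 0 for every m ≥ 2. -/
theorem result (k : Type u) [Field k] [IsAlgClosed k] (X : Scheme.{u}) [X.Over (Spec (CommRingCat.of k))]
    [IsProper (X ↘ (Spec (CommRingCat.of k)))] [ConnectedSpace X] (hdim : topologicalKrullDim X = 1) (hX : Curv2.AtWorstNodal k X)
    [DCoh.HasRpush (X ↘ (Spec (CommRingCat.of k)))] (h : DCoh.RpushPreservesQCoh (X ↘ (Spec (CommRingCat.of k)))) [DCoh.HasShriek (X ↘ (Spec (CommRingCat.of k))) h]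
    (OY : DCoh.DQCoh (Spec (CommRingCat.of k))) (hOY : Nonempty (OY.obj ≅ DCoh.inD (Spec (CommRingCat.of k)) (Coh.structureModule (Spec (CommRingCat.of k)))))
    (D : Set X) (hDfin : D.Finite) (hDcl : IsClosed D) (hDsm : ∀ x ∈ D, ∃ U : X.Opens, x ∈ U ∧ Smooth (U.ι ≫ (X ↘ (Spec (CommRingCat.of k)))))
    (LD : X.Modules) (hLD : PicF.IsInvertible LD)
    (hinv : ClSub.IsInverseOf LD (ClSub.idealMod (Scheme.IdealSheafData.vanishingIdeal (⟨D, hDcl⟩ : TopologicalSpace.Closeds X))))
    (hst : CohB1.IsAmple (CohB1.tensorMod (DCoh.dualizingMod (X ↘ (Spec (CommRingCat.of k))) h OY 1) LD))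
    (m : ℕ) (hm : 2 ≤ m) :
    Subsingleton (Coh.HH X (CohB1.tensorPow (CohB1.tensorMod (DCoh.dualizingMod (X ↘ (Spec (CommRingCat.of k))) h OY 1) LD) m) 1) := by
  obtain ⟨eO⟩ := hOY
  haveI := CurveRR.isNoetherian_of_proper k X
  haveI : JacobsonSpace X := LocallyOfFiniteType.jacobsonSpace (X ↘ Spec (CommRingCat.of k))
  haveI : ∀ x : X, _root_.IsReduced (X.presheaf.stalk x) := NodalRed.isReduced_stalk k X hX
  haveI : AlgebraicGeometry.IsReduced X := isReduced_of_isReduced_stalk X
  obtain ⟨e⟩ := hinv
  let ω := DCoh.dualizingMod (X ↘ Spec (CommRingCat.of k)) h OY 1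
  let ID := Scheme.IdealSheafData.vanishingIdeal (⟨D, hDcl⟩ : TopologicalSpace.Closeds X)
  let M := CohB1.tensorMod ω LD
  have hM : PicF.IsInvertible M := hst.1
  have hI : PicF.IsInvertible (ClSub.idealMod ID) :=
    Groth.Agent.S2122.result _ LD (TMul.commIso _ LD ≪≫ e)
  have hω : PicF.IsInvertible ω :=
    ParaFLib.isInvertible_of_iso (SerrePn.untw e ω) (TMul.isInvertible_tensorMod hM hI)
  refine DualGeneric.subsingleton_hh1 k (DCoh.shriekAdj (X ↘ Spec (CommRingCat.of k)) h) OY eO hdim.le hω
    (TMul.isInvertible_tensorPow hM m) fun C hC => ?_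
  haveI := DualGeneric.isIntegral_component C hC
  let J := (X.irreducibleComponentIdeal C hC).radical
  have h1 := DualGeneric.dim_component_eq_one k hdim C hC
  have hpos : 0 < CurveRR.Multi.degOn k J 1 M := (CurveRR.Multi.isAmple_iff k hdim.le hM).1 hst C hC h1
  have hLDpos : 0 ≤ CurveRR.Multi.degOn k J 1 LD := by
    refine DualGeneric.degOn_nonneg_of_inverse k ID J hdim.le hLD e fun hy => ?_
    have hr : Set.range J.subschemeι = C := by
      rw [show J = Scheme.IdealSheafData.vanishingIdeal _ from CurveRR.Multi.radical_component ⟨C, hC⟩,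
        DvrDom.range_vanishingIdeal_subschemeι]
      exact (hC.1.isGenericPoint_genericPoint (isClosed_of_mem_irreducibleComponents _ hC)).def
    have hgen : IsGenericPoint (J.subschemeι (genericPoint J.subscheme)) C := by
      have := (genericPoint_spec J.subscheme).image J.subschemeι.continuous
      rwa [Set.image_univ, hr, (isClosed_of_mem_irreducibleComponents C hC).closure_eq] at this
    refine DualGeneric.notMem_finite_of_dim_one hDcl hDfin hgen h1 ?_
    rw [← SetLike.mem_coe, Scheme.IdealSheafData.coe_support_vanishingIdeal] at hy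
    exact hy
  have h2 : CurveRR.Multi.degOn k J 1 M = CurveRR.Multi.degOn k J 1 ω + CurveRR.Multi.degOn k J 1 LD :=
    DualGeneric.degOn_tensor k hdim.le J hω hLD
  have h3 := DualGeneric.degOn_tensorPow k hdim.le J hM m
  show CurveRR.Multi.degOn k J 1 ω < CurveRR.Multi.degOn k J 1 (CohB1.tensorPow M m)
  rw [h3]
  have hm' : (2 : ℤ) ≤ (m : ℤ) := by exact_mod_cast hm
  nlinarith

end Groth.Agent.S16291
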