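import Groth.Statements.S16293
import Groth.Agent.S16291
import Groth.Agent.DualGeneric.DegOmega
import Groth.Agent.DualGeneric.FiniteCount
-- import your own Groth.Agent.* helpers here

set_option autoImplicit false
set_option backward.isDefEq.respectTransparency false
set_option backward.isDefEq.respectTransparency.types false
set_option maxHeartbeats 1000000
universe u
open CategoryTheory CategoryTheory.Limits AlgebraicGeometry
attribute [local instance] HasDerivedCategory.standard
open Curves

namespace Groth.Agent.S16293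

/-- Let k be an algebraically closed field and (X, D) a stable n-pointed curve over k, taken in the
form: X is proper and connected over k, of dimension 1, with at-worst-nodal singularities; D ⊆ X is
a finite closed set of n points each having an open neighbourhood smooth over k; ω_X is the
dualizing module of X (degree -1 cohomology sheaf of f^! O for the structure morphism f, for any
choice of the data Rf_* on D_QCoh with its right adjoint); L_D is an invertible module with L_D ⊗
I_D ≅ O_X for the ideal sheaf I_D of D with its reduced structure; and ω_X(D) := ω_X ⊗ L_D is ample.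
Let g = dim_k H^1(X, O_X). Then for every l ≥ 2, dim_k H^0(X, ω_X(D)^{⊗l}) = l(2g - 2 + n) + 1 - g;
in particular for l = 3 it is 5g - 5 + 3n. -/
theorem result (k : Type u) [Field k] [IsAlgClosed k] (X : Scheme.{u}) [X.Over (Spec (CommRingCat.of k))]
    [IsProper (X ↘ (Spec (CommRingCat.of k)))] [ConnectedSpace X] (hdim : topologicalKrullDim X = 1) (hX : Curv2.AtWorstNodal k X)
    [DCoh.HasRpush (X ↘ (Spec (CommRingCat.of k)))] (h : DCoh.RpushPreservesQCoh (X ↘ (Spec (CommRingCat.of k)))) [DCoh.HasShriek (X ↘ (Spec (CommRingCat.of k))) h]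
    (OY : DCoh.DQCoh (Spec (CommRingCat.of k))) (hOY : Nonempty (OY.obj ≅ DCoh.inD (Spec (CommRingCat.of k)) (Coh.structureModule (Spec (CommRingCat.of k)))))
    (D : Set X) (hDfin : D.Finite) (hDcl : IsClosed D) (hDsm : ∀ x ∈ D, ∃ U : X.Opens, x ∈ U ∧ Smooth (U.ι ≫ (X ↘ (Spec (CommRingCat.of k)))))
    (LD : X.Modules) (hLD : PicF.IsInvertible LD)
    (hinv : ClSub.IsInverseOf LD (ClSub.idealMod (Scheme.IdealSheafData.vanishingIdeal (⟨D, hDcl⟩ : TopologicalSpace.Closeds X))))
    (hst : CohB1.IsAmple (CohB1.tensorMod (DCoh.dualizingMod (X ↘ (Spec (CommRingCat.of k))) h OY 1) LD))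
    (l : ℕ) (hl : 2 ≤ l) :
    (Module.finrank k (Coh.HH X (CohB1.tensorPow (CohB1.tensorMod (DCoh.dualizingMod (X ↘ (Spec (CommRingCat.of k))) h OY 1) LD) l) 0) : ℤ) =
      (l : ℤ) * (2 * (Curv2.genus k X : ℤ) - 2 + (Nat.card D : ℤ)) + 1 - (Curv2.genus k X : ℤ) := by
  have hv := Groth.Agent.S16291.result k X hdim hX h OY hOY D hDfin hDcl hDsm LD hLD hinv hst l hl
  obtain ⟨eO⟩ := hOY
  haveI := CurveRR.isNoetherian_of_proper k X
  haveI : ∀ x : X, _root_.IsReduced (X.presheaf.stalk x) := NodalRed.isReduced_stalk k X hX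
  haveI : AlgebraicGeometry.IsReduced X := isReduced_of_isReduced_stalk X
  obtain ⟨e⟩ := hinv
  let ω := DCoh.dualizingMod (X ↘ Spec (CommRingCat.of k)) h OY 1
  let ID := Scheme.IdealSheafData.vanishingIdeal (⟨D, hDcl⟩ : TopologicalSpace.Closeds X)
  let M := CohB1.tensorMod ω LD
  have hM : PicF.IsInvertible M := hst.1
  have hI : PicF.IsInvertible (ClSub.idealMod ID) :=
    Groth.Agent.S2122.result _ LD (TMul.commIso _ LD ≪≫ e)
  have hω : PicF.IsInvertible ω :=
    ParaFLib.isInvertible_of_iso (SerrePn.untw e ω) (TMul.isInvertible_tensorMod hM hI)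
  obtain ⟨t, ht⟩ := DCohShriek.exists_isRDual k (DCoh.shriekAdj (X ↘ Spec (CommRingCat.of k)) h) OY eO 1 hdim.le
  have h1 := DualGeneric.euler_dualizing k hdim.le hω ht
  have h2 := DualGeneric.deg_inverse_ideal k hdim.le hLD hI ⟨e⟩
  rw [DualGeneric.h0_quotMod_finite k hDcl hDfin] at h2
  have h3 : Curv2.euler k X (Coh.structureModule X) = 1 - (Curv2.genus k X : ℤ) := by
    rw [CurveRR.euler_eq hdim.le]
    rw [show CurveRR.h k (Coh.structureModule X) 0 = 1 from DualGeneric.h0_structure_connected k]
    rfl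
  have hMdeg := CurveRR.Multi.deg_tensor k hdim.le 1 1 ω LD (CurveRR.isFinLocFreeOfRank_one hω)
    (CurveRR.isFinLocFreeOfRank_one hLD)
  rw [Nat.mul_one, Nat.cast_one, one_mul, one_mul] at hMdeg
  have hpow : Curv2.deg k X (CohB1.tensorPow M l) 1 = (l : ℤ) * Curv2.deg k X M 1 := by
    clear hv hl
    induction l with
    | zero =>
      show Curv2.deg k X (Coh.structureModule X) 1 = _
      simp [Curv2.deg]
    | succ m ih =>
      show Curv2.deg k X (CohB1.tensorMod (CohB1.tensorPow M m) M) 1 = _
      have hmm := CurveRR.Multi.deg_tensor k hdim.le 1 1 (CohB1.tensorPow M m) M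
        (CurveRR.isFinLocFreeOfRank_one (TMul.isInvertible_tensorPow hM m)) (CurveRR.isFinLocFreeOfRank_one hM)
      rw [Nat.mul_one, Nat.cast_one, one_mul, one_mul, ih] at hmm
      rw [hmm]
      push_cast
      ring
  have hE := CurveRR.euler_eq (k := k) hdim.le (CohB1.tensorPow M l)
  rw [show CurveRR.h k (CohB1.tensorPow M l) 1 = 0 from CurveRR.h_eq_zero hv] at hE
  have hωdeg : Curv2.deg k X ω 1 = 2 * (Curv2.genus k X : ℤ) - 2 := by
    rw [Curv2.deg, h1, h3]; push_cast; ring
  rw [Curv2.deg, h3] at hpow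
  show (CurveRR.h k (CohB1.tensorPow M l) 0 : ℤ) = _
  rw [hMdeg, hωdeg, h2] at hpow
  push_cast at hpow hE ⊢
  linarith

end Groth.Agent.S16293
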