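import Groth.Statements.S16294
import Groth.Agent.DualGeneric.Marked
import Groth.Agent.NodeBr.Comp
import Groth.Agent.CurveRR.Multi2
-- import your own Groth.Agent.* helpers here

set_option autoImplicit false
set_option backward.isDefEq.respectTransparency false
set_option backward.isDefEq.respectTransparency.types false
set_option maxHeartbeats 1000000
universe u
open CategoryTheory CategoryTheory.Limits AlgebraicGeometry
attribute [local instance] HasDerivedCategory.standard
open Curves

namespace Groth.Agent.S16294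

/-- Let k be an algebraically closed field and (X, D) a semi-stable n-pointed curve over k, taken in the
form: X is proper and connected over k, of dimension 1, with at-worst-nodal singularities; D ⊆ X is
a finite closed set of points each having an open neighbourhood smooth over k; ω_X is the dualizing
module of X (degree -1 cohomology sheaf of f^! O for the structure morphism f, for any choice of the
data Rf_* on D_QCoh with its right adjoint); L_D is an invertible module with L_D ⊗ I_D ≅ O_X for
the ideal sheaf I_D of D with its reduced structure. Let (V, E, ends) be the dual graph of X over k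
(vertices = irreducible components C_v, edges = singular points, each edge joining the components
through its node). Then (X, D) is stable, i.e. ω_X ⊗ L_D is ample, if and only if for every vertex v
one has 2 p_a(C_v) - 2 + e_v + d_v > 0, where p_a(C_v) = dim_k H^1(C_v, O) for the reduced component
C_v, e_v is the number of nodes of X lying on C_v and on another component (non-loop edges at v) and
d_v is the number of marked points on C_v. (The published criterion is stated per component C̃_v of
the normalisation as 2 g(C̃_v) - 2 + n(C̃_v) > 0, n(C̃_v) counting its points over D and over the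
nodes of X; since p_a(C_v) = g(C̃_v) + (number of nodes of X lying on C_v alone) and each such node
has two preimages in C̃_v, the two counts agree.) -/
theorem result (k : Type u) [Field k] [IsAlgClosed k] (X : Scheme.{u}) [X.Over (Spec (CommRingCat.of k))]
    [IsProper (X ↘ (Spec (CommRingCat.of k)))] [ConnectedSpace X] (hdim : topologicalKrullDim X = 1) (hX : Curv2.AtWorstNodal k X)
    [DCoh.HasRpush (X ↘ (Spec (CommRingCat.of k)))] (h : DCoh.RpushPreservesQCoh (X ↘ (Spec (CommRingCat.of k)))) [DCoh.HasShriek (X ↘ (Spec (CommRingCat.of k))) h]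
    (OY : DCoh.DQCoh (Spec (CommRingCat.of k))) (hOY : Nonempty (OY.obj ≅ DCoh.inD (Spec (CommRingCat.of k)) (Coh.structureModule (Spec (CommRingCat.of k)))))
    (D : Set X) (hDfin : D.Finite) (hDcl : IsClosed D) (hDsm : ∀ x ∈ D, ∃ U : X.Opens, x ∈ U ∧ Smooth (U.ι ≫ (X ↘ (Spec (CommRingCat.of k)))))
    (LD : X.Modules) (hLD : PicF.IsInvertible LD)
    (hinv : ClSub.IsInverseOf LD (ClSub.idealMod (Scheme.IdealSheafData.vanishingIdeal (⟨D, hDcl⟩ : TopologicalSpace.Closeds X))))
    (V E : Type u) [Finite E] (cv : V → Set X) (ce : E → X) (ends : E → V × V)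
    (hΓ : DualGr.IsDualGraph (X ↘ (Spec (CommRingCat.of k))) cv ce ends) :
    CohB1.IsAmple (CohB1.tensorMod (DCoh.dualizingMod (X ↘ (Spec (CommRingCat.of k))) h OY 1) LD) ↔
      ∀ v : V, 0 < 2 * (@Curv2.genus k _ (Scheme.IdealSheafData.vanishingIdeal (⟨cv v, isClosed_of_mem_irreducibleComponents (cv v) (hΓ.comp_mem v)⟩ : TopologicalSpace.Closeds X)).subscheme ⟨(Scheme.IdealSheafData.vanishingIdeal (⟨cv v, isClosed_of_mem_irreducibleComponents (cv v) (hΓ.comp_mem v)⟩ : TopologicalSpace.Closeds X)).subschemeι ≫ (X ↘ (Spec (CommRingCat.of k)))⟩ : ℤ) - 2 +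
        (Nat.card {e : E // (ends e).1 ≠ (ends e).2 ∧ ((ends e).1 = v ∨ (ends e).2 = v)} : ℤ) +
        (Nat.card ↥(D ∩ cv v) : ℤ) := by
  haveI := CurveRR.isNoetherian_of_proper k X
  haveI : ∀ z : X, _root_.IsReduced (X.presheaf.stalk z) := NodalRed.isReduced_stalk k X hX
  haveI : AlgebraicGeometry.IsReduced X := isReduced_of_isReduced_stalk X
  have hM := DualGeneric.Marked.invertible_twist k h OY hOY hdim hX (D := ⟨D, hDcl⟩) hinv
  rw [CurveRR.Multi.isAmple_iff k hdim.le hM]
  have hrad : ∀ (C : Set X) (hC : C ∈ irreducibleComponents (X : Type u)),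
      (X.irreducibleComponentIdeal C hC).radical = DualGeneric.Sub.cI C hC := fun C hC => by
    rw [← Scheme.IdealSheafData.vanishingIdeal_support]
    exact congrArg _ (TopologicalSpace.Closeds.ext rfl)
  have hdeg : ∀ (C : Set X) (hC : C ∈ irreducibleComponents (X : Type u)),
      CurveRR.Multi.degOn k (X.irreducibleComponentIdeal C hC).radical 1
        (CohB1.tensorMod (DCoh.dualizingMod (X ↘ (Spec (CommRingCat.of k))) h OY 1) LD) =
      2 * (DualGeneric.Sub.genJ k (DualGeneric.Sub.cI C hC) : ℤ) - 2 + ((C ∩ closure Cᶜ).ncard : ℤ) + ((D ∩ C).ncard : ℤ) :=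
    fun C hC => by
      rw [hrad]
      exact DualGeneric.Marked.degJ_twist_component k h OY hOY hdim hX (D := ⟨D, hDcl⟩) hDfin hinv C hC
  have hcard : ∀ v : V, Nat.card {e : E // (ends e).1 ≠ (ends e).2 ∧ ((ends e).1 = v ∨ (ends e).2 = v)} =
      (cv v ∩ closure (cv v)ᶜ).ncard := fun v => by
    rw [← Nat.card_coe_set_eq]
    let F : {e : E // (ends e).1 ≠ (ends e).2 ∧ ((ends e).1 = v ∨ (ends e).2 = v)} → ↥(cv v ∩ closure (cv v)ᶜ) :=
      fun e => ⟨ce e.1, (NodeBr.inter_closure_compl (hΓ.comp_mem v) _).2 ⟨(hΓ.incidence e.1 v).1 e.2.2, by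
        obtain ⟨hne, h1 | h1⟩ := e.2
        · exact ⟨_, hΓ.comp_mem (ends e.1).2, fun h => hne (h1.trans (hΓ.comp_injective h).symm),
            (hΓ.incidence e.1 _).1 (Or.inr rfl)⟩
        · exact ⟨_, hΓ.comp_mem (ends e.1).1, fun h => hne ((hΓ.comp_injective h).trans h1.symm),
            (hΓ.incidence e.1 _).1 (Or.inl rfl)⟩⟩⟩
    refine Nat.card_congr (Equiv.ofBijective F ⟨fun a b hab => Subtype.ext (hΓ.pt_injective (congrArg Subtype.val hab)), ?_⟩)
    rintro ⟨x, hx⟩
    obtain ⟨hxv, C', hC', hne, hx'⟩ := (NodeBr.inter_closure_compl (hΓ.comp_mem v) x).1 hx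
    obtain ⟨w, rfl⟩ := hΓ.comp_surjective C' hC'
    obtain ⟨e, rfl⟩ := hΓ.pt_surjective x (NodeBr.mem_nonsmoothPts_of_two k (hΓ.comp_mem v) hC' hne hxv hx')
    have hv := (hΓ.incidence e v).2 hxv
    have hw := (hΓ.incidence e w).2 hx'
    refine ⟨⟨e, fun heq => hne (congrArg cv ?_), hv⟩, rfl⟩
    rcases hv with hv | hv <;> rcases hw with hw | hw
    · exact hw.symm.trans hv
    · exact hw.symm.trans (heq.symm.trans hv)
    · exact hw.symm.trans (heq.trans hv)
    · exact hw.symm.trans hv
  constructor
  · intro hA v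
    have h1 := hA (cv v) (hΓ.comp_mem v) (DualGeneric.dim_component_eq_one k hdim _ (hΓ.comp_mem v))
    rw [hdeg] at h1
    rw [hcard v, Nat.card_coe_set_eq]
    exact h1
  · intro hA C hC hd
    obtain ⟨v, rfl⟩ := hΓ.comp_surjective C hC
    have h1 := hA v
    rw [hcard v, Nat.card_coe_set_eq] at h1
    rw [hdeg]
    exact h1

end Groth.Agent.S16294
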