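import Groth.Statements.S16297
import Groth.Agent.NormGen.Apps
import Groth.Agent.PnSpec.Twist

set_option autoImplicit false
universe u
open CategoryTheory CategoryTheory.Limits AlgebraicGeometry
open Curves

namespace Groth.Agent.S16297

/-- Let k be a field and X a proper scheme over k of dimension one (not assumed reduced or irreducible)
with H^1(X, O_X) = 0, and let L be an ample invertible O_X-module. Then L is very ample: for some n
there is a closed immersion i : X → P^n_k over k with i^*O(1) isomorphic to L (existence of an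
isomorphism only). -/
theorem result (k : Type u) [Field k] (X : Scheme.{u}) [X.Over (Spec (CommRingCat.of k))]
    [IsProper (X ↘ (Spec (CommRingCat.of k)))] (hdim : topologicalKrullDim X = 1)
    (h1 : Subsingleton (Coh.HH X (Coh.structureModule X) 1))
    (L : X.Modules) (hA : CohB1.IsAmple L) :
    ∃ (n : ℕ) (i : X ⟶ CohB1.ProjSpace n k), IsClosedImmersion i ∧
      i ≫ CohB1.ProjSpace.toSpec n k = X ↘ (Spec (CommRingCat.of k)) ∧
      Nonempty ((Scheme.Modules.pullback i).obj (Twist.twistProjSpace n k 1) ≅ L) := by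
  have hd : ∀ y, topologicalKrullDim ↥((X ↘ Spec (CommRingCat.of k)).fiber y) ≤ 1 := fun y => by
    rw [IsHomeomorph.topologicalKrullDim_eq _ ((X ↘ Spec (CommRingCat.of k)).fiberHomeo y).isHomeomorph]
    exact (topologicalKrullDim_subspace_le X _).trans hdim.le
  obtain ⟨n, i, hi, hif, ⟨φ⟩⟩ := Groth.Agent.NormGen.isRelVeryAmplePn_of_h1_trivial hd h1 hA
  obtain ⟨e, he, ht⟩ := Groth.Agent.PnSpec.exists_iso_twist n k
  obtain ⟨t⟩ := ht 1
  haveI := hi
  have hcomp : (i ≫ e.inv) ≫ CohB1.ProjSpace.toSpec n k = X ↘ Spec (CommRingCat.of k) := by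
    rw [← he, Category.assoc, Iso.inv_hom_id_assoc]
    exact hif
  haveI : IsProper ((i ≫ e.inv) ≫ CohB1.ProjSpace.toSpec n k) := by rw [hcomp]; infer_instance
  haveI : IsSeparated (CohB1.ProjSpace.toSpec n k) := by
    haveI := ProjMor.isProper_toSpec n k
    infer_instance
  haveI : IsProper (i ≫ e.inv) := IsProper.of_comp (i ≫ e.inv) (CohB1.ProjSpace.toSpec n k)
  refine ⟨n, i ≫ e.inv, IsClosedImmersion.of_isPreimmersion _ (i ≫ e.inv).isClosedMap.isClosed_range, hcomp, ⟨?_⟩⟩
  exact (Scheme.Modules.pullback (i ≫ e.inv)).mapIso t.symm ≪≫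
    (Scheme.Modules.pullbackComp (i ≫ e.inv) e.hom).app _ ≪≫
    (Scheme.Modules.pullbackCongr (by rw [Category.assoc, Iso.inv_hom_id, Category.comp_id])).app _ ≪≫ φ.symm

end Groth.Agent.S16297
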