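import Groth.Statements.S16298
import Groth.Agent.S1602
import Groth.Agent.S1585
import Groth.Agent.DualGeneric.DegOmega
import Groth.Agent.RefStalk.Coherent
-- import your own Groth.Agent.* helpers here

set_option autoImplicit false
set_option backward.isDefEq.respectTransparency false
set_option backward.isDefEq.respectTransparency.types false
set_option maxHeartbeats 1000000
universe u
open CategoryTheory CategoryTheory.Limits AlgebraicGeometry
open Curves

namespace Groth.Agent.S16298

/-- Let k be a field and X a genus-zero curve over k, that is, an integral scheme proper over k of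
dimension one with H^1(X, O_X) = 0. Then the normalization Y of X again satisfies H^1(Y, O_Y) = 0,
so Y is again a genus-zero curve. (The two instance binders on the morphism from the generic point
always hold; they are only needed to form the normalization.) -/
theorem result (k : Type u) [Field k] (X : Scheme.{u}) [X.Over (Spec (CommRingCat.of k))]
    [IsIntegral X] [IsProper (X ↘ (Spec (CommRingCat.of k)))] (hdim : topologicalKrullDim X = 1)
    (h1 : Subsingleton (Coh.HH X (Coh.structureModule X) 1))
    [QuasiCompact (X.fromSpecStalk (genericPoint X))] [QuasiSeparated (X.fromSpecStalk (genericPoint X))] :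
    Subsingleton (Coh.HH (Curv2.normalization X) (Coh.structureModule (Curv2.normalization X)) 1) := by
  haveI : LocallyOfFiniteType (X ↘ (Spec (CommRingCat.of k))) := inferInstance
  obtain ⟨hfin, hdom, ⟨V, hV, hiso⟩, hint, -⟩ := Groth.Agent.S1585.result k X
  haveI := hfin
  haveI := hdom
  haveI := hint
  letI : (Curv2.normalization X).Over (Spec (CommRingCat.of k)) :=
    ⟨Curv2.normalizationι X ≫ (X ↘ (Spec (CommRingCat.of k)))⟩
  haveI : IsProper ((Curv2.normalization X) ↘ (Spec (CommRingCat.of k))) :=
    inferInstanceAs (IsProper (Curv2.normalizationι X ≫ (X ↘ (Spec (CommRingCat.of k)))))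
  have hU : Dense (V : Set X) := V.2.dense hV
  have hU' : Dense ((Curv2.normalizationι X ⁻¹ᵁ V : (Curv2.normalization X).Opens) : Set (Curv2.normalization X)) := by
    refine (Curv2.normalizationι X ⁻¹ᵁ V).2.dense ?_
    obtain ⟨x, hx, y, hy⟩ := (Scheme.Hom.denseRange (Curv2.normalizationι X)).inter_open_nonempty _ V.2 hV
    exact ⟨y, show Curv2.normalizationι X y ∈ V from hy ▸ hx⟩
  haveI := Groth.Agent.CurveRR.isNoetherian_of_proper k (Curv2.normalization X)
  have h := Groth.Agent.S1602.result k X (Curv2.normalization X) hdim.le (Curv2.normalizationι X) rfl V hU hU' hiso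
  haveI := Groth.Agent.CohFinite.finite_proper k (Curv2.normalization X) (Coh.structureModule _)
    Groth.Agent.RefStalk.isCoh_structureModule 1
  haveI := h1
  have h0 : Curv2.genus k X = 0 := Module.finrank_zero_of_subsingleton
  exact Module.finrank_zero_iff.1 (Nat.le_zero.1 (h.trans h0.le))

end Groth.Agent.S16298
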