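import Groth.Statements.S16299
import Groth.Agent.DualGeneric.SubE
import Groth.Agent.CurveRR.GlobGen
-- import your own Groth.Agent.* helpers here

set_option autoImplicit false
set_option backward.isDefEq.respectTransparency false
set_option backward.isDefEq.respectTransparency.types false
set_option maxHeartbeats 1000000
universe u
open CategoryTheory CategoryTheory.Limits AlgebraicGeometry
open Curves

namespace Groth.Agent.S16299

/-- Let k be a field and X a Gorenstein genus-one curve over k: an integral scheme, proper over k, of
dimension one, all of whose local rings are Gorenstein, with dim_k H^1(X, O_X) = 1. Let L be an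
invertible O_X-module of degree at least 2 over k. Then the base locus of L is contained in the
non-regular locus of X: for every point x of X whose local ring is regular there is a global section
s : O_X → L with x in the open X_s where s generates L. -/
theorem result (k : Type u) [Field k] (X : Scheme.{u}) [X.Over (Spec (CommRingCat.of k))]
    [IsIntegral X] [IsProper (X ↘ (Spec (CommRingCat.of k)))] (hdim : topologicalKrullDim X = 1)
    (hgor : ∀ x : X, LocCoh.IsGorensteinLocalRing (X.presheaf.stalk x)) (hg : Curv2.genus k X = 1)
    (L : X.Modules) (hL : PicF.IsInvertible L) (hdeg : 2 ≤ Curv2.deg k X L 1)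
    (x : X) (hx : IsRegularLocalRing (X.presheaf.stalk x)) :
    ∃ s : Coh.structureModule X ⟶ L, x ∈ CohB1.genLocus L s := by
  haveI := CurveRR.isNoetherian_of_proper k X
  have h0 : CurveRR.h k (Coh.structureModule X) 0 = 1 := by
    haveI := CohFinite.finite_proper k X _ (CurveRR.isCoh_of_inv (TMul.isInvertible_structureModule (X := X))) 1
    have hne : Nontrivial (Coh.HH X (Coh.structureModule X) 1) := Module.finrank_pos_iff.1 (show 0 < CurveRR.h k (Coh.structureModule X) 1 by
      show 0 < Curv2.genus k X
      omega)
    have h1 := DualGeneric.Sub.h0_le_hh k (Coh.structureModule X) (CurveRR.isCoh_of_inv TMul.isInvertible_structureModule) 1 hne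
    have h2 : CurveRR.h k (Coh.structureModule X) 1 = 1 := hg
    have h3 : 0 < CurveRR.h k (Coh.structureModule X) 0 := by
      letI := CurveRR.secMod k (Coh.structureModule X) ⊤
      haveI := CohFinite.finite_proper k X _ (CurveRR.isCoh_of_inv (TMul.isInvertible_structureModule (X := X))) 0
      haveI : Nontrivial Γ(Coh.structureModule X, ⊤) := inferInstanceAs (Nontrivial Γ(X, ⊤))
      haveI : Nontrivial (Coh.HH X (Coh.structureModule X) 0) := (CurveRR.secH0 (k := k) _).toEquiv.symm.nontrivial
      exact Module.finrank_pos
    omega
  obtain ⟨z, hz, hzc⟩ := (isClosed_closure (s := ({x} : Set X))).exists_closed_singleton ⟨x, subset_closure rfl⟩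
  obtain ⟨t, ht⟩ := CurveRR.exists_mem_genLocus (k := k) hdim.le h0 hL (by rw [hg]; push_cast; omega) hzc
  exact ⟨TMul.homOf t, (specializes_iff_mem_closure.mpr hz).mem_open (CohB1.genLocus L (TMul.homOf t)).2 ht⟩


end Groth.Agent.S16299
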