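import Groth.Statements.S1630
-- import your own Groth.Agent.* helpers here

set_option autoImplicit false
universe u
open CategoryTheory CategoryTheory.Limits AlgebraicGeometry
open Variety

namespace Groth.Agent.S1630

/-- Let X be a scheme over k. If X has a cover by a nonempty family of open subschemes, each
geometrically irreducible over k and any two of which meet, then X is geometrically irreducible over
k. -/
theorem result (k : Type u) [Field k] (X : Scheme.{u}) [X.Over (Spec (CommRingCat.of k))]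
    (ι : Type u) (U : ι → X.Opens) (hne : Nonempty ι) (hcov : (⨆ i, U i) = ⊤)
    (hmeet : ∀ i j, ((U i : Set X) ∩ (U j : Set X)).Nonempty)
    (hU : ∀ i, GeometricallyIrreducible ((U i).ι ≫ (X ↘ (Spec (CommRingCat.of k))))) : GeometricallyIrreducible (X ↘ (Spec (CommRingCat.of k))) := by
  refine ⟨fun K _ y P fst snd hP => ?_⟩
  have : Surjective y := by
    constructor
    intro s
    exact ⟨(⊥ : PrimeSpectrum K), (Subsingleton.elim (α := PrimeSpectrum k) _ _)⟩
  have hfs : Function.Surjective fst.base := by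
    have : Surjective fst := MorphismProperty.of_isPullback (P := @Surjective) hP.flip inferInstance
    exact fst.surjective
  have hirr : ∀ i, IsIrreducible (fst.base ⁻¹' (U i : Set X)) := fun i => by
    have hI : IrreducibleSpace (fst ⁻¹ᵁ U i : Scheme.{u}) :=
      (hU i).geometrically_irreducibleSpace y (fst ∣_ U i) ((fst ⁻¹ᵁ U i).ι ≫ snd)
        (((isPullback_morphismRestrict fst (U i)).paste_vert hP))
    have := (IrreducibleSpace.isIrreducible_univ (fst ⁻¹ᵁ U i : Scheme.{u})).image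
      (fst ⁻¹ᵁ U i).ι.base (Scheme.Hom.continuous _).continuousOn
    rwa [Set.image_univ, Scheme.Opens.range_ι] at this
  have hopen : ∀ i, IsOpen (fst.base ⁻¹' (U i : Set X)) := fun i => (U i).2.preimage fst.continuous
  have hcov' : ∀ p : P, ∃ i, p ∈ fst.base ⁻¹' (U i : Set X) := fun p => by
    exact TopologicalSpace.Opens.mem_iSup.mp (hcov.symm ▸ TopologicalSpace.Opens.mem_top (fst.base p))
  obtain ⟨i₀⟩ := hne
  have : Nonempty P := ⟨(hirr i₀).1.some⟩
  refine { isPreirreducible_univ := ?_, toNonempty := this }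
  rintro A B hA hB ⟨a, -, ha⟩ ⟨b, -, hb⟩
  obtain ⟨i, hi⟩ := hcov' a
  obtain ⟨j, hj⟩ := hcov' b
  obtain ⟨m, hmi, hmj⟩ := hmeet i j
  obtain ⟨m', rfl⟩ := hfs m
  obtain ⟨c, -, hcA, hcj⟩ := (hirr i).2 A _ hA (hopen j) ⟨a, hi, ha⟩ ⟨m', hmi, hmj⟩
  obtain ⟨d, -, ⟨hdA, -⟩, hdB⟩ := (hirr j).2 (A ∩ fst.base ⁻¹' (U j : Set X)) B
    (hA.inter (hopen j)) hB ⟨c, hcj, hcA, hcj⟩ ⟨b, hj, hb⟩
  exact ⟨d, trivial, hdA, hdB⟩

end Groth.Agent.S1630
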