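import Groth.Statements.S16300
import Groth.Agent.DualGeneric.SubE
import Groth.Agent.CurveRR.GlobGen
-- import your own Groth.Agent.* helpers here

set_option autoImplicit false
set_option backward.isDefEq.respectTransparency false
set_option backward.isDefEq.respectTransparency.types false
set_option maxHeartbeats 1000000
universe u
open CategoryTheory CategoryTheory.Limits AlgebraicGeometry
open Curves

namespace Groth.Agent.S16300

/-- Let k be a field and X a Gorenstein genus-one curve over k: an integral scheme, proper over k, of
dimension one, all of whose local rings are Gorenstein, with dim_k H^1(X, O_X) = 1. Let L be an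
invertible O_X-module of degree at least 2 over k, and suppose there is a closed point P of X with
regular local ring and deg_k L > deg_k P, where deg_k P = dim_k H^0(P, O_P) for the reduced point P.
Then L is globally generated. -/
theorem result (k : Type u) [Field k] (X : Scheme.{u}) [X.Over (Spec (CommRingCat.of k))]
    [IsIntegral X] [IsProper (X ↘ (Spec (CommRingCat.of k)))] (hdim : topologicalKrullDim X = 1)
    (hgor : ∀ x : X, LocCoh.IsGorensteinLocalRing (X.presheaf.stalk x)) (hg : Curv2.genus k X = 1)
    (L : X.Modules) (hL : PicF.IsInvertible L) (hdeg : 2 ≤ Curv2.deg k X L 1)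
    (P : X) (hPc : IsClosed ({P} : Set X)) (hPreg : IsRegularLocalRing (X.presheaf.stalk P))
    (hdegP : (Module.finrank k (Coh.HH X (ClSub.quotMod (Scheme.IdealSheafData.vanishingIdeal ⟨{P}, hPc⟩)) 0) : ℤ) <
      Curv2.deg k X L 1) :
    Curv2.IsGloballyGenerated L := by
  haveI := CurveRR.isNoetherian_of_proper k X
  have h0 : CurveRR.h k (Coh.structureModule X) 0 = 1 := by
    haveI := CohFinite.finite_proper k X _ (CurveRR.isCoh_of_inv (TMul.isInvertible_structureModule (X := X))) 1
    have hne : Nontrivial (Coh.HH X (Coh.structureModule X) 1) := Module.finrank_pos_iff.1 (show 0 < CurveRR.h k (Coh.structureModule X) 1 by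
      show 0 < Curv2.genus k X
      omega)
    have h1 := DualGeneric.Sub.h0_le_hh k (Coh.structureModule X) (CurveRR.isCoh_of_inv TMul.isInvertible_structureModule) 1 hne
    have h2 : CurveRR.h k (Coh.structureModule X) 1 = 1 := hg
    have h3 : 0 < CurveRR.h k (Coh.structureModule X) 0 := by
      letI := CurveRR.secMod k (Coh.structureModule X) ⊤
      haveI := CohFinite.finite_proper k X _ (CurveRR.isCoh_of_inv (TMul.isInvertible_structureModule (X := X))) 0
      haveI : Nontrivial Γ(Coh.structureModule X, ⊤) := inferInstanceAs (Nontrivial Γ(X, ⊤))
      haveI : Nontrivial (Coh.HH X (Coh.structureModule X) 0) := (CurveRR.secH0 (k := k) _).toEquiv.symm.nontrivial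
      exact Module.finrank_pos
    omega
  exact CurveRR.isGloballyGenerated_of_closed hL fun z hz =>
    CurveRR.exists_mem_genLocus hdim.le h0 hL (by rw [hg]; push_cast; omega) hz


end Groth.Agent.S16300
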