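import Groth.Statements.S16308
import Groth.Agent.NormGen.Span

set_option autoImplicit false
universe u
open CategoryTheory CategoryTheory.Limits AlgebraicGeometry
open Curves

namespace Groth.Agent.S16308

/-- Let k be a field and X a proper scheme over k of dimension one (a one-dimensional projective scheme)
with H^0(X, O_X) = k. Let A be a globally generated ample invertible O_X-module and m ≥ 0 an integer
with H^1(X, A^{⊗ m}) = 0. Then for every n ≥ m + 1 the global sections of A^{⊗ n} ⊗ A = A^{⊗ (n+1)}
are spanned over H^0(X, O_X) = k by the sections a ⊗ b with a a global section of A^{⊗ n} and b a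
global section of A; consequently the section ring ⊕_{n ≥ 0} H^0(X, A^{⊗ n}) is generated as a
k-algebra by its homogeneous pieces of degrees 1, …, m + 1. -/
theorem result (k : Type u) [Field k] (X : Scheme.{u}) [X.Over (Spec (CommRingCat.of k))]
    [IsProper (X ↘ (Spec (CommRingCat.of k)))] (hdim : topologicalKrullDim X = 1)
    (h0 : Module.finrank k (Coh.HH X (Coh.structureModule X) 0) = 1)
    (A : X.Modules) (hA : CohB1.IsAmple A) (hgg : Curv2.IsGloballyGenerated A)
    (m : ℕ) (hm : Subsingleton (Coh.HH X (CohB1.tensorPow A m) 1))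
    (n : ℕ) (hn : m + 1 ≤ n) :
    Submodule.span (X.ringCatSheaf.obj.obj (Opposite.op ⊤))
        (Set.range (fun p : (CohB1.tensorPow A n).val.obj (Opposite.op ⊤) × A.val.obj (Opposite.op ⊤) =>
          SecTwist.tmul (CohB1.tensorPow A n) A ⊤ p.1 p.2)) = ⊤ := by
  rw [eq_top_iff]
  rintro t -
  haveI := Groth.Agent.CurveRR.isNoetherian_of_proper k X
  obtain ⟨r, s, hs⟩ := Groth.Agent.NormGen.exists_span (A := k) (Groth.Agent.CurveRR.isCoh_of_inv hA.1)
  have hgen := Groth.Agent.NormGen.gen_of_span hA.1 hgg s fun t => by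
    obtain ⟨a, ha⟩ := hs t
    exact ⟨_, ha⟩
  have hv : ∀ M : X.Modules, Coh.IsCoh M → Subsingleton (Coh.HH X M 2) := fun M _ =>
    Groth.Agent.CurveRR.subsingleton_of_two_le (k := k) hdim.le M 2 le_rfl
  have hall : ∀ j, m ≤ j → Subsingleton (Coh.HH X (CohB1.tensorPow A j) 1) := fun j hj => by
    induction j, hj using Nat.le_induction with
    | base => exact hm
    | succ j _ ih => exact Groth.Agent.NormGen.h1_tensor_of_generated k hv (TMul.isInvertible_tensorPow hA.1 j) hA.1 s hgen ih
  obtain ⟨j, rfl⟩ : ∃ j, n = j + 1 := ⟨n - 1, by omega⟩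
  obtain ⟨c, hc⟩ := Groth.Agent.NormGen.exists_eq_sum k hv (TMul.isInvertible_tensorPow hA.1 j) hA.1 s hgen
    (hall j (by omega)) t
  rw [hc]
  exact Submodule.sum_mem _ fun i _ => Submodule.subset_span ⟨(c i, s i), rfl⟩

end Groth.Agent.S16308
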