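import Groth.Statements.S1631
import Groth.Agent.NodeChar.Point
-- import your own Groth.Agent.* helpers here

set_option autoImplicit false
set_option backward.isDefEq.respectTransparency false
set_option backward.isDefEq.respectTransparency.types false
set_option maxHeartbeats 1000000
universe u
open Curves

namespace Groth.Agent.S1631

/-- For a Noetherian local k-algebra (A, m, κ), these two conditions are equivalent: (i) κ is separable
over k, A is reduced, m/m^2 has dimension two, and there are x, y spanning m modulo m^2 and a, b, c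
∈ A whose residues form a nondegenerate quadratic form with a x^2 + b xy + c y^2 ∈ m^3; (ii) κ is
separable over k and the m-adic completion of A is isomorphic, compatibly with the maps from k, to
κ[[u, v]]/(a' u^2 + b' uv + c' v^2) for a nondegenerate quadratic form over κ. -/
theorem result (k : Type u) [Field k] (A : Type u) [CommRing A] [IsLocalRing A] [IsNoetherianRing A]
    [Algebra k A] :
    (Algebra.IsSeparable k (IsLocalRing.ResidueField A) ∧ IsReduced A ∧
      Module.finrank (IsLocalRing.ResidueField A) (IsLocalRing.CotangentSpace A) = 2 ∧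
      ∃ x y a b c : A, x ∈ IsLocalRing.maximalIdeal A ∧ y ∈ IsLocalRing.maximalIdeal A ∧
        Ideal.span {x, y} ⊔ IsLocalRing.maximalIdeal A ^ 2 = IsLocalRing.maximalIdeal A ∧
        IsLocalRing.residue A (4 * a * c - b ^ 2) ≠ 0 ∧
        a * x ^ 2 + b * x * y + c * y ^ 2 ∈ IsLocalRing.maximalIdeal A ^ 3) ↔
    (Algebra.IsSeparable k (IsLocalRing.ResidueField A) ∧
      ∃ a b c : IsLocalRing.ResidueField A, 4 * a * c - b ^ 2 ≠ 0 ∧
        ∃ e : AdicCompletion (IsLocalRing.maximalIdeal A) A ≃+*
            (MvPowerSeries (Fin 2) (IsLocalRing.ResidueField A) ⧸ Ideal.span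
              {(MvPowerSeries.C a * MvPowerSeries.X 0 ^ 2 + MvPowerSeries.C b * MvPowerSeries.X 0 * MvPowerSeries.X 1 +
                MvPowerSeries.C c * MvPowerSeries.X 1 ^ 2 : MvPowerSeries (Fin 2) (IsLocalRing.ResidueField A))}),
          ∀ t : k, e (algebraMap A _ (algebraMap k A t)) =
            Ideal.Quotient.mk _ (MvPowerSeries.C (algebraMap A (IsLocalRing.ResidueField A) (algebraMap k A t)))) := by
  constructor
  · rintro ⟨hs, hr, h2, x, y, a, b, c, hx, hy, hspan, hd, hq⟩
    haveI := hs
    haveI := hr
    have hm : IsLocalRing.maximalIdeal A = Ideal.span {x, y} := by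
      refine le_antisymm ?_ (Ideal.span_le.2 (Set.insert_subset hx (Set.singleton_subset_iff.2 hy)))
      refine Submodule.le_of_le_smul_of_le_jacobson_bot (IsNoetherian.noetherian _)
        (IsLocalRing.maximalIdeal_le_jacobson ⊥) ?_
      rw [smul_eq_mul, ← pow_two, hspan]
    have hdisc : IsUnit (NodeChar.disc a b c) := not_not.1 fun h => hd (by
      rw [show 4 * a * c - b ^ 2 = -NodeChar.disc a b c by ring, map_neg, neg_eq_zero]
      exact (IsLocalRing.residue_eq_zero_iff _).2 ((IsLocalRing.mem_maximalIdeal _).2 h))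
    have hnp : ¬(IsLocalRing.maximalIdeal A).IsPrincipal := fun h => by
      have := IsLocalRing.finrank_cotangentSpace_le_one_iff.2 h
      omega
    obtain ⟨a', b', c', hd', e, he⟩ :=
      NodeChar.exists_model_completion k (NodeChar.isQuadLocal_of_isReduced hnp hm hdisc hq)
    refine ⟨hs, a', b', c', fun h => hd' (?_ : b' ^ 2 - 4 * a' * c' = 0), e, he⟩
    linear_combination -h
  · rintro ⟨hs, a, b, c, hd, e, -⟩
    have hq := NodeChar.isQuadLocal_of_completion_equiv (a := a) (b := b) (c := c)
      (fun h => hd (by linear_combination -(h : b ^ 2 - 4 * a * c = 0))) e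
    refine ⟨hs, NodeChar.isReduced_of_isQuadLocal hq, NodeChar.finrank_cotangent_of_isQuadLocal hq, ?_⟩
    obtain ⟨x, y, a, b, c, hdata, -⟩ := hq
    refine ⟨x, y, a, b, c, hdata.mem_x, hdata.mem_y, ?_, ?_, hdata.mem⟩
    · rw [← hdata.span]
      exact sup_eq_left.2 (Ideal.pow_le_self two_ne_zero)
    · rw [show 4 * a * c - b ^ 2 = -NodeChar.disc a b c by ring, map_neg, neg_ne_zero]
      exact fun h => (IsLocalRing.mem_maximalIdeal _).1 ((IsLocalRing.residue_eq_zero_iff _).1 h) hdata.isUnit_disc

end Groth.Agent.S1631
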