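import Groth.Statements.S16312
import Mathlib.Analysis.InnerProductSpace.PiL2
import Mathlib.Analysis.Normed.Module.FiniteDimension
-- import your own Groth.Agent.* helpers here

set_option autoImplicit false
set_option linter.style.haveILetI false
set_option linter.unusedSimpArgs false
universe u
open W4c3irrattreebun

namespace Groth.Agent.S16312

/-- Let N be a closed cone in real n-space, f a function continuous on N, positive at the nonzero points
of N and homogeneous of degree one under scaling by nonnegative reals, and Λ a discrete additive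
subgroup. Then for every real c the set of points H of Λ lying in N with f(H) ≤ c is finite. (The
published statement takes Λ to be a lattice; this row allows any discrete additive subgroup.) -/
theorem result (n : ℕ)
    (N : Set (EuclideanSpace ℝ (Fin n))) (hN : IsClosed N)
    (hcone : ∀ x ∈ N, ∀ r : ℝ, 0 ≤ r → r • x ∈ N)
    (f : EuclideanSpace ℝ (Fin n) → ℝ) (hf : ContinuousOn f N)
    (hpos : ∀ x ∈ N, x ≠ 0 → 0 < f x)
    (hhom : ∀ x ∈ N, ∀ r : ℝ, 0 ≤ r → f (r • x) = r * f x)
    (Λ : Submodule ℤ (EuclideanSpace ℝ (Fin n))) [DiscreteTopology Λ] (c : ℝ) :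
    ({x : EuclideanSpace ℝ (Fin n) | x ∈ N ∧ f x ≤ c} ∩ (Λ : Set (EuclideanSpace ℝ (Fin n)))).Finite := by
  classical
  by_cases hne : ∃ x ∈ N, x ≠ 0
  swap
  · push Not at hne
    exact (Set.finite_singleton (0 : EuclideanSpace ℝ (Fin n))).subset fun x hx => hne x hx.1.1
  obtain ⟨x₀, hx₀, hx₀0⟩ := hne
  have hS : IsCompact (Metric.sphere (0 : EuclideanSpace ℝ (Fin n)) 1 ∩ N) :=
    (isCompact_sphere _ _).inter_right hN
  have hSne : (Metric.sphere (0 : EuclideanSpace ℝ (Fin n)) 1 ∩ N).Nonempty :=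
    ⟨‖x₀‖⁻¹ • x₀, by simp [norm_smul, hx₀0], hcone x₀ hx₀ _ (inv_nonneg.2 (norm_nonneg _))⟩
  obtain ⟨z, hz, hmin⟩ := hS.exists_isMinOn hSne (hf.mono Set.inter_subset_right)
  have hzpos : 0 < f z := hpos z hz.2 (fun h0 => by simp [h0] at hz)
  have hbd : ∀ x ∈ N, f x ≤ c → ‖x‖ ≤ |c| / f z := by
    intro x hx hxc
    rcases eq_or_ne x 0 with rfl | hx0
    · simp [div_nonneg, hzpos.le]
    · have hmem : ‖x‖⁻¹ • x ∈ Metric.sphere (0 : EuclideanSpace ℝ (Fin n)) 1 ∩ N :=
        ⟨by simp [norm_smul, hx0], hcone x hx _ (inv_nonneg.2 (norm_nonneg _))⟩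
      have h1 : f z ≤ f (‖x‖⁻¹ • x) := hmin hmem
      rw [hhom x hx _ (inv_nonneg.2 (norm_nonneg _))] at h1
      have hn0 : 0 < ‖x‖ := norm_pos_iff.2 hx0
      rw [le_div_iff₀ hzpos]
      have h2 := mul_le_mul_of_nonneg_left h1 hn0.le
      rw [← mul_assoc, mul_inv_cancel₀ hn0.ne', one_mul] at h2
      linarith [le_abs_self c]
  haveI : DiscreteTopology Λ.toAddSubgroup := ‹DiscreteTopology Λ›
  have hclosed : IsClosed (Λ : Set (EuclideanSpace ℝ (Fin n))) :=
    AddSubgroup.isClosed_of_discrete (H := Λ.toAddSubgroup)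
  have hK : IsCompact (Metric.closedBall (0 : EuclideanSpace ℝ (Fin n)) (|c| / f z) ∩ Λ) :=
    (isCompact_closedBall _ _).inter_right hclosed
  have hdisc : IsDiscrete (Metric.closedBall (0 : EuclideanSpace ℝ (Fin n)) (|c| / f z) ∩ Λ) :=
    (isDiscrete_iff_discreteTopology.2 ‹DiscreteTopology Λ.toAddSubgroup›).mono Set.inter_subset_right
  refine (hK.finite hdisc).subset fun x hx => ⟨?_, hx.2⟩
  simpa using hbd x hx.1.1 hx.1.2

end Groth.Agent.S16312
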