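import Groth.Statements.S16313
import Groth.Agent.CovGon.Main

set_option autoImplicit false
universe u
open scoped TensorProduct
open W4c3irrattreebun

namespace Groth.Agent.S16313

/-- Let K/k be a finitely generated field extension whose field of constants is k (k is algebraically
closed in K), let L/k be any field extension, and let K' be a field which is the fraction field of K
⊗_k L, the L-algebra structure of K' being the one through the tensor product. Then the covering
gonality of K' over L equals the covering gonality of K over k. (The extension of K to L is taken to
be the fraction field of the tensor product; when the tensor product has nonzero nilpotents there is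
no such field and nothing is asserted.) -/
theorem result (k K L K' : Type u) [Field k] [Field K] [Field L]
    [Field K'] [Algebra k K] [Algebra k L]
    (hfg : (⊤ : IntermediateField k K).FG) (hconst : algebraicClosure k K = ⊥)
    [Algebra (K ⊗[k] L) K'] [IsFractionRing (K ⊗[k] L) K'] [Algebra L K']
    (hL : ∀ x : L, algebraMap L K' x = algebraMap (K ⊗[k] L) K' ((1 : K) ⊗ₜ[k] x)) :
    W4c3irrattreebun.cvg L K' = W4c3irrattreebun.cvg k K := by
  letI : Algebra K K' := ((algebraMap (K ⊗[k] L) K').comp Algebra.TensorProduct.includeLeftRingHom).toAlgebra
  letI : Algebra k K' := ((algebraMap K K').comp (algebraMap k K)).toAlgebra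
  haveI : IsScalarTower k K K' := IsScalarTower.of_algebraMap_eq' rfl
  haveI : IsScalarTower k L K' := IsScalarTower.of_algebraMap_eq fun c => by
    rw [hL]
    show algebraMap (K ⊗[k] L) K' (algebraMap k K c ⊗ₜ[k] (1 : L)) = _
    congr 1
    rw [Algebra.algebraMap_eq_smul_one, Algebra.algebraMap_eq_smul_one, TensorProduct.smul_tmul]
  have hC : Groth.Agent.CovGon.IsCompositum k K L K' :=
    Groth.Agent.CovGon.isCompositum_of_isFractionRing (fun a => rfl) hL
  exact Groth.Agent.CovGon.cvg_eq hC hfg

end Groth.Agent.S16313
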