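import Groth.Statements.S16319
import Groth.Agent.Cliff9.Basic

set_option autoImplicit false
open CategoryTheory CategoryTheory.Limits AlgebraicGeometry
universe u
open Curves

set_option backward.isDefEq.respectTransparency false
set_option backward.isDefEq.respectTransparency.types false

open Groth.Agent

namespace Groth.Agent.S16319

/-- Let k be an algebraically closed field of characteristic zero and X a smooth proper integral curve
over k (integral, proper and smooth over k, of dimension one) of genus 9 whose Clifford index is 3: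
some invertible module M with h^0(M) ≥ 2 and h^1(M) ≥ 2 has deg M − 2(h^0(M) − 1) = 3, and every
invertible module M with h^0(M) ≥ 2 and h^1(M) ≥ 2 has deg M − 2(h^0(M) − 1) ≥ 3 (degrees are χ(M) −
χ(O_X); in particular X is not hyperelliptic); let H be an invertible module of degree 7 with h^0(H)
= 3 (a g^2_7) and D a globally generated invertible module of degree 5 with h^0(D) = 2 (a
base-point-free complete g^1_5). Then every module N with D ⊗ N ≅ H has h^0(N) = 1: the difference
of the two series is the class of an effective divisor of degree 2 with a one-dimensional space of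
sections, so the pencil is cut out by the lines through a double point of the plane model of degree
7. -/
theorem result
    (k : Type u) [Field k] [IsAlgClosed k] [CharZero k]
    (X : Scheme.{u}) [X.Over (Spec (CommRingCat.of k))] [IsIntegral X]
    [IsProper (X ↘ Spec (CommRingCat.of k))] [Smooth (X ↘ Spec (CommRingCat.of k))]
    (hdim : topologicalKrullDim X = 1) (hg : Curv2.genus k X = 9)
    (hex : ∃ M : X.Modules, PicF.IsInvertible M ∧ 2 ≤ Module.finrank k (Coh.HH X M 0) ∧
      2 ≤ Module.finrank k (Coh.HH X M 1) ∧ Curv2.deg k X M 1 = 2 * (Module.finrank k (Coh.HH X M 0) : ℤ) + 1)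
    (hmin : ∀ M : X.Modules, PicF.IsInvertible M → 2 ≤ Module.finrank k (Coh.HH X M 0) →
      2 ≤ Module.finrank k (Coh.HH X M 1) → 2 * (Module.finrank k (Coh.HH X M 0) : ℤ) + 1 ≤ Curv2.deg k X M 1)
    (H : X.Modules) (hH : PicF.IsInvertible H) (hdH : Curv2.deg k X H 1 = 7)
    (h0H : Module.finrank k (Coh.HH X H 0) = 3)
    (D : X.Modules) (hD : PicF.IsInvertible D) (hgD : Curv2.IsGloballyGenerated D)
    (hdD : Curv2.deg k X D 1 = 5) (h0D : Module.finrank k (Coh.HH X D 0) = 2)
    (N : X.Modules) (e : CohB1.tensorMod D N ≅ H) :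
    Module.finrank k (Coh.HH X N 0) = 1 := by
  haveI := CurveRR.isNoetherian_of_proper k X
  have hX := W7Slope.regCurve_of_smooth (k := k) hdim
  obtain ⟨D', hD', ⟨eD⟩⟩ := W7Hull.exists_tensor_inverse hD
  let i : CohB1.tensorMod D' H ≅ N := PicGrp.tensorModIso (Iso.refl D') e.symm ≪≫ (TMul.assocIso D' D N).symm ≪≫
    PicGrp.tensorModIso (TMul.commIso D' D ≪≫ eD) (Iso.refl N) ≪≫ TMul.leftUnitIso N
  have hN : PicF.IsInvertible N := ParaFLib.isInvertible_of_iso i (TMul.isInvertible_tensorMod hD' hH)
  have hdN : Curv2.deg k X N 1 = 2 := by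
    have := CurveRR.deg_tensor_inv (k := k) hX.dim hD hN
    rw [W7Slope.deg_iso (k := k) e, hdH, hdD] at this
    omega
  have h := Cliff9.two_h0_le k hX hD hgD h0D hD' eD hH
  rw [CurveRR.h_eq_of_iso i (q := 0)] at h
  have hP := TMul.isInvertible_tensorMod hD hH
  have hr := Cliff9.rr k hX (CohB1.tensorMod D H)
  rw [CurveRR.deg_tensor_inv (k := k) hX.dim hD hH, hdD, hdH, hg] at hr
  have hm := hmin (CohB1.tensorMod D H) hP
  rw [CurveRR.deg_tensor_inv (k := k) hX.dim hD hH, hdD, hdH] at hm
  have hrN := Cliff9.rr k hX N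
  rw [hdN, hg] at hrN
  have hmN := hmin N hN
  rw [hdN] at hmN
  unfold CurveRR.h at h hr hrN
  omega

end Groth.Agent.S16319
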