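import Groth.Statements.S16320
import Groth.Agent.Cliff9.Basic

set_option autoImplicit false
open CategoryTheory CategoryTheory.Limits AlgebraicGeometry
universe u
open Curves

set_option backward.isDefEq.respectTransparency false
set_option backward.isDefEq.respectTransparency.types false

open Groth.Agent

namespace Groth.Agent.S16320

/-- Let k be an algebraically closed field of characteristic zero and X a smooth proper integral curve
over k (integral, proper and smooth over k, of dimension one) of genus 9 whose Clifford index is 3: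
some invertible module M with h^0(M) ≥ 2 and h^1(M) ≥ 2 has deg M − 2(h^0(M) − 1) = 3, and every
invertible module M with h^0(M) ≥ 2 and h^1(M) ≥ 2 has deg M − 2(h^0(M) − 1) ≥ 3 (degrees are χ(M) −
χ(O_X); in particular X is not hyperelliptic), and let D be a globally generated invertible module
of degree 5 with h^0(D) = 2 (a base-point-free complete g^1_5). Then h^0(D^{⊗2}) is 3 or 4,
h^0(D^{⊗3}) is 7 or 8, and h^0(D^{⊗3}) = 7 whenever h^0(D^{⊗2}) = 3. (The published statement says,
equivalently by Riemann–Roch applied to the numbers h^0(K − iD) − h^0(K − (i+1)D) for a canonical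
module K, that the rational normal fourfold scroll formed by the linear spans of the pencil's
divisors in the canonical embedding has type S(2,1,1,1), S(2,2,1,0) or S(3,1,1,0); the scroll itself
is not restated here.) -/
theorem result
    (k : Type u) [Field k] [IsAlgClosed k] [CharZero k]
    (X : Scheme.{u}) [X.Over (Spec (CommRingCat.of k))] [IsIntegral X]
    [IsProper (X ↘ Spec (CommRingCat.of k))] [Smooth (X ↘ Spec (CommRingCat.of k))]
    (hdim : topologicalKrullDim X = 1) (hg : Curv2.genus k X = 9)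
    (hex : ∃ M : X.Modules, PicF.IsInvertible M ∧ 2 ≤ Module.finrank k (Coh.HH X M 0) ∧
      2 ≤ Module.finrank k (Coh.HH X M 1) ∧ Curv2.deg k X M 1 = 2 * (Module.finrank k (Coh.HH X M 0) : ℤ) + 1)
    (hmin : ∀ M : X.Modules, PicF.IsInvertible M → 2 ≤ Module.finrank k (Coh.HH X M 0) →
      2 ≤ Module.finrank k (Coh.HH X M 1) → 2 * (Module.finrank k (Coh.HH X M 0) : ℤ) + 1 ≤ Curv2.deg k X M 1)
    (D : X.Modules) (hD : PicF.IsInvertible D) (hgD : Curv2.IsGloballyGenerated D)
    (hdD : Curv2.deg k X D 1 = 5) (h0D : Module.finrank k (Coh.HH X D 0) = 2) :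
    (Module.finrank k (Coh.HH X (CohB1.tensorPow D 2) 0) = 3 ∨
        Module.finrank k (Coh.HH X (CohB1.tensorPow D 2) 0) = 4) ∧
      (Module.finrank k (Coh.HH X (CohB1.tensorPow D 3) 0) = 7 ∨
        Module.finrank k (Coh.HH X (CohB1.tensorPow D 3) 0) = 8) ∧
      (Module.finrank k (Coh.HH X (CohB1.tensorPow D 2) 0) = 3 →
        Module.finrank k (Coh.HH X (CohB1.tensorPow D 3) 0) = 7) := by
  haveI := CurveRR.isNoetherian_of_proper k X
  have hX := W7Slope.regCurve_of_smooth (k := k) hdim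
  obtain ⟨D', hD', ⟨e⟩⟩ := W7Hull.exists_tensor_inverse hD
  have hp := fun n => TMul.isInvertible_tensorPow hD n
  obtain ⟨a₁⟩ := TMul.nonempty_powOneIso D
  have hpow : ∀ n, Nonempty (CohB1.tensorMod D (CohB1.tensorPow D n) ≅ CohB1.tensorPow D (n + 1)) :=
    fun n => ⟨TMul.commIso _ _⟩
  have hdown : ∀ n, Nonempty (CohB1.tensorMod D' (CohB1.tensorPow D (n + 1)) ≅ CohB1.tensorPow D n) :=
    fun n => ⟨TMul.commIso _ _ ≪≫ TMul.assocIso (CohB1.tensorPow D n) D D' ≪≫
      PicGrp.tensorModIso (Iso.refl _) e ≪≫ SecTwist.unitorR _⟩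
  have step : ∀ n, 2 * CurveRR.h k (CohB1.tensorPow D (n + 1)) 0 ≤
      CurveRR.h k (CohB1.tensorPow D n) 0 + CurveRR.h k (CohB1.tensorPow D (n + 2)) 0 := fun n => by
    have h := Cliff9.two_h0_le k hX hD hgD h0D hD' e (hp (n + 1))
    rwa [CurveRR.h_eq_of_iso (hdown n).some (q := 0), CurveRR.h_eq_of_iso (hpow (n + 1)).some (q := 0)] at h
  have hr : ∀ n : ℕ, (n : ℤ) * 5 = (CurveRR.h k (CohB1.tensorPow D n) 0 : ℤ) - CurveRR.h k (CohB1.tensorPow D n) 1 + 8 := by
    intro n
    have := Cliff9.rr k hX (CohB1.tensorPow D n)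
    rw [CurveRR.deg_tensorPow (k := k) hX.dim hD n, hdD, hg] at this
    omega
  have hm : ∀ n : ℕ, 2 ≤ CurveRR.h k (CohB1.tensorPow D n) 0 → 2 ≤ CurveRR.h k (CohB1.tensorPow D n) 1 →
      2 * (CurveRR.h k (CohB1.tensorPow D n) 0 : ℤ) + 1 ≤ (n : ℤ) * 5 := fun n a b => by
    have := hmin (CohB1.tensorPow D n) (hp n) a b
    rwa [CurveRR.deg_tensorPow (k := k) hX.dim hD n, hdD] at this
  have h10 : CurveRR.h k (CohB1.tensorPow D 1) 0 = 2 := (CurveRR.h_eq_of_iso a₁ 0).trans h0D
  have h00 : CurveRR.h k (CohB1.tensorPow D 0) 0 = 1 := CurveRR.h0_structure k X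
  have h41 : Subsingleton (Coh.HH X (CohB1.tensorPow D 4) 1) :=
    CurveRR.subsingleton_h1 (k := k) hX.dim (CurveRR.h0_structure k X) (hp 4)
      (by rw [CurveRR.deg_tensorPow (k := k) hX.dim hD 4, hdD, hg]; norm_num)
  have h4' : CurveRR.h k (CohB1.tensorPow D 4) 1 = 0 := CurveRR.h_eq_zero h41
  have s0 := step 0
  have s2 := step 2
  have r2 := hr 2
  have r3 := hr 3
  have r4 := hr 4
  have m2 := hm 2
  have m3 := hm 3
  norm_num at s0 s2 r2 r3 r4 m2 m3
  unfold CurveRR.h at s0 s2 r2 r3 r4 m2 m3 h10 h00 h4'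
  omega

end Groth.Agent.S16320
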