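import Groth.Statements.S16325
import Mathlib
import Groth.Agent.CxHom.Basic

set_option autoImplicit false
universe u v
open CategoryTheory
open W4c3biextchow

namespace Groth.Agent.S16325

/-- Let f : C ⟶ D be a chain map of ℕ-indexed chain complexes of modules over a ring R, and consider the
functor it induces between the groupoids attached to C and D (objects: degree-0 elements; morphisms
a ⟶ b: degree-1 elements with boundary b - a, modulo boundaries of degree-2 elements). This functor
is faithful if and only if f is injective on homology in degree 1. (The published statement is for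
complexes of abelian groups; this row allows modules over any ring R.) -/
theorem result
    (R : Type u) [Ring R] (C D : ChainComplex (ModuleCat.{v} R) ℕ) (f : C ⟶ D) :
    (W4c3biextchow.cxFunctor f).Faithful ↔ Mono (HomologicalComplex.homologyMap f 1) := by
  rw [Groth.Agent.CxHom.mono_one]
  constructor
  · intro h x hx hy
    obtain ⟨y, hy⟩ := hy
    let a : W4c3biextchow.Obj C := ⟨0⟩
    let φ : a ⟶ a := ⟨Submodule.Quotient.mk x, by simp [hx, a]⟩
    have e : (W4c3biextchow.cxFunctor f).map φ = (W4c3biextchow.cxFunctor f).map (𝟙 a) := by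
      apply W4c3biextchow.Hom.ext
      show W4c3biextchow.q1Map f (Submodule.Quotient.mk x) = W4c3biextchow.q1Map f 0
      rw [map_zero, W4c3biextchow.q1Map_mk, Submodule.Quotient.mk_eq_zero]
      exact ⟨y, hy⟩
    have := congrArg W4c3biextchow.Hom.cl ((W4c3biextchow.cxFunctor f).map_injective e)
    exact (Submodule.Quotient.mk_eq_zero _).1 this
  · intro h
    refine ⟨fun {a b} φ ψ e ↦ W4c3biextchow.Hom.ext ?_⟩
    obtain ⟨x, hx⟩ := Submodule.Quotient.mk_surjective _ ((φ : W4c3biextchow.Hom C a b).cl - (ψ : W4c3biextchow.Hom C a b).cl)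
    have h1 := congrArg W4c3biextchow.Hom.cl e
    rw [W4c3biextchow.cxFunctor_map_cl, W4c3biextchow.cxFunctor_map_cl, ← sub_eq_zero, ← map_sub, ← hx, W4c3biextchow.q1Map_mk, Submodule.Quotient.mk_eq_zero] at h1
    have h2 : C.d 1 0 x = 0 := by
      show (C.d 1 0).hom x = 0
      rw [← W4c3biextchow.delta_mk, hx, map_sub, φ.delta_cl, ψ.delta_cl, sub_self]
    rw [← sub_eq_zero, ← hx, Submodule.Quotient.mk_eq_zero]
    exact h x h2 h1

end Groth.Agent.S16325
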