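import Groth.Statements.S16326
import Mathlib
import Groth.Agent.CxHom.Basic

set_option autoImplicit false
universe u v
open CategoryTheory
open W4c3biextchow

namespace Groth.Agent.S16326

/-- Let f : C ⟶ D be a chain map of ℕ-indexed chain complexes of modules over a ring R, and consider the
functor it induces between the groupoids attached to C and D (objects: degree-0 elements; morphisms
a ⟶ b: degree-1 elements with boundary b - a, modulo boundaries of degree-2 elements). This functor
is full if and only if f is surjective on homology in degree 1 and injective on homology in degree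
0. (The published statement is for complexes of abelian groups; this row allows modules over any
ring R.) -/
theorem result
    (R : Type u) [Ring R] (C D : ChainComplex (ModuleCat.{v} R) ℕ) (f : C ⟶ D) :
    (W4c3biextchow.cxFunctor f).Full ↔
      Epi (HomologicalComplex.homologyMap f 1) ∧ Mono (HomologicalComplex.homologyMap f 0) := by
  rw [Groth.Agent.CxHom.epi_one, Groth.Agent.CxHom.mono_zero]
  constructor
  · intro h
    constructor
    · intro y hy
      let a : W4c3biextchow.Obj C := ⟨0⟩
      let ψ : (W4c3biextchow.cxFunctor f).obj a ⟶ (W4c3biextchow.cxFunctor f).obj a :=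
        ⟨Submodule.Quotient.mk y, by simp [hy, a]⟩
      obtain ⟨φ, hφ⟩ := (W4c3biextchow.cxFunctor f).map_surjective ψ
      obtain ⟨x, hx⟩ := Submodule.Quotient.mk_surjective _ (φ : W4c3biextchow.Hom C a a).cl
      have h1 := congrArg W4c3biextchow.Hom.cl hφ
      rw [W4c3biextchow.cxFunctor_map_cl, ← hx, W4c3biextchow.q1Map_mk, eq_comm, Submodule.Quotient.eq] at h1
      obtain ⟨w, hw⟩ := h1
      refine ⟨x, w, ?_, ?_⟩
      · show (C.d 1 0).hom x = 0
        rw [← W4c3biextchow.delta_mk, hx, φ.delta_cl, sub_self]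
      · show (f.f 1).hom x + (D.d 2 1).hom w = y
        rw [hw]; abel
    · rintro x ⟨y, hy⟩
      let a : W4c3biextchow.Obj C := ⟨0⟩
      let b : W4c3biextchow.Obj C := ⟨x⟩
      let ψ : (W4c3biextchow.cxFunctor f).obj a ⟶ (W4c3biextchow.cxFunctor f).obj b :=
        ⟨Submodule.Quotient.mk y, by simp [hy, a, b]⟩
      obtain ⟨φ, -⟩ := (W4c3biextchow.cxFunctor f).map_surjective ψ
      obtain ⟨w, hw⟩ := Submodule.Quotient.mk_surjective _ (φ : W4c3biextchow.Hom C a b).cl
      refine ⟨w, ?_⟩
      show (C.d 1 0).hom w = x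
      rw [← W4c3biextchow.delta_mk, hw, φ.delta_cl]
      exact sub_zero x
  · rintro ⟨he, hm⟩
    refine ⟨fun {a b} ψ ↦ ?_⟩
    obtain ⟨y, hy⟩ := Submodule.Quotient.mk_surjective _ (ψ : W4c3biextchow.Hom D _ _).cl
    have hdy : (D.d 1 0).hom y = (f.f 0).hom b.pt - (f.f 0).hom a.pt := by
      rw [← W4c3biextchow.delta_mk, hy, ψ.delta_cl]; rfl
    obtain ⟨w, hw⟩ := hm (b.pt - a.pt) ⟨y, hdy.trans (map_sub (f.f 0).hom _ _).symm⟩
    have hcomm : (D.d 1 0).hom ((f.f 1).hom w) = (f.f 0).hom ((C.d 1 0).hom w) := by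
      rw [← W4c3biextchow.delta_mk D, ← W4c3biextchow.q1Map_mk, W4c3biextchow.delta_q1Map, W4c3biextchow.delta_mk]
    obtain ⟨x, v, hx, hv⟩ := he (y - (f.f 1).hom w) (by
      show (D.d 1 0).hom (y - (f.f 1).hom w) = 0
      rw [map_sub, hdy, hcomm, show (C.d 1 0).hom w = b.pt - a.pt from hw, map_sub, sub_self])
    refine ⟨⟨Submodule.Quotient.mk (w + x), ?_⟩, W4c3biextchow.Hom.ext ?_⟩
    · rw [W4c3biextchow.delta_mk, map_add, show (C.d 1 0).hom w = b.pt - a.pt from hw, show (C.d 1 0).hom x = 0 from hx, add_zero]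
    · show W4c3biextchow.q1Map f (Submodule.Quotient.mk (w + x)) = _
      rw [W4c3biextchow.q1Map_mk, ← hy, eq_comm, Submodule.Quotient.eq]
      refine ⟨v, ?_⟩
      show (D.d 2 1).hom v = _
      rw [map_add]
      have hv' : (f.f 1).hom x + (D.d 2 1).hom v = y - (f.f 1).hom w := hv
      rw [eq_sub_iff_add_eq] at hv'
      rw [← hv']; abel

end Groth.Agent.S16326
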