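import Groth.Statements.S16327
import Mathlib
import Groth.Agent.CxHom.Basic

set_option autoImplicit false
universe u v
open CategoryTheory
open W4c3biextchow

namespace Groth.Agent.S16327

/-- Let f : C ⟶ D be a chain map of ℕ-indexed chain complexes of modules over a ring R, and consider the
functor it induces between the groupoids attached to C and D (objects: degree-0 elements; morphisms
a ⟶ b: degree-1 elements with boundary b - a, modulo boundaries of degree-2 elements). This functor
is essentially surjective if and only if f is surjective on homology in degree 0. (The published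
statement is for complexes of abelian groups; this row allows modules over any ring R.) -/
theorem result
    (R : Type u) [Ring R] (C D : ChainComplex (ModuleCat.{v} R) ℕ) (f : C ⟶ D) :
    (W4c3biextchow.cxFunctor f).EssSurj ↔ Epi (HomologicalComplex.homologyMap f 0) := by
  rw [Groth.Agent.CxHom.epi_zero]
  constructor
  · intro h y
    obtain ⟨a, ⟨e⟩⟩ := Functor.EssSurj.mem_essImage (F := W4c3biextchow.cxFunctor f) (⟨y⟩ : W4c3biextchow.Obj D)
    obtain ⟨w, hw⟩ := Submodule.Quotient.mk_surjective _ (e.hom : W4c3biextchow.Hom D _ _).cl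
    refine ⟨a.pt, w, ?_⟩
    show (f.f 0).hom a.pt + (D.d 1 0).hom w = y
    rw [← W4c3biextchow.delta_mk D, hw, e.hom.delta_cl]
    exact add_sub_cancel _ _
  · intro h
    refine ⟨fun b ↦ ?_⟩
    obtain ⟨x, w, hw⟩ := h b.pt
    have hw' : (D.d 1 0).hom w = b.pt - (f.f 0).hom x := eq_sub_of_add_eq' hw
    exact ⟨⟨x⟩, ⟨{
      hom := ⟨Submodule.Quotient.mk w, by rw [W4c3biextchow.delta_mk, hw', W4c3biextchow.cxFunctor_obj_pt]⟩
      inv := ⟨-Submodule.Quotient.mk w, by rw [map_neg, W4c3biextchow.delta_mk, hw', W4c3biextchow.cxFunctor_obj_pt, neg_sub]⟩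
      hom_inv_id := W4c3biextchow.Hom.ext (add_neg_cancel _)
      inv_hom_id := W4c3biextchow.Hom.ext (neg_add_cancel _) }⟩⟩

end Groth.Agent.S16327
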