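import Groth.Statements.S16333
import Groth.Agent.CiField.Basic
import Mathlib

set_option autoImplicit false
universe u
open GalCoh

namespace Groth.Agent.S16333

open MvPolynomial in
theorem norm_surjective_of_c1 {K : Type u} [Field K] (hK : Curves.IsCi K 1) {L : Type u} [Field L] [Algebra K L]
    [FiniteDimensional K L] : Function.Surjective (Algebra.norm K : L → K) := by
  classical
  intro a
  let d := Module.finrank K L
  have hd : 0 < d := Module.finrank_pos
  let b := Module.finBasis K L
  let Mx : Matrix (Fin d) (Fin d) (MvPolynomial (Option (Fin d)) K) :=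
    Matrix.of fun p q => ∑ j, C (Algebra.leftMulMatrix b (b j) p q) * X (some j)
  let P : MvPolynomial (Option (Fin d)) K := Mx.det - C a * X none ^ d
  have hPhom : P.IsHomogeneous d := by
    refine IsHomogeneous.sub ?_ ?_
    · rw [Matrix.det_apply']
      refine IsHomogeneous.sum _ _ _ fun σ _ => ?_
      have h1 : (∏ e, Mx (σ e) e).IsHomogeneous (∑ _e : Fin d, 1) := IsHomogeneous.prod _ _ _ fun e _ => by
        simp only [Mx, Matrix.of_apply]
        exact IsHomogeneous.sum _ _ _ fun j _ => (isHomogeneous_X _ _).C_mul _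
      simp only [Finset.sum_const, Finset.card_univ, Fintype.card_fin, smul_eq_mul, mul_one] at h1
      rw [← map_intCast (C : K →+* MvPolynomial (Option (Fin d)) K)]
      exact h1.C_mul _
    · exact (isHomogeneous_X_pow _ _).C_mul _
  obtain ⟨z, hz, hPz⟩ := CiField.isCi_of_fintype hK (fun _ : Unit => P) (fun _ => d)
    (fun _ => hPhom) (fun _ => hd) (by simp [d])
  let y : L := ∑ j, z (some j) • b j
  have hmat : (eval z).mapMatrix Mx = Algebra.leftMulMatrix b y := by
    ext p q
    simp only [y, map_sum, map_smul, Matrix.sum_apply, Matrix.smul_apply, RingHom.mapMatrix_apply,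
      Matrix.map_apply, Mx, Matrix.of_apply, map_mul, eval_C, eval_X, smul_eq_mul]
    exact Finset.sum_congr rfl fun j _ => mul_comm _ _
  have hN : Algebra.norm K y = a * z none ^ d := by
    have h := hPz ()
    simp only [P, map_sub, map_mul, eval_C, map_pow, eval_X, sub_eq_zero] at h
    rw [Algebra.norm_eq_matrix_det b, ← hmat, ← RingHom.map_det, h]
  by_cases h0 : z none = 0
  · exfalso
    rw [h0, zero_pow hd.ne', mul_zero, Algebra.norm_eq_zero_iff] at hN
    apply hz
    funext x
    cases x with
    | none => exact h0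
    | some j => exact Fintype.linearIndependent_iff.1 b.linearIndependent (fun j => z (some j)) hN j
  · refine ⟨algebraMap K L (z none)⁻¹ * y, ?_⟩
    rw [map_mul, Algebra.norm_algebraMap, hN, mul_left_comm, ← mul_pow, inv_mul_cancel₀ h0, one_pow, mul_one]

/-- the subgroup of `w / g w` -/
abbrev DD (K L : Type u) [Field K] [Field L] [Algebra K L] : Subgroup Lˣ :=
  Subgroup.closure {v : Lˣ | ∃ (w : Lˣ) (g : L ≃ₐ[K] L), (v : L) = (w : L) / g (w : L)}

theorem DD_mono (K M L : Type u) [Field K] [Field M] [Field L] [Algebra K M] [Algebra M L] [Algebra K L]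
    [IsScalarTower K M L] : DD M L ≤ DD K L := by
  refine Subgroup.closure_mono ?_
  rintro v ⟨w, g, h⟩
  exact ⟨w, g.restrictScalars K, h⟩

theorem exists_div_prime_cyclic {K M : Type u} [Field K] [Field M] [Algebra K M] [FiniteDimensional K M]
    [IsGalois K M] {p : ℕ} (hp : p.Prime) (hcard : Nat.card (M ≃ₐ[K] M) = p) (v : M)
    (hv : Algebra.norm K v = 1) : ∃ (w : Mˣ) (g : M ≃ₐ[K] M), v = (w : M) / g (w : M) := by
  classical
  haveI := Fact.mk hp
  haveI : Nontrivial (M ≃ₐ[K] M) := Finite.one_lt_card_iff_nontrivial.1 (by rw [hcard]; exact hp.one_lt)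
  obtain ⟨g, hg⟩ := exists_ne (1 : M ≃ₐ[K] M)
  have hgen : ∀ x, x ∈ Subgroup.zpowers g := fun x => mem_zpowers_of_prime_card (p := p) hcard hg
  have hord : orderOf g = p := by
    rw [orderOf_eq_card_of_forall_mem_zpowers hgen, hcard]
  have hv0 : v ≠ 0 := fun h => by rw [h, Algebra.norm_zero] at hv; exact zero_ne_one hv
  let bb : ℕ → M := fun j => ∏ i ∈ Finset.range j, (g ^ i) v
  have hbadd : ∀ i j, bb (i + j) = bb i * (g ^ i) (bb j) := by
    intro i j
    simp only [bb, Finset.prod_range_add, map_prod]
    congr 1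
    exact Finset.prod_congr rfl fun x _ => by rw [pow_add]; rfl
  have hbp : bb p = 1 := by
    have h1 := Algebra.norm_eq_prod_automorphisms K v
    rw [hv, map_one] at h1
    rw [h1]
    refine Finset.prod_bij (fun i _ => g ^ i) (fun i _ => Finset.mem_univ _) ?_ ?_ (fun i _ => rfl)
    · intro i hi j hj hij
      exact pow_injOn_Iio_orderOf (by simpa [hord] using hi) (by simpa [hord] using hj) hij
    · intro x _
      obtain ⟨i, hi, rfl⟩ := (Finset.mem_image).1 ((mem_zpowers_iff_mem_range_orderOf).1 (hgen x))
      exact ⟨i, by simpa [hord] using hi, rfl⟩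
  have hper : ∀ j, bb j = bb (j % p) := by
    intro j
    induction j using Nat.strong_induction_on with
    | _ j ih =>
      rcases Nat.lt_or_ge j p with h | h
      · rw [Nat.mod_eq_of_lt h]
      · have e : bb j = bb (p + (j - p)) := by rw [Nat.add_sub_cancel' h]
        rw [e, hbadd, hbp, one_mul, ← hord, pow_orderOf_eq_one, hord, AlgEquiv.one_apply,
          ih (j - p) (by have := hp.pos; omega), Nat.mod_eq_sub_mod h]
  have hpow : ∀ x : M ≃ₐ[K] M, ∃ i, g ^ i = x := fun x => by
    obtain ⟨i, _, hi⟩ := (Finset.mem_image).1 ((mem_zpowers_iff_mem_range_orderOf).1 (hgen x))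
    exact ⟨i, hi⟩
  choose ix hix using hpow
  have hb0 : ∀ j, bb j ≠ 0 := fun j => Finset.prod_ne_zero_iff.2 fun i _ => (map_ne_zero _).2 hv0
  let f : (M ≃ₐ[K] M) → Mˣ := fun x => Units.mk0 (bb (ix x)) (hb0 _)
  have hcong : ∀ i j, g ^ i = g ^ j → bb i = bb j := fun i j h => by
    rw [hper i, hper j, show i % p = j % p by rw [← hord]; exact pow_eq_pow_iff_modEq.1 h]
  have hf : groupCohomology.IsMulCocycle₁ f := by
    intro x y
    apply Units.ext
    show bb (ix (x * y)) = x (bb (ix y)) * bb (ix x)
    rw [hcong (ix (x * y)) (ix x + ix y) (by rw [hix, pow_add, hix, hix]), hbadd, mul_comm, hix x]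
  obtain ⟨β, hβ⟩ := groupCohomology.isMulCoboundary₁_of_isMulCocycle₁_of_aut_to_units f hf
  refine ⟨β⁻¹, g, ?_⟩
  have h2 := congrArg Units.val (hβ g)
  have h3 : bb (ix g) = v := by
    rw [hcong (ix g) 1 (by rw [hix, pow_one])]
    simp [bb]
  simp only [f, Units.val_mk0, h3, Units.val_div_eq_div_val] at h2
  rw [← h2]
  show g (β : M) / (β : M) = _
  simp [map_inv₀, div_eq_mul_inv, mul_comm]

theorem pgroup_case (p : ℕ) (hp : p.Prime) : ∀ (n : ℕ) (K L : Type u) [Field K] [Field L] [Algebra K L]
    [FiniteDimensional K L] [IsGalois K L], Curves.IsCi K 1 → Nat.card (L ≃ₐ[K] L) = p ^ n →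
    ∀ u : Lˣ, Algebra.norm K (u : L) = 1 → u ∈ DD K L := by
  intro n
  induction n with
  | zero =>
    intro K L _ _ _ _ _ _ hcard u hu
    have h1 : Module.finrank K L = 1 := by rw [← IsGalois.card_aut_eq_finrank, hcard, pow_zero]
    have h2 := Algebra.norm_eq_prod_automorphisms K (u : L)
    haveI : Subsingleton (L ≃ₐ[K] L) := (Nat.card_eq_one_iff_unique.1 (by rw [hcard, pow_zero])).1
    rw [hu, map_one, Fintype.prod_subsingleton _ (1 : L ≃ₐ[K] L), AlgEquiv.one_apply] at h2
    rw [show u = 1 from Units.ext h2.symm]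
    exact one_mem _
  | succ n ih =>
    intro K L _ _ _ _ _ hK hcard u hu
    classical
    haveI := Fact.mk hp
    obtain ⟨H, hH⟩ := Sylow.exists_subgroup_card_pow_prime p (n := n)
      (show p ^ n ∣ Nat.card (L ≃ₐ[K] L) by rw [hcard]; exact pow_dvd_pow p n.le_succ)
    have hidx : H.index = p := by
      have := H.card_mul_index
      rw [hH, hcard, pow_succ] at this
      exact Nat.eq_of_mul_eq_mul_left (pow_pos hp.pos n) this
    haveI : H.Normal := Subgroup.normal_of_index_eq_minFac_card (by
      rw [hidx, hcard, Nat.Prime.pow_minFac hp (Nat.succ_ne_zero n)])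
    let M := IntermediateField.fixedField H
    haveI : IsGalois K M := IsGalois.of_fixedField_normal_subgroup H
    have hfin : Module.finrank M L = p ^ n := by rw [IntermediateField.finrank_fixedField_eq_card, hH]
    have hcM : Nat.card (M ≃ₐ[K] M) = p := by
      rw [IsGalois.card_aut_eq_finrank]
      have := Module.finrank_mul_finrank K M L
      rw [hfin, ← IsGalois.card_aut_eq_finrank K L, hcard, pow_succ, mul_comm] at this
      exact Nat.eq_of_mul_eq_mul_left (pow_pos hp.pos n) this
    have hKM : Curves.IsCi M 1 := CiField.isCi_finite hK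
    have hv : Algebra.norm K (Algebra.norm M (u : L)) = 1 := by rw [Algebra.norm_norm, hu]
    obtain ⟨w, g, hw⟩ := exists_div_prime_cyclic hp hcM _ hv
    obtain ⟨z, hz⟩ := norm_surjective_of_c1 hKM (L := L) (w : M)
    obtain ⟨G, hG⟩ := AlgEquiv.restrictNormalHom_surjective (F := K) (K₁ := M) L g
    have hcomm : ∀ m : M, algebraMap M L (g m) = G (algebraMap M L m) := fun m => by
      rw [← hG]; exact AlgEquiv.restrictNormal_commutes G M m
    have hz0 : z ≠ 0 := fun h => w.ne_zero (by rw [← hz, h, Algebra.norm_zero])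
    have hgz : Algebra.norm M (G z) = g (w : M) := by
      have h := Algebra.norm_eq_of_equiv_equiv g.toRingEquiv G.toRingEquiv (RingHom.ext hcomm) z
      rw [hz] at h
      have h' := congrArg g h
      exact ((g.apply_symm_apply _).symm.trans h'.symm)
    let q : Lˣ := Units.mk0 (z / G z) (div_ne_zero hz0 ((map_ne_zero _).2 hz0))
    have hq : q ∈ DD K L := Subgroup.subset_closure ⟨Units.mk0 z hz0, G, rfl⟩
    have huq : Algebra.norm M ((u * q⁻¹ : Lˣ) : L) = 1 := by
      rw [Units.val_mul, map_mul, hw, Units.val_inv_eq_inv_val, Units.val_mk0, Algebra.norm_inv, div_eq_mul_inv z,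
        map_mul, Algebra.norm_inv, hz, hgz]
      field_simp
    have h := DD_mono K M L (ih M L hKM (by rw [IsGalois.card_aut_eq_finrank, hfin]) _ huq)
    have := mul_mem h hq
    rwa [inv_mul_cancel_right] at this

theorem main_case (K L : Type u) [Field K] [Field L] [Algebra K L] [FiniteDimensional K L] [IsGalois K L]
    (hK : Curves.IsCi K 1) (u : Lˣ) (hu : Algebra.norm K (u : L) = 1) : u ∈ DD K L := by
  classical
  let D := DD K L
  let x : Lˣ ⧸ D := QuotientGroup.mk u
  have key : ∀ (p : ℕ) (_ : Fact p.Prime) (P : Sylow p (L ≃ₐ[K] L)), x ^ (P : Subgroup (L ≃ₐ[K] L)).index = 1 := by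
    intro p hp P
    let H : Subgroup (L ≃ₐ[K] L) := P
    let M := IntermediateField.fixedField H
    let r : (L ≃ₐ[K] L) ⧸ H → (L ≃ₐ[K] L) := fun c => (Quotient.out c)⁻¹
    let act : (L ≃ₐ[K] L) → Lˣ := fun σ => Units.map (σ : L →* L) u
    let T : Lˣ := ∏ c, act (r c)
    have hT : Algebra.norm M (T : L) = 1 := by
      apply (algebraMap M L).injective
      rw [map_one, Algebra.norm_eq_prod_automorphisms,
        ← Equiv.prod_comp (IntermediateField.subgroupEquivAlgEquiv H).toEquiv]
      have h1 : ∀ h : H, (IntermediateField.subgroupEquivAlgEquiv H h) (T : L) =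
          ∏ c, (h.1 * r c) (u : L) := by
        intro h
        show h.1 (T : L) = _
        rw [Units.coe_prod, map_prod]
        rfl
      refine (Finset.prod_congr rfl (fun h _ => h1 h)).trans ?_
      rw [← Fintype.prod_prod_type']
      have h2 := Algebra.norm_eq_prod_automorphisms K (u : L)
      rw [hu, map_one] at h2
      rw [h2]
      let e : H × ((L ≃ₐ[K] L) ⧸ H) ≃ (L ≃ₐ[K] L) :=
        Equiv.ofBijective (fun hc => hc.1.1 * r hc.2) ⟨fun hc hc' hh => by
          obtain ⟨h, c⟩ := hc
          obtain ⟨h', c'⟩ := hc'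
          have h3 : Quotient.out c * h.1⁻¹ = Quotient.out c' * h'.1⁻¹ := by
            have h4 := congrArg (·⁻¹) hh
            simpa [r, mul_inv_rev] using h4
          have hc : c = c' := by
            have h5 := congrArg (QuotientGroup.mk (s := H)) h3
            rwa [QuotientGroup.mk_mul_of_mem _ (inv_mem h.2), QuotientGroup.mk_mul_of_mem _ (inv_mem h'.2),
              QuotientGroup.out_eq', QuotientGroup.out_eq'] at h5
          subst hc
          have h6 : h.1 = h'.1 := inv_injective (mul_left_cancel h3)
          rw [Subtype.ext h6], fun σ => by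
          obtain ⟨h, hh⟩ := QuotientGroup.mk_out_eq_mul H σ⁻¹
          refine ⟨⟨h, QuotientGroup.mk σ⁻¹⟩, ?_⟩
          show h.1 * (Quotient.out (QuotientGroup.mk σ⁻¹ : (L ≃ₐ[K] L) ⧸ H))⁻¹ = σ
          rw [hh, mul_inv_rev, inv_inv, mul_inv_cancel_left]⟩
      exact Fintype.prod_equiv e _ _ fun hc => rfl
    have hTD : T ∈ D := by
      refine DD_mono K M L ?_
      obtain ⟨n, hn⟩ := IsPGroup.iff_card.1 P.2
      refine pgroup_case p hp.out n M L (CiField.isCi_finite hK) ?_ T hT
      rw [← hn]
      exact (Nat.card_congr (IntermediateField.subgroupEquivAlgEquiv H).toEquiv).symm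
    have hx : ∀ σ, (QuotientGroup.mk (act σ) : Lˣ ⧸ D) = x := by
      intro σ
      rw [QuotientGroup.eq]
      refine Subgroup.subset_closure ⟨u, σ, ?_⟩
      simp [act, div_eq_mul_inv, mul_comm]
    have h3 : (QuotientGroup.mk T : Lˣ ⧸ D) = x ^ H.index := by
      rw [show T = ∏ c, act (r c) from rfl, ← QuotientGroup.mk'_apply, map_prod]
      simp only [QuotientGroup.mk'_apply, hx, Finset.prod_const, Finset.card_univ,
        Subgroup.index, Nat.card_eq_fintype_card]
    rw [← h3, QuotientGroup.eq_one_iff]
    exact hTD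
  have hdvd : ∀ (p : ℕ) (_ : Fact p.Prime) (P : Sylow p (L ≃ₐ[K] L)), orderOf x ∣ (P : Subgroup (L ≃ₐ[K] L)).index :=
    fun p hp P => orderOf_dvd_of_pow_eq_one (key p hp P)
  have h1 : orderOf x = 1 := by
    by_contra hne
    obtain ⟨p, hp, hpd⟩ := Nat.exists_prime_and_dvd hne
    haveI := Fact.mk hp
    obtain ⟨P⟩ : Nonempty (Sylow p (L ≃ₐ[K] L)) := inferInstance
    exact P.not_dvd_index (hpd.trans (hdvd p inferInstance P))
  exact (QuotientGroup.eq_one_iff u).1 (orderOf_eq_one_iff.1 h1)


/-- Let k be an algebraically closed field, K an extension field of k which is finitely generated of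
transcendence degree 1 (the function field of an irreducible curve over k), and L a finite Galois
extension of K. Then (1) the norm map from L to K is surjective, and (2) a nonzero element of L has
norm 1 if and only if it lies in the subgroup of units generated by the elements w / g(w), w a unit
of L and g an automorphism of L over K. (The published statement is for the function fields of an
irreducible curve and of a component of its preimage under a finite abelian étale cover of the
ambient variety; this row takes any finite Galois extension of a function field of transcendence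
degree 1 over an algebraically closed field.) -/
theorem result
    (k : Type u) [Field k] [IsAlgClosed k] (K L : Type u) [Field K] [Field L]
    [Algebra k K] [Algebra K L] [FiniteDimensional K L] [IsGalois K L]
    (hfg : (⊤ : IntermediateField k K).FG) (htr : Algebra.trdeg k K = 1) :
    Function.Surjective (Algebra.norm K : L → K) ∧
      ∀ u : Lˣ, Algebra.norm K (u : L) = 1 ↔
        u ∈ Subgroup.closure {v : Lˣ | ∃ (w : Lˣ) (g : L ≃ₐ[K] L), (v : L) = (w : L) / g (w : L)} := by
  classical
  have hK : Curves.IsCi K 1 := CiField.isCi_of_trdeg (by exact_mod_cast htr)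
  refine ⟨norm_surjective_of_c1 hK, fun u => ⟨main_case K L hK u, fun hu => ?_⟩⟩
  induction hu using Subgroup.closure_induction with
  | mem v hv =>
    obtain ⟨w, g, h⟩ := hv
    rw [h, div_eq_mul_inv, map_mul, Algebra.norm_inv, Algebra.norm_eq_of_algEquiv g]
    exact mul_inv_cancel₀ (Algebra.norm_ne_zero_iff.2 w.ne_zero)
  | one => simp
  | mul a b _ _ ha hb => rw [Units.val_mul, map_mul, ha, hb, one_mul]
  | inv a _ ha => rw [Units.val_inv_eq_inv_val, Algebra.norm_inv, ha, inv_one]

end Groth.Agent.S16333
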