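import Groth.Statements.S16334
import Groth.Agent.PicDiv.Main
import Groth.Agent.S4277

set_option autoImplicit false
universe u
open CategoryTheory CategoryTheory.Limits AlgebraicGeometry
open Pic13

set_option backward.isDefEq.respectTransparency false
set_option backward.isDefEq.respectTransparency.types false

namespace Groth.Agent.S16334

/-- Let k be an algebraically closed field, X an integral smooth projective scheme over k and L an
invertible O_X-module which is numerically equivalent to zero (degree 0 on every closed subscheme of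
X that is integral of dimension one). Then the class of L is the sum of an algebraically trivial
class and a torsion class: there are invertible O_X-modules E and T with E algebraically equivalent
to zero, some positive tensor power of T isomorphic to O_X, and L ≅ E ⊗ T. -/
theorem result (k : Type u) [Field k] [IsAlgClosed k]
    (X : Scheme.{u}) [X.Over (Spec (CommRingCat.of k))] [IsIntegral X]
    [Smooth (X ↘ Spec (CommRingCat.of k))] [IsProper (X ↘ Spec (CommRingCat.of k))]
    (hproj : Neron.IsProjectiveOver k (Over.mk (X ↘ Spec (CommRingCat.of k))))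
    (L : X.Modules) (hL : PicF.IsInvertible L) (hnum : Pic13.IsNumEquivZero k X L) :
    ∃ (E T : X.Modules), PicF.IsInvertible E ∧ PicF.IsInvertible T ∧ Pic13.IsAlgEquivZero k X E ∧
      (∃ m : ℕ, 0 < m ∧ Nonempty (CohB1.tensorPow T m ≅ Coh.structureModule X)) ∧
      Nonempty (L ≅ CohB1.tensorMod E T) := by
  obtain ⟨n, hn, halg⟩ := Groth.Agent.S4277.result k X L hL hnum
  obtain ⟨E, hE, hEa, ⟨i⟩⟩ := Groth.Agent.PicDiv.exists_root hn.ne'
    (TMul.isInvertible_tensorPow hL n) halg
  letI := Groth.Agent.W7Cube.law X
  obtain ⟨T, hT, hTc⟩ := PicGrp.exists_eq_cls ((PicGrp.cls E hE)⁻¹ * PicGrp.cls L hL)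
  have hTn : Nonempty (CohB1.tensorPow T n ≅ Coh.structureModule X) := by
    rw [← PicGrp.cls_eq_one_iff (TMul.isInvertible_tensorPow hT n),
      ← Groth.Agent.PicRoot.cls_pow hT n, ← hTc, mul_pow, inv_pow, Groth.Agent.PicRoot.cls_pow,
      Groth.Agent.PicRoot.cls_pow, (PicGrp.cls_eq_cls_iff (TMul.isInvertible_tensorPow hE n) (TMul.isInvertible_tensorPow hL n)).2 ⟨i⟩, inv_mul_cancel]
  refine ⟨E, T, hE, hT, hEa, ⟨n, hn, hTn⟩, ?_⟩
  refine (PicGrp.cls_eq_cls_iff hL (TMul.isInvertible_tensorMod hE hT)).1 ?_
  change PicGrp.cls L hL = PicGrp.cls E hE * PicGrp.cls T hT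
  rw [← hTc, mul_inv_cancel_left]

end Groth.Agent.S16334
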