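import Groth.Agent.AlgStLib.TrivAut
import Groth.Agent.AlgStLib.Cancel
import Groth.Agent.AlgStLib.Faithful
import Groth.Agent.S12969
import Groth.Agent.S12956
import Groth.Agent.AlgStLib.QC2
import Groth.Prelude.Def_AlgSt2
import Mathlib.FieldTheory.IsAlgClosed.Basic
import Mathlib.AlgebraicGeometry.Scheme

set_option autoImplicit false
universe u
open CategoryTheory
open AlgSt

set_option backward.isDefEq.respectTransparency false

namespace Groth.Agent.S16339

open _root_.AlgSt Groth.Agent.AlgStLib Groth.Agent.AlgSpLib Groth.Agent.FibCat2Misc Groth.Agent.FibCatRep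

/-- Let `S` be a scheme and `g : 𝒢 → ℱ` a functor over `(Sch/S)` between Deligne–Mumford stacks (fppf
topology). Suppose that for every algebraically closed field `k` and every object `ξ` of `𝒢` lying
over `Spec k → S`, the homomorphism `Aut(ξ) → Aut(g(ξ))` of automorphism groups over the identity is
injective, stated here as: every endomorphism `a` of `ξ` over the identity of `Spec k` with `g(a) =
𝟙` is `𝟙` (such `a` are automorphisms, the fibres being groupoids). Then `g` is representable by
algebraic spaces. (The published statement is the equivalence of the two conditions. The converse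
implication — a functor representable by algebraic spaces is injective on automorphism groups over
identities — holds for every morphism of algebraic stacks and every object, and is not part of this
row. The published statement works under the convention that Deligne–Mumford stacks have isomorphism
spaces of finite type and separated over a Noetherian base; this row assumes only that both stacks
are Deligne–Mumford.) -/
theorem result
    (S : AlgebraicGeometry.Scheme.{u}) (𝒢 ℱ : AlgSt.Cat S)
    (h𝒢 : AlgSt.IsDM AlgebraicGeometry.Scheme.fppfPrecoverage 𝒢)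
    (hℱ : AlgSt.IsDM AlgebraicGeometry.Scheme.fppfPrecoverage ℱ)
    (g : 𝒢 ⥤ᵇ ℱ)
    (hinj : ∀ (k : Type u) [Field k] [IsAlgClosed k] (s : AlgebraicGeometry.Spec (CommRingCat.of k) ⟶ S)
        (ξ : 𝒢.obj) (hξ : 𝒢.p.obj ξ = Over.mk s) (a : ξ ⟶ ξ),
        𝒢.p.IsHomLift (𝟙 (𝒢.p.obj ξ)) a → g.map a = 𝟙 (g.obj ξ) → a = 𝟙 ξ) :
    AlgSt.RepByAlgSp1 g := by
  obtain ⟨U, x, hx, hxs⟩ := h𝒢.2
  have hx' := (repWith_overCat_iff _ _ x).1 hx
  have hxs' := (repWith_overCat_iff _ _ x).1 hxs
  have hdm : AlgSt.IsDMOver 𝒢 := Groth.Agent.S12969.result S 𝒢 h𝒢.1 (spOf U) _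
    (AlgStLib.repWith_mono hx' fun _ T a _ ha V W v w h hv hw e => by
      have := (isEtaleMor_iff_locP (AlgSp.IsAlgSpace.yon_obj T)).1 ha v w h hv hw e
      infer_instance)
    (AlgStLib.repWith_mono hx' fun _ T a _ ha V W v w h hv hw e => by
      have := (isEtaleMor_iff_locP (AlgSp.IsAlgSpace.yon_obj T)).1 ha v w h hv hw e
      infer_instance) hxs'
    (AlgStLib.repWith_mono hx' fun _ T a _ ha V W v w h hv hw e => by
      have := (isEtaleMor_iff_locP (AlgSp.IsAlgSpace.yon_obj T)).1 ha v w h hv hw e
      exact ⟨inferInstance, inferInstance⟩)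
  have hg : AlgSt.IsDMMor g := Groth.Agent.S12956.result S 𝒢 ℱ (FibCat.selfOver (Over S)) h𝒢.1 hℱ.1 isAlgStack_self g
    (FibCat.toSelf ℱ) (by rw [comp_toSelf]; exact hdm)
  haveI := faithful_of_trivial h𝒢.1.isStack.1 hℱ.1.isStack.1 (trivial_of_geomPoints h𝒢.1.isStack.1 hℱ.1.isStack.1 hg hinj)
  exact repByAlgSp1_of_faithful h𝒢.1 hℱ.1 g

end Groth.Agent.S16339
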