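import Groth.Statements.S16341
import Groth.Agent.TFQuot.Basic
import Groth.Agent.NodalDeg.Main
import Groth.Agent.GenusInsep.Le
import Groth.Agent.GenusInsep.DimFinite
import Groth.Agent.TopDegRep.Basic
import Groth.Agent.GeomProp.SmoothPoint
import Groth.Agent.QuotCurve.Basic
import Groth.Agent.W7Slope.Basic
import Groth.Agent.FlatBlowUp.Generic
import Groth.Agent.SpQS.BiratNormal

set_option autoImplicit false
universe u
open CategoryTheory CategoryTheory.Limits AlgebraicGeometry
open Curves

set_option backward.isDefEq.respectTransparency false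
set_option backward.isDefEq.respectTransparency.types false

namespace Groth.Agent.S16341

/-- Let C be a proper scheme over an algebraically closed field k, all of whose irreducible components
have dimension one and whose singularities are at worst nodal. Let π : C' → C be a finite morphism
from a normal scheme which is an isomorphism over a dense open subset of C whose preimage is dense
in C' (so C' is the normalisation of C). Then for every coherent O_C-module F which is pure of
dimension one there are a coherent, finite locally free O_{C'}-module F' and a monomorphism f : F →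
π_*F' whose cokernel has support inside the node set of C. (The published statement is for a stable
curve of genus at least two and phrases the middle term as a direct sum over the irreducible
components; the argument uses only that the curve is nodal and produces the push-forward from the
normalisation.) -/
theorem result (k : Type u) [Field k] [IsAlgClosed k]
    (C : Scheme.{u}) [C.Over (Spec (CommRingCat.of k))] [IsProper (C ↘ (Spec (CommRingCat.of k)))]
    (hdim : ∀ Z ∈ irreducibleComponents (C : Type u), topologicalKrullDim Z = 1) (hC : Curv2.AtWorstNodal k C)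
    (C' : Scheme.{u}) (π : C' ⟶ C) [IsFinite π] (hC' : Pi1.IsNormalScheme C')
    (U : C.Opens) (hU : Dense (U : Set C)) (hU' : Dense ((π ⁻¹ᵁ U : C'.Opens) : Set C')) (hπU : IsIso (π ∣_ U))
    (F : C.Modules) (hF : Coh.IsCoh F) (hpure : ShStab.IsPure C F 1) :
    ∃ (F' : C'.Modules) (f : F ⟶ (Scheme.Modules.pushforward π).obj F'),
      Coh.IsCoh F' ∧ FlatMod.IsFinLocFree F' ∧ Mono f ∧
        CohB1.support (cokernel f) ⊆ {x : C | Curv2.IsNode k C x} := by
  classical
  open Groth.Agent in
  haveI hnoeC : IsNoetherian C := CurveRR.isNoetherian_of_proper k C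
  open Groth.Agent in
  haveI : IsLocallyNoetherian C' := LocallyOfFiniteType.isLocallyNoetherian π
  haveI := hπU
  have hdC : topologicalKrullDim C ≤ 1 := Groth.Agent.TopDegRep.topologicalKrullDim_le_of_components C 1 hdim
  have hdC' := Groth.Agent.GenusInsep.topologicalKrullDim_le_of_finite π hdC
  have hpid : ∀ y : C', IsDomain (C'.presheaf.stalk y) ∧ IsPrincipalIdealRing (C'.presheaf.stalk y) := fun y => by
    obtain ⟨h1, h2⟩ := hC' y
    haveI := h1
    haveI := h2
    have hdy := (Groth.Agent.RegDual.ringKrullDim_stalk_le_topologicalKrullDim y).trans hdC'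
    haveI := Groth.Agent.QuotCurve.isRegularLocalRing_of_normal hdy
    exact ⟨h1, Groth.Agent.W7Slope.isPrincipalIdealRing_of_regular hdy⟩
  haveI : IsReduced C' := @isReduced_of_isReduced_stalk C' fun y => haveI := (hpid y).1; inferInstance
  -- maximal points of both schemes lie over `U`
  have hgp : ∀ {T : Scheme.{u}} (a : T), (∀ b : T, b ⤳ a → b = a) → a ∈ Groth.Agent.NodalDeg.Gp T := fun a ha => by
    obtain ⟨η, hη, hηa⟩ := Groth.Agent.NodalDeg.Gp.exists_specializes a
    exact ha η hηa ▸ hη
  have hmemU : ∀ η ∈ Groth.Agent.NodalDeg.Gp C, η ∈ U := fun η hη =>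
    Groth.Agent.GeomProp.genericPoint_mem_of_dense _ hη U hU
  have hmemU' : ∀ η ∈ Groth.Agent.NodalDeg.Gp C', π η ∈ U := fun η hη =>
    Groth.Agent.GeomProp.genericPoint_mem_of_dense _ hη (π ⁻¹ᵁ U) hU'
  have hinjU : ∀ a b : C', π a ∈ U → π a = π b → a = b := fun a b ha hab => by
    have := (π ∣_ U).isOpenEmbedding.injective (a₁ := (⟨a, ha⟩ : π ⁻¹ᵁ U)) (a₂ := ⟨b, (show π b ∈ U from hab ▸ ha)⟩)
      (Subtype.ext (by rw [morphismRestrict_base_coe, morphismRestrict_base_coe]; exact hab))
    exact congrArg Subtype.val this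
  have hlift : ∀ c ∈ U, ∃ a : C', π a = c := fun c hc => by
    obtain ⟨a, ha⟩ := (π ∣_ U).surjective (⟨c, hc⟩ : U)
    have := congrArg Subtype.val ha
    rw [morphismRestrict_base_coe] at this
    exact ⟨a.1, this⟩
  have hupC : ∀ η ∈ Groth.Agent.NodalDeg.Gp C, ∀ a : C', π a = η → ∀ b : C', b ⤳ a → b = a := by
    intro η hη a ha b hb
    have h1 : π b ⤳ η := ha ▸ hb.map π.continuous
    have h2 : π b = π a := (hη |> fun h => Groth.Agent.NodalDeg.Gp.eq_of_specializes h h1).trans ha.symm
    exact hinjU b a (by rw [h2, ha]; exact hmemU η hη) h2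
  obtain ⟨E, p, hE, hEf, hp, hinj⟩ := Groth.Agent.TFQuot.exists_tf_quotient hpid _
    (Groth.Agent.QC.isCoh_pullback π hF)
  haveI := hp
  let h : F ⟶ (Scheme.Modules.pushforward π).obj E :=
    (Scheme.Modules.pullbackPushforwardAdjunction π).unit.app F ≫ (Scheme.Modules.pushforward π).map p
  have hpush : Coh.IsCoh ((Scheme.Modules.pushforward π).obj E) :=
    Groth.Agent.QC.isCoh_pushforward_of_isFinite π hE.2 (hM := hE.1)
  refine ⟨E, h, hE, hEf, ?_, ?_⟩
  · -- injective at the generic points, so injective by purity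
    have hK : Coh.IsCoh (kernel h) := Groth.Agent.QC.isCoh_kernel hF hpush.1 h
    have hsupp : ∀ η ∈ Groth.Agent.NodalDeg.Gp C, η ∉ CohB1.support (kernel h) := by
      intro η hη hηS
      apply hηS
      obtain ⟨a, rfl⟩ := hlift η (hmemU η hη)
      have hfield := Groth.Agent.FlatBlowUp.isField_stalk_of_maximal a (hupC _ hη a rfl)
      have hk := Groth.Agent.TFQuot.kap_injective π F a
        (Groth.Agent.TFCurvStab.bijective_stalkMap_of_iso π U a (hmemU _ hη))
      have hpa : Function.Injective (Groth.Agent.WeakAssLib.stalkHom p a) := by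
        refine hinj a ?_
        letI := hfield.toField
        infer_instance
      have hha := Groth.Agent.TFQuot.injective_stalk_adjoint π p a hk hpa
      refine subsingleton_of_forall_eq 0 fun v => ?_
      refine Groth.Agent.NodalDeg.injective_stalkHom (kernel.ι h) _ (hha ?_)
      have h0 : Groth.Agent.WeakAssLib.stalkHom (kernel.ι h ≫ h) (π a) v = 0 := by
        rw [kernel.condition]
        obtain ⟨W, hW, s, rfl⟩ := (kernel h).presheaf.exists_germ_eq v
        erw [Groth.Agent.WeakAssLib.stalkHom_germ]
        exact map_zero _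
      rw [Groth.Agent.TFQuot.stalkHom_comp] at h0
      exact h0.trans (by rw [map_zero, map_zero])
    have hcl := Groth.Agent.QC.isClosed_support hK.2
    have hdense : Dense ((CohB1.support (kernel h))ᶜ : Set C) := by
      rw [dense_iff_inter_open]
      rintro W hW ⟨w, hw⟩
      obtain ⟨η, hη, hηw⟩ := Groth.Agent.NodalDeg.Gp.exists_specializes w
      exact ⟨η, hηw.mem_open hW hw, hsupp η hη⟩
    have hd : topologicalKrullDim (CohB1.support (kernel h)) ≤ 0 := by
      have := Groth.Agent.CurveRR.dim_compl_le_zero hdC (U := ⟨(CohB1.support (kernel h))ᶜ, hcl.isOpen_compl⟩) hdense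
      rw [show (((⟨(CohB1.support (kernel h))ᶜ, hcl.isOpen_compl⟩ : C.Opens) : Set C))ᶜ = CohB1.support (kernel h)
        from compl_compl _] at this
      exact this
    have hz : IsZero (kernel h) := by
      by_contra hz
      have h1 := hpure (kernel h) (kernel.ι h) inferInstance hK hz
      rw [h1] at hd
      exact absurd hd (by norm_num)
    exact Preadditive.mono_of_kernel_zero (hz.eq_of_src _ _)
  · -- surjective away from the nodes
    intro x hx
    by_contra hnode
    have hES : IsClosed (CohB1.support E) := Groth.Agent.QC.isClosed_support hE.2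
    by_cases hxU : x ∈ U
    · exact Groth.Agent.TFCurvStab.support_coker_adjoint π U p hES hx hxU
    have hxc : IsClosed ({x} : Set C) := by
      rw [← closure_eq_iff_isClosed]
      refine Set.Subset.antisymm (fun w hw => ?_) subset_closure
      obtain ⟨η, hη, hηx⟩ := Groth.Agent.NodalDeg.Gp.exists_specializes x
      rcases Groth.Agent.AmpleDimOne.eq_or_eq_of_specializes hdC hηx (specializes_iff_mem_closure.2 hw) with e | e
      · exact (hxU (e ▸ hmemU η hη)).elim
      · exact e.symm
    rcases hC x hxc with ⟨V₀, hxV₀, hsm⟩ | hn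
    swap
    · exact hnode hn
    obtain ⟨V, hV, hxV, hle⟩ := exists_isAffineOpen_mem_and_subset (U := V₀) (x := x) hxV₀
    haveI := hsm
    haveI : IsAffine (V : Scheme.{u}) := hV
    haveI : IsAffine ((π ⁻¹ᵁ V : C'.Opens) : Scheme.{u}) := hV.preimage π
    haveI : IsIntegralHom (π ∣_ V) := IsZariskiLocalAtTarget.restrict (inferInstance : IsIntegralHom π) V
    have hVn : ∀ v : (V : Scheme.{u}), IsDomain ((V : Scheme.{u}).presheaf.stalk v) ∧
        IsIntegrallyClosed ((V : Scheme.{u}).presheaf.stalk v) := by
      haveI : Smooth (V.ι ≫ (C ↘ Spec (CommRingCat.of k))) := by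
        rw [← C.homOfLE_ι (show V ≤ V₀ from hle), Category.assoc]
        infer_instance
      exact Groth.Agent.GenusInsep.normal_of_regular fun v =>
        Groth.Agent.SmLocalST.isRegularLocalRing_stalk_of_smooth_field (V.ι ≫ (C ↘ Spec (CommRingCat.of k))) v
    have hmaxV : ∀ {T : Scheme.{u}} (O : T.Opens) (v : (O : Scheme.{u})),
        Groth.Agent.SpQS.IsMaxPt v → ∀ b : T, b ⤳ v.1 → b = v.1 := by
      intro T O v hv b hb
      exact congrArg Subtype.val (hv ⟨b, hb.mem_open O.2 v.2⟩ (O.ι.isOpenEmbedding.isInducing.specializes_iff.1 hb))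
    haveI : IsIso (π ∣_ V) := by
      refine Groth.Agent.SpQS.isIso_of_integral_normal (π ∣_ V) hVn (fun z hz => ?_) (fun v hv => ?_)
      · intro v hv
        apply Subtype.ext
        have hzG := hgp _ (hmaxV _ z hz)
        have hzU := hmemU' _ hzG
        have hv' : v.1 ⤳ π z.1 := by
          rw [← morphismRestrict_base_coe π V z]
          exact hv.map V.ι.continuous
        obtain ⟨b, hb⟩ := hlift v.1 (hv'.mem_open U.2 hzU |> fun h => h)
        have hbU : π b ∈ U := hb.symm ▸ (hv'.mem_open U.2 hzU)
        have hsp : (π ∣_ U) (⟨b, hbU⟩ : π ⁻¹ᵁ U) ⤳ (π ∣_ U) ⟨z.1, hzU⟩ :=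
          U.ι.isOpenEmbedding.isInducing.specializes_iff.1 (by
            show ((π ∣_ U) (⟨b, hbU⟩ : π ⁻¹ᵁ U)).1 ⤳ ((π ∣_ U) ⟨z.1, hzU⟩).1
            rw [morphismRestrict_base_coe, morphismRestrict_base_coe]
            exact hb.symm ▸ hv')
        have hbz : b = z.1 := hmaxV _ z hz b
          (((π ∣_ U).isOpenEmbedding.isInducing.specializes_iff.1 hsp).map (π ⁻¹ᵁ U).ι.continuous)
        rw [morphismRestrict_base_coe, ← hb, hbz]
      · have hvG := hgp _ (hmaxV _ v hv)
        obtain ⟨a, ha⟩ := hlift v.1 (hmemU _ hvG)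
        let z : ((π ⁻¹ᵁ V : C'.Opens) : Scheme.{u}) := ⟨a, show π a ∈ V from ha.symm ▸ v.2⟩
        refine ⟨z, Subtype.ext (by rw [morphismRestrict_base_coe]; exact ha), fun z' hz' => ?_, ?_⟩
        · have h2 := congrArg Subtype.val hz'
          rw [morphismRestrict_base_coe] at h2
          exact Subtype.ext (hinjU _ _ (by rw [h2]; exact hmemU _ hvG) (h2.trans ha.symm))
        · haveI : IsIso (π.stalkMap z.1) := (ConcreteCategory.isIso_iff_bijective _).2
            (Groth.Agent.TFCurvStab.bijective_stalkMap_of_iso π U z.1 (show π a ∈ U from ha.symm ▸ hmemU _ hvG))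
          haveI : IsIso ((π ∣_ V).stalkMap z) :=
            ((MorphismProperty.isomorphisms CommRingCat).arrow_mk_iso_iff (morphismRestrictStalkMap π V z)).2 ‹_›
          exact Groth.Agent.SpQS.bijective_residueFieldMap_of_isIso (π ∣_ V) z
    exact Groth.Agent.TFCurvStab.support_coker_adjoint π V p hES hx hxV

end Groth.Agent.S16341
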