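import Groth.Statements.S16342
import Groth.Agent.S11569
import Groth.Agent.DeltaNorm.NodalCount
import Groth.Agent.CurveRR.Euler
import Groth.Agent.CurveCompl.Basic
import Groth.Agent.DimChain.Morphism
-- import your own Groth.Agent.* helpers here

set_option autoImplicit false
set_option backward.isDefEq.respectTransparency false
set_option backward.isDefEq.respectTransparency.types false
set_option maxHeartbeats 1000000
universe u
open CategoryTheory CategoryTheory.Limits AlgebraicGeometry
open Curves

namespace Groth.Agent.S16342

/-- Let C be a proper scheme, not necessarily connected, over an algebraically closed field k, all of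
whose irreducible components have dimension one and whose singularities are at worst nodal. Let π :
C' → C be a finite morphism from a normal scheme which is an isomorphism over a dense open subset of
C whose preimage is dense in C' (so C' is the normalisation of C, the disjoint union of the
normalisations of its irreducible components). If δ is the number of nodes of C, and ν and μ are the
numbers of connected components of C' and of C respectively, then g(C) + ν = g(C') + δ + μ, where g
denotes the dimension of H^1 of the structure sheaf; with g(C') the sum of the genera of the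
components this is g(C) = Σ_i g_i + δ − ν + μ. -/
theorem result (k : Type u) [Field k] [IsAlgClosed k]
    (C : Scheme.{u}) [C.Over (Spec (CommRingCat.of k))] [IsProper (C ↘ (Spec (CommRingCat.of k)))]
    (hdim : ∀ Z ∈ irreducibleComponents (C : Type u), topologicalKrullDim Z = 1) (hC : Curv2.AtWorstNodal k C)
    (C' : Scheme.{u}) (π : C' ⟶ C) [IsFinite π] (hC' : Pi1.IsNormalScheme C')
    (U : C.Opens) (hU : Dense (U : Set C)) (hU' : Dense ((π ⁻¹ᵁ U : C'.Opens) : Set C')) (hπU : IsIso (π ∣_ U)) :
    letI : C'.Over (Spec (CommRingCat.of k)) := ⟨π ≫ (C ↘ (Spec (CommRingCat.of k)))⟩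
    (Curv2.genus k C : ℤ) + Nat.card (_root_.ConnectedComponents C') =
      (Curv2.genus k C' : ℤ) + Nat.card {x : C // Curv2.IsNode k C x} + Nat.card (_root_.ConnectedComponents C) := by
  classical
  letI : C'.Over (Spec (CommRingCat.of k)) := ⟨π ≫ (C ↘ (Spec (CommRingCat.of k)))⟩
  haveI : IsProper (C' ↘ Spec (CommRingCat.of k)) := inferInstanceAs (IsProper (π ≫ (C ↘ Spec (CommRingCat.of k))))
  haveI : IsReduced C := by
    haveI := fun x => NodalRed.isReduced_stalk k C hC x
    exact isReduced_of_isReduced_stalk C
  haveI : IsReduced C' := by
    haveI : ∀ x : C', _root_.IsReduced (C'.presheaf.stalk x) := fun x => haveI := (hC' x).1; inferInstance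
    exact isReduced_of_isReduced_stalk C'
  have hd : topologicalKrullDim C ≤ 1 := TopDegRep.topologicalKrullDim_le_of_components C 1 hdim
  have hd' : topologicalKrullDim C' ≤ 1 :=
    ((DimChain.dim_finite π).trans_le (topologicalKrullDim_subspace_le _ _)).trans hd
  have hproj : ∃ (N : ℕ) (i : C ⟶ CohB1.ProjSpace N k), IsClosedImmersion i ∧
      i ≫ CohB1.ProjSpace.toSpec N k = C ↘ Spec (CommRingCat.of k) :=
    CurveCompl.exists_closedImmersion (C ↘ Spec (CommRingCat.of k)) hd
  have hE := Groth.Agent.S11569.result k C hproj hdim C' π hC' U hU hU' hπU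
  have hsum : (∑ᶠ x : C, (if IsClosed ({x} : Set C) then
      letI := Curv2.resAlgebra k C x
      ((Module.finrank k (C.residueField x) : ℤ) * ((Curv2.deltaInv (C.presheaf.stalk x)).toNat : ℤ)) else 0)) =
      (Nat.card {x : C // Curv2.IsNode k C x} : ℤ) := by
    rw [← DeltaNorm.finsum_indicator_one (fun x : C => Curv2.IsNode k C x)]
    refine finsum_congr fun x => ?_
    by_cases hx : IsClosed ({x} : Set C)
    · rw [if_pos hx, DeltaNorm.finrank_residueField_one k hx, Nat.cast_one, one_mul]
      by_cases hn : Curv2.IsNode k C x
      · rw [if_pos hn, DeltaNorm.deltaInv_of_isNode k hdim hn]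
        rfl
      · obtain ⟨V, hxV, hV⟩ := (hC x hx).resolve_right hn
        haveI := hV
        rw [if_neg hn, DeltaNorm.deltaInv_of_smooth k hdim hx V hxV]
        rfl
    · rw [if_neg hx, if_neg (fun hn : Curv2.IsNode k C x => hx hn.1)]
  rw [hsum, CurveRR.euler_eq (k := k) hd', CurveRR.euler_eq (k := k) hd] at hE
  have h1 : CurveRR.h k (Coh.structureModule C) 0 = Nat.card (_root_.ConnectedComponents C) :=
    DeltaNorm.h0_eq_card_connectedComponents k
  have h2 : CurveRR.h k (Coh.structureModule C') 0 = Nat.card (_root_.ConnectedComponents C') :=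
    DeltaNorm.h0_eq_card_connectedComponents k
  rw [h1, h2] at hE
  have g1 : Curv2.genus k C = CurveRR.h k (Coh.structureModule C) 1 := rfl
  have g2 : Curv2.genus k C' = CurveRR.h k (Coh.structureModule C') 1 := rfl
  rw [g1, g2]
  push_cast at hE ⊢
  linarith

end Groth.Agent.S16342
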