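import Groth.Statements.S16343
import Mathlib.Order.Zorn
import Mathlib.Data.Nat.Factorization.Basic
import Mathlib.Data.Nat.Factorization.Induction
import Mathlib.GroupTheory.OrderOfElement
import Mathlib.RingTheory.Int.Basic
import Mathlib.GroupTheory.Archimedean
import Mathlib.Tactic.LinearCombination
-- import your own Groth.Agent.* helpers here

set_option autoImplicit false
set_option linter.style.haveILetI false
set_option linter.unusedSimpArgs false
open KatoHom

namespace Groth.Agent.S16343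

/-- Let P be a set of primes and π : A → T a surjection of abelian groups whose kernel is ℓ-divisible
for every ℓ ∈ P, with T a torsion group; let T(P) be the subgroup of elements of T killed by a
positive integer all of whose prime factors lie in P, and T' the subgroup of elements killed by a
positive integer none of whose prime factors lies in P. Then the preimage π⁻¹(T') is ℓ-divisible for
every ℓ ∈ P, and π has a section s over T(P) for which (d, t) ↦ d + s(t) is a bijection from π⁻¹(T')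
× T(P) onto A, so that A is the direct sum of π⁻¹(T') and a copy of T(P). (The decomposition is
expressed through a section of π over T(P).) -/
theorem result
    {A T : Type*} [AddCommGroup A] [AddCommGroup T] (P : Set ℕ) (hP : ∀ p ∈ P, p.Prime)
    (π : A →+ T) (hπ : Function.Surjective π) (hT : ∀ t : T, ∃ n : ℕ, 0 < n ∧ n • t = 0)
    (hD : ∀ ℓ ∈ P, ∀ x ∈ π.ker, ∃ y ∈ π.ker, ℓ • y = x)
    (TP T' : AddSubgroup T)
    (hTP : ∀ t, t ∈ TP ↔ ∃ n : ℕ, 0 < n ∧ (∀ p : ℕ, p.Prime → p ∣ n → p ∈ P) ∧ n • t = 0)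
    (hT' : ∀ t, t ∈ T' ↔ ∃ n : ℕ, 0 < n ∧ (∀ p : ℕ, p.Prime → p ∣ n → p ∉ P) ∧ n • t = 0) :
    (∀ ℓ ∈ P, ∀ x ∈ T'.comap π, ∃ y ∈ T'.comap π, ℓ • y = x) ∧
    ∃ s : TP →+ A, (∀ t : TP, π (s t) = (t : T)) ∧
      Function.Bijective (fun q : (T'.comap π) × TP => (q.1 : A) + s q.2) := by
  classical
  -- numbers with prime factors in `P` / outside `P` are coprime
  have hcop : ∀ a b : ℕ, (∀ p : ℕ, p.Prime → p ∣ a → p ∈ P) →
      (∀ p : ℕ, p.Prime → p ∣ b → p ∉ P) → Nat.Coprime a b := fun a b ha hb =>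
    Nat.coprime_of_dvd fun p hp h1 h2 => hb p hp h2 (ha p hp h1)
  have hdivD : ∀ n : ℕ, 0 < n → (∀ p : ℕ, p.Prime → p ∣ n → p ∈ P) →
      ∀ x ∈ π.ker, ∃ y ∈ π.ker, n • y = x := by
    intro n
    induction n using Nat.recOnMul with
    | zero => omega
    | one => intro _ _ x hx; exact ⟨x, hx, one_smul _ _⟩
    | prime p hp => intro _ h x hx; exact hD p (h p hp dvd_rfl) x hx
    | mul a b ha hb =>
      intro h0 h x hx
      obtain ⟨y, hy, hyx⟩ := ha (Nat.pos_of_mul_pos_right h0) (fun p hp hd => h p hp (dvd_mul_of_dvd_left hd b)) x hx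
      obtain ⟨z, hz, hzy⟩ := hb (Nat.pos_of_mul_pos_left h0) (fun p hp hd => h p hp (dvd_mul_of_dvd_right hd a)) y hy
      exact ⟨z, hz, by rw [mul_smul, hzy, hyx]⟩
  refine ⟨fun ℓ hℓ x hx => ?_, ?_⟩
  · obtain ⟨m, hm, hmP, hmx⟩ := (hT' _).1 hx
    have hco : Nat.Coprime ℓ m := hcop ℓ m (fun p hp h => by
      rwa [(Nat.prime_dvd_prime_iff_eq hp (hP ℓ hℓ)).1 h]) hmP
    obtain ⟨u, v, huv⟩ : ∃ u v : ℤ, u * ℓ + v * m = 1 := by
      obtain ⟨u, v, h⟩ := Nat.isCoprime_iff_coprime.2 hco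
      exact ⟨u, v, h⟩
    have hmx' : (m : ℤ) • π x = 0 := by rw [natCast_zsmul, hmx]
    obtain ⟨y, hy, hyx⟩ := hD ℓ hℓ (x - ℓ • (u • x)) (by
      rw [AddMonoidHom.mem_ker, map_sub, map_nsmul, map_zsmul, ← natCast_zsmul, smul_smul, sub_eq_zero]
      calc π x = (u * ℓ + v * m) • π x := by rw [huv, one_smul]
        _ = ((ℓ : ℤ) * u) • π x := by rw [add_smul, mul_smul v, hmx', smul_zero, add_zero, mul_comm])
    refine ⟨u • x + y, ?_, by rw [smul_add, hyx, add_sub_cancel]⟩
    rw [AddSubgroup.mem_comap, map_add, AddMonoidHom.mem_ker.1 hy, add_zero, map_zsmul]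
    exact T'.zsmul_mem hx u
  · -- a partial section is a subgroup of `TP.toAddSubgroup × A` meeting `0 × A` trivially
    let Good : Set (AddSubgroup (T × A)) :=
      {G | (∀ q ∈ G, q.1 ∈ TP ∧ π q.2 = q.1) ∧ ∀ q ∈ G, q.1 = 0 → q.2 = 0}
    obtain ⟨G, -, hG⟩ := zorn_le_nonempty₀ Good (fun c hc hch G₀ hG₀ => by
      have hcne : c.Nonempty := ⟨G₀, hG₀⟩
      refine ⟨sSup c, ⟨fun q hq => ?_, fun q hq => ?_⟩, fun G hG => le_sSup hG⟩
      · obtain ⟨G', hG', hqG⟩ := (AddSubgroup.mem_sSup_of_directedOn hcne hch.directedOn).1 hq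
        exact (hc hG').1 q hqG
      · obtain ⟨G', hG', hqG⟩ := (AddSubgroup.mem_sSup_of_directedOn hcne hch.directedOn).1 hq
        exact (hc hG').2 q hqG) ⊥
      ⟨fun q hq => by rw [AddSubgroup.mem_bot.1 hq]; exact ⟨zero_mem _, by simp⟩,
        fun q hq _ => by rw [AddSubgroup.mem_bot.1 hq]; rfl⟩
    obtain ⟨⟨hG1, hG2⟩, hmax⟩ := hG
    have htot : ∀ t ∈ TP, ∃ a, (t, a) ∈ G := by
      intro t ht
      obtain ⟨n, hn, hnP, hnt⟩ := (hTP t).1 ht
      -- the multiples of `t` where the section is defined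
      let J : AddSubgroup ℤ := G.map (AddMonoidHom.fst T A) |>.comap (zmultiplesHom T t)
      obtain ⟨d, hd⟩ := Int.subgroup_cyclic J
      rw [← AddSubgroup.zmultiples_eq_closure] at hd
      have hnJ : (n : ℤ) ∈ J := ⟨0, zero_mem G, by simp [hnt]⟩
      rw [hd, AddSubgroup.mem_zmultiples_iff] at hnJ
      obtain ⟨e, he⟩ := hnJ
      rw [smul_eq_mul] at he
      have hdn : d.natAbs ∣ n := by
        have : d ∣ (n : ℤ) := ⟨e, by rw [← he, mul_comm]⟩
        simpa using Int.natAbs_dvd_natAbs.2 this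
      have hd0 : d.natAbs ≠ 0 := fun h0 => by rw [h0, zero_dvd_iff] at hdn; omega
      have hdJ : (d.natAbs : ℤ) ∈ J := by
        rw [hd, AddSubgroup.mem_zmultiples_iff]
        exact ⟨d.sign, by rw [smul_eq_mul, Int.sign_mul_self_eq_natAbs]⟩
      obtain ⟨⟨t', a₀⟩, hq₀, ht'⟩ := hdJ
      simp only [AddMonoidHom.coe_fst, zmultiplesHom_apply, natCast_zsmul] at ht'
      subst ht'
      obtain ⟨a, ha⟩ := hπ t
      obtain ⟨y, hy, hyx⟩ := hdivD d.natAbs (Nat.pos_of_ne_zero hd0)
        (fun p hp h => hnP p hp (h.trans hdn)) (a₀ - d.natAbs • a) (by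
          rw [AddMonoidHom.mem_ker, map_sub, map_nsmul, ha, (hG1 _ hq₀).2, sub_self])
      refine ⟨a + y, ?_⟩
      have hay : π (a + y) = t := by rw [map_add, ha, AddMonoidHom.mem_ker.1 hy, add_zero]
      have hda : d.natAbs • (a + y) = a₀ := by rw [smul_add, hyx, add_sub_cancel]
      let G' := G ⊔ AddSubgroup.zmultiples ((t, a + y) : T × A)
      have hG' : G' ∈ Good := by
        constructor
        · intro q hq
          obtain ⟨g, hg, z, hz, rfl⟩ := AddSubgroup.mem_sup.1 hq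
          obtain ⟨i, rfl⟩ := AddSubgroup.mem_zmultiples_iff.1 hz
          obtain ⟨h1, h2⟩ := hG1 g hg
          exact ⟨add_mem h1 (TP.zsmul_mem ht i), by
            rw [Prod.snd_add, map_add, h2, Prod.smul_snd, map_zsmul, hay]; rfl⟩
        · intro q hq h0
          obtain ⟨g, hg, z, hz, rfl⟩ := AddSubgroup.mem_sup.1 hq
          obtain ⟨i, rfl⟩ := AddSubgroup.mem_zmultiples_iff.1 hz
          simp only [Prod.fst_add, Prod.smul_fst] at h0
          have hiJ : i ∈ J := ⟨-g, neg_mem hg, by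
            simpa using neg_eq_of_add_eq_zero_right h0⟩
          rw [hd, AddSubgroup.mem_zmultiples_iff] at hiJ
          obtain ⟨j, hj⟩ := hiJ
          rw [smul_eq_mul] at hj
          have hi : i = (j * d.sign) * (d.natAbs : ℤ) := by
            rw [mul_assoc, Int.sign_mul_natAbs, hj]
          have hz' : i • ((t, a + y) : T × A) ∈ G := by
            rw [hi, mul_smul, natCast_zsmul]
            refine G.zsmul_mem ?_ _
            rw [Prod.smul_mk, hda]
            exact hq₀
          exact hG2 _ (add_mem hg hz') (by simpa using h0)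
      exact hmax hG' le_sup_left (le_sup_right (a := G) (AddSubgroup.mem_zmultiples _))
    choose s hs using htot
    have huniq : ∀ t a b, (t, a) ∈ G → (t, b) ∈ G → a = b := fun t a b h1 h2 =>
      sub_eq_zero.1 (hG2 _ (sub_mem h1 h2) (by simp))
    let sh : TP →+ A := AddMonoidHom.mk' (fun t => s t.1 t.2) (fun t t' =>
      huniq _ _ _ (hs _ (t + t').2) (add_mem (hs _ t.2) (hs _ t'.2)))
    have hsh : ∀ t : TP, π (sh t) = (t : T) := fun t => (hG1 _ (hs _ t.2)).2
    refine ⟨sh, hsh, ⟨?_, ?_⟩⟩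
    · intro q q' h
      have h1 : π (q.1 : A) + (q.2 : T) = π (q'.1 : A) + (q'.2 : T) := by
        rw [← hsh, ← hsh, ← map_add, ← map_add]; exact congrArg π h
      have hmem : (q.2 : T) - q'.2 ∈ T' := by
        have e : (q.2 : T) - q'.2 = π (q'.1 : A) - π (q.1 : A) := by
          rw [sub_eq_sub_iff_add_eq_add, add_comm, h1]
        rw [e]
        exact sub_mem (AddSubgroup.mem_comap.1 q'.1.2) (AddSubgroup.mem_comap.1 q.1.2)
      obtain ⟨a, ha, haP, hat⟩ := (hTP _).1 (sub_mem q.2.2 q'.2.2)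
      obtain ⟨b, hb, hbP, hbt⟩ := (hT' _).1 hmem
      have h2 : q.2 = q'.2 := by
        refine Subtype.ext (sub_eq_zero.1 ?_)
        rw [← one_smul ℕ ((q.2 : T) - q'.2), ← (hcop a b haP hbP).gcd_eq_one]
        refine addOrderOf_dvd_iff_nsmul_eq_zero.1 (Nat.dvd_gcd ?_ ?_)
        · exact addOrderOf_dvd_iff_nsmul_eq_zero.2 hat
        · exact addOrderOf_dvd_iff_nsmul_eq_zero.2 hbt
      have h' : (q.1 : A) + sh q.2 = (q'.1 : A) + sh q'.2 := h
      rw [h2] at h'
      exact Prod.ext (Subtype.ext (add_right_cancel h')) h2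
    · intro x
      obtain ⟨n, hn, hnx⟩ := hT (π x)
      -- split `n` into its part in `P` and its part outside `P`
      obtain ⟨a, b, hab, haP, hbP⟩ : ∃ a b : ℕ, a * b = n ∧ (∀ p : ℕ, p.Prime → p ∣ a → p ∈ P) ∧
          ∀ p : ℕ, p.Prime → p ∣ b → p ∉ P := by
        clear hnx
        induction n using Nat.recOnMul with
        | zero => omega
        | one => exact ⟨1, 1, rfl, fun p hp h => absurd h hp.not_dvd_one, fun p hp h => absurd h hp.not_dvd_one⟩
        | prime p hp =>
          by_cases h : p ∈ P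
          · exact ⟨p, 1, mul_one p, fun q hq hd => (Nat.prime_dvd_prime_iff_eq hq hp).1 hd ▸ h,
              fun q hq hd => absurd hd hq.not_dvd_one⟩
          · exact ⟨1, p, one_mul p, fun q hq hd => absurd hd hq.not_dvd_one,
              fun q hq hd => (Nat.prime_dvd_prime_iff_eq hq hp).1 hd ▸ h⟩
        | mul c d hc hd =>
          obtain ⟨a, b, h1, h2, h3⟩ := hc (Nat.pos_of_mul_pos_right hn)
          obtain ⟨a', b', h1', h2', h3'⟩ := hd (Nat.pos_of_mul_pos_left hn)
          refine ⟨a * a', b * b', by rw [← h1, ← h1']; ring, fun p hp h => ?_, fun p hp h => ?_⟩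
          · rcases hp.dvd_mul.1 h with h | h
            exacts [h2 p hp h, h2' p hp h]
          · rcases hp.dvd_mul.1 h with h | h
            exacts [h3 p hp h, h3' p hp h]
      subst hab
      obtain ⟨u, v, huv⟩ := Nat.isCoprime_iff_coprime.2 (hcop a b haP hbP)
      have hk : ((a * b : ℕ) : ℤ) • π x = 0 := by rw [natCast_zsmul, hnx]
      let t : TP := ⟨(v * (b : ℤ)) • π x, (hTP _).2 ⟨a, Nat.pos_of_mul_pos_right hn, haP, by
        rw [← natCast_zsmul, smul_smul, show (a : ℤ) * (v * b) = v * ((a * b : ℕ) : ℤ) by push_cast; ring,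
          mul_smul, hk, smul_zero]⟩⟩
      refine ⟨(⟨x - sh t, ?_⟩, t), sub_add_cancel x (sh t)⟩
      rw [AddSubgroup.mem_comap, map_sub, hsh]
      refine (hT' _).2 ⟨b, Nat.pos_of_mul_pos_left hn, hbP, ?_⟩
      rw [← natCast_zsmul, smul_sub, smul_smul, ← sub_smul,
        show (b : ℤ) - b * (v * b) = u * ((a * b : ℕ) : ℤ) by push_cast; linear_combination -(b : ℤ) * huv,
        mul_smul, hk, smul_zero]

end Groth.Agent.S16343
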