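import Groth.Statements.S16344
import Mathlib.Topology.Compactness.Compact
import Mathlib.Topology.Constructions
-- import your own Groth.Agent.* helpers here

set_option autoImplicit false
set_option linter.style.haveILetI false
set_option linter.unusedSimpArgs false
universe u v
open IdeleMod

namespace Groth.Agent.S16344

/-- Let (G_i) be an inverse system, indexed by a directed preorder, of compact Hausdorff topological
abelian groups with continuous surjective transition maps, let G be its limit (the group of
compatible families) and let m be a natural number. Then the canonical map G/mG → lim G_i/mG_i is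
bijective: a compatible family that lies in mG_i at every index is m times a compatible family
(injectivity), and every family that is compatible modulo m agrees modulo m, index by index, with a
compatible family (surjectivity). -/
theorem result
    {ι : Type u} [Preorder ι] [IsDirected ι (· ≤ ·)]
    (G : ι → Type v) [∀ i, AddCommGroup (G i)] [∀ i, TopologicalSpace (G i)]
    [∀ i, IsTopologicalAddGroup (G i)] [∀ i, CompactSpace (G i)] [∀ i, T2Space (G i)]
    (f : ∀ ⦃i j : ι⦄, i ≤ j → (G j →+ G i)) (hf : ∀ i j (h : i ≤ j), Continuous (f h))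
    (hid : ∀ i (x : G i), f (le_refl i) x = x)
    (hcomp : ∀ i j k (hij : i ≤ j) (hjk : j ≤ k) (x : G k), f hij (f hjk x) = f (hij.trans hjk) x)
    (hsurj : ∀ i j (h : i ≤ j), Function.Surjective (f h)) (m : ℕ) :
    (∀ x : ∀ i, G i, (∀ i j (h : i ≤ j), f h (x j) = x i) → (∀ i, ∃ y : G i, m • y = x i) →
        ∃ z : ∀ i, G i, (∀ i j (h : i ≤ j), f h (z j) = z i) ∧ ∀ i, m • z i = x i) ∧
    (∀ y : ∀ i, G i, (∀ i j (h : i ≤ j), ∃ w : G i, f h (y j) - y i = m • w) →
        ∃ x : ∀ i, G i, (∀ i j (h : i ≤ j), f h (x j) = x i) ∧ ∀ i, ∃ w : G i, x i - y i = m • w) := by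
  classical
  have key : ∀ C : ∀ i, Set (G i), (∀ i, IsClosed (C i)) → (∀ i, (C i).Nonempty) →
      (∀ i j (h : i ≤ j), ∀ x ∈ C j, f h x ∈ C i) →
      ∃ z : ∀ i, G i, (∀ i j (h : i ≤ j), f h (z j) = z i) ∧ ∀ i, z i ∈ C i := by
    intro C hC hne hmap
    choose c hc using hne
    rcases isEmpty_or_nonempty ι with hι | hι
    · exact ⟨c, fun i => isEmptyElim i, hc⟩
    let T : ι → Set (∀ i, G i) := fun n => {z | (∀ i, z i ∈ C i) ∧ ∀ i (h : i ≤ n), f h (z n) = z i}
    have hTc : ∀ n, IsClosed (T n) := fun n => by
      have : T n = (⋂ i, (fun z : ∀ i, G i => z i) ⁻¹' C i) ∩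
          ⋂ (i : ι) (h : i ≤ n), {z | f h (z n) = z i} := by
        ext z; simp [T]
      rw [this]
      exact (isClosed_iInter fun i => (hC i).preimage (continuous_apply i)).inter
        (isClosed_iInter fun i => isClosed_iInter fun h =>
          isClosed_eq ((hf i n h).comp (continuous_apply n)) (continuous_apply i))
    have hTne : ∀ n, (T n).Nonempty := fun n => by
      refine ⟨fun i => if h : i ≤ n then f h (c n) else c i, fun i => ?_, fun i h => ?_⟩
      · by_cases h : i ≤ n
        · simpa [h] using hmap i n h _ (hc n)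
        · simpa [h] using hc i
      · simp only [le_refl, dif_pos, dif_pos h]
        rw [hid]
    have hdir : Directed (· ⊇ ·) T := by
      intro a b
      obtain ⟨n, han, hbn⟩ := directed_of (· ≤ ·) a b
      refine ⟨n, ?_, ?_⟩
      · rintro z ⟨hz, hzn⟩
        exact ⟨hz, fun i h => by rw [← hzn a han, hcomp, hzn i (h.trans han)]⟩
      · rintro z ⟨hz, hzn⟩
        exact ⟨hz, fun i h => by rw [← hzn b hbn, hcomp, hzn i (h.trans hbn)]⟩
    obtain ⟨z, hz⟩ := IsCompact.nonempty_iInter_of_directed_nonempty_isCompact_isClosed T hdir hTne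
      (fun n => (hTc n).isCompact) hTc
    rw [Set.mem_iInter] at hz
    exact ⟨z, fun i j h => (hz j).2 i h, fun i => (hz i).1 i⟩
  refine ⟨fun x hx hdiv => ?_, fun y hy => ?_⟩
  · obtain ⟨z, hz, hzC⟩ := key (fun i => {z | m • z = x i})
      (fun i => isClosed_eq (continuous_nsmul m) continuous_const) hdiv
      (fun i j h z hz => by
        simp only [Set.mem_ofPred_eq] at hz ⊢
        rw [← map_nsmul, hz, hx i j h])
    exact ⟨z, hz, hzC⟩
  · obtain ⟨z, hz, hzC⟩ := key (fun i => (fun w : G i => y i + m • w) '' Set.univ)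
      (fun i => (isCompact_univ.image (continuous_const.add (continuous_nsmul m))).isClosed)
      (fun i => ⟨y i + m • (0 : G i), 0, trivial, rfl⟩)
      (fun i j h z hz => by
        obtain ⟨w, -, rfl⟩ := hz
        obtain ⟨v, hv⟩ := hy i j h
        refine ⟨v + f h w, trivial, ?_⟩
        simp only [map_add, map_nsmul]
        rw [nsmul_add, ← hv]
        abel)
    refine ⟨z, hz, fun i => ?_⟩
    obtain ⟨w, -, hw⟩ := hzC i
    exact ⟨w, by rw [← hw]; simp⟩

end Groth.Agent.S16344
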