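import Groth.Statements.S16346
import Mathlib.Data.Nat.Prime.Basic
import Mathlib.Algebra.Module.Basic
import Mathlib.Algebra.Module.NatInt
import Mathlib.Algebra.Order.Ring.Nat
import Mathlib.Tactic.NthRewrite
import Mathlib.Algebra.Group.Subgroup.Basic

set_option autoImplicit false
set_option backward.isDefEq.respectTransparency false
set_option linter.style.haveILetI false
universe u v
open KatoHom

namespace Groth.Agent.S16346

/-- Let P be a set of primes and I_P the set of positive integers all of whose prime factors lie in P.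
Let A be an abelian group, (B_n)_{n ∈ I_P} an inverse system of abelian groups with transition maps
B_n → B_m for m ∣ n, and φ_n : A → B_n homomorphisms vanishing on nA and compatible with the
transition maps, so that they induce φ̂ : Â → B̂ on the limits Â = lim A/nA and B̂ = lim B_n (limits
taken as compatible families). Suppose some N ∈ I_P kills the torsion subgroup of B̂ and kills the
kernel of φ̂ (the latter meaning: a compatible family of residues (a_n) with φ_n(a_n) = 0 for all n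
has N a_n ∈ nA for all n). Then the subgroup ⋂_{n ∈ I_P} nA is ℓ-divisible for every ℓ ∈ P, and it
contains every subgroup of A that is ℓ-divisible for all ℓ ∈ P; that is, it is the largest
P-divisible subgroup of A. -/
theorem result
    {A : Type u} [AddCommGroup A] (P : Set ℕ) (hP : ∀ p ∈ P, p.Prime)
    (IP : Set ℕ) (hIP : ∀ n, n ∈ IP ↔ 0 < n ∧ ∀ p : ℕ, p.Prime → p ∣ n → p ∈ P)
    (B : IP → Type v) [∀ n, AddCommGroup (B n)]
    (g : ∀ ⦃m n : IP⦄, (m : ℕ) ∣ (n : ℕ) → (B n →+ B m))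
    (hgid : ∀ (n : IP) (b : B n), g (dvd_refl (n : ℕ)) b = b)
    (hgcomp : ∀ (k m n : IP) (hkm : (k : ℕ) ∣ (m : ℕ)) (hmn : (m : ℕ) ∣ (n : ℕ)) (b : B n),
      g hkm (g hmn b) = g (hkm.trans hmn) b)
    (φ : ∀ n : IP, A →+ B n) (hφ : ∀ (n : IP) (a : A), φ n ((n : ℕ) • a) = 0)
    (hφg : ∀ (m n : IP) (h : (m : ℕ) ∣ (n : ℕ)) (a : A), g h (φ n a) = φ m a)
    (N : ℕ) (hN : N ∈ IP)
    (htor : ∀ b : ∀ n : IP, B n, (∀ (m n : IP) (h : (m : ℕ) ∣ (n : ℕ)), g h (b n) = b m) →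
      (∃ k : ℕ, 0 < k ∧ ∀ n, k • b n = 0) → ∀ n, N • b n = 0)
    (hker : ∀ a : IP → A, (∀ m n : IP, (m : ℕ) ∣ (n : ℕ) → ∃ c : A, a n - a m = (m : ℕ) • c) →
      (∀ n, φ n (a n) = 0) → ∀ n : IP, ∃ c : A, N • a n = (n : ℕ) • c) :
    (∀ ℓ ∈ P, ∀ x : A, (∀ n ∈ IP, ∃ y : A, x = n • y) →
        ∃ y : A, (∀ n ∈ IP, ∃ z : A, y = n • z) ∧ ℓ • y = x) ∧
    (∀ H : AddSubgroup A, (∀ ℓ ∈ P, ∀ x ∈ H, ∃ y ∈ H, ℓ • y = x) →
        ∀ x ∈ H, ∀ n ∈ IP, ∃ y : A, x = n • y) := by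
  classical
  have hmul : ∀ a b : ℕ, a ∈ IP → b ∈ IP → a * b ∈ IP := fun a b ha hb => by
    rw [hIP] at ha hb ⊢
    exact ⟨Nat.mul_pos ha.1 hb.1, fun p hp hd => (hp.dvd_mul.mp hd).elim (ha.2 p hp) (hb.2 p hp)⟩
  constructor
  · intro ℓ hℓ x hx
    have hℓIP : ℓ ∈ IP := (hIP ℓ).mpr ⟨(hP ℓ hℓ).pos, fun p hp hd => (Nat.prime_dvd_prime_iff_eq hp (hP ℓ hℓ)).mp hd ▸ hℓ⟩
    obtain ⟨e, he⟩ := hx _ (hmul _ _ hℓIP (hmul _ _ hN hN))
    refine ⟨(N * N) • e, fun n hn => ?_, by rw [smul_smul, ← he]⟩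
    obtain ⟨f, hf⟩ := hx _ (hmul _ _ (hmul _ _ hℓIP (hmul _ _ hN hN)) hn)
    have hd : (ℓ * (N * N)) • (e - n • f) = 0 := by rw [smul_sub, smul_smul, ← he, ← hf, sub_self]
    have h1 : ∀ m : IP, φ m (N • (e - n • f)) = 0 := fun m => by
      rw [map_nsmul]
      exact htor (fun m => φ m (e - n • f)) (fun m n h => hφg m n h _)
        ⟨ℓ * (N * N), Nat.mul_pos (hP ℓ hℓ).pos ((hIP _).mp (hmul _ _ hN hN)).1, fun m => by
          rw [← map_nsmul, hd, map_zero]⟩ m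
    obtain ⟨c, hc⟩ := hker (fun _ => N • (e - n • f)) (fun m k _ => ⟨0, by simp⟩) h1 ⟨n, hn⟩
    refine ⟨c + (N * N) • f, ?_⟩
    rw [smul_add, ← hc, smul_smul, smul_smul, smul_sub, smul_smul, mul_comm n, sub_add_cancel]
  · intro H hH x hx n
    induction n using Nat.strong_induction_on generalizing x with
    | _ n ih =>
      intro hn
      by_cases h1 : n = 1
      · exact ⟨x, by rw [h1, one_smul]⟩
      obtain ⟨p, hp, hd⟩ := Nat.exists_prime_and_dvd h1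
      obtain ⟨hpos, hfac⟩ := (hIP n).mp hn
      obtain ⟨m, hm⟩ := hd
      obtain ⟨y, hy, hyx⟩ := hH p (hfac p hp ⟨m, hm⟩) x hx
      have hmIP : m ∈ IP := (hIP m).mpr ⟨Nat.pos_of_mul_pos_left (hm ▸ hpos), fun q hq hqd =>
        hfac q hq (hm ▸ hqd.mul_left p)⟩
      obtain ⟨z, hz⟩ := ih m (by
        have := (hIP m).mp hmIP
        rw [hm]; exact lt_mul_of_one_lt_left this.1 hp.one_lt) y hy hmIP
      exact ⟨z, by rw [hm, mul_smul, ← hz, hyx]⟩

end Groth.Agent.S16346
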