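import Groth.Statements.S16347
import Groth.Agent.PlaneBezout.Cubic

set_option autoImplicit false
universe u
open Cubic

namespace Groth.Agent.S16347

/-- Let K be an algebraically closed field of characteristic zero and S = V(F) ⊂ P^3_K a cubic surface,
F a homogeneous cubic in four variables which is irreducible and not a cone (there is no nonzero
vector v with Σ_i v_i ∂F/∂x_i = 0). If a is a singular point of S (a nonzero vector with F(a) = 0
and every ∂F/∂x_i(a) = 0), then at most six lines through a lie on S; here a line through a on S is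
a 2-dimensional subspace of K^4 containing a on which F vanishes identically. -/
theorem result (K : Type u) [Field K] [IsAlgClosed K] [CharZero K]
    (F : MvPolynomial (Fin 4) K) (hF : F.IsHomogeneous 3) (hirr : Irreducible F)
    (hcone : ¬ ∃ v : Fin 4 → K, v ≠ 0 ∧ ∑ i : Fin 4, v i • MvPolynomial.pderiv i F = 0)
    (a : Fin 4 → K) (ha : a ≠ 0) (hFa : MvPolynomial.eval a F = 0)
    (hsing : ∀ i : Fin 4, MvPolynomial.eval a (MvPolynomial.pderiv i F) = 0) :
    {U : Submodule K (Fin 4 → K) | a ∈ U ∧ Module.finrank K ↥U = 2 ∧ ∀ u ∈ U, MvPolynomial.eval u F = 0}.encard ≤ 6 := by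
  by_contra h
  have h7 : ((7 : ℕ) : ℕ∞) ≤ {U : Submodule K (Fin 4 → K) | a ∈ U ∧ Module.finrank K ↥U = 2 ∧ ∀ u ∈ U, MvPolynomial.eval u F = 0}.encard := by
    have := Order.add_one_le_of_lt (not_le.mp h)
    exact_mod_cast this
  obtain ⟨t, hts, htc⟩ := Set.exists_subset_encard_eq h7
  have hfin : t.Finite := Set.finite_of_encard_eq_coe htc
  obtain ⟨s, rfl⟩ := hfin.exists_finset_coe
  rw [Set.encard_coe_eq_coe_finsetCard, Nat.cast_inj] at htc
  let e := s.equivFinOfCardEq htc
  have := PlaneBezout.card_lines_le F hF hirr hcone a ha hFa hsing (fun i => (e.symm i).1)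
    (fun i j hij => e.symm.injective (Subtype.ext hij))
    (fun i => (hts (e.symm i).2).1) (fun i => (hts (e.symm i).2).2.1) (fun i => (hts (e.symm i).2).2.2)
  omega

end Groth.Agent.S16347
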