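import Groth.Statements.S16353
import Mathlib.Algebra.CharZero.Defs
import Mathlib.Tactic

set_option autoImplicit false
set_option linter.style.haveILetI false

universe u
open DegLoci

namespace Groth.Agent.S16353

open MvPolynomial

/-- The product of descending factorials. -/
def wt {m : ℕ} (β α : Fin m →₀ ℕ) : ℕ := ∏ i, Nat.descFactorial (β i) (α i)

lemma coeff_contract {k : Type u} [Field k] {m : ℕ} (D G : MvPolynomial (Fin m) k) (γ : Fin m →₀ ℕ) :
    coeff γ (W4c3degenlocivb.contract D G) =
      ∑ α ∈ D.support, coeff α D * coeff (γ + α) G * (wt (γ + α) α : k) := by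
  classical
  rw [W4c3degenlocivb.contract, coeff_sum]
  refine Finset.sum_congr rfl fun α _ => ?_
  rw [coeff_sum, Finset.sum_eq_single (γ + α)]
  · have hp : ((γ + α).support.prod fun i => Nat.descFactorial ((γ + α) i) (α i)) = wt (γ + α) α := by
      refine Finset.prod_subset (Finset.subset_univ _) fun i _ hi => ?_
      simp at hi
      simp [hi]
    rw [if_pos (self_le_add_left α γ), add_tsub_cancel_right, coeff_monomial, if_pos rfl, hp]
  · intro β _ hne
    split_ifs with hle
    · rw [coeff_monomial, if_neg]
      intro h
      exact hne (by rw [← h, tsub_add_cancel_of_le hle])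
    · simp
  · intro h
    rw [notMem_support_iff] at h
    simp [h]

lemma coeff_comm {k : Type u} [Field k] {m : ℕ} (D F : MvPolynomial (Fin m) k) (a γ : Fin m →₀ ℕ) :
    coeff γ (W4c3degenlocivb.contract D (W4c3degenlocivb.contract (monomial a 1) F)) =
      (wt (γ + a) a : k) * coeff (γ + a) (W4c3degenlocivb.contract D F) := by
  classical
  rw [coeff_contract, coeff_contract, Finset.mul_sum]
  refine Finset.sum_congr rfl fun α _ => ?_
  rw [coeff_contract, support_monomial, if_neg one_ne_zero, Finset.sum_singleton, coeff_monomial,
    if_pos rfl, add_right_comm γ a α]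
  have h : wt (γ + α + a) a * wt (γ + α) α = wt (γ + α + a) α * wt (γ + a) a := by
    simp only [wt, ← Finset.prod_mul_distrib]
    refine Finset.prod_congr rfl fun i _ => ?_
    simp only [Finsupp.add_apply]
    have e1 := Nat.descFactorial_mul_descFactorial (n := γ i + α i + a i) (m := α i + a i) (k := a i) (by omega)
    have e2 := Nat.descFactorial_mul_descFactorial (n := γ i + α i + a i) (m := α i + a i) (k := α i) (by omega)
    rw [show γ i + α i + a i - a i = γ i + α i by omega, show α i + a i - a i = α i by omega] at e1
    rw [show γ i + α i + a i - α i = γ i + a i by omega, show α i + a i - α i = a i by omega] at e2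
    rw [mul_comm, e1, mul_comm, e2]
  have h' := congrArg (Nat.cast (R := k)) h
  push_cast at h'
  rw [one_mul]
  linear_combination (coeff α D * coeff (γ + α + a) F) * h'


/-- Let k be a field of characteristic zero, R = k[y_0, …, y_{m−1}] acting on S = k[∂_0, …, ∂_{m−1}] by
apolarity (y_i acts as the derivative with respect to ∂_i), F ∈ S homogeneous of degree e and d ≤ e.
Then the degree-d part of the apolar ideal of F is the orthogonal complement of the partial
derivatives of F of order e − d: a homogeneous D ∈ R_d satisfies D(F) = 0 if and only if D(y^α(F)) =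
0 for every multi-index α with |α| = e − d (each D(y^α(F)) being a constant, the value of the
apolarity pairing of D with y^α(F)). -/
theorem result (k : Type u) [Field k] [CharZero k] (m : ℕ)
    (F : MvPolynomial (Fin m) k) (e : ℕ) (hF : F.IsHomogeneous e) (d : ℕ) (hd : d ≤ e)
    (D : MvPolynomial (Fin m) k) (hD : D.IsHomogeneous d) :
    W4c3degenlocivb.contract D F = 0 ↔
      ∀ α : Fin m →₀ ℕ, α.degree = e - d → W4c3degenlocivb.contract D (W4c3degenlocivb.contract (MvPolynomial.monomial α 1) F) = 0 := by
  constructor
  · intro h α hα
    refine MvPolynomial.ext _ _ fun γ => ?_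
    rw [coeff_comm, h]
    simp
  · intro h
    refine MvPolynomial.ext _ _ fun δ => ?_
    rw [MvPolynomial.coeff_zero]
    by_cases hδ : δ.degree = e - d
    · have h1 := congrArg (MvPolynomial.coeff 0) (h δ hδ)
      rw [coeff_comm, zero_add, MvPolynomial.coeff_zero, mul_eq_zero] at h1
      refine h1.resolve_left ?_
      simp [wt, Finset.prod_eq_zero_iff, Nat.descFactorial_eq_zero_iff_lt]
    · rw [coeff_contract]
      refine Finset.sum_eq_zero fun a ha => ?_
      by_cases hc : MvPolynomial.coeff (δ + a) F = 0
      · simp [hc]
      · exfalso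
        have e1 := hF hc
        have e2 := hD (MvPolynomial.mem_support_iff.mp ha)
        simp only [Finsupp.weight_apply, Pi.one_apply, smul_eq_mul, mul_one] at e1 e2
        rw [Finsupp.sum_add_index' (fun _ => rfl) (fun _ _ _ => rfl)] at e1
        rw [Finsupp.degree_apply] at hδ
        change (δ.sum fun _ c => c) + (a.sum fun _ c => c) = e at e1
        change (a.sum fun _ c => c) = d at e2
        change ¬ (δ.sum fun _ c => c) = e - d at hδ
        omega

end Groth.Agent.S16353
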