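import Groth.Statements.S16354
import Groth.Agent.CubicPf.Choice

set_option autoImplicit false
universe u
open Cubic

namespace Groth.Agent.S16354

/-- Let k be a subfield of ℝ (a field equipped with an embedding into the reals) and S = V(F) ⊂ P^3 the
cubic surface of a homogeneous cubic F ∈ k[x_0, …, x_3] which is geometrically irreducible and not a
cone (no nonzero vector v has Σ_i v_i ∂F/∂x_i = 0). Then S admits a linear Pfaffian representation
over a real intermediate field k ⊆ E ⊆ ℝ of degree [E : k] ≤ 3. A linear Pfaffian representation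
over E is a 6 × 6 alternating matrix M of linear forms in E[x_0, …, x_3] whose Pfaffian is a nonzero
constant multiple of F; since the determinant of an alternating matrix is the square of its Pfaffian
and the polynomial ring is factorial with no nonconstant units, this is the same as det M = c · F^2
for a nonzero constant c, which is how it is written here. -/
theorem result (k : Type u) [Field k] [Algebra k ℝ]
    (F : MvPolynomial (Fin 4) k) (hF : F.IsHomogeneous 3)
    (hirr : Irreducible (MvPolynomial.map (algebraMap k (AlgebraicClosure k)) F))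
    (hcone : ¬ ∃ v : Fin 4 → k, v ≠ 0 ∧ ∑ i : Fin 4, v i • MvPolynomial.pderiv i F = 0) :
    ∃ E : IntermediateField k ℝ, FiniteDimensional k ↥E ∧ Module.finrank k ↥E ≤ 3 ∧
      ∃ M : Matrix (Fin 6) (Fin 6) (MvPolynomial (Fin 4) ↥E), (∀ i j, (M i j).IsHomogeneous 1) ∧ M.transpose = -M ∧ (∀ i, M i i = 0) ∧
        ∃ c : ↥E, c ≠ 0 ∧ M.det = MvPolynomial.C c * (MvPolynomial.map (algebraMap k ↥E) F) ^ 2 := by
  haveI : CharZero k := (RingHom.charZero_iff (algebraMap k ℝ).injective).2 inferInstance
  rcases Groth.Agent.CubicPf.point_or_line k F hF hirr hcone with h | ⟨q, hq, h⟩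
  · obtain h' := h.map (algebraMap k (⊥ : IntermediateField k ℝ))
    refine ⟨⊥, inferInstance, ?_, h'⟩
    rw [IntermediateField.finrank_bot]; norm_num
  · obtain ⟨r, hr⟩ := Groth.Agent.CubicPf.exists_real_root (p := q.map (algebraMap k ℝ))
      (by rw [Polynomial.natDegree_map, hq])
    have hr' : Polynomial.aeval r q = 0 := by rw [Polynomial.aeval_def, ← Polynomial.eval_map]; exact hr
    obtain ⟨hfd, hle⟩ := Groth.Agent.CubicPf.finrank_adjoin_le hq hr'
    set E := IntermediateField.adjoin k ({r} : Set ℝ) with hE
    let g : E := ⟨r, IntermediateField.mem_adjoin_simple_self k r⟩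
    haveI := hfd
    let φ : E →ₐ[k] AlgebraicClosure k := IsAlgClosed.lift
    have hg : Polynomial.aeval g q = 0 := Subtype.ext (by
      have := Polynomial.aeval_algHom_apply E.val g q
      rw [show E.val g = r from rfl, hr'] at this
      exact this.symm)
    have hφ : Polynomial.aeval (φ g) q = 0 := by rw [Polynomial.aeval_algHom_apply, hg, map_zero]
    have hr'' := h (φ g) hφ
    set E' := IntermediateField.adjoin k ({φ g} : Set (AlgebraicClosure k))
    have hint : IsIntegral k (φ g) := (IsIntegral.of_finite k g).map φ
    have hle' : E' ≤ φ.fieldRange := IntermediateField.adjoin_le_iff.2 (by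
      rintro x rfl; exact ⟨g, rfl⟩)
    let σ : E' →ₐ[k] E := (AlgEquiv.ofInjectiveField φ).symm.toAlgHom.comp (IntermediateField.inclusion hle')
    have h' := hr''.map σ.toRingHom
    rw [MvPolynomial.map_map, AlgHom.toRingHom_eq_coe, AlgHom.comp_algebraMap] at h'
    exact ⟨E, hfd, hle, h'⟩

end Groth.Agent.S16354
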