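import Groth.Prelude.Def_W4c3degenlocivbPfaff
import Mathlib

/-! The sub-Pfaffians of a general pencil of skew matrices span the binary forms. -/

set_option autoImplicit false
set_option maxHeartbeats 800000

universe u v

open MvPolynomial W4c3degenlocivb

namespace Groth.Agent.SubPfaff

theorem pf_map {R : Type u} {S : Type v} [CommRing R] [CommRing S] (φ : R →+* S) :
    ∀ (n : ℕ) (T : Matrix (Fin n) (Fin n) R), φ (pf n T) = pf n (T.map φ)
  | 0, _ => by simp [pf]
  | 1, _ => by simp [pf]
  | n + 2, T => by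
    simp only [pf, map_sum, map_mul, map_pow, map_neg, map_one, pf_map φ n, Matrix.map_apply]
    rfl

theorem pf_homogeneous {R : Type u} [CommRing R] {σ : Type v} :
    ∀ (s : ℕ) (T : Matrix (Fin (2 * s)) (Fin (2 * s)) (MvPolynomial σ R)), (∀ a b, (T a b).IsHomogeneous 1) →
      (pf (2 * s) T).IsHomogeneous s
  | 0, _, _ => isHomogeneous_one σ R
  | s + 1, T, hT => by
    change (pf (2 * s + 2) T).IsHomogeneous (s + 1)
    rw [pf]
    refine IsHomogeneous.sum _ _ _ fun j _ => ?_
    have h1 : ((-1 : MvPolynomial σ R) ^ ((j : ℕ) + 1)).IsHomogeneous 0 := by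
      have h0 : (-1 : MvPolynomial σ R).IsHomogeneous 0 := (isHomogeneous_one σ R).neg
      simpa using h0.pow ((j : ℕ) + 1)
    rw [show s + 1 = 0 + 1 + s by ring]
    exact (h1.mul (hT _ _)).mul (pf_homogeneous s _ fun a b => hT _ _)

/-- a tridiagonal skew matrix -/
def tri {R : Type u} [CommRing R] (n : ℕ) (f : ℕ → R) : Matrix (Fin n) (Fin n) R :=
  Matrix.of fun a b => if (b : ℕ) = (a : ℕ) + 1 then f a else if (a : ℕ) = (b : ℕ) + 1 then -f b else 0

theorem pf_tri {R : Type u} [CommRing R] (f : ℕ → R) :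
    ∀ s : ℕ, pf (2 * s) (tri (2 * s) f) = ∏ t ∈ Finset.range s, f (2 * t)
  | 0 => by simp [pf]
  | s + 1 => by
    change pf (2 * s + 2) (tri (2 * s + 2) f) = _
    rw [pf, Finset.sum_eq_single (Fin.last (2 * s))]
    · have h : (tri (2 * s + 2) f).submatrix (Fin.castSucc ∘ (Fin.last (2 * s)).succAbove)
          (Fin.castSucc ∘ (Fin.last (2 * s)).succAbove) = tri (2 * s) f := by
        ext a b
        simp [tri, Fin.succAbove_last]
      rw [h, pf_tri f s, Finset.prod_range_succ]
      have e : (tri (2 * s + 2) f) (Fin.last (2 * s + 1)) (Fin.castSucc (Fin.last (2 * s))) = -f (2 * s) := by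
        simp [tri]; intro h; omega
      rw [e, Fin.val_last, pow_succ, pow_mul, neg_one_sq, one_pow]
      ring
    · intro j _ hj
      have hj' : (j : ℕ) < 2 * s := by
        rcases lt_or_eq_of_le (Nat.le_of_lt_succ j.2) with h | h
        · exact h
        · exact absurd (Fin.ext h) hj
      have e : (tri (2 * s + 2) f) (Fin.last (2 * s + 1)) (Fin.castSucc j) = 0 := by
        simp only [tri, Matrix.of_apply, Fin.val_last, Fin.val_castSucc]
        rw [if_neg (by omega), if_neg (by omega)]
      rw [e, mul_zero, zero_mul]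
    · intro h; exact absurd (Finset.mem_univ _) h

variable (k : Type u) [CommRing k] (r : ℕ)

/-- the matrix of a pencil -/
noncomputable def pencil {A : Type v} [CommRing A] (c : Fin (2 * r + 1) → Fin (2 * r + 1) → Fin 2 → A) :
    Matrix (Fin (2 * r + 1)) (Fin (2 * r + 1)) (MvPolynomial (Fin 2) A) :=
  Matrix.of fun a b => ∑ l : Fin 2, C (c a b l) * X l

/-- the monomials -/
noncomputable def mon (t : Fin (r + 1)) : Fin 2 →₀ ℕ :=
  Finsupp.single 0 (t : ℕ) + Finsupp.single 1 (r - (t : ℕ))

def even (s : Fin (r + 1)) : Fin (2 * r + 1) := ⟨2 * (s : ℕ), by omega⟩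

/-- the coefficient matrix -/
noncomputable def coefMat {A : Type v} [CommRing A] (c : Fin (2 * r + 1) → Fin (2 * r + 1) → Fin 2 → A) :
    Matrix (Fin (r + 1)) (Fin (r + 1)) A :=
  Matrix.of fun t s => coeff (mon r t) (pf (2 * r) ((pencil r c).submatrix (even r s).succAbove (even r s).succAbove))

theorem coefMat_map {A B : Type v} [CommRing A] [CommRing B] (φ : A →+* B)
    (c : Fin (2 * r + 1) → Fin (2 * r + 1) → Fin 2 → A) :
    (coefMat r c).map φ = coefMat r (fun a b l => φ (c a b l)) := by
  ext t s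
  simp only [coefMat, Matrix.map_apply, Matrix.of_apply]
  rw [← coeff_map, pf_map (MvPolynomial.map φ)]
  congr 2
  ext a b : 1
  simp [pencil, map_sum]

theorem entry_special (x y : ℕ) :
    ∑ l : Fin 2, C ((if y = x + 1 ∧ x % 2 = (l : ℕ) then (1 : k) else 0) -
      (if x = y + 1 ∧ y % 2 = (l : ℕ) then (1 : k) else 0)) * X l =
    if y = x + 1 then (if x % 2 = 0 then X 0 else X 1)
    else if x = y + 1 then -(if y % 2 = 0 then X 0 else X 1) else (0 : MvPolynomial (Fin 2) k) := by
  rw [Fin.sum_univ_two, Fin.val_zero, Fin.val_one]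
  by_cases h1 : y = x + 1
  · have h3 : ¬ x = y + 1 := by omega
    rcases Nat.mod_two_eq_zero_or_one x with h | h <;> simp [h, h1, (show ¬ x = x + 1 + 1 by omega)]
  · by_cases h2 : x = y + 1
    · rcases Nat.mod_two_eq_zero_or_one y with h | h <;> simp [h, h2, (show ¬ y = y + 1 + 1 by omega)]
    · simp [h1, h2]

theorem pencil_special : pencil r (fun (a b : Fin (2 * r + 1)) (l : Fin 2) =>
    ((if (b : ℕ) = (a : ℕ) + 1 ∧ (a : ℕ) % 2 = (l : ℕ) then (1 : k) else 0) -
      (if (a : ℕ) = (b : ℕ) + 1 ∧ (b : ℕ) % 2 = (l : ℕ) then (1 : k) else 0))) =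
    tri (2 * r + 1) (fun m => if m % 2 = 0 then X 0 else X 1) := by
  ext a b : 1
  simp only [pencil, tri, Matrix.of_apply]
  exact entry_special k a b

theorem shift_eq {A : Type v} [CommRing A] (e : ℕ → A) (z x y : ℕ) :
    (if (if y < 2 * z then y else y + 1) = (if x < 2 * z then x else x + 1) + 1 then e (if x < 2 * z then x else x + 1)
      else if (if x < 2 * z then x else x + 1) = (if y < 2 * z then y else y + 1) + 1 then -e (if y < 2 * z then y else y + 1) else 0) =
    (if y = x + 1 then (if x + 1 < 2 * z then e x else if x + 1 = 2 * z then 0 else e (x + 1))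
      else if x = y + 1 then -(if y + 1 < 2 * z then e y else if y + 1 = 2 * z then 0 else e (y + 1)) else 0) := by
  by_cases hy : y < 2 * z <;> by_cases hx : x < 2 * z <;> simp only [hx, hy, if_true, if_false]
  all_goals split_ifs <;> first | (exfalso; omega) | rfl | simp | (congr 1; omega)

theorem coefMat_special : coefMat r (fun (a b : Fin (2 * r + 1)) (l : Fin 2) =>
    ((if (b : ℕ) = (a : ℕ) + 1 ∧ (a : ℕ) % 2 = (l : ℕ) then (1 : k) else 0) -
      (if (a : ℕ) = (b : ℕ) + 1 ∧ (b : ℕ) % 2 = (l : ℕ) then (1 : k) else 0))) = 1 := by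
  ext t s
  simp only [coefMat, Matrix.of_apply]
  let e : ℕ → MvPolynomial (Fin 2) k := fun a => if a % 2 = 0 then X 0 else X 1
  let f : ℕ → MvPolynomial (Fin 2) k := fun m =>
    if m + 1 < 2 * (s : ℕ) then e m else if m + 1 = 2 * (s : ℕ) then 0 else e (m + 1)
  have h : (pencil r (fun (a b : Fin (2 * r + 1)) (l : Fin 2) =>
    ((if (b : ℕ) = (a : ℕ) + 1 ∧ (a : ℕ) % 2 = (l : ℕ) then (1 : k) else 0) -
      (if (a : ℕ) = (b : ℕ) + 1 ∧ (b : ℕ) % 2 = (l : ℕ) then (1 : k) else 0)))).submatrix (even r s).succAbove (even r s).succAbove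
      = tri (2 * r) f := by
    rw [pencil_special]
    ext a b : 1
    simp only [Matrix.submatrix_apply, tri, Matrix.of_apply]
    have hv : ∀ x : Fin (2 * r), (((even r s).succAbove x : Fin (2 * r + 1)) : ℕ) =
        if (x : ℕ) < 2 * (s : ℕ) then (x : ℕ) else (x : ℕ) + 1 := fun x => by
      simp only [Fin.succAbove, even, Fin.lt_def, Fin.val_castSucc]
      split_ifs <;> rfl
    rw [hv a, hv b]
    simp only [f, e]
    generalize (a : ℕ) = x
    generalize (b : ℕ) = y
    generalize (s : ℕ) = z
    exact shift_eq (fun m => if m % 2 = 0 then (X 0 : MvPolynomial (Fin 2) k) else X 1) z x y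
  rw [h, pf_tri]
  have hf : ∀ u ∈ Finset.range r, f (2 * u) = if u < (s : ℕ) then X 0 else X 1 := by
    intro u _
    simp only [f, e]
    split_ifs <;> first | (exfalso; omega) | rfl
  rw [Finset.prod_congr rfl hf, Finset.prod_ite, Finset.prod_const, Finset.prod_const]
  have h1 : (Finset.range r).filter (fun u => u < (s : ℕ)) = Finset.range (s : ℕ) := by
    ext u; simp only [Finset.mem_filter, Finset.mem_range]; omega
  have h2 : ((Finset.range r).filter (fun u => ¬ u < (s : ℕ))).card = r - (s : ℕ) := by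
    have := Finset.card_filter_add_card_filter_not (s := Finset.range r) (fun u => u < (s : ℕ))
    rw [h1, Finset.card_range, Finset.card_range] at this
    omega
  rw [h1, h2, Finset.card_range, X_pow_eq_monomial, X_pow_eq_monomial, monomial_mul, one_mul, coeff_monomial,
    Matrix.one_apply]
  by_cases hts : t = s
  · subst hts; simp [mon]
  · rw [if_neg hts, if_neg]
    intro h
    apply hts
    have := DFunLike.congr_fun h 0
    simp [mon] at this
    exact Fin.ext this.symm

theorem exists_special : ∃ c : Fin (2 * r + 1) → Fin (2 * r + 1) → Fin 2 → k,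
    (∀ i j l, c j i l = -c i j l) ∧ (coefMat r c).det = 1 :=
  ⟨_, fun _ _ _ => (neg_sub _ _).symm, (congrArg Matrix.det (coefMat_special k r)).trans Matrix.det_one⟩

variable {K : Type u} [Field K]

theorem span_eq (c : Fin (2 * r + 1) → Fin (2 * r + 1) → Fin 2 → K) (h : (coefMat r c).det ≠ 0) :
    Submodule.span K (Set.range fun i : Fin (2 * r + 1) => pf (2 * r) ((pencil r c).submatrix i.succAbove i.succAbove))
      = homogeneousSubmodule (Fin 2) K r := by
  have hhom : ∀ i : Fin (2 * r + 1), (pf (2 * r) ((pencil r c).submatrix i.succAbove i.succAbove)).IsHomogeneous r :=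
    fun i => pf_homogeneous r _ fun a b => by
      simp only [pencil, Matrix.submatrix_apply, Matrix.of_apply]
      exact IsHomogeneous.sum _ _ _ fun l _ => (isHomogeneous_X K l).C_mul _
  refine le_antisymm (Submodule.span_le.2 (by rintro _ ⟨i, rfl⟩; exact hhom i)) fun q hq => ?_
  set M := coefMat r c
  let a := M⁻¹.mulVec (fun t => coeff (mon r t) q)
  have ha : M.mulVec a = fun t => coeff (mon r t) q := by
    rw [Matrix.mulVec_mulVec, Matrix.mul_nonsing_inv _ (isUnit_iff_ne_zero.2 h), Matrix.one_mulVec]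
  have hq' : q = ∑ s, a s • pf (2 * r) ((pencil r c).submatrix (even r s).succAbove (even r s).succAbove) := by
    have hsum : (∑ s, a s • pf (2 * r) ((pencil r c).submatrix (even r s).succAbove (even r s).succAbove)).IsHomogeneous r :=
      (mem_homogeneousSubmodule r _).1 (Submodule.sum_mem _ fun s _ => Submodule.smul_mem _ _ ((mem_homogeneousSubmodule r _).2 (hhom _)))
    ext d
    by_cases hd : d 0 + d 1 = r
    · have hdt : d = mon r ⟨d 0, by omega⟩ := by
        ext i; fin_cases i <;> simp [mon]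
        omega
      rw [hdt, coeff_sum]
      have := congrFun ha ⟨d 0, by omega⟩
      simp only [Matrix.mulVec, dotProduct, M, coefMat, Matrix.of_apply] at this
      rw [← this]
      exact Finset.sum_congr rfl fun s _ => by rw [coeff_smul, smul_eq_mul, mul_comm]
    · have hdeg : Finsupp.degree d ≠ r := by rwa [Finsupp.degree_eq_sum, Fin.sum_univ_two]
      rw [((mem_homogeneousSubmodule r q).1 hq).coeff_eq_zero hdeg, hsum.coeff_eq_zero hdeg]
  rw [hq']
  exact Submodule.sum_mem _ fun s _ => Submodule.smul_mem _ _ (Submodule.subset_span ⟨even r s, rfl⟩)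

end Groth.Agent.SubPfaff
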