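import Groth.Statements.S16356
import Mathlib

set_option linter.style.haveILetI false

set_option autoImplicit false
universe u
open OrdAV

namespace Groth.Agent.S16356

/-- For an odd prime p and a perfect field k of characteristic p, a root of unity in the ring of Witt
vectors W(k) whose residue in k is 1 is itself 1: if x ^ n = 1 with n ≥ 1 and the zeroth Witt
component of x is 1, then x = 1. (For p = 2 this fails: -1 in W(F_2).) -/
theorem result (p : ℕ) [Fact p.Prime] (hp : p ≠ 2)
    (k : Type u) [Field k] [CharP k p] [PerfectRing k p]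
    (x : WittVector p k) (n : ℕ) (hn : 0 < n) (hx : x ^ n = 1) (h0 : x.coeff 0 = 1) : x = 1 := by
  have hpz : (p : WittVector p k) ≠ 0 := WittVector.p_nonzero p k
  have hres : ∀ y : WittVector p k, y.coeff 0 = 0 → (p : WittVector p k) ∣ y := fun y hy => by
    refine Ideal.mem_span_singleton.mp ?_
    exact WittVector.mem_span_p_iff_coeff_zero_eq_zero y |>.mpr hy
  by_contra hne
  have hfin : IsOfFinOrder x := isOfFinOrder_iff_pow_eq_one.mpr ⟨n, hn, hx⟩
  obtain ⟨l, hl, hld⟩ := Nat.exists_prime_and_dvd (mt orderOf_eq_one_iff.mp hne)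
  obtain ⟨e, he⟩ := hld
  set z := x ^ e with hz
  have hzl : z ^ l = 1 := by rw [hz, ← pow_mul, mul_comm, ← he, pow_orderOf_eq_one]
  have hz1 : z ≠ 1 := by
    intro h
    have h' := Nat.le_of_dvd (Nat.pos_of_ne_zero fun e0 => by
      subst e0; rw [mul_zero] at he; exact hfin.orderOf_pos.ne' he) (orderOf_dvd_of_pow_eq_one h)
    have := hfin.orderOf_pos
    have := hl.two_le
    nlinarith
  have hz0 : z.coeff 0 = 1 := by
    rw [hz]
    change WittVector.constantCoeff (x ^ e) = 1
    rw [map_pow]
    change x.coeff 0 ^ e = 1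
    rw [h0, one_pow]
  obtain ⟨y, hy⟩ := hres (z - 1) (by
    change WittVector.constantCoeff (z - 1) = 0
    rw [map_sub, map_one]
    exact sub_eq_zero.mpr hz0)
  have hgeom : ∑ i ∈ Finset.range l, z ^ i = 0 := by
    have := geom_sum_mul z l
    rw [hzl, sub_self, mul_eq_zero] at this
    exact this.resolve_right (sub_ne_zero.mpr hz1)
  have hpow : ∀ i : ℕ, ∃ c : WittVector p k,
      z ^ i = 1 + (i : WittVector p k) * (p * y) + p * p * c := by
    intro i
    induction i with
    | zero => exact ⟨0, by simp⟩
    | succ i ih =>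
      obtain ⟨c, hc⟩ := ih
      refine ⟨c + (i : WittVector p k) * y * y + p * c * y, ?_⟩
      rw [pow_succ, hc, show z = 1 + p * y by rw [← hy]; ring]
      push_cast
      ring
  choose c hc using hpow
  rw [Finset.sum_congr rfl (fun i _ => hc i), Finset.sum_add_distrib, Finset.sum_add_distrib,
    ← Finset.sum_mul, ← Finset.mul_sum, Finset.sum_const, Finset.card_range, nsmul_one,
    ← Nat.cast_sum, Finset.sum_range_id] at hgeom
  have hlp : l = p := by
    have h1 := congrArg WittVector.constantCoeff hgeom
    simp only [map_add, map_mul, map_natCast, map_zero, CharP.cast_eq_zero, zero_mul, mul_zero,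
      add_zero] at h1
    exact ((Nat.prime_dvd_prime_iff_eq (Fact.out : p.Prime) hl).mp
      ((CharP.cast_eq_zero_iff k p l).mp h1)).symm
  rw [hlp] at hgeom
  have hodd : Odd p := (Fact.out : p.Prime).odd_of_ne_two hp
  obtain ⟨m, hm⟩ := hodd
  have hh : p * (p - 1) / 2 = p * m := by
    rw [show p - 1 = m * 2 by omega, ← mul_assoc, Nat.mul_div_cancel _ (by norm_num)]
  rw [hh, Nat.cast_mul] at hgeom
  set s := ∑ i ∈ Finset.range p, c i
  have hfac : (p : WittVector p k) * (1 + p * ((m : WittVector p k) * y + s)) = 0 := by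
    rw [← hgeom]; ring
  have h2 := congrArg WittVector.constantCoeff ((mul_eq_zero.mp hfac).resolve_left hpz)
  simp only [map_add, map_one, map_mul, map_natCast, map_zero, CharP.cast_eq_zero, zero_mul,
    add_zero] at h2
  exact one_ne_zero h2

end Groth.Agent.S16356
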