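import Groth.Statements.S16357
import Mathlib

set_option linter.style.haveILetI false

set_option autoImplicit false
universe u
open OrdAV

namespace Groth.Agent.S16357

/-- Over a field L of characteristic zero, a monic polynomial h whose square has rational coefficients
has rational coefficients itself. -/
theorem result (L : Type u) [Field L] [CharZero L]
    (h : Polynomial L) (hm : h.Monic) (f : Polynomial ℚ)
    (hf : h ^ 2 = Polynomial.map (algebraMap ℚ L) f) :
    ∃ g : Polynomial ℚ, Polynomial.map (algebraMap ℚ L) g = h := by
  have key : ∀ n, h.coeff (h.natDegree - n) ∈ (algebraMap ℚ L).range := by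
    intro n
    induction n using Nat.strong_induction_on with
    | _ n ih =>
      rcases Nat.eq_zero_or_pos n with rfl | hn
      · exact ⟨1, by rw [map_one, Nat.sub_zero]; exact hm.coeff_natDegree.symm⟩
      by_cases hnd : h.natDegree < n
      · rw [show h.natDegree - n = h.natDegree - h.natDegree by omega]
        exact ih _ hnd
      set d := h.natDegree
      have hsum : (h ^ 2).coeff (2 * d - n) =
          ∑ x ∈ Finset.HasAntidiagonal.antidiagonal (2 * d - n), h.coeff x.1 * h.coeff x.2 := by
        rw [sq, Polynomial.coeff_mul]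
      have hmem : (d - n, d) ∈ Finset.HasAntidiagonal.antidiagonal (2 * d - n) :=
        Finset.HasAntidiagonal.mem_antidiagonal.mpr (by omega)
      have hmem' : (d, d - n) ∈ (Finset.HasAntidiagonal.antidiagonal (2 * d - n)).erase (d - n, d) :=
        Finset.mem_erase.mpr ⟨fun e => by simp only [Prod.mk.injEq] at e; omega,
          Finset.HasAntidiagonal.mem_antidiagonal.mpr (by omega)⟩
      rw [← Finset.add_sum_erase _ _ hmem, ← Finset.add_sum_erase _ _ hmem'] at hsum
      simp only [show h.coeff d = 1 from hm.coeff_natDegree, mul_one, one_mul] at hsum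
      have hrest : ∀ x ∈ ((Finset.HasAntidiagonal.antidiagonal (2 * d - n)).erase (d - n, d)).erase
          (d, d - n), h.coeff x.1 * h.coeff x.2 ∈ (algebraMap ℚ L).range := by
        intro x hx
        simp only [Finset.mem_erase, Finset.HasAntidiagonal.mem_antidiagonal, ne_eq] at hx
        by_cases h1 : d < x.1
        · rw [Polynomial.coeff_eq_zero_of_natDegree_lt h1, zero_mul]; exact zero_mem _
        by_cases h2 : d < x.2
        · rw [Polynomial.coeff_eq_zero_of_natDegree_lt h2, mul_zero]; exact zero_mem _
        have h3 : x.1 ≠ d := fun e => hx.1 (Prod.ext e (by omega))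
        have h4 : x.2 ≠ d := fun e => hx.2.1 (Prod.ext (by omega) e)
        refine mul_mem ?_ ?_
        · rw [show x.1 = d - (d - x.1) by omega]; exact ih _ (by omega)
        · rw [show x.2 = d - (d - x.2) by omega]; exact ih _ (by omega)
      have hS := Subring.sum_mem _ hrest
      have hf' : (h ^ 2).coeff (2 * d - n) ∈ (algebraMap ℚ L).range := by
        rw [hf, Polynomial.coeff_map]; exact ⟨_, rfl⟩
      rw [show h.coeff (d - n) = algebraMap ℚ L (1 / 2) * ((h ^ 2).coeff (2 * d - n) -
        ∑ x ∈ ((Finset.HasAntidiagonal.antidiagonal (2 * d - n)).erase (d - n, d)).erase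
          (d, d - n), h.coeff x.1 * h.coeff x.2) by rw [hsum, map_div₀, map_one, map_ofNat]; ring]
      exact mul_mem ⟨_, rfl⟩ (sub_mem hf' hS)
  have : h ∈ Polynomial.lifts (algebraMap ℚ L) := by
    rw [Polynomial.lifts_iff_coeff_lifts]
    intro k
    by_cases hk : h.natDegree < k
    · exact ⟨0, by rw [map_zero, Polynomial.coeff_eq_zero_of_natDegree_lt hk]⟩
    · rw [show k = h.natDegree - (h.natDegree - k) by omega]
      exact key _
  obtain ⟨g, hg⟩ := Polynomial.mem_lifts h |>.mp this
  exact ⟨g, hg⟩

end Groth.Agent.S16357
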