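import Groth.Statements.S16358
import Mathlib

open scoped TensorProduct

set_option linter.style.haveILetI false

set_option autoImplicit false
universe u v w
open OrdAV

namespace Groth.Agent.S16358

/-- Let k be a perfect field of characteristic p > 0 and W = W(k); let M be a finitely generated free
W-module on which a finite group G acts W-linearly, with invariant submodule M^G. Then the map
(W/pW) ⊗ M^G → (W/pW) ⊗ M induced by the inclusion is injective. Since M^G is free, this implies
rank_W M^G ≤ dim_k (M/pM)^G; the published statement is that inequality, and this row states the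
stronger injectivity. -/
theorem result (p : ℕ) [Fact p.Prime]
    (k : Type u) [Field k] [CharP k p] [PerfectRing k p]
    (M : Type v) [AddCommGroup M] [Module (WittVector p k) M]
    [Module.Free (WittVector p k) M] [Module.Finite (WittVector p k) M]
    (G : Type w) [Group G] [Finite G] (ρ : Representation (WittVector p k) G M) :
    Function.Injective
      (LinearMap.lTensor (WittVector p k ⧸ Ideal.span {(p : WittVector p k)}) ρ.invariants.subtype) := by
  have hpz : (p : WittVector p k) ≠ 0 := WittVector.p_nonzero p k
  rw [← LinearMap.ker_eq_bot, LinearMap.ker_eq_bot']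
  intro t ht
  have hsurj : ∀ t : (WittVector p k ⧸ Ideal.span {(p : WittVector p k)}) ⊗[WittVector p k] ρ.invariants,
      ∃ n : ρ.invariants, (Ideal.Quotient.mk _ (1 : WittVector p k)) ⊗ₜ[WittVector p k] n = t := by
    intro t
    induction t using TensorProduct.induction_on with
    | zero => exact ⟨0, TensorProduct.tmul_zero _ _⟩
    | tmul a b =>
      obtain ⟨a, rfl⟩ := Ideal.Quotient.mk_surjective a
      refine ⟨a • b, ?_⟩
      rw [TensorProduct.tmul_smul, TensorProduct.smul_tmul']
      congr 1
      change Ideal.Quotient.mk _ (a * 1) = _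
      rw [mul_one]
    | add a b ha hb =>
      obtain ⟨x, rfl⟩ := ha
      obtain ⟨y, rfl⟩ := hb
      exact ⟨x + y, TensorProduct.tmul_add _ _ _⟩
  obtain ⟨n, rfl⟩ := hsurj t
  rw [LinearMap.lTensor_tmul] at ht
  have h := congrArg (TensorProduct.quotTensorEquivQuotSMul M (Ideal.span {(p : WittVector p k)})) ht
  rw [TensorProduct.quotTensorEquivQuotSMul_mk_tmul, one_smul, map_zero, Submodule.Quotient.mk_eq_zero,
    Submodule.ideal_span_singleton_smul, Submodule.mem_smul_pointwise_iff_exists] at h
  obtain ⟨m, -, hm⟩ := h
  have hmi : m ∈ ρ.invariants := fun g => by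
    refine smul_right_injective M hpz ?_
    change (p : WittVector p k) • ρ g m = (p : WittVector p k) • m
    rw [← map_smul, hm]
    exact n.2 g
  have hn : n = (p : WittVector p k) • (⟨m, hmi⟩ : ρ.invariants) := Subtype.ext hm.symm
  rw [hn, TensorProduct.tmul_smul, TensorProduct.smul_tmul']
  refine (congrArg (· ⊗ₜ[WittVector p k] _) ?_).trans (TensorProduct.zero_tmul _ _)
  change Ideal.Quotient.mk _ ((p : WittVector p k) * 1) = 0
  rw [mul_one]
  exact Ideal.Quotient.eq_zero_iff_mem.mpr (Ideal.mem_span_singleton_self _)

end Groth.Agent.S16358
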