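import Groth.Statements.S16359
import Groth.Agent.Comod.LineStabPID

set_option autoImplicit false
universe u
open TensorProduct
open HopfRep

namespace Groth.Agent.S16359

/-- Let k be a field and V = k⟦t⟧. Let G = Spec A be a flat affine group scheme of finite type over V (A
a commutative Hopf algebra over V, flat and of finite type) and let Q = Spec B ⊂ G be a flat closed
subgroup scheme distinct from G (B a flat Hopf algebra and π : A → B a surjective, non-injective
bialgebra map). Then there are a free V-module Λ = V^d with a basis e_0, …, e_{d-1} and a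
representation ρ : G → GL(Λ), given by a d × d matrix corepresentation (a_ij) in A (Δ(a_ij) = Σ_l
a_il ⊗ a_lj, ε(a_ij) = δ_ij; a point g acts by e_j ↦ Σ_i a_ij(g) e_i), such that (a) ρ is a closed
immersion: the entries a_ij together with the inverse of det(a_ij) generate A as a V-algebra, and
(b) Q is the closed subgroup scheme of G stabilising the line V e_0: the ideal of Q in A, i.e. the
kernel of π, is the ideal generated by the entries a_i0 with i ≠ 0. (The published statement has an
arbitrary rank-one direct summand Λ' of Λ as the stabilised line; here the basis of Λ is chosen with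
Λ' = V e_0, which loses nothing since V is local.) -/
theorem result (k : Type u) [Field k]
    (A : Type u) [CommRing A] [HopfAlgebra (PowerSeries k) A]
    [Module.Flat (PowerSeries k) A] [Algebra.FiniteType (PowerSeries k) A]
    (B : Type u) [CommRing B] [HopfAlgebra (PowerSeries k) B] [Module.Flat (PowerSeries k) B]
    (π : A →ₐc[PowerSeries k] B) (hπ : Function.Surjective π) (hQ : ¬ Function.Injective π) :
    ∃ (d : ℕ) (hd : 0 < d) (a : Matrix (Fin d) (Fin d) A),
      (∀ i j, CoalgebraStruct.comul (R := PowerSeries k) (a i j) = ∑ l, a i l ⊗ₜ[PowerSeries k] a l j) ∧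
      (∀ i j, CoalgebraStruct.counit (R := PowerSeries k) (a i j) = if i = j then 1 else 0) ∧
      (∃ u : A, u * a.det = 1 ∧
        Algebra.adjoin (PowerSeries k) (Set.range (fun p : Fin d × Fin d => a p.1 p.2) ∪ {u}) = ⊤) ∧
      RingHom.ker π = Ideal.span (Set.range (fun i : {i : Fin d // i ≠ ⟨0, hd⟩} => a i.1 ⟨0, hd⟩)) := by
  classical
  obtain ⟨d₀, e₀, M, hM, hker, hgen⟩ := Groth.Agent.Comod.LinePID.exists_adapted π
  let T := Fin d₀ → Fin d₀ ⊕ Fin e₀
  let t0 : T := Sum.inl
  let u : T → PowerSeries k := fun f =>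
    Groth.Agent.Comod.LineStab.D (1 : Matrix (Fin d₀ ⊕ Fin e₀) (Fin d₀ ⊕ Fin e₀) (PowerSeries k)) f -
      if f = t0 then 1 else 0
  have hu0 : u t0 = 0 := by simp [u, t0, Groth.Agent.Comod.LineStab.D_one_inl]
  let N : Matrix T T (PowerSeries k) := Matrix.of fun f g => if g = t0 then u f else 0
  have hNN : N * N = 0 := by
    refine Matrix.ext fun f g => ?_
    simp only [Matrix.mul_apply, Matrix.zero_apply, N, Matrix.of_apply]
    refine Finset.sum_eq_zero ?_
    intro h _
    by_cases hh : h = t0 <;> simp [hh, hu0]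
  have hPQ : (1 + N) * (1 - N) = 1 := by
    rw [add_mul, mul_sub, mul_sub, hNN]; simp
  have hQP : (1 - N) * (1 + N) = 1 := by
    rw [sub_mul, mul_add, mul_add, hNN]; simp
  let Mp := Groth.Agent.Comod.LineStab.pw d₀ M
  have hMp : Groth.Agent.Comod.IsCorep (k := PowerSeries k) Mp := Groth.Agent.Comod.LineStab.isCorep_pw hM d₀
  let M' : Matrix T T A := Groth.Agent.Comod.sc (1 - N) * Mp * Groth.Agent.Comod.sc (1 + N)
  have hM' : Groth.Agent.Comod.IsCorep (k := PowerSeries k) M' := by
    constructor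
    · simp only [M', Matrix.map_mul, Groth.Agent.Comod.sc_map, hMp.map_comul]
      have h1 : ((1 + N).map (algebraMap (PowerSeries k) (A ⊗[PowerSeries k] A))) *
          ((1 - N).map (algebraMap (PowerSeries k) (A ⊗[PowerSeries k] A))) = 1 := by
        rw [← Matrix.map_mul, hPQ, Matrix.map_one _ (map_zero _) (map_one _)]
      simp only [Matrix.mul_assoc]
      rw [← Matrix.mul_assoc ((1 + N).map _) ((1 - N).map _) _, h1, Matrix.one_mul]
    · simp only [M', Matrix.map_mul, Groth.Agent.Comod.sc_map, hMp.map_counit, Matrix.mul_one]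
      rw [← Matrix.map_mul, hQP, Matrix.map_one _ (map_zero _) (map_one _)]
  let c : A := Groth.Agent.Comod.LineStab.D M t0
  let g : T → A := fun f => Groth.Agent.Comod.LineStab.D M f -
    Groth.Agent.Comod.LineStab.D (1 : Matrix (Fin d₀ ⊕ Fin e₀) (Fin d₀ ⊕ Fin e₀) A) f * c
  have hD1 : ∀ f, algebraMap (PowerSeries k) A (Groth.Agent.Comod.LineStab.D
      (1 : Matrix (Fin d₀ ⊕ Fin e₀) (Fin d₀ ⊕ Fin e₀) (PowerSeries k)) f) =
      Groth.Agent.Comod.LineStab.D (1 : Matrix (Fin d₀ ⊕ Fin e₀) (Fin d₀ ⊕ Fin e₀) A) f := fun f => by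
    rw [Groth.Agent.Comod.LineStab.D_map, Matrix.map_one _ (map_zero _) (map_one _)]
  have hv : ∀ h, Groth.Agent.Comod.sc (A := A) (1 + N) h t0 =
      Groth.Agent.Comod.LineStab.D (1 : Matrix (Fin d₀ ⊕ Fin e₀) (Fin d₀ ⊕ Fin e₀) A) h := fun h => by
    show algebraMap (PowerSeries k) A ((1 + N) h t0) = _
    rw [← hD1 h]
    congr 1
    simp [N, u, Matrix.one_apply]
  have hcolP : ∀ f, (Mp * Groth.Agent.Comod.sc (1 + N) : Matrix T T A) f t0 =
      Groth.Agent.Comod.LineStab.D M f := fun f => by
    rw [Matrix.mul_apply]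
    have := Groth.Agent.Comod.LineStab.D_mul M (1 : Matrix (Fin d₀ ⊕ Fin e₀) (Fin d₀ ⊕ Fin e₀) A) f
    rw [Matrix.mul_one] at this
    rw [this]
    exact Finset.sum_congr rfl fun h _ => by rw [hv]; rfl
  have hcol : ∀ f, f ≠ t0 → M' f t0 = g f := fun f hf => by
    simp only [M', Matrix.mul_assoc]
    rw [Matrix.mul_apply]
    simp only [hcolP]
    have : ∀ h, Groth.Agent.Comod.sc (A := A) (1 - N) f h =
        (if h = f then 1 else 0) - if h = t0 then algebraMap (PowerSeries k) A (u f) else 0 := fun h => by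
      show algebraMap (PowerSeries k) A ((1 - N) f h) = _
      simp only [Matrix.sub_apply, map_sub, N, Matrix.of_apply, Matrix.one_apply]
      by_cases h1 : f = h <;> by_cases h2 : h = t0 <;> simp [h1, h2, hf, Ne.symm hf, eq_comm (a := h) (b := f)]
    simp only [this, sub_mul, ite_mul, one_mul, zero_mul, Finset.sum_sub_distrib]
    rw [Finset.sum_eq_single f (fun x _ hx => by simp [hx]) (fun hx => absurd (Finset.mem_univ f) hx), if_pos rfl,
      Finset.sum_eq_single t0 (fun x _ hx => by simp [hx]) (fun hx => absurd (Finset.mem_univ t0) hx), if_pos rfl]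
    simp only [g, c, u, if_neg hf, sub_zero, hD1]
  let b := Matrix.fromBlocks M 0 0 M'
  have hb : Groth.Agent.Comod.IsCorep (k := PowerSeries k) b := by
    constructor
    · simp only [b, Matrix.fromBlocks_map, hM.map_comul, hM'.map_comul, Matrix.fromBlocks_multiply,
        Matrix.map_zero _ (map_zero _), Matrix.mul_zero, Matrix.zero_mul, add_zero, zero_add]
    · simp only [b, Matrix.fromBlocks_map, hM.map_counit, hM'.map_counit, Matrix.map_zero _ (map_zero _),
        Matrix.fromBlocks_one]
  let n := Fintype.card ((Fin d₀ ⊕ Fin e₀) ⊕ T)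
  have hn : 0 < n := Fintype.card_pos_iff.2 ⟨Sum.inr t0⟩
  let e : (Fin d₀ ⊕ Fin e₀) ⊕ T ≃ Fin n := (Fintype.equivFin _).trans
    (Equiv.swap (Fintype.equivFin _ (Sum.inr t0)) ⟨0, hn⟩)
  have he : e.symm ⟨0, hn⟩ = Sum.inr t0 := by rw [Equiv.symm_apply_eq]; simp [e]
  refine ⟨n, hn, Matrix.of fun i j => b (e.symm i) (e.symm j), fun i j => ?_, fun i j => ?_,
    ⟨(b.map (HopfAlgebra.antipodeAlgHom (PowerSeries k) A)).det, ?_, ?_⟩, le_antisymm ?_ ?_⟩
  · have h := congrFun (congrFun hb.map_comul (e.symm i)) (e.symm j)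
    simp only [Matrix.mul_apply, Matrix.map_apply, Algebra.TensorProduct.includeLeft_apply,
      Algebra.TensorProduct.includeRight_apply, Algebra.TensorProduct.tmul_mul_tmul, one_mul, mul_one,
      Bialgebra.comulAlgHom_apply] at h
    rw [Matrix.of_apply, h]
    exact (e.symm.sum_comp fun l => b (e.symm i) l ⊗ₜ[PowerSeries k] b l (e.symm j)).symm
  · have h := congrFun (congrFun hb.map_counit (e.symm i)) (e.symm j)
    simpa [Matrix.one_apply] using h
  · rw [show (Matrix.of fun i j => b (e.symm i) (e.symm j)) = b.submatrix e.symm e.symm from rfl,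
      Matrix.det_submatrix_equiv_self, ← Matrix.det_mul, hb.antipode_mul, Matrix.det_one]
  · refine eq_top_iff.2 (hgen ▸ Algebra.adjoin_mono fun x hx => Or.inl ?_)
    obtain ⟨⟨p, q⟩, rfl⟩ := hx
    exact ⟨(e (Sum.inl p), e (Sum.inl q)), by simp [b]⟩
  · show RingHom.ker (π : A →+* B) ≤ _
    rw [hker]
    refine Ideal.span_le.2 ?_
    rintro _ ⟨⟨a, j⟩, rfl⟩
    set K := Ideal.span (Set.range fun i : {i : Fin n // i ≠ ⟨0, hn⟩} =>
      (Matrix.of fun i j => b (e.symm i) (e.symm j)) i.1 ⟨0, hn⟩) with hK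
    have hg : ∀ f, g f ∈ K := fun f => by
      by_cases hf : f = t0
      · rw [hf]; simp [g, c, t0, Groth.Agent.Comod.LineStab.D_one_inl]
      · refine Ideal.subset_span ⟨⟨e (Sum.inr f), fun h => hf ?_⟩, ?_⟩
        · have := congrArg e.symm h
          rw [Equiv.symm_apply_apply, he] at this
          exact Sum.inr.inj this
        · simp only [Matrix.of_apply, Equiv.symm_apply_apply, he, b, Matrix.fromBlocks_apply₂₂, hcol f hf]
    rw [SetLike.mem_coe, ← Ideal.Quotient.eq_zero_iff_mem]
    refine Groth.Agent.Comod.LineStab.block_of_D (G := M.map (Ideal.Quotient.mk K))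
      (H := (M.map (HopfAlgebra.antipodeAlgHom (PowerSeries k) A)).map (Ideal.Quotient.mk K)) ?_
      (Ideal.Quotient.mk K c) (fun f => ?_) a j
    · rw [← Matrix.map_mul, hM.antipode_mul, Matrix.map_one _ (map_zero _) (map_one _)]
    · have h2 : Groth.Agent.Comod.LineStab.D (1 : Matrix (Fin d₀ ⊕ Fin e₀) (Fin d₀ ⊕ Fin e₀) (A ⧸ K)) f =
          Ideal.Quotient.mk K (Groth.Agent.Comod.LineStab.D 1 f) := by
        rw [Groth.Agent.Comod.LineStab.D_map, Matrix.map_one _ (map_zero _) (map_one _)]
      have h0 := Ideal.Quotient.eq_zero_iff_mem.2 (hg f)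
      simp only [g, map_sub, map_mul, sub_eq_zero] at h0
      rw [← Groth.Agent.Comod.LineStab.D_map, h0, h2, mul_comm]
  · refine Ideal.span_le.2 ?_
    rintro _ ⟨⟨i, hi⟩, rfl⟩
    show b (e.symm i) (e.symm ⟨0, hn⟩) ∈ RingHom.ker (π : A →+* B)
    rw [he]
    rcases hx : e.symm i with p | f
    · simp [b]
    · have hf : f ≠ t0 := fun h => hi (e.symm.injective (by rw [hx, he, h]))
      simp only [b, Matrix.fromBlocks_apply₂₂, hcol f hf, RingHom.mem_ker]
      have hblock : ∀ a j, (M.map (π : A →+* B)) (Sum.inr a) (Sum.inl j) = 0 := fun a j => by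
        have : M (Sum.inr a) (Sum.inl j) ∈ RingHom.ker (π : A →+* B) := hker ▸ Ideal.subset_span ⟨(a, j), rfl⟩
        exact this
      have h1 := Groth.Agent.Comod.LineStab.D_of_block hblock f
      have h2 := Groth.Agent.Comod.LineStab.D_of_block hblock t0
      rw [show t0 = Sum.inl from rfl, Groth.Agent.Comod.LineStab.D_one_inl, one_mul] at h2
      simp only [g, c, map_sub, map_mul, Groth.Agent.Comod.LineStab.D_map, Matrix.map_one _ (map_zero _) (map_one _)]
      rw [h1, show t0 = Sum.inl from rfl, h2, sub_self]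

end Groth.Agent.S16359
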