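import Groth.Statements.S16360
import Groth.Agent.PInsepDVR.Basic

set_option autoImplicit false
universe u
open Hensel

namespace Groth.Agent.S16360

/-- Let R be a discrete valuation ring that is Henselian and excellent, write k for its residue field
and p for the characteristic exponent of k. There is a Henselian discrete valuation ring R' and an
injective ring map R → R' such that the maximal ideal of R generates that of R' (so a uniformizer of
R is a uniformizer of R'), R' is the directed union of R-subalgebras that are finite free R-modules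
of rank a power of p, and the residue field k' of R' is a perfect closure of k: every element of k'
is a p-th power in k', and some p-power-th power of it lies in the image of k. (The published
statement also asserts that R' is excellent; that is not asserted here.) -/
theorem result (R : Type u) [CommRing R] [IsDomain R]
    [IsDiscreteValuationRing R] [HenselianLocalRing R] (hR : EGA4.IsExcellent R) :
    ∃ (R' : Type u) (_ : CommRing R') (_ : IsDomain R') (_ : IsDiscreteValuationRing R')
      (_ : HenselianLocalRing R') (_ : Algebra R R'),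
      Function.Injective (algebraMap R R') ∧
      Ideal.map (algebraMap R R') (IsLocalRing.maximalIdeal R) = IsLocalRing.maximalIdeal R' ∧
      (∀ s : Finset R', ∃ S : Subalgebra R R', (↑s : Set R') ⊆ ↑S ∧ Module.Finite R S ∧ Module.Free R S ∧
        ∃ m : ℕ, Module.finrank R S = ringExpChar (IsLocalRing.ResidueField R) ^ m) ∧
      (∀ y : R', ∃ z : R', z ^ ringExpChar (IsLocalRing.ResidueField R) - y ∈ IsLocalRing.maximalIdeal R') ∧
      (∀ y : R', ∃ (m : ℕ) (z : R),
        algebraMap R R' z - y ^ (ringExpChar (IsLocalRing.ResidueField R) ^ m) ∈ IsLocalRing.maximalIdeal R') := by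
  classical
  let κ := IsLocalRing.ResidueField R
  let p := ringExpChar κ
  let Ω := AlgebraicClosure (FractionRing R)
  obtain ⟨ϖ, hϖ⟩ := IsDiscreteValuationRing.exists_irreducible R
  have hinj : Function.Injective (algebraMap R Ω) := by
    rw [IsScalarTower.algebraMap_eq R (FractionRing R) Ω]
    exact (algebraMap (FractionRing R) Ω).injective.comp (IsFractionRing.injective R (FractionRing R))
  obtain ⟨T, -, hmax⟩ := zorn_le_nonempty₀ {T : Subalgebra R Ω | Groth.Agent.PInsepDVR.Good ϖ p T}
    (fun c hc hch y hy => ⟨sSup c, Groth.Agent.PInsepDVR.good_sSup hc hch ⟨y, hy⟩, fun T hT => le_sSup hT⟩) ⊥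
    (Groth.Agent.PInsepDVR.good_bot hinj hϖ)
  have hT : Groth.Agent.PInsepDVR.Good ϖ p T := hmax.1
  obtain ⟨hH, hloc, hspan, hdvr⟩ := hT.structure' hinj hϖ
  have hmR : IsLocalRing.maximalIdeal R = Ideal.span {ϖ} := (IsDiscreteValuationRing.irreducible_iff_uniformizer ϖ).mp hϖ
  refine ⟨T, inferInstance, inferInstance, hdvr, hH, inferInstance, ?_, ?_, ?_, ?_, ?_⟩
  · exact fun a b h => hinj (congrArg Subtype.val h)
  · rw [hmR, Ideal.map_span, Set.image_singleton, hspan]
  · intro s
    obtain ⟨S, hST, hsS, hfin, hfree, m, hm⟩ := hT.fin (s.image Subtype.val) (by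
      intro x hx
      obtain ⟨y, -, rfl⟩ := Finset.mem_image.mp hx
      exact y.2)
    let e : S.comap T.val ≃ₗ[R] S :=
      { toFun := fun x => ⟨x.1.1, x.2⟩
        invFun := fun x => ⟨⟨x.1, hST x.2⟩, x.2⟩
        map_add' := fun _ _ => rfl
        map_smul' := fun _ _ => rfl
        left_inv := fun _ => rfl
        right_inv := fun _ => rfl }
    refine ⟨S.comap T.val, fun y hy => hsS (Finset.mem_image_of_mem _ hy), ?_, ?_, m, ?_⟩
    · exact Module.Finite.equiv e.symm
    · exact Module.Free.of_equiv e.symm
    · rw [e.finrank_eq, hm]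
  · by_contra hne
    push Not at hne
    obtain ⟨y₀, hy₀⟩ := hne
    have hp : p.Prime := by
      by_contra hnp
      have hp1 : p = 1 := (expChar_is_prime_or_one κ p).resolve_left hnp
      refine hy₀ y₀ ?_
      show y₀ ^ p - y₀ ∈ _
      rw [hp1, pow_one, sub_self]
      exact zero_mem _
    have hpR : (p : R) ∈ IsLocalRing.maximalIdeal R := by
      rw [← IsLocalRing.residue_eq_zero_iff, map_natCast]
      have he : ∀ q : ℕ, ExpChar κ q → q.Prime → (q : κ) = 0 := fun q hq hq' => by
        cases hq with
        | zero => exact absurd hq' Nat.not_prime_one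
        | prime h => exact CharP.cast_eq_zero κ _
      exact he p (ringExpChar.expChar κ) hp
    obtain ⟨z, hz⟩ := IsAlgClosed.exists_pow_nat_eq (y₀ : Ω) hp.pos
    have hgood := hT.adjoin hinj hϖ hp hpR y₀ (fun w hw => hy₀ w (by rw [hspan]; exact hw)) z hz
    have hle : T ≤ (Algebra.adjoin T {z}).restrictScalars R := fun x hx =>
      Subalgebra.algebraMap_mem (Algebra.adjoin T {z}) (⟨x, hx⟩ : T)
    have hzT : z ∈ T := hmax.2 hgood hle (Algebra.self_mem_adjoin_singleton T z)
    refine hy₀ ⟨z, hzT⟩ ?_
    rw [show (⟨z, hzT⟩ : T) ^ ringExpChar κ = y₀ from Subtype.ext hz, sub_self]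
    exact zero_mem _
  · intro y
    obtain ⟨m, c, w, hw, h⟩ := hT.insep y.1 y.2
    refine ⟨m, c, ?_⟩
    rw [hspan, Ideal.mem_span_singleton]
    exact ⟨⟨w, hw⟩, Subtype.ext h⟩

end Groth.Agent.S16360
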