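import Groth.Statements.S16361
import Groth.Agent.FibCatRep.Cart

set_option autoImplicit false
set_option linter.style.haveILetI false
open CategoryTheory Groth.Agent.FibCatRep

universe v u
open CategoryTheory CategoryTheory.Limits
open FibCat

namespace Groth.Agent.S16361

/-- Let S be a category, π_X : X ⥤ S and π_Y : Y ⥤ S be fibred in groupoids, and F : Y ⥤ X a functor
with F ⋙ π_X = π_Y. Consider the category of triples (y, x, φ) with φ : F y ≅ x an arbitrary
isomorphism of X and morphisms the compatible pairs of morphisms (the categorical pullback of F and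
the identity of X; the isomorphism φ is not required to lie over an identity of S). Its projection
to X is fibred in groupoids over X, and the composite of that projection with π_X is fibred in
groupoids over S. (The published statement also asserts that y ↦ (y, F y, id) and (y, x, φ) ↦ y form
an equivalence over S; that is not asserted here.) -/
theorem result {S : Type u} [Category.{v} S] {X : Type u} [Category.{v} X]
    {Y : Type u} [Category.{v} Y] (πX : X ⥤ S) (πY : Y ⥤ S) (hX : FibCat.IsFibGrpd πX) (hY : FibCat.IsFibGrpd πY)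
    (F : Y ⥤ X) (hF : F ⋙ πX = πY) :
    FibCat.IsFibGrpd (CategoricalPullback.π₂ F (𝟭 X)) ∧
      FibCat.IsFibGrpd (CategoricalPullback.π₂ F (𝟭 X) ⋙ πX) := by
  subst hF
  have hcomp : ∀ {A : Type (max u v)} [Category.{v} A] (q : A ⥤ X), IsFibGrpd q → IsFibGrpd (q ⋙ πX) := by
    intro A _ q hq
    refine ⟨fun {a V} f => ?_, fun {b a} φ => ?_⟩
    · obtain ⟨r, ρ, hr, hρ⟩ := exists_lift hX (x := q.obj a) f
      obtain ⟨b, φ, hb, hφ⟩ := exists_lift hq (x := a) ρ
      subst hb
      exact ⟨b, φ, IsHomLift.of_fac' (q ⋙ πX) f φ hr rfl (by simp [hφ, hρ])⟩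
    · refine cart_mk φ fun {z} ψ g hg => ?_
      obtain ⟨g₀, ⟨hg₀, hc₀⟩, -⟩ := existsUnique_cart hX (q.map φ) (q.map ψ) g hg
      obtain ⟨χ, ⟨hχ, hc⟩, hu⟩ := existsUnique_cart hq φ ψ g₀ hc₀
      refine ⟨χ, ⟨(congrArg πX.map hχ).trans hg₀, hc⟩, fun χ' h' => hu χ' ⟨?_, h'.2⟩⟩
      exact cancel hX (q.map φ) (h'.1.trans hg₀.symm) (by rw [hc₀, ← Functor.map_comp, h'.2])
  have h2 : IsFibGrpd (CategoricalPullback.π₂ F (𝟭 X)) := by
    refine isFibGrpd_mk (fun {o R} f => ?_) (fun {o'' o' o} φ ψ g hg => ?_)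
    · obtain ⟨y, φ, hy, hφ⟩ := exists_lift hY (x := o.fst) (πX.map (f ≫ o.iso.inv))
      obtain ⟨χ, ⟨hχ, hc⟩, -⟩ := existsUnique_cart hX (f ≫ o.iso.inv) (F.map φ) (eqToHom hy) hφ.symm
      let f' : R ⟶ o.snd := f
      replace hc : χ ≫ f' ≫ o.iso.inv = F.map φ := hc
      have : IsIso (πX.map χ) := by rw [hχ]; infer_instance
      haveI := isIso_of_map hX χ
      let o' : CategoricalPullback F (𝟭 X) := ⟨y, R, asIso χ⟩
      refine ⟨o', ⟨φ, f', ?_⟩, rfl, (Category.id_comp f).symm⟩
      change F.map φ ≫ o.iso.hom = χ ≫ f'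
      rw [← hc]
      simp
    · let g' : o''.snd ⟶ o'.snd := g
      have hg' : g' ≫ φ.snd = ψ.snd := hg
      let h0 : F.obj o''.fst ⟶ F.obj o'.fst := o''.iso.hom ≫ g' ≫ o'.iso.inv
      have hh : h0 ≫ F.map φ.fst = F.map ψ.fst := by
        rw [← cancel_mono o.iso.hom]
        simp only [h0, Category.assoc, φ.w, ψ.w, Functor.id_map, Iso.inv_hom_id_assoc]
        rw [hg']
      obtain ⟨χ₁, ⟨hχ₁, hc₁⟩, hu₁⟩ := existsUnique_cart hY φ.fst ψ.fst (πX.map h0)
        (by simp only [Functor.comp_map]; rw [← Functor.map_comp, hh])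
      have hF1 : F.map χ₁ = h0 := cancel hX (F.map φ.fst) hχ₁ (by rw [← Functor.map_comp, hc₁, hh])
      refine ⟨⟨χ₁, g', ?_⟩, ⟨rfl, CategoricalPullback.hom_ext hc₁ hg'⟩, fun χ hχ => ?_⟩
      · rw [hF1]
        simp [h0]
      · have hs : χ.snd = g' := hχ.1
        refine CategoricalPullback.hom_ext (hu₁ _ ⟨congrArg πX.map ?_, congrArg (fun k => k.fst) hχ.2⟩) hs
        have hw := χ.w
        rw [Functor.id_map, hs] at hw
        simp only [h0]
        rw [← reassoc_of% hw, Iso.hom_inv_id, Category.comp_id]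
  exact ⟨h2, hcomp _ h2⟩

end Groth.Agent.S16361
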