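import Groth.Statements.S16362
import Mathlib

set_option autoImplicit false
universe u
open MovLem

namespace Groth.Agent.S16362

/-- Let A be a commutative ring, p a prime ideal of A, and ζ, u elements of A with u not in p. Then the
quotient of the classes of ζ and u in the fraction field of the domain A ⧸ p is integral over A ⧸ p
if and only if there exist a natural number N and elements a_1, …, a_N of A such that ζ^N + a_1
ζ^(N-1) u + ⋯ + a_N u^N lies in p; equivalently, some binary form of degree N with coefficients in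
A, monic in the first variable, evaluated at (ζ, u), lies in p. -/
theorem result
    {A : Type u} [CommRing A] (p : Ideal A) [p.IsPrime] (ζ u : A) (hu : u ∉ p) :
    IsIntegral (A ⧸ p)
        (algebraMap (A ⧸ p) (FractionRing (A ⧸ p)) (Ideal.Quotient.mk p ζ) /
          algebraMap (A ⧸ p) (FractionRing (A ⧸ p)) (Ideal.Quotient.mk p u)) ↔
      ∃ (N : ℕ) (a : ℕ → A),
        ζ ^ N + ∑ i ∈ Finset.Icc 1 N, a i * ζ ^ (N - i) * u ^ i ∈ p := by
  have hu' : algebraMap (A ⧸ p) (FractionRing (A ⧸ p)) (Ideal.Quotient.mk p u) ≠ 0 := fun h =>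
    hu (Ideal.Quotient.eq_zero_iff_mem.1 (IsFractionRing.injective _ _ (h.trans (map_zero _).symm)))
  let φ : A →+* FractionRing (A ⧸ p) := (algebraMap (A ⧸ p) _).comp (Ideal.Quotient.mk p)
  have hφ : ∀ a, φ a = 0 ↔ a ∈ p := fun a => by
    rw [← Ideal.Quotient.eq_zero_iff_mem]
    exact map_eq_zero_iff (algebraMap (A ⧸ p) (FractionRing (A ⧸ p))) (IsFractionRing.injective _ _)
  have hval : ∀ (N : ℕ) (a : ℕ → A),
      φ (ζ ^ N + ∑ i ∈ Finset.Icc 1 N, a i * ζ ^ (N - i) * u ^ i) =
      φ u ^ N * ((φ ζ / φ u) ^ N + ∑ i ∈ Finset.Icc 1 N, φ (a i) * (φ ζ / φ u) ^ (N - i)) := fun N a => by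
    have hu'' : φ u ≠ 0 := hu'
    rw [mul_add, Finset.mul_sum, map_add, map_pow, map_sum, div_pow, mul_div_cancel₀ _ (pow_ne_zero N hu'')]
    refine congrArg _ (Finset.sum_congr rfl fun i hi => ?_)
    have hiN : i ≤ N := (Finset.mem_Icc.1 hi).2
    rw [map_mul, map_mul, map_pow, map_pow, div_pow,
      show φ u ^ N = φ u ^ (N - i) * φ u ^ i by rw [← pow_add, Nat.sub_add_cancel hiN]]
    field_simp
  constructor
  · rintro ⟨P, hP, hz⟩
    choose a ha using fun n => Ideal.Quotient.mk_surjective (I := p) (P.coeff n)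
    refine ⟨P.natDegree, fun i => a (P.natDegree - i), (hφ _).1 ?_⟩
    rw [hval]
    refine mul_eq_zero_of_right _ (Eq.trans ?_ hz)
    rw [Polynomial.eval₂_eq_sum_range, Finset.sum_range_succ, hP.coeff_natDegree, map_one, one_mul,
      add_comm (∑ x ∈ Finset.range _, _)]
    refine congrArg _ ?_
    refine Finset.sum_nbij' (fun i => P.natDegree - i) (fun i => P.natDegree - i) ?_ ?_ ?_ ?_ ?_
    · intro i hi; simp only [Finset.mem_coe, Finset.mem_Icc, Finset.mem_range] at hi ⊢; omega
    · intro i hi; simp only [Finset.mem_coe, Finset.mem_Icc, Finset.mem_range] at hi ⊢; omega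
    · intro i hi; simp only [Finset.mem_coe, Finset.mem_Icc] at hi; omega
    · intro i hi; simp only [Finset.mem_coe, Finset.mem_range] at hi; omega
    · intro i hi
      show φ (a _) * _ = _
      exact congrArg (· * _) (congrArg (algebraMap (A ⧸ p) _) (ha _))
  · rintro ⟨N, a, h⟩
    let Q : Polynomial (A ⧸ p) := ∑ i ∈ Finset.Icc 1 N,
      Polynomial.C (Ideal.Quotient.mk p (a i)) * Polynomial.X ^ (N - i)
    refine ⟨Polynomial.X ^ N + Q, Polynomial.monic_X_pow_add ?_, ?_⟩
    · refine lt_of_le_of_lt (Polynomial.degree_sum_le _ _) ((Finset.sup_lt_iff (WithBot.bot_lt_coe _)).2 ?_)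
      intro i hi
      refine lt_of_le_of_lt (Polynomial.degree_C_mul_X_pow_le _ _) (Nat.cast_lt.2 ?_)
      have := Finset.mem_Icc.1 hi
      omega
    · have h0 := hval N a
      rw [(hφ _).2 h] at h0
      have h1 := (mul_eq_zero.1 h0.symm).resolve_left (pow_ne_zero N hu')
      rw [Polynomial.eval₂_add, Polynomial.eval₂_X_pow, Polynomial.eval₂_finset_sum]
      simp only [Polynomial.eval₂_mul, Polynomial.eval₂_C, Polynomial.eval₂_X_pow]
      exact h1

end Groth.Agent.S16362
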