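import Groth.Statements.S16363
import Groth.Agent.DensePts.Alg

set_option autoImplicit false
universe u
open CategoryTheory Limits
open MovLem

set_option backward.isDefEq.respectTransparency false
set_option backward.isDefEq.respectTransparency.types false

open scoped TensorProduct

namespace Groth.Agent.S16363

open AlgebraicGeometry in
/-- Let k be a field, X a k-scheme of finite type, K an extension field of k and U' ⊆ X_K = X ×_k Spec K
a dense open subset. There exists a dense open U ⊆ X with the following property: for every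
algebraic closure k̄ of k, every field Ω that is simultaneously a k̄-algebra and a K-algebra
compatibly with k, and every k-morphism x : Spec k̄ → X whose image point lies in U, every
K-morphism y : Spec Ω → X_K whose composite with the projection X_K → X is the composite Spec Ω →
Spec k̄ → X has image point in U'. (In words: the k̄-points of U, viewed as Ω-points of X_K, lie in
U'.) -/
theorem result
    {k K : Type u} [Field k] [Field K] [Algebra k K]
    (X : Scheme.{u}) (f : X ⟶ Spec (CommRingCat.of k)) [LocallyOfFiniteType f] [QuasiCompact f]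
    (U' : (pullback f (Spec.map (CommRingCat.ofHom (algebraMap k K)))).Opens)
    (hU' : Dense (U' : Set ↥(pullback f (Spec.map (CommRingCat.ofHom (algebraMap k K)))))) :
    ∃ U : X.Opens, Dense (U : Set ↥X) ∧
      ∀ (kb Ω : Type u) [Field kb] [Algebra k kb] [IsAlgClosure k kb]
        [Field Ω] [Algebra k Ω] [Algebra kb Ω] [Algebra K Ω] [IsScalarTower k kb Ω] [IsScalarTower k K Ω]
        (x : Spec (CommRingCat.of kb) ⟶ X),
        x ≫ f = Spec.map (CommRingCat.ofHom (algebraMap k kb)) →
        (∀ t : ↥(Spec (CommRingCat.of kb)), x.base t ∈ U) →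
        ∀ (y : Spec (CommRingCat.of Ω) ⟶ pullback f (Spec.map (CommRingCat.ofHom (algebraMap k K)))),
          y ≫ pullback.fst f (Spec.map (CommRingCat.ofHom (algebraMap k K))) =
              Spec.map (CommRingCat.ofHom (algebraMap kb Ω)) ≫ x →
          y ≫ pullback.snd f (Spec.map (CommRingCat.ofHom (algebraMap k K))) =
              Spec.map (CommRingCat.ofHom (algebraMap K Ω)) →
          ∀ t : ↥(Spec (CommRingCat.of Ω)), y.base t ∈ U' := by
  classical
  let gK := Spec.map (CommRingCat.ofHom (algebraMap k K))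
  let Good : X.Opens → Prop := fun O => ∀ (kb Ω : Type u) [Field kb] [Algebra k kb] [IsAlgClosure k kb] [Field Ω]
      [Algebra k Ω] [Algebra kb Ω] [Algebra K Ω] [IsScalarTower k kb Ω] [IsScalarTower k K Ω]
      (x : Spec (CommRingCat.of kb) ⟶ X), x ≫ f = Spec.map (CommRingCat.ofHom (algebraMap k kb)) →
      (∀ t : ↥(Spec (CommRingCat.of kb)), x.base t ∈ O) →
      ∀ (y : Spec (CommRingCat.of Ω) ⟶ pullback f gK),
        y ≫ pullback.fst f gK = Spec.map (CommRingCat.ofHom (algebraMap kb Ω)) ≫ x →
        y ≫ pullback.snd f gK = Spec.map (CommRingCat.ofHom (algebraMap K Ω)) →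
        ∀ t : ↥(Spec (CommRingCat.of Ω)), y.base t ∈ U'
  refine ⟨⨆ O : {O : X.Opens // Good O}, O.1, ?_, ?_⟩
  · rw [dense_iff_inter_open]
    intro W hW ⟨w, hw⟩
    obtain ⟨V, hV, hwV, hVW⟩ := exists_isAffineOpen_mem_and_subset (x := w) (U := (⟨W, hW⟩ : X.Opens)) hw
    obtain ⟨φ, hφ⟩ : ∃ φ : CommRingCat.of k ⟶ Γ(X, V), Spec.map φ = hV.fromSpec ≫ f :=
      ⟨Spec.preimage (hV.fromSpec ≫ f), Spec.map_preimage _⟩
    let A : Type u := Γ(X, V)
    letI : Algebra k A := φ.hom.toAlgebra
    haveI : Algebra.FiniteType k A := by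
      have h : LocallyOfFiniteType (hV.fromSpec ≫ f) := inferInstance
      rw [← hφ, HasRingHomProperty.Spec_iff (P := @LocallyOfFiniteType)] at h
      exact h
    haveI : Nontrivial A := by
      haveI : Nonempty (PrimeSpectrum Γ(X, V)) := ⟨hV.primeIdealOf ⟨w, hwV⟩⟩
      exact PrimeSpectrum.nonempty_iff_nontrivial.1 inferInstance
    haveI : IsNoetherianRing A := Algebra.FiniteType.isNoetherianRing k A
    obtain ⟨p, hp⟩ : (minimalPrimes A).Nonempty := Set.nonempty_coe_sort.1 (Ideal.nonempty_minimalPrimes (bot_ne_top (α := Ideal A)))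
    -- the affine piece of `X_K`
    haveI : Algebra.FiniteType K (K ⊗[k] A) := inferInstance
    haveI : IsNoetherianRing (K ⊗[k] A) := Algebra.FiniteType.isNoetherianRing K _
    haveI : IsNoetherianRing (A ⊗[k] K) := isNoetherianRing_of_ringEquiv _ (Algebra.TensorProduct.comm k K A).toRingEquiv
    have hφ' : Spec.map (CommRingCat.ofHom (algebraMap k A)) = hV.fromSpec ≫ f := hφ
    let e : Spec (CommRingCat.of (A ⊗[k] K)) ⟶ pullback f gK :=
      (pullbackSpecIso k A K).inv ≫ pullback.map _ _ f gK hV.fromSpec (𝟙 _) (𝟙 _)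
        (by rw [Category.comp_id, hφ']) (by rw [Category.comp_id, Category.id_comp])
    haveI := hV.isOpenImmersion_fromSpec
    haveI : IsOpenImmersion e := inferInstance
    obtain ⟨I, hI⟩ := (PrimeSpectrum.isClosed_iff_zeroLocus_ideal _).1 ((e ⁻¹ᵁ U').2.isClosed_compl)
    have hImem : ∀ q : PrimeSpectrum (A ⊗[k] K), I ≤ q.asIdeal ↔ e q ∉ U' := fun q => by
      change q ∈ PrimeSpectrum.zeroLocus (I : Set (A ⊗[k] K)) ↔ _
      rw [← hI]; rfl
    have hImin : ∀ Q ∈ minimalPrimes (A ⊗[k] K), ¬ I ≤ Q := fun Q hQ hle => by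
      have hdense : Dense ((e ⁻¹ᵁ U' : _) : Set (Spec (CommRingCat.of (A ⊗[k] K)))) :=
        hU'.preimage e.isOpenEmbedding.isOpenMap
      haveI := hQ.1.1
      let others := (minimalPrimes.finite_of_isNoetherianRing (A ⊗[k] K)).toFinset.erase Q
      obtain ⟨g, hg, hgQ⟩ : ∃ g, g ∈ others.inf id ∧ g ∉ Q := by
        by_contra hc
        push Not at hc
        obtain ⟨Q', hQ', hle'⟩ := (Ideal.IsPrime.inf_le' ‹Q.IsPrime›).1 (show others.inf id ≤ Q from hc)
        rw [Finset.mem_erase, Set.Finite.mem_toFinset] at hQ'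
        exact hQ'.1 (le_antisymm hle' (hQ.2 hQ'.2.1 hle'))
      obtain ⟨z, hz1, hz2⟩ := hdense.inter_open_nonempty (PrimeSpectrum.basicOpen g : Set (PrimeSpectrum (A ⊗[k] K)))
        (PrimeSpectrum.basicOpen g).2 ⟨⟨Q, hQ.1.1⟩, hgQ⟩
      let z' : PrimeSpectrum (A ⊗[k] K) := z
      obtain ⟨Q₀, hQ₀, hQ₀le⟩ := Ideal.exists_minimalPrimes_le (bot_le : (⊥ : Ideal (A ⊗[k] K)) ≤ z'.asIdeal)
      have hQ₀Q : Q₀ = Q := by
        by_contra hne
        exact hz1 (hQ₀le ((Finset.inf_le (show Q₀ ∈ others from Finset.mem_erase.2 ⟨hne,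
          (Set.Finite.mem_toFinset _).2 hQ₀⟩) : others.inf id ≤ Q₀) hg))
      exact (hImem z').1 (hle.trans (hQ₀Q ▸ hQ₀le)) hz2
    obtain ⟨S, hS⟩ := exists_isTranscendenceBasis k K
    obtain ⟨G, hGI, m, hm⟩ := Groth.Agent.DensePts.exists_coeff k A K (Subtype.val : S → K) hS I hImin p hp
    let b : A := G.coeff m
    have hgood : Good (X.basicOpen (b : Γ(X, V))) := by
      intro kb Ω _ _ _ _ _ _ _ _ _ x hx hxO y hy1 hy2 t
      have hrange : Set.range x ⊆ Set.range hV.fromSpec := by
        rintro _ ⟨t', rfl⟩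
        rw [hV.range_fromSpec]
        exact X.basicOpen_le _ (hxO t')
      obtain ⟨χ, hχ⟩ : ∃ χ : Γ(X, V) ⟶ CommRingCat.of kb, Spec.map χ ≫ hV.fromSpec = x :=
        ⟨Spec.preimage (IsOpenImmersion.lift hV.fromSpec x hrange), by
          rw [Spec.map_preimage, IsOpenImmersion.lift_fac]⟩
      have hχk : φ ≫ χ = CommRingCat.ofHom (algebraMap k kb) := Spec.map_injective (by
        rw [Spec.map_comp, hφ, ← Category.assoc, hχ, hx])
      let χA : A →ₐ[k] kb := { χ.hom with commutes' := fun c => RingHom.congr_fun (congrArg CommRingCat.Hom.hom hχk) c }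
      let ω : A ⊗[k] K →ₐ[k] Ω := Algebra.TensorProduct.lift ((IsScalarTower.toAlgHom k kb Ω).comp χA)
        (IsScalarTower.toAlgHom k K Ω) fun _ _ => Commute.all _ _
      have hy : Spec.map (CommRingCat.ofHom ω.toRingHom) ≫ e = y := by
        apply pullback.hom_ext
        · rw [hy1, ← hχ, ← Category.assoc (Spec.map _) (Spec.map χ), ← Spec.map_comp]
          simp only [e, Category.assoc, pullback.lift_fst, pullbackSpecIso_inv_fst_assoc, ← Spec.map_comp_assoc]
          congr 2
          ext a
          show ω (a ⊗ₜ[k] 1) = algebraMap kb Ω (χ.hom a)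
          rw [Algebra.TensorProduct.lift_tmul, map_one, mul_one]
          rfl
        · rw [hy2]
          simp only [e, Category.assoc, pullback.lift_snd, Category.comp_id, pullbackSpecIso_inv_snd, ← Spec.map_comp]
          congr 1
          ext c
          show ω (1 ⊗ₜ[k] c) = algebraMap K Ω c
          rw [Algebra.TensorProduct.lift_tmul, map_one, one_mul]
          rfl
      have hω : ω (Groth.Agent.DensePts.polyMap k A K (Subtype.val : S → K) G) ≠ 0 := by
        have hind : AlgebraicIndependent kb fun i : S => algebraMap K Ω ((Subtype.val : S → K) i) := by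
          have h1 : AlgebraicIndependent k fun i : S => algebraMap K Ω ((Subtype.val : S → K) i) :=
            (hS.1.map' (f := IsScalarTower.toAlgHom k K Ω) (algebraMap K Ω).injective)
          haveI : Algebra.IsAlgebraic k kb := IsAlgClosure.isAlgebraic
          exact h1.extendScalars kb
        have heq : ω (Groth.Agent.DensePts.polyMap k A K (Subtype.val : S → K) G) =
            MvPolynomial.aeval (fun i : S => algebraMap K Ω ((Subtype.val : S → K) i)) (MvPolynomial.map χA.toRingHom G) := by
          rw [MvPolynomial.aeval_def, MvPolynomial.eval₂_map]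
          show (ω.toRingHom.comp (Groth.Agent.DensePts.polyMap k A K (Subtype.val : S → K)).toRingHom) G = _
          rw [← MvPolynomial.coe_eval₂Hom]
          congr 1
          refine MvPolynomial.ringHom_ext (fun a => ?_) fun i => ?_
          · simp [Groth.Agent.DensePts.polyMap, ω, χA]
          · simp [Groth.Agent.DensePts.polyMap, ω]
        rw [heq]
        intro h0
        have h2 : MvPolynomial.map χA.toRingHom G = 0 := hind (h0.trans (map_zero _).symm)
        have h3 : χA b = 0 := by
          have := congrArg (MvPolynomial.coeff m) h2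
          rwa [MvPolynomial.coeff_map, MvPolynomial.coeff_zero] at this
        have h4 := hxO (IsLocalRing.closedPoint kb)
        rw [← hχ] at h4
        have h5 : Spec.map χ (IsLocalRing.closedPoint kb) ∈ hV.fromSpec ⁻¹ᵁ X.basicOpen (b : Γ(X, V)) := h4
        rw [hV.fromSpec_preimage_basicOpen] at h5
        exact h5 (show χ.hom b ∈ IsLocalRing.maximalIdeal kb by
          rw [show χ.hom b = χA b from rfl, h3]; exact zero_mem _)
      rw [← hy]
      by_contra hnot
      refine (Spec.map (CommRingCat.ofHom ω.toRingHom) t).isPrime.ne_top ?_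
      refine Ideal.eq_top_iff_one _ |>.2 ?_
      have hmem := (hImem (Spec.map (CommRingCat.ofHom ω.toRingHom) t)).2 hnot hGI
      exact absurd (show ω (Groth.Agent.DensePts.polyMap k A K (Subtype.val : S → K) G) = 0 from
        (Submodule.mem_bot Ω).1 (by
          rw [← ((t : PrimeSpectrum Ω).asIdeal.eq_bot_or_top).resolve_right (t : PrimeSpectrum Ω).isPrime.ne_top]
          exact hmem)) hω
    have hbne : (hV.fromSpec ⟨p, hp.1.1⟩) ∈ X.basicOpen (b : Γ(X, V)) := by
      show (⟨p, hp.1.1⟩ : Spec Γ(X, V)) ∈ hV.fromSpec ⁻¹ᵁ X.basicOpen (b : Γ(X, V))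
      rw [hV.fromSpec_preimage_basicOpen]
      exact hm
    exact ⟨_, hVW (X.basicOpen_le _ hbne), TopologicalSpace.Opens.mem_iSup.2 ⟨⟨_, hgood⟩, hbne⟩⟩
  · intro kb Ω _ _ _ _ _ _ _ _ _ x hx hxU
    obtain ⟨⟨O, hO⟩, hxO⟩ := TopologicalSpace.Opens.mem_iSup.1 (hxU (IsLocalRing.closedPoint kb))
    exact hO kb Ω x hx fun t => by
      rwa [show t = IsLocalRing.closedPoint kb from Subsingleton.elim (α := PrimeSpectrum kb) _ _]

end Groth.Agent.S16363
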