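import Groth.Statements.S16366
import Groth.Agent.UnitSm.Alg
import Groth.Agent.UfdExtend.Local

set_option autoImplicit false
universe u
open CategoryTheory Limits Opposite
open MovLem

set_option backward.isDefEq.respectTransparency false
set_option backward.isDefEq.respectTransparency.types false

namespace Groth.Agent.S16366

open AlgebraicGeometry in
/-- Let k be an infinite field, X a scheme of finite type over k and u a global function on X such that
the open subscheme X_u where u is invertible is smooth over k. Let x be a point of X at which u is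
not invertible, and let x'_1, …, x'_n be finitely many points of X_u, each of which specializes to
x. Then there exist an open neighbourhood X' of x, a unit e among the functions on X', and the
k-morphism g : X' → A^1_k = Spec k[T] whose pulled-back coordinate T is e·u restricted to X', such
that g is smooth on some open neighbourhood of each x'_i. (Equivalently: after shrinking X around x,
the equation u of the principal divisor D = (u) is replaced by another equation e·u of the same
divisor that is smooth at the chosen points. The published statement takes D an effective Cartier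
divisor, i.e. u a non-zero-divisor; that is not assumed here, and the argument does not need it.) -/
theorem result
    {k : Type u} [Field k] [Infinite k]
    (X : Scheme.{u}) (f : X ⟶ Spec (CommRingCat.of k)) [LocallyOfFiniteType f] [QuasiCompact f]
    (u : Γ(X, ⊤)) [Smooth ((X.basicOpen u).ι ≫ f)]
    (x : ↥X) (hx : x ∉ X.basicOpen u)
    {ι : Type} [Finite ι] (x' : ι → ↥X) (hx' : ∀ i, x' i ∈ X.basicOpen u) (hgen : ∀ i, x' i ⤳ x) :
    ∃ (X' : X.Opens) (e : Γ(X, X')) (g : (↑X' : Scheme.{u}) ⟶ Spec (CommRingCat.of (Polynomial k))),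
      x ∈ X' ∧ IsUnit e ∧
      g ≫ Spec.map (CommRingCat.ofHom (Polynomial.C : k →+* Polynomial k)) = X'.ι ≫ f ∧
      X'.topIso.hom (g.appTop ((Scheme.ΓSpecIso (CommRingCat.of (Polynomial k))).inv Polynomial.X)) =
        e * X.presheaf.map (homOfLE le_top).op u ∧
      ∀ i, ∃ (W : X.Opens) (hW : W ≤ X'), x' i ∈ W ∧ Smooth (X.homOfLE hW ≫ g) := by
  classical
  obtain ⟨V, hV, hxV, -⟩ := exists_isAffineOpen_mem_and_subset (x := x) (U := (⊤ : X.Opens)) trivial
  haveI := hV.isOpenImmersion_fromSpec
  obtain ⟨φ, hφ⟩ : ∃ φ : CommRingCat.of k ⟶ Γ(X, V), Spec.map φ = hV.fromSpec ≫ f :=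
    ⟨Spec.preimage (hV.fromSpec ≫ f), Spec.map_preimage _⟩
  let A : Type u := Γ(X, V)
  letI : Algebra k A := φ.hom.toAlgebra
  haveI : Algebra.FiniteType k A := by
    have h : LocallyOfFiniteType (hV.fromSpec ≫ f) := inferInstance
    rw [← hφ, HasRingHomProperty.Spec_iff (P := @LocallyOfFiniteType)] at h
    exact h
  haveI : Algebra.FinitePresentation k A := Algebra.FinitePresentation.of_finiteType.1 inferInstance
  let uV : A := X.presheaf.map (homOfLE (le_top : V ≤ ⊤)).op u
  have hx'V : ∀ i, x' i ∈ V := fun i => (hgen i).mem_open V.2 hxV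
  let q : ι → Ideal A := fun i => (hV.primeIdealOf ⟨x' i, hx'V i⟩).asIdeal
  let p : Ideal A := (hV.primeIdealOf ⟨x, hxV⟩).asIdeal
  have hbu : X.basicOpen (uV : Γ(X, V)) = V ⊓ X.basicOpen u := Scheme.basicOpen_res X u (homOfLE le_top).op
  have huq : ∀ i, uV ∉ q i := fun i =>
    (Groth.Agent.UfdExtend.mem_basicOpen_iff hV (hx'V i) _).1 (hbu.ge ⟨hx'V i, hx' i⟩)
  have hnmax : ∀ i, ¬ (q i).IsMaximal := fun i hm => by
    have hle : (q i) ≤ p := by
      refine (PrimeSpectrum.le_iff_specializes (hV.primeIdealOf ⟨x' i, hx'V i⟩) (hV.primeIdealOf ⟨x, hxV⟩)).2 ?_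
      refine hV.fromSpec.isEmbedding.isInducing.specializes_iff.1 ?_
      rw [hV.fromSpec_primeIdealOf, hV.fromSpec_primeIdealOf]
      exact hgen i
    have heq := congrArg hV.fromSpec (PrimeSpectrum.ext (x := hV.primeIdealOf ⟨x' i, hx'V i⟩)
      (y := hV.primeIdealOf ⟨x, hxV⟩) (hm.eq_of_le (hV.primeIdealOf ⟨x, hxV⟩).isPrime.ne_top hle))
    rw [hV.fromSpec_primeIdealOf, hV.fromSpec_primeIdealOf] at heq
    exact hx (show x ∈ X.basicOpen u from (show x' i = x from heq) ▸ hx' i)
  haveI : ∀ i, (q i).IsPrime := fun i => (hV.primeIdealOf ⟨x' i, hx'V i⟩).isPrime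
  haveI : p.IsPrime := (hV.primeIdealOf ⟨x, hxV⟩).isPrime
  obtain ⟨e₀, he₀, hd⟩ := Groth.Agent.UnitSm.exists_multiplier (k := k) uV p q huq hnmax
  -- smoothness over `k` at the points
  let D := X.basicOpen (uV : Γ(X, V))
  have hDu : D ≤ X.basicOpen u := hbu.le.trans inf_le_right
  have hDsm : Algebra.Smooth k (Localization.Away uV) := by
    haveI : Smooth ((hV.basicOpen (uV : Γ(X, V))).fromSpec ≫ f) := by
      rw [show (hV.basicOpen (uV : Γ(X, V))).fromSpec =
        (hV.basicOpen (uV : Γ(X, V))).isoSpec.inv ≫ X.homOfLE hDu ≫ (X.basicOpen u).ι from by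
          rw [Scheme.homOfLE_ι]; rfl, Category.assoc, Category.assoc]
      infer_instance
    have h : Smooth ((hV.basicOpen (uV : Γ(X, V))).fromSpec ≫ f) := inferInstance
    rw [← hV.map_fromSpec (hV.basicOpen (uV : Γ(X, V))) (homOfLE (X.basicOpen_le _)).op, Category.assoc, ← hφ,
      ← Spec.map_comp, HasRingHomProperty.Spec_iff (P := @Smooth)] at h
    haveI := hV.isLocalization_basicOpen (uV : Γ(X, V))
    letI : Algebra k Γ(X, D) := (φ ≫ X.presheaf.map (homOfLE (X.basicOpen_le (uV : Γ(X, V)))).op).hom.toAlgebra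
    haveI : IsScalarTower k A Γ(X, D) := IsScalarTower.of_algebraMap_eq fun _ => rfl
    haveI : Algebra.Smooth k Γ(X, D) := h
    exact Algebra.Smooth.of_equiv ((IsLocalization.algEquiv (Submonoid.powers uV) Γ(X, D) (Localization.Away uV)).restrictScalars k)
  haveI : ∀ i, Algebra.IsSmoothAt k (q i) := fun i =>
    (Algebra.basicOpen_subset_smoothLocus_iff_smooth.2 hDsm) (show (hV.primeIdealOf ⟨x' i, hx'V i⟩) ∈ PrimeSpectrum.basicOpen uV from huq i)
  let h₀ : A := e₀ * uV
  letI : Algebra (Polynomial k) A := (Polynomial.aeval h₀).toRingHom.toAlgebra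
  haveI : IsScalarTower k (Polynomial k) A := IsScalarTower.of_algebraMap_eq fun c => ((Polynomial.aeval h₀).commutes c).symm
  haveI : Algebra.FiniteType (Polynomial k) A := Algebra.FiniteType.of_restrictScalars_finiteType k (Polynomial k) A
  haveI : Algebra.FinitePresentation (Polynomial k) A := Algebra.FinitePresentation.of_finiteType.1 inferInstance
  haveI : ∀ i, Algebra.IsSmoothAt (Polynomial k) (q i) := fun i =>
    Groth.Agent.UnitSm.isSmoothAt_of_dbar_ne_zero (q i) (by
      rw [show algebraMap (Polynomial k) A Polynomial.X = e₀ * uV from Polynomial.aeval_X _]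
      exact hd i)
  choose r hr hrsm using fun i => Algebra.IsSmoothAt.exists_notMem_smooth (Polynomial k) (q i)
  -- the open `X'`, the unit and the morphism
  let X' := X.basicOpen (e₀ : Γ(X, V))
  have hX'V : X' ≤ V := X.basicOpen_le _
  let ψ : CommRingCat.of (Polynomial k) ⟶ Γ(X, V) := CommRingCat.ofHom (algebraMap (Polynomial k) A)
  let g : (↑X' : Scheme.{u}) ⟶ Spec (CommRingCat.of (Polynomial k)) :=
    X'.toSpecΓ ≫ Spec.map (ψ ≫ X.presheaf.map (homOfLE hX'V).op)
  refine ⟨X', X.presheaf.map (homOfLE hX'V).op e₀, g, (Groth.Agent.UfdExtend.mem_basicOpen_iff hV hxV _).2 he₀,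
    RingedSpace.isUnit_res_basicOpen X.toLocallyRingedSpace.toRingedSpace (e₀ : Γ(X, V)), ?_, ?_, fun i => ?_⟩
  · have hψ : CommRingCat.ofHom (Polynomial.C : k →+* Polynomial k) ≫ ψ = φ := by
      ext c
      exact (Polynomial.aeval h₀).commutes c
    rw [show g = X'.toSpecΓ ≫ Spec.map (ψ ≫ X.presheaf.map (homOfLE hX'V).op) from rfl, Category.assoc,
      ← Spec.map_comp, ← Category.assoc _ ψ, hψ, Spec.map_comp, ← Category.assoc,
      Scheme.Opens.toSpecΓ_SpecMap_presheaf_map, Category.assoc, hφ, IsAffineOpen.toSpecΓ_fromSpec_assoc,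
      Scheme.homOfLE_ι_assoc]
  · rw [show g = X'.toSpecΓ ≫ Spec.map (ψ ≫ X.presheaf.map (homOfLE hX'V).op) from rfl, Scheme.Hom.comp_appTop,
      CommRingCat.comp_apply, Scheme.Opens.toSpecΓ_appTop]
    have hn := ConcreteCategory.congr_hom (Scheme.ΓSpecIso_inv_naturality (ψ ≫ X.presheaf.map (homOfLE hX'V).op)) Polynomial.X
    simp only [CommRingCat.hom_comp, RingHom.comp_apply] at hn ⊢
    erw [← hn]
    erw [Iso.inv_hom_id_apply, Iso.inv_hom_id_apply]
    rw [show (ψ.hom Polynomial.X : Γ(X, V)) = (e₀ * uV : A) from Polynomial.aeval_X _, map_mul]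
    congr 1
    exact (X.presheaf.map_comp_apply _ _ _).symm
  · let W := X.basicOpen ((r i * e₀ : A) : Γ(X, V))
    have hWX' : W ≤ X' := (Scheme.basicOpen_mul X _ _).le.trans inf_le_right
    refine ⟨W, hWX', (Groth.Agent.UfdExtend.mem_basicOpen_iff hV (hx'V i) _).2 fun hmem => ?_, ?_⟩
    · rcases (inferInstance : (q i).IsPrime).mem_or_mem hmem with h | h
      · exact hr i h
      · exact hd i (by
          have hle : (q i) ≤ p := by
            refine (PrimeSpectrum.le_iff_specializes (hV.primeIdealOf ⟨x' i, hx'V i⟩) (hV.primeIdealOf ⟨x, hxV⟩)).2 ?_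
            refine hV.fromSpec.isEmbedding.isInducing.specializes_iff.1 ?_
            rw [hV.fromSpec_primeIdealOf, hV.fromSpec_primeIdealOf]
            exact hgen i
          exact absurd (hle h) he₀)
    have hW : IsAffineOpen W := hV.basicOpen _
    have hsm : Algebra.Smooth (Polynomial k) (Localization.Away (r i * e₀)) :=
      Algebra.basicOpen_subset_smoothLocus_iff_smooth.1 
        (fun z hz => (Algebra.basicOpen_subset_smoothLocus_iff_smooth.2 (hrsm i)) (PrimeSpectrum.basicOpen_mul_le_left (r i) e₀ hz))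
    haveI := hV.isLocalization_basicOpen ((r i * e₀ : A) : Γ(X, V))
    letI : Algebra (Polynomial k) Γ(X, W) :=
      (ψ ≫ X.presheaf.map (homOfLE (X.basicOpen_le ((r i * e₀ : A) : Γ(X, V)))).op).hom.toAlgebra
    haveI : IsScalarTower (Polynomial k) A Γ(X, W) := IsScalarTower.of_algebraMap_eq fun _ => rfl
    haveI : Algebra.Smooth (Polynomial k) Γ(X, W) :=
      Algebra.Smooth.of_equiv ((IsLocalization.algEquiv (Submonoid.powers (r i * e₀)) (Localization.Away (r i * e₀)) Γ(X, W)).restrictScalars (Polynomial k))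
    haveI : Smooth (Spec.map (ψ ≫ X.presheaf.map (homOfLE (X.basicOpen_le ((r i * e₀ : A) : Γ(X, V)))).op)) := by
      rw [HasRingHomProperty.Spec_iff (P := @Smooth)]
      exact ‹Algebra.Smooth (Polynomial k) Γ(X, W)›
    haveI : IsIso W.toSpecΓ := hW.isoSpec_hom ▸ inferInstance
    rw [show X.homOfLE hWX' ≫ g = W.toSpecΓ ≫
        Spec.map (ψ ≫ X.presheaf.map (homOfLE (X.basicOpen_le ((r i * e₀ : A) : Γ(X, V)))).op) by
      rw [show g = X'.toSpecΓ ≫ Spec.map (ψ ≫ X.presheaf.map (homOfLE hX'V).op) from rfl, ← Category.assoc,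
        ← Scheme.Opens.toSpecΓ_SpecMap_presheaf_map, Category.assoc, ← Spec.map_comp, Category.assoc,
        ← Functor.map_comp]
      rfl]
    infer_instance

end Groth.Agent.S16366
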