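import Groth.Statements.S16367
import Mathlib

set_option autoImplicit false
universe u
open MovLem

set_option backward.isDefEq.respectTransparency false
namespace Groth.Agent.S16367


variable {k : Type u} [CommRing k] {d n : ℕ}

/-- One summand of the translated, homogenised polynomial. -/
noncomputable def term (w : MvPolynomial (Fin d ⊕ Fin n) k) (v : Fin d → k) (N : ℕ)
    (g : MvPolynomial (Fin d ⊕ Fin n) k) : Polynomial (MvPolynomial (Fin d ⊕ Fin n) k) :=
  ∑ m ∈ g.support, Polynomial.C (MvPolynomial.C (MvPolynomial.coeff m g)) * Polynomial.X ^ (N - ∑ i : Fin d, m (Sum.inl i)) *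
    (∏ i : Fin d, (Polynomial.X * Polynomial.C (MvPolynomial.X (Sum.inl i)) + Polynomial.C (w * MvPolynomial.C (v i))) ^ m (Sum.inl i)) *
    ∏ j : Fin n, Polynomial.C (MvPolynomial.X (Sum.inr j)) ^ m (Sum.inr j)

theorem dvd_prod_sub {A ι : Type*} [CommRing A] (w : A) (a b : ι → A) (S : Finset ι) (h : ∀ i ∈ S, w ∣ a i - b i) :
    w ∣ ∏ i ∈ S, a i - ∏ i ∈ S, b i := by
  classical
  induction S using Finset.induction with
  | empty => simp
  | insert x S hx ih =>
    rw [Finset.prod_insert hx, Finset.prod_insert hx,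
      show a x * ∏ i ∈ S, a i - b x * ∏ i ∈ S, b i = (a x - b x) * ∏ i ∈ S, a i + b x * (∏ i ∈ S, a i - ∏ i ∈ S, b i) by ring]
    exact dvd_add (dvd_mul_of_dvd_left (h x (Finset.mem_insert_self _ _)) _)
      (dvd_mul_of_dvd_right (ih fun i hi => h i (Finset.mem_insert_of_mem hi)) _)

theorem monomial_split (N : ℕ) (m : Fin d ⊕ Fin n →₀ ℕ) (hm : ∑ i : Fin d, m (Sum.inl i) ≤ N) (r : k) :
    Polynomial.X ^ N * Polynomial.C (MvPolynomial.monomial m r) =
      Polynomial.C (MvPolynomial.C r) * Polynomial.X ^ (N - ∑ i : Fin d, m (Sum.inl i)) *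
        (∏ i : Fin d, (Polynomial.X * Polynomial.C (MvPolynomial.X (Sum.inl i))) ^ m (Sum.inl i)) *
        ∏ j : Fin n, (Polynomial.C (MvPolynomial.X (Sum.inr j)) : Polynomial (MvPolynomial (Fin d ⊕ Fin n) k)) ^ m (Sum.inr j) := by
  rw [MvPolynomial.monomial_eq, Finsupp.prod_fintype _ _ (fun _ => pow_zero _), Fintype.prod_sum_type]
  simp only [map_mul, map_prod, map_pow, mul_pow, Finset.prod_mul_distrib, Finset.prod_pow_eq_pow_sum]
  rw [show (Polynomial.X : Polynomial (MvPolynomial (Fin d ⊕ Fin n) k)) ^ N =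
      Polynomial.X ^ (N - ∑ i : Fin d, m (Sum.inl i)) * Polynomial.X ^ (∑ i : Fin d, m (Sum.inl i)) by
    rw [← pow_add, Nat.sub_add_cancel hm]]
  ring

theorem congr_term (w : MvPolynomial (Fin d ⊕ Fin n) k) (v : Fin d → k) (N : ℕ) (g : MvPolynomial (Fin d ⊕ Fin n) k)
    (hdeg : ∀ m ∈ g.support, ∑ i : Fin d, m (Sum.inl i) ≤ N) :
    Polynomial.C w ∣ term w v N g - Polynomial.X ^ N * Polynomial.C g := by
  classical
  have e : Polynomial.X ^ N * Polynomial.C g = ∑ m ∈ g.support, Polynomial.X ^ N * Polynomial.C (MvPolynomial.monomial m (MvPolynomial.coeff m g)) := by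
    conv_lhs => rw [g.as_sum, map_sum, Finset.mul_sum]
  rw [e, term, ← Finset.sum_sub_distrib]
  refine Finset.dvd_sum fun m hm => ?_
  rw [monomial_split N m (hdeg m hm), ← sub_mul, ← mul_sub]
  refine dvd_mul_of_dvd_left (dvd_mul_of_dvd_right (dvd_prod_sub _ _ _ _ fun i _ => ?_) _) _
  refine dvd_trans ?_ (sub_dvd_pow_sub_pow _ _ _)
  rw [add_sub_cancel_left, Polynomial.C_mul]
  exact dvd_mul_right _ _

theorem main (v : Fin d → k) (N s : ℕ) (hs : N ≤ s) {Λ : Type u} [Fintype Λ] (f : Λ → MvPolynomial (Fin d ⊕ Fin n) k)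
    (hdeg : ∀ l, ∀ m ∈ (f l).support, ∑ i : Fin d, m (Sum.inl i) ≤ N) (c : ℕ → MvPolynomial (Fin d ⊕ Fin n) k)
    (U ζ : MvPolynomial (Fin d ⊕ Fin n) k)
    (hE : ζ ^ N + ∑ i ∈ Finset.Icc 1 N, c i * ζ ^ (N - i) * U ^ i ∈ Ideal.span (Set.range f)) :
    ∃ c' : ℕ → Polynomial (MvPolynomial (Fin d ⊕ Fin n) k), (Polynomial.X * Polynomial.C ζ) ^ N +
      ∑ i ∈ Finset.Icc 1 N, c' i * (Polynomial.X * Polynomial.C ζ) ^ (N - i) * Polynomial.C U ^ i ∈
        Ideal.span (Set.range fun l : Λ => term (U ^ s) v N (f l)) := by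
  classical
  obtain ⟨a, ha⟩ := Ideal.mem_span_range_iff_exists_fun.1 hE
  obtain ⟨R, hR⟩ : ∃ R : Polynomial (MvPolynomial (Fin d ⊕ Fin n) k),
      (∑ l, Polynomial.C (a l) * term (U ^ s) v N (f l)) =
        Polynomial.X ^ N * Polynomial.C (∑ l, a l * f l) + Polynomial.C U ^ N * R ∧ (N = 0 → R = 0) := by
    rcases Nat.eq_zero_or_pos N with hN | hN
    · refine ⟨0, ?_, fun _ => rfl⟩
      subst hN
      rw [mul_zero, add_zero, pow_zero, one_mul, map_sum]
      refine Finset.sum_congr rfl fun l _ => ?_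
      rw [Polynomial.C_mul]
      congr 1
      conv_rhs => rw [(f l).as_sum, map_sum]
      rw [term]
      refine Finset.sum_congr rfl fun m hm => ?_
      have h0 : ∀ i : Fin d, m (Sum.inl i) = 0 := fun i =>
        Nat.le_zero.1 ((Finset.single_le_sum (f := fun i : Fin d => m (Sum.inl i)) (fun _ _ => Nat.zero_le _) (Finset.mem_univ i)).trans (hdeg l m hm))
      rw [MvPolynomial.monomial_eq, Finsupp.prod_fintype _ _ (fun _ => pow_zero _), Fintype.prod_sum_type]
      simp [h0, map_prod]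
    · have h : ∀ l, ∃ R, term (U ^ s) v N (f l) = Polynomial.X ^ N * Polynomial.C (f l) + Polynomial.C U ^ N * R := fun l => by
        obtain ⟨R, hR⟩ := congr_term (U ^ s) v N (f l) (hdeg l)
        refine ⟨Polynomial.C U ^ (s - N) * R, ?_⟩
        rw [← mul_assoc, ← pow_add, Nat.add_sub_cancel' hs, eq_add_of_sub_eq hR, Polynomial.C_pow]
        ring
      choose R hR using h
      refine ⟨∑ l, Polynomial.C (a l) * R l, ?_, fun h => absurd h hN.ne'⟩
      rw [map_sum, Finset.mul_sum, Finset.mul_sum, ← Finset.sum_add_distrib]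
      refine Finset.sum_congr rfl fun l _ => ?_
      rw [hR, Polynomial.C_mul]
      ring
  refine ⟨fun i => Polynomial.C (c i) * Polynomial.X ^ i + if i = N then R else 0, ?_⟩
  have hmem : (∑ l, Polynomial.C (a l) * term (U ^ s) v N (f l)) ∈ Ideal.span (Set.range fun l : Λ => term (U ^ s) v N (f l)) :=
    Ideal.sum_mem _ fun l _ => Ideal.mul_mem_left _ _ (Ideal.subset_span ⟨l, rfl⟩)
  suffices e : _ = ∑ l, Polynomial.C (a l) * term (U ^ s) v N (f l) by
    rw [← e] at hmem
    exact hmem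
  have e0 : (Polynomial.X * Polynomial.C ζ) ^ N = Polynomial.X ^ N * Polynomial.C (ζ ^ N) := by
    rw [mul_pow, Polynomial.C_pow]
  have e1 : ∀ i ∈ Finset.Icc 1 N, Polynomial.C (c i) * Polynomial.X ^ i * (Polynomial.X * Polynomial.C ζ) ^ (N - i) * Polynomial.C U ^ i =
      Polynomial.X ^ N * Polynomial.C (c i * ζ ^ (N - i) * U ^ i) := by
    intro i hi
    obtain ⟨hi1, hi2⟩ := Finset.mem_Icc.1 hi
    rw [Polynomial.C_mul, Polynomial.C_mul, Polynomial.C_pow, Polynomial.C_pow, mul_pow,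
      show (Polynomial.X : Polynomial (MvPolynomial (Fin d ⊕ Fin n) k)) ^ N = Polynomial.X ^ i * Polynomial.X ^ (N - i) by
        rw [← pow_add, Nat.add_sub_cancel' hi2]]
    ring
  have e2 : ∑ i ∈ Finset.Icc 1 N, (if i = N then R else 0) * (Polynomial.X * Polynomial.C ζ) ^ (N - i) * Polynomial.C U ^ i =
      Polynomial.C U ^ N * R := by
    rcases Nat.eq_zero_or_pos N with hN | hN
    · rw [hR.2 hN, mul_zero]
      exact Finset.sum_eq_zero fun i hi => by simp
    · rw [Finset.sum_eq_single N]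
      · rw [if_pos rfl, Nat.sub_self, pow_zero, mul_one, mul_comm]
      · intro i _ hi
        rw [if_neg hi, zero_mul, zero_mul]
      · intro h
        exact absurd (Finset.mem_Icc.2 ⟨hN, le_rfl⟩) h
  have e3 : Polynomial.X ^ N * Polynomial.C (∑ l, a l * f l) = Polynomial.X ^ N * Polynomial.C (ζ ^ N) +
      ∑ i ∈ Finset.Icc 1 N, Polynomial.X ^ N * Polynomial.C (c i * ζ ^ (N - i) * U ^ i) := by
    rw [ha, Polynomial.C_add, mul_add, map_sum Polynomial.C, Finset.mul_sum]
  have e4 : ∀ i ∈ Finset.Icc 1 N, (Polynomial.C (c i) * Polynomial.X ^ i + if i = N then R else 0) *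
      (Polynomial.X * Polynomial.C ζ) ^ (N - i) * Polynomial.C U ^ i =
        Polynomial.X ^ N * Polynomial.C (c i * ζ ^ (N - i) * U ^ i) +
          (if i = N then R else 0) * (Polynomial.X * Polynomial.C ζ) ^ (N - i) * Polynomial.C U ^ i := fun i hi => by
    rw [add_mul, add_mul, e1 i hi]
  rw [Finset.sum_congr rfl e4, Finset.sum_add_distrib, e2, e0, ← add_assoc, ← e3]
  exact hR.1.symm

/-- The chart computation of its proof: let k be a commutative ring, P = k[x_1, …, x_d, w_1, …, w_n] a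
polynomial ring in two groups of variables, u a polynomial in the x-variables alone, v a vector in
k^d, J a set of indices among the w-variables with ζ = ∏_{j ∈ J} w_j, and N ≤ s natural numbers. Let
(f_λ) be a finite family of elements of P, each of total degree at most N in the x-variables, and
assume that ζ^N + c_1 ζ^(N-1) u + ⋯ + c_N u^N lies in the ideal generated by the f_λ for some c_1,
…, c_N ∈ P. For each λ let φ_λ ∈ P[τ] be the polynomial τ^N · f_λ(x + u^s v/τ, w), written out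
monomial by monomial: a monomial a·x^m·w^m' of x-degree e = |m| contributes a · τ^(N-e) · ∏_i (τ x_i
+ u^s v_i)^(m_i) · w^m'. Then there are c'_1, …, c'_N ∈ P[τ] with (τζ)^N + c'_1 (τζ)^(N-1) u + ⋯ +
c'_N u^N in the ideal of P[τ] generated by the φ_λ. (This identity is what shows that translating a
cycle by t·u^s·v preserves the modulus condition on the chart whose coordinates are the z_i and the
1/z_j, with τ = 1/t; integrality of ζ/u, resp. τζ/u, is expressed by such monic binary forms.) -/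
theorem result
    {k : Type u} [CommRing k] (d n : ℕ) (u : MvPolynomial (Fin d) k) (v : Fin d → k)
    (J : Finset (Fin n)) (N s : ℕ) (hs : N ≤ s)
    {Λ : Type u} [Fintype Λ] (f : Λ → MvPolynomial (Fin d ⊕ Fin n) k)
    (hdeg : ∀ l, ∀ m ∈ (f l).support, ∑ i : Fin d, m (Sum.inl i) ≤ N)
    (c : ℕ → MvPolynomial (Fin d ⊕ Fin n) k)
    (hE : (∏ j ∈ J, MvPolynomial.X (Sum.inr j)) ^ N +
        ∑ i ∈ Finset.Icc 1 N, c i * (∏ j ∈ J, MvPolynomial.X (Sum.inr j)) ^ (N - i) *
          MvPolynomial.rename Sum.inl u ^ i ∈ Ideal.span (Set.range f)) :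
    ∃ c' : ℕ → Polynomial (MvPolynomial (Fin d ⊕ Fin n) k),
      (Polynomial.X * Polynomial.C (∏ j ∈ J, MvPolynomial.X (Sum.inr j))) ^ N +
        ∑ i ∈ Finset.Icc 1 N, c' i *
          (Polynomial.X * Polynomial.C (∏ j ∈ J, MvPolynomial.X (Sum.inr j))) ^ (N - i) *
            Polynomial.C (MvPolynomial.rename Sum.inl u) ^ i ∈
      Ideal.span (Set.range fun l : Λ =>
        ∑ m ∈ (f l).support,
          Polynomial.C (MvPolynomial.C (MvPolynomial.coeff m (f l))) *
            Polynomial.X ^ (N - ∑ i : Fin d, m (Sum.inl i)) *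
            (∏ i : Fin d, (Polynomial.X * Polynomial.C (MvPolynomial.X (Sum.inl i)) +
                Polynomial.C (MvPolynomial.rename Sum.inl u ^ s * MvPolynomial.C (v i))) ^ m (Sum.inl i)) *
            ∏ j : Fin n, Polynomial.C (MvPolynomial.X (Sum.inr j)) ^ m (Sum.inr j)) := by
  exact main v N s hs f hdeg c _ _ hE

end Groth.Agent.S16367
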