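import Groth.Statements.S16369
import Groth.Agent.CohFinite.Proper
import Groth.Agent.RefStalk.Refl

set_option autoImplicit false
set_option backward.isDefEq.respectTransparency false
set_option backward.isDefEq.respectTransparency.types false
universe u
open CategoryTheory AlgebraicGeometry Opposite
open FrobSch

namespace Groth.Agent.S16369

/-- (i) ⇒ (ii): let k be a perfect field of characteristic p and X a scheme proper over k. Let φ be the
p-th power map on the sheaf of additive groups underlying O_X and B its cokernel in abelian sheaves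
(for X smooth over k this is the sheaf B¹ of locally exact one-forms, pushed down along Frobenius).
If X is Frobenius split — φ admits a retraction s, an additive endomorphism of O_X with s(t^p) = t
and s(a^p·b) = a·s(b) on every open — then H^i(X, B) = 0 for every i. (The source states this for X
normal; normality is not used for this implication, and a split X is reduced anyway.) -/
theorem result
    (p : ℕ) [Fact p.Prime] (k : Type u) [Field k] [CharP k p] [PerfectField k]
    (X : Scheme.{u}) [X.Over (Spec (CommRingCat.of k))] [IsProper (X ↘ Spec (CommRingCat.of k))]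
    (φ : Coh.toAb (Coh.structureModule X) ⟶ Coh.toAb (Coh.structureModule X))
    (hφ : ∀ (U : X.Opens) (t : Γ(X, U)), φ.hom.app (op U) t = t ^ p)
    (s : Coh.toAb (Coh.structureModule X) ⟶ Coh.toAb (Coh.structureModule X))
    (hs : φ ≫ s = 𝟙 _)
    (hlin : ∀ (U : X.Opens) (a b : Γ(X, U)),
      s.hom.app (op U) (a ^ p * b) = a * @id Γ(X, U) (s.hom.app (op U) b))
    (i : ℕ) : Subsingleton (Sheaf.H (Limits.cokernel φ) i) := by
  haveI := LocallyOfFiniteType.isLocallyNoetherian (X ↘ Spec (CommRingCat.of k))
  haveI : Module.Finite k (Coh.HH X (Coh.structureModule X) i) :=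
    Groth.Agent.CohFinite.finite_proper k X _ Groth.Agent.RefStalk.isCoh_structureModule i
  haveI : PerfectRing k p := PerfectField.toPerfectRing p
  let O := Coh.structureModule X
  let T : Coh.HH X O i →+ Coh.HH X O i := Sheaf.H.map φ i
  let S : Coh.HH X O i →+ Coh.HH X O i := Sheaf.H.map s i
  have hST : ∀ x, S (T x) = x := fun x => by
    change Sheaf.H.map s i (Sheaf.H.map φ i x) = x
    rw [← Sheaf.H.map_comp_apply, hs, Sheaf.H.map_id_apply]
  have hsemi : ∀ (c : k) (v : Coh.HH X O i), T (c • v) = c ^ p • T v := by
    intro c v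
    have hsq : Coh.smulAb O (Coh.toGlobal (X ↘ Spec (CommRingCat.of k)) c) ≫ φ =
        φ ≫ Coh.smulAb O (Coh.toGlobal (X ↘ Spec (CommRingCat.of k)) (c ^ p)) := by
      ext U t
      induction U using Opposite.rec with
      | op U =>
        let Φ : Γ(X, U) → Γ(X, U) := fun t => φ.hom.app (op U) t
        have key : ∀ r t : Γ(X, U), Φ (r * t) = r ^ p * Φ t :=
          fun r t => (hφ U (r * t)).trans ((mul_pow r t p).trans (congrArg (r ^ p * ·) (hφ U t).symm))
        let r : Γ(X, U) := Coh.resTop X (op U) (Coh.toGlobal (X ↘ Spec (CommRingCat.of k)) c)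
        have e : (Coh.resTop X (op U) (Coh.toGlobal (X ↘ Spec (CommRingCat.of k)) (c ^ p)) : Γ(X, U)) = r ^ p := by
          exact (congrArg (Coh.resTop X (op U)) (map_pow (Coh.toGlobal (X ↘ Spec (CommRingCat.of k))) c p)).trans (map_pow _ _ p)
        exact (key r t).trans (congrArg (· * Φ t) e.symm)
    change Sheaf.H.map φ i (Sheaf.H.map _ i v) = Sheaf.H.map _ i (Sheaf.H.map φ i v)
    rw [← Sheaf.H.map_comp_apply, ← Sheaf.H.map_comp_apply]
    exact congrArg (fun f => Sheaf.H.map f i v) hsq
  have hTsurj : Function.Surjective T := by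
    let b := Module.finBasis k (Coh.HH X O i)
    have hli : LinearIndependent k (fun j => T (b j)) := by
      rw [Fintype.linearIndependent_iff]
      intro g hg j
      choose d hd₀ using fun j => (PerfectRing.bijective_frobenius (R := k) (p := p)).2 (g j)
      have hd : ∀ j, d j ^ p = g j := hd₀
      have h1 : T (∑ j, d j • b j) = 0 := by
        rw [map_sum, ← hg]
        exact Finset.sum_congr rfl fun j _ => by rw [hsemi, hd]
      have h2 : ∑ j, d j • b j = 0 := by rw [← hST (∑ j, d j • b j), h1, map_zero]
      rw [← hd j, Fintype.linearIndependent_iff.1 b.linearIndependent d h2 j, zero_pow (Fact.out : p.Prime).ne_zero]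
    intro y
    have hspan := hli.span_eq_top_of_card_eq_finrank' (by rw [Fintype.card_fin])
    have hy : y ∈ Submodule.span k (Set.range fun j => T (b j)) := by rw [hspan]; exact Submodule.mem_top
    obtain ⟨g, rfl⟩ := Submodule.mem_span_range_iff_exists_fun k |>.1 hy
    choose d hd₀ using fun j => (PerfectRing.bijective_frobenius (R := k) (p := p)).2 (g j)
    have hd : ∀ j, d j ^ p = g j := hd₀
    exact ⟨∑ j, d j • b j, by rw [map_sum]; exact Finset.sum_congr rfl fun j _ => by rw [hsemi, hd]⟩
  let q := Limits.cokernel.π φ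
  let σ := Limits.cokernel.desc φ (𝟙 _ - s ≫ φ) (by rw [Preadditive.comp_sub, reassoc_of% hs, Category.comp_id, sub_self])
  have hσ : σ ≫ q = 𝟙 _ := by
    rw [← cancel_epi q, Limits.cokernel.π_desc_assoc, Preadditive.sub_comp, Category.assoc,
      Limits.cokernel.condition, Limits.comp_zero, sub_zero, Category.id_comp, Category.comp_id]
  refine ⟨fun a b => ?_⟩
  have hzero : ∀ z : Sheaf.H (Limits.cokernel φ) i, z = 0 := by
    intro z
    rw [← Sheaf.H.map_id_apply (x := z), ← hσ, Sheaf.H.map_comp_apply]
    obtain ⟨w, hw⟩ := hTsurj (Sheaf.H.map σ i z)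
    rw [← hw]
    change Sheaf.H.map q i (Sheaf.H.map φ i w) = 0
    rw [← Sheaf.H.map_comp_apply, Limits.cokernel.condition]
    exact DFunLike.congr_fun (congrArg AddCommGrpCat.Hom.hom (Functor.map_zero (Sheaf.functorH _ i) _ _)) w
  rw [hzero a, hzero b]

end Groth.Agent.S16369
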