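import Groth.Statements.S1637
import Groth.Agent.NodeFib.NormalChart
import Groth.Agent.NodeFib.NodePushout
-- import your own Groth.Agent.* helpers here

set_option autoImplicit false
set_option backward.isDefEq.respectTransparency false
set_option backward.isDefEq.respectTransparency.types false
set_option maxHeartbeats 1000000
universe u
open CategoryTheory CategoryTheory.Limits AlgebraicGeometry
open Curves

namespace Groth.Agent.S1637

/-- Let f : X → S be at-worst-nodal of relative dimension one and x a point of X which is a node of its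
fibre. Then there are étale morphisms U → X and V → S, a morphism U → V compatible with f, a
morphism V → Spec ℤ[a], and an étale morphism U → W over V where W → V is the base change of Spec
ℤ[u, v, a]/(uv - a) → Spec ℤ[a] along V → Spec ℤ[a], such that x is in the image of U. -/
theorem result {X S : Scheme.{u}} (f : X ⟶ S) (hf : Curv2.IsNodalFamily f)
    (x : X) (hx : @Curv2.IsNode (S.residueField (f.base x)) _ (f.fiber (f.base x)) ⟨f.fiberToSpecResidueField (f.base x)⟩ (f.asFiber x)) :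
    ∃ (U V W : Scheme.{u}) (gU : U ⟶ X) (gV : V ⟶ S) (p : U ⟶ V) (e : U ⟶ W) (q : W ⟶ V)
      (h : V ⟶ Spec (CommRingCat.of (MvPolynomial (Fin 1) (ULift.{u} ℤ)))) (r : W ⟶ Spec (CommRingCat.of (MvPolynomial (Fin 3) (ULift.{u} ℤ) ⧸ Ideal.span {(MvPolynomial.X 0 * MvPolynomial.X 1 - MvPolynomial.X 2 : MvPolynomial (Fin 3) (ULift.{u} ℤ))}))),
      Etale gU ∧ Etale gV ∧ Etale e ∧ gU ≫ f = p ≫ gV ∧ e ≫ q = p ∧
      IsPullback r q (Spec.map (CommRingCat.ofHom ((Ideal.Quotient.mk _).comp (MvPolynomial.aeval (fun _ : Fin 1 => (MvPolynomial.X 2 : MvPolynomial (Fin 3) (ULift.{u} ℤ)))).toRingHom))) h ∧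
      x ∈ Set.range gU.base := by
  obtain ⟨hflat, hlfp, hgood⟩ := (NodeFib.isNodalFamily_iff f).1 hf
  haveI := hflat
  haveI := hlfp
  obtain ⟨_, ⟨U₀, hU, rfl⟩, hxU, -⟩ :=
    S.isBasis_affineOpens.exists_subset_of_mem_open (Set.mem_univ (f x)) isOpen_univ
  obtain ⟨V₀, hV, hxV, hVU⟩ := exists_isAffineOpen_mem_and_subset (show x ∈ f ⁻¹ᵁ U₀ from hxU)
  algebraize [(f.appLE U₀ V₀ hVU).hom]
  haveI : Algebra.FinitePresentation Γ(S, U₀) Γ(X, V₀) := f.finitePresentation_appLE hU hV hVU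
  haveI : Module.Flat Γ(S, U₀) Γ(X, V₀) := f.flat_appLE hU hV hVU
  have he : NodeFib.relMor Γ(S, U₀) Γ(X, V₀) ≫ hU.fromSpec = hV.fromSpec ≫ f :=
    IsAffineOpen.SpecMap_appLE_fromSpec f hU hV hVU
  obtain ⟨z, hz⟩ : x ∈ Set.range hV.fromSpec := hV.range_fromSpec.ge hxV
  have hg : NodeFib.Good (NodeFib.relMor Γ(S, U₀) Γ(X, V₀)) z := by
    rw [← NodeFib.good_comp_etale (NodeFib.relMor Γ(S, U₀) Γ(X, V₀)) hU.fromSpec z]
    simp only [he]
    exact (NodeFib.good_etale_comp hV.fromSpec f z).2 (hgood _)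
  have hn : NodeFib.Node (NodeFib.relMor Γ(S, U₀) Γ(X, V₀)) z := by
    rw [← NodeFib.node_comp_etale (NodeFib.relMor Γ(S, U₀) Γ(X, V₀)) hU.fromSpec z]
    simp only [he]
    refine (NodeFib.node_etale_comp hV.fromSpec f z).2 ?_
    rw [hz]
    exact hx
  obtain ⟨C, _, _, _, t, E, _, _, ψ, φ, hψ, hφ, p, hp⟩ :=
    NodeFib.exists_normal_chart (R := Γ(S, U₀)) (A := Γ(X, V₀)) z hg hn
  let W0 := Spec (CommRingCat.of (StrictSS.NodeAlg C t))
  let gU : Spec (CommRingCat.of E) ⟶ X :=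
    Spec.map (CommRingCat.ofHom (S := E) ψ.toRingHom) ≫ hV.fromSpec
  let gV : Spec (CommRingCat.of C) ⟶ S :=
    Spec.map (CommRingCat.ofHom (algebraMap Γ(S, U₀) C)) ≫ hU.fromSpec
  let e : Spec (CommRingCat.of E) ⟶ W0 := Spec.map (CommRingCat.ofHom φ.toRingHom)
  haveI : Etale (Spec.map (CommRingCat.ofHom (S := E) ψ.toRingHom)) :=
    (HasRingHomProperty.Spec_iff (P := @Etale)).mpr hψ
  haveI : Etale e := (HasRingHomProperty.Spec_iff (P := @Etale)).mpr hφ
  haveI : Etale (Spec.map (CommRingCat.ofHom (algebraMap Γ(S, U₀) C))) :=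
    (HasRingHomProperty.Spec_iff (P := @Etale)).mpr (RingHom.etale_algebraMap.2 inferInstance)
  refine ⟨Spec (CommRingCat.of E), Spec (CommRingCat.of C), W0, gU, gV, e ≫ StrictSS.nodeToBase C t, e,
    StrictSS.nodeToBase C t, Spec.map (CommRingCat.ofHom (NodeFib.toParam t)),
    Spec.map (CommRingCat.ofHom (R := NodeFib.UnivNode.{u}) (S := StrictSS.NodeAlg C t) (NodeFib.nodeMap t)),
    inferInstance, inferInstance, inferInstance, ?_, rfl, ?_, ⟨p, ?_⟩⟩
  · simp only [gU, gV, e, Category.assoc, ← he]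
    rw [← Spec.map_comp_assoc, ← Spec.map_comp_assoc, ← Spec.map_comp_assoc, ← CommRingCat.ofHom_comp,
      ← CommRingCat.ofHom_comp, ← CommRingCat.ofHom_comp]
    congr 3
    refine RingHom.ext fun r => ?_
    exact (ψ.commutes r).trans (φ.commutes r).symm
  · exact isPullback_SpecMap_of_isPushout _ _ _ _ (NodeFib.isPushout_node t)
  · rw [Scheme.Hom.comp_apply]
    rw [← hz]
    exact congrArg hV.fromSpec hp

end Groth.Agent.S1637
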