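import Groth.Statements.S16373
import Groth.Agent.QuasiFSplit.Basic
import Mathlib

set_option autoImplicit false
universe u
open FrobAlg

namespace Groth.Agent.S16373

/-- Let p be a prime, m ≥ 1, R a commutative ring with p = 0 in R and σ : W_m(R) → R a quasi-F-splitting
of level m (additive, σ(1) = 1, σ(F(x)·y) = x₀·σ(y) with F the componentwise p-th power). Let I ⊆
W_{m+1}(R) be the ideal generated by the shifts V(x) of the x with σ(x) = 0, and Q = W_{m+1}(R)/I.
Then Q is a flat lifting of R modulo p²: an element of Q lies in pQ exactly when the first Witt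
component of a representative vanishes (so Q/pQ is R through the first component), and an element of
Q is killed by p exactly when it lies in pQ. (Stated for a ring; the source has a scheme over the
prime field. For m = 1 this is the lifting attached to a Frobenius splitting.) -/
theorem result
    (p : ℕ) [Fact p.Prime] (m : ℕ) (hm : 0 < m) (R : Type u) [CommRing R] (hp : (p : R) = 0)
    (σ : TruncatedWittVector p m R →+ R) (h1 : σ 1 = 1)
    (hF : ∀ x y : TruncatedWittVector p m R, σ (WittGrp.frob p m hp x * y) = x.coeff ⟨0, hm⟩ * σ y)
    (I : Ideal (TruncatedWittVector p (m + 1) R))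
    (hI : I = Ideal.span (WittGrp.shift p (Nat.le_succ m) '' {x : TruncatedWittVector p m R | σ x = 0})) :
    (∀ w : TruncatedWittVector p (m + 1) R,
        Ideal.Quotient.mk I w ∈ Ideal.span ({(p : TruncatedWittVector p (m + 1) R ⧸ I)} : Set _) ↔
          w.coeff 0 = 0) ∧
    (∀ q : TruncatedWittVector p (m + 1) R ⧸ I,
        (p : TruncatedWittVector p (m + 1) R ⧸ I) * q = 0 ↔
          q ∈ Ideal.span ({(p : TruncatedWittVector p (m + 1) R ⧸ I)} : Set _)) := by
  rcases subsingleton_or_nontrivial R with hR | hR
  · haveI : Subsingleton (TruncatedWittVector p (m + 1) R) := ⟨fun a b => TruncatedWittVector.ext fun i => Subsingleton.elim _ _⟩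
    haveI : Subsingleton (TruncatedWittVector p (m + 1) R ⧸ I) := Function.Surjective.subsingleton Ideal.Quotient.mk_surjective
    refine ⟨fun w => iff_of_true ?_ (Subsingleton.elim _ _), fun q => iff_of_true (Subsingleton.elim _ _) ?_⟩
    · rw [Subsingleton.elim (Ideal.Quotient.mk I w) 0]; exact zero_mem _
    · rw [Subsingleton.elim q 0]; exact zero_mem _
  · haveI : CharP R p := (CharP.charP_iff_prime_eq_zero Fact.out).mpr hp
    exact Groth.Agent.QuasiFSplit.flatLift p hp hm σ h1 hF I hI

end Groth.Agent.S16373
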