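import Groth.Statements.S1638
import Mathlib

set_option autoImplicit false
universe u
open Brauer

open scoped TensorProduct

namespace Groth.Agent.S1638

/-- Let A and A' be algebras over a field k with subalgebras B ⊆ A and B' ⊆ A' having centralizers C and
C'. Then the centralizer of the image of B ⊗ B' in A ⊗_k A' is the image of C ⊗_k C'. -/
theorem result (k : Type u) [Field k] (A A' : Type u) [Ring A] [Ring A'] [Algebra k A] [Algebra k A']
    (B : Subalgebra k A) (B' : Subalgebra k A') :
    Subalgebra.centralizer k ((Algebra.TensorProduct.map B.val B'.val).range : Set (TensorProduct k A A')) =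
      (Algebra.TensorProduct.map (Subalgebra.centralizer k (B : Set A)).val (Subalgebra.centralizer k (B' : Set A')).val).range := by
  classical
  refine le_antisymm (fun x hx => ?_) ?_
  · rw [Subalgebra.mem_centralizer_iff] at hx
    let C := Subalgebra.centralizer k (B : Set A)
    let C' := Subalgebra.centralizer k (B' : Set A')
    -- coefficients along a basis of `A'` lie in `C`
    let e := Module.Basis.ofVectorSpace k A'
    obtain ⟨f, rfl⟩ := (TensorProduct.equivFinsuppOfBasisRight e (M := A)).symm.surjective x
    have hf : ∀ i, f i ∈ C := by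
      intro i
      rw [Subalgebra.mem_centralizer_iff]
      intro b hb
      have h := hx (b ⊗ₜ[k] (1 : A')) ⟨(⟨b, hb⟩ : B) ⊗ₜ[k] (1 : B'), by simp⟩
      rw [TensorProduct.equivFinsuppOfBasisRight_symm_apply, Finsupp.sum, Finset.mul_sum,
        Finset.sum_mul] at h
      have h' := congrArg (fun z => TensorProduct.equivFinsuppOfBasisRight e z i) h
      simp only [Algebra.TensorProduct.tmul_mul_tmul, one_mul, mul_one, map_sum] at h'
      by_cases hz0 : f i = 0
      · simp [hz0]
      · simpa [Finsupp.single_apply, eq_comm, hz0, Ne.symm hz0] using h'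
    obtain ⟨z, hz⟩ : ∃ z : C ⊗[k] A', TensorProduct.map C.val.toLinearMap LinearMap.id z =
        (TensorProduct.equivFinsuppOfBasisRight e (M := A)).symm f := by
      refine ⟨∑ i ∈ f.support, (⟨f i, hf i⟩ : C) ⊗ₜ[k] e i, ?_⟩
      rw [TensorProduct.equivFinsuppOfBasisRight_symm_apply, Finsupp.sum, map_sum]
      rfl
    rw [← hz] at hx ⊢
    clear hz hf f e
    -- coefficients along a basis of `C` lie in `C'`
    have hinj : Function.Injective (TensorProduct.map C.val.toLinearMap (LinearMap.id : A' →ₗ[k] A')) :=
      Module.Flat.rTensor_preserves_injective_linearMap (M := A') C.val.toLinearMap Subtype.val_injective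
    let c := Module.Basis.ofVectorSpace k C
    obtain ⟨g, rfl⟩ := (TensorProduct.equivFinsuppOfBasisLeft c (N := A')).symm.surjective z
    have hg : ∀ i, g i ∈ C' := by
      intro i
      rw [Subalgebra.mem_centralizer_iff]
      intro b hb
      have h := hx ((1 : A) ⊗ₜ[k] b) ⟨(1 : B) ⊗ₜ[k] (⟨b, hb⟩ : B'), by simp⟩
      have h2 : ((1 : C) ⊗ₜ[k] b) * (TensorProduct.equivFinsuppOfBasisLeft c).symm g =
          (TensorProduct.equivFinsuppOfBasisLeft c).symm g * ((1 : C) ⊗ₜ[k] b) := by
        apply hinj
        change Algebra.TensorProduct.map C.val (AlgHom.id k A') _ =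
          Algebra.TensorProduct.map C.val (AlgHom.id k A') _
        rw [map_mul, map_mul, Algebra.TensorProduct.map_tmul, map_one]
        exact h
      rw [TensorProduct.equivFinsuppOfBasisLeft_symm_apply, Finsupp.sum, Finset.mul_sum,
        Finset.sum_mul] at h2
      have h' := congrArg (fun z => TensorProduct.equivFinsuppOfBasisLeft c z i) h2
      simp only [Algebra.TensorProduct.tmul_mul_tmul, one_mul, mul_one, map_sum] at h'
      by_cases hz0 : g i = 0
      · simp [hz0]
      · simpa [Finsupp.single_apply, eq_comm, hz0, Ne.symm hz0] using h'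
    refine ⟨∑ i ∈ g.support, c i ⊗ₜ[k] (⟨g i, hg i⟩ : C'), ?_⟩
    rw [TensorProduct.equivFinsuppOfBasisLeft_symm_apply, Finsupp.sum, map_sum]
    rw [map_sum]
    exact Finset.sum_congr rfl fun _ _ => rfl
  · rintro _ ⟨z, rfl⟩
    rw [Subalgebra.mem_centralizer_iff]
    rintro _ ⟨w, rfl⟩
    induction z using TensorProduct.induction_on with
    | zero => simp
    | tmul p q =>
      induction w using TensorProduct.induction_on with
      | zero => simp
      | tmul b b' =>
        show ((b : A) ⊗ₜ[k] (b' : A')) * ((p : A) ⊗ₜ[k] (q : A')) =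
          ((p : A) ⊗ₜ[k] (q : A')) * ((b : A) ⊗ₜ[k] (b' : A'))
        rw [Algebra.TensorProduct.tmul_mul_tmul, Algebra.TensorProduct.tmul_mul_tmul,
          (Subalgebra.mem_centralizer_iff k).1 p.2 b b.2, (Subalgebra.mem_centralizer_iff k).1 q.2 b' b'.2]
      | add u v hu hv => rw [map_add, add_mul, mul_add, hu, hv]
    | add u v hu hv => rw [map_add, add_mul, mul_add, hu, hv]

end Groth.Agent.S1638
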