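import Groth.Statements.S16388
import Groth.Agent.AVTate.GaloisIsog

set_option autoImplicit false
universe u
open CategoryTheory MonoidalCategory CartesianMonoidalCategory MonObj GrpObj AlgebraicGeometry
open AbVar

namespace Groth.Agent.S16388

/-- For a single prime l different from the characteristic; let k be a finite field with algebraic
closure Ω, l a prime number invertible in k, and A, B abelian varieties over k (proper,
geometrically integral commutative group schemes over k). For each k-automorphism τ of Ω let ρ_A(τ),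
ρ_B(τ) be the ℤ_l-linear endomorphisms of the l-adic Tate modules of Ω-points T_l A, T_l B which act
on every component by the Galois action of τ (this pins them). Then T_l A and T_l B are isomorphic
as Galois modules — there is a ℤ_l-linear isomorphism e with e ∘ ρ_A(τ) = ρ_B(τ) ∘ e for all τ — if
and only if there is an isogeny A → B of degree prime to l, expressed here as: homomorphisms f : A →
B and g : B → A and an integer N ≥ 1 not divisible by l such that g ∘ f is multiplication by N on A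
and f ∘ g is multiplication by N on B. -/
theorem result (k Ω : Type u)
    [Field k] [Finite k] [Field Ω] [Algebra k Ω] [IsAlgClosure k Ω] (l : ℕ) [Fact l.Prime] (hl : (l : k) ≠ 0)
    (A B : Over (Spec (CommRingCat.of k))) [GrpObj A] [IsCommMonObj A] [IsProper A.hom] [GeometricallyIntegral A.hom]
    [GrpObj B] [IsCommMonObj B] [IsProper B.hom] [GeometricallyIntegral B.hom]
    (ρA : (Ω ≃ₐ[k] Ω) → Module.End ℤ_[l] (AbDual.TateMod A l (SGA7.pt Ω)))
    (hρA : ∀ (τ : Ω ≃ₐ[k] Ω) (z : AbDual.TateMod A l (SGA7.pt Ω)) (m : ℕ),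
      (AbDual.TateMod.component A l (SGA7.pt Ω) m (ρA τ z)).toMul =
        SGA7.galAct τ (AbDual.TateMod.component A l (SGA7.pt Ω) m z).toMul)
    (ρB : (Ω ≃ₐ[k] Ω) → Module.End ℤ_[l] (AbDual.TateMod B l (SGA7.pt Ω)))
    (hρB : ∀ (τ : Ω ≃ₐ[k] Ω) (z : AbDual.TateMod B l (SGA7.pt Ω)) (m : ℕ),
      (AbDual.TateMod.component B l (SGA7.pt Ω) m (ρB τ z)).toMul =
        SGA7.galAct τ (AbDual.TateMod.component B l (SGA7.pt Ω) m z).toMul) :
    (∃ e : AbDual.TateMod A l (SGA7.pt Ω) ≃ₗ[ℤ_[l]] AbDual.TateMod B l (SGA7.pt Ω),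
        ∀ τ : Ω ≃ₐ[k] Ω, e.toLinearMap ∘ₗ ρA τ = ρB τ ∘ₗ e.toLinearMap) ↔
      ∃ (f : A ⟶ B) (_ : IsMonHom f) (g : B ⟶ A) (_ : IsMonHom g) (N : ℕ), 0 < N ∧ ¬ l ∣ N ∧
        f ≫ g = (𝟙 A) ^ N ∧ g ≫ f = (𝟙 B) ^ N := by
  haveI : IsAlgClosed Ω := IsAlgClosure.isAlgClosed k
  obtain ⟨hfA, hrA⟩ := Groth.Agent.AVTate.tate_finite_free (X := A) Ω (l := l) hl
  obtain ⟨hfB, hrB⟩ := Groth.Agent.AVTate.tate_finite_free (X := B) Ω (l := l) hl
  haveI := hfA
  haveI := hrA
  haveI := hfB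
  haveI := hrB
  constructor
  · rintro ⟨e, he⟩
    obtain ⟨σ, -, hσ⟩ := Groth.Agent.AVTheta.exists_frobAut (k := k) (Ω := Ω)
    obtain ⟨p, hp⟩ := CharP.exists k
    haveI := Fintype.ofFinite k
    obtain ⟨n, hpr, hcard⟩ := FiniteField.card k p
    haveI := Fact.mk hpr
    have hq : Nat.card k = p ^ (n : ℕ) := by rw [Nat.card_eq_fintype_card]; exact hcard
    haveI : IsMonHom (Groth.Agent.AVDeg.frobOver p (n : ℕ) hq A) := Groth.Agent.AVDeg.isMonHom_frobOver hq
    haveI : IsMonHom (Groth.Agent.AVDeg.frobOver p (n : ℕ) hq B) := Groth.Agent.AVDeg.isMonHom_frobOver hq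
    have eA : ρA σ = AbDual.tateMapₗ (Groth.Agent.AVDeg.frobOver p (n : ℕ) hq A) :=
      LinearMap.ext fun z => AbDual.TateMod.ext fun m => Additive.toMul.injective ((hρA σ z m).trans
        (hσ A _ (Groth.Agent.AVDeg.frobOver_base hq A) (Groth.Agent.AVDeg.le_frobOver hq A)
          (Groth.Agent.AVDeg.frobOver_app hq A) _).symm)
    have eB : ρB σ = AbDual.tateMapₗ (Groth.Agent.AVDeg.frobOver p (n : ℕ) hq B) :=
      LinearMap.ext fun z => AbDual.TateMod.ext fun m => Additive.toMul.injective ((hρB σ z m).trans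
        (hσ B _ (Groth.Agent.AVDeg.frobOver_base hq B) (Groth.Agent.AVDeg.le_frobOver hq B)
          (Groth.Agent.AVDeg.frobOver_app hq B) _).symm)
    have h := he σ
    rw [eA, eB] at h
    obtain ⟨f, hf⟩ := Groth.Agent.AVTate.exists_bijective_tateMap Ω hl _
      (Groth.Agent.AVDeg.frobOver_base hq A) (Groth.Agent.AVDeg.le_frobOver hq A) (Groth.Agent.AVDeg.frobOver_app hq A)
      _ (Groth.Agent.AVDeg.frobOver_base hq B) (Groth.Agent.AVDeg.le_frobOver hq B) (Groth.Agent.AVDeg.frobOver_app hq B) e h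
    obtain ⟨g, N, hN, hlN, h1, h2⟩ := Groth.Agent.AVTate.exists_isog_coprime_of_bijective Ω hl f hf
    refine ⟨f.toHom, inferInstance, g.toHom, inferInstance, N, hN, hlN, ?_, ?_⟩
    · have := congrArg EndAV.Hom.toHom h1
      rwa [natCast_zsmul, EndAV.Hom.toHom_comp, EndAV.Hom.toHom_nsmul, EndAV.Hom.toHom_id] at this
    · have := congrArg EndAV.Hom.toHom h2
      rwa [natCast_zsmul, EndAV.Hom.toHom_comp, EndAV.Hom.toHom_nsmul, EndAV.Hom.toHom_id] at this
  · rintro ⟨f, hfm, g, hgm, N, hN, hlN, h1, h2⟩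
    haveI := hfm
    haveI := hgm
    have hu : IsUnit (N : ℤ_[l]) := PadicInt.isUnit_iff.2 (PadicInt.norm_natCast_eq_one_iff.2
      (((Fact.out : l.Prime).coprime_iff_not_dvd).2 hlN))
    have c1 : ∀ z, AbDual.tateMapₗ (l := l) (T := SGA7.pt Ω) g (AbDual.tateMapₗ f z) = (N : ℤ_[l]) • z := fun z => by
      rw [← Groth.Agent.AVQuot.tateMapₗ_comp]
      show EndAV.Hom.tateMap l (SGA7.pt Ω) (EndAV.Hom.of (f ≫ g)) z = _
      rw [show EndAV.Hom.of (f ≫ g) = N • 𝟙 (CommGrp.mk A) from EndAV.Hom.ext (by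
        rw [EndAV.Hom.toHom_nsmul, EndAV.Hom.toHom_of, EndAV.Hom.toHom_id, h1]), map_nsmul, LinearMap.smul_apply,
        Nat.cast_smul_eq_nsmul]
      congr 1
    have c2 : ∀ z, AbDual.tateMapₗ (l := l) (T := SGA7.pt Ω) f (AbDual.tateMapₗ g z) = (N : ℤ_[l]) • z := fun z => by
      rw [← Groth.Agent.AVQuot.tateMapₗ_comp]
      show EndAV.Hom.tateMap l (SGA7.pt Ω) (EndAV.Hom.of (g ≫ f)) z = _
      rw [show EndAV.Hom.of (g ≫ f) = N • 𝟙 (CommGrp.mk B) from EndAV.Hom.ext (by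
        rw [EndAV.Hom.toHom_nsmul, EndAV.Hom.toHom_of, EndAV.Hom.toHom_id, h2]), map_nsmul, LinearMap.smul_apply,
        Nat.cast_smul_eq_nsmul]
      congr 1
    obtain ⟨u, hu'⟩ := hu
    have hbij : Function.Bijective (AbDual.tateMapₗ (A := A) (B := B) (l := l) (T := SGA7.pt Ω) f) := by
      refine ⟨fun a b hab => ?_, fun y => ⟨(↑u⁻¹ : ℤ_[l]) • AbDual.tateMapₗ g y, ?_⟩⟩
      · have := congrArg (fun w => (↑u⁻¹ : ℤ_[l]) • AbDual.tateMapₗ g w) hab
        simpa [c1, ← hu', smul_smul] using this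
      · rw [map_smul, c2, ← hu', smul_smul, Units.inv_mul, one_smul]
    refine ⟨LinearEquiv.ofBijective _ hbij, fun τ => LinearMap.ext fun z => AbDual.TateMod.ext fun m =>
      Additive.toMul.injective ?_⟩
    refine Eq.trans ?_ (hρB τ _ m).symm
    show (AbDual.TateMod.component A l (SGA7.pt Ω) m (ρA τ z)).toMul ≫ f = _
    rw [hρA]
    exact Category.assoc _ _ _

end Groth.Agent.S16388
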