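import Groth.Statements.S16390
import Mathlib.NumberTheory.Padics.Hensel
import Mathlib.Algebra.Polynomial.SpecificDegree
import Mathlib.Analysis.Complex.Norm
import Mathlib.Tactic.ComputeDegree
import Mathlib.Tactic.LinearCombination
-- import your own Groth.Agent.* helpers here

set_option autoImplicit false
open AbVar

namespace Groth.Agent.S16390

/-- Let p be a prime number, r > 2 and q = p^r. The polynomial x² − p x + q is irreducible over ℚ, each
of its complex roots has absolute value √q (so its roots are Weil q-numbers), and it has two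
distinct roots in ℚ_p, of p-adic valuations 1 and r − 1. The published lemma also computes the index
of the endomorphism algebra of the simple abelian variety attached to a root; this row does not
state that part. -/
theorem result (p r : ℕ) [Fact p.Prime] (hr : 2 < r) :
    Irreducible (Polynomial.X ^ 2 - Polynomial.C (p : ℚ) * Polynomial.X + Polynomial.C ((p : ℚ) ^ r)) ∧
      (∀ π : ℂ, π ^ 2 - (p : ℂ) * π + (p : ℂ) ^ r = 0 → ‖π‖ = Real.sqrt ((p : ℝ) ^ r)) ∧
      ∃ a b : ℚ_[p], a ≠ b ∧ a ^ 2 - (p : ℚ_[p]) * a + (p : ℚ_[p]) ^ r = 0 ∧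
        b ^ 2 - (p : ℚ_[p]) * b + (p : ℚ_[p]) ^ r = 0 ∧ a.valuation = 1 ∧ b.valuation = (r : ℤ) - 1 := by
  have hp : p.Prime := Fact.out
  have hp2 : (2 : ℕ) ≤ p := hp.two_le
  have hlt : (p : ℝ) ^ 2 < 4 * (p : ℝ) ^ r := by
    have h1 : (1 : ℝ) ≤ p := by exact_mod_cast hp.one_lt.le
    have : (p : ℝ) ^ 2 ≤ (p : ℝ) ^ r := pow_le_pow_right₀ h1 (by omega)
    have : (0 : ℝ) < (p : ℝ) ^ r := by positivity
    linarith
  refine ⟨?_, ?_, ?_⟩
  · have hdeg : (Polynomial.X ^ 2 - Polynomial.C (p : ℚ) * Polynomial.X + Polynomial.C ((p : ℚ) ^ r)).natDegree = 2 := by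
      compute_degree!
    rw [Polynomial.irreducible_iff_roots_eq_zero_of_degree_le_three (by omega) (by omega),
      Multiset.eq_zero_iff_forall_notMem]
    intro x hx
    rw [Polynomial.mem_roots', Polynomial.IsRoot.def] at hx
    have h := hx.2
    simp only [Polynomial.eval_add, Polynomial.eval_sub, Polynomial.eval_pow, Polynomial.eval_X,
      Polynomial.eval_mul, Polynomial.eval_C] at h
    have hlt' : (p : ℚ) ^ 2 < 4 * (p : ℚ) ^ r := by exact_mod_cast hlt
    nlinarith [sq_nonneg (2 * x - (p : ℚ))]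
  · intro π hπ
    have him : π.im ≠ 0 := by
      intro h0
      have h := congrArg Complex.re hπ
      have hre : π = (π.re : ℂ) := Complex.ext rfl (by simpa using h0)
      rw [hre, show ((π.re : ℂ)) ^ 2 - (p : ℂ) * (π.re : ℂ) + (p : ℂ) ^ r
        = ((π.re ^ 2 - (p : ℝ) * π.re + (p : ℝ) ^ r : ℝ) : ℂ) by push_cast; rfl,
        Complex.ofReal_re, Complex.zero_re] at h
      nlinarith [sq_nonneg (2 * π.re - (p : ℝ))]
    have e : π ^ 2 - (p : ℂ) * π + (p : ℂ) ^ r = π ^ 2 - ((p : ℝ) : ℂ) * π + (((p : ℝ) ^ r : ℝ) : ℂ) := by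
      push_cast; rfl
    rw [e] at hπ
    have hI := congrArg Complex.im hπ
    have hR := congrArg Complex.re hπ
    simp only [sq, Complex.add_im, Complex.sub_im, Complex.mul_im, Complex.ofReal_re, Complex.ofReal_im,
      Complex.zero_im, Complex.add_re, Complex.sub_re, Complex.mul_re, Complex.zero_re] at hI hR
    have h2 : 2 * π.re = p := by
      have : π.im * (2 * π.re - p) = 0 := by linarith
      rcases mul_eq_zero.1 this with h | h
      · exact absurd h him
      · linarith
    rw [Complex.norm_def, Complex.normSq_apply]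
    congr 1
    have e4 : (p : ℝ) * π.re = 2 * π.re * π.re := by rw [h2]
    nlinarith [e4]
  · obtain ⟨m, rfl⟩ : ∃ m, r = m + 2 := ⟨r - 2, by omega⟩
    set F : Polynomial ℤ_[p] := Polynomial.X ^ 2 - Polynomial.X + Polynomial.C ((p : ℤ_[p]) ^ m) with hF
    have hnorm : ‖F.aeval (1 : ℤ_[p])‖ < ‖F.derivative.aeval (1 : ℤ_[p])‖ ^ 2 := by
      have e1 : F.aeval (1 : ℤ_[p]) = (p : ℤ_[p]) ^ m := by simp [hF]
      have e2 : F.derivative.aeval (1 : ℤ_[p]) = 1 := by simp [hF, Polynomial.derivative_pow]; norm_num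
      rw [e1, e2, norm_one, one_pow, norm_pow]
      exact pow_lt_one₀ (norm_nonneg _) (by rw [PadicInt.norm_p]; exact inv_lt_one_of_one_lt₀ (by exact_mod_cast hp.one_lt)) (by omega)
    obtain ⟨z, hz, hz1, -, -⟩ := hensels_lemma hnorm
    have e2 : F.derivative.aeval (1 : ℤ_[p]) = 1 := by simp [hF, Polynomial.derivative_pow]; norm_num
    rw [e2, norm_one] at hz1
    simp only [hF, map_add, map_sub, map_pow, Polynomial.aeval_X, Polynomial.aeval_C,
      Algebra.algebraMap_self, RingHom.id_apply, map_natCast] at hz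
    set t : ℚ_[p] := (z : ℚ_[p])
    have ht : t ^ 2 - t + (p : ℚ_[p]) ^ m = 0 := by
      have := congrArg (fun x : ℤ_[p] => (x : ℚ_[p])) hz
      push_cast at this
      exact this
    have hp0 : (p : ℚ_[p]) ≠ 0 := Nat.cast_ne_zero.2 hp.ne_zero
    have hnormz : ‖z‖ = 1 := by
      refine le_antisymm (PadicInt.norm_le_one z) (not_lt.1 fun hlt => ?_)
      have : ‖(1 : ℤ_[p])‖ < 1 := by
        have e : (1 : ℤ_[p]) = z + (-(z - 1)) := by ring
        rw [e]
        exact lt_of_le_of_lt (PadicInt.nonarchimedean z (-(z - 1))) (max_lt hlt (by rwa [norm_neg]))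
      simp at this
    have ht0 : t ≠ 0 := by
      intro h
      have : ‖z‖ = 0 := by rw [PadicInt.norm_def, show (z : ℚ_[p]) = 0 from h, norm_zero]
      rw [hnormz] at this
      exact one_ne_zero this
    have hvt : t.valuation = 0 := by
      have := Padic.norm_eq_zpow_neg_valuation ht0
      rw [show ‖t‖ = 1 from hnormz] at this
      have h := (zpow_eq_one_iff_right₀ (by positivity) (by exact_mod_cast hp.ne_one)).1 this.symm
      omega
    have hs : t * (1 - t) = (p : ℚ_[p]) ^ m := by linear_combination -ht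
    have hs0 : 1 - t ≠ 0 := fun h => by
      rw [h, mul_zero] at hs
      exact pow_ne_zero m hp0 hs.symm
    have hv1 : (1 - t).valuation = m := by
      have := congrArg Padic.valuation hs
      rw [Padic.valuation_mul ht0 hs0, hvt, Padic.valuation_pow, Padic.valuation_p, zero_add, mul_one] at this
      exact this
    have va : ((p : ℚ_[p]) * t).valuation = 1 := by
      rw [Padic.valuation_mul hp0 ht0, Padic.valuation_p, hvt, add_zero]
    have vb : ((p : ℚ_[p]) * (1 - t)).valuation = ((m + 2 : ℕ) : ℤ) - 1 := by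
      rw [Padic.valuation_mul hp0 hs0, Padic.valuation_p, hv1]; push_cast; ring
    refine ⟨(p : ℚ_[p]) * t, (p : ℚ_[p]) * (1 - t), fun h => ?_, ?_, ?_, va, vb⟩
    · rw [← h, va] at vb; omega
    · linear_combination ((p : ℚ_[p]) ^ 2) * ht
    · linear_combination ((p : ℚ_[p]) ^ 2) * ht

end Groth.Agent.S16390
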