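import Groth.Statements.S16394
import Groth.Agent.AVDeg.HomBC

set_option autoImplicit false
universe u
open CategoryTheory MonoidalCategory CartesianMonoidalCategory MonObj GrpObj AlgebraicGeometry
open AbVar

namespace Groth.Agent.S16394

/-- (b₁) ⇒ (c₁): let k be a finite field and X, A abelian varieties over k (proper, geometrically
integral commutative group schemes over k). Suppose the common kernel of all homomorphisms X → A is
trivial: every T-valued point of X over k that is sent to the unit by every homomorphism X → A is
the unit point (this is condition (b₁) for the trivial subgroup). Then there are finitely many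
homomorphisms ψ_1, …, ψ_n : X → A which are jointly monomorphic on T-valued points — two T-valued
points of X with the same image under every ψ_i are equal — so that (ψ_i) is an injective
homomorphism X → A^n. The published statement restricts X and A to abelian varieties whose Frobenius
is killed by a fixed polynomial; this row has no such restriction. -/
theorem result
    (k : Type u) [Field k] [Finite k] (X A : Over (Spec (CommRingCat.of k))) [GrpObj X] [IsCommMonObj X] [IsProper X.hom] [GeometricallyIntegral X.hom]
    [GrpObj A] [IsCommMonObj A] [IsProper A.hom] [GeometricallyIntegral A.hom]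
    (hsep : ∀ (T : Over (Spec (CommRingCat.of k))) (x : T ⟶ X), (∀ f : EndAV.Hom X A, x ≫ f.toHom = 1) → x = 1) :
    ∃ (n : ℕ) (ψ : Fin n → EndAV.Hom X A), ∀ (T : Over (Spec (CommRingCat.of k))) (x y : T ⟶ X),
      (∀ i, x ≫ (ψ i).toHom = y ≫ (ψ i).toHom) → x = y := by
  haveI : Nonempty X.left := ⟨η[X].left (IsLocalRing.closedPoint k)⟩
  haveI : Nonempty A.left := ⟨η[A].left (IsLocalRing.closedPoint k)⟩
  obtain ⟨g, hg⟩ := Groth.Agent.AVDeg.exists_dim X
  obtain ⟨g', hg'⟩ := Groth.Agent.AVDeg.exists_dim A
  obtain ⟨hfree, hfin, -⟩ := Groth.Agent.AVDeg.hom_lattice (A := X) (B := A) hg hg'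
  haveI := hfree
  haveI := hfin
  refine ⟨_, Module.finBasis ℤ (EndAV.Hom X A), fun T x y h => ?_⟩
  refine div_eq_one.1 (hsep T (x / y) fun f => ?_)
  have hmem : EndAV.Hom.ptsMap T f (Additive.ofMul (x / y)) = 0 := by
    rw [← (Module.finBasis ℤ (EndAV.Hom X A)).sum_repr f, map_sum, AddMonoidHom.finsetSum_apply]
    refine Finset.sum_eq_zero fun i _ => ?_
    rw [map_zsmul, AddMonoidHom.smul_apply]
    refine (congrArg _ ?_).trans (smul_zero _)
    show Additive.ofMul ((x / y) ≫ (Module.finBasis ℤ (EndAV.Hom X A) i).toHom) = Additive.ofMul 1
    rw [GrpObj.div_comp, h i, div_self']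
  exact Additive.ofMul.injective hmem

end Groth.Agent.S16394
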