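import Groth.Statements.S16396
import Mathlib.Algebra.Polynomial.HasseDeriv
import Mathlib.Algebra.Polynomial.Taylor

set_option autoImplicit false
universe u
open CAlg

namespace Groth.Agent.S16396

open Polynomial in
/-- For a commutative ℚ-algebra A, a ℚ-subalgebra B of the polynomial algebra A[X] that contains X and
is closed under d/dX consists exactly of the polynomials each of whose coefficients is the value at
0 of some element of B; in other words B = ev(B)[X], with ev the evaluation at 0. -/
theorem result
    (A : Type u) [CommRing A] [Algebra ℚ A] (B : Subalgebra ℚ A[X])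
    (hX : (X : A[X]) ∈ B) (hD : ∀ P ∈ B, Polynomial.derivative P ∈ B) (P : A[X]) :
    P ∈ B ↔ ∀ i : ℕ, ∃ Q ∈ B, Polynomial.eval 0 Q = P.coeff i := by
  have hiter : ∀ (k : ℕ) (Q : A[X]), Q ∈ B → Polynomial.derivative^[k] Q ∈ B := fun k => by
    induction k with
    | zero => exact fun Q h => h
    | succ k ih => exact fun Q h => by rw [Function.iterate_succ']; exact hD _ (ih Q h)
  have hhasse : ∀ (k : ℕ) (Q : A[X]), Q ∈ B → Polynomial.hasseDeriv k Q ∈ B := fun k Q h => by
    have e : Polynomial.hasseDeriv k Q = ((k.factorial : ℚ)⁻¹) • Polynomial.derivative^[k] Q := by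
      rw [← Polynomial.factorial_smul_hasseDeriv, LinearMap.smul_apply, ← Nat.cast_smul_eq_nsmul ℚ, smul_smul,
        inv_mul_cancel₀ (by exact_mod_cast k.factorial_ne_zero), one_smul]
    rw [e]; exact B.smul_mem (hiter k Q h) _
  refine ⟨fun hP i => ⟨Polynomial.hasseDeriv i P, hhasse i P hP, ?_⟩, fun h => ?_⟩
  · rw [← Polynomial.coeff_zero_eq_eval_zero, Polynomial.hasseDeriv_coeff, zero_add, Nat.choose_self, Nat.cast_one, one_mul]
  · have hC : ∀ Q ∈ B, (Polynomial.C (Polynomial.eval 0 Q) : A[X]) ∈ B := fun Q hQ => by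
      let Q' : Polynomial A[X] := Q.map Polynomial.C
      have h1 : (Polynomial.taylor Polynomial.X Q').eval (-Polynomial.X) = Polynomial.C (Polynomial.eval 0 Q) := by
        rw [Polynomial.taylor_eval, neg_add_cancel]
        rw [← map_zero Polynomial.C, Polynomial.eval_map, Polynomial.eval₂_at_apply]
      have hcoef : ∀ j, (Polynomial.taylor Polynomial.X Q').coeff j = Polynomial.hasseDeriv j Q := fun j => by
        rw [Polynomial.taylor_coeff]
        have hmap : Polynomial.hasseDeriv j Q' = (Polynomial.hasseDeriv j Q).map Polynomial.C := by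
          ext1 n; simp [Q', Polynomial.hasseDeriv_coeff]
        rw [hmap, Polynomial.eval_map, Polynomial.eval₂_C_X]
      rw [← h1, Polynomial.eval_eq_sum, Polynomial.sum]
      exact sum_mem fun j _ => mul_mem (by rw [hcoef]; exact hhasse j Q hQ) (pow_mem (neg_mem hX) j)
    rw [P.as_sum_range_C_mul_X_pow]
    refine sum_mem fun i _ => mul_mem ?_ (pow_mem hX i)
    obtain ⟨Q, hQ, he⟩ := h i
    rw [← he]; exact hC Q hQ

end Groth.Agent.S16396
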