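import Groth.Statements.S16397
import Mathlib.RingTheory.MvPolynomial.EulerIdentity
-- import your own Groth.Agent.* helpers here

set_option autoImplicit false
open W4c3tautjacobian

namespace Groth.Agent.S16397

open MvPolynomial W4c3tautjacobian

/-- First degree as an integer weight. -/
def wz (g : ℕ) : Var g → ℤ := fun v => ((wt g v).1 : ℤ)

variable {g : ℕ}

theorem valid_mem_idx {p : ℕ × ℕ} (h : Valid g p) : p ∈ idx g := by
  obtain ⟨h1, h2, -, -⟩ := h
  simp only [idx, Finset.mem_product, Finset.mem_range]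
  omega

theorem xv_hom (i j : ℤ) : IsWeightedHomogeneous (wz g) (xv g i j) i := by
  unfold xv
  split_ifs with h1 h2
  · rw [h1.1, show (g : RelRing g) = MvPolynomial.C (g : ℚ) by simp]
    exact isWeightedHomogeneous_C _ _
  · have := isWeightedHomogeneous_X (R := ℚ) (wz g) (some ⟨(i.toNat, j.toNat), h2.2.2⟩)
    simpa [wz, wt, Int.toNat_of_nonneg h2.1] using this
  · exact isWeightedHomogeneous_zero _ _ _

theorem natCast_hom (c : ℕ) : IsWeightedHomogeneous (wz g) (c : RelRing g) 0 := by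
  rw [show (c : RelRing g) = MvPolynomial.C (c : ℚ) by simp]
  exact isWeightedHomogeneous_C _ _

theorem dv_hom (p : ℕ × ℕ) {P : RelRing g} {n : ℤ} (h : IsWeightedHomogeneous (wz g) P n) :
    IsWeightedHomogeneous (wz g) (dv g p P) (n - p.1) := by
  unfold dv
  split_ifs with hp
  · exact h.pderiv (n' := n - p.1) (by simp [wz, wt])
  · exact isWeightedHomogeneous_zero _ _ _

theorem F_hom {P : RelRing g} {n : ℤ} (h : IsWeightedHomogeneous (wz g) P n) :
    IsWeightedHomogeneous (wz g) (F g P) (n - 2) := by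
  unfold F
  refine IsWeightedHomogeneous.add ?_ (IsWeightedHomogeneous.sum _ _ _ fun p _ => ?_)
  · refine (weightedHomogeneousSubmodule ℚ (wz g) (n - 2)).smul_mem _ ?_
    refine IsWeightedHomogeneous.sum _ _ _ fun p _ => IsWeightedHomogeneous.sum _ _ _ fun q _ => ?_
    have hy : IsWeightedHomogeneous (wz g) (X none : RelRing g) 0 := by
      simpa [wz, wt] using isWeightedHomogeneous_X (R := ℚ) (wz g) none
    have h1 := ((hy.mul (xv_hom ((p.1 : ℤ) - 1) ((p.2 : ℤ) - 1))).mul
      (xv_hom ((q.1 : ℤ) - 1) ((q.2 : ℤ) - 1)))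
    have h2 := (natCast_hom (g := g) (mergeCoeff p.1 q.1)).mul
      (xv_hom ((p.1 : ℤ) + q.1 - 2) ((p.2 : ℤ) + q.2))
    rw [show (0 : ℤ) + ((p.1 : ℤ) - 1) + ((q.1 : ℤ) - 1) = (p.1 : ℤ) + q.1 - 2 by ring] at h1
    rw [zero_add] at h2
    have h3 := (weightedHomogeneousSubmodule ℚ (wz g) _).sub_mem h1 h2
    have h4 := IsWeightedHomogeneous.mul h3 (dv_hom p (dv_hom q h))
    rw [show (p.1 : ℤ) + q.1 - 2 + (n - q.1 - p.1) = n - 2 by ring] at h4
    exact h4
  · have h4 := (xv_hom (g := g) ((p.1 : ℤ) - 2) p.2).mul (dv_hom p h)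
    rw [show (p.1 : ℤ) - 2 + (n - p.1) = n - 2 by ring] at h4
    exact h4

theorem weight_wz (d : Var g →₀ ℕ) :
    Finsupp.weight (wz g) d = ((Finsupp.weight (fun v => (wt g v).1) d : ℕ) : ℤ) := by
  simp [Finsupp.weight_apply, Finsupp.sum, wz]

theorem hom_neg {P : RelRing g} {n : ℤ} (h : IsWeightedHomogeneous (wz g) P n) (hn : n < 0) :
    P = 0 := by
  ext d
  by_contra hc
  rw [coeff_zero] at hc
  have := h hc
  rw [weight_wz] at this
  omega

theorem euler {P : RelRing g} {n : ℤ} (h : IsWeightedHomogeneous (wz g) P n) :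
    ∑ p ∈ idx g, (p.1 : RelRing g) * (xv g p.1 p.2 * dv g p P) = (n : ℚ) • P := by
  classical
  by_cases hn : n < 0
  · rw [hom_neg h hn]
    simp [dv]
  have hN : IsWeightedHomogeneous (fun v => (wt g v).1) P n.toNat := by
    intro d hd
    have := h hd
    rw [weight_wz] at this
    omega
  let : Fintype {p : ℕ × ℕ // Valid g p} := Fintype.subtype ((idx g).filter (Valid g))
    fun p => by simpa using fun h => valid_mem_idx h
  have he := hN.sum_weight_X_mul_pderiv
  rw [Fintype.sum_option] at he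
  simp only [wt, zero_smul, zero_add] at he
  rw [show (n : ℚ) • P = n.toNat • P by
    rw [← Nat.cast_smul_eq_nsmul ℚ]
    congr 1
    exact_mod_cast (Int.toNat_of_nonneg (not_lt.mp hn)).symm, ← he]
  have hz : ∀ p ∈ idx g, p ∉ (idx g).filter (Valid g) →
      (p.1 : RelRing g) * (xv g p.1 p.2 * dv g p P) = 0 := fun p hp hp' => by
    have : ¬ Valid g p := fun hv => hp' (Finset.mem_filter.mpr ⟨hp, hv⟩)
    simp [dv, this]
  rw [← Finset.sum_subset (Finset.filter_subset (Valid g) (idx g)) hz,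
    Finset.sum_subtype (p := Valid g) ((idx g).filter (Valid g))
      (fun p => by simpa using fun h => valid_mem_idx h)]
  refine Finset.sum_congr rfl fun p _ => ?_
  obtain ⟨⟨a, b⟩, hp⟩ := p
  have hne : ¬ ((a : ℤ) = 0 ∧ (b : ℤ) = 0) := fun hab => hp.2.2.2 (by
    simp only [Prod.mk.injEq]; omega)
  simp [xv, dv, hp, nsmul_eq_mul]
  intro h1 h2
  exact Or.inr h1

theorem dv_add (p : ℕ × ℕ) (P Q : RelRing g) : dv g p (P + Q) = dv g p P + dv g p Q := by
  unfold dv; split_ifs <;> simp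

theorem dv_smul (p : ℕ × ℕ) (c : ℚ) (P : RelRing g) : dv g p (c • P) = c • dv g p P := by
  unfold dv; split_ifs <;> simp

theorem F_add (P Q : RelRing g) : F g (P + Q) = F g P + F g Q := by
  simp only [F, dv_add, mul_add, Finset.sum_add_distrib, smul_add]
  abel

theorem F_smul (c : ℚ) (P : RelRing g) : F g (c • P) = c • F g P := by
  simp only [F, dv_smul, mul_smul_comm, ← Finset.smul_sum, smul_add, smul_smul, mul_comm c]

theorem dv_mul_x (hg : 1 ≤ g) (p : ℕ × ℕ) (P : RelRing g) :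
    dv g p (xv g 2 0 * P) = (if p = (2, 0) then P else 0) + xv g 2 0 * dv g p P := by
  have ht : Valid g (2, 0) := ⟨by omega, by simp; omega, by decide, by decide⟩
  have hx : xv g 2 0 = X (some ⟨(2, 0), ht⟩) := by simp [xv, ht]
  by_cases hp : Valid g p
  · rw [hx]
    simp only [dv, hp, dite_true, pderiv_mul]
    by_cases h : p = (2, 0)
    · subst h; simp [pderiv_X_self]
    · have hne : (some ⟨(2, 0), ht⟩ : Var g) ≠ some ⟨p, hp⟩ := by
        simpa using Ne.symm h
      simp [h, pderiv_X_of_ne hne]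
  · have : p ≠ (2, 0) := fun h => hp (h ▸ ht)
    simp [dv, hp, this]

theorem dv_ite (p : ℕ × ℕ) (c : Prop) [Decidable c] (P : RelRing g) :
    dv g p (if c then P else 0) = if c then dv g p P else 0 := by
  split_ifs
  · rfl
  · simp [dv]

theorem F_comm (hg : 1 ≤ g) (P : RelRing g) : F g (E g P) = E g (F g P) + (g : RelRing g) * P -
    ∑ p ∈ idx g, (p.1 : RelRing g) * (xv g p.1 p.2 * dv g p P) := by
  classical
  set t : ℕ × ℕ := (2, 0) with ht
  have hti : t ∈ idx g := by
    simp only [ht, idx, Finset.mem_product, Finset.mem_range]; omega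
  set a : ℕ × ℕ → ℕ × ℕ → RelRing g := fun p q =>
    X none * xv g ((p.1 : ℤ) - 1) ((p.2 : ℤ) - 1) * xv g ((q.1 : ℤ) - 1) ((q.2 : ℤ) - 1)
        - (mergeCoeff p.1 q.1 : RelRing g) * xv g ((p.1 : ℤ) + q.1 - 2) ((p.2 : ℤ) + q.2) with ha
  have hl : ∀ q : ℕ × ℕ, a t q = -((q.1 : RelRing g) * xv g q.1 q.2) := fun q => by
    have : mergeCoeff 2 q.1 = q.1 := by
      rcases Nat.eq_zero_or_pos q.1 with h | h
      · simp [mergeCoeff, h]
      · rw [mergeCoeff, if_neg (by omega), show 2 + q.1 - 2 = q.1 by omega]; simp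
    simp [ha, ht, this, show xv g 1 (-1) = 0 by simp [xv]]
  have hr : ∀ q : ℕ × ℕ, a q t = -((q.1 : RelRing g) * xv g q.1 q.2) := fun q => by
    have : mergeCoeff q.1 2 = q.1 := by
      rcases Nat.eq_zero_or_pos q.1 with h | h
      · simp [mergeCoeff, h]
      · rw [mergeCoeff, if_neg (by omega), show q.1 + 2 - 2 = q.1 by omega]
        obtain ⟨m, hm⟩ : ∃ m, q.1 = m + 1 := ⟨q.1 - 1, by omega⟩
        simp [hm, Nat.choose_succ_self_right]
    simp [ha, ht, this, show xv g 1 (-1) = 0 by simp [xv]]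
  have h00 : xv g 0 0 = (g : RelRing g) := by simp [xv]
  simp only [E]
  change (1 / 2 : ℚ) • (∑ p ∈ idx g, ∑ q ∈ idx g, a p q * dv g p (dv g q (xv g 2 0 * P))) + _ =
    xv g 2 0 * ((1 / 2 : ℚ) • (∑ p ∈ idx g, ∑ q ∈ idx g, a p q * dv g p (dv g q P)) + _) + _ - _
  simp only [dv_mul_x hg, dv_add, dv_ite, ← ht, mul_add, mul_ite, mul_zero, Finset.sum_add_distrib,
    Finset.sum_ite_eq', hti, if_true]
  rw [Finset.sum_comm (f := fun p q => if p = t then a p q * dv g q P else 0)]
  simp only [Finset.sum_ite_eq', hti, if_true, hl, hr]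
  have h2 : ∀ (Q : RelRing g), xv g 2 0 * Q = xv g 2 0 * Q := fun _ => rfl
  simp only [mul_left_comm _ (xv g 2 0), ← Finset.mul_sum, neg_mul, Finset.sum_neg_distrib,
    mul_assoc, mul_smul_comm, smul_add, smul_neg]
  have ht0 : xv g ((t.1 : ℤ) - 2) (t.2 : ℤ) = (g : RelRing g) := by simpa [ht] using h00
  rw [ht0]
  module

theorem iterate_comm (hg : 1 ≤ g) {P : RelRing g} {d : ℤ}
    (h : IsWeightedHomogeneous (wz g) P d) (m : ℕ) :
    IsWeightedHomogeneous (wz g) ((F g)^[m] P) (d - 2 * m) ∧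
    (F g)^[m + 1] (E g P) = E g ((F g)^[m + 1] P) +
      (((m : ℚ) + 1) * ((g : ℚ) - d) + m * ((m : ℚ) + 1)) • (F g)^[m] P := by
  induction m with
  | zero =>
    refine ⟨by simpa using h, ?_⟩
    simp only [zero_add, Function.iterate_one, Function.iterate_zero, id]
    rw [F_comm hg, euler h, ← nsmul_eq_mul, ← Nat.cast_smul_eq_nsmul ℚ]
    push_cast
    module
  | succ m ih =>
    have h' : IsWeightedHomogeneous (wz g) ((F g)^[m + 1] P) (d - 2 * (m + 1 : ℕ)) := by
      rw [Function.iterate_succ', Function.comp_apply]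
      have := F_hom ih.1
      rw [show d - 2 * (m : ℤ) - 2 = d - 2 * ((m + 1 : ℕ) : ℤ) by push_cast; ring] at this
      exact this
    refine ⟨h', ?_⟩
    rw [Function.iterate_succ_apply' (F g) (m + 1), Function.iterate_succ_apply' (F g) (m + 1) P,
      ih.2, F_add, F_smul, ← Function.iterate_succ_apply' (F g) m P, F_comm hg, euler h',
      ← nsmul_eq_mul, ← Nat.cast_smul_eq_nsmul ℚ]
    push_cast
    module

/-- In the formal relation ring of genus g ≥ 1, for every element β which is bihomogeneous of bidegree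
(2g, n), the (g+1)-st iterate of the operator F kills x 2 0 · β. (Stated for every bihomogeneous β;
the case of a monomial β is equivalent by linearity.) -/
theorem result
    (g : ℕ) (hg : 1 ≤ g) (n : ℕ) (β : W4c3tautjacobian.RelRing g)
    (hβ : MvPolynomial.IsWeightedHomogeneous (W4c3tautjacobian.wt g) β ((2 * g, n) : ℕ × ℕ)) :
    (W4c3tautjacobian.F g)^[g + 1] (W4c3tautjacobian.E g β) = 0 := by
  have h : MvPolynomial.IsWeightedHomogeneous (wz g) β (2 * g : ℤ) := by
    intro d hd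
    have := congrArg Prod.fst (hβ hd)
    rw [weight_wz]
    have e : (Finsupp.weight (fun v => (W4c3tautjacobian.wt g v).1) d : ℕ) =
        (Finsupp.weight (W4c3tautjacobian.wt g) d).1 := by
      simp [Finsupp.weight_apply, Finsupp.sum, Prod.fst_sum]
    rw [e, this]
    push_cast
    ring
  obtain ⟨h1, h2⟩ := iterate_comm hg h g
  have hz : (W4c3tautjacobian.F g)^[g + 1] β = 0 := by
    refine hom_neg (n := (2 * g : ℤ) - 2 * g - 2) ?_ (by omega)
    rw [Function.iterate_succ_apply']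
    exact F_hom h1
  rw [h2, hz]
  simp [W4c3tautjacobian.E]
  left
  ring

end Groth.Agent.S16397
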