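import Groth.Statements.S16399
import Groth.Agent.TautJac.Generate
import Mathlib.RingTheory.Ideal.Quotient.Operations

set_option autoImplicit false
open W4c3tautjacobian

namespace Groth.Agent.S16399

open W4c3tautjacobian MvPolynomial

/-- In the formal relation ring of genus g ≥ 1, every symbol x 0 (2i) is congruent modulo the relation
ideal to a polynomial in y and the symbols x 0 (2j) with 1 ≤ j and 3j ≤ g; so these low symbols
together with y generate the first-degree-0 part modulo the relations. -/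
theorem result
    (g : ℕ) (hg : 1 ≤ g) (i : ℕ) :
    ∃ q ∈ Algebra.adjoin ℚ (W4c3tautjacobian.lowGens g),
      W4c3tautjacobian.xv g 0 (2 * (i : ℤ)) - q ∈ W4c3tautjacobian.relIdeal g := by
  let S : Subalgebra ℚ (RelRing g) := ((Algebra.adjoin ℚ (lowGens g)).map (Ideal.Quotient.mkₐ ℚ (relIdeal g))).comap
    (Ideal.Quotient.mkₐ ℚ (relIdeal g))
  suffices h : W4c3tautjacobian.xv g 0 (2 * (i : ℤ)) ∈ S by
    rw [Subalgebra.mem_comap, Subalgebra.mem_map] at h
    obtain ⟨q, hq, hqe⟩ := h
    exact ⟨q, hq, (Ideal.Quotient.eq).1 hqe.symm⟩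
  have hA : ∀ P ∈ Algebra.adjoin ℚ (lowGens g), P ∈ S := fun P hP => ⟨P, hP, rfl⟩
  have hI : ∀ P ∈ relIdeal g, P ∈ S := fun P hP => by
    rw [Subalgebra.mem_comap]
    rw [Ideal.Quotient.mkₐ_eq_mk, Ideal.Quotient.eq_zero_iff_mem.2 hP]
    exact zero_mem _
  induction i using Nat.strong_induction_on with
  | _ i ih =>
    rcases Nat.eq_zero_or_pos i with rfl | hi
    · simp [xv, natCast_mem]
    rcases Nat.lt_or_ge g (3 * i) with hig | hig
    · by_cases hv : Valid g (0, 2 * i)
      · exact TautJac.xv_mem_of_high hg i hi hig hv S hI (hA _ (Algebra.subset_adjoin (Or.inl rfl))) ih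
      · rw [xv, if_neg (by omega), dif_neg]
        · exact zero_mem _
        · rintro ⟨-, -, h⟩
          exact hv (by simpa [show (2 * (i : ℤ)).toNat = 2 * i by omega] using h)
    · exact hA _ (Algebra.subset_adjoin (Or.inr ⟨i, hi, hig, rfl⟩))

end Groth.Agent.S16399
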