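import Groth.Statements.S16405
import Mathlib.Algebra.MonoidAlgebra.Grading
-- import your own Groth.Agent.* helpers here

set_option autoImplicit false
set_option linter.style.haveILetI false
set_option linter.unusedSimpArgs false
universe u v
open InvQ

namespace Groth.Agent.S16405

/-- In weight form. Let b : L → ℤ^r be an injective homomorphism of abelian groups (the case in view: L
the character group of a maximal torus T of a semisimple group over ℂ and b the map dual to the
surjection of the rank-r split torus T' onto T that sends the i-th coordinate cocharacter to the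
primitive generator of the i-th ray of the Weyl chamber; only the injectivity of b is used, and ℂ is
replaced by any commutative ring k). Grade the monoid algebra k[L × ℕ^r] (the coordinate ring of T ×
𝔸^r) by ℤ^r, the monomial (w, n) having weight b(w) + n (the weights of the T'-action u·(t, v) =
(b^∨(u) t, u v)), and grade k[ℕ^r] by ℤ^r/b(L), the monomial n having weight the class of n (the
weights of the action on 𝔸^r of the diagonalizable kernel Z of T' → T, a finite group in the case in
view). For a diagonalizable group acting on an affine scheme the ring of invariants is the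
weight-zero part, so the two weight-zero parts are the coordinate rings of the quotients (T ×
𝔸^r)//T' and 𝔸^r//Z. The statement: the algebra map k[L × ℕ^r] → k[ℕ^r] induced by the projection L
× ℕ^r → ℕ^r (restriction to the slice 1 × 𝔸^r) maps the weight-zero part of k[L × ℕ^r] bijectively
onto the weight-zero part of k[ℕ^r]; hence it induces an isomorphism of k-algebras between them. -/
theorem result
    (k : Type u) [CommRing k] (r : ℕ) (L : Type v) [AddCommGroup L]
    (b : L →+ (Fin r → ℤ)) (hb : Function.Injective b) :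
    Set.BijOn
      (AddMonoidAlgebra.mapDomainAlgHom k k (AddMonoidHom.snd L (Fin r → ℕ)))
      (AddMonoidAlgebra.gradeBy k
        (b.comp (AddMonoidHom.fst L (Fin r → ℕ)) +
          (AddMonoidHom.compLeft (Nat.castAddMonoidHom ℤ) (Fin r)).comp (AddMonoidHom.snd L (Fin r → ℕ))) 0 :
        Set (AddMonoidAlgebra k (L × (Fin r → ℕ))))
      (AddMonoidAlgebra.gradeBy k
        ((QuotientAddGroup.mk' b.range).comp (AddMonoidHom.compLeft (Nat.castAddMonoidHom ℤ) (Fin r))) 0 :
        Set (AddMonoidAlgebra k (Fin r → ℕ))) := by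
  classical
  have hcoeff : ∀ x : AddMonoidAlgebra k (L × (Fin r → ℕ)),
      (AddMonoidAlgebra.mapDomainAlgHom k k (AddMonoidHom.snd L (Fin r → ℕ)) x).coeff =
        Finsupp.mapDomain (Prod.snd : L × (Fin r → ℕ) → (Fin r → ℕ)) x.coeff := fun x => rfl
  have hw : ∀ x : AddMonoidAlgebra k (L × (Fin r → ℕ)), x ∈ AddMonoidAlgebra.gradeBy k
      (b.comp (AddMonoidHom.fst L (Fin r → ℕ)) +
        (AddMonoidHom.compLeft (Nat.castAddMonoidHom ℤ) (Fin r)).comp (AddMonoidHom.snd L (Fin r → ℕ))) 0 ↔
      ∀ p ∈ x.coeff.support, b p.1 + (fun i => ((p.2 i : ℕ) : ℤ)) = 0 := fun x => Iff.rfl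
  have hq : ∀ y : AddMonoidAlgebra k (Fin r → ℕ), y ∈ AddMonoidAlgebra.gradeBy k
      ((QuotientAddGroup.mk' b.range).comp (AddMonoidHom.compLeft (Nat.castAddMonoidHom ℤ) (Fin r))) 0 ↔
      ∀ n ∈ y.coeff.support, ((fun i => ((n i : ℕ) : ℤ)) : Fin r → ℤ) ∈ b.range := by
    intro y
    rw [AddMonoidAlgebra.mem_gradeBy_iff]
    exact forall₂_congr fun n _ => QuotientAddGroup.eq_zero_iff _
  refine ⟨fun x hx => ?_, ?_, fun y hy => ?_⟩
  · refine (hq _).2 fun n hn => ?_
    rw [hcoeff] at hn
    obtain ⟨p, hp, rfl⟩ := Finset.mem_image.1 (Finsupp.mapDomain_support hn)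
    exact ⟨-p.1, by rw [map_neg]; exact neg_eq_of_add_eq_zero_right ((hw x).1 hx p hp)⟩
  · intro x hx y hy h
    have h' := congrArg AddMonoidAlgebra.coeff h
    rw [hcoeff, hcoeff] at h'
    refine AddMonoidAlgebra.coeff_injective (Finsupp.mapDomain_injOn
      {p : L × (Fin r → ℕ) | b p.1 + (fun i => ((p.2 i : ℕ) : ℤ)) = 0} ?_ ((hw x).1 hx) ((hw y).1 hy) h')
    intro p hp q hq' hpq
    refine Prod.ext (hb ?_) hpq
    simp only [Set.mem_ofPred_eq] at hp hq'
    rw [hpq] at hp
    exact add_right_cancel (hp.trans hq'.symm)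
  · have hl : ∀ n ∈ y.coeff.support, ∃ w : L, b w + (fun i => ((n i : ℕ) : ℤ)) = 0 := by
      intro n hn
      obtain ⟨w, hw'⟩ := (hq y).1 hy n hn
      exact ⟨-w, by rw [map_neg, hw', neg_add_cancel]⟩
    let w : (Fin r → ℕ) → L := fun n => if h : n ∈ y.coeff.support then (hl n h).choose else 0
    refine ⟨AddMonoidAlgebra.ofCoeff (Finsupp.mapDomain (fun n => (w n, n)) y.coeff), (hw _).2 ?_, ?_⟩
    · intro p hp
      obtain ⟨n, hn, rfl⟩ := Finset.mem_image.1 (Finsupp.mapDomain_support hp)
      simp only [w, dif_pos hn]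
      exact (hl n hn).choose_spec
    · refine AddMonoidAlgebra.coeff_injective ?_
      rw [hcoeff, AddMonoidAlgebra.coeff_ofCoeff, ← Finsupp.mapDomain_comp]
      exact Finsupp.mapDomain_id

end Groth.Agent.S16405
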