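import Groth.Statements.S16414
import Mathlib

set_option autoImplicit false
open Dieud

namespace Groth.Agent.S16414

/-- Let μ be a rational number with 0 < μ ≤ 1 and i an integer, and put f(i,j) = max(−i−j, −j, 0) for
integers j. Then min over all integers j of f(i,j) + jμ exists and equals max(−iμ, 0). -/
theorem result (μ : ℚ) (hμ0 : 0 < μ) (hμ1 : μ ≤ 1) (i : ℤ) :
    IsLeast (Set.range fun j : ℤ => ((max (max (-i - j) (-j)) 0 : ℤ) : ℚ) + (j : ℚ) * μ)
      (max (-(i : ℚ) * μ) 0) := by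
  have hiq : ∀ j : ℤ, (-(i : ℚ) - j ≤ ((max (max (-i - j) (-j)) 0 : ℤ) : ℚ)) ∧ (-(j : ℚ) ≤ ((max (max (-i - j) (-j)) 0 : ℤ) : ℚ)) ∧ (0 : ℚ) ≤ ((max (max (-i - j) (-j)) 0 : ℤ) : ℚ) := fun j => by
    refine ⟨?_, ?_, ?_⟩ <;> push_cast <;> simp
  refine ⟨?_, ?_⟩
  · rcases le_total i 0 with h | h
    · refine ⟨-i, ?_⟩
      have : ((i : ℚ)) ≤ 0 := by exact_mod_cast h
      simp only [show max (max (-i - -i) (- -i)) 0 = (0 : ℤ) by omega, Int.cast_zero, Int.cast_neg, zero_add]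
      rw [max_eq_left (by nlinarith)]
    · refine ⟨0, ?_⟩
      have : (0 : ℚ) ≤ i := by exact_mod_cast h
      simp only [show max (max (-i - 0) (-0)) 0 = (0 : ℤ) by omega, Int.cast_zero, zero_mul, zero_add]
      rw [max_eq_right (by nlinarith)]
  · rintro _ ⟨j, rfl⟩
    obtain ⟨a, b, c⟩ := hiq j
    refine max_le ?_ ?_ <;> simp only [] <;> generalize ((max (max (-i - j) (-j)) 0 : ℤ) : ℚ) = f at * <;> nlinarith

end Groth.Agent.S16414
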