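import Groth.Statements.S16415
import Mathlib

set_option autoImplicit false
open Dieud

namespace Groth.Agent.S16415

/-- Let μ be a rational number with 0 < μ ≤ 1, N a natural number and i an integer. The minimum of m +
jμ over all pairs of integers (m, j) with m ≥ max(−i−j, −j, 0) and 2m + i + 2j ≥ N exists and equals
μ · max(⌈(N−i)/2⌉, −i, 0). (The published statement prints the value as max(⌈(N−i)/2⌉, −iμ, 0),
without the factor μ on the first term; the printed argument computes μ · max(⌈(N−i)/2⌉, −i, 0),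
attained at m = 0, and for N = 2, i = 0, μ = 1/2 the pair (m, j) = (0, 1) gives 1/2 < 1, so the
value with the factor μ is stated here.) -/
theorem result (μ : ℚ) (hμ0 : 0 < μ) (hμ1 : μ ≤ 1)
    (N : ℕ) (i : ℤ) :
    IsLeast {x : ℚ | ∃ m j : ℤ, max (max (-i - j) (-j)) 0 ≤ m ∧ (N : ℤ) ≤ 2 * m + i + 2 * j ∧
        x = (m : ℚ) + (j : ℚ) * μ}
      (((max (max ⌈((N : ℚ) - i) / 2⌉ (-i)) 0 : ℤ) : ℚ) * μ) := by
  set J : ℤ := max (max ⌈((N : ℚ) - i) / 2⌉ (-i)) 0
  have hc : ((N : ℚ) - i) / 2 ≤ (⌈((N : ℚ) - i) / 2⌉ : ℤ) := Int.le_ceil _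
  refine ⟨⟨0, J, ?_, ?_, by simp⟩, ?_⟩
  · omega
  · have hJ : ⌈((N : ℚ) - i) / 2⌉ ≤ J := le_trans (le_max_left _ _) (le_max_left _ _)
    have : ((N : ℤ) : ℚ) ≤ ((2 * 0 + i + 2 * J : ℤ) : ℚ) := by
      have hJ' : ((⌈((N : ℚ) - i) / 2⌉ : ℤ) : ℚ) ≤ J := by exact_mod_cast hJ
      push_cast; linarith
    exact_mod_cast this
  · rintro x ⟨m, j, hm, hN, rfl⟩
    have h1 : J ≤ m + j := by
      refine max_le (max_le (Int.ceil_le.2 ?_) (by omega)) (by omega)
      have : ((N : ℤ) : ℚ) ≤ ((2 * m + i + 2 * j : ℤ) : ℚ) := by exact_mod_cast hN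
      push_cast at this ⊢; linarith
    have h1' : (J : ℚ) ≤ m + j := by exact_mod_cast h1
    have hm0 : (0 : ℚ) ≤ m := by exact_mod_cast (show (0 : ℤ) ≤ m by omega)
    nlinarith

end Groth.Agent.S16415
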