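import Groth.Statements.S16417
import Mathlib

set_option autoImplicit false
universe u v w
open Dieud

namespace Groth.Agent.S16417

/-- For a prime p and a perfect field k of characteristic p, write W = W(k) for the ring of Witt vectors
and σ for its Frobenius; let M and N be free W-modules of finite rank, each with additive maps F
(σ-semilinear) and V (with V(σ(a)m) = aV(m)) satisfying FV = VF = p, and H = Hom_W(M, N); write VM ⊆
M and VN ⊆ N for the images of V. (a) A W-linear h : M → N maps VM into VN if and only if h(V m) =
V(h'(m)) for all m for some W-linear h' : M → N (so the maps with this property form H ∩ V·H). (b)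
The natural map from H to the W-linear maps VM → N/VN has image exactly the maps vanishing on pM =
V(FM): every such map is induced by some h ∈ H. (c) The W-length of H/(H ∩ V·H) is r₂ s₁, where r₂
is the length of N/VN and s₁ = rank M − length(M/VM) is the length of VM/pM. (The published
statement is for the Cartier modules of two p-divisible formal groups over k, every slope of the
first below every slope of the second, and phrases (b), (c) as an isomorphism of H/(H ∩ VH) with
Hom_k(VM/pM, N/VN); only the structure listed is used, so connectedness and the slope condition are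
not assumed.) -/
theorem result
    (p : ℕ) [Fact p.Prime] (k : Type u) [Field k] [CharP k p] [PerfectRing k p]
    (M : Type v) [AddCommGroup M] [Module (WittVector p k) M]
    [Module.Free (WittVector p k) M] [Module.Finite (WittVector p k) M]
    (N : Type w) [AddCommGroup N] [Module (WittVector p k) N]
    [Module.Free (WittVector p k) N] [Module.Finite (WittVector p k) N]
    (FM VM : M →+ M) (FN VN : N →+ N)
    (hFM : ∀ (a : WittVector p k) (m : M), FM (a • m) = WittVector.frobenius a • FM m)
    (hVM : ∀ (a : WittVector p k) (m : M), VM (WittVector.frobenius a • m) = a • VM m)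
    (hFVM : ∀ m : M, FM (VM m) = (p : WittVector p k) • m)
    (hVFM : ∀ m : M, VM (FM m) = (p : WittVector p k) • m)
    (hFN : ∀ (a : WittVector p k) (n : N), FN (a • n) = WittVector.frobenius a • FN n)
    (hVN : ∀ (a : WittVector p k) (n : N), VN (WittVector.frobenius a • n) = a • VN n)
    (hFVN : ∀ n : N, FN (VN n) = (p : WittVector p k) • n)
    (hVFN : ∀ n : N, VN (FN n) = (p : WittVector p k) • n)
    (r₂ s₁ : ℕ)
    (hr₂ : Module.length (WittVector p k) (N ⧸ Submodule.span (WittVector p k) (Set.range VN)) = r₂)
    (hs₁ : (Module.finrank (WittVector p k) M : ℕ∞) =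
      Module.length (WittVector p k) (M ⧸ Submodule.span (WittVector p k) (Set.range VM)) + s₁) :
    (∀ h : M →ₗ[WittVector p k] N,
      (∀ m : M, h (VM m) ∈ Submodule.span (WittVector p k) (Set.range VN)) ↔
        ∃ h' : M →ₗ[WittVector p k] N, ∀ m : M, h (VM m) = VN (h' m)) ∧
    (∀ g : Submodule.span (WittVector p k) (Set.range VM) →ₗ[WittVector p k]
        N ⧸ Submodule.span (WittVector p k) (Set.range VN),
      (∀ m : M, g ⟨VM (FM m), Submodule.subset_span ⟨FM m, rfl⟩⟩ = 0) →
      ∃ h : M →ₗ[WittVector p k] N, ∀ x : Submodule.span (WittVector p k) (Set.range VM),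
        (Submodule.span (WittVector p k) (Set.range VN)).mkQ (h x) = g x) ∧
    Module.length (WittVector p k) ((M →ₗ[WittVector p k] N) ⧸
      ⨅ m : M, (Submodule.span (WittVector p k) (Set.range VN)).comap
        (LinearMap.applyₗ (VM m) : (M →ₗ[WittVector p k] N) →ₗ[WittVector p k] N)) = (r₂ * s₁ : ℕ) := by
  classical
  -- `M` and `N` are torsion free, the image of `V` is a submodule
  have hσ := WittVector.frobenius_bijective p k
  have hp0 : (p : WittVector p k) ≠ 0 := (WittVector.irreducible p).ne_zero
  have hspanN : ∀ y, y ∈ Submodule.span (WittVector p k) (Set.range VN) ↔ ∃ n, VN n = y := by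
    intro y
    refine ⟨fun hy => ?_, fun ⟨n, hn⟩ => hn ▸ Submodule.subset_span ⟨n, rfl⟩⟩
    induction hy using Submodule.span_induction with
    | mem x hx => exact hx
    | zero => exact ⟨0, map_zero _⟩
    | add x y _ _ hx hy =>
      obtain ⟨a, rfl⟩ := hx
      obtain ⟨b, rfl⟩ := hy
      exact ⟨a + b, map_add _ _ _⟩
    | smul c x _ hx =>
      obtain ⟨a, rfl⟩ := hx
      exact ⟨WittVector.frobenius c • a, hVN c a⟩
  have hVinj : Function.Injective VN := by
    intro a b h
    have := congrArg FN h
    rw [hFVN, hFVN] at this
    exact smul_right_injective N hp0 this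
  let VS : Submodule (WittVector p k) M := Submodule.span (WittVector p k) (Set.range VM)
  let WS : Submodule (WittVector p k) N := Submodule.span (WittVector p k) (Set.range VN)
  have hpM : ∀ m : M, (p : WittVector p k) • m ∈ VS := fun m =>
    hVFM m ▸ Submodule.subset_span ⟨FM m, rfl⟩
  have hpN : ∀ n : N, (p : WittVector p k) • n ∈ WS := fun n =>
    hVFN n ▸ Submodule.subset_span ⟨FN n, rfl⟩
  -- an adapted basis
  obtain ⟨nV, bM, bV, em, a, snf⟩ := VS.smithNormalForm (Module.Free.chooseBasis (WittVector p k) M)
  let S := {i : Module.Free.ChooseBasisIndex (WittVector p k) M // bM i ∈ VS}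
  have hmem : ∀ x : M, x ∈ VS ↔
      ∀ i, bM i ∉ VS → (p : WittVector p k) ∣ bM.repr x i := by
    intro x
    constructor
    · intro hx i hi
      have hx' : x = ∑ j, bV.repr ⟨x, hx⟩ j • (a j • bM (em j)) := by
        conv_lhs => rw [show x = ((⟨x, hx⟩ : VS) : M) from rfl, ← bV.sum_repr ⟨x, hx⟩]
        simp only [Submodule.coe_sum, Submodule.coe_smul, snf]
      rw [hx', map_sum, Finsupp.finsetSum_apply]
      refine Finset.dvd_sum fun j _ => ?_
      rw [map_smul, map_smul, bM.repr_self, Finsupp.smul_apply, Finsupp.smul_apply,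
        Finsupp.single_apply, smul_eq_mul, smul_eq_mul]
      by_cases hj : em j = i
      · refine Dvd.dvd.mul_left (Dvd.dvd.mul_right ?_ _) _
        have hu : ¬ IsUnit (a j) := fun hu => hi (by
          rw [← hj, ← hu.unit_spec] at *
          exact (Submodule.smul_mem_iff_of_isUnit _ hu).1 (snf j ▸ (bV j).2))
        have h1 : a j ∈ IsLocalRing.maximalIdeal (WittVector p k) := hu
        rw [(WittVector.irreducible p).maximalIdeal_eq, Ideal.mem_span_singleton] at h1
        exact h1
      · rw [if_neg hj, mul_zero, mul_zero]
        exact dvd_zero _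
    · intro h
      rw [← bM.sum_repr x]
      refine Submodule.sum_mem _ fun i _ => ?_
      by_cases hi : bM i ∈ VS
      · exact Submodule.smul_mem _ _ hi
      · obtain ⟨c, hc⟩ := h i hi
        rw [hc, mul_smul]
        exact hpM _
  refine ⟨fun h => ⟨fun hh => ?_, fun ⟨h', hh'⟩ m =>
      hh' m ▸ Submodule.subset_span ⟨h' m, rfl⟩⟩, fun g hg => ?_, ?_⟩
  · choose h' hh' using fun m => (hspanN _).1 (hh m)
    refine ⟨⟨⟨h', fun x y => hVinj ?_⟩, fun c m => hVinj ?_⟩, fun m => (hh' m).symm⟩
    · rw [map_add, hh', hh', hh', map_add, map_add]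
    · obtain ⟨c, rfl⟩ := hσ.2 c
      simp only [RingHom.id_apply]
      rw [hh', hVM, map_smul, hVN, hh']
  · choose lift hlift using fun y : N ⧸ WS => Submodule.mkQ_surjective WS y
    let h : M →ₗ[WittVector p k] N := bM.constr (WittVector p k)
      (fun i => if hi : bM i ∈ VS then lift (g ⟨bM i, hi⟩) else 0)
    refine ⟨h, fun x => ?_⟩
    obtain ⟨x, hx⟩ := x
    have key : ∀ i, ∀ c : WittVector p k, ∀ hc : c • bM i ∈ VS,
        bM i ∈ VS ∨ (p : WittVector p k) ∣ c → WS.mkQ (h (c • bM i)) = g ⟨c • bM i, hc⟩ := by
      intro i c hc hor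
      rw [map_smul, map_smul]
      by_cases hi : bM i ∈ VS
      · simp only [h, Module.Basis.constr_basis, dif_pos hi]
        rw [hlift, ← map_smul]
        rfl
      · obtain ⟨d, rfl⟩ := hor.resolve_left hi
        simp only [h, Module.Basis.constr_basis, dif_neg hi, map_zero, smul_zero]
        refine ((congrArg g (Subtype.ext ?_)).trans (hg (d • bM i))).symm
        exact (mul_smul _ _ _).trans (hVFM _).symm
    have hsum : (⟨x, hx⟩ : VS) = ∑ i, (⟨bM.repr x i • bM i, by
        by_cases hi : bM i ∈ VS
        · exact Submodule.smul_mem _ _ hi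
        · obtain ⟨d, hd⟩ := (hmem x).1 hx i hi
          rw [hd, mul_smul]
          exact hpM _⟩ : VS) := Subtype.ext (by rw [Submodule.coe_sum]; exact (bM.sum_repr x).symm)
    show WS.mkQ (h x) = g ⟨x, hx⟩
    rw [hsum, map_sum g]
    conv_lhs => rw [← bM.sum_repr x, map_sum, map_sum]
    refine Finset.sum_congr rfl fun i _ => key i _ _ ?_
    by_cases hi : bM i ∈ VS
    · exact Or.inl hi
    · exact Or.inr ((hmem x).1 hx i hi)
  · let Φ : (M →ₗ[WittVector p k] N) →ₗ[WittVector p k] (S → N ⧸ WS) :=
      LinearMap.pi fun i => WS.mkQ.comp (LinearMap.applyₗ (bM i.1))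
    have hker : LinearMap.ker Φ = ⨅ m : M, WS.comap
        (LinearMap.applyₗ (VM m) : (M →ₗ[WittVector p k] N) →ₗ[WittVector p k] N) := by
      ext h
      simp only [Submodule.mem_iInf, Submodule.mem_comap, LinearMap.mem_ker]
      constructor
      · intro h0 m
        show h (VM m) ∈ WS
        have hx : VM m ∈ VS := Submodule.subset_span ⟨m, rfl⟩
        rw [← bM.sum_repr (VM m), map_sum]
        refine Submodule.sum_mem _ fun i _ => ?_
        rw [map_smul]
        by_cases hi : bM i ∈ VS
        · exact Submodule.smul_mem _ _ ((Submodule.Quotient.mk_eq_zero WS).1 (congrFun h0 ⟨i, hi⟩))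
        · obtain ⟨d, hd⟩ := (hmem _).1 hx i hi
          rw [hd, mul_smul]
          exact hpN _
      · intro h0
        funext i
        refine (Submodule.Quotient.mk_eq_zero WS).2 ?_
        show h (bM i.1) ∈ WS
        have hle : VS ≤ WS.comap h := Submodule.span_le.2 (by rintro _ ⟨m, rfl⟩; exact h0 m)
        exact hle i.2
    have hsurj : Function.Surjective Φ := by
      intro v
      choose lift hlift using fun y : N ⧸ WS => Submodule.mkQ_surjective WS y
      refine ⟨bM.constr (WittVector p k) (fun i => if hi : bM i ∈ VS then lift (v ⟨i, hi⟩) else 0), ?_⟩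
      funext i
      simp only [Φ, LinearMap.pi_apply, LinearMap.comp_apply, LinearMap.applyₗ_apply_apply,
        Module.Basis.constr_basis, dif_pos i.2, hlift]
      rfl
    show Module.length (WittVector p k) ((M →ₗ[WittVector p k] N) ⧸ ⨅ m : M, WS.comap
        (LinearMap.applyₗ (VM m) : (M →ₗ[WittVector p k] N) →ₗ[WittVector p k] N)) = _
    rw [← hker, (Φ.quotKerEquivOfSurjective hsurj).length_eq, Module.length_pi_of_fintype]
    simp only [Finset.sum_const, Finset.card_univ]
    rw [show Module.length (WittVector p k) (N ⧸ WS) = r₂ from hr₂, nsmul_eq_mul]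
    -- the length of `M ⧸ VM M`
    let P : Ideal (WittVector p k) := Ideal.span {(p : WittVector p k)}
    have hPsimple : IsSimpleModule (WittVector p k) (WittVector p k ⧸ P) := by
      have hmax : P.IsMaximal := by
        show (Ideal.span {(p : WittVector p k)}).IsMaximal
        rw [← (WittVector.irreducible p).maximalIdeal_eq]
        exact IsLocalRing.maximalIdeal.isMaximal _
      exact isSimpleModule_iff_isCoatom.2 hmax.out
    let T := {i : Module.Free.ChooseBasisIndex (WittVector p k) M // ¬ bM i ∈ VS}
    let Ψ : M →ₗ[WittVector p k] (T → WittVector p k ⧸ P) :=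
      LinearMap.pi fun i => P.mkQ.comp (bM.coord i.1)
    have hΨker : LinearMap.ker Ψ = VS := by
      ext x
      rw [LinearMap.mem_ker, hmem]
      constructor
      · intro h0 i hi
        exact Ideal.mem_span_singleton.1 ((Submodule.Quotient.mk_eq_zero P).1 (congrFun h0 ⟨i, hi⟩))
      · intro h0
        funext i
        exact (Submodule.Quotient.mk_eq_zero P).2 (Ideal.mem_span_singleton.2 (h0 i.1 i.2))
    have hΨ : Function.Surjective Ψ := by
      intro v
      choose lift hlift using fun i => Submodule.mkQ_surjective P (v i)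
      refine ⟨bM.equivFun.symm fun i => if hi : ¬ bM i ∈ VS then lift ⟨i, hi⟩ else 0, ?_⟩
      funext i
      simp only [Ψ, LinearMap.pi_apply, LinearMap.comp_apply, Module.Basis.coord_apply,
        ← Module.Basis.equivFun_apply, LinearEquiv.apply_symm_apply, dif_pos i.2, hlift]
      rfl
    rw [show Module.length (WittVector p k) (M ⧸ Submodule.span (WittVector p k) (Set.range VM)) =
        (Fintype.card T : ℕ∞) by
      show Module.length (WittVector p k) (M ⧸ VS) = _
      rw [((Submodule.quotEquivOfEq _ _ hΨker.symm).trans (Ψ.quotKerEquivOfSurjective hΨ)).length_eq,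
        Module.length_pi_of_fintype]
      simp [Module.length_eq_one],
      Module.finrank_eq_card_chooseBasisIndex] at hs₁
    have hcard : Fintype.card S + Fintype.card T =
        Fintype.card (Module.Free.ChooseBasisIndex (WittVector p k) M) := by
      rw [← Fintype.card_sum]
      exact Fintype.card_congr (Equiv.sumCompl fun i => bM i ∈ VS)
    have hs : s₁ = Fintype.card S := by
      have : Fintype.card (Module.Free.ChooseBasisIndex (WittVector p k) M) = Fintype.card T + s₁ := by
        exact_mod_cast hs₁
      omega
    subst hs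
    push_cast
    ring

end Groth.Agent.S16417
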