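import Groth.Statements.S16419
import Mathlib.LinearAlgebra.TensorProduct.Quotient
import Mathlib.LinearAlgebra.TensorProduct.RightExactness
import Mathlib.RingTheory.TensorProduct.Basic
import Mathlib.Algebra.Module.Projective
import Mathlib.Algebra.Exact.Basic
import Mathlib.LinearAlgebra.Projection

set_option autoImplicit false
universe u v
open CAlg

namespace Groth.Agent.S16419

open scoped TensorProduct in
/-- For a commutative local Artinian ring R and an exact sequence 0 → H₁ → H → H₂ → 0 of finite free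
R-modules, let F₁ ⊆ H₁ and F₂ ⊆ H₂ be submodules with H₁/F₁ and H₂/F₂ free; let 𝔫 be an ideal of R
of square zero, R̄ = R/𝔫, and F̄ an R̄-submodule of H̄ = R̄ ⊗ H with free quotient such that F̄
meets the image of R̄ ⊗ H₁ in the image of R̄ ⊗ F₁ and the image of F̄ in R̄ ⊗ H₂ is the image of R̄
⊗ F₂. Then there is a direct summand F of H with F ∩ H₁ = F₁, whose image in H̄ is F̄ and whose
image in H₂ is F₂. -/
theorem result
    (R : Type u) [CommRing R] [IsArtinianRing R] [IsLocalRing R]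
    (H₁ : Type v) (H : Type v) (H₂ : Type v)
    [AddCommGroup H₁] [Module R H₁] [AddCommGroup H] [Module R H] [AddCommGroup H₂] [Module R H₂]
    [Module.Free R H₁] [Module.Finite R H₁] [Module.Free R H] [Module.Finite R H]
    [Module.Free R H₂] [Module.Finite R H₂]
    (f : H₁ →ₗ[R] H) (g : H →ₗ[R] H₂) (hf : Function.Injective f) (hg : Function.Surjective g)
    (hfg : Function.Exact f g)
    (F₁ : Submodule R H₁) (F₂ : Submodule R H₂) [Module.Free R (H₁ ⧸ F₁)] [Module.Free R (H₂ ⧸ F₂)]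
    (𝔫 : Ideal R) (hn : 𝔫 * 𝔫 = ⊥)
    (Fb : Submodule (R ⧸ 𝔫) ((R ⧸ 𝔫) ⊗[R] H))
    [Module.Free (R ⧸ 𝔫) (((R ⧸ 𝔫) ⊗[R] H) ⧸ Fb)]
    (h1 : Fb ⊓ LinearMap.range (f.baseChange (R ⧸ 𝔫)) =
      Submodule.map (f.baseChange (R ⧸ 𝔫)) (F₁.baseChange (R ⧸ 𝔫)))
    (h2 : Submodule.map (g.baseChange (R ⧸ 𝔫)) Fb = F₂.baseChange (R ⧸ 𝔫)) :
    ∃ F : Submodule R H, (∃ C : Submodule R H, IsCompl F C) ∧
      F ⊓ LinearMap.range f = Submodule.map f F₁ ∧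
      F.baseChange (R ⧸ 𝔫) = Fb ∧ Submodule.map g F = F₂ := by
  classical
  have key0 : ∀ {M : Type v} [AddCommGroup M] [Module R M] (z : (R ⧸ 𝔫) ⊗[R] M),
      ∃ m : M, (1 : R ⧸ 𝔫) ⊗ₜ[R] m = z :=
    fun z => TensorProduct.mk_surjective R _ (R ⧸ 𝔫) Ideal.Quotient.mk_surjective z
  have ker0 : ∀ m : H₂, (1 : R ⧸ 𝔫) ⊗ₜ[R] m = 0 → ∃ z : H, (1 : R ⧸ 𝔫) ⊗ₜ[R] z = 0 ∧ g z = m := by
    intro m hm
    have hz : ∀ {M : Type v} [AddCommGroup M] [Module R M] (a : M),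
        (1 : R ⧸ 𝔫) ⊗ₜ[R] a = 0 ↔ a ∈ 𝔫 • (⊤ : Submodule R M) := fun a => by
      rw [← (TensorProduct.quotTensorEquivQuotSMul _ 𝔫).map_eq_zero_iff, ← map_one (Ideal.Quotient.mk 𝔫),
        TensorProduct.quotTensorEquivQuotSMul_mk_tmul, one_smul, Submodule.Quotient.mk_eq_zero]
    rw [hz, ← LinearMap.range_eq_top.2 hg, LinearMap.range_eq_map, ← Submodule.map_smul''] at hm
    obtain ⟨z, hz1, hz2⟩ := hm
    exact ⟨z, (hz z).2 hz1, hz2⟩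
  let P : Submodule R H := (Fb.restrictScalars R).comap (TensorProduct.mk R (R ⧸ 𝔫) H 1) ⊓ F₂.comap g
  let gP : P →ₗ[R] F₂ := (g ∘ₗ P.subtype).codRestrict F₂ fun x => x.2.2
  have hgP : Function.Surjective gP := by
    rintro ⟨y, hy⟩
    obtain ⟨w, hw, hwy⟩ : (1 : R ⧸ 𝔫) ⊗ₜ[R] y ∈ Submodule.map (g.baseChange (R ⧸ 𝔫)) Fb :=
      h2 ▸ Submodule.tmul_mem_baseChange_of_mem 1 hy
    obtain ⟨x0, rfl⟩ := key0 w
    rw [LinearMap.baseChange_tmul] at hwy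
    obtain ⟨z, hz1, hz2⟩ := ker0 (g x0 - y) (by rw [TensorProduct.tmul_sub, hwy, sub_self])
    refine ⟨⟨x0 - z, ?_, ?_⟩, Subtype.ext ?_⟩
    · show (1 : R ⧸ 𝔫) ⊗ₜ[R] (x0 - z) ∈ Fb
      rw [TensorProduct.tmul_sub, hz1, sub_zero]
      exact hw
    · show g (x0 - z) ∈ F₂
      rw [map_sub, hz2, sub_sub_cancel]
      exact hy
    · show g (x0 - z) = y
      rw [map_sub, hz2, sub_sub_cancel]
  obtain ⟨t₂, ht₂⟩ := Module.projective_lifting_property F₂.mkQ LinearMap.id F₂.mkQ_surjective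
  obtain ⟨t₁, ht₁⟩ := Module.projective_lifting_property F₁.mkQ LinearMap.id F₁.mkQ_surjective
  let π₂ : H₂ →ₗ[R] F₂ := (LinearMap.id - t₂ ∘ₗ F₂.mkQ).codRestrict F₂ fun x => by
    rw [← Submodule.Quotient.mk_eq_zero, ← Submodule.mkQ_apply, LinearMap.sub_apply, map_sub, LinearMap.id_apply,
      LinearMap.comp_apply, ← LinearMap.comp_apply F₂.mkQ t₂, ht₂, LinearMap.id_apply, sub_self]
  let π₁ : H₁ →ₗ[R] F₁ := (LinearMap.id - t₁ ∘ₗ F₁.mkQ).codRestrict F₁ fun x => by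
    rw [← Submodule.Quotient.mk_eq_zero, ← Submodule.mkQ_apply, LinearMap.sub_apply, map_sub, LinearMap.id_apply,
      LinearMap.comp_apply, ← LinearMap.comp_apply F₁.mkQ t₁, ht₁, LinearMap.id_apply, sub_self]
  have hπ₂ : ∀ y : F₂, π₂ (y : H₂) = y := fun y => Subtype.ext (by
    show (y : H₂) - t₂ (F₂.mkQ (y : H₂)) = y
    rw [Submodule.mkQ_apply, (Submodule.Quotient.mk_eq_zero F₂).2 y.2, map_zero, sub_zero])
  have hπ₁ : ∀ a : F₁, π₁ (a : H₁) = a := fun a => Subtype.ext (by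
    show (a : H₁) - t₁ (F₁.mkQ (a : H₁)) = a
    rw [Submodule.mkQ_apply, (Submodule.Quotient.mk_eq_zero F₁).2 a.2, map_zero, sub_zero])
  haveI : Module.Projective R F₂ :=
    Module.Projective.of_split F₂.subtype π₂ (LinearMap.ext hπ₂)
  obtain ⟨s0, hs0⟩ := Module.projective_lifting_property gP LinearMap.id hgP
  let s : F₂ →ₗ[R] H := P.subtype ∘ₗ s0
  have hgs : ∀ y, g (s y) = (y : H₂) := fun y => congrArg Subtype.val (LinearMap.congr_fun hs0 y)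
  have hsb : ∀ y, (1 : R ⧸ 𝔫) ⊗ₜ[R] s y ∈ Fb := fun y => (s0 y).2.1
  have hgf : ∀ a, g (f a) = 0 := fun a => (hfg _).2 ⟨a, rfl⟩
  obtain ⟨σ, hσ⟩ := Module.projective_lifting_property g LinearMap.id hg
  have hgσ : ∀ y, g (σ y) = y := LinearMap.congr_fun hσ
  let e : H₁ ≃ₗ[R] LinearMap.range f := LinearEquiv.ofInjective f hf
  let r : H →ₗ[R] H₁ := e.symm.toLinearMap ∘ₗ (LinearMap.id - σ ∘ₗ g).codRestrict (LinearMap.range f) fun x =>
    (hfg _).1 (by rw [LinearMap.sub_apply, map_sub, LinearMap.id_apply, LinearMap.comp_apply, hgσ, sub_self])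
  have hrf : ∀ a, r (f a) = a := fun a => e.symm_apply_eq.2 (Subtype.ext (by
    show f a - σ (g (f a)) = f a
    rw [hgf, map_zero, sub_zero]))
  let Φ : H →ₗ[R] H := s ∘ₗ π₂ ∘ₗ g + f ∘ₗ F₁.subtype ∘ₗ π₁ ∘ₗ r ∘ₗ (LinearMap.id - s ∘ₗ π₂ ∘ₗ g)
  let F : Submodule R H := Submodule.map f F₁ ⊔ LinearMap.range s
  have hΦmem : ∀ x, Φ x ∈ F := fun x =>
    add_mem (Submodule.mem_sup_right ⟨_, rfl⟩) (Submodule.mem_sup_left ⟨_, (π₁ _).2, rfl⟩)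
  have hΦid : ∀ x ∈ F, Φ x = x := by
    intro x hx
    obtain ⟨_, ⟨a, ha, rfl⟩, _, ⟨y, rfl⟩, rfl⟩ := Submodule.mem_sup.1 hx
    have h3 : π₂ (g (f a + s y)) = y := by rw [map_add, hgf, zero_add, hgs, hπ₂]
    show s (π₂ (g (f a + s y))) + f (π₁ (r (f a + s y - s (π₂ (g (f a + s y)))))) = f a + s y
    rw [h3, add_sub_cancel_right, hrf, hπ₁ ⟨a, ha⟩, add_comm]
  have hFb : ∀ a ∈ F₁, (1 : R ⧸ 𝔫) ⊗ₜ[R] f a ∈ Fb := fun a ha => by
    have h4 : f.baseChange (R ⧸ 𝔫) (1 ⊗ₜ[R] a) ∈ Fb ⊓ LinearMap.range (f.baseChange (R ⧸ 𝔫)) :=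
      h1 ▸ Submodule.mem_map_of_mem (Submodule.tmul_mem_baseChange_of_mem 1 ha)
    exact h4.1
  refine ⟨F, ⟨LinearMap.ker (Φ.codRestrict F hΦmem), LinearMap.isCompl_of_proj fun x => Subtype.ext (hΦid x.1 x.2)⟩,
    le_antisymm ?_ (le_inf le_sup_left LinearMap.map_le_range), le_antisymm ?_ ?_, le_antisymm ?_ ?_⟩
  · rintro x ⟨hx, b, rfl⟩
    obtain ⟨_, ⟨a, ha, rfl⟩, _, ⟨y, rfl⟩, hxy⟩ := Submodule.mem_sup.1 hx
    have h5 : (y : H₂) = 0 := by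
      have := congrArg g hxy
      rwa [map_add, hgf, zero_add, hgs, hgf] at this
    rw [← hxy, Subtype.ext (a1 := y) (a2 := 0) h5, map_zero, add_zero]
    exact ⟨a, ha, rfl⟩
  · rw [Submodule.baseChange_eq_span, Submodule.span_le]
    rintro _ ⟨x, hx, rfl⟩
    obtain ⟨_, ⟨a, ha, rfl⟩, _, ⟨y, rfl⟩, rfl⟩ := Submodule.mem_sup.1 hx
    show (1 : R ⧸ 𝔫) ⊗ₜ[R] (f a + s y) ∈ Fb
    rw [TensorProduct.tmul_add]
    exact add_mem (hFb a ha) (hsb y)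
  · intro w hw
    have hle : F₂.baseChange (R ⧸ 𝔫) ≤ Submodule.map (g.baseChange (R ⧸ 𝔫)) (F.baseChange (R ⧸ 𝔫) ⊓ Fb) := by
      rw [Submodule.baseChange_eq_span, Submodule.span_le]
      rintro _ ⟨y, hy, rfl⟩
      refine ⟨1 ⊗ₜ[R] s ⟨y, hy⟩, ⟨Submodule.tmul_mem_baseChange_of_mem 1 (Submodule.mem_sup_right ⟨_, rfl⟩), hsb _⟩, ?_⟩
      rw [LinearMap.baseChange_tmul, hgs]
      rfl
    obtain ⟨v, ⟨hv1, hv2⟩, hv⟩ := hle (h2.le (Submodule.mem_map_of_mem hw))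
    have hex : Function.Exact (f.baseChange (R ⧸ 𝔫)) (g.baseChange (R ⧸ 𝔫)) := by
      simp only [LinearMap.baseChange_eq_ltensor]
      exact lTensor_exact _ hfg hg
    obtain ⟨q, hq, hq'⟩ : w - v ∈ Submodule.map (f.baseChange (R ⧸ 𝔫)) (F₁.baseChange (R ⧸ 𝔫)) :=
      h1.le ⟨sub_mem hw hv2, (hex _).1 (by rw [map_sub, hv, sub_self])⟩
    have h6 : Submodule.map (f.baseChange (R ⧸ 𝔫)) (F₁.baseChange (R ⧸ 𝔫)) ≤ F.baseChange (R ⧸ 𝔫) := by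
      rw [Submodule.map_le_iff_le_comap, Submodule.baseChange_eq_span, Submodule.span_le]
      rintro _ ⟨a, ha, rfl⟩
      exact Submodule.tmul_mem_baseChange_of_mem 1 (Submodule.mem_sup_left ⟨a, ha, rfl⟩)
    rw [← sub_add_cancel w v]
    exact add_mem (h6 ⟨q, hq, hq'⟩) hv1
  · rintro _ ⟨x, hx, rfl⟩
    obtain ⟨_, ⟨a, ha, rfl⟩, _, ⟨y, rfl⟩, rfl⟩ := Submodule.mem_sup.1 hx
    rw [map_add, hgf, zero_add, hgs]
    exact y.2
  · intro y hy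
    exact ⟨s ⟨y, hy⟩, Submodule.mem_sup_right ⟨_, rfl⟩, hgs _⟩

end Groth.Agent.S16419
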