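import Groth.Statements.S16420
import Mathlib.LinearAlgebra.TensorProduct.Quotient
import Mathlib.RingTheory.TensorProduct.Basic
import Mathlib.Algebra.Module.Projective
import Mathlib.Algebra.Exact.Basic

set_option autoImplicit false
universe u v
open CAlg

namespace Groth.Agent.S16420

open scoped TensorProduct

section
variable {R : Type u} [CommRing R] {M N : Type v} [AddCommGroup M] [Module R M] [AddCommGroup N] [Module R N]

theorem one_tmul_eq_zero_iff (I : Ideal R) (m : M) : (1 : R ⧸ I) ⊗ₜ[R] m = 0 ↔ m ∈ I • (⊤ : Submodule R M) := by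
  rw [← (TensorProduct.quotTensorEquivQuotSMul M I).map_eq_zero_iff, ← map_one (Ideal.Quotient.mk I),
    TensorProduct.quotTensorEquivQuotSMul_mk_tmul, one_smul, Submodule.Quotient.mk_eq_zero]

theorem map_smul_top_mem (I : Ideal R) (φ : M →ₗ[R] N) {m : M} (hm : m ∈ I • (⊤ : Submodule R M)) :
    φ m ∈ I • (LinearMap.range φ) := by
  rw [← Submodule.map_top, ← Submodule.map_smul'']
  exact Submodule.mem_map_of_mem hm

theorem exists_projection (F : Submodule R M) [Module.Free R (M ⧸ F)] :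
    ∃ π : M →ₗ[R] M, (∀ x, π x ∈ F) ∧ ∀ x ∈ F, π x = x := by
  obtain ⟨s, hs⟩ := Module.projective_lifting_property F.mkQ LinearMap.id F.mkQ_surjective
  refine ⟨LinearMap.id - s ∘ₗ F.mkQ, fun x => ?_, fun x hx => ?_⟩
  · rw [← Submodule.Quotient.mk_eq_zero, ← Submodule.mkQ_apply]
    rw [LinearMap.sub_apply, map_sub, LinearMap.id_apply, LinearMap.comp_apply, ← LinearMap.comp_apply F.mkQ s, hs,
      LinearMap.id_apply, sub_self]
  · rw [LinearMap.sub_apply, LinearMap.comp_apply, Submodule.mkQ_apply, (Submodule.Quotient.mk_eq_zero F).2 hx,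
      map_zero, sub_zero]; rfl

end

open TensorProduct in
/-- For a commutative local Artinian ring R and an exact sequence 0 → H₁ → H → H₂ → 0 of finite free
R-modules, let F₁ ⊆ H₁ and F₂ ⊆ H₂ be submodules with free quotients, 𝔫 an ideal of R of square
zero, R̄ = R/𝔫, and F̄ ⊆ H̄ = R̄ ⊗ H an R̄-submodule with free quotient meeting the image of R̄ ⊗ H₁
in the image of R̄ ⊗ F₁ and mapping onto the image of R̄ ⊗ F₂; let L be the set of direct summands F
of H with F ∩ H₁ = F₁, with image F̄ in H̄ and with image F₂ in H₂. Then L is a torsor under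
Hom_R(F₂, 𝔫(H₁/F₁)), acting as follows: an R-linear u : H₂ → H₁ with u(H₂) ⊆ 𝔫H₁ moves F ∈ L to the
image of F under x ↦ x + f(u(g(x))). Precisely, for F ∈ L: (1) that image again lies in L; (2) it
equals F if and only if u(F₂) ⊆ 𝔫F₁; (3) every F' ∈ L is obtained from F in this way for some such
u. (The published statement phrases the torsor under the R̄-linear maps from F̄₂ to 𝔫 ⊗ (H̄₁/F̄₁), a
group identified with the maps u as above modulo those with u(F₂) ⊆ 𝔫F₁, and describes the action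
through a lift F₂ → 𝔫 ⊗ H₁ composed with F → F/F₁ ≅ F₂; restricted to F this is x ↦ f(u(g(x))).) -/
theorem result
    (R : Type u) [CommRing R] [IsArtinianRing R] [IsLocalRing R]
    (H₁ : Type v) (H : Type v) (H₂ : Type v)
    [AddCommGroup H₁] [Module R H₁] [AddCommGroup H] [Module R H] [AddCommGroup H₂] [Module R H₂]
    [Module.Free R H₁] [Module.Finite R H₁] [Module.Free R H] [Module.Finite R H]
    [Module.Free R H₂] [Module.Finite R H₂]
    (f : H₁ →ₗ[R] H) (g : H →ₗ[R] H₂) (hf : Function.Injective f) (hg : Function.Surjective g)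
    (hfg : Function.Exact f g)
    (F₁ : Submodule R H₁) (F₂ : Submodule R H₂) [Module.Free R (H₁ ⧸ F₁)] [Module.Free R (H₂ ⧸ F₂)]
    (𝔫 : Ideal R) (hn : 𝔫 * 𝔫 = ⊥)
    (Fb : Submodule (R ⧸ 𝔫) ((R ⧸ 𝔫) ⊗[R] H))
    [Module.Free (R ⧸ 𝔫) (((R ⧸ 𝔫) ⊗[R] H) ⧸ Fb)]
    (h1 : Fb ⊓ LinearMap.range (f.baseChange (R ⧸ 𝔫)) =
      Submodule.map (f.baseChange (R ⧸ 𝔫)) (F₁.baseChange (R ⧸ 𝔫)))
    (h2 : Submodule.map (g.baseChange (R ⧸ 𝔫)) Fb = F₂.baseChange (R ⧸ 𝔫))
    (F F' : Submodule R H)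
    (hF : (∃ C : Submodule R H, IsCompl (F) C) ∧
      (F) ⊓ LinearMap.range f = Submodule.map f F₁ ∧
      Submodule.baseChange (R ⧸ 𝔫) (F) = Fb ∧ Submodule.map g (F) = F₂)
    (hF' : (∃ C : Submodule R H, IsCompl (F') C) ∧
      (F') ⊓ LinearMap.range f = Submodule.map f F₁ ∧
      Submodule.baseChange (R ⧸ 𝔫) (F') = Fb ∧ Submodule.map g (F') = F₂) :
    (∀ u : H₂ →ₗ[R] H₁, (∀ y : H₂, u y ∈ 𝔫 • (⊤ : Submodule R H₁)) →
      (∃ C : Submodule R H, IsCompl (Submodule.map (LinearMap.id + f ∘ₗ u ∘ₗ g) F) C) ∧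
      (Submodule.map (LinearMap.id + f ∘ₗ u ∘ₗ g) F) ⊓ LinearMap.range f = Submodule.map f F₁ ∧
      Submodule.baseChange (R ⧸ 𝔫) (Submodule.map (LinearMap.id + f ∘ₗ u ∘ₗ g) F) = Fb ∧ Submodule.map g (Submodule.map (LinearMap.id + f ∘ₗ u ∘ₗ g) F) = F₂) ∧
    (∀ u : H₂ →ₗ[R] H₁, (∀ y : H₂, u y ∈ 𝔫 • (⊤ : Submodule R H₁)) →
      (Submodule.map (LinearMap.id + f ∘ₗ u ∘ₗ g) F = F ↔ ∀ y ∈ F₂, u y ∈ 𝔫 • F₁)) ∧
    (∃ u : H₂ →ₗ[R] H₁, (∀ y : H₂, u y ∈ 𝔫 • (⊤ : Submodule R H₁)) ∧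
      F' = Submodule.map (LinearMap.id + f ∘ₗ u ∘ₗ g) F) := by
  classical
  have hgf : ∀ a, g (f a) = 0 := fun a => hfg.apply_apply_eq_zero a
  have key : ∀ u : H₂ →ₗ[R] H₁, ∀ x, (LinearMap.id + f ∘ₗ u ∘ₗ g : H →ₗ[R] H) x = x + f (u (g x)) := fun u x => rfl
  refine ⟨fun u hu => ?_, fun u hu => ?_, ?_⟩
  · obtain ⟨⟨C, hC⟩, hi, hb, hm⟩ := hF
    let e : H ≃ₗ[R] H := LinearEquiv.ofLinear (LinearMap.id + f ∘ₗ u ∘ₗ g) (LinearMap.id + f ∘ₗ (-u) ∘ₗ g)
      (LinearMap.ext fun x => by simp [key, hgf]) (LinearMap.ext fun x => by simp [key, hgf])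
    refine ⟨⟨C.map e.toLinearMap, ?_⟩, ?_, ?_, ?_⟩
    · exact (Submodule.orderIsoMapComap e).isCompl_iff.1 hC
    · refine le_antisymm ?_ ?_
      · rintro _ ⟨⟨x, hx, rfl⟩, a, ha⟩
        have hgx : g x = 0 := by
          have := congrArg g ha
          rwa [hgf, key, map_add, hgf, add_zero, eq_comm] at this
        rw [key, hgx, map_zero, map_zero, add_zero] at ha ⊢
        rw [← hi]
        exact ⟨hx, a, ha⟩
      · rintro _ ⟨a, ha, rfl⟩
        exact ⟨⟨f a, (hi.ge ⟨a, ha, rfl⟩).1, by rw [key, hgf, map_zero, map_zero, add_zero]⟩, a, rfl⟩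
    · rw [← hb, Submodule.baseChange_eq_span, Submodule.baseChange_eq_span, ← Submodule.map_comp]
      congr 2
      refine Submodule.ext fun z => ⟨?_, ?_⟩ <;> rintro ⟨x, hx, rfl⟩ <;> refine ⟨x, hx, ?_⟩ <;>
        simp only [LinearMap.comp_apply, key, TensorProduct.mk_apply, TensorProduct.tmul_add,
          (one_tmul_eq_zero_iff 𝔫 _).2 (Submodule.smul_mono (le_refl 𝔫) le_top (map_smul_top_mem 𝔫 f (hu (g x)))), add_zero]
    · rw [← hm, ← Submodule.map_comp]
      congr 1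
      exact LinearMap.ext fun x => by simp [key, hgf]
  · obtain ⟨-, hi, -, hm⟩ := hF
    refine ⟨fun h y hy => ?_, fun h => ?_⟩
    · rw [← hm] at hy
      obtain ⟨x, hx, rfl⟩ := hy
      have h2 : f (u (g x)) ∈ F := by
        have h3 : x + f (u (g x)) ∈ F := h.le ⟨x, hx, rfl⟩
        simpa using sub_mem h3 hx
      obtain ⟨a, ha, ha'⟩ := hi.le ⟨h2, u (g x), rfl⟩
      obtain ⟨π, hπ, hπF⟩ := exists_projection F₁
      rw [← hf ha', ← hπF a ha, hf ha']
      exact Submodule.smul_mono (le_refl 𝔫) (LinearMap.range_le_iff_comap.2 (top_le_iff.1 fun x _ => hπ x))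
        (map_smul_top_mem 𝔫 π (hu (g x)))
    · have hmem : ∀ x ∈ F, f (u (g x)) ∈ F := fun x hx =>
        (hi.ge ⟨_, Submodule.smul_le_right (h (g x) (hm.le ⟨x, hx, rfl⟩)), rfl⟩).1
      refine le_antisymm ?_ fun x hx => ?_
      · rintro _ ⟨x, hx, rfl⟩
        exact add_mem hx (hmem x hx)
      · exact ⟨x - f (u (g x)), sub_mem hx (hmem x hx), by rw [key, map_sub, hgf, sub_zero, sub_add_cancel]⟩
  · obtain ⟨-, hi, hb, hm⟩ := hF
    obtain ⟨-, hi', hb', hm'⟩ := hF'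
    obtain ⟨π, hπ, hπF⟩ := exists_projection F₁
    obtain ⟨s, hs, hsF⟩ := exists_projection F₂
    obtain ⟨q, hq⟩ := Module.projective_lifting_property g LinearMap.id hg
    -- a retraction of `f`
    have hrange : ∀ x, x - q (g x) ∈ LinearMap.range f := fun x => by
      refine (hfg _).1 ?_
      rw [map_sub, ← LinearMap.comp_apply g q, hq, LinearMap.id_apply, sub_self]
    choose r₀ hr₀ using hrange
    let r : H →ₗ[R] H₁ :=
      { toFun := r₀
        map_add' := fun x y => hf (by rw [map_add, hr₀, hr₀, hr₀, map_add, map_add]; abel)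
        map_smul' := fun c x => hf (by simp only [map_smul, hr₀, RingHom.id_apply, smul_sub]) }
    have hrf : ∀ a, r (f a) = a := fun a => hf (by show f (r₀ (f a)) = f a; rw [hr₀, hgf, map_zero, sub_zero])
    have hlift : ∀ G : Submodule R H, Submodule.map g G = F₂ → ∃ σ : H₂ →ₗ[R] H, (∀ y, σ y ∈ G) ∧ ∀ y ∈ F₂, g (σ y) = y := by
      intro G hG
      let gG : G →ₗ[R] F₂ := LinearMap.codRestrict F₂ (g ∘ₗ G.subtype) fun x => hG.le ⟨x, x.2, rfl⟩
      haveI : Module.Projective R F₂ := Module.Projective.of_split F₂.subtype (LinearMap.codRestrict F₂ s hs)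
        (LinearMap.ext fun y => Subtype.ext (hsF y y.2))
      obtain ⟨t, ht⟩ := Module.projective_lifting_property gG LinearMap.id (fun y => by
        obtain ⟨x, hx, hxy⟩ := hG.ge y.2
        exact ⟨⟨x, hx⟩, Subtype.ext hxy⟩)
      refine ⟨G.subtype ∘ₗ t ∘ₗ LinearMap.codRestrict F₂ s hs, fun y => (t _).2, fun y hy => ?_⟩
      exact (congrArg Subtype.val (LinearMap.congr_fun ht (LinearMap.codRestrict F₂ s hs y))).trans (hsF y hy)
    obtain ⟨σ, hσ, hσg⟩ := hlift F hm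
    obtain ⟨σ', hσ', hσ'g⟩ := hlift F' hm'
    let z : H₂ →ₗ[R] H₁ := r ∘ₗ (σ' - σ) ∘ₗ s
    have hz : ∀ y ∈ F₂, f (z y) = σ' y - σ y := fun y hy => by
      show f (r₀ (σ' (s y) - σ (s y))) = _
      rw [hsF y hy, hr₀, map_sub g, hσg y hy, hσ'g y hy, sub_self, map_zero, sub_zero]
    let u : H₂ →ₗ[R] H₁ := (LinearMap.id - π) ∘ₗ z
    have hu : ∀ y, u y ∈ 𝔫 • (⊤ : Submodule R H₁) := fun y => by
      rw [← one_tmul_eq_zero_iff]
      let Q := R ⧸ 𝔫
      have hmem : ∀ G : Submodule R H, Submodule.baseChange Q G = Fb → ∀ x ∈ G, (1 : Q) ⊗ₜ[R] x ∈ Fb := fun G hG x hx =>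
        hG ▸ Submodule.tmul_mem_baseChange_of_mem 1 hx
      have h3 : (1 : Q) ⊗ₜ[R] f (z (s y)) ∈ Fb ⊓ LinearMap.range (f.baseChange Q) := by
        refine ⟨?_, (1 : Q) ⊗ₜ[R] z (s y), rfl⟩
        rw [hz _ (hs y), TensorProduct.tmul_sub]
        exact sub_mem (hmem F' hb' _ (hσ' _)) (hmem F hb _ (hσ _))
      rw [h1] at h3
      obtain ⟨w, hw, hw'⟩ := h3
      have h4 := congrArg (((LinearMap.id - π) ∘ₗ r).baseChange Q) hw'
      rw [LinearMap.baseChange_tmul, LinearMap.comp_apply, hrf, ← LinearMap.comp_apply (((_ : H →ₗ[R] H₁)).baseChange Q),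
        ← LinearMap.baseChange_comp, LinearMap.comp_assoc, show r ∘ₗ f = LinearMap.id from LinearMap.ext hrf,
        LinearMap.comp_id] at h4
      have h5 : Submodule.baseChange Q F₁ ≤ LinearMap.ker ((LinearMap.id - π).baseChange Q) := by
        rw [Submodule.baseChange_eq_span, Submodule.span_le]
        rintro _ ⟨a, ha, rfl⟩
        show (LinearMap.id - π).baseChange Q ((1 : Q) ⊗ₜ[R] a) = 0
        rw [LinearMap.baseChange_tmul, LinearMap.sub_apply, hπF a ha, LinearMap.id_apply, sub_self, TensorProduct.tmul_zero]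
      have h6 : ((LinearMap.id - π).baseChange Q) w = 0 := LinearMap.mem_ker.1 (h5 hw)
      rw [h6] at h4
      have hzs : z (s y) = z y := by
        show r ((σ' - σ) (s (s y))) = r ((σ' - σ) (s y))
        rw [hsF _ (hs y)]
      rw [hzs] at h4
      exact h4.symm
    have hu' : ∀ y, u y = z y - π (z y) := fun y => rfl
    refine ⟨u, hu, le_antisymm (fun x' hx' => ?_) ?_⟩
    · have hy : g x' ∈ F₂ := hm'.le ⟨x', hx', rfl⟩
      obtain ⟨a, ha, ha'⟩ : x' - σ' (g x') ∈ Submodule.map f F₁ := hi'.le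
        ⟨sub_mem hx' (hσ' _), (hfg _).1 (by rw [map_sub, hσ'g _ hy, sub_self])⟩
      refine ⟨σ (g x') + f (a + π (z (g x'))), add_mem (hσ _) (hi.ge ⟨_, add_mem ha (hπ _), rfl⟩).1, ?_⟩
      rw [key, map_add g, hgf, add_zero, hσg _ hy, hu', map_sub, hz _ hy, map_add, ha']
      abel
    · rintro _ ⟨x, hx, rfl⟩
      have hy : g x ∈ F₂ := hm.le ⟨x, hx, rfl⟩
      obtain ⟨a, ha, ha'⟩ : x - σ (g x) ∈ Submodule.map f F₁ := hi.le
        ⟨sub_mem hx (hσ _), (hfg _).1 (by rw [map_sub, hσg _ hy, sub_self])⟩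
      rw [key, hu', map_sub, hz _ hy, show x + (σ' (g x) - σ (g x) - f (π (z (g x)))) = σ' (g x) + f (a - π (z (g x))) by
        rw [map_sub, ha']; abel]
      exact add_mem (hσ' _) (hi'.ge ⟨_, sub_mem ha (hπ _), rfl⟩).1

end Groth.Agent.S16420
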