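import Groth.Statements.S16422
import Mathlib.RingTheory.GradedAlgebra.Homogeneous.Ideal
import Mathlib.RingTheory.Finiteness.Basic

set_option autoImplicit false
universe u
open GrMod

namespace Groth.Agent.S16422

section
open DirectSum
variable {S : Type u} [CommRing S] (𝒜 : ℤ → AddSubgroup S) [GradedRing 𝒜] {M : Type u} [AddCommGroup M] [Module S M]
  (ℳ : ℤ → AddSubgroup M) [DirectSum.Decomposition ℳ] [SetLike.GradedSMul 𝒜 ℳ]

lemma smul_mem_add {i d : ℤ} {c : S} (hc : c ∈ 𝒜 i) {e : M} (he : e ∈ ℳ d) : c • e ∈ ℳ (i + d) :=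
  SetLike.GradedSMul.smul_mem hc he

lemma coe_decompose_smul {d : ℤ} {e : M} (he : e ∈ ℳ d) (n : ℤ) (c : S) :
    ((decompose ℳ (c • e)) n : M) = ((decompose 𝒜 c) (n - d) : S) • e := by
  induction c using DirectSum.Decomposition.inductionOn 𝒜 with
  | zero => simp
  | @homogeneous i c =>
    by_cases h : i = n - d
    · subst h
      rw [decompose_of_mem_same 𝒜 c.2, decompose_of_mem_same ℳ]
      simpa using smul_mem_add 𝒜 ℳ c.2 he
    · rw [decompose_of_mem_ne 𝒜 c.2 h, zero_smul, decompose_of_mem_ne ℳ (smul_mem_add 𝒜 ℳ c.2 he) (by omega)]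
  | add a b ha hb => simp [add_smul, ha, hb]

lemma exists_coeffs [Module.Finite S M] [Module.Projective S M] :
    ∃ (r : ℕ) (d : Fin r → ℤ) (e : Fin r → M) (s : M →ₗ[S] Fin r → S), (∀ j, e j ∈ ℳ (d j)) ∧
      ∀ (n : ℤ) (x : M), x ∈ ℳ n → x = ∑ j, ((decompose 𝒜 (s x j)) (n - d j) : S) • e j := by
  classical
  obtain ⟨G, hG⟩ := (‹Module.Finite S M›).fg_top
  let J : Finset (M × ℤ) := G.biUnion fun y => (decompose ℳ y).support.image fun i => (y, i)
  let φ := J.equivFin.symm
  let e : Fin J.card → M := fun j => ((decompose ℳ (φ j).1.1) (φ j).1.2 : M)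
  let π := Fintype.linearCombination S e
  have hπ : Function.Surjective π := by
    rw [← LinearMap.range_eq_top, Fintype.range_linearCombination, eq_top_iff, ← hG, Submodule.span_le]
    intro y hy
    rw [← sum_support_decompose ℳ y]
    refine Submodule.sum_mem _ fun i hi => Submodule.subset_span ?_
    obtain ⟨j, hj⟩ := φ.surjective ⟨(y, i), Finset.mem_biUnion.2 ⟨y, hy, Finset.mem_image.2 ⟨i, hi, rfl⟩⟩⟩
    exact ⟨j, congrArg (fun q : J => ((decompose ℳ q.1.1) q.1.2 : M)) hj⟩
  obtain ⟨s, hs⟩ := Module.projective_lifting_property π LinearMap.id hπ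
  refine ⟨J.card, fun j => (φ j).1.2, e, s, fun j => SetLike.coe_mem _, fun n x hx => ?_⟩
  have hx' : x = ∑ j, s x j • e j := (LinearMap.congr_fun hs x).symm
  let p : M →+ M := AddMonoidHom.mk' (fun y => ((decompose ℳ y) n : M)) fun a b => by simp
  have hp : p x = x := decompose_of_mem_same ℳ hx
  conv_lhs => rw [← hp, hx', map_sum]
  exact Finset.sum_congr rfl fun j _ => coe_decompose_smul 𝒜 ℳ (SetLike.coe_mem _) n _

lemma comp_mem_of_mem_smul_top {r : ℕ} (s : M →ₗ[S] Fin r → S) (I : Ideal S) {x : M}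
    (hx : x ∈ I • (⊤ : Submodule S M)) (j : Fin r) : s x j ∈ I := by
  refine Submodule.smul_induction_on hx (fun a ha y _ => ?_) (fun a b ha hb => ?_)
  · rw [map_smul, Pi.smul_apply, smul_eq_mul]; exact I.mul_mem_right _ ha
  · rw [map_add, Pi.add_apply]; exact I.add_mem ha hb
end

/-- Let S be a commutative ring graded by ℤ with pieces 𝒜 n, and V a decreasing sequence of homogeneous
ideals for which S is graded-complete, i.e. for each degree n the map from 𝒜 n to the inverse limit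
of the quotients 𝒜 n / (𝒜 n ∩ V m) is bijective (stated as: a degree-n element in every V m
vanishes, and every sequence in 𝒜 n whose consecutive differences lie in the V m has a limit in 𝒜
n). Then every graded S-module M which is finitely generated and projective as an S-module is
graded-complete in the same sense for the submodules V m · M: for each n the map from ℳ n to the
inverse limit of ℳ n / (ℳ n ∩ V m · M) is bijective. -/
theorem result
    (S : Type u) [CommRing S] (𝒜 : ℤ → AddSubgroup S) [GradedRing 𝒜]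
    (V : ℕ → HomogeneousIdeal 𝒜) (hV : ∀ m, (V (m + 1)).toIdeal ≤ (V m).toIdeal)
    (hsep : ∀ (n : ℤ) (s : S), s ∈ 𝒜 n → (∀ m, s ∈ (V m).toIdeal) → s = 0)
    (hcpl : ∀ (n : ℤ) (f : ℕ → S), (∀ m, f m ∈ 𝒜 n) →
      (∀ m, f (m + 1) - f m ∈ (V m).toIdeal) → ∃ s ∈ 𝒜 n, ∀ m, s - f m ∈ (V m).toIdeal)
    (M : Type u) [AddCommGroup M] [Module S M] (ℳ : ℤ → AddSubgroup M)
    [DirectSum.Decomposition ℳ] [SetLike.GradedSMul 𝒜 ℳ]
    [Module.Finite S M] [Module.Projective S M] :
    (∀ (n : ℤ) (x : M), x ∈ ℳ n → (∀ m, x ∈ (V m).toIdeal • (⊤ : Submodule S M)) → x = 0) ∧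
    (∀ (n : ℤ) (g : ℕ → M), (∀ m, g m ∈ ℳ n) →
      (∀ m, g (m + 1) - g m ∈ (V m).toIdeal • (⊤ : Submodule S M)) →
      ∃ x ∈ ℳ n, ∀ m, x - g m ∈ (V m).toIdeal • (⊤ : Submodule S M)) := by
  obtain ⟨r, d, e, s, he, hx⟩ := exists_coeffs 𝒜 ℳ
  refine ⟨fun n x hn hm => ?_, fun n g hg hd => ?_⟩
  · rw [hx n x hn]
    refine Finset.sum_eq_zero fun j _ => ?_
    rw [hsep _ _ (SetLike.coe_mem (DirectSum.decompose 𝒜 (s x j) (n - d j)))
      (fun m => (V m).isHomogeneous _ (comp_mem_of_mem_smul_top s _ (hm m) j)), zero_smul]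
  · have hc : ∀ j, ∃ a ∈ 𝒜 (n - d j), ∀ m, a - (DirectSum.decompose 𝒜 (s (g m) j) (n - d j) : S) ∈ (V m).toIdeal :=
      fun j => hcpl _ _ (fun m => SetLike.coe_mem _) fun m => by
        have h := (V m).isHomogeneous (n - d j) (comp_mem_of_mem_smul_top s _ (hd m) j)
        simpa [map_sub] using! h
    choose a ha hae using hc
    refine ⟨∑ j, a j • e j, sum_mem fun j _ => by simpa using smul_mem_add 𝒜 ℳ (ha j) (he j), fun m => ?_⟩
    rw [hx n (g m) (hg m), ← Finset.sum_sub_distrib]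
    refine Submodule.sum_mem _ fun j _ => ?_
    rw [← sub_smul]
    exact Submodule.smul_mem_smul (hae j m) Submodule.mem_top

end Groth.Agent.S16422
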