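import Groth.Statements.S16427
import Groth.Agent.PurFib.DepthAt

set_option autoImplicit false
universe u
open CategoryTheory CategoryTheory.Limits AlgebraicGeometry TopologicalSpace
open RhoSh

namespace Groth.Agent.S16427

/-- Let X be a smooth, proper, geometrically irreducible scheme over a field k admitting an ample
invertible sheaf, S a k-scheme, and U a big open subset of X ×_k S, i.e. at every point outside U
the local ring of the fibre over S has Krull dimension at least 2. Let p : Y ⟶ X ×_k S be affine and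
of finite type. Then any section s of p over U is the restriction of exactly one section of p over
the whole of X ×_k S. -/
theorem result
    (k : Type u) [Field k] (X S Y : Scheme.{u})
    (a : X ⟶ Spec (CommRingCat.of k)) (b : S ⟶ Spec (CommRingCat.of k))
    [Smooth a] [IsProper a] [GeometricallyIrreducible a]
    (hproj : ∃ H : X.Modules, CohB1.IsAmple H)
    (U : (pullback a b).Opens)
    (hU : ∀ x : ↥(pullback a b), x ∉ U →
      (2 : WithBot ℕ∞) ≤ ringKrullDim ↑(CInt.fiberStalk (pullback.snd a b) x))
    (p : Y ⟶ pullback a b) [IsAffineHom p] [LocallyOfFiniteType p]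
    (s : (U : Scheme.{u}) ⟶ Y) (hs : s ≫ p = U.ι) :
    ∃! t : pullback a b ⟶ Y, t ≫ p = 𝟙 (pullback a b) ∧ U.ι ≫ t = s := by
  have hgood := Groth.Agent.PurFib.exists_goodFor (pullback.snd a b) U hU
  have hbij : ∀ V : (pullback a b).Opens, IsAffineOpen V →
      Function.Bijective (U.ι.app ((𝟙 (pullback a b)) ⁻¹ᵁ V)) := by
    intro V _
    show Function.Bijective (U.ι.app V)
    have hb := Groth.Agent.PurFib.bijective_res hgood V
    haveI : IsIso (U.ι.app (V ⊓ U)) := Scheme.Hom.isIso_app U.ι _ (inf_le_right.trans (Scheme.Opens.opensRange_ι U).ge)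
    have hpre : U.ι ⁻¹ᵁ V ≤ U.ι ⁻¹ᵁ (V ⊓ U) := fun y hy => ⟨hy, y.2⟩
    haveI : IsIso (homOfLE hpre) := by
      refine ⟨homOfLE (fun y hy => hy.1), ?_, ?_⟩ <;> exact Subsingleton.elim _ _
    have key : ∀ x, U.ι.app V x = (U : Scheme.{u}).presheaf.map (homOfLE hpre).op
        (U.ι.app (V ⊓ U) ((pullback a b).presheaf.map (homOfLE (inf_le_left : V ⊓ U ≤ V)).op x)) := by
      intro x
      rw [← ConcreteCategory.comp_apply, ← ConcreteCategory.comp_apply, Scheme.Hom.naturality_assoc,
        ← Functor.map_comp, Subsingleton.elim (((TopologicalSpace.Opens.map U.ι.base).map _).op ≫ _)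
          (𝟙 (Opposite.op (U.ι ⁻¹ᵁ V))), CategoryTheory.Functor.map_id, Category.comp_id]
    have h2 := ConcreteCategory.bijective_of_isIso (U.ι.app (V ⊓ U))
    have h3 := ConcreteCategory.bijective_of_isIso ((U : Scheme.{u}).presheaf.map (homOfLE hpre).op)
    rw [show ⇑(U.ι.app V) = fun x => (U : Scheme.{u}).presheaf.map (homOfLE hpre).op
        (U.ι.app (V ⊓ U) ((pullback a b).presheaf.map (homOfLE (inf_le_left : V ⊓ U ≤ V)).op x)) from funext key]
    exact h3.comp (h2.comp hb)
  exact Groth.Agent.Purity.existsUnique_comp U.ι (𝟙 (pullback a b)) p hbij s (by rw [hs, Category.comp_id])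

end Groth.Agent.S16427
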