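import Groth.Statements.S16430
import Mathlib
import Groth.Agent.Hensel.FiniteEtale
-- import your own Groth.Agent.* helpers here

set_option autoImplicit false
universe u
open Hensel

open scoped TensorProduct

namespace Groth.Agent.S16430

/-- For a Noetherian local ring A with residue field k and a finite separable field extension l of k,
there is a local ring E, finite and etale over A with local structure map, whose residue field is
k-isomorphic to l. -/
theorem result (A : Type u)
    [CommRing A] [IsLocalRing A] [IsNoetherianRing A] (l : Type u) [Field l]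
    [Algebra (IsLocalRing.ResidueField A) l] [FiniteDimensional (IsLocalRing.ResidueField A) l]
    [Algebra.IsSeparable (IsLocalRing.ResidueField A) l] :
    ∃ (E : Type u) (_ : CommRing E) (_ : IsLocalRing E) (_ : Algebra A E)
      (_ : IsLocalHom (algebraMap A E)),
      Module.Finite A E ∧ Algebra.Etale A E ∧
        Nonempty (IsLocalRing.ResidueField E ≃ₐ[IsLocalRing.ResidueField A] l) := by
  let κ := IsLocalRing.ResidueField A
  haveI : Algebra.FormallyEtale κ l := Algebra.FormallyEtale.of_isSeparable κ l
  haveI : Algebra.Etale κ l := ⟨inferInstance, Algebra.FinitePresentation.of_finiteType.1 inferInstance⟩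
  obtain ⟨S, _, _, hfin, het, ⟨e⟩⟩ := Groth.Agent.Hensel.exists_finite_etale_lift A l
  let π : S →ₐ[A] κ ⊗[A] S := Algebra.TensorProduct.includeRight
  have hπ : Function.Surjective π := fun z => by
    induction z using TensorProduct.induction_on with
    | zero => exact ⟨0, map_zero π⟩
    | tmul x s =>
      obtain ⟨a, rfl⟩ := IsLocalRing.residue_surjective x
      refine ⟨a • s, ?_⟩
      change (1 : κ) ⊗ₜ[A] (a • s) = _
      rw [← TensorProduct.smul_tmul, Algebra.smul_def, mul_one]
      rfl
    | add x y hx hy =>
      obtain ⟨u, rfl⟩ := hx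
      obtain ⟨v, rfl⟩ := hy
      exact ⟨u + v, map_add π u v⟩
  let f : S →+* l := e.toRingEquiv.toRingHom.comp π.toRingHom
  have hf : Function.Surjective f := e.surjective.comp hπ
  let M := RingHom.ker f
  haveI hM : M.IsMaximal := RingHom.ker_isMaximal_of_surjective f hf
  have hle : ∀ N : Ideal S, N.IsMaximal → M ≤ N := fun N hN x hx => by
    haveI := hN
    haveI : Algebra.IsIntegral A S := Algebra.IsIntegral.of_finite A S
    have hmax := Ideal.isMaximal_comap_of_isIntegral_of_isMaximal (R := A) N
    have hmN : (IsLocalRing.maximalIdeal A).map (algebraMap A S) ≤ N :=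
      Ideal.map_le_iff_le_comap.2 (IsLocalRing.eq_maximalIdeal hmax).ge
    refine hmN ?_
    have hx0 : π x = 0 := e.injective (by rw [map_zero]; exact hx)
    have hk := (Algebra.TensorProduct.quotIdealMapEquivTensorQuot S (IsLocalRing.maximalIdeal A)).injective
      (a₁ := Ideal.Quotient.mk _ x) (a₂ := 0)
    refine Ideal.Quotient.eq_zero_iff_mem.1 (hk ?_)
    rw [map_zero]
    have h2 := congrArg (Algebra.TensorProduct.comm A κ S) hx0
    rw [map_zero] at h2
    exact h2
  haveI : IsLocalRing S := IsLocalRing.of_unique_max_ideal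
    ⟨M, hM, fun N hN => ((hM.eq_of_le hN.ne_top (hle N hN))).symm⟩
  have hMm : M = IsLocalRing.maximalIdeal S := IsLocalRing.eq_maximalIdeal hM
  have hloc : IsLocalHom (algebraMap A S) := by
    refine ((IsLocalRing.local_hom_TFAE (algebraMap A S)).out 0 2).2 ?_
    rw [Ideal.map_le_iff_le_comap, ← hMm]
    intro a ha
    change e (π (algebraMap A S a)) = 0
    rw [π.commutes, IsScalarTower.algebraMap_apply A κ (κ ⊗[A] S),
      show algebraMap A κ a = 0 from Ideal.Quotient.eq_zero_iff_mem.2 ha, map_zero, map_zero]
  refine ⟨S, inferInstance, inferInstance, inferInstance, hloc, hfin, het, ⟨?_⟩⟩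
  let eM : IsLocalRing.ResidueField S ≃+* l :=
    (Ideal.quotEquivOfEq hMm.symm).trans (RingHom.quotientKerEquivOfSurjective hf)
  refine AlgEquiv.ofRingEquiv (f := eM) fun k => ?_
  obtain ⟨a, rfl⟩ := IsLocalRing.residue_surjective k
  change e (π (algebraMap A S a)) = _
  rw [π.commutes, IsScalarTower.algebraMap_apply A κ (κ ⊗[A] S), e.commutes]
  rfl

end Groth.Agent.S16430
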