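import Groth.Statements.S16435
-- import your own Groth.Agent.* helpers here
import Groth.Agent.GaloisStage.NoethConv

set_option autoImplicit false
universe u
open Hensel

namespace Groth.Agent.S16435

/-- Let A be an excellent henselian reduced local ring, S a strict henselization of A and D any
A-subalgebra of S (an intermediate ring between A and S). Write D' for the integral closure of D in
its total ring of fractions. Then D is Noetherian if and only if, for every maximal ideal M of D'
with residue field l, writing k_0 for the subfield of l generated by the image of D (it is the image
itself, a copy of the residue field of the local ring D), the separable closure of k_0 in l has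
finite degree over k_0. -/
theorem result
    (A S : Type u) [CommRing A] [HenselianLocalRing A] [IsReduced A] (hA : EGA4.IsExcellent A)
    [CommRing S] [IsLocalRing S] [Algebra A S] [IsLocalHom (algebraMap A S)]
    [Hensel.IsStrictHenselization A S] (D : Subalgebra A S) :
    IsNoetherianRing D ↔
      ∀ (M : Ideal (integralClosure D (FractionRing D))) [M.IsMaximal],
        FiniteDimensional (Subfield.closure (Set.range ((algebraMap (integralClosure D (FractionRing D)) M.ResidueField).comp (algebraMap D (integralClosure D (FractionRing D)))))) (separableClosure (Subfield.closure (Set.range ((algebraMap (integralClosure D (FractionRing D)) M.ResidueField).comp (algebraMap D (integralClosure D (FractionRing D)))))) M.ResidueField) := by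
  haveI := hA.1
  haveI : IsReduced S := (Groth.Agent.S2747.result A S).2 inferInstance
  constructor
  · intro h M hM
    haveI : IsReduced D := isReduced_of_injective (algebraMap D S) Subtype.val_injective
    haveI := GaloisStage.isLocalRing_subalgebra D
    haveI := GaloisStage.isIntegral_subalgebra D
    haveI : HenselianLocalRing D := Hensel.henselianLocalRing_finite A D
    exact GaloisStage.sepFinite_of_noetherian D M
  · exact fun h => GaloisStage.isNoetherianRing_of_sepFiniteRes D h

end Groth.Agent.S16435
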