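import Groth.Statements.S16439
-- import your own Groth.Agent.* helpers here
import Groth.Agent.EssSub.NoethEssEt

set_option autoImplicit false
universe u
open EGA4loc

namespace Groth.Agent.S16439

open IsLocalRing in
/-- Let A be an excellent reduced local ring with maximal ideal m, S a strict henselization of A, and D
an A-subalgebra of S which is a Noetherian local ring dominated by S (the inclusion is local), whose
total ring of fractions K_D is finitely generated over that of A — there is a finite subset t of K_D
such that every element of K_D, after multiplication by (the image of) a non-zero-divisor of A, is a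
polynomial expression in t with coefficients from A — and such that m D is the maximal ideal of D.
Then D is an essentially etale local A-algebra: A-isomorphic to the localization of an etale
A-algebra at a prime over m. -/
theorem result
    (A S : Type u) [CommRing A] [IsLocalRing A] [IsReduced A] (hA : EGA4.IsExcellent A)
    [CommRing S] [IsLocalRing S] [Algebra A S] [IsLocalHom (algebraMap A S)]
    [Hensel.IsStrictHenselization A S] (D : Subalgebra A S) [IsLocalRing D]
    [IsLocalHom (algebraMap D S)] [IsNoetherianRing D]
    (hfg : ∃ t : Finset (FractionRing D), ∀ x : FractionRing D, ∃ a ∈ nonZeroDivisors A,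
      algebraMap A (FractionRing D) a * x ∈ Algebra.adjoin A (t : Set (FractionRing D)))
    (hm : Ideal.map (algebraMap A D) (maximalIdeal A) = maximalIdeal D) :
    EGA4loc.IsEssentiallyEtale A D := by
  classical
  haveI := hA.1
  have hmin : (minimalPrimes A).Finite := minimalPrimes.finite_of_isNoetherianRing A
  obtain ⟨t, ht⟩ := hfg
  obtain ⟨E, hle, hEl, hEh, hEe⟩ := EssSub.exists_le_of_fg hmin D t ht
  haveI := hEl
  haveI := hEh
  haveI := EssSub.isLocalHom_base E
  let e : (D.comap E.val) ≃ₐ[A] D :=
    AlgEquiv.ofBijective ((E.val.comp (D.comap E.val).val).codRestrict D fun x => x.2)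
      ⟨fun x y h => Subtype.ext (Subtype.ext (congrArg (fun z : D => (z : S)) h)), fun d => ⟨⟨⟨d, hle d.2⟩, d.2⟩, rfl⟩⟩
  haveI : IsLocalRing (D.comap E.val) := e.symm.toRingEquiv.isLocalRing
  haveI : IsLocalHom (algebraMap (D.comap E.val) E) := ⟨fun x hx => by
    have h1 : IsUnit (algebraMap D S (e x)) := (hx.map (algebraMap E S) : _)
    exact (MulEquiv.isUnit_map e.toMulEquiv).1 (isUnit_of_map_unit (algebraMap D S) (e x) h1)⟩
  haveI : IsNoetherianRing (D.comap E.val) := isNoetherianRing_of_ringEquiv D e.symm.toRingEquiv
  have hm0 : (maximalIdeal A).map (algebraMap A (D.comap E.val)) = maximalIdeal (D.comap E.val) := by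
    rw [← e.symm.toAlgHom.comp_algebraMap, ← Ideal.map_map, hm]
    exact IsLocalRing.eq_maximalIdeal (Ideal.map_isMaximal_of_equiv (e := e.symm.toRingEquiv))
  haveI := EssSub.essFiniteType_of_max hA hEe (D.comap E.val) hm0
  haveI : Algebra.EssFiniteType A D := (Algebra.EssFiniteType.iff_of_algEquiv e).1 inferInstance
  haveI := EssSub.unramified_of_max D hm
  exact EssSub.essEt_of_unramified D

end Groth.Agent.S16439
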