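import Groth.Statements.S16443
-- import your own Groth.Agent.* helpers here
import Groth.Agent.EssSub.Generic

set_option autoImplicit false
universe u
open EGA4loc

namespace Groth.Agent.S16443

/-- Let A be a reduced local ring with finitely many minimal prime ideals, E a local ring which is an
essentially etale local A-algebra with local structure map, K_E the total ring of fractions of E,
and L an A-subalgebra of K_E containing an inverse of the image of every non-zero-divisor of A (so L
is an intermediate ring between the total rings of fractions of A and of E). Then the preimage D of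
L in E is (the underlying set of) an A-subalgebra of E which is a local ring with local inclusion
into E — its maximal ideal lies under that of E — and L is the total ring of fractions of D in the
sense that every element of L is the image of an element of D times the inverse of the image of a
non-zero-divisor of A. -/
theorem result
    (A E : Type u) [CommRing A] [IsLocalRing A] [IsReduced A] (hmin : (minimalPrimes A).Finite)
    [CommRing E] [IsLocalRing E] [Algebra A E] [IsLocalHom (algebraMap A E)]
    (hE : EGA4loc.IsEssentiallyEtale A E) (L : Subalgebra A (FractionRing E))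
    (hL : ∀ s ∈ nonZeroDivisors A, ∃ y ∈ L, algebraMap A (FractionRing E) s * y = 1) :
    ∃ D : Subalgebra A E, (D : Set E) = (algebraMap E (FractionRing E)) ⁻¹' (L : Set (FractionRing E)) ∧
      ∃ _ : IsLocalRing D, IsLocalHom (algebraMap D E) ∧
        ∀ l ∈ L, ∃ d ∈ D, ∃ s ∈ nonZeroDivisors A, ∃ y ∈ L,
          algebraMap A (FractionRing E) s * y = 1 ∧ l = algebraMap E (FractionRing E) d * y := by
  let D : Subalgebra A E := L.comap (IsScalarTower.toAlgHom A E (FractionRing E))
  haveI hhom : IsLocalHom (algebraMap D E) := ⟨fun d hd => by
    obtain ⟨q, a, ha, hq⟩ := EssSub.exists_mul_eq hmin hE (d : E) fun q h => hd.mul_left_eq_zero.1 h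
    obtain ⟨y, hy, hay⟩ := hL a ha
    obtain ⟨e, he⟩ := IsUnit.exists_right_inv (show IsUnit (d : E) from hd)
    have hqL : algebraMap E (FractionRing E) (Polynomial.aeval (d : E) q) ∈ L := by
      show IsScalarTower.toAlgHom A E (FractionRing E) (Polynomial.aeval (d : E) q) ∈ L
      rw [← Polynomial.aeval_algHom_apply]
      exact Algebra.adjoin_le (Set.singleton_subset_iff.2 (show IsScalarTower.toAlgHom A E (FractionRing E) (d : E) ∈ L from d.2))
        (Polynomial.aeval_mem_adjoin_singleton A _)
    have heL : algebraMap E (FractionRing E) e = y * algebraMap E (FractionRing E) (Polynomial.aeval (d : E) q) := by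
      have h1 : algebraMap E (FractionRing E) (Polynomial.aeval (d : E) q) * algebraMap E (FractionRing E) d =
          algebraMap A (FractionRing E) a := by
        rw [← map_mul, hq, ← IsScalarTower.algebraMap_apply]
      have h2 : algebraMap E (FractionRing E) d * algebraMap E (FractionRing E) e = 1 := by
        rw [← map_mul, he, map_one]
      linear_combination -(y * algebraMap E (FractionRing E) e) * h1 - algebraMap E (FractionRing E) e * hay
        + (y * algebraMap E (FractionRing E) (Polynomial.aeval (d : E) q)) * h2
    exact isUnit_iff_exists_inv.2 ⟨⟨e, show algebraMap E (FractionRing E) e ∈ L from heL ▸ mul_mem hy hqL⟩, Subtype.ext he⟩⟩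
  refine ⟨D, rfl, RingHom.domain_isLocalRing (algebraMap D E), hhom, fun l hl => ?_⟩
  obtain ⟨hloc, -⟩ := S16448.result A E hmin hE
  haveI := hloc
  obtain ⟨⟨e, s, hs⟩, he⟩ := IsLocalization.surj ((nonZeroDivisors A).map (algebraMap A E)) l
  obtain ⟨a, ha, rfl⟩ := Submonoid.mem_map.1 hs
  obtain ⟨y, hy, hay⟩ := hL a ha
  have he' : l * algebraMap A (FractionRing E) a = algebraMap E (FractionRing E) e := by
    rw [IsScalarTower.algebraMap_apply A E (FractionRing E)]; exact he
  refine ⟨e, show algebraMap E (FractionRing E) e ∈ L from he' ▸ mul_mem hl (Subalgebra.algebraMap_mem L a), a, ha, y, hy, hay, ?_⟩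
  rw [← he', mul_assoc, hay, mul_one]

end Groth.Agent.S16443
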