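import Groth.Statements.S16444
import Groth.Agent.S16430
import Groth.Agent.Hensel.EssEtLib
import Groth.Agent.Hensel.Etale
import Groth.Agent.Hensel.HenselizationProps
import Groth.Agent.Hensel.FiniteEtale
import Groth.Agent.UnramLib.FlatUnram

set_option autoImplicit false
set_option linter.style.haveILetI false
universe u
open scoped TensorProduct
open TensorProduct
open Hensel

namespace Groth.Agent.S16444

open IsLocalRing

/-- Complete local rings are henselian. -/
theorem henselian_of_adicComplete (A : Type u) [CommRing A] [IsLocalRing A] [IsAdicComplete (maximalIdeal A) A] :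
    HenselianLocalRing A where
  is_henselian f hf a₀ h₁ h₂ := by
    haveI : HenselianRing A (maximalIdeal A) := IsAdicComplete.henselianRing A (maximalIdeal A)
    exact HenselianRing.is_henselian f hf a₀ h₁ (h₂.map _)

/-- Essentially étale local algebras map to henselian rings as prescribed on residues. -/
theorem exists_algHom_of_residue {A E T : Type u} [CommRing A] [IsLocalRing A] [CommRing E] [IsLocalRing E]
    [Algebra A E] [CommRing T] [HenselianLocalRing T] [Algebra A T]
    (hE : EGA4loc.IsEssentiallyEtale A E) (σ : E →ₐ[A] T ⧸ maximalIdeal T) :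
    ∃ χ : E →ₐ[A] T, ∀ x, Ideal.Quotient.mk (maximalIdeal T) (χ x) = σ x := by
  obtain ⟨C, _, _, q, _, hC, -, ⟨e⟩⟩ := hE
  haveI := hC
  let σC : C →ₐ[A] T ⧸ maximalIdeal T := (σ.comp e.symm.toAlgHom).comp (IsScalarTower.toAlgHom A C (Localization.AtPrime q))
  let σT : TensorProduct A T C →ₐ[T] T ⧸ maximalIdeal T :=
    Algebra.TensorProduct.lift (Algebra.ofId T (T ⧸ maximalIdeal T)) σC fun _ _ => Commute.all _ _
  obtain ⟨τ, hτ, -⟩ := Groth.Agent.Hensel.existsUnique_algHom_lift (A := T) (I := maximalIdeal T) σT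
  let ψ : C →ₐ[A] T := (τ.restrictScalars A).comp Algebra.TensorProduct.includeRight
  have hψ : ∀ c, Ideal.Quotient.mk (maximalIdeal T) (ψ c) = σC c := fun c => by
    show Ideal.Quotient.mk _ (τ ((1 : T) ⊗ₜ c)) = _
    rw [hτ, Algebra.TensorProduct.lift_tmul, map_one, one_mul]
  have hu : ∀ c : q.primeCompl, IsUnit (ψ (c : C)) := fun c => by
    have h1 : IsUnit (σC (c : C)) :=
      ((IsLocalization.map_units (Localization.AtPrime q) c).map e.symm.toAlgHom).map σ
    rw [← hψ] at h1
    by_contra hc
    rw [Ideal.Quotient.eq_zero_iff_mem.2 ((mem_maximalIdeal _).2 hc)] at h1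
    exact not_isUnit_zero h1
  let χ₀ : Localization.AtPrime q →ₐ[A] T := IsLocalization.liftAlgHom (M := q.primeCompl) (f := ψ) hu
  refine ⟨χ₀.comp e.toAlgHom, fun x => ?_⟩
  obtain ⟨c, s, hcs⟩ := IsLocalization.exists_mk'_eq q.primeCompl (e x)
  have hspec : e x * algebraMap C (Localization.AtPrime q) s = algebraMap C (Localization.AtPrime q) c := by
    rw [← hcs, IsLocalization.mk'_spec]
  have hχ : ∀ c, χ₀ (algebraMap C (Localization.AtPrime q) c) = ψ c := fun c => IsLocalization.lift_eq _ c
  have h1 := congrArg χ₀ hspec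
  rw [map_mul, hχ, hχ] at h1
  have h2 := congrArg (fun y => σ (e.symm y)) hspec
  simp only [map_mul, AlgEquiv.symm_apply_apply] at h2
  have hus : IsUnit (σC (s : C)) :=
    ((IsLocalization.map_units (Localization.AtPrime q) s).map e.symm.toAlgHom).map σ
  refine hus.mul_right_cancel ?_
  show _ * σC (s : C) = σ x * σ (e.symm (algebraMap C (Localization.AtPrime q) s))
  rw [h2, ← hψ (s : C), ← map_mul]
  show Ideal.Quotient.mk _ (χ₀ (e x) * ψ (s : C)) = _
  rw [h1]
  exact hψ c

open IsLocalRing in
/-- Let A be a complete Noetherian local ring and R → A a local homomorphism from a henselian Noetherian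
local ring R inducing a bijection on residue fields. Then every local ring E which is an essentially
etale local A-algebra with local structure map is A-isomorphic to A ⊗_R S for some local ring S
which is a finite etale R-algebra (its residue field is then that of E). (The published statement
takes R to be a coefficient ring of A, that is a field or an image of a complete p-ring with the
same residue field; its proof uses only that R is henselian with the same residue field as A, which
is the hypothesis made here.) -/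
theorem result
    (R A E : Type u) [CommRing R] [HenselianLocalRing R] [IsNoetherianRing R]
    [CommRing A] [IsLocalRing A] [IsNoetherianRing A] [IsAdicComplete (maximalIdeal A) A]
    [Algebra R A] [IsLocalHom (algebraMap R A)]
    (hres : Function.Bijective (ResidueField.map (algebraMap R A)))
    [CommRing E] [IsLocalRing E] [Algebra A E] [IsLocalHom (algebraMap A E)]
    (hE : EGA4loc.IsEssentiallyEtale A E) :
    ∃ (S : Type u) (_ : CommRing S) (_ : IsLocalRing S) (_ : Algebra R S),
      Module.Finite R S ∧ Algebra.Etale R S ∧ Nonempty (E ≃ₐ[A] A ⊗[R] S) := by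
  classical
  haveI : HenselianLocalRing A := henselian_of_adicComplete A
  obtain ⟨hu, hft⟩ := Groth.Agent.Hensel.essEt_unramified hE
  haveI := hu
  haveI := hft
  letI : Algebra R E := ((algebraMap A E).comp (algebraMap R A)).toAlgebra
  haveI : IsScalarTower R A E := IsScalarTower.of_algebraMap_eq fun _ => rfl
  haveI : IsLocalHom (algebraMap R E) := RingHom.isLocalHom_comp _ _
  let eRA := RingEquiv.ofBijective _ hres
  haveI : FiniteDimensional (ResidueField R) (ResidueField E) :=
    Module.Finite.of_equiv_equiv eRA.symm (RingEquiv.refl (ResidueField E)) (RingHom.ext fun z => by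
      obtain ⟨z, rfl⟩ := eRA.surjective z
      rw [RingHom.comp_apply, RingEquiv.coe_toRingHom, eRA.symm_apply_apply]
      obtain ⟨r, rfl⟩ := residue_surjective z
      rfl)
  haveI : Algebra.IsSeparable (ResidueField R) (ResidueField E) :=
    Algebra.IsSeparable.of_equiv_equiv eRA.symm (RingEquiv.refl (ResidueField E)) (RingHom.ext fun z => by
      obtain ⟨z, rfl⟩ := eRA.surjective z
      rw [RingHom.comp_apply, RingEquiv.coe_toRingHom, eRA.symm_apply_apply]
      obtain ⟨r, rfl⟩ := residue_surjective z
      rfl)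
  obtain ⟨S, _, _, _, _, hSf, hSe, ⟨ρ⟩⟩ := Groth.Agent.S16430.result R (ResidueField E)
  haveI := hSf
  haveI := hSe
  refine ⟨S, inferInstance, inferInstance, inferInstance, hSf, hSe, ?_⟩
  let fS : S →ₐ[R] ResidueField E := (ρ.toAlgHom.restrictScalars R).comp (IsScalarTower.toAlgHom R S (ResidueField S))
  have hfS : Function.Surjective fS := fun y => by
    obtain ⟨x, rfl⟩ := ρ.surjective y
    obtain ⟨x, rfl⟩ := residue_surjective x
    exact ⟨x, rfl⟩
  let π : A ⊗[R] S →ₐ[A] ResidueField E :=
    Algebra.TensorProduct.lift (Algebra.ofId A (ResidueField E)) fS fun _ _ => Commute.all _ _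
  have hπt : ∀ a y, π (a ⊗ₜ y) = algebraMap A (ResidueField E) a * fS y := fun a y =>
    Algebra.TensorProduct.lift_tmul _ _ _ a y
  have hπ : Function.Surjective π := fun y => by
    obtain ⟨x, rfl⟩ := hfS y
    exact ⟨1 ⊗ₜ x, by rw [hπt, map_one, one_mul]⟩
  haveI : Nontrivial (A ⊗[R] S) := π.toRingHom.domain_nontrivial
  let m := (maximalIdeal A).map (algebraMap A (A ⊗[R] S))
  have hmker : ∀ z, π z = 0 → z ∈ m := by
    have hdec : ∀ z : A ⊗[R] S, ∃ x : S, z - 1 ⊗ₜ x ∈ m := fun z => by
      induction z using TensorProduct.induction_on with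
      | zero => exact ⟨0, by rw [tmul_zero, sub_zero]; exact m.zero_mem⟩
      | tmul a y =>
        obtain ⟨c, hc⟩ := hres.2 (residue A a)
        obtain ⟨r, rfl⟩ := residue_surjective c
        refine ⟨r • y, ?_⟩
        have h1 : a - algebraMap R A r ∈ maximalIdeal A := by
          rw [← residue_eq_zero_iff, map_sub, sub_eq_zero]
          exact hc.symm
        rw [← smul_tmul, ← sub_tmul, ← Algebra.algebraMap_eq_smul_one]
        have h2 := m.mul_mem_right ((1 : A) ⊗ₜ y) (Ideal.mem_map_of_mem _ h1)
        rwa [Algebra.TensorProduct.algebraMap_apply, Algebra.TensorProduct.tmul_mul_tmul, Algebra.algebraMap_self,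
          RingHom.id_apply, mul_one, one_mul] at h2
      | add v w hv hw =>
        obtain ⟨x, hx⟩ := hv
        obtain ⟨y, hy⟩ := hw
        refine ⟨x + y, ?_⟩
        rw [tmul_add, add_sub_add_comm]
        exact m.add_mem hx hy
    intro z hz
    obtain ⟨x, hx⟩ := hdec z
    have hm0 : m ≤ RingHom.ker π := Ideal.map_le_iff_le_comap.2 fun a ha => by
      rw [Ideal.mem_comap, RingHom.mem_ker, AlgHom.commutes, IsScalarTower.algebraMap_apply A E (ResidueField E)]
      exact (residue_eq_zero_iff _).2 (map_nonunit (algebraMap A E) a ha)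
    have hx0 : fS x = 0 := by
      have h1 := RingHom.mem_ker.1 (hm0 hx)
      rw [map_sub, hz, hπt, map_one, one_mul, zero_sub, neg_eq_zero] at h1
      exact h1
    have hxm : x ∈ maximalIdeal S := by
      rw [← residue_eq_zero_iff]
      exact ρ.injective (hx0.trans (map_zero ρ).symm)
    rw [← Algebra.FormallyUnramified.map_maximalIdeal (R := R) (S := S)] at hxm
    have hx1 : (1 : A) ⊗ₜ[R] x ∈ m := by
      have h1 := Ideal.mem_map_of_mem (Algebra.TensorProduct.includeRight : S →ₐ[R] A ⊗[R] S).toRingHom hxm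
      rw [Ideal.map_map, AlgHom.toRingHom_eq_coe, AlgHom.comp_algebraMap] at h1
      refine (Ideal.map_le_iff_le_comap.2 (fun r hr => ?_) : _ ≤ m) h1
      rw [Ideal.mem_comap, IsScalarTower.algebraMap_apply R A (A ⊗[R] S)]
      exact Ideal.mem_map_of_mem _ (map_nonunit (algebraMap R A) r hr)
    simpa using m.add_mem hx hx1
  haveI : Algebra.IsIntegral A (A ⊗[R] S) := Algebra.IsIntegral.of_finite A _
  have hmax : (RingHom.ker π.toRingHom).IsMaximal := RingHom.ker_isMaximal_of_surjective π.toRingHom hπ
  haveI hTl : IsLocalRing (A ⊗[R] S) := IsLocalRing.of_unique_max_ideal ⟨RingHom.ker π.toRingHom, hmax, fun M hM => by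
    haveI := hM
    refine (hmax.eq_of_le hM.ne_top fun z hz => ?_).symm
    have h2 : M.comap (algebraMap A (A ⊗[R] S)) = maximalIdeal A :=
      eq_maximalIdeal (Ideal.isMaximal_comap_of_isIntegral_of_isMaximal M)
    exact (Ideal.map_le_iff_le_comap.2 h2.ge : m ≤ M) (hmker z hz)⟩
  have hmT : maximalIdeal (A ⊗[R] S) = RingHom.ker π.toRingHom := (eq_maximalIdeal hmax).symm
  haveI : IsLocalHom (algebraMap A (A ⊗[R] S)) := ⟨fun a ha => by
    by_contra hc
    have h1 : algebraMap A (A ⊗[R] S) a ∈ maximalIdeal (A ⊗[R] S) := by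
      rw [hmT, RingHom.mem_ker]
      show π (algebraMap A (A ⊗[R] S) a) = 0
      rw [AlgHom.commutes, IsScalarTower.algebraMap_apply A E (ResidueField E)]
      exact (residue_eq_zero_iff _).2 (map_nonunit (algebraMap A E) a ((mem_maximalIdeal a).2 hc))
    exact (mem_maximalIdeal _).1 h1 ha⟩
  haveI : HenselianLocalRing (A ⊗[R] S) := Groth.Agent.Hensel.henselianLocalRing_finite A (A ⊗[R] S)
  let πq : (A ⊗[R] S ⧸ maximalIdeal (A ⊗[R] S)) →ₐ[A] ResidueField E :=
    Ideal.Quotient.liftₐ _ π fun z hz => by rw [hmT] at hz; exact hz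
  have hπq : Function.Bijective πq := ⟨(injective_iff_map_eq_zero _).2 fun y hy => by
    obtain ⟨z, rfl⟩ := Ideal.Quotient.mk_surjective y
    exact Ideal.Quotient.eq_zero_iff_mem.2 (hmT ▸ hy), fun y => by
    obtain ⟨z, rfl⟩ := hπ y
    exact ⟨Ideal.Quotient.mk _ z, rfl⟩⟩
  let eq := AlgEquiv.ofBijective πq hπq
  obtain ⟨χ, hχ⟩ := exists_algHom_of_residue hE (eq.symm.toAlgHom.comp (IsScalarTower.toAlgHom A E (ResidueField E)))
  have hπχ : ∀ x, π (χ x) = residue E x := fun x => by
    show eq (Ideal.Quotient.mk _ (χ x)) = _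
    rw [hχ]
    exact eq.apply_symm_apply _
  have hsurj : Function.Surjective χ := by
    have key : (⊤ : Submodule A (A ⊗[R] S)) ≤ LinearMap.range χ.toLinearMap := by
      refine Submodule.le_of_le_smul_of_le_jacobson_bot (I := maximalIdeal A) Module.Finite.fg_top
        (maximalIdeal_le_jacobson ⊥) fun z _ => ?_
      obtain ⟨x, hx⟩ := residue_surjective (π z)
      refine Submodule.mem_sup.2 ⟨χ x, ⟨x, rfl⟩, z - χ x, ?_, add_sub_cancel _ _⟩
      rw [Ideal.smul_top_eq_map]
      exact hmker _ (by rw [map_sub, hπχ, hx, sub_self])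
    exact fun z => key (Submodule.mem_top : z ∈ ⊤)
  have hinj : Function.Injective χ := by
    letI : Algebra E (A ⊗[R] S) := χ.toRingHom.toAlgebra
    haveI : IsScalarTower A E (A ⊗[R] S) := IsScalarTower.of_algebraMap_eq fun a => (χ.commutes a).symm
    haveI : Module.Flat A (A ⊗[R] S) := inferInstance
    haveI : Module.Flat E (A ⊗[R] S) := UnramLib.flat_of_formallyUnramified A E (A ⊗[R] S)
    haveI : IsLocalHom (algebraMap E (A ⊗[R] S)) := Groth.Agent.Hensel.essEt_hom_local hE χ
    haveI : Module.FaithfullyFlat E (A ⊗[R] S) := Module.FaithfullyFlat.of_flat_of_isLocalHom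
    exact FaithfulSMul.algebraMap_injective E (A ⊗[R] S)
  exact ⟨AlgEquiv.ofBijective χ ⟨hinj, hsurj⟩⟩

end Groth.Agent.S16444
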