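import Groth.Statements.S16447
-- import your own Groth.Agent.* helpers here
import Groth.Agent.EssSub.NormMax

set_option autoImplicit false
universe u
open EGA4loc

namespace Groth.Agent.S16447

/-- Let A be a Noetherian reduced local ring, E a local ring which is an essentially etale local
A-algebra with local structure map, K_E the total ring of fractions of E, E' the integral closure of
E in K_E (viewed as an A-subalgebra of K_E), and L an A-subalgebra of K_E containing an inverse of
the image of every non-zero-divisor of A. Let C be the A-subalgebra L ⊓ E' of K_E. Then C is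
integrally closed in L, C has only finitely many maximal ideals, the maximal ideals of C are exactly
the contractions of the maximal ideals of E', and every element of L is an element of C times the
inverse of the image of a non-zero-divisor of A. (The published statement assumes only that A is
reduced; its proof uses that the integral closure of E in K_E has finitely many maximal ideals,
which holds when A is Noetherian and can fail otherwise, so A is taken Noetherian here.) -/
theorem result
    (A E : Type u) [CommRing A] [IsLocalRing A] [IsReduced A] [IsNoetherianRing A]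
    [CommRing E] [IsLocalRing E] [Algebra A E] [IsLocalHom (algebraMap A E)]
    (hE : EGA4loc.IsEssentiallyEtale A E) (L : Subalgebra A (FractionRing E))
    (hL : ∀ s ∈ nonZeroDivisors A, ∃ y ∈ L, algebraMap A (FractionRing E) s * y = 1)
    (C : Subalgebra A (FractionRing E))
    (hC : C = L ⊓ (integralClosure E (FractionRing E)).restrictScalars A) :
    (∀ x ∈ L, IsIntegral C x → x ∈ C) ∧
      {N : Ideal C | N.IsMaximal}.Finite ∧
      (∀ N : Ideal C, N.IsMaximal ↔ ∃ M : Ideal ((integralClosure E (FractionRing E)).restrictScalars A),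
          M.IsMaximal ∧ N = M.comap (Subalgebra.inclusion (hC.trans_le inf_le_right))) ∧
      ∀ l ∈ L, ∃ c ∈ C, ∃ s ∈ nonZeroDivisors A, ∃ y ∈ L,
        algebraMap A (FractionRing E) s * y = 1 ∧ l = c * y := by
  classical
  haveI := EssSub.isReduced_of_essEt hE
  obtain ⟨hu, hft⟩ := Hensel.essEt_unramified hE
  haveI := hu
  haveI := hft
  have hmin : (minimalPrimes A).Finite := minimalPrimes.finite_of_isNoetherianRing A
  haveI : IsNoetherianRing E := Algebra.EssFiniteType.isNoetherianRing A E
  let K := FractionRing E
  let T := (integralClosure E K).restrictScalars A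
  haveI : Algebra.IsIntegral E (integralClosure E K) := ⟨fun z => IsIntegralClosure.isIntegral E K z⟩
  have hCT : C ≤ T := hC.trans_le inf_le_right
  have hCL : C ≤ L := hC.trans_le inf_le_left
  have hTfin : {M : Ideal T | M.IsMaximal}.Finite := EssSub.finite_maximal_normalization E
  have hcmax : ∀ M : Ideal T, M.IsMaximal → (M.comap (Subalgebra.inclusion hCT)).IsMaximal := fun M hM => by
    letI : Algebra E T := ((algebraMap E K).codRestrict T.toSubsemiring fun e => isIntegral_algebraMap).toAlgebra
    haveI : IsScalarTower E T K := IsScalarTower.of_algebraMap_eq fun e => rfl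
    haveI : IsScalarTower A E T := IsScalarTower.of_algebraMap_eq fun r => Subtype.ext (IsScalarTower.algebraMap_apply A E K r)
    haveI : Algebra.IsIntegral E T := ⟨fun z => (isIntegral_algHom_iff (IsScalarTower.toAlgHom E T K) Subtype.val_injective).1 z.2⟩
    haveI := hM
    exact EssSub.isMaximal_comap_of_residue hE C T (Subalgebra.inclusion hCT) M
  -- fractions
  obtain ⟨i1, i2, hart, hfinK⟩ := EssSub.exists_generic hmin hE
  letI := i1
  haveI := i2
  haveI := hart
  haveI := hfinK
  haveI : Algebra.IsIntegral (FractionRing A) K := Algebra.IsIntegral.of_finite _ _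
  have hscale : ∀ l ∈ L, ∃ s ∈ nonZeroDivisors A, algebraMap A K s * l ∈ C := fun l hl => by
    obtain ⟨m, hm⟩ := IsIntegral.exists_multiple_integral_of_isLocalization (Rₘ := FractionRing A) (nonZeroDivisors A) l
      (Algebra.IsIntegral.isIntegral l)
    refine ⟨m, m.2, hC ▸ ⟨mul_mem (L.algebraMap_mem _) hl, ?_⟩⟩
    rw [← Algebra.smul_def]
    exact hm.tower_top
  -- invertible elements of `L`
  have hinv : ∀ x ∈ L, IsUnit x → ∃ y ∈ L, x * y = 1 := by
    intro x hx hxu
    obtain ⟨⟨e, ⟨_, a, ha, rfl⟩⟩, hea⟩ :=
      haveI := (S16448.result A E hmin hE).1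
      IsLocalization.surj ((nonZeroDivisors A).map (algebraMap A E)) x
    have h0 : x * algebraMap A K a = algebraMap E K e := by rw [← hea, IsScalarTower.algebraMap_apply A E K]
    have hau : IsUnit (algebraMap A K a) := by
      obtain ⟨y, -, hy⟩ := hL a ha
      exact isUnit_iff_exists_inv.2 ⟨y, hy⟩
    have heu : IsUnit (algebraMap E K e) := h0 ▸ hxu.mul hau
    obtain ⟨q, b, hb, hqb⟩ := EssSub.exists_mul_eq hmin hE e fun q hq => by
      have h1 := congrArg (algebraMap E K) hq
      rw [map_mul, map_zero] at h1
      exact IsFractionRing.injective E K (by rw [map_zero]; exact heu.mul_left_eq_zero.1 h1)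
    obtain ⟨y, hy, hby⟩ := hL b hb
    have heL : algebraMap E K e ∈ L := h0 ▸ mul_mem hx (L.algebraMap_mem _)
    refine ⟨algebraMap A K a * (Polynomial.aeval (algebraMap E K e) q * y), mul_mem (L.algebraMap_mem _)
      (mul_mem (Algebra.adjoin_le (Set.singleton_subset_iff.2 heL) (Polynomial.aeval_mem_adjoin_singleton A _)) hy), ?_⟩
    have h2 : Polynomial.aeval (algebraMap E K e) q * algebraMap E K e = algebraMap A K b := by
      rw [Polynomial.aeval_algebraMap_apply, ← map_mul, hqb, ← IsScalarTower.algebraMap_apply A E K]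
    linear_combination (Polynomial.aeval (algebraMap E K e) q * y) * h0 + y * h2 + hby
  have hkey : ∀ N : Ideal C, N.IsMaximal → ∃ M : Ideal T, M.IsMaximal ∧ N = M.comap (Subalgebra.inclusion hCT) := fun N hN => by
    by_contra hall
    push Not at hall
    have hsub : ¬ ((N : Set C) ⊆ ⋃ M ∈ (hTfin.toFinset : Set (Ideal T)), (M.comap (Subalgebra.inclusion hCT) : Set C)) := by
      intro hsub
      obtain ⟨M, hM, hle⟩ := (Ideal.subset_union_prime (s := hTfin.toFinset) (f := fun M => M.comap (Subalgebra.inclusion hCT))
        ⊥ ⊥ fun M hM _ _ => (hcmax M (hTfin.mem_toFinset.1 hM)).isPrime).1 hsub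
      exact hall M (hTfin.mem_toFinset.1 hM) (hN.eq_of_le (hcmax M (hTfin.mem_toFinset.1 hM)).ne_top hle)
    obtain ⟨x, hxN, hx⟩ := Set.not_subset.1 hsub
    simp only [Set.mem_iUnion, Set.Finite.coe_toFinset, not_exists] at hx
    have hxu : IsUnit (Subalgebra.inclusion hCT x) := by
      by_contra hnu
      obtain ⟨M, hM, hxM⟩ := exists_max_ideal_of_mem_nonunits hnu
      exact hx M hM hxM
    obtain ⟨w, hw⟩ := hxu.exists_right_inv
    have hxw : (x : K) * (w : K) = 1 := congrArg (fun z : T => (z : K)) hw
    obtain ⟨y, hy, hxy⟩ := hinv x (hCL x.2) (isUnit_iff_exists_inv.2 ⟨_, hxw⟩)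
    have hwy : (w : K) = y := by linear_combination y * hxw - (w : K) * hxy
    have hyC : y ∈ C := hC ▸ ⟨hy, hwy ▸ w.2⟩
    exact hN.ne_top (Ideal.eq_top_of_isUnit_mem _ hxN (isUnit_iff_exists_inv.2 ⟨⟨y, hyC⟩, Subtype.ext hxy⟩))
  refine ⟨fun x hx hxC => ?_, ?_, fun N => ⟨hkey N, ?_⟩, fun l hl => ?_⟩
  · let ι : C →+* integralClosure E K := (Subalgebra.inclusion hCT).toRingHom
    letI : Algebra C (integralClosure E K) := ι.toAlgebra
    haveI : IsScalarTower C (integralClosure E K) K := IsScalarTower.of_algebraMap_eq fun c => rfl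
    have h : IsIntegral E x := isIntegral_trans (A := integralClosure E K) x hxC.tower_top
    exact hC ▸ ⟨hx, h⟩
  · refine (hTfin.image fun M => M.comap (Subalgebra.inclusion hCT)).subset fun N (hN : N.IsMaximal) => ?_
    obtain ⟨M, hM, h⟩ := hkey N hN
    exact ⟨M, hM, h.symm⟩
  · rintro ⟨M, hM, rfl⟩
    exact hcmax M hM
  · obtain ⟨s, hs, hsl⟩ := hscale l hl
    obtain ⟨y, hy, hsy⟩ := hL s hs
    exact ⟨_, hsl, s, hs, y, hy, hsy, by linear_combination (-l) * hsy⟩

end Groth.Agent.S16447
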