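import Groth.Statements.S1645
import Groth.Agent.DimOnePole.Basic
import Groth.Agent.S1551
import Groth.Agent.SepAffine.Top

set_option autoImplicit false
universe u
open CategoryTheory CategoryTheory.Limits AlgebraicGeometry
open Variety

set_option backward.isDefEq.respectTransparency false
set_option backward.isDefEq.respectTransparency.types false

namespace Groth.Agent.S1645

/-- Let X be integral and separated and U a nonempty affine open outside of which there are only
finitely many points, each with a one-dimensional Noetherian local ring. Then there are a globally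
generated invertible module L and a global section s with U equal to the locus where s generates L. -/
theorem result (X : Scheme.{u}) [IsIntegral X] [X.IsSeparated]
    (U : X.Opens) (hU : IsAffineOpen U) (hne : (U : Set X).Nonempty) (hfin : ((U : Set X)ᶜ).Finite)
    (hloc : ∀ x : X, x ∉ U → IsNoetherianRing (X.presheaf.stalk x) ∧ ringKrullDim (X.presheaf.stalk x) = 1) :
    ∃ (L : X.Modules) (s : Coh.structureModule X ⟶ L), PicF.IsInvertible L ∧ Curv2.IsGloballyGenerated L ∧
      CohB1.genLocus L s = U := by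
  classical
  haveI : ∀ z : {y : X // y ∉ U}, IsNoetherianRing (X.presheaf.stalk z.1) := fun z => (hloc z.1 z.2).1
  have hdim : ∀ z : X, z ∉ U → ringKrullDim (X.presheaf.stalk z) ≤ 1 := fun z hz => (hloc z hz).2.le
  have hfinE : ((U : Set X)ᶜ).Finite := hfin
  haveI : QuasiCompact U.ι := by
    haveI : IsAffine (U : Scheme.{u}) := hU
    haveI : IsAffineHom U.ι := IsAffineHom.of_comp U.ι (terminal.from X)
    infer_instance
  haveI := hfinE.to_subtype
  haveI : T1Space ↥((U : Set X)ᶜ) := by
    refine ⟨fun y => closure_subset_iff_isClosed.1 fun w hw => ?_⟩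
    have h : y.1 ⤳ w.1 := (specializes_iff_mem_closure.2 hw).map continuous_subtype_val
    by_contra hwy
    have hne' : y.1 ≠ w.1 := fun e => hwy (Subtype.ext e.symm)
    rcases Groth.Agent.SepAffine.eq_or_eq_of_specializes (hdim w.1 w.2)
      (genericPoint_specializes y.1) h with e | e
    · exact y.2 (e ▸ ((genericPoint_spec X).mem_open_set_iff U.2).mpr (by simpa using ‹(U : Set X).Nonempty›))
    · exact hne' e
  have hdisc : DiscreteTopology ↥((U : Set X)ᶜ) := inferInstance
  let E := {y : X // y ∉ U}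
  haveI : Finite E := hfinE.to_subtype
  haveI := Fintype.ofFinite E
  choose W f hW hzW hone hWf _ using fun z : E =>
    Groth.Agent.InvExt.exists_principal_nbhd U hdisc z.2 (hdim z.1 z.2)
  choose ι hι v hv hpole using fun z : E =>
    Groth.Agent.DimOnePole.exists_valuations_point (hdim z.1 z.2) hU z.2 (hW z) (hzW z) (hone z) (f z) (hWf z)
  haveI := hι
  haveI := Fintype.ofFinite (Σ z, ι z)
  obtain ⟨a, ha⟩ := Groth.Agent.AmpleDimOne.exists_large (fun i : Σ z, ι z => v i.1 i.2) (fun i => hv i.1 i.2) Finset.univ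
  choose N hN hP using fun z => hpole z a fun i => ha ⟨z, i⟩ (Finset.mem_univ _)
  let n := ∏ z, N z
  have hk : ∀ z, ∃ k, 0 < k ∧ n = N z * k := fun z => by
    obtain ⟨k, hk⟩ := Finset.dvd_prod_of_mem N (Finset.mem_univ z)
    refine ⟨k, Nat.pos_of_ne_zero fun h => ?_, hk⟩
    have : 0 < n := Finset.prod_pos fun z _ => hN z
    rw [show n = _ from hk, h, mul_zero] at this
    exact lt_irrefl 0 this
  choose k hk0 hnk using hk
  choose W' hW'W Fz hzW' hFU hF1 using fun z => hP z (k z) (hk0 z)
  obtain ⟨F, σ, hF, hσ⟩ := Groth.Agent.InvExt.exists_rankOne_unit U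
  let b : ∀ z, Γ(X, W' z ⊓ U) := fun z => Groth.Agent.QC.resO X (inf_le_right : W' z ⊓ U ≤ U) a ^ n
  have hb : ∀ z, Groth.Agent.QC.resO X (inf_le_left : W' z ⊓ U ≤ W' z) (Fz z) * b z = 1 := fun z => by
    rw [show b z = _ ^ n from rfl, hnk z]
    exact hF1 z
  let g : ∀ z, Γ(F, W' z ⊓ U) := fun z => b z • Groth.Agent.QC.res F le_top σ
  have hg : ∀ z, TMul.IsGen (g z) := fun z => by
    refine TMul.isGen_smul ?_ (IsUnit.of_mul_eq_one_right _ (hb z))
    have := hσ.res (inf_le_right : W' z ⊓ U ≤ U)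
    rwa [Groth.Agent.QC.res_res] at this
  obtain ⟨L, hL, -, hs⟩ := Groth.Agent.InvExt.exists_extension_sections hF g hg (fun z z' hne y hy => by
      by_contra hyU
      exact hne (Subtype.ext ((hone z y (hW'W z hy.1) hyU).symm.trans (hone z' y (hW'W z' hy.2) hyU))))
    fun y hy => ⟨⟨y, hy⟩, hzW' _⟩
  obtain ⟨s, -, hsU⟩ := hs σ Fz fun z => by rw [smul_smul, hb, one_smul]
  have hsU' := hsU hσ hFU
  obtain ⟨τ, hτ⟩ := (hF.bij ⊤).2
    (Groth.Agent.QC.resO X (inf_le_right : ⊤ ⊓ U ≤ U) a ^ n • Groth.Agent.QC.res F le_top σ)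
  obtain ⟨t, ht, -⟩ := hs τ (fun _ => 1) fun z => by
    have h1 := congrArg (Groth.Agent.QC.res F (le_inf le_top inf_le_right : W' z ⊓ U ≤ ⊤ ⊓ U)) hτ
    rw [Groth.Agent.QC.res_res, Groth.Agent.QC.res_smul, map_pow, Groth.Agent.QC.resO_resO, Groth.Agent.QC.res_res] at h1
    rw [map_one, one_smul]
    exact h1
  refine ⟨L, s, hL, Groth.Agent.S1551.isGloballyGenerated_of_gen fun y => ?_, hsU'⟩
  by_cases hy : y ∈ U
  · exact ⟨s, by rw [hsU']; exact hy⟩
  · refine ⟨t, ht ⟨y, hy⟩ ?_⟩
    rw [X.basicOpen_of_isUnit isUnit_one]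
    exact hzW' ⟨y, hy⟩

end Groth.Agent.S1645
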