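import Groth.Statements.S16450
-- import your own Groth.Agent.* helpers here
import Groth.Agent.EssSub.ResidueTransfer

set_option autoImplicit false
universe u
open scoped TensorProduct
open EGA4loc

namespace Groth.Agent.S16450

open IsLocalRing in
/-- Let A be an excellent reduced local ring with maximal ideal m and residue field k, S a strict
henselization of A with total ring of fractions K, and D an A-subalgebra of S which is a local ring
dominated by S (local inclusion) and whose total ring of fractions is finitely generated over that
of A. Inside K, let A' and D' be the normalizations of A and of D: the elements of K integral over A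
(resp. over D) which are carried into A (resp. into D) by the image of some non-zero-divisor of A;
so A' ⊆ D', and let ι : D → D' be the inclusion. Then D is an essentially etale local A-algebra if
and only if D' has finitely many maximal ideals and the canonical map A' ⊗_A D → D'/Rad(D') is
surjective with kernel the ideal generated by Rad(A') ⊗ D and A' ⊗ m_D — in other words the residual
field products satisfy (A'/Rad A') ⊗_k (D/m_D) ≅ D'/Rad(D') via the canonical maps. -/
theorem result
    (A S : Type u) [CommRing A] [IsLocalRing A] [IsReduced A] (hA : EGA4.IsExcellent A)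
    [CommRing S] [IsLocalRing S] [Algebra A S] [IsLocalHom (algebraMap A S)]
    [Hensel.IsStrictHenselization A S] (D : Subalgebra A S) [IsLocalRing D]
    [IsLocalHom (algebraMap D S)]
    (hfg : ∃ t : Finset (FractionRing D), ∀ x : FractionRing D, ∃ a ∈ nonZeroDivisors A,
      algebraMap A (FractionRing D) a * x ∈ Algebra.adjoin A (t : Set (FractionRing D)))
    (A' D' : Subalgebra A (FractionRing S))
    (hA' : ∀ x : (FractionRing S), x ∈ A' ↔ (IsIntegral A x ∧
      ∃ a ∈ nonZeroDivisors A, ∃ b : A, algebraMap A (FractionRing S) a * x = algebraMap A (FractionRing S) b))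
    (hD' : ∀ x : (FractionRing S), x ∈ D' ↔ (IsIntegral D x ∧
      ∃ a ∈ nonZeroDivisors A, ∃ d ∈ D, algebraMap A (FractionRing S) a * x = algebraMap S (FractionRing S) d))
    (hle : A' ≤ D') (ι : D →ₐ[A] D') (hι : ∀ d : D, (ι d : (FractionRing S)) = algebraMap S (FractionRing S) d) :
    EGA4loc.IsEssentiallyEtale A D ↔
      ({N : Ideal D' | N.IsMaximal}.Finite ∧
        Function.Surjective ((Ideal.Quotient.mkₐ A (Ideal.jacobson (⊥ : Ideal D'))).comp
          (Algebra.TensorProduct.productMap (Subalgebra.inclusion hle) ι)) ∧
        RingHom.ker ((Ideal.Quotient.mkₐ A (Ideal.jacobson (⊥ : Ideal D'))).comp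
          (Algebra.TensorProduct.productMap (Subalgebra.inclusion hle) ι)) =
          (Ideal.jacobson (⊥ : Ideal A')).map
              (Algebra.TensorProduct.includeLeft : A' →ₐ[A] A' ⊗[A] D) ⊔
            (maximalIdeal D).map
              (Algebra.TensorProduct.includeRight : D →ₐ[A] A' ⊗[A] D)) := by
  classical
  haveI := hA.1
  let π := Algebra.TensorProduct.productMap (Subalgebra.inclusion hle) ι
  have hπ : ∀ a d, ((π (a ⊗ₜ d) : D') : FractionRing S) = (a : FractionRing S) * algebraMap S (FractionRing S) (d : S) :=
    fun a d => by
      rw [Algebra.TensorProduct.productMap_apply_tmul, ← hι d]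
      rfl
  constructor
  · intro hE
    obtain ⟨hfin, hsurj, hker⟩ := EssSub.residue_of_essEt hA D hE A' D' hA' hD' π hπ
    refine ⟨hfin, fun y => ?_, ?_⟩
    · obtain ⟨x, rfl⟩ := Ideal.Quotient.mk_surjective y
      obtain ⟨z, rfl⟩ := hsurj x
      exact ⟨z, rfl⟩
    · ext z
      rw [RingHom.mem_ker, ← hker]
      exact Ideal.Quotient.eq_zero_iff_mem
  · rintro ⟨-, hsurj, -⟩
    obtain ⟨t, ht⟩ := hfg
    refine EssSub.essEt_of_residue hA D t ht A' D' hA' hD' fun x => ?_
    obtain ⟨w, hw⟩ := hsurj (Ideal.Quotient.mk _ x)
    refine ⟨π w, ?_, Ideal.Quotient.eq.1 hw.symm⟩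
    clear hw
    induction w using TensorProduct.induction_on with
    | zero => rw [map_zero]; exact zero_mem _
    | tmul a d =>
      rw [hπ, mul_comm, show algebraMap S (FractionRing S) (d : S) = algebraMap D (FractionRing S) d from rfl,
        ← Algebra.smul_def]
      exact Submodule.smul_mem _ _ (Submodule.subset_span a.2)
    | add y z hy hz =>
      rw [map_add, Subalgebra.coe_add]
      exact add_mem hy hz

end Groth.Agent.S16450
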