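import Groth.Statements.S16451
import Groth.Agent.EssSub.HenselInd
import Groth.Agent.EssSub.HenselFix
import Groth.Agent.EssSub.HenselInj
import Groth.Agent.EssSub.HenselConv

set_option autoImplicit false
set_option linter.style.haveILetI false
set_option maxHeartbeats 1600000
universe u
open scoped TensorProduct
open EGA4loc Polynomial

namespace Groth.Agent.S16451

open IsLocalRing in
/-- Let A be an excellent reduced local ring with maximal ideal m and residue field k, S a strict
henselization of A with total ring of fractions K, and D an A-subalgebra of S which is a local ring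
dominated by S (local inclusion); let D^h be a henselization of D and θ : D^h → S the D-algebra map
to S (the unique one, S being henselian). Inside K, let A' and D' be the normalizations of A and of
D — the elements of K integral over A (resp. over D) and carried into A (resp. into D) by the image
of some non-zero-divisor of A — so A' ⊆ D', and let ι : D → D' be the inclusion. Then θ is injective
and its image is a directed union of A-subalgebras of S which are local rings and essentially etale
local A-algebras (that is, D^h is a direct limit of local etale extensions of A) if and only if D'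
has finitely many maximal ideals and the canonical map A' ⊗_A D → D'/Rad(D') is surjective with
kernel the ideal generated by Rad(A') ⊗ D and A' ⊗ m_D (the residual field products satisfy (A'/Rad
A') ⊗_k (D/m_D) ≅ D'/Rad(D')). -/
theorem result
    (A S : Type u) [CommRing A] [IsLocalRing A] [IsReduced A] (hA : EGA4.IsExcellent A)
    [CommRing S] [IsLocalRing S] [Algebra A S] [IsLocalHom (algebraMap A S)]
    [Hensel.IsStrictHenselization A S] (D : Subalgebra A S) [IsLocalRing D]
    [IsLocalHom (algebraMap D S)]
    (Dh : Type u) [CommRing Dh] [IsLocalRing Dh] [Algebra D Dh] [IsLocalHom (algebraMap D Dh)]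
    [Hensel.IsHenselization D Dh] [Algebra Dh S] [IsScalarTower D Dh S]
    (A' D' : Subalgebra A (FractionRing S))
    (hA' : ∀ x : (FractionRing S), x ∈ A' ↔ (IsIntegral A x ∧
      ∃ a ∈ nonZeroDivisors A, ∃ b : A, algebraMap A (FractionRing S) a * x = algebraMap A (FractionRing S) b))
    (hD' : ∀ x : (FractionRing S), x ∈ D' ↔ (IsIntegral D x ∧
      ∃ a ∈ nonZeroDivisors A, ∃ d ∈ D, algebraMap A (FractionRing S) a * x = algebraMap S (FractionRing S) d))
    (hle : A' ≤ D') (ι : D →ₐ[A] D') (hι : ∀ d : D, (ι d : (FractionRing S)) = algebraMap S (FractionRing S) d) :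
    (Function.Injective (algebraMap Dh S) ∧
        ∀ s : Finset S, (s : Set S) ⊆ Set.range (algebraMap Dh S) →
          ∃ E : Subalgebra A S, (s : Set S) ⊆ (E : Set S) ∧ (E : Set S) ⊆ Set.range (algebraMap Dh S) ∧
            ∃ _ : IsLocalRing E, EGA4loc.IsEssentiallyEtale A E) ↔
      ({N : Ideal D' | N.IsMaximal}.Finite ∧
        Function.Surjective ((Ideal.Quotient.mkₐ A (Ideal.jacobson (⊥ : Ideal D'))).comp
          (Algebra.TensorProduct.productMap (Subalgebra.inclusion hle) ι)) ∧
        RingHom.ker ((Ideal.Quotient.mkₐ A (Ideal.jacobson (⊥ : Ideal D'))).comp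
          (Algebra.TensorProduct.productMap (Subalgebra.inclusion hle) ι)) =
          (Ideal.jacobson (⊥ : Ideal A')).map
              (Algebra.TensorProduct.includeLeft : A' →ₐ[A] A' ⊗[A] D) ⊔
            (maximalIdeal D).map
              (Algebra.TensorProduct.includeRight : D →ₐ[A] A' ⊗[A] D)) := by
  classical
  haveI : IsNoetherianRing A := hA.1
  let K := FractionRing S
  let π : A' ⊗[A] D →ₐ[A] D' := Algebra.TensorProduct.productMap (Subalgebra.inclusion hle) ι
  have hπ : ∀ a d, (π (a ⊗ₜ d) : K) = (a : K) * algebraMap S K (d : S) := fun a d => by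
    show ((Algebra.TensorProduct.productMap (Subalgebra.inclusion hle) ι (a ⊗ₜ d) : D') : K) = _
    rw [Algebra.TensorProduct.productMap_apply_tmul, Subalgebra.coe_mul, hι]
    rfl
  have hspan : ∀ u, (π u : K) ∈ Submodule.span D (A' : Set K) := fun u => by
    induction u using TensorProduct.induction_on with
    | zero => rw [map_zero]; exact zero_mem _
    | tmul a d =>
      rw [hπ, mul_comm]
      show algebraMap D K d * (a : K) ∈ _
      rw [← Algebra.smul_def]
      exact Submodule.smul_mem _ _ (Submodule.subset_span a.2)
    | add u v hu hv => rw [map_add]; exact add_mem hu hv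
  have hrange : ∀ y ∈ Submodule.span D (A' : Set K), ∃ u, (π u : K) = y := by
    intro y hy
    induction hy using Submodule.span_induction with
    | mem b hb => exact ⟨(⟨b, hb⟩ : A') ⊗ₜ 1, by rw [hπ, OneMemClass.coe_one, map_one, mul_one]⟩
    | zero => exact ⟨0, by rw [map_zero]; rfl⟩
    | add y z _ _ hy hz =>
      obtain ⟨u, rfl⟩ := hy
      obtain ⟨v, rfl⟩ := hz
      exact ⟨u + v, by rw [map_add]; rfl⟩
    | smul d y _ hy =>
      obtain ⟨u, rfl⟩ := hy
      refine ⟨((1 : A') ⊗ₜ d) * u, ?_⟩
      rw [map_mul, Subalgebra.coe_mul, hπ, OneMemClass.coe_one, one_mul, Algebra.smul_def]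
      rfl
  haveI := EssSub.isLocalHom_comparison D Dh (S := S)
  constructor
  · rintro ⟨hinj, hunion⟩
    have hcover := EssSub.exists_max_over_of_injective D Dh hinj D' hD'
    have hres := EssSub.residue_surjective_of_union D Dh hinj hunion A' D' hA' hD' hle
    have hker := EssSub.residue_ker_of_union D Dh hinj hunion A' D' hA' hD' hle π hπ
    refine ⟨?_, fun x => ?_, ?_⟩
    · let jA : D' →+* integralClosure S K :=
        { toFun := fun y => ⟨(y : K), ((hD' y).1 y.2).1.tower_top⟩
          map_one' := rfl
          map_mul' := fun _ _ => rfl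
          map_zero' := rfl
          map_add' := fun _ _ => rfl }
      refine ((EssSub.finite_maximal_normalizationSH (A := A) (S := S)).image fun M => M.comap jA).subset
        fun N hN => ?_
      obtain ⟨M, hM, hMN⟩ := hcover N hN
      exact ⟨M, hM, Ideal.ext fun x => (hMN x _).symm⟩
    · obtain ⟨x, rfl⟩ := Ideal.Quotient.mk_surjective x
      obtain ⟨z, hz, hxz⟩ := hres x
      obtain ⟨u, hu⟩ := hrange _ hz
      refine ⟨u, ?_⟩
      show Ideal.Quotient.mk _ (π u) = _
      rw [show π u = z from Subtype.ext hu, eq_comm, Ideal.Quotient.mk_eq_mk_iff_sub_mem]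
      exact hxz
    · ext z
      rw [RingHom.mem_ker, ← hker z]
      exact Ideal.Quotient.eq_zero_iff_mem
  · rintro ⟨-, hsurj, -⟩
    have hres : ∀ x : D', ∃ z : D', (z : K) ∈ Submodule.span D (A' : Set K) ∧
        x - z ∈ Ideal.jacobson (⊥ : Ideal D') := fun x => by
      obtain ⟨u, hu⟩ := hsurj (Ideal.Quotient.mk _ x)
      refine ⟨π u, hspan u, ?_⟩
      rw [← Ideal.Quotient.mk_eq_mk_iff_sub_mem]
      exact hu.symm
    refine ⟨EssSub.injective_of_cover D Dh D' hD'
      (EssSub.exists_max_over_of_residue D A' D' hA' hD' hle hres), fun s hs => ?_⟩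
    obtain ⟨h, hhl, hh, -⟩ := EssSub.exists_envMap (S := S) D Dh
    letI : Algebra A Dh := ((algebraMap D Dh).comp (algebraMap A D)).toAlgebra
    let θA : Dh →ₐ[A] S :=
      { algebraMap Dh S with
        commutes' := fun a => by
          show algebraMap Dh S (algebraMap D Dh (algebraMap A D a)) = _
          rw [← IsScalarTower.algebraMap_apply D Dh S]
          rfl }
    haveI : HenselianLocalRing Dh := (‹Hensel.IsHenselization D Dh›).henselian
    haveI : HenselianLocalRing S := (‹Hensel.IsStrictHenselization A S›).henselian
    have hHroot : ∀ (α : S) (f : A[X]), f.Monic → aeval α f = 0 → IsUnit (aeval α f.derivative) →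
        (∃ x ∈ θA.range, residue S α = residue S x) → α ∈ θA.range := by
      intro α f hf hr hd ⟨x, hx, hxα⟩
      obtain ⟨y, rfl⟩ := hx
      have he : ∀ (c : Dh) (p : A[X]), θA ((p.map (algebraMap A Dh)).eval c) = aeval (θA c) p := fun c p => by
        rw [eval_map_algebraMap, aeval_algHom_apply]
      replace hxα : residue S α = residue S (θA y) := hxα
      obtain ⟨y₀, hy₀, hyy⟩ := HenselianLocalRing.is_henselian (f.map (algebraMap A Dh)) (hf.map _) y (by
          rw [mem_maximalIdeal, mem_nonunits_iff]
          intro hu
          have h1 := hu.map θA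
          rw [he] at h1
          refine (residue_ne_zero_iff_isUnit _).2 h1 ?_
          rw [GaloisStage.residue_aeval, ← hxα, ← GaloisStage.residue_aeval, hr, map_zero])
        (isUnit_of_map_unit (algebraMap Dh S) _ (by
          show IsUnit (θA _)
          rw [derivative_map, he, ← residue_ne_zero_iff_isUnit, GaloisStage.residue_aeval, ← hxα,
            ← GaloisStage.residue_aeval, residue_ne_zero_iff_isUnit]
          exact hd))
      refine ⟨y₀, GaloisStage.root_unique (p := f.map (algebraMap A S)) (x := α) (y := θA y₀)
        (by rw [eval_map_algebraMap]; exact hr)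
        (by rw [eval_map_algebraMap, ← he, show (f.map (algebraMap A Dh)).eval y₀ = 0 from hy₀, map_zero])
        (by rw [derivative_map, eval_map_algebraMap]; exact hd) ?_⟩
      rw [← residue_eq_zero_iff, map_sub, hxα, ← map_sub, residue_eq_zero_iff, ← map_sub]
      exact map_nonunit (algebraMap Dh S) _ hyy
    obtain ⟨E, hsE, hEH, hEl, -, hE⟩ := EssSub.exists_essEt_of_fix θA.range (fun x hx hu => by
        obtain ⟨y, rfl⟩ := hx
        obtain ⟨w, hw⟩ := (isUnit_of_map_unit (algebraMap Dh S) y hu).exists_right_inv
        exact ⟨θA w, ⟨w, rfl⟩, (map_mul θA y w).symm.trans ((congrArg θA hw).trans (map_one θA))⟩)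
      hHroot h hhl hh (fun g hg => by
        have hgD : ∀ d : D, g (d : S) = d := EssSub.fixed_of_residue hA D A' D' hA' hD' hle hres g fun d => by
          refine hg _ ⟨algebraMap D Dh d, ?_⟩
          exact (IsScalarTower.algebraMap_apply D Dh S d).symm
        rintro x ⟨y, rfl⟩
        have h1 := ((‹Hensel.IsHenselization D Dh›).universal S (algebraMap D S) inferInstance).unique
          (y₁ := (g : S →+* S).comp (algebraMap Dh S)) (y₂ := algebraMap Dh S)
          (RingHom.ext fun d => by
            show g (algebraMap Dh S (algebraMap D Dh d)) = _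
            rw [← IsScalarTower.algebraMap_apply D Dh S]
            exact hgD d)
          (IsScalarTower.algebraMap_eq D Dh S).symm
        exact RingHom.congr_fun h1 y) s hs
    exact ⟨E, hsE, fun e he => hEH he, hEl, hE⟩

end Groth.Agent.S16451
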