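import Groth.Statements.S16452
import Mathlib.RingTheory.Ideal.Quotient.Operations
import Mathlib.RingTheory.Smooth.Basic

set_option autoImplicit false
universe u
open CAlg

namespace Groth.Agent.S16452

/-- Let R → S be formally étale and J an ideal of S such that the composite R → S → S/J is surjective;
let I ⊆ R be its kernel, the preimage of J in R. Then the homomorphism of associated graded rings ⊕ₙ
Iⁿ/Iⁿ⁺¹ → ⊕ₙ Jⁿ/Jⁿ⁺¹ induced by R → S (which carries I into J) is bijective. -/
theorem result (R : Type u) [CommRing R] (S : Type u)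
    [CommRing S] [Algebra R S] [Algebra.FormallyEtale R S] (J : Ideal S)
    (hJ : Function.Surjective (algebraMap R (S ⧸ J))) :
    Function.Bijective (AssocGr.map (AssocGr.IsFiltHom.adic
      (Ideal.map_comap_le : (J.comap (algebraMap R S)).map (algebraMap R S) ≤ J))) := by
  classical
  set I := J.comap (algebraMap R S) with hI
  have hmapI : I.map (algebraMap R S) ≤ J := Ideal.map_comap_le
  have hpow : ∀ n, I ^ n ≤ (J ^ n).comap (algebraMap R S) := fun n => by
    rw [← Ideal.map_le_iff_le_comap, Ideal.map_pow]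
    exact Ideal.pow_right_mono hmapI n
  -- the quotient map `S → R/I`
  let e : R ⧸ I →ₐ[R] S ⧸ J := Ideal.quotientMapₐ J (Algebra.ofId R S) le_rfl
  have he : Function.Bijective e := by
    refine ⟨?_, fun y => ?_⟩
    · exact Ideal.quotientMap_injective
    · obtain ⟨r, hr⟩ := hJ y
      exact ⟨Ideal.Quotient.mk I r, by rw [← hr]; rfl⟩
  let θ : S →ₐ[R] R ⧸ I := (AlgEquiv.ofBijective e he).symm.toAlgHom.comp (Ideal.Quotient.mkₐ R J)
  have key : ∀ n : ℕ, 1 ≤ n → (∀ a : R, algebraMap R S a ∈ J ^ n → a ∈ I ^ n) ∧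
      ∀ s : S, ∃ a : R, s - algebraMap R S a ∈ J ^ n := by
    intro n hn
    let g : R ⧸ I ^ n →ₐ[R] R ⧸ I := Ideal.Quotient.factorₐ R (Ideal.pow_le_self (by omega))
    have hg : Function.Surjective g := Ideal.Quotient.factor_surjective (Ideal.pow_le_self (by omega))
    have hker : RingHom.ker g.toRingHom = I.map (Ideal.Quotient.mk (I ^ n)) := by
      refine le_antisymm (fun z hz => ?_) (Ideal.map_le_iff_le_comap.mpr fun a ha => ?_)
      · obtain ⟨a, rfl⟩ := Ideal.Quotient.mk_surjective z
        exact Ideal.mem_map_of_mem _ (Ideal.Quotient.eq_zero_iff_mem.mp hz)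
      · exact Ideal.Quotient.eq_zero_iff_mem.mpr ha
    have hnil : IsNilpotent (RingHom.ker g.toRingHom) :=
      ⟨n, by rw [hker, ← Ideal.map_pow, Ideal.map_quotient_self]; rfl⟩
    let ψ : S →ₐ[R] R ⧸ I ^ n := Algebra.FormallySmooth.liftOfSurjective θ g hg hnil
    have hψ : g.comp ψ = θ := Algebra.FormallySmooth.comp_liftOfSurjective θ g hg hnil
    have hψJ : ∀ s ∈ J, ψ s ∈ RingHom.ker g.toRingHom := by
      intro s hs
      have h1 : θ s = 0 := by
        show (AlgEquiv.ofBijective e he).symm (Ideal.Quotient.mk J s) = 0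
        rw [Ideal.Quotient.eq_zero_iff_mem.mpr hs, map_zero]
      rw [RingHom.mem_ker]
      exact (AlgHom.congr_fun hψ s).trans h1
    have hψn : ∀ s ∈ J ^ n, ψ s = 0 := by
      intro s hs
      have : (J ^ n).map ψ.toRingHom ≤ ⊥ := by
        rw [Ideal.map_pow]
        refine (Ideal.pow_right_mono (Ideal.map_le_iff_le_comap.mpr (show J ≤ Ideal.comap ψ.toRingHom (RingHom.ker g.toRingHom) from hψJ)) n).trans ?_
        rw [hker, ← Ideal.map_pow, Ideal.map_quotient_self]
      exact (Ideal.mem_bot).mp (this (Ideal.mem_map_of_mem _ hs))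
    refine ⟨fun a ha => ?_, fun s => ?_⟩
    · have := hψn _ ha
      rw [ψ.commutes] at this
      exact Ideal.Quotient.eq_zero_iff_mem.mp this
    · let φn : R ⧸ I ^ n →ₐ[R] S ⧸ J ^ n := Ideal.quotientMapₐ (J ^ n) (Algebra.ofId R S) (hpow n)
      have heq : φn.comp ψ = Ideal.Quotient.mkₐ R (J ^ n) := by
        refine Algebra.FormallyUnramified.lift_unique (J.map (Ideal.Quotient.mk (J ^ n)))
          ⟨n, by rw [← Ideal.map_pow, Ideal.map_quotient_self]; rfl⟩ _ _ ?_
        refine AlgHom.ext fun s => ?_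
        obtain ⟨a, ha⟩ := Ideal.Quotient.mk_surjective (ψ s)
        have h1 : θ s = Ideal.Quotient.mk I a := by
          rw [← AlgHom.congr_fun hψ s, AlgHom.comp_apply, ← ha]
          rfl
        have h2 : s - algebraMap R S a ∈ J := by
          rw [← Ideal.Quotient.eq]
          have := congrArg (AlgEquiv.ofBijective e he) h1
          rw [show θ s = (AlgEquiv.ofBijective e he).symm (Ideal.Quotient.mk J s) from rfl,
            AlgEquiv.apply_symm_apply] at this
          exact this
        show Ideal.Quotient.mk (J.map (Ideal.Quotient.mk (J ^ n))) (φn (ψ s)) =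
          Ideal.Quotient.mk (J.map (Ideal.Quotient.mk (J ^ n))) (Ideal.Quotient.mk (J ^ n) s)
        rw [← ha, Ideal.Quotient.eq]
        have h3 := Ideal.mem_map_of_mem (Ideal.Quotient.mk (J ^ n)) (J.neg_mem h2)
        rw [neg_sub, map_sub] at h3
        exact h3
      obtain ⟨a, ha⟩ := Ideal.Quotient.mk_surjective (ψ s)
      refine ⟨a, ?_⟩
      rw [← Ideal.Quotient.eq]
      have := AlgHom.congr_fun heq s
      rw [AlgHom.comp_apply, ← ha] at this
      exact this.symm
  constructor
  · rw [injective_iff_map_eq_zero]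
    intro x hx
    obtain ⟨f, rfl⟩ := AssocGr.mkG_surjective _ x
    rw [AssocGr.map_mkG, AssocGr.mkG_eq_zero_iff] at hx
    rw [AssocGr.mkG_eq_zero_iff]
    intro m
    have h1 := hx m
    rw [AssocGr.coe_reesMap, Polynomial.coeff_map] at h1
    exact (key (m + 1) (Nat.le_add_left 1 m)).1 _ h1
  · intro y
    obtain ⟨g, rfl⟩ := AssocGr.mkG_surjective _ y
    rw [← AssocGr.sum_term _ g, map_sum]
    have hterm : ∀ m, ∃ x, AssocGr.map (AssocGr.IsFiltHom.adic hmapI) x =
        AssocGr.mkG (FiltBl.IdealFiltration.adic J) (AssocGr.term _ g m) := by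
      intro m
      obtain ⟨a, ha⟩ := (key (m + 1) (Nat.le_add_left 1 m)).2 ((g : Polynomial S).coeff m)
      have hb : (g : Polynomial S).coeff m ∈ J ^ m := g.2 m
      have ham : a ∈ I ^ m := by
        rcases Nat.eq_zero_or_pos m with rfl | hm
        · simp
        · refine (key m hm).1 a ?_
          have := sub_mem hb (Ideal.pow_le_pow_right (Nat.le_succ m) ha)
          rwa [sub_sub_cancel] at this
      refine ⟨AssocGr.inDeg (FiltBl.IdealFiltration.adic I) m ⟨a, ham⟩, ?_⟩
      rw [AssocGr.map_inDeg, AssocGr.mkG_term]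
      congr 1
      rw [← sub_eq_zero, ← map_sub, AssocGr.inDeg_eq_zero_iff]
      have := (J ^ (m + 1)).neg_mem ha
      rw [neg_sub] at this
      exact this
    choose x hx using hterm
    exact ⟨∑ m ∈ (g : Polynomial S).support, x m, by rw [map_sum]; exact Finset.sum_congr rfl fun m _ => hx m⟩

end Groth.Agent.S16452
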