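import Groth.Statements.S16453
import Mathlib

set_option autoImplicit false
universe u
open AdicGr

namespace Groth.Agent.S16453

/-- Let A be a commutative ring, I an ideal and Â the I-adic completion, filtered by the kernels Âₙ of
the projections Â → A/Iⁿ. Then the homomorphism of associated graded rings ⊕ₙ Iⁿ/Iⁿ⁺¹ → ⊕ₙ Âₙ/Âₙ₊₁
induced by the canonical map A → Â is bijective. No hypothesis on A or I is needed. (The published
statement is for an arbitrary filtered ring and also asserts the analogous isomorphism for a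
compatibly filtered module; this row is the ring assertion for the filtration by the powers of one
ideal.) -/
theorem result (A : Type u) [CommRing A] (I : Ideal A) :
    Function.Bijective (AssocGr.map (AssocGr.isFiltHom_kerFilt I)) := by
  classical
  set φ := algebraMap A (AdicCompletion I A) with hφ
  have hφv : ∀ (a : A) (n : ℕ), φ a ∈ (AssocGr.kerFilt I).F n ↔ a ∈ I ^ n := fun a n ↦ by
    rw [hφ, AssocGr.mem_kerFilt_iff_val, AdicCompletion.algebraMap_apply, Algebra.algebraMap_self,
      RingHom.id_apply, AdicCompletion.of_apply, Submodule.mkQ_apply, Submodule.Quotient.mk_eq_zero,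
      AssocGr.pow_smul_top]
  have hlift : ∀ (x : AdicCompletion I A) (n : ℕ), x ∈ (AssocGr.kerFilt I).F n →
      ∃ a : A, a ∈ I ^ n ∧ x - φ a ∈ (AssocGr.kerFilt I).F (n + 1) := fun x n hx ↦ by
    obtain ⟨a, ha⟩ := Submodule.Quotient.mk_surjective _ (x.val (n + 1))
    have h1 : x - φ a ∈ (AssocGr.kerFilt I).F (n + 1) := by
      rw [hφ, AssocGr.mem_kerFilt_iff_val, AdicCompletion.algebraMap_apply, Algebra.algebraMap_self, RingHom.id_apply]
      show x.val (n + 1) - (AdicCompletion.of I A a).val (n + 1) = 0
      rw [AdicCompletion.of_apply, Submodule.mkQ_apply, ha, sub_self]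
    refine ⟨a, (hφv a n).1 ?_, h1⟩
    have := Ideal.sub_mem _ hx ((AssocGr.kerFilt I).antitone (Nat.le_succ n) h1)
    rwa [sub_sub_cancel] at this
  constructor
  · rw [injective_iff_map_eq_zero]
    intro g hg
    obtain ⟨f, rfl⟩ := AssocGr.mkG_surjective _ g
    rw [AssocGr.map_mkG, AssocGr.mkG_eq_zero_iff, AssocGr.mem_succIdeal_iff] at hg
    rw [AssocGr.mkG_eq_zero_iff, AssocGr.mem_succIdeal_iff]
    intro n
    have := hg n
    rw [AssocGr.coe_reesMap, Polynomial.coeff_map] at this
    exact (hφv _ _).1 this
  · intro g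
    obtain ⟨q, rfl⟩ := AssocGr.mkG_surjective _ g
    choose a ha ha' using fun n ↦ hlift ((q : Polynomial (AdicCompletion I A)).coeff n) n (q.2 n)
    let P : Polynomial A := ∑ n ∈ (q : Polynomial (AdicCompletion I A)).support, Polynomial.monomial n (a n)
    have hP : ∀ m, P.coeff m = if m ∈ (q : Polynomial (AdicCompletion I A)).support then a m else 0 := fun m ↦ by
      simp [P, Polynomial.coeff_monomial]
    let f : (FiltBl.IdealFiltration.adic I).rees := ⟨P, fun m ↦ by
      show P.coeff m ∈ I ^ m
      rw [hP]; split_ifs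
      · exact ha m
      · exact Ideal.zero_mem _⟩
    refine ⟨AssocGr.mkG _ f, ?_⟩
    rw [AssocGr.map_mkG, ← sub_eq_zero, ← map_sub, AssocGr.mkG_eq_zero_iff, AssocGr.mem_succIdeal_iff]
    intro n
    rw [Subalgebra.coe_sub, Polynomial.coeff_sub, AssocGr.coe_reesMap, Polynomial.coeff_map,
      show (f : Polynomial A).coeff n = P.coeff n from rfl, hP, ← neg_sub]
    refine Ideal.neg_mem_iff _ |>.mpr ?_
    split_ifs with h
    · exact ha' n
    · rw [Polynomial.notMem_support_iff.mp h, map_zero, sub_zero]; exact Ideal.zero_mem _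

end Groth.Agent.S16453
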