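import Groth.Statements.S16454
import Groth.Agent.S6000
import Groth.Agent.LocalCrit.Basic

set_option autoImplicit false
universe u
open TensorProduct
open EGA43

namespace Groth.Agent.S16454

/-- Let A be a commutative ring, I a nilpotent ideal of A and M an A-module, and form the associated
graded ring G = ⊕ₙ Iⁿ/Iⁿ⁺¹ and the associated graded G-module gr_I(M) = ⊕ₙ IⁿM/Iⁿ⁺¹M. Assume that
M/IM is flat over A/I and that the canonical homomorphism (M/IM) ⊗ G → gr_I(M), [x] ⊗ [a] ↦ [a·x],
is injective: degree by degree, whenever elements a_i ∈ Iⁿ and x_i ∈ M satisfy Σ_i [a_i]·[x_i] = 0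
in gr_I(M) (that is Σ a_i x_i ∈ Iⁿ⁺¹M), the element Σ_i [a_i] ⊗ [x_i] of (Iⁿ/Iⁿ⁺¹) ⊗ (M/IM) is zero.
Then M is a flat A-module. (The published lemma is stated for any finite decreasing multiplicative
filtration A = J₀ ⊇ J₁ ⊇ … ⊇ J_N₊₁ = 0 of A with M filtered by the submodules JₙM; this row is its
case Jₙ = Iⁿ.) -/
theorem result (A : Type u) [CommRing A] (I : Ideal A)
    (hI : IsNilpotent I) (M : Type u) [AddCommGroup M] [Module A M]
    (hflat : Module.Flat (A ⧸ I) (M ⧸ (I • (⊤ : Submodule A M))))
    (hinj : ∀ (n k : ℕ) (a : Fin k → ↥((FiltBl.IdealFiltration.adic I).F n))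
      (x : Fin k → ↥((Rees.powFilt I M).N 0)),
      (∑ i, (AssocGr.inDeg (FiltBl.IdealFiltration.adic I) n (a i) :
          AssocGr.GrRing (FiltBl.IdealFiltration.adic I)) •
        (AssocGr.inDegM (Rees.powFilt I M) 0 (x i) : AssocGr.GrMod (Rees.powFilt I M))) = 0 →
      (∑ i, (AssocGr.inDeg (FiltBl.IdealFiltration.adic I) n (a i)) ⊗ₜ[A]
          (Submodule.Quotient.mk (x i : M)) :
        ↥(AssocGr.gr (FiltBl.IdealFiltration.adic I) n) ⊗[A] (M ⧸ (I • (⊤ : Submodule A M)))) = 0) :
    Module.Flat A M := by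
  classical
  obtain ⟨N, hN⟩ := hI
  have hstep : ∀ j n, N ≤ n + j → Function.Injective (LinearMap.rTensor M (Submodule.subtype (I ^ n))) := by
    intro j
    induction j with
    | zero =>
      intro n hn
      haveI : Subsingleton ↥(I ^ n) := by
        have : I ^ n = ⊥ := le_bot_iff.1 ((Ideal.pow_le_pow_right (by omega)).trans hN.le)
        rw [this]; infer_instance
      exact Function.injective_of_subsingleton _
    | succ j ih =>
      intro n hn
      rw [← LinearMap.ker_eq_bot, LinearMap.ker_eq_bot']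
      intro z hz
      let 𝓕 := FiltBl.IdealFiltration.adic I
      let φ : ↥(I ^ n) →ₗ[A] ↥(AssocGr.gr 𝓕 n) := AssocGr.inDeg 𝓕 n
      let IM : Submodule A M := I • ⊤
      let incl : ↥(I ^ (n + 1)) →ₗ[A] ↥(I ^ n) := Submodule.inclusion (Ideal.pow_le_pow_right (Nat.le_succ n))
      have hex : Function.Exact incl φ := fun a =>
        ⟨fun h => ⟨⟨(a : A), (AssocGr.inDeg_eq_zero_iff 𝓕 n a).1 h⟩, Subtype.ext rfl⟩, fun ⟨b, hb⟩ => by
          subst hb; exact (AssocGr.inDeg_eq_zero_iff 𝓕 n _).2 b.2⟩
      have hzero : (TensorProduct.map φ IM.mkQ) z = 0 := by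
        obtain ⟨k, a, x, rfl⟩ := TensorProduct.exists_sum_tmul_eq z
        have h0 : ∑ i, (a i : A) • x i = 0 := by
          have h1 := congrArg (TensorProduct.lid A M) hz
          simpa [map_sum] using h1
        have key := hinj n k (fun i => a i) (fun i => ⟨x i, by simp [Rees.powFilt]⟩) ?_
        · simp only [map_sum, TensorProduct.map_tmul]
          exact key
        · have hmem : ∀ i, (a i : A) • x i ∈ (Rees.powFilt I M).N (n + 0) := fun i =>
            Submodule.smul_mem_smul (show (a i : A) ∈ I ^ (n + 0) from (a i).2) trivial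
          rw [Finset.sum_congr rfl fun i _ => AssocGr.inDeg_smul_inDegM (Rees.powFilt I M) n 0 (a i) _]
          rw [← AddSubmonoidClass.coe_finsetSum, ← map_sum]
          refine (congrArg Subtype.val ((AssocGr.inDegM_eq_zero_iff _ _ _).2 ?_)).trans (ZeroMemClass.coe_zero _)
          rw [Submodule.coe_sum]
          simp only [h0]
          exact zero_mem _
      have hrange : ∀ w : ↥(I ^ n) ⊗[A] IM, IM.subtype.lTensor ↥(I ^ n) w ∈ LinearMap.range (incl.rTensor M) := by
        intro w
        induction w with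
        | zero => simp
        | add u v hu hv => rw [map_add]; exact add_mem hu hv
        | tmul b y =>
          obtain ⟨y, hy⟩ := y
          rw [LinearMap.lTensor_tmul]
          show b ⊗ₜ[A] y ∈ _
          induction hy using Submodule.smul_induction_on' with
          | smul c hc m _ =>
            refine ⟨(⟨c * (b : A), by rw [pow_succ']; exact Ideal.mul_mem_mul hc b.2⟩ : ↥(I ^ (n + 1))) ⊗ₜ m, ?_⟩
            rw [LinearMap.rTensor_tmul, ← TensorProduct.smul_tmul]
            rfl
          | add u _ v _ hu hv => rw [TensorProduct.tmul_add]; exact add_mem hu hv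
      rw [show TensorProduct.map φ IM.mkQ = (IM.mkQ.lTensor _).comp (φ.rTensor M) from
        (LinearMap.lTensor_comp_rTensor _ _ _).symm, LinearMap.comp_apply] at hzero
      obtain ⟨w, hw⟩ := (lTensor_exact ↥(AssocGr.gr 𝓕 n) (LinearMap.exact_subtype_mkQ IM) IM.mkQ_surjective _).1 hzero
      obtain ⟨w, rfl⟩ : ∃ w' : ↥(I ^ n) ⊗[A] IM, φ.rTensor IM w' = w :=
        LinearMap.rTensor_surjective IM (g := φ) (AssocGr.inDeg_surjective 𝓕 n) w
      obtain ⟨v, hv⟩ := (rTensor_exact M hex (AssocGr.inDeg_surjective 𝓕 n) (z - IM.subtype.lTensor ↥(I ^ n) w)).1 (by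
        rw [map_sub, ← hw, sub_eq_zero, ← LinearMap.comp_apply, LinearMap.lTensor_comp_rTensor,
          ← LinearMap.rTensor_comp_lTensor]
        rfl)
      obtain ⟨v', hv'⟩ := hrange w
      have hz' : z = incl.rTensor M (v + v') := by rw [map_add, hv, hv', sub_add_cancel]
      have hv0 : v + v' = 0 := ih (n + 1) (by omega) (by
        have e : (Submodule.subtype (I ^ (n + 1))) = (Submodule.subtype (I ^ n)).comp incl := rfl
        rw [map_zero, e, LinearMap.rTensor_comp, LinearMap.comp_apply, ← hz', hz])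
      rw [hz', hv0, map_zero]
  have h1 : Function.Injective (LinearMap.rTensor M (Submodule.subtype I)) := by
    have := hstep N 1 (by omega)
    rwa [pow_one] at this
  refine (Groth.Agent.S6000.result A I ⟨N, hN⟩ M).2 ⟨?_, h1⟩
  exact Module.Flat.of_linearEquiv
    ((TensorProduct.quotTensorEquivQuotSMul M I).extendScalarsOfSurjective (S := A ⧸ I) Ideal.Quotient.mk_surjective)

end Groth.Agent.S16454
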