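import Groth.Statements.S16455
import Mathlib

set_option autoImplicit false
universe u
open EGA4

namespace Groth.Agent.S16455

/-- For a commutative ring A, an ideal I of A and an A-module M, the following are equivalent: every
quotient IⁿM/Iⁿ⁺¹M (n ≥ 0) is a flat A/I-module; the associated graded module gr_I(M) = ⊕ₙ
IⁿM/Iⁿ⁺¹M, as one module over A/I, is flat. Either condition says that M is normally flat along I.
(The source defines normal flatness for a coherent module on a locally Noetherian scheme through the
second condition and notes it amounts to the first; the equivalence holds for every ring and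
module.) -/
theorem result (A : Type u) [CommRing A] (I : Ideal A) (M : Type u)
    [AddCommGroup M] [Module A M] :
    EGA4.IsNormallyFlat I M ↔ Module.Flat (A ⧸ I) (AssocGr.GrMod (Rees.powFilt I M)) := by
  open DirectSum in
  classical
  set F := Rees.powFilt I M
  let P : ℕ → Type u := fun n =>
    ↥(I ^ n • (⊤ : Submodule A M)) ⧸ (I • (⊤ : Submodule A ↥(I ^ n • (⊤ : Submodule A M))))
  have hN : ∀ n, F.N n = I ^ n • (⊤ : Submodule A M) := fun n => rfl
  have hmem : ∀ (n : ℕ) (x : ↥(I ^ n • (⊤ : Submodule A M))), x ∈ I • (⊤ : Submodule A ↥(I ^ n • (⊤ : Submodule A M))) ↔ (x : M) ∈ F.N (n + 1) := by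
    intro n x
    rw [Submodule.mem_smul_top_iff, hN, pow_succ', ← Submodule.smul_assoc, Ideal.smul_eq_mul]
  have hc : ∀ (n : ℕ) (x : ↥(I ^ n • (⊤ : Submodule A M))) (m : ℕ),
      AssocGr.ReesM.coeff F (AssocGr.monomM F n x) m = if n = m then (x : M) else 0 := fun n x m => AssocGr.ReesM.coeff_monomM F n x m
  let mono : ∀ n, ↥(I ^ n • (⊤ : Submodule A M)) →ₗ[A] AssocGr.ReesM F := fun n =>
    { toFun := fun x => AssocGr.monomM F n x
      map_add' := fun x y => AssocGr.ReesM.ext F fun m => by
        rw [AssocGr.ReesM.coeff_add, hc, hc, hc]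
        split_ifs <;> simp
      map_smul' := fun a x => AssocGr.ReesM.ext F fun m => by
        rw [RingHom.id_apply, AssocGr.ReesM.coeff_smul_base, hc, hc]
        split_ifs <;> simp }
  let i : ∀ n, P n →ₗ[A] AssocGr.GrMod F := fun n =>
    Submodule.liftQ _ ((AssocGr.mkGM F).comp (mono n)) fun x hx => by
      rw [LinearMap.mem_ker, LinearMap.comp_apply, AssocGr.mkGM_eq_zero_iff, AssocGr.mem_succMod_iff]
      intro m
      show AssocGr.ReesM.coeff F (AssocGr.monomM F n x) m ∈ _
      rw [hc]
      split_ifs with h
      · subst h; exact (hmem n x).1 hx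
      · exact zero_mem _
  let φ : (⨁ n, P n) →ₗ[A] AssocGr.GrMod F := DirectSum.toModule A ℕ _ i
  have hφ : Function.Bijective φ := by
    constructor
    · rw [injective_iff_map_eq_zero]
      intro d hd
      have key : ∀ d : ⨁ n, P n, ∃ y : AssocGr.ReesM F, AssocGr.mkGM F y = φ d ∧ ∀ n,
          d n = Submodule.Quotient.mk ⟨AssocGr.ReesM.coeff F y n, AssocGr.ReesM.coeff_mem F y n⟩ := by
        intro d
        induction d using DirectSum.induction_on with
        | zero =>
          refine ⟨0, by simp, fun n => ?_⟩
          exact ((Submodule.Quotient.mk_eq_zero _).2 (by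
            rw [hmem]
            show AssocGr.ReesM.coeff F 0 n ∈ _
            rw [← AssocGr.ReesM.coeffHom_apply, map_zero]
            exact zero_mem _)).symm
        | of n q =>
          obtain ⟨x, rfl⟩ := Submodule.Quotient.mk_surjective _ q
          refine ⟨AssocGr.monomM F n x, ?_, fun m => ?_⟩
          · rw [← DirectSum.lof_eq_of A]
            simp only [φ, DirectSum.toModule_lof]
            rfl
          · by_cases h : n = m
            · subst h
              rw [DirectSum.of_eq_same]
              exact congrArg Submodule.Quotient.mk (Subtype.ext (by simp only; rw [hc, if_pos rfl]))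
            · rw [DirectSum.of_eq_of_ne _ _ _ (Ne.symm h)]
              exact ((Submodule.Quotient.mk_eq_zero _).2 (by
                rw [hmem]; simp only; rw [hc, if_neg h]; exact zero_mem _)).symm
        | add d d' ih ih' =>
          obtain ⟨y, hy, hy'⟩ := ih
          obtain ⟨z, hz, hz'⟩ := ih'
          refine ⟨y + z, by rw [map_add, map_add, hy, hz], fun n => ?_⟩
          rw [DirectSum.add_apply, hy', hz', ← Submodule.Quotient.mk_add]
          exact congrArg Submodule.Quotient.mk (Subtype.ext (AssocGr.ReesM.coeff_add F y z n).symm)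
      obtain ⟨y, hy, hy'⟩ := key d
      rw [hd, AssocGr.mkGM_eq_zero_iff, AssocGr.mem_succMod_iff] at hy
      refine DirectSum.ext fun n => ?_
      rw [hy' n, DirectSum.zero_apply]
      exact (Submodule.Quotient.mk_eq_zero _).2 ((hmem n _).2 (hy n))
    · intro z
      obtain ⟨y, rfl⟩ := AssocGr.mkGM_surjective F z
      obtain ⟨s, hs⟩ : ∃ s : Finset ℕ, y = ∑ n ∈ s, AssocGr.termM F y n := ⟨_, (AssocGr.sum_termM F y).symm⟩
      refine ⟨∑ n ∈ s, DirectSum.lof A ℕ P n (Submodule.Quotient.mk ⟨AssocGr.ReesM.coeff F y n, AssocGr.ReesM.coeff_mem F y n⟩), ?_⟩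
      conv_rhs => rw [hs, map_sum]
      rw [map_sum]
      refine Finset.sum_congr rfl fun n _ => ?_
      simp only [φ, DirectSum.toModule_lof]
      rfl
  let e : (⨁ n, P n) ≃ₗ[A ⧸ I] AssocGr.GrMod F :=
    LinearEquiv.ofBijective (φ.extendScalarsOfSurjective Ideal.Quotient.mk_surjective) hφ
  exact (Module.Flat.directSum_iff (M := P)).symm.trans ⟨fun h => Module.Flat.of_linearEquiv e.symm, fun h => Module.Flat.of_linearEquiv e⟩

end Groth.Agent.S16455
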