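import Groth.Statements.S16456
import Groth.Agent.AdicLift.Basic
import Mathlib

set_option autoImplicit false
universe u
open AdicGr

namespace Groth.Agent.S16456

/-- Let φ : A → B be a ring homomorphism, I ⊆ A and J ⊆ B ideals with φ(I)B ⊆ J, so that φ is a
homomorphism of filtered rings for the I-adic and J-adic filtrations. Assume that A is I-adically
complete in the sense that every I-adically Cauchy sequence has a limit, that B is J-adically
separated, and that the induced homomorphism of associated graded rings ⊕ₙ Iⁿ/Iⁿ⁺¹ → ⊕ₙ Jⁿ/Jⁿ⁺¹ is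
surjective. Then φ is surjective, φ is strict (Jⁿ = φ(Iⁿ)B for all n, that is J = φ(I)B), and B is
J-adically separated and complete. (The published statement is for a homomorphism of filtered
modules over a filtered ring, with arbitrary compatible filtrations; this row is its case of a ring
homomorphism with adic filtrations.) -/
theorem result (A : Type u) [CommRing A] (B : Type u)
    [CommRing B] (φ : A →+* B) (I : Ideal A) (J : Ideal B) (hIJ : I.map φ ≤ J)
    [IsPrecomplete I A] [IsHausdorff J B]
    (h : Function.Surjective (AssocGr.map (AssocGr.IsFiltHom.adic hIJ))) :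
    Function.Surjective φ ∧ I.map φ = J ∧ IsAdicComplete J B := by
  have hsurj : Function.Surjective φ := fun b => by
    obtain ⟨a, -, ha⟩ := Groth.Agent.AdicLift.exists_lift φ I J hIJ h (k := 0) (b := b) (by simp)
    exact ⟨a, ha⟩
  have hmap : I.map φ = J := le_antisymm hIJ fun b hb => by
    obtain ⟨a, ha, rfl⟩ := Groth.Agent.AdicLift.exists_lift φ I J hIJ h (k := 1) (b := b) (by rwa [pow_one])
    exact Ideal.mem_map_of_mem φ (by rwa [pow_one] at ha)
  refine ⟨hsurj, hmap, ?_⟩
  have hpre : IsPrecomplete J B := ⟨fun g hg => by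
    have hlift : ∀ n, ∃ a ∈ I ^ n, φ a = g (n + 1) - g n := fun n =>
      Groth.Agent.AdicLift.exists_lift φ I J hIJ h (by
        have h1 := Groth.Agent.AdicLift.mem_of_smodEq.1 (hg (Nat.le_succ n))
        have h2 := neg_mem h1
        rwa [neg_sub] at h2)
    choose d hd hφd using hlift
    obtain ⟨a₀, ha₀⟩ := hsurj (g 0)
    let s : ℕ → A := fun n => Nat.rec a₀ (fun n sn => sn + d n) n
    have hs : ∀ n, s (n + 1) = s n + d n := fun n => rfl
    have hφs : ∀ n, φ (s n) = g n := fun n => by
      induction n with
      | zero => exact ha₀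
      | succ n ih => rw [hs, map_add, ih, hφd, add_sub_cancel]
    obtain ⟨L, hL⟩ := Groth.Agent.AdicLift.exists_limit I s (fun n => by rw [hs, add_sub_cancel_left]; exact hd n)
    refine ⟨φ L, fun n => Groth.Agent.AdicLift.mem_of_smodEq.2 ?_⟩
    rw [← hφs, ← map_sub]
    have h1 := AssocGr.IsFiltHom.adic hIJ n (hL n)
    have h2 : φ (L - s n) ∈ J ^ n := h1
    have h3 := neg_mem h2
    rwa [← map_neg, neg_sub] at h3⟩
  exact { hpre, (inferInstance : IsHausdorff J B) with }

end Groth.Agent.S16456
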