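import Groth.Statements.S16460
import Groth.Agent.AdicLift.Basic
import Mathlib

set_option autoImplicit false
universe u
open AdicGr

namespace Groth.Agent.S16460

/-- Let A be a commutative ring with a decreasing filtration by ideals A = F₀ ⊇ F₁ ⊇ F₂ ⊇ … satisfying
F_m·F_n ⊆ F_{m+n}, and assume the filtration is separated, ⋂ₙ Fₙ = 0. If the associated graded ring
⊕ₙ Fₙ/Fₙ₊₁ is an integral domain, then A is an integral domain. -/
theorem result (A : Type u) [CommRing A]
    (𝓕 : FiltBl.IdealFiltration A) (hsep : ⨅ n, 𝓕.F n = ⊥) [IsDomain (AssocGr.GrRing 𝓕)] :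
    IsDomain A := by
  classical
  have hnt : Nontrivial A := by
    by_contra h
    rw [not_nontrivial_iff_subsingleton] at h
    haveI := Module.subsingleton A (AssocGr.GrRing 𝓕)
    exact not_subsingleton (AssocGr.GrRing 𝓕) inferInstance
  have hex : ∀ a : A, a ≠ 0 → ∃ m, a ∈ 𝓕.F m ∧ a ∉ 𝓕.F (m + 1) := by
    intro a ha
    have h : ∃ n, a ∉ 𝓕.F n := by
      by_contra h
      push Not at h
      apply ha
      have : a ∈ ⨅ n, 𝓕.F n := Submodule.mem_iInf _ |>.2 h
      rwa [hsep] at this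
    have h0 : Nat.find h ≠ 0 := fun h0 => by
      have := Nat.find_spec h
      rw [h0, 𝓕.zero_eq] at this
      exact this trivial
    refine ⟨Nat.find h - 1, not_not.1 (Nat.find_min h (by omega)), ?_⟩
    rw [Nat.sub_add_cancel (Nat.one_le_iff_ne_zero.2 h0)]
    exact Nat.find_spec h
  haveI : NoZeroDivisors A := ⟨fun {a b} hab => by
    by_contra hc
    push Not at hc
    obtain ⟨m, ha, ha'⟩ := hex a hc.1
    obtain ⟨n, hb, hb'⟩ := hex b hc.2
    have hmul := AssocGr.coe_inDeg_mul 𝓕 m n ⟨a, ha⟩ ⟨b, hb⟩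
    have hzero : (AssocGr.inDeg 𝓕 (m + n) ⟨a * b, 𝓕.mul_le m n (Ideal.mul_mem_mul ha hb)⟩) = 0 := by
      rw [AssocGr.inDeg_eq_zero_iff]
      change a * b ∈ _
      rw [hab]; exact zero_mem _
    rw [hzero, Submodule.coe_zero, mul_eq_zero] at hmul
    rcases hmul with h | h
    · exact ha' ((AssocGr.inDeg_eq_zero_iff 𝓕 m ⟨a, ha⟩).1 (Submodule.coe_eq_zero.1 h))
    · exact hb' ((AssocGr.inDeg_eq_zero_iff 𝓕 n ⟨b, hb⟩).1 (Submodule.coe_eq_zero.1 h))⟩
  exact NoZeroDivisors.to_isDomain A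

end Groth.Agent.S16460
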