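import Groth.Statements.S16462
import Groth.Agent.W7Cech.EdgeOut
import Groth.Agent.CohQC.Push
import Groth.Agent.CohQC.RpushModules
import Groth.Agent.RPushQC.Main
import Groth.Agent.InvGen.Basic

set_option autoImplicit false
universe u
open Coherent

set_option backward.isDefEq.respectTransparency false
set_option backward.isDefEq.respectTransparency.types false
open Groth.Agent CategoryTheory CategoryTheory.Limits
namespace Groth.Agent.S16462

open CategoryTheory AlgebraicGeometry AlgebraicGeometry.Scheme.Modules in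
/-- Let f : X → Y be a quasi-compact quasi-separated morphism of schemes, g : Y → Z an affine morphism
and M a quasi-coherent O_X-module. Then for every p ≥ 0 the canonical edge morphism R^p (g ∘ f)_* M
→ g_*(R^p f_* M) is an isomorphism (higher direct images as right derived functors of direct image
on O-modules). (The published statement assumes f separated; this row assumes only f
quasi-separated.) -/
theorem result {X Y Z : Scheme.{u}} (f : X ⟶ Y) (g : Y ⟶ Z)
    [QuasiCompact f] [QuasiSeparated f] [IsAffineHom g] [HasInjectiveResolutions X.Modules]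
    (M : X.Modules) [Coh.IsQCoh M] (p : ℕ) :
    IsIso (CohBC.lerayEdgeOut f g p M) := by
  let Φ := Scheme.Modules.pushforward f
  let Ψ := Scheme.Modules.pushforward g
  let R := injectiveResolution M
  let K := (Φ.mapHomologicalComplex (ComplexShape.up ℕ)).obj R.cocomplex
  let P : Y.Modules → Prop := fun N => ∀ W : Y.Opens, IsAffineOpen W → SiteCoh.Acyc W (Coh.toAb N)
  have hT : PreservesFiniteColimits (SheafOfModules.toSheaf.{u} Y.ringCatSheaf) := inferInstance
  haveI : PreservesFiniteLimits (SheafOfModules.toSheaf.{u} Y.ringCatSheaf) := inferInstance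
  have hex : ∀ {S : ShortComplex Y.Modules}, S.ShortExact →
      (S.map (SheafOfModules.toSheaf.{u} Y.ringCatSheaf)).ShortExact := fun hS =>
    hS.map_of_exact _
  have hP : W7Cech.AcycClass Ψ P :=
    { of_iso := fun e h W hW => SiteCoh.acyc_of_iso ((SheafOfModules.toSheaf _).mapIso e) (h W hW)
      right := fun hS h₁ h₂ W hW => SiteCoh.acyc_right (hex hS) (h₁ W hW) (h₂ W hW)
      middle := fun hS h₁ h₃ W hW => SiteCoh.acyc_middle (hex hS) (h₁ W hW) (h₃ W hW)
      epi := fun {S} hS h₁ => InvGen.epi_of_locally _ fun U t z hzU => by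
        obtain ⟨V, hV, hzV, hVU⟩ := CohQC.exists_affine_le U z hzU
        haveI : Subsingleton (CohSite.HU (Coh.toAb S.X₁) (0 + 1) (g ⁻¹ᵁ V)) := h₁ _ (hV.preimage g) 0
        obtain ⟨s, hs⟩ := @SiteCoh.sections_surjective _ _ _ _ (hex hS) (g ⁻¹ᵁ V) (h₁ _ (hV.preimage g) 0)
          (QC.res ((Scheme.Modules.pushforward g).obj S.X₃) hVU t)
        exact ⟨V, hVU, hzV, s, hs⟩ }
  have hX : ∀ n, P (K.X n) := fun n W _ p => by
    haveI : TopCat.Sheaf.IsFlasque (Coh.toAb (K.X n)) := ⟨fun {U V} i =>
      (CohQC.isFlasque_toAb_of_injective (R.cocomplex.X n)).epi ((TopologicalSpace.Opens.map f.base).map i.unop).op⟩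
    exact SiteCoh.flasque_acyclic _ W p
  have hH : ∀ n, P (K.homology n) := fun n W hW p => by
    have hq : Coh.IsQCoh (K.homology n) :=
      QC.isQCoh_of_iso (R.isoRightDerivedObj Φ n) (RPushQC.isQCoh_rpush f M ‹Coh.IsQCoh M› n)
    haveI : (K.homology n).IsQuasicoherent := hq
    exact CohQC.hu_vanish_of_isAffineOpen _ hW p
  haveI := hP.isIso_homologyComparison K hX hH p
  haveI : IsIso (RDer.edgeOut Φ Ψ p M) := by
    unfold RDer.edgeOut
    infer_instance
  haveI : IsIso ((RDer.rightDerivedIso (Scheme.Modules.pushforwardComp f g) p).inv.app M) := inferInstance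
  exact IsIso.comp_isIso

end Groth.Agent.S16462
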