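import Groth.Statements.S16469
import Groth.Agent.W7Slope.Hom

set_option autoImplicit false
universe u
open CategoryTheory CategoryTheory.Limits AlgebraicGeometry
open VBCurve
open Groth.Agent Groth.Agent.CurveRR

set_option backward.isDefEq.respectTransparency false
set_option backward.isDefEq.respectTransparency.types false

namespace Groth.Agent.S16469

/-- Let X be a smooth proper integral curve (integral, smooth and proper of dimension one) over an
algebraically closed field k, and let E, F be finite locally free O_X-modules of ranks r ≥ 1, s ≥ 1,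
both slope-semistable (deg G · rank ≤ deg · rank G on finite locally free submodules G of positive
rank; degree = χ − rank·χ(O_X)) and of the same slope μ: deg E · s = deg F · r. Then for every
homomorphism f : E → F the kernel and the cokernel of f, taken in the abelian category of
O_X-modules, are finite locally free of some ranks r₀ and s₀, have slope μ when nonzero (deg(ker f)
· r = deg E · r₀ and deg(coker f) · s = deg F · s₀) and are slope-semistable: deg G · r₀ ≤ deg(ker
f) · n for every finite locally free submodule G ⊂ ker f of rank n ≥ 1, and likewise for coker f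
with s₀. In other words the semistable bundles of slope μ form an abelian subcategory, and the image
of f is a sub-bundle of F. -/
theorem result (k : Type u) [Field k] [IsAlgClosed k] (X : Scheme.{u}) [X.Over (Spec (CommRingCat.of k))]
    [IsIntegral X] [IsProper (X ↘ Spec (CommRingCat.of k))] [Smooth (X ↘ Spec (CommRingCat.of k))]
    (hdim : topologicalKrullDim X = 1)
    (r s : ℕ) (hr : 0 < r) (hs : 0 < s) (E F : X.Modules)
    (hE : FlatMod.IsFinLocFreeOfRank r E) (hF : FlatMod.IsFinLocFreeOfRank s F)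
    (hEss : ModFun.IsSlopeSemistable k X E r) (hFss : ModFun.IsSlopeSemistable k X F s)
    (hμ : Curv2.deg k X E r * (s : ℤ) = Curv2.deg k X F s * (r : ℤ)) (f : E ⟶ F) :
    (∃ r₀ : ℕ, FlatMod.IsFinLocFreeOfRank r₀ (kernel f) ∧
        Curv2.deg k X (kernel f) r₀ * (r : ℤ) = Curv2.deg k X E r * (r₀ : ℤ) ∧
        ∀ (G : X.Modules) (n : ℕ) (j : G ⟶ kernel f), Mono j → 0 < n → FlatMod.IsFinLocFreeOfRank n G →
          Curv2.deg k X G n * (r₀ : ℤ) ≤ Curv2.deg k X (kernel f) r₀ * (n : ℤ)) ∧
      (∃ s₀ : ℕ, FlatMod.IsFinLocFreeOfRank s₀ (cokernel f) ∧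
        Curv2.deg k X (cokernel f) s₀ * (s : ℤ) = Curv2.deg k X F s * (s₀ : ℤ) ∧
        ∀ (G : X.Modules) (n : ℕ) (j : G ⟶ cokernel f), Mono j → 0 < n → FlatMod.IsFinLocFreeOfRank n G →
          Curv2.deg k X G n * (s₀ : ℤ) ≤ Curv2.deg k X (cokernel f) s₀ * (n : ℤ)) := by
  have hX : W7Slope.RegCurve X := W7Slope.regCurve_of_smooth (k := k) hdim
  haveI := isNoetherian_of_proper k X
  obtain ⟨I, t, m, p, i, hp, hi, hfac, hI, hK, hrk, hts, hd, h1, h1', hne⟩ :=
    W7Slope.image_slope k hX hE hF hEss f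
  have h2 := W7Slope.sub_le k hFss i hI
  have hr' : (0 : ℤ) < r := by exact_mod_cast hr
  have hs' : (0 : ℤ) < s := by exact_mod_cast hs
  have e1 : Curv2.deg k X E r * (t : ℤ) = Curv2.deg k X I t * (r : ℤ) := by
    refine h1.antisymm (le_of_mul_le_mul_right ?_ hs')
    nlinarith [mul_le_mul_of_nonneg_right h2 hr'.le]
  have e2 : Curv2.deg k X I t * (s : ℤ) = Curv2.deg k X F s * (t : ℤ) := by
    refine mul_right_cancel₀ hr'.ne' ?_
    linear_combination (-(s : ℤ)) * e1 + (t : ℤ) * hμ
  have eK := h1' e1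
  refine ⟨⟨m, hK, eK, fun G n j hj hn hG => le_of_mul_le_mul_right ?_ hr'⟩, ?_⟩
  · have h3 := W7Slope.sub_le k hEss (j ≫ kernel.ι f) hG
    nlinarith [mul_le_mul_of_nonneg_right h3 (Int.natCast_nonneg m)]
  have hFc := isCoh_of_rank hF
  have hIc := isCoh_of_rank hI
  have hC := W7Slope.isCoh_cokernel k hIc hFc i
  have hS : (ShortComplex.mk i (cokernel.π i) (cokernel.condition i)).ShortExact :=
    { exact := ShortComplex.exact_cokernel i }
  have hg := W7Slope.grk_add hS hFc
  change W7Slope.grk F = W7Slope.grk I + W7Slope.grk (cokernel i) at hg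
  rw [W7Slope.grk_of_rank hF, W7Slope.grk_of_rank hI] at hg
  have hdC := W7Slope.cdeg_add (k := k) hS hIc hFc hC
  change W7Slope.cdeg k F = W7Slope.cdeg k I + W7Slope.cdeg k (cokernel i) at hdC
  have hCl : FlatMod.IsFinLocFreeOfRank (W7Slope.grk (cokernel i)) (cokernel i) := by
    refine W7Slope.rank_of_isFinLocFree hC.1 ((W7Slope.exists_smaller_quotient k hX hC).resolve_right ?_)
    rintro ⟨C', q, hq, hC', hg', hlt⟩
    let σ := cokernel.π i ≫ q
    haveI : Epi σ := epi_comp _ _
    have hP := W7Slope.isCoh_kernel k hFc hC' σ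
    have hPl := W7Slope.isFinLocFree_sub k hX (kernel.ι σ) hP hF
    have h5 := W7Slope.sub_le k hFss (kernel.ι σ) hPl
    have hgP := W7Slope.grk_add (shortExact_ker σ) hFc
    change W7Slope.grk F = W7Slope.grk (kernel σ) + W7Slope.grk C' at hgP
    rw [W7Slope.grk_of_rank hF] at hgP
    have hdP := W7Slope.cdeg_add (k := k) (shortExact_ker σ) hP hFc hC'
    change W7Slope.cdeg k F = W7Slope.cdeg k (kernel σ) + W7Slope.cdeg k C' at hdP
    rw [show W7Slope.grk (kernel σ) = t by omega] at h5 hPl
    rw [W7Slope.deg_eq hPl, W7Slope.deg_eq hF] at h5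
    rw [W7Slope.deg_eq hI, W7Slope.deg_eq hF] at e2
    nlinarith
  have hdC' : Curv2.deg k X F s = Curv2.deg k X I t + Curv2.deg k X (cokernel i) (W7Slope.grk (cokernel i)) := by
    rw [W7Slope.deg_eq hF, W7Slope.deg_eq hI, W7Slope.deg_eq hCl, hdC]
  have hg' : (s : ℤ) = (t : ℤ) + (W7Slope.grk (cokernel i) : ℤ) := by exact_mod_cast hg
  let e : cokernel f ≅ cokernel i := cokernelIsoOfEq hfac.symm ≪≫ cokernelEpiComp p i
  refine ⟨W7Slope.grk (cokernel i), W7Slope.rank_iso e.symm hCl, ?_, fun G n j hj hn hG => ?_⟩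
  · rw [W7Slope.deg_iso (k := k) e, hg']
    rw [hdC', hg'] at e2
    rw [hdC']
    linarith
  · rw [W7Slope.deg_iso (k := k) e]
    obtain ⟨P, ι, l, hι, hPl, hl, hdl⟩ := W7Slope.exists_preimage k hX hF hCl (cokernel.π i) (j ≫ e.hom) hG
    have h5 := W7Slope.sub_le k hFss ι hPl
    rw [show l = t + n by omega] at h5 hdl
    have h6 : Curv2.deg k X P (t + n) = Curv2.deg k X I t + Curv2.deg k X G n := by omega
    push_cast at h5
    rw [h6, hdC', hg'] at h5
    rw [hdC', hg'] at e2
    refine le_of_mul_le_mul_right ?_ hs'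
    rw [hg']
    nlinarith [mul_le_mul_of_nonneg_right h5 (Int.natCast_nonneg (W7Slope.grk (cokernel i)))]

end Groth.Agent.S16469
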