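import Groth.Statements.S16470
import Groth.Agent.W7Slope.Max

set_option autoImplicit false
universe u
open CategoryTheory CategoryTheory.Limits AlgebraicGeometry
open VBCurve

set_option backward.isDefEq.respectTransparency false
set_option backward.isDefEq.respectTransparency.types false

open Groth.Agent Groth.Agent.CurveRR

namespace Groth.Agent.S16470

/-- Let X be a smooth proper integral curve (integral, smooth and proper of dimension one) over an
algebraically closed field k and E a finite locally free O_X-module of rank r ≥ 1 (degree = χ −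
rank·χ(O_X), slope = degree / rank). There is a finite locally free submodule E₁ ⊂ E (a monomorphism
of O_X-modules) of some rank r₁ ≥ 1, the destabilising sub-bundle, such that: every finite locally
free submodule F ⊂ E of rank r' ≥ 1 has slope at most that of E₁ (deg F · r₁ ≤ deg E₁ · r'); and the
maximal slope drops in the quotient, i.e. every finite locally free submodule G of rank r' ≥ 1 of
the cokernel E/E₁ has deg G · r₁ < deg E₁ · r'. Moreover a submodule with these two properties is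
unique: any two are the same subobject of E. (Such an E₁ is slope-semistable, every submodule of E₁
being a submodule of E; the published statement lists semistability of E₁ as a third property, which
is therefore omitted here.) -/
theorem result (k : Type u) [Field k] [IsAlgClosed k] (X : Scheme.{u}) [X.Over (Spec (CommRingCat.of k))]
    [IsIntegral X] [IsProper (X ↘ Spec (CommRingCat.of k))] [Smooth (X ↘ Spec (CommRingCat.of k))]
    (hdim : topologicalKrullDim X = 1)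
    (r : ℕ) (hr : 0 < r) (E : X.Modules) (hE : FlatMod.IsFinLocFreeOfRank r E) :
    (∃ (E₁ : X.Modules) (r₁ : ℕ) (i₁ : E₁ ⟶ E), Mono i₁ ∧ 0 < r₁ ∧ FlatMod.IsFinLocFreeOfRank r₁ E₁ ∧
      (∀ (F : X.Modules) (r' : ℕ) (j : F ⟶ E), Mono j → 0 < r' → FlatMod.IsFinLocFreeOfRank r' F →
        Curv2.deg k X F r' * (r₁ : ℤ) ≤ Curv2.deg k X E₁ r₁ * (r' : ℤ)) ∧
      (∀ (Q : X.Modules) (s : ℕ) (j : Q ⟶ cokernel i₁), Mono j → 0 < s → FlatMod.IsFinLocFreeOfRank s Q →
        Curv2.deg k X Q s * (r₁ : ℤ) < Curv2.deg k X E₁ r₁ * (s : ℤ))) ∧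
    (∀ (E₁ E₁' : X.Modules) (r₁ r₁' : ℕ) (i₁ : E₁ ⟶ E) (i₁' : E₁' ⟶ E),
      Mono i₁ → 0 < r₁ → FlatMod.IsFinLocFreeOfRank r₁ E₁ →
      (∀ (F : X.Modules) (r' : ℕ) (j : F ⟶ E), Mono j → 0 < r' → FlatMod.IsFinLocFreeOfRank r' F →
        Curv2.deg k X F r' * (r₁ : ℤ) ≤ Curv2.deg k X E₁ r₁ * (r' : ℤ)) →
      (∀ (Q : X.Modules) (s : ℕ) (j : Q ⟶ cokernel i₁), Mono j → 0 < s → FlatMod.IsFinLocFreeOfRank s Q →
        Curv2.deg k X Q s * (r₁ : ℤ) < Curv2.deg k X E₁ r₁ * (s : ℤ)) →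
      Mono i₁' → 0 < r₁' → FlatMod.IsFinLocFreeOfRank r₁' E₁' →
      (∀ (F : X.Modules) (r' : ℕ) (j : F ⟶ E), Mono j → 0 < r' → FlatMod.IsFinLocFreeOfRank r' F →
        Curv2.deg k X F r' * (r₁' : ℤ) ≤ Curv2.deg k X E₁' r₁' * (r' : ℤ)) →
      (∀ (Q : X.Modules) (s : ℕ) (j : Q ⟶ cokernel i₁'), Mono j → 0 < s → FlatMod.IsFinLocFreeOfRank s Q →
        Curv2.deg k X Q s * (r₁' : ℤ) < Curv2.deg k X E₁' r₁' * (s : ℤ)) →
      ∃ e : E₁ ≅ E₁', e.hom ≫ i₁' = i₁) := by
  have hX : W7Slope.RegCurve X := W7Slope.regCurve_of_smooth (k := k) hdim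
  refine ⟨?_, ?_⟩
  · obtain ⟨E₁, r₁, i₁, hi₁, hr₁, hE₁, hle, hrmax⟩ := W7Slope.exists_max_slope k hX hr hE
    refine ⟨E₁, r₁, i₁, hi₁, hr₁, hE₁, hle, fun Q s j hj hs hQ => ?_⟩
    obtain ⟨P, ι, hι, hP, hdP⟩ := W7Slope.exists_preimage_coker k hX hE hE₁ i₁ j hQ
    have h := hle P (r₁ + s) ι hι (by omega) hP
    have hne : Curv2.deg k X P (r₁ + s) * (r₁ : ℤ) ≠ Curv2.deg k X E₁ r₁ * ((r₁ + s : ℕ) : ℤ) := fun he => by
      have := hrmax P (r₁ + s) ι hι (by omega) hP he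
      omega
    have := h.lt_of_ne hne
    rw [hdP] at this
    push_cast at this
    linarith
  · intro E₁ E₁' r₁ r₁' i₁ i₁' hi₁ hr₁ hE₁ hle hlt hi₁' hr₁' hE₁' hle' hlt'
    have key : ∀ (A B : X.Modules) (a b : ℕ) (i : A ⟶ E) (j : B ⟶ E), Mono i → Mono j → 0 < a → 0 < b →
        FlatMod.IsFinLocFreeOfRank a A → FlatMod.IsFinLocFreeOfRank b B →
        (∀ (F : X.Modules) (r' : ℕ) (l : F ⟶ E), Mono l → 0 < r' → FlatMod.IsFinLocFreeOfRank r' F →
          Curv2.deg k X F r' * (a : ℤ) ≤ Curv2.deg k X A a * (r' : ℤ)) →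
        (∀ (Q : X.Modules) (s : ℕ) (l : Q ⟶ cokernel i), Mono l → 0 < s → FlatMod.IsFinLocFreeOfRank s Q →
          Curv2.deg k X Q s * (a : ℤ) < Curv2.deg k X A a * (s : ℤ)) →
        (∀ (F : X.Modules) (r' : ℕ) (l : F ⟶ E), Mono l → 0 < r' → FlatMod.IsFinLocFreeOfRank r' F →
          Curv2.deg k X F r' * (b : ℤ) ≤ Curv2.deg k X B b * (r' : ℤ)) →
        j ≫ cokernel.π i = 0 := by
      intro A B a b i j hi hj ha hb hA hB hmA hqA hmB
      by_contra hne
      obtain ⟨q, hQ, -, -⟩ := W7Slope.isFinLocFree_coker_of_max k hX hE hA i fun P ι hι hP =>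
        le_of_mul_le_mul_right (hmA P a ι hι ha hP) (by exact_mod_cast ha)
      have hBss : ModFun.IsSlopeSemistable k X B b := fun G n l hl hn hG =>
        hmB G n (l ≫ j) (mono_comp _ _) hn hG
      obtain ⟨I, t, m, p, l, -, hl, -, hI, -, -, -, -, h1, -, ht⟩ :=
        W7Slope.image_slope k hX hB hQ hBss (j ≫ cokernel.π i)
      have h2 := hqA I t l hl (ht hne) hI
      have h3 := hmB A a i hi ha hA
      have ht' : (0 : ℤ) < t := by exact_mod_cast ht hne
      have ha' : (0 : ℤ) < a := by exact_mod_cast ha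
      have hb' : (0 : ℤ) < b := by exact_mod_cast hb
      nlinarith [mul_le_mul_of_nonneg_right h1 ha'.le, mul_lt_mul_of_pos_right h2 hb', mul_le_mul_of_nonneg_right h3 ht'.le]
    have e := key E₁ E₁' r₁ r₁' i₁ i₁' hi₁ hi₁' hr₁ hr₁' hE₁ hE₁' hle hlt hle'
    have e' := key E₁' E₁ r₁' r₁ i₁' i₁ hi₁' hi₁ hr₁' hr₁ hE₁' hE₁ hle' hlt' hle
    refine ⟨⟨Abelian.monoLift i₁' i₁ e', Abelian.monoLift i₁ i₁' e, ?_, ?_⟩, Abelian.monoLift_comp i₁' i₁ e'⟩
    · rw [← cancel_mono i₁, Category.assoc, Abelian.monoLift_comp, Abelian.monoLift_comp, Category.id_comp]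
    · rw [← cancel_mono i₁', Category.assoc, Abelian.monoLift_comp, Abelian.monoLift_comp, Category.id_comp]

end Groth.Agent.S16470
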