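import Groth.Statements.S16478
import Mathlib

set_option autoImplicit false
universe u
open GaDual

namespace Groth.Agent.S16478

/-- Let A be a commutative ring of prime characteristic p and n ≥ 1, and let φ be the comorphism of the
closed immersion α_{p^n} → G_a over A: the bialgebra map from the Hopf algebra of the additive group
(generator t primitive) to A[x]/(x^(p^n)) (x primitive) sending t to x. Then the restriction map on
characters, from those of the additive group over A to those of α_{p^n} over A, is surjective: every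
group-like element of A[x]/(x^(p^n)) is the image under φ of a group-like element of the Hopf
algebra of the additive group. -/
theorem result (p : ℕ) [Fact p.Prime] (A : Type u) [CommRing A] [CharP A p]
    (n : ℕ) (hn : 1 ≤ n) (φ : SekSuwa.A A 0 →ₐc[A] AlphaPn.A p n A) (hφ : φ SekSuwa.A.t = AlphaPn.x p n A)
    (u : AlphaPn.A p n A) (hu : IsGroupLikeElem A u) :
    ∃ g : SekSuwa.A A 0, IsGroupLikeElem A g ∧ φ g = u := by
  haveI : Nontrivial A := CharP.nontrivial_of_char_ne_one (R := A) (Fact.out (p := p.Prime)).ne_one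
  open TensorProduct in
  let ψ : AlphaPn.A p n A →ₗ[A] SekSuwa.A A 0 := (AlphaPn.basis p n A).constr A fun i => SekSuwa.A.t ^ (i : ℕ)
  have hψ : ∀ k < p ^ n, ψ (AlphaPn.x p n A ^ k) = SekSuwa.A.t ^ k := fun k hk => by
    rw [show AlphaPn.x p n A ^ k = AlphaPn.basis p n A ⟨k, hk⟩ by rw [AlphaPn.basis_apply]]
    simp only [ψ, Module.Basis.constr_basis]
  have hcomul : (TensorProduct.map ψ ψ) ∘ₗ Coalgebra.comul = Coalgebra.comul ∘ₗ ψ := by
    refine (AlphaPn.basis p n A).ext fun i => ?_
    rw [LinearMap.comp_apply, LinearMap.comp_apply, AlphaPn.basis_apply, hψ _ i.2, Bialgebra.comul_pow, Bialgebra.comul_pow,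
      AlphaPn.comul_x, SekSuwa.A.comul_t, zero_smul, add_zero, add_pow, add_pow, map_sum]
    refine Finset.sum_congr rfl fun j hj => ?_
    have hj' : j ≤ (i : ℕ) := Nat.lt_succ_iff.1 (Finset.mem_range.1 hj)
    simp only [Algebra.TensorProduct.tmul_pow, one_pow, Algebra.TensorProduct.tmul_mul_tmul, mul_one, one_mul]
    rw [mul_comm, ← nsmul_eq_mul, map_nsmul, TensorProduct.map_tmul, hψ _ (by omega), hψ _ (by omega), nsmul_eq_mul, mul_comm]
  have hcounit : Coalgebra.counit ∘ₗ ψ = Coalgebra.counit := by
    refine (AlphaPn.basis p n A).ext fun i => ?_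
    rw [LinearMap.comp_apply, AlphaPn.basis_apply, hψ _ i.2, Bialgebra.counit_pow, Bialgebra.counit_pow,
      AlphaPn.counit_x, SekSuwa.A.counit_t]
  have hsec : ((φ : SekSuwa.A A 0 →ₐ[A] AlphaPn.A p n A).toLinearMap) ∘ₗ ψ = LinearMap.id := by
    refine (AlphaPn.basis p n A).ext fun i => ?_
    rw [LinearMap.comp_apply, AlphaPn.basis_apply, hψ _ i.2]
    simp [hφ]
  refine ⟨ψ u, ⟨?_, ?_⟩, LinearMap.congr_fun hsec u⟩
  · exact (LinearMap.congr_fun hcounit u).trans hu.counit_eq_one
  · rw [← LinearMap.comp_apply, ← hcomul, LinearMap.comp_apply, hu.comul_eq_tmul_self, TensorProduct.map_tmul]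

end Groth.Agent.S16478
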