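import Groth.Statements.S16488
import Groth.Agent.RefStalk.Refl
import Groth.Agent.RegDual.Scheme
-- import your own Groth.Agent.* helpers here

set_option autoImplicit false
universe u
open CategoryTheory CategoryTheory.Limits AlgebraicGeometry TopologicalSpace
open VBPn

set_option backward.isDefEq.respectTransparency false

namespace Groth.Agent.S16488

/-- Let X be an integral locally Noetherian scheme all of whose local rings are regular, and F a
coherent O_X-module which is reflexive, i.e. the canonical map F → F^** is an isomorphism. Then the
singularity set of F (the set of points at which the stalk of F is not free) has codimension at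
least 3: for every point x such that F_x is not a free O_{X,x}-module, the local ring O_{X,x} has
dimension at least 3. The published statement is for reflexive coherent analytic sheaves on a
complex manifold; this row is its statement for coherent sheaves on a regular integral locally
Noetherian scheme, where the same argument (a reflexive sheaf is locally a second syzygy sheaf)
applies. -/
theorem result (X : Scheme.{u}) [IsIntegral X] [IsLocallyNoetherian X]
    (hreg : ∀ x : X, IsRegularLocalRing (X.presheaf.stalk x)) (F : X.Modules) (hF : Coh.IsCoh F)
    (hrefl : RefHull.IsReflexive F) (x : X) (hx : ¬ Module.Free (X.presheaf.stalk x) (F.presheaf.stalk x)) :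
    (3 : WithBot ℕ∞) ≤ ringKrullDim (X.presheaf.stalk x) := by
  haveI := hreg x
  haveI := Groth.Agent.RegDual.finite_stalk hF x
  haveI : Module.IsReflexive (X.presheaf.stalk x) (F.presheaf.stalk x) :=
    (Groth.Agent.RefStalk.isReflexive_iff hF).1 hrefl x
  by_contra h
  refine hx (Groth.Agent.RegDual.free_of_isReflexive _ ?_ _)
  obtain ⟨n, hn⟩ := Groth.Agent.SerreReg.exists_dim (X.presheaf.stalk x)
  rw [hn] at h ⊢
  have h' : ¬ (3 : ℕ) ≤ n := fun hh => h (by exact_mod_cast hh)
  exact_mod_cast (by omega : n ≤ 2)

end Groth.Agent.S16488
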