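import Groth.Statements.S16490
import Groth.Agent.RefStalk.Codim
import Groth.Agent.UFDLib.Regular
-- import your own Groth.Agent.* helpers here

set_option autoImplicit false
universe u
open CategoryTheory CategoryTheory.Limits AlgebraicGeometry TopologicalSpace
open VBPn

set_option backward.isDefEq.respectTransparency false

namespace Groth.Agent.S16490

/-- Let X be an integral locally Noetherian scheme all of whose local rings are regular, and let 0 → F →
E → Q → 0 be a short exact sequence of coherent O_X-modules in which E is reflexive (the canonical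
map E → E^** is an isomorphism) and Q is torsion-free (every stalk Q_x is a torsion-free
O_{X,x}-module). Then F is normal: for all open subsets V ⊆ U of X such that every point of U not in
V has local ring of dimension at least 2, the restriction map F(U) → F(V) is bijective. The
published statement is for coherent analytic sheaves on a complex manifold, a sheaf being called
normal when for every open U and every analytic subset A ⊆ U of codimension at least 2 the
restriction F(U) → F(U ∖ A) is bijective; this row is its statement for coherent sheaves on a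
regular integral locally Noetherian scheme, with normality phrased through open subsets V ⊆ U whose
complement in U consists of points with local ring of dimension at least 2, where the same argument
applies. -/
theorem result (X : Scheme.{u}) [IsIntegral X] [IsLocallyNoetherian X]
    (hreg : ∀ x : X, IsRegularLocalRing (X.presheaf.stalk x)) (S : ShortComplex X.Modules) (hS : S.ShortExact)
    (hF : Coh.IsCoh S.X₁) (hE : Coh.IsCoh S.X₂) (hQ : Coh.IsCoh S.X₃)
    (hErefl : RefHull.IsReflexive S.X₂) (hQtf : TorSh.IsTorsionFree S.X₃) :
    (∀ (U V : X.Opens) (hVU : V ≤ U), (∀ x : X, x ∈ U → x ∉ V → (2 : WithBot ℕ∞) ≤ ringKrullDim (X.presheaf.stalk x)) →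
        Function.Bijective (S.X₁.presheaf.map (homOfLE hVU).op)) := by
  have hn : Pi1.IsNormalScheme X := fun x => by
    haveI := hreg x
    haveI := Groth.Agent.UFDLib.ufd_of_isRegularLocalRing (X.presheaf.stalk x)
    exact ⟨inferInstance, inferInstance⟩
  intro U V hVU hd
  -- sections of the sub-module are the kernel
  have hexact : ∀ (W : X.Opens) (e : Γ(S.X₂, W)), S.g.app W e = 0 → ∃ f, S.f.app W f = e := fun W e he => by
    let G : X.Modules ⥤ AddCommGrpCat.{u} :=
      Scheme.Modules.toPresheaf X ⋙ (CategoryTheory.evaluation _ _).obj (Opposite.op W)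
    haveI : G.Additive := ⟨fun {A B} {a b} => rfl⟩
    haveI : PreservesLimits ((CategoryTheory.evaluation (TopologicalSpace.Opens X)ᵒᵖ Ab.{u}).obj (Opposite.op W)) :=
      inferInstance
    haveI : PreservesLimits G := @comp_preservesLimits _ _ _ _ _ _ _ _ inferInstance ‹_›
    haveI : PreservesLimitsOfSize.{0, 0} G := preservesLimitsOfSize_shrink G
    have h := hS.exact.map_of_mono_of_preservesKernel G hS.mono_f inferInstance
    exact (ShortComplex.ab_exact_iff _).1 h e he
  have hinj : ∀ W : X.Opens, Function.Injective (S.f.app W) := fun W => by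
    haveI := hS.mono_f
    exact Groth.Agent.ZCl.injective_of_mono S.f W
  have hE2 := Groth.Agent.RefStalk.bijective_res_of_isReflexive hn hE
    ((Groth.Agent.RefStalk.isReflexive_iff hE).1 hErefl) hVU hd
  -- sections of the quotient are determined on `V`
  have hQi : ∀ q : Γ(S.X₃, U), Groth.Agent.ZCl.rs S.X₃ hVU q = 0 → q = 0 := fun q hq => by
    refine Groth.Agent.ZCl.ext_germ S.X₃ q 0 fun x hx => ?_
    rw [map_zero]
    by_cases hxV : x ∈ V
    · rw [← Groth.Agent.ZCl.germ_rs S.X₃ hVU x hxV, hq, map_zero]
    · have hη : genericPoint X ∈ U := (genericPoint_specializes x).mem_open U.2 hx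
      have hηV : genericPoint X ∈ V := by
        by_contra hc
        have h2 := hd _ hη hc
        rw [ringKrullDim_eq_zero_of_field (X.presheaf.stalk (genericPoint X))] at h2
        exact absurd h2 (by decide)
      obtain ⟨A, hA, hxA, hAU⟩ := exists_isAffineOpen_mem_and_subset hx
      have hηA : genericPoint X ∈ A := (genericPoint_specializes x).mem_open A.2 hxA
      obtain ⟨f, hf, hηf⟩ := hA.exists_basicOpen_le (V := V) ⟨genericPoint X, hηV⟩ hηA
      have hL := Groth.Agent.QC.isLoc_of_isQCoh hA (hM := hQ.1)
      obtain ⟨n, hn'⟩ := hL.exists_pow_smul_eq_zero f (Groth.Agent.QC.res S.X₃ hAU q) (by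
        rw [Groth.Agent.QC.res_res, ← Groth.Agent.QC.res_res S.X₃ hf hVU]
        exact (congrArg _ hq).trans (map_zero _))
      have h := congrArg (Groth.Agent.WeakAssLib.mgerm S.X₃ hxA) hn'
      rw [Groth.Agent.WeakAssLib.mgerm_smul, map_zero, Groth.Agent.WeakAssLib.mgerm_res] at h
      haveI := hQtf x
      haveI : IsDomain Γ(X, A) := @IsIntegral.component_integral X _ A ⟨⟨x, hxA⟩⟩
      refine (smul_eq_zero.1 h).resolve_left fun h0 => ?_
      have hf0 : f ≠ 0 := fun e => by rw [e, Scheme.basicOpen_zero] at hηf; exact hηf
      exact pow_ne_zero n hf0 (AlgebraicGeometry.germ_injective_of_isIntegral X x hxA (h0.trans (map_zero _).symm))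
  refine ⟨fun s t hst => hinj U (hE2.1 ?_), fun t => ?_⟩
  · change Groth.Agent.ZCl.rs S.X₂ hVU _ = Groth.Agent.ZCl.rs S.X₂ hVU _
    rw [← Groth.Agent.ZCl.app_rs, ← Groth.Agent.ZCl.app_rs]
    exact congrArg _ hst
  · obtain ⟨e, he⟩ := hE2.2 (S.f.app V t)
    have h0 : S.g.app U e = 0 := hQi _ (by
      rw [← Groth.Agent.ZCl.app_rs, show Groth.Agent.ZCl.rs S.X₂ hVU e = S.f.app V t from he]
      exact congrArg (fun φ : S.X₁ ⟶ S.X₃ => φ.app V t) S.zero)
    obtain ⟨s, rfl⟩ := hexact U e h0
    refine ⟨s, hinj V ?_⟩
    exact (Groth.Agent.ZCl.app_rs S.f hVU s).trans he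

end Groth.Agent.S16490
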