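import Groth.Statements.S16492
import Groth.Agent.WeilFin.DualPow

set_option autoImplicit false
universe u
open CategoryTheory CategoryTheory.Limits AlgebraicGeometry
open VBCurve

set_option backward.isDefEq.respectTransparency false
set_option backward.isDefEq.respectTransparency.types false

open Groth.Agent

namespace Groth.Agent.S16492

/-- Let X be a smooth proper integral curve (integral, smooth and proper of dimension one) over an
algebraically closed field k, and E a finite locally free O_X-module of rank r. Say that a module M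
is finite in the sense of Weil when there are distinct polynomials P ≠ Q with natural-number
coefficients and an isomorphism P(M) ≅ Q(M), where P(M) is the direct sum over i of P_i copies of
the i-th tensor power of M (the 0-th power being O_X). Then E is finite in this sense if and only if
its dual E^* = 𝓗om_{O_X}(E, O_X) is. -/
theorem result (k : Type u) [Field k] [IsAlgClosed k] (X : Scheme.{u}) [X.Over (Spec (CommRingCat.of k))]
    [IsIntegral X] [IsProper (X ↘ Spec (CommRingCat.of k))] [Smooth (X ↘ Spec (CommRingCat.of k))]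
    (hdim : topologicalKrullDim X = 1)
    (r : ℕ) (E : X.Modules) (hE : FlatMod.IsFinLocFreeOfRank r E) :
    (∃ P Q : Polynomial ℕ, P ≠ Q ∧ Nonempty ((∐ fun i : Fin (P.natDegree + 1) => ∐ fun _ : Fin (P.coeff ↑i) => CohB1.tensorPow E ↑i) ≅
        (∐ fun i : Fin (Q.natDegree + 1) => ∐ fun _ : Fin (Q.coeff ↑i) => CohB1.tensorPow E ↑i))) ↔
      (∃ P Q : Polynomial ℕ, P ≠ Q ∧ Nonempty ((∐ fun i : Fin (P.natDegree + 1) => ∐ fun _ : Fin (P.coeff ↑i) => CohB1.tensorPow (RefHull.dual E) ↑i) ≅
        (∐ fun i : Fin (Q.natDegree + 1) => ∐ fun _ : Fin (Q.coeff ↑i) => CohB1.tensorPow (RefHull.dual E) ↑i))) := by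
  haveI := CurveRR.isNoetherian_of_proper k X
  have hF := (fun x => let ⟨U, hx, e⟩ := hE x; ⟨U, r, hx, e⟩ : FlatMod.IsFinLocFree E)
  refine ⟨WeilFin.finite_dual_of_finite hF, fun h => ?_⟩
  obtain ⟨P, Q, hne, ⟨e⟩⟩ := WeilFin.finite_dual_of_finite (ResDesc.isFinLocFree_dual hF) h
  haveI := HNSplit.isIso_bidualMap hF
  have c : ∀ R : Polynomial ℕ, Nonempty ((∐ fun i : Fin (R.natDegree + 1) => ∐ fun _ : Fin (R.coeff ↑i) => CohB1.tensorPow E ↑i) ≅
      (∐ fun i : Fin (R.natDegree + 1) => ∐ fun _ : Fin (R.coeff ↑i) => CohB1.tensorPow (RefHull.dual (RefHull.dual E)) ↑i)) :=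
    fun R => ⟨Sigma.mapIso fun i => Sigma.mapIso fun _ => (TMul.nonempty_powCongr (asIso (RefHull.bidualMap E)) _).some⟩
  exact ⟨P, Q, hne, ⟨(c P).some ≪≫ e ≪≫ (c Q).some.symm⟩⟩

end Groth.Agent.S16492
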