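import Groth.Statements.S7298
import Groth.Agent.H1Triv.Rel
import Groth.Agent.S7297
import Groth.Agent.PnReg.Pull

set_option autoImplicit false
universe u
open CategoryTheory CategoryTheory.Limits AlgebraicGeometry
open Resolve

namespace Groth.Agent.S7298

/-- Let A be a local normal Nagata domain of dimension two defining a rational singularity, and f : X →
Spec A a proper morphism from an integral normal scheme which is an isomorphism over some nonempty
open of Spec A. Then H^1(X, F) = 0 for every quasi-coherent O_X-module F which is globally generated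
(a quotient of a free O_X-module). -/
theorem result (A : Type u) [CommRing A] [IsDomain A] [IsLocalRing A] [IsNoetherianRing A]
    [IsIntegrallyClosed A] (hN : CAlg.IsNagata A) (hdim : ringKrullDim A = 2) (hA : Curv2.IsRationalSing A)
    (X : Scheme.{u}) (f : X ⟶ Spec (CommRingCat.of A)) [IsProper f] [IsIntegral X] (hXn : Pi1.IsNormalScheme X)
    (hbir : ∃ U : (Spec (CommRingCat.of A)).Opens, (U : Set (Spec (CommRingCat.of A))).Nonempty ∧ IsIso (f ∣_ U))
    (F : X.Modules) (hF : Coh.IsQCoh F) (hgg : Curv2.IsGloballyGenerated F) : Subsingleton (Coh.HH X F 1) := by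
  letI : X.Over (Spec (CommRingCat.of A)) := ⟨f⟩
  haveI : IsProper (X ↘ Spec (CommRingCat.of A)) := inferInstanceAs (IsProper f)
  haveI : IsNoetherian X := Groth.Agent.H1Triv.isNoetherian_of_proper_ring A
  obtain ⟨ι, p, hp⟩ := hgg
  haveI : Epi (C := X.Modules) p := hp
  haveI : Coh.IsQCoh F := hF
  haveI hP : Coh.IsQCoh (SheafOfModules.free ι : X.Modules) :=
    inferInstanceAs ((SheafOfModules.free ι : X.Modules).IsQuasicoherent)
  have hO : Subsingleton (Coh.HH X (Coh.structureModule X) 1) := hA X f inferInstance inferInstance hXn hbir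
  have hP1 : Subsingleton (Coh.HH X (SheafOfModules.free ι : X.Modules) 1) :=
    Groth.Agent.PnReg.hh_sigma (fun _ : ι => Coh.structureModule X) 1 fun _ => hO
  haveI := hP1
  exact (Groth.Agent.H1Triv.surjective_of_h_next A (Groth.Agent.W7Proj.shortExact_kernel p) 1
    (Groth.Agent.S7297.result A hN hdim hA X f hXn hbir _ (Groth.Agent.QC.isQCoh_kernel hP hF p) 2 le_rfl)).subsingleton

end Groth.Agent.S7298
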