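import Groth.Statements.S16497
import Groth.Agent.FrobNorm.Main
import Groth.Agent.DeltaNorm.NodalCount

set_option autoImplicit false
universe u
open CategoryTheory CategoryTheory.Limits AlgebraicGeometry Opposite
open Curves

set_option backward.isDefEq.respectTransparency false
set_option backward.isDefEq.respectTransparency.types false

namespace Groth.Agent.S16497

/-- Let p be a prime, k an algebraically closed field with char k = p, and C a semi-stable curve over k,
that is, C is reduced, proper over k and connected, every irreducible component of C has dimension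
one, and the singularities of C are at worst nodal. Let π : C' → C be the normalisation of C, given
here as a finite morphism from a scheme all of whose local rings are integrally closed domains which
is an isomorphism over a dense open subset of C with dense preimage. Let φ and φ' be the
endomorphisms of the abelian sheaves underlying O_C and O_{C'} that raise sections to the p-th power
(they are pinned by this property). Call C ordinary when the additive map induced by φ on H^1(C,
O_C) is bijective; for a proper curve over an algebraically closed field this is the same as asking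
that the semisimple part of this p-linear endomorphism be all of H^1(C, O_C), and for a smooth curve
it is the classical notion (maximal p-rank of the Jacobian). Then C is ordinary precisely when the
map induced by φ' on H^1(C', O_{C'}) is bijective, i.e. if and only if every irreducible component
of the normalisation (a smooth proper curve) is ordinary, H^1(C', O_{C'}) being the direct sum of
the H^1 of the components. -/
theorem result (k : Type u) [Field k] [IsAlgClosed k]
    (p : ℕ) [Fact p.Prime] [CharP k p]
    (C : Scheme.{u}) [C.Over (Spec (CommRingCat.of k))] [IsReduced C] [IsProper (C ↘ Spec (CommRingCat.of k))]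
    [ConnectedSpace ↥C] (hdim : ∀ Z ∈ irreducibleComponents (C : Type u), topologicalKrullDim Z = 1)
    (hnod : Curv2.AtWorstNodal k C)
    (C' : Scheme.{u}) (π : C' ⟶ C) [IsFinite π] (hC' : Pi1.IsNormalScheme C')
    (U : C.Opens) (hU : Dense (U : Set C)) (hU' : Dense ((π ⁻¹ᵁ U : C'.Opens) : Set C')) (hπU : IsIso (π ∣_ U))
    (φ : Coh.toAb (Coh.structureModule C) ⟶ Coh.toAb (Coh.structureModule C))
    (hφ : ∀ (V : C.Opens) (s : Γ(C, V)), (φ.hom.app (op V)).hom s = s ^ p)
    (φ' : Coh.toAb (Coh.structureModule C') ⟶ Coh.toAb (Coh.structureModule C'))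
    (hφ' : ∀ (V : C'.Opens) (s : Γ(C', V)), (φ'.hom.app (op V)).hom s = s ^ p) :
    Function.Bijective (Sheaf.H.map φ 1) ↔ Function.Bijective (Sheaf.H.map φ' 1) := by
  have hd : topologicalKrullDim C ≤ 1 := Groth.Agent.TopDegRep.topologicalKrullDim_le_of_components C 1 hdim
  refine Groth.Agent.FrobNorm.bijective_H1_iff (k := k) p hd ?_ π hC' U hU hπU φ hφ φ' hφ'
  intro x hx a c d hdd h
  by_cases hn : Curv2.IsNode k C x
  · obtain ⟨B, _, _, _, σ, ⟨e⟩⟩ := Groth.Agent.NodeBr.exists_model_of_isNode k hn
    haveI : CharP (AlgebraicClosure k) p :=
      charP_of_injective_algebraMap (algebraMap k (AlgebraicClosure k)).injective p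
    have hax : Groth.Agent.DeltaNorm.axesIdeal (AlgebraicClosure k) 2 =
        Ideal.span {(MvPowerSeries.X 0 * MvPowerSeries.X 1 : MvPowerSeries (Fin 2) (AlgebraicClosure k))} := by
      refine le_antisymm (Ideal.span_le.2 ?_) (Ideal.span_mono ?_)
      · rintro _ ⟨i, j, hij, rfl⟩
        refine Ideal.mem_span_singleton.2 ?_
        fin_cases i <;> fin_cases j
        · exact absurd rfl hij
        · exact dvd_rfl
        · exact ⟨1, by rw [mul_one]; exact mul_comm _ _⟩
        · exact absurd rfl hij
      · rintro _ rfl
        exact ⟨0, 1, by decide, rfl⟩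
    exact Groth.Agent.FrobNorm.dvd_of_pow_eq_equiv σ p (fun a c d hd' h' =>
      Groth.Agent.FrobNorm.dvd_of_pow_eq_completion p (by norm_num : 1 ≤ 2)
        (e.trans (Ideal.quotEquivOfEq hax.symm)) hd' h') hdd h
  · obtain ⟨V, hxV, hV⟩ := (hnod x hx).resolve_right hn
    haveI := hV
    haveI := Groth.Agent.SmLocalST.isRegularLocalRing_stalk_of_smooth_field (V.ι ≫ (C ↘ Spec (CommRingCat.of k))) ⟨x, hxV⟩
    haveI : IsRegularLocalRing (C.presheaf.stalk x) :=
      IsRegularLocalRing.of_ringEquiv (asIso (V.ι.stalkMap ⟨x, hxV⟩)).commRingCatIsoToRingEquiv.symm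
    haveI := Groth.Agent.RegLoc.isDomain (A := C.presheaf.stalk x)
    haveI : IsDiscreteValuationRing (C.presheaf.stalk x) :=
      Groth.Agent.S0549.dvr_iff.2 ⟨inferInstance,
        Groth.Agent.DeltaNorm.dim_stalk_eq_one (C ↘ Spec (CommRingCat.of k)) hdim hx⟩
    exact Groth.Agent.FrobNorm.dvd_of_pow_eq_normal p (Fact.out : p.Prime).ne_zero h

end Groth.Agent.S16497
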