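import Groth.Statements.S16498
import Mathlib

set_option autoImplicit false
universe u
open Curves

namespace Groth.Agent.S16498

/-- Let k be a field of odd characteristic p, g ≤ p a natural number, f ∈ k[x] of degree at most 2g + 2,
and α ∈ k. Write f^((p-1)/2) = Σ_l c_l x^l and f(x + α)^((p-1)/2) = Σ_l d_l x^l, and form the g × g
Cartier–Manin matrices (c_{ip-j}) and (d_{ip-j}), indices i, j = 1, …, g (below written with i, j
ranging over Fin g, so that the entry at (i, j) is the coefficient of x^((i+1)p-(j+1))). Then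
(d_{ip-j}) = L · (c_{ip-j}) · U with L_{i,I} = binom(I-1, i-1) α^((I-i)p) and U_{J,j} = binom(p-J,
p-j) α^(j-J); both L and U are unitriangular since a binomial coefficient vanishes when its lower
index exceeds its upper index. (The source works over a perfect field, with f separable of degree 2g
+ 2 and α ∈ k^* a root of f, hypotheses this identity does not use.) -/
theorem result (k : Type u) [Field k] (p : ℕ) [Fact p.Prime] (hp : p ≠ 2) [CharP k p]
    (g : ℕ) (hg : g ≤ p) (f : Polynomial k) (hf : f.natDegree ≤ 2 * g + 2) (α : k) :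
    (Matrix.of fun i j : Fin g =>
        ((f.comp (Polynomial.X + Polynomial.C α)) ^ ((p - 1) / 2)).coeff (((i : ℕ) + 1) * p - ((j : ℕ) + 1))) =
      (Matrix.of fun i I : Fin g => (((I : ℕ).choose (i : ℕ) : ℕ) : k) * α ^ (((I : ℕ) - (i : ℕ)) * p)) *
        (Matrix.of fun i j : Fin g => (f ^ ((p - 1) / 2)).coeff (((i : ℕ) + 1) * p - ((j : ℕ) + 1))) *
        (Matrix.of fun J j : Fin g => (((p - ((J : ℕ) + 1)).choose (p - ((j : ℕ) + 1)) : ℕ) : k) * α ^ ((j : ℕ) - (J : ℕ))) := by
  classical
  have hp' : p.Prime := Fact.out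
  obtain ⟨m, hm⟩ : ∃ m, p = 2 * m + 1 := by
    obtain ⟨m, hm⟩ := hp'.odd_of_ne_two hp
    exact ⟨m, hm⟩
  have hm' : (p - 1) / 2 = m := by omega
  rw [hm']
  set h := f ^ m with hh
  have hcomp : (f.comp (Polynomial.X + Polynomial.C α)) ^ m = h.comp (Polynomial.X + Polynomial.C α) :=
    (Polynomial.pow_comp _ _ _).symm
  have hdeg : h.natDegree ≤ m * (2 * g + 2) :=
    Polynomial.natDegree_pow_le.trans (Nat.mul_le_mul_left m hf)
  have hdeg' : h.natDegree + g + 1 ≤ (g + 1) * p := by
    rw [hm]; nlinarith [hdeg]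
  have hcoeff : ∀ N : ℕ, (h.comp (Polynomial.X + Polynomial.C α)).coeff N =
      ∑ l ∈ Finset.range ((g + 1) * p), (l.choose N : k) * α ^ (l - N) * h.coeff l := by
    intro N
    rw [Polynomial.comp, Polynomial.eval₂_eq_sum_range' _ (show h.natDegree < (g + 1) * p by omega),
      Polynomial.finsetSum_coeff]
    refine Finset.sum_congr rfl fun l _ => ?_
    rw [Polynomial.coeff_C_mul, Polynomial.coeff_X_add_C_pow]
    ring
  ext i j
  simp only [Matrix.of_apply, Matrix.mul_apply, hcomp, hcoeff, Finset.sum_mul]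
  set N := ((i : ℕ) + 1) * p - ((j : ℕ) + 1) with hN
  let φ : Fin g × Fin g → ℕ := fun x => ((x.1 : ℕ) + 1) * p - ((x.2 : ℕ) + 1)
  have hφeq : ∀ a b : ℕ, b < p → (a + 1) * p - (b + 1) = (p - (b + 1)) + p * a := fun a b hb => by
    rw [add_mul, one_mul, mul_comm]; omega
  have hlucas : ∀ a b : ℕ, b < p → ((((a + 1) * p - (b + 1)).choose N : ℕ) : k) =
      ((p - (b + 1)).choose (p - ((j : ℕ) + 1)) : k) * (a.choose (i : ℕ) : k) := by
    intro a b hb
    have hj : (j : ℕ) < p := lt_of_lt_of_le j.2 hg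
    have e := Choose.choose_modEq_choose_mod_mul_choose_div_nat
      (n := (a + 1) * p - (b + 1)) (k := N) (p := p)
    rw [hN, hφeq a b hb, hφeq i j hj, Nat.add_mul_mod_self_left, Nat.add_mul_mod_self_left,
      Nat.add_mul_div_left _ _ hp'.pos, Nat.add_mul_div_left _ _ hp'.pos,
      Nat.mod_eq_of_lt (by omega), Nat.mod_eq_of_lt (by omega), Nat.div_eq_of_lt (by omega),
      Nat.div_eq_of_lt (by omega), zero_add, zero_add] at e
    rw [hN, hφeq a b hb, hφeq i j hj, ← Nat.cast_mul]
    exact (CharP.natCast_eq_natCast k p).mpr e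
  have hinj : Function.Injective φ := by
    rintro ⟨a, b⟩ ⟨a', b'⟩ he
    simp only [φ, hφeq _ _ (lt_of_lt_of_le b.2 hg), hφeq _ _ (lt_of_lt_of_le b'.2 hg)] at he
    have hb := b.2; have hb' := b'.2
    have h1 := congrArg (· / p) he
    simp only [Nat.add_mul_div_left _ _ hp'.pos] at h1
    rw [Nat.div_eq_of_lt (by omega), Nat.div_eq_of_lt (by omega), zero_add, zero_add] at h1
    have h2 : p - ((b : ℕ) + 1) = p - ((b' : ℕ) + 1) := by rw [h1] at he; omega
    have hbp : (b : ℕ) < p := lt_of_lt_of_le b.2 hg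
    have hbp' : (b' : ℕ) < p := lt_of_lt_of_le b'.2 hg
    exact Prod.ext (Fin.ext h1) (Fin.ext (show (b : ℕ) = b' by omega))
  rw [← Finset.sum_subset (s₁ := Finset.univ.image φ) ?_ ?_, Finset.sum_image hinj.injOn,
    Fintype.sum_prod_type, Finset.sum_comm]
  · refine Finset.sum_congr rfl fun b _ => Finset.sum_congr rfl fun a _ => ?_
    have hb : (b : ℕ) < p := lt_of_lt_of_le b.2 hg
    simp only [φ, hlucas a b hb]
    by_cases h1 : (a : ℕ) < (i : ℕ)
    · simp [Nat.choose_eq_zero_of_lt h1]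
    by_cases h2 : (j : ℕ) < (b : ℕ)
    · simp [Nat.choose_eq_zero_of_lt (show p - ((b : ℕ) + 1) < p - ((j : ℕ) + 1) by omega)]
    have he : ((a : ℕ) + 1) * p - ((b : ℕ) + 1) - N = ((a : ℕ) - i) * p + ((j : ℕ) - b) := by
      obtain ⟨c, hc⟩ := Nat.exists_eq_add_of_le (not_lt.mp h1)
      rw [hN, hφeq _ _ hb, hφeq _ _ (lt_of_lt_of_le j.2 hg), hc, Nat.add_sub_cancel_left, mul_add,
        mul_comm p c]
      have := j.2
      omega
    rw [he, pow_add]
    ring
  · intro l hl
    simp only [Finset.mem_image, Finset.mem_univ, true_and] at hl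
    obtain ⟨⟨a, b⟩, rfl⟩ := hl
    rw [Finset.mem_range]
    have : ((a : ℕ) + 1) * p ≤ g * p := Nat.mul_le_mul_right p a.2
    simp only [φ]
    rw [add_mul, one_mul] at this ⊢
    rw [add_mul, one_mul]
    have := hp'.pos
    omega
  · intro l hl hli
    have hr : l % p < p := Nat.mod_lt _ hp'.pos
    have hl' : l = ((l / p) + 1) * p - ((p - 1 - l % p) + 1) := by
      rw [hφeq _ _ (by omega)]
      have := Nat.mod_add_div l p
      omega
    have hL := hlucas (l / p) (p - 1 - l % p) (by omega)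
    rw [← hl'] at hL
    rw [hL]
    by_cases hrj : l % p < p - ((j : ℕ) + 1)
    · rw [show p - (p - 1 - l % p + 1) = l % p by omega, Nat.choose_eq_zero_of_lt hrj]
      simp
    have hJ : p - 1 - l % p < g := by have := j.2; omega
    have ha : g ≤ l / p := by
      by_contra ha
      refine hli (Finset.mem_image.mpr ⟨(⟨l / p, not_le.mp ha⟩, ⟨_, hJ⟩), Finset.mem_univ _, ?_⟩)
      exact hl'.symm
    have hc : h.coeff l = 0 := by
      refine Polynomial.coeff_eq_zero_of_natDegree_lt ?_
      have h1 := Nat.mod_add_div l p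
      have h2 : p * g ≤ p * (l / p) := Nat.mul_le_mul_left p ha
      have h3 : (g + 1) * p = p * g + p := by ring
      have := j.2
      omega
    simp [hc]

end Groth.Agent.S16498
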