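import Groth.Statements.S16499
import Mathlib

set_option autoImplicit false
universe u
open Curves

namespace Groth.Agent.S16499

/-- Let k be a field of odd characteristic p, g ≤ p a natural number, f ∈ k[x] of degree at most 2g + 2,
and α ∈ k. Write f^((p-1)/2) = Σ_l c_l x^l and f(x + α)^((p-1)/2) = Σ_l d_l x^l. Then the g × g
Cartier–Manin matrices (c_{ip-j}) and (d_{ip-j}), indices i, j = 1, …, g (below indexed by Fin g
with entry at (i, j) the coefficient of x^((i+1)p-(j+1))), have equal determinants: whether the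
Cartier–Manin determinant of y^2 = f(x) vanishes does not depend on translating x. (The source works
over a perfect field, with f separable of degree 2g + 2 and α ∈ k^* a root of f, hypotheses this
identity does not use.) -/
theorem result (k : Type u) [Field k] (p : ℕ) [Fact p.Prime] (hp : p ≠ 2) [CharP k p]
    (g : ℕ) (hg : g ≤ p) (f : Polynomial k) (hf : f.natDegree ≤ 2 * g + 2) (α : k) :
    (Matrix.of fun i j : Fin g =>
        ((f.comp (Polynomial.X + Polynomial.C α)) ^ ((p - 1) / 2)).coeff (((i : ℕ) + 1) * p - ((j : ℕ) + 1))).det =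
      (Matrix.of fun i j : Fin g => (f ^ ((p - 1) / 2)).coeff (((i : ℕ) + 1) * p - ((j : ℕ) + 1))).det := by
  classical
  have hp1 : 1 ≤ p := (Fact.out : p.Prime).one_le
  set h := f ^ ((p - 1) / 2) with hh
  have hcomp : (f.comp (Polynomial.X + Polynomial.C α)) ^ ((p - 1) / 2) =
      h.comp (Polynomial.X + Polynomial.C α) := by rw [hh, Polynomial.pow_comp]
  have hdeg : h.natDegree ≤ (g + 1) * (p - 1) := by
    refine Polynomial.natDegree_pow_le.trans ((Nat.mul_le_mul_left _ hf).trans ?_)
    calc (p - 1) / 2 * (2 * g + 2) = ((p - 1) / 2 * 2) * (g + 1) := by ring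
      _ ≤ (p - 1) * (g + 1) := Nat.mul_le_mul_right _ (Nat.div_mul_le_self _ _)
      _ = (g + 1) * (p - 1) := mul_comm _ _
  let u : ℕ → ℕ → k := fun a i => (a.choose i : k) * α ^ ((a - i) * p)
  let v : ℕ → ℕ → k := fun b j => (b.choose (p - 1 - j) : k) * α ^ (b - (p - 1 - j))
  let U : Matrix (Fin g) (Fin g) k := Matrix.of fun i a => u a i
  let V : Matrix (Fin g) (Fin g) k := Matrix.of fun j' j => v (p - 1 - j') j
  have hU : U.det = 1 := by
    rw [Matrix.det_of_upperTriangular]
    · simp [U, u]
    · intro i a hai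
      simp only [id_eq] at hai
      simp [U, u, Nat.choose_eq_zero_of_lt (show (a : ℕ) < i from hai)]
  have hV : V.det = 1 := by
    rw [Matrix.det_of_upperTriangular]
    · simp [V, v]
    · intro j' j hj
      simp only [id_eq] at hj
      have h1 : (j : ℕ) < j' := hj
      have h2 : p - 1 - (j' : ℕ) < p - 1 - j := by omega
      simp [V, v, Nat.choose_eq_zero_of_lt h2]
  set C : Matrix (Fin g) (Fin g) k :=
    Matrix.of fun i j : Fin g => h.coeff (((i : ℕ) + 1) * p - ((j : ℕ) + 1)) with hC
  rw [hcomp]
  have key : (Matrix.of fun i j : Fin g =>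
      (h.comp (Polynomial.X + Polynomial.C α)).coeff (((i : ℕ) + 1) * p - ((j : ℕ) + 1))) = U * C * V := by
    ext i j
    set q := p - 1 - (j : ℕ) with hq
    have hm : ((i : ℕ) + 1) * p - ((j : ℕ) + 1) = q + p * i := by
      have := j.2
      rw [add_mul, one_mul, mul_comm (i : ℕ) p]
      omega
    have hl : h.natDegree < (g + 1) * p := by
      refine lt_of_le_of_lt hdeg (Nat.mul_lt_mul_of_pos_left ?_ (Nat.succ_pos g))
      omega
    have hterm : ∀ a b : ℕ, b < p →
        (((Polynomial.X + Polynomial.C α) ^ (b + p * a)).coeff (q + p * i)) = u a i * v b j := by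
      intro a b hb
      rw [Polynomial.coeff_X_add_C_pow]
      have hqp : q < p := by omega
      have h1 := Choose.choose_modEq_choose_mod_mul_choose_div_nat (p := p) (n := b + p * a) (k := q + p * i)
      rw [Nat.add_mul_mod_self_left, Nat.add_mul_mod_self_left, Nat.add_mul_div_left _ _ (by omega : 0 < p),
        Nat.add_mul_div_left _ _ (by omega : 0 < p), Nat.mod_eq_of_lt hb, Nat.mod_eq_of_lt hqp,
        Nat.div_eq_of_lt hb, Nat.div_eq_of_lt hqp, zero_add, zero_add] at h1
      have h2 : (((b + p * a).choose (q + p * i) : ℕ) : k) = ((b.choose q * a.choose i : ℕ) : k) :=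
        (CharP.natCast_eq_natCast k p).mpr h1
      rw [h2, Nat.cast_mul]
      rcases lt_or_ge b q with hbq | hbq
      · simp [v, ← hq, Nat.choose_eq_zero_of_lt hbq]
      rcases lt_or_ge a (i : ℕ) with hai | hai
      · simp [u, Nat.choose_eq_zero_of_lt hai]
      have h3 : b + p * a - (q + p * i) = (a - i) * p + (b - q) := by
        have h4 : p * (i : ℕ) ≤ p * a := Nat.mul_le_mul_left _ hai
        rw [Nat.sub_mul, mul_comm a p, mul_comm (i : ℕ) p]
        omega
      simp only [u, v, ← hq, h3, pow_add]
      ring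
    rw [Matrix.of_apply, hm]
    conv_lhs => rw [Polynomial.as_sum_range' h _ hl, Polynomial.sum_comp]
    simp only [Polynomial.monomial_comp, Polynomial.finsetSum_coeff, Polynomial.coeff_C_mul]
    refine (Fin.sum_univ_eq_sum_range (fun l => h.coeff l *
        ((Polynomial.X + Polynomial.C α) ^ l).coeff (q + p * i)) ((g + 1) * p)).symm.trans ?_
    rw [← Equiv.sum_comp finProdFinEquiv, Fintype.sum_prod_type, Fin.sum_univ_castSucc]
    simp only [finProdFinEquiv_apply_val, hterm _ _ (Fin.is_lt _)]
    have hlast : ∑ b : Fin p, h.coeff ((b : ℕ) + p * (Fin.last g : ℕ)) * (u (Fin.last g : ℕ) i * v b j) = 0 := by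
      refine Finset.sum_eq_zero fun b _ => ?_
      rcases lt_or_ge (b : ℕ) q with hbq | hbq
      · simp [v, ← hq, Nat.choose_eq_zero_of_lt hbq]
      · rw [Polynomial.coeff_eq_zero_of_natDegree_lt, zero_mul]
        refine lt_of_le_of_lt hdeg ?_
        simp only [Fin.val_last]
        rw [add_mul, one_mul, Nat.mul_sub, mul_one, mul_comm p g]
        have := j.2
        have h5 : g * 1 ≤ g * p := Nat.mul_le_mul_left _ hp1
        omega
    rw [hlast, add_zero, Matrix.mul_apply]
    simp only [Matrix.mul_apply, Finset.sum_mul]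
    rw [Finset.sum_comm]
    symm
    let φ : Fin g → Fin p := fun j' => ⟨p - 1 - j', by omega⟩
    refine Fintype.sum_of_injective φ ?_ _ _ (fun b hb => ?_) (fun j' => ?_)
    · intro x y hxy
      have hx := x.2
      have hy := y.2
      have := congrArg Fin.val hxy
      simp only [φ] at this
      exact Fin.ext (by omega)
    · refine Finset.sum_eq_zero fun a _ => ?_
      have hbq : (b : ℕ) < q := by
        by_contra hcon
        refine hb ⟨⟨p - 1 - b, ?_⟩, ?_⟩
        · have := j.2; omega
        · exact Fin.ext (by simp [φ]; have := b.2; omega)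
      simp [v, ← hq, Nat.choose_eq_zero_of_lt hbq]
    · refine Finset.sum_congr rfl fun a _ => ?_
      have h6 : ((a : ℕ) + 1) * p - ((j' : ℕ) + 1) = p - 1 - (j' : ℕ) + p * (a : ℕ) := by
        have := j'.2
        rw [add_mul, one_mul, mul_comm (a : ℕ) p]
        omega
      simp only [U, V, C, Matrix.of_apply, φ, Fin.val_castSucc, h6]
      ring
  rw [key, Matrix.det_mul, Matrix.det_mul, hU, hV, one_mul, mul_one]

end Groth.Agent.S16499
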