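import Groth.Statements.S16500
import Mathlib

set_option autoImplicit false
universe u
open Curves

namespace Groth.Agent.S16500

/-- Let k be a field of odd characteristic p, g ≤ p a natural number and f ∈ k[x] of degree at most 2g +
2. Let F be f with its coefficients reversed in degrees 0, …, 2g + 2, i.e. F(X) = X^(2g+2) f(1/X)
(Mathlib's reflect (2g+2) f), and write f^((p-1)/2) = Σ_l c_l x^l and F^((p-1)/2) = Σ_l C_l X^l.
Then C_{ip-j} = c_{(g+1-i)p-(g+1-j)} for all i, j = 1, …, g; that is, the g × g Cartier–Manin matrix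
of F is that of f with the order of both rows and columns reversed (below the indices run over Fin
g, the entry at (i, j) being the coefficient of degree (i+1)p-(j+1), and reversal is Fin.rev). In
particular the two matrices have the same determinant. (The source applies this to f with f(0) = 0,
separable of degree 2g + 2 over a perfect field, so that F has odd degree 2g + 1; the identity uses
none of that.) -/
theorem result (k : Type u) [Field k] (p : ℕ) [Fact p.Prime] (hp : p ≠ 2) [CharP k p]
    (g : ℕ) (hg : g ≤ p) (f : Polynomial k) (hf : f.natDegree ≤ 2 * g + 2) :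
    (Matrix.of fun i j : Fin g =>
        ((Polynomial.reflect (2 * g + 2) f) ^ ((p - 1) / 2)).coeff (((i : ℕ) + 1) * p - ((j : ℕ) + 1))) =
      Matrix.of fun i j : Fin g =>
        (f ^ ((p - 1) / 2)).coeff (((Fin.rev i : ℕ) + 1) * p - ((Fin.rev j : ℕ) + 1)) := by
  ext i j
  simp only [Matrix.of_apply]
  obtain ⟨m, hm⟩ : ∃ m, p = 2 * m + 1 := Nat.Prime.odd_of_ne_two Fact.out hp
  have hrp : ∀ m : ℕ, (f.reflect (2 * g + 2)) ^ m = (f ^ m).reflect ((2 * g + 2) * m) := by
    intro m
    induction m with
    | zero => simp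
    | succ m ih =>
      rw [pow_succ, pow_succ, ih, Nat.mul_succ, Polynomial.reflect_mul _ _ ?_ hf]
      exact (Polynomial.natDegree_pow_le).trans (by rw [mul_comm]; exact Nat.mul_le_mul_right m hf)
  have h2 : (p - 1) / 2 = m := by omega
  rw [h2, hrp, Polynomial.coeff_reflect]
  congr 1
  have hi := i.isLt
  have hj := j.isLt
  simp only [Fin.val_rev]
  have e1 : g - (i + 1) + 1 = g - i := by omega
  have e2 : g - (j + 1) + 1 = g - j := by omega
  rw [e1, e2]
  obtain ⟨i', hi'⟩ : ∃ i', g = (i : ℕ) + i' := ⟨g - i, by omega⟩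
  rw [show g - (i : ℕ) = i' by omega]
  have hs : (2 * g + 2) * m + g + 1 = ((i : ℕ) + 1) * p + i' * p := by
    rw [hm]; linear_combination ((2 * m + 1 : ℕ)) * hi'
  have hjp : (j : ℕ) + 1 ≤ ((i : ℕ) + 1) * p :=
    le_trans (by omega : (j : ℕ) + 1 ≤ p) (Nat.le_mul_of_pos_left p (by omega))
  have hgp : g - (j : ℕ) ≤ i' * p :=
    le_trans (by omega : g - (j : ℕ) ≤ p) (Nat.le_mul_of_pos_left p (by omega))
  rw [Polynomial.revAt_le (by omega)]
  omega

end Groth.Agent.S16500
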