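import Groth.Statements.S16504
import Groth.Agent.RatDeg.Main

set_option backward.isDefEq.respectTransparency false
set_option backward.isDefEq.respectTransparency.types false

set_option autoImplicit false
universe u
open CategoryTheory AlgebraicGeometry
open Curves

namespace Groth.Agent.S16504

/-- Over an algebraically closed field k, let X ⊆ P^N_k be a projective variety with hyperplane class L
and let d be a natural number. The set of closed points of X lying on some rational curve of
L-degree at most d (the image of a nonconstant k-morphism g from the projective line with deg g^*L ≤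
d) is the set of closed points of a closed subset of X. (The published statement says that the image
of the evaluation map on curves of bounded degree is closed; this row records its trace on closed
points, and the ample divisor is taken to be a hyperplane class.) -/
theorem result
    (k : Type u) [Field k] [IsAlgClosed k]
    (X : Scheme.{u}) [X.Over (Spec (CommRingCat.of k))] [IsIntegral X]
    (N : ℕ) (ι : X ⟶ CohB1.ProjSpace N k) [IsClosedImmersion ι]
    (hι : ι ≫ CohB1.ProjSpace.toSpec N k = X ↘ Spec (CommRingCat.of k)) (d : ℕ) :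
    ∃ Z : Set X, IsClosed Z ∧ ∀ x : X, IsClosed ({x} : Set X) →
      (x ∈ Z ↔ ∃ g : CohB1.ProjSpace 1 k ⟶ X,
        g ≫ (X ↘ Spec (CommRingCat.of k)) = CohB1.ProjSpace.toSpec 1 k ∧
        (¬ ∃ y : X, Set.range g.base ⊆ {y}) ∧ x ∈ Set.range g.base ∧
        Curv2.deg k (CohB1.ProjSpace 1 k)
          ((Scheme.Modules.pullback (g ≫ ι)).obj (Twist.twistProjSpace N k 1)) 1 ≤ d) := by
  haveI hp : IsProper (ι ≫ CohB1.ProjSpace.toSpec N k) := by
    haveI := ProjMor.isProper_toSpec N k
    infer_instance
  refine ⟨closure {z : X | IsClosed ({z} : Set X) ∧ Groth.Agent.RatDeg.HasCurve ι d z}, isClosed_closure, fun x hx => ?_⟩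
  have key : Groth.Agent.RatDeg.HasCurve ι d x ↔ ∃ g : CohB1.ProjSpace 1 k ⟶ X,
      g ≫ (X ↘ Spec (CommRingCat.of k)) = CohB1.ProjSpace.toSpec 1 k ∧
      (¬ ∃ y : X, Set.range g.base ⊆ {y}) ∧ x ∈ Set.range g.base ∧
      Curv2.deg k (CohB1.ProjSpace 1 k)
        ((Scheme.Modules.pullback (g ≫ ι)).obj (Twist.twistProjSpace N k 1)) 1 ≤ d := by
    unfold Groth.Agent.RatDeg.HasCurve
    simp only [← hι]
  exact ⟨fun h => key.1 (Groth.Agent.RatDeg.hasCurve_of_mem_closure ι inferInstance hx h),
    fun h => subset_closure ⟨hx, key.2 h⟩⟩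

end Groth.Agent.S16504
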