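import Groth.Statements.S16509
import Groth.Agent.BendBreak.Contracted
import Groth.Agent.PtBlow.Rational
import Groth.Agent.BiratCodimTwo.Basic

set_option autoImplicit false
set_option backward.isDefEq.respectTransparency false
set_option backward.isDefEq.respectTransparency.types false
set_option maxHeartbeats 1000000
universe u
open CategoryTheory AlgebraicGeometry
open Curves

namespace Groth.Agent.S16509

/-- Over an algebraically closed field k, let f : Y → X be a birational k-morphism from a projective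
variety to a smooth projective variety, and let Exc(f) be its exceptional locus, the set of points
of Y over no neighbourhood of whose image f restricts to an isomorphism. Then through a general
point of each component of Exc(f) there is a rational curve contracted by f: some subset of Exc(f),
open and dense in it, consists of points each of whose closed points lies on the image of a
nonconstant k-morphism from the projective line that f maps to a single point. (The base field is
taken algebraically closed here.) -/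
theorem result
    (k : Type u) [Field k] [IsAlgClosed k]
    (Y : Scheme.{u}) [Y.Over (Spec (CommRingCat.of k))] [IsIntegral Y]
    (hY : ∃ (n : ℕ) (ι : Y ⟶ CohB1.ProjSpace n k), IsClosedImmersion ι ∧
      ι ≫ CohB1.ProjSpace.toSpec n k = Y ↘ Spec (CommRingCat.of k))
    (X : Scheme.{u}) [X.Over (Spec (CommRingCat.of k))] [IsIntegral X] [Smooth (X ↘ Spec (CommRingCat.of k))]
    (hX : ∃ (n : ℕ) (ι : X ⟶ CohB1.ProjSpace n k), IsClosedImmersion ι ∧
      ι ≫ CohB1.ProjSpace.toSpec n k = X ↘ Spec (CommRingCat.of k))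
    (f : Y ⟶ X) (hf : f ≫ (X ↘ Spec (CommRingCat.of k)) = Y ↘ Spec (CommRingCat.of k))
    (hbir : ∃ V : X.Opens, (V : Set X).Nonempty ∧ IsIso (f ∣_ V))
    (Exc : Set Y) (hExc : Exc = {y : Y | ∀ V : X.Opens, f.base y ∈ V → ¬ IsIso (f ∣_ V)}) :
    ∃ O : Set Y, O ⊆ Exc ∧ IsOpen (Subtype.val ⁻¹' O : Set Exc) ∧ Dense (Subtype.val ⁻¹' O : Set Exc) ∧
      ∀ y ∈ O, IsClosed ({y} : Set Y) → ∃ g : CohB1.ProjSpace 1 k ⟶ Y,
        g ≫ (Y ↘ Spec (CommRingCat.of k)) = CohB1.ProjSpace.toSpec 1 k ∧
        (¬ ∃ z : Y, Set.range g.base ⊆ {z}) ∧ y ∈ Set.range g.base ∧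
        ∃ x : X, Set.range (g ≫ f).base ⊆ {x} := by
  haveI : IsProper (Y ↘ Spec (CommRingCat.of k)) := by
    obtain ⟨n, ι, hι, hιk⟩ := hY
    haveI := hι
    haveI : IsProper (CohB1.ProjSpace.toSpec n k) := _root_.ProjMor.isProper_toSpec n k
    rw [← hιk]; infer_instance
  haveI : IsProper (X ↘ Spec (CommRingCat.of k)) := by
    obtain ⟨n, ι, hι, hιk⟩ := hX
    haveI := hι
    haveI : IsProper (CohB1.ProjSpace.toSpec n k) := _root_.ProjMor.isProper_toSpec n k
    rw [← hιk]; infer_instance
  haveI : IsProper f := by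
    haveI : IsProper (f ≫ (X ↘ Spec (CommRingCat.of k))) := hf.symm ▸ inferInstance
    exact IsProper.of_comp f (X ↘ Spec (CommRingCat.of k))
  obtain ⟨V₀, hV₀, hV₀iso⟩ := hbir
  haveI := hV₀iso
  have hne : (f ⁻¹ᵁ V₀ : Set Y).Nonempty := Groth.Agent.PtBlow.nonempty_preimage hV₀ hV₀iso
  haveI : IsLocallyNoetherian X := LocallyOfFiniteType.isLocallyNoetherian (X ↘ Spec (CommRingCat.of k))
  have hreg := Groth.Agent.WeilExt.regular_of_smooth (Groth.Agent.WeilExt.regular_spec (R := k))
    (X ↘ Spec (CommRingCat.of k))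
  have hXn : Pi1.IsNormalScheme X := fun x => by
    haveI := hreg x
    exact Groth.Agent.PtBlow.isNormal_of_regular
  subst hExc
  refine ⟨_, subset_rfl, ?_, ?_, fun y hy hyc => ?_⟩
  · rw [Subtype.coe_preimage_self]; exact isOpen_univ
  · rw [Subtype.coe_preimage_self]; exact dense_univ
  have hyV : f y ∉ V₀ := fun h => hy V₀ h hV₀iso
  haveI : JacobsonSpace Y := LocallyOfFiniteType.jacobsonSpace (Y ↘ Spec (CommRingCat.of k))
  have hx : IsClosed ({f y} : Set X) := by
    have := f.isClosedMap _ hyc
    rwa [Set.image_singleton] at this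
  obtain ⟨y', hy'c, hy'f, hyy'⟩ : ∃ y', IsClosed ({y'} : Set Y) ∧ f y' = f y ∧ y ≠ y' := by
    by_contra H
    push Not at H
    have hC : IsClosed (f ⁻¹' {f y}) := hx.preimage f.continuous
    have hsub : f ⁻¹' {f y} ⊆ {y} := by
      rw [← JacobsonSpace.closure_inter_closedPoints_eq_closure hC.isLocallyClosed |>.trans hC.closure_eq]
      refine closure_minimal (fun w hw => ?_) hyc
      exact (H w hw.2 hw.1).symm
    obtain ⟨V, hyV', hV⟩ := exists_isFinite_morphismRestrict_of_finite_preimage_singleton f (f y)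
      ((Set.finite_singleton y).subset hsub)
    haveI := hV
    exact hy V hyV' (Groth.Agent.BiratCodimTwo.isIso_restrict_of_isAffineHom f
      (fun U => Groth.Agent.PtBlow.bijective_app_of_birational f hXn V₀ hV₀ U) V)
  obtain ⟨φ, hφ, hyφ, hnc, x, hx'⟩ := Groth.Agent.BendBreak.exists_contracted_curve (X ↘ Spec (CommRingCat.of k)) f V₀
    hne hyc hy'c hyy' hy'f.symm hyV
  exact ⟨φ, by rw [← hf]; exact hφ, fun ⟨z, hz⟩ => hnc z hz, hyφ, x, hx'⟩

end Groth.Agent.S16509
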