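import Groth.Statements.S16512
import Groth.Agent.FreeCurve.MorP1

set_option linter.style.haveILetI false
set_option backward.isDefEq.respectTransparency false
set_option backward.isDefEq.respectTransparency.types false
set_option maxHeartbeats 1000000

set_option autoImplicit false
universe u
open CategoryTheory AlgebraicGeometry
open Curves

namespace Groth.Agent.S16512

/-- Over an algebraically closed field k, a smooth projective variety with one free rational curve (a
nonconstant k-morphism f from the projective line such that the twist of f^*Ω_{X/k} by O(−1) has no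
nonzero global sections) has a free rational curve through a general point: every closed point of
some nonempty open subset lies on the image of a free rational curve. (The two published parts say
that such a variety is separably uniruled, and that a smooth proper separably uniruled variety has
free rational curves through a general point; this row is their composite.) -/
theorem result
    (k : Type u) [Field k] [IsAlgClosed k]
    (X : Scheme.{u}) [X.Over (Spec (CommRingCat.of k))] [IsIntegral X] [Smooth (X ↘ Spec (CommRingCat.of k))]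
    (hX : ∃ (N : ℕ) (ι : X ⟶ CohB1.ProjSpace N k), IsClosedImmersion ι ∧
      ι ≫ CohB1.ProjSpace.toSpec N k = X ↘ Spec (CommRingCat.of k))
    (f : CohB1.ProjSpace 1 k ⟶ X) (hf : f ≫ (X ↘ Spec (CommRingCat.of k)) = CohB1.ProjSpace.toSpec 1 k)
    (hnc : ¬ ∃ x : X, Set.range f.base ⊆ {x})
    (hfree : Subsingleton (Coh.HH (CohB1.ProjSpace 1 k)
        (CohB1.tensorMod ((Scheme.Modules.pullback f).obj (Omega.sheaf (X ↘ Spec (CommRingCat.of k)))) (Twist.twistProjSpace 1 k (-1))) 0)) :
    ∃ U : X.Opens, (U : Set X).Nonempty ∧ ∀ x ∈ (U : Set X), IsClosed ({x} : Set X) →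
      ∃ g : CohB1.ProjSpace 1 k ⟶ X, g ≫ (X ↘ Spec (CommRingCat.of k)) = CohB1.ProjSpace.toSpec 1 k ∧
        (¬ ∃ y : X, Set.range g.base ⊆ {y}) ∧ x ∈ Set.range g.base ∧
        Subsingleton (Coh.HH (CohB1.ProjSpace 1 k)
        (CohB1.tensorMod ((Scheme.Modules.pullback g).obj (Omega.sheaf (X ↘ Spec (CommRingCat.of k)))) (Twist.twistProjSpace 1 k (-1))) 0) := by
  obtain ⟨hprop, hqp⟩ := Groth.Agent.FreeCurve.quasiProj_of_proj _ hX
  obtain ⟨M, hlft, v, hM⟩ := Groth.Agent.FreeCurve.exists_mor _ hqp
  obtain ⟨m₀, hm₀, hcf⟩ := Groth.Agent.FreeCurve.exists_point_of_curve hM f hf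
  obtain ⟨t, t', ht, ht', hne⟩ := Groth.Agent.FreeCurve.exists_two_points (q := X ↘ Spec (CommRingCat.of k)) f hf hnc
  obtain ⟨A, hA⟩ := Groth.Agent.FreeCurve.exists_sep_open (v := v) t t' ht ht'
  set B := Groth.Agent.FreeCurve.goodOpen v ⊓ A with hB
  let pr₂ := Limits.pullback.snd (CohB1.ProjSpace.toSpec 1 k) M.hom
  refine ⟨⟨v.1 '' (pr₂ ⁻¹ᵁ B : Set _), Groth.Agent.FreeCurve.isOpen_image_ev hM B inf_le_left⟩, ?_, fun x hx hxc => ?_⟩
  · have hmem : m₀ (IsLocalRing.closedPoint k) ∈ B :=
      ⟨(Groth.Agent.FreeCurve.good_iff_rational m₀ hm₀).1 (by rw [hcf]; exact hfree),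
        (hA m₀ hm₀).2 (by rw [hcf]; exact hne)⟩
    let z : Spec (CommRingCat.of k) ⟶ Limits.pullback (CohB1.ProjSpace.toSpec 1 k) M.hom :=
      Limits.pullback.lift t m₀ (ht.trans hm₀.symm)
    have hz : pr₂ (z (IsLocalRing.closedPoint k)) = m₀ (IsLocalRing.closedPoint k) := by
      rw [← Scheme.Hom.comp_apply, Limits.pullback.lift_snd]
    exact ⟨_, z (IsLocalRing.closedPoint k), (show pr₂ (z (IsLocalRing.closedPoint k)) ∈ B from hz ▸ hmem), rfl⟩
  · obtain ⟨mp, hmp, hmem, hxr⟩ := Groth.Agent.FreeCurve.exists_rational_of_mem B hxc hx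
    refine ⟨Groth.Agent.FreeCurve.curveAt v mp hmp, Groth.Agent.FreeCurve.curveAt_comp mp hmp, ?_, hxr,
      (Groth.Agent.FreeCurve.good_iff_rational mp hmp).2 hmem.1⟩
    rintro ⟨y, hy⟩
    exact (hA mp hmp).1 hmem.2 ((hy ⟨_, rfl⟩).trans (hy ⟨_, rfl⟩).symm)

end Groth.Agent.S16512
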