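import Groth.Statements.S16513
import Groth.Agent.AbExt.Main
import Groth.Agent.AbExt.NoRat
import Groth.Agent.WeilExt.Cor

set_option autoImplicit false
set_option backward.isDefEq.respectTransparency false
set_option backward.isDefEq.respectTransparency.types false
universe u
open CategoryTheory AlgebraicGeometry
open Curves

namespace Groth.Agent.S16513

/-- Over an algebraically closed field k, a birational self-map of a smooth projective variety X
containing no rational curve (every k-morphism from the projective line to X is constant) is an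
automorphism: a k-isomorphism between two nonempty open subschemes of X extends to a k-automorphism
of X. (The base field is taken algebraically closed here.) -/
theorem result
    (k : Type u) [Field k] [IsAlgClosed k]
    (X : Scheme.{u}) [X.Over (Spec (CommRingCat.of k))] [IsIntegral X] [Smooth (X ↘ Spec (CommRingCat.of k))]
    (hX : ∃ (n : ℕ) (ι : X ⟶ CohB1.ProjSpace n k), IsClosedImmersion ι ∧
      ι ≫ CohB1.ProjSpace.toSpec n k = X ↘ Spec (CommRingCat.of k))
    (hnorat : ∀ g : CohB1.ProjSpace 1 k ⟶ X,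
      g ≫ (X ↘ Spec (CommRingCat.of k)) = CohB1.ProjSpace.toSpec 1 k → ∃ x : X, Set.range g.base ⊆ {x})
    (U V : X.Opens) (hU : (U : Set X).Nonempty) (φ : (U : Scheme.{u}) ≅ (V : Scheme.{u}))
    (hφ : φ.hom ≫ V.ι ≫ (X ↘ Spec (CommRingCat.of k)) = U.ι ≫ (X ↘ Spec (CommRingCat.of k))) :
    ∃ e : X ≅ X, U.ι ≫ e.hom = φ.hom ≫ V.ι ∧
      e.hom ≫ (X ↘ Spec (CommRingCat.of k)) = X ↘ Spec (CommRingCat.of k) := by
  haveI : IsProper (X ↘ Spec (CommRingCat.of k)) := by
    obtain ⟨n, ι, hι, hιk⟩ := hX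
    haveI := hι
    haveI : IsProper (CohB1.ProjSpace.toSpec n k) := _root_.ProjMor.isProper_toSpec n k
    rw [← hιk]; infer_instance
  haveI : IsLocallyNoetherian X := LocallyOfFiniteType.isLocallyNoetherian (X ↘ Spec (CommRingCat.of k))
  have hreg := Groth.Agent.WeilExt.regular_of_smooth Groth.Agent.WeilExt.regular_spec (X ↘ Spec (CommRingCat.of k))
  have hA := Groth.Agent.AbExt.noP1_of_noRationalCurve k (X ↘ Spec (CommRingCat.of k)) hnorat
  obtain ⟨x, hx⟩ := hU
  have hUd : Dense (U : Set X) := U.2.dense ⟨x, hx⟩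
  have hVd : Dense (V : Set X) := V.2.dense ⟨_, (φ.hom ⟨x, hx⟩).2⟩
  obtain ⟨f, ⟨hf, hfU⟩, -⟩ := Groth.Agent.AbExt.existsUnique_ext _ (X ↘ Spec (CommRingCat.of k)) hA hreg U hUd
    (φ.hom ≫ V.ι) (by rw [Category.assoc, hφ])
  obtain ⟨f', ⟨hf', hfV⟩, -⟩ := Groth.Agent.AbExt.existsUnique_ext _ (X ↘ Spec (CommRingCat.of k)) hA hreg V hVd
    (φ.inv ≫ U.ι) (by rw [Category.assoc, ← hφ, φ.inv_hom_id_assoc])
  have hid : ∀ (W : X.Opens), Dense (W : Set X) → ∀ g : X ⟶ X,
      g ≫ (X ↘ Spec (CommRingCat.of k)) = X ↘ Spec (CommRingCat.of k) → W.ι ≫ g = W.ι → g = 𝟙 X :=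
    fun W hW g hg hgW => by
      haveI : IsDominant W.ι := ⟨by rw [DenseRange, Scheme.Opens.range_ι]; exact hW⟩
      exact ext_of_isDominant_of_isSeparated (X ↘ Spec (CommRingCat.of k)) (by rw [hg, Category.id_comp]) W.ι
        (by rw [hgW, Category.comp_id])
  refine ⟨⟨f, f', hid U hUd _ (by rw [Category.assoc, hf', hf]) ?_, hid V hVd _ (by rw [Category.assoc, hf, hf']) ?_⟩, hfU, hf⟩
  · rw [reassoc_of% hfU, hfV, φ.hom_inv_id_assoc]
  · rw [reassoc_of% hfV, hfU, φ.inv_hom_id_assoc]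

end Groth.Agent.S16513
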