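import Groth.Statements.S16519
import Mathlib

set_option linter.style.haveILetI false

set_option autoImplicit false
open CubicSurf

namespace Groth.Agent.S16519

/-- On a smooth cubic surface there are exactly 72 divisor classes L with L² = 1 and L · K = −3. Stated
in the lattice ℤ^{1,6} with basis l, e_1, …, e_6 (l² = 1, e_i² = −1, K = −3l + Σ e_i): the integer
vectors (a, b) ∈ ℤ × ℤ^6, standing for a·l − Σ b_i e_i, with 3a − Σ b_i = 3 and a² − Σ b_i² = 1 form
a set of exactly 72 elements. -/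
theorem result :
    {p : ℤ × (Fin 6 → ℤ) | 3 * p.1 - (Finset.univ.sum fun i => p.2 i) = 3 ∧
        p.1 ^ 2 - (Finset.univ.sum fun i => p.2 i ^ 2) = 1}.ncard = 72 := by
  let g : Fin 5 × (Fin 6 → Fin 3) → ℤ × (Fin 6 → ℤ) := fun q => ((q.1 : ℤ) + 1, fun i => (q.2 i : ℤ))
  have hg : Function.Injective g := by
    rintro ⟨a, b⟩ ⟨a', b'⟩ h
    simp only [g, Prod.mk.injEq, add_left_inj] at h
    refine Prod.ext (Fin.ext (by simpa using h.1)) (funext fun i => Fin.ext ?_)
    simpa using congrFun h.2 i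
  have hset : {p : ℤ × (Fin 6 → ℤ) | 3 * p.1 - (Finset.univ.sum fun i => p.2 i) = 3 ∧
        p.1 ^ 2 - (Finset.univ.sum fun i => p.2 i ^ 2) = 1} =
      ↑((Finset.univ.filter fun q => 3 * (g q).1 - (Finset.univ.sum fun i => (g q).2 i) = 3 ∧
        (g q).1 ^ 2 - (Finset.univ.sum fun i => (g q).2 i ^ 2) = 1).image g) := by
    ext ⟨a, b⟩
    simp only [Finset.coe_image, Finset.coe_filter, Finset.mem_univ, true_and, Set.mem_setOf_eq,
      Set.mem_image]
    constructor
    · rintro ⟨h1, h2⟩
      simp only [Fin.sum_univ_six] at h1 h2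
      have ha : 1 ≤ a ∧ a ≤ 5 := by
        have h3 : (3 * a - 3) ^ 2 ≤ 6 * (a ^ 2 - 1) := by
          nlinarith [sq_nonneg (b 0 - b 1), sq_nonneg (b 0 - b 2), sq_nonneg (b 0 - b 3),
            sq_nonneg (b 0 - b 4), sq_nonneg (b 0 - b 5), sq_nonneg (b 1 - b 2),
            sq_nonneg (b 1 - b 3), sq_nonneg (b 1 - b 4), sq_nonneg (b 1 - b 5),
            sq_nonneg (b 2 - b 3), sq_nonneg (b 2 - b 4), sq_nonneg (b 2 - b 5),
            sq_nonneg (b 3 - b 4), sq_nonneg (b 3 - b 5), sq_nonneg (b 4 - b 5)]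
        constructor <;> nlinarith
      have key : ∀ t : ℤ, 0 ≤ t * (t - 1) := fun t => by nlinarith [Int.le_self_sq t]
      have hb : ∀ i, 0 ≤ b i ∧ b i ≤ 2 := by
        obtain ⟨ha1, ha5⟩ := ha
        intro i
        interval_cases a
        · have hsum : ∀ i, b i ^ 2 ≤ 0 := fun i => by
            fin_cases i <;> simp only [Fin.zero_eta, Fin.mk_one, Fin.reduceFinMk] <;>
              nlinarith [sq_nonneg (b 0), sq_nonneg (b 1), sq_nonneg (b 2), sq_nonneg (b 3), sq_nonneg (b 4), sq_nonneg (b 5)]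
          constructor <;> nlinarith [hsum i]
        · have hsum : ∀ i, b i * (b i - 1) ≤ 0 := fun i => by
            fin_cases i <;> simp only [Fin.zero_eta, Fin.mk_one, Fin.reduceFinMk] <;>
              nlinarith [key (b 0), key (b 1), key (b 2), key (b 3), key (b 4), key (b 5)]
          constructor <;> nlinarith [hsum i]
        · have hsum : ∀ i, (b i - 1) ^ 2 ≤ 2 := fun i => by
            fin_cases i <;> simp only [Fin.zero_eta, Fin.mk_one, Fin.reduceFinMk] <;>
              nlinarith [sq_nonneg (b 0 - 1), sq_nonneg (b 1 - 1), sq_nonneg (b 2 - 1), sq_nonneg (b 3 - 1), sq_nonneg (b 4 - 1), sq_nonneg (b 5 - 1)]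
          constructor <;> nlinarith [hsum i]
        · have hsum : ∀ i, (b i - 1) * (b i - 1 - 1) ≤ 0 := fun i => by
            fin_cases i <;> simp only [Fin.zero_eta, Fin.mk_one, Fin.reduceFinMk] <;>
              nlinarith [key (b 0 - 1), key (b 1 - 1), key (b 2 - 1), key (b 3 - 1), key (b 4 - 1), key (b 5 - 1)]
          constructor <;> nlinarith [hsum i]
        · have hsum : ∀ i, (b i - 2) ^ 2 ≤ 0 := fun i => by
            fin_cases i <;> simp only [Fin.zero_eta, Fin.mk_one, Fin.reduceFinMk] <;>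
              nlinarith [sq_nonneg (b 0 - 2), sq_nonneg (b 1 - 2), sq_nonneg (b 2 - 2), sq_nonneg (b 3 - 2), sq_nonneg (b 4 - 2), sq_nonneg (b 5 - 2)]
          constructor <;> nlinarith [hsum i]
      let q : Fin 5 × (Fin 6 → Fin 3) := (⟨(a - 1).toNat, by omega⟩, fun i => ⟨(b i).toNat, by
        obtain ⟨_, _⟩ := hb i; omega⟩)
      have hq : g q = (a, b) := by
        refine Prod.ext ?_ (funext fun i => ?_)
        · simp only [g, q]; omega
        · obtain ⟨_, _⟩ := hb i
          simp only [g, q]; omega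
      refine ⟨q, ?_, hq⟩
      rw [hq]
      simp only [Fin.sum_univ_six]
      exact ⟨h1, h2⟩
    · rintro ⟨q, hq, he⟩
      rw [he] at hq
      exact hq
  rw [hset, Set.ncard_coe_finset, Finset.card_image_of_injective _ hg]
  decide +kernel

end Groth.Agent.S16519
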