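import Groth.Statements.S1652
import Groth.Agent.CurveRR.Deg
import Groth.Agent.CurveRR.Tensor

set_option autoImplicit false
universe u
open CategoryTheory CategoryTheory.Limits AlgebraicGeometry
open Variety

set_option backward.isDefEq.respectTransparency false
set_option backward.isDefEq.respectTransparency.types false

namespace Groth.Agent.S1652

/-- On a proper curve over a field, if L and M are invertible modules with L ⊗ M ≅ O_X and both L and M
have a nonzero global section, then L is isomorphic to the structure sheaf. -/
theorem result (k : Type u) [Field k] (X : Scheme.{u}) [X.Over (Spec (CommRingCat.of k))]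
    [IsIntegral X] [IsProper (X ↘ (Spec (CommRingCat.of k)))] (hdim : topologicalKrullDim X = 1)
    (L M : X.Modules) (hL : PicF.IsInvertible L) (hM : PicF.IsInvertible M) (hLM : ClSub.IsInverseOf L M)
    (s : Coh.structureModule X ⟶ L) (hs : s ≠ 0) (t : Coh.structureModule X ⟶ M) (ht : t ≠ 0) :
    Nonempty (L ≅ Coh.structureModule X) := by
  obtain ⟨e⟩ := hLM
  have h : Curv2.deg k X L 1 + Curv2.deg k X M 1 = 0 := by
    rw [← CurveRR.deg_tensor_inv (k := k) hdim.le hL hM, Curv2.deg, CurveRR.euler_eq_of_iso e, ← Curv2.deg]
    exact CurveRR.deg_structure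
  rcases le_or_gt (Curv2.deg k X L 1) 0 with hle | hlt
  · exact CurveRR.nonempty_iso_of_section hdim.le hL s hs hle
  · obtain ⟨m⟩ := CurveRR.nonempty_iso_of_section (k := k) hdim.le hM t ht (by omega)
    exact ⟨(SecTwist.unitorR L).symm ≪≫ PicGrp.tensorModIso (Iso.refl L) m.symm ≪≫ e⟩

end Groth.Agent.S1652
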