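import Groth.Statements.S16520
import Groth.Agent.P1Split.DoublePush

set_option autoImplicit false
universe u
open CategoryTheory CategoryTheory.Limits AlgebraicGeometry
open Curves

set_option backward.isDefEq.respectTransparency false
set_option backward.isDefEq.respectTransparency.types false

namespace Groth.Agent.S16520

/-- Let E be an elliptic curve over an algebraically closed field k of characteristic zero (in place of
the complex numbers): smooth, proper and geometrically connected over k, of dimension one and genus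
dim_k H^1(E, O_E) = 1; let π : E → P^1_k be a k-morphism which is finite and flat of constant rank
2, and L an invertible O_E-module of degree d = χ(L) − χ(O_E). If d = 2e + 1 then π_*L ≅ O(e) ⊕ O(e
− 1); if d = 2e and L ≅ π^*O(e) then π_*L ≅ O(e) ⊕ O(e − 2); if d = 2e and L is not isomorphic to
π^*O(e) then π_*L ≅ O(e − 1) ⊕ O(e − 1). (Existence of isomorphisms of O-modules on P^1_k; the
source states the isomorphisms abstractly.) -/
theorem result (k : Type u) [Field k]
    [IsAlgClosed k] [CharZero k] (E : Scheme.{u}) [E.Over (Spec (CommRingCat.of k))] [IsProper (E ↘ Spec (CommRingCat.of k))]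
    [Smooth (E ↘ Spec (CommRingCat.of k))] [GeometricallyConnected (E ↘ Spec (CommRingCat.of k))]
    (hE : topologicalKrullDim E = 1) (hg : Curv2.genus k E = 1)
    (π : E ⟶ CohB1.ProjSpace 1 k) (hπ : π ≫ CohB1.ProjSpace.toSpec 1 k = E ↘ Spec (CommRingCat.of k))
    [IsFinite π] [Flat π] (hrk : ∀ y : ↥(CohB1.ProjSpace 1 k), Scheme.Hom.finrank π y = 2)
    (L : E.Modules) (hL : PicF.IsInvertible L) (d : ℤ) (hd : Curv2.deg k E L 1 = d) :
    (∀ e : ℤ, d = 2 * e + 1 → Nonempty ((Scheme.Modules.pushforward π).obj L ≅
        ∐ fun j : Fin 2 => Twist.twistProjSpace 1 k (![e, e - 1] j))) ∧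
    (∀ e : ℤ, d = 2 * e → Nonempty (L ≅ (Scheme.Modules.pullback π).obj (Twist.twistProjSpace 1 k e)) →
        Nonempty ((Scheme.Modules.pushforward π).obj L ≅
          ∐ fun j : Fin 2 => Twist.twistProjSpace 1 k (![e, e - 2] j))) ∧
    (∀ e : ℤ, d = 2 * e → IsEmpty (L ≅ (Scheme.Modules.pullback π).obj (Twist.twistProjSpace 1 k e)) →
        Nonempty ((Scheme.Modules.pushforward π).obj L ≅
          ∐ fun j : Fin 2 => Twist.twistProjSpace 1 k (![e - 1, e - 1] j))) := by
  haveI : IrreducibleSpace ↥(Spec (CommRingCat.of k)) := inferInstanceAs (IrreducibleSpace (PrimeSpectrum k))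
  haveI : Subsingleton ↥(Spec (CommRingCat.of k)) := inferInstanceAs (Subsingleton (PrimeSpectrum k))
  haveI : ConnectedSpace E := GeometricallyConnected.connectedSpace_of_subsingleton (E ↘ Spec (CommRingCat.of k))
  haveI : IsIntegral E := CurveRR.Easy.isIntegral_of_smooth (k := k)
  obtain ⟨a, ⟨ψ⟩, hsum, h10, h2, hiff, htop⟩ :=
    P1Split.exists_push_split π hE (CurveRR.h0_structure k E) hg hπ hrk hL
  rw [hd] at hsum
  have key : ∀ x y : ℤ, a 0 = x → a 1 = y → Nonempty ((Scheme.Modules.pushforward π).obj L ≅
      ∐ fun j : Fin 2 => Twist.twistProjSpace 1 k (![x, y] j)) := fun x y hx hy => by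
    have : a = ![x, y] := funext fun j => by fin_cases j <;> simp [hx, hy]
    subst this
    exact ⟨ψ⟩
  refine ⟨fun e he => ?_, fun e he hn => ?_, fun e he hn => ?_⟩
  · have : a 0 ≠ a 1 + 2 := by omega
    exact key _ _ (by omega) (by omega)
  · have := htop e hn
    exact key _ _ (by omega) (by omega)
  · have : a 0 ≠ a 1 + 2 := fun h => by
      obtain ⟨e', he'⟩ := hiff.1 h
      have := htop e' he'
      obtain rfl : e' = e := by omega
      exact hn.false he'.some
    exact key _ _ (by omega) (by omega)

end Groth.Agent.S16520
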