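import Groth.Statements.S1653
import Groth.Agent.FlatDim.DimAdd
import Groth.Agent.FlatDim.BaseChange

set_option autoImplicit false
set_option linter.style.haveILetI false
set_option backward.isDefEq.respectTransparency false
open Groth.Agent
universe u
open CategoryTheory CategoryTheory.Limits AlgebraicGeometry
open Variety

namespace Groth.Agent.S1653

/-- Let f : X → Y be a k-morphism of schemes locally of finite type over a field k, with X irreducible
of dimension a, and let the closure of the image of f have dimension b. Then the local fibre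
dimension of f at every point of X is at least a - b, and the set of points where it equals a - b is
open and dense. -/
theorem result (k : Type u) [Field k] (X Y : Scheme.{u}) [X.Over (Spec (CommRingCat.of k))] [Y.Over (Spec (CommRingCat.of k))]
    [LocallyOfFiniteType (X ↘ (Spec (CommRingCat.of k)))] [LocallyOfFiniteType (Y ↘ (Spec (CommRingCat.of k)))] [IrreducibleSpace X]
    (f : X ⟶ Y) (hf : f ≫ (Y ↘ (Spec (CommRingCat.of k))) = X ↘ (Spec (CommRingCat.of k))) (a b : ℕ) (ha : topologicalKrullDim X = a)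
    (hb : topologicalKrullDim (closure (Set.range f.base)) = b) :
    (∀ x : X, ((a - b : ℕ) : WithBot ℕ∞) ≤ FlatMor.fibreDimAt f x) ∧
      IsOpen {x : X | FlatMor.fibreDimAt f x = (a - b : ℕ)} ∧ Dense {x : X | FlatMor.fibreDimAt f x = (a - b : ℕ)} := by
  let qX := X ↘ Spec (CommRingCat.of k)
  let qY := Y ↘ Spec (CommRingCat.of k)
  haveI : LocallyOfFiniteType (f ≫ qY) := by rw [hf]; infer_instance
  haveI : LocallyOfFiniteType f := locallyOfFiniteType_of_comp f qY
  let ξ := genericPoint ↥X
  have hξm : ∀ y : X, y ⤳ ξ → y = ξ := fun y hy => (hy.antisymm (genericPoint_specializes y)).eq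
  obtain ⟨d, hd, hpd⟩ := FlatDim.exists_pdim_irreducible qX
  have hda : WeilCoh.pdim X ξ = a := by
    rw [hpd ξ hξm]
    rw [ha, Nat.cast_inj] at hd
    exact hd.symm
  have hcl : closure (Set.range f.base) = closure {f ξ} := by
    refine le_antisymm (closure_minimal ?_ isClosed_closure) (closure_mono (Set.singleton_subset_iff.2 ⟨ξ, rfl⟩))
    rintro _ ⟨x, rfl⟩
    exact ((genericPoint_specializes x).map f.continuous).mem_closure
  rw [hcl, (FlatDim.pdim_spec qY (f ξ)).2.2, Nat.cast_inj] at hb
  obtain ⟨δ, hδ1, hδ2, hδ⟩ := FlatDim.exists_pdim_eq f qY ξ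
  have he : a - b = δ := by omega
  rw [he]
  have hlow : ∀ x : X, (δ : WithBot ℕ∞) ≤ FlatMor.fibreDimAt f x := fun x => by
    obtain ⟨z, hzx, hfz, hz⟩ := FlatDim.exists_isFibMax_specializes f x
    obtain ⟨δ', h1, h2, -⟩ := Unibranch.exists_dim_closure_eq f z
    exact le_trans (Nat.cast_le.2 (FlatDim.le_of_isFibMax f hz (genericPoint_specializes z) hδ2 h1))
      (FlatDim.le_fibreDimAt f hzx hfz h2)
  have hset : {x : X | FlatMor.fibreDimAt f x = (δ : WithBot ℕ∞)} = {x | FlatMor.fibreDimAt f x ≤ (δ : WithBot ℕ∞)} :=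
    Set.ext fun x => ⟨fun h => le_of_eq h, fun h => le_antisymm h (hlow x)⟩
  refine ⟨hlow, hset ▸ FlatDim.isOpen_fibreDimAt_le f δ, fun x => ?_⟩
  have hξ : ξ ∈ {x : X | FlatMor.fibreDimAt f x = (δ : WithBot ℕ∞)} :=
    FlatDim.fibreDimAt_eq f (fun y hy _ => hξm y hy) hδ1 hδ2
  exact closure_mono (Set.singleton_subset_iff.2 hξ) (genericPoint_specializes x).mem_closure

end Groth.Agent.S1653
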