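import Groth.Statements.S16547
import Groth.Agent.InvPrincipal.Basic
import Groth.Agent.GaloisStage.EakinNagata
import Groth.Agent.S0560

set_option autoImplicit false
universe u
open CAlg

namespace Groth.Agent.S16547

/-- Let A be a Noetherian factorial local domain and G a finite group acting faithfully on A by ring
automorphisms; let B be a ring with an injective ring map to A whose image is exactly the ring of
invariants of G, and assume A is a finite B-module. Let q be a prime ideal of B of height one and p
a prime ideal of A lying over q such that the extension of residue fields of the local rings B_q and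
A_p is trivial (every element of A is congruent modulo p to some c⁻¹b with b, c in B, c outside q).
Then q is a principal ideal; and if moreover B/q is a regular local ring, then B is a regular local
ring. -/
theorem result
    {A B G : Type u} [CommRing A] [IsDomain A] [IsNoetherianRing A] [IsLocalRing A]
    [UniqueFactorizationMonoid A]
    [CommRing B] [Algebra B A] [FaithfulSMul B A] [Module.Finite B A]
    [Group G] [Finite G] [MulSemiringAction G A] [FaithfulSMul G A] [SMulCommClass G B A]
    [Algebra.IsInvariant B A G]
    (q : Ideal B) [q.IsPrime] (hq : q.height = 1) (p : Ideal A) [p.IsPrime] [p.LiesOver q]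
    (hres : ∀ a : A, ∃ b c : B, c ∉ q ∧ algebraMap B A c * a - algebraMap B A b ∈ p) :
    Submodule.IsPrincipal q ∧ (IsRegularLocalRing (B ⧸ q) → IsRegularLocalRing B) := by
  have hinj : Function.Injective (algebraMap B A) := (faithfulSMul_iff_algebraMap_injective B A).1 inferInstance
  haveI : IsDomain B := hinj.isDomain (algebraMap B A)
  haveI : IsNoetherianRing B := Groth.Agent.GaloisStage.isNoetherianRing_of_finite_extension B A
  haveI : IsLocalHom (algebraMap B A) := (algebraMap_isIntegral_iff.2 (inferInstanceAs (Algebra.IsIntegral B A))).isLocalHom hinj
  haveI : IsLocalRing B := RingHom.domain_isLocalRing (algebraMap B A)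
  obtain ⟨π, hπ0, hπ⟩ := Groth.Agent.InvPrincipal.exists_generator (G := G) q hq p hres
  refine ⟨⟨π, hπ⟩, fun hreg => ?_⟩
  haveI : IsRegularLocalRing (B ⧸ Ideal.span {π}) := IsRegularLocalRing.of_ringEquiv (R := B ⧸ q) (Ideal.quotEquivOfEq hπ)
  refine Groth.Agent.S0560.result B π (IsLocalRing.le_maximalIdeal ‹q.IsPrime›.ne_top ?_) (mem_nonZeroDivisors_of_ne_zero hπ0)
  rw [hπ]; exact Ideal.mem_span_singleton_self π

end Groth.Agent.S16547
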