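import Groth.Statements.S16551
import Groth.Agent.GoingDownNormal.Basic
import Groth.Agent.GrpField.Dimension

set_option autoImplicit false
universe u
open CategoryTheory CategoryTheory.Limits AlgebraicGeometry
open Models

namespace Groth.Agent.S16551

/-- Let R be a discrete valuation ring, W and Z integral normal schemes which are flat, of finite type
and of dimension 2 over Spec R, and ψ : W -> Z a finite surjective R-morphism. Let z be a closed
point of Z lying in the special fibre, w a point of W with ψ(w) = z, and Δ an irreducible component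
of the special fibre of Z with z ∈ Δ. Then some irreducible component Γ of the special fibre of W
contains w and satisfies ψ(Γ) = Δ. (The published statement asks W and Z only to be normal; they are
taken integral as well here.) -/
theorem result
    (R : Type u) [CommRing R] [IsDomain R] [IsDiscreteValuationRing R]
    (W Z : Over (Spec (CommRingCat.of R))) [IsIntegral W.left] [IsIntegral Z.left]
    (hWn : Pi1.IsNormalScheme W.left) (hZn : Pi1.IsNormalScheme Z.left)
    [Flat W.hom] [LocallyOfFiniteType W.hom] [QuasiCompact W.hom]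
    [Flat Z.hom] [LocallyOfFiniteType Z.hom] [QuasiCompact Z.hom]
    (hdW : topologicalKrullDim W.left = 2) (hdZ : topologicalKrullDim Z.left = 2)
    (ψ : W ⟶ Z) [IsFinite ψ.left] [Surjective ψ.left]
    (z : Z.left) (hzc : IsClosed ({z} : Set Z.left)) (hz : z ∈ Models.specialFibreSet R Z)
    (w : W.left) (hw : ψ.left.base w = z)
    (Δ : Set Z.left) (hΔ : Δ ∈ Models.fibreComponents R Z) (hzΔ : z ∈ Δ) :
    ∃ Γ ∈ Models.fibreComponents R W, w ∈ Γ ∧ ψ.left.base '' Γ = Δ := by
  have hS := Models.isClosed_specialFibreSet R Z
  have hΔc : IsClosed Δ := by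
    refine closure_subset_iff_isClosed.1 ?_
    exact hΔ.2 ⟨hΔ.1.1.closure, closure_minimal hΔ.1.2 hS⟩ subset_closure
  have hΔi : IsIrreducible Δ := hΔ.1.1
  have hgen : IsGenericPoint hΔi.genericPoint Δ := hΔi.isGenericPoint_genericPoint hΔc
  let δ := hΔi.genericPoint
  have hδz : δ ⤳ ψ.left.base w := hw ▸ hgen.specializes hzΔ
  obtain ⟨γ, hγw, hγ⟩ := Groth.Agent.GoingDownNormal.generalizingMap_of_isFinite ψ.left (fun y => (hZn y).2) hδz
  have hover : ∀ x : W.left, x ∈ Models.specialFibreSet R W ↔ ψ.left.base x ∈ Models.specialFibreSet R Z :=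
    fun x => by
      simp only [Models.specialFibreSet, Set.mem_preimage, Set.mem_singleton_iff]
      rw [← Scheme.Hom.comp_apply, Over.w ψ]
  have hγS : γ ∈ Models.specialFibreSet R W := (hover γ).2 (by rw [hγ]; exact hΔ.1.2 hgen.mem)
  refine ⟨closure {γ}, ⟨⟨isIrreducible_singleton.closure,
    closure_minimal (Set.singleton_subset_iff.2 hγS) (Models.isClosed_specialFibreSet R W)⟩, ?_⟩,
    specializes_iff_mem_closure.1 hγw, ?_⟩
  · rintro T ⟨hTi, hTs⟩ hle
    have hgT := hTi.isGenericPoint_genericPoint_closure
    let γ' := hTi.genericPoint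
    have hγ'γ : γ' ⤳ γ := hgT.specializes (subset_closure (hle (subset_closure rfl)))
    have hγ'S : γ' ∈ Models.specialFibreSet R W :=
      closure_minimal hTs (Models.isClosed_specialFibreSet R W) hgT.mem
    have hsub : Δ ⊆ closure {ψ.left.base γ'} := by
      rw [← hgen.def]
      refine closure_minimal (Set.singleton_subset_iff.2 (specializes_iff_mem_closure.1 ?_)) isClosed_closure
      rw [show hΔi.genericPoint = δ from rfl, ← hγ]
      exact hγ'γ.map ψ.left.continuous
    have hsup : closure {ψ.left.base γ'} ⊆ Δ := hΔ.2 ⟨isIrreducible_singleton.closure,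
      closure_minimal (Set.singleton_subset_iff.2 ((hover γ').1 hγ'S)) hS⟩ hsub
    have heq : ψ.left.base γ' = δ := IsGenericPoint.eq (subset_antisymm hsup hsub) hgen
    have : γ' = γ := Groth.Agent.GrpField.eq_of_specializes_of_isIntegralHom ψ.left hγ'γ (heq.trans hγ.symm)
    intro x hx
    rw [← this, hgT.def]
    exact subset_closure hx
  · rw [← ψ.left.isClosedMap.closure_image_eq_of_continuous ψ.left.continuous, Set.image_singleton, hγ]
    exact hgen.def

end Groth.Agent.S16551
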