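import Groth.Statements.S16557
import Groth.Agent.PlaneBlow.Basic
-- import your own Groth.Agent.* helpers here

set_option autoImplicit false
universe u
open CategoryTheory CategoryTheory.Limits AlgebraicGeometry TopologicalSpace
open Surf

namespace Groth.Agent.S16557

set_option backward.isDefEq.respectTransparency false
set_option backward.isDefEq.respectTransparency.types false
set_option linter.style.haveILetI false
open Groth.Agent

/-- Let X be a smooth proper integral surface over an algebraically closed field k, W = Λ²Ω_{X/k} a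
canonical module, and suppose H⁰(X, W) = 0 (the source states this for smooth rational surfaces and
uses exactly the vanishing of H⁰(X, K_X)). If L is an invertible O_X-module with H⁰(X, L) ≠ 0, then
H²(X, L) = 0. -/
theorem result (k : Type u) [Field k] [IsAlgClosed k]
    (X : Scheme.{u}) [X.Over (Spec (CommRingCat.of k))] [IsIntegral X] [IsProper (X ↘ (Spec (CommRingCat.of k)))] [Smooth (X ↘ (Spec (CommRingCat.of k)))]
    (hdim : topologicalKrullDim X = 2)
    (W : X.Modules) (hW : ExtPow.IsExtPow 2 (Omega.sheaf (X ↘ (Spec (CommRingCat.of k)))) W)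
    (hpg : Subsingleton (Coh.HH X W 0))
    (L : X.Modules) (hL : PicF.IsInvertible L) (h0 : Nontrivial (Coh.HH X L 0)) :
    Subsingleton (Coh.HH X L 2) := by
  have hWi := SurfAdj.isInvertible_W k hdim hW
  obtain ⟨L', hL', ⟨e⟩⟩ := W7Hull.exists_tensor_inverse hL
  have hN := TMul.isInvertible_tensorMod hWi hL'
  let e' : CohB1.tensorMod L (CohB1.tensorMod W L') ≅ W :=
    TMul.commIso _ _ ≪≫ TMul.assocIso W L' L ≪≫
      PicGrp.tensorModIso (Iso.refl W) (TMul.commIso _ _ ≪≫ e) ≪≫ TMul.commIso _ _ ≪≫ TMul.leftUnitIso W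
  rw [PlaneBlow.subsingleton_iff_h k hL, SurfAdj.h_eq_dual k hdim hW hL (L' := L') ⟨TMul.commIso _ _ ≪≫ e⟩ 2 le_rfl]
  have hl := Nakai.h0_le_tensor k hL hN ((PlaneBlow.nontrivial_iff_h k hL 0).1 h0)
  have h1 := (PlaneBlow.subsingleton_iff_h k (TMul.isInvertible_tensorMod hL hN) 0).1
    (BlowPn.subsingleton_hh_iso e'.symm 0 hpg)
  show CurveRR.h k (CohB1.tensorMod W L') (2 - 2) = 0
  simp only [Nat.sub_self]
  omega

end Groth.Agent.S16557
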