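import Groth.Statements.S16558
import Groth.Agent.Nakai.HodgeNef
import Groth.Agent.ProjMor.ProjSpaceBase

set_option autoImplicit false
universe u
open CategoryTheory CategoryTheory.Limits AlgebraicGeometry TopologicalSpace
open Surf

namespace Groth.Agent.S16558

/-- Let k be an algebraically closed field, p_1, …, p_r distinct closed points of the projective plane
P²_k and σ : X → P²_k the blow-up of P²_k in the ideal of the reduced finite set {p_1, …, p_r}
(universal property), X being regarded over k through σ; X is then an integral smooth proper surface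
(carried as hypotheses). Write H = σ^*O(1), (L·M) = χ(O_X) − χ(L) − χ(M) + χ(L ⊗ M) for the
intersection number of invertible modules L, M, and for a closed subscheme C ⊆ X with ideal I_C
write (L·C) = χ(O_C ⊗ L) − χ(O_C) and C² = (I_C·I_C). If L is an invertible O_X-module with (L·H) <
0, then H⁰(X, L) = 0. (The source takes the points in general position; that assumption plays no
role here.) -/
theorem result (k : Type u) [Field k] [IsAlgClosed k]
    (r : ℕ) (P : Fin r → ↥(CohB1.ProjSpace 2 k)) (hP : Function.Injective P)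
    (hPc : ∀ i, IsClosed ({P i} : Set ↥(CohB1.ProjSpace 2 k))) (hZ : IsClosed (Set.range P))
    (X : Scheme.{u}) [X.Over (Spec (CommRingCat.of k))] (σ : X ⟶ CohB1.ProjSpace 2 k)
    (hσk : σ ≫ CohB1.ProjSpace.toSpec 2 k = X ↘ (Spec (CommRingCat.of k)))
    (hσ : BlowUp.IsBlowUp σ (Scheme.IdealSheafData.vanishingIdeal ⟨Set.range P, hZ⟩))
    [IsIntegral X] [IsProper (X ↘ (Spec (CommRingCat.of k)))] [Smooth (X ↘ (Spec (CommRingCat.of k)))] (hdim : topologicalKrullDim X = 2)
    (L : X.Modules) (hL : PicF.IsInvertible L) (hLH : FGA.intNum k X 2 ![L, ((Scheme.Modules.pullback σ).obj (Twist.twistProjSpace 2 k 1))] (Coh.structureModule X) < 0) :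
    Subsingleton (Coh.HH X L 0) := by
  haveI : IsProper (CohB1.ProjSpace.toSpec 2 k) := ProjMor.isProper_toSpec 2 k
  letI : (CohB1.ProjSpace 2 k).Over (Spec (CommRingCat.of k)) := ⟨CohB1.ProjSpace.toSpec 2 k⟩
  haveI : IsProper (CohB1.ProjSpace 2 k ↘ Spec (CommRingCat.of k)) := ProjMor.isProper_toSpec 2 k
  haveI : IsProper (σ ≫ CohB1.ProjSpace.toSpec 2 k) := hσk ▸ inferInstance
  haveI : IsProper σ := IsProper.of_comp σ (CohB1.ProjSpace.toSpec 2 k)
  have hT := Groth.Agent.Intersect.isAmple_twistProj_one 2 k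
  have hn := Groth.Agent.Nakai.nef_pullback k σ hσk hT.1 (Groth.Agent.Nakai.nef_of_isAmple k hT)
  have hd : topologicalKrullDim X ≤ ((2 : ℕ) : WithBot ℕ∞) := hdim.le
  have h1 : (FGA.intNum k X 2 ![L, (Scheme.Modules.pullback σ).obj (Twist.twistProjSpace 2 k 1)] (Coh.structureModule X) : ℚ) < 0 := by
    exact_mod_cast hLH
  rw [Groth.Agent.Nakai.intNum_eq_inter k hd] at h1
  have h0 := Groth.Agent.Nakai.h0_eq_zero_of_degree_neg k hdim (PicLoc.isInvertible_pullback σ hT.1) hn hL h1
  haveI : Module.Finite k (Coh.HH X L 0) :=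
    Groth.Agent.CohFinite.finite_proper k X _ (Groth.Agent.Nakai.isCoh_inv k hL) 0
  exact Module.finrank_zero_iff.1 h0

end Groth.Agent.S16558
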