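import Groth.Statements.S1656
import Groth.Agent.S3637
import Groth.Agent.DualGeneric.SerreDuality
import Groth.Agent.CurveRR.Euler
import Groth.Agent.TopDegRep.Basic
-- import your own Groth.Agent.* helpers here

set_option autoImplicit false
set_option backward.isDefEq.respectTransparency false
set_option backward.isDefEq.respectTransparency.types false
set_option maxHeartbeats 1000000
universe u
open CategoryTheory CategoryTheory.Limits AlgebraicGeometry
attribute [local instance] HasDerivedCategory.standard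
open Curves

namespace Groth.Agent.S1656

/-- Let X be proper over k, Cohen–Macaulay and equidimensional of dimension one, and let ω_X be its
dualizing module, i.e. the cohomology sheaf in degree -1 of f^! O for f : X → Spec k (assuming the
derived direct image Rf_* on D_QCoh and its right adjoint exist, which is how the shared prelude
presents f^!). Then χ(X, O_X) = -χ(X, ω_X). -/
theorem result (k : Type u) [Field k] (X : Scheme.{u}) [X.Over (Spec (CommRingCat.of k))] [IsProper (X ↘ (Spec (CommRingCat.of k)))]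
    (hCM : ∀ x : X, LocCoh.IsCohenMacaulayLocalRing (X.presheaf.stalk x))
    (hequi : ∀ Z ∈ irreducibleComponents (X : Type u), topologicalKrullDim Z = 1)
    [DCoh.HasRpush (X ↘ (Spec (CommRingCat.of k)))] (h : DCoh.RpushPreservesQCoh (X ↘ (Spec (CommRingCat.of k)))) [DCoh.HasShriek (X ↘ (Spec (CommRingCat.of k))) h]
    (OY : DCoh.DQCoh (Spec (CommRingCat.of k))) (hOY : Nonempty (OY.obj ≅ DCoh.inD (Spec (CommRingCat.of k)) (Coh.structureModule (Spec (CommRingCat.of k))))) :
    Curv2.euler k X (Coh.structureModule X) = - Curv2.euler k X (DCoh.dualizingMod (X ↘ (Spec (CommRingCat.of k))) h OY 1) := by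
  obtain ⟨e⟩ := hOY
  obtain ⟨hz, hcoh, -⟩ := Groth.Agent.S3637.result k X (X ↘ Spec (CommRingCat.of k)) hCM 1 hequi h _
    (DCoh.shriekAdj (X ↘ Spec (CommRingCat.of k)) h) OY ⟨e⟩
  have hd := Groth.Agent.TopDegRep.topologicalKrullDim_le_of_components X 1 hequi
  have hvan : ∀ F : X.Modules, Coh.IsQCoh F → ∀ i, 2 ≤ i → Subsingleton (Coh.HH X F i) := fun F hF i hi =>
    Groth.Agent.DCohShriek.subsingleton_hh_of_dim_le k 1 hd F hF i (by omega)
  obtain ⟨d0⟩ := Groth.Agent.DualGeneric.nonempty_hh_dual
    (DCoh.shriekAdj (X ↘ Spec (CommRingCat.of k)) h) OY e 1 hz 1 0 rfl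
  obtain ⟨d1⟩ := Groth.Agent.DualGeneric.nonempty_hh_dual
    (DCoh.shriekAdj (X ↘ Spec (CommRingCat.of k)) h) OY e 1 hz 0 1 rfl
  rw [Groth.Agent.CurveRR.euler_eq_sum _ 2 (hvan _ (Groth.Agent.QC.isQCoh_unit X)),
    Groth.Agent.CurveRR.euler_eq_sum _ 2 (hvan _ hcoh.1)]
  have e0 := d0.finrank_eq.trans Subspace.dual_finrank_eq
  have e1 := d1.finrank_eq.trans Subspace.dual_finrank_eq
  simp only [Finset.sum_range_succ, Finset.sum_range_zero, pow_zero, pow_one, Groth.Agent.CurveRR.h]
  rw [show Module.finrank k (Coh.HH X (DCoh.dualizingMod (X ↘ Spec (CommRingCat.of k)) h OY 1) 0) = _ from e0,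
    show Module.finrank k (Coh.HH X (DCoh.dualizingMod (X ↘ Spec (CommRingCat.of k)) h OY 1) 1) = _ from e1]
  ring

end Groth.Agent.S1656
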