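import Groth.Statements.S16561
import Groth.Agent.PlaneBlow.CurveSub
-- import your own Groth.Agent.* helpers here

set_option autoImplicit false
universe u
open CategoryTheory CategoryTheory.Limits AlgebraicGeometry TopologicalSpace
open Surf

namespace Groth.Agent.S16561

set_option backward.isDefEq.respectTransparency false
set_option backward.isDefEq.respectTransparency.types false
set_option linter.style.haveILetI false
open Groth.Agent

/-- Let k be an algebraically closed field, p_1, …, p_r distinct closed points of the projective plane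
P²_k and σ : X → P²_k the blow-up of P²_k in the ideal of the reduced finite set {p_1, …, p_r}
(universal property), X being regarded over k through σ; X is then an integral smooth proper surface
(carried as hypotheses). Write H = σ^*O(1), (L·M) = χ(O_X) − χ(L) − χ(M) + χ(L ⊗ M) for the
intersection number of invertible modules L, M, and for a closed subscheme C ⊆ X with ideal I_C
write (L·C) = χ(O_C ⊗ L) − χ(O_C) and C² = (I_C·I_C). A (−1)-curve is an integral closed
one-dimensional subscheme E ⊆ X with H¹(E, O_E) = 0 and E² = −1. Let L be an invertible O_X-module,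
d = (L·H), χ⁻ = max(−χ(L), 0), and E a (−1)-curve with (H·E) ≤ d + 2. If dim_k H¹(X, L) = χ⁻, then
(L·E) ≥ −1 − χ⁻. (The source takes the points in general position; that assumption plays no role
here.) -/
theorem result (k : Type u) [Field k] [IsAlgClosed k]
    (r : ℕ) (P : Fin r → ↥(CohB1.ProjSpace 2 k)) (hP : Function.Injective P)
    (hPc : ∀ i, IsClosed ({P i} : Set ↥(CohB1.ProjSpace 2 k))) (hZ : IsClosed (Set.range P))
    (X : Scheme.{u}) [X.Over (Spec (CommRingCat.of k))] (σ : X ⟶ CohB1.ProjSpace 2 k)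
    (hσk : σ ≫ CohB1.ProjSpace.toSpec 2 k = X ↘ (Spec (CommRingCat.of k)))
    (hσ : BlowUp.IsBlowUp σ (Scheme.IdealSheafData.vanishingIdeal ⟨Set.range P, hZ⟩))
    [IsIntegral X] [IsProper (X ↘ (Spec (CommRingCat.of k)))] [Smooth (X ↘ (Spec (CommRingCat.of k)))] (hdim : topologicalKrullDim X = 2)
    (L : X.Modules) (hL : PicF.IsInvertible L)
    (E : X.IdealSheafData) (hEi : IsIntegral E.subscheme) (hE1 : topologicalKrullDim (E.support : Set X) = 1)
    (hEg : Subsingleton (Coh.HH E.subscheme (Coh.structureModule E.subscheme) 1))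
    (hEE : FGA.intNum k X 2 ![ClSub.idealMod E, ClSub.idealMod E] (Coh.structureModule X) = -1)
    (hEH : (Curv2.euler k X (CohB1.tensorMod (ClSub.quotMod E) ((Scheme.Modules.pullback σ).obj (Twist.twistProjSpace 2 k 1))) - Curv2.euler k X (ClSub.quotMod E)) ≤ FGA.intNum k X 2 ![L, ((Scheme.Modules.pullback σ).obj (Twist.twistProjSpace 2 k 1))] (Coh.structureModule X) + 2)
    (h1 : (Module.finrank k (Coh.HH X L 1) : ℤ) = max (-Curv2.euler k X L) 0) :
    -1 - max (-Curv2.euler k X L) 0 ≤ (Curv2.euler k X (CohB1.tensorMod (ClSub.quotMod E) L) - Curv2.euler k X (ClSub.quotMod E)) := by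
  haveI := hEi
  haveI := CurveRR.isNoetherian_of_proper k X
  haveI : IsProper (CohB1.ProjSpace.toSpec 2 k) := ProjMor.isProper_toSpec 2 k
  letI : (CohB1.ProjSpace 2 k).Over (Spec (CommRingCat.of k)) := ⟨CohB1.ProjSpace.toSpec 2 k⟩
  haveI : IsProper (CohB1.ProjSpace 2 k ↘ Spec (CommRingCat.of k)) := ProjMor.isProper_toSpec 2 k
  haveI : IsProper (σ ≫ CohB1.ProjSpace.toSpec 2 k) := hσk ▸ inferInstance
  haveI : IsProper σ := IsProper.of_comp σ (CohB1.ProjSpace.toSpec 2 k)
  have hT := Groth.Agent.Intersect.isAmple_twistProj_one 2 k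
  have hn := Groth.Agent.Nakai.nef_pullback k σ hσk hT.1 (Groth.Agent.Nakai.nef_of_isAmple k hT)
  have hH := PlaneBlow.inv_T k σ 1
  have hI := SurfAdj.inv_ideal k hdim E hE1
  have hdH : (0 : ℤ) ≤ PlaneBlow.deg k E (PlaneBlow.T k σ 1) :=
    sub_nonneg.2 (hn (ClSub.quotMod E) (CurveRR.isCoh_idealMod E).2 ((Nakai.dim_support_quotMod E).trans hE1).le)
  change PlaneBlow.deg k E (PlaneBlow.T k σ 1) ≤ _ at hEH
  show _ ≤ PlaneBlow.deg k E L
  have hEHq : (PlaneBlow.deg k E (PlaneBlow.T k σ 1) : ℚ) ≤ Nakai.inter k L (PlaneBlow.T k σ 1) + 2 := by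
    rw [← SurfAdj.intNum_inter k hdim]
    exact_mod_cast hEH
  have hdHq : (0 : ℚ) ≤ (PlaneBlow.deg k E (PlaneBlow.T k σ 1) : ℚ) := by exact_mod_cast hdH
  have hM := TMul.isInvertible_tensorMod hI hL
  have hL2 := PlaneBlow.h2_eq_zero k P hP hPc hZ σ hσk hσ hdim hL (by linarith)
  have hdeg := PlaneBlow.deg_eq_inter k hdim E hE1 hH
  have hM2 := PlaneBlow.h2_eq_zero k P hP hPc hZ σ hσk hσ hdim hM
    (by rw [Nakai.inter_tensor k hdim.le hI hL hH]; linarith)
  have hS := CohFinite.shortExact_tmap hL (SerrePn.idealSeq_shortExact E)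
  have hc := CurveRR.isCoh_of_inv hL
  have h₁ : Coh.IsCoh (CohB1.tensorMod (ClSub.idealMod E) L) := CurveRR.isCoh_tensor' (CurveRR.isCoh_idealMod E).1 hc
  have h₂ : Coh.IsCoh (CohB1.tensorMod (Coh.structureModule X) L) :=
    CurveRR.isCoh_tensor' RefStalk.isCoh_structureModule hc
  have h₃ : Coh.IsCoh (CohB1.tensorMod (ClSub.quotMod E) L) := CurveRR.isCoh_tensor' (CurveRR.isCoh_idealMod E).2 hc
  have hle := Nakai.h0_le_of_mono k hS h₂
  have hadd := CurveRR.euler_add (k := k) hS h₁ h₂ h₃
  have hq := (SurfAdj.subsingleton_h1_iff k hdim E hE1).1 hEg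
  have e0 := CurveRR.h_eq_of_iso (k := k) (TMul.leftUnitIso L) 0
  have eχ := CurveRR.euler_eq_of_iso (k := k) (TMul.leftUnitIso L)
  have he := SurfAdj.euler_eq3 k hdim L
  have he' := SurfAdj.euler_eq3 k hdim (CohB1.tensorMod (ClSub.idealMod E) L)
  change (CurveRR.h k L 1 : ℤ) = _ at h1
  dsimp only [SerrePn.idealSeq, PlaneBlow.deg, ClSub.quotMod] at hle hadd hq ⊢
  omega

end Groth.Agent.S16561
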