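import Groth.Statements.S16562
import Groth.Agent.PlaneBlow.CurveSub
-- import your own Groth.Agent.* helpers here

set_option autoImplicit false
universe u
open CategoryTheory CategoryTheory.Limits AlgebraicGeometry TopologicalSpace
open Surf

namespace Groth.Agent.S16562

set_option backward.isDefEq.respectTransparency false
set_option backward.isDefEq.respectTransparency.types false
set_option linter.style.haveILetI false
open Groth.Agent

/-- Let k be an algebraically closed field, p_1, …, p_r distinct closed points of the projective plane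
P²_k and σ : X → P²_k the blow-up of P²_k in the ideal of the reduced finite set {p_1, …, p_r}
(universal property), X being regarded over k through σ; X is then an integral smooth proper surface
(carried as hypotheses). Write H = σ^*O(1), (L·M) = χ(O_X) − χ(L) − χ(M) + χ(L ⊗ M) for the
intersection number of invertible modules L, M, and for a closed subscheme C ⊆ X with ideal I_C
write (L·C) = χ(O_C ⊗ L) − χ(O_C) and C² = (I_C·I_C). A (−1)-curve is an integral closed
one-dimensional subscheme E ⊆ X with H¹(E, O_E) = 0 and E² = −1. If L is an invertible O_X-module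
and E a (−1)-curve whose H-degree satisfies 2(H·E) > (L·H), and (L·E) < −1, then H⁰(X, L) = 0. (The
source takes the points in general position; that assumption plays no role here.) -/
theorem result (k : Type u) [Field k] [IsAlgClosed k]
    (r : ℕ) (P : Fin r → ↥(CohB1.ProjSpace 2 k)) (hP : Function.Injective P)
    (hPc : ∀ i, IsClosed ({P i} : Set ↥(CohB1.ProjSpace 2 k))) (hZ : IsClosed (Set.range P))
    (X : Scheme.{u}) [X.Over (Spec (CommRingCat.of k))] (σ : X ⟶ CohB1.ProjSpace 2 k)
    (hσk : σ ≫ CohB1.ProjSpace.toSpec 2 k = X ↘ (Spec (CommRingCat.of k)))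
    (hσ : BlowUp.IsBlowUp σ (Scheme.IdealSheafData.vanishingIdeal ⟨Set.range P, hZ⟩))
    [IsIntegral X] [IsProper (X ↘ (Spec (CommRingCat.of k)))] [Smooth (X ↘ (Spec (CommRingCat.of k)))] (hdim : topologicalKrullDim X = 2)
    (L : X.Modules) (hL : PicF.IsInvertible L)
    (E : X.IdealSheafData) (hEi : IsIntegral E.subscheme) (hE1 : topologicalKrullDim (E.support : Set X) = 1)
    (hEg : Subsingleton (Coh.HH E.subscheme (Coh.structureModule E.subscheme) 1))
    (hEE : FGA.intNum k X 2 ![ClSub.idealMod E, ClSub.idealMod E] (Coh.structureModule X) = -1)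
    (hEH : FGA.intNum k X 2 ![L, ((Scheme.Modules.pullback σ).obj (Twist.twistProjSpace 2 k 1))] (Coh.structureModule X) < 2 * (Curv2.euler k X (CohB1.tensorMod (ClSub.quotMod E) ((Scheme.Modules.pullback σ).obj (Twist.twistProjSpace 2 k 1))) - Curv2.euler k X (ClSub.quotMod E)))
    (hLE : (Curv2.euler k X (CohB1.tensorMod (ClSub.quotMod E) L) - Curv2.euler k X (ClSub.quotMod E)) < -1) :
    Subsingleton (Coh.HH X L 0) := by
  haveI := hEi
  haveI : IsProper (CohB1.ProjSpace.toSpec 2 k) := ProjMor.isProper_toSpec 2 k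
  letI : (CohB1.ProjSpace 2 k).Over (Spec (CommRingCat.of k)) := ⟨CohB1.ProjSpace.toSpec 2 k⟩
  haveI : IsProper (CohB1.ProjSpace 2 k ↘ Spec (CommRingCat.of k)) := ProjMor.isProper_toSpec 2 k
  haveI : IsProper (σ ≫ CohB1.ProjSpace.toSpec 2 k) := hσk ▸ inferInstance
  haveI : IsProper σ := IsProper.of_comp σ (CohB1.ProjSpace.toSpec 2 k)
  have hT := Groth.Agent.Intersect.isAmple_twistProj_one 2 k
  have hn := Groth.Agent.Nakai.nef_pullback k σ hσk hT.1 (Groth.Agent.Nakai.nef_of_isAmple k hT)
  have hH := PlaneBlow.inv_T k σ 1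
  have hI := SurfAdj.inv_ideal k hdim E hE1
  have hdH : (0 : ℤ) ≤ PlaneBlow.deg k E (PlaneBlow.T k σ 1) := by
    haveI := CurveRR.isNoetherian_of_proper k X
    exact sub_nonneg.2 (hn (ClSub.quotMod E) (CurveRR.isCoh_idealMod E).2
      ((Nakai.dim_support_quotMod E).trans hE1).le)
  change PlaneBlow.deg k E L < -1 at hLE
  change _ < 2 * PlaneBlow.deg k E (PlaneBlow.T k σ 1) at hEH
  obtain ⟨s, hs⟩ : ∃ s : ℕ, (s : ℤ) = -PlaneBlow.deg k E L := ⟨(-PlaneBlow.deg k E L).toNat, by omega⟩
  have heq := PlaneBlow.h0_pow_tensor k hdim E hE1 hEE hL s hs.le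
  have hp := TMul.isInvertible_tensorPow hI s
  rw [PlaneBlow.subsingleton_iff_h k hL 0, ← heq]
  refine Nakai.h0_eq_zero_of_degree_neg k hdim hH hn (TMul.isInvertible_tensorMod hp hL) ?_
  rw [Nakai.inter_tensor k hdim.le hp hL hH, Nakai.inter_pow k hdim.le hI hH]
  have hE' := PlaneBlow.deg_eq_inter k hdim E hE1 hH
  have h1 : Nakai.inter k L (PlaneBlow.T k σ 1) < 2 * (PlaneBlow.deg k E (PlaneBlow.T k σ 1) : ℚ) := by
    rw [← SurfAdj.intNum_inter k hdim]
    exact_mod_cast hEH
  have h2 : (2 : ℚ) ≤ (s : ℚ) := by exact_mod_cast (show (2 : ℤ) ≤ s by omega)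
  have h3 : (0 : ℚ) ≤ (PlaneBlow.deg k E (PlaneBlow.T k σ 1) : ℚ) := by exact_mod_cast hdH
  nlinarith

end Groth.Agent.S16562
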