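import Groth.Statements.S16564
import Groth.Agent.PlaneBlow.CurveSub
import Groth.Agent.Nakai.CurveConfig

set_option autoImplicit false
set_option linter.style.haveILetI false
universe u
open CategoryTheory CategoryTheory.Limits AlgebraicGeometry TopologicalSpace
open Surf

namespace Groth.Agent.S16564

/-- Let k be an algebraically closed field, p_1, …, p_r distinct closed points of the projective plane
P²_k and σ : X → P²_k the blow-up of P²_k in the ideal of the reduced finite set {p_1, …, p_r}
(universal property), X being regarded over k through σ; X is then an integral smooth proper surface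
(carried as hypotheses). Write H = σ^*O(1), (L·M) = χ(O_X) − χ(L) − χ(M) + χ(L ⊗ M) for the
intersection number of invertible modules L, M, and for a closed subscheme C ⊆ X with ideal I_C
write (L·C) = χ(O_C ⊗ L) − χ(O_C) and C² = (I_C·I_C). A (−1)-curve is an integral closed
one-dimensional subscheme E ⊆ X with H¹(E, O_E) = 0 and E² = −1. Call an invertible module M
non-special when at most one of H⁰(X, M), H¹(X, M), H²(X, M) is nonzero. Suppose every invertible M
with (M·E) ≥ −1 for every (−1)-curve E is non-special (the non-speciality hypothesis for X). Then no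
integral closed one-dimensional subscheme C ⊆ X has C² ≤ −2. (The source concludes that the curves
of negative self-intersection are exactly the (−1)-curves; its argument treats C² ≤ −2, which is
what is stated here.) (The source takes the points in general position; that assumption plays no
role here.) -/
theorem result (k : Type u) [Field k] [IsAlgClosed k]
    (r : ℕ) (P : Fin r → ↥(CohB1.ProjSpace 2 k)) (hP : Function.Injective P)
    (hPc : ∀ i, IsClosed ({P i} : Set ↥(CohB1.ProjSpace 2 k))) (hZ : IsClosed (Set.range P))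
    (X : Scheme.{u}) [X.Over (Spec (CommRingCat.of k))] (σ : X ⟶ CohB1.ProjSpace 2 k)
    (hσk : σ ≫ CohB1.ProjSpace.toSpec 2 k = X ↘ (Spec (CommRingCat.of k)))
    (hσ : BlowUp.IsBlowUp σ (Scheme.IdealSheafData.vanishingIdeal ⟨Set.range P, hZ⟩))
    [IsIntegral X] [IsProper (X ↘ (Spec (CommRingCat.of k)))] [Smooth (X ↘ (Spec (CommRingCat.of k)))] (hdim : topologicalKrullDim X = 2)
    (hconj : ∀ (M : X.Modules), PicF.IsInvertible M →
      (∀ (E : X.IdealSheafData), IsIntegral E.subscheme → topologicalKrullDim (E.support : Set X) = 1 →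
        Subsingleton (Coh.HH E.subscheme (Coh.structureModule E.subscheme) 1) →
        FGA.intNum k X 2 ![ClSub.idealMod E, ClSub.idealMod E] (Coh.structureModule X) = -1 →
        -1 ≤ (Curv2.euler k X (CohB1.tensorMod (ClSub.quotMod E) M) - Curv2.euler k X (ClSub.quotMod E))) →
      ((Subsingleton (Coh.HH X M 0) ∧ Subsingleton (Coh.HH X M 1)) ∨ (Subsingleton (Coh.HH X M 0) ∧ Subsingleton (Coh.HH X M 2)) ∨
        (Subsingleton (Coh.HH X M 1) ∧ Subsingleton (Coh.HH X M 2))))
    (C : X.IdealSheafData) (hCi : IsIntegral C.subscheme) (hC1 : topologicalKrullDim (C.support : Set X) = 1) :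
    -1 ≤ FGA.intNum k X 2 ![ClSub.idealMod C, ClSub.idealMod C] (Coh.structureModule X) := by
  haveI := hCi
  haveI := CurveRR.isNoetherian_of_proper k X
  by_contra hcon
  rw [not_le] at hcon
  have hI := SurfAdj.inv_ideal k hdim C hC1
  obtain ⟨N, hN, ⟨e⟩⟩ := W7Hull.exists_tensor_inverse hI
  have hinv : ClSub.IsInverseOf N (ClSub.idealMod C) := ⟨TMul.commIso _ _ ≪≫ e⟩
  have hdegC := SurfAdj.deg_inv k hdim C hC1 hinv
  have hh0 : CurveRR.h k N 0 = 1 := by
    rw [← PlaneBlow.h0_sub_eq k hdim C hC1 hN (hdegC.trans_lt (by omega)), CurveRR.h_eq_of_iso e]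
    exact ConnDiv.h0_structure
  have hns := hconj N hN fun E hEi hE1 _ hEE => by
    haveI := hEi
    rw [SurfAdj.deg_eq k hdim E hE1 hN]
    have hne : E ≠ C := fun h => by
      subst h
      omega
    have h0 := Nakai.intNum_off_nonneg k hdim hE1 hC1 hne
    have hIE := SurfAdj.inv_ideal k hdim E hE1
    have h2 : ((FGA.intNum k X 2 ![ClSub.idealMod E, N] (Coh.structureModule X) : ℤ) : ℚ) =
        ((-FGA.intNum k X 2 ![ClSub.idealMod E, ClSub.idealMod C] (Coh.structureModule X) : ℤ) : ℚ) := by
      push_cast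
      rw [SurfAdj.intNum_inter k hdim, SurfAdj.intNum_inter k hdim, Nakai.inter_inv_right k hdim.le hI ⟨e⟩ hIE]
    have h3 : FGA.intNum k X 2 ![ClSub.idealMod E, N] (Coh.structureModule X) =
        -FGA.intNum k X 2 ![ClSub.idealMod E, ClSub.idealMod C] (Coh.structureModule X) := by exact_mod_cast h2
    omega
  simp only [PlaneBlow.subsingleton_iff_h k hN, hh0] at hns
  simp only [one_ne_zero, false_and, false_or] at hns
  have hχ := SurfAdj.euler_eq3 k hdim N
  rw [hh0, hns.1, hns.2] at hχ
  haveI := SurfAdj.smooth2 k hdim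
  obtain ⟨W, hW⟩ := ExtFund.exists_topPower (k := k) (X := X)
  have hWi := SurfAdj.isInvertible_W k hdim hW
  have hrr := SurfAdj.riemann_roch k hdim hW hN
  have hχ1 := PlaneBlow.euler_one k P hP hPc hZ σ hσk hσ
  have hadj := SurfAdj.adj k hdim hW C hC1
  have hle := SurfAdj.euler_quot_le k hdim C hC1
  have q := congrArg (fun z : ℤ => (z : ℚ)) hrr
  push_cast [SurfAdj.intNum_inter k hdim] at q
  have i1 : Nakai.inter k N N = Nakai.inter k (ClSub.idealMod C) (ClSub.idealMod C) := by
    rw [Nakai.inter_inv (k := k) hdim.le hI ⟨e⟩ hN, Nakai.inter_inv_right (k := k) hdim.le hI ⟨e⟩ hI, neg_neg]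
  have i2 : Nakai.inter k N W = -Nakai.inter k (ClSub.idealMod C) W := Nakai.inter_inv (k := k) hdim.le hI ⟨e⟩ hWi
  rw [i1, i2, ← SurfAdj.intNum_inter k hdim, ← SurfAdj.intNum_inter k hdim] at q
  push_cast at q
  have q2 : (Curv2.euler k X N : ℚ) = 1 := by exact_mod_cast hχ
  have q3 : (Curv2.euler k X (Coh.structureModule X) : ℚ) = 1 := by exact_mod_cast hχ1
  have q4 := congrArg (fun z : ℤ => (z : ℚ)) hadj
  push_cast at q4
  have q5 : (Curv2.euler k X (ClSub.quotMod C) : ℚ) ≤ 1 := by exact_mod_cast hle
  have q6 : (FGA.intNum k X 2 ![ClSub.idealMod C, ClSub.idealMod C] (Coh.structureModule X) : ℚ) ≤ -2 := by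
    exact_mod_cast (show FGA.intNum k X 2 ![ClSub.idealMod C, ClSub.idealMod C] (Coh.structureModule X) ≤ -2 by omega)
  linarith

end Groth.Agent.S16564
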