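import Groth.Statements.S16572
import Mathlib


set_option autoImplicit false
universe u
open CAlg

namespace Groth.Agent.S16572

/-- Let A be a commutative ring and T the quotient of the polynomial ring over A in indeterminates X_P,
one for each monic polynomial P over A of positive degree, by the ideal generated by the elements
P(X_P). Then the map on prime spectra Spec T → Spec A is surjective, and for every prime ideal Q of
T, with p its contraction to A, the residue field of Q is algebraically closed and integral over the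
residue field of p under the induced map of residue fields (so it is an algebraic closure of it). -/
theorem result (A : Type u) [CommRing A] :
    Function.Surjective (PrimeSpectrum.comap (algebraMap A (MvPolynomial {P : Polynomial A // P.Monic ∧ 0 < P.natDegree} A ⧸
      Ideal.span (Set.range fun P : {P : Polynomial A // P.Monic ∧ 0 < P.natDegree} =>
        Polynomial.aeval (MvPolynomial.X (R := A) P) P.1)))) ∧
    ∀ (Q : Ideal (MvPolynomial {P : Polynomial A // P.Monic ∧ 0 < P.natDegree} A ⧸
      Ideal.span (Set.range fun P : {P : Polynomial A // P.Monic ∧ 0 < P.natDegree} =>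
        Polynomial.aeval (MvPolynomial.X (R := A) P) P.1))) [Q.IsPrime],
      IsAlgClosed Q.ResidueField ∧
      (Ideal.ResidueField.map (Q.comap (algebraMap A (MvPolynomial {P : Polynomial A // P.Monic ∧ 0 < P.natDegree} A ⧸
      Ideal.span (Set.range fun P : {P : Polynomial A // P.Monic ∧ 0 < P.natDegree} =>
        Polynomial.aeval (MvPolynomial.X (R := A) P) P.1)))) Q (algebraMap A (MvPolynomial {P : Polynomial A // P.Monic ∧ 0 < P.natDegree} A ⧸
      Ideal.span (Set.range fun P : {P : Polynomial A // P.Monic ∧ 0 < P.natDegree} =>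
        Polynomial.aeval (MvPolynomial.X (R := A) P) P.1))) rfl).IsIntegral := by
  classical
  set σ := {P : Polynomial A // P.Monic ∧ 0 < P.natDegree}
  set I : Ideal (MvPolynomial σ A) := Ideal.span (Set.range fun P : σ =>
    Polynomial.aeval (MvPolynomial.X (R := A) P) P.1)
  set T := MvPolynomial σ A ⧸ I
  have hroot : ∀ P : σ, Polynomial.aeval (Ideal.Quotient.mk I (MvPolynomial.X P)) P.1 = 0 := fun P => by
    rw [← Ideal.Quotient.mkₐ_eq_mk A, Polynomial.aeval_algHom_apply, Ideal.Quotient.mkₐ_eq_mk,
      Ideal.Quotient.eq_zero_iff_mem]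
    exact Ideal.subset_span ⟨P, rfl⟩
  haveI : Algebra.IsIntegral A T := ⟨fun t => by
    obtain ⟨p, rfl⟩ := Ideal.Quotient.mk_surjective t
    induction p using MvPolynomial.induction_on with
    | C c => exact (isIntegral_algebraMap : IsIntegral A (algebraMap A T c))
    | add p q hp hq => rw [map_add]; exact hp.add hq
    | mul_X p P hp => rw [map_mul]; exact hp.mul ⟨P.1, P.2.1, hroot P⟩⟩
  constructor
  · intro p
    haveI : Nontrivial A := nontrivial_of_ne (0 : A) 1 fun e => p.2.ne_top ((Ideal.eq_top_iff_one _).2 (e ▸ p.asIdeal.zero_mem))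
    let Ω := AlgebraicClosure p.asIdeal.ResidueField
    let f : A →+* Ω := (algebraMap p.asIdeal.ResidueField Ω).comp (algebraMap A p.asIdeal.ResidueField)
    have hex : ∀ P : σ, ∃ w : Ω, P.1.eval₂ f w = 0 := fun P => by
      obtain ⟨w, hw⟩ := IsAlgClosed.exists_root (P.1.map f) (by
        rw [P.2.1.degree_map, Polynomial.degree_eq_natDegree P.2.1.ne_zero]
        exact_mod_cast P.2.2.ne')
      exact ⟨w, by rwa [Polynomial.IsRoot, Polynomial.eval_map] at hw⟩
    choose w hw using hex
    let φ : T →+* Ω := Ideal.Quotient.lift I (MvPolynomial.eval₂Hom f w) (fun t ht => by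
      refine (Ideal.span_le (I := RingHom.ker (MvPolynomial.eval₂Hom f w))).2 ?_ ht
      rintro _ ⟨P, rfl⟩
      show MvPolynomial.eval₂Hom f w (Polynomial.aeval (MvPolynomial.X P) P.1) = 0
      rw [Polynomial.aeval_def, Polynomial.hom_eval₂]
      refine Eq.trans ?_ (hw P)
      congr 1
      · exact RingHom.ext fun a => MvPolynomial.eval₂Hom_C f w a
      · exact MvPolynomial.eval₂Hom_X' f w P)
    refine ⟨⟨RingHom.ker φ, RingHom.ker_isPrime _⟩, PrimeSpectrum.ext (Ideal.ext fun a => ?_)⟩
    show φ (Ideal.Quotient.mk I (MvPolynomial.C a)) = 0 ↔ _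
    rw [Ideal.Quotient.lift_mk, MvPolynomial.eval₂Hom_C, RingHom.comp_apply, map_eq_zero]
    exact Ideal.algebraMap_residueField_eq_zero
  · intro Q _
    set p := Q.comap (algebraMap A T)
    letI : Algebra p.ResidueField Q.ResidueField := (Ideal.ResidueField.map p Q (algebraMap A T) rfl).toAlgebra
    haveI : IsScalarTower A p.ResidueField Q.ResidueField := IsScalarTower.of_algebraMap_eq fun a => by
      rw [RingHom.algebraMap_toAlgebra, Ideal.ResidueField.map_algebraMap]
      exact IsScalarTower.algebraMap_apply A T Q.ResidueField a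
    haveI : Algebra.IsAlgebraic p.ResidueField Q.ResidueField := by
      refine ⟨fun z => ?_⟩
      obtain ⟨a, s, -, rfl⟩ := IsFractionRing.div_surjective (T ⧸ Q) z
      obtain ⟨a, rfl⟩ := Ideal.Quotient.mk_surjective a
      obtain ⟨s, rfl⟩ := Ideal.Quotient.mk_surjective s
      have h : ∀ t : T, IsIntegral p.ResidueField (algebraMap (T ⧸ Q) Q.ResidueField (Ideal.Quotient.mk Q t)) :=
        fun t => by
          have h' := ((Algebra.IsIntegral.isIntegral (R := A) t).map
            (IsScalarTower.toAlgHom A T Q.ResidueField))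
          rw [IsScalarTower.toAlgHom_apply, IsScalarTower.algebraMap_apply T (T ⧸ Q) Q.ResidueField] at h'
          exact h'.tower_top
      rw [div_eq_mul_inv]
      exact ((h a).mul (IsIntegral.inv (h s))).isAlgebraic
    haveI : IsAlgClosure p.ResidueField Q.ResidueField := by
      refine IsAlgClosure.of_exists_root fun P hP hirr => ?_
      obtain ⟨b, hb0, hb⟩ : ∃ b : A ⧸ p, b ≠ 0 ∧ ∃ P' : Polynomial (A ⧸ p), P'.Monic ∧
          0 < P'.natDegree ∧ ∀ w : Q.ResidueField,
          Polynomial.aeval w (P'.map (algebraMap (A ⧸ p) p.ResidueField)) = 0 →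
          Polynomial.aeval (w * (algebraMap p.ResidueField Q.ResidueField (algebraMap (A ⧸ p) _ b))⁻¹) P = 0 := by
        obtain ⟨b, hb⟩ := IsLocalization.exist_integer_multiples_of_finset (nonZeroDivisors (A ⧸ p))
          ((Finset.range (P.natDegree + 1)).image P.coeff)
        set β := algebraMap (A ⧸ p) p.ResidueField (b : A ⧸ p)
        have hβ : β ≠ 0 := (map_ne_zero_iff _ (IsFractionRing.injective _ _)).2 (nonZeroDivisors.ne_zero b.2)
        have hdeg : (P.scaleRoots β).natDegree = P.natDegree := Polynomial.natDegree_scaleRoots P β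
        have hlift : P.scaleRoots β ∈ Polynomial.lifts (algebraMap (A ⧸ p) p.ResidueField) := by
          rw [Polynomial.lifts_iff_coeff_lifts]
          intro i
          rw [Polynomial.coeff_scaleRoots]
          rcases lt_trichotomy i P.natDegree with hi | rfl | hi
          · obtain ⟨c, hc⟩ := hb (P.coeff i) (Finset.mem_image.2 ⟨i, Finset.mem_range.2 (by omega), rfl⟩)
            refine ⟨c * (b : A ⧸ p) ^ (P.natDegree - i - 1), ?_⟩
            rw [map_mul, map_pow, hc, Algebra.smul_def, mul_comm _ (P.coeff i), mul_assoc, ← pow_succ']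
            congr 2; omega
          · exact ⟨1, by rw [map_one, Nat.sub_self, pow_zero, mul_one, hP.coeff_natDegree]⟩
          · exact ⟨0, by rw [map_zero, Polynomial.coeff_eq_zero_of_natDegree_lt hi, zero_mul]⟩
        obtain ⟨P', hP', hdeg', hmon'⟩ := Polynomial.lifts_and_degree_eq_and_monic hlift
          ((Polynomial.monic_scaleRoots_iff β).2 hP)
        refine ⟨b, nonZeroDivisors.ne_zero b.2, P', hmon', ?_, fun w hw => ?_⟩
        · rw [Polynomial.natDegree_eq_of_degree_eq hdeg', hdeg]
          exact hirr.natDegree_pos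
        · rw [hP'] at hw
          have h := Polynomial.scaleRoots_eval₂_eq_zero (algebraMap p.ResidueField Q.ResidueField) (s := β⁻¹)
            (by rwa [Polynomial.aeval_def] at hw)
          rwa [← Polynomial.scaleRoots_mul, mul_inv_cancel₀ hβ, Polynomial.scaleRoots_one, map_inv₀,
            mul_comm, ← Polynomial.aeval_def] at h
      obtain ⟨P', hP', hdeg', hw⟩ := hb
      obtain ⟨P'', hP'', hd'', hm''⟩ := Polynomial.lifts_and_degree_eq_and_monic
        ((Polynomial.lifts_iff_coeff_lifts _).2 fun i => Ideal.Quotient.mk_surjective (P'.coeff i) :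
          P' ∈ Polynomial.lifts (Ideal.Quotient.mk p)) hP'
      let i : σ := ⟨P'', hm'', by rwa [Polynomial.natDegree_eq_of_degree_eq hd'']⟩
      refine ⟨_, hw (algebraMap T Q.ResidueField (Ideal.Quotient.mk I (MvPolynomial.X i))) ?_⟩
      rw [← hP'', Polynomial.map_map, show (algebraMap (A ⧸ p) p.ResidueField).comp (Ideal.Quotient.mk p) =
        algebraMap A p.ResidueField from (IsScalarTower.algebraMap_eq A (A ⧸ p) p.ResidueField).symm,
        Polynomial.aeval_map_algebraMap, Polynomial.aeval_algebraMap_apply, hroot i, map_zero]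
    exact ⟨IsAlgClosure.isAlgClosed p.ResidueField, fun z => Algebra.IsIntegral.isIntegral (R := p.ResidueField) z⟩

end Groth.Agent.S16572
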