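import Groth.Statements.S16575
import Groth.Agent.Hensel.BranchDim
import Groth.Agent.Hensel.CompletionDim
import Groth.Agent.NilSmooth.FlatQuot
-- import your own Groth.Agent.* helpers here

set_option autoImplicit false
universe u
open CAlg

namespace Groth.Agent.S16575

open IsLocalRing Groth.Agent.Hensel in
theorem completion_iff (A : Type u) [CommRing A] [IsNoetherianRing A] [IsLocalRing A]
    (S : Type u) [CommRing S] [IsLocalRing S] [Algebra A S] [IsLocalHom (algebraMap A S)]
    [_root_.Hensel.IsHenselization A S] :
    (∀ p ∈ minimalPrimes S, (2 : WithBot ℕ∞) ≤ ringKrullDim (S ⧸ p)) ↔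
      ∀ q ∈ minimalPrimes (AdicCompletion (maximalIdeal A) A),
        (2 : WithBot ℕ∞) ≤ ringKrullDim (AdicCompletion (maximalIdeal A) A ⧸ q) := by
  haveI : HenselianLocalRing S := _root_.Hensel.IsHenselization.henselian (R := A)
  haveI : IsNoetherianRing S := (henselization_isNoetherianRing_iff A S).1 inferInstance
  obtain ⟨ψ, hψ⟩ := exists_completion_map A S
  obtain ⟨-, hm, hres⟩ := completion_setup A S ψ hψ
  letI := ψ.toAlgebra
  haveI := faithfullyFlat_completion A S ψ hψ
  set B := AdicCompletion (maximalIdeal A) A
  have setup : ∀ (p : Ideal S) [p.IsPrime], IsLocalRing (B ⧸ p.map (algebraMap S B)) ∧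
      Module.FaithfullyFlat (S ⧸ p) (B ⧸ p.map (algebraMap S B)) ∧
      (maximalIdeal S).map ((Ideal.Quotient.mk (p.map (algebraMap S B))).comp (algebraMap S B)) =
        (maximalIdeal B).map (Ideal.Quotient.mk (p.map (algebraMap S B))) := by
    intro p _
    haveI : IsLocalRing (S ⧸ p) := IsLocalRing.of_surjective' (Ideal.Quotient.mk p) Ideal.Quotient.mk_surjective
    have hle : p.map (algebraMap S B) ≤ maximalIdeal B :=
      (Ideal.map_mono (IsLocalRing.le_maximalIdeal Ideal.IsPrime.ne_top')).trans hm.le
    haveI : Nontrivial (B ⧸ p.map (algebraMap S B)) :=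
      Ideal.Quotient.nontrivial_iff.2 (ne_top_of_le_ne_top (maximalIdeal.isMaximal B).ne_top hle)
    haveI : IsLocalRing (B ⧸ p.map (algebraMap S B)) :=
      IsLocalRing.of_surjective' (Ideal.Quotient.mk _) Ideal.Quotient.mk_surjective
    have h3 : (maximalIdeal S).map ((Ideal.Quotient.mk (p.map (algebraMap S B))).comp (algebraMap S B)) =
        (maximalIdeal B).map (Ideal.Quotient.mk (p.map (algebraMap S B))) := by
      rw [← Ideal.map_map]
      exact congrArg _ hm
    haveI := NilSmooth.flat_quotient_map S B p
    haveI : IsLocalHom (algebraMap (S ⧸ p) (B ⧸ p.map (algebraMap S B))) := by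
      refine ((local_hom_TFAE _).out 2 0).1 ?_
      rw [← map_maximalIdeal_of_surjective (Ideal.Quotient.mk p) Ideal.Quotient.mk_surjective,
        ← map_maximalIdeal_of_surjective (Ideal.Quotient.mk (p.map (algebraMap S B))) Ideal.Quotient.mk_surjective,
        Ideal.map_map, show (algebraMap (S ⧸ p) (B ⧸ p.map (algebraMap S B))).comp (Ideal.Quotient.mk p) =
          (Ideal.Quotient.mk (p.map (algebraMap S B))).comp (algebraMap S B) from RingHom.ext fun _ => rfl, h3]
    exact ⟨inferInstance, Module.FaithfullyFlat.of_flat_of_isLocalHom, h3⟩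
  constructor
  · intro h q hq
    haveI := hq.1.1
    set p := q.comap (algebraMap S B) with hp
    haveI : p.IsPrime := Ideal.IsPrime.comap _
    haveI : IsLocalRing (S ⧸ p) := IsLocalRing.of_surjective' (Ideal.Quotient.mk p) Ideal.Quotient.mk_surjective
    haveI : HenselianLocalRing (S ⧸ p) := henselianLocalRing_finite S (S ⧸ p)
    obtain ⟨_, _, h3⟩ := setup p
    have hle : p.map (algebraMap S B) ≤ q := Ideal.map_comap_le
    have hq' : q.map (Ideal.Quotient.mk (p.map (algebraMap S B))) ∈
        minimalPrimes (B ⧸ p.map (algebraMap S B)) := by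
      refine ⟨⟨Ideal.map_isPrime_of_surjective Ideal.Quotient.mk_surjective (Ideal.mk_ker.trans_le hle), bot_le⟩,
        fun r hr hrle => ?_⟩
      haveI := hr.1
      rw [Ideal.map_le_iff_le_comap]
      refine hq.2 ⟨Ideal.IsPrime.comap _, bot_le⟩ ((Ideal.comap_mono hrle).trans_eq ?_)
      rw [Ideal.comap_map_of_surjective' _ Ideal.Quotient.mk_surjective, Ideal.mk_ker, sup_eq_left.2 hle]
    have h2 := two_le_ringKrullDim_quotient_of_henselian (D := S ⧸ p) (B := B ⧸ p.map (algebraMap S B)) ?_ ?_
      (h p (comap_mem_minimalPrimes_of_flat hq)) hq'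
    · exact h2.trans_eq (ringKrullDim_eq_of_ringEquiv ((DoubleQuot.quotQuotEquivQuotSup _ _).trans
        (Ideal.quotEquivOfEq (sup_eq_right.2 hle))))
    · rw [← map_maximalIdeal_of_surjective (Ideal.Quotient.mk p) Ideal.Quotient.mk_surjective,
        ← map_maximalIdeal_of_surjective (Ideal.Quotient.mk (p.map (algebraMap S B))) Ideal.Quotient.mk_surjective,
        Ideal.map_map]
      exact h3
    · intro x
      obtain ⟨x, rfl⟩ := Ideal.Quotient.mk_surjective x
      obtain ⟨s, hs⟩ := hres x
      refine ⟨Ideal.Quotient.mk p s, ?_⟩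
      rw [← map_maximalIdeal_of_surjective (Ideal.Quotient.mk (p.map (algebraMap S B))) Ideal.Quotient.mk_surjective,
        show algebraMap (S ⧸ p) (B ⧸ p.map (algebraMap S B)) (Ideal.Quotient.mk p s) =
          Ideal.Quotient.mk _ (ψ s) from rfl, ← map_sub]
      exact Ideal.mem_map_of_mem _ hs
  · intro h p hp
    haveI := hp.1.1
    haveI : IsLocalRing (S ⧸ p) := IsLocalRing.of_surjective' (Ideal.Quotient.mk p) Ideal.Quotient.mk_surjective
    obtain ⟨q, hq, hqp⟩ := exists_minimal_comap_eq (A := S) (S := B) hp
    obtain ⟨_, _, h3⟩ := setup p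
    rw [← ringKrullDim_eq_of_map_maximalIdeal (A := S ⧸ p) (B := B ⧸ p.map (algebraMap S B)) ?_]
    · exact (h q hq).trans (ringKrullDim_le_of_surjective (Ideal.Quotient.factor
        (Ideal.map_le_iff_le_comap.2 hqp.ge)) (Ideal.Quotient.factor_surjective _))
    · rw [← map_maximalIdeal_of_surjective (Ideal.Quotient.mk p) Ideal.Quotient.mk_surjective,
        ← map_maximalIdeal_of_surjective (Ideal.Quotient.mk (p.map (algebraMap S B))) Ideal.Quotient.mk_surjective,
        Ideal.map_map]
      exact h3

/-- Let A be a Noetherian local ring, S a henselization of A, S' a strict henselization of A, A' the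
integral closure of the reduction of A in its total ring of fractions, and Â the completion of A at
its maximal ideal. The following are equivalent: (i) for every maximal ideal m' of A' the local ring
of A' at m' has Krull dimension at least 2; (ii) every irreducible component of Spec S has dimension
at least 2; (ii bis) every irreducible component of Spec S' has dimension at least 2; (iii) every
irreducible component of Spec Â has dimension at least 2. (A closed subscheme Z of a Noetherian
scheme X is called c_2 when these hold at the local ring of every point of Z; condition (i) at all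
points of Z says that the preimage of Z in the normalization has codimension at least 2.) -/
theorem result
    (A : Type u) [CommRing A] [IsNoetherianRing A] [IsLocalRing A]
    (S : Type u) [CommRing S] [IsLocalRing S] [Algebra A S] [IsLocalHom (algebraMap A S)]
    [Hensel.IsHenselization A S]
    (S' : Type u) [CommRing S'] [IsLocalRing S'] [Algebra A S'] [IsLocalHom (algebraMap A S')]
    [Hensel.IsStrictHenselization A S'] :
    List.TFAE [
      ∀ m' : MaximalSpectrum (CAlg2.normRed A), (2 : WithBot ℕ∞) ≤ ringKrullDim (Localization.AtPrime m'.asIdeal),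
      ∀ p ∈ minimalPrimes S, (2 : WithBot ℕ∞) ≤ ringKrullDim (S ⧸ p),
      ∀ p ∈ minimalPrimes S', (2 : WithBot ℕ∞) ≤ ringKrullDim (S' ⧸ p),
      ∀ q ∈ minimalPrimes (AdicCompletion (IsLocalRing.maximalIdeal A) A), (2 : WithBot ℕ∞) ≤ ringKrullDim (AdicCompletion (IsLocalRing.maximalIdeal A) A ⧸ q)] := by
  haveI : HenselianLocalRing S := _root_.Hensel.IsHenselization.henselian (R := A)
  haveI : HenselianLocalRing S' := _root_.Hensel.IsStrictHenselization.henselian (R := A)
  haveI := Hensel.henselization_faithfullyFlat A S
  haveI := Hensel.strictHenselization_faithfullyFlat A S'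
  have hfin := minimalPrimes.finite_of_isNoetherianRing A
  have h12 := Hensel.forall_le_dim_iff (A := A) (S := S) hfin (Hensel.henselization_unramifiedFibres A S)
    (fun M _ => Hensel.isDomain_atPrime_henselization hfin M) 2
  have h13 := Hensel.forall_le_dim_iff (A := A) (S := S') hfin (Hensel.strictHenselization_unramifiedFibres A S')
    (fun M _ => by
      haveI := Hensel.isIntegral_normRed A
      obtain ⟨hMS, hqm, hqo⟩ := Hensel.comap_maximal_brTensor M
      haveI := hqm
      haveI := hqo
      obtain ⟨_, _⟩ := Hensel.normal_atPrime_normRed A hfin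
        (M.comap (Hensel.brIncl (A := A) (S := S')).toRingHom)
      exact Hensel.isDomain_atPrime_strict (A := A) (S := S')
        (M.comap (Hensel.brIncl (A := A) (S := S')).toRingHom) M hMS rfl) 2
  tfae_have 1 ↔ 2 := h12
  tfae_have 1 ↔ 3 := h13
  tfae_have 2 ↔ 4 := completion_iff A S
  tfae_finish

end Groth.Agent.S16575
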