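import Groth.Statements.S16576
import Groth.Agent.CTwoCpl.Core
import Groth.Agent.WeilLib.AdicUnit
import Groth.Agent.AdicBasics.LocalMap

set_option autoImplicit false
universe u
open CAlg

namespace Groth.Agent.S16576

/-- Let A → B be a flat local homomorphism of Noetherian local rings and let Â, B̂ be their completions
at the maximal ideals. If every irreducible component of Spec Â has dimension at least 2, then every
irreducible component of Spec B̂ has dimension at least 2. (This is the c_2 condition in its
completed form; globally: the preimage of a c_2 closed subset under a flat morphism of Noetherian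
schemes is c_2, in particular the condition is invariant under Zariski and étale localization.) -/
theorem result
    (A B : Type u) [CommRing A] [CommRing B] [IsNoetherianRing A] [IsNoetherianRing B]
    [IsLocalRing A] [IsLocalRing B] (f : A →+* B) [IsLocalHom f] (hf : f.Flat)
    (hA : ∀ q ∈ minimalPrimes (AdicCompletion (IsLocalRing.maximalIdeal A) A), (2 : WithBot ℕ∞) ≤ ringKrullDim (AdicCompletion (IsLocalRing.maximalIdeal A) A ⧸ q)) :
    ∀ q ∈ minimalPrimes (AdicCompletion (IsLocalRing.maximalIdeal B) B), (2 : WithBot ℕ∞) ≤ ringKrullDim (AdicCompletion (IsLocalRing.maximalIdeal B) B ⧸ q) := by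
  letI : Algebra A B := f.toAlgebra
  let ψ : AdicCompletion (IsLocalRing.maximalIdeal A) A →+* AdicCompletion (IsLocalRing.maximalIdeal B) B :=
    FSch.complMap _ _ f (Ideal.map_le_iff_le_comap.2 fun a ha => map_nonunit f a ha)
  have hψ : ψ.comp (algebraMap A (AdicCompletion (IsLocalRing.maximalIdeal A) A)) =
      (algebraMap B (AdicCompletion (IsLocalRing.maximalIdeal B) B)).comp f :=
    RingHom.ext fun s => AdicCompletion.ext_evalₐ fun n => by
      simp only [RingHom.comp_apply, ψ]
      rw [Groth.Agent.WeilLib.evalₐ_complMap]
      erw [(AdicCompletion.evalₐ _ n).commutes s, (AdicCompletion.evalₐ _ n).commutes (f s)]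

  letI := ψ.toAlgebra
  haveI : IsLocalHom (algebraMap (AdicCompletion (IsLocalRing.maximalIdeal A) A)
      (AdicCompletion (IsLocalRing.maximalIdeal B) B)) :=
    Groth.Agent.AdicBasics.isLocalHom_completionMap f ψ hψ
  haveI : Module.Flat (AdicCompletion (IsLocalRing.maximalIdeal A) A)
      (AdicCompletion (IsLocalRing.maximalIdeal B) B) :=
    (Groth.Agent.AdicBasics.flat_completionMap_iff f ψ hψ).2 hf
  exact Groth.Agent.CTwoCpl.core hA

end Groth.Agent.S16576
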