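import Groth.Statements.S16579
import Mathlib
import Groth.Agent.GabRig.Main

set_option autoImplicit false
universe u
open CategoryTheory AlgebraicGeometry
open Hensel

namespace Groth.Agent.S16579

/-- The case of the constant sheaf on a two-element set. Let (A, I) be a henselian pair with I finitely
generated (A not necessarily Noetherian), Â the I-adic completion of A, π : Spec Â → Spec A the
completion morphism, U a quasi-compact open subscheme of Spec A containing the complement of V(I),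
and Û = π⁻¹(U). Then V ↦ (π|Û)⁻¹(V) is a bijection from the clopen subsets of U onto the clopen
subsets of Û; equivalently, for every finite set F the locally constant F-valued functions on U and
on Û correspond under composition with π. -/
theorem result
    (A : Type u) [CommRing A] (I : Ideal A) (hI : I.FG) [HenselianRing A I]
    (U : (Spec (CommRingCat.of A)).Opens) (hU : IsCompact (U : Set (Spec (CommRingCat.of A))))
    (hUI : ∀ x : Spec (CommRingCat.of A), x ∉ U → I ≤ x.asIdeal) :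
    Function.Bijective (fun V : {V : Set ↥U // IsClopen V} =>
      (⟨((Spec.map (CommRingCat.ofHom (algebraMap A (AdicCompletion I A)))) ∣_ U).base.hom ⁻¹' V.1, V.2.preimage ((Spec.map (CommRingCat.ofHom (algebraMap A (AdicCompletion I A)))) ∣_ U).base.hom.continuous⟩ :
        {V' : Set ↥((Spec.map (CommRingCat.ofHom (algebraMap A (AdicCompletion I A)))) ⁻¹ᵁ U) // IsClopen V'})) := by
  let φ := algebraMap A (AdicCompletion I A)
  let π := Spec.map (CommRingCat.ofHom φ)
  let U₀ : Set (PrimeSpectrum A) := (U : Set (Spec (CommRingCat.of A)))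
  have hlow := GabRig.compl_low I hI
  have hsurj := GabRig.compl_surj I hI
  have hjac : I ≤ Ideal.jacobson ⊥ := HenselianRing.jac
  have hUo : IsOpen U₀ := U.2
  have hval : ∀ x : ↥(π ⁻¹ᵁ U), ((π ∣_ U).base.hom x).1 = PrimeSpectrum.comap φ x.1 := fun x =>
    congrArg (fun g => g.base.hom x) (morphismRestrict_ι π U)
  constructor
  · rintro ⟨V₁, h₁⟩ ⟨V₂, h₂⟩ h
    have h' : (π ∣_ U).base.hom ⁻¹' V₁ = (π ∣_ U).base.hom ⁻¹' V₂ := congrArg Subtype.val h
    refine Subtype.ext ?_
    have key : ∀ W : Set ↥U, IsClopen W → (π ∣_ U).base.hom ⁻¹' W = ∅ → W = ∅ := by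
      intro W hW hW0
      have himg : (Subtype.val '' W : Set (PrimeSpectrum A)) = ∅ := by
        refine GabRig.eq_empty hI hlow hsurj hjac (U := U₀) hU hUI
          (U.2.isOpenMap_subtype_val _ hW.isOpen) (fun _ ⟨w, _, hw⟩ => hw ▸ w.2) ?_ ?_
        · have : U₀ \ Subtype.val '' W = Subtype.val '' Wᶜ := by
            ext x
            exact ⟨fun ⟨hx, hn⟩ => ⟨⟨x, hx⟩, fun hc => hn ⟨_, hc, rfl⟩, rfl⟩,
              fun ⟨w, hw, he⟩ => ⟨he ▸ w.2, fun ⟨w', hw', he'⟩ =>
                hw (Subtype.ext (he'.trans he.symm) ▸ hw')⟩⟩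
          rw [this]
          exact U.2.isOpenMap_subtype_val _ hW.compl.isOpen
        · refine Set.eq_empty_iff_forall_notMem.mpr ?_
          rintro Q ⟨w, hw, hwQ⟩
          have hQ : Q ∈ π ⁻¹ᵁ U := show PrimeSpectrum.comap φ Q ∈ U₀ from hwQ ▸ w.2
          have h0 : (⟨Q, hQ⟩ : ↥(π ⁻¹ᵁ U)) ∈ (π ∣_ U).base.hom ⁻¹' W := by
            have : (π ∣_ U).base.hom ⟨Q, hQ⟩ = w := Subtype.ext ((hval _).trans hwQ.symm)
            show (π ∣_ U).base.hom ⟨Q, hQ⟩ ∈ W
            rw [this]; exact hw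
          rw [hW0] at h0
          exact h0
      exact Set.image_eq_empty.mp himg
    ext x
    constructor
    · intro hx
      by_contra hx'
      have := key (V₁ \ V₂) (h₁.diff h₂) (Set.eq_empty_iff_forall_notMem.mpr fun z hz => hz.2 ((Set.ext_iff.mp h' z).mp hz.1))
      exact (Set.eq_empty_iff_forall_notMem.mp this x) ⟨hx, hx'⟩
    · intro hx
      by_contra hx'
      have := key (V₂ \ V₁) (h₂.diff h₁) (Set.eq_empty_iff_forall_notMem.mpr fun z hz => hz.2 ((Set.ext_iff.mp h' z).mpr hz.1))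
      exact (Set.eq_empty_iff_forall_notMem.mp this x) ⟨hx, hx'⟩
  · rintro ⟨V', hV'⟩
    obtain ⟨V, hVo, hVU, hWo, hVeq⟩ := GabRig.descend (φ := φ) hI hlow hsurj (GabRig.compl_jacobson I hI)
      (U := U₀) hUo hU hUI (V' := Subtype.val '' V')
      ((π ⁻¹ᵁ U).2.isOpenMap_subtype_val _ hV'.isOpen)
      (fun _ ⟨w, _, hw⟩ => hw ▸ w.2) (by
        have : PrimeSpectrum.comap φ ⁻¹' U₀ \ Subtype.val '' V' = Subtype.val '' V'ᶜ := by
          ext x
          exact ⟨fun ⟨hx, hn⟩ => ⟨⟨x, hx⟩, fun hc => hn ⟨_, hc, rfl⟩, rfl⟩,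
            fun ⟨w, hw, he⟩ => ⟨he ▸ w.2, fun ⟨w', hw', he'⟩ =>
              hw (Subtype.ext (he'.trans he.symm) ▸ hw')⟩⟩
        rw [this]
        exact (π ⁻¹ᵁ U).2.isOpenMap_subtype_val _ hV'.compl.isOpen)
    have hclosed : IsClosed (Subtype.val ⁻¹' V : Set ↥U) := by
      refine ⟨?_⟩
      have : (Subtype.val ⁻¹' V : Set ↥U)ᶜ = Subtype.val ⁻¹' (U₀ \ V) := by
        ext x; exact ⟨fun h => ⟨x.2, h⟩, fun h => h.2⟩
      rw [this]
      exact hWo.preimage continuous_subtype_val
    refine ⟨⟨Subtype.val ⁻¹' V, hclosed, hVo.preimage continuous_subtype_val⟩, Subtype.ext ?_⟩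
    ext x
    show ((π ∣_ U).base.hom x).1 ∈ V ↔ x ∈ V'
    rw [hval]
    show x.1 ∈ PrimeSpectrum.comap φ ⁻¹' V ↔ x ∈ V'
    rw [hVeq]
    exact Subtype.val_injective.mem_set_image

end Groth.Agent.S16579
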