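import Groth.Statements.S16583
import Groth.Agent.UnramPoint.Basic
import Groth.Agent.Birat.Basic
import Mathlib.AlgebraicGeometry.Morphisms.Etale


set_option autoImplicit false
set_option linter.style.haveILetI false

universe u
open CategoryTheory AlgebraicGeometry
open EtCore

namespace Groth.Agent.S16583

/-- Let X be a scheme such that every local ring of X is a field and every residue field of X is
algebraically closed, and let f : Y → X be an étale morphism. Then f is Zariski-locally trivial: for
every point y of Y there exist an open V of X containing f(y) and a section s : V → Y of f over V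
whose image contains y. (The published lemma is stated for a specific scheme X^c attached to a
coherent scheme — the constructible topology of a suitable integral cover, which has these two
properties by construction; the row states the assertion for every scheme with these two properties,
which is all the printed proof uses. The lemma's further assertions about the étale and Zariski
topoi, torsors and gerbes on X^c are not included.) -/
theorem result
    (X Y : Scheme.{u}) (hX : ∀ x : X, IsField (X.presheaf.stalk x))
    (hX' : ∀ x : X, IsAlgClosed (X.residueField x))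
    (f : Y ⟶ X) [Etale f] (y : Y) :
    ∃ (V : X.Opens) (s : (V : Scheme.{u}) ⟶ Y), f.base y ∈ V ∧ s ≫ f = V.ι ∧ y ∈ Set.range s.base := by
  have hu : (f.stalkMap y).hom.FormallyUnramified := FormallyUnramified.stalkMap f y
  obtain ⟨hm, hfin, hsep⟩ := (Groth.Agent.UnramPoint.stalkMap_formallyUnramified_iff f y).1 hu
  haveI := hX' (f y)
  letI := (f.residueFieldMap y).hom.toAlgebra
  haveI : Module.Finite (X.residueField (f y)) (Y.residueField y) := hfin
  haveI : Algebra.IsAlgebraic (X.residueField (f y)) (Y.residueField y) := Algebra.IsAlgebraic.of_finite _ _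
  have hres : Function.Surjective (f.residueFieldMap y) := (IsAlgClosed.algebraMap_bijective_of_isIntegral).2
  have hmx : IsLocalRing.maximalIdeal (X.presheaf.stalk (f y)) = ⊥ := IsLocalRing.isField_iff_maximalIdeal_eq.1 (hX (f y))
  rw [hmx, Ideal.map_bot] at hm
  haveI : IsIso (f.stalkMap y) := by
    rw [ConcreteCategory.isIso_iff_bijective]
    letI := (hX (f y)).toField
    refine ⟨(f.stalkMap y).hom.injective, fun z => ?_⟩
    obtain ⟨c, hc⟩ := hres (IsLocalRing.residue _ z)
    obtain ⟨c₀, rfl⟩ := IsLocalRing.residue_surjective c
    refine ⟨c₀, sub_eq_zero.1 ?_⟩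
    have h1 : IsLocalRing.residue _ ((f.stalkMap y) c₀ - z) = 0 := by
      rw [map_sub, sub_eq_zero]; exact hc
    rw [IsLocalRing.residue_eq_zero_iff, ← hm] at h1
    exact h1
  obtain ⟨U', hyU', V', hV', f', hf', -, -, e, -⟩ := Groth.Agent.Birat.exists_isIso_lfp f (𝟙 X) (x := y) (y := f y)
    (f.stalkMap y) (by rw [Category.comp_id, Scheme.SpecMap_stalkMap_fromSpecStalk]) ⊤ trivial ⊤ trivial
  haveI := hf'
  rw [Category.comp_id] at e
  refine ⟨V', inv f' ≫ U'.ι, hV', by rw [Category.assoc, ← e, IsIso.inv_hom_id_assoc], f'.base ⟨y, hyU'⟩, ?_⟩
  show (f' ≫ inv f' ≫ U'.ι).base ⟨y, hyU'⟩ = y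
  rw [IsIso.hom_inv_id_assoc]
  rfl

end Groth.Agent.S16583
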