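import Groth.Statements.S16599
import Groth.Agent.LGRing.Points

set_option autoImplicit false
set_option backward.isDefEq.respectTransparency false
set_option backward.isDefEq.respectTransparency.types false
open AlgebraicGeometry
universe u
open LGRing

namespace Groth.Agent.S16599

/-- Let R be an LG-ring, n ≥ 0, and U an open quasi-compact subscheme of affine n-space Spec R[X₁, …,
Xₙ]. If U has an (R ⧸ m)-valued point over R for every maximal ideal m of R, then U has an R-valued
point: some n-tuple x over R defines a section Spec R ⟶ Spec R[X₁, …, Xₙ] with image inside U. -/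
theorem result {R : Type u} [CommRing R] (hR : LGRing.IsLGRing R)
    (n : ℕ) (U : (Spec (CommRingCat.of (MvPolynomial (Fin n) R))).Opens)
    (hU : IsCompact (U : Set ↥(Spec (CommRingCat.of (MvPolynomial (Fin n) R)))))
    (h : ∀ (m : Ideal R) [m.IsMaximal], ∃ x : Fin n → R ⧸ m,
      Set.range (Spec.map (CommRingCat.ofHom (MvPolynomial.eval₂Hom (Ideal.Quotient.mk m) x))).base ⊆
        (U : Set ↥(Spec (CommRingCat.of (MvPolynomial (Fin n) R))))) :
    ∃ x : Fin n → R, Set.range (Spec.map (CommRingCat.ofHom (MvPolynomial.eval x))).base ⊆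
      (U : Set ↥(Spec (CommRingCat.of (MvPolynomial (Fin n) R)))) := by
  obtain ⟨x, hx⟩ := Groth.Agent.LGRingPoints.exists_point hR (RingHom.id _) U hU (fun m hm => by
    obtain ⟨y, hy⟩ := @h m hm
    choose z hz using fun t => Ideal.Quotient.mk_surjective (y t)
    refine ⟨z, ?_⟩
    have he : (Ideal.Quotient.mk m).comp ((MvPolynomial.eval z).comp (RingHom.id _)) =
        MvPolynomial.eval₂Hom (Ideal.Quotient.mk m) y := by
      refine RingHom.ext fun P => ?_
      rw [← funext hz]
      exact (Groth.Agent.LGRingPoints.quotient_eval m z P).symm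
    rwa [he])
  exact ⟨x, by simpa using hx⟩

end Groth.Agent.S16599
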