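import Groth.Statements.S16602
import Groth.Agent.LGRing.Azumaya

set_option autoImplicit false
set_option linter.style.haveILetI false
set_option backward.isDefEq.respectTransparency false
open Groth.Agent
universe u v w
open Brauer

namespace Groth.Agent.S16602

/-- Let R be an LG-ring with Spec R connected and A an Azumaya R-algebra. Then any two indecomposable
finitely generated projective left A-modules are isomorphic (a module is indecomposable when it is
non-zero and the only idempotents of its endomorphism ring are 0 and 1). (This extends the semilocal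
case.) -/
theorem result {R : Type u} [CommRing R]
    (hR : LGRing.IsLGRing R) [ConnectedSpace (PrimeSpectrum R)] {A : Type v} [Ring A] [Algebra R A] [IsAzumaya R A]
    (P Q : Type w) [AddCommGroup P] [Module A P] [Module.Finite A P] [Module.Projective A P] [Nontrivial P]
    [AddCommGroup Q] [Module A Q] [Module.Finite A Q] [Module.Projective A Q] [Nontrivial Q]
    (hP : ∀ e : Module.End A P, IsIdempotentElem e → e = 0 ∨ e = 1)
    (hQ : ∀ e : Module.End A Q, IsIdempotentElem e → e = 0 ∨ e = 1) : Nonempty (P ≃ₗ[A] Q) := by
  classical
  letI : Module R P := Module.compHom P (algebraMap R A)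
  letI : Module R Q := Module.compHom Q (algebraMap R A)
  haveI : IsScalarTower R A P := IsScalarTower.of_algebraMap_smul fun _ _ => rfl
  haveI : IsScalarTower R A Q := IsScalarTower.of_algebraMap_smul fun _ _ => rfl
  haveI := Module.Finite.trans (R := R) A P
  haveI := Module.Finite.trans (R := R) A Q
  haveI := LGAz.projective_restrict (R := R) (A := A) P
  haveI := LGAz.projective_restrict (R := R) (A := A) Q
  haveI : Module.FinitePresentation R P := Module.finitePresentation_of_projective R P
  haveI : Module.FinitePresentation R Q := Module.finitePresentation_of_projective R Q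
  haveI : Module.Flat R P := Module.Flat.of_projective
  haveI : Module.Flat R Q := Module.Flat.of_projective
  obtain ⟨p₀⟩ := (inferInstance : Nonempty (PrimeSpectrum R))
  have hcP : ∀ p, Module.rankAtStalk (R := R) P p = Module.rankAtStalk (R := R) P p₀ := fun p =>
    PreconnectedSpace.constant inferInstance Module.isLocallyConstant_rankAtStalk.continuous
  have hcQ : ∀ p, Module.rankAtStalk (R := R) Q p = Module.rankAtStalk (R := R) Q p₀ := fun p =>
    PreconnectedSpace.constant inferInstance Module.isLocallyConstant_rankAtStalk.continuous
  have key : ∀ {M N : Type w} [AddCommGroup M] [Module A M] [AddCommGroup N] [Module A N] [Nontrivial N],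
      (∀ e : Module.End A M, IsIdempotentElem e → e = 0 ∨ e = 1) → (f : M →ₗ[A] N) → (g : N →ₗ[A] M) →
      f ∘ₗ g = LinearMap.id → Nonempty (M ≃ₗ[A] N) := by
    intro M N _ _ _ _ _ hM f g hfg
    have hfg' : ∀ y, f (g y) = y := DFunLike.congr_fun hfg
    rcases hM (g ∘ₗ f) (LinearMap.ext fun x => by simp [hfg']) with h | h
    · exfalso
      obtain ⟨y, hy⟩ := exists_ne (0 : N)
      refine hy ?_
      rw [← hfg' y]
      have h1 : g y = 0 := by
        have := DFunLike.congr_fun h (g y)
        simpa [hfg'] using this
      rw [h1, map_zero]
    · exact ⟨LinearEquiv.ofLinearMap f g hfg (h.trans Module.End.one_eq_id)⟩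
  rcases le_total (Module.rankAtStalk (R := R) Q p₀) (Module.rankAtStalk (R := R) P p₀) with h | h
  · obtain ⟨f, g, hfg⟩ := LGAz.exists_split_surjection (A := A) (M := P) (N := Q) hR fun p => by rwa [hcP, hcQ]
    exact key hP f g hfg
  · obtain ⟨f, g, hfg⟩ := LGAz.exists_split_surjection (A := A) (M := Q) (N := P) hR fun p => by rwa [hcP, hcQ]
    obtain ⟨e⟩ := key hQ f g hfg
    exact ⟨e.symm⟩

end Groth.Agent.S16602
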