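import Groth.Statements.S16607
import Groth.Agent.LGRing.Azumaya

set_option autoImplicit false
set_option linter.style.haveILetI false
set_option backward.isDefEq.respectTransparency false
open Groth.Agent
open scoped TensorProduct
universe u v
open Brauer

namespace Groth.Agent.S16607

/-- Let R be an LG-ring, A and B Azumaya R-algebras and n ≥ 1. If Mₙ(A) ≅ Mₙ(B) as R-algebras then A ≅ B
as R-algebras (cancellation of Azumaya algebras). -/
theorem result {R : Type u} [CommRing R]
    (hR : LGRing.IsLGRing R) (A B : Type v) [Ring A] [Algebra R A] [IsAzumaya R A] [Ring B] [Algebra R B]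
    [IsAzumaya R B] (n : ℕ) (hn : 0 < n)
    (e : Matrix (Fin n) (Fin n) A ≃ₐ[R] Matrix (Fin n) (Fin n) B) : Nonempty (A ≃ₐ[R] B) := by
  classical
  haveI : Nonempty (Fin n) := ⟨⟨0, hn⟩⟩
  haveI : FaithfulSMul R (Fin n → R) := ⟨fun {a b} h => by simpa using congrFun (h (fun _ => 1)) ⟨0, hn⟩⟩
  let φ : A ⊗[R] Module.End R (Fin n → R) ≃ₐ[R] B ⊗[R] Module.End R (Fin n → R) :=
    (Algebra.TensorProduct.congr AlgEquiv.refl Matrix.toLinAlgEquiv'.symm).trans <|
      (matrixEquivTensor (Fin n) R A).symm.trans <| e.trans <| (matrixEquivTensor (Fin n) R B).trans <|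
        Algebra.TensorProduct.congr AlgEquiv.refl Matrix.toLinAlgEquiv'
  refine LGAz.cancel hR (Fin n → R) (Fin n → R) (fun p => ?_) φ
  haveI : Module.Flat R A := Module.Flat.of_projective
  haveI : Module.Flat R B := Module.Flat.of_projective
  haveI : Nontrivial R := PrimeSpectrum.nonempty_iff_nontrivial.mp ⟨p⟩
  have h := congrFun (Module.rankAtStalk_eq_of_equiv φ.toLinearEquiv) p
  haveI := Azumaya.isAzumaya_end (R := R) (Fin n → R)
  haveI : Module.Flat R (Module.End R (Fin n → R)) := Module.Flat.of_projective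
  rw [Module.rankAtStalk_tensorProduct, Module.rankAtStalk_tensorProduct, Pi.mul_apply, Pi.mul_apply] at h
  refine Nat.eq_of_mul_eq_mul_right ?_ h
  rw [LGAz.rankAtStalk_end, Module.rankAtStalk_eq_finrank_of_free]
  simp [hn]

end Groth.Agent.S16607
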