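import Groth.Statements.S16608
import Groth.Agent.LGRing.Azumaya

set_option autoImplicit false
set_option linter.style.haveILetI false
set_option backward.isDefEq.respectTransparency false
open Groth.Agent
open scoped TensorProduct
universe u v
open Brauer

namespace Groth.Agent.S16608

/-- Let R be an LG-ring and A, B, C Azumaya R-algebras. If A ⊗_R C ≅ B ⊗_R C as R-algebras then A ≅ B as
R-algebras. -/
theorem result {R : Type u} [CommRing R]
    (hR : LGRing.IsLGRing R) (A B C : Type v) [Ring A] [Algebra R A] [IsAzumaya R A] [Ring B] [Algebra R B]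
    [IsAzumaya R B] [Ring C] [Algebra R C] [IsAzumaya R C]
    (e : A ⊗[R] C ≃ₐ[R] B ⊗[R] C) : Nonempty (A ≃ₐ[R] B) := by
  classical
  let m : C ⊗[R] Cᵐᵒᵖ ≃ₐ[R] Module.End R C := AlgEquiv.ofBijective (AlgHom.mulLeftRight R C) IsAzumaya.bij
  let φ : A ⊗[R] Module.End R C ≃ₐ[R] B ⊗[R] Module.End R C :=
    (Algebra.TensorProduct.congr AlgEquiv.refl m.symm).trans <|
      (Algebra.TensorProduct.assoc R R R A C Cᵐᵒᵖ).symm.trans <|
      (Algebra.TensorProduct.congr e AlgEquiv.refl).trans <|
      (Algebra.TensorProduct.assoc R R R B C Cᵐᵒᵖ).trans <| Algebra.TensorProduct.congr AlgEquiv.refl m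
  refine LGAz.cancel hR C C (fun p => ?_) φ
  haveI : Module.Flat R A := Module.Flat.of_projective
  haveI : Module.Flat R B := Module.Flat.of_projective
  haveI : Module.Flat R C := Module.Flat.of_projective
  have h := congrFun (Module.rankAtStalk_eq_of_equiv e.toLinearEquiv) p
  rw [Module.rankAtStalk_tensorProduct, Module.rankAtStalk_tensorProduct, Pi.mul_apply, Pi.mul_apply] at h
  refine Nat.eq_of_mul_eq_mul_right ?_ h
  refine (Module.rankAtStalk_pos_iff_mem_support p).2 ?_
  rw [Module.support_eq_zeroLocus, Module.annihilator_eq_bot.2 inferInstance]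
  simp

end Groth.Agent.S16608
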