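import Groth.Statements.S16619
import Groth.Agent.LGRing.Corner

set_option autoImplicit false
set_option linter.style.haveILetI false
set_option backward.isDefEq.respectTransparency false
open Groth.Agent
open scoped TensorProduct
universe u
open Brauer

namespace Groth.Agent.S16619

/-- Let R be a connected commutative ring. Then every class of the Brauer group of R is represented by
an Azumaya algebra B with idemp(B) = {0, 1}: for every Azumaya R-algebra A there are such a B and
faithfully projective R-modules P, Q with A ⊗_R End_R(P) ≅ B ⊗_R End_R(Q) as R-algebras. -/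
theorem result {R : Type u} [CommRing R]
    [ConnectedSpace (PrimeSpectrum R)] (A : Type u) [Ring A] [Algebra R A] [IsAzumaya R A] :
    ∃ (B : Type u) (_ : Ring B) (_ : Algebra R B) (_ : IsAzumaya R B) (P Q : Type u) (_ : AddCommGroup P)
      (_ : Module R P) (_ : AddCommGroup Q) (_ : Module R Q),
      (∀ b : B, IsIdempotentElem b → b = 0 ∨ b = 1) ∧ Module.Finite R P ∧ Module.Projective R P ∧
      FaithfulSMul R P ∧ Module.Finite R Q ∧ Module.Projective R Q ∧ FaithfulSMul R Q ∧
      Nonempty (A ⊗[R] Module.End R P ≃ₐ[R] B ⊗[R] Module.End R Q) := by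
  classical
  obtain ⟨p₀⟩ := (inferInstance : Nonempty (PrimeSpectrum R))
  have hconst : ∀ e : A, IsIdempotentElem e → ∀ p, Module.rankAtStalk (R := R) (AzCorner.Left A e) p =
      Module.rankAtStalk (R := R) (AzCorner.Left A e) p₀ := by
    intro e he p
    haveI := AzCorner.finite_left (R := R) e
    haveI := AzCorner.projective_left (R := R) he
    haveI := Module.finitePresentation_of_projective R (AzCorner.Left A e)
    exact (Module.isLocallyConstant_rankAtStalk).apply_eq_of_preconnectedSpace p p₀
  have hpos : ∀ e : A, IsIdempotentElem e → e ≠ 0 → 0 < Module.rankAtStalk (R := R) (AzCorner.Left A e) p₀ := by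
    intro e he hne
    haveI := AzCorner.finite_left (R := R) e
    haveI := AzCorner.projective_left (R := R) he
    refine Nat.pos_of_ne_zero fun h0 => hne ?_
    haveI : Subsingleton (AzCorner.Left A e) :=
      Module.rankAtStalk_eq_zero_iff_subsingleton.1 (funext fun p => (hconst e he p).trans h0)
    exact congrArg Subtype.val
      (Subsingleton.elim (⟨e, 1, one_mul e⟩ : AzCorner.Left A e) 0)
  have hex : ∃ k, ∃ e : A, IsIdempotentElem e ∧ e ≠ 0 ∧ Module.rankAtStalk (R := R) (AzCorner.Left A e) p₀ = k := by
    haveI : Nontrivial R := PrimeSpectrum.nontrivial p₀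
    refine ⟨_, 1, IsIdempotentElem.one, fun h => one_ne_zero (α := R) ?_, rfl⟩
    exact eq_of_smul_eq_smul (α := A) fun a => by rw [← mul_one a, h, mul_zero, smul_zero, smul_zero]
  obtain ⟨e, he, hne, hmin⟩ := Nat.find_spec hex
  haveI := AzCorner.finite_left (R := R) e
  haveI := AzCorner.projective_left (R := R) he
  have hfaith : FaithfulSMul R (AzCorner.Left A e) := AzCorner.faithfulSMul_of_rankAtStalk_pos _ fun p => by
    rw [hconst e he]; exact hpos e he hne
  haveI := AzCorner.isAzumaya_corner (R := R) he hfaith
  let φ := AlgEquiv.ofBijective (AlgHom.mulLeftRight R he.Corner) IsAzumaya.bij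
  let ψ := AlgEquiv.ofBijective (AzCorner.bimodAct R he) (AzCorner.bijective_bimodAct he)
  refine ⟨he.Corner, inferInstance, inferInstance, inferInstance, he.Corner, AzCorner.Left A e, inferInstance,
    inferInstance, inferInstance, inferInstance, fun b hb => ?_, inferInstance, inferInstance, inferInstance,
    inferInstance, inferInstance, hfaith, ⟨?_⟩⟩
  · by_contra hc
    push Not at hc
    let f : A := b.1
    have hf : IsIdempotentElem f := congrArg Subtype.val hb.eq
    obtain ⟨h1, h2⟩ := AzCorner.corner_mul he b
    have hf0 : f ≠ 0 := fun h => hc.1 (Subtype.ext h)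
    have hg0 : e - f ≠ 0 := fun h => hc.2 (Subtype.ext (sub_eq_zero.1 h).symm)
    have hg : IsIdempotentElem (e - f) := by
      show (e - f) * (e - f) = e - f
      rw [sub_mul, mul_sub, mul_sub, he.eq, show e * f = f from h1, show f * e = f from h2, hf.eq]
      abel
    have hadd := AzCorner.left_split (R := R) (e := e) he hf hg
      (by rw [mul_sub, show f * e = f from h2, hf.eq, sub_self])
      (by rw [sub_mul, show e * f = f from h1, hf.eq, sub_self]) (by abel) p₀
    have hlt := hpos _ hg hg0
    exact Nat.find_min hex (m := Module.rankAtStalk (R := R) (AzCorner.Left A f) p₀) (by omega) ⟨f, hf, hf0, rfl⟩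
  · exact (Algebra.TensorProduct.congr AlgEquiv.refl φ.symm).trans
      ((Algebra.TensorProduct.assoc R R R A he.Corner he.Cornerᵐᵒᵖ).symm.trans
      ((Algebra.TensorProduct.congr (Algebra.TensorProduct.comm R A he.Corner) AlgEquiv.refl).trans
      ((Algebra.TensorProduct.assoc R R R he.Corner A he.Cornerᵐᵒᵖ).trans
      (Algebra.TensorProduct.congr AlgEquiv.refl ψ))))

end Groth.Agent.S16619
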