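import Groth.Statements.S16622
import Groth.Agent.ParStd.LexGlobal

set_option backward.isDefEq.respectTransparency false

set_option autoImplicit false
open CategoryTheory MonoidalCategory CartesianMonoidalCategory MonObj GrpObj AlgebraicGeometry
universe u
open Par

namespace Groth.Agent.S16622

/-- Let G be a reductive group scheme over a scheme S, P and Q two parabolic subgroups of G in standard
position — their intersection K = P ∩ Q (a fibre product over G with its induced group structure)
contains a maximal torus of G Zariski-locally on S — and U = rad^u(P) the unipotent radical of P.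
Then there is a parabolic subgroup P' of G through which the multiplication morphism U ×_S K ⟶ G,
(u, h) ↦ u h, factors, the induced morphism U ×_S K ⟶ P' being smooth and surjective; thus P' = K ·
rad^u(P) represents the image sheaf of the multiplication. (The source assumes standard position
fpqc-locally, which it records as equivalent to the Zariski-local form used here.) -/
theorem result {S : Scheme.{u}} {G P Q K U : Over S}
    [GrpObj G] [GrpObj P] [GrpObj Q] [GrpObj K] [GrpObj U] (hG : Red.IsReductive G) (p : P ⟶ G) (q : Q ⟶ G)
    (hP : Red.IsParabolic p) (hQ : Red.IsParabolic q) (m : K ⟶ P) (m' : K ⟶ Q) [IsMonHom m]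
    (hK : IsPullback m m' p q) (uU : U ⟶ P) (hU : Par.IsUnipotentRadical uU)
    (hloc : ∀ s : ↥S, ∃ V : S.Opens, s ∈ V ∧
      ∃ (T : Over (V : Scheme.{u})) (_ : GrpObj T) (t : T ⟶ Red.bc V.ι K),
        IsMonHom t ∧ Red.IsMaximalTorus (t ≫ (Over.pullback V.ι).map (m ≫ p))) :
    ∃ (P' : Over S) (_ : GrpObj P') (p' : P' ⟶ G) (f' : U ⊗ K ⟶ P'), Red.IsParabolic p' ∧
      f' ≫ p' = (fst U K ≫ uU ≫ p) * (snd U K ≫ m ≫ p) ∧ Smooth f'.left ∧ Surjective f'.left := by
  exact Groth.Agent.ParStd.exists_product_parabolic hG p q hP hQ m m' hK uU hU hloc

end Groth.Agent.S16622
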