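import Groth.Statements.S16624
import Groth.Agent.QuotProj.Apps

set_option autoImplicit false
set_option backward.isDefEq.respectTransparency false
set_option backward.isDefEq.respectTransparency.types false
set_option maxHeartbeats 1000000

universe u
open FGA

namespace Groth.Agent.S16624

open AlgebraicGeometry CategoryTheory in
/-- Let S be a Noetherian scheme, n and r natural numbers, l an integer, and E the module O^r ⊗ O(-l) on
projective n-space P^n_S over S. The Quot functor of E over S — sending a locally Noetherian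
S-scheme T to the set of submodules K of E_T (the pullback of E to P^n_S ×_S T) whose quotient E_T/K
is coherent and flat over T, with pullback of submodules as transition maps — is represented by an
S-scheme Q with a universal submodule, and Q is a disjoint union of S-schemes each admitting a
closed immersion over S into some projective space P^m_S. (The source states this for each fixed
Hilbert polynomial; the indexing of the pieces by Hilbert polynomials is not recorded here.) -/
theorem result (S : Scheme.{u}) [IsNoetherian S]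
    (n r : ℕ) (l : ℤ) :
    ∃ (Q : Over S) (K : FGA.QuotSet (CohB1.ProjSpaceOver.toBase n S)
        (CohB1.tensorMod (FlatMod.freeMod (CohB1.ProjSpaceOver n S) r) (Twist.twistOver n S (-l))) Q),
      FGA.QuotRepresentedBy (CohB1.ProjSpaceOver.toBase n S)
        (CohB1.tensorMod (FlatMod.freeMod (CohB1.ProjSpaceOver n S) r) (Twist.twistOver n S (-l))) Q K ∧
      ∃ (ι : Type u) (P : ι → Scheme.{u}) (e : (∐ P) ≅ Q.left) (m : ι → ℕ)
        (c : ∀ a, P a ⟶ CohB1.ProjSpaceOver (m a) S),
        ∀ a, IsClosedImmersion (c a) ∧
          c a ≫ CohB1.ProjSpaceOver.toBase (m a) S = Limits.Sigma.ι P a ≫ e.hom ≫ Q.hom := by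
  haveI : IsProper (CohB1.ProjSpaceOver.toBase n S) := HQProj.isProper_toBase n S
  haveI : IsLocallyNoetherian (CohB1.ProjSpaceOver n S) :=
    LocallyOfFiniteType.isLocallyNoetherian (CohB1.ProjSpaceOver.toBase n S)
  let O := Coh.structureModule (CohB1.ProjSpaceOver n S)
  let M := Twist.twistOver n S (-l)
  have hM : PicF.IsInvertible M := PicFam.isInvertible_twistOver n S (-l)
  have hfree := LinSerMap.isFinLocFreeOfRank_freeMod (CohB1.ProjSpaceOver n S) r
  have hlf : FlatMod.IsFinLocFree (FlatMod.freeMod (CohB1.ProjSpaceOver n S) r) := fun x =>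
    (hfree x).imp fun U hU => ⟨r, hU⟩
  have hE : Coh.IsCoh (CohB1.tensorMod (FlatMod.freeMod (CohB1.ProjSpaceOver n S) r) M) :=
    CohFinite.isCoh_tensor ⟨GrassQ.isQCoh_of_rank hfree,
      PnReg.isFT_of_isFP (GrassQ.isQCoh_of_rank hfree) (LocFree.isFP_of_isFinLocFree hlf)⟩ hM
  let qk : Fin r → (O ⟶ FlatMod.freeMod (CohB1.ProjSpaceOver n S) r) := fun k =>
    Limits.Sigma.ι (fun _ : Fin r => O) k
  haveI : Epi (Limits.Sigma.desc qk) := by
    rw [show Limits.Sigma.desc qk = 𝟙 (∐ fun _ : Fin r => O) from Limits.Sigma.hom_ext _ _ fun k =>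
      (Limits.colimit.ι_desc _ _).trans (Category.comp_id _).symm]
    infer_instance
  haveI := QuotProj.epi_desc_tmap hM qk
  let w : (Scheme.Modules.pullback (𝟙 _)).obj M ≅ CohB1.tensorMod O M :=
    (Scheme.Modules.pullbackId _).app M ≪≫ (TMul.leftUnitIso M).symm
  let q : (∐ fun _ : Fin r => (Scheme.Modules.pullback (𝟙 _)).obj M) ⟶
      CohB1.tensorMod (FlatMod.freeMod (CohB1.ProjSpaceOver n S) r) M :=
    (Limits.Sigma.mapIso fun _ => w).hom ≫ Limits.Sigma.desc fun k => QuotProj.tmapR (qk k) M
  haveI : Epi q := epi_comp _ _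
  exact QuotProj.exists_quot_projective (𝟙 _) (Category.id_comp _) hE r (-l) q

end Groth.Agent.S16624
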