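import Groth.Statements.S16625
import Groth.Agent.PnReg.Push
import Groth.Agent.PnReg.BaseChange
import Groth.Agent.W7Cech.GrauertMain
import Groth.Agent.W7Cech.TwistInv

set_option autoImplicit false
universe u
open FGA

set_option backward.isDefEq.respectTransparency false
set_option backward.isDefEq.respectTransparency.types false

namespace Groth.Agent.S16625

open AlgebraicGeometry CategoryTheory CategoryTheory.Limits in
/-- Let S be a Noetherian scheme with projective n-space π : P^n_S → S, Q a coherent module on P^n_S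
which is flat over S, and m > 0 an integer such that for every point s of S the restriction Q_s of Q
to the fibre P^n_S ×_S Spec κ(s) is m-regular: H^i of the restriction of Q(m - i) = Q ⊗ O(m - i) to
that fibre vanishes for every i ≥ 1. Then for every integer d ≥ m: (1) π_*(Q(d)) is a finite locally
free O_S-module; (2) R^i π_*(Q(d)) = 0 for every i ≥ 1 (higher direct images of the underlying
abelian sheaf); (3) the counit π^*π_*(Q(d)) → Q(d) is an epimorphism. (The source's (1) also says
that the formation of π_*(Q(d)) commutes with arbitrary base change T → S; that clause is not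
recorded here.) -/
theorem result (S : Scheme.{u}) [IsNoetherian S] (n : ℕ)
    (Q : (CohB1.ProjSpaceOver n S).Modules) (hQ : Coh.IsCoh Q)
    (hflat : FlatMod.IsFlatOver (CohB1.ProjSpaceOver.toBase n S) Q) (m : ℤ) (hm : 0 < m)
    (hreg : ∀ (s : S) (i : ℕ), 1 ≤ i →
      Subsingleton (Coh.HH (pullback (CohB1.ProjSpaceOver.toBase n S) (S.fromSpecResidueField s))
        ((Scheme.Modules.pullback
            (pullback.fst (CohB1.ProjSpaceOver.toBase n S) (S.fromSpecResidueField s))).obj
          (CohB1.tensorMod Q (Twist.twistOver n S (m - i)))) i))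
    (d : ℤ) (hd : m ≤ d) :
    FlatMod.IsFinLocFree ((Coh.push (CohB1.ProjSpaceOver.toBase n S)).obj
        (CohB1.tensorMod Q (Twist.twistOver n S d))) ∧
      (∀ i : ℕ, 1 ≤ i → IsZero ((Coh.RpushAb (CohB1.ProjSpaceOver.toBase n S) i).obj
        (Coh.toAb (CohB1.tensorMod Q (Twist.twistOver n S d))))) ∧
      Epi ((Scheme.Modules.pullbackPushforwardAdjunction (CohB1.ProjSpaceOver.toBase n S)).counit.app
        (CohB1.tensorMod Q (Twist.twistOver n S d))) := by
  haveI := HQProj.isProper_toBase n S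
  haveI := (PicFam.flat_lfp_toBase n S).2
  haveI : IsLocallyNoetherian (CohB1.ProjSpaceOver n S) :=
    LocallyOfFiniteType.isLocallyNoetherian (CohB1.ProjSpaceOver.toBase n S)
  haveI : Nonempty (HasInjectiveResolutions (CohB1.ProjSpaceOver n S).Modules) := ⟨inferInstance⟩
  set π := CohB1.ProjSpaceOver.toBase n S
  have hL : ∀ c : ℤ, PicF.IsInvertible (Twist.twistOver n S c) := fun c =>
    PicLoc.isInvertible_pullback _ (CohFinite.isInvertible_twist n _ c)
  have hMc : ∀ c : ℤ, Coh.IsCoh (CohB1.tensorMod Q (Twist.twistOver n S c)) := fun c =>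
    CohFinite.isCoh_tensor hQ (hL c)
  have hMf : ∀ c : ℤ, FlatMod.IsFlatOver π (CohB1.tensorMod Q (Twist.twistOver n S c)) := fun c =>
    W7Cech.isFlatOver_tensor_invertible π hQ.1 hflat (hL c)
  -- vanishing of the higher direct images of Q(m - i)
  have h1 : ∀ i : ℕ, 1 ≤ i → IsZero ((Coh.RpushAb π i).obj
      (Coh.toAb (CohB1.tensorMod Q (Twist.twistOver n S (m - i))))) := by
    intro i hi
    have hz := W7Cech.isZero_restrict_of_vanish π (hMc (m - i)) (hMf (m - i)) i ⊤ fun y _ => hreg y i hi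
    have hR : Coh.IsQCoh ((Coh.Rpush π i).obj (CohB1.tensorMod Q (Twist.twistOver n S (m - i)))) :=
      RPushQC.isQCoh_rpush π _ (hMc (m - i)).1 i
    have hz' : IsZero ((Coh.Rpush π i).obj (CohB1.tensorMod Q (Twist.twistOver n S (m - i)))) := by
      refine CohFinite.isZero_of_affine_cover _ hR (fun V : S.affineOpens => V.1) (fun V => V.2)
        (fun x => by
          obtain ⟨V, hV, hx, -⟩ := exists_isAffineOpen_mem_and_subset (X := S) (x := x) (U := ⊤) trivial
          exact ⟨⟨V, hV⟩, hx⟩) fun V s => ?_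
      have h0 := AddCommGrpCat.subsingleton_of_isZero
        ((Functor.map_isZero (SheafOfModules.toSheaf _ ⋙ sheafToPresheaf _ _) hz).obj
          (Opposite.op ((⊤ : S.Opens).ι ⁻¹ᵁ V.1)))
      let a := (((Coh.Rpush π i).obj (CohB1.tensorMod Q (Twist.twistOver n S (m - i)))).restrictAppIso
        (⊤ : S.Opens).ι ((⊤ : S.Opens).ι ⁻¹ᵁ V.1)).addCommGroupIsoToAddEquiv
      have hV : (⊤ : S.Opens).ι ''ᵁ ((⊤ : S.Opens).ι ⁻¹ᵁ V.1) = V.1 := by
        rw [Scheme.Hom.image_preimage_eq_opensRange_inf, Scheme.Opens.opensRange_ι, top_inf_eq]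
      have h2 : Subsingleton Γ((Coh.Rpush π i).obj (CohB1.tensorMod Q (Twist.twistOver n S (m - i))),
          (⊤ : S.Opens).ι ''ᵁ ((⊤ : S.Opens).ι ⁻¹ᵁ V.1)) := a.toEquiv.subsingleton_congr.1 h0
      rw [hV] at h2
      exact Subsingleton.elim _ _
    obtain ⟨e⟩ := CohQC.toAb_rpush_iso π (CohB1.tensorMod Q (Twist.twistOver n S (m - i))) i
    exact (Functor.map_isZero (SheafOfModules.toSheaf _) hz').of_iso e.symm
  have hregm : KRR.IsRegSheaf n S (KRR.twF n S m Q) := fun i hi => by
    obtain ⟨e⟩ := PnReg.nonempty_twF_twF Q (-(i : ℤ)) m (m - i) (by omega)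
    exact (h1 i hi).of_iso ((Coh.RpushAb π i).mapIso ((SheafOfModules.toSheaf _).mapIso
      (e ≪≫ (PnReg.twComm _ Q).symm)))
  have hregd : KRR.IsRegSheaf n S (CohB1.tensorMod Q (Twist.twistOver n S d)) := by
    obtain ⟨k, hk⟩ : ∃ k : ℕ, d = (k : ℤ) + m := ⟨(d - m).toNat, by omega⟩
    obtain ⟨e⟩ := PnReg.nonempty_twF_twF Q (k : ℤ) m d hk.symm
    exact PnReg.isRegSheaf_of_iso (e ≪≫ (PnReg.twComm _ Q).symm)
      (PnReg.isRegSheaf_twF (PnReg.isQCoh_twF _ hQ.1) hregm k)
  refine ⟨?_, fun i hi => PnReg.isZero_rpush_of_reg (hMc d).1 hregd i hi, PnReg.epi_counit (hMc d).1 hregd⟩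
  have hfp : CohB1.IsFP (CohB1.tensorMod Q (Twist.twistOver n S d)) := by
    haveI := (hMc d).1
    exact QC.isFP_of_isQCoh_of_isFT (hMc d).2
  exact W7Hull.isFinLocFree_push_of_vanish π (hMc d).1 hfp (hMf d) fun y =>
    ⟨⊤, trivial, fun V hV _ p => PnReg.subsingleton_rpush_sections (hMc d).1 hregd hV p⟩

end Groth.Agent.S16625
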