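import Groth.Statements.S16629
import Groth.Agent.GrassQ.SubObj
import Groth.Agent.GrassQ.Plucker

set_option autoImplicit false
set_option backward.isDefEq.respectTransparency false
set_option backward.isDefEq.respectTransparency.types false
set_option maxHeartbeats 1000000

universe u
open Grass Groth.Agent

namespace Groth.Agent.S16629

open AlgebraicGeometry CategoryTheory CategoryTheory.Limits in
/-- Let S be a Noetherian scheme, V a finite locally free O_S-module of rank n, and 0 < q < n. The
Grassmannian functor Gr(q, V) — sending an S-scheme T to the set of submodules K of V_T (the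
pullback of V to S ×_S T) whose quotient V_T/K is finite locally free of rank q, with pullback of
submodules as transition maps — is represented by an S-scheme G carrying a universal such submodule;
and for every O_S-module L that is a q-th exterior power of V and every projective bundle π : P → S
of L (an invertible quotient O_P(1) of π^*L with the universal property for invertible quotients of
pullbacks of L), there is a closed immersion G → P over S. (In the source the closed immersion is
the Plücker morphism sending a quotient to its top exterior power; here it is only asserted to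
exist.) -/
theorem result (S : Scheme.{u}) [IsNoetherian S]
    (n q : ℕ) (hq : 0 < q) (hqn : q < n) (V : S.Modules) (hV : FlatMod.IsFinLocFreeOfRank n V) :
    ∃ (G : Over S) (K : Subobject (FGA.ET (𝟙 S) V G)),
      FlatMod.IsFinLocFreeOfRank q (cokernel K.arrow) ∧
      (∀ (T : Over S) (K' : Subobject (FGA.ET (𝟙 S) V T)),
        FlatMod.IsFinLocFreeOfRank q (cokernel K'.arrow) → ∃! g : T ⟶ G, FGA.quotPull (𝟙 S) V g K = K') ∧
      (∀ (L : S.Modules), ExtPow.IsExtPow q V L →
        ∀ (P : Scheme.{u}) (π : P ⟶ S) (O1 : P.Modules) (u : (Scheme.Modules.pullback π).obj L ⟶ O1),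
          KRR.IsProjBundle π L O1 u →
            ∃ c : G.left ⟶ P, IsClosedImmersion c ∧ c ≫ π = G.hom) := by
  classical
  have hVl : FlatMod.IsFinLocFree V := fun x => by
    obtain ⟨W, hW, h⟩ := hV x
    exact ⟨W, n, hW, h⟩
  have hVq : Coh.IsQCoh V := LocFree.isQCoh_of_isFinLocFree hVl
  obtain ⟨G, π₀, Q, q₀, hG⟩ := GrassQ.exists_isGrass (e := q) hVq
  let A : GrassQ.Pair V q G := ⟨π₀, Q, hG.rank, q₀, hG.epi⟩
  have hA : GrassQ.IsUniv A := GrassQ.isUniv_of_isGrass hG
  obtain ⟨K, hK, huniv⟩ := GrassQ.exists_representing_subobject hVq hA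
  refine ⟨Over.mk A.g, K, hK, huniv, fun L hL P π O1 u hP => ?_⟩
  obtain ⟨φ, hφ⟩ := hL
  obtain ⟨φ', hφ'⟩ := SGA6Ext.isExtPow_extSh V q hVl
  obtain ⟨iso⟩ := SGA6Ext.nonempty_iso_of_phi (φ := φ') hφ' (φ' := φ) hφ
  obtain ⟨m, hm⟩ : ∃ m, n.choose q = m + 1 :=
    ⟨n.choose q - 1, (Nat.succ_pred_eq_of_pos (Nat.choose_pos hqn.le)).symm⟩
  have hrankS : FlatMod.IsFinLocFreeOfRank (n.choose q) (SGA6Ext.extSh V q) :=
    W7Strat.isFinLocFreeOfRank_of_frames fun x => by
      obtain ⟨U, e, hxU, he⟩ := CurveRR.exists_frame hV x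
      obtain ⟨f, hf⟩ := SGA6Ext.exists_frame_extSh V q he
      exact ⟨U, f, hxU, hf⟩
  have hrankL : FlatMod.IsFinLocFreeOfRank (m + 1) L := fun x => by
    obtain ⟨W, hW, ⟨b⟩⟩ := hrankS x
    refine ⟨W, hW, ?_⟩
    rw [← hm]
    exact ⟨(Scheme.Modules.restrictFunctor W.ι).mapIso iso.symm ≪≫ b⟩
  have hLq : Coh.IsQCoh L := GrassQ.isQCoh_of_rank hrankL
  haveI : IsProper π := PBReg.isProper (T := S) (n := m) ⟨P, π, L, hrankL, O1, u, hP⟩
  have hO : GrassQ.IsUniv (⟨π, O1, hP.invertible, u, hP.epi⟩ : GrassQ.Pair L 1 P) :=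
    GrassQ.isUniv_of_isGrass (Grass.IsGrass.of_isProjBundle hP)
  haveI : IsSeparated (⟨π, O1, hP.invertible, u, hP.epi⟩ : GrassQ.Pair L 1 P).g :=
    (inferInstance : IsSeparated π)
  exact GrassQ.exists_closedImmersion_plucker φ hφ hA hVq hLq hO

end Groth.Agent.S16629
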