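import Groth.Statements.S1663
import Groth.Agent.DQPush.Acyclic

set_option autoImplicit false
universe u
open CategoryTheory CategoryTheory.Limits AlgebraicGeometry
open Variety

set_option backward.isDefEq.respectTransparency false
set_option backward.isDefEq.respectTransparency.types false

namespace Groth.Agent.S1663

/-- Let X be a scheme whose local rings are Noetherian of Krull dimension at most one, j : U → X the
inclusion of a retrocompact open (j quasi-compact) and F a quasi-coherent O_U-module. Then R^p j_* F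
vanishes for all p > 0. -/
theorem result (X : Scheme.{u})
    (hX : ∀ x : X, IsNoetherianRing (X.presheaf.stalk x) ∧ ringKrullDim (X.presheaf.stalk x) ≤ 1)
    (U : X.Opens) [QuasiCompact U.ι] [HasInjectiveResolutions (U : Scheme.{u}).Modules]
    (F : (U : Scheme.{u}).Modules) (hF : Coh.IsQCoh F) (p : ℕ) (hp : 0 < p) :
    IsZero ((Coh.Rpush U.ι p).obj F) := by
  haveI : IsAffineHom U.ι := by
    refine isAffineHom_of_forall_exists_isAffineOpen _ fun x => ?_
    obtain ⟨V, hV, hxV, -⟩ := exists_isAffineOpen_mem_and_subset (X := X) (x := x) (U := ⊤) trivial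
    have hc : IsCompact ((U ⊓ V : X.Opens) : Set X) := by
      have h := (U.ι.isCompact_preimage hV.isCompact).image U.ι.continuous
      rwa [Scheme.Hom.coe_preimage, Set.image_preimage_eq_inter_range, Scheme.Opens.range_ι, Set.inter_comm] at h
    have hcov : ∀ y ∈ (U ⊓ V : X.Opens), ∃ f : Γ(X, V), X.basicOpen f ≤ U ⊓ V ∧ y ∈ X.basicOpen f :=
      fun y hy => hV.exists_basicOpen_le ⟨y, hy⟩ hy.2
    choose f hfle hfy using hcov
    obtain ⟨t, ht⟩ := hc.elim_finite_subcover (fun y : ↥(U ⊓ V : X.Opens) => (X.basicOpen (f y.1 y.2) : Set X))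
      (fun y => (X.basicOpen _).2) (fun y hy => Set.mem_iUnion.2 ⟨⟨y, hy⟩, hfy y hy⟩)
    classical
    let S : Finset Γ(X, V) := t.image fun y => f y.1 y.2
    let I : Ideal Γ(X, V) := Ideal.span S
    let p := (hV.primeIdealOf ⟨x, hxV⟩).asIdeal
    let R := X.presheaf.stalk x
    letI := TopCat.Presheaf.algebra_section_stalk X.presheaf (⟨x, hxV⟩ : V)
    haveI : IsLocalization.AtPrime R p := hV.isLocalization_stalk ⟨x, hxV⟩
    haveI : IsNoetherianRing R := (hX x).1
    have hfin : {q : Ideal R | q.IsPrime}.Finite := by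
      refine ((minimalPrimes.finite_of_isNoetherianRing R).union (Set.finite_singleton (IsLocalRing.maximalIdeal R))).subset
        fun q hq => ?_
      by_cases hm : q = IsLocalRing.maximalIdeal R
      · exact Or.inr hm
      refine Or.inl ⟨⟨hq, bot_le⟩, fun q' hq' hle => ?_⟩
      rcases eq_or_lt_of_le hle with e | hlt
      · exact e.ge
      exfalso
      haveI : q.IsPrime := hq
      haveI : q'.IsPrime := hq'.1
      have h1 := Ideal.height_strict_mono_of_isPrime hlt
      have h2 := Ideal.height_strict_mono_of_isPrime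
        (lt_of_le_of_ne (IsLocalRing.le_maximalIdeal (Ideal.IsPrime.ne_top hq)) hm)
      have h3 : (IsLocalRing.maximalIdeal R).height ≤ 1 := by
        have h := (hX x).2
        rw [← IsLocalRing.maximalIdeal_height_eq_ringKrullDim] at h
        exact_mod_cast h
      exact absurd (lt_of_lt_of_le h2 h3) (not_lt.2 (Order.one_le_iff_ne_zero.2 (ne_bot_of_gt h1)))
    let T : Finset (Ideal R) := hfin.toFinset.filter fun q => ¬ I.map (algebraMap Γ(X, V) R) ≤ q
    obtain ⟨g, hgI, hg⟩ : ∃ g ∈ I, ∀ q ∈ T, algebraMap Γ(X, V) R g ∉ q := by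
      by_contra hcon
      push Not at hcon
      obtain ⟨q, hqT, hq⟩ := (Ideal.subset_union_prime (s := T) (f := fun q => q.comap (algebraMap Γ(X, V) R)) ⊤ ⊤
        (fun q hq _ _ => by
          haveI : q.IsPrime := hfin.mem_toFinset.1 (Finset.mem_filter.1 hq).1
          exact Ideal.IsPrime.comap _)).1
        (show (I : Set Γ(X, V)) ⊆ _ from fun g hg => by
          obtain ⟨q, hq, hgq⟩ := hcon g hg
          exact Set.mem_iUnion₂.2 ⟨q, hq, hgq⟩)
      exact (Finset.mem_filter.1 hqT).2 (Ideal.map_le_iff_le_comap.2 hq)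
    have hS : ∀ a : Γ(X, V), ∃ c : Γ(X, V), c ∉ p ∧ (a ∈ S → ∀ y, y ∈ X.basicOpen a → y ∈ X.basicOpen c → y ∈ X.basicOpen g) := by
      intro a
      by_cases ha : a ∈ S
      swap
      · exact ⟨1, p.primeCompl.one_mem, fun h => absurd h ha⟩
      have hr : algebraMap Γ(X, V) R a ∈ (Ideal.span {algebraMap Γ(X, V) R g}).radical := by
        rw [Ideal.radical_eq_sInf]
        refine Submodule.mem_sInf.2 fun q hq => ?_
        by_contra hna
        refine hg q (Finset.mem_filter.2 ⟨hfin.mem_toFinset.2 hq.2, fun hle => hna ?_⟩)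
          (hq.1 (Ideal.mem_span_singleton_self _))
        exact hle (Ideal.mem_map_of_mem _ (Ideal.subset_span ha))
      obtain ⟨n, hn⟩ := hr
      rw [← map_pow, ← Set.image_singleton, ← Ideal.map_span] at hn
      obtain ⟨c, hc⟩ := (IsLocalization.algebraMap_mem_map_algebraMap_iff p.primeCompl R _ _).1 hn
      refine ⟨c, hc.1, fun _ y hya hyc => ?_⟩
      obtain ⟨b, hb⟩ := Ideal.mem_span_singleton'.1 hc.2
      have hyV : y ∈ V := X.basicOpen_le a hya
      rw [X.mem_basicOpen _ y hyV] at hya hyc ⊢
      have := hyc.mul (hya.pow n)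
      rw [← map_pow, ← map_mul, ← hb, map_mul] at this
      exact isUnit_of_mul_isUnit_right this
    choose c hcp hc using hS
    let s := ∏ a ∈ S, c a
    have hs : x ∈ X.basicOpen s := by
      rw [X.mem_basicOpen _ x hxV]
      exact IsLocalization.map_units R (⟨s, prod_mem fun a _ => hcp a⟩ : p.primeCompl)
    refine ⟨X.basicOpen s, hs, hV.basicOpen s, ?_⟩
    rw [← U.ι.isAffineOpen_iff_of_isOpenImmersion, Scheme.Hom.image_preimage_eq_opensRange_inf, Scheme.Opens.opensRange_ι]
    have e : U ⊓ X.basicOpen s = X.basicOpen (g * s) := by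
      rw [X.basicOpen_mul]
      refine le_antisymm (le_inf ?_ inf_le_right) (le_inf ?_ inf_le_right)
      · intro y hy
        have hyV : y ∈ V := X.basicOpen_le s hy.2
        obtain ⟨a, hat, hya⟩ := Set.mem_iUnion₂.1 (ht (show y ∈ ((U ⊓ V : X.Opens) : Set X) from ⟨hy.1, hyV⟩))
        refine hc (f a.1 a.2) (Finset.mem_image_of_mem _ hat) y hya ?_
        have h2 := (X.mem_basicOpen _ y hyV).1 hy.2
        rw [X.mem_basicOpen _ y hyV]
        rw [show s = c (f a.1 a.2) * ∏ a' ∈ S.erase (f a.1 a.2), c a' from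
          (Finset.mul_prod_erase _ _ (Finset.mem_image_of_mem _ hat)).symm, map_mul] at h2
        exact isUnit_of_mul_isUnit_left h2
      · intro y hy
        have hyg : y ∈ X.basicOpen g := hy.1
        have hyV : y ∈ V := X.basicOpen_le g hyg
        by_contra hyU
        have h1 : ∀ a ∈ S, a ∈ (IsLocalRing.maximalIdeal (X.presheaf.stalk y)).comap (X.presheaf.germ V y hyV).hom := by
          intro a ha hu
          obtain ⟨z, -, rfl⟩ := Finset.mem_image.1 ha
          exact hyU (hfle z.1 z.2 ((X.mem_basicOpen _ y hyV).2 hu)).1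
        exact Ideal.span_le.2 h1 hgI ((X.mem_basicOpen _ y hyV).1 hyg)
    rw [e]
    exact hV.basicOpen _
  haveI : (F : (U : Scheme.{u}).Modules).IsQuasicoherent := hF
  exact Groth.Agent.DQPush.isZero_rpush_of_affine U.ι F hF hp

end Groth.Agent.S1663
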