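import Groth.Statements.S16631
import Groth.Agent.TFCurvStab.Basic
import Groth.Agent.ResolveCurve.Equiv
import Groth.Agent.NormCoker.Basic
import Groth.Agent.GeomProp.NormalColim
import Groth.Agent.PicNorm.Main

set_option autoImplicit false
universe u
open CategoryTheory CategoryTheory.Limits AlgebraicGeometry
open TFCurv

set_option backward.isDefEq.respectTransparency false
set_option backward.isDefEq.respectTransparency.types false

namespace Groth.Agent.S16631

/-- Suppose k is an algebraically closed field and X is an integral proper curve over k (integral,
proper, of dimension one), with normalisation ν : X~ → X. Given an ample invertible module L on X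
and a finite locally free module E of rank n on X~, the direct image ν_*E on X is stable exactly
when E itself is stable. Here stability means stability of pure one-dimensional sheaves measured by
reduced Hilbert polynomials, where E carries the polarisation ν^*L and ν_*E carries L; for an
integral curve this amounts to the slope inequality deg F · rk E < deg E · rk F holding for each
nonzero torsion-free subsheaf F whose rank is smaller, with degrees computed via the Euler
characteristic, and the condition is independent of which ample polarisation is chosen. -/
theorem result (k : Type u) [Field k] [IsAlgClosed k] (X : Scheme.{u}) [X.Over (Spec (CommRingCat.of k))] [IsIntegral X] [IsProper (X ↘ Spec (CommRingCat.of k))] (hdim : topologicalKrullDim X = 1) [QuasiCompact (X.fromSpecStalk (genericPoint X))] [QuasiSeparated (X.fromSpecStalk (genericPoint X))] (L : X.Modules) (hL : CohB1.IsAmple L) (n : ℕ) (E : (Curv2.normalization X).Modules) (hE : FlatMod.IsFinLocFreeOfRank n E) :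
    letI : (Curv2.normalization X).Over (Spec (CommRingCat.of k)) := ⟨Curv2.normalizationι X ≫ X ↘ Spec (CommRingCat.of k)⟩
    ShStab.IsStable k (Curv2.normalization X) ((Scheme.Modules.pullback (Curv2.normalizationι X)).obj L) E 1 ↔ ShStab.IsStable k X L ((Coh.push (Curv2.normalizationι X)).obj E) 1 := by
  letI : (Curv2.normalization X).Over (Spec (CommRingCat.of k)) := ⟨Curv2.normalizationι X ≫ X ↘ Spec (CommRingCat.of k)⟩
  let f := X ↘ Spec (CommRingCat.of k)
  haveI := CurveRR.isNoetherian_of_proper k X
  haveI : IsFinite (Curv2.normalizationι X) := NormCoker.isFinite_normalizationι X fun U => by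
    have hφ : RingHom.FiniteType (f.appLE ⊤ U.1 le_top).hom :=
      HasRingHomProperty.appLE (P := @LocallyOfFiniteType) f inferInstance ⟨⊤, isAffineOpen_top _⟩ U le_top
    let φ := (Scheme.ΓSpecIso (CommRingCat.of k)).inv ≫ f.appLE ⊤ U.1 le_top
    letI : Algebra k Γ(X, U.1) := φ.hom.toAlgebra
    haveI : Algebra.FiniteType k Γ(X, U.1) :=
      hφ.comp (RingHom.FiniteType.of_surjective _ (Scheme.ΓSpecIso (CommRingCat.of k)).commRingCatIsoToRingEquiv.symm.surjective)
    exact Nagata.isNagata_of_finiteType (R := k) (GeomProp.isN2_quotient_field k)
  haveI : IsProper ((Curv2.normalization X) ↘ Spec (CommRingCat.of k)) :=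
    inferInstanceAs (IsProper (Curv2.normalizationι X ≫ X ↘ Spec (CommRingCat.of k)))
  obtain ⟨U, hU, hiso⟩ := ResolveCurve.exists_iso_normalization X
  haveI := hiso
  exact TFCurvStab.isStable_iff k (Curv2.normalizationι X) rfl hL hdim.le U (U.isOpen.dense hU) (CurveRR.isCoh_of_rank hE)

end Groth.Agent.S16631
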