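import Groth.Statements.S16635
import Groth.Agent.HensPar.Borel
import Groth.Agent.S3922
import Groth.Agent.S2959

set_option autoImplicit false
open CategoryTheory MonoidalCategory CartesianMonoidalCategory MonObj GrpObj AlgebraicGeometry
universe u
set_option backward.isDefEq.respectTransparency false
set_option maxHeartbeats 1000000
set_option synthInstance.maxHeartbeats 400000
open Red
open Groth.Agent
open scoped CategoryTheory.Obj

namespace Groth.Agent.S16635

/-- A reductive group scheme G over a henselian local ring A with finite residue field is quasi-split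
(it has a Borel subgroup: a closed smooth subgroup scheme with Borel geometric fibres), and it
becomes split over some local finite etale A-algebra A' (the base change to Spec A' admits a
splitting: a split maximal torus with its root datum, root homomorphisms for all roots and
representatives of the reflections). -/
theorem result
    (A : Type u) [CommRing A] [HenselianLocalRing A] [Finite (IsLocalRing.ResidueField A)]
    (G : Over (Spec (CommRingCat.of A))) [GrpObj G] (hG : Red.IsReductive G) :
    (∃ (B : Over (Spec (CommRingCat.of A))) (_ : GrpObj B) (b : B ⟶ G), Red.IsBorel b) ∧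
    ∃ (A' : Type u) (_ : CommRing A') (_ : Algebra A A') (_ : IsLocalRing A'),
      Module.Finite A A' ∧ Algebra.Etale A A' ∧
      Nonempty (Red.SplitRed (Red.bc (Spec.map (CommRingCat.ofHom (algebraMap A A'))) G)) := by
  have hG₀ := DynPar.isReductive_bc (HensPar.cl A) hG
  haveI := hG₀.2.1
  haveI : IsAffine (Red.bc (HensPar.cl A) G).left := by
    haveI := hG₀.1
    exact isAffine_of_isAffineHom (Red.bc (HensPar.cl A) G).hom
  haveI : ConnectedSpace (Red.bc (HensPar.cl A) G).left := by
    haveI := Rigid.geometricallyConnected_of_geomFibre (Red.bc (HensPar.cl A) G) fun s => (hG₀.2.2 s).2.2.1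
    exact GeometricallyConnected.geometrically_connectedSpace (f := (Red.bc (HensPar.cl A) G).hom) (𝟙 _) (𝟙 _)
      (Red.bc (HensPar.cl A) G).hom (IsPullback.id_horiz _)
  obtain ⟨B₀, _, b₀, _, _, _, hb₀, -⟩ :=
    Groth.Agent.S3922.result (IsLocalRing.ResidueField A) (Red.bc (HensPar.cl A) G)
  obtain ⟨T, _, i, hi⟩ := HensPar.exists_maximalTorus hG
  obtain ⟨A', _, _, _, het, hfin, r, hr⟩ := HensPar.exists_split_finite_etale hi.2.2.1
  refine ⟨HensPar.exists_borel_lift hG B₀ b₀ hb₀, A', inferInstance, inferInstance, inferInstance, hfin, het, ?_⟩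
  haveI := hG.1; haveI := hG.2.1
  have hi' := Chev.MaxTorusBC.isMaximalTorus_bc i hi (Spec.map (CommRingCat.ofHom (algebraMap A A')))
  obtain ⟨D, -, -⟩ := Groth.Agent.S2959.result A' _ _
    (DynPar.isReductive_bc (Spec.map (CommRingCat.ofHom (algebraMap A A'))) hG) _ hi' (Fin r → ℤ) hr
  exact ⟨D⟩

end Groth.Agent.S16635
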