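import Groth.Statements.S16638
import Groth.Agent.RootBase.UPsiEmpty
-- import your own Groth.Agent.* helpers here

set_option autoImplicit false
open CategoryTheory MonoidalCategory CartesianMonoidalCategory MonObj GrpObj AlgebraicGeometry
universe u
open RedSub

set_option backward.isDefEq.respectTransparency false

namespace Groth.Agent.S16638

/-- Let G be a reductive group scheme over a scheme S with a splitting D, and let Ψ be a closed set of
roots (a, b ∈ Ψ with a + b a root forces a + b ∈ Ψ) containing no pair of opposite roots. Then the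
root groups U_a, a ∈ Ψ, directly span, in any order, one and the same closed subgroup scheme U_Ψ of
G: U_Ψ is smooth over S with connected geometric fibres containing no non-trivial subtorus, it is
normalised by the torus of the splitting, and for every enumeration of Ψ the ordered product of the
root homomorphisms is an isomorphism from a power of the additive group onto U_Ψ. -/
theorem result {S : Scheme.{u}} {G : Over S} [GrpObj G]
    (D : Red.SplitRed G) (Ψ : Set D.idx)
    (hcl : ∀ a b c : D.idx, a ∈ Ψ → b ∈ Ψ → D.P.root a + D.P.root b = D.P.root c → c ∈ Ψ)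
    (hneg : ∀ a b : D.idx, a ∈ Ψ → D.P.root b = -D.P.root a → b ∉ Ψ) :
    ∃ (U : Over S) (_ : GrpObj U) (v : U ⟶ G), IsMonHom v ∧ IsClosedImmersion v.left ∧ Smooth U.hom ∧
      (∀ s : S, ConnectedSpace (Red.geomFibre s U).left ∧
        Red.HasNoSubtorus (AlgebraicClosure (S.residueField s)) (Red.geomFibre s U)) ∧
      (∀ (X : Over S) (t : X ⟶ D.T) (x : X ⟶ U), ∃ x' : X ⟶ U, (t ≫ D.i) * (x ≫ v) * (t ≫ D.i)⁻¹ = x' ≫ v) ∧
      ∀ {m : ℕ} (e : Fin m → D.idx), RedSub.Enumerates Ψ e →
        ∃ ψ : RedSub.pow (Red.Ga S) m ≅ U, ψ.hom ≫ v = RedSub.prodMap (Red.Ga S) m (fun k => D.u (e k)) := by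
  letI := D.grpT
  letI := D.acgM
  letI := D.fintypeIdx
  letI := D.finiteM
  letI := D.freeM
  rcases isEmpty_or_nonempty S with hS | hS
  · refine ⟨𝟙_ (Over S), inferInstance, (1 : 𝟙_ (Over S) ⟶ G),
      HomDiag.isMonHom_of_mul _ fun X x y => RootBase.hom_eq_of_isEmpty _ _,
      RootBase.isClosedImmersion_of_isEmpty _, inferInstanceAs (Smooth (𝟙 S)), fun s => isEmptyElim s,
      fun X t x => ⟨x, RootBase.hom_eq_of_isEmpty _ _⟩, fun {m} e _ => ?_⟩
    obtain ⟨ψ, -⟩ := RootBase.exists_iso_of_isEmpty (RedSub.pow (Red.Ga S) m) (𝟙_ (Over S))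
    exact ⟨ψ, RootBase.hom_eq_of_isEmpty _ _⟩
  haveI := RootBase.isReduced_of_splitRed D
  have F := RootBase.frame_of_splitRed D
  have hc : RootD.IsClosedSub D.P Ψ := fun a b k ha hb hk => hcl a b k ha hb hk.symm
  obtain ⟨mu, hmu⟩ := RootBase.exists_pos_closed hc fun a ha => hneg a _ ha (RootSys.root_opp a)
  obtain ⟨U, hU, v, h1, h2, h3, h4, h5, -, h7⟩ := F.exists_UPsi hc mu hmu
  refine ⟨U, hU, v, h1, h2, h3, h4, fun X t x => ?_, h7⟩
  obtain ⟨x', hx'⟩ := h5 X (t ≫ D.split.hom.hom.hom) x
  have hinv : D.split.hom.hom.hom ≫ D.split.inv.hom.hom = 𝟙 _ := congrArg (fun z => z.hom.hom) D.split.hom_inv_id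
  rw [Category.assoc, reassoc_of% hinv] at hx'
  exact ⟨x', hx'⟩

end Groth.Agent.S16638
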