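import Groth.Statements.S16643
import Groth.Agent.RootBase.BorelCell
import Groth.Agent.BorelConj.Points
-- import your own Groth.Agent.* helpers here

set_option autoImplicit false
open CategoryTheory MonoidalCategory CartesianMonoidalCategory MonObj GrpObj AlgebraicGeometry
universe u
open RedSub

set_option backward.isDefEq.respectTransparency false

set_option backward.isDefEq.respectTransparency false
set_option maxHeartbeats 4000000
set_option synthInstance.maxHeartbeats 400000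

namespace Groth.Agent.S16643

/-- Let G be a reductive group scheme over a scheme S with a splitting D (torus T) and B a Borel
subgroup of G. (1) Zariski-locally on S some G-conjugate of B contains T: every point has an open
neighbourhood V with a V-point g of G such that g⁻¹ T_V g ⊂ B_V. (2) Two Borel subgroups of G
containing T are conjugate, Zariski-locally on S, by a point of G normalising T. -/
theorem result {S : Scheme.{u}} {G B : Over S} [GrpObj G]
    [GrpObj B] (D : Red.SplitRed G) (b : B ⟶ G) (hB : Red.IsBorel b) (s : S) :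
    (∃ (V : S.Opens), s ∈ V ∧ ∃ g : 𝟙_ (Over (V : Scheme.{u})) ⟶ Red.bc V.ι G,
      ∀ (X : Over (V : Scheme.{u})) (t : X ⟶ Red.bc V.ι D.T), ∃ y : X ⟶ Red.bc V.ι B,
        (toUnit X ≫ g)⁻¹ * (t ≫ (Over.pullback V.ι).map D.i) * (toUnit X ≫ g) = y ≫ (Over.pullback V.ι).map b) ∧
    ∀ (B₁ B₂ : Over S) [GrpObj B₁] [GrpObj B₂] (b₁ : B₁ ⟶ G) (b₂ : B₂ ⟶ G) (t₁ : D.T ⟶ B₁) (t₂ : D.T ⟶ B₂),
      Red.IsBorel b₁ → Red.IsBorel b₂ → t₁ ≫ b₁ = D.i → t₂ ≫ b₂ = D.i →
      ∃ (V : S.Opens), s ∈ V ∧ ∃ n : 𝟙_ (Over (V : Scheme.{u})) ⟶ Red.bc V.ι G,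
        RedSub.ConjEq ((Over.pullback V.ι).map D.i) ((Over.pullback V.ι).map D.i) n ∧
        RedSub.ConjEq ((Over.pullback V.ι).map b₁) ((Over.pullback V.ι).map b₂) n := by
  haveI : Nonempty S := ⟨s⟩
  refine ⟨?_, fun B₁ B₂ _ _ b₁ b₂ t₁ t₂ h₁ h₂ ht₁ ht₂ => ?_⟩
  · obtain ⟨V, hV, g, hg⟩ := RootBase.exists_cell_conj D b hB s
    refine ⟨V, hV, SubGen.ratEquiv V.ι G g⁻¹, fun X t => ?_⟩
    obtain ⟨t₀, rfl⟩ := (SubGen.Locus.baseEquiv V.ι D.T X).surjective t
    obtain ⟨z, hz⟩ := hg _ (BorelConj.proj V.ι X) t₀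
    refine ⟨SubGen.Locus.baseEquiv V.ι B X z, ?_⟩
    rw [BorelConj.equiv_unit, ← BorelConj.equiv_comp, ← BorelConj.equiv_comp, hz, GrpObj.comp_inv, map_inv,
      _root_.inv_inv, ← map_inv, ← map_mul, ← map_mul]
  · obtain ⟨V, hV, n, hn, hn'⟩ := RootBase.exists_weyl_conj D b₁ b₂ t₁ t₂ h₁ h₂ ht₁ ht₂ s
    exact ⟨V, hV, _, BorelConj.conjEq_bc V.ι D.i D.i n hn, BorelConj.conjEq_bc V.ι b₁ b₂ n hn'⟩

end Groth.Agent.S16643
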