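import Groth.Statements.S16644
import Mathlib

set_option autoImplicit false
open QuadZ

namespace Groth.Agent.S16644

/-- For odd n, the discriminant of the universal quadratic form Σ_{i ≤ j} A_{ij} x_i x_j in n variables
(variables A_{ij} indexed by unordered pairs), i.e. the determinant of the symmetric matrix with
diagonal entries 2 A_{ii} and off-diagonal entries A_{ij}, is divisible by 2 in the integral
polynomial ring ℤ[A_{ij}] (so the half-discriminant is an integral polynomial). -/
theorem result (n : ℕ) (hn : Odd n) :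
    (2 : MvPolynomial (Sym2 (Fin n)) ℤ) ∣
      (Matrix.of fun i j : Fin n =>
        if i = j then 2 * MvPolynomial.X (R := ℤ) (σ := Sym2 (Fin n)) (Sym2.mk i j)
        else MvPolynomial.X (R := ℤ) (σ := Sym2 (Fin n)) (Sym2.mk i j)).det := by
  classical
  have key : ∀ {S : Type} [CommRing S] [CharP S 2] (A : Matrix (Fin n) (Fin n) S), (∀ i j, A i j = A j i) →
      (∀ i, A i i = 0) → A.det = 0 := by
    intro S _ _ A hs hd
    rw [Matrix.det_apply]
    refine Finset.sum_involution (fun σ _ => σ⁻¹) (fun σ _ => ?_) (fun σ _ hσ e => hσ ?_) (fun σ _ => Finset.mem_univ _)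
      (fun σ _ => inv_inv σ)
    · rw [Equiv.Perm.sign_inv]
      have : ∏ i, A (σ⁻¹ i) i = ∏ i, A (σ i) i := by
        rw [← Equiv.prod_comp σ (fun i => A (σ⁻¹ i) i)]
        exact Finset.prod_congr rfl fun i _ => by simp [hs i (σ i)]
      rw [this]
      exact CharTwo.add_self_eq_zero _
    · obtain ⟨i, hi⟩ : ∃ i, σ i = i := by
        haveI : Fact (Nat.Prime 2) := ⟨Nat.prime_two⟩
        refine Equiv.Perm.exists_fixed_point_of_prime (p := 2) (n := 1) ?_ ?_
        · rw [Fintype.card_fin]; exact hn.not_two_dvd_nat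
        · rw [pow_one, pow_two]; nth_rewrite 1 [← e]; exact inv_mul_cancel σ
      rw [Finset.prod_eq_zero (Finset.mem_univ i) (by rw [hi, hd]), smul_zero]
  rw [show (2 : MvPolynomial (Sym2 (Fin n)) ℤ) = MvPolynomial.C ((2 : ℕ) : ℤ) by simp,
    MvPolynomial.C_dvd_iff_map_hom_eq_zero (Int.castRingHom (ZMod 2)) _ (fun z => by
      simpa using ZMod.intCast_zmod_eq_zero_iff_dvd z 2), RingHom.map_det]
  refine key _ (fun i j => ?_) (fun i => ?_)
  · by_cases h : i = j
    · subst h; rfl
    · simp [RingHom.mapMatrix_apply, h, Ne.symm h, Sym2.eq_swap]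
  · simp [RingHom.mapMatrix_apply]
    exact CharTwo.two_eq_zero

end Groth.Agent.S16644
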