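import Groth.Statements.S16647
import Mathlib
import Groth.Agent.FpqcDescent.Sep
import Groth.Agent.LimDesc.FPCancel

set_option autoImplicit false
open CategoryTheory MonoidalCategory CartesianMonoidalCategory MonObj GrpObj AlgebraicGeometry
universe u
open GrpSch

open CategoryTheory.Limits
set_option backward.isDefEq.respectTransparency false
set_option linter.style.haveILetI false

namespace Groth.Agent.S16647

/-- In a commutative diagram of short exact sequences of S-group schemes that are flat, separated and of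
finite presentation over a scheme S (in each row the first homomorphism is the kernel of the second
and the second is a flat surjection), if the two outer vertical homomorphisms are closed immersions
then so is the middle one. -/
theorem result {S : Scheme.{u}}
    {H₁' H₁ H₁'' H₂' H₂ H₂'' : Over S} [GrpObj H₁'] [GrpObj H₁] [GrpObj H₁''] [GrpObj H₂'] [GrpObj H₂] [GrpObj H₂'']
    [Flat H₁'.hom] [Flat H₁.hom] [Flat H₁''.hom] [Flat H₂'.hom] [Flat H₂.hom] [Flat H₂''.hom]
    [IsSeparated H₁'.hom] [IsSeparated H₁.hom] [IsSeparated H₁''.hom]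
    [IsSeparated H₂'.hom] [IsSeparated H₂.hom] [IsSeparated H₂''.hom]
    [QuasiCompact H₁'.hom] [QuasiCompact H₁.hom] [QuasiCompact H₁''.hom]
    [QuasiCompact H₂'.hom] [QuasiCompact H₂.hom] [QuasiCompact H₂''.hom]
    [LocallyOfFinitePresentation H₁'.hom] [LocallyOfFinitePresentation H₁.hom] [LocallyOfFinitePresentation H₁''.hom]
    [LocallyOfFinitePresentation H₂'.hom] [LocallyOfFinitePresentation H₂.hom] [LocallyOfFinitePresentation H₂''.hom]
    (a₁ : H₁' ⟶ H₁) (b₁ : H₁ ⟶ H₁'') (a₂ : H₂' ⟶ H₂) (b₂ : H₂ ⟶ H₂'')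
    [IsMonHom a₁] [IsMonHom b₁] [IsMonHom a₂] [IsMonHom b₂]
    (h₁ : AlgGrp.IsKernel a₁ b₁) (hb₁ : Flat b₁.left ∧ Surjective b₁.left)
    (h₂ : AlgGrp.IsKernel a₂ b₂) (hb₂ : Flat b₂.left ∧ Surjective b₂.left)
    (j' : H₁' ⟶ H₂') (j : H₁ ⟶ H₂) (j'' : H₁'' ⟶ H₂'') [IsMonHom j'] [IsMonHom j] [IsMonHom j'']
    (sq₁ : a₁ ≫ j = j' ≫ a₂) (sq₂ : b₁ ≫ j'' = j ≫ b₂)
    (hj' : IsClosedImmersion j'.left) (hj'' : IsClosedImmersion j''.left) :
    IsClosedImmersion j.left := by
  haveI : Mono a₂ := ⟨fun p q e => h₂.hom_ext e (toUnit_unique _ _)⟩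
  let P := pullback b₂ j''
  let φ : H₁ ⟶ P := pullback.lift j b₁ sq₂.symm
  haveI : IsClosedImmersion (pullback.fst b₂ j'').left :=
    MorphismProperty.of_isPullback (P := @IsClosedImmersion)
      ((IsPullback.of_hasPullback b₂ j'').map (Over.forget S)).flip hj''
  suffices IsClosedImmersion φ.left by
    rw [← pullback.lift_fst j b₁ sq₂.symm, Over.comp_left]
    haveI : IsClosedImmersion φ.left := this
    exact inferInstanceAs (IsClosedImmersion (φ.left ≫ _))
  have k₁ : ∀ {T : Over S} (n : T ⟶ H₁'), (n ≫ a₁) ≫ b₁ = 1 := fun n => by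
    rw [Category.assoc, h₁.w, ← Category.assoc, toUnit_unique (n ≫ toUnit _) (toUnit _), Hom.one_def]
  have k₂ : ∀ {T : Over S} (n : T ⟶ H₂'), (n ≫ a₂) ≫ b₂ = 1 := fun n => by
    rw [Category.assoc, h₂.w, ← Category.assoc, toUnit_unique (n ≫ toUnit _) (toUnit _), Hom.one_def]
  let ψ : H₂' ⊗ H₁ ⟶ P := pullback.lift ((fst _ _ ≫ a₂) * (snd _ _ ≫ j)) (snd _ _ ≫ b₁) (by
    rw [MonObj.mul_comp, k₂, _root_.one_mul, Category.assoc, ← sq₂, Category.assoc])
  let m : H₁' ⊗ H₁ ⟶ H₁ := (fst _ _ ≫ a₁) * snd _ _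
  have hψ₁ : ψ ≫ pullback.fst b₂ j'' = (fst _ _ ≫ a₂) * (snd _ _ ≫ j) := pullback.lift_fst _ _ _
  have hψ₂ : ψ ≫ pullback.snd b₂ j'' = snd _ _ ≫ b₁ := pullback.lift_snd _ _ _
  -- `ψ` is a base change of `b₁`
  have sqψ : IsPullback (snd H₂' H₁) ψ b₁ (pullback.snd b₂ j'') := by
    have ex : ∀ s : PullbackCone b₁ (pullback.snd b₂ j''),
        ∃ n : s.pt ⟶ H₂', n ≫ a₂ = (s.snd ≫ pullback.fst b₂ j'') * (s.fst ≫ j)⁻¹ := fun s => by
      have e : ((s.snd ≫ pullback.fst b₂ j'') * (s.fst ≫ j)⁻¹) ≫ b₂ = toUnit s.pt ≫ η[H₂''] := by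
        rw [MonObj.mul_comp, GrpObj.inv_comp, Category.assoc, pullback.condition, Category.assoc s.fst j b₂,
          ← sq₂, ← Category.assoc s.fst, s.condition, Category.assoc, mul_inv_cancel, Hom.one_def]
      exact ⟨h₂.lift _ _ e, h₂.lift_fst _ _ e⟩
    choose n hn using ex
    refine IsPullback.of_isLimit' ⟨hψ₂.symm⟩ (PullbackCone.IsLimit.mk _
      (fun s => lift (n s) s.fst) (fun s => lift_snd _ _) (fun s => ?_) fun s w e1 e2 => ?_)
    · apply pullback.hom_ext
      · rw [Category.assoc, hψ₁, comp_mul, lift_fst_assoc, lift_snd_assoc, hn, inv_mul_cancel_right]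
      · rw [Category.assoc, hψ₂, lift_snd_assoc, s.condition]
    · apply CartesianMonoidalCategory.hom_ext
      · have := congrArg (· ≫ pullback.fst b₂ j'') e2
        simp only [Category.assoc, hψ₁, comp_mul] at this
        rw [lift_fst, ← cancel_mono a₂, hn, Category.assoc, ← this, reassoc_of% e1, mul_inv_cancel_right]
      · rw [lift_snd]; exact e1
  have pj : ∀ {T : Over S} (n : T ⟶ H₁') (x : T ⟶ H₁),
      ((n ≫ a₁) * x) ≫ j = ((n ≫ j') ≫ a₂) * (x ≫ j) := fun n x => by
    rw [MonObj.mul_comp, Category.assoc, sq₁, Category.assoc]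
  -- the square over `φ`
  have sqφ : IsPullback (j' ▷ H₁) m ψ φ := by
    have hw : (j' ▷ H₁) ≫ ψ = m ≫ φ := by
      apply pullback.hom_ext
      · rw [Category.assoc, hψ₁, comp_mul, whiskerRight_fst_assoc, whiskerRight_snd_assoc,
          Category.assoc m, pullback.lift_fst, pj]
        simp only [Category.assoc]
      · rw [Category.assoc, hψ₂, whiskerRight_snd_assoc, Category.assoc m, pullback.lift_snd, MonObj.mul_comp, k₁,
          _root_.one_mul]
    have ex : ∀ s : PullbackCone ψ φ, ∃ n : s.pt ⟶ H₁', n ≫ a₁ = s.snd * (s.fst ≫ snd H₂' H₁)⁻¹ := fun s => by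
      have e0 := congrArg (· ≫ pullback.snd b₂ j'') s.condition
      simp only [Category.assoc, hψ₂, φ, pullback.lift_snd] at e0
      have e : (s.snd * (s.fst ≫ snd H₂' H₁)⁻¹) ≫ b₁ = toUnit s.pt ≫ η[H₁''] := by
        rw [MonObj.mul_comp, GrpObj.inv_comp, Category.assoc, e0, mul_inv_cancel, Hom.one_def]
      exact ⟨h₁.lift _ _ e, h₁.lift_fst _ _ e⟩
    choose n hn using ex
    refine IsPullback.of_isLimit' ⟨hw⟩ (PullbackCone.IsLimit.mk _
      (fun s => lift (n s) (s.fst ≫ snd H₂' H₁)) (fun s => ?_) (fun s => ?_) fun s w e1 e2 => ?_)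
    · have e0 := congrArg (· ≫ pullback.fst b₂ j'') s.condition
      simp only [Category.assoc, hψ₁, φ, pullback.lift_fst, comp_mul] at e0
      apply CartesianMonoidalCategory.hom_ext
      · rw [Category.assoc, whiskerRight_fst, lift_fst_assoc, ← cancel_mono a₂, Category.assoc, ← sq₁,
          ← Category.assoc, hn, MonObj.mul_comp, GrpObj.inv_comp, ← e0]
        simp only [Category.assoc, mul_inv_cancel_right]
      · rw [Category.assoc, whiskerRight_snd, lift_snd]
    · rw [comp_mul, lift_fst_assoc, lift_snd, hn, inv_mul_cancel_right]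
    · have hsnd : w ≫ snd H₁' H₁ = s.fst ≫ snd H₂' H₁ := by rw [← e1, Category.assoc, whiskerRight_snd]
      apply CartesianMonoidalCategory.hom_ext
      · rw [lift_fst]
        refine h₁.hom_ext ?_ (toUnit_unique _ _)
        rw [hn, ← e2, comp_mul, ← hsnd, Category.assoc, mul_inv_cancel_right]
      · rw [lift_snd]; exact hsnd
  have sqj : IsPullback (j' ▷ H₁) (fst H₁' H₁) (fst H₂' H₁) j' := by
    refine IsPullback.of_isLimit' ⟨whiskerRight_fst _ _⟩ (PullbackCone.IsLimit.mk _
      (fun s => lift s.snd (s.fst ≫ snd H₂' H₁)) (fun s => ?_) (fun s => lift_fst _ _) fun s w e1 e2 => ?_)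
    · apply CartesianMonoidalCategory.hom_ext
      · rw [Category.assoc, whiskerRight_fst, lift_fst_assoc, s.condition]
      · rw [Category.assoc, whiskerRight_snd, lift_snd]
    · apply CartesianMonoidalCategory.hom_ext
      · rw [lift_fst]; exact e2
      · rw [lift_snd, ← e1, Category.assoc, whiskerRight_snd]
  have hc : IsClosedImmersion (j' ▷ H₁).left :=
    MorphismProperty.of_isPullback (P := @IsClosedImmersion) (sqj.map (Over.forget S)).flip hj'
  haveI := hb₁.1
  haveI := hb₁.2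
  haveI : LocallyOfFinitePresentation b₁.left := by
    haveI : LocallyOfFinitePresentation (b₁.left ≫ H₁''.hom) := by rw [Over.w]; infer_instance
    exact Groth.Agent.LimDesc.lfp_of_comp b₁.left H₁''.hom
  have hψQ : (@Surjective ⊓ @Flat ⊓ @LocallyOfFinitePresentation : MorphismProperty Scheme.{u}) ψ.left :=
    ⟨⟨MorphismProperty.of_isPullback (P := @Surjective) (sqψ.map (Over.forget S)) hb₁.2,
      MorphismProperty.of_isPullback (P := @Flat) (sqψ.map (Over.forget S)) hb₁.1⟩,
      MorphismProperty.of_isPullback (P := @LocallyOfFinitePresentation) (sqψ.map (Over.forget S)) (show LocallyOfFinitePresentation b₁.left from inferInstance)⟩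
  exact MorphismProperty.of_isPullback_of_descendsAlong (P := @IsClosedImmersion) (sqφ.map (Over.forget S))
    hψQ hc

end Groth.Agent.S16647
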