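import Groth.Statements.S1665
import Groth.Agent.GlueSL.Glue

set_option autoImplicit false
universe u
open Variety

namespace Groth.Agent.S1665

/-- Let B be a Noetherian domain of dimension one with finitely many maximal ideals and B' its integral
closure in its fraction field. Then B' is a Dedekind domain with finitely many maximal ideals, and
for every nonzero x in the Jacobson radical of B' and every y ∈ B' some power x^n satisfies x^n y ∈
B. -/
theorem result (B : Type u) [CommRing B] [IsDomain B] [IsNoetherianRing B]
    (hdim : ringKrullDim B = 1) (hsl : Finite (MaximalSpectrum B)) :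
    IsDedekindDomain (integralClosure B (FractionRing B)) ∧ Finite (MaximalSpectrum (integralClosure B (FractionRing B))) ∧
      ∀ x : integralClosure B (FractionRing B), x ≠ 0 → x ∈ (⊥ : Ideal (integralClosure B (FractionRing B))).jacobson →
        ∀ y : integralClosure B (FractionRing B), ∃ n : ℕ, (x ^ n * y).1 ∈ (algebraMap B (FractionRing B)).range := by
  have : Ring.KrullDimLE 1 B := Ring.krullDimLE_iff.mpr hdim.le
  have hnf : ¬ IsField B := Groth.Agent.GlueSL.not_isField_of_dim_one hdim
  refine ⟨Groth.Agent.GlueSL.isDedekindDomain_integralClosure B (FractionRing B),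
    Groth.Agent.GlueSL.finite_maximalSpectrum_integralClosure B (FractionRing B) hnf, fun x _ hxJ y => ?_⟩
  obtain ⟨n₀, hn₀⟩ := Groth.Agent.GlueSL.exists_pow_mul_mem x
    (fun m hm => Ideal.mem_sInf.mp hxJ ⟨bot_le, hm⟩) y
  exact ⟨n₀, by simpa using hn₀ n₀ le_rfl⟩

end Groth.Agent.S1665
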