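import Groth.Statements.S16650
import Groth.Agent.ParNorm.Global
-- import your own Groth.Agent.* helpers here

set_option autoImplicit false
open CategoryTheory MonoidalCategory CartesianMonoidalCategory MonObj GrpObj AlgebraicGeometry
universe u
open RedSub

set_option backward.isDefEq.respectTransparency false

namespace Groth.Agent.S16650
open Groth.Agent

/-- The centre of a reductive group scheme G over a scheme S is contained in every parabolic subgroup of
G. -/
theorem result {S : Scheme.{u}} {G Z P : Over S} [GrpObj G] [GrpObj Z] [GrpObj P]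
    (hG : Red.IsReductive G) (z : Z ⟶ G) (hZ : Red.IsCentre z) (p : P ⟶ G) (hP : Red.IsParabolic p) :
    ∃ f : Z ⟶ P, f ≫ p = z := by
  haveI := hG.1; haveI := hG.2.1
  have hN := ParNorm.isNormalizerOf_self (fun s => (hG.2.2 s).2.2.1) p hP
  refine (hN.2.2 Z z).2 fun X' x h => ?_
  have hc := (hZ.2.2 Z z).1 ⟨𝟙 Z, Category.id_comp z⟩ X' x (h ≫ p)
  rw [Category.comp_id] at hc
  refine ⟨⟨h, ?_⟩, ⟨h, ?_⟩⟩
  · rw [hc]; group
  · rw [_root_.mul_assoc, ← hc]; group

end Groth.Agent.S16650
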