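import Groth.Statements.S16651
import Groth.Agent.CliffSm.EvenSplit

set_option autoImplicit false
universe u v
open scoped TensorProduct
open QuadZ

namespace Groth.Agent.S16651

/-- For a free module over an affine base, let Q be a non-degenerate quadratic form (polar form a
perfect pairing) on a free module V of even rank 2m ≥ 2 over a commutative ring A. Then fppf-locally
on A the Clifford algebra C(V,Q) is a matrix algebra of size 2^m and its even part a product of two
matrix algebras of size 2^(m-1) (there is a faithfully flat finitely presented A-algebra A'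
realising both), the centre of C(V,Q) is A, the map V → C(V,Q) is injective onto a direct summand,
and the even part is the centralizer in C(V,Q) of its own centre. -/
theorem result (A : Type u) [CommRing A] (V : Type u)
    [AddCommGroup V] [Module A V] [Module.Free A V] [Module.Finite A V] (m : ℕ) (hm : 1 ≤ m)
    (hV : Module.finrank A V = 2 * m) (Q : QuadraticForm A V) (hQ : Function.Bijective (QuadraticMap.polarBilin Q)) :
    (∃ (A' : Type u) (_ : CommRing A') (_ : Algebra A A'), Module.FaithfullyFlat A A' ∧ Algebra.FinitePresentation A A' ∧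
        Nonempty ((A' ⊗[A] CliffordAlgebra Q) ≃ₐ[A'] Matrix (Fin (2 ^ m)) (Fin (2 ^ m)) A') ∧
        Nonempty ((A' ⊗[A] ↥(CliffordAlgebra.even Q)) ≃ₐ[A']
          (Matrix (Fin (2 ^ (m - 1))) (Fin (2 ^ (m - 1))) A' × Matrix (Fin (2 ^ (m - 1))) (Fin (2 ^ (m - 1))) A'))) ∧
    Subalgebra.center A (CliffordAlgebra Q) = ⊥ ∧
    (Function.Injective (CliffordAlgebra.ι Q) ∧
      ∃ W : Submodule A (CliffordAlgebra Q), IsCompl (LinearMap.range (CliffordAlgebra.ι Q)) W) ∧
    Subalgebra.centralizer A
        ((CliffordAlgebra.even Q).val '' (Subalgebra.center A ↥(CliffordAlgebra.even Q) : Set ↥(CliffordAlgebra.even Q))) =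
      CliffordAlgebra.even Q := by
  obtain ⟨n, rfl⟩ : ∃ n, m = n + 1 := ⟨m - 1, by omega⟩
  obtain ⟨b⟩ : Nonempty (Module.Basis (Fin (2 * (n + 1))) A V) := by
    rcases subsingleton_or_nontrivial A with hA | hA
    · haveI : Subsingleton V := Module.subsingleton A V
      exact ⟨⟨LinearEquiv.ofSubsingleton V (Fin (2 * (n + 1)) →₀ A)⟩⟩
    · exact ⟨Module.finBasisOfFinrankEq A V hV⟩
  have hreg : QuadGrp.IsRegular Q := hQ
  refine ⟨?_, ?_, ⟨Groth.Agent.CliffSm.ι_injective Q, ?_⟩, ?_⟩
  · obtain ⟨A', _, _, hff, hfp, -, P, P', h⟩ := Groth.Agent.CliffSm.exists_hyp_cover b hreg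
    let c : Module.Basis (Fin (n + 1) ⊕ Fin (n + 1)) A' (A' ⊗[A] V) :=
      (b.baseChange A').reindex ((finCongr (two_mul (n + 1))).trans finSumFinEquiv.symm)
    obtain ⟨e1⟩ := Groth.Agent.CliffSm.hyp_matrix h (h.span_eq c)
    obtain ⟨e2⟩ := Groth.Agent.CliffSm.hyp_even h (h.span_eq c)
    refine ⟨A', inferInstance, inferInstance, hff, hfp,
      ⟨(Groth.Agent.CliffSm.equivT Q A').symm.trans e1⟩, ⟨?_⟩⟩
    rw [Nat.add_sub_cancel]
    exact ((AlgEquiv.ofInjective (Groth.Agent.CliffSm.evenT Q A') (Groth.Agent.CliffSm.evenT_injective Q A')).trans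
      (Subalgebra.equivOfEq _ _ (Groth.Agent.CliffSm.evenT_range Q A'))).trans e2
  · refine eq_bot_iff.2 fun z hz => ?_
    obtain ⟨r, rfl⟩ := Groth.Agent.CliffSm.center_scalar_even b hreg (z := z)
      (fun x => Subalgebra.mem_center_iff.1 hz x)
    exact Algebra.mem_bot.2 ⟨r, rfl⟩
  · let π : CliffordAlgebra Q →ₗ[A] V :=
      ExteriorAlgebra.ιInv ∘ₗ (Groth.Agent.CliffSm.toExt Q : CliffordAlgebra Q →ₗ[A] ExteriorAlgebra A V)
    have hπ : ∀ x, π (CliffordAlgebra.ι Q x) = x := fun x => by
      simp only [π, LinearMap.comp_apply, LinearEquiv.coe_coe, Groth.Agent.CliffSm.toExt_ι]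
      exact ExteriorAlgebra.ι_leftInverse x
    refine ⟨LinearMap.ker π, Submodule.disjoint_def.2 ?_, codisjoint_iff.2 (eq_top_iff.2 fun x _ => ?_)⟩
    · rintro _ ⟨x, rfl⟩ hx
      rw [LinearMap.mem_ker, hπ] at hx
      rw [hx, map_zero]
    · exact Submodule.mem_sup.2 ⟨CliffordAlgebra.ι Q (π x), ⟨_, rfl⟩, x - CliffordAlgebra.ι Q (π x),
        by rw [LinearMap.mem_ker, map_sub, hπ, sub_self], add_sub_cancel _ _⟩
  · refine le_antisymm (fun x hx => ?_) (fun x hx => ?_)
    · set x1 := Groth.Agent.CliffSm.part Q 1 x with hx1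
      have hodd := Groth.Agent.CliffSm.part_mem Q 1 x
      have heven := Groth.Agent.CliffSm.part_mem Q 0 x
      suffices x1 = 0 from (Groth.Agent.CliffSm.mem_even_iff Q x).2 this
      let I : Ideal A := (⊥ : Submodule A (CliffordAlgebra Q)).comap (LinearMap.toSpanSingleton A _ x1)
      suffices I = ⊤ by
        have h1 : (1 : A) ∈ I := by rw [this]; trivial
        simpa [I] using h1
      by_contra hI
      obtain ⟨p, hp, hle⟩ := Ideal.exists_le_maximal I hI
      haveI : p.IsPrime := hp.isPrime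
      obtain ⟨ω, c, r, hr, hω, hrel, hsq⟩ := Groth.Agent.CliffSm.exists_omega_at b hreg p
      have h1 : ω * x = x * ω :=
        hx ω ⟨⟨ω, hω⟩, Groth.Agent.CliffSm.mem_center_even hω hrel, rfl⟩
      have h0 : Groth.Agent.CliffSm.part Q 0 x * ω = ω * Groth.Agent.CliffSm.part Q 0 x :=
        (Groth.Agent.CliffSm.comm_of_rel hrel _).1 heven
      have h2 := (Groth.Agent.CliffSm.comm_of_rel hrel _).2 hodd
      have h3 : x1 * ω = ω * x1 := by
        rw [← Groth.Agent.CliffSm.part_add Q x, mul_add, add_mul, h0] at h1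
        exact (add_left_cancel h1).symm
      have h4 : ((2 : A) • ω + c • 1) * x1 = 0 := by
        rw [← h2, ← hx1, h3, add_mul, smul_mul_assoc, smul_mul_assoc, one_mul, two_smul]
      refine hr (hle ?_)
      show r • x1 = 0
      rw [Algebra.smul_def, ← hsq, mul_assoc, h4, mul_zero]
    · rintro _ ⟨z, hz, rfl⟩
      exact (congrArg Subtype.val (Subalgebra.mem_center_iff.1 hz ⟨x, hx⟩)).symm

end Groth.Agent.S16651
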