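import Groth.Statements.S16652
import Groth.Agent.RootBase.UPsiEmpty
-- import your own Groth.Agent.* helpers here

set_option autoImplicit false
open CategoryTheory MonoidalCategory CartesianMonoidalCategory MonObj GrpObj AlgebraicGeometry
universe u
open RedSub

set_option backward.isDefEq.respectTransparency false

namespace Groth.Agent.S16652
open RootBase in
/-- The points of a subgroup given by the products of root groups of a closed set. -/
theorem pts {S : Scheme.{u}} [Nonempty S] {G U : Over S} [GrpObj G] {M : Type} [AddCommGroup M] [Module.Free ℤ M]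
    [Module.Finite ℤ M] {c : Red.DS S M ⟶ G} {idx : Type} [Fintype idx]
    {P : RootPairing idx ℤ M (Module.Dual ℤ M)} {u : idx → (Red.Ga S ⟶ G)} (F : RootBase.Frame c P.root u)
    (Ψ : Set idx) (hcl : RootD.IsClosedSub P Ψ) (mu : M →+ ℤ) (hmu : ∀ a ∈ Ψ, 0 < mu (P.root a)) (v : U ⟶ G)
    (hU : ∀ {m : ℕ} (e : Fin m → idx), RedSub.Enumerates Ψ e →
      ∃ ψ : RedSub.pow (Red.Ga S) m ≅ U, ψ.hom ≫ v = RedSub.prodMap (Red.Ga S) m (fun k => u (e k)))
    (X : Over S) (g : X ⟶ G) : (∃ x : X ⟶ U, x ≫ v = g) ↔ g ∈ RootBase.Gam u Ψ X := by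
  obtain ⟨n, r, -, he⟩ := exists_extend Ψ (Fin.elim0 : Fin 0 → idx) (fun x => x.elim0) fun k => k.elim0
  obtain ⟨ψ, hψ⟩ := hU _ he
  constructor
  · rintro ⟨x, rfl⟩
    rw [← Category.comp_id x, ← ψ.inv_hom_id, Category.assoc, Category.assoc, hψ, ← Category.assoc, comp_prodMap_eq]
    exact prod_mem_Gam (fun k => he.2.subset ⟨k, rfl⟩) _
  · intro hg
    obtain ⟨z, hz⟩ := F.exists_coord hcl mu hmu _ he hg
    obtain ⟨y, -, hy⟩ := exists_pow_prod (fun k => u (Fin.append Fin.elim0 r k)) z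
    exact ⟨y ≫ ψ.hom, by rw [Category.assoc, hψ, hy, hz]⟩



/-- With G a reductive group scheme over a scheme S with splitting D, Ψ a closed set of roots without
opposite pairs, λ ∈ M^∨ non-vanishing on the roots and positive on Ψ, and n ≥ 1, let U₁ ⊃ U₂ be the
closed subgroups directly spanned by the root groups U_a (a ∈ Ψ) with λ(a) ≥ n, resp. λ(a) ≥ n + 1.
Then U₂ is normal in U₁, root groups U_a, U_b with λ(a) = λ(b) = n commute modulo U₂, and
multiplication (∏_{λ(a) = n} U_a) × U₂ → U₁ (product in any order) is an isomorphism of schemes;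
thus U₁/U₂ is the vector group ∏_{λ(a)=n} U_a. -/
theorem result {S : Scheme.{u}} {G : Over S} [GrpObj G]
    (D : Red.SplitRed G) (Ψ : Set D.idx)
    (hcl : ∀ a b c : D.idx, a ∈ Ψ → b ∈ Ψ → D.P.root a + D.P.root b = D.P.root c → c ∈ Ψ)
    (hneg : ∀ a b : D.idx, a ∈ Ψ → D.P.root b = -D.P.root a → b ∉ Ψ)
    (lam : Module.Dual ℤ D.M) (hlam : ∀ a : D.idx, lam (D.P.root a) ≠ 0) (hpos : ∀ a ∈ Ψ, 0 < lam (D.P.root a))
    (n : ℕ) (hn : 1 ≤ n)
    {U₁ U₂ : Over S} [GrpObj U₁] [GrpObj U₂] (v₁ : U₁ ⟶ G) (v₂ : U₂ ⟶ G) [IsMonHom v₁] [IsMonHom v₂]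
    (hv₁ : IsClosedImmersion v₁.left) (hv₂ : IsClosedImmersion v₂.left)
    (hU₁ : ∀ {m : ℕ} (e : Fin m → D.idx), RedSub.Enumerates {a | a ∈ Ψ ∧ (n : ℤ) ≤ lam (D.P.root a)} e →
      ∃ ψ : RedSub.pow (Red.Ga S) m ≅ U₁, ψ.hom ≫ v₁ = RedSub.prodMap (Red.Ga S) m (fun k => D.u (e k)))
    (hU₂ : ∀ {m : ℕ} (e : Fin m → D.idx), RedSub.Enumerates {a | a ∈ Ψ ∧ (n : ℤ) + 1 ≤ lam (D.P.root a)} e →
      ∃ ψ : RedSub.pow (Red.Ga S) m ≅ U₂, ψ.hom ≫ v₂ = RedSub.prodMap (Red.Ga S) m (fun k => D.u (e k))) :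
    (∃ f : U₂ ⟶ U₁, f ≫ v₁ = v₂ ∧ IsMonHom f ∧ AlgGrp.IsNormalHom f) ∧
    (∀ (a b : D.idx), a ∈ Ψ → b ∈ Ψ → lam (D.P.root a) = n → lam (D.P.root b) = n →
      ∀ (X : Over S) (x y : X ⟶ Red.Ga S), ∃ w : X ⟶ U₂,
        (x ≫ D.u a) * (y ≫ D.u b) * (x ≫ D.u a)⁻¹ * (y ≫ D.u b)⁻¹ = w ≫ v₂) ∧
    ∀ {m : ℕ} (e : Fin m → D.idx), RedSub.Enumerates {a | a ∈ Ψ ∧ lam (D.P.root a) = n} e →
      ∃ ψ : RedSub.pow (Red.Ga S) m ⊗ U₂ ≅ U₁,
        ψ.hom ≫ v₁ = (fst _ _ ≫ RedSub.prodMap (Red.Ga S) m (fun k => D.u (e k))) * (snd _ _ ≫ v₂) := by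
  letI := D.grpT
  letI := D.acgM
  letI := D.fintypeIdx
  letI := D.finiteM
  letI := D.freeM
  rcases isEmpty_or_nonempty S with hS | hS
  · obtain ⟨f, -⟩ := RootBase.exists_hom_of_isEmpty U₂ U₁
    refine ⟨⟨f, RootBase.hom_eq_of_isEmpty _ _, HomDiag.isMonHom_of_mul _ fun X x y => RootBase.hom_eq_of_isEmpty _ _,
      fun T g x => ⟨x, RootBase.hom_eq_of_isEmpty _ _⟩⟩, fun a b _ _ _ _ X x y => ?_, fun {m} e _ => ?_⟩
    · obtain ⟨w, -⟩ := RootBase.exists_hom_of_isEmpty X U₂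
      exact ⟨w, RootBase.hom_eq_of_isEmpty _ _⟩
    · obtain ⟨ψ, -⟩ := RootBase.exists_iso_of_isEmpty (RedSub.pow (Red.Ga S) m ⊗ U₂) U₁
      exact ⟨ψ, RootBase.hom_eq_of_isEmpty _ _⟩
  classical
  haveI := RootBase.isReduced_of_splitRed D
  have F := RootBase.frame_of_splitRed D
  have hc : RootD.IsClosedSub D.P Ψ := fun a b k ha hb hk => hcl a b k ha hb hk.symm
  let mu : D.M →+ ℤ := lam.toAddMonoidHom
  have hmu : ∀ a ∈ Ψ, 0 < mu (D.P.root a) := hpos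
  have hlc : ∀ m : ℤ, RootD.IsClosedSub D.P (RootBase.lev D.P mu Ψ m) := fun m a b k ha hb hk =>
    ⟨hc ha.1 hb.1 hk, by
      have := hmu a ha.1
      have := hb.2
      rw [hk, map_add]
      omega⟩
  have h1 : ∀ (X : Over S) (g : X ⟶ G), (∃ x : X ⟶ U₁, x ≫ v₁ = g) ↔ g ∈ RootBase.Gam D.u (RootBase.lev D.P mu Ψ n) X :=
    pts F _ (hlc n) mu (fun a ha => hmu a ha.1) v₁ fun e he => hU₁ e he
  have h2 : ∀ (X : Over S) (g : X ⟶ G),
      (∃ x : X ⟶ U₂, x ≫ v₂ = g) ↔ g ∈ RootBase.Gam D.u (RootBase.lev D.P mu Ψ (n + 1)) X :=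
    pts F _ (hlc (n + 1)) mu (fun a ha => hmu a ha.1) v₂ fun e he => hU₂ e he
  haveI := hv₁
  haveI := hv₂
  haveI : Mono v₁ := Over.mono_of_mono_left _
  haveI : Mono v₂ := Over.mono_of_mono_left _
  have hsub : ∀ X, RootBase.Gam D.u (RootBase.lev D.P mu Ψ ((n : ℤ) + 1)) X ≤
      RootBase.Gam D.u (RootBase.lev D.P mu Ψ (n : ℤ)) X :=
    RootBase.Gam_mono (RootBase.lev_mono mu Ψ (by omega))
  obtain ⟨f, hf⟩ := (h1 U₂ v₂).2 (hsub _ ((h2 U₂ v₂).1 ⟨𝟙 _, Category.id_comp _⟩))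
  refine ⟨⟨f, hf, MTSplit.isMonHom_of_comp_mono f v₁ v₂ hf, fun T g x => ?_⟩,
    fun a b ha hb hla hlb X x y => ?_, fun {m} e he => ?_⟩
  · have hg := RootBase.Gam_mono (RootBase.lev_subset mu Ψ n) T ((h1 T (g ≫ v₁)).1 ⟨g, rfl⟩)
    obtain ⟨x', hx'⟩ := (h2 T ((g ≫ v₁) * (x ≫ v₂) * (g ≫ v₁)⁻¹)).2
      (F.conj_mem hc mu hmu _ hg ((h2 T (x ≫ v₂)).1 ⟨x, rfl⟩))
    refine ⟨x', ?_⟩
    rw [← cancel_mono v₁, MonObj.mul_comp, MonObj.mul_comp, GrpObj.inv_comp]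
    simp only [Category.assoc, hf]
    exact hx'.symm
  · obtain ⟨w, hw⟩ := (h2 X _).2 (inv_mem (F.comm_mem hc mu hmu (n : ℤ) (RootBase.mem_Gam (u := D.u) ha x)
      (inv_mem (RootBase.mem_Gam (u := D.u) (show b ∈ RootBase.lev D.P mu Ψ n from ⟨hb, hlb.ge⟩) y))))
    refine ⟨w, ?_⟩
    rw [hw]
    group
  · obtain ⟨l, r, hr0, hr⟩ := RootBase.exists_extend (RootBase.lev D.P mu Ψ n) e he.1
      fun k => ⟨(he.2.subset ⟨k, rfl⟩).1, (he.2.subset ⟨k, rfl⟩).2.ge⟩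
    have hre : RedSub.Enumerates (RootBase.lev D.P mu Ψ ((n : ℤ) + 1)) r := by
      refine ⟨fun i j h => Fin.natAdd_injective _ _ (hr.1 (by rw [Fin.append_right, Fin.append_right, h])), ?_⟩
      ext a
      constructor
      · rintro ⟨k, rfl⟩
        have hk := hr.2.subset ⟨Fin.natAdd m k, rfl⟩
        rw [Fin.append_right] at hk
        refine ⟨hk.1, ?_⟩
        by_contra hne
        refine hr0 k (he.2.symm.subset ⟨hk.1, ?_⟩)
        have h3 := hk.2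
        show mu (D.P.root (r k)) = n
        omega
      · intro ha
        obtain ⟨k, hk⟩ := hr.2.symm.subset (show a ∈ RootBase.lev D.P mu Ψ n from ⟨ha.1, le_trans (by omega) ha.2⟩)
        induction k using Fin.addCases with
        | left k =>
          rw [Fin.append_left] at hk
          have h3 : mu (D.P.root (e k)) = n := (he.2.subset ⟨k, rfl⟩).2
          rw [hk] at h3
          have := ha.2
          omega
        | right k => exact ⟨k, by rwa [Fin.append_right] at hk⟩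
    obtain ⟨ψ₁, hψ₁⟩ := hU₁ _ hr
    obtain ⟨ψ₂, hψ₂⟩ := hU₂ _ hre
    obtain ⟨z₁, hz₁⟩ := RootBase.exists_pow (X := RedSub.pow (Red.Ga S) (m + l))
      fun k => RootBase.proj S (m + l) (Fin.castAdd l k)
    obtain ⟨z₂, hz₂⟩ := RootBase.exists_pow (X := RedSub.pow (Red.Ga S) (m + l))
      fun k => RootBase.proj S (m + l) (Fin.natAdd m k)
    obtain ⟨y, hy⟩ := RootBase.exists_pow (X := RedSub.pow (Red.Ga S) m ⊗ RedSub.pow (Red.Ga S) l)
      (Fin.append (fun k => fst _ _ ≫ RootBase.proj S m k) fun k => snd _ _ ≫ RootBase.proj S l k)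
    let E : RedSub.pow (Red.Ga S) m ⊗ RedSub.pow (Red.Ga S) l ≅ RedSub.pow (Red.Ga S) (m + l) :=
      ⟨y, lift z₁ z₂, by
        refine CartesianMonoidalCategory.hom_ext _ _ (RootBase.pow_ext fun k => ?_) (RootBase.pow_ext fun k => ?_)
        · rw [Category.assoc, Category.assoc, lift_fst_assoc, hz₁, hy, Fin.append_left, Category.id_comp]
        · rw [Category.assoc, Category.assoc, lift_snd_assoc, hz₂, hy, Fin.append_right, Category.id_comp],
      RootBase.pow_ext fun k => by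
        rw [Category.assoc, hy, Category.id_comp]
        induction k using Fin.addCases with
        | left k => rw [Fin.append_left, lift_fst_assoc, hz₁]
        | right k => rw [Fin.append_right, lift_snd_assoc, hz₂]⟩
    refine ⟨tensorIso (Iso.refl _) ψ₂.symm ≪≫ E ≪≫ ψ₁, ?_⟩
    have hE : E.hom ≫ RedSub.prodMap (Red.Ga S) (m + l) (fun k => D.u (Fin.append e r k)) =
        (fst _ _ ≫ RedSub.prodMap (Red.Ga S) m (fun k => D.u (e k))) *
          (snd _ _ ≫ RedSub.prodMap (Red.Ga S) l (fun k => D.u (r k))) := by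
      rw [RootBase.comp_prodMap_eq, RootBase.comp_prodMap_eq, RootBase.comp_prodMap_eq, RootBase.ofFn_split,
        List.prod_append]
      simp only [E, hy, Fin.append_left, Fin.append_right]
    show ((𝟙 _ ⊗ₘ ψ₂.inv) ≫ E.hom ≫ ψ₁.hom) ≫ v₁ = _
    rw [Category.assoc, Category.assoc, hψ₁, hE, MonObj.comp_mul]
    simp only [tensorHom_fst_assoc, tensorHom_snd_assoc, Category.id_comp]
    rw [← hψ₂, Iso.inv_hom_id_assoc]

end Groth.Agent.S16652
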