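import Groth.Statements.S16667
import Groth.Agent.ReflLoc.Basic
import Mathlib.Tactic.LinearCombination
import Mathlib.Tactic.Ring

set_option autoImplicit false
universe u
open CAlg Groth.Agent

namespace Groth.Agent.S16667

/-- Let A be a Noetherian integral domain satisfying Serre's condition (S_2), with fraction field K. An
element of K which lies in the localization A_p for every prime p of A with depth(A_p) = 1 lies in
A. -/
theorem result {A : Type u} [CommRing A] [IsDomain A]
    [IsNoetherianRing A] (hS2 : LocCoh.HasSk 2 A A) (x : FractionRing A)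
    (hx : ∀ (p : Ideal A) [p.IsPrime],
      LocCoh.depth (Localization.AtPrime p) (Localization.AtPrime p) = 1 →
        x ∈ Set.range (algebraMap (Localization.AtPrime p) (FractionRing A))) :
    x ∈ Set.range (algebraMap A (FractionRing A)) := by
  haveI : IsFractionRing A (FractionRing A) := inferInstance
  obtain ⟨⟨a, b⟩, hab⟩ := IsLocalization.surj (nonZeroDivisors A) x
  let C := A ⧸ Ideal.span {(b : A)}
  let ā : C := Ideal.Quotient.mk _ a
  by_cases h0 : ā = 0
  · obtain ⟨c, hc⟩ := Ideal.mem_span_singleton'.1 (Ideal.Quotient.eq_zero_iff_mem.1 h0)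
    refine ⟨c, mul_right_cancel₀ (IsLocalization.map_units (FractionRing A) b).ne_zero ?_⟩
    rw [← map_mul, hc, hab]
  exfalso
  let N : Submodule A C := Submodule.span A {ā}
  haveI : Nontrivial N := ⟨⟨ā, Submodule.mem_span_singleton_self ā⟩, 0, fun e => h0 (congrArg Subtype.val e)⟩
  obtain ⟨p, hp⟩ := associatedPrimes.nonempty A N
  haveI := hp.isPrime
  obtain ⟨-, z, hz⟩ := isAssociatedPrime_iff.1 hp
  obtain ⟨w, hw⟩ := Submodule.mem_span_singleton.1 z.2
  obtain ⟨v, hv⟩ := Ideal.Quotient.mk_surjective (z : C)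
  have hann : ∀ r : A, r ∈ p ↔ (b : A) ∣ r * v := fun r => by
    rw [hz, Submodule.mem_colon_singleton, Submodule.mem_bot, Subtype.ext_iff, ← Ideal.mem_span_singleton,
      ← Ideal.Quotient.eq_zero_iff_mem, map_mul, hv]
    rfl
  have hb : (b : A) ∈ p := (hann _).2 ⟨v, rfl⟩
  have hb0 : (b : A) ≠ 0 := nonZeroDivisors.coe_ne_zero b
  haveI : IsNoetherianRing (Localization.AtPrime p) := IsLocalization.isNoetherianRing p.primeCompl _ inferInstance
  haveI : IsDomain (Localization.AtPrime p) := IsLocalization.isDomain_localization (Ideal.primeCompl_le_nonZeroDivisors p)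
  let f := algebraMap A (Localization.AtPrime p)
  have hinjf : Function.Injective f := IsLocalization.injective (Localization.AtPrime p) (Ideal.primeCompl_le_nonZeroDivisors p)
  have hbm : f b ∈ IsLocalRing.maximalIdeal (Localization.AtPrime p) := (IsLocalization.AtPrime.to_map_mem_maximal_iff (Localization.AtPrime p) p _).2 hb
  have hfb : f b ≠ 0 := fun e => hb0 (hinjf (e.trans (map_zero f).symm))
  have hreg : IsSMulRegular (Localization.AtPrime p) (f b) := fun _ _ h => mul_left_cancel₀ hfb h
  have hd : LocCoh.depth (Localization.AtPrime p) (Localization.AtPrime p) = 1 := by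
    refine le_antisymm (not_lt.1 fun h => ?_) (QGorD.one_le_of_regular hbm hreg)
    obtain ⟨y', hy', hreg'⟩ := QGorD.exists_regMod_of_two_le (M := Localization.AtPrime p) (Order.add_one_le_of_lt h) hbm hreg
    obtain ⟨y, t, rfl⟩ := IsLocalization.exists_mk'_eq p.primeCompl y'
    obtain ⟨e, he⟩ := (hann y).1 ((IsLocalization.AtPrime.mk'_mem_maximal_iff _ p y t).1 hy')
    obtain ⟨n', hn'⟩ := hreg' (f v) (IsLocalization.mk' _ e t) (by
      rw [smul_eq_mul, smul_eq_mul, mul_comm (IsLocalization.mk' _ y t), IsLocalization.mul_mk'_eq_mk'_of_mul,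
        IsLocalization.mul_mk'_eq_mk'_of_mul, mul_comm v, he])
    obtain ⟨g, s, rfl⟩ := IsLocalization.exists_mk'_eq p.primeCompl n'
    rw [smul_eq_mul, IsLocalization.mul_mk'_eq_mk'_of_mul, eq_comm, IsLocalization.mk'_eq_iff_eq_mul, ← map_mul] at hn'
    exact s.2 ((hann _).2 ⟨g, by rw [mul_comm, ← hinjf hn']⟩)
  obtain ⟨q, hq⟩ := hx p hd
  obtain ⟨c, s, rfl⟩ := IsLocalization.exists_mk'_eq p.primeCompl q
  have h2 : (c : A) * b = a * s := by
    apply IsFractionRing.injective A (FractionRing A)
    have := congrArg (algebraMap (Localization.AtPrime p) (FractionRing A)) (IsLocalization.mk'_spec (Localization.AtPrime p) c s)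
    rw [map_mul, hq, ← IsScalarTower.algebraMap_apply, ← IsScalarTower.algebraMap_apply] at this
    rw [map_mul, map_mul, ← this, ← hab]
    ring
  refine s.2 ((hann _).2 ?_)
  obtain ⟨k, hk⟩ := Ideal.mem_span_singleton'.1 (Ideal.Quotient.eq.1 (show Ideal.Quotient.mk (Ideal.span {(b : A)}) v = Ideal.Quotient.mk _ (w * a) by
    rw [hv, ← hw, map_mul]; rfl))
  exact ⟨k * s + w * c, by linear_combination (-(w : A)) * h2 - (s : A) * hk⟩

end Groth.Agent.S16667
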