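import Groth.Statements.S16676
import Groth.Agent.AVDeg.UISection

set_option autoImplicit false
universe u
open CategoryTheory CategoryTheory.Limits MonoidalCategory CartesianMonoidalCategory MonObj GrpObj AlgebraicGeometry
open AbVar

namespace Groth.Agent.S16676

/-- The equivalence of its second and third conditions. Let X and Y be abelian varieties over a field k
(proper, geometrically integral k-group schemes), f : X → Y a homomorphism which is finite, flat and
surjective (an isogeny), and i : N → X the kernel of f (the square formed by i, f, the unit section
of Y and the structure map of N is cartesian). Then f is universally injective (a purely inseparable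
morphism) if and only if the scheme N is connected. (The published item also includes the equivalent
condition that the function field of X is purely inseparable over that of Y; that clause is not part
of this statement.) -/
theorem result (k : Type u) [Field k]
    (X Y : Over (Spec (CommRingCat.of k)))
    [GrpObj X] [IsProper X.hom] [GeometricallyIntegral X.hom]
    [GrpObj Y] [IsProper Y.hom] [GeometricallyIntegral Y.hom]
    (f : X ⟶ Y) [IsMonHom f] [IsFinite f.left] [Flat f.left] [Surjective f.left]
    (N : Over (Spec (CommRingCat.of k))) (i : N ⟶ X) (hN : AlgGrp.IsKernel i f) :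
    UniversallyInjective f.left ↔ ConnectedSpace ↥N.left := by
  have hsq : IsPullback i.left N.hom f.left η[Y].left := by
    have h := Functor.map_isPullback (Over.forget (Spec (CommRingCat.of k))) hN
    simpa [Over.toUnit_left] using h
  haveI : IsFinite N.hom := MorphismProperty.of_isPullback hsq ‹IsFinite f.left›
  obtain ⟨s, hs⟩ : ∃ s : Spec (CommRingCat.of k) ⟶ N.left, s ≫ N.hom = 𝟙 _ := by
    refine ⟨hsq.lift η[X].left (𝟙 _) ?_, hsq.lift_snd _ _ _⟩
    rw [← Over.comp_left, IsMonHom.one_hom f]
    exact (Category.id_comp _).symm
  haveI : DiscreteTopology N.left := Groth.Agent.SpQS.discrete_of_isFinite N.hom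
  refine ⟨fun h => ?_, fun h => ?_⟩
  · haveI : UniversallyInjective N.hom := MorphismProperty.of_isPullback hsq h
    haveI : Subsingleton N.left := ⟨fun a b => N.hom.injective (Subsingleton.elim (α := PrimeSpectrum k) _ _)⟩
    haveI : Nonempty N.left := ⟨s (IsLocalRing.closedPoint k)⟩
    exact ⟨inferInstance⟩
  · haveI := h
    have hone : Subsingleton N.left := ⟨fun a b => by
      have hc : IsClopen ({a} : Set N.left) := isClopen_discrete _
      have := hc.eq_univ (Set.singleton_nonempty a)
      exact (this.ge (Set.mem_univ b)).symm⟩
    haveI : Surjective s := ⟨fun n => ⟨IsLocalRing.closedPoint k, Subsingleton.elim _ _⟩⟩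
    have hN' : UniversallyInjective N.hom := Groth.Agent.AVDeg.universallyInjective_of_section s N.hom hs
    have hK : UniversallyInjective (Limits.pullback.snd f.left η[Y].left) := by
      haveI := hN'
      haveI : MorphismProperty.RespectsIso @UniversallyInjective := UniversallyInjective.respectsIso
      rw [← hsq.isoPullback_inv_snd]
      exact (MorphismProperty.cancel_left_of_respectsIso @UniversallyInjective _ _).2 hN'
    apply MorphismProperty.of_pullback_snd_of_descendsAlong
      (Q := @Surjective ⊓ @Flat ⊓ @QuasiCompact) (f := f.left) (g := f.left)
    · exact ⟨⟨inferInstance, inferInstance⟩, inferInstance⟩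
    · exact Groth.Agent.GrpField.snd_self f @UniversallyInjective hK

end Groth.Agent.S16676
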