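import Groth.Statements.S16678
import Groth.Agent.EtPi0.Basic
import Groth.Agent.LocNoethTop.Basic
import Groth.Agent.SchDescent.Coprod

set_option autoImplicit false
universe u
open CategoryTheory CategoryTheory.Limits AlgebraicGeometry
open Variety

set_option backward.isDefEq.respectTransparency false
set_option backward.isDefEq.respectTransparency.types false

namespace Groth.Agent.S16678

/-- For a field k and a k-scheme X locally of finite type there are an étale k-scheme P and a k-morphism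
q : X → P such that every k-morphism h : X → Y to an étale k-scheme Y equals t ∘ q for exactly one
k-morphism t : P → Y; moreover q is flat and surjective, and for each point x of X the fibre
q⁻¹(q(x)), as a subset of X, is the connected component of x. (Étale means locally of finite
presentation with étale ring maps on affine pieces; no quasi-compactness is asked, so P may have
infinitely many points.) -/
theorem result (k : Type u) [Field k]
    (X : Scheme.{u}) (f : X ⟶ Spec (CommRingCat.of k)) [LocallyOfFiniteType f] :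
    ∃ (P : Scheme.{u}) (g : P ⟶ Spec (CommRingCat.of k)) (q : X ⟶ P), Etale g ∧ q ≫ g = f ∧
      (∀ (Y : Scheme.{u}) (gY : Y ⟶ Spec (CommRingCat.of k)) (h : X ⟶ Y), Etale gY → h ≫ gY = f →
        ∃! t : P ⟶ Y, t ≫ gY = g ∧ q ≫ t = h) ∧
      Flat q ∧ Surjective q ∧
      ∀ x : ↥X, (fun x' : ↥X => q x') ⁻¹' {q x} = connectedComponent x := by
  classical
  haveI : IsLocallyNoetherian X := LocallyOfFiniteType.isLocallyNoetherian f
  haveI : LocallyConnectedSpace X := LocNoethTop.locallyConnectedSpace fun x ↦ by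
    obtain ⟨_, ⟨U, hU, rfl⟩, hxU, -⟩ :=
      X.isBasis_affineOpens.exists_subset_of_mem_open (Set.mem_univ x) isOpen_univ
    haveI : IsAffine U := hU
    haveI : IsNoetherian (U : Scheme.{u}) := { }
    exact ⟨U, U.2.mem_nhds hxU, inferInstanceAs (TopologicalSpace.NoetherianSpace (U : Scheme.{u}))⟩
  let V : _root_.ConnectedComponents X → X.Opens := fun c ↦
    ⟨_root_.ConnectedComponents.mk ⁻¹' {c}, by
      obtain ⟨x, rfl⟩ := _root_.ConnectedComponents.surjective_coe c
      rw [connectedComponents_preimage_singleton]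
      exact isOpen_connectedComponent⟩
  have hV : ∀ x, (V (_root_.ConnectedComponents.mk x) : Set X) = connectedComponent x :=
    fun x ↦ connectedComponents_preimage_singleton
  haveI hconn : ∀ c, ConnectedSpace (V c : Scheme.{u}) := fun c ↦ by
    obtain ⟨x, rfl⟩ := _root_.ConnectedComponents.surjective_coe c
    exact isConnected_iff_connectedSpace.mp (hV x ▸ isConnected_connectedComponent :
      _root_.IsConnected (V (_root_.ConnectedComponents.mk x) : Set X))
  choose P g q hg hqg huniv hflat hsurj hsub using fun c ↦ EtPi0.exists_connected (V c) ((V c).ι ≫ f)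
  have hcov : ⨆ c, (V c).ι.opensRange = ⊤ := by
    simp only [Scheme.Opens.opensRange_ι]
    exact eq_top_iff.mpr fun x _ ↦ TopologicalSpace.Opens.mem_iSup.mpr ⟨_root_.ConnectedComponents.mk x, rfl⟩
  have hdisj : Pairwise fun c d ↦ Disjoint ((V c).ι.opensRange) ((V d).ι.opensRange) := fun c d hcd ↦ by
    simp only [Scheme.Opens.opensRange_ι, disjoint_iff]
    exact eq_bot_iff.mpr fun x hx ↦ hcd (hx.1.symm.trans hx.2)
  obtain ⟨hc⟩ := nonempty_isColimit_cofanMk_of (fun c ↦ (V c).ι) hcov hdisj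
  let φ : (∐ fun c ↦ (V c : Scheme.{u})) ≅ X := (coproductIsCoproduct _).coconePointUniqueUpToIso hc
  have hφ : ∀ c, Sigma.ι (fun c ↦ (V c : Scheme.{u})) c ≫ φ.hom = (V c).ι :=
    fun c ↦ (coproductIsCoproduct _).comp_coconePointUniqueUpToIso_hom hc ⟨c⟩
  let Q : X ⟶ ∐ P := φ.inv ≫ Sigma.desc fun c ↦ q c ≫ Sigma.ι P c
  have hQ : ∀ c, (V c).ι ≫ Q = q c ≫ Sigma.ι P c := fun c ↦ by
    rw [← hφ c, Category.assoc, Iso.hom_inv_id_assoc, Sigma.ι_desc]
  have hext : ∀ {Z : Scheme.{u}} (a b : X ⟶ Z), (∀ c, (V c).ι ≫ a = (V c).ι ≫ b) → a = b :=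
    fun a b h ↦ hc.hom_ext fun ⟨c⟩ ↦ h c
  refine ⟨∐ P, Sigma.desc g, Q, IsZariskiLocalAtSource.sigmaDesc hg,
    hext _ _ fun c ↦ by rw [reassoc_of% hQ c, Sigma.ι_desc, hqg], fun Y gY h hY hh ↦ ?_, ?_,
    ⟨fun z ↦ ?_⟩, fun x ↦ ?_⟩
  · choose t ht htu using fun c ↦ huniv c Y gY ((V c).ι ≫ h) hY (by rw [Category.assoc, hh])
    refine ⟨Sigma.desc t, ⟨Limits.Sigma.hom_ext _ _ fun c ↦ by rw [Sigma.ι_desc_assoc, (ht c).1, Sigma.ι_desc],
      hext _ _ fun c ↦ by rw [reassoc_of% hQ c, Sigma.ι_desc, (ht c).2]⟩, fun t' ⟨h1, h2⟩ ↦ ?_⟩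
    refine Limits.Sigma.hom_ext _ _ fun c ↦ ?_
    rw [Sigma.ι_desc]
    exact htu c _ ⟨by rw [Category.assoc, h1, Sigma.ι_desc], by rw [← reassoc_of% hQ c, h2]⟩
  · haveI : Flat (Sigma.desc fun c ↦ q c ≫ Sigma.ι P c) :=
      IsZariskiLocalAtSource.sigmaDesc fun c ↦ by haveI := hflat c; infer_instance
    infer_instance
  · obtain ⟨c, z', hz⟩ := (sigmaOpenCover P).exists_eq z
    obtain ⟨w, hw⟩ := (hsurj c).surj z'
    refine ⟨(V c).ι w, ?_⟩
    rw [← Scheme.Hom.comp_apply, hQ c, Scheme.Hom.comp_apply, hw]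
    exact hz
  · ext x'
    have key : ∀ x'' : X, ∃ p, Q x'' = Sigma.ι P (_root_.ConnectedComponents.mk x'') p := fun x'' ↦
      ⟨q _ ⟨x'', rfl⟩, by
        rw [← Scheme.Hom.comp_apply, ← hQ, Scheme.Hom.comp_apply]
        rfl⟩
    obtain ⟨p, hp⟩ := key x
    obtain ⟨p', hp'⟩ := key x'
    simp only [Set.mem_preimage, Set.mem_singleton_iff]
    constructor
    · intro e
      rw [hp, hp'] at e
      exact (_root_.ConnectedComponents.coe_eq_coe'.mp (SchDescent.Coprod.eq_of_ι_eq e))
    · intro hx'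
      have e : _root_.ConnectedComponents.mk x' = _root_.ConnectedComponents.mk x :=
        _root_.ConnectedComponents.coe_eq_coe'.mpr hx'
      rw [hp, hp']
      have : ∀ c, _root_.ConnectedComponents.mk x = c → ∀ r : P c,
          Sigma.ι P c r = Sigma.ι P (_root_.ConnectedComponents.mk x) p := by
        rintro _ rfl r
        rw [(hsub _).elim r p]
      exact this _ e.symm p'

end Groth.Agent.S16678
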