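import Groth.Statements.S16682
import Groth.Agent.W7See.Closed
import Groth.Agent.W7See.Trivial

set_option autoImplicit false
universe u
open CategoryTheory CategoryTheory.Limits MonoidalCategory CartesianMonoidalCategory AlgebraicGeometry
open AbVar

set_option backward.isDefEq.respectTransparency false
set_option backward.isDefEq.respectTransparency.types false

namespace Groth.Agent.S16682

/-- Let k be a field, X a proper geometrically integral k-scheme (a complete variety), Y a variety over
k (separated, of finite type, geometrically integral), and L, M two invertible modules on X ×_k Y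
(the product in the category of k-schemes). If for every closed point y of Y the restrictions of L
and M to the fibre X ×_k Spec k(y) are isomorphic, then there is an invertible O_Y-module N with L
isomorphic to M ⊗ p^*N, where p : X ×_k Y → Y is the second projection (existence of an isomorphism;
N is determined only up to isomorphism). -/
theorem result (k : Type u) [Field k]
    (X Y : Over (Spec (CommRingCat.of k)))
    [IsProper X.hom] [GeometricallyIntegral X.hom]
    [IsSeparated Y.hom] [QuasiCompact Y.hom] [LocallyOfFiniteType Y.hom] [GeometricallyIntegral Y.hom]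
    (L M : (X ⊗ Y).left.Modules) (hL : PicF.IsInvertible L) (hM : PicF.IsInvertible M)
    (h : ∀ y : ↥Y.left, IsClosed ({y} : Set ↥Y.left) →
      Nonempty ((Scheme.Modules.pullback (pullback.fst (snd X Y).left (Y.left.fromSpecResidueField y))).obj L ≅
        (Scheme.Modules.pullback (pullback.fst (snd X Y).left (Y.left.fromSpecResidueField y))).obj M)) :
    ∃ N : Y.left.Modules, PicF.IsInvertible N ∧
      Nonempty (L ≅ CohB1.tensorMod M ((Scheme.Modules.pullback (snd X Y).left).obj N)) := by
  let f : (X ⊗ Y).left ⟶ Y.left := (snd X Y).left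
  haveI : Flat X.hom := inferInstance
  haveI : IsProper f := inferInstanceAs (IsProper (pullback.snd X.hom Y.hom))
  haveI : Flat f := inferInstanceAs (Flat (pullback.snd X.hom Y.hom))
  haveI : GeometricallyIntegral f := inferInstanceAs (GeometricallyIntegral (pullback.snd X.hom Y.hom))
  haveI := Groth.Agent.W7See.geometricallyConnected_of_geometricallyIntegral f
  haveI : IsIntegral Y.left := GeometricallyIntegral.isIntegral_of_subsingleton (f := Y.hom)
  haveI : IsLocallyNoetherian Y.left := LocallyOfFiniteType.isLocallyNoetherian Y.hom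
  haveI : JacobsonSpace ↥Y.left := LocallyOfFiniteType.jacobsonSpace Y.hom
  obtain ⟨M', hM', ⟨ε⟩⟩ := Groth.Agent.W7Hull.exists_tensor_inverse hM
  have htriv : ∀ y : Y.left, IsClosed ({y} : Set Y.left) →
      Nonempty (CohIII.fiberMod f (CohB1.tensorMod L M') y ≅ Coh.structureModule (f.fiber y)) := fun y hy => by
    obtain ⟨i⟩ := h y hy
    let q := f.fiberι y
    obtain ⟨a⟩ := TMul.nonempty_pullTensorIso q L M'
    obtain ⟨b⟩ := TMul.nonempty_pullTensorIso q M M'
    exact ⟨a.symm ≪≫ PicGrp.tensorModIso i (Iso.refl _) ≪≫ b ≪≫
      (Scheme.Modules.pullback q).mapIso ε ≪≫ PicLoc.pullbackStructureIso q⟩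
  obtain ⟨h1, h2⟩ := Groth.Agent.W7See.seesaw_closedPoints f (fun y _ => Groth.Agent.W7See.bijective_fiber f y) _
    (TMul.isInvertible_tensorMod hL hM') htriv
  refine ⟨_, h1, ⟨?_⟩⟩
  exact (TMul.commIso L _ ≪≫ TMul.leftUnitIso L).symm ≪≫ PicGrp.tensorModIso (Iso.refl L) ε.symm ≪≫
    PicGrp.tensorModIso (Iso.refl L) (TMul.commIso M M') ≪≫ (TMul.assocIso L M' M).symm ≪≫ TMul.commIso _ M ≪≫
    PicGrp.tensorModIso (Iso.refl M)
      (asIso ((Scheme.Modules.pullbackPushforwardAdjunction f).counit.app (CohB1.tensorMod L M'))).symm

end Groth.Agent.S16682
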