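import Groth.Statements.S16683
import Groth.Agent.AVUniv.PicSch

set_option autoImplicit false
universe u
open CategoryTheory CategoryTheory.Limits MonoidalCategory CartesianMonoidalCategory MonObj GrpObj AlgebraicGeometry
open AbVar

namespace Groth.Agent.S16683

/-- Fix a field k and a g-dimensional abelian variety X over k (a proper, geometrically integral k-group
scheme with underlying space of Krull dimension g), and let P be a k-scheme locally of finite type
which represents, through φ, the relative Picard functor Pic_{X/k} (the fppf sheaf associated to T ↦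
Pic(X ×_k T)). Then P is smooth over k — in particular its identity component Pic⁰_{X/k}, the dual
of X, is reduced and hence an abelian variety — and the underlying space of P has Krull dimension g
= dim X. (The published statement also identifies g with dim_k H^1(X, O_X) and the kernel of φ_L
with K(L) for L ample; those clauses are not part of this statement. The Picard scheme is taken as
given.) -/
theorem result (k : Type u) [Field k]
    (X : Over (Spec (CommRingCat.of k))) [GrpObj X] [IsProper X.hom] [GeometricallyIntegral X.hom]
    (g : ℕ) (hg : topologicalKrullDim ↥X.left = g)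
    (P : Over (Spec (CommRingCat.of k)))
    (φ : ∀ T : Over (Spec (CommRingCat.of k)), PicF.Cl (PicF.XT X.hom T) → (T ⟶ P))
    (hP : AbDual.IsRelPicK Scheme.fppfPrecoverage X.hom P φ) [LocallyOfFiniteType P.hom] :
    Smooth P.hom ∧ topologicalKrullDim ↥P.left = g := by
  let Ω := AlgebraicClosure k
  let τ : Spec (CommRingCat.of Ω) ⟶ Spec (CommRingCat.of k) := Spec.map (CommRingCat.ofHom (algebraMap k Ω))
  let X' := Red.bc τ X
  haveI : IsProper X'.hom := inferInstanceAs (IsProper (Limits.pullback.snd X.hom τ))
  haveI : GeometricallyIntegral X'.hom := inferInstanceAs (GeometricallyIntegral (Limits.pullback.snd X.hom τ))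
  haveI : LocallyOfFiniteType (Red.bc τ P).hom := inferInstanceAs (LocallyOfFiniteType (Limits.pullback.snd P.hom τ))
  obtain ⟨At, hAt, hAp, hAi, hdim, ⟨W⟩⟩ := AVDual.exists_pair X'
  have hg' : topologicalKrullDim X'.left = g :=
    (DimField.dim_eq_of_isPullback X.hom (Limits.pullback.snd X.hom τ) (Limits.pullback.fst _ _) τ
      (IsPullback.of_hasPullback _ _)).symm.trans hg
  obtain ⟨hs, hd⟩ := AVUniv.smooth_and_dim W g hg' (hdim.trans hg') (AVUniv.isRelPicK_bcDual τ hP)
  refine ⟨?_, ?_⟩
  · haveI : Surjective τ := ⟨Function.surjective_to_subsingleton (α := PrimeSpectrum Ω) (β := PrimeSpectrum k) _⟩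
    haveI : Flat τ := by
      rw [HasRingHomProperty.Spec_iff (P := @Flat)]
      exact RingHom.flat_algebraMap_iff.mpr inferInstance
    haveI : QuasiCompact τ := inferInstance
    exact MorphismProperty.of_pullback_snd_of_descendsAlong (P := @Smooth)
      (Q := @Surjective ⊓ @Flat ⊓ @QuasiCompact) (g := τ) ⟨⟨inferInstance, inferInstance⟩, inferInstance⟩ hs
  · exact (DimField.dim_eq_of_isPullback P.hom (Limits.pullback.snd P.hom τ) (Limits.pullback.fst _ _) τ
      (IsPullback.of_hasPullback _ _)).trans hd

end Groth.Agent.S16683
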