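import Groth.Statements.S16687
import Groth.Agent.ThetaLib.Represent
import Groth.Agent.S0383
import Groth.Agent.FieldPow.Main
import Groth.Agent.GrpField.Isogeny
-- import your own Groth.Agent.* helpers here

set_option autoImplicit false
universe u
open CategoryTheory CategoryTheory.Limits MonoidalCategory CartesianMonoidalCategory MonObj GrpObj AlgebraicGeometry
open AbVar

set_option backward.isDefEq.respectTransparency false
set_option backward.isDefEq.respectTransparency.types false
set_option linter.style.haveILetI false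
set_option maxHeartbeats 1000000

namespace Groth.Agent.S16687

open Groth.Agent.W7Cube
attribute [local instance] Groth.Agent.W7Cube.law


/-- Let X be an abelian variety over a field k (a proper, geometrically integral k-group scheme) with
group law m : X ×_k X → X and projections p₁, p₂, let L be an invertible O_X-module, and let n ≥ 2
be an integer such that n^*L ≅ L^{⊗ n}, where n : X → X is multiplication by n (the n-th power of
the identity in the group of endomorphisms). Then the class of L lies in Pic⁰_{X/k}, i.e. the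
Mumford module of L is trivial: m^*L ≅ p₁^*L ⊗ p₂^*L (existence of an isomorphism of modules on X
×_k X). (The published statement allows any integer n other than 0 and 1, negative n included; this
row takes n a natural number with n ≥ 2. The converse implication also holds; this row is the
direction from one such n.) -/
theorem result (k : Type u) [Field k]
    (X : Over (Spec (CommRingCat.of k))) [GrpObj X] [IsProper X.hom] [GeometricallyIntegral X.hom]
    (L : X.left.Modules) (hL : PicF.IsInvertible L) (n : ℕ) (hn : 2 ≤ n)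
    (h : Nonempty ((Scheme.Modules.pullback (𝟙 X ^ n).left).obj L ≅ CohB1.tensorPow L n)) :
    Nonempty ((Scheme.Modules.pullback μ[X].left).obj L ≅
      CohB1.tensorMod ((Scheme.Modules.pullback (fst X X).left).obj L)
        ((Scheme.Modules.pullback (snd X X).left).obj L)) := by
  
  haveI hcA : IsCommMonObj X := isCommMonObj_of_isProper_of_geometricallyIntegral X
  haveI : IsIntegral X.left := GeometricallyIntegral.isIntegral_of_subsingleton X.hom
  let c := PicGrp.cls L hL
  let c' := pc c (𝟙 X)⁻¹
  let lam := AVAmple.mum c (𝟙 X)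
  have h0 : pc c (𝟙 X ^ n) = c ^ n := by
    obtain ⟨e⟩ := h
    rw [pc, pull_cls]
    refine Subtype.ext (Eq.trans ?_ (PicGrp.cls_pow_val _ _).symm)
    exact (PicGrp.cl_eq_cl_iff _ _).2 ⟨e⟩
  obtain ⟨b, hb, hn2⟩ : ∃ b, n * (n - 1) / 2 = b ∧ 1 ≤ b :=
    ⟨_, rfl, (Nat.one_le_div_iff two_pos).2 (by nlinarith [Nat.sub_add_cancel (show 1 ≤ n by omega)])⟩
  have ha : n * (n + 1) / 2 = n + b := by
    have e : n * (n + 1) = n * (n - 1) + n * 2 := by
      obtain ⟨m, rfl⟩ : ∃ m, n = m + 1 := ⟨n - 1, by omega⟩
      simp only [Nat.add_sub_cancel]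
      ring
    rw [e, Nat.add_mul_div_right _ _ two_pos, hb, Nat.add_comm]
  have hcc : (c * c') ^ b = 1 := by
    have h1 := h0.symm.trans (pc_pow c n)
    rw [ha, hb, pow_add, _root_.mul_assoc, left_eq_mul] at h1
    rw [mul_pow]
    exact h1
  -- the Mumford class is symmetric
  have hmum' : AVAmple.mum c' (𝟙 X) = lam := by
    have e2 : ∀ {V : Over (Spec (CommRingCat.of k))} (p : V ⟶ X), pc c' p = pc c p⁻¹ := fun {V} p => by
      rw [show c' = pull ((𝟙 X)⁻¹).left c from rfl]
      change pull p.left (pull ((𝟙 X)⁻¹).left c) = pull (p⁻¹).left c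
      rw [pull_pull, ← Over.comp_left, GrpObj.comp_inv, Category.comp_id]
    have e1 : AVAmple.mum c' (𝟙 X) = pull (((𝟙 X)⁻¹ : X ⟶ X) ▷ X).left (AVAmple.mum c (𝟙 X)⁻¹) := by
      rw [AVAmple.mum, AVAmple.mum, e2, e2, e2, map_mul, map_inv, map_mul, pull_pc, pull_pc, pull_pc]
      simp only [MonObj.comp_mul, whiskerRight_fst, whiskerRight_snd, whiskerRight_snd_assoc, GrpObj.comp_inv, Category.comp_id,
        _root_.mul_inv_rev, _root_.mul_comm]
    have hsym : ∀ (V : Over (Spec (CommRingCat.of k))) (p q : V ⟶ X),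
        pull (lift p q).left lam = pc c (p * q) * (pc c p * pc c q)⁻¹ := fun V p q => by
      simp only [lam, AVAmple.mum, map_mul, map_inv, pull_pc, MonObj.comp_mul, lift_fst, lift_snd, Category.comp_id]
    have hswap : pull (lift (snd X X) (fst X X)).left lam = lam := by
      rw [hsym, _root_.mul_comm (snd X X), _root_.mul_comm (pc c (snd X X))]
      simp [lam, AVAmple.mum]
    have hlam : lam = pull (lift (fst X X) (snd X X)).left lam := by
      rw [hsym]; simp [lam, AVAmple.mum]
    -- inversion in the first variable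
    have hinv1 : pull (((𝟙 X)⁻¹ : X ⟶ X) ▷ X).left lam = lam⁻¹ := by
      have hA := AVAmple.mum_inv c (𝟙 X)
      have : pull (lift (fst X X) ((snd X X)⁻¹)).left lam = lam⁻¹ := by
        rw [← hA, hsym, AVAmple.mum]
        simp [GrpObj.comp_inv]
      have h2 := congrArg (pull (lift (snd X X) (fst X X)).left) this
      rw [map_inv, hswap, pull_pull, ← Over.comp_left] at h2
      rw [← h2]
      conv_lhs => rw [← hswap]
      rw [pull_pull, ← Over.comp_left]
      congr 3
      apply CartesianMonoidalCategory.hom_ext <;> simp [GrpObj.comp_inv, GrpObj.inv_comp]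
    rw [e1, AVAmple.mum_inv, map_inv, hinv1, _root_.inv_inv]
  have hmul : ∀ d d' : PicLoc.PicSet X.left, AVAmple.mum (d * d') (𝟙 X) = AVAmple.mum d (𝟙 X) * AVAmple.mum d' (𝟙 X) :=
    fun d d' => by
    simp only [AVAmple.mum, pc, map_mul]
    apply Additive.ofMul.injective
    simp only [ofMul_mul, ofMul_inv]
    abel
  have hpow : ∀ (d : PicLoc.PicSet X.left) (j : ℕ), AVAmple.mum (d ^ j) (𝟙 X) = AVAmple.mum d (𝟙 X) ^ j := fun d j => by
    induction j with
    | zero => rw [pow_zero, pow_zero, AVAmple.mum, pc, pc, pc, map_one, map_one, map_one, _root_.one_mul, _root_.one_mul, inv_one]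
    | succ j ih => rw [pow_succ, pow_succ, hmul, ih]
  have hlam2 : lam ^ (2 * b) = 1 := by
    have h1 : AVAmple.mum ((c * c') ^ b) (𝟙 X) = 1 := by rw [hcc, AVAmple.mum, pc, pc, pc, map_one, map_one, map_one, _root_.one_mul, _root_.one_mul, inv_one]
    rwa [hpow, hmul, hmum', ← pow_two, ← pow_mul] at h1
  -- the multiplication by 2b factors through K(L)
  have hmm : ∀ j : ℕ, AVAmple.mum c (𝟙 X ^ j) = lam ^ j := fun j => by
    induction j with
    | zero => rw [pow_zero, pow_zero, AVAmple.mum_one]
    | succ j ih => rw [pow_succ, pow_succ, AVAmple.mum_mul, ih]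
  obtain ⟨Z, z, hz, hZ⟩ := ThetaLib.exists_locus hL
  obtain ⟨y, hy⟩ := (hZ X (𝟙 X ^ (2 * b))).1 ((AVAmple.isMumfordTriv_iff L hL _).2 ⟨1, by
    rw [map_one]; exact (hmm _).trans hlam2⟩)
  haveI : IsMonHom (𝟙 X ^ (2 * b) : X ⟶ X) := by
    rw [← zpow_natCast]; exact FieldPow.isMonHom_pow X _
  haveI : Surjective (𝟙 X ^ (2 * b) : X ⟶ X).left := S0383.result k X (2 * b) (by omega)
  haveI : Flat (𝟙 X ^ (2 * b) : X ⟶ X).left := GrpField.flat_of_surjective _
  haveI : QuasiCompact (𝟙 X ^ (2 * b) : X ⟶ X).left := by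
    haveI : QuasiCompact ((𝟙 X ^ (2 * b) : X ⟶ X).left ≫ X.hom) := by rw [Over.w]; infer_instance
    exact QuasiCompact.of_comp _ X.hom
  have hy' : y.left ≫ z.left = (𝟙 X ^ (2 * b) : X ⟶ X).left := by rw [← Over.comp_left, hy]
  haveI : StrongEpi (y.left ≫ z.left) := by rw [hy']; infer_instance
  haveI : StrongEpi z.left := strongEpi_of_strongEpi y.left z.left
  haveI : IsIso z.left := isIso_of_mono_of_strongEpi z.left
  obtain ⟨d, hd⟩ := (AVAmple.isMumfordTriv_iff L hL _).1 ((hZ X (𝟙 X)).2
    ⟨Over.homMk (inv z.left) (by rw [← Over.w z, IsIso.inv_hom_id_assoc]),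
      Over.OverMorphism.ext (IsIso.inv_hom_id z.left)⟩)
  have h1 := AVAmple.mum_eq_one_of_pullback _ _ d hd
  rw [AVAmple.mum, Category.comp_id, mul_inv_eq_one] at h1
  rw [show μ[X] = fst X X * snd X X from MonObj.mul_eq_mul X]
  refine (PicGrp.cl_eq_cl_iff _ _).1 ?_
  have h2 := congrArg Subtype.val h1
  rw [pc, pc, pc, pull_cls, pull_cls, pull_cls, PicGrp.mul_val] at h2
  exact h2


end Groth.Agent.S16687
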