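import Groth.Agent.QDMSlice.WNASpace
import Groth.Prelude.Def_W4stkstmodspWNA

set_option autoImplicit false
universe u
open AlgSt

set_option backward.isDefEq.respectTransparency false

namespace Groth.Agent.S16698

open CategoryTheory AlgebraicGeometry in
/-- A well-nigh affine algebraic stack which is an algebraic space is an affine scheme. -/
theorem result (S : Scheme.{u}) (𝒳 : AlgSt.Cat S)
    (h𝒳 : AlgSt.IsAlgStack Scheme.fppfPrecoverage 𝒳) (hw : AlgSt.IsWellNighAffine 𝒳)
    (hsp : AlgSt.RepByAlgSp 𝒳) :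
    ∃ (U : Over S) (e : AlgSt.ofSch U ⥤ᵇ 𝒳), IsAffine U.left ∧ FibCat.IsEquivOver e := by
  exact Groth.Agent.QDMSlice.exists_affine_of_wellNighAffine hw hsp

end Groth.Agent.S16698
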