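import Groth.Agent.AlgStLib.Misc2
import Groth.Prelude.Def_W4stkstmodspWNA

set_option autoImplicit false
universe u
open AlgSt

set_option backward.isDefEq.respectTransparency false

namespace Groth.Agent.S16699

open CategoryTheory AlgebraicGeometry in
/-- An algebraic stack affine over a well-nigh affine algebraic stack is well-nigh affine. -/
theorem result (S : Scheme.{u}) (𝒳 𝒳' : AlgSt.Cat S)
    (h𝒳 : AlgSt.IsAlgStack Scheme.fppfPrecoverage 𝒳) (h𝒳' : AlgSt.IsAlgStack Scheme.fppfPrecoverage 𝒳')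
    (hw : AlgSt.IsWellNighAffine 𝒳) (f : 𝒳' ⥤ᵇ 𝒳) (hf : AlgSt.RepByAlgSpWith AlgSp.IsAffineMor f) :
    AlgSt.IsWellNighAffine 𝒳' := by
  obtain ⟨U, x, hU, hx⟩ := hw
  haveI := hU
  obtain ⟨W, w, hW, hww⟩ := Groth.Agent.AlgStLib.exists_affine_chart_of_affine hf x hx
  exact ⟨W, w, hW, hww⟩

end Groth.Agent.S16699
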