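import Groth.Statements.S16714
import Groth.Agent.Nakai.FibreDeg
import Groth.Agent.Nakai.NefApps
import Groth.Agent.Nakai.SemiAmple
import Groth.Agent.Castel.MinDesc
import Groth.Agent.CycDim.SpSub
import Groth.Agent.K0Hom.BC
import Groth.Agent.HilbFib.Basic
import Groth.Agent.DefLift.HomLift
import Groth.Agent.S0404

set_option autoImplicit false
set_option backward.isDefEq.respectTransparency false
set_option backward.isDefEq.respectTransparency.types false
set_option linter.style.haveILetI false
universe u
open CategoryTheory CategoryTheory.Limits AlgebraicGeometry TopologicalSpace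
open Variety
open Groth.Agent

namespace Groth.Agent.S16714

theorem isOpenImmersion_generic (R : Type u) [CommRing R] [IsDomain R] [IsDiscreteValuationRing R] :
    IsOpenImmersion ((Spec (CommRingCat.of R)).fromSpecResidueField (⟨⊥, Ideal.isPrime_bot⟩ : PrimeSpectrum R)) := by
  let b : ↥(Spec (CommRingCat.of R)) := ⟨⊥, Ideal.isPrime_bot⟩
  obtain ⟨ϖ, hϖ⟩ := IsDiscreteValuationRing.exists_irreducible R
  let K := (⊥ : Ideal R).ResidueField
  have hinj : Function.Injective (algebraMap R K) := by
    rw [injective_iff_map_eq_zero]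
    intro a ha
    exact Ideal.mem_bot.mp (Ideal.algebraMap_residueField_eq_zero.mp ha)
  haveI : IsLocalization.Away ϖ K := by
    refine { map_units := ?_, surj := ?_, exists_of_eq := fun h => ⟨1, by simpa using hinj h⟩ }
    · rintro ⟨_, n, rfl⟩
      exact (IsUnit.mk0 _ fun h => pow_ne_zero n hϖ.ne_zero (hinj (h.trans (map_zero _).symm)))
    · intro z
      obtain ⟨a, c, hc, rfl⟩ := IsFractionRing.div_surjective (A := R ⧸ (⊥ : Ideal R)) z
      obtain ⟨a, rfl⟩ := Ideal.Quotient.mk_surjective a
      obtain ⟨c, rfl⟩ := Ideal.Quotient.mk_surjective c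
      have hc0 : c ≠ 0 := fun h => nonZeroDivisors.ne_zero hc (by rw [h, map_zero])
      obtain ⟨n, u, rfl⟩ := IsDiscreteValuationRing.eq_unit_mul_pow_irreducible hc0 hϖ
      refine ⟨⟨(↑u⁻¹ : R) * a, ⟨ϖ ^ n, n, rfl⟩⟩, ?_⟩
      show algebraMap R K a / algebraMap R K (↑u * ϖ ^ n) * algebraMap R K (ϖ ^ n) = algebraMap R K ((↑u⁻¹ : R) * a)
      have hu : algebraMap R K ((↑u⁻¹ : R)) * algebraMap R K (u : R) = 1 := by rw [← map_mul, Units.inv_mul, map_one]
      have hn : algebraMap R K (ϖ ^ n) ≠ 0 := fun h => pow_ne_zero n hϖ.ne_zero (hinj (h.trans (map_zero _).symm))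
      have hu0 : algebraMap R K (u : R) ≠ 0 := fun h => by rw [h, mul_zero] at hu; exact zero_ne_one hu
      rw [map_mul, map_mul]
      rw [div_mul_eq_mul_div, div_eq_iff (mul_ne_zero hu0 hn)]
      linear_combination (algebraMap R K a * algebraMap R K (ϖ ^ n)) * hu.symm
  haveI : IsOpenImmersion (Spec.map (CommRingCat.ofHom (algebraMap R K))) := IsOpenImmersion.of_isLocalization ϖ
  haveI : IsOpenImmersion ((Spec (CommRingCat.of R)).fromSpecResidueField b) := by
    rw [← Scheme.Spec.map_residueFieldIso_inv_eq_fromSpecResidueField]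
    exact IsOpenImmersion.comp _ (Spec.map (CommRingCat.ofHom (algebraMap R K)))
  exact inferInstanceAs (IsOpenImmersion ((Spec (CommRingCat.of R)).fromSpecResidueField b))

/-- Let R be a discrete valuation ring, p : X → Spec R a proper flat morphism and L an invertible
O_X-module. If the restriction L_0 of L to the closed fibre X_0 is nef (χ(O_C ⊗ L_0) - χ(O_C) ≥ 0
for every integral closed subscheme C ⊆ X_0 of dimension one, computed over the residue field), then
the restriction L_η to the generic fibre X_η is nef over the fraction field in the same sense. -/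
theorem result (R : Type u) [CommRing R] [IsDomain R]
    [IsDiscreteValuationRing R] (X : Scheme.{u}) (p : X ⟶ Spec (CommRingCat.of R)) [IsProper p] [Flat p]
    (L : X.Modules) (hL : PicF.IsInvertible L)
    (h0 : ∀ C : (p.fiber (IsLocalRing.closedPoint R)).IdealSheafData, IsIntegral C.subscheme →
        topologicalKrullDim (C.support : Set ↥(p.fiber (IsLocalRing.closedPoint R))) = 1 →
          0 ≤ @Curv2.euler ((Spec (CommRingCat.of R)).residueField (IsLocalRing.closedPoint R)) _ (p.fiber (IsLocalRing.closedPoint R)) ⟨p.fiberToSpecResidueField (IsLocalRing.closedPoint R)⟩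
                (CohB1.tensorMod (ClSub.quotMod C) ((Scheme.Modules.pullback (p.fiberι (IsLocalRing.closedPoint R))).obj L)) -
              @Curv2.euler ((Spec (CommRingCat.of R)).residueField (IsLocalRing.closedPoint R)) _ (p.fiber (IsLocalRing.closedPoint R)) ⟨p.fiberToSpecResidueField (IsLocalRing.closedPoint R)⟩ (ClSub.quotMod C)) :
    ∀ C' : (p.fiber (⟨⊥, Ideal.isPrime_bot⟩ : PrimeSpectrum R)).IdealSheafData, IsIntegral C'.subscheme →
        topologicalKrullDim (C'.support : Set ↥(p.fiber (⟨⊥, Ideal.isPrime_bot⟩ : PrimeSpectrum R))) = 1 →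
          0 ≤ @Curv2.euler ((Spec (CommRingCat.of R)).residueField (⟨⊥, Ideal.isPrime_bot⟩ : PrimeSpectrum R)) _ (p.fiber (⟨⊥, Ideal.isPrime_bot⟩ : PrimeSpectrum R)) ⟨p.fiberToSpecResidueField (⟨⊥, Ideal.isPrime_bot⟩ : PrimeSpectrum R)⟩
                (CohB1.tensorMod (ClSub.quotMod C') ((Scheme.Modules.pullback (p.fiberι (⟨⊥, Ideal.isPrime_bot⟩ : PrimeSpectrum R))).obj L)) -
              @Curv2.euler ((Spec (CommRingCat.of R)).residueField (⟨⊥, Ideal.isPrime_bot⟩ : PrimeSpectrum R)) _ (p.fiber (⟨⊥, Ideal.isPrime_bot⟩ : PrimeSpectrum R)) ⟨p.fiberToSpecResidueField (⟨⊥, Ideal.isPrime_bot⟩ : PrimeSpectrum R)⟩ (ClSub.quotMod C') := by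
  haveI := isOpenImmersion_generic R
  set η : ↥(Spec (CommRingCat.of R)) := (⟨⊥, Ideal.isPrime_bot⟩ : PrimeSpectrum R) with hη
  set c : ↥(Spec (CommRingCat.of R)) := IsLocalRing.closedPoint R with hcdef
  let uη := p.fiberι η
  haveI : IsOpenImmersion uη := MorphismProperty.pullback_fst (P := @IsOpenImmersion) _ _ inferInstance
  haveI : IsLocallyNoetherian X := LocallyOfFiniteType.isLocallyNoetherian p
  haveI : CompactSpace X := QuasiCompact.compactSpace_of_compactSpace p
  haveI : IsNoetherian X := {}
  intro C' hC' hC'd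
  haveI := hC'
  letI : (p.fiber η).Over (Spec (CommRingCat.of ((Spec (CommRingCat.of R)).residueField η))) :=
    ⟨p.fiberToSpecResidueField η⟩
  letI : (p.fiber c).Over (Spec (CommRingCat.of ((Spec (CommRingCat.of R)).residueField c))) :=
    ⟨p.fiberToSpecResidueField c⟩
  haveI : IsProper (p.fiber η ↘ Spec (CommRingCat.of ((Spec (CommRingCat.of R)).residueField η))) :=
    MorphismProperty.pullback_snd (P := @IsProper) p _ inferInstance
  haveI : IsProper (p.fiber c ↘ Spec (CommRingCat.of ((Spec (CommRingCat.of R)).residueField c))) :=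
    MorphismProperty.pullback_snd (P := @IsProper) p _ inferInstance
  haveI := CurveRR.isNoetherian_of_proper ((Spec (CommRingCat.of R)).residueField η) (p.fiber η)
  haveI := CurveRR.isNoetherian_of_proper ((Spec (CommRingCat.of R)).residueField c) (p.fiber c)
  -- the closure of the curve
  let j := C'.subschemeι ≫ uη
  haveI : IsIntegral j.image := Nakai.isIntegral_image j
  let ι := j.imageι
  have hgen : ι (genericPoint j.image) = j (genericPoint C'.subscheme) := by
    have h2 : Set.range j.toImage ⊆ closure {j.toImage (genericPoint C'.subscheme)} := by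
      rintro _ ⟨z, rfl⟩
      exact ((genericPoint_specializes z).map j.toImage.continuous).mem_closure
    have h1 : IsGenericPoint (j.toImage (genericPoint C'.subscheme)) (Set.univ : Set j.image) :=
      Set.eq_univ_of_forall fun y => closure_minimal h2 isClosed_closure (j.toImage.denseRange y)
    rw [← h1.eq (genericPoint_spec j.image), ← Scheme.Hom.comp_apply, j.toImage_imageι]
  have hjη : ∀ z, p (j z) = η := fun z => by
    have h1 : uη (C'.subschemeι z) ∈ Set.range uη := ⟨_, rfl⟩
    rw [Scheme.Hom.range_fiberι] at h1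
    exact h1
  haveI : Flat (ι ≫ p) := Castel.flat_of_dominant (ι ≫ p) (by
    rw [Scheme.Hom.comp_apply, hgen, hjη])
  haveI : IsProper (ι ≫ p) := inferInstance
  haveI : IsLocallyNoetherian j.image := LocallyOfFiniteType.isLocallyNoetherian ι
  let F := (Scheme.Modules.pushforward ι).obj (Coh.structureModule j.image)
  have hF : Coh.IsCoh F := Intersect.isCoh_push' ι RefStalk.isCoh_structureModule
  have hfl : FlatMod.IsFlatOver p F := CycSp.isFlatOver_push p ι
  have hfp : CohB1.IsFP F := haveI := hF.1; QC.isFP_of_isQCoh_of_isFT hF.2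
  -- the Euler characteristics agree on both fibres
  have hsp : η ⤳ c := (PrimeSpectrum.le_iff_specializes _ _).1 bot_le
  have hconst : ∀ n : ℕ, HilbFib.hilb p L F η n = HilbFib.hilb p L F c n := fun n =>
    congrFun (hsp.mem_open ((HilbFib.isLocallyConstant_hilb hL hfp hfl).isOpen_fiber _) rfl) n
  have hfib : ∀ s : ↥(Spec (CommRingCat.of R)),
      letI : (p.fiber s).Over (Spec (CommRingCat.of ((Spec (CommRingCat.of R)).residueField s))) :=
        ⟨p.fiberToSpecResidueField s⟩
      HilbFib.hilb p L F s 0 = Curv2.euler ((Spec (CommRingCat.of R)).residueField s) (p.fiber s)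
          ((Scheme.Modules.pullback (p.fiberι s)).obj F) ∧
      HilbFib.hilb p L F s 1 = Curv2.euler ((Spec (CommRingCat.of R)).residueField s) (p.fiber s)
          (CohB1.tensorMod ((Scheme.Modules.pullback (p.fiberι s)).obj F)
            ((Scheme.Modules.pullback (p.fiberι s)).obj L)) := fun s => by
    letI : (p.fiber s).Over (Spec (CommRingCat.of ((Spec (CommRingCat.of R)).residueField s))) :=
      ⟨p.fiberToSpecResidueField s⟩
    obtain ⟨t⟩ := TMul.nonempty_pullTensorIso (p.fiberι s) F L
    rw [HilbFib.hilb_eq_euler, HilbFib.hilb_eq_euler]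
    exact ⟨CurveRR.euler_eq_of_iso ((Scheme.Modules.pullback (p.fiberι s)).mapIso
        (TMul.commIso F (Coh.structureModule X) ≪≫ TMul.leftUnitIso F)),
      CurveRR.euler_eq_of_iso ((Scheme.Modules.pullback (p.fiberι s)).mapIso
        (PicGrp.tensorModIso (Iso.refl F) (TMul.leftUnitIso L)) ≪≫ t.symm)⟩
  -- the generic fibre
  let q := pullback.fst uη ι
  haveI : IsReduced (pullback uη ι) := isReduced_of_isOpenImmersion (pullback.snd uη ι)
  have hqs : (q.ker.support : Set (p.fiber η)) = C'.support := by
    rw [Scheme.Hom.support_ker, q.isClosedEmbedding.isClosed_range.closure_eq, Scheme.Pullback.range_fst]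
    have h1 : Set.range ι = closure (uη '' Set.range C'.subschemeι) := by
      refine (Scheme.IdealSheafData.range_subschemeι j.ker).trans ?_
      rw [Scheme.Hom.support_ker, ← Set.range_comp]
      rfl
    rw [h1, ← uη.isOpenEmbedding.isInducing.closure_eq_preimage_closure_image,
      C'.subschemeι.isClosedEmbedding.isClosed_range.closure_eq, Scheme.IdealSheafData.range_subschemeι]
  have hker : q.ker = C' := by
    rw [Nakai.ker_eq_vanishingIdeal q]
    conv_rhs => rw [← Scheme.IdealSheafData.ker_subschemeι C', Nakai.ker_eq_vanishingIdeal C'.subschemeι,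
      Scheme.IdealSheafData.ker_subschemeι]
    exact congrArg _ (TopologicalSpace.Closeds.ext hqs)
  obtain ⟨b⟩ := K0Hom.nonempty_pullback_push (IsPullback.of_hasPullback uη ι) (Coh.structureModule j.image)
  let eη : (Scheme.Modules.pullback uη).obj F ≅ ClSub.quotMod q.ker :=
    b ≪≫ (Scheme.Modules.pushforward q).mapIso (DerPerf.pullUnitIso (pullback.snd uη ι)) ≪≫
      (DefLift.quotModIso q).symm
  -- the closed fibre
  let q₀ := pullback.fst (p.fiberι c) ι
  have hF0 : Coh.IsCoh ((Scheme.Modules.pullback (p.fiberι c)).obj F) := QC.isCoh_pullback _ hF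
  obtain ⟨b₀⟩ := K0Hom.nonempty_pullback_push (IsPullback.of_hasPullback (p.fiberι c) ι)
    (Coh.structureModule j.image)
  have hdim : ∀ s : ↥(Spec (CommRingCat.of R)),
      topologicalKrullDim ((ι ≫ p).fiber s) = topologicalKrullDim (Set.range (pullback.fst (p.fiberι s) ι)) := fun s => by
    let w := pullback.fst (p.fiberι s) ι
    rw [← IsHomeomorph.topologicalKrullDim_eq _ w.isClosedEmbedding.isEmbedding.toHomeomorph.isHomeomorph]
    exact IsHomeomorph.topologicalKrullDim_eq _ (Scheme.homeoOfIso
      (((IsPullback.of_hasPullback (p.fiberι s) ι).flip.paste_vert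
        (IsPullback.of_hasPullback p ((Spec (CommRingCat.of R)).fromSpecResidueField s))).isoPullback).symm).isHomeomorph
  have h0dim : topologicalKrullDim ((ι ≫ p).fiber c) ≤ ((1 : ℕ) : WithBot ℕ∞) := by
    by_contra hlt
    have h1 := hsp.mem_open (S0404.result (ι ≫ p) ((1 : ℕ) : WithBot ℕ∞)) (not_le.1 hlt)
    change ((1 : ℕ) : WithBot ℕ∞) < topologicalKrullDim ((ι ≫ p).fiber η) at h1
    rw [hdim, ← q.isClosedEmbedding.isClosed_range.closure_eq, ← Scheme.Hom.support_ker, hker, hC'd] at h1
    exact lt_irrefl _ h1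
  have hd0 : topologicalKrullDim (CohB1.support ((Scheme.Modules.pullback (p.fiberι c)).obj F)) ≤
      ((1 : ℕ) : WithBot ℕ∞) := by
    rw [ClSubLib.support_congr (b₀ ≪≫ (Scheme.Modules.pushforward q₀).mapIso
      (DerPerf.pullUnitIso (pullback.snd (p.fiberι c) ι)))]
    refine (Intersect.dim_mono (ClSubLib.support_pushforward_subset q₀ _)).trans ?_
    exact (hdim c).symm.trans_le h0dim
  have hnef : Nakai.Nef ((Spec (CommRingCat.of R)).residueField c)
      ((Scheme.Modules.pullback (p.fiberι c)).obj L) :=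
    (Nakai.nef_iff_curves _ (PicLoc.isInvertible_pullback _ hL)).2 h0
  have h2 := hnef _ hF0 hd0
  obtain ⟨hη0, hη1⟩ := hfib η
  obtain ⟨hc0, hc1⟩ := hfib c
  rw [← hker, ← CurveRR.euler_eq_of_iso eη,
    ← CurveRR.euler_eq_of_iso (PicGrp.tensorModIso eη (Iso.refl _)), ← hη0, ← hη1, hconst, hconst, hc0, hc1]
  exact sub_nonneg.2 h2

end Groth.Agent.S16714
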