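import Groth.Statements.S16715
import Groth.Agent.Pinch.BaseChange
import Groth.Agent.Pinch.Charts

set_option autoImplicit false
universe u
open FlatMor

open CategoryTheory Limits AlgebraicGeometry Groth.Agent
set_option backward.isDefEq.respectTransparency false
namespace Groth.Agent.S16715

open CategoryTheory CategoryTheory.Limits AlgebraicGeometry in
/-- Base change of pushouts along a closed immersion and an affine morphism. Let i : X₀ → X be a closed
immersion and f₀ : X₀ → Y₀ an affine morphism of schemes, and let Y together with an affine morphism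
f : X → Y and a closed immersion j : Y₀ → Y be a pushout of i and f₀ in the category of schemes
whose square is also cartesian. Let Y be a scheme over S such that X₀ is flat over S, and let S' → S
be any morphism. Then the base-changed square over S' is again a pushout in the category of schemes:
Y ×_S S' is the pushout of X ×_S S' and Y₀ ×_S S' along X₀ ×_S S'. -/
theorem result {X₀ X Y₀ Y S S' : Scheme.{u}}
    (i : X₀ ⟶ X) [IsClosedImmersion i] (f₀ : X₀ ⟶ Y₀) [IsAffineHom f₀] (f : X ⟶ Y) [IsAffineHom f]
    (j : Y₀ ⟶ Y) [IsClosedImmersion j] (hpo : IsPushout i f₀ f j) (hpb : IsPullback i f₀ f j)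
    (q : Y ⟶ S) [Flat ((i ≫ f) ≫ q)] (g : S' ⟶ S) :
    IsPushout
      (pullback.map ((i ≫ f) ≫ q) g (f ≫ q) g i (𝟙 S') (𝟙 S)
        ((Category.comp_id _).trans (Category.assoc i f q))
        ((Category.comp_id g).trans (Category.id_comp g).symm))
      (pullback.map ((i ≫ f) ≫ q) g (j ≫ q) g f₀ (𝟙 S') (𝟙 S)
        ((Category.comp_id _).trans ((congrArg (fun t => t ≫ q) hpo.w).trans (Category.assoc f₀ j q)))
        ((Category.comp_id g).trans (Category.id_comp g).symm))
      (pullback.map (f ≫ q) g q g f (𝟙 S') (𝟙 S)
        (Category.comp_id _) ((Category.comp_id g).trans (Category.id_comp g).symm))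
      (pullback.map (j ≫ q) g q g j (𝟙 S') (𝟙 S)
        (Category.comp_id _) ((Category.comp_id g).trans (Category.id_comp g).symm)) := by
  have hc := Pinch.hasCharts_of_affine (i := i) (j := f₀) (a := f) (b := j) hpo.w
  have h := Pinch.isPinch_of_isPushout hc hpo
  haveI : Flat (i ≫ f ≫ q) := by rw [← Category.assoc]; infer_instance
  refine Pinch.isPushout_of_isPinch (Pinch.isPinch_baseChange_flat_corner hc h q g (IsPullback.of_hasPullback q g)
    (pX := pullback.fst (f ≫ q) g) ?_ (pY := pullback.fst (j ≫ q) g) ?_ (pZ := pullback.fst ((i ≫ f) ≫ q) g) ?_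
    (pullback.lift_fst _ _ _) ?_)
  · refine IsPullback.of_bot ?_ ?_ (IsPullback.of_hasPullback q g)
    · rw [pullback.lift_snd, Category.comp_id]
      exact IsPullback.of_hasPullback (f ≫ q) g
    · exact (pullback.lift_fst _ _ _).symm
  · refine IsPullback.of_bot ?_ ?_ (IsPullback.of_hasPullback q g)
    · rw [pullback.lift_snd, Category.comp_id]
      exact IsPullback.of_hasPullback (j ≫ q) g
    · exact (pullback.lift_fst _ _ _).symm
  · refine IsPullback.of_bot ?_ ?_ (IsPullback.of_hasPullback (f ≫ q) g)
    · rw [pullback.lift_snd, Category.comp_id, ← Category.assoc]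
      exact IsPullback.of_hasPullback ((i ≫ f) ≫ q) g
    · exact (pullback.lift_fst _ _ _).symm
  · apply pullback.hom_ext <;> simp [hpo.w]

end Groth.Agent.S16715
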