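import Groth.Statements.S16717
import Groth.Agent.Comod.Reductive

set_option autoImplicit false
universe u v
open HopfRep

namespace Groth.Agent.S16717

open Groth.Agent.Comod TensorProduct Coalgebra

open TensorProduct in
/-- Equivalence of the exactness of invariants with complete reducibility of finite-dimensional
representations. Let k be a field and A a finitely generated commutative Hopf algebra over k (the
coordinate ring of an affine algebraic group G). Then every finite-dimensional A-comodule is
semisimple if and only if taking fixed vectors is exact, i.e. for every surjective comodule map φ :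
V → W between A-comodules (of any dimension; φ k-linear with (φ ⊗ id) ∘ ρ_V = ρ_W ∘ φ) every fixed
vector of W is the image of a fixed vector of V. -/
theorem result (k : Type u) [Field k] (A : Type v)
    [CommRing A] [HopfAlgebra k A] (hA : Algebra.FiniteType k A) :
    HopfRep.IsLinearlyReductive k A ↔
      ∀ (V W : Type v) [AddCommGroup V] [Module k V] [HopfRep.Comod k A V]
        [AddCommGroup W] [Module k W] [HopfRep.Comod k A W] (φ : V →ₗ[k] W),
        LinearMap.rTensor A φ ∘ₗ HopfRep.Comod.coact (k := k) (A := A) (V := V) =
            HopfRep.Comod.coact (k := k) (A := A) (V := W) ∘ₗ φ →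
          Function.Surjective φ →
            ∀ w ∈ HopfRep.fixedPts k A W, ∃ v ∈ HopfRep.fixedPts k A V, φ v = w := by
  refine ⟨fun h V W _ _ _ _ _ _ φ hφ hsurj w hw =>
    exists_fixed_preimage (isSemisimpleComod_of_isLinearlyReductive h V) hφ.symm hsurj hw, fun h => ?_⟩
  refine isLinearlyReductive_of_localIntegral k A (hasLocalIntegral_of_fixedPts fun V _ _ _ _ π hsurj hπ => ?_)
  let L : Submodule k A := k ∙ (1 : A)
  let φ : V →ₗ[k] L := LinearMap.toSpanSingleton k L ⟨1, Submodule.mem_span_singleton_self 1⟩ ∘ₗ π
  letI := HopfRep.Comod.trivial k A L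
  have hφ : LinearMap.rTensor A φ ∘ₗ HopfRep.Comod.coact (k := k) (A := A) (V := V) =
      HopfRep.Comod.coact (k := k) (A := A) (V := L) ∘ₗ φ := by
    simp only [φ, LinearMap.rTensor_comp, LinearMap.comp_assoc, hπ]
    refine LinearMap.ext fun v => ?_
    simp only [LinearMap.comp_apply, LinearMap.flip_apply, TensorProduct.mk_apply, LinearMap.rTensor_tmul]
    rfl
  have hs : Function.Surjective φ := fun x => by
    obtain ⟨c, hc⟩ := Submodule.mem_span_singleton.mp x.2
    obtain ⟨v, hv⟩ := hsurj c
    exact ⟨v, Subtype.ext (by simp [φ, hv, hc])⟩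
  obtain ⟨v, hv, hv1⟩ := h V L φ hφ hs ⟨1, Submodule.mem_span_singleton_self 1⟩ rfl
  refine ⟨v, hv, fun h0 => ?_⟩
  have : (1 : A) = 0 := by simpa [φ, h0] using (congr_arg Subtype.val hv1).symm
  simpa using congr(Bialgebra.counitAlgHom k A $this)

end Groth.Agent.S16717
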