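import Groth.Statements.S16722
import Groth.Agent.ArtinAtlas.BandedGerbe

set_option autoImplicit false
universe u
open Gerb

namespace Groth.Agent.S16722

open CategoryTheory AlgebraicGeometry in
/-- Let `X` be a quasi-separated scheme and `A` a commutative group scheme over `X` whose structure
morphism is flat, surjective, locally of finite presentation, quasi-compact and separated. Let `𝒳`
be a category over `(Sch/X)` which is a gerbe for the big fppf topology (a stack in groupoids,
objects exist fppf-locally, and two objects over one scheme are fppf-locally both targets of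
morphisms from a common object) and which is banded by `A`: the groups of automorphisms over
identities are identified with the groups of points of `A`, compatibly with every morphism of `𝒳`.
Then `𝒳` is an algebraic stack (fppf topology), its diagonal over `X` is representable by algebraic
spaces, quasi-compact and separated, and `𝒳 ⟶ (Sch/X)` is locally of finite presentation, read on
one smooth chart square. The published statement allows any faithfully flat, locally finitely
presented group scheme `A` together with a cohomology class that the gerbe represents, and its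
algebraic stacks are those with quasi-compact separated diagonal, over quasi-separated base schemes;
this row takes `X` quasi-separated and `A` commutative, quasi-compact and separated over `X`, and
replaces the class by a banding, which identifies the automorphism sheaves with `A` compatibly with
all morphisms. For a group scheme that is flat, surjective and locally of finite presentation but
not quasi-compact over `X`, such as the constant group scheme on the integers, the classifying gerbe
has a diagonal that is not quasi-compact; the published proof's diagonal step uses that the sheaves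
of isomorphisms are torsors under `A`, which are quasi-compact and separated when `A` is. -/
theorem result (X : Scheme.{u}) [QuasiSeparatedSpace X] (A : Over X) [GrpObj A]
    [IsCommMonObj A] [Flat A.hom] [Surjective A.hom] [LocallyOfFinitePresentation A.hom]
    [QuasiCompact A.hom] [IsSeparated A.hom]
    (𝒳 : AlgSt.Cat X) (h𝒳 : Gerb.IsGerbe (QuotSh.J Scheme.fppfPrecoverage X) 𝒳)
    (β : Gerb.Banding 𝒳 (yonedaGrpObj A)) :
    AlgSt.IsAlgStack Scheme.fppfPrecoverage 𝒳 ∧
      AlgSt.RepByAlgSpWith (AlgSp.IsQuasiCompactMor ⊓ AlgSp.IsSeparatedMor) (FibCat.diag (FibCat.toSelf 𝒳)) ∧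
      AlgSt.LocQ (AlgSp.LocP @LocallyOfFinitePresentation) (FibCat.toSelf 𝒳) := by
  obtain ⟨hS, hO, hH⟩ := h𝒳
  obtain ⟨V, z₀, hV₁, hV₂, hV₃⟩ := Groth.Agent.ArtinAtlas.exists_point_cover hS hO
  haveI := hV₁
  haveI := hV₂
  haveI := hV₃
  let z := BasedFunctor.comp (AlgSt.toOverCat V) z₀
  let mA : A ⟶ Over.mk (𝟙 X) := Over.homMk A.hom (Category.comp_id _)
  let mV : V ⟶ Over.mk (𝟙 X) := Over.homMk V.hom (Category.comp_id _)
  have hfl := Groth.Agent.ArtinAtlas.repWith_chart_of_banding hS hH β Groth.Agent.AlgStLib.cls_flat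
    (Groth.Agent.AlgSpLib.locP_yon_map Groth.Agent.AlgSpLib.etST_flat mA ‹_›)
    (Groth.Agent.AlgSpLib.locP_yon_map Groth.Agent.AlgSpLib.etST_flat mV hV₁) z
  have hfp := Groth.Agent.ArtinAtlas.repWith_chart_of_banding hS hH β Groth.Agent.AlgStLib.cls_lfp
    (Groth.Agent.AlgSpLib.locP_yon_map Groth.Agent.AlgSpLib.etST_lfp mA ‹_›)
    (Groth.Agent.AlgSpLib.locP_yon_map Groth.Agent.AlgSpLib.etST_lfp mV hV₂) z
  have hsu := Groth.Agent.ArtinAtlas.repWith_chart_of_banding hS hH β Groth.Agent.AlgStLib.cls_surjective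
    (Groth.Agent.AlgSpLib.isSurjectiveMor_of_repWith
      ((AlgSp.repWith_yon_map_iff @Surjective mA).2 (inferInstanceAs (Surjective A.hom))))
    (Groth.Agent.AlgSpLib.isSurjectiveMor_of_repWith ((AlgSp.repWith_yon_map_iff @Surjective mV).2 hV₃)) z
  have hz := Groth.Agent.ArtinAtlas.repWith_flat_lfp hfl hfp
  have hA : AlgSt.IsAlgStack Scheme.fppfPrecoverage 𝒳 :=
    Groth.Agent.ArtinAtlas.isAlgStack_of_flat_presentation hS (AlgSp.IsAlgSpace.yon_obj V) z hz hsu
  refine ⟨hA, Groth.Agent.ArtinAtlas.repWith_diag_of_banding hS hH β Groth.Agent.ArtinAtlas.cls_qc_separated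
    ⟨(Groth.Agent.AlgSpLib.isQuasiCompactMor_iff_repWith (AlgSp.IsAlgSpace.yon_obj _) (AlgSp.IsAlgSpace.yon_obj _)
      (AlgSp.representable_yon_map mA)).2 ((AlgSp.repWith_yon_map_iff @QuasiCompact mA).2 ‹_›),
      (AlgSp.isSeparatedMor_yon_map_iff mA).2 ‹_›⟩, ?_⟩
  obtain ⟨U, x, hx, hxs⟩ := hA.atlas
  let Bs : Over X := Over.mk (𝟙 X)
  have tr : ∀ Q : MorphismProperty (AlgSp.Sp X), AlgSt.RepByAlgSpWith Q z → AlgSt.RepByAlgSpWith Q
      (BasedFunctor.comp (AlgSt.ofOverCat V) z) := fun Q h =>
    (Groth.Agent.AlgStLib.repWith_iff_of_equiv Q z _ (AlgSt.ofOverCat V) (BasedFunctor.id _)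
      (Groth.Agent.AlgStLib.isEquivOver_ofOverCat V) Groth.Agent.FibCat2Misc.isEquivOver_id (Iso.refl _)).1 h
  haveI hU : LocallyOfFinitePresentation U.hom :=
    Groth.Agent.ArtinAtlas.lfp_hom_of_chart hS.1 hx (tr _ hz) (tr _ hsu)
  have ext : ∀ {𝒴 : BasedCategory.{u, u + 1} (Over X)} (F F' : 𝒴 ⥤ᵇ FibCat.selfOver (Over X)), F = F' := by
    intro 𝒴 F F'
    obtain ⟨F, hF⟩ := F
    obtain ⟨F', hF'⟩ := F'
    obtain rfl : F = F' := hF.trans hF'.symm
    rfl
  let h : U ⟶ Bs := Over.homMk U.hom (Category.comp_id _)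
  refine ⟨U, Bs, x, FibCat.toSelf (FibCat.overCat Bs), h, eqToIso (ext _ _), hx, hxs, ?_,
    Groth.Agent.AlgSpLib.locP_yon_map Groth.Agent.AlgSpLib.etST_lfp h hU⟩
  refine (Groth.Agent.AlgStLib.repWith_iff_of_equiv (AlgSp.LocP @Smooth) (FibCat.toSelf (FibCat.overCat Bs))
    (AlgSt.ofSpMap (𝟙 ((AlgSp.yon X).obj Bs))) (AlgSt.toOverCat Bs) (FibCat.toSelf (AlgSt.ofSch Bs))
    (Groth.Agent.AlgStLib.isEquivOver_toOverCat Bs) Groth.Agent.AlgStLib.isEquivOver_toSelf_base
    (eqToIso (ext _ _))).2 ?_
  have := Groth.Agent.AlgSpLib.locP_yon_map (S := X) Groth.Agent.AlgSpLib.etST_smooth (𝟙 Bs)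
    (Groth.Agent.AlgSpLib.etST_smooth.id_mem _)
  rw [CategoryTheory.Functor.map_id] at this
  exact Groth.Agent.AlgStLib.repWith_ofSpMap Groth.Agent.AlgStLib.bcStable_smooth
    (𝟙 (⟨(AlgSp.yon X).obj Bs, AlgSp.IsAlgSpace.yon_obj Bs⟩ : AlgSp.Space X)) this

end Groth.Agent.S16722
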