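import Groth.Statements.S1673
import Groth.Agent.DualGeneric.SubM
import Groth.Agent.DualGeneric.SubJ
import Groth.Agent.S1606
import Groth.Agent.S14809
import Groth.Agent.DualGeneric.DegOmega
import Groth.Agent.DualGeneric.H1Vanish
-- import your own Groth.Agent.* helpers here

set_option autoImplicit false
set_option backward.isDefEq.respectTransparency false
set_option backward.isDefEq.respectTransparency.types false
set_option maxHeartbeats 1000000
universe u
open CategoryTheory CategoryTheory.Limits AlgebraicGeometry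
attribute [local instance] HasDerivedCategory.standard
open Curves

namespace Groth.Agent.S1673

/-- Let X be proper of dimension one over k with global functions k, at-worst-nodal singularities and no
rational tail, and ω_X its dualizing module (via f^! O, assuming Rf_* on D_QCoh and its right
adjoint exist). In genus 1, ω_X ≅ O_X; in genus at least 2, every tensor power ω_X^{⊗m} with m ≥ 2
is globally generated. -/
theorem result (k : Type u) [Field k] (X : Scheme.{u}) [X.Over (Spec (CommRingCat.of k))] [IsProper (X ↘ (Spec (CommRingCat.of k)))] (hdim : topologicalKrullDim X = 1)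
    (h0 : Module.finrank k (Coh.HH X (Coh.structureModule X) 0) = 1) (hX : Curv2.AtWorstNodal k X) (hnt : ∀ (C : Set X) (hC : C ∈ irreducibleComponents (X : Type u)), ¬ Curv2.IsRationalTail X C hC)
    [DCoh.HasRpush (X ↘ (Spec (CommRingCat.of k)))] (h : DCoh.RpushPreservesQCoh (X ↘ (Spec (CommRingCat.of k)))) [DCoh.HasShriek (X ↘ (Spec (CommRingCat.of k))) h]
    (OY : DCoh.DQCoh (Spec (CommRingCat.of k))) (hOY : Nonempty (OY.obj ≅ DCoh.inD (Spec (CommRingCat.of k)) (Coh.structureModule (Spec (CommRingCat.of k))))) :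
    (Curv2.genus k X = 1 → Nonempty ((DCoh.dualizingMod (X ↘ (Spec (CommRingCat.of k))) h OY 1) ≅ Coh.structureModule X)) ∧
      (2 ≤ Curv2.genus k X → ∀ m : ℕ, 2 ≤ m → Curv2.IsGloballyGenerated (CohB1.tensorPow (DCoh.dualizingMod (X ↘ (Spec (CommRingCat.of k))) h OY 1) m)) := by
  haveI := CurveRR.isNoetherian_of_proper k X
  haveI : ∀ x : X, _root_.IsReduced (X.presheaf.stalk x) := NodalRed.isReduced_stalk k X hX
  haveI : AlgebraicGeometry.IsReduced X := isReduced_of_isReduced_stalk X
  haveI := DualGeneric.Sub.connectedSpace_of_h0 k h0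
  have hω := DualGeneric.isInvertible_dualizingMod k (X ↘ Spec (CommRingCat.of k)) hdim (NodalRed.isGorenstein_stalk k X hX) h OY hOY
  have hwhole : ∀ J : X.IdealSheafData, J = ⊥ → ∀ (C : Set X) (hC : C ∈ irreducibleComponents (X : Type u)), J = DualGeneric.Sub.cI C hC →
      CurveRR.h k (ClSub.quotMod J) 1 = Curv2.genus k X := fun J hb C hC e => by
    subst e
    exact DualGeneric.Sub.h_cI_univ k C hC hb 1
  refine ⟨fun hg1 => ?_, fun hg2 m hm => ?_⟩
  · let ω := DCoh.dualizingMod (X ↘ (Spec (CommRingCat.of k))) h OY 1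
    obtain ⟨tr, ht⟩ := DualGeneric.Sub.exists_trace k h OY hOY hdim.le
    have hhom := DualGeneric.finrank_hom_eq k ht (TMul.isQCoh_of_isInvertible (TMul.isInvertible_structureModule (X := X)))
    have hh1 : Module.finrank k (Coh.HH X (Coh.structureModule X) 1) = 1 := hg1
    rw [hh1] at hhom
    haveI : Nontrivial (Coh.structureModule X ⟶ ω) := Module.nontrivial_of_finrank_pos (R := k) (by rw [hhom]; omega)
    obtain ⟨s, hs⟩ := exists_ne (0 : Coh.structureModule X ⟶ ω)
    have hdegX : Curv2.deg k X ω 1 = 0 := by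
      have e0 : CurveRR.h k (Coh.structureModule X) 0 = 1 := h0
      have e1 : CurveRR.h k (Coh.structureModule X) 1 = 1 := hg1
      rw [Curv2.deg, DualGeneric.euler_dualizing k hdim.le hω ht, CurveRR.euler_eq hdim.le, e0, e1]
      simp
    haveI : Fintype (irreducibleComponents (X : Type u)) :=
      (TopologicalSpace.NoetherianSpace.finite_irreducibleComponents (α := X)).fintype
    have hsum := CurveRR.Multi.deg_eq_finsum k hdim.le 1 ω (CurveRR.isFinLocFreeOfRank_one hω)
    rw [hdegX, finsum_eq_sum_of_fintype] at hsum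
    have hr0 : ∀ Z : irreducibleComponents (X : Type u), (X.irreducibleComponentIdeal Z.1 Z.2).radical = DualGeneric.Sub.cI Z.1 Z.2 :=
      fun Z => (CurveRR.Multi.radical_component Z).trans (congrArg _ (TopologicalSpace.Closeds.ext
        (Z.2.1.isGenericPoint_genericPoint (isClosed_of_mem_irreducibleComponents _ Z.2)).def))
    have hnn : ∀ Z : irreducibleComponents (X : Type u), 0 ≤ CurveRR.Multi.degOn k (X.irreducibleComponentIdeal Z.1 Z.2).radical 1 ω := fun Z => by
      rw [hr0]
      by_cases hb : DualGeneric.Sub.cI Z.1 Z.2 = ⊥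
      · obtain ⟨he, -⟩ := DualGeneric.Sub.facts k h OY hOY hω hdim (DualGeneric.Sub.cI Z.1 Z.2) (DualGeneric.Sub.dim_cI k Z.1 Z.2 hdim)
        refine le_of_le_of_eq ?_ he.symm
        rw [DualGeneric.Sub.h_cI_univ k Z.1 Z.2 hb, DualGeneric.Sub.h_cI_univ k Z.1 Z.2 hb]
        have e0 : CurveRR.h k (Coh.structureModule X) 0 = 1 := h0
        have e1 : CurveRR.h k (Coh.structureModule X) 1 = 1 := hg1
        omega
      · exact DualGeneric.Sub.deg_cI_nonneg k h OY hOY hω hdim hnt Z.1 Z.2 hb
    have hzero : ∀ Z : irreducibleComponents (X : Type u), CurveRR.Multi.degOn k (X.irreducibleComponentIdeal Z.1 Z.2).radical 1 ω = 0 := fun Z => by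
      have hterm := (Finset.sum_eq_zero_iff_of_nonneg (fun Z' _ => ?_)).1 hsum.symm Z (Finset.mem_univ _)
      · rw [if_pos (DualGeneric.dim_component_eq_one k hdim Z.1 Z.2)] at hterm
        refine (mul_eq_zero.1 hterm).resolve_left fun hl => ?_
        haveI := RatFunLib.isArtinianRing_stalk (CurveRR.Multi.eq_of_specializes Z)
        rcases ENat.toNat_eq_zero.1 (Int.natCast_eq_zero.1 hl) with h' | h'
        · exact not_nontrivial_iff_subsingleton.2 (Module.length_eq_zero_iff.1 h') inferInstance
        · exact Module.length_ne_top h'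
      · split_ifs
        · exact mul_nonneg (Int.natCast_nonneg _) (hnn Z')
        · exact le_rfl
    have hkey : ∀ Z : irreducibleComponents (X : Type u), Disjoint (Z.1 : Set X) (CohB1.genLocus ω s : Set X) ∨ Z.1 ⊆ (CohB1.genLocus ω s : Set X) := fun Z => by
      let I := DualGeneric.Sub.cI Z.1 Z.2
      letI : I.subscheme.Over (Spec (CommRingCat.of k)) := ⟨I.subschemeι ≫ (X ↘ Spec (CommRingCat.of k))⟩
      haveI : IsProper (I.subscheme ↘ Spec (CommRingCat.of k)) :=
        inferInstanceAs (IsProper (I.subschemeι ≫ (X ↘ Spec (CommRingCat.of k))))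
      haveI : IsIntegral I.subscheme := by rw [show I = _ from (hr0 Z).symm]; exact DualGeneric.isIntegral_component Z.1 Z.2
      let e := (PicLoc.pullbackStructureIso I.subschemeι).symm
      let s' := e.hom ≫ (Scheme.Modules.pullback I.subschemeι).map s
      have hgl := TMul.genLocus_pullback I.subschemeι hω s e
      have hrange : Set.range I.subschemeι = Z.1 := DualGeneric.Sub.range_ι _
      by_cases h0' : s' = 0
      · left
        rw [Set.disjoint_left]
        intro x hx hxg
        rw [← hrange] at hx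
        obtain ⟨y, rfl⟩ := hx
        have hy : y ∈ CohB1.genLocus _ s' := hgl.ge hxg
        rw [h0', TMul.genLocus_zero] at hy
        exact hy
      · right
        obtain ⟨-, hiso⟩ := CurveRR.deg_le_and_isIso (k := k) (DualGeneric.Sub.dim_cI k Z.1 Z.2 hdim).le TMul.isInvertible_structureModule
          (PicLoc.isInvertible_pullback I.subschemeι hω) s' h0'
        haveI := hiso (by
          rw [CurveRR.deg_structure]
          have := hzero Z
          rw [hr0 Z] at this
          exact this.symm)
        have htop : CohB1.genLocus _ s' = ⊤ := top_le_iff.1 fun x _ => TopologicalSpace.Opens.mem_sSup.mpr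
          ⟨⊤, by change IsIso _; infer_instance, trivial⟩
        rw [← hrange]
        rintro _ ⟨y, rfl⟩
        exact (hgl.le (htop.ge (by trivial : y ∈ (⊤ : I.subscheme.Opens))))
    have hcl : IsClosed (CohB1.genLocus ω s : Set X) := by
      have : (CohB1.genLocus ω s : Set X) = ⋃ Z ∈ {Z : irreducibleComponents (X : Type u) | Z.1 ⊆ (CohB1.genLocus ω s : Set X)}, Z.1 := by
        refine Set.Subset.antisymm (fun x hx => ?_) (Set.iUnion₂_subset fun Z hZ => hZ)
        obtain ⟨C, hC, hxC⟩ := exists_mem_irreducibleComponents_subset_of_isIrreducible _ (isIrreducible_singleton (x := x))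
        exact Set.mem_biUnion ((hkey ⟨C, hC⟩).resolve_left fun hd => Set.disjoint_left.1 hd (hxC rfl) hx) (hxC rfl)
      rw [this]
      exact Set.Finite.isClosed_biUnion (Set.toFinite _) fun Z _ => isClosed_of_mem_irreducibleComponents _ Z.2
    rcases isClopen_iff.1 ⟨hcl, (CohB1.genLocus ω s).2⟩ with hg | hg
    · refine absurd (TMul.hom_ext_val ?_) hs
      refine Groth.Agent.QC.section_eq_of_locally fun x _ => ?_
      obtain ⟨U, g, hxU, hgen⟩ := TMul.exists_isGen hω x
      obtain ⟨c, hc⟩ := (hgen U le_rfl).2 (Groth.Agent.QC.res ω le_top (TMul.val s ⊤))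
      change c • Groth.Agent.QC.res ω _ g = _ at hc
      refine ⟨U, le_top, hxU, ?_⟩
      have hc0 : c = 0 := eq_zero_of_basicOpen_eq_bot _ (TopologicalSpace.Opens.ext (Set.eq_empty_of_forall_notMem fun y hy => by
        have hyU : y ∈ U := X.basicOpen_le c hy
        refine (Set.eq_empty_iff_forall_notMem.1 hg y) ((TMul.mem_genLocus_iff_isUnit s hgen (c := c) ?_ hyU).mpr ((X.mem_basicOpen c y hyU).mp hy))
        rw [← TMul.res_val s le_top, ← hc, Groth.Agent.QC.res_self]))
      rw [← hc, hc0, zero_smul]
      exact (map_zero _).symm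
    · exact ⟨(@asIso _ _ _ _ s (Groth.Agent.S14809.isIso_of_genLocus_top s (TopologicalSpace.Opens.ext hg))).symm⟩
  · refine Groth.Agent.S1606.result k X hdim _ (TMul.isInvertible_tensorPow hω m) fun J hr hc hJ => ?_
    obtain ⟨he, -⟩ := DualGeneric.Sub.facts k h OY hOY hω hdim J hJ
    have hpow : _ = (m : ℤ) * _ := DualGeneric.Sub.degJ_pow k hω m J hJ
    refine le_of_le_of_eq ?_ hpow.symm
    have hgen : (@Curv2.genus k _ J.subscheme ⟨J.subschemeι ≫ (X ↘ (Spec (CommRingCat.of k)))⟩) = CurveRR.h k (ClSub.quotMod J) 1 := by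
      have hJe := DualGeneric.Sub.eq_vI J
      generalize J.support = D at hJe
      subst hJe
      exact DualGeneric.Sub.genus_sub k D
    rw [hgen]
    have hm' : (2 : ℤ) ≤ (m : ℤ) := by exact_mod_cast hm
    by_cases hb : J = ⊥
    · subst hb
      have eA : ∀ i, CurveRR.h k (ClSub.quotMod (⊥ : X.IdealSheafData)) i = CurveRR.h k (Coh.structureModule X) i := fun i => by
        rw [show (⊥ : X.IdealSheafData) = DualGeneric.Sub.vI (⊤ : TopologicalSpace.Closeds X) by
          rw [← Scheme.nilradical_eq_bot, ← Scheme.IdealSheafData.vanishingIdeal_top]]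
        haveI := DualGeneric.Sub.isIso_q_top (X := X) (D := ⊤) rfl
        exact (CurveRR.h_eq_of_iso (asIso (DualGeneric.Sub.q (⊤ : TopologicalSpace.Closeds X))) i).symm
      have e0 : CurveRR.h k (Coh.structureModule X) 0 = 1 := h0
      rw [eA, eA, e0] at he
      rw [eA]
      have e1 : CurveRR.h k (Coh.structureModule X) 1 = Curv2.genus k X := rfl
      simp only [DualGeneric.Sub.degJ] at *
      have hg' : (2 : ℤ) ≤ (CurveRR.h k (Coh.structureModule X) 1 : ℤ) := by exact_mod_cast hg2
      have hlow : 2 * (CurveRR.h k (Coh.structureModule X) 1 : ℤ) - 2 ≤ @Curv2.deg k _ (⊥ : X.IdealSheafData).subscheme ⟨(⊥ : X.IdealSheafData).subschemeι ≫ (X ↘ (Spec (CommRingCat.of k)))⟩ ((Scheme.Modules.pullback (⊥ : X.IdealSheafData).subschemeι).obj (DCoh.dualizingMod (X ↘ (Spec (CommRingCat.of k))) h OY 1)) 1 := by omega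
      nlinarith
    · have hle := DualGeneric.Sub.h1_le_deg k h OY hOY hω hdim hnt J hJ hb
      simp only [DualGeneric.Sub.degJ] at *
      nlinarith

end Groth.Agent.S1673
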