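import Groth.Statements.S16731
import Groth.Agent.NodeBr.Rat
-- import your own Groth.Agent.* helpers here

set_option autoImplicit false
set_option backward.isDefEq.respectTransparency false
set_option backward.isDefEq.respectTransparency.types false
set_option maxHeartbeats 1000000
universe u
open CurvSt

namespace Groth.Agent.S16731

open CategoryTheory CategoryTheory.Limits AlgebraicGeometry in
/-- Let k be an algebraically closed field and X a proper connected scheme over k of dimension one with
at-worst-nodal singularities. For a natural number g the following are equivalent: (i) X, with no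
marked points, is a stable curve of genus g in the component form — dim H^1(X, O_X) = g, every
irreducible component which is a smooth rational curve (the image of a closed immersion of the
projective line) contains at least three points lying on other components, and 2g ≥ 3; (ii) dim
H^1(X, O_X) = g with g ≥ 2, and no irreducible component of X is a rational tail or a rational
bridge. (With no marked points the published statement excludes only genus one; it fails for the
projective line, which has genus zero, no rational tail and no rational bridge, and is not stable,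
so genus at least two is required in (ii) here — exactly what the inequality 2g ≥ 3 of (i) forces.) -/
theorem result (k : Type u) [Field k] [IsAlgClosed k] (X : Scheme.{u})
    [X.Over (Spec (CommRingCat.of k))] [IsProper (X ↘ Spec (CommRingCat.of k))] [ConnectedSpace X]
    (hdim : topologicalKrullDim X = 1) (hX : Curv2.AtWorstNodal k X) (g : ℕ) :
    CurvSt.IsStablePtd k X (X ↘ Spec (CommRingCat.of k)) g (Fin.elim0 : Fin 0 → X) ↔
      (Curv2.genus k X = g ∧ 2 ≤ g ∧
        (∀ (C : Set X) (hC : C ∈ irreducibleComponents (X : Type u)), ¬ Curv2.IsRationalTail X C hC) ∧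
        (∀ (C : Set X) (hC : C ∈ irreducibleComponents (X : Type u)), ¬ Curv2.IsRationalBridge k X C hC)) := by
  haveI := CurveRR.isNoetherian_of_proper k X
  haveI : ∀ z : X, _root_.IsReduced (X.presheaf.stalk z) := NodalRed.isReduced_stalk k X hX
  haveI : AlgebraicGeometry.IsReduced X := isReduced_of_isReduced_stalk X
  have hmeet : ∀ (C : Set X), C ∈ irreducibleComponents (X : Type u) →
      CurvSt.meetPts X C = C ∩ closure Cᶜ := fun C hC => Set.ext fun x => (NodeBr.inter_closure_compl hC x).symm
  constructor
  · rintro ⟨-, -, -, ⟨-, hg⟩, -, -, hrat, h3⟩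
    have key : ∀ (C : Set X) (hC : C ∈ irreducibleComponents (X : Type u)),
        CurveRR.h k (ClSub.quotMod (DualGeneric.Sub.cI C hC)) 1 = 0 → 3 ≤ (C ∩ closure Cᶜ).ncard := fun C hC h1 => by
      have hr := hrat C ((NodeBr.isSmRatComp_iff k hdim C hC).2 h1)
      rw [hmeet C hC, ← (NodeBr.meet_finite k hdim.le C hC).cast_ncard_eq, Nat.card_of_isEmpty,
        Nat.cast_zero, add_zero] at hr
      exact_mod_cast hr
    refine ⟨hg, by omega, fun C hC hT => ?_, fun C hC hB => ?_⟩
    · obtain ⟨h1, hn⟩ := (NodeBr.isRationalTail_iff k hdim hX C hC (NodeBr.meet_finite k hdim.le C hC)).1.1 hT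
      have := key C hC h1
      omega
    · obtain ⟨h1, hn⟩ := (NodeBr.isRationalTail_iff k hdim hX C hC (NodeBr.meet_finite k hdim.le C hC)).2.1 hB
      have := key C hC h1
      omega
  · rintro ⟨hg, hg2, hT, hB⟩
    refine ⟨inferInstance, inferInstance, hdim, ⟨hX, hg⟩, fun i => Fin.elim0 i, fun i => Fin.elim0 i, fun E hE => ?_, by omega⟩
    have hC := hE.1
    have h1 := (NodeBr.isSmRatComp_iff k hdim E hC).1 hE
    have hfin := NodeBr.meet_finite k hdim.le E hC
    obtain ⟨hiT, hiB⟩ := NodeBr.isRationalTail_iff k hdim hX E hC hfin
    have h0 : (E ∩ closure Eᶜ).ncard ≠ 0 := fun h0 => by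
      have he := NodeBr.h_component_of_meet_empty k E hC ((Set.ncard_eq_zero hfin).1 h0) 1
      have : Curv2.genus k X = 0 := he.symm.trans h1
      omega
    have hn1 : (E ∩ closure Eᶜ).ncard ≠ 1 := fun h => hT E hC (hiT.2 ⟨h1, h⟩)
    have hn2 : (E ∩ closure Eᶜ).ncard ≠ 2 := fun h => hB E hC (hiB.2 ⟨h1, h⟩)
    rw [hmeet E hC, ← hfin.cast_ncard_eq, Nat.card_of_isEmpty, Nat.cast_zero, add_zero]
    exact_mod_cast (by omega : 3 ≤ (E ∩ closure Eᶜ).ncard)

end Groth.Agent.S16731
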