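import Groth.Statements.S16737
import Mathlib.Algebra.CharP.Invertible
import Mathlib.RingTheory.Kaehler.Polynomial

set_option autoImplicit false
universe u v
open DeRham

namespace Groth.Agent.S16737

/-- The case of affine space over an affine base of characteristic p, in degree zero. Let p be a prime
and R a commutative ring with p = 0 in R. For a polynomial f over R in any set of variables t_i, the
Kähler differential df in Ω_{R[t]/R} vanishes if and only if f is a polynomial in the p-th powers of
the variables, f = g(t_i^p). Equivalently, the functions on affine space over R killed by the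
differential of the de Rham complex are exactly the functions on its Frobenius twist. (The published
computation is for finitely many variables over a noetherian base of characteristic p; the statement
here allows any commutative ring with p = 0 and any set of variables.) -/
theorem result (p : ℕ) [Fact p.Prime]
    (R : Type u) [CommRing R] [CharP R p] (σ : Type v) (f : MvPolynomial σ R) :
    KaehlerDifferential.D R (MvPolynomial σ R) f = 0 ↔
      ∃ g : MvPolynomial σ R, f = MvPolynomial.expand p g := by
  classical
  have hp : p.Prime := Fact.out
  constructor
  · intro h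
    have hd : ∀ d ∈ f.support, ∀ i, p ∣ d i := by
      intro d hd i
      by_contra hi
      have hi0 : d i ≠ 0 := fun h0 => hi (h0 ▸ dvd_zero p)
      have h1 : MvPolynomial.pderiv i f = 0 := by
        rw [← KaehlerDifferential.mvPolynomialBasis_repr_apply, h, map_zero, Finsupp.zero_apply]
      have h2 := congrArg (MvPolynomial.coeff (d - Finsupp.single i 1)) h1
      rw [MvPolynomial.coeff_pderiv, MvPolynomial.coeff_zero] at h2
      have hle : Finsupp.single i 1 ≤ d := by
        rw [Finsupp.single_le_iff]; omega
      rw [tsub_add_cancel_of_le hle] at h2
      have hcast : (((d - Finsupp.single i 1 : σ →₀ ℕ) i : ℕ) : R) + 1 = ((d i : ℕ) : R) := by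
        rw [Finsupp.tsub_apply, Finsupp.single_eq_same, ← Nat.cast_add_one, Nat.sub_add_cancel (by omega)]
      rw [hcast, ((CharP.isUnit_natCast_iff (p := p) hp).2 hi).mul_left_eq_zero] at h2
      exact MvPolynomial.mem_support_iff.1 hd h2
    refine ⟨∑ d ∈ f.support, MvPolynomial.monomial (d.mapRange (· / p) (Nat.zero_div p)) (MvPolynomial.coeff d f), ?_⟩
    rw [map_sum]
    conv_lhs => rw [f.as_sum]
    refine Finset.sum_congr rfl fun d hd' => ?_
    rw [MvPolynomial.expand_monomial]
    rw [show p • d.mapRange (· / p) (Nat.zero_div p) = d from
      Finsupp.ext fun i => by simp [Nat.mul_div_cancel' (hd d hd' i)]]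
  · rintro ⟨g, rfl⟩
    apply (KaehlerDifferential.mvPolynomialBasis R σ).repr.injective
    ext i : 1
    rw [KaehlerDifferential.mvPolynomialBasis_repr_apply, map_zero, Finsupp.zero_apply]
    refine MvPolynomial.ext _ _ fun m => ?_
    rw [MvPolynomial.coeff_pderiv, MvPolynomial.coeff_zero]
    by_cases hdiv : p ∣ m i + 1
    · rw [← Nat.cast_add_one, (CharP.cast_eq_zero_iff R p _).2 hdiv, mul_zero]
    · rw [MvPolynomial.coeff_expand_of_not_dvd g (i := i) (by simpa using hdiv), zero_mul]

end Groth.Agent.S16737
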