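import Groth.Statements.S1674
import Groth.Agent.DualGeneric.SubM
-- import your own Groth.Agent.* helpers here

set_option autoImplicit false
set_option backward.isDefEq.respectTransparency false
set_option backward.isDefEq.respectTransparency.types false
set_option maxHeartbeats 1000000
universe u
open CategoryTheory CategoryTheory.Limits AlgebraicGeometry
attribute [local instance] HasDerivedCategory.standard
open Curves

namespace Groth.Agent.S1674

/-- Let X be proper of dimension one over k with global functions k and at-worst-nodal singularities,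
ω_X its dualizing module (via f^! O, assuming Rf_* on D_QCoh and its right adjoint exist), and C ⊆ X
a rational bridge, viewed as a reduced closed subscheme. Then the restriction of ω_X to C has degree
zero (over k). -/
theorem result (k : Type u) [Field k] (X : Scheme.{u}) [X.Over (Spec (CommRingCat.of k))] [IsProper (X ↘ (Spec (CommRingCat.of k)))] (hdim : topologicalKrullDim X = 1)
    (h0 : Module.finrank k (Coh.HH X (Coh.structureModule X) 0) = 1) (hX : Curv2.AtWorstNodal k X)
    [DCoh.HasRpush (X ↘ (Spec (CommRingCat.of k)))] (h : DCoh.RpushPreservesQCoh (X ↘ (Spec (CommRingCat.of k)))) [DCoh.HasShriek (X ↘ (Spec (CommRingCat.of k))) h]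
    (OY : DCoh.DQCoh (Spec (CommRingCat.of k))) (hOY : Nonempty (OY.obj ≅ DCoh.inD (Spec (CommRingCat.of k)) (Coh.structureModule (Spec (CommRingCat.of k)))))
    (C : Set X) (hC : C ∈ irreducibleComponents (X : Type u)) (hCb : Curv2.IsRationalBridge k X C hC) :
    @Curv2.deg k _ (Scheme.IdealSheafData.vanishingIdeal ⟨C, isClosed_of_mem_irreducibleComponents C hC⟩).subscheme
        ⟨(Scheme.IdealSheafData.vanishingIdeal ⟨C, isClosed_of_mem_irreducibleComponents C hC⟩).subschemeι ≫ (X ↘ (Spec (CommRingCat.of k)))⟩
        ((Scheme.Modules.pullback (Scheme.IdealSheafData.vanishingIdeal ⟨C, isClosed_of_mem_irreducibleComponents C hC⟩).subschemeι).obj (DCoh.dualizingMod (X ↘ (Spec (CommRingCat.of k))) h OY 1)) 1 = 0 := by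
  haveI := CurveRR.isNoetherian_of_proper k X
  haveI : ∀ x : X, _root_.IsReduced (X.presheaf.stalk x) := NodalRed.isReduced_stalk k X hX
  haveI : AlgebraicGeometry.IsReduced X := isReduced_of_isReduced_stalk X
  haveI := DualGeneric.Sub.connectedSpace_of_h0 k h0
  have hω := DualGeneric.isInvertible_dualizingMod k (X ↘ Spec (CommRingCat.of k)) hdim (NodalRed.isGorenstein_stalk k X hX) h OY hOY
  obtain ⟨he, hdvd, hpos, -, -, -⟩ := DualGeneric.Sub.facts k h OY hOY hω hdim (DualGeneric.Sub.cI C hC) (DualGeneric.Sub.dim_cI k C hC hdim)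
  rw [← DualGeneric.Sub.cI'_eq k C hC] at he
  obtain ⟨-, hdeg, h1⟩ := hCb
  rw [(DualGeneric.Sub.subsingleton_h1_cI_iff k C hC).1 h1] at he
  change CurveRR.h k (ClSub.quotMod (DualGeneric.Sub.cI C hC ⊔ DualGeneric.Sub.cI' C hC)) 0 =
    2 * CurveRR.h k (ClSub.quotMod (DualGeneric.Sub.cI C hC)) 0 at hdeg
  rw [hdeg] at he
  refine he.trans ?_
  omega

end Groth.Agent.S1674
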