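import Groth.Statements.S16742
import Mathlib.RingTheory.Flat.EquationalCriterion
import Mathlib.Data.ZMod.Basic
import Mathlib.Tactic.Ring
import Mathlib.Tactic.Abel
import Mathlib.RingTheory.Ideal.BigOperators
import Mathlib.RingTheory.Ideal.Quotient.Operations

set_option autoImplicit false
universe u
open CAlg

namespace Groth.Agent.S16742

/-- The equivalence in affine form, with flatness of the reduction in place of smoothness. Let p be a
prime, A~ a commutative ring flat over Z/p^2 and B~ an A~-algebra such that B~/pB~ is flat over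
A~/pA~. Then B~ is flat over A~ if and only if every element of B~ killed by p is a multiple of p;
equivalently multiplication by p identifies B~/pB~ with pB~. (The published statement assumes the
reduction smooth over A~/pA~ and the schemes noetherian, and phrases (b) as B~ being a lifting, that
is flat over A~; the statement here assumes only that the reduction is flat, where the equivalence
still holds by the local flatness criterion for the square-zero ideal generated by p.) -/
theorem result (p : ℕ) [Fact p.Prime]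
    (Al : Type u) [CommRing Al] [Algebra (ZMod (p ^ 2)) Al] [Module.Flat (ZMod (p ^ 2)) Al]
    (Bl : Type u) [CommRing Bl] [Algebra Al Bl]
    (hB : Module.Flat (Al ⧸ Ideal.span {(p : Al)})
      (Bl ⧸ (Ideal.span {(p : Al)}).map (algebraMap Al Bl))) :
    Module.Flat Al Bl ↔ ∀ b : Bl, (p : Bl) * b = 0 → b ∈ Ideal.span {(p : Bl)} := by
  classical
  have hpA : ∀ a : Al, (p : Al) * a = 0 → a ∈ Ideal.span {(p : Al)} := by
    intro a ha
    have h0 : ∑ i : Fin 1, ((fun _ => (p : ZMod (p ^ 2))) : Fin 1 → ZMod (p ^ 2)) i • ((fun _ => a) : Fin 1 → Al) i = 0 := by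
      rw [Fin.sum_univ_one, Algebra.smul_def, map_natCast, ha]
    obtain ⟨κ, c, z, hz1, hz2⟩ := Module.Flat.isTrivialRelation_of_sum_smul_eq_zero h0
    rw [show a = _ from hz1 0]
    refine Ideal.sum_mem _ fun j _ => ?_
    have hc : (p : ZMod (p ^ 2)) * c 0 j = 0 := by simpa using hz2 j
    obtain ⟨k, hk⟩ := ZMod.natCast_zmod_surjective (c 0 j)
    rw [← hk, ← Nat.cast_mul, ZMod.natCast_eq_zero_iff, pow_two, Nat.mul_dvd_mul_iff_left (Nat.Prime.pos Fact.out)] at hc
    obtain ⟨l, rfl⟩ := hc
    rw [← hk, Algebra.smul_def, map_natCast, Nat.cast_mul]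
    exact Ideal.mul_mem_right _ _ (Ideal.mul_mem_right _ _ (Ideal.mem_span_singleton_self _))
  constructor
  · intro hflat b hb
    have h0 : ∑ i : Fin 1, ((fun _ => (p : Al)) : Fin 1 → Al) i • ((fun _ => b) : Fin 1 → Bl) i = 0 := by
      rw [Fin.sum_univ_one, Algebra.smul_def, map_natCast, hb]
    obtain ⟨κ, c, z, hz1, hz2⟩ := Module.Flat.isTrivialRelation_of_sum_smul_eq_zero h0
    rw [show b = _ from hz1 0]
    refine Ideal.sum_mem _ fun j _ => ?_
    obtain ⟨l, hl⟩ := Ideal.mem_span_singleton'.mp (hpA (c 0 j) (by simpa using hz2 j))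
    rw [← hl, Algebra.smul_def, map_mul, map_natCast]
    exact Ideal.mul_mem_right _ _ (Ideal.mul_mem_left _ _ (Ideal.mem_span_singleton_self _))
  · intro hann
    have hp2 : (p : Al) * p = 0 := by
      have h := congrArg (algebraMap (ZMod (p ^ 2)) Al) (ZMod.natCast_self (p ^ 2))
      rw [map_natCast, map_zero, Nat.cast_pow, pow_two] at h
      exact h
    have hlift : ∀ {ι : Type} [Fintype ι] (a : ι → Al) (y : ι → Bl), (∑ i, a i • y i) ∈ Ideal.span {(p : Bl)} →
        ∃ (N : ℕ) (b : ι → Fin N → Al) (z : Fin N → Bl) (w : ι → Bl) (c : Fin N → Al),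
          (∀ i, y i = ∑ j, b i j • z j + (p : Al) • w i) ∧ ∀ j, ∑ i, a i * b i j = (p : Al) * c j := by
      intro ι _ a y hay
      let e := Fintype.equivFin ι
      let I : Ideal Al := Ideal.span {(p : Al)}
      let K : Ideal Bl := (Ideal.span {(p : Al)}).map (algebraMap Al Bl)
      haveI : Module.Flat (Al ⧸ I) (Bl ⧸ K) := by
        show Module.Flat (Al ⧸ I) (Bl ⧸ (Ideal.span {(p : Al)}).map (algebraMap Al Bl))
        assumption
      have h0 : ∑ i : Fin (Fintype.card ι), Ideal.Quotient.mk I (a (e.symm i)) • Ideal.Quotient.mk K (y (e.symm i)) = 0 := by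
        rw [e.symm.sum_comp (fun i => Ideal.Quotient.mk I (a i) • Ideal.Quotient.mk K (y i))]
        have : Ideal.Quotient.mk K (∑ i, a i • y i) = 0 := by
          rw [Ideal.Quotient.eq_zero_iff_mem]
          simpa [K, Ideal.map_span] using hay
        rw [← this, map_sum]
        rfl
      obtain ⟨N, b, z, hz1, hz2⟩ := Module.Flat.isTrivialRelation_of_sum_smul_eq_zero h0
      choose b' hb' using fun i j => Ideal.Quotient.mk_surjective (b i j)
      choose z' hz' using fun j => Ideal.Quotient.mk_surjective (z j)
      have h1 : ∀ i, ∃ w, y i = ∑ j, b' (e i) j • z' j + (p : Al) • w := fun i => by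
        have h2 : Ideal.Quotient.mk K (y i) = Ideal.Quotient.mk K (∑ j, b' (e i) j • z' j) := by
          rw [show y i = y (e.symm (e i)) by simp]
          refine (hz1 (e i)).trans ?_
          rw [map_sum]
          exact Finset.sum_congr rfl fun j _ => by rw [← hb', ← hz']; rfl
        rw [Ideal.Quotient.eq] at h2
        simp only [K, Ideal.map_span, Set.image_singleton, map_natCast] at h2
        obtain ⟨w, hw⟩ := Ideal.mem_span_singleton'.mp h2
        exact ⟨w, by rw [Algebra.smul_def, map_natCast, mul_comm, hw]; abel⟩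
      choose w hw using h1
      have h3 : ∀ j, ∃ c, ∑ i, a i * b' (e i) j = (p : Al) * c := fun j => by
        have h4 : Ideal.Quotient.mk I (∑ i, a i * b' (e i) j) = 0 := by
          rw [map_sum]
          refine Eq.trans ?_ (hz2 j)
          rw [← e.sum_comp]
          exact Finset.sum_congr rfl fun i _ => by simp [map_mul, hb']
        obtain ⟨c, hc⟩ := Ideal.mem_span_singleton'.mp (Ideal.Quotient.eq_zero_iff_mem.mp h4)
        exact ⟨c, by rw [mul_comm, hc]⟩
      choose c hc using h3
      exact ⟨N, fun i j => b' (e i) j, z', w, c, hw, hc⟩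
    rw [Module.Flat.iff_forall_isTrivialRelation]
    intro l a y h0
    obtain ⟨N, b, z, w, c, hy, hc⟩ := hlift a y (by rw [h0]; exact zero_mem _)
    have h5 : (∑ s, (Sum.elim c a : Fin N ⊕ Fin l → Al) s • (Sum.elim z w : Fin N ⊕ Fin l → Bl) s) ∈ Ideal.span {(p : Bl)} := by
      refine hann _ ?_
      rw [← map_natCast (algebraMap Al Bl), ← Algebra.smul_def, Fintype.sum_sum_type]
      simp only [Sum.elim_inl, Sum.elim_inr, smul_add, Finset.smul_sum, smul_smul]
      rw [← h0]
      simp only [hy, smul_add, Finset.smul_sum, smul_smul, Finset.sum_add_distrib]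
      rw [Finset.sum_comm (s := Finset.univ) (t := Finset.univ) (f := fun x y => (a x * b x y) • z y)]
      simp only [← Finset.sum_smul, hc, mul_comm _ (p : Al)]
    obtain ⟨M, d, u, w', c', hzw, hc'⟩ := hlift (Sum.elim c a : Fin N ⊕ Fin l → Al) (Sum.elim z w) h5
    let F : Fin l → Fin M ⊕ Fin N → Al := fun i => Sum.elim (fun m => ∑ j, b i j * d (Sum.inl j) m + (p : Al) * d (Sum.inr i) m) (fun j => (p : Al) * b i j)
    let e := Fintype.equivFin (Fin M ⊕ Fin N)
    refine ⟨_, fun i s => F i (e.symm s), fun s => Sum.elim u (fun j => w' (Sum.inl j)) (e.symm s), fun i => ?_, fun s => ?_⟩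
    · rw [e.symm.sum_comp (fun s => F i s • Sum.elim u (fun j => w' (Sum.inl j)) s), Fintype.sum_sum_type, hy]
      have hz : ∀ j, z j = ∑ m, d (Sum.inl j) m • u m + (p : Al) • w' (Sum.inl j) := fun j => hzw (Sum.inl j)
      have hw : w i = ∑ m, d (Sum.inr i) m • u m + (p : Al) • w' (Sum.inr i) := hzw (Sum.inr i)
      simp only [F, Sum.elim_inl, Sum.elim_inr, add_smul, Finset.sum_smul, Finset.sum_add_distrib, hw, smul_add, smul_smul, hp2, zero_smul, add_zero, Finset.smul_sum]
      rw [Finset.sum_comm (s := Finset.univ) (t := Finset.univ) (f := fun m j => (b i j * d (Sum.inl j) m) • u m)]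
      simp only [hz, smul_add, Finset.smul_sum, smul_smul, Finset.sum_add_distrib, mul_comm (p : Al)]
      abel
    · obtain ⟨t, rfl⟩ := e.surjective s
      simp only [Equiv.symm_apply_apply]
      cases t with
      | inl m =>
        have h6 := hc' m
        rw [Fintype.sum_sum_type] at h6
        simp only [Sum.elim_inl, Sum.elim_inr] at h6
        show ∑ i, a i * (∑ j, b i j * d (Sum.inl j) m + (p : Al) * d (Sum.inr i) m) = 0
        simp only [mul_add, Finset.mul_sum, ← mul_assoc, Finset.sum_add_distrib]
        rw [Finset.sum_comm]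
        simp only [← Finset.sum_mul, hc]
        calc _ = (p : Al) * (∑ j, c j * d (Sum.inl j) m + ∑ i, a i * d (Sum.inr i) m) := by
              rw [mul_add, Finset.mul_sum, Finset.mul_sum]
              congr 1
              · exact Finset.sum_congr rfl fun j _ => by ring
              · exact Finset.sum_congr rfl fun j _ => by ring
          _ = 0 := by rw [h6, ← mul_assoc, hp2, zero_mul]
      | inr j =>
        show ∑ i, a i * ((p : Al) * b i j) = 0
        simp only [mul_left_comm (a _) (p : Al)]
        rw [← Finset.mul_sum, hc, ← mul_assoc, hp2, zero_mul]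

end Groth.Agent.S16742
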