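import Groth.Statements.S1675
import Groth.Agent.DualGeneric.SubM
-- import your own Groth.Agent.* helpers here

set_option autoImplicit false
set_option backward.isDefEq.respectTransparency false
set_option backward.isDefEq.respectTransparency.types false
set_option maxHeartbeats 1000000
universe u
open CategoryTheory CategoryTheory.Limits AlgebraicGeometry
attribute [local instance] HasDerivedCategory.standard
open Curves

namespace Groth.Agent.S1675

/-- Let X be proper of dimension one over k with global functions k and at-worst-nodal singularities, of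
genus g ≥ 2, with no rational tail and no rational bridge, and let ω_X be its dualizing module (via
f^! O, assuming Rf_* on D_QCoh and its right adjoint exist). Then ω_X is ample. -/
theorem result (k : Type u) [Field k] (X : Scheme.{u}) [X.Over (Spec (CommRingCat.of k))] [IsProper (X ↘ (Spec (CommRingCat.of k)))] (hdim : topologicalKrullDim X = 1)
    (h0 : Module.finrank k (Coh.HH X (Coh.structureModule X) 0) = 1) (hX : Curv2.AtWorstNodal k X) (hnt : ∀ (C : Set X) (hC : C ∈ irreducibleComponents (X : Type u)), ¬ Curv2.IsRationalTail X C hC)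
    (hnb : ∀ (C : Set X) (hC : C ∈ irreducibleComponents (X : Type u)), ¬ Curv2.IsRationalBridge k X C hC) (hg : 2 ≤ Curv2.genus k X)
    [DCoh.HasRpush (X ↘ (Spec (CommRingCat.of k)))] (h : DCoh.RpushPreservesQCoh (X ↘ (Spec (CommRingCat.of k)))) [DCoh.HasShriek (X ↘ (Spec (CommRingCat.of k))) h]
    (OY : DCoh.DQCoh (Spec (CommRingCat.of k))) (hOY : Nonempty (OY.obj ≅ DCoh.inD (Spec (CommRingCat.of k)) (Coh.structureModule (Spec (CommRingCat.of k))))) :
    CohB1.IsAmple (DCoh.dualizingMod (X ↘ (Spec (CommRingCat.of k))) h OY 1) := by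
  haveI := CurveRR.isNoetherian_of_proper k X
  haveI : ∀ x : X, _root_.IsReduced (X.presheaf.stalk x) := NodalRed.isReduced_stalk k X hX
  haveI : AlgebraicGeometry.IsReduced X := isReduced_of_isReduced_stalk X
  haveI := DualGeneric.Sub.connectedSpace_of_h0 k h0
  have hω := DualGeneric.isInvertible_dualizingMod k (X ↘ Spec (CommRingCat.of k)) hdim (NodalRed.isGorenstein_stalk k X hX) h OY hOY
  refine (CurveRR.Multi.isAmple_iff k hdim.le hω).2 fun C hC hCd => ?_
  have hr0 : (X.irreducibleComponentIdeal C hC).radical = DualGeneric.Sub.cI C hC :=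
    (CurveRR.Multi.radical_component ⟨C, hC⟩).trans (congrArg _ (TopologicalSpace.Closeds.ext
      (hC.1.isGenericPoint_genericPoint (isClosed_of_mem_irreducibleComponents C hC)).def))
  rw [hr0]
  obtain ⟨he, ⟨c, hc⟩, hpos, hdich, hW, hbot⟩ := DualGeneric.Sub.facts k h OY hOY hω hdim (DualGeneric.Sub.cI C hC) (DualGeneric.Sub.dim_cI k C hC hdim)
  rw [← DualGeneric.Sub.cI'_eq k C hC] at he hc hW hbot
  refine lt_of_lt_of_eq ?_ he.symm
  have hwhole : CurveRR.h k (ClSub.quotMod (DualGeneric.Sub.cI C hC ⊔ DualGeneric.Sub.cI' C hC)) 0 = 0 →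
      CurveRR.h k (ClSub.quotMod (DualGeneric.Sub.cI C hC)) 1 = Curv2.genus k X ∧
      CurveRR.h k (ClSub.quotMod (DualGeneric.Sub.cI C hC)) 0 = 1 := fun hz =>
    ⟨DualGeneric.Sub.h_cI_univ k C hC (hbot hz) 1, (DualGeneric.Sub.h_cI_univ k C hC (hbot hz) 0).trans h0⟩
  rcases Nat.eq_zero_or_pos (CurveRR.h k (ClSub.quotMod (DualGeneric.Sub.cI C hC ⊔ DualGeneric.Sub.cI' C hC)) 0) with hz | hz
  · obtain ⟨e1, e0⟩ := hwhole hz
    rw [e1, e0, hz]
    omega
  rcases hdich with h1 | h1
  · have hne1 : CurveRR.h k (ClSub.quotMod (DualGeneric.Sub.cI C hC ⊔ DualGeneric.Sub.cI' C hC)) 0 ≠ CurveRR.h k (ClSub.quotMod (DualGeneric.Sub.cI C hC)) 0 :=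
      fun e => hnt C hC (DualGeneric.Sub.isRationalTail_of k C hC hW h1 e)
    have hne2 : CurveRR.h k (ClSub.quotMod (DualGeneric.Sub.cI C hC ⊔ DualGeneric.Sub.cI' C hC)) 0 ≠ 2 * CurveRR.h k (ClSub.quotMod (DualGeneric.Sub.cI C hC)) 0 :=
      fun e => hnb C hC ⟨by
        obtain ⟨y, hy⟩ : ((DualGeneric.Sub.cI C hC ⊔ DualGeneric.Sub.cI' C hC).support : Set X).Nonempty := by
          by_contra hemp
          rw [Set.not_nonempty_iff_eq_empty] at hemp
          haveI : Subsingleton Γ(ClSub.quotMod (DualGeneric.Sub.cI C hC ⊔ DualGeneric.Sub.cI' C hC), ⊤) :=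
            subsingleton_of_forall_eq 0 fun s => CurveRR.suppIn_of_subset (CurveRR.support_quotMod _) ⊤ s fun x _ hx => by
              rw [hemp] at hx; exact hx
          exact hz.ne' (CurveRR.h_eq_zero (CurveRR.secH0 (k := k) _).symm.toEquiv.subsingleton)
        rw [Scheme.IdealSheafData.support_sup] at hy
        exact ⟨y, hy.2⟩, e, (DualGeneric.Sub.subsingleton_h1_cI_iff k C hC).2 h1⟩
    match c, hc with
    | 0, hc => omega
    | 1, hc => omega
    | 2, hc => omega
    | n + 3, hc =>
      rw [Nat.mul_succ, Nat.mul_succ, Nat.mul_succ] at hc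
      omega
  · omega

end Groth.Agent.S1675
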