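import Groth.Statements.S16752
import Groth.Agent.CurveDual.H0One

set_option autoImplicit false
set_option backward.isDefEq.respectTransparency false
set_option backward.isDefEq.respectTransparency.types false
set_option linter.style.haveILetI false
universe u
open CurvSt

namespace Groth.Agent.S16752

open CategoryTheory CategoryTheory.Limits AlgebraicGeometry in
/-- Let f : X → S be a flat, proper morphism of schemes, locally of finite presentation, all of whose
fibres have dimension at most one (a family of curves whose total space is a scheme). Then the set
of points s of S such that the fibre X_s has dimension one and dim_{κ(s)} H^0(X_s, O_{X_s}) = 1 (the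
conditions under which the genus of X_s is defined) is open in S. The source allows the total space
to be an algebraic space and phrases the result as the existence of an open substack of the stack of
curves with this membership condition. -/
theorem result (X S : Scheme.{u}) (f : X ⟶ S)
    [Flat f] [IsProper f] [LocallyOfFinitePresentation f]
    (hdim : ∀ s : S, topologicalKrullDim ↥(f.fiber s) ≤ 1) :
    IsOpen {s : S | topologicalKrullDim ↥(f.fiber s) = 1 ∧
      Models.hRank ↥(S.residueField s) (f.fiber s) (f.fiberToSpecResidueField s)
        (Coh.structureModule (f.fiber s)) 0 = 1} := by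
  have hF : CohB1.IsFP (Coh.structureModule X) := SchDense.isFP_unit X
  have hfl : FlatMod.IsFlatOver f (Coh.structureModule X) := SchDense.isFlatOver_unit f
  have hset : {s : S | topologicalKrullDim ↥(f.fiber s) = 1 ∧
      Models.hRank ↥(S.residueField s) (f.fiber s) (f.fiberToSpecResidueField s)
        (Coh.structureModule (f.fiber s)) 0 = 1} =
      {s : S | 0 < topologicalKrullDim ↥(f.fiber s)} ∩
        ({s | PerfAux.betti f (Coh.structureModule X) s 0 < 2} ∩ (Set.range f)) := by
    ext s
    simp only [Set.mem_inter_iff, Set.mem_setOf_eq]
    rw [CurveDual.hRank_eq_betti]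
    constructor
    · rintro ⟨hd, hh⟩
      refine ⟨hd.symm ▸ (zero_lt_one : (0 : WithBot ℕ∞) < 1), hh.trans_lt one_lt_two, ?_⟩
      rcases isEmpty_or_nonempty (f.fiber s) with he | ⟨⟨x⟩⟩
      · haveI : IsEmpty (TopologicalSpace.IrreducibleCloseds ↥(f.fiber s)) :=
          ⟨fun Z => isEmptyElim Z.isIrreducible'.nonempty.some⟩
        rw [topologicalKrullDim, Order.krullDim_eq_bot] at hd
        cases hd
      · exact (f.range_fiberι s).le ⟨x, rfl⟩ |> fun h => ⟨_, h⟩
    · rintro ⟨hd, hh, x, rfl⟩
      have hne : 1 ≤ PerfAux.betti f (Coh.structureModule X) (f x) 0 := CurveDual.one_le_betti_at f x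
      refine ⟨le_antisymm (hdim _) ?_, by omega⟩
      revert hd
      generalize topologicalKrullDim ↥(f.fiber (f x)) = D
      intro hd
      induction D with
      | bot => simp at hd
      | coe n => exact_mod_cast Order.one_le_iff_pos.2 (show 0 < n by exact_mod_cast hd)
  rw [hset]
  refine (Groth.Agent.S0404.result f 0).inter ((BettiNN.isOpen_betti_lt f hF hfl 0 2).inter ?_)
  exact f.isOpenMap.isOpen_range

end Groth.Agent.S16752
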