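import Groth.Statements.S16754
import Groth.Agent.RG.Dev.IntegralFibre
import Groth.Agent.W7Cover.GeomConn
import Groth.Agent.W7Cover.Separable
import Groth.Agent.DualGeneric.SubL
import Groth.Agent.W7See.Trivial

set_option autoImplicit false
universe u
open CurvSt

namespace Groth.Agent.S16754

open CategoryTheory CategoryTheory.Limits AlgebraicGeometry in
/-- Let k be a field and X a scheme which is proper and smooth over k and of dimension one. Then the
following are equivalent: dim_k H^0(X, O_X) = 1 (the ground field is the ring of global functions);
X is geometrically connected over k; X is geometrically integral over k. (The remaining conditions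
of the source concern membership in an open substack of the stack of curves and are not stated.) -/
theorem result (k : Type u) [Field k]
    (X : Scheme.{u}) [X.Over (Spec (CommRingCat.of k))] [IsProper (X ↘ Spec (CommRingCat.of k))]
    [Smooth (X ↘ Spec (CommRingCat.of k))] (hdim : topologicalKrullDim ↥X = 1) :
    (Module.finrank k (Coh.HH X (Coh.structureModule X) 0) = 1 ↔ GeometricallyConnected (X ↘ Spec (CommRingCat.of k))) ∧
      (GeometricallyConnected (X ↘ Spec (CommRingCat.of k)) ↔ GeometricallyIntegral (X ↘ Spec (CommRingCat.of k))) := by
  have : CompactSpace X := QuasiCompact.compactSpace_of_compactSpace (X ↘ Spec (CommRingCat.of k))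
  refine ⟨⟨fun h0 => ?_, fun h => by exact W7Cover.h0_of_geometricallyConnected⟩,
    ⟨fun h => by exact RGDev.geometricallyIntegral_of_smooth _,
      fun h => by exact W7See.geometricallyConnected_of_geometricallyIntegral _⟩⟩
  have : ConnectedSpace X := DualGeneric.Sub.connectedSpace_of_h0 k h0
  have := RGDev.isIntegral_of_smooth_connected (X ↘ Spec (CommRingCat.of k))
  exact W7Cover.geometricallyConnected_of_h0 h0

end Groth.Agent.S16754
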