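import Groth.Statements.S16758
import Groth.Agent.PicFam.Separated
-- import your own Groth.Agent.* helpers here

set_option autoImplicit false
universe u
open PicF

set_option backward.isDefEq.respectTransparency false
set_option backward.isDefEq.respectTransparency.types false

namespace Groth.Agent.S16758

open AlgebraicGeometry CategoryTheory CategoryTheory.Limits in
/-- (2) ⇔ (3): let f : X → Y be proper and flat with Y locally Noetherian. Then dim_{κ(y)} H⁰(X_y,
O_{X_y}) = 1 for every point y of Y if and only if for every morphism T → Y the base change f_T : X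
×_Y T → T induces isomorphisms O_T(U) → O_{X ×_Y T}(f_T⁻¹ U) on all opens U of T, i.e. O_T = (f_T)_*
O universally. (The published statement takes X and Y Noetherian; the argument is local on Y, so Y
is only assumed locally Noetherian here.) -/
theorem result {X Y : Scheme.{u}} (f : X ⟶ Y)
    [IsProper f] [Flat f] [IsLocallyNoetherian Y] :
    (∀ y : Y, Module.finrank (Y.residueField y) Γ(f.fiber y, ⊤) = 1) ↔
      ∀ (T : Scheme.{u}) (g : T ⟶ Y) (U : T.Opens), IsIso ((pullback.snd f g).app U) := by
  constructor
  · intro h T g U
    haveI : LocallyOfFinitePresentation f := Groth.Agent.InfLift.lfp_of_lft f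
    haveI : IsProper (pullback.snd f g) := inferInstance
    haveI : Flat (pullback.snd f g) := inferInstance
    haveI : LocallyOfFinitePresentation (pullback.snd f g) := MorphismProperty.pullback_snd _ _ inferInstance
    let i : ∀ t : T, CohIII.fiberMod (pullback.snd f g)
        ((Scheme.Modules.pullback (pullback.fst f g)).obj (Coh.structureModule X)) t ≅
          Coh.structureModule ((pullback.snd f g).fiber t) := fun t =>
      (Scheme.Modules.pullback _).mapIso (PicLoc.pullbackStructureIso _) ≪≫ PicLoc.pullbackStructureIso _
    have hb : ∀ t : T, Module.finrank (T.residueField t) Γ((pullback.snd f g).fiber t, ⊤) = 1 := fun t => by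
      refine ((Groth.Agent.W7See.fiberRank_eq_finrank (pullback.snd f g) _ t (i t)).symm.trans ?_).trans (h (g t))
      refine ((Groth.Agent.PicFam.fiberRank_eq_betti _ _ t 0).trans
        (Groth.Agent.S4508.betti_baseChange f g _ (Groth.Agent.QC.isQCoh_unit X) t 0)).trans ?_
      exact (Groth.Agent.PicFam.fiberRank_eq_betti f _ (g t) 0).symm.trans
        (Groth.Agent.W7See.fiberRank_eq_finrank f _ (g t) (PicLoc.pullbackStructureIso _))
    exact (ConcreteCategory.isIso_iff_bijective _).2 (Groth.Agent.W7See.app_bijective_of_local _ (fun t =>
      Groth.Agent.W7Hull.exists_nhd_app_bijective_of_lfp _ t (Groth.Agent.W7See.bijective_of_finrank _ t (hb t))) U)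
  · intro h y
    haveI : IsIso ((f.fiberToSpecResidueField y).app ⊤) := h _ (Y.fromSpecResidueField y) ⊤
    have hb : Function.Bijective (algebraMap (Y.residueField y) Γ(f.fiber y, ⊤)) :=
      (ConcreteCategory.bijective_of_isIso (C := CommRingCat) ((f.fiberToSpecResidueField y).app ⊤)).comp
        (ConcreteCategory.bijective_of_isIso (Scheme.ΓSpecIso (Y.residueField y)).inv)
    exact ((LinearEquiv.ofBijective (Algebra.linearMap (Y.residueField y) Γ(f.fiber y, ⊤)) hb).finrank_eq).symm.trans
      (Module.finrank_self _)

end Groth.Agent.S16758
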