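import Groth.Statements.S16760
import Groth.Agent.W7See.Trivial

set_option autoImplicit false
universe u
open PicF

set_option backward.isDefEq.respectTransparency false
set_option backward.isDefEq.respectTransparency.types false

namespace Groth.Agent.S16760

open AlgebraicGeometry CategoryTheory CategoryTheory.Limits in
/-- Let f : X → Y be proper and flat with Y locally Noetherian, with geometrically integral fibres (X
×_Y Spec K is an integral scheme for every field K and every Spec K → Y), and let L be an invertible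
O_X-module. Then the set of points y of Y with L|_{X_y} ≅ O_{X_y} is closed. (The published
statement takes X and Y Noetherian; only local Noetherianity of Y is used.) -/
theorem result {X Y : Scheme.{u}} (f : X ⟶ Y)
    [IsProper f] [Flat f] [IsLocallyNoetherian Y]
    (hgeo : ∀ (K : Type u) [Field K] (x : Spec (CommRingCat.of K) ⟶ Y), IsIntegral (pullback f x))
    (L : X.Modules) (hL : PicF.IsInvertible L) :
    IsClosed {y : Y | Nonempty (CohIII.fiberMod f L y ≅ Coh.structureModule (f.fiber y))} := by
  haveI : GeometricallyIntegral f :=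
    ⟨fun K _ x Z fst snd h => by
      haveI := hgeo K x
      haveI : IrreducibleSpace ↑(pullback f x) := inferInstance
      haveI : Nonempty Z := ⟨h.isoPullback.inv (Classical.arbitrary ↑(pullback f x))⟩
      exact isIntegral_of_isOpenImmersion h.isoPullback.hom⟩
  haveI := Groth.Agent.W7See.geometricallyConnected_of_geometricallyIntegral f
  obtain ⟨L', hL', ⟨ε⟩⟩ := Groth.Agent.W7Hull.exists_tensor_inverse hL
  have hy := Groth.Agent.W7See.bijective_fiber f
  have hset : {y : Y | Nonempty (CohIII.fiberMod f L y ≅ Coh.structureModule (f.fiber y))} =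
      {y : Y | CohIII.fiberRank f L 0 y < 1}ᶜ ∩ {y : Y | CohIII.fiberRank f L' 0 y < 1}ᶜ := by
    ext y
    obtain ⟨a⟩ := TMul.nonempty_pullTensorIso (f.fiberι y) L L'
    let j : CohB1.tensorMod (CohIII.fiberMod f L y) (CohIII.fiberMod f L' y) ≅ Coh.structureModule (f.fiber y) :=
      a ≪≫ (Scheme.Modules.pullback (f.fiberι y)).mapIso ε ≪≫ PicLoc.pullbackStructureIso (f.fiberι y)
    refine ⟨fun ⟨i⟩ => ⟨?_, ?_⟩, fun ⟨h1, h2⟩ => ?_⟩
    · exact not_lt.2 (Groth.Agent.W7See.fiberRank_eq_one f L y (hy y) i).ge
    · exact not_lt.2 (Groth.Agent.W7See.fiberRank_eq_one f L' y (hy y)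
        ((TMul.leftUnitIso _).symm ≪≫ PicGrp.tensorModIso i.symm (Iso.refl _) ≪≫ j)).ge
    · have hsec : ∀ M : X.Modules, ¬ CohIII.fiberRank f M 0 y < 1 → ∃ s : Γ(CohIII.fiberMod f M y, ⊤), s ≠ 0 := by
        intro M hM
        haveI : Nontrivial (Coh.HH (f.fiber y) (CohIII.fiberMod f M y) 0) :=
          Module.nontrivial_of_finrank_pos (R := Y.residueField y) (Nat.lt_of_not_le fun h => hM (Nat.lt_one_iff.2 (Nat.le_zero.1 h)))
        exact Groth.Agent.W7See.exists_ne_zero_of_nontrivial _
      obtain ⟨s, hs⟩ := hsec L h1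
      obtain ⟨t, ht⟩ := hsec L' h2
      exact Groth.Agent.W7See.nonempty_iso_unit_of_sections (Groth.Agent.W7See.isUnit_of_bijective (hy y))
        (PicLoc.isInvertible_pullback _ hL) (PicLoc.isInvertible_pullback _ hL') j hs ht
  rw [hset]
  exact (Groth.Agent.W7See.isOpen_fiberRank_lt f L hL 1).isClosed_compl.inter
    (Groth.Agent.W7See.isOpen_fiberRank_lt f L' hL' 1).isClosed_compl

end Groth.Agent.S16760
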