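import Groth.Statements.S16761
import Groth.Agent.W7Cech.NNStatements
import Groth.Agent.W7Cech.BC0

set_option autoImplicit false
universe u
open Coherent

open CategoryTheory CategoryTheory.Limits AlgebraicGeometry
namespace Groth.Agent.S16761

open AlgebraicGeometry CategoryTheory CategoryTheory.Limits in
/-- Let f : X → S be proper and of finite presentation, F an O_X-module of finite presentation which is
flat over S, and d a natural number with dim X_s ≤ d for all s. Then the set S' of points s with
H^j(X_s, F_s) = 0 for all j ≥ 1 is open, and over every open U ⊆ S' the sheaves R^j f_* F (j ≥ 1)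
restrict to zero, f_* F restricts to a finite locally free module, and the formation of f_* F
commutes with base change: for every cartesian square with base a morphism g : T → S whose image
lies in U, with f' : X ×_S T → T and g' : X ×_S T → X the projections, the base change map g^* f_* F
→ f'_* g'^* F is an isomorphism. (The published statement asks only that f be proper; without finite
presentation the assertions on f_* F fail — for a finite flat morphism which is not of finite
presentation and F = O_X the direct image f_* O_X need not be finite locally free — and the argument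
runs through cohomology and base change for morphisms of finite presentation, so f is taken of
finite presentation here. Higher direct images are right derived functors of f_* on O_X-modules,
with injective resolutions carried as an instance argument.) -/
theorem result {X S : Scheme.{u}} (f : X ⟶ S)
    [IsProper f] [LocallyOfFinitePresentation f] [HasInjectiveResolutions X.Modules]
    (F : X.Modules) (hF : CohB1.IsFP F) (hfl : FlatMod.IsFlatOver f F)
    (d : ℕ) (hd : ∀ s : S, topologicalKrullDim ↥(f.fiber s) ≤ d) :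
    IsOpen {s : S | ∀ j : ℕ, 1 ≤ j → Subsingleton (CohIII.fiberH f F s j)} ∧
      ∀ U : S.Opens, (U : Set S) ⊆ {s : S | ∀ j : ℕ, 1 ≤ j → Subsingleton (CohIII.fiberH f F s j)} →
        (∀ j : ℕ, 1 ≤ j → IsZero (((Coh.Rpush f j).obj F).restrict U.ι)) ∧
          FlatMod.IsFinLocFree (((Coh.push f).obj F).restrict U.ι) ∧
            ∀ (T X' : Scheme.{u}) (g : T ⟶ S) (f' : X' ⟶ T) (g' : X' ⟶ X) (hsq : IsPullback g' f' f g),
              Set.range g.base ⊆ (U : Set S) → IsIso (CohBC.bc0 f g f' g' hsq.w F) := by
  have hq := Groth.Agent.FibDepth.isQCoh_of_isFP hF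
  refine ⟨isOpen_iff_forall_mem_open.2 fun s hs => ?_, fun U hU => ?_⟩
  · obtain ⟨V, hV, hsV, -⟩ := exists_isAffineOpen_mem_and_subset (X := S) (x := s) (U := ⊤) trivial
    obtain ⟨m⟩ := Groth.Agent.W7Cech.nonempty_ModelNN f hq hF hfl hV
    choose W hsW hW using fun j : {j : ℕ // 1 ≤ j ∧ (j : ℤ) ≤ m.b} =>
      Groth.Agent.W7Cech.exists_nhd_vanish_nn f hq hF hfl j.1 s (hs j.1 j.2.1)
    haveI : Finite {j : ℕ // 1 ≤ j ∧ (j : ℤ) ≤ m.b} :=
      ((Set.finite_Iic m.b.toNat).subset fun j hj => Set.mem_Iic.2 (by have := hj.2; omega)).to_subtype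
    refine ⟨(V : Set S) ∩ ⋂ j, (W j : Set S), fun z hz j hj => ?_, V.2.inter (isOpen_iInter_of_finite fun j => (W j).2),
      hsV, Set.mem_iInter.2 hsW⟩
    by_cases hjb : (j : ℤ) ≤ m.b
    · exact hW ⟨j, hj, hjb⟩ z (Set.mem_iInter.1 hz.2 ⟨j, hj, hjb⟩)
    · have hz0 : IsZero (CohIII.T m.L (j : ℤ) (ModuleCat.of Γ(S, V) (hV.primeIdealOf ⟨z, hz.1⟩).asIdeal.ResidueField)) :=
        Groth.Agent.W7Cech.isZero_T_of_isZero m.L _ (m.hb _ (by omega)) _
      have hd := (Groth.Agent.W7Cech.isZero_T_iff_dRank m.L m.hL (j : ℤ) _).1 hz0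
      have h2 := (m.hsub j (hV.primeIdealOf ⟨z, hz.1⟩)).2 hd
      rwa [show hV.fromSpec (hV.primeIdealOf ⟨z, hz.1⟩) = z from hV.fromSpec_primeIdealOf ⟨z, hz.1⟩] at h2
  · refine ⟨fun j hj => Groth.Agent.W7Cech.isZero_restrict_of_vanish_nn f hq hF hfl j U fun y hy => hU hy j hj,
      Groth.Agent.W7Cech.isFinLocFree_push_restrict f hq hF hfl U fun y hy => hU hy 1 le_rfl,
      fun T X' g f' g' hsq hg => Groth.Agent.W7Cech.isIso_bc0_of_epi f hq hF hfl U (fun V hV hVU m => ?_) g f' g' hsq
        fun t => hg ⟨t, rfl⟩⟩
    exact (Groth.Agent.W7Cech.T_epi_iff_mono_succ m.L (Groth.Agent.W7Cech.flatX m.L m.hL) 0).2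
      (Groth.Agent.W7Cech.isZero_T_of_isZero_homology_all m.L fun M => by
        have h1 := m.isZero_T f 1 (fun y hy => hU (hVU hy) 1 le_rfl) M
        simpa using h1).1

end Groth.Agent.S16761
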