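import Groth.Statements.S16763
-- import your own Groth.Agent.* helpers here
import Groth.Agent.FibMapPoint.Basic

set_option autoImplicit false
universe u
open Unram17

namespace Groth.Agent.S16763

open AlgebraicGeometry CategoryTheory CategoryTheory.Limits in
/-- Let g : Y → S and h : X → S be locally of finite presentation, f : X → Y an S-morphism (f ≫ g = h),
and x a point of X with image s = h(x) such that h is flat at x. Then f is smooth at x (smooth on an
open neighbourhood of x) if and only if the induced morphism of fibres X_s → Y_s is smooth at the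
point of X_s lying over x. -/
theorem result {X Y S : Scheme.{u}} (g : Y ⟶ S) (h : X ⟶ S)
    [LocallyOfFinitePresentation g] [LocallyOfFinitePresentation h] (f : X ⟶ Y) (w : f ≫ g = h)
    (x : ↥X) (hflat : (h.stalkMap x).hom.Flat)
    (x' : ↥(h.fiber (h x))) (hx' : (h.fiberι (h x)) x' = x) :
    (∃ U : X.Opens, x ∈ U ∧ Smooth (U.ι ≫ f)) ↔
      ∃ V : (h.fiber (h x)).Opens, x' ∈ V ∧ Smooth (V.ι ≫ CohIII.fiberMapOver f h g w (h x)) := by
  subst w
  haveI : LocallyOfFinitePresentation f := LimDesc.lfp_of_comp f g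
  have sq := FibCrit.isPullback_fiberMap f g (g (f x))
  have hfp : LocallyOfFinitePresentation (MoreMor.fiberMap f g (g (f x))) :=
    MorphismProperty.of_isPullback sq ‹LocallyOfFinitePresentation f›
  constructor
  · rintro ⟨U, hxU, hU⟩
    exact ⟨(f ≫ g).fiberι (g (f x)) ⁻¹ᵁ U, by show (f ≫ g).fiberι (g (f x)) x' ∈ U; exact hx'.symm ▸ hxU,
      MorphismProperty.of_isPullback
        ((isPullback_morphismRestrict ((f ≫ g).fiberι (g (f x))) U).paste_vert sq) hU⟩
  · rintro ⟨V, hxV, hV⟩
    let W : ((f ≫ g).fiber (g (f x))).Opens := V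
    haveI : Smooth (W.ι ≫ MoreMor.fiberMap f g (g (f x))) := hV
    have hfl := FibMapPoint.flat_stalkMap_of_nhd (U := W) (MoreMor.fiberMap f g (g (f x))) hxV
    have hsl := SmDesc.mem_smoothLocus_of_smooth_ι (U := W) (MoreMor.fiberMap f g (g (f x))) hxV
    refine ⟨f.smoothLocus, ?_, SmDesc.smooth_smoothLocus f⟩
    refine FibMapPoint.mem_smoothLocus_of_fibreMap f g x x' hx'
      (FibMapPoint.flatAt_of_fibreMap f g x' x hx' hflat hfl) hsl

end Groth.Agent.S16763
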