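import Groth.Statements.S16771
import Groth.Agent.LimDesc.FPCancel
import Groth.Agent.ClosedRep.LFP
import Groth.Agent.ClosedRep.FinLocFree
-- import your own Groth.Agent.* helpers here

set_option autoImplicit false
open CategoryTheory MonoidalCategory CartesianMonoidalCategory MonObj GrpObj AlgebraicGeometry
universe u
open SGA3x

namespace Groth.Agent.S16771

/-- Let G be an affine group scheme of finite presentation over a scheme S, Y ⊆ G a closed subscheme
which is finite, flat and of finite presentation over S, and Y' ⊆ G a closed subscheme of finite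
presentation over S. Then the transporter of Y into Y' (points g of G such that g y g⁻¹ is a point
of Y' for every point y of Y after any base change) is representable by a closed subscheme of G of
finite presentation over S. -/
theorem result {S : Scheme.{u}} (G Y Y' : Over S) [GrpObj G]
    (hGa : IsAffineHom G.hom) (hGfp : LocallyOfFinitePresentation G.hom)
    (y : Y ⟶ G) (hy : IsClosedImmersion y.left) (hYf : IsFinite Y.hom) (hYfl : Flat Y.hom)
    (hYfp : LocallyOfFinitePresentation Y.hom)
    (y' : Y' ⟶ G) (hy' : IsClosedImmersion y'.left) (hY'fp : LocallyOfFinitePresentation Y'.hom) :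
    ∃ (C : Over S) (c : C ⟶ G), IsClosedImmersion c.left ∧ LocallyOfFinitePresentation C.hom ∧
      ∀ (X : Over S) (g : X ⟶ G), (∃ z : X ⟶ C, z ≫ c = g) ↔
        ∀ (X' : Over S) (x : X' ⟶ X) (a : X' ⟶ Y), ∃ a' : X' ⟶ Y', (x ≫ g) * (a ≫ y) * (x ≫ g)⁻¹ = a' ≫ y' := by
  have : LocallyOfFinitePresentation (y'.left ≫ G.hom) := by rw [Over.w y']; exact hY'fp
  have hy'' : LocallyOfFinitePresentation y'.left := Groth.Agent.LimDesc.lfp_of_comp y'.left G.hom
  obtain ⟨C, c, hc, hcf, hC⟩ := Groth.Agent.ClosedRep.exists_closed_preimage_lfp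
    (snd Y G * (fst Y G ≫ y) * (snd Y G)⁻¹) y'
    (Groth.Agent.ClosedRep.isLocFree_of_finLocFree Y.hom)
  refine ⟨C, c, hc, ?_, fun X g ↦ ?_⟩
  · rw [← Over.w c]; infer_instance
  rw [hC]
  simp only [MonObj.comp_mul, GrpObj.comp_inv, lift_fst_assoc, lift_snd]

end Groth.Agent.S16771
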