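import Groth.Statements.S16773
import Groth.Agent.MTExt.CentralIsog

set_option autoImplicit false
open CategoryTheory MonoidalCategory CartesianMonoidalCategory MonObj GrpObj AlgebraicGeometry
universe u
open Red

open CategoryTheory.Limits
set_option backward.isDefEq.respectTransparency false
set_option synthInstance.maxHeartbeats 400000
set_option maxHeartbeats 1000000

namespace Groth.Agent.S16773

/-- Let f : G' → G be a homomorphism of reductive group schemes over a scheme S which is surjective,
with kernel K. If for every s ∈ S the fibre K_s is finite and central in G'_s, then f is flat, K is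
finite over S and K is central in G' (f is a central isogeny). -/
theorem result {S : Scheme.{u}} {G' G K : Over S}
    [GrpObj G'] [GrpObj G] (hG' : Red.IsReductive G') (hG : Red.IsReductive G) (f : G' ⟶ G) [IsMonHom f]
    (hf : Surjective f.left) (i : K ⟶ G') (hK : AlgGrp.IsKernel i f)
    (hfin : ∀ s : S, IsFinite (K.hom.fiberToSpecResidueField s))
    (hcen : ∀ (s : S) (X : Over (Spec (S.residueField s))) (x : X ⟶ Red.bc (S.fromSpecResidueField s) K)
      (g : X ⟶ Red.bc (S.fromSpecResidueField s) G'),
      (x ≫ (Over.pullback (S.fromSpecResidueField s)).map i) * g = g * (x ≫ (Over.pullback (S.fromSpecResidueField s)).map i)) :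
    Flat f.left ∧ IsFinite K.hom ∧
      ∀ (X : Over S) (x : X ⟶ K) (g : X ⟶ G'), (x ≫ i) * g = g * (x ≫ i) := by
  obtain ⟨hfl, -, -⟩ := MTExt.flat_of_surjective hG' hG f hf
  obtain ⟨K₀, _, e, hm, hK₀, -, hc, hcentral⟩ := MTExt.kernel_central_mt hG' hG f hf i hK
    fun s X hX x g => MTExt.comm_of_bc i s (hcen s) X hX x g
  refine ⟨hfl, ?_, hcentral⟩
  haveI : IsIso e.hom.left := ((Over.forget _).mapIso e).isIso_hom
  haveI : IsIso e.inv.left := ((Over.forget _).mapIso e).isIso_inv
  haveI : LocallyQuasiFinite K.hom := LocallyQuasiFinite.of_isFinite_fiberToSpecResidueField K.hom fun s => by haveI := hfin s; infer_instance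
  haveI : LocallyQuasiFinite K₀.hom := by rw [← Over.w e.hom]; infer_instance
  haveI := MTExt.isFinite_of_lqf K₀ hK₀
  rw [← Over.w e.inv]
  infer_instance

end Groth.Agent.S16773
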