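import Groth.Statements.S16774
import Groth.Agent.RedCartan.Global
import Groth.Agent.MTImage.NhdIso
import Groth.Agent.S8407
-- import your own Groth.Agent.* helpers here

set_option autoImplicit false
open CategoryTheory CategoryTheory.Limits MonoidalCategory CartesianMonoidalCategory MonObj GrpObj AlgebraicGeometry
universe u
open Red

set_option backward.isDefEq.respectTransparency false

namespace Groth.Agent.S16774

/-- Let G be a smooth affine group scheme with connected fibres over a scheme S, T ⊆ G a subtorus with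
centralizer Z = Z_G(T) ⊇ T, and s ∈ S a point at which the geometric fibre of G is reductive and the
geometric fibre of T is a maximal torus. Then over some open neighbourhood U of s the inclusion T →
Z_G(T) is an isomorphism and T is a maximal torus of G. (The published statement allows disconnected
fibres and concerns identity components; here the fibres of G are connected.) -/
theorem result {S : Scheme.{u}} {G T Z : Over S} [GrpObj G] [GrpObj T] [GrpObj Z]
    (hG : Smooth G.hom) (hGa : IsAffineHom G.hom) (hconn : ∀ s : S, _root_.IsConnected (G.hom.base ⁻¹' {s}))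
    (i : T ⟶ G) [IsMonHom i] [Mono i] (hT : Red.IsTorus T) (z : Z ⟶ G) (hz : Red.IsCentralizerOf i z)
    (f : T ⟶ Z) (hf : f ≫ z = i) (s : S)
    (hs : Red.IsReductiveOver (AlgebraicClosure (S.residueField s)) (Red.geomFibre s G))
    (hTs : Red.IsMaximalTorus ((Over.pullback (Red.geomPt s)).map i)) :
    ∃ U : S.Opens, s ∈ U ∧ IsIso ((Over.pullback U.ι).map f) ∧ Red.IsMaximalTorus ((Over.pullback U.ι).map i) := by
  haveI := hG; haveI := hGa
  haveI := hz.1; haveI := hz.2.1
  obtain ⟨Z', _, z', hz', hz'c, hz's⟩ := MTBridge.exists_centralizer T G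
    (MTBridge.locally_of_isMultTypeFT' T (MTBridge.isMultTypeFT_of_isTorus T hT)) hG hGa i
  haveI := hz'.1; haveI := hz'.2.1; haveI := hz'c; haveI := hz's
  obtain ⟨a, ha⟩ := (hz'.2.2 Z z).2 ((hz.2.2 Z z).1 ⟨𝟙 Z, Category.id_comp z⟩)
  obtain ⟨b, hb⟩ := (hz.2.2 Z' z').2 ((hz'.2.2 Z' z').1 ⟨𝟙 Z', Category.id_comp z'⟩)
  let e : Z ≅ Z' := ⟨a, b, (cancel_mono z).1 (by rw [Category.assoc, hb, ha, Category.id_comp]),
    (cancel_mono z').1 (by rw [Category.assoc, ha, hb, Category.id_comp])⟩
  haveI : IsMonHom a := MTSplit.isMonHom_of_comp_mono a z' z ha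
  haveI : IsMonHom f := MTSplit.isMonHom_of_comp_mono f z i hf
  haveI : Mono (f ≫ z) := by rw [hf]; infer_instance
  haveI : Mono f := mono_of_mono f z
  let c : T ⟶ Z' := f ≫ a
  haveI : IsIso a := e.isIso_hom
  haveI : Mono c := inferInstanceAs (Mono (f ≫ a))
  haveI : IsMonHom c := inferInstanceAs (IsMonHom (f ≫ a))
  haveI := MTImage.smooth_torus hT
  haveI : IsAffineHom T.hom := MTBridge.isAffineHom T (MTBridge.isMultTypeFT_of_isTorus T hT)
  haveI : IsAffineHom Z'.hom := by rw [← Over.w z']; infer_instance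
  haveI : ∀ t : S, ConnectedSpace ↥(Red.geomFibre t T).left := fun t =>
    Chev.connectedSpace_of_isTorus (Chev.Borel.isTorus_bc_scheme T (Red.geomPt t) hT)
  haveI : ∀ t : S, ConnectedSpace ↥(Red.geomFibre t Z').left := fun t => by
    haveI : PreservesLimitsOfShape WalkingCospan (Over.pullback (Red.geomPt t)) :=
      (Adjunction.rightAdjoint_preservesLimits (Over.mapPullbackAdj (Red.geomPt t))).preservesLimitsOfShape
    haveI : Smooth (Red.geomFibre t G).hom := inferInstanceAs (Smooth (pullback.snd G.hom (Red.geomPt t)))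
    haveI : QuasiCompact (Red.geomFibre t G).hom := inferInstanceAs (QuasiCompact (pullback.snd G.hom (Red.geomPt t)))
    haveI := TorusLift.connectedSpace_bc_geom hconn (Red.geomPt t)
    exact (S8407.result _ (Red.geomFibre t G) (Red.geomFibre t T) ((Over.pullback (Red.geomPt t)).map i)
      (Chev.Borel.isTorus_bc_scheme T (Red.geomPt t) hT) _ _ (Chev.CentBC.isCentralizerOf_bc (Red.geomPt t) i z' hz')).2
  haveI : PreservesLimitsOfShape WalkingCospan (Over.pullback (Red.geomPt s)) :=
    (Adjunction.rightAdjoint_preservesLimits (Over.mapPullbackAdj (Red.geomPt s))).preservesLimitsOfShape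
  have hi₀ : AGF.IsMaxTorus ((Over.pullback (Red.geomPt s)).map i) := Chev.Borel.isMaxTorus_of_isMaximalTorus _ hTs
  have hgeo := Chev.CentBC.isCentralizerOf_bc (Red.geomPt s) i z' hz'
  obtain ⟨tc, htc, he⟩ := RedCartan.isIso_to_centralizer hs _ hi₀ _ hgeo
  haveI := hgeo.2.1
  have hcs : (Over.pullback (Red.geomPt s)).map c = tc := (cancel_mono ((Over.pullback (Red.geomPt s)).map z')).1 (by
    rw [← Functor.map_comp, show c ≫ z' = i by simp [c, ha, hf], he])
  obtain ⟨U, hsU, hU⟩ := MTImage.exists_nhd_iso_of_geom c (fun t => TorusLift.isConnected_fibre_of_geom t)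
    (fun t => TorusLift.isConnected_fibre_of_geom t) s
    (by rw [hcs]; exact inferInstanceAs (IsIso ((Over.forget _).map tc)))
  haveI := hU
  haveI : IsIso ((Over.pullback U.ι).map f) := by
    have : (Over.pullback U.ι).map f = (Over.pullback U.ι).map c ≫ inv ((Over.pullback U.ι).map a) := by
      rw [IsIso.eq_comp_inv, ← Functor.map_comp]
    rw [this]; infer_instance
  haveI : PreservesLimitsOfShape WalkingCospan (Over.pullback U.ι) :=
    (Adjunction.rightAdjoint_preservesLimits (Over.mapPullbackAdj U.ι)).preservesLimitsOfShape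
  refine ⟨U, hsU, inferInstance, RedCartan.isMaximalTorus_of_isCentralizerOf_self _
    (Chev.Borel.isTorus_bc_scheme T U.ι hT)
    (RedCartan.isCentralizerOf_of_isIso (Chev.CentBC.isCentralizerOf_bc U.ι i z hz) ((Over.pullback U.ι).map f)
      (by rw [← Functor.map_comp, hf]))⟩

end Groth.Agent.S16774
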