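import Groth.Statements.S16775
import Groth.Agent.MTExt.Global
import Groth.Agent.MTBridge.NormalCentral
import Groth.Agent.FpqcDescent.Affine

set_option autoImplicit false
open CategoryTheory MonoidalCategory CartesianMonoidalCategory MonObj GrpObj AlgebraicGeometry
universe u
open SGA3x

open CategoryTheory.Limits
set_option backward.isDefEq.respectTransparency false
set_option synthInstance.maxHeartbeats 400000
set_option maxHeartbeats 1000000

namespace Groth.Agent.S16775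

/-- Let G be a smooth affine group scheme with connected fibres over a scheme S, H ⊆ G a normal subgroup
scheme of multiplicative type (of finite type), G → Q = G/H the quotient, and H' ⊆ Q a central
subgroup scheme of multiplicative type (of finite type). Then the preimage of H' in G is a central
subgroup scheme of G of multiplicative type. -/
theorem result {S : Scheme.{u}} {G H Q H' P : Over S}
    [GrpObj G] [GrpObj H] [GrpObj Q] [GrpObj H'] [GrpObj P]
    (hG : Smooth G.hom) (hGa : IsAffineHom G.hom) (hconn : ∀ s : S, _root_.IsConnected (G.hom.base ⁻¹' {s}))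
    (i : H ⟶ G) [IsMonHom i] [Mono i] (hH : SGA3x.IsMultTypeFT H) (hHn : AlgGrp.IsNormalHom i)
    (q : G ⟶ Q) [IsMonHom q] (hq : RedSub.IsQuotient i q) (hker : AlgGrp.IsKernel i q)
    (j : H' ⟶ Q) [IsMonHom j] [Mono j] (hH' : SGA3x.IsMultTypeFT H')
    (hcenH' : ∀ (X : Over S) (x : X ⟶ H') (g : X ⟶ Q), (x ≫ j) * g = g * (x ≫ j))
    (i' : P ⟶ G) [IsMonHom i'] (p : P ⟶ H') (hP : IsPullback i' p q j) :
    SGA3x.IsMultTypeFT P ∧ ∀ (X : Over S) (x : X ⟶ P) (g : X ⟶ G), (x ≫ i') * g = g * (x ≫ i') := by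
  haveI : LocallyOfFiniteType G.hom := inferInstance
  have hHc : ∀ (X : Over S) (g : X ⟶ G) (h : X ⟶ H), g * (h ≫ i) = (h ≫ i) * g :=
    MTBridge.normal_central hH (fun s => by
      haveI := isConnected_iff_connectedSpace.1 (hconn s)
      exact (G.hom.fiberHomeo s).symm.surjective.connectedSpace (G.hom.fiberHomeo s).symm.continuous) i hHn
  obtain ⟨hqs, hqf, hqp, hqsq⟩ := hq
  haveI : QuasiCompact q.left := by
    haveI := MTBridge.isAffineHom H hH
    refine MorphismProperty.of_isPullback_of_descendsAlong (P := @QuasiCompact)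
      (Q := @Surjective ⊓ @Flat ⊓ @LocallyOfFinitePresentation) (hqsq.map (Over.forget S)) ⟨⟨hqs, hqf⟩, hqp⟩ ?_
    exact MorphismProperty.pullback_fst G.hom H.hom (inferInstanceAs (QuasiCompact H.hom))
  have hP' := hP.map (Over.forget S)
  haveI : Surjective p.left := MorphismProperty.of_isPullback hP' hqs
  haveI : Flat p.left := MorphismProperty.of_isPullback hP' hqf
  haveI : QuasiCompact p.left := MorphismProperty.of_isPullback hP' ‹QuasiCompact q.left›
  haveI : Mono i' := hP.flip.flip |> fun h => ⟨fun {Z} a b e => h.hom_ext e ((cancel_mono j).1 (by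
    rw [Category.assoc, Category.assoc, ← h.w, ← Category.assoc, e, Category.assoc]))⟩
  haveI : IsMonHom p := MTBridge.isMonHom_of_points p fun Y a b => (cancel_mono j).1 (by
    rw [Category.assoc, ← hP.w, ← Category.assoc, MonObj.mul_comp a b i', MonObj.mul_comp _ _ q,
      MonObj.mul_comp _ _ j, Category.assoc, Category.assoc, hP.w, Category.assoc, Category.assoc])
  -- the kernel of the restricted quotient map
  obtain ⟨m, hm⟩ : ∃ m : H ⟶ P, m ≫ i' = i ∧ m ≫ p = 1 :=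
    ⟨hP.lift i 1 (by
      rw [show i ≫ q = (1 : H ⟶ Q) from (by rw [hker.w, ← Hom.one_def]), MonObj.one_comp]),
      hP.lift_fst _ _ _, hP.lift_snd _ _ _⟩
  haveI : IsMonHom m := MTBridge.isMonHom_of_points m fun Y a b => (cancel_mono i').1 (by
    rw [Category.assoc, hm.1, MonObj.mul_comp, MonObj.mul_comp, Category.assoc, Category.assoc, hm.1])
  haveI : Mono m := by
    haveI : Mono (m ≫ i') := by rw [hm.1]; infer_instance
    exact mono_of_mono m i'
  have hkerP : AlgGrp.IsKernel m p := by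
    refine IsPullback.mk' (by rw [hm.2, Hom.one_def]) (fun T φ φ' e₁ _ => (cancel_mono m).1 e₁) fun T a b hab => ?_
    have ha : a ≫ p = 1 := by rw [hab, toUnit_unique b (toUnit T), Hom.one_def]
    obtain ⟨h, hh⟩ := (MTKernel.exists_lift_iff hker (a ≫ i')).2 (by
      rw [Category.assoc, hP.w, ← Category.assoc, ha, MonObj.one_comp])
    refine ⟨h, (cancel_mono i').1 ?_, toUnit_unique _ _⟩
    rw [Category.assoc, hm.1, hh]
  -- centrality
  obtain ⟨c, hc⟩ := (MTKernel.exists_lift_iff hker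
      ((fst P G ≫ i') * snd P G * (fst P G ≫ i')⁻¹ * (snd P G)⁻¹)).2 (by
    simp only [MonObj.mul_comp, GrpObj.inv_comp, Category.assoc, hP.w]
    rw [← Category.assoc, hcenH', mul_inv_cancel_right, mul_inv_cancel])
  have hc' : ∀ {X : Over S} (a : X ⟶ P) (g : X ⟶ G),
      (lift a g ≫ c) ≫ i = (a ≫ i') * g * (a ≫ i')⁻¹ * g⁻¹ := by
    intro X a g
    rw [Category.assoc, hc]
    simp [MonObj.comp_mul, GrpObj.comp_inv]
  obtain ⟨_, _, _⟩ : Flat (p ▷ G).left ∧ Surjective (p ▷ G).left ∧ QuasiCompact (p ▷ G).left := by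
    have h := Assoc.isPullback_whiskerRight (Z := G) p
    exact ⟨MorphismProperty.of_isPullback h ‹_›, MorphismProperty.of_isPullback h ‹_›,
      MorphismProperty.of_isPullback h ‹_›⟩
  obtain ⟨d, hd⟩ := Chev.MultRigid.exists_desc_fppf (p ▷ G) c (fun T x y hxy => by
    have h1 : x ≫ snd P G = y ≫ snd P G := by
      simpa using congrArg (fun z => z ≫ snd H' G) hxy
    have h2 : (x ≫ fst P G) ≫ p = (y ≫ fst P G) ≫ p := by
      simpa using congrArg (fun z => z ≫ fst H' G) hxy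
    obtain ⟨h, hh⟩ := (MTKernel.exists_lift_iff hkerP ((x ≫ fst P G)⁻¹ * (y ≫ fst P G))).2 (by
      rw [MonObj.mul_comp, GrpObj.inv_comp, h2, inv_mul_cancel])
    have hx : x = lift (x ≫ fst P G) (x ≫ snd P G) :=
      CartesianMonoidalCategory.hom_ext _ _ (by simp) (by simp)
    have hy : y = lift ((x ≫ fst P G) * (h ≫ m)) (x ≫ snd P G) := by
      rw [hh, mul_inv_cancel_left, h1]; exact CartesianMonoidalCategory.hom_ext _ _ (by simp) (by simp)
    rw [hy, hx, ← cancel_mono i]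
    simp only [lift_fst, lift_snd, hc', MonObj.mul_comp]
    rw [Category.assoc h m i', hm.1, _root_.mul_inv_rev]
    have := hHc T (x ≫ snd P G) h
    generalize h ≫ i = z at this ⊢
    generalize x ≫ snd P G = g at this ⊢
    generalize (x ≫ fst P G) ≫ i' = a
    calc a * g * a⁻¹ * g⁻¹ = a * (g * z) * (z⁻¹ * a⁻¹) * g⁻¹ := by group
      _ = a * (z * g) * (z⁻¹ * a⁻¹) * g⁻¹ := by rw [this]
      _ = a * z * g * (z⁻¹ * a⁻¹) * g⁻¹ := by group)
  have hdp : ∀ {X : Over S} (a : X ⟶ P) (g : X ⟶ G), lift (a ≫ p) g ≫ d = lift a g ≫ c := by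
    intro X a g
    rw [← hd, lift_whiskerRight_assoc]
  have key := MTExt.eq_one_of_fibres hH' hH d (fun X x y g => by
    obtain ⟨X₁, c₁, a, hc₁, ha⟩ := Chev.MultRigid.exists_lift_cover p x
    obtain ⟨X₂, c₂, b, hc₂, hb⟩ := Chev.MultRigid.exists_lift_cover p (c₁ ≫ y)
    haveI := hc₁; haveI := hc₂
    rw [← cancel_epi c₁, ← cancel_epi c₂]
    have ha' : (c₂ ≫ a) ≫ p = c₂ ≫ c₁ ≫ x := by rw [Category.assoc, ha]
    simp only [MonObj.comp_mul, comp_lift_assoc, ← ha', ← hb]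
    rw [← MonObj.mul_comp, hdp, hdp, hdp, ← cancel_mono i, MonObj.mul_comp, hc', hc', hc', MonObj.mul_comp]
    have h2 := hHc X₂ ((c₂ ≫ a) ≫ i') (lift b (c₂ ≫ c₁ ≫ g) ≫ c)
    have h3 := hHc X₂ ((((c₂ ≫ a) ≫ i') * (c₂ ≫ c₁ ≫ g) * ((c₂ ≫ a) ≫ i')⁻¹ * (c₂ ≫ c₁ ≫ g)⁻¹))
      (lift b (c₂ ≫ c₁ ≫ g) ≫ c)
    rw [hc'] at h2 h3
    generalize (c₂ ≫ a) ≫ i' = u at h2 h3 ⊢
    generalize b ≫ i' = v at h2 h3 ⊢
    generalize c₂ ≫ c₁ ≫ g = e at h2 h3 ⊢
    rw [_root_.mul_inv_rev]
    calc u * v * e * (v⁻¹ * u⁻¹) * e⁻¹ = u * (v * e * v⁻¹ * e⁻¹) * u⁻¹ * (u * e * u⁻¹ * e⁻¹) := by group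
      _ = (v * e * v⁻¹ * e⁻¹) * u * u⁻¹ * (u * e * u⁻¹ * e⁻¹) := by rw [h2]
      _ = (v * e * v⁻¹ * e⁻¹) * (u * e * u⁻¹ * e⁻¹) := by group
      _ = (u * e * u⁻¹ * e⁻¹) * (v * e * v⁻¹ * e⁻¹) := h3.symm)
    η[G] (fun s => Or.inl ⟨hconn s, fun X x => by
      obtain ⟨X', c', a, hc'e, ha⟩ := Chev.MultRigid.exists_lift_cover p x
      haveI := hc'e
      rw [← cancel_epi c', MonObj.comp_one, comp_lift_assoc, ← ha, ← Category.assoc c' (toUnit X), comp_toUnit,
        hdp, ← cancel_mono i, hc', ← Hom.one_def, MonObj.one_comp]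
      group⟩)
  have hcen : ∀ (X : Over S) (x : X ⟶ P) (g : X ⟶ G), (x ≫ i') * g = g * (x ≫ i') := by
    intro X x g
    have h1 := hc' x g
    rw [← hdp, key, MonObj.one_comp] at h1
    exact mul_inv_eq_iff_eq_mul.1 (mul_inv_eq_one.1 h1.symm)
  refine ⟨MTExt.isMultTypeFT_of_ext p m hkerP hH hH' fun s => Or.inr fun X _ a b => ?_, hcen⟩
  rw [← cancel_mono i', MonObj.mul_comp, MonObj.mul_comp]
  exact hcen X a (b ≫ i')

end Groth.Agent.S16775
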