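import Groth.Statements.S16780
import Groth.Agent.MTExt.Global

set_option autoImplicit false
open CategoryTheory MonoidalCategory CartesianMonoidalCategory MonObj GrpObj AlgebraicGeometry
universe u
open SGA3x

open CategoryTheory.Limits
set_option backward.isDefEq.respectTransparency false
set_option synthInstance.maxHeartbeats 400000
set_option maxHeartbeats 1000000

namespace Groth.Agent.S16780

/-- Let 1 → H' → H → H'' → 1 be a short exact sequence of affine, flat, finitely presented group schemes
over a scheme S with H' and H'' of multiplicative type (of finite type). If every fibre H_s is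
connected or commutative, then H is of multiplicative type. -/
theorem result {S : Scheme.{u}} (H' H H'' : Over S) [GrpObj H'] [GrpObj H] [GrpObj H'']
    (hHa : IsAffineHom H.hom) (hHfl : Flat H.hom) (hHfp : LocallyOfFinitePresentation H.hom)
    (p : H ⟶ H'') [IsMonHom p] [Surjective p.left] [Flat p.left] [QuasiCompact p.left]
    (i : H' ⟶ H) [IsMonHom i] (hker : AlgGrp.IsKernel i p)
    (hH' : SGA3x.IsMultTypeFT H') (hH'' : SGA3x.IsMultTypeFT H'')
    (hfib : ∀ s : S, _root_.IsConnected (H.hom.base ⁻¹' {s}) ∨
      ∀ (X : Over (Spec (S.residueField s))) (a b : X ⟶ Red.bc (S.fromSpecResidueField s) H), a * b = b * a) :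
    SGA3x.IsMultTypeFT H := by
  refine MTExt.isMultTypeFT_of_ext p i hker hH' hH'' fun s => ?_
  rcases hfib s with h | h
  · have e : H''.hom.base ⁻¹' {s} = p.left.base '' (H.hom.base ⁻¹' {s}) := by
      ext y
      constructor
      · intro hy
        obtain ⟨x, rfl⟩ := p.left.surjective y
        refine ⟨x, ?_, rfl⟩
        show H.hom x = s
        rw [← Over.w p, Scheme.Hom.comp_apply]
        exact hy
      · rintro ⟨x, hx, rfl⟩
        show H''.hom (p.left x) = s
        rw [← Scheme.Hom.comp_apply, Over.w p]
        exact hx
    exact Or.inl (e ▸ h.image _ p.left.continuous.continuousOn)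
  · refine Or.inr fun X hX a b => ?_
    obtain ⟨w, hw⟩ := hX
    let j := S.fromSpecResidueField s
    let X' : Over (Spec (S.residueField s)) := Over.mk w
    let ε : (Over.map j).obj X' ≅ X := Over.isoMk (Iso.refl _) (by simpa [X', j] using hw.symm)
    rw [← cancel_epi ε.hom, MonObj.comp_mul, MonObj.comp_mul]
    refine MTBridge.toBC_inj j ?_
    rw [MTBridge.toBC_mul, MTBridge.toBC_mul]
    exact h X' _ _

end Groth.Agent.S16780
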