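import Groth.Statements.S16791
import Groth.Agent.Chev.MaxTorusBC
-- import your own Groth.Agent.* helpers here

set_option autoImplicit false
open CategoryTheory MonoidalCategory CartesianMonoidalCategory MonObj GrpObj AlgebraicGeometry
universe u
open Red

set_option backward.isDefEq.respectTransparency false

namespace Groth.Agent.S16791
open Groth.Agent

/-- For a smooth affine group scheme G over a scheme S, a subtorus T ⊆ G and a surjective morphism S' →
S, T is a maximal torus of G (geometric fibres maximal) if and only if T_{S'} is a maximal torus of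
G_{S'}. -/
theorem result {S S' : Scheme.{u}} {G T : Over S} [GrpObj G] [GrpObj T]
    (hG : Smooth G.hom) (hGa : IsAffineHom G.hom) (i : T ⟶ G) [IsMonHom i] [Mono i] (hT : Red.IsTorus T)
    (f : S' ⟶ S) (hf : Surjective f) :
    Red.IsMaximalTorus i ↔ Red.IsMaximalTorus ((Over.pullback f).map i) := by
  haveI := hG; haveI := hGa; haveI := hf
  exact ⟨fun h => Chev.MaxTorusBC.isMaximalTorus_bc i h f, fun h => Chev.MaxTorusBC.isMaximalTorus_descend f i hT h⟩

end Groth.Agent.S16791
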