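import Groth.Statements.S16794
import Groth.Agent.Hochschild.Basic

set_option autoImplicit false
universe v u
open PCurv

namespace Groth.Agent.S16794

open TensorProduct in
/-- Let p be a prime number and B a commutative algebra of characteristic p over a commutative ring A
whose module Ω of Kähler differentials over A is free of rank one on a form ω; let θ₀ be the
A-derivation of B dual to ω (its B-linear functional Ω → B takes the value 1 on ω), and let ∇ be a
connection on a finite free B-module M. Then the p-curvature of ∇ vanishes identically — for every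
A-derivation θ of B and every derivation θ' that agrees with the p-fold iterate of θ, the
endomorphism (∇_θ)^p − ∇_{θ'} of M is zero — if and only if it vanishes for the single derivation
θ₀. -/
theorem result {A : Type v} {B M : Type u} [CommRing A] [CommRing B]
    [Algebra A B] (p : ℕ) [Fact p.Prime] [CharP B p]
    [AddCommGroup M] [Module B M] [Module A M] [IsScalarTower A B M] [Module.Finite B M] [Module.Free B M]
    (bΩ : Module.Basis (Fin 1) B (KaehlerDifferential A B)) (θ₀ : Derivation A B B)
    (hθ₀ : θ₀.liftKaehlerDifferential (bΩ 0) = 1)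
    (nabla : M →ₗ[A] M ⊗[B] KaehlerDifferential A B)
    (hc : Conn.IsConn (KaehlerDifferential.D A B) nabla) :
    (∀ θ θp : Derivation A B B, Conn.IsIterPow θ p θp → Conn.pCurv p nabla θ θp = 0) ↔
      (∀ θp : Derivation A B B, Conn.IsIterPow θ₀ p θp → Conn.pCurv p nabla θ₀ θp = 0) := by
  constructor
  · intro h θp hθp
    exact h θ₀ θp hθp
  intro h θ θp hθp
  have hmul : ∀ (D : Derivation A B B) a b, D (a * b) = a * D b + b * D a := fun D a b => D.leibniz a b
  let θ₀p : Derivation A B B := Derivation.mk' ((θ₀ : B →ₗ[A] B) ^ p) fun a b => by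
    rw [Module.End.pow_apply, Module.End.pow_apply, Module.End.pow_apply]
    exact Groth.Agent.Hochschild.iterate_p_mul p (θ₀ : B →ₗ[A] B).toAddMonoidHom (hmul θ₀) a b
  have hθ₀p : Conn.IsIterPow θ₀ p θ₀p := fun b => Module.End.pow_apply _ _ _
  set f := θ.liftKaehlerDifferential (bΩ 0) with hf
  have hlift : ∀ (D : Derivation A B B) (x : KaehlerDifferential A B),
      D.liftKaehlerDifferential x = D.liftKaehlerDifferential (bΩ 0) * θ₀.liftKaehlerDifferential x := fun D x => by
    conv_lhs => rw [← bΩ.sum_repr x]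
    conv_rhs => arg 2; rw [← bΩ.sum_repr x]
    simp [hθ₀, mul_comm]
  have hD : ∀ (D : Derivation A B B) b, D b = D.liftKaehlerDifferential (bΩ 0) * θ₀ b := fun D b => by
    have := hlift D (KaehlerDifferential.D A B b)
    rwa [D.liftKaehlerDifferential_comp_D, θ₀.liftKaehlerDifferential_comp_D] at this
  have hal : ∀ (D : Derivation A B B) m,
      Conn.alongDer nabla D m = D.liftKaehlerDifferential (bΩ 0) • Conn.alongDer nabla θ₀ m := fun D m => by
    simp only [Conn.alongDer, Conn.along, LinearMap.comp_apply, LinearMap.restrictScalars_apply]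
    induction nabla m with
    | zero => simp
    | add x y hx hy => simp only [map_add, smul_add, hx, hy]
    | tmul u v => simp [hlift D v, smul_smul]
  let D0 : M →+ M := (Conn.alongDer nabla θ₀).toAddMonoidHom
  have hD0 : ∀ (b : B) (m : M), D0 (b • m) = b • D0 m + θ₀ b • m := fun b m => by
    simp [D0, Conn.alongDer, Conn.along, hc b m]
  have hfun : (fun b => f * θ₀ b) = (⇑θ) := funext fun b => (hD θ b).symm
  obtain ⟨c, hcdef⟩ : ∃ c, c = (⇑θ)^[p - 1] f := ⟨_, rfl⟩
  have key1 : ∀ m, (Conn.alongDer nabla θ ^ p) m = f ^ p • (Conn.alongDer nabla θ₀ ^ p) m + c • D0 m := fun m => by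
    rw [Module.End.pow_apply, Module.End.pow_apply, hcdef, ← hfun,
      show (⇑(Conn.alongDer nabla θ)) = fun m => f • D0 m from funext fun m => hal θ m]
    exact Groth.Agent.Hochschild.iterate_smul_p f (θ₀ : B →ₗ[A] B).toAddMonoidHom p (hmul θ₀) D0 hD0 m
  have key2 : ∀ b, θp b = f ^ p * θ₀p b + c * θ₀ b := fun b => by
    rw [hθp b, hθ₀p b, hcdef, ← hfun]
    exact Groth.Agent.Hochschild.iterate_smul_p (M := B) f (θ₀ : B →ₗ[A] B).toAddMonoidHom p (hmul θ₀)
      (θ₀ : B →ₗ[A] B).toAddMonoidHom (fun b m => by
        show θ₀ (b * m) = b * θ₀ m + θ₀ b * m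
        rw [hmul θ₀, mul_comm m]) b
  have hcoef : θp.liftKaehlerDifferential (bΩ 0) = f ^ p * θ₀p.liftKaehlerDifferential (bΩ 0) + c := by
    have : θp = f ^ p • θ₀p + c • θ₀ := Derivation.ext key2
    have h1 : ∀ x, θp.liftKaehlerDifferential x =
        f ^ p * θ₀p.liftKaehlerDifferential x + c * θ₀.liftKaehlerDifferential x := fun x => by
      have : θp.liftKaehlerDifferential =
          f ^ p • θ₀p.liftKaehlerDifferential + c • θ₀.liftKaehlerDifferential :=
        Derivation.liftKaehlerDifferential_unique _ _ (Derivation.ext fun b => by simp [key2])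
      rw [this]; rfl
    rw [h1, hθ₀, mul_one]
  ext m
  have h0 := LinearMap.congr_fun (h θ₀p hθ₀p) m
  simp only [Conn.pCurv, LinearMap.sub_apply, LinearMap.zero_apply] at h0 ⊢
  rw [sub_eq_zero] at h0 ⊢
  rw [key1, h0, hal θp, hcoef, hal θ₀p, add_smul, mul_smul]
  rfl

end Groth.Agent.S16794
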