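import Groth.Statements.S16799
import Groth.Agent.HopfSt.QcQs
import Groth.Agent.HopfSt.Unit
import Groth.Agent.RelGen.UnitLocal
import Groth.Agent.S16800
import Groth.Agent.TameInt.Basic

set_option autoImplicit false
set_option linter.style.haveILetI false
set_option backward.isDefEq.respectTransparency false
set_option backward.isDefEq.respectTransparency.types false
universe u
open CategoryTheory MonoidalCategory CartesianMonoidalCategory AlgebraicGeometry
open StMod

namespace Groth.Agent.S16799

/-- Let `R` be a commutative ring, `A` a commutative Hopf algebra over `R`, flat and of finite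
presentation as an `R`-algebra (the coordinate ring of an affine, flat, finitely presented group
scheme `G` over `S = Spec R`), and `B` a commutative `R`-algebra with a coaction of `A` that is an
algebra map (an action of `G` on `X = Spec B`); let `C = B^A` be the ring of invariants and `Y =
Spec C`. Suppose the action is tame: there is a comodule map `α : A → B` with `α 1 = 1`. Let `[X/G]`
be the fppf quotient stack in its description by `G`-torsors that are schemes with an equivariant
map to `X`, assumed to be an algebraic stack, and let `ρ : [X/G] ⟶ Y` be the functor over `(Sch/S)`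
whose composite with the canonical `X ⟶ [X/G]` is the functor induced by the quotient map `X ⟶ Y`
(there is exactly one such functor). Then `ρ` is a good moduli space: pushforward along `ρ` takes
surjections of quasi-coherent modules on `[X/G]` to maps that are surjective on sections over every
affine scheme etale over `Y`, the canonical map from the functions on any scheme etale over `Y` to
the sections of `ρ_* O` over it is bijective, and `ρ` is quasi-compact and quasi-separated. (The
published statement assumes only that `A` is flat over `R`; finite presentation of `A` is assumed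
here as the setting in which good moduli spaces of quotient stacks and the pushforward of
quasi-coherent modules along `ρ` are defined.) -/
theorem result
    (R : Type u) [CommRing R] (A : Type u) [CommRing A] [HopfAlgebra R A] [Module.Flat R A]
    [Algebra.FinitePresentation R A]
    (B : Type u) [CommRing B] [Algebra R B] [HopfRep.Comod R A B] [GLin.IsCoactAlg R A B]
    (htame : ∃ α : A →ₗ[R] B, Hoch.IsComodHom A α ∧ α 1 = 1)
    (h𝒳 : AlgSt.IsAlgStack Scheme.fppfPrecoverage
      (AlgSt.QuotSt Scheme.fppfPrecoverage (CoactBr.sp R A) (CoactBr.action R A B)))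
    (ρ : AlgSt.QuotSt Scheme.fppfPrecoverage (CoactBr.sp R A) (CoactBr.action R A B) ⥤ᵇ
      AlgSt.ofSch (CoactBr.sp R ↥(GLin.invariants R A B)))
    (hρ : BasedFunctor.comp (AlgSt.quotMap Scheme.fppfPrecoverage (CoactBr.sp R A) (CoactBr.action R A B)) ρ =
      AlgSt.ofSpMap ((AlgSp.yon (Spec (CommRingCat.of R))).map
        (CoactBr.pt (GLin.invariants R A B).val))) :
    StMod.IsGoodModuli ρ ∧ AlgSt.IsQuasiCompactMor Scheme.fppfPrecoverage ρ ∧
      AlgSt.IsQuasiSeparatedMor ρ := by
  let Y := CoactBr.sp R ↥(GLin.invariants R A B)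
  haveI : Flat (CoactBr.sp R A).hom := Groth.Agent.HopfSt.flat_sp R A
  haveI : LocallyOfFinitePresentation (CoactBr.sp R A).hom := Groth.Agent.HopfSt.lfp_sp
  haveI : ∀ (K : Type u) [CommRing K] [Algebra R K], IsAffine (CoactBr.sp R K).left := fun K _ _ =>
    inferInstanceAs (IsAffine (Spec (CommRingCat.of K)))
  haveI : IsAffineHom (CoactBr.sp R A).hom := isAffineHom_of_isAffine _
  haveI : IsAffineHom (CoactBr.sp R B).hom := isAffineHom_of_isAffine _
  haveI : IsAffineHom Y.hom := isAffineHom_of_isAffine _
  haveI : CompactSpace ↥(CoactBr.sp R B).left := inferInstanceAs (CompactSpace ↥(Spec (CommRingCat.of B)))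
  have hqc : AlgSt.IsQuasiCompactMor Scheme.fppfPrecoverage ρ :=
    Groth.Agent.HopfSt.isQuasiCompactMor_quot inferInstance ρ
  have hqs : AlgSt.IsQuasiSeparatedMor ρ :=
    Groth.Agent.HopfSt.isQuasiSeparatedMor_quot inferInstance inferInstance ρ
  obtain ⟨α, hα, hα1⟩ := htame
  refine ⟨⟨(Groth.Agent.S16800.result R A B h𝒳 ρ hρ hqc hqs).2
    fun M N _ _ _ _ _ _ _ _ _ _ _ _ f hf hsurj n hn => ?_, ?_⟩, hqc, hqs⟩
  · obtain ⟨m, rfl⟩ := hsurj n
    exact ⟨TameAct.reynolds R A B M α m, Groth.Agent.TameInt.reynolds_mem hα m,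
      (Groth.Agent.TameInt.reynolds_natural α f hf m).trans (Groth.Agent.TameInt.reynolds_of_mem hα1 hn)⟩
  have hM : AlgSp.IsAlgSpace ((AlgSp.yon (Spec (CommRingCat.of R))).obj Y) := AlgSp.IsAlgSpace.yon_obj Y
  have hπ : Groth.Agent.RelGen.FibData ρ := Groth.Agent.RelGen.fibData_of_qcqs h𝒳
    (Groth.Agent.AlgStLib.isAlgStack_ofSp ⟨_, hM⟩) ρ hqc hqs
  have htop : AlgSp.RepWith @Etale ((AlgSp.yon (Spec (CommRingCat.of R))).map (𝟙 Y)) :=
    (Groth.Agent.AlgSpLib.repWith_yon_iff (P := @Etale) _).2 (inferInstanceAs (Etale (𝟙 Y.left)))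
  let E₀ : AlgSp.EtOver ((AlgSp.yon (Spec (CommRingCat.of R))).obj Y) := AlgSp.EtOver.mk _ htop
  have hη : StMod.etaOf E₀ = Groth.Agent.HopfSt.idObj Y := by
    show (⟨Y, (AlgSp.J _).uliftYonedaEquiv ((AlgSp.yon _).map (𝟙 Y))⟩ : (AlgSt.ofSch Y).obj) = _
    rw [CategoryTheory.Functor.map_id]
    rfl
  have h0 : Function.Bijective (StMod.unitSect ρ (StMod.etaOf E₀)) := by
    rw [hη]
    exact Groth.Agent.HopfSt.unitSect_idObj_bijective ρ hρ
  refine Groth.Agent.RelGen.unitIsIso_of_affine ρ h𝒳.isStack.1 fun E hE => ?_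
  obtain ⟨k, hk⟩ := (AlgSp.yon (Spec (CommRingCat.of R))).map_surjective E.obj.hom
  haveI : Etale k.left := (Groth.Agent.AlgSpLib.repWith_yon_iff (P := @Etale) k).1 (by rw [hk]; exact E.property)
  let g : StMod.etaOf E ⟶ StMod.etaOf E₀ := Groth.Agent.RelGen.eltHom k (by
    rw [Groth.Agent.RelGen.toYon_etaOf, Groth.Agent.RelGen.toYon_etaOf, ← hk]
    exact ((AlgSp.yon _).map_comp k (𝟙 Y)).symm.trans (congrArg _ (Category.comp_id k)))
  haveI : IsAffine (StMod.sch (AlgSt.ofSch Y) (StMod.etaOf E)) := hE
  haveI : IsAffine (StMod.sch (AlgSt.ofSch Y) (StMod.etaOf E₀)) :=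
    inferInstanceAs (IsAffine (Spec (CommRingCat.of _)))
  haveI : Flat (StMod.bmap (AlgSt.ofSch Y) g) := inferInstanceAs (Flat k.left)
  exact Groth.Agent.RelGen.unitBij_baseChange hπ g h0

end Groth.Agent.S16799
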