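import Groth.Agent.AlgStLib.FieldPt
import Groth.Prelude.Def_StGerb
import Mathlib.AlgebraicGeometry.Noetherian

set_option autoImplicit false
universe u
open CategoryTheory AlgebraicGeometry
open Gerb

set_option backward.isDefEq.respectTransparency false

namespace Groth.Agent.S16805

/-- For an algebraic stack 𝒵 the following are equivalent: 𝒵 is reduced with exactly one point; 𝒵
receives a surjective flat morphism from the spectrum of a field; 𝒵 receives a locally of finite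
type, surjective, flat morphism from the spectrum of a field. -/
theorem result
    (S : Scheme.{u}) (𝒵 : AlgSt.Cat S) (h𝒵 : AlgSt.IsAlgStack Scheme.fppfPrecoverage 𝒵) :
    [AlgSt.SmoothLocally (fun T => IsReduced T) 𝒵 ∧ Nonempty (AlgSt.Points 𝒵) ∧ Subsingleton (AlgSt.Points 𝒵),
      ∃ (k : Type u) (_ : Field k) (a : Spec (CommRingCat.of k) ⟶ S)
        (z : FibCat.overCat (Over.mk a) ⥤ᵇ 𝒵), AlgSt.RepByAlgSpWith AlgSp.IsSurjectiveMor z ∧ AlgSt.RepByAlgSpWith (AlgSp.LocP @Flat) z,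
      ∃ (k : Type u) (_ : Field k) (a : Spec (CommRingCat.of k) ⟶ S)
        (z : FibCat.overCat (Over.mk a) ⥤ᵇ 𝒵), AlgSt.RepByAlgSpWith (AlgSp.LocP @LocallyOfFiniteType) z ∧
          AlgSt.RepByAlgSpWith AlgSp.IsSurjectiveMor z ∧ AlgSt.RepByAlgSpWith (AlgSp.LocP @Flat) z].TFAE := by
  tfae_have 1 → 2 := fun ⟨h₁, h₂, h₃⟩ => Groth.Agent.AlgStLib.exists_flat_fieldPt h𝒵 h₁ h₂ h₃
  tfae_have 2 → 3 := by
    rintro ⟨k, _, a, z, hs, hf⟩
    obtain ⟨U, Y, k', F', a', rfl, m, p, z', -, -, -, hT, hS, hF⟩ :=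
      Groth.Agent.AlgStLib.exists_lft_fieldPt h𝒵 k a z hs hf
    exact ⟨k', F', a', BasedFunctor.comp (AlgSt.ofOverCat _) z',
      (Groth.Agent.AlgStLib.repWith_ofOverCat_iff _ z').2 hT, (Groth.Agent.AlgStLib.repWith_ofOverCat_iff _ z').2 hS,
      (Groth.Agent.AlgStLib.repWith_ofOverCat_iff _ z').2 hF⟩
  tfae_have 3 → 1 := by
    rintro ⟨k, _, a, z, -, hs, hf⟩
    exact ⟨Groth.Agent.AlgStLib.smoothLocally_reduced_of_fieldPt h𝒵 hs hf,
      Groth.Agent.AlgStLib.singleton_points h𝒵.isStack.1 hs⟩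
  tfae_finish

end Groth.Agent.S16805
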