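import Groth.Agent.AlgStLib.FieldPt
import Groth.Prelude.Def_StGerb
import Mathlib.AlgebraicGeometry.Noetherian

set_option autoImplicit false
universe u
open CategoryTheory AlgebraicGeometry
open Gerb

set_option backward.isDefEq.respectTransparency false

namespace Groth.Agent.S16806

/-- An algebraic stack 𝒵 is reduced, locally Noetherian and has exactly one point if and only if it
receives a locally finitely presented, surjective, flat morphism from the spectrum of a field. -/
theorem result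
    (S : Scheme.{u}) (𝒵 : AlgSt.Cat S) (h𝒵 : AlgSt.IsAlgStack Scheme.fppfPrecoverage 𝒵) :
    (AlgSt.SmoothLocally (fun T => IsReduced T) 𝒵 ∧ AlgSt.SmoothLocally (fun T => IsLocallyNoetherian T) 𝒵 ∧
        Nonempty (AlgSt.Points 𝒵) ∧ Subsingleton (AlgSt.Points 𝒵)) ↔
      ∃ (k : Type u) (_ : Field k) (a : Spec (CommRingCat.of k) ⟶ S)
        (z : FibCat.overCat (Over.mk a) ⥤ᵇ 𝒵), AlgSt.RepByAlgSpWith (AlgSp.LocP @LocallyOfFinitePresentation) z ∧
          AlgSt.RepByAlgSpWith AlgSp.IsSurjectiveMor z ∧ AlgSt.RepByAlgSpWith (AlgSp.LocP @Flat) z := by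
  constructor
  · rintro ⟨h₁, h₂, h₃, h₄⟩
    exact Groth.Agent.AlgStLib.exists_lfp_fieldPt h𝒵 h₁ h₂ h₃ h₄
  · rintro ⟨k, _, a, z, hp, hs, hf⟩
    exact ⟨Groth.Agent.AlgStLib.smoothLocally_reduced_of_fieldPt h𝒵 hs hf,
      Groth.Agent.AlgStLib.smoothLocally_noetherian_of_fieldPt h𝒵 hp hs hf,
      Groth.Agent.AlgStLib.singleton_points h𝒵.isStack.1 hs⟩

end Groth.Agent.S16806
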