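import Groth.Statements.S16808
import Groth.Agent.ArtinAtlas.ImageSub

set_option autoImplicit false
universe u
open CategoryTheory AlgebraicGeometry
open Gerb

namespace Groth.Agent.S16808

/-- Let the algebraic stack 𝒵 receive a surjective flat morphism from the spectrum of a field. Then
there is a unique strictly full subcategory of 𝒵 which is an algebraic stack receiving a locally
finitely presented, surjective, flat morphism from the spectrum of a field; its inclusion into 𝒵 is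
a monomorphism. -/
theorem result
    (S : Scheme.{u}) (𝒵 : AlgSt.Cat S) (h𝒵 : AlgSt.IsAlgStack Scheme.fppfPrecoverage 𝒵)
    (k : Type u) [Field k] (a : Spec (CommRingCat.of k) ⟶ S)
    (z : FibCat.overCat (Over.mk a) ⥤ᵇ 𝒵)
    (hzs : AlgSt.RepByAlgSpWith AlgSp.IsSurjectiveMor z) (hzf : AlgSt.RepByAlgSpWith (AlgSp.LocP @Flat) z) :
    ∃ Q : 𝒵.obj → Prop,
      (ObjectProperty.IsClosedUnderIsomorphisms Q ∧ AlgSt.IsAlgStack Scheme.fppfPrecoverage (AlgSt.fullSub 𝒵 Q) ∧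
        (∃ (k' : Type u) (_ : Field k') (a' : Spec (CommRingCat.of k') ⟶ S)
          (z' : FibCat.overCat (Over.mk a') ⥤ᵇ AlgSt.fullSub 𝒵 Q),
          AlgSt.RepByAlgSpWith (AlgSp.LocP @LocallyOfFinitePresentation) z' ∧
            AlgSt.RepByAlgSpWith AlgSp.IsSurjectiveMor z' ∧ AlgSt.RepByAlgSpWith (AlgSp.LocP @Flat) z') ∧
        AlgSt.IsMono (AlgSt.subIncl 𝒵 Q)) ∧
      ∀ Q' : 𝒵.obj → Prop, ObjectProperty.IsClosedUnderIsomorphisms Q' → AlgSt.IsAlgStack Scheme.fppfPrecoverage (AlgSt.fullSub 𝒵 Q') →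
        (∃ (k' : Type u) (_ : Field k') (a' : Spec (CommRingCat.of k') ⟶ S)
          (z' : FibCat.overCat (Over.mk a') ⥤ᵇ AlgSt.fullSub 𝒵 Q'),
          AlgSt.RepByAlgSpWith (AlgSp.LocP @LocallyOfFinitePresentation) z' ∧
            AlgSt.RepByAlgSpWith AlgSp.IsSurjectiveMor z' ∧ AlgSt.RepByAlgSpWith (AlgSp.LocP @Flat) z') →
        ∀ ξ : 𝒵.obj, Q' ξ ↔ Q ξ := by
  obtain ⟨Q, hcl, hA, hz⟩ := Groth.Agent.ArtinAtlas.exists_fieldImage h𝒵 hzs hzf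
  obtain ⟨⟨x⟩, hsub⟩ := Groth.Agent.AlgStLib.singleton_points h𝒵.isStack.1 hzs
  refine ⟨Q, ⟨hcl, hA, hz, Groth.Agent.AlgStLib.isMono_subIncl h𝒵 hA⟩, fun Q' hcl' hA' hz' ξ => ?_⟩
  obtain ⟨k₁, _, a₁, z₁, p₁, s₁, f₁⟩ := hz
  obtain ⟨k₂, _, a₂, z₂, p₂, s₂, f₂⟩ := hz'
  have h₁ := Groth.Agent.ArtinAtlas.isResGerbe_of_fieldPt h𝒵 hsub x hcl hA p₁ s₁ f₁
  have h₂ := Groth.Agent.ArtinAtlas.isResGerbe_of_fieldPt h𝒵 hsub x hcl' hA' p₂ s₂ f₂
  exact ⟨Groth.Agent.ArtinAtlas.resGerbe_unique h𝒵 h₂ h₁ ξ, Groth.Agent.ArtinAtlas.resGerbe_unique h𝒵 h₁ h₂ ξ⟩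

end Groth.Agent.S16808
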