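import Groth.Agent.AlgStLib.FieldPt
import Groth.Agent.AlgStLib.RedSub
import Groth.Agent.AlgStLib.Points
import Groth.Agent.AlgStLib.Props
import Groth.Prelude.Def_StGerb
import Mathlib.AlgebraicGeometry.Noetherian

set_option autoImplicit false
universe u
open CategoryTheory AlgebraicGeometry
open Gerb

set_option backward.isDefEq.respectTransparency false

namespace Groth.Agent.S16809

open Groth.Agent.AlgStLib Groth.Agent.FibCat2Misc Groth.Agent.FibCatRep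

/-- (1)⇔(2)⇔(3): for a point x of an algebraic stack 𝒳 the following are equivalent: some algebraic
stack with exactly one point maps monomorphically to 𝒳 onto x; some reduced algebraic stack with
exactly one point does; some algebraic stack 𝒵 with a monomorphism f : 𝒵 → 𝒳 receives a surjective
flat morphism z from the spectrum of a field with f(z) = x. -/
theorem result
    (S : Scheme.{u}) (𝒳 : AlgSt.Cat S) (h𝒳 : AlgSt.IsAlgStack Scheme.fppfPrecoverage 𝒳) (x : AlgSt.Points 𝒳) :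
    [Gerb.ResGerbeExists Scheme.fppfPrecoverage 𝒳 x,
      ∃ (𝒵 : AlgSt.Cat S) (f : 𝒵 ⥤ᵇ 𝒳), AlgSt.IsAlgStack Scheme.fppfPrecoverage 𝒵 ∧
        AlgSt.SmoothLocally (fun T => IsReduced T) 𝒵 ∧ AlgSt.IsMono f ∧
        Nonempty (AlgSt.Points 𝒵) ∧ Subsingleton (AlgSt.Points 𝒵) ∧ ∀ p, AlgSt.Points.map f p = x,
      ∃ (𝒵 : AlgSt.Cat S) (f : 𝒵 ⥤ᵇ 𝒳) (k : Type u) (_ : Field k) (a : Spec (CommRingCat.of k) ⟶ S)
        (z : FibCat.overCat (Over.mk a) ⥤ᵇ 𝒵), AlgSt.IsAlgStack Scheme.fppfPrecoverage 𝒵 ∧ AlgSt.IsMono f ∧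
        AlgSt.RepByAlgSpWith AlgSp.IsSurjectiveMor z ∧ AlgSt.RepByAlgSpWith (AlgSp.LocP @Flat) z ∧
        ∀ t : ↥(Over.mk a).left, AlgSt.Points.map f (AlgSt.Points.ofChart z t) = x].TFAE := by
  tfae_have 1 → 2 := by
    rintro ⟨𝒵, i, h𝒵, hi, hne, hsub, hx⟩
    obtain ⟨Q, ⟨-, hQ, -⟩, hr, hred⟩ := exists_reduced_closedSubstack h𝒵 Set.univ isClosed_univ
    haveI : (AlgSt.subIncl 𝒵 Q).toFunctor.Full := inferInstanceAs (ObjectProperty.ι Q).Full
    haveI : (AlgSt.subIncl 𝒵 Q).toFunctor.Faithful := inferInstanceAs (ObjectProperty.ι Q).Faithful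
    have hinj := injective_map_of_fullyFaithful hQ.isStack.1 h𝒵.isStack.1 (AlgSt.subIncl 𝒵 Q)
    refine ⟨AlgSt.fullSub 𝒵 Q, BasedFunctor.comp (AlgSt.subIncl 𝒵 Q) i, hQ, hred,
      isMono_comp hQ.isStack.1 h𝒵.isStack.1 (isMono_of_fullyFaithful hQ h𝒵 _) hi, ?_,
      ⟨fun a b => hinj (Subsingleton.elim _ _)⟩, fun p => by rw [map_comp_points]; exact hx _⟩
    obtain ⟨q⟩ := hne
    obtain ⟨p, -⟩ : q ∈ Set.range (AlgSt.Points.map (AlgSt.subIncl 𝒵 Q)) := hr.symm ▸ Set.mem_univ q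
    exact ⟨p⟩
  tfae_have 2 → 3 := by
    rintro ⟨𝒵, f, h𝒵, hred, hf, hne, hsub, hx⟩
    obtain ⟨k, _, a, z, hzs, hzf⟩ := exists_flat_fieldPt h𝒵 hred hne hsub
    exact ⟨𝒵, f, k, inferInstance, a, z, h𝒵, hf, hzs, hzf, fun t => hx _⟩
  tfae_have 3 → 1 := by
    rintro ⟨𝒵, f, k, _, a, z, h𝒵, hf, hzs, hzf, hx⟩
    obtain ⟨hne, hsub⟩ := singleton_points h𝒵.isStack.1 hzs
    obtain ⟨t⟩ : Nonempty ↥(Over.mk a).left := inferInstanceAs (Nonempty (PrimeSpectrum k))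
    exact ⟨𝒵, f, h𝒵, hf, hne, hsub, fun p => by rw [Subsingleton.elim p (AlgSt.Points.ofChart z t)]; exact hx t⟩
  tfae_finish

end Groth.Agent.S16809
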