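import Groth.Statements.S16810
import Groth.Agent.ArtinAtlas.ImageSub

set_option autoImplicit false
universe u
open CategoryTheory AlgebraicGeometry
open Gerb

namespace Groth.Agent.S16810

/-- If some reduced algebraic stack with exactly one point admits a monomorphism to the algebraic stack
𝒳 with image the point x, then there is a unique strictly full subcategory of 𝒳 which is a reduced,
locally Noetherian algebraic stack with exactly one point mapping to x. -/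
theorem result
    (S : Scheme.{u}) (𝒳 : AlgSt.Cat S) (h𝒳 : AlgSt.IsAlgStack Scheme.fppfPrecoverage 𝒳) (x : AlgSt.Points 𝒳)
    (𝒵 : AlgSt.Cat S) (h𝒵 : AlgSt.IsAlgStack Scheme.fppfPrecoverage 𝒵)
    (hred : AlgSt.SmoothLocally (fun T => IsReduced T) 𝒵)
    (hne : Nonempty (AlgSt.Points 𝒵)) (hsub : Subsingleton (AlgSt.Points 𝒵))
    (f : 𝒵 ⥤ᵇ 𝒳) (hf : AlgSt.IsMono f) (hfx : ∀ p : AlgSt.Points 𝒵, AlgSt.Points.map f p = x) :
    ∃ Q : 𝒳.obj → Prop, Gerb.IsResGerbe Scheme.fppfPrecoverage 𝒳 x Q ∧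
      ∀ Q' : 𝒳.obj → Prop, Gerb.IsResGerbe Scheme.fppfPrecoverage 𝒳 x Q' → ∀ ξ : 𝒳.obj, Q' ξ ↔ Q ξ := by
  obtain ⟨k, _, a, z, hzs, hzf⟩ := Groth.Agent.AlgStLib.exists_flat_fieldPt h𝒵 hred hne hsub
  obtain ⟨Q₀, -, hA₀, k', _, a', z', hp, hs, hf'⟩ := Groth.Agent.ArtinAtlas.exists_fieldImage h𝒵 hzs hzf
  obtain ⟨hne₀, hsub₀⟩ := Groth.Agent.AlgStLib.singleton_points hA₀.isStack.1 hs
  obtain ⟨Q, hQ, -⟩ := Groth.Agent.AlgStLib.exists_resGerbe_image h𝒳 x hA₀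
    (Groth.Agent.AlgStLib.smoothLocally_reduced_of_fieldPt hA₀ hs hf')
    (Groth.Agent.AlgStLib.smoothLocally_noetherian_of_fieldPt hA₀ hp hs hf') hne₀ hsub₀
    (BasedFunctor.comp (AlgSt.subIncl 𝒵 Q₀) f)
    (Groth.Agent.AlgStLib.isMono_comp hA₀.isStack.1 h𝒵.isStack.1 (Groth.Agent.AlgStLib.isMono_subIncl h𝒵 hA₀) hf)
    fun p => (Groth.Agent.AlgStLib.map_comp_points _ f p).trans (hfx _)
  exact ⟨Q, hQ, fun Q' hQ' ξ => ⟨Groth.Agent.ArtinAtlas.resGerbe_unique h𝒳 hQ' hQ ξ,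
    Groth.Agent.ArtinAtlas.resGerbe_unique h𝒳 hQ hQ' ξ⟩⟩

end Groth.Agent.S16810
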