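import Groth.Statements.S16827
import Groth.Agent.RatChart.Main

set_option backward.isDefEq.respectTransparency false
set_option backward.isDefEq.respectTransparency.types false

set_option autoImplicit false
universe u
open AlgSt

namespace Groth.Agent.S16827

open CategoryTheory AlgebraicGeometry in
/-- Let 𝒳 be an algebraic stack over (Sch/S) for the etale topology whose diagonal 𝒳 → 𝒳 ×_{(Sch/S)} 𝒳
is separated (representable by algebraic spaces with closed-immersion relative diagonal), k a field
and x : (Sch/Spec k) → 𝒳 a functor over (Sch/S) for some structure morphism Spec k → S. Then there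
are an affine scheme U over S, a functor p : (Sch/U) → 𝒳 over (Sch/S) which is representable by
algebraic spaces and smooth, and an S-morphism u : Spec k → U such that u followed by p is
isomorphic to x over (Sch/S): the k-point x lifts to a k-point of a smooth affine chart. The source
states the separation condition on the absolute diagonal; the diagonal over S is used here, which is
separated whenever the absolute one is. -/
theorem result {S : Scheme.{u}} (𝒳 : AlgSt.Cat S)
    (h𝒳 : AlgSt.IsAlgStack Scheme.etalePrecoverage 𝒳)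
    (hΔ : AlgSt.RepByAlgSpWith AlgSp.IsSeparatedMor (FibCat.diag (FibCat.toSelf 𝒳)))
    (k : Type u) [Field k] (sk : Spec (CommRingCat.of k) ⟶ S)
    (x : FibCat.overCat (Over.mk sk) ⥤ᵇ 𝒳) :
    ∃ (U : Over S) (_ : IsAffine U.left) (p : FibCat.overCat U ⥤ᵇ 𝒳) (u : Over.mk sk ⟶ U),
      AlgSt.RepByAlgSpWith (AlgSp.LocP @Smooth) p ∧
        Nonempty (BasedFunctor.comp (AlgSt.overMap u) p ≅ x) := by
  obtain ⟨Z, hZ, c, g, hc, ⟨θ⟩⟩ := Groth.Agent.RatChart.exists_field_chart h𝒳.isStack.1
    (Groth.Agent.RatChart.isStackFor_of_etale h𝒳.isStack)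
    (Groth.Agent.RatChart.repByAlgSp1_chart_of_diag h𝒳.isStack.1 h𝒳.diag) h𝒳.atlas k sk x
  exact ⟨Z, hZ, c, g, hc, Groth.Agent.RatChart.nonempty_iso_of_hom2 h𝒳.isStack.1 θ⟩

end Groth.Agent.S16827
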