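import Groth.Statements.S16835
import Groth.Agent.InvEtale.FixedPts

set_option autoImplicit false
set_option backward.isDefEq.respectTransparency false
set_option backward.isDefEq.respectTransparency.types false
set_option maxHeartbeats 1000000

universe u
open InvTh

namespace Groth.Agent.S16835

/-- Let R be a Noetherian commutative ring, A and B commutative R-algebras of finite type on which a
finite group G acts by R-algebra automorphisms, and B → A a G-equivariant homomorphism of
R-algebras. Assume that at every maximal ideal x of A, A is etale over B at x and the inertia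
subgroup of x in G equals the inertia subgroup of its contraction to B. Give A^G the B^G-algebra
structure induced by B → A (compatible with B^G → B → A through A^G → A). Then A^G is etale over
B^G. The source also asserts that the square formed by the quotient stacks and the invariant
quotients is cartesian; that clause is not stated. -/
theorem result (R : Type u)
    [CommRing R] [IsNoetherianRing R] (A B : Type u) [CommRing A] [CommRing B] [Algebra R A] [Algebra R B]
    [Algebra.FiniteType R A] [Algebra.FiniteType R B]
    (G : Type u) [Group G] [Finite G] [MulSemiringAction G A] [MulSemiringAction G B]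
    [SMulCommClass G R A] [SMulCommClass G R B]
    [Algebra B A] [IsScalarTower R B A]
    (hGeq : ∀ (g : G) (b : B), algebraMap B A (g • b) = g • algebraMap B A b)
    [Algebra (FixedPoints.subalgebra R B G) (FixedPoints.subalgebra R A G)]
    [IsScalarTower (FixedPoints.subalgebra R B G) (FixedPoints.subalgebra R A G) A]
    (h : ∀ (x : Ideal A) (_ : x.IsMaximal),
      Algebra.IsEtaleAt B x ∧ x.inertia G = (x.comap (algebraMap B A)).inertia G) :
    Algebra.Etale (FixedPoints.subalgebra R B G) (FixedPoints.subalgebra R A G) := by
  classical
  haveI := InvEtale.finiteType_fixed (R := R) (A := A) (G := G)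
  haveI := InvEtale.finiteType_fixed (R := R) (A := B) (G := G)
  haveI : IsNoetherianRing (FixedPoints.subalgebra R B G) := Algebra.FiniteType.isNoetherianRing R _
  haveI := InvEtale.finitePresentation_fixed (R := R) (A := A) (B := B) (G := G)
  haveI := InvEtale.isInvariant_fixed (R := R) (A := A) (G := G)
  haveI := InvEtale.smulCommClass_fixed (R := R) (A := A) (G := G)
  haveI : Algebra.IsIntegral (FixedPoints.subalgebra R A G) A := Algebra.IsInvariant.isIntegral _ A G
  rw [← Algebra.etaleLocus_eq_univ_iff_etale]
  refine Set.eq_univ_of_forall fun p => ?_
  obtain ⟨m, hm, hpm⟩ := p.asIdeal.exists_le_maximal p.isPrime.ne_top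
  obtain ⟨x, hx, hxm⟩ := Ideal.exists_ideal_over_maximal_of_isIntegral (S := A) m (fun a ha => by
    rw [(Subtype.val_injective ha : a = 0)]; exact zero_mem m)
  have hem : Algebra.IsEtaleAt (FixedPoints.subalgebra R B G) (x.comap (algebraMap (FixedPoints.subalgebra R A G) A)) :=
    InvEtale.isEtaleAt_fixed hGeq x (h x hx).1 (h x hx).2
  subst hxm
  have hmem : (⟨_, hm.isPrime⟩ : PrimeSpectrum _) ∈ Algebra.etaleLocus (FixedPoints.subalgebra R B G) (FixedPoints.subalgebra R A G) := hem
  exact ((PrimeSpectrum.le_iff_specializes p ⟨_, hm.isPrime⟩).1 hpm).mem_open Algebra.isOpen_etaleLocus hmem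

end Groth.Agent.S16835
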