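import Groth.Statements.S16842
import Groth.Agent.AVTate.Counts

set_option autoImplicit false
universe u
open CategoryTheory MonoidalCategory CartesianMonoidalCategory MonObj GrpObj AlgebraicGeometry
open AbVar

namespace Groth.Agent.S16842

/-- (a) ⇔ (e2): fix a finite field k and abelian varieties X and Y over it (proper, geometrically
integral commutative group schemes over k). Then X and Y are isogenous over k — there exist
homomorphisms u : X → Y and v : Y → X and an integer n > 0 with v ∘ u = [n]_X and u ∘ v = [n]_Y — if
and only if X and Y have the same number of k'-valued points for every finite extension field k' of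
k (equivalently, the same zeta function). -/
theorem result (k : Type u) [Field k] [Finite k]
    (X : Over (Spec (CommRingCat.of k)))
    [GrpObj X] [IsCommMonObj X] [IsProper X.hom] [GeometricallyIntegral X.hom]
    (Y : Over (Spec (CommRingCat.of k)))
    [GrpObj Y] [IsCommMonObj Y] [IsProper Y.hom] [GeometricallyIntegral Y.hom] :
    (∃ (u : X ⟶ Y) (_ : IsMonHom u) (v : Y ⟶ X) (_ : IsMonHom v) (n : ℕ), 0 < n ∧
        u ≫ v = (𝟙 X) ^ n ∧ v ≫ u = (𝟙 Y) ^ n) ↔
      ∀ (k' : Type u) [Field k'] [Algebra k k'] [Finite k'],
        Nat.card (Over.mk (Spec.map (CommRingCat.ofHom (algebraMap k k'))) ⟶ X) = Nat.card (Over.mk (Spec.map (CommRingCat.ofHom (algebraMap k k'))) ⟶ Y) := by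
  have hX := (AVTate.isog_iff_nPts (X := X) (Y := Y)).2
  have hY := (AVTate.isog_iff_nPts (X := Y) (Y := X)).2
  rw [(AVTate.isog_iff_nPts (X := X) (Y := Y)).1]
  constructor
  · intro h k' _ _ _
    rw [hX k', hY k', h _ Module.finrank_pos]
  · intro h m hm
    obtain ⟨k', i1, i2, i3, rfl⟩ := AVTate.exists_extension_finrank (k := k) m hm
    rw [← hX k', ← hY k']
    exact h k' 

end Groth.Agent.S16842
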