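import Groth.Statements.S16845
import Groth.Agent.AVTate.Cons
import Groth.Agent.S16589

set_option autoImplicit false
universe u
open CategoryTheory MonoidalCategory CartesianMonoidalCategory MonObj GrpObj AlgebraicGeometry
open AbVar

namespace Groth.Agent.S16845

/-- (a) ⇔ (b) ⇔ (c): let k be a finite field with q elements and algebraic closure Ω, ℓ a prime
invertible in k, and X an abelian variety over k (a proper, geometrically integral commutative group
scheme over k) of dimension g, with geometric Frobenius π_X (the endomorphism that is the identity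
on points and the q-th power map on sections); assume, as is the case, that the ℓ-adic Tate module
of Ω-points T_ℓ X is free of finite rank over ℤ_ℓ, and let f_X ∈ ℤ[t] be the polynomial mapping to
the characteristic polynomial of T_ℓ(π_X) (the characteristic polynomial of Frobenius). Then dim_ℚ
(ℚ ⊗ End_k(X)) = (2g)² if and only if ℚ[π_X] = ℚ, i.e. π_X ∈ End_k(X) is multiplication by some
rational integer n; and π_X = [n] for some integer n if and only if f_X = (t − a)^{2g} for some
integer a. (The remaining equivalent conditions, involving the quaternion algebra ramified at p and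
∞ and supersingular elliptic curves, are not restated.) -/
theorem result (k Ω : Type u) [Field k] [Finite k] [Field Ω] [Algebra k Ω] [IsAlgClosure k Ω]
    (l : ℕ) [Fact l.Prime] (hl : (l : k) ≠ 0) (X : Over (Spec (CommRingCat.of k)))
    [GrpObj X] [IsCommMonObj X] [IsProper X.hom] [GeometricallyIntegral X.hom]
    (g : ℕ) (hg : topologicalKrullDim X.left = g)
    (πX : X ⟶ X) [IsMonHom πX] (hπb : πX.left.base = 𝟙 _)
    (hπle : ∀ U : X.left.Opens, U ≤ πX.left ⁻¹ᵁ U)
    (hπapp : ∀ (U : X.left.Opens) (s : Γ(X.left, U)), (πX.left.appLE U U (hπle U)).hom s = s ^ Nat.card k)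
    [Module.Free ℤ_[l] (AbDual.TateMod X l (SGA7.pt Ω))] [Module.Finite ℤ_[l] (AbDual.TateMod X l (SGA7.pt Ω))]
    (P : Polynomial ℤ) (hP : (AbDual.tateMapₗ (l := l) (T := SGA7.pt Ω) πX).charpoly = P.map (Int.castRingHom ℤ_[l])) :
    (Module.finrank ℚ (EndAV.End0 X) = (2 * g) ^ 2 ↔ ∃ n : ℤ, EndAV.End.of πX = (n : EndAV.End X)) ∧
      ((∃ n : ℤ, EndAV.End.of πX = (n : EndAV.End X)) ↔
        ∃ a : ℤ, P = (Polynomial.X - Polynomial.C a) ^ (2 * g)) := by
  classical
  haveI : IsAlgClosed Ω := IsAlgClosure.isAlgClosed k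
  haveI := AVDeg.finite_end0 (A := X)
  obtain ⟨hPm, hPd⟩ := AVTate.monic_natDegree Ω πX hl hP hg
  have hQm : (P.map (Int.castRingHom ℚ)).Monic := hPm.map _
  have hdim := AVTate.finrank_end0_eq Ω πX hπb hπle hπapp hl hP
  obtain ⟨hdvd, hfac⟩ := AVTate.minpoly_rel Ω πX hπb hπle hπapp hl hP
  have hmapX : ∀ a : ℤ, ((Polynomial.X - Polynomial.C a) ^ (2 * g)).map (Int.castRingHom ℚ) =
      (Polynomial.X - Polynomial.C (a : ℚ)) ^ (2 * g) := fun a => by
    simp [Polynomial.map_pow]
  have h1 : (∃ n : ℤ, EndAV.End.of πX = (n : EndAV.End X)) →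
      ∃ a : ℤ, P = (Polynomial.X - Polynomial.C a) ^ (2 * g) := by
    rintro ⟨n, hn⟩
    refine ⟨n, Polynomial.map_injective _ (Int.castRingHom ℚ).injective_int ?_⟩
    rw [hmapX]
    have hm : minpoly ℚ (EndAV.toEnd0 (EndAV.End.of πX)) ∣ Polynomial.X - Polynomial.C (n : ℚ) :=
      minpoly.dvd ℚ _ (by rw [map_sub, Polynomial.aeval_X, Polynomial.aeval_C, hn, map_intCast, map_intCast, sub_self])
    have hall : UniqueFactorizationMonoid.normalizedFactors (P.map (Int.castRingHom ℚ)) = Multiset.replicate
        (UniqueFactorizationMonoid.normalizedFactors (P.map (Int.castRingHom ℚ))).card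
        (Polynomial.X - Polynomial.C (n : ℚ)) := Multiset.eq_replicate_card.2 fun r hr => by
      have hirr := UniqueFactorizationMonoid.irreducible_of_normalized_factor r hr
      have hrm : r.Monic := by
        have := Polynomial.monic_normalize hirr.ne_zero
        rwa [UniqueFactorizationMonoid.normalize_normalized_factor r hr] at this
      exact Polynomial.eq_of_monic_of_associated hrm (Polynomial.monic_X_sub_C _)
        (hirr.associated_of_dvd (Polynomial.irreducible_X_sub_C _) ((hfac r hr).trans hm))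
    have hprod := congrArg Multiset.prod hall
    rw [UniqueFactorizationMonoid.prod_normalizedFactors_eq hQm.ne_zero, hQm.normalize_eq_self,
      Multiset.prod_replicate] at hprod
    have hc := congrArg Polynomial.natDegree hprod
    rw [hPm.natDegree_map, hPd, Polynomial.natDegree_pow, Polynomial.natDegree_X_sub_C, _root_.mul_one] at hc
    rw [hprod, ← hc]
  have h2 : (∃ a : ℤ, P = (Polynomial.X - Polynomial.C a) ^ (2 * g)) →
      ∃ n : ℤ, EndAV.End.of πX = (n : EndAV.End X) := by
    rintro ⟨a, ha⟩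
    refine ⟨a, AVDeg.toEnd0_injective ?_⟩
    rw [ha, hmapX] at hdvd
    have h := (AVDeg.frob_semisimple πX hπb hπle hπapp).2.1 _ _ hdvd
    obtain ⟨G, hG⟩ := h
    have h' := congrArg (Polynomial.aeval (EndAV.toEnd0 (EndAV.End.of πX))) hG
    rw [map_mul, minpoly.aeval, zero_mul, map_sub, Polynomial.aeval_X, Polynomial.aeval_C, sub_eq_zero,
      map_intCast] at h'
    rw [h', map_intCast]
  have h3 : Module.finrank ℚ (EndAV.End0 X) = (2 * g) ^ 2 →
      ∃ a : ℤ, P = (Polynomial.X - Polynomial.C a) ^ (2 * g) := by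
    intro h
    rcases Nat.eq_zero_or_pos g with rfl | hg0
    · exact ⟨0, by rw [mul_zero, pow_zero]; exact Polynomial.eq_one_of_monic_natDegree_zero hPm (hPd.trans (mul_zero 2))⟩
    obtain ⟨a, ha⟩ := AVTate.eq_pow_of_sum_sq_eq hQm (by rw [← hdim, h, hPm.natDegree_map, hPd])
    rw [hPm.natDegree_map, hPd] at ha
    have hroot : Polynomial.aeval a P = 0 := by
      rw [← Polynomial.aeval_map_algebraMap ℚ, show algebraMap ℤ ℚ = Int.castRingHom ℚ from RingHom.ext_int _ _, ha,
        Polynomial.coe_aeval_eq_eval, Polynomial.eval_pow, Polynomial.eval_sub, Polynomial.eval_X, Polynomial.eval_C,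
        sub_self, zero_pow (by omega)]
    obtain ⟨b, hb⟩ := isInteger_of_is_root_of_monic hPm hroot
    refine ⟨b, Polynomial.map_injective _ (Int.castRingHom ℚ).injective_int ?_⟩
    rw [hmapX, ha, ← hb]
    rfl
  have h4 : (∃ a : ℤ, P = (Polynomial.X - Polynomial.C a) ^ (2 * g)) →
      Module.finrank ℚ (EndAV.End0 X) = (2 * g) ^ 2 := by
    rintro ⟨a, ha⟩
    rw [hdim, ha, hmapX, AVTate.sum_sq_pow (Polynomial.monic_X_sub_C _) (Polynomial.irreducible_X_sub_C _),
      Polynomial.natDegree_X_sub_C]
    ring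
  exact ⟨⟨fun h => h2 (h3 h), fun h => h4 (h1 h)⟩, ⟨h1, h2⟩⟩

end Groth.Agent.S16845
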