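import Groth.Statements.S16853
import Groth.Agent.SigmaLin.Field
import Mathlib.Algebra.CharP.Lemmas
import Mathlib.FieldTheory.IsAlgClosed.Basic

set_option autoImplicit false
universe u v
open CAlg Groth.Agent

namespace Groth.Agent.S16853

/-- Let k be an algebraically closed field of characteristic p > 0 and ν ≥ 1; let V be a
finite-dimensional k-vector space and φ : V → V a bijective additive map that is Frob^ν-semilinear,
φ(a·v) = a^(p^ν)·φ(v). Then V admits a k-basis consisting of φ-fixed vectors; in particular V is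
spanned by V₀ = {v | φ(v) = v}, an F_{p^ν}-subspace, and k ⊗ V₀ → V is surjective. (The copy allows
ν < 0 as well, reducing to φ⁻¹; stated here for ν ≥ 1. The injectivity of k ⊗_{F_{p^ν}} V₀ → V,
asserted in the copy, is not restated.) -/
theorem result (k : Type u) [Field k] [IsAlgClosed k]
    (p : ℕ) [Fact p.Prime] [CharP k p] (ν : ℕ) (hν : 1 ≤ ν)
    (V : Type v) [AddCommGroup V] [Module k V] [FiniteDimensional k V]
    (φ : V →+ V) (hφ : ∀ (a : k) (v : V), φ (a • v) = a ^ (p ^ ν) • φ v) (hbij : Function.Bijective φ) :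
    ∃ (ι : Type v) (b : Module.Basis ι k V), ∀ i, φ (b i) = b i := by
  classical
  set q := p ^ ν with hq
  have hp := (Fact.out : p.Prime)
  have hq1 : 1 < q := Nat.one_lt_pow (by omega) hp.one_lt
  haveI : ExpChar k p := ExpChar.prime hp
  let σ : k →+* k := iterateFrobenius k p ν
  have hσ : ∀ x, σ x = x ^ q := fun x => iterateFrobenius_def p ν x
  have hit : ∀ (i : ℕ) (x : k), (⇑σ)^[i] x = x ^ q ^ i := fun i x => by
    induction i with
    | zero => simp
    | succ i ih => rw [Function.iterate_succ_apply', ih, hσ, ← pow_mul, pow_succ]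
  have h3 : SigmaLin.Cond3 σ := by
    intro c
    have hc : (Polynomial.X ^ q - Polynomial.X + Polynomial.C c : Polynomial k).coeff q = 1 := by
      simp [Polynomial.coeff_X, hq1.ne, Polynomial.coeff_C, (by omega : q ≠ 0)]; intro h; omega
    obtain ⟨y, hy⟩ := IsAlgClosed.exists_root (Polynomial.X ^ q - Polynomial.X + Polynomial.C c : Polynomial k) fun h0 => by
      have := Polynomial.le_degree_of_ne_zero (n := q)
        (p := (Polynomial.X ^ q - Polynomial.X + Polynomial.C c : Polynomial k)) (by rw [hc]; exact one_ne_zero)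
      rw [h0] at this
      exact absurd (WithBot.coe_le_coe.1 this) (by simp; omega)
    exact ⟨y, by simpa [Polynomial.IsRoot, hσ] using hy⟩
  have h2 : SigmaLin.Cond2 σ := by
    intro n b hb
    obtain ⟨i₀, hi₀⟩ : ∃ i, b (Fin.rev i) ≠ 0 := by
      by_contra! h
      exact hb (funext fun i => by simpa using h (Fin.rev i))
    set P : Polynomial k := (∑ i : Fin (n + 1), Polynomial.C ((⇑σ)^[i.val] (b (Fin.rev i))) * Polynomial.X ^ (q ^ (i.val + 1) - 1)) - 1
    have hinj : ∀ a c : Fin (n + 1), q ^ (a.val + 1) - 1 = q ^ (c.val + 1) - 1 → a = c := fun a c h => by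
      have h1 := Nat.one_le_pow (a.val + 1) q (by omega)
      have h2 := Nat.one_le_pow (c.val + 1) q (by omega)
      have := Nat.pow_right_injective hq1 (show q ^ (a.val + 1) = q ^ (c.val + 1) by omega)
      exact Fin.ext (by omega)
    have hpos : ∀ i : Fin (n + 1), q ^ (i.val + 1) - 1 ≠ 0 := fun i => by
      have := Nat.lt_pow_self hq1 (n := i.val + 1)
      omega
    have hcoef : P.coeff (q ^ (i₀.val + 1) - 1) ≠ 0 := by
      rw [Polynomial.coeff_sub, Polynomial.finsetSum_coeff, Finset.sum_eq_single i₀ (fun i _ hi => by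
          rw [Polynomial.coeff_C_mul_X_pow, if_neg (fun h => hi (hinj i₀ i h).symm)]) (by simp),
        Polynomial.coeff_C_mul_X_pow, if_pos rfl, Polynomial.coeff_one, if_neg (hpos i₀), sub_zero, hit]
      exact pow_ne_zero _ hi₀
    obtain ⟨x, hx⟩ := IsAlgClosed.exists_root P fun h0 => by
      have := Polynomial.le_degree_of_ne_zero hcoef
      rw [h0] at this
      exact hpos i₀ (Nat.le_zero.1 (WithBot.coe_le_coe.1 this))
    simp only [Polynomial.IsRoot, P, Polynomial.eval_sub, Polynomial.eval_finsetSum, Polynomial.eval_mul,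
      Polynomial.eval_C, Polynomial.eval_pow, Polynomial.eval_X, Polynomial.eval_one, sub_eq_zero] at hx
    refine ⟨x, fun h0 => ?_, ?_⟩
    · rw [h0, Finset.sum_eq_zero fun i _ => by rw [zero_pow (hpos i), mul_zero]] at hx
      exact zero_ne_one hx
    · conv_lhs => rw [← one_mul x, ← hx, Finset.sum_mul]
      refine Finset.sum_congr rfl fun i _ => ?_
      rw [hit (i.val + 1), mul_assoc, ← pow_succ, Nat.sub_add_cancel (Nat.one_le_pow _ _ (by omega)), mul_comm]
  let T : V →ₛₗ[σ] V :=
    { toFun := φ, map_add' := map_add φ, map_smul' := fun a v => by rw [hσ]; exact hφ a v }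
  have h1 : Submodule.span k (Set.range ⇑T) = ⊤ := by
    rw [show Set.range ⇑T = Set.univ from hbij.2.range_eq, Submodule.span_univ]
  obtain ⟨b, hb⟩ := SigmaLin.exists_fixed_basis T (SigmaLin.span_fixed_eq_top h2 h3 T h1)
  exact ⟨_, b.reindex Equiv.ulift.symm, fun i => by rw [Module.Basis.reindex_apply]; exact hb _⟩

end Groth.Agent.S16853
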