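import Groth.Statements.S16854
import Groth.Agent.IsocLib.Closed
import Mathlib.RingTheory.WittVector.Complete
import Mathlib.RingTheory.WittVector.DiscreteValuationRing
import Mathlib.LinearAlgebra.Matrix.Basis
import Mathlib.RingTheory.WittVector.Frobenius
import Mathlib.LinearAlgebra.Matrix.NonsingularInverse

set_option autoImplicit false
universe u v
open CAlg Groth.Agent
open Matrix

namespace Groth.Agent.S16854

section
variable {W : Type*} [CommRing W] {k : Type*} [Field k] (π : W) (r : W →+* k) (σ : W →+* W) (τ : k →+* k)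
variable {ι : Type*} [Fintype ι] (A : Matrix ι ι W)

/-- The semilinear map with matrix `A`. -/
def G (v : ι → W) : ι → W := A *ᵥ fun i => σ (v i)

theorem G_add (v w : ι → W) : G σ A (v + w) = G σ A v + G σ A w := by
  rw [G, G, G, ← Matrix.mulVec_add]; congr 1; funext i; exact map_add σ _ _

theorem G_smul (hπ : σ π = π) (N : ℕ) (y : ι → W) : G σ A (π ^ N • y) = π ^ N • G σ A y := by
  rw [G, G, ← Matrix.mulVec_smul]; congr 1; funext i; simp [map_mul, map_pow, hπ]

theorem G_surj [IsAdicComplete (Ideal.span {π}) W] (hπ : σ π = π)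
    (hres : ∀ d : ι → W, ∃ y e : ι → W, d + (G σ A y - y) = π • e) (z : ι → W) :
    ∃ w, G σ A w - w = z := by
  classical
  choose Y E hYE using hres
  let next : ℕ → (ι → W) × (ι → W) → (ι → W) × (ι → W) := fun N wd => (wd.1 + π ^ N • Y wd.2, E wd.2)
  let seq : ℕ → (ι → W) × (ι → W) := fun N => Nat.rec (0, -z) next N
  have hseq : ∀ N, G σ A (seq N).1 - (seq N).1 - z = π ^ N • (seq N).2 := fun N => by
    induction N with
    | zero =>
      show G σ A 0 - 0 - z = π ^ 0 • -z
      rw [pow_zero, one_smul, show G σ A 0 = 0 by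
        funext i; simp [G, Matrix.mulVec, dotProduct]]
      abel
    | succ N ih =>
      show G σ A (_ + π ^ N • Y _) - (_ + π ^ N • Y _) - z = π ^ (N + 1) • E _
      rw [G_add, G_smul π σ A hπ, pow_succ, mul_smul, ← hYE, smul_add, ← ih, smul_sub]
      abel
  have hmem : ∀ i, ∃ l, ∀ N, (seq N).1 i - l ∈ Ideal.span {π} ^ N := by
    intro i
    obtain ⟨l, hl⟩ := IsPrecomplete.prec (I := Ideal.span {π}) (M := W) inferInstance
      (f := fun N => (seq N).1 i) (fun {m n} hmn => by
      rw [SModEq.sub_mem, smul_eq_mul, Ideal.mul_top]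
      induction hmn with
      | refl => simp
      | @step n hmn ih =>
        rw [show (seq m).1 i - (seq (n + 1)).1 i = ((seq m).1 i - (seq n).1 i) - ((seq (n + 1)).1 i - (seq n).1 i) by ring]
        refine sub_mem ih (Ideal.pow_le_pow_right hmn ?_)
        rw [Ideal.span_singleton_pow, Ideal.mem_span_singleton]
        exact ⟨_, add_sub_cancel_left _ _⟩)
    exact ⟨l, fun N => by simpa [SModEq.sub_mem] using hl N⟩
  choose l hl using hmem
  refine ⟨l, funext fun i => sub_eq_zero.1 (IsHausdorff.haus (I := Ideal.span {π}) inferInstance _ fun N => ?_)⟩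
  rw [SModEq.zero, smul_eq_mul, Ideal.mul_top]
  have key : (G σ A l - l) i - z i =
      π ^ N * (seq N).2 i - (∑ j, A i j * σ ((seq N).1 j - l j)) + ((seq N).1 i - l i) := by
    rw [show π ^ N * (seq N).2 i = (G σ A (seq N).1 - (seq N).1 - z) i by rw [hseq N]; rfl]
    simp [G, Matrix.mulVec, dotProduct, mul_sub, Finset.sum_sub_distrib]
    ring
  rw [key]
  refine add_mem (sub_mem (Ideal.mul_mem_right _ _ (Ideal.pow_mem_pow (Ideal.mem_span_singleton_self _) N))
    (sum_mem fun j _ => Ideal.mul_mem_left _ _ ?_)) (hl i N)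
  have h := hl j N
  rw [Ideal.span_singleton_pow, Ideal.mem_span_singleton] at h ⊢
  obtain ⟨e, he⟩ := h
  exact ⟨σ e, by rw [he, map_mul, map_pow, hπ]⟩

theorem exists_fixed_matrix [DecidableEq ι] [IsAdicComplete (Ideal.span {π}) W] (hπ : σ π = π)
    (hr : Function.Surjective r) (hker : ∀ a, r a = 0 → ∃ b, a = π * b) (hrπ : r π = 0) (hrσ : ∀ a, r (σ a) = τ (r a))
    (h2 : SigmaLin.Cond2 τ) (h3 : SigmaLin.Cond3 τ)
    (hA : ∀ z, ∃ v : ι → W, A *ᵥ (fun i => σ (v i)) = z) :
    ∃ c : ι → ι → W, (∀ j, A *ᵥ (fun i => σ (c j i)) = c j) ∧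
      IsUnit (Matrix.of fun i j => r (c j i) : Matrix ι ι k) := by
  let T : (ι → k) →ₛₗ[τ] (ι → k) :=
    { toFun := fun v => A.map r *ᵥ fun i => τ (v i)
      map_add' := fun v w => by rw [← Matrix.mulVec_add]; congr 1; funext i; exact map_add τ _ _
      map_smul' := fun c v => by rw [← Matrix.mulVec_smul]; congr 1; funext i; exact map_mul τ _ _ }
  have hrG : ∀ v, (fun i => r (G σ A v i)) = T (fun i => r (v i)) := fun v => by
    funext i
    show r _ = (A.map r *ᵥ fun j => τ (r (v j))) i
    simp only [G, RingHom.map_mulVec, Function.comp_def, hrσ]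
  have hspan : Submodule.span k (Set.range ⇑T) = ⊤ := by
    rw [eq_top_iff]
    rintro y -
    choose z hz using fun i => hr (y i)
    obtain ⟨v, hv⟩ := hA z
    refine Submodule.subset_span ⟨fun i => r (v i), ?_⟩
    rw [← hrG]; funext i; show r (G σ A v i) = _; rw [show G σ A v = z from hv, hz]
  have hfix := SigmaLin.span_fixed_eq_top h2 h3 T hspan
  have hres : ∀ d : ι → W, ∃ y e : ι → W, d + (G σ A y - y) = π • e := fun d => by
    obtain ⟨u, hu⟩ := SigmaLin.sub_surjective_of_span h3 T hfix (fun i => r (d i))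
    choose y hy using fun i => hr (u i)
    have h0 : ∀ i, r ((d + (G σ A y - y)) i) = 0 := fun i => by
      have h1 := congrFun (hrG y) i
      have h2 := congrFun hu i
      simp only [Pi.add_apply, Pi.sub_apply, map_add, map_sub] at h2 ⊢
      rw [h1, show (fun i => r (y i)) = u from funext hy, hy]
      linear_combination -h2
    choose e he using fun i => hker _ (h0 i)
    exact ⟨y, e, funext he⟩
  obtain ⟨bk, hbk⟩ := SigmaLin.exists_fixed_basis T hfix
  let bι := bk.reindex (Fintype.equivFinOfCardEq (α := ι) (Module.finrank_fintype_fun_eq_card k).symm).symm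
  have hbι : ∀ j, T (bι j) = bι j := fun j => by rw [Module.Basis.reindex_apply]; exact hbk _
  have hlift : ∀ j, ∃ c : ι → W, G σ A c = c ∧ ∀ i, r (c i) = bι j i := by
    intro j
    choose v hv using fun i => hr (bι j i)
    have h0 : ∀ i, r ((G σ A v - v) i) = 0 := fun i => by
      have h1 := congrFun (hrG v) i
      simp only [Pi.sub_apply, map_sub]
      rw [h1, show (fun i => r (v i)) = bι j from funext hv, hv, hbι, sub_self]
    choose x hx using fun i => hker _ (h0 i)
    obtain ⟨w, hw⟩ := G_surj π σ A hπ hres (-x)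
    refine ⟨v + π ^ 1 • w, ?_, fun i => ?_⟩
    · rw [G_add, G_smul π σ A hπ,
        show G σ A v = v + π • x by rw [show π • x = G σ A v - v from funext fun i => (hx i).symm]; abel,
        show G σ A w = w + -x by rw [← hw]; abel, pow_one, smul_add, smul_neg]
      abel
    · simp [hv, hrπ]
  choose c hc hcr using hlift
  refine ⟨c, hc, ?_⟩
  rw [show (Matrix.of fun i j => r (c j i)) = (Pi.basisFun k ι).toMatrix bι by
    ext i j; simp [Module.Basis.toMatrix, hcr]]
  haveI := Module.Basis.invertibleToMatrix (Pi.basisFun k ι) bι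
  exact isUnit_of_invertible _

end

theorem witt_frob (p : ℕ) [Fact p.Prime] (k : Type u) [Field k] [CharP k p] (ν : ℕ) (a : WittVector p k) :
    ((⇑(WittVector.frobenius : WittVector p k →+* WittVector p k))^[ν] a).coeff 0 = a.coeff 0 ^ p ^ ν := by
  induction ν with
  | zero => simp
  | succ i ih => rw [Function.iterate_succ_apply', WittVector.coeff_frobenius_charP, ih, pow_succ, pow_mul]

section
variable (p : ℕ) [Fact p.Prime] (k : Type u) [Field k] [CharP k p] {ι : Type*} [Fintype ι] [DecidableEq ι]

theorem c_unit (c : ι → ι → WittVector p k)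
    (h : IsUnit (Matrix.of fun i j => WittVector.constantCoeff (c j i) : Matrix ι ι k)) :
    IsUnit (Matrix.of fun i j => c j i).det := by
  apply WittVector.isUnit_of_coeff_zero_ne_zero
  show WittVector.constantCoeff _ ≠ 0
  rw [RingHom.map_det]
  exact ((Matrix.isUnit_iff_isUnit_det _).1 h).ne_zero

end

/-- Let k be an algebraically closed field of characteristic p > 0, ν ≥ 1, W = W(k) the ring of
p-typical Witt vectors with its Frobenius endomorphism σ, M a finitely generated free W-module and F
: M → M a bijective additive map that is σ^ν-semilinear, F(a·m) = σ^ν(a)·F(m). Then M admits a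
W-basis consisting of F-fixed elements; in particular M is spanned over W by M₀ = {m | F(m) = m}, a
module over the Witt vectors of F_{p^ν}. (The copy allows ν < 0 as well, reducing to F⁻¹; stated
here for ν ≥ 1.) -/
theorem result (k : Type u) [Field k] [IsAlgClosed k]
    (p : ℕ) [Fact p.Prime] [CharP k p] (ν : ℕ) (hν : 1 ≤ ν)
    (M : Type v) [AddCommGroup M] [Module (WittVector p k) M]
    [Module.Finite (WittVector p k) M] [Module.Free (WittVector p k) M]
    (F : M →+ M)
    (hF : ∀ (a : WittVector p k) (m : M), F (a • m) = ((⇑(WittVector.frobenius : WittVector p k →+* WittVector p k))^[ν] a) • F m)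
    (hbij : Function.Bijective F) :
    ∃ (ι : Type v) (b : Module.Basis ι (WittVector p k) M), ∀ i, F (b i) = b i := by
  classical
  let W := WittVector p k
  let σ : W →+* W := (WittVector.frobenius : W →+* W) ^ ν
  have hσ : ∀ a, σ a = ((⇑(WittVector.frobenius : W →+* W))^[ν] a) := fun a => by
    show ((WittVector.frobenius : W →+* W) ^ ν) a = _
    rw [RingHom.coe_pow]
  have hF' : ∀ (a : W) (m : M), F (a • m) = σ a • F m := fun a m => by rw [hσ]; exact hF a m
  let b := Module.Free.chooseBasis W M
  haveI : Fintype (Module.Free.ChooseBasisIndex W M) := Module.Free.ChooseBasisIndex.fintype W M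
  haveI : ExpChar k p := ExpChar.prime Fact.out
  obtain ⟨h2, h3⟩ := IsocLib.cond_pow (Nat.one_lt_pow (by omega) (Fact.out : p.Prime).one_lt : 1 < p ^ ν)
    (σ := iterateFrobenius k p ν) (fun x => iterateFrobenius_def p ν x)
  have hA : ∀ z, ∃ v : Module.Free.ChooseBasisIndex W M → W,
      (Matrix.of fun i j => b.repr (F (b j)) i) *ᵥ (fun i => σ (v i)) = z := by
    intro z
    obtain ⟨m, hm⟩ := hbij.2 (b.equivFun.symm z)
    refine ⟨b.equivFun m, ?_⟩
    have hz : z = b.equivFun (F m) := by rw [hm, LinearEquiv.apply_symm_apply]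
    rw [hz]
    conv_rhs => rw [← b.sum_equivFun m, map_sum]
    simp only [hF', map_sum, map_smul]
    ext i
    simp [Matrix.mulVec, dotProduct, mul_comm]
  obtain ⟨c, hc⟩ := exists_fixed_matrix (p : W) (WittVector.constantCoeff : W →+* k) σ (iterateFrobenius k p ν)
    (Matrix.of fun i j => b.repr (F (b j)) i) (map_natCast σ p) (WittVector.constantCoeff_surjective p)
    (fun a ha => by
      have : a ∈ RingHom.ker (WittVector.constantCoeff : W →+* k) := ha
      rwa [WittVector.ker_constantCoeff, Ideal.mem_span_singleton] at this)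
    (by rw [map_natCast, CharP.cast_eq_zero])
    (fun a => by
      rw [hσ, iterateFrobenius_def]
      exact witt_frob p k ν a) h2 h3 hA
  have hu : IsUnit (Matrix.of fun i j => c j i).det := c_unit p k c hc.2
  let e : M ≃ₗ[W] (Module.Free.ChooseBasisIndex W M → W) :=
    b.equivFun.trans (Matrix.toLin'OfInv (Matrix.nonsing_inv_mul _ hu) (Matrix.mul_nonsing_inv _ hu)).symm
  let b' : Module.Basis _ W M := Module.Basis.ofEquivFun e
  refine ⟨_, b', fun j => ?_⟩
  have hb' : b' j = b.equivFun.symm (c j) := by
    simp [b', e, Module.Basis.coe_ofEquivFun, Matrix.mulVec_single_one, Matrix.col]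
  rw [hb', Module.Basis.equivFun_symm_apply, map_sum]
  simp only [hF']
  apply b.equivFun.injective
  rw [map_sum]
  simp only [map_smul, Module.Basis.equivFun_apply]
  conv_rhs => rw [← Module.Basis.equivFun_apply, ← Module.Basis.equivFun_symm_apply, LinearEquiv.apply_symm_apply]
  conv_rhs => rw [← hc.1 j]
  ext i
  simp [Matrix.mulVec, dotProduct, mul_comm]

end Groth.Agent.S16854
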