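import Groth.Statements.S1686
import Groth.Agent.CartierDim.Basic

set_option autoImplicit false
universe u
open CategoryTheory CategoryTheory.Limits AlgebraicGeometry TopologicalSpace
open SDiv

namespace Groth.Agent.S1686

/-- Let D be the closed subscheme of an effective Cartier divisor on a scheme S and d a point of D with
image s in S. If the local dimension of S at s is finite, then the local dimension of D at d is
strictly smaller. -/
theorem result (S : Scheme.{u}) (𝓘 : S.IdealSheafData) (h𝓘 : BlowUp.IsEffCartierIdeal 𝓘) (d : ↥𝓘.subscheme)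
    (hfin : FlatMor.localDim ↥S (𝓘.subschemeι d) ≠ ⊤) :
    FlatMor.localDim ↥𝓘.subscheme d < FlatMor.localDim ↥S (𝓘.subschemeι d) := by
  haveI : Nonempty {U : TopologicalSpace.Opens ↥S // 𝓘.subschemeι d ∈ U} := ⟨⟨⊤, trivial⟩⟩
  obtain ⟨U, hU⟩ := ciInf_mem (fun U : {U : TopologicalSpace.Opens ↥S // 𝓘.subschemeι d ∈ U} =>
    topologicalKrullDim (U.1 : Set ↥S))
  have hloc : FlatMor.localDim ↥S (𝓘.subschemeι d) = topologicalKrullDim (U.1 : Set ↥S) := hU.symm
  rw [hloc] at hfin ⊢
  let P : 𝓘.subscheme.Opens := 𝓘.subschemeι ⁻¹ᵁ U.1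
  refine lt_of_le_of_lt (iInf_le _ ⟨P, U.2⟩) ?_
  exact Groth.Agent.CartierDim.krullDim_lt h𝓘 U.1 ⟨d, U.2⟩ hfin

end Groth.Agent.S1686
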