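import Groth.Agent.AlgStLib.GerbeProps
import Groth.Prelude.Def_StGerb

set_option autoImplicit false
universe u
open CategoryTheory AlgebraicGeometry
open Gerb

set_option backward.isDefEq.respectTransparency false

namespace Groth.Agent.S16862

open Groth.Agent.AlgStLib Groth.Agent.FibCat2Misc Groth.Agent.FibCatRep

/-- If a morphism f of algebraic stacks makes its source a gerbe over its target, then the relative
inertia of f is flat and locally of finite presentation over the source. -/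
theorem result
    (S : Scheme.{u}) (𝒳 𝒴 : AlgSt.Cat S)
    (h𝒳 : AlgSt.IsAlgStack Scheme.fppfPrecoverage 𝒳) (h𝒴 : AlgSt.IsAlgStack Scheme.fppfPrecoverage 𝒴)
    (f : 𝒳 ⥤ᵇ 𝒴) (hf : Gerb.IsGerbeOver (QuotSh.J Scheme.fppfPrecoverage S) f) :
    AlgSt.LocQ (AlgSp.LocP @Flat) (FibCat.inertiaToBase f) ∧
      AlgSt.LocQ (AlgSp.LocP @LocallyOfFinitePresentation) (FibCat.inertiaToBase f) := by
  have hff := isAlgStack_fp h𝒴.isStack h𝒴.diag h𝒳 h𝒳 f f
  obtain ⟨d₁, d₂, -⟩ := GerbeMor.repWith_diag h𝒳 h𝒴 f hf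
  obtain ⟨k, hk, -, -⟩ := isEquivOver_symm (isEquivOver_inertiaFun f)
  have hI := isAlgStack_of_equiv hk
    (isAlgStack_fp hff.isStack hff.diag h𝒳 h𝒳 (FibCat.diag f) (FibCat.diag f))
  exact ⟨locQ_of_repWith st_flat cls_flat.bc cls_flat.loc hI h𝒳 (repWith_inertia_of_diag d₁),
    locQ_of_repWith st_lfp cls_lfp.bc cls_lfp.loc hI h𝒳 (repWith_inertia_of_diag d₂)⟩

end Groth.Agent.S16862
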