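import Groth.Agent.AlgStLib.GerbeProps
import Groth.Prelude.Def_StGerb

set_option autoImplicit false
universe u
open CategoryTheory AlgebraicGeometry
open Gerb

set_option backward.isDefEq.respectTransparency false

namespace Groth.Agent.S16863

open Groth.Agent.AlgStLib Groth.Agent.FibCat2Misc Groth.Agent.FibCatRep

/-- If f makes 𝒳 a gerbe over 𝒴, then for morphisms x₁ : T₁ → 𝒳, x₂ : T₂ → 𝒳 from algebraic spaces the
comparison morphism T₁ ×_𝒳 T₂ → T₁ ×_𝒴 T₂ (induced by the two projections and the 2-isomorphism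
obtained by applying f to the canonical one) is surjective, flat and locally of finite presentation. -/
theorem result
    (S : Scheme.{u}) (𝒳 𝒴 : AlgSt.Cat S)
    (h𝒳 : AlgSt.IsAlgStack Scheme.fppfPrecoverage 𝒳) (h𝒴 : AlgSt.IsAlgStack Scheme.fppfPrecoverage 𝒴)
    (f : 𝒳 ⥤ᵇ 𝒴) (hf : Gerb.IsGerbeOver (QuotSh.J Scheme.fppfPrecoverage S) f)
    (T₁ T₂ : AlgSp.Space S) (x₁ : AlgSt.ofSp T₁.obj ⥤ᵇ 𝒳) (x₂ : AlgSt.ofSp T₂.obj ⥤ᵇ 𝒳)
    (e : BasedFunctor.comp (FibCat.fpFst x₁ x₂) (BasedFunctor.comp x₁ f) ≅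
      BasedFunctor.comp (FibCat.fpSnd x₁ x₂) (BasedFunctor.comp x₂ f))
    (he : ∀ a, e.hom.toNatTrans.app a = f.map a.obj.iso.hom) :
    AlgSt.IsSurjective (FibCat.fpLift (FibCat.fpFst x₁ x₂) (FibCat.fpSnd x₁ x₂) e) ∧
      AlgSt.LocQ (AlgSp.LocP @Flat) (FibCat.fpLift (FibCat.fpFst x₁ x₂) (FibCat.fpSnd x₁ x₂) e) ∧
      AlgSt.LocQ (AlgSp.LocP @LocallyOfFinitePresentation)
        (FibCat.fpLift (FibCat.fpFst x₁ x₂) (FibCat.fpSnd x₁ x₂) e) := by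
  have hff := isAlgStack_fp h𝒴.isStack h𝒴.diag h𝒳 h𝒳 f f
  obtain ⟨d₁, d₂, d₃⟩ := GerbeMor.repWith_diag h𝒳 h𝒴 f hf
  have hA := algFp h𝒳 (isAlgStack_ofSp T₁) (isAlgStack_ofSp T₂) x₁ x₂
  have hB := algFp h𝒴 (isAlgStack_ofSp T₁) (isAlgStack_ofSp T₂) (BasedFunctor.comp x₁ f) (BasedFunctor.comp x₂ f)
  have key : ∀ {Q : MorphismProperty (AlgSp.Sp S)}, AlgSt.RepByAlgSpWith Q (FibCat.diag f) →
      AlgSt.RepByAlgSpWith Q (FibCat.fpLift (FibCat.fpFst x₁ x₂) (FibCat.fpSnd x₁ x₂) e) := fun {Q} h =>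
    repWith_congr Q (Iso.refl _)
      (repWith_comp_of_isEquiv (isEquivOver_cmpDiag e he) (repWith_fpFst Q (FibCat.diag f) (cmpMap x₁ x₂ f) h))
  exact ⟨isSurjective_of_repWith hA.isStack.1 hB.isStack.1 (key d₃),
    locQ_of_repWith st_flat cls_flat.bc cls_flat.loc hA hB (key d₁),
    locQ_of_repWith st_lfp cls_lfp.bc cls_lfp.loc hA hB (key d₂)⟩

end Groth.Agent.S16863
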