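import Groth.Agent.AlgStLib.GerbeProps
import Groth.Prelude.Def_StGerb

set_option autoImplicit false
universe u
open CategoryTheory AlgebraicGeometry
open Gerb

set_option backward.isDefEq.respectTransparency false

namespace Groth.Agent.S16866

open Groth.Agent.AlgStLib Groth.Agent.FibCat2Misc Groth.Agent.FibCatRep

/-- If π : 𝒳 → U makes the algebraic stack 𝒳 a gerbe over the algebraic space U and x : U → 𝒳 is a
section of π, then x is flat, locally of finite presentation and surjective (as a morphism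
representable by algebraic spaces). -/
theorem result
    (S : Scheme.{u}) (𝒳 : AlgSt.Cat S) (h𝒳 : AlgSt.IsAlgStack Scheme.fppfPrecoverage 𝒳)
    (U : AlgSp.Space S) (π : 𝒳 ⥤ᵇ AlgSt.ofSp U.obj)
    (hπ : Gerb.IsGerbeOver (QuotSh.J Scheme.fppfPrecoverage S) π)
    (x : AlgSt.ofSp U.obj ⥤ᵇ 𝒳) (e : BasedFunctor.comp x π ≅ BasedFunctor.id (AlgSt.ofSp U.obj)) :
    AlgSt.RepByAlgSpWith (AlgSp.LocP @Flat) x ∧
      AlgSt.RepByAlgSpWith (AlgSp.LocP @LocallyOfFinitePresentation) x ∧
      AlgSt.RepByAlgSpWith AlgSp.IsSurjectiveMor x := by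
  have hU := isAlgStack_ofSp U
  obtain ⟨d₁, d₂, d₃⟩ := GerbeMor.repWith_diag h𝒳 hU π hπ
  let e' : BasedFunctor.comp (BasedFunctor.id (AlgSt.ofSp U.obj)) (BasedFunctor.id (AlgSt.ofSp U.obj)) ≅
      BasedFunctor.comp x π := e.symm
  let D := BasedFunctor.comp (graphDiag x e') (FibCat.fpFst (graphMap x e') (FibCat.diag π))
  have key : ∀ {Q : MorphismProperty (AlgSp.Sp S)}, AlgSt.RepByAlgSpWith Q (FibCat.diag π) →
      AlgSt.RepByAlgSpWith Q x := fun {Q} h => by
    have h₁ : AlgSt.RepByAlgSpWith Q D :=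
      repWith_comp_of_isEquiv (isEquivOver_graphDiag x e') (repWith_fpFst Q _ _ h)
    exact repWith_congr Q (Iso.refl _) (repWith_comp_equiv_right h₁ (isEquivOver_fpSnd_id π))
  exact ⟨key d₁, key d₂, key d₃⟩

end Groth.Agent.S16866
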