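import Groth.Statements.S16873
import Groth.Agent.DMSlice.QuasiDM

set_option autoImplicit false
universe u
open CategoryTheory AlgebraicGeometry
open Gerb

namespace Groth.Agent.S16873

/-- On a quasi-DM algebraic stack (stated with the diagonal over the base scheme locally quasi-finite,
which is equivalent to the absolute notion) the residual gerbe exists at every point; in particular
this holds for Deligne–Mumford stacks. (Non-triviality of the conclusion rests on the monomorphism
condition.) -/
theorem result
    (S : Scheme.{u}) (𝒳 : AlgSt.Cat S) (h𝒳 : AlgSt.IsAlgStack Scheme.fppfPrecoverage 𝒳)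
    (hq : AlgSt.IsQuasiDMOver 𝒳) (x : AlgSt.Points 𝒳) :
    Gerb.ResGerbeExists Scheme.fppfPrecoverage 𝒳 x := by
  obtain ⟨V, g, p, hg, hp⟩ := Groth.Agent.DMSlice.exists_lqf_chart h𝒳 hq x
  have h := Groth.Agent.DMSlice.resGerbeExists_of_lqf h𝒳 g hg p
  have e : AlgSt.Points.ofChart (BasedFunctor.comp (AlgSt.ofOverCat V) g) p = x := by
    rw [← hp, show AlgSp.Points.ofScheme V p = AlgSp.Points.ofPt ((AlgSp.yon S).map (𝟙 V)) p from
      (Groth.Agent.AlgSpLib.ofScheme_map (𝟙 V) p).symm]
    exact Groth.Agent.AlgStLib.ofChart_congr (CategoryTheory.Iso.refl _) p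
  rwa [e] at h

end Groth.Agent.S16873
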