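import Groth.Agent.AlgStLib.GerbeProps
import Groth.Prelude.Def_StGerb2
import Mathlib.CategoryTheory.Sites.LocallySurjective
import Mathlib.CategoryTheory.Sites.LocallyInjective

set_option autoImplicit false
universe u
open CategoryTheory AlgebraicGeometry Opposite
open Gerb

set_option backward.isDefEq.respectTransparency false

namespace Groth.Agent.S16877

open Groth.Agent.AlgStLib Groth.Agent.FibCat2Misc Groth.Agent.FibCatRep

/-- If π : 𝒳 → X makes the algebraic stack 𝒳 a gerbe over the algebraic space X, then X is the fppf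
sheafification of the presheaf of isomorphism classes of objects of 𝒳: the map of presheaves sending
the class of an object x to the section π(x) of X is locally surjective and locally injective.
(Consequently the space over which a gerbe lives is determined by the gerbe.) -/
theorem result
    (S : Scheme.{u}) (𝒳 : AlgSt.Cat S) (h𝒳 : AlgSt.IsAlgStack Scheme.fppfPrecoverage 𝒳)
    [FibCat.IsFibGrpd 𝒳.p]
    (X : AlgSp.Space S) (π : 𝒳 ⥤ᵇ AlgSt.ofSp X.obj)
    (hπ : Gerb.IsGerbeOver (QuotSh.J Scheme.fppfPrecoverage S) π) :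
    ∃ c : Gerb.isoClPsh 𝒳 ⟶ X.obj.obj,
      (∀ x : 𝒳.obj, c.app (op (𝒳.p.obj x)) (Quot.mk _ (Gerb.fib x)) =
          X.obj.obj.map (eqToHom (π.w_obj x).symm).op (π.obj x).sec) ∧
      Presheaf.IsLocallySurjective (QuotSh.J Scheme.fppfPrecoverage S) c ∧
      Presheaf.IsLocallyInjective (QuotSh.J Scheme.fppfPrecoverage S) c := by
  let g (U : Over S) (a : 𝒳.p.Fiber U) : X.obj.obj.obj (op U) :=
    X.obj.obj.map (eqToHom a.2.symm).op (secOf π a.1)
  have hg : ∀ {U V : Over S} (f : V ⟶ U) (a : 𝒳.p.Fiber U) (b : 𝒳.p.Fiber V) (φ : b.1 ⟶ a.1),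
      𝒳.p.map φ = eqToHom b.2 ≫ f ≫ eqToHom a.2.symm → X.obj.obj.map f.op (g U a) = g V b := by
    intro U V f a b φ hφ
    show X.obj.obj.map f.op (X.obj.obj.map _ _) = X.obj.obj.map _ _
    rw [← secOf_map π φ, hφ, ← Functor.map_comp_apply, ← Functor.map_comp_apply, ← op_comp, ← op_comp]
    simp
  have hg' : ∀ (U : Over S) (a a' : 𝒳.p.Fiber U), Gerb.IsoRel 𝒳 U a a' → g U a = g U a' := by
    rintro U a a' ⟨φ⟩
    haveI := φ.2
    have := hg (𝟙 U) a' a φ.1 (IsHomLift.fac' 𝒳.p (𝟙 U) φ.1)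
    simpa using this.symm
  let c : Gerb.isoClPsh 𝒳 ⟶ X.obj.obj :=
    { app := fun U => ↾(Quot.lift (g U.unop) (hg' U.unop))
      naturality := fun U V f => by
        ext a
        obtain ⟨a⟩ := a
        show g V.unop (Gerb.pullFib 𝒳 f.unop a) = X.obj.obj.map f (g U.unop a)
        refine (hg f.unop a (Gerb.pullFib 𝒳 f.unop a) (Gerb.pullHom 𝒳 a.1 _) ?_).symm
        rw [Gerb.pullHom_map] }
  refine ⟨c, fun x => ?_, ⟨fun {U} s => ?_⟩, ⟨fun {U} a b h => ?_⟩⟩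
  · show X.obj.obj.map (eqToHom rfl).op (X.obj.obj.map _ (π.obj x).sec) = _
    rw [← Functor.map_comp_apply, ← op_comp]
    simp
  · let y : (AlgSt.ofSp X.obj).obj := ⟨U, s⟩
    obtain ⟨R, hR, hR'⟩ := hπ.1 y
    refine (QuotSh.J Scheme.fppfPrecoverage S).superset_covering ?_ hR
    intro V f hf
    obtain ⟨x, m, hm⟩ := hR' f hf
    haveI := hm
    have hx : 𝒳.p.obj x = V := GerbLib.obj_over π (IsHomLift.domain_eq (AlgSt.ofSp X.obj).p f m)
    have hm' : m.hom = eqToHom ((π.w_obj x).trans hx) ≫ f := by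
      simpa using IsHomLift.fac' (AlgSt.ofSp X.obj).p f m
    refine ⟨Quot.mk _ ⟨x, hx⟩, ?_⟩
    show X.obj.obj.map _ (X.obj.obj.map _ (π.obj x).sec) = _
    rw [← m.map_sec, hm', ← Functor.map_comp_apply, ← Functor.map_comp_apply, ← op_comp, ← op_comp]
    simp
    rfl
  · obtain ⟨U⟩ := U
    obtain ⟨a⟩ := a
    obtain ⟨b⟩ := b
    obtain ⟨x, hx⟩ := a
    obtain ⟨x', hx'⟩ := b
    change 𝒳.p.obj x = U at hx
    subst hx
    have hb : (π.obj x).base = (π.obj x').base := (π.w_obj x).trans (hx'.symm.trans (π.w_obj x').symm)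
    let m : π.obj x ⟶ π.obj x' := ⟨eqToHom hb, by
      have h' : X.obj.obj.map (eqToHom rfl).op (secOf π x) = X.obj.obj.map (eqToHom hx'.symm).op (secOf π x') := h
      rw [sec_eq π x, sec_eq π x', ← Functor.map_comp_apply, ← op_comp]
      simp only [eqToHom_refl, op_id, Functor.map_id_apply] at h'
      rw [h', ← Functor.map_comp_apply, ← op_comp]
      simp⟩
    obtain ⟨R, hR, hR'⟩ := hπ.2 x x' m (IsHomLift.of_fac' (AlgSt.ofSp X.obj).p _ _ (π.w_obj x)
      ((π.w_obj x').trans hx') (show eqToHom hb = _ by simp))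
    refine (QuotSh.J Scheme.fppfPrecoverage S).superset_covering ?_ hR
    intro V f hf
    obtain ⟨x₀, φ, ψ, hφ, hψ, -⟩ := hR' f hf
    haveI := hφ
    haveI := hψ
    obtain ⟨χ, hχ, -⟩ := Gerb.exists_hom_pull 𝒳 x (f ≫ eqToHom rfl) φ (by simpa using hφ)
    obtain ⟨χ', hχ', -⟩ := Gerb.exists_hom_pull 𝒳 x' (f ≫ eqToHom hx'.symm) ψ
      (IsHomLift.of_fac' 𝒳.p _ _ (IsHomLift.domain_eq 𝒳.p f ψ) rfl (by rw [IsHomLift.fac' 𝒳.p f ψ]; simp))
    let o : 𝒳.p.Fiber V := ⟨x₀, IsHomLift.domain_eq 𝒳.p f φ⟩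
    show Quot.mk (Gerb.IsoRel 𝒳 V) (Gerb.pullFib 𝒳 f ⟨x, rfl⟩) = Quot.mk _ (Gerb.pullFib 𝒳 f ⟨x', hx'⟩)
    exact (Quot.sound (a := o) ⟨⟨χ, hχ⟩⟩).symm.trans (Quot.sound (a := o) ⟨⟨χ', hχ'⟩⟩)

end Groth.Agent.S16877
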