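import Groth.Statements.S1688
import Mathlib
import Groth.Agent.RegDual.Scheme
import Groth.Agent.GoingDown.Dedekind

set_option autoImplicit false
universe u
open CategoryTheory CategoryTheory.Limits AlgebraicGeometry TopologicalSpace
open SDiv

namespace Groth.Agent.S1688

/-- Let X be a locally Noetherian integral scheme of dimension at most 1 all of whose local rings are
regular, and F a coherent module on X. Then F is torsion free (every stalk is a torsion-free module
over the local ring) if and only if F is finite locally free. -/
theorem result (X : Scheme.{u}) [IsIntegral X] [IsLocallyNoetherian X] (hreg : ∀ x : ↥X, IsRegularLocalRing (X.presheaf.stalk x))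
    (hdim : topologicalKrullDim ↥X ≤ 1) (F : X.Modules) (hF : Coh.IsCoh F) :
    (∀ x : ↥X, NoZeroSMulDivisors (X.presheaf.stalk x) (F.presheaf.stalk x)) ↔ FlatMod.IsFinLocFree F := by
  constructor
  · intro h
    refine Groth.Agent.RegDual.isFinLocFree_of_free_stalk hF fun x => ?_
    haveI := hreg x
    haveI := Groth.Agent.RegDual.finite_stalk hF x
    obtain ⟨_, hpid⟩ := Groth.Agent.GoingDown.isPrincipalIdealRing_of_regular (R := X.presheaf.stalk x)
      ((Groth.Agent.RegDual.ringKrullDim_stalk_le_topologicalKrullDim x).trans hdim)
    haveI := h x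
    exact Module.free_of_finite_type_torsion_free'
  · intro h x
    haveI := Groth.Agent.LocFree.free_stalk_of_isFinLocFree h x
    haveI : IsDomain (X.presheaf.stalk x) := inferInstance
    let b := Module.Free.chooseBasis (X.presheaf.stalk x) (F.presheaf.stalk x)
    refine ⟨fun {c m} hcm => or_iff_not_imp_left.2 fun hc => b.repr.injective (Finsupp.ext fun i => ?_)⟩
    have h1 := DFunLike.congr_fun (congrArg b.repr hcm) i
    simp only [map_smul, map_zero, Finsupp.coe_smul, Pi.smul_apply, smul_eq_mul, Finsupp.coe_zero, Pi.zero_apply] at h1 ⊢
    exact (mul_eq_zero.1 h1).resolve_left hc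

end Groth.Agent.S1688
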