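import Groth.Statements.S16886
import Groth.Agent.StkComp.Sites
import Groth.Agent.GerbLib.BaseChange

set_option autoImplicit false
set_option backward.isDefEq.respectTransparency false
set_option backward.isDefEq.respectTransparency.types false
open CategoryTheory
universe v u
open Gerb

namespace Groth.Agent.S16886

/-- (2) ⇒ (1): let `𝒳`, `𝒴` be stacks in groupoids over the site `(C, J)` and `F : 𝒳 ⟶ 𝒴` a functor over
`C` making `𝒳` a gerbe over `𝒴` (objects of `𝒴` come from `𝒳` locally and morphisms between images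
lift locally). Then for every factorization `F = a ⋙ F'` through a category `𝒳'` over `C` with `a :
𝒳 ⟶ 𝒳'` an equivalence in the 2-category of categories over `C` and `F' : 𝒳' ⟶ 𝒴` a functor whose
underlying functor makes `𝒳'` fibred in groupoids over `𝒴`, the category `𝒳'` over `𝒴` (through
`F'`) is a gerbe over the site `𝒴` with the topology inherited from `J`. (Only this implication is
stated; the converse is asserted in the published item with its verification not carried out.) -/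
theorem result {C : Type u} [Category.{v} C]
    (J : GrothendieckTopology C) {𝒳 𝒴 𝒳' : BasedCategory.{v, max u v} C}
    (h𝒳 : Stk.IsStack J 𝒳) (h𝒴 : Stk.IsStack J 𝒴) (F : 𝒳 ⥤ᵇ 𝒴) (hF : Gerb.IsGerbeOver J F)
    (a : 𝒳 ⥤ᵇ 𝒳') (ha : FibCat.IsEquivOver a) (F' : 𝒳' ⥤ᵇ 𝒴) (hF' : FibCat.IsFibGrpd F'.toFunctor)
    (hfac : BasedFunctor.comp a F' = F) :
    Gerb.IsGerbe (𝒴.p.restrictedTopology J) (BasedCategory.ofFunctor F'.toFunctor) := by
  subst hfac
  have hX' := Groth.Agent.StkBasic.isStack_of_equiv ha J h𝒳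
  obtain ⟨hO, hH⟩ := Groth.Agent.GerbLib.isGerbeOver_of_comp ha F' hF
  refine ⟨Groth.Agent.StkComp.isStack_of_fibred J hX' h𝒴 F' hF', fun y => ?_, fun x x' b hb => ?_⟩
  · obtain ⟨R, hR, hR'⟩ := hO y
    refine ⟨R.functorPullback 𝒴.p, ?_, fun V g hg => ?_⟩
    · rw [Groth.Agent.S12801.result 𝒴.p h𝒴.1 J]
      refine J.superset_covering (fun W f hf => ?_) hR
      obtain ⟨z, φ, hz, hφ⟩ := Groth.Agent.FibCatRep.exists_lift h𝒴.1 (x := y) f
      refine ⟨z, φ, eqToHom hz.symm, ?_, by rw [hφ]; simp⟩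
      show R.arrows (𝒴.p.map φ)
      rw [hφ]
      exact R.downward_closed hf _
    · let g' : V ⟶ y := g
      obtain ⟨x, k, hk⟩ := hR' (𝒴.p.map g') hg
      obtain ⟨χ, hχ, hχk⟩ := Groth.Agent.GerbLib.exists_connect h𝒴.1 (𝒴.p.map g') k g'
      obtain ⟨x'', μ, hx'', -⟩ := Groth.Agent.FibCatRep.exists_lift hF' (x := x) χ
      exact ⟨x'', eqToHom hx'' ≫ g', IsHomLift.of_fac' (𝟭 𝒴.obj) g _ hx'' rfl (by simp [g'])⟩
  · let b' : F'.obj x ⟶ F'.obj x' := b
    haveI hb' : (𝟭 𝒴.obj).IsHomLift (𝟙 (F'.obj x)) b' := hb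
    have hx : F'.obj x' = F'.obj x := IsHomLift.codomain_eq (𝟭 𝒴.obj) (𝟙 (F'.obj x)) b'
    have hbe : b = eqToHom hx.symm := (IsHomLift.fac' (𝟭 𝒴.obj) (𝟙 (F'.obj x)) b').trans (by simp)
    obtain ⟨R, hR, hR'⟩ := Groth.Agent.GerbLib.locHom_at hH x x' (eqToHom hx.symm) (F'.w_obj x).symm (by
      refine IsHomLift.of_fac' 𝒴.p _ _ rfl (congrArg 𝒴.p.obj hx) ?_
      rw [eqToHom_map]
      simp)
    refine ⟨R.functorPullback 𝒴.p, ?_, fun V g hg => ?_⟩
    · rw [Groth.Agent.S12801.result 𝒴.p h𝒴.1 J]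
      refine J.superset_covering (fun W f hf => ?_) hR
      obtain ⟨z, φ, hz, hφ⟩ := Groth.Agent.FibCatRep.exists_lift h𝒴.1 (x := F'.obj x) f
      refine ⟨z, φ, eqToHom hz.symm, ?_, by rw [hφ]; simp⟩
      show R.arrows (𝒴.p.map φ)
      rw [hφ]
      exact R.downward_closed hf _
    · let g' : V ⟶ F'.obj x := g
      obtain ⟨x₀, φ, ψ, hφ, hψ, hφψ⟩ := hR' (𝒴.p.map g') hg
      haveI := Groth.Agent.GerbLib.map_lift F' hφ
      obtain ⟨χ, hχ, hχk⟩ := Groth.Agent.GerbLib.exists_connect h𝒴.1 (𝒴.p.map g') (F'.map φ) g'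
      obtain ⟨x₁, μ, hx₁, hμ⟩ := Groth.Agent.FibCatRep.exists_lift hF' (x := x₀) χ
      have e1 : F'.map (μ ≫ φ) = eqToHom hx₁ ≫ g' := by
        rw [Functor.map_comp, hμ, Category.assoc, hχk]
      have e2 : F'.map (μ ≫ ψ) = F'.map (μ ≫ φ) ≫ eqToHom hx.symm := by
        rw [Functor.map_comp, Functor.map_comp, Category.assoc, hφψ]
      refine ⟨x₁, μ ≫ φ, μ ≫ ψ, IsHomLift.of_fac' F'.toFunctor g _ hx₁ rfl (e1.trans (by simp [g'])),
        IsHomLift.of_fac' F'.toFunctor g _ hx₁ hx (e2.trans (by rw [e1]; simp [g'])), ?_⟩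
      show F'.map (μ ≫ φ) ≫ b = F'.map (μ ≫ ψ)
      rw [e2, hbe]

end Groth.Agent.S16886
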