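import Groth.Statements.S16894
import Groth.Agent.Nakai.NefAmple

set_option autoImplicit false
universe u
open CategoryTheory CategoryTheory.Limits AlgebraicGeometry
open Vanish

namespace Groth.Agent.S16894

/-- Let k be an algebraically closed field and X an irreducible proper smooth k-scheme of dimension n
with an ample invertible O_X-module A (a projective manifold), and let L be an invertible
O_X-module. Then L is numerically effective, i.e. the degree of the pullback of L to every integral
one-dimensional closed subscheme Y ⊆ X is non-negative, if and only if L^⊗ν ⊗ A is ample for every ν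
> 0. (The published lemma says 'for an ample sheaf A'; the equivalence is stated here for any given
ample A, which is what the argument gives.) -/
theorem result (k : Type u) [Field k] [IsAlgClosed k]
    (X : Scheme.{u}) [X.Over (Spec (CommRingCat.of k))] [IsProper (X ↘ Spec (CommRingCat.of k))]
    [Smooth (X ↘ Spec (CommRingCat.of k))] [IrreducibleSpace X] (n : ℕ) (hn : topologicalKrullDim X = n)
    (A : X.Modules) (hA : CohB1.IsAmple A) (L : X.Modules) (hL : PicF.IsInvertible L) :
    (∀ (Y : Scheme.{u}) (i : Y ⟶ X) [IsClosedImmersion i], IsIntegral Y → topologicalKrullDim Y = 1 →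
      0 ≤ Pic13.curveDeg k (i ≫ (X ↘ Spec (CommRingCat.of k))) ((Scheme.Modules.pullback i).obj L)) ↔
      ∀ ν : ℕ, 0 < ν → CohB1.IsAmple (CohB1.tensorMod (CohB1.tensorPow L ν) A) := by
  refine ⟨fun h ν hν => ?_, fun h => ?_⟩
  · have hn : Groth.Agent.Nakai.Nef k L := (Groth.Agent.Nakai.nef_iff_curveDeg k hL).2 h
    have e : CohB1.tensorPow A 1 ≅ A := TMul.leftUnitIso A
    have h1 := Groth.Agent.Nakai.isAmple_nef_tensor k hA hL hn hν (q := 1) one_pos
    exact TMul.isAmple_congr (PicGrp.tensorModIso (Iso.refl (CohB1.tensorPow L ν)) e) h1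
  · have hn : Groth.Agent.Nakai.Nef k L := Groth.Agent.Nakai.nef_of_forall_ample k hA.1 hL h
    exact (Groth.Agent.Nakai.nef_iff_curveDeg k hL).1 hn

end Groth.Agent.S16894
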