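import Groth.Statements.S16901
import Groth.Agent.Nakai.BigApps

set_option autoImplicit false
universe u
open CategoryTheory CategoryTheory.Limits AlgebraicGeometry
open Vanish

namespace Groth.Agent.S16901

/-- Let k be an algebraically closed field and X an integral proper k-scheme of dimension n with an
ample invertible O_X-module (a projective variety, not assumed non-singular), and let L be an
invertible O_X-module. The Iitaka dimension of L is n, in the growth form the text adopts as its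
working definition (for some ν > 0 there is a constant a > 0 with μ^n ≤ a · dim_k H^0(X, L^⊗νμ) for
all μ ≥ 1), if and only if for some ν > 0 there are an ample invertible module A and a monomorphism
A → L^⊗ν (that is, L^⊗ν(−C) is ample for some effective divisor C). -/
theorem result (k : Type u) [Field k] [IsAlgClosed k]
    (X : Scheme.{u}) [X.Over (Spec (CommRingCat.of k))] [IsIntegral X] [IsProper (X ↘ Spec (CommRingCat.of k))]
    (n : ℕ) (hn : topologicalKrullDim X = n) (H : X.Modules) (hH : CohB1.IsAmple H)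
    (L : X.Modules) (hL : PicF.IsInvertible L) :
    (∃ ν a : ℕ, 0 < ν ∧ 0 < a ∧ ∀ μ : ℕ, 1 ≤ μ →
        μ ^ n ≤ a * Module.finrank k (Coh.HH X (CohB1.tensorPow L (ν * μ)) 0)) ↔
      ∃ (ν : ℕ) (A : X.Modules) (φ : A ⟶ CohB1.tensorPow L ν), 0 < ν ∧ CohB1.IsAmple A ∧ Mono φ := by
  constructor
  · rintro ⟨ν, a, hν, ha, h⟩
    have hK : Groth.Agent.Nakai.Kod k L := by
      refine Groth.Agent.Nakai.kod_of_freq_real k hL hH n hn (c := 1 / ((a : ℝ) * (ν : ℝ) ^ n))
        (by positivity) ?_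
      refine Filter.frequently_atTop.2 fun N => ⟨ν * (N + 1), ?_, ?_⟩
      · exact le_trans (Nat.le_succ N) (Nat.le_mul_of_pos_left _ hν)
      · have h1 : (((N + 1) ^ n : ℕ) : ℝ) ≤
            (a : ℝ) * (CurveRR.h k (CohB1.tensorPow L (ν * (N + 1))) 0 : ℝ) := by
          exact_mod_cast h (N + 1) (Nat.succ_le_succ (Nat.zero_le N))
        push_cast at h1 ⊢
        have h2 : (0 : ℝ) < (a : ℝ) * (ν : ℝ) ^ n := by positivity
        rw [div_mul_eq_mul_div, one_mul, div_le_iff₀ h2, mul_pow]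
        have h3 : (0 : ℝ) ≤ (ν : ℝ) ^ n := by positivity
        nlinarith [mul_le_mul_of_nonneg_left h1 h3]
    obtain ⟨m, φ, hm, hφ⟩ := (Groth.Agent.Nakai.kod_iff_mono k hH hL n hn).2 hK H hH
    exact ⟨m, H, φ, hm, hH, hφ⟩
  · rintro ⟨ν, A, φ, hν, hA, hφ⟩
    haveI := hφ
    obtain ⟨A', hA', hAA'⟩ := Groth.Agent.W7Hull.exists_tensor_inverse hA.1
    have hK : Groth.Agent.Nakai.Kod k L :=
      ⟨A, A', ν, hA, hAA', hν, Groth.Agent.Nakai.h0_pos_of_mono k hA.1
        (TMul.isInvertible_tensorPow hL ν) hAA' φ⟩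
    obtain ⟨c, hc, n₀, h⟩ := hK.growth_real k hL n hn
    obtain ⟨a, ha⟩ := exists_nat_gt (1 / c)
    have ha0 : 0 < a := by
      have : (0 : ℝ) < a := lt_trans (by positivity) ha
      exact_mod_cast this
    refine ⟨n₀ + 1, a, Nat.succ_pos _, ha0, fun μ hμ => ?_⟩
    have h1 := (h ((n₀ + 1) * μ) (le_trans (Nat.le_succ _) (Nat.le_mul_of_pos_right _ hμ))).le
    push_cast at h1
    rw [mul_pow] at h1
    have h2 : (1 : ℝ) ≤ ((n₀ : ℝ) + 1) ^ n := one_le_pow₀ (by linarith [show (0 : ℝ) ≤ n₀ from Nat.cast_nonneg _])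
    have h3 : (1 : ℝ) ≤ (a : ℝ) * c := ((div_lt_iff₀ hc).1 ha).le
    have h4 : ((μ : ℝ)) ^ n ≤ (a : ℝ) * (c * (((n₀ : ℝ) + 1) ^ n * (μ : ℝ) ^ n)) := by
      calc ((μ : ℝ)) ^ n = 1 * (1 * (μ : ℝ) ^ n) := by ring
        _ ≤ ((a : ℝ) * c) * ((((n₀ : ℝ) + 1) ^ n) * (μ : ℝ) ^ n) := by gcongr
        _ = _ := by ring
    have h5 : (((μ ^ n : ℕ)) : ℝ) ≤
        ((a * CurveRR.h k (CohB1.tensorPow L ((n₀ + 1) * μ)) 0 : ℕ) : ℝ) := by
      push_cast
      exact h4.trans (mul_le_mul_of_nonneg_left h1 (Nat.cast_nonneg a))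
    exact Nat.cast_le.1 h5

end Groth.Agent.S16901
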