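import Groth.Statements.S16904
import Groth.Agent.Nakai.SemiAmple
import Groth.Agent.Nakai.HodgeIndex

set_option autoImplicit false
universe u
open CategoryTheory CategoryTheory.Limits AlgebraicGeometry
open Vanish

namespace Groth.Agent.S16904

/-- Let k be an algebraically closed field of characteristic zero and X an irreducible proper smooth
k-scheme of dimension n with an ample invertible O_X-module (a projective manifold); let L be a
semi-ample invertible O_X-module (some L^⊗μ with μ > 0 is globally generated; such L is numerically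
effective) with tensor inverse L⁻¹. Then for every natural number m, c_1(L)^m is numerically trivial
— (L^m · V) = 0 for every integral closed subscheme V ⊆ X of dimension m — if and only if κ(L) < m
in the growth form: there are no ν > 0 and a > 0 with μ^m ≤ a · dim_k H^0(X, L^⊗νμ) for all μ ≥ 1.
(This expresses ν(L) = κ(L) for semi-ample L; characteristic zero only.) -/
theorem result (k : Type u) [Field k] [IsAlgClosed k] [CharZero k]
    (X : Scheme.{u}) [X.Over (Spec (CommRingCat.of k))] [IsProper (X ↘ Spec (CommRingCat.of k))]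
    [Smooth (X ↘ Spec (CommRingCat.of k))] [IrreducibleSpace X] (n : ℕ) (hn : topologicalKrullDim X = n)
    (H : X.Modules) (hH : CohB1.IsAmple H) (L Linv : X.Modules) (hL : PicF.IsInvertible L) (hLinv : ClSub.IsInverseOf Linv L)
    (hsa : ∃ μ : ℕ, 0 < μ ∧ Curv2.IsGloballyGenerated (CohB1.tensorPow L μ))
    (m : ℕ) :
    (∀ (V : Scheme.{u}) (i : V ⟶ X) [IsClosedImmersion i], IsIntegral V → topologicalKrullDim V = (m : ℕ) →
      FGA.intNum k X n (fun _ : Fin m => Linv) ((Scheme.Modules.pushforward i).obj (Coh.structureModule V)) = 0) ↔ ¬ (∃ ν a : ℕ, 0 < ν ∧ 0 < a ∧ ∀ μ : ℕ, 1 ≤ μ →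
        μ ^ m ≤ a * Module.finrank k (Coh.HH X (CohB1.tensorPow L (ν * μ)) 0)) := by
  haveI : ConnectedSpace X := inferInstance
  haveI : IsIntegral X := Groth.Agent.Nakai.isIntegral_of_smooth_connected k
  haveI := Groth.Agent.CurveRR.isNoetherian_of_proper k X
  obtain ⟨e⟩ := hLinv
  obtain ⟨p, hp, hg⟩ := hsa
  have hLL : Nonempty (CohB1.tensorMod L Linv ≅ Coh.structureModule X) := ⟨TMul.commIso L Linv ≪≫ e⟩
  have hn' : Groth.Agent.Nakai.Nef k L :=
    Groth.Agent.Nakai.nef_of_pow k hL hp (Groth.Agent.Nakai.nef_of_generated k (TMul.isInvertible_tensorPow hL p) hg)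
  refine ⟨fun hm => ?_, fun hng V i _ hV hVd => ?_⟩
  · rintro ⟨ν, a, -, -, h⟩
    obtain ⟨μ, hμ, hlt⟩ := Groth.Agent.Nakai.not_growth k hH hL hn' n hn m
      (fun ξ hξ => Groth.Agent.Nakai.D_A_of_intNum k hL hLL n m hn.le hm ξ hξ) ν a
    exact absurd (h μ hμ) (not_le.2 hlt)
  · haveI : IsLocallyNoetherian V := LocallyOfFiniteType.isLocallyNoetherian i
    haveI : CompactSpace V := i.isClosedEmbedding.compactSpace
    haveI : IsNoetherian V := {}
    have hF : Coh.IsCoh ((Scheme.Modules.pushforward i).obj (Coh.structureModule V)) :=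
      Groth.Agent.Intersect.isCoh_push' i Groth.Agent.RefStalk.isCoh_structureModule
    have hd : topologicalKrullDim (CohB1.support ((Scheme.Modules.pushforward i).obj (Coh.structureModule V))) ≤
        ((0 + m : ℕ) : WithBot ℕ∞) := by
      rw [Groth.Agent.Nakai.dim_support_push i Groth.Agent.RefStalk.isCoh_structureModule,
        Groth.Agent.Intersect.dim_support_structure, hVd, Nat.zero_add]
    have hD : ∀ ξ : X, topologicalKrullDim (closure ({ξ} : Set X)) = (m : WithBot ℕ∞) →
        Groth.Agent.Nakai.D k (List.replicate m L) (Groth.Agent.Devissage.A ξ) = 0 := fun ξ hξ => by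
      by_contra hne
      obtain ⟨a, ha, h⟩ := Groth.Agent.Nakai.growth_of_ne_zero k hL hp hg m ξ hξ hne
      exact hng ⟨p, a, hp, ha, h⟩
    have h0 := Groth.Agent.Nakai.cut_zero k hH hL m hD 0 _ hF hd
    simp only [List.replicate_zero, List.nil_append, Groth.Agent.Nakai.D_replicate] at h0
    have h1 := Groth.Agent.Intersect.intNum_eq_alt k n hn.le (fun _ : Fin m => Linv)
      ((Scheme.Modules.pushforward i).obj (Coh.structureModule V))
    rw [Groth.Agent.Intersect.alt_inverse k m (fun _ => L) (fun _ => Linv) (fun _ => hL)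
      (fun _ => Groth.Agent.Intersect.isInvertible_inverse hL hLL) (fun _ => hLL) _ hF (by simpa using hd),
      h0, mul_zero] at h1
    exact_mod_cast h1

end Groth.Agent.S16904
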