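import Groth.Statements.S16909
import Groth.Agent.TMul.SecGen
import Groth.Agent.RefStalk.Span

set_option autoImplicit false
set_option backward.isDefEq.respectTransparency false
set_option backward.isDefEq.respectTransparency.types false
universe u
open CategoryTheory CategoryTheory.Limits AlgebraicGeometry
open ResProp

namespace Groth.Agent.S16909

/-- Let `X` be a quasi-compact and quasi-separated scheme on which every quasi-coherent module is
globally generated (a quotient of a free module on some index type, i.e. the structure sheaf is a
generating family). Then `X` is quasi-affine. No separatedness hypothesis is made; it follows. (The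
published statement is for an algebraic stack over an algebraic space with affine stabilizer groups
at closed points and concludes that it is representable by a quasi-affine morphism; that general
case rests on results outside this text, and this row is the final step of its proof, the case of a
scheme.) -/
theorem result (X : Scheme.{u}) [CompactSpace X]
    [QuasiSeparatedSpace X] (h : ∀ M : X.Modules, Coh.IsQCoh M → Curv2.IsGloballyGenerated M) :
    X.IsQuasiAffine := by
  haveI : Scheme.IsQuasiAffine ((⊤ : X.Opens) : Scheme.{u}) := TMul.isQuasiAffine_opens_of_secGen ⊤ isCompact_univ fun I => by
    obtain ⟨ι, p, hp⟩ := h _ (Groth.Agent.QC.isQCoh_idealMod I)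
    let σ : SheafOfModules.GeneratingSections.{u} (ClSub.idealMod I) :=
      { I := ι, s := (ClSub.idealMod I).freeHomEquiv p, epi := by rw [Equiv.symm_apply_apply]; exact hp }
    intro x _ U t hxU
    obtain ⟨W, hW, hxW, hm⟩ := Groth.Agent.RefStalk.exists_mem_span σ t hxU
    refine ⟨W, hW, le_top, hxW, Submodule.span_mono ?_ hm⟩
    rintro _ ⟨i, rfl⟩
    exact ⟨_, rfl⟩
  exact Scheme.IsQuasiAffine.of_isImmersion X.topIso.inv

end Groth.Agent.S16909
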