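import Groth.Statements.S16916
import Groth.Agent.QuotDiag.Basic

set_option autoImplicit false
set_option backward.isDefEq.respectTransparency false
set_option backward.isDefEq.respectTransparency.types false
universe u
open CategoryTheory CategoryTheory.Limits AlgebraicGeometry MonoidalCategory
open ResProp

namespace Groth.Agent.S16916

/-- Let `G` be a group scheme over a scheme `S`, affine, flat and locally of finite presentation over
`S`, acting on a scheme `X` quasi-compact and quasi-separated over `S`. Then the quotient stack
`[X/G]` (fppf `G`-torsors given as schemes with an equivariant morphism to `X`) has quasi-affine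
diagonal over `S`: its diagonal over `(Sch/S)` is representable by algebraic spaces and
quasi-affine. (The published statement is for an arbitrary property of morphisms of stacks that is
stable under base change and fppf local on the base: for a quasi-compact quasi-separated algebraic
stack `X` over `S` acted on by a separated, flat, finitely presented group algebraic space `G` such
that `G → S` has the property, the diagonal of `[X/G]` over `S` has it as soon as the diagonal of
`X` over `S` does; here the property is quasi-affine, `X` and `G` are schemes over a scheme `S` with
`G` affine, and the diagonal of `X` over `S` is quasi-affine because `X` is quasi-separated over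
`S`.) -/
theorem result (S : Scheme.{u}) (G : Over S) [GrpObj G]
    [IsAffineHom G.hom] [Flat G.hom] [LocallyOfFinitePresentation G.hom]
    (X : Over S) [QuasiCompact X.hom] [QuasiSeparated X.hom] (aX : AlgGrp.Action G X) :
    AlgSt.RepByAlgSpWith AlgSp.IsQuasiAffineMor
      (FibCat.diag (FibCat.toSelf (AlgSt.QuotSt Scheme.fppfPrecoverage G aX))) := by
  haveI : MorphismProperty.IsStableUnderComposition (Groth.Agent.AlgSpLib.qaMor.{u}) := ⟨fun f g hf hg => Groth.Agent.QA.comp hf hg⟩
  haveI : IsImmersion (pullback.diagonal X.hom) := inferInstance
  have hX : Groth.Agent.AlgSpLib.qaMor (pullback.diagonal X.hom) := ⟨inferInstance, fun V hV => by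
    have : IsAffine V.toScheme := hV
    have : CompactSpace ((pullback.diagonal X.hom) ⁻¹ᵁ V).toScheme := isCompact_iff_compactSpace.mp
      (QuasiCompact.isCompact_preimage (f := pullback.diagonal X.hom) _ V.2 hV.isCompact)
    exact .of_isImmersion ((pullback.diagonal X.hom) ∣_ V)⟩
  refine Groth.Agent.AlgStLib.repWith_mono (Groth.Agent.QuotDiag.repWith_diag_quot Groth.Agent.AlgSpLib.qaMor
    Groth.Agent.QuotEtale.isAlgStack_fppf.diag (fun A B r hr => ?_) (fun A B r hr => Groth.Agent.QA.IndQA.of_isQuasiAffineHom r hr) hX)
    fun F U a _ ha => (Groth.Agent.AlgSpLib.isQuasiAffineMor_iff_repWith a).2 ha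
  refine ⟨inferInstance, fun V hV => ?_⟩
  have : IsAffine (r ⁻¹ᵁ V).toScheme := hV.preimage r
  infer_instance

end Groth.Agent.S16916
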