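import Groth.Statements.S16917
import Groth.Agent.UncountAvoid.Basic

set_option autoImplicit false
open CategoryTheory AlgebraicGeometry
universe u
open Variety

set_option backward.isDefEq.respectTransparency false
namespace Groth.Agent.S16917

/-- Let k be an uncountable algebraically closed field, X a k-scheme of finite type and Z₀, Z₁, …
countably many closed subsets of X. Then the countable union of the Zₙ, read through closed points,
has a unique irredundant decomposition: there is exactly one countable family S of irreducible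
closed subsets of X, pairwise not contained in one another, such that a closed point of X lies in
some member of S if and only if it lies in some Zₙ. (The published statement is the existence and
uniqueness of the irredundant decomposition of a countable union of algebraic varieties into
c-components, a variety being read through its closed points; with all points of the scheme the
uniqueness would not need the uncountable field.) -/
theorem result (k : Type u) [Field k] [IsAlgClosed k]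
    [Uncountable k] (X : Scheme.{u}) (sX : X ⟶ Spec (CommRingCat.of k)) [LocallyOfFiniteType sX]
    [QuasiCompact sX] (Z : ℕ → TopologicalSpace.Closeds X) :
    ∃! S : Set (TopologicalSpace.Closeds X), S.Countable ∧ (∀ T ∈ S, IsIrreducible (T : Set X)) ∧
      IsAntichain (· ≤ ·) S ∧
      {x : X | IsClosed ({x} : Set X) ∧ ∃ T ∈ S, x ∈ T} =
        {x : X | IsClosed ({x} : Set X) ∧ ∃ n, x ∈ Z n} := by
  classical
  haveI : IsLocallyNoetherian X := LocallyOfFiniteType.isLocallyNoetherian sX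
  haveI : CompactSpace ↥X := QuasiCompact.compactSpace_of_compactSpace sX
  haveI : IsNoetherian X := ⟨⟩
  have hdec : ∀ n, ∃ S : Set (TopologicalSpace.Closeds X), S.Finite ∧ (∀ t ∈ S, IsIrreducible (t : Set X)) ∧
      Z n = sSup S := fun n => TopologicalSpace.NoetherianSpace.exists_finite_set_closeds_irreducible (Z n)
  choose C hCf hCi hCs using hdec
  let Fam := ⋃ n, C n
  have hle : ∀ n, ∀ T ∈ C n, T ≤ Z n := fun n T hT => (hCs n).symm ▸ le_sSup hT
  have hcov : ∀ n x, x ∈ Z n → ∃ T ∈ C n, x ∈ T := fun n x hx => by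
    rw [hCs n, ← (hCf n).coe_toFinset, ← Finset.sup_id_eq_sSup] at hx
    rw [← SetLike.mem_coe, TopologicalSpace.Closeds.coe_finset_sup, Finset.sup_set_eq_biUnion, Set.mem_iUnion₂] at hx
    obtain ⟨T, hT, hxT⟩ := hx
    exact ⟨T, (hCf n).mem_toFinset.1 hT, hxT⟩
  let S := {T ∈ Fam | ∀ T' ∈ Fam, T ≤ T' → T' ≤ T}
  have hFi : ∀ T ∈ Fam, IsIrreducible (T : Set X) := fun T hT => by
    obtain ⟨n, hn⟩ := Set.mem_iUnion.1 hT
    exact hCi n T hn
  have hmax : ∀ T ∈ Fam, ∃ T' ∈ S, T ≤ T' := by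
    intro T hT
    have hiT := hFi T hT
    obtain ⟨W, hW, hxW, -⟩ := exists_isAffineOpen_mem_and_subset
      (show hiT.genericPoint ∈ (⊤ : X.Opens) from trivial)
    haveI : IsNoetherianRing Γ(X, W) := IsLocallyNoetherian.component_noetherian ⟨W, hW⟩
    have hgen : ∀ T' ∈ Fam, T ≤ T' → ∃ q : PrimeSpectrum Γ(X, W), IsGenericPoint (hW.fromSpec q) (T' : Set X) := by
      intro T' hT' hTT'
      have hg := (hFi T' hT').isGenericPoint_genericPoint_closure
      rw [T'.isClosed.closure_eq] at hg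
      have hx : hiT.genericPoint ∈ (T' : Set X) := hTT' (by
        have := hiT.isGenericPoint_genericPoint_closure.mem
        rwa [T.isClosed.closure_eq] at this)
      have hmem : (hFi T' hT').genericPoint ∈ W := (hg.specializes hx).mem_open W.2 hxW
      refine ⟨hW.primeIdealOf ⟨_, hmem⟩, ?_⟩
      rw [hW.fromSpec_primeIdealOf ⟨_, hmem⟩]
      exact hg
    choose q hq using hgen
    have hne : ∃ m : ℕ, ∃ T' : TopologicalSpace.Closeds X, ∃ (h1 : T' ∈ Fam) (h2 : T ≤ T'),
        (q T' h1 h2).asIdeal.height = m := by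
      refine ⟨(q T hT le_rfl).asIdeal.height.toNat, T, hT, le_rfl, ?_⟩
      haveI := (q T hT le_rfl).2
      exact (ENat.coe_toNat Ideal.height_ne_top_of_isPrime).symm
    obtain ⟨T', h1, h2, h3⟩ := Nat.find_spec hne
    refine ⟨T', ⟨h1, fun T'' h4 h5 => ?_⟩, h2⟩
    by_contra h6
    have h7 : (q T'' h4 (h2.trans h5)).asIdeal < (q T' h1 h2).asIdeal := by
      have hs : hW.fromSpec (q T'' h4 (h2.trans h5)) ⤳ hW.fromSpec (q T' h1 h2) :=
        (hq T'' h4 (h2.trans h5)).specializes (h5 (hq T' h1 h2).mem)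
      refine lt_of_le_of_ne ((PrimeSpectrum.le_iff_specializes _ _).2
        (hW.fromSpec.isOpenEmbedding.isInducing.specializes_iff.1 hs)) fun he => h6 ?_
      have h8 := hq T'' h4 (h2.trans h5)
      rw [PrimeSpectrum.ext he] at h8
      show (T'' : Set X) ⊆ T'
      rw [← h8.def, (hq T' h1 h2).def]
    haveI := (q T'' h4 (h2.trans h5)).2
    haveI := (q T' h1 h2).2
    have h8 := Ideal.height_strict_mono_of_isPrime_of_isPrime h7
    have hfin : (q T'' h4 (h2.trans h5)).asIdeal.height ≠ ⊤ := Ideal.height_ne_top_of_isPrime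
    have h9 := Nat.find_min' hne (m := (q T'' h4 (h2.trans h5)).asIdeal.height.toNat)
      ⟨T'', h4, h2.trans h5, (ENat.coe_toNat hfin).symm⟩
    rw [h3, ← ENat.coe_toNat hfin, Nat.cast_lt] at h8
    omega
  have hpts : {x : X | IsClosed ({x} : Set X) ∧ ∃ T ∈ S, x ∈ T} = {x : X | IsClosed ({x} : Set X) ∧ ∃ n, x ∈ Z n} := by
    ext x
    refine and_congr_right fun _ => ⟨?_, ?_⟩
    · rintro ⟨T, hT, hxT⟩
      obtain ⟨n, hn⟩ := Set.mem_iUnion.1 hT.1
      exact ⟨n, hle n T hn hxT⟩
    · rintro ⟨n, hn⟩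
      obtain ⟨T, hT, hxT⟩ := hcov n x hn
      obtain ⟨T', hT', hTT'⟩ := hmax T (Set.mem_iUnion.2 ⟨n, hT⟩)
      exact ⟨T', hT', hTT' hxT⟩
  have hanti : IsAntichain (· ≤ ·) S := fun T hT T' hT' hne hle' => hne (le_antisymm hle' (hT.2 T' hT'.1 hle'))
  have hScount : S.Countable := (Set.countable_iUnion fun n => (hCf n).countable).mono fun T hT => hT.1
  refine ⟨S, ⟨hScount, fun T hT => hFi T hT.1, hanti, hpts⟩, fun S' ⟨hc, hi, ha, hp⟩ => ?_⟩
  have key : ∀ (A B : Set (TopologicalSpace.Closeds X)), B.Countable →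
      {x : X | IsClosed ({x} : Set X) ∧ ∃ T ∈ A, x ∈ T} = {x : X | IsClosed ({x} : Set X) ∧ ∃ T ∈ B, x ∈ T} →
      ∀ T ∈ A, IsIrreducible (T : Set X) → ∃ T' ∈ B, T ≤ T' := by
    intro A B hB hAB T hT hTi
    obtain ⟨f, hf⟩ := (hB.insert ⊥).exists_eq_range ⟨⊥, Set.mem_insert _ _⟩
    obtain ⟨n, hn⟩ := Groth.Agent.UncountAvoid.exists_subset_of_closedPoints sX hTi f fun x hx hxT => by
      obtain ⟨-, T', hT', hxT'⟩ := (Set.ext_iff.1 hAB x).1 ⟨hx, T, hT, hxT⟩
      obtain ⟨n, rfl⟩ : T' ∈ Set.range f := hf ▸ Set.mem_insert_of_mem _ hT'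
      exact ⟨n, hxT'⟩
    rcases (hf.symm ▸ Set.mem_range_self n : f n ∈ insert ⊥ B) with h0 | h0
    · exact absurd (hn hTi.nonempty.some_mem) (by rw [h0]; simp)
    · exact ⟨f n, h0, hn⟩
  have e := hp.trans hpts.symm
  refine Set.ext fun T => ⟨fun hT => ?_, fun hT => ?_⟩
  · obtain ⟨T₁, h₁, l₁⟩ := key S' S hScount e T hT (hi T hT)
    obtain ⟨T₂, h₂, l₂⟩ := key S S' hc e.symm T₁ h₁ (hFi T₁ h₁.1)
    obtain rfl := ha.eq hT h₂ (l₁.trans l₂)
    rwa [le_antisymm l₁ l₂]
  · obtain ⟨T₁, h₁, l₁⟩ := key S S' hc e.symm T hT (hFi T hT.1)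
    obtain ⟨T₂, h₂, l₂⟩ := key S' S hScount e T₁ h₁ (hi T₁ h₁)
    obtain rfl := hanti.eq hT h₂ (l₁.trans l₂)
    rwa [le_antisymm l₁ l₂]

end Groth.Agent.S16917
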