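import Groth.Statements.S16919
import Mathlib
-- import your own Groth.Agent.* helpers here

set_option autoImplicit false
universe u
open TensorProduct
open CAlg

namespace Groth.Agent.S16919

section aux

open Cardinal

theorem cardinal_eq_of_finite_add {a b : Cardinal.{u}} (ha : a < ℵ₀) (h : ℵ₀ ≤ a + b) : a + b = b := by
  have hb : ℵ₀ ≤ b := by
    by_contra hb; exact absurd (Cardinal.add_lt_aleph0 ha (not_le.1 hb)) (not_lt.2 h)
  exact Cardinal.add_eq_right hb (ha.le.trans hb)

theorem exists_algEquiv_of_trdeg_eq (F K L : Type u) [Field F] [Field K] [Field L] [Algebra F K] [Algebra F L]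
    [IsAlgClosed K] [IsAlgClosed L] (h : Algebra.trdeg F K = Algebra.trdeg F L) : Nonempty (K ≃ₐ[F] L) := by
  obtain ⟨s, hs⟩ := exists_isTranscendenceBasis F K
  obtain ⟨t, ht⟩ := exists_isTranscendenceBasis F L
  obtain ⟨e⟩ := Cardinal.eq.1 ((hs.cardinalMk_eq_trdeg.trans h).trans ht.cardinalMk_eq_trdeg.symm)
  let g : Algebra.adjoin F (Set.range (Subtype.val : s → K)) ≃ₐ[F] Algebra.adjoin F (Set.range (Subtype.val : t → L)) :=
    (hs.1.aevalEquiv.symm.trans (MvPolynomial.renameEquiv F e)).trans ht.1.aevalEquiv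
  letI := IsAlgClosed.isAlgClosure_of_transcendence_basis _ hs
  letI := IsAlgClosed.isAlgClosure_of_transcendence_basis _ ht
  let E : K ≃+* L := IsAlgClosure.equivOfEquiv K L g.toRingEquiv
  refine ⟨AlgEquiv.ofRingEquiv (f := E) fun x => ?_⟩
  have h1 : algebraMap F K x = algebraMap (Algebra.adjoin F (Set.range (Subtype.val : s → K))) K (algebraMap F _ x) := rfl
  rw [h1, IsAlgClosure.equivOfEquiv_algebraMap]
  show algebraMap _ L (g (algebraMap F _ x)) = _
  rw [g.commutes]
  rfl

theorem aleph0_le_trdeg (k₀ k : Type u) [Field k₀] [Field k] [Algebra k₀ k] {x : ℕ → k}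
    (hx : AlgebraicIndependent k₀ x) : ℵ₀ ≤ Algebra.trdeg k₀ k := by
  have := hx.lift_cardinalMk_le_trdeg
  simpa using this

theorem exists_ringEquiv_extending (k₀ R₀ k Ω : Type u) [Field k₀] [CommRing R₀] [IsDomain R₀] [Algebra k₀ R₀]
    [Algebra.FiniteType k₀ R₀] [Field k] [Algebra k₀ k] [IsAlgClosed k] [Field Ω] [Algebra k₀ Ω] [IsAlgClosed Ω]
    (ρ : R₀ →ₐ[k₀] k) (hρ : Function.Injective ρ) (σ : R₀ →ₐ[k₀] Ω) (hσ : Function.Injective σ)
    (hk : ℵ₀ ≤ Algebra.trdeg k₀ k) (hΩ : Algebra.trdeg k₀ Ω = Algebra.trdeg k₀ k) :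
    ∃ e : Ω ≃+* k, ∀ r, e (σ r) = ρ r := by
  let F := FractionRing R₀
  let ρ' : F →ₐ[k₀] k := IsFractionRing.liftAlgHom hρ
  let σ' : F →ₐ[k₀] Ω := IsFractionRing.liftAlgHom hσ
  letI : Algebra F k := ρ'.toAlgebra
  letI : Algebra F Ω := σ'.toAlgebra
  haveI : IsScalarTower k₀ F k := IsScalarTower.of_algebraMap_eq fun c => (ρ'.commutes c).symm
  haveI : IsScalarTower k₀ F Ω := IsScalarTower.of_algebraMap_eq fun c => (σ'.commutes c).symm
  haveI : Algebra.IsAlgebraic R₀ F := IsLocalization.isAlgebraic _ (nonZeroDivisors _)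
  have hF : Algebra.trdeg k₀ F < ℵ₀ := by
    rw [← trdeg_add_eq (R := k₀) (S := R₀) (A := F), trdeg_eq_zero (R := R₀), add_zero]
    exact trdeg_lt_aleph0_of_finiteType
  have h1 := trdeg_add_eq (R := k₀) (S := F) (A := k)
  have h2 := trdeg_add_eq (R := k₀) (S := F) (A := Ω)
  rw [cardinal_eq_of_finite_add hF (h1 ▸ hk)] at h1
  rw [cardinal_eq_of_finite_add hF (by rw [h2, hΩ]; exact hk)] at h2
  obtain ⟨e⟩ := exists_algEquiv_of_trdeg_eq F Ω k (h2.trans (hΩ.trans h1.symm))
  refine ⟨e.toRingEquiv, fun r => ?_⟩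
  have h3 : σ' (algebraMap R₀ F r) = σ r := IsFractionRing.lift_algebraMap hσ r
  have h4 : ρ' (algebraMap R₀ F r) = ρ r := IsFractionRing.lift_algebraMap hρ r
  exact (congrArg e h3.symm).trans ((e.commutes (algebraMap R₀ F r)).trans h4)

end aux

open scoped Cardinal

/-- Let k₀ → k be an extension of fields with k algebraically closed and of infinite transcendence
degree over k₀, R₀ a finitely generated k₀-algebra whose base change R = k ⊗ R₀ is an integral
domain (so Spec R is an integral affine k-scheme of finite type with the model Spec R₀ over k₀), and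
P a k-point of Spec R, i.e. a k-algebra homomorphism ev : R → k, lying over the generic point of
Spec R₀, i.e. with ev injective on R₀. Then there is a field isomorphism e from an algebraic closure
of the fraction field of R (the function field of Spec R) onto k such that e(1 ⊗ r) = ev(1 ⊗ r) for
every r in R₀: e extends evaluation at P on R₀. (The published setting has k algebraically closed of
characteristic zero and of infinite transcendence degree over its prime field, and k₀ the subfield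
generated by the coefficients of equations of Spec R, which is finitely generated over the prime
field, so that k has infinite transcendence degree over k₀; only this last property and no
characteristic assumption enter here. The isomorphism is not canonical.) -/
theorem result (k₀ k : Type u)
    [Field k₀] [Field k] [Algebra k₀ k] [IsAlgClosed k] (hinf : ∃ x : ℕ → k, AlgebraicIndependent k₀ x)
    (R₀ : Type u) [CommRing R₀] [Algebra k₀ R₀] [Algebra.FiniteType k₀ R₀] [IsDomain (k ⊗[k₀] R₀)]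
    (ev : k ⊗[k₀] R₀ →ₐ[k] k) (hP : Function.Injective fun r : R₀ => ev (1 ⊗ₜ[k₀] r)) :
    ∃ e : AlgebraicClosure (FractionRing (k ⊗[k₀] R₀)) ≃+* k,
      ∀ r : R₀, e (algebraMap (k ⊗[k₀] R₀) (AlgebraicClosure (FractionRing (k ⊗[k₀] R₀)))
        (1 ⊗ₜ[k₀] r)) = ev (1 ⊗ₜ[k₀] r) := by
  obtain ⟨x, hx⟩ := hinf
  have hinj : Function.Injective (Algebra.TensorProduct.includeRight : R₀ →ₐ[k₀] k ⊗[k₀] R₀) :=
    fun a b hab => hP (show ev (1 ⊗ₜ a) = ev (1 ⊗ₜ b) from congrArg ev hab)
  haveI : IsDomain R₀ := hinj.isDomain (Algebra.TensorProduct.includeRight : R₀ →ₐ[k₀] k ⊗[k₀] R₀).toRingHom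
  let Ω := AlgebraicClosure (FractionRing (k ⊗[k₀] R₀))
  let ρ : R₀ →ₐ[k₀] k := (ev.restrictScalars k₀).comp Algebra.TensorProduct.includeRight
  let σ : R₀ →ₐ[k₀] Ω := (IsScalarTower.toAlgHom k₀ (k ⊗[k₀] R₀) Ω).comp Algebra.TensorProduct.includeRight
  have hΩinj : Function.Injective (algebraMap (k ⊗[k₀] R₀) Ω) := by
    rw [IsScalarTower.algebraMap_eq (k ⊗[k₀] R₀) (FractionRing (k ⊗[k₀] R₀)) Ω]
    exact (algebraMap (FractionRing (k ⊗[k₀] R₀)) Ω).injective.comp (IsFractionRing.injective _ _)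
  have hρ : Function.Injective ρ := hP
  have hσ : Function.Injective σ := hΩinj.comp hinj
  haveI : IsScalarTower k (FractionRing (k ⊗[k₀] R₀)) Ω := inferInstance
  haveI : Algebra.IsAlgebraic (k ⊗[k₀] R₀) (FractionRing (k ⊗[k₀] R₀)) := IsLocalization.isAlgebraic _ (nonZeroDivisors _)
  haveI : Algebra.IsAlgebraic (k ⊗[k₀] R₀) Ω :=
    Algebra.IsAlgebraic.trans (k ⊗[k₀] R₀) (FractionRing (k ⊗[k₀] R₀)) Ω
  haveI : FaithfulSMul (k ⊗[k₀] R₀) Ω := (faithfulSMul_iff_algebraMap_injective _ _).2 hΩinj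
  have hk : ℵ₀ ≤ Algebra.trdeg k₀ k := aleph0_le_trdeg k₀ k hx
  have hΩ : Algebra.trdeg k₀ Ω = Algebra.trdeg k₀ k := by
    haveI : FaithfulSMul k (k ⊗[k₀] R₀) := (faithfulSMul_iff_algebraMap_injective _ _).2 (RingHom.injective _)
    have h : Algebra.trdeg k Ω < ℵ₀ := by
      rw [← trdeg_add_eq (R := k) (S := k ⊗[k₀] R₀) (A := Ω), trdeg_eq_zero (R := k ⊗[k₀] R₀), add_zero]
      exact trdeg_lt_aleph0_of_finiteType
    rw [← trdeg_add_eq (R := k₀) (S := k) (A := Ω)]
    exact Cardinal.add_eq_left hk (h.le.trans hk)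
  exact exists_ringEquiv_extending k₀ R₀ k Ω ρ hρ σ hσ hk hΩ

end Groth.Agent.S16919
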