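import Groth.Statements.S1693
import Mathlib

set_option autoImplicit false
universe u
open CategoryTheory CategoryTheory.Limits AlgebraicGeometry TopologicalSpace
open SDiv

namespace Groth.Agent.S1693

/-- Let X be a locally Noetherian scheme and Z a closed subset. Then the irreducible components of Z
form a locally finite family of subsets of X. -/
theorem result (X : Scheme.{u}) [IsLocallyNoetherian X] (Z : Set ↥X) (hZ : IsClosed Z) :
    LocallyFinite (fun T : ↥(irreducibleComponents ↥Z) => ((↑) '' (T.1 : Set ↥Z) : Set ↥X)) := by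
  intro x
  obtain ⟨U, hU, hxU, -⟩ := exists_isAffineOpen_mem_and_subset (X := X) (U := ⊤) (trivial : x ∈ (⊤ : X.Opens))
  have : IsNoetherianRing Γ(X, U) := IsLocallyNoetherian.component_noetherian ⟨U, hU⟩
  have hN : NoetherianSpace U := noetherianSpace_of_isAffineOpen U hU
  let Z' : Set ↥Z := Subtype.val ⁻¹' (U : Set ↥X)
  have hZ' : IsOpen Z' := U.isOpen.preimage continuous_subtype_val
  have hZN : NoetherianSpace ↥Z' := by
    have h0 : Topology.IsInducing (fun z : ↥Z' => z.1.1) :=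
      Topology.IsInducing.subtypeVal.comp Topology.IsInducing.subtypeVal
    have h : Topology.IsInducing (fun z : ↥Z' => (⟨z.1.1, z.2⟩ : U)) :=
      (Topology.IsInducing.subtypeVal (t := (U : Set ↥X))).of_comp_iff.1 h0
    exact @Topology.IsInducing.noetherianSpace _ _ _ _ hN _ h
  refine ⟨U, U.isOpen.mem_nhds hxU, ?_⟩
  have hfin := NoetherianSpace.finite_irreducibleComponents (α := ↥Z')
  refine Set.Finite.of_finite_image (f := fun T => (Subtype.val ⁻¹' (T.1 : Set ↥Z) : Set ↥Z'))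
    (hfin.subset ?_) ?_
  · rintro _ ⟨T, hT, rfl⟩
    obtain ⟨_, ⟨z, hzT, rfl⟩, hzU⟩ := hT
    exact preimage_mem_irreducibleComponents T.2 hZ'.isOpenEmbedding_subtypeVal ⟨z, hzT, ⟨z, hzU⟩, rfl⟩
  · intro T hT T' hT' heq
    apply Subtype.ext
    have key : ∀ A : Set ↥Z, A ∈ irreducibleComponents ↥Z → (A ∩ Z').Nonempty → closure (A ∩ Z') = A :=
      fun A hA hne => by
        refine subset_antisymm ?_ (subset_closure_inter_of_isPreirreducible_of_isOpen hA.1.2 hZ' hne)
        exact closure_minimal Set.inter_subset_left (isClosed_of_mem_irreducibleComponents A hA)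
    have h1 : T.1 ∩ Z' = T'.1 ∩ Z' := by
      ext z
      exact ⟨fun hz => ⟨(Set.ext_iff.1 heq ⟨z, hz.2⟩).1 hz.1, hz.2⟩, fun hz => ⟨(Set.ext_iff.1 heq ⟨z, hz.2⟩).2 hz.1, hz.2⟩⟩
    have hne : ∀ T : ↥(irreducibleComponents ↥Z),
        (((↑) '' (T.1 : Set ↥Z) : Set ↥X) ∩ (U : Set ↥X)).Nonempty → (T.1 ∩ Z').Nonempty := by
      rintro T ⟨_, ⟨z, hz, rfl⟩, hzU⟩
      exact ⟨z, hz, hzU⟩
    rw [← key T.1 T.2 (hne T hT), ← key T'.1 T'.2 (hne T' hT'), h1]

end Groth.Agent.S1693
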