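import Groth.Statements.S16941
import Groth.Agent.FreeCurve.GeomFree

set_option linter.style.haveILetI false
set_option backward.isDefEq.respectTransparency false
set_option backward.isDefEq.respectTransparency.types false
set_option synthInstance.maxHeartbeats 400000
set_option maxHeartbeats 1000000

set_option autoImplicit false
universe u
open CategoryTheory CategoryTheory.Limits AlgebraicGeometry
open Curves

namespace Groth.Agent.S16941

/-- Let f : X → T be a smooth projective morphism with T locally Noetherian. Then the set of points t of
T such that the geometric fibre of f at t contains a free rational curve is open. Here the geometric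
fibre is the fibre product of f with Spec of an algebraic closure Ω of the residue field κ(t), and a
free rational curve on it is a nonconstant Ω-morphism g from the projective line such that
g^*Ω_{X_t̄/Ω} twisted by O(−1) has no nonzero global sections (equivalently g^*T is globally
generated). (The published statement is for a smooth proper morphism over an arbitrary base and says
that the fibre is separably uniruled; for a smooth proper variety over an algebraically closed field
separable uniruledness amounts to the existence of a free rational curve. This row assumes in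
addition that f is projective and T locally Noetherian.) -/
theorem result
    (T X : Scheme.{u}) (f : X ⟶ T) [IsLocallyNoetherian T] [Smooth f]
    (hproj : ∃ (N : ℕ) (ι : X ⟶ CohB1.ProjSpaceOver N T), IsClosedImmersion ι ∧ ι ≫ CohB1.ProjSpaceOver.toBase N T = f) :
    IsOpen {t : ↥T | ∃ g : CohB1.ProjSpace 1 (AlgebraicClosure ↥(T.residueField t)) ⟶ pullback f (Spec.map (CommRingCat.ofHom (algebraMap ↥(T.residueField t) (AlgebraicClosure ↥(T.residueField t)))) ≫ T.fromSpecResidueField t),
      g ≫ pullback.snd f (Spec.map (CommRingCat.ofHom (algebraMap ↥(T.residueField t) (AlgebraicClosure ↥(T.residueField t)))) ≫ T.fromSpecResidueField t) = CohB1.ProjSpace.toSpec 1 (AlgebraicClosure ↥(T.residueField t)) ∧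
      (¬ ∃ x : ↥(pullback f (Spec.map (CommRingCat.ofHom (algebraMap ↥(T.residueField t) (AlgebraicClosure ↥(T.residueField t)))) ≫ T.fromSpecResidueField t)), Set.range g.base ⊆ {x}) ∧
      Subsingleton (Coh.HH (CohB1.ProjSpace 1 (AlgebraicClosure ↥(T.residueField t)))
        (CohB1.tensorMod ((Scheme.Modules.pullback g).obj (Omega.sheaf (pullback.snd f (Spec.map (CommRingCat.ofHom (algebraMap ↥(T.residueField t) (AlgebraicClosure ↥(T.residueField t)))) ≫ T.fromSpecResidueField t))))
          (Twist.twistProjSpace 1 (AlgebraicClosure ↥(T.residueField t)) (-1))) 0)} := by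
  have key := FreeCurve.isOpen_geomSet f hproj (fun {S X} q {K} _ g => FreeCurve.Sep g ∧ FreeCurve.Good q g)
    (fun hsq _ _ _ _ _ h hh => and_congr (FreeCurve.sep_congr hsq h hh) (FreeCurve.good_congr hsq h))
    (fun p N hN1 hN _ _ _ q _ _ M v => by
      obtain ⟨A, hA⟩ := FreeCurve.exists_sep_open' v
      refine ⟨⟨FreeCurve.goodSet N v, FreeCurve.isOpen_goodSet hN v⟩ ⊓ A, Set.inter_subset_left,
        fun K _ _ x ε hε ⟨w⟩ => ?_⟩
      have hgood := FreeCurve.good_iff hN v (T := Over.mk (x ≫ M.hom))
        (Over.homMk x rfl) (Iso.refl _) ε (by simpa using hε) w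
      exact and_comm.trans (and_congr (hA K x ε hε) hgood.symm))
  refine (congrArg IsOpen ?_).mp key
  ext t
  refine exists_congr fun g => and_congr_right fun hg => and_congr_left fun _ => ?_
  obtain ⟨N, ι, hι, hιf⟩ := hproj
  haveI := hι
  haveI := HQProj.isProper_toBase N T
  haveI : IsProper f := hιf ▸ inferInstance
  haveI : IsSeparated (pullback.snd f (Spec.map (CommRingCat.ofHom (algebraMap ↥(T.residueField t)
      (AlgebraicClosure ↥(T.residueField t)))) ≫ T.fromSpecResidueField t)) :=
    MorphismProperty.pullback_snd _ _ inferInstance
  exact FreeCurve.sep_iff_nonconst g hg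

end Groth.Agent.S16941
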