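import Groth.Statements.S16942
import Groth.Agent.FreeCurve.GeomFree

set_option linter.style.haveILetI false
set_option backward.isDefEq.respectTransparency false
set_option backward.isDefEq.respectTransparency.types false
set_option synthInstance.maxHeartbeats 400000
set_option maxHeartbeats 1000000

set_option autoImplicit false
universe u
open CategoryTheory CategoryTheory.Limits AlgebraicGeometry
open Curves

namespace Groth.Agent.S16942

/-- Let f : X → T be a smooth projective morphism with T locally Noetherian. Then the set of points t of
T such that the geometric fibre of f at t carries a very free rational curve is open. Here the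
geometric fibre is the fibre product of f with Spec of an algebraic closure Ω of κ(t), and a very
free rational curve on it is an Ω-morphism g from the projective line such that g^*Ω_{X_t̄/Ω} has no
nonzero global sections (equivalently g^*T twisted by O(−1) is globally generated; a constant map
satisfies this only at a point where the fibre is zero-dimensional). (The published statement is for
a smooth proper morphism over an arbitrary base and says that the fibre is separably rationally
connected; for a smooth proper variety over an algebraically closed field this amounts to the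
existence of a very free rational curve. This row assumes in addition that f is projective and T
locally Noetherian.) -/
theorem result
    (T X : Scheme.{u}) (f : X ⟶ T) [IsLocallyNoetherian T] [Smooth f]
    (hproj : ∃ (N : ℕ) (ι : X ⟶ CohB1.ProjSpaceOver N T), IsClosedImmersion ι ∧ ι ≫ CohB1.ProjSpaceOver.toBase N T = f) :
    IsOpen {t : ↥T | ∃ g : CohB1.ProjSpace 1 (AlgebraicClosure ↥(T.residueField t)) ⟶ pullback f (Spec.map (CommRingCat.ofHom (algebraMap ↥(T.residueField t) (AlgebraicClosure ↥(T.residueField t)))) ≫ T.fromSpecResidueField t),
      g ≫ pullback.snd f (Spec.map (CommRingCat.ofHom (algebraMap ↥(T.residueField t) (AlgebraicClosure ↥(T.residueField t)))) ≫ T.fromSpecResidueField t) = CohB1.ProjSpace.toSpec 1 (AlgebraicClosure ↥(T.residueField t)) ∧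
      Subsingleton (Coh.HH (CohB1.ProjSpace 1 (AlgebraicClosure ↥(T.residueField t)))
        ((Scheme.Modules.pullback g).obj (Omega.sheaf (pullback.snd f (Spec.map (CommRingCat.ofHom (algebraMap ↥(T.residueField t) (AlgebraicClosure ↥(T.residueField t)))) ≫ T.fromSpecResidueField t)))) 0)} := by
  exact FreeCurve.isOpen_geomSet f hproj (fun {S X} q {K} _ g =>
      Subsingleton (Coh.HH (CohB1.ProjSpace 1 K) ((Scheme.Modules.pullback g).obj (Omega.sheaf q)) 0))
    (fun hsq _ _ _ _ _ h _ => by
      obtain ⟨c⟩ := FreeCurve.nonempty_pull_omega hsq h
      exact ⟨fun hh => CohQC.hh_subsingleton_of_iso c _ hh, fun hh => CohQC.hh_subsingleton_of_iso c.symm _ hh⟩)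
    (fun p N hN1 hN _ _ _ q _ _ M v => by
      obtain ⟨A, hA⟩ := FreeCurve.exists_open_hh0 (AVOmega.isFinLocFree_omega q) v
      refine ⟨⟨FreeCurve.goodSet N v, FreeCurve.isOpen_goodSet hN v⟩ ⊓ A, Set.inter_subset_left,
        fun K _ _ x ε hε ⟨w⟩ => ⟨fun h => (hA K x ε hε).1 h.2, fun h => ⟨?_, (hA K x ε hε).2 h⟩⟩⟩
      exact (FreeCurve.good_iff hN v (T := Over.mk (x ≫ M.hom))
        (Over.homMk x rfl) (Iso.refl _) ε (by simpa using hε) w).1 (FreeCurve.good_of_hh0 _ h))

end Groth.Agent.S16942
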