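import Groth.Prelude.Def_BlowUp2
import Groth.Agent.BlowUpExist.Affine

set_option backward.isDefEq.respectTransparency false
set_option backward.isDefEq.respectTransparency.types false
-- import your own Groth.Agent.* helpers here

set_option autoImplicit false
universe u
open CategoryTheory CategoryTheory.Limits AlgebraicGeometry TopologicalSpace
namespace SDiv
end SDiv
open SDiv

namespace Groth.Agent.S1695

/-- Let A be a ring, I an ideal, and b : X' ⟶ Spec A a blowing-up of Spec A along the ideal sheaf of I.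
Then every point of X' has an open neighbourhood which is isomorphic, over Spec A, to the spectrum
of an affine blow-up algebra A[I/a] for some a ∈ I. -/
theorem result (A : Type u) [CommRing A] (I : Ideal A) {X' : Scheme.{u}}
    (b : X' ⟶ Spec (CommRingCat.of A)) (hb : BlowUp.IsBlowUp b (Scheme.IdealSheafData.ofIdealTop (I.map (Scheme.ΓSpecIso (CommRingCat.of A)).inv.hom))) (x' : ↥X') :
    ∃ (a : A) (_ : a ∈ I) (V : X'.Opens) (e : (V : Scheme.{u}) ≅ Spec (CommRingCat.of ↥(BlowUp.affineAlgebra A I a))),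
      x' ∈ V ∧ e.hom ≫ Spec.map (CommRingCat.ofHom (algebraMap A ↥(BlowUp.affineAlgebra A I a))) = V.ι ≫ b := by
  classical
  have h0 := Groth.Agent.BlowUpExist.isBlowUp_affine I
  obtain ⟨k, hk, -⟩ := hb.2 _ (Groth.Agent.BlowUpExist.structMap I) h0.1
  obtain ⟨l, hl, -⟩ := h0.2 _ b hb.1
  haveI : IsIso k := ⟨l,
    (h0.2 _ _ h0.1).unique (by rw [Category.assoc, hl, hk]) (Category.id_comp _),
    (hb.2 _ _ hb.1).unique (by rw [Category.assoc, hk, hl]) (Category.id_comp _)⟩
  obtain ⟨a, ha, hp⟩ := Groth.Agent.BlowUpExist.exists_chart I (inv k x')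
  let R := BlowUp.affineAlgebra A I a
  let ψ : A →+* R := algebraMap A R
  have hu : IsUnit ((ψ a : R) : Localization.Away a) := IsLocalization.Away.algebraMap_isUnit a
  have hnzd : ψ a ∈ nonZeroDivisors R := by
    suffices h : ∀ z : R, z * ψ a = 0 → z = 0 from ⟨fun z hz => h z ((mul_comm z (ψ a)).trans hz), h⟩
    intro z hz
    exact Subtype.ext ((hu.mul_left_eq_zero).1 (congrArg Subtype.val hz))
  have hfrac : ∀ x ∈ I, ∃ q : R, (q : Localization.Away a) =
      IsLocalization.mk' (Localization.Away a) x ⟨a, Submonoid.mem_powers a⟩ ∧ q * ψ a = ψ x := fun x hx =>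
    ⟨⟨_, Algebra.subset_adjoin ⟨x, hx, rfl⟩⟩, rfl,
      Subtype.ext (IsLocalization.mk'_spec (Localization.Away a) x ⟨a, Submonoid.mem_powers a⟩)⟩
  have hgen : I.map ψ = Ideal.span {ψ a} := le_antisymm (Ideal.map_le_iff_le_comap.2 fun x hx => by
      obtain ⟨q, -, hq⟩ := hfrac x hx
      exact Ideal.mem_span_singleton'.2 ⟨q, hq⟩)
    ((Ideal.span_singleton_le_iff_mem _).2 (Ideal.mem_map_of_mem _ ha))
  obtain ⟨χ, hχ⟩ := Groth.Agent.BlowUpExist.exists_chartHom I a ha ψ hnzd hgen
  have hψ : ∀ x, χ (Groth.Agent.BlowUpExist.fromA I a ha x) = ψ x := fun x => DFunLike.congr_fun hχ x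
  have hinj : Function.Injective χ := by
    rw [injective_iff_map_eq_zero]
    intro z hz
    obtain ⟨n, w, hw, rfl⟩ := HomogeneousLocalization.Away.mk_surjective _ (Groth.Agent.BlowUpExist.tt_mem I a ha) z
    have h1 := Groth.Agent.BlowUpExist.val_mul_pow I a ha n w hw
    have h2 := congrArg χ h1
    rw [map_mul, hz, zero_mul, hψ] at h2
    obtain ⟨⟨_, m, rfl⟩, hm⟩ := (IsLocalization.map_eq_zero_iff (Submonoid.powers a) (Localization.Away a) _).1
      (congrArg Subtype.val h2.symm)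
    have key : ∀ {C : Type u} [CommRing C] (f : A →+* C) (z : C),
        z * f (a ^ n) = f (Groth.Agent.BlowUpExist.ev1 I w) → z * f a ^ (n + m) = 0 := by
      intro C _ f z hz'
      rw [← map_pow, pow_add, map_mul, ← mul_assoc, hz', ← map_mul, mul_comm]
      exact (congrArg f hm).trans (map_zero f)
    exact (mem_nonZeroDivisors_iff.1 (pow_mem (Groth.Agent.BlowUpExist.fromA_mem_nonZeroDivisors I a ha) (n + m))).2 _
      (key (Groth.Agent.BlowUpExist.fromA I a ha) _ h1)
  have hsurj : Function.Surjective χ := by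
    rintro ⟨y, hy⟩
    induction hy using Algebra.adjoin_induction with
    | mem y hy =>
      obtain ⟨x, hx, rfl⟩ := hy
      obtain ⟨q, hq, hqa⟩ := hfrac x hx
      refine ⟨HomogeneousLocalization.Away.mk _ (Groth.Agent.BlowUpExist.tt_mem I a ha) 1
        (Groth.Agent.BlowUpExist.tt I x hx) (by simpa using Groth.Agent.BlowUpExist.tt_mem I x hx), ?_⟩
      have h1 := congrArg χ (Groth.Agent.BlowUpExist.val_mul_pow I a ha 1 (Groth.Agent.BlowUpExist.tt I x hx)
        (by simpa using Groth.Agent.BlowUpExist.tt_mem I x hx))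
      rw [map_mul, hψ, hψ, pow_one, Groth.Agent.BlowUpExist.ev1_tt, ← hqa] at h1
      exact ((mul_cancel_right_mem_nonZeroDivisors hnzd).1 h1).trans (Subtype.ext hq)
    | algebraMap r => exact ⟨_, hψ r⟩
    | add y z hy' hz' ihy ihz =>
      obtain ⟨p₁, h₁⟩ := ihy
      obtain ⟨p₂, h₂⟩ := ihz
      exact ⟨p₁ + p₂, (map_add χ p₁ p₂).trans (by rw [h₁, h₂]; rfl)⟩
    | mul y z hy' hz' ihy ihz =>
      obtain ⟨p₁, h₁⟩ := ihy
      obtain ⟨p₂, h₂⟩ := ihz
      exact ⟨p₁ * p₂, (map_mul χ p₁ p₂).trans (by rw [h₁, h₂]; rfl)⟩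
  let c : Spec (CommRingCat.of R) ≅ Spec (CommRingCat.of _) :=
    Scheme.Spec.mapIso (RingEquiv.ofBijective χ ⟨hinj, hsurj⟩).toCommRingCatIso.op
  let j : Spec (CommRingCat.of R) ⟶ X' := c.hom ≫ Groth.Agent.BlowUpExist.chart I a ha ≫ k
  have hj : j ≫ b = Spec.map (CommRingCat.ofHom (algebraMap A R)) := by
    simp only [j, Category.assoc, hk, Groth.Agent.BlowUpExist.chart_structMap]
    change Spec.map (CommRingCat.ofHom χ) ≫ _ = _
    rw [← Spec.map_comp, ← CommRingCat.ofHom_comp, hχ]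
  let e := IsOpenImmersion.isoOfRangeEq j.opensRange.ι j (by rw [Scheme.Opens.range_ι]; rfl)
  refine ⟨a, ha, j.opensRange, e, ?_, ?_⟩
  · obtain ⟨z, hz⟩ := hp
    refine ⟨c.inv z, ?_⟩
    simp only [j, ← Scheme.Hom.comp_apply, Iso.inv_hom_id_assoc]
    rw [Scheme.Hom.comp_apply, hz, ← Scheme.Hom.comp_apply, IsIso.inv_hom_id]
    rfl
  · rw [← hj, ← Category.assoc, IsOpenImmersion.isoOfRangeEq_hom_fac]

end Groth.Agent.S1695
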