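import Groth.Statements.S16951
import Groth.Agent.W7Strat.SeeBC
import Groth.Agent.TMul.Pullback

set_option autoImplicit false
universe u
open PicF

set_option backward.isDefEq.respectTransparency false
set_option backward.isDefEq.respectTransparency.types false

namespace Groth.Agent.S16951

open AlgebraicGeometry CategoryTheory Scheme.Modules in
/-- Let f : X → S be a proper flat morphism of locally Noetherian schemes whose fibres are geometrically
integral, and let L be an invertible O_X-module with an inverse M (an isomorphism L ⊗ M ≅ O_X). Then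
the following are equivalent: (a) L ≅ f^* L₀ for some invertible O_S-module L₀; (b) for N = L and
for N = M, at every point s of S the space H^0(X_s, N|_{X_s}) of sections over the scheme-theoretic
fibre is nonzero and the degree-0 base change map of the fibre square, κ(s)^* f_* N → (X_s → Spec
κ(s))_* (N|_{X_s}), is an epimorphism. When this holds, dim_{κ(s)} H^0(X_s, N|_{X_s}) = 1 for every
s and both N, the counit f^* f_* L → L is an isomorphism, and any invertible L₀ with L ≅ f^* L₀ is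
isomorphic to f_* L. -/
theorem result
    {X S : Scheme.{u}} (f : X ⟶ S) [IsProper f] [Flat f] [IsLocallyNoetherian X] [IsLocallyNoetherian S]
    [GeometricallyIntegral f] (L M : X.Modules) (hL : PicF.IsInvertible L)
    (hM : Nonempty (CohB1.tensorMod L M ≅ Coh.structureModule X)) :
    ((∃ L₀ : S.Modules, PicF.IsInvertible L₀ ∧ Nonempty (L ≅ (pullback f).obj L₀)) ↔
      ((∀ s : S, Nontrivial (CohIII.fiberH f L s 0)) ∧ (∀ s : S, Nontrivial (CohIII.fiberH f M s 0)) ∧
        (∀ s : S, Epi (CohBC.bc0 f (S.fromSpecResidueField s) (f.fiberToSpecResidueField s) (f.fiberι s) (f.fiber_fac s) L)) ∧ (∀ s : S, Epi (CohBC.bc0 f (S.fromSpecResidueField s) (f.fiberToSpecResidueField s) (f.fiberι s) (f.fiber_fac s) M)))) ∧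
    (((∀ s : S, Nontrivial (CohIII.fiberH f L s 0)) ∧ (∀ s : S, Nontrivial (CohIII.fiberH f M s 0)) ∧
        (∀ s : S, Epi (CohBC.bc0 f (S.fromSpecResidueField s) (f.fiberToSpecResidueField s) (f.fiberι s) (f.fiber_fac s) L)) ∧ (∀ s : S, Epi (CohBC.bc0 f (S.fromSpecResidueField s) (f.fiberToSpecResidueField s) (f.fiberι s) (f.fiber_fac s) M))) →
      (∀ s : S, CohIII.fiberRank f L 0 s = 1 ∧ CohIII.fiberRank f M 0 s = 1) ∧
      IsIso ((pullbackPushforwardAdjunction f).counit.app L) ∧
      ∀ L₀ : S.Modules, PicF.IsInvertible L₀ → Nonempty (L ≅ (pullback f).obj L₀) →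
        Nonempty (L₀ ≅ (pushforward f).obj L)) := by
  haveI : LocallyOfFinitePresentation f := InfLift.lfp_of_lft f
  haveI := W7See.geometricallyConnected_of_geometricallyIntegral f
  obtain ⟨ε⟩ := hM
  have hMi : PicF.IsInvertible M := Intersect.isInvertible_inverse hL ⟨ε⟩
  have hy : ∀ s : S, Function.Bijective ((f.fiberToSpecResidueField s).appTop.hom.comp
      (Scheme.ΓSpecIso (S.residueField s)).inv.hom) := W7See.bijective_fiber f
  have hb : ∀ W : S.Opens, Function.Bijective (f.app W).hom := fun W =>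
    W7See.app_bijective_of_local f (fun t => W7Hull.exists_nhd_app_bijective_of_lfp f t (hy t)) W
  have props : ∀ N : X.Modules, PicF.IsInvertible N →
      Coh.IsQCoh N ∧ CohB1.IsFP N ∧ FlatMod.IsFlatOver f N := fun N hN =>
    ⟨TMul.isQCoh_of_isInvertible hN, W7Hull.isFP_of_isInvertible hN, W7Hull.isFlatOver_of_isInvertible f hN⟩
  have hbc : ∀ N : X.Modules, PicF.IsInvertible N → (∀ s : S, ∃ (V : S.Opens) (g : Γ(N, f ⁻¹ᵁ V)), s ∈ V ∧ TMul.IsGen g) →
      ∀ s : S, Epi (CohBC.bc0 f (S.fromSpecResidueField s) (f.fiberToSpecResidueField s) (f.fiberι s) (f.fiber_fac s) N) := by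
    intro N hN hgen s
    obtain ⟨hq, hF, hfl⟩ := props N hN
    haveI := W7Strat.isIso_bc0_of_forall_epi f hq hfl (fun t => by
      obtain ⟨V, g, ht, hg⟩ := hgen t
      obtain ⟨W, htW, hW⟩ := W7Strat.exists_nhd_epi_of_gen f hN hq hF hfl ht hg
      obtain ⟨U, hU, htU, hUW⟩ := exists_isAffineOpen_mem_and_subset (X := S) (x := t) (U := W) htW
      obtain ⟨m⟩ := W7Cech.nonempty_ModelNN f hq hF hfl hU
      exact ⟨U, hU, m, htU, hW U hU hUW m⟩) (S.fromSpecResidueField s) (f.fiberToSpecResidueField s) (f.fiberι s)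
      (IsPullback.of_hasPullback f (S.fromSpecResidueField s))
    infer_instance
  have hH : ∀ (N : X.Modules) (s : S), Nonempty (CohIII.fiberMod f N s ≅ Coh.structureModule (f.fiber s)) →
      CohIII.fiberRank f N 0 s = 1 ∧ Nontrivial (CohIII.fiberH f N s 0) := by
    intro N s hi
    have h1 := W7See.fiberRank_eq_one f N s (hy s) hi.some
    exact ⟨h1, Module.nontrivial_of_finrank_eq_succ (R := S.residueField s) (n := 0) h1⟩
  have hrev : ((∀ s : S, Nontrivial (CohIII.fiberH f L s 0)) ∧ (∀ s : S, Nontrivial (CohIII.fiberH f M s 0)) ∧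
      (∀ s : S, Epi (CohBC.bc0 f (S.fromSpecResidueField s) (f.fiberToSpecResidueField s) (f.fiberι s) (f.fiber_fac s) L)) ∧
      (∀ s : S, Epi (CohBC.bc0 f (S.fromSpecResidueField s) (f.fiberToSpecResidueField s) (f.fiberι s) (f.fiber_fac s) M))) →
      (∀ s : S, CohIII.fiberRank f L 0 s = 1 ∧ CohIII.fiberRank f M 0 s = 1) ∧
      PicF.IsInvertible ((Scheme.Modules.pushforward f).obj L) ∧
      IsIso ((Scheme.Modules.pullbackPushforwardAdjunction f).counit.app L) := by
    rintro ⟨h1, h2, h3, -⟩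
    have hfib : ∀ s : S, Nonempty (CohIII.fiberMod f L s ≅ Coh.structureModule (f.fiber s)) ∧
        Nonempty (CohIII.fiberMod f M s ≅ Coh.structureModule (f.fiber s)) := by
      intro s
      letI : (f.fiber s).Over (Spec (CommRingCat.of (S.residueField s))) := ⟨f.fiberToSpecResidueField s⟩
      have hsec : ∀ N : X.Modules, Nontrivial (CohIII.fiberH f N s 0) →
          ∃ a : Γ(CohIII.fiberMod f N s, ⊤), a ≠ 0 := fun N hN => by
        haveI := hN
        haveI : Nontrivial ((CohIII.globalSectionsA (S.residueField s)).obj (CohIII.fiberMod f N s) : Type u) :=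
          (W7Cech.gsH0L (S.residueField s) (CohIII.fiberMod f N s)).toEquiv.nontrivial
        obtain ⟨a, ha⟩ := exists_ne (0 : ((CohIII.globalSectionsA (S.residueField s)).obj (CohIII.fiberMod f N s) : Type u))
        exact ⟨a, ha⟩
      obtain ⟨a, ha⟩ := hsec L (h1 s)
      obtain ⟨b, hb'⟩ := hsec M (h2 s)
      have hunit : ∀ c : Γ(f.fiber s, ⊤), c ≠ 0 → IsUnit c := fun c hc => by
        obtain ⟨k, rfl⟩ := (hy s).2 c
        exact (isUnit_iff_ne_zero.2 fun h => hc (by rw [h, map_zero])).map _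
      have hε := (TMul.nonempty_pullTensorIso (f.fiberι s) L M).some ≪≫ (Scheme.Modules.pullback (f.fiberι s)).mapIso ε ≪≫
        PicLoc.pullbackStructureIso (f.fiberι s)
      have hL' := PicLoc.isInvertible_pullback (f.fiberι s) hL
      have hM' := PicLoc.isInvertible_pullback (f.fiberι s) hMi
      exact ⟨W7See.nonempty_iso_unit_of_sections hunit hL' hM' hε ha hb',
        W7See.nonempty_iso_unit_of_sections hunit hM' hL' (TMul.commIso _ _ ≪≫ hε) hb' ha⟩
    obtain ⟨hq, hF, hfl⟩ := props L hL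
    refine ⟨fun s => ⟨(hH L s (hfib s).1).1, (hH M s (hfib s).2).1⟩, W7See.seesaw_formal f hb L hL fun t => ?_⟩
    exact W7Hull.exists_gen_near_of_epi f L hL t (W7Cech.exists_nhd_epi f L hq hF hfl t (h3 t)) (hfib t).1.some
  refine ⟨⟨?_, fun h => ?_⟩, fun h => ⟨(hrev h).1, (hrev h).2.2, fun L₀ hL₀ ⟨e⟩ => ?_⟩⟩
  · rintro ⟨L₀, hL₀, ⟨e⟩⟩
    have hLgen : ∀ s : S, ∃ (V : S.Opens) (g : Γ(L, f ⁻¹ᵁ V)), s ∈ V ∧ TMul.IsGen g := fun s => by
      obtain ⟨V, g, hs, hg⟩ := TMul.exists_isGen hL₀ s
      exact ⟨V, _, hs, W7See.isGen_app e.symm (SymAlg.isGen_pullθ f (Iso.refl ((Scheme.Modules.pullback f).obj L₀))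
        (PicLoc.isInvertible_pullback f hL₀) (TMul.isQCoh_of_isInvertible hL₀) g hg)⟩
    have hMgen : ∀ s : S, ∃ (V : S.Opens) (g : Γ(M, f ⁻¹ᵁ V)), s ∈ V ∧ TMul.IsGen g := fun s => by
      obtain ⟨V, g, hs, hg⟩ := hLgen s
      obtain ⟨g', hg'⟩ := W7Strat.exists_gen_inverse f hL hMi ε hg
      exact ⟨V, g', hs, hg'⟩
    obtain ⟨hR, hc⟩ := W7See.seesaw_formal f hb M hMi hMgen
    haveI := hc
    let eM := asIso ((Scheme.Modules.pullbackPushforwardAdjunction f).counit.app M)
    exact ⟨fun s => (hH L s (W7See.nonempty_fiber_trivial f s e.symm hL₀)).2,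
      fun s => (hH M s (W7See.nonempty_fiber_trivial f s eM hR)).2, hbc L hL hLgen, hbc M hMi hMgen⟩
  · obtain ⟨-, hR, hc⟩ := hrev h
    haveI := hc
    exact ⟨_, hR, ⟨(asIso ((Scheme.Modules.pullbackPushforwardAdjunction f).counit.app L)).symm⟩⟩
  · haveI := W7Cech.isIso_unit_of_invertible f (W7Strat.push_structure_iso f hb).some hL₀
    exact ⟨asIso ((Scheme.Modules.pullbackPushforwardAdjunction f).unit.app L₀) ≪≫
      (Scheme.Modules.pushforward f).mapIso e.symm⟩

end Groth.Agent.S16951
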