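import Groth.Statements.S1696
import Groth.Agent.BlowUpLib.Cartier
import Groth.Agent.KFlat.Pullback
import Groth.Agent.W7Hull.Tilde

set_option autoImplicit false
universe u
open CategoryTheory CategoryTheory.Limits AlgebraicGeometry TopologicalSpace
open SDiv

set_option backward.isDefEq.respectTransparency false
set_option backward.isDefEq.respectTransparency.types false

namespace Groth.Agent.S1696

/-- Let b : S' → S be the blowing-up of a scheme S in a quasi-coherent sheaf of ideals 𝓘 and F a
quasi-coherent O_S-module which is flat at every point of V(𝓘), the support of O_S/𝓘. Then the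
pullback b^*F is its own strict transform (via the identity map): no nonzero local section of b^*F
is annihilated by a power of the exceptional ideal. -/
theorem result {S S' : Scheme.{u}} (𝓘 : S.IdealSheafData) (b : S' ⟶ S) (hb : BlowUp.IsBlowUp b 𝓘)
    (F : S.Modules) (hF : Coh.IsQCoh F) (hflat : ∀ s : ↥S, s ∈ 𝓘.support → FlatMod.IsFlatAt F s) :
    BlowUp.IsStrictTransform b 𝓘 F ((Scheme.Modules.pullback b).obj F) (𝟙 _) := by
  refine ⟨inferInstance, fun V m => ⟨fun h => ⟨0, fun a _ => ?_⟩, fun hm => ?_⟩⟩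
  · rw [show m = 0 from h, smul_zero]
  obtain ⟨n, hn⟩ := hm
  let M := (Scheme.Modules.pullback b).obj F
  show (𝟙 M : M ⟶ M).app V.1 m = 0
  rw [show (𝟙 M : M ⟶ M).app V.1 m = m from rfl]
  refine Groth.Agent.QC.section_eq_of_locally fun y hy => ?_
  suffices hg : M.presheaf.germ V.1 y hy m = 0 by
    obtain ⟨W, hyW, iWV, iWV', e⟩ := M.presheaf.germ_eq y hy hy m (0 : Γ(M, V.1)) (by rw [hg, map_zero])
    exact ⟨W, iWV.le, hyW, e.trans (by simp)⟩
  let stM : ModuleCat (S'.presheaf.stalk y) := (DerSch.stalkFunctor S' y).obj M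
  -- the annihilator of the germ
  have hker : ∀ a ∈ (BlowUp.exceptional b 𝓘).ideal V ^ n,
      (S'.presheaf.germ V.1 y hy).hom a • M.presheaf.germ V.1 y hy m = 0 := fun a ha => by
    rw [← Mero.germ_smul M V.1 y hy, hn a (by rw [Scheme.IdealSheafData.ideal_pow]; exact ha), map_zero]
  by_cases hys : y ∈ (BlowUp.exceptional b 𝓘).support
  · obtain ⟨U, hyU, hUV, g, hg, he⟩ := Groth.Agent.BlowUpLib.exists_small_generator hb.1 (O := V.1) hy
    have hgm : g ∈ nonZeroDivisors _ := hg
    let c := (S'.presheaf.germ U.1 y hyU).hom g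
    letI := TopCat.Presheaf.algebra_section_stalk S'.presheaf (⟨y, hyU⟩ : U.1)
    haveI := U.2.isLocalization_stalk ⟨y, hyU⟩
    have hc : c ∈ nonZeroDivisors (S'.presheaf.stalk y) :=
      IsLocalization.map_nonZeroDivisors_le (U.2.primeIdealOf ⟨y, hyU⟩).asIdeal.primeCompl _
        (Submonoid.mem_map_of_mem _ hgm)
    haveI : Module.Flat (S.presheaf.stalk (b.base y)) ((DerSch.stalkFunctor S (b.base y)).obj F) :=
      hflat (b.base y) (by rw [Scheme.IdealSheafData.support_comap] at hys; exact hys)
    haveI hfl : Module.Flat (S'.presheaf.stalk y) stM := by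
      letI := (b.stalkMap y).hom.toAlgebra
      have e := ((KFlat.pullStalkIso b y).app F).toLinearEquiv
      haveI : Module.Flat (S'.presheaf.stalk y)
          ((DerSch.stalkFunctor S (b.base y) ⋙ ModuleCat.extendScalars.{u, u, u} (b.stalkMap y).hom).obj F) :=
        inferInstanceAs (Module.Flat (S'.presheaf.stalk y)
          (TensorProduct (S.presheaf.stalk (b.base y)) (S'.presheaf.stalk y) ((DerSch.stalkFunctor S (b.base y)).obj F)))
      exact Module.Flat.of_linearEquiv e
    have hzero : c ^ n • M.presheaf.germ V.1 y hy m = 0 := by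
      have hle : ((BlowUp.exceptional b 𝓘).ideal V).map (S'.presheaf.germ V.1 y hy).hom =
          ((BlowUp.exceptional b 𝓘).ideal U).map (S'.presheaf.germ U.1 y hyU).hom := by
        rw [← Scheme.IdealSheafData.map_ideal _ hUV, Ideal.map_map, ← CommRingCat.hom_comp]
        exact congrArg (fun φ => Ideal.map (CommRingCat.Hom.hom φ) _)
          (S'.presheaf.germ_res (homOfLE hUV) y hyU).symm
      have hmem : c ^ n ∈ (((BlowUp.exceptional b 𝓘).ideal V) ^ n).map (S'.presheaf.germ V.1 y hy).hom := by
        rw [Ideal.map_pow, hle]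
        exact Ideal.pow_mem_pow (Ideal.mem_map_of_mem _ (he ▸ Ideal.mem_span_singleton_self g)) n
      refine Submodule.span_induction (p := fun r _ => r • M.presheaf.germ V.1 y hy m = 0)
        ?_ (zero_smul _ _) (fun r r' _ _ h h' => by rw [add_smul, h, h', add_zero])
        (fun r r' _ h => by rw [smul_eq_mul, mul_smul, h, smul_zero]) hmem
      rintro _ ⟨a, ha, rfl⟩
      exact hker a ha
    have hreg : IsSMulRegular stM (c ^ n) :=
      Module.Flat.isSMulRegular_of_nonZeroDivisors (pow_mem hc n)
    exact hreg (show c ^ n • (M.presheaf.germ V.1 y hy m : stM) = c ^ n • (0 : stM) by rw [smul_zero]; exact hzero)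
  · obtain ⟨a, ha, hau⟩ : ∃ a ∈ (BlowUp.exceptional b 𝓘).ideal V, IsUnit ((S'.presheaf.germ V.1 y hy).hom a) := by
      rw [Scheme.IdealSheafData.mem_support_iff_of_mem hy, Scheme.mem_zeroLocus_iff] at hys
      push Not at hys
      obtain ⟨a, ha, h⟩ := hys
      exact ⟨a, ha, (S'.mem_basicOpen a y hy).1 h⟩
    have h0 := hker _ (Ideal.pow_mem_pow ha n)
    rw [map_pow] at h0
    exact (hau.pow n).smul_eq_zero.1 h0

end Groth.Agent.S1696
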