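import Groth.Statements.S16961
import Groth.Agent.ConstQuotTop.Unit
import Groth.Agent.InvQuotSp.Coarse
import Groth.Agent.RelGen.UnitLocal

set_option autoImplicit false
set_option backward.isDefEq.respectTransparency false
set_option backward.isDefEq.respectTransparency.types false
universe u
open ConstAct

namespace Groth.Agent.S16961

section
open CategoryTheory CategoryTheory.Limits MonoidalCategory CartesianMonoidalCategory AlgebraicGeometry
open scoped TensorProduct

variable (R : Type u) [CommRing R] (A : Type u) [CommRing A] [Algebra R A]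
  (G : Type u) [Group G] [Fintype G] [DecidableEq G] [MulSemiringAction G A] [SMulCommClass G R A]

/-- flat affine schemes over the invariants: the pullback of the cover and its invariant functions -/
theorem unitBij_affine (π : ConstAct.quotSt R A G Scheme.fppfPrecoverage ⥤ᵇ AlgSt.ofSch (ConstAct.specInv R A G))
    (hπ : BasedFunctor.comp
        (AlgSt.quotMap Scheme.fppfPrecoverage (ConstAct.GR R G) (ConstAct.gaction R A G)) π =
      AlgSt.ofSpMap ((AlgSp.yon (Spec (CommRingCat.of R))).map (ConstAct.quot R A G)))
    (η : (AlgSt.ofSch (ConstAct.specInv R A G)).obj) [IsAffine η.base.left] [Flat η.sec.down.left] :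
    Function.Bijective (StMod.unitSect π η) := by
  haveI := InvQuotSp.flat_GR R G
  haveI := InvQuotSp.lfp_GR R G
  let B := ConstAct.inv R A G
  haveI := InvQuotSp.isInvariant_inv R A G
  haveI := InvQuotSp.smulCommClass_inv R A G
  let C : CommRingCat.{u} := Γ(η.base.left, ⊤)
  let φ : CommRingCat.of B ⟶ C := Spec.preimage (η.base.left.isoSpec.inv ≫ η.sec.down.left)
  have hφ : Spec.map φ = η.base.left.isoSpec.inv ≫ η.sec.down.left := Spec.map_preimage _
  algebraize [φ.hom]
  haveI : Module.Flat B C := by
    have h : Flat (Spec.map φ) := by rw [hφ]; infer_instance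
    exact RingHom.flat_algebraMap_iff.1 ((HasRingHomProperty.Spec_iff (P := @Flat)).1 h)
  let incL : CommRingCat.of C ⟶ CommRingCat.of (C ⊗[B] A) :=
    CommRingCat.ofHom (Algebra.TensorProduct.includeLeftRingHom)
  let incR : CommRingCat.of A ⟶ CommRingCat.of (C ⊗[B] A) :=
    CommRingCat.ofHom (Algebra.TensorProduct.includeRight.toRingHom)
  have hpb : IsPullback (Spec.map incR) (Spec.map incL ≫ η.base.left.isoSpec.inv)
      (ConstAct.quot R A G).left η.sec.down.left := by
    have h := (isPullback_SpecMap_of_isPushout _ _ _ _ (CommRingCat.isPushout_tensorProduct B C A)).flip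
    refine h.of_iso (Iso.refl _) (Iso.refl _) η.base.left.isoSpec.symm (Iso.refl _) (by simp [incR])
      (by simp [incL]) (by simp; rfl) ?_
    simp only [Iso.symm_hom, Iso.refl_hom, Category.comp_id]
    exact hφ
  let W : Over (Spec (CommRingCat.of R)) :=
    Over.mk (Spec.map incR ≫ (ConstAct.specA R A).hom)
  let xW : W ⟶ ConstAct.X R A := Over.homMk (Spec.map incR) rfl
  let eW : W ⟶ η.base := Over.homMk (Spec.map incL ≫ η.base.left.isoSpec.inv) (by
    show _ = Spec.map incR ≫ (ConstAct.specA R A).hom
    rw [← Over.w (ConstAct.quot R A G), ← Over.w η.sec.down, hpb.w_assoc])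
  have hW : IsPullback xW eW (ConstAct.quot R A G) η.sec.down :=
    IsPullback.of_map (Over.forget _) (Over.OverMorphism.ext hpb.w) hpb
  -- functions on the pullback
  let Γi : Γ(W.left, ⊤) ≅ CommRingCat.of (C ⊗[B] A) := Scheme.ΓSpecIso _
  have hlow : ∀ r : Γ(η.base.left, ⊤),
      eW.left.appTop.hom r = Γi.inv.hom (incL.hom ((Scheme.ΓSpecIso C).hom.hom
        (η.base.left.isoSpec.inv.appTop.hom r))) := by
    intro r
    have h := congrArg (fun k => k.hom (η.base.left.isoSpec.inv.appTop.hom r)) (Scheme.ΓSpecIso_naturality incL)
    refine (ConcreteCategory.bijective_of_isIso Γi.hom).1 (Eq.trans ?_ (Iso.inv_hom_id_apply Γi _).symm)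
    exact h
  have hiso : Function.Bijective fun r : Γ(η.base.left, ⊤) => (Scheme.ΓSpecIso C).hom.hom
      (η.base.left.isoSpec.inv.appTop.hom r) :=
    (ConcreteCategory.bijective_of_isIso (Scheme.ΓSpecIso C).hom).comp
      (ConcreteCategory.bijective_of_isIso η.base.left.isoSpec.inv.appTop)
  have hΓ : Function.Injective Γi.inv.hom := (ConcreteCategory.bijective_of_isIso Γi.inv).1
  refine ConstQuotTop.unitBij_quot π (ConstAct.quot R A G) hπ η xW eW hW (fun r r' h => ?_) fun z hz => ?_
  · rw [hlow, hlow] at h
    exact hiso.1 (InvQuotSp.injective_bc (B := B) (A := A) (C := C) (InvQuotSp.injective_inv R A G) (hΓ h))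
  have hfix : ∀ g : G, InvQuotSp.bcAct G C g (Γi.hom.hom z) = Γi.hom.hom z := by
    intro g
    let ψ : CommRingCat.of (C ⊗[B] A) ⟶ CommRingCat.of (C ⊗[B] A) :=
      CommRingCat.ofHom (InvQuotSp.bcAct G C g).toRingHom
    have hR : incR ≫ ψ = CommRingCat.ofHom (MulSemiringAction.toRingHom G A g) ≫ incR := by
      ext a
      exact InvQuotSp.bcAct_tmul g (1 : C) a
    have hL : incL ≫ ψ = incL := by
      ext c
      exact (InvQuotSp.bcAct G C g).commutes c
    let L : ConstAct.X R A ⟶ ConstAct.GR R G ⊗ ConstAct.X R A :=
      lift (CoactBr.pt (ConstAct.constPt R G g⁻¹)) (CoactBr.pt (AlgHom.id R A))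
    have e₁ : L ≫ (ConstAct.gaction R A G).act = ConstAct.act R A G g := by
      refine (ConstAct.gaction_constPt R A G g⁻¹ (AlgHom.id R A)).trans ?_
      rw [CoactBr.pt_id, inv_inv]
      exact Category.id_comp _
    have e₂ : L ≫ snd (ConstAct.GR R G) (ConstAct.X R A) = 𝟙 _ := (lift_snd _ _).trans CoactBr.pt_id
    have hb₁ : Spec.map ψ ≫ Spec.map incR = Spec.map incR ≫ (ConstAct.act R A G g).left := by
      rw [ConstAct.act_left, ← Spec.map_comp, hR, Spec.map_comp]
    let b : W ⟶ W := Over.homMk (Spec.map ψ) (by
      show Spec.map ψ ≫ Spec.map incR ≫ (ConstAct.specA R A).hom = Spec.map incR ≫ (ConstAct.specA R A).hom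
      rw [reassoc_of% hb₁, Over.w (ConstAct.act R A G g)])
    have h := hz W (𝟙 W) b (xW ≫ L ≫ fst _ _) (by
      refine Over.OverMorphism.ext ?_
      show 𝟙 W.left ≫ Spec.map incL ≫ η.base.left.isoSpec.inv = Spec.map ψ ≫ Spec.map incL ≫ η.base.left.isoSpec.inv
      rw [Category.id_comp, ← Spec.map_comp_assoc, hL]) (by
      have e3 : lift (xW ≫ L ≫ fst _ _) (𝟙 W ≫ xW) = xW ≫ L := by
        apply CartesianMonoidalCategory.hom_ext
        · rw [lift_fst, Category.assoc]
        · rw [lift_snd, Category.assoc, e₂, Category.id_comp, Category.comp_id]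
      rw [e3, Category.assoc, e₁]
      exact Over.OverMorphism.ext hb₁.symm)
    have h2 := congrArg Γi.hom.hom h
    have h3 := congrArg (fun k => k.hom z) (Scheme.ΓSpecIso_naturality ψ)
    simp only [CommRingCat.comp_apply] at h3
    exact ((h2.trans h3).symm.trans (by rfl))
  obtain ⟨c, hc⟩ := (InvQuotSp.isInvariant_bc (B := B) (A := A) G C).isInvariant (Γi.hom.hom z) hfix
  obtain ⟨r, rfl⟩ := hiso.2 c
  refine ⟨r, (ConcreteCategory.bijective_of_isIso Γi.hom).1 ?_⟩
  rw [hlow, Iso.inv_hom_id_apply]
  exact hc

end

open CategoryTheory AlgebraicGeometry in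
/-- Let R be a Noetherian commutative ring, A a commutative R-algebra of finite type, and G a finite
group acting on A by R-algebra automorphisms, with ring of invariants A^G. Let [Spec A/G] be the
quotient stack of Spec A by the constant group scheme of G over Spec R, the category over (Sch/Spec
R) whose objects are torsors under the constant group scheme, locally trivial for the fppf topology,
with an equivariant morphism to Spec A; and let π : [Spec A/G] → Spec A^G be a functor over
(Sch/Spec R) whose composite with the canonical functor Spec A → [Spec A/G] is the functor of the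
morphism Spec A → Spec A^G induced by the inclusion A^G ⊆ A. Then the structure sheaf of Spec A^G
maps isomorphically onto the pushforward of the structure sheaf of [Spec A/G]: for every scheme E
etale over Spec A^G, the canonical map from the ring of functions on E to the sections over E of the
pushforward (the compatible families of functions on the base schemes of the objects of [Spec A/G]
equipped with a morphism to E over Spec A^G) is bijective. (The published statement puts no
finiteness condition on A; the published proof uses that A is finite over A^G, which holds when A is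
of finite type over a Noetherian ring, the case stated here.) -/
theorem result (R : Type u) [CommRing R] [IsNoetherianRing R]
    (A : Type u) [CommRing A] [Algebra R A] [Algebra.FiniteType R A]
    (G : Type u) [Group G] [Fintype G] [DecidableEq G] [MulSemiringAction G A] [SMulCommClass G R A]
    (π : ConstAct.quotSt R A G Scheme.fppfPrecoverage ⥤ᵇ AlgSt.ofSch (ConstAct.specInv R A G))
    (hπ : BasedFunctor.comp
        (AlgSt.quotMap Scheme.fppfPrecoverage (ConstAct.GR R G) (ConstAct.gaction R A G)) π =
      AlgSt.ofSpMap ((AlgSp.yon (Spec (CommRingCat.of R))).map (ConstAct.quot R A G))) :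
    StMod.UnitIsIso π := by
  refine RelGen.unitIsIso_of_affine π (AlgStLib.Quot.isFibGrpd _ _) fun E hE => ?_
  obtain ⟨k, hk⟩ := (AlgSp.yon (Spec (CommRingCat.of R))).map_surjective E.obj.hom
  have hk' : (StMod.etaOf E).sec.down = k := by
    show ((AlgSp.J _).uliftYonedaEquiv E.obj.hom).down = k
    rw [← hk]
    exact Category.id_comp k
  haveI : Etale k.left := (AlgSp.repWith_yon_map_iff _ k).1 (hk ▸ E.property)
  haveI : Flat (StMod.etaOf E).sec.down.left := hk' ▸ inferInstance
  haveI : IsAffine (StMod.etaOf E).base.left := hE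
  exact unitBij_affine R A G π hπ _

end Groth.Agent.S16961
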