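import Groth.Statements.S16962
import Mathlib

set_option autoImplicit false
universe u
open ConstAct

namespace Groth.Agent.S16962

open TensorProduct in
theorem mulSemiringAction_ext {M R : Type u} [Monoid M] [Semiring R] (x y : MulSemiringAction M R)
    (h : ∀ m r, x.smul m r = y.smul m r) : x = y := by
  cases x; cases y; congr; ext m r; exact h m r

open TensorProduct in
theorem main (R : Type u) [CommRing R] (B : Type u) [CommRing B] [Algebra R B] (Γ : Type u) [Group Γ] [Fintype Γ]
    [DecidableEq Γ] [HopfRep.Comod R (ConstGrp.F R Γ) B] [GLin.IsCoactAlg R (ConstGrp.F R Γ) B] :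
    ∃! a : MulSemiringAction Γ B, ∃ _ : SMulCommClass Γ R B,
      ConstAct.coactLin R B Γ = HopfRep.Comod.coact (k := R) (A := ConstGrp.F R Γ) (V := B) ∧
      GLin.invariants R (ConstGrp.F R Γ) B = ConstAct.inv R B Γ := by
  let ρ : B →ₗ[R] B ⊗[R] ConstGrp.F R Γ := HopfRep.Comod.coact
  let E : Γ → (B ⊗[R] ConstGrp.F R Γ →ₐ[R] B) := fun γ =>
    (Algebra.TensorProduct.rid R R B).toAlgHom.comp (Algebra.TensorProduct.map (AlgHom.id R B) (ConstGrp.ev R γ))
  let f : Γ → B →ₗ[R] B := fun γ => (E γ).toLinearMap ∘ₗ ρ
  have hE : ∀ γ b x, E γ (b ⊗ₜ[R] x) = x γ • b := fun γ b x => by simp [E]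
  have hρ : ∀ b, ρ b = ∑ γ, f γ b ⊗ₜ[R] ConstGrp.e R γ := by
    intro b
    show ρ b = ∑ γ, E γ (ρ b) ⊗ₜ[R] ConstGrp.e R γ
    induction ρ b using TensorProduct.induction_on with
    | zero => simp
    | add x y hx hy => simp only [map_add, TensorProduct.add_tmul, Finset.sum_add_distrib, ← hx, ← hy]
    | tmul v x =>
      simp only [hE]
      conv_lhs => rw [ConstGrp.eq_sum_smul_e x, TensorProduct.tmul_sum]
      simp [TensorProduct.smul_tmul]
  have hone : ∀ b, f 1 b = b := by
    intro b
    have h := congrArg (TensorProduct.rid R B) (LinearMap.congr_fun (HopfRep.Comod.counit_comp (k := R) (A := ConstGrp.F R Γ) (V := B)) b)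
    rw [LinearMap.comp_apply, show HopfRep.Comod.coact (k := R) (A := ConstGrp.F R Γ) b = _ from hρ b] at h
    simpa [ConstGrp.counit_e, ConstGrp.e_apply] using h
  have hmul : ∀ g g' b, f (g * g') b = f g (f g' b) := by
    intro g g' b
    let L : B ⊗[R] (ConstGrp.F R Γ ⊗[R] ConstGrp.F R Γ) →ₗ[R] B :=
      (TensorProduct.rid R B).toLinearMap ∘ₗ LinearMap.lTensor B ((LinearMap.mul' R R) ∘ₗ
        TensorProduct.map (ConstGrp.ev R g).toLinearMap (ConstGrp.ev R g').toLinearMap)
    have h := congrArg L (LinearMap.congr_fun (HopfRep.Comod.coassoc (k := R) (A := ConstGrp.F R Γ) (V := B)) b)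
    simp only [LinearMap.comp_apply, LinearEquiv.coe_coe, show HopfRep.Comod.coact (k := R) (A := ConstGrp.F R Γ) b = _ from hρ b,
      map_sum, LinearMap.rTensor_tmul, LinearMap.lTensor_tmul, ConstGrp.comul_e, show ∀ b, HopfRep.Comod.coact (k := R) (A := ConstGrp.F R Γ) b = _ from hρ,
      TensorProduct.sum_tmul, TensorProduct.assoc_tmul, TensorProduct.tmul_sum] at h
    simp [L, ConstGrp.e_apply, eq_inv_mul_iff_mul_eq] at h
    rw [h, Finset.sum_comm]
    simp
  let a : MulSemiringAction Γ B :=
    { smul := fun γ b => f γ b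
      one_smul := hone
      mul_smul := hmul
      smul_zero := fun γ => map_zero (f γ)
      smul_add := fun γ => map_add (f γ)
      smul_one := fun γ => by
        show E γ (ρ 1) = 1
        rw [show ρ 1 = 1 from GLin.IsCoactAlg.coact_one, map_one]
      smul_mul := fun γ x y => by
        show E γ (ρ (x * y)) = E γ (ρ x) * E γ (ρ y)
        rw [show ρ (x * y) = ρ x * ρ y from GLin.IsCoactAlg.coact_mul x y, map_mul] }
  letI := a
  haveI hcomm : SMulCommClass Γ R B := ⟨fun γ r b => map_smul (f γ) r b⟩
  refine ⟨a, ⟨hcomm, LinearMap.ext fun b => (ConstAct.coactLin_apply R B Γ b).trans (hρ b).symm, ?_⟩, ?_⟩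
  · refine SetLike.ext fun b => ?_
    show ρ b = b ⊗ₜ 1 ↔ ∀ γ : Γ, f γ b = b
    constructor
    · intro h γ
      show E γ (ρ b) = b
      rw [h, hE]
      simp
    · intro h
      rw [hρ]
      simp only [h, ← TensorProduct.tmul_sum, ConstGrp.sum_e]
  · rintro a' ⟨hc', h1, -⟩
    suffices hs : ∀ (γ : Γ) (b : B), a'.smul γ b = f γ b by
      exact mulSemiringAction_ext a' a hs
    intro γ b
    have h2 := congrArg (E γ) (LinearMap.congr_fun h1 b)
    rw [@ConstAct.coactLin_apply R _ B _ _ Γ _ _ _ a' hc', map_sum] at h2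
    simp only [hE, ConstGrp.e_apply, ite_smul, one_smul, zero_smul, Finset.sum_ite_eq, Finset.mem_univ, if_true] at h2
    exact h2

open TensorProduct in
/-- Let R be a commutative ring, Γ a finite group and B a commutative R-algebra equipped with a comodule
structure over the Hopf algebra of R-valued functions on Γ (the coordinate ring of the constant
group scheme of Γ over Spec R, with basis the indicator functions e_γ) whose coaction B → B ⊗ Fun(Γ,
R) is a homomorphism of algebras, i.e. an action of the constant group scheme on Spec B. Then there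
is exactly one action of Γ on B by R-algebra automorphisms whose associated coaction b ↦ Σ_γ (γ · b)
⊗ e_γ is the given coaction; and for that action the ring of invariants of the comodule algebra (the
b whose coaction is b ⊗ 1) equals the ring of elements fixed by Γ. (That the coaction associated
with an action is a comodule algebra structure is the other direction of the published equivalence
and is a construction here.) -/
theorem result (R : Type u) [CommRing R]
    (B : Type u) [CommRing B] [Algebra R B] (Γ : Type u) [Group Γ] [Fintype Γ] [DecidableEq Γ]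
    [HopfRep.Comod R (ConstGrp.F R Γ) B] [GLin.IsCoactAlg R (ConstGrp.F R Γ) B] :
    ∃! a : MulSemiringAction Γ B, ∃ _ : SMulCommClass Γ R B,
      ConstAct.coactLin R B Γ = HopfRep.Comod.coact (k := R) (A := ConstGrp.F R Γ) (V := B) ∧
        GLin.invariants R (ConstGrp.F R Γ) B = ConstAct.inv R B Γ := by
  open TensorProduct in exact main R B Γ

end Groth.Agent.S16962
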