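import Groth.Statements.S16963
import Mathlib

set_option autoImplicit false
universe u
open scoped BigOperators
open ConstAct

namespace Groth.Agent.S16963

open TensorProduct in
theorem main (R : Type u) [CommRing R] (B : Type u) [CommRing B] [Algebra R B] (Γ : Type u) [Group Γ] [Fintype Γ]
    [DecidableEq Γ] [MulSemiringAction Γ B] [SMulCommClass Γ R B] :
    letI := ConstAct.comod R B Γ
    (∃ α : ConstGrp.F R Γ →ₗ[R] B, Hoch.IsComodHom (ConstGrp.F R Γ) α ∧ α 1 = 1) ↔
      ∀ c : B, c ∈ ConstAct.inv R B Γ → ∃ b : B, ∑ γ : Γ, γ • b = c := by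
  letI := ConstAct.comod R B Γ
  have hcomul : ∀ g, HopfRep.Comod.coact (k := R) (A := ConstGrp.F R Γ) (V := ConstGrp.F R Γ) (ConstGrp.e R g) =
      ∑ a : Γ, ConstGrp.e R a ⊗ₜ[R] ConstGrp.e R (a⁻¹ * g) := fun g => ConstGrp.comul_e R Γ g
  have hev : ∀ (f : Γ → B) (γ : Γ), TensorProduct.rid R B ((ConstGrp.ev R γ).toLinearMap.lTensor B
      (∑ x : Γ, f x ⊗ₜ[R] ConstGrp.e R x)) = f γ := fun f γ => by
    simp [ConstGrp.e_apply]
  constructor
  · rintro ⟨α, hα, h1⟩ c hc
    have key : ∀ g γ, α (ConstGrp.e R (g * γ⁻¹)) = γ • α (ConstGrp.e R g) := by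
      intro g γ
      have h : α.rTensor (ConstGrp.F R Γ) (HopfRep.Comod.coact (k := R) (A := ConstGrp.F R Γ) (V := ConstGrp.F R Γ)
          (ConstGrp.e R g)) = ConstAct.coactLin R B Γ (α (ConstGrp.e R g)) := (LinearMap.congr_fun hα (ConstGrp.e R g)).symm
      rw [hcomul, map_sum, ConstAct.coactLin_apply] at h
      simp only [LinearMap.rTensor_tmul] at h
      rw [← Equiv.sum_comp ((Equiv.inv Γ).trans (Equiv.mulLeft g))] at h
      simp only [Equiv.trans_apply, Equiv.inv_apply, Equiv.coe_mulLeft, mul_inv_rev, inv_inv, inv_mul_cancel_right] at h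
      have h2 := congrArg (fun z => TensorProduct.rid R B ((ConstGrp.ev R γ).toLinearMap.lTensor B z)) h
      rw [hev, hev] at h2
      exact h2
    refine ⟨c * α (ConstGrp.e R 1), ?_⟩
    have hc' : ∀ γ : Γ, γ • c = c := hc
    simp only [smul_mul', hc', ← Finset.mul_sum, ← key, one_mul]
    rw [← map_sum, Fintype.sum_equiv (Equiv.inv Γ) (fun γ => ConstGrp.e R γ⁻¹) (fun γ => ConstGrp.e R γ) fun _ => rfl,
      ConstGrp.sum_e, h1, mul_one]
  · intro h
    obtain ⟨b, hb⟩ := h 1 (one_mem _)
    let α : ConstGrp.F R Γ →ₗ[R] B := (ConstGrp.basis R Γ).constr R fun g => g⁻¹ • b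
    have hαe : ∀ g, α (ConstGrp.e R g) = g⁻¹ • b := fun g => by
      rw [← ConstGrp.basis_apply, Module.Basis.constr_basis]
    refine ⟨α, ConstGrp.linearMap_ext fun g => ?_, ?_⟩
    · show ConstAct.coactLin R B Γ (α (ConstGrp.e R g)) = α.rTensor (ConstGrp.F R Γ)
        (HopfRep.Comod.coact (k := R) (A := ConstGrp.F R Γ) (V := ConstGrp.F R Γ) (ConstGrp.e R g))
      rw [hcomul, map_sum, ConstAct.coactLin_apply]
      simp only [LinearMap.rTensor_tmul, hαe]
      refine Fintype.sum_equiv ((Equiv.inv Γ).trans (Equiv.mulLeft g)) _ _ fun x => ?_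
      simp [mul_smul]
    · rw [← ConstGrp.sum_e (R := R) (G := Γ), map_sum]
      simp only [hαe]
      rw [Fintype.sum_equiv (Equiv.inv Γ) (fun γ => γ⁻¹ • b) (fun γ => γ • b) fun _ => rfl, hb]

open TensorProduct in
/-- Let R be a commutative ring and Γ a finite group acting on a commutative R-algebra B by R-algebra
automorphisms; regard B as a comodule algebra over the Hopf algebra of R-valued functions on Γ (the
constant group scheme of Γ acting on Spec B) through the coaction b ↦ Σ_γ (γ · b) ⊗ e_γ. Then the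
action is tame — there is a comodule map α from the Hopf algebra, with its regular coaction, to B
with α(1) = 1 (a total integral) — if and only if the trace b ↦ Σ_γ γ · b, which takes values in the
ring of invariants B^Γ, maps B onto B^Γ. -/
theorem result (R : Type u) [CommRing R]
    (B : Type u) [CommRing B] [Algebra R B] (Γ : Type u) [Group Γ] [Fintype Γ] [DecidableEq Γ]
    [MulSemiringAction Γ B] [SMulCommClass Γ R B] :
    letI := ConstAct.comod R B Γ
    (∃ α : ConstGrp.F R Γ →ₗ[R] B, Hoch.IsComodHom (ConstGrp.F R Γ) α ∧ α 1 = 1) ↔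
      ∀ c : B, c ∈ ConstAct.inv R B Γ → ∃ b : B, ∑ γ : Γ, γ • b = c := by
  open TensorProduct in exact main R B Γ

end Groth.Agent.S16963
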