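import Groth.Statements.S16965
import Groth.Agent.ConstQuotTop.Closed
import Groth.Agent.S13571
import Groth.Agent.InvQuotSp.Coarse

set_option autoImplicit false
set_option backward.isDefEq.respectTransparency false
set_option backward.isDefEq.respectTransparency.types false
universe u
open ConstAct

namespace Groth.Agent.S16965

open CategoryTheory AlgebraicGeometry in
/-- Let R be a Noetherian commutative ring, A a commutative R-algebra of finite type, and G a finite
group acting on A by R-algebra automorphisms, with ring of invariants A^G. Let [Spec A/G] be the
quotient stack of Spec A by the constant group scheme of G over Spec R, the category over (Sch/Spec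
R) whose objects are torsors under the constant group scheme, locally trivial for the fppf topology,
with an equivariant morphism to Spec A; and let π : [Spec A/G] → Spec A^G be a functor over
(Sch/Spec R) whose composite with the canonical functor Spec A → [Spec A/G] is the functor of the
morphism Spec A → Spec A^G induced by the inclusion A^G ⊆ A. Then π is a universal homeomorphism:
for every algebraic stack 𝒵 over (Sch/Spec R) (fppf topology) and every functor 𝒵 → Spec A^G over
(Sch/Spec R), the first projection of the 2-fibre product 𝒵 ×_{Spec A^G} [Spec A/G] → 𝒵 induces a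
homeomorphism on the spaces of points. (The published clause also asserts that π is proper and that
A^G is finitely generated over R; only the universal homeomorphism is stated here.) -/
theorem result (R : Type u) [CommRing R] [IsNoetherianRing R]
    (A : Type u) [CommRing A] [Algebra R A] [Algebra.FiniteType R A]
    (G : Type u) [Group G] [Fintype G] [DecidableEq G] [MulSemiringAction G A] [SMulCommClass G R A]
    (π : ConstAct.quotSt R A G Scheme.fppfPrecoverage ⥤ᵇ AlgSt.ofSch (ConstAct.specInv R A G))
    (hπ : BasedFunctor.comp
        (AlgSt.quotMap Scheme.fppfPrecoverage (ConstAct.GR R G) (ConstAct.gaction R A G)) π =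
      AlgSt.ofSpMap ((AlgSp.yon (Spec (CommRingCat.of R))).map (ConstAct.quot R A G))) :
    AlgSt.IsUnivHomeo Scheme.fppfPrecoverage π := by
  haveI := InvQuotSp.isAffineHom_GR R G
  haveI := InvQuotSp.flat_GR R G
  haveI := InvQuotSp.lfp_GR R G
  haveI := InvQuotSp.finite_inv R A G
  haveI : Algebra.IsIntegral (ConstAct.inv R A G) A :=
    Algebra.IsIntegral.of_finite (ConstAct.inv R A G) A
  haveI : IsIntegralHom (ConstAct.quot R A G).left :=
    IsIntegralHom.SpecMap_iff.2 (show (algebraMap (ConstAct.inv R A G) A).IsIntegral from
      Algebra.IsIntegral.isIntegral)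
  haveI : Surjective (ConstAct.quot R A G).left :=
    ⟨RingHom.IsIntegral.comap_surjective (f := algebraMap (ConstAct.inv R A G) A)
      Algebra.IsIntegral.isIntegral (InvQuotSp.injective_inv R A G)⟩
  exact ConstQuotTop.isUnivHomeo_of_cover (S13571.result (ConstAct.GR R G) _ (ConstAct.gaction R A G))
    (AlgSt.quotMap Scheme.fppfPrecoverage (ConstAct.GR R G) (ConstAct.gaction R A G))
    ((AlgStLib.repWith_iff_of_equiv _ _
      (AlgStLib.Quot.qX (aX := ConstAct.gaction R A G)) (AlgSt.ofOverCat _) (BasedFunctor.id _)
      (AlgStLib.isEquivOver_ofOverCat _) FibCat2Misc.isEquivOver_id (Iso.refl _)).2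
        AlgStLib.Quot.repWith_qX_surjective)
    π (ConstAct.quot R A G) hπ (InvQuotSp.isCoarseModuli_quot R A G π ⟨eqToIso hπ⟩).2

end Groth.Agent.S16965
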