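import Groth.Statements.S16966
import Groth.Agent.CurveRR.Clifford

set_option autoImplicit false
universe u
open CategoryTheory CategoryTheory.Limits AlgebraicGeometry Opposite
open Curves

set_option backward.isDefEq.respectTransparency false
set_option backward.isDefEq.respectTransparency.types false

open Groth.Agent Groth.Agent.CurveRR Groth.Agent.CohFinite CategoryTheory.Limits

namespace Groth.Agent.S16966

/-- Let X be a smooth projective curve over an algebraically closed field k of characteristic 0 (an
integral scheme, proper over k, of dimension one, with all local rings regular), of genus g ≥ 1, and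
L an invertible O_X-module with deg L > 2g. Then the morphism to projective space given by the
complete linear system of L is linearly stable, stated through the criterion by invertible
subsheaves: for every invertible module M and every monomorphism ι : M ⟶ L that is not an
isomorphism, with dim_k H^0(X, M) ≥ 2, one has deg L · (h^0(M) - 1) < deg M · (h^0(L) - 1), i.e. the
reduced degree deg M / (h^0(M) - 1) of the projection exceeds the reduced degree deg L / (h^0(L) -
1). Degrees are χ(·) - χ(O_X). -/
theorem result (k : Type u) [Field k] [IsAlgClosed k] [CharZero k] (X : Scheme.{u}) [X.Over (Spec (CommRingCat.of k))]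
    [IsIntegral X] [IsProper (X ↘ (Spec (CommRingCat.of k)))] (hdim : topologicalKrullDim X = 1)
    (hreg : ∀ x : X, IsRegularLocalRing (X.presheaf.stalk x))
    (hg : 1 ≤ Curv2.genus k X) (L : X.Modules) (hL : PicF.IsInvertible L)
    (hdeg : 2 * (Curv2.genus k X : ℤ) < Curv2.deg k X L 1)
    (M : X.Modules) (hM : PicF.IsInvertible M) (ι : M ⟶ L) [Mono ι] (hι : ¬ IsIso ι)
    (h2 : 2 ≤ Module.finrank k (Coh.HH X M 0)) :
    Curv2.deg k X L 1 * ((Module.finrank k (Coh.HH X M 0) : ℤ) - 1) <
      Curv2.deg k X M 1 * ((Module.finrank k (Coh.HH X L 0) : ℤ) - 1) := by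
  haveI := isNoetherian_of_proper k X
  have hne : ι ≠ 0 := fun h0 => by
    have hz : Limits.IsZero M := by
      rw [IsZero.iff_id_eq_zero, ← cancel_mono ι, h0, comp_zero, comp_zero]
    have : Subsingleton (Coh.HH X M 0) := by
      haveI : Subsingleton Γ(M, ⊤) := ⟨fun a b => by
        have h1 : ∀ c : Γ(M, ⊤), c = 0 := fun c =>
          congrArg (fun φ : M ⟶ M => φ.app ⊤ c) ((IsZero.iff_id_eq_zero M).1 hz)
        rw [h1 a, h1 b]⟩
      exact (secH0 (k := k) M).symm.toEquiv.subsingleton
    haveI := this
    rw [Module.finrank_zero_of_subsingleton] at h2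
    omega
  obtain ⟨hle, hiso⟩ := deg_le_and_isIso (k := k) hdim.le hM hL ι hne
  have hlt : Curv2.deg k X M 1 < Curv2.deg k X L 1 := lt_of_le_of_ne hle fun he => hι (hiso he)
  have hLh := h0_eq_of_deg (k := k) hdim.le (h0_structure k X) hL (by omega)
  have hm : ((Module.finrank k (Coh.HH X M 0) - 1 : ℕ) : ℤ) = (Module.finrank k (Coh.HH X M 0) : ℤ) - 1 := by omega
  have key := slope_lt (k := k) hdim.le hM hg hdeg (m := Module.finrank k (Coh.HH X M 0) - 1) (by omega)
    (le_of_eq (Nat.sub_add_cancel (by omega : 1 ≤ Module.finrank k (Coh.HH X M 0)))) hle (Or.inl hlt)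
  rw [hm] at key
  change (Module.finrank k (Coh.HH X L 0) : ℤ) = _ at hLh
  rw [hLh]
  linarith

end Groth.Agent.S16966
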