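import Groth.Statements.S16967
import Groth.Agent.CurveOmega.CliffordCurve
import Groth.Agent.CurveOmega.Canonical

set_option autoImplicit false
universe u
open CategoryTheory CategoryTheory.Limits AlgebraicGeometry Opposite
open Curves

set_option backward.isDefEq.respectTransparency false
set_option backward.isDefEq.respectTransparency.types false

open Groth.Agent

namespace Groth.Agent.S16967

/-- Let X be a smooth projective curve over an algebraically closed field k of characteristic 0
(integral, proper over k, of dimension one, all local rings regular) of genus g ≥ 3 that is not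
hyperelliptic: there is no invertible module of degree 2 with two k-linearly independent global
sections. Then the canonical morphism of X is linearly stable, stated through the criterion by
invertible subsheaves: for every invertible module M and every monomorphism ι : M ⟶ Ω_{X/k} which is
not an isomorphism, with dim_k H^0(X, M) ≥ 2, one has deg Ω_{X/k} · (h^0(M) - 1) < deg M ·
(h^0(Ω_{X/k}) - 1). Degrees are χ(·) - χ(O_X). -/
theorem result (k : Type u) [Field k] [IsAlgClosed k] [CharZero k] (X : Scheme.{u}) [X.Over (Spec (CommRingCat.of k))]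
    [IsIntegral X] [IsProper (X ↘ (Spec (CommRingCat.of k)))] (hdim : topologicalKrullDim X = 1)
    (hreg : ∀ x : X, IsRegularLocalRing (X.presheaf.stalk x))
    (hg : 3 ≤ Curv2.genus k X)
    (hnh : ¬ ∃ (N : X.Modules) (t : Fin 2 → LinSer.Sect X N), LinSer.IsLinSer k X N 2 1 t)
    (M : X.Modules) (hM : PicF.IsInvertible M) (ι : M ⟶ Omega.sheaf (X ↘ (Spec (CommRingCat.of k)))) [Mono ι] (hι : ¬ IsIso ι)
    (h2 : 2 ≤ Module.finrank k (Coh.HH X M 0)) :
    Curv2.deg k X (Omega.sheaf (X ↘ (Spec (CommRingCat.of k)))) 1 * ((Module.finrank k (Coh.HH X M 0) : ℤ) - 1) <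
      Curv2.deg k X M 1 * ((Module.finrank k (Coh.HH X (Omega.sheaf (X ↘ (Spec (CommRingCat.of k)))) 0) : ℤ) - 1) := by
  haveI := CurveRR.isNoetherian_of_proper k X
  have hC := CurveOmega.smoothProper k X hdim hreg
  obtain ⟨hΩ, hΩ0, hΩd, -⟩ := CurveOmega.omega_facts k X hC
  have hΩ0' : Module.finrank k (Coh.HH X (Omega.sheaf (X ↘ (Spec (CommRingCat.of k)))) 0) = Curv2.genus k X := hΩ0
  obtain ⟨s₀, hs₀⟩ := CurveRR.exists_section (k := k) (L := M)
    (show CurveRR.h k M 0 ≠ 0 by show Module.finrank k (Coh.HH X M 0) ≠ 0; omega)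
  have hι0 : ι ≠ 0 := fun h => hs₀ ((cancel_mono ι).mp (by simp [h]))
  obtain ⟨hle, hiso⟩ := CurveRR.deg_le_and_isIso (k := k) hdim.le hM hΩ ι hι0
  have hlt : Curv2.deg k X M 1 < 2 * (Curv2.genus k X : ℤ) - 2 := by
    rw [← hΩd]; exact lt_of_le_of_ne hle fun h => hι (hiso h)
  rw [hΩd, hΩ0']
  change 2 ≤ CurveRR.h k M 0 at h2
  change _ * ((CurveRR.h k M 0 : ℤ) - 1) < _
  rcases CurveRR.h0_cases (k := k) hdim.le hM (by omega) with he | he
  · nlinarith
  · rcases he.lt_or_eq with he | he
    · nlinarith
    · by_cases h1 : CurveRR.h k M 1 = 0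
      · have hrr : (CurveRR.h k M 0 : ℤ) = Curv2.deg k X M 1 + 1 - Curv2.genus k X := by
          rw [Curv2.deg, CurveRR.euler_eq hdim.le, CurveRR.euler_structure hdim.le (CurveRR.h0_structure k X), h1]
          push_cast
          ring
        omega
      · obtain ⟨N, hN, hd, hN2⟩ := CurveOmega.exists_pencil_of_eq hC hM h2 h1 he hlt
        exact absurd ((CurveOmega.exists_linSer_iff (k := k) (X := X) 2).mpr ⟨N, hN, by exact_mod_cast hd, hN2⟩) hnh

end Groth.Agent.S16967
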