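import Groth.Statements.S16968
import Groth.Agent.CurveOmega.Closed
import Groth.Agent.CurveOmega.Duality
import Groth.Agent.CurveRR.Pencil

set_option autoImplicit false
universe u
open CategoryTheory CategoryTheory.Limits AlgebraicGeometry Opposite
open Curves

set_option backward.isDefEq.respectTransparency false
set_option backward.isDefEq.respectTransparency.types false

open Groth.Agent

namespace Groth.Agent.S16968

/-- Let X be a smooth projective curve over an algebraically closed field k of characteristic 0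
(integral, proper over k, of dimension one, all local rings regular) of genus g ≥ 3 which is
hyperelliptic, with a g^1_2 given as an invertible module N of degree 2 and two k-linearly
independent global sections t_0, t_1. Then the canonical morphism of X is linearly semistable but
not linearly stable, stated through the criterion by invertible subsheaves: (i) for every invertible
module M and every monomorphism ι : M ⟶ Ω_{X/k} which is not an isomorphism, with dim_k H^0(X, M) ≥
2, one has deg Ω_{X/k} · (h^0(M) - 1) ≤ deg M · (h^0(Ω_{X/k}) - 1); (ii) N admits a monomorphism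
into Ω_{X/k} which is not an isomorphism and for which equality holds. Degrees are χ(·) - χ(O_X).
(The published statement gives no genus bound for the hyperelliptic case; here g ≥ 3 is assumed,
since for g = 2 the module N is the canonical module itself and clause (ii) fails.) -/
theorem result (k : Type u) [Field k] [IsAlgClosed k] [CharZero k] (X : Scheme.{u}) [X.Over (Spec (CommRingCat.of k))]
    [IsIntegral X] [IsProper (X ↘ (Spec (CommRingCat.of k)))] (hdim : topologicalKrullDim X = 1)
    (hreg : ∀ x : X, IsRegularLocalRing (X.presheaf.stalk x))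
    (hg : 3 ≤ Curv2.genus k X)
    (N : X.Modules) (t : Fin 2 → LinSer.Sect X N) (hN : LinSer.IsLinSer k X N 2 1 t) :
    (∀ (M : X.Modules) (ι : M ⟶ Omega.sheaf (X ↘ (Spec (CommRingCat.of k)))), PicF.IsInvertible M → Mono ι → ¬ IsIso ι →
        2 ≤ Module.finrank k (Coh.HH X M 0) →
        Curv2.deg k X (Omega.sheaf (X ↘ (Spec (CommRingCat.of k)))) 1 * ((Module.finrank k (Coh.HH X M 0) : ℤ) - 1) ≤
          Curv2.deg k X M 1 * ((Module.finrank k (Coh.HH X (Omega.sheaf (X ↘ (Spec (CommRingCat.of k)))) 0) : ℤ) - 1)) ∧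
      ∃ ι : N ⟶ Omega.sheaf (X ↘ (Spec (CommRingCat.of k))), Mono ι ∧ ¬ IsIso ι ∧
        Curv2.deg k X (Omega.sheaf (X ↘ (Spec (CommRingCat.of k)))) 1 * ((Module.finrank k (Coh.HH X N 0) : ℤ) - 1) =
          Curv2.deg k X N 1 * ((Module.finrank k (Coh.HH X (Omega.sheaf (X ↘ (Spec (CommRingCat.of k)))) 0) : ℤ) - 1) := by
  open Groth.Agent.CurveRR Groth.Agent.CohFinite in
  have hC := CurveOmega.smoothProper k X hdim hreg
  haveI := CurveRR.isNoetherian_of_proper k X
  obtain ⟨hΩ, hΩ0, hΩd, -⟩ := CurveOmega.omega_facts k X hC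
  have hΩ0' : Module.finrank k (Coh.HH X (Omega.sheaf (X ↘ (Spec (CommRingCat.of k)))) 0) = Curv2.genus k X := hΩ0
  rw [hΩd, hΩ0']
  refine ⟨fun M ι hM hι hni h2 => ?_, ?_⟩
  · obtain ⟨m, hm⟩ : ∃ m, Module.finrank k (Coh.HH X M 0) = m + 2 := ⟨_, (Nat.sub_add_cancel h2).symm⟩
    have hι0 : ι ≠ 0 := fun h => by
      subst h
      obtain ⟨s, hs⟩ := CurveRR.exists_section (k := k) (L := M) (show CurveRR.h k M 0 ≠ 0 by show Module.finrank k (Coh.HH X M 0) ≠ 0; omega)
      exact hs ((cancel_mono (0 : M ⟶ Omega.sheaf (X ↘ (Spec (CommRingCat.of k))))).mp (by simp))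
    obtain ⟨hle, hiso⟩ := CurveRR.deg_le_and_isIso (k := k) hdim.le hM hΩ ι hι0
    have hlt : Curv2.deg k X M 1 < 2 * (Curv2.genus k X : ℤ) - 2 := by
      rw [← hΩd]; exact lt_of_le_of_ne hle fun h => hni (hiso h)
    rcases CurveRR.h0_cases (k := k) hdim.le hM (show Module.finrank k (Coh.HH X M 0) ≠ 0 by omega) with he | he
    all_goals rw [show CurveRR.h k M 0 = m + 2 from hm] at he
    all_goals rw [hm]
    all_goals push_cast at he ⊢
    all_goals nlinarith
  · obtain ⟨hN1, hN2, hN3⟩ := hN
    obtain ⟨N', hN', ⟨θ⟩⟩ := W7Hull.exists_tensor_inverse hN1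
    have h2 := CurveRR.two_le_h0_of_linIndep k (CurveRR.isCoh_of_inv hN1) t hN3
    push_cast at hN2
    have h1 := CurveOmega.h1_eq k X hC hN1 θ
    have hN0 : CurveRR.h k N 0 = 2 := by
      rcases CurveRR.h0_cases (k := k) hdim.le hN1 (by omega) with he | he <;> omega
    have h3 := hN2
    rw [Curv2.deg, CurveRR.euler_eq hdim.le, CurveRR.euler_structure hdim.le (CurveRR.h0_structure k X), h1, hN0] at h3
    push_cast at h3
    obtain ⟨s, hs⟩ := CurveRR.exists_section (k := k)
      (L := CohB1.tensorMod (Omega.sheaf (X ↘ (Spec (CommRingCat.of k)))) N') (by omega)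
    haveI := CurveRR.mono_of_ne_zero TMul.isInvertible_structureModule
      (TMul.isInvertible_tensorMod hΩ hN') s hs
    haveI : Mono (CohFinite.tmap s N) := (Groth.Agent.QC.mono_iff_app_injective _).2
      (CohFinite.tmap_eq_zero_locally hN1 s fun U => Groth.Agent.QC.app_injective_of_mono s U)
    let e := TMul.assocIso (Omega.sheaf (X ↘ (Spec (CommRingCat.of k)))) N' N ≪≫
      PicGrp.tensorModIso (Iso.refl _) (TMul.commIso N' N ≪≫ θ) ≪≫ TMul.commIso _ _ ≪≫
      TMul.leftUnitIso (Omega.sheaf (X ↘ (Spec (CommRingCat.of k))))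
    let φ := (TMul.leftUnitIso N).inv ≫ CohFinite.tmap s N ≫ e.hom
    refine ⟨φ, inferInstance, fun hi => ?_, ?_⟩
    · have := CurveRR.euler_eq_of_iso (k := k) (asIso φ)
      rw [Curv2.deg, ← this, ← Curv2.deg] at hΩd
      omega
    · rw [show Module.finrank k (Coh.HH X N 0) = 2 from hN0, hN2]
      push_cast
      ring

end Groth.Agent.S16968
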