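import Groth.Statements.S16979
import Mathlib.LinearAlgebra.Matrix.Charpoly.Coeff
import Mathlib.FieldTheory.Separable
import Mathlib.FieldTheory.IsAlgClosed.AlgebraicClosure
import Mathlib.LinearAlgebra.Matrix.ToLinearEquiv
import Mathlib.RingTheory.Ideal.Span
import Mathlib.RingTheory.Localization.FractionRing

set_option autoImplicit false
universe u v
open CAlg

namespace Groth.Agent.S16979

/-- Let R be an integral domain with fraction field K and φ a square matrix over R whose characteristic
polynomial becomes separable in K[T] (equivalently, K[T] modulo the characteristic polynomial is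
geometrically reduced over K). Then a polynomial f over R satisfies f(φ) = 0 exactly when the
characteristic polynomial of φ divides f in R[T]: the kernel of evaluation at φ (the minimal ideal
of φ) is the principal ideal generated by the characteristic polynomial. -/
theorem result
    {R : Type u} [CommRing R] [IsDomain R] {n : Type v} [Fintype n] [DecidableEq n]
    (φ : Matrix n n R)
    (hsep : (φ.charpoly.map (algebraMap R (FractionRing R))).Separable) :
    RingHom.ker (Polynomial.aeval (R := R) φ) = Ideal.span {φ.charpoly} := by
  classical
  refine le_antisymm (fun q hq => ?_) ((Ideal.span_singleton_le_iff_mem _).2 (Matrix.aeval_self_charpoly φ))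
  let L := AlgebraicClosure (FractionRing R)
  let ψ : Matrix n n L := φ.map (algebraMap R L)
  let r := q %ₘ φ.charpoly
  have hr : Polynomial.aeval φ r = 0 := by
    have h := congrArg (Polynomial.aeval φ) (Polynomial.modByMonic_add_div q φ.charpoly)
    rw [map_add, map_mul, Matrix.aeval_self_charpoly, zero_mul, add_zero] at h
    rw [h]; exact hq
  suffices hr0 : r = 0 from
    Ideal.mem_span_singleton.2 ((Polynomial.modByMonic_eq_zero_iff_dvd φ.charpoly_monic).1 hr0)
  have hψ : Polynomial.aeval ψ (r.map (algebraMap R L)) = 0 := by
    rw [Polynomial.aeval_map_algebraMap]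
    have h := congrArg ((Algebra.ofId R L).mapMatrix) hr
    rw [← Polynomial.aeval_algHom_apply, map_zero] at h
    exact h
  have hcp : ψ.charpoly = φ.charpoly.map (algebraMap R L) := Matrix.charpoly_map φ (algebraMap R L)
  have hsep' : ψ.charpoly.Separable := by
    rw [hcp, IsScalarTower.algebraMap_eq R (FractionRing R) L, ← Polynomial.map_map]
    exact hsep.map
  have hroot : ∀ μ ∈ ψ.charpoly.roots.toFinset, (r.map (algebraMap R L)).IsRoot μ := fun μ hμ => by
    have hdet : (Matrix.scalar n μ - ψ).det = 0 := by
      rw [← Matrix.eval_charpoly]; exact (Polynomial.mem_roots'.1 (Multiset.mem_toFinset.1 hμ)).2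
    obtain ⟨v, hv, hv0⟩ := Matrix.exists_mulVec_eq_zero_iff.2 hdet
    rw [Matrix.sub_mulVec, sub_eq_zero] at hv0
    have hev : ψ.mulVec v = μ • v := by
      rw [← hv0]; ext i; simp [Matrix.mulVec_diagonal]
    have key : ∀ p : Polynomial L, (Polynomial.aeval ψ p).mulVec v = p.eval μ • v := fun p => by
      induction p using Polynomial.induction_on' with
      | add p q hp hq => rw [map_add, Matrix.add_mulVec, hp, hq, Polynomial.eval_add, add_smul]
      | monomial k c =>
        have hk : (ψ ^ k).mulVec v = μ ^ k • v := by
          induction k with
          | zero => simp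
          | succ k ih => rw [pow_succ', ← Matrix.mulVec_mulVec, ih, Matrix.mulVec_smul, hev, smul_smul, pow_succ]
        rw [Polynomial.aeval_monomial, Polynomial.eval_monomial, ← Algebra.smul_def, Matrix.smul_mulVec, hk, smul_smul]
    have h := key (r.map (algebraMap R L))
    rw [hψ, Matrix.zero_mulVec, eq_comm, smul_eq_zero] at h
    exact h.resolve_right hv
  have hcard : ψ.charpoly.roots.toFinset.card = φ.charpoly.natDegree := by
    rw [Multiset.toFinset_card_of_nodup (Polynomial.nodup_roots hsep'), IsAlgClosed.card_roots_eq_natDegree, hcp,
      φ.charpoly_monic.natDegree_map]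
  by_contra hne
  have hlt : r.natDegree < φ.charpoly.natDegree :=
    Polynomial.natDegree_lt_natDegree hne (Polynomial.degree_modByMonic_lt q φ.charpoly_monic)
  have hinjL : Function.Injective (algebraMap R L) := by
    rw [IsScalarTower.algebraMap_eq R (FractionRing R) L]
    exact (algebraMap (FractionRing R) L).injective.comp (IsFractionRing.injective R (FractionRing R))
  refine hne ((Polynomial.map_eq_zero_iff hinjL).1 (Polynomial.eq_zero_of_natDegree_lt_card_of_eval_eq_zero'
    _ _ hroot (by rw [hcard, Polynomial.natDegree_map_eq_of_injective hinjL]; exact hlt)))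

end Groth.Agent.S16979
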