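import Groth.Statements.S1698
import Groth.Agent.DepthPush.Algebra
import Groth.Agent.FlatModB.Basic
import Groth.Agent.RefStalk.Eval
import Groth.Agent.QC.Localisation

set_option autoImplicit false
universe u
open CategoryTheory CategoryTheory.Limits AlgebraicGeometry TopologicalSpace
open SDiv

namespace Groth.Agent.S1698

set_option linter.style.haveILetI false
set_option backward.isDefEq.respectTransparency false

open Groth.Agent Groth.Agent.QC
open TensorProduct

/-- Over an open set missing the fibre, some element off the prime is a combination of endomorphisms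
with coefficients in the prime. -/
theorem exists_smul_id_mem {X S : Scheme.{u}} (f : X ⟶ S) (F : X.Modules) {V : S.Opens} (hV : IsAffineOpen V)
    {s : S} (hs : s ∈ V) {U : X.Opens} (hU : IsAffineOpen U) (h : U ≤ f ⁻¹ᵁ V)
    (hfib : s ∉ Set.range (fun x => f x)) :
    letI := FlatModB.secModule f F U V h
    ∃ t ∉ (hV.primeIdealOf ⟨s, hs⟩).asIdeal, (t • LinearMap.id : Γ(F, U) →ₗ[Γ(S, V)] Γ(F, U)) ∈
      (hV.primeIdealOf ⟨s, hs⟩).asIdeal • (⊤ : Submodule Γ(S, V) (Γ(F, U) →ₗ[Γ(S, V)] Γ(F, U))) := by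
  letI := FlatModB.secModule f F U V h
  let φ := (f.appLE V U h).hom
  let p := (hV.primeIdealOf ⟨s, hs⟩).asIdeal
  haveI : SMulCommClass Γ(S, V) Γ(X, U) Γ(F, U) := ⟨fun a c m => by
    change φ a • c • m = c • φ a • m
    rw [smul_comm]⟩
  have hmeet : ¬ Disjoint ((p.map φ : Ideal Γ(X, U)) : Set Γ(X, U)) (p.primeCompl.map φ : Submonoid Γ(X, U)) := by
    intro hd
    obtain ⟨q, hq, hle, hdq⟩ := Ideal.exists_le_prime_disjoint _ _ hd
    have hcomap : q.comap φ = p := by
      refine le_antisymm (fun a ha => ?_) (Ideal.map_le_iff_le_comap.1 hle)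
      by_contra hap
      exact Set.disjoint_left.1 hdq ha ⟨a, hap, rfl⟩
    let x : X := hU.fromSpec ⟨q, hq⟩
    refine hfib ⟨x, ?_⟩
    have e : hV.fromSpec (Spec.map (f.appLE V U h) ⟨q, hq⟩) = f x :=
      congr($(IsAffineOpen.SpecMap_appLE_fromSpec f hV hU h) (⟨q, hq⟩ : PrimeSpectrum Γ(X, U)))
    refine e.symm.trans ((congrArg _ ?_).trans (hV.fromSpec_primeIdealOf ⟨s, hs⟩))
    exact PrimeSpectrum.ext hcomap
  obtain ⟨c, hc, t, ht, rfl⟩ := Set.not_disjoint_iff.1 hmeet
  refine ⟨t, ht, ?_⟩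
  let L : Γ(X, U) → (Γ(F, U) →ₗ[Γ(S, V)] Γ(F, U)) := fun c =>
    { toFun := fun m => c • m
      map_add' := fun m n => smul_add c m n
      map_smul' := fun a m => (smul_comm a c m).symm }
  have key : ∀ c ∈ p.map φ, L c ∈ p • (⊤ : Submodule Γ(S, V) (Γ(F, U) →ₗ[Γ(S, V)] Γ(F, U))) := by
    intro c hc
    induction hc using Submodule.span_induction with
    | mem c hc =>
      obtain ⟨a, ha, rfl⟩ := hc
      rw [show L (φ a) = a • LinearMap.id from LinearMap.ext fun m => rfl]
      exact Submodule.smul_mem_smul ha trivial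
    | zero =>
      rw [show L 0 = 0 from LinearMap.ext fun m => zero_smul Γ(X, U) m]
      exact zero_mem _
    | add c d _ _ ihc ihd =>
      rw [show L (c + d) = L c + L d from LinearMap.ext fun m => add_smul c d m]
      exact add_mem ihc ihd
    | smul b c _ ihc =>
      rw [show L (b • c) = (L b) ∘ₗ (L c) from LinearMap.ext fun m => mul_smul b c m]
      refine Submodule.smul_induction_on ihc (fun a ha g _ => ?_) (fun g g' hg hg' => ?_)
      · rw [LinearMap.comp_smul]
        exact Submodule.smul_mem_smul ha trivial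
      · rw [LinearMap.comp_add]
        exact add_mem hg hg'
  have h1 := key _ hc
  rwa [show L (φ t) = t • LinearMap.id from LinearMap.ext fun m => rfl] at h1

theorem flat_pi {A : Type u} [CommRing A] {ι : Type u} [Fintype ι] (N : ι → Type u) [∀ i, AddCommGroup (N i)]
    [∀ i, Module A (N i)] [∀ i, Module.Flat A (N i)] : Module.Flat A (Π i, N i) := by
  classical
  exact Module.Flat.of_linearEquiv (DirectSum.linearEquivFunOnFintype A ι N).symm

/-- Let f : X ⟶ S be quasi-compact and quasi-separated, F a quasi-coherent module on X and s a point of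
S such that the stalk (f_* F)_s is a finite module over O_{S,s}. (3) If s is not in the image of f
and O_{S,s} is Noetherian, then (f_* F)_s has depth at least 2. (6) If F is flat over S, then (f_*
F)_s has depth at least min(2, depth O_{S,s}). -/
theorem result {X S : Scheme.{u}} (f : X ⟶ S) [QuasiCompact f] [QuasiSeparated f] (F : X.Modules)
    (hF : Coh.IsQCoh F) (s : ↥S)
    [Module.Finite (S.presheaf.stalk s) (((Scheme.Modules.pushforward f).obj F).presheaf.stalk s)] :
    ((s ∉ Set.range (fun x => f x)) → IsNoetherianRing (S.presheaf.stalk s) →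
        (2 : ℕ∞) ≤ LocCoh.depth (S.presheaf.stalk s) (((Scheme.Modules.pushforward f).obj F).presheaf.stalk s)) ∧
      (FlatMod.IsFlatOver f F →
        min (2 : ℕ∞) (LocCoh.depth (S.presheaf.stalk s) (S.presheaf.stalk s)) ≤
          LocCoh.depth (S.presheaf.stalk s) (((Scheme.Modules.pushforward f).obj F).presheaf.stalk s)) := by
  classical
  obtain ⟨_, ⟨V, hV, rfl⟩, hs, -⟩ := S.isBasis_affineOpens.exists_subset_of_mem_open
    (Set.mem_univ s) isOpen_univ
  have hc : IsCompact ((f ⁻¹ᵁ V : X.Opens) : Set X) :=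
    f.isSpectralMap.isCompact_preimage_of_isOpen V.2 hV.isCompact
  have hq : IsQuasiSeparated ((f ⁻¹ᵁ V : X.Opens) : Set X) :=
    f.isQuasiSeparated_preimage hV.isQuasiSeparated
  obtain ⟨ι, _, U, hU, hUV, hcov⟩ := QC.exists_finite_affine_cover hc
  have hW0 : ∀ q : ι × ι, IsCompact ((U q.1 ⊓ U q.2 : X.Opens) : Set X) := fun q =>
    hq _ _ (hUV q.1) (U q.1).2 (hU q.1).isCompact (hUV q.2) (U q.2).2 (hU q.2).isCompact
  choose κ hκ W hW hWU hWcov using fun q => QC.exists_finite_affine_cover (hW0 q)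
  haveI : ∀ q, Fintype (κ q) := hκ
  have h1 : ∀ k : Σ q : ι × ι, κ q, W k.1 k.2 ≤ U k.1.1 := fun k => (hWU k.1 k.2).trans inf_le_left
  have h2 : ∀ k : Σ q : ι × ι, κ q, W k.1 k.2 ≤ U k.1.2 := fun k => (hWU k.1 k.2).trans inf_le_right
  have hWV : ∀ k : Σ q : ι × ι, κ q, W k.1 k.2 ≤ f ⁻¹ᵁ V := fun k => (h1 k).trans (hUV k.1.1)
  let A := Γ(S, V)
  letI mU : ∀ i, Module Γ(S, V) Γ(F, U i) := fun i => FlatModB.secModule f F (U i) V (hUV i)
  letI mW : ∀ k : Σ q : ι × ι, κ q, Module Γ(S, V) Γ(F, W k.1 k.2) := fun k =>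
    FlatModB.secModule f F (W k.1 k.2) V (hWV k)
  let P := (Scheme.Modules.pushforward f).obj F
  haveI : F.IsQuasicoherent := hF
  have hP : Coh.IsQCoh P := QC.isQCoh_pushforward f
  have happ : ∀ {O O' : X.Opens} (h : O' ≤ O) (e : O ≤ f ⁻¹ᵁ V) (a : Γ(S, V)),
      resO X h ((f.appLE V O e).hom a) = (f.appLE V O' (h.trans e)).hom a := fun h e a =>
    congr($(f.appLE_map e (homOfLE h).op) a)
  let φ₀ : Γ(P, V) →ₗ[Γ(S, V)] Π i, Γ(F, U i) :=
    { toFun := fun m i => res F (hUV i) m
      map_add' := fun m n => funext fun i => map_add (res F (hUV i)) m n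
      map_smul' := fun a m => funext fun i => by
        change res F (hUV i) ((f.app V).hom a • (show Γ(F, f ⁻¹ᵁ V) from m)) =
          (f.appLE V (U i) (hUV i)).hom a • res F (hUV i) m
        rw [res_smul]
        rfl }
  let ψ₀ : (Π i, Γ(F, U i)) →ₗ[Γ(S, V)] Π k : Σ q : ι × ι, κ q, Γ(F, W k.1 k.2) :=
    { toFun := fun v k => res F (h1 k) (v k.1.1) - res F (h2 k) (v k.1.2)
      map_add' := fun v w => funext fun k => by
        simp only [Pi.add_apply, map_add]; abel
      map_smul' := fun a v => funext fun k => by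
        change res F (h1 k) ((f.appLE V (U k.1.1) (hUV _)).hom a • v k.1.1) -
            res F (h2 k) ((f.appLE V (U k.1.2) (hUV _)).hom a • v k.1.2) =
          (f.appLE V (W k.1 k.2) (hWV k)).hom a • (res F (h1 k) (v k.1.1) - res F (h2 k) (v k.1.2))
        rw [res_smul, res_smul, smul_sub, happ, happ] }
  have hinj : Function.Injective φ₀ := fun m n hmn => QC.section_eq_of_locally (M := F) (U := f ⁻¹ᵁ V) fun x hx =>
    let ⟨i, hi⟩ := hcov x hx; ⟨U i, hUV i, hi, congrFun hmn i⟩
  have hexact : Function.Exact φ₀ ψ₀ := by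
    intro v
    constructor
    · intro hv
      obtain ⟨a, ha, -⟩ := TopCat.Sheaf.existsUnique_gluing' (QC.abSheaf F) U (f ⁻¹ᵁ V)
        (fun i => homOfLE (hUV i))
        (fun x hx => let ⟨i, hi⟩ := hcov x hx; Opens.mem_iSup.mpr ⟨i, hi⟩) v (fun i j => by
          change res F (inf_le_left : U i ⊓ U j ≤ U i) (v i) = res F (inf_le_right : U i ⊓ U j ≤ U j) (v j)
          refine QC.section_eq_of_locally fun x hx => ?_
          obtain ⟨k, hk⟩ := hWcov (i, j) x hx
          refine ⟨W (i, j) k, hWU (i, j) k, hk, ?_⟩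
          rw [res_res, res_res]
          exact sub_eq_zero.1 (congrFun hv ⟨(i, j), k⟩))
      exact ⟨a, funext ha⟩
    · rintro ⟨m, rfl⟩
      refine funext fun k => ?_
      change res F (h1 k) (res F (hUV _) m) - res F (h2 k) (res F (hUV _) m) = 0
      rw [res_res, res_res, sub_self]
  let R := S.presheaf.stalk s
  letI : Algebra Γ(S, V) R := S.presheaf.algebra_section_stalk (⟨s, hs⟩ : V)
  let p := (hV.primeIdealOf ⟨s, hs⟩).asIdeal
  haveI : IsLocalization.AtPrime R p := hV.isLocalization_stalk ⟨s, hs⟩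
  haveI : Module.Flat Γ(S, V) R := IsLocalization.flat R p.primeCompl
  letI : Module Γ(S, V) (P.presheaf.stalk s) :=
    Module.compHom (P.presheaf.stalk s) (S.presheaf.germ V s hs).hom
  haveI : IsScalarTower Γ(S, V) R (P.presheaf.stalk s) := ⟨fun a c m => by
    change ((S.presheaf.germ V s hs).hom a * c) • m = (S.presheaf.germ V s hs).hom a • c • m
    rw [mul_smul]⟩
  obtain ⟨g, hg, -⟩ := RefStalk.exists_loc (F := P) hV hP hs
  haveI := hg
  let e := (IsLocalizedModule.isBaseChange p.primeCompl R g).equiv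
  let φ := φ₀.baseChange R ∘ₗ e.symm.toLinearMap
  let ψ := ψ₀.baseChange R
  have hφ : Function.Injective φ :=
    (Module.Flat.lTensor_preserves_injective_linearMap φ₀ hinj).comp e.symm.injective
  have hφψ : Function.Exact φ ψ := by
    intro y
    refine (Module.Flat.lTensor_exact R hexact y).trans ⟨?_, ?_⟩
    · rintro ⟨z, rfl⟩
      exact ⟨e z, by change φ₀.baseChange R (e.symm (e z)) = _; rw [e.symm_apply_apply]; rfl⟩
    · rintro ⟨z, rfl⟩
      exact ⟨e.symm z, rfl⟩
  refine ⟨fun hfib hN => ?_, fun hflat => ?_⟩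
  · haveI := hN
    choose tU htU hUm using fun i => exists_smul_id_mem f F hV hs (hU i) (hUV i) hfib
    choose tW htW hWm using fun k : Σ q : ι × ι, κ q => exists_smul_id_mem f F hV hs (hW k.1 k.2) (hWV k) hfib
    obtain ⟨a, ha, ha'⟩ := DepthPush.pi_mem_smul (p := p) (fun i => Γ(F, U i)) tU htU hUm
    obtain ⟨b, hb, hb'⟩ := DepthPush.pi_mem_smul (p := p) (fun k : Σ q : ι × ι, κ q => Γ(F, W k.1 k.2)) tW htW hWm
    exact DepthPush.two_le_depth (R := R) hφ hφψ (DepthPush.unitAct_baseChange ha ha')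
      (DepthPush.unitAct_baseChange hb hb')
  · haveI : ∀ i, Module.Flat Γ(S, V) Γ(F, U i) := fun i =>
      (FlatModB.flat_sections_iff f F hF (hU i) hV (hUV i)).2 fun x _ => hflat x
    haveI : ∀ k : Σ q : ι × ι, κ q, Module.Flat Γ(S, V) Γ(F, W k.1 k.2) := fun k =>
      (FlatModB.flat_sections_iff f F hF (hW k.1 k.2) hV (hWV k)).2 fun x _ => hflat x
    haveI := flat_pi (A := Γ(S, V)) (fun i => Γ(F, U i))
    haveI := flat_pi (A := Γ(S, V)) (fun k : Σ q : ι × ι, κ q => Γ(F, W k.1 k.2))
    exact DepthPush.min_depth_le (R := R) hφ hφψ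

end Groth.Agent.S1698
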