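import Groth.Statements.S18436
import Mathlib.Algebra.Polynomial.Laurent
import Mathlib.RingTheory.MvPolynomial.Basic
import Mathlib.LinearAlgebra.FreeModule.Basic
import Mathlib.LinearAlgebra.Basis.Prod

set_option autoImplicit false
set_option backward.isDefEq.respectTransparency false
universe u
open SpinCurv

namespace Groth.Agent.S18436

open SpinCurv

noncomputable section

variable (R : Type u) [CommRing R] (π : R)

/-- The monomial of exponent `j`. -/
def mon (j : ℤ) : PolyNodeRing R π :=
  if 0 ≤ j then PolyNodeRing.x R π ^ j.toNat else PolyNodeRing.y R π ^ (-j).toNat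

lemma xy : PolyNodeRing.x R π * PolyNodeRing.y R π = algebraMap R _ π := by
  rw [← map_mul]
  exact Ideal.Quotient.eq.2 (Ideal.subset_span (Set.mem_singleton _))

lemma pow_mul_pow (a b : ℕ) :
    PolyNodeRing.x R π ^ a * PolyNodeRing.y R π ^ b = π ^ min a b • mon R π ((a : ℤ) - b) := by
  refine Eq.trans ?_ (Algebra.smul_def (π ^ min a b) (mon R π ((a : ℤ) - b))).symm
  rw [map_pow, ← xy, mul_pow, mon]
  rcases le_or_gt b a with h | h
  · obtain ⟨c, rfl⟩ := Nat.exists_eq_add_of_le h
    rw [if_pos (by omega), show (((b + c : ℕ) : ℤ) - b).toNat = c by omega, min_eq_right (by omega), pow_add]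
    ring
  · obtain ⟨c, rfl⟩ := Nat.exists_eq_add_of_le h.le
    rw [if_neg (by omega), show (-((a : ℤ) - (a + c : ℕ))).toNat = c by omega, min_eq_left (by omega), pow_add]
    ring

/-- The coordinates of a polynomial. -/
def Φ : MvPolynomial (Fin 2) R →ₗ[R] (ℤ →₀ R) :=
  (MvPolynomial.basisMonomials (Fin 2) R).constr R fun m =>
    π ^ min (m 0) (m 1) • Finsupp.single ((m 0 : ℤ) - m 1) 1

lemma Φ_monomial (m : Fin 2 →₀ ℕ) (a : R) :
    Φ R π (MvPolynomial.monomial m a) =
      Finsupp.single ((m 0 : ℤ) - m 1) (a * π ^ min (m 0) (m 1)) := by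
  have := (MvPolynomial.basisMonomials (Fin 2) R).constr_basis R (fun m : Fin 2 →₀ ℕ =>
    π ^ min (m 0) (m 1) • Finsupp.single ((m 0 : ℤ) - m 1) (1 : R)) m
  rw [MvPolynomial.coe_basisMonomials] at this
  conv_lhs => rw [show MvPolynomial.monomial m a = a • MvPolynomial.monomial m (1 : R) by
    rw [MvPolynomial.smul_monomial, smul_eq_mul, mul_one]]
  rw [map_smul]
  refine (congrArg (a • ·) this).trans ?_
  rw [Finsupp.smul_single, Finsupp.smul_single, smul_eq_mul, smul_eq_mul, mul_one]

lemma Φ_mul (c : MvPolynomial (Fin 2) R) :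
    Φ R π (c * (MvPolynomial.X 0 * MvPolynomial.X 1 - MvPolynomial.C π)) = 0 := by
  induction c using MvPolynomial.induction_on' with
  | add a b ha hb => rw [add_mul, map_add, ha, hb, add_zero]
  | monomial m a =>
    have hX : (MvPolynomial.X 0 * MvPolynomial.X 1 : MvPolynomial (Fin 2) R) =
        MvPolynomial.monomial (Finsupp.single 0 1 + Finsupp.single 1 1) 1 := by
      rw [MvPolynomial.X, MvPolynomial.X, MvPolynomial.monomial_mul, one_mul]
    have h0 : (m + (Finsupp.single 0 1 + Finsupp.single 1 1) : Fin 2 →₀ ℕ) 0 = m 0 + 1 := by simp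
    have h1 : (m + (Finsupp.single 0 1 + Finsupp.single 1 1) : Fin 2 →₀ ℕ) 1 = m 1 + 1 := by simp
    rw [mul_sub, hX, MvPolynomial.monomial_mul, mul_one, MvPolynomial.C_apply, MvPolynomial.monomial_mul,
      add_zero, map_sub, Φ_monomial, Φ_monomial, h0, h1,
      show min (m 0 + 1) (m 1 + 1) = min (m 0) (m 1) + 1 by omega,
      show ((m 0 + 1 : ℕ) : ℤ) - (m 1 + 1 : ℕ) = (m 0 : ℤ) - m 1 by omega, pow_succ', mul_assoc, sub_self]

/-- `R[x, y]/(xy - π)` is free on the monomials. -/
def nodeBasis : Module.Basis ℤ R (PolyNodeRing R π) :=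
  .ofRepr <| LinearEquiv.ofLinear
    (Submodule.liftQ ((Ideal.span {(MvPolynomial.X 0 * MvPolynomial.X 1 - MvPolynomial.C π :
        MvPolynomial (Fin 2) R)}).restrictScalars R) (Φ R π) (fun a ha => by
      obtain ⟨c, rfl⟩ := Ideal.mem_span_singleton'.1 ha
      exact Φ_mul R π c) ∘ₗ
      (Submodule.Quotient.restrictScalarsEquiv R (Ideal.span {(MvPolynomial.X 0 * MvPolynomial.X 1 -
        MvPolynomial.C π : MvPolynomial (Fin 2) R)})).symm.toLinearMap)
    (Finsupp.linearCombination R (mon R π)) (by
      refine Finsupp.lhom_ext' fun j => LinearMap.ext_ring ?_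
      simp only [LinearMap.comp_apply, Finsupp.lsingle_apply, LinearMap.id_apply,
        Finsupp.linearCombination_single, one_smul, mon]
      split_ifs with h
      · show Φ R π (MvPolynomial.X 0 ^ j.toNat) = _
        rw [MvPolynomial.X_pow_eq_monomial, Φ_monomial, one_mul]
        simp [Int.toNat_of_nonneg h]
      · show Φ R π (MvPolynomial.X 1 ^ (-j).toNat) = _
        rw [MvPolynomial.X_pow_eq_monomial, Φ_monomial, one_mul]
        simp [Int.toNat_of_nonneg (show 0 ≤ -j by omega)]) (by
      refine LinearMap.ext fun e => ?_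
      obtain ⟨e, rfl⟩ := Ideal.Quotient.mk_surjective e
      show Finsupp.linearCombination R (mon R π) (Φ R π e) = _
      have h : Finsupp.linearCombination R (mon R π) ∘ₗ Φ R π =
          (Ideal.Quotient.mkₐ R _).toLinearMap := by
        refine (MvPolynomial.basisMonomials (Fin 2) R).ext fun m => ?_
        rw [MvPolynomial.coe_basisMonomials]
        show Finsupp.linearCombination R (mon R π) (Φ R π (MvPolynomial.monomial m 1)) = _
        rw [Φ_monomial, one_mul, Finsupp.linearCombination_single, ← pow_mul_pow]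
        show _ = Ideal.Quotient.mk _ (MvPolynomial.monomial m 1)
        rw [MvPolynomial.monomial_eq, MvPolynomial.C_1, one_mul, Finsupp.prod_fintype _ _ (fun _ => pow_zero _),
          Fin.prod_univ_two, map_mul, map_pow, map_pow]
      exact LinearMap.congr_fun h e)

lemma nodeBasis_apply (j : ℤ) : nodeBasis R π j = mon R π j := by
  show Finsupp.linearCombination R (mon R π) (Finsupp.single j 1) = _
  rw [Finsupp.linearCombination_single, one_smul]

lemma free_ker {U V W : Type u} [AddCommGroup U] [Module R U] [AddCommGroup V] [Module R V]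
    [AddCommGroup W] [Module R W] (K : U × V →ₗ[R] W) (Ψ : (ℤ →₀ R) →ₗ[R] U × V)
    (Φ' : U × V →ₗ[R] (ℤ →₀ R)) (H : W →ₗ[R] U × V)
    (h₁ : Φ' ∘ₗ Ψ = LinearMap.id) (h₂ : K ∘ₗ Ψ = 0) (h₃ : Ψ ∘ₗ Φ' + H ∘ₗ K = LinearMap.id) :
    Module.Free R (LinearMap.ker K) := by
  refine Module.Free.of_equiv (LinearEquiv.ofLinear
    (Ψ.codRestrict (LinearMap.ker K) (fun z => LinearMap.congr_fun h₂ z))
    (Φ' ∘ₗ (LinearMap.ker K).subtype) ?_ ?_)
  · refine LinearMap.ext fun x => Subtype.ext ?_
    have := LinearMap.congr_fun h₃ (x : U × V)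
    rw [LinearMap.add_apply, LinearMap.comp_apply H K, LinearMap.mem_ker.1 x.2, map_zero, add_zero] at this
    exact this
  · exact LinearMap.ext fun z => LinearMap.congr_fun h₁ z

end

/-- Let R be a commutative ring and p, q ∈ R, and consider the two affine charts U = Spec R[s, y]/(sy -
q) and V = Spec R[t, x]/(xt - p) of the curve obtained from the node xy = pq by the (p,
q)-construction, glued along R[s, s⁻¹] by t = s⁻¹ (so y = q s⁻¹ on U and x = p s on V). For an
integer n ≥ -1 the global sections of the twisting sheaf O(n) (equal to vⁿ O on U and to ξⁿ O on V,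
ξ = s v) are the pairs (g, f) of functions on U and V with g = sⁿ f on U ∩ V. This R-module, written
as the kernel of the R-linear map (g, f) ↦ g|_{U ∩ V} - sⁿ · f|_{U ∩ V} into R[s, s⁻¹], is free over
R (hence the direct image of O(n) on the node is flat over R). Both chart rings are written as the
quotient of the polynomial ring in two variables by (first variable)·(second variable) - constant,
and the two restriction homomorphisms to R[s, s⁻¹] are R-algebra maps pinned by their values on
generators. (The published setting has R complete local and p, q in the maximal ideal; the printed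
computation uses neither.) -/
theorem result (R : Type u) [CommRing R] (p q : R)
    (gU : SpinCurv.PolyNodeRing R q →ₐ[R] LaurentPolynomial R)
    (hgUs : gU (SpinCurv.PolyNodeRing.x R q) = LaurentPolynomial.T 1)
    (hgUy : gU (SpinCurv.PolyNodeRing.y R q) = LaurentPolynomial.C q * LaurentPolynomial.T (-1))
    (gV : SpinCurv.PolyNodeRing R p →ₐ[R] LaurentPolynomial R)
    (hgVt : gV (SpinCurv.PolyNodeRing.x R p) = LaurentPolynomial.T (-1))
    (hgVx : gV (SpinCurv.PolyNodeRing.y R p) = LaurentPolynomial.C p * LaurentPolynomial.T 1)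
    (n : ℤ) (hn : -1 ≤ n) :
    Module.Free R (LinearMap.ker
      (gU.toLinearMap.comp (LinearMap.fst R (SpinCurv.PolyNodeRing R q) (SpinCurv.PolyNodeRing R p)) -
        (LinearMap.mulLeft R (LaurentPolynomial.T n)).comp
          (gV.toLinearMap.comp (LinearMap.snd R (SpinCurv.PolyNodeRing R q) (SpinCurv.PolyNodeRing R p))))) := by
  let eU := nodeBasis R q
  let eV := nodeBasis R p
  let bW : Module.Basis ℤ R (LaurentPolynomial R) := AddMonoidAlgebra.basis ℤ R
  have hbW : ∀ m, bW m = LaurentPolynomial.T m := fun m => AddMonoidAlgebra.basis_apply R m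
  have hH : ∀ (f : ℤ → PolyNodeRing R q × PolyNodeRing R p) (m : ℤ),
      bW.constr R f (LaurentPolynomial.T m) = f m := fun f m => by rw [← hbW, Module.Basis.constr_basis]
  have hC : ∀ (r : R) (f : LaurentPolynomial R), LaurentPolynomial.C r * f = r • f := fun r f => by
    rw [Algebra.smul_def]
    rfl
  have hU : ∀ j, gU (eU j) = (if 0 ≤ j then 1 else q ^ (-j).toNat : R) • LaurentPolynomial.T j := fun j => by
    rw [nodeBasis_apply, mon]
    split_ifs with h
    · rw [map_pow, hgUs, LaurentPolynomial.T_pow, one_smul, mul_one, Int.toNat_of_nonneg h]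
    · rw [map_pow, hgUy, mul_pow, ← map_pow, hC, LaurentPolynomial.T_pow, mul_neg, mul_one,
        Int.toNat_of_nonneg (by omega), neg_neg]
  have hV : ∀ j, LaurentPolynomial.T n * gV (eV j) =
      (if 0 ≤ j then 1 else p ^ (-j).toNat : R) • LaurentPolynomial.T (n - j) := fun j => by
    rw [nodeBasis_apply, mon]
    split_ifs with h
    · rw [map_pow, hgVt, LaurentPolynomial.T_pow, one_smul, ← LaurentPolynomial.T_add, mul_neg, mul_one,
        Int.toNat_of_nonneg h, sub_eq_add_neg]
    · rw [map_pow, hgVx, mul_pow, ← map_pow, LaurentPolynomial.T_pow, hC, mul_smul_comm,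
        ← LaurentPolynomial.T_add, mul_one, Int.toNat_of_nonneg (by omega), sub_eq_add_neg]
  refine free_ker R _
    (Finsupp.linearCombination R fun m : ℤ =>
      if m < 0 then (eU m, (q ^ (-m).toNat : R) • eV (n - m))
      else ((if 0 ≤ n - m then 1 else p ^ (-(n - m)).toNat : R) • eU m, eV (n - m)))
    (LinearMap.coprod (eU.constr R fun m => if m < 0 then Finsupp.single m 1 else 0)
      (eV.constr R fun j => if 0 ≤ n - j then Finsupp.single (n - j) 1 else 0))
    (bW.constr R fun m => if m < 0 then (0, -eV (n - m)) else (eU m, 0)) ?_ ?_ ?_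
  · refine Finsupp.lhom_ext' fun m => LinearMap.ext_ring ?_
    simp only [LinearMap.comp_apply, Finsupp.lsingle_apply, LinearMap.id_apply,
      Finsupp.linearCombination_single, one_smul]
    by_cases hm : m < 0
    · rw [if_pos hm]
      simp [LinearMap.coprod_apply, hm, not_le.2 hm]
    · rw [if_neg hm]
      simp [LinearMap.coprod_apply, not_lt.1 hm]
      split_ifs <;> simp [not_lt.1 hm]
  · refine Finsupp.lhom_ext' fun m => LinearMap.ext_ring ?_
    simp only [LinearMap.comp_apply, Finsupp.lsingle_apply, LinearMap.zero_apply,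
      Finsupp.linearCombination_single, one_smul, LinearMap.sub_apply]
    by_cases hm : m < 0
    · have h1 : 0 ≤ n - m := by omega
      simp only [if_pos hm]
      simp [hU, hV, not_le.2 hm, if_pos h1, show m ≤ n by omega]
    · have h1 : 0 ≤ m := not_lt.1 hm
      by_cases h2 : m ≤ n
      · simp [hU, hV, hm, h1, h2]
      · simp [hU, hV, hm, h1, h2]
  · refine LinearMap.prod_ext (eU.ext fun m => ?_) (eV.ext fun j => ?_)
    · by_cases hm : m < 0
      · simp [LinearMap.coprod_apply, hU, hH, hm, not_le.2 hm, Prod.ext_iff]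
      · simp [LinearMap.coprod_apply, hU, hH, hm, not_lt.1 hm, Prod.ext_iff]
    · by_cases hj : j ≤ n
      · by_cases h0 : 0 ≤ j
        · simp [LinearMap.coprod_apply, hV, hH, hj, h0, not_lt.2 hj, Prod.ext_iff]
        · simp [LinearMap.coprod_apply, hV, hH, hj, h0, not_lt.2 hj, Prod.ext_iff]
      · have h0 : 0 ≤ j := by omega
        simp [LinearMap.coprod_apply, hV, hH, hj, h0, not_le.1 hj, Prod.ext_iff]

end Groth.Agent.S18436
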