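import Groth.Statements.S16980
import Groth.Agent.S18436
import Mathlib.Algebra.TrivSqZeroExt.Ideal
import Mathlib.RingTheory.Kaehler.Basic
import Mathlib.RingTheory.MvPolynomial.Basic

set_option autoImplicit false
set_option backward.isDefEq.respectTransparency false
set_option maxHeartbeats 1000000
universe u
open CAlg

namespace Groth.Agent.S16980

open scoped TensorProduct

/-- Nothing but zero is killed by both variables of the node. -/
lemma node_annihilator (A : Type u) [CommRing A] (t : A) (f : SpinCurv.PolyNodeRing A t)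
    (hx : f * SpinCurv.PolyNodeRing.x A t = 0) (hy : f * SpinCurv.PolyNodeRing.y A t = 0) : f = 0 := by
  classical
  let b := Groth.Agent.S18436.nodeBasis A t
  have hb : ∀ j, b j = Groth.Agent.S18436.mon A t j := Groth.Agent.S18436.nodeBasis_apply A t
  have hxb : ∀ j, b j * SpinCurv.PolyNodeRing.x A t = (if 0 ≤ j then 1 else t) • b (j + 1) := fun j => by
    rw [hb, hb, Groth.Agent.S18436.mon, Groth.Agent.S18436.mon]
    split_ifs with h h' h'
    · rw [one_smul, ← pow_succ, show (j + 1).toNat = j.toNat + 1 by omega]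
    · omega
    · obtain rfl : j = -1 := by omega
      simp only [neg_neg, Int.reduceToNat, Int.reduceAdd, Int.reduceNeg, pow_one, pow_zero]
      rw [mul_comm, Groth.Agent.S18436.xy]
      exact Algebra.algebraMap_eq_smul_one t
    · rw [show (-j).toNat = (-(j + 1)).toNat + 1 by omega, pow_succ, mul_assoc,
        mul_comm (SpinCurv.PolyNodeRing.y A t), Groth.Agent.S18436.xy, mul_comm]
      exact (Algebra.smul_def _ _).symm
  have hyb : ∀ j, b j * SpinCurv.PolyNodeRing.y A t = (if 0 < j then t else 1) • b (j - 1) := fun j => by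
    rw [hb, hb, Groth.Agent.S18436.mon, Groth.Agent.S18436.mon]
    by_cases h : 0 < j
    · rw [if_pos h.le, if_pos (show 0 ≤ j - 1 by omega), if_pos h,
        show j.toNat = (j - 1).toNat + 1 by omega, pow_succ, mul_assoc, Groth.Agent.S18436.xy, mul_comm]
      exact (Algebra.smul_def _ _).symm
    · rw [if_neg (show ¬ 0 ≤ j - 1 by omega), if_neg h, one_smul]
      by_cases h0 : j = 0
      · subst h0
        simp
      · rw [if_neg (show ¬ 0 ≤ j by omega), ← pow_succ, show (-(j - 1)).toNat = (-j).toNat + 1 by omega]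
  refine b.repr.injective (Finsupp.ext fun m => ?_)
  rw [map_zero, Finsupp.zero_apply]
  have key : ∀ (w : SpinCurv.PolyNodeRing A t) (σ : ℤ) (c : ℤ → A),
      (∀ j, b j * w = c j • b (j + σ)) → f * w = 0 → c m * b.repr f m = 0 := by
    intro w σ c hw h
    have h1 : ∀ g : SpinCurv.PolyNodeRing A t, b.repr (g * w) (m + σ) = c m * b.repr g m := by
      have : (Finsupp.lapply (m + σ)).comp (b.repr.toLinearMap.comp (LinearMap.mulRight A w)) =
          c m • (Finsupp.lapply m).comp b.repr.toLinearMap := by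
        refine b.ext fun j => ?_
        simp only [LinearMap.comp_apply, LinearMap.mulRight_apply, LinearMap.smul_apply,
          LinearEquiv.coe_coe, hw, map_smul, Module.Basis.repr_self, Finsupp.lapply_apply,
          Finsupp.smul_apply, Finsupp.single_apply, smul_eq_mul]
        by_cases hj : j = m
        · subst hj
          simp
        · simp [hj]
      exact fun g => LinearMap.congr_fun this g
    rw [← h1 f, h, map_zero, Finsupp.zero_apply]
  by_cases hm : 0 ≤ m
  · have := key _ 1 _ hxb hx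
    rwa [if_pos hm, one_mul] at this
  · have := key _ (-1) _ hyb hy
    rwa [if_neg (by omega), one_mul] at this

/-- Let A be a commutative ring, J an A-module, A′ = A ⊕ εJ the trivial square-zero extension of A by J,
and τ any element of A′. Let B′ be the A′-algebra A′[x,y]/(xy − τ), presented by two generators x, y
with the evaluation map from the polynomial ring in two variables over A′ surjective and with kernel
generated by XY − τ. Let I ⊆ B′ be the ideal generated by the square-zero ideal J of A′, so that B =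
B′/I is A[x,y]/(xy − t) with t the A-component of τ. Then the first map of the conormal sequence of
B′ → B relative to A, namely I → B ⊗_{B′} Ω_{B′/A}, i ↦ 1 ⊗ di, is injective (so the sequence 0 → I
→ B ⊗_{B′} Ω_{B′/A} → Ω_{B/A} → 0 is exact on the left as well; this is the local computation at a
node for first-order deformations of nodal curves). -/
theorem result
    (A : Type u) [CommRing A] (J : Type u) [AddCommGroup J] [Module A J] [Module Aᵐᵒᵖ J]
    [IsCentralScalar A J] (τ : TrivSqZeroExt A J)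
    (B' : Type u) [CommRing B'] [Algebra (TrivSqZeroExt A J) B'] [Algebra A B']
    [IsScalarTower A (TrivSqZeroExt A J) B'] (x y : B')
    (hsurj : Function.Surjective
      (MvPolynomial.aeval ![x, y] : MvPolynomial (Fin 2) (TrivSqZeroExt A J) →ₐ[TrivSqZeroExt A J] B'))
    (hker : RingHom.ker
      (MvPolynomial.aeval ![x, y] : MvPolynomial (Fin 2) (TrivSqZeroExt A J) →ₐ[TrivSqZeroExt A J] B') =
      Ideal.span {MvPolynomial.X 0 * MvPolynomial.X 1 - MvPolynomial.C τ}) :
    Function.Injective (KaehlerDifferential.kerToTensor A B'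
      (B' ⧸ Ideal.map (algebraMap (TrivSqZeroExt A J) B') (TrivSqZeroExt.kerIdeal A J))) := by
  classical
  let ε : J →ₗ[A] B' := (IsScalarTower.toAlgHom A (TrivSqZeroExt A J) B').toLinearMap ∘ₗ TrivSqZeroExt.inrHom A J
  have hεε : ∀ j j', ε j * ε j' = 0 := fun j j' => by
    show algebraMap _ B' (TrivSqZeroExt.inr j) * algebraMap _ B' (TrivSqZeroExt.inr j') = 0
    rw [← map_mul, TrivSqZeroExt.inr_mul_inr, map_zero]
  let I : Ideal B' := Ideal.map (algebraMap (TrivSqZeroExt A J) B') (TrivSqZeroExt.kerIdeal A J)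
  have hmem : ∀ j, ε j ∈ I := fun j => Ideal.mem_map_of_mem _
    ((TrivSqZeroExt.mem_kerIdeal_iff_inr A J _).2 (by simp [TrivSqZeroExt.inrHom]))
  have hI : I = Ideal.span (Set.range ε) := by
    refine le_antisymm (Ideal.map_le_iff_le_comap.2 fun a ha => ?_) (Ideal.span_le.2 ?_)
    · rw [(TrivSqZeroExt.mem_kerIdeal_iff_inr A J a).1 ha]
      exact Ideal.subset_span ⟨a.snd, rfl⟩
    · rintro _ ⟨j, rfl⟩
      exact hmem j
  have hII : ∀ a ∈ I, ∀ b ∈ I, a * b = 0 := by
    intro a ha b hb
    rw [hI] at ha hb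
    induction ha using Submodule.span_induction with
    | mem a ha =>
      induction hb using Submodule.span_induction with
      | mem b hb =>
        obtain ⟨j, rfl⟩ := ha
        obtain ⟨j', rfl⟩ := hb
        exact hεε j j'
      | zero => rw [mul_zero]
      | add u v _ _ hu hv => rw [mul_add, hu, hv, add_zero]
      | smul r u _ hu => rw [smul_eq_mul, mul_left_comm, hu, mul_zero]
    | zero => rw [zero_mul]
    | add u v _ _ hu hv => rw [add_mul, hu, hv, add_zero]
    | smul r u _ hu => rw [smul_eq_mul, mul_assoc, hu, mul_zero]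
  -- the relation of the two differentials
  let j₀ : J := τ.snd
  let rel : Submodule B' (↥I × (B' ⧸ I) × (B' ⧸ I)) :=
    B' ∙ ((⟨ε j₀, hmem j₀⟩, -(Ideal.Quotient.mk I y), -(Ideal.Quotient.mk I x)) : ↥I × (B' ⧸ I) × (B' ⧸ I))
  let N := (↥I × (B' ⧸ I) × (B' ⧸ I)) ⧸ rel
  let q : (↥I × (B' ⧸ I) × (B' ⧸ I)) →ₗ[B'] N := rel.mkQ
  have hann : ∀ r ∈ I, ∀ z : N, r • z = 0 := fun r hr z => by
    obtain ⟨⟨a, u, v⟩, rfl⟩ := Submodule.mkQ_surjective rel z
    rw [← map_smul]
    have hk : ∀ w : B' ⧸ I, r • w = 0 := fun w => by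
      obtain ⟨w, rfl⟩ := Ideal.Quotient.mk_surjective w
      exact Ideal.Quotient.eq_zero_iff_mem.2 (I.mul_mem_right _ hr)
    have ha : r • a = 0 := Subtype.ext (hII r hr _ a.2)
    rw [Prod.smul_mk, Prod.smul_mk, ha, hk, hk]
    exact map_zero _
  letI : Module B'ᵐᵒᵖ N := Module.compHom N ((RingHom.id B').fromOpposite mul_comm)
  haveI : IsCentralScalar B' N := ⟨fun _ _ => rfl⟩
  let inI : ↥I →ₗ[A] (TrivSqZeroExt B' N) := ((TrivSqZeroExt.inrHom B' N).comp (q.comp (LinearMap.inl B' ↥I _))).restrictScalars A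
  let εI : J →ₗ[A] ↥I := ε.codRestrict (I.restrictScalars A) hmem
  have hεI : ∀ j, ((εI j : ↥I) : B') = ε j := fun j => rfl
  let g : J →ₗ[A] (TrivSqZeroExt B' N) := (TrivSqZeroExt.inlAlgHom A B' N).toLinearMap ∘ₗ ε + inI ∘ₗ εI
  have hg1 : ∀ j, (g j).fst = ε j := fun j => by simp [g, inI]
  have hg2 : ∀ j, (g j).snd = q (εI j, 0, 0) := fun j => by
    simp [g, inI]
    rfl
  have hgg : ∀ j j', g j * g j' = 0 := fun j j' => by
    refine TrivSqZeroExt.ext ?_ ?_
    · rw [TrivSqZeroExt.fst_mul, hg1, hg1, hεε]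
      rfl
    · rw [TrivSqZeroExt.snd_mul, op_smul_eq_smul, hg1, hg1, hann _ (hmem j), hann _ (hmem j'), add_zero]
      rfl
  let fA : TrivSqZeroExt A J →ₐ[A] (TrivSqZeroExt B' N) := TrivSqZeroExt.lift (Algebra.ofId A (TrivSqZeroExt B' N)) g hgg
    (fun r m => by
      rw [map_smul, Algebra.smul_def]
      rfl)
    (fun r m => by
      rw [op_smul_eq_smul, map_smul, Algebra.smul_def, mul_comm]
      rfl)
  let X' : (TrivSqZeroExt B' N) := TrivSqZeroExt.inl x + TrivSqZeroExt.inr (q (0, 1, 0))
  let Y' : (TrivSqZeroExt B' N) := TrivSqZeroExt.inl y + TrivSqZeroExt.inr (q (0, 0, 1))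
  let π : MvPolynomial (Fin 2) (TrivSqZeroExt A J) →ₐ[TrivSqZeroExt A J] B' := MvPolynomial.aeval ![x, y]
  let Ψ₀ : MvPolynomial (Fin 2) (TrivSqZeroExt A J) →+* (TrivSqZeroExt B' N) := MvPolynomial.eval₂Hom fA.toRingHom ![X', Y']
  have hτ : fA τ = TrivSqZeroExt.inl (algebraMap (TrivSqZeroExt A J) B' τ) +
      TrivSqZeroExt.inr (q (εI j₀, 0, 0)) := by
    have hd : τ = TrivSqZeroExt.inl τ.fst + TrivSqZeroExt.inr τ.snd := (TrivSqZeroExt.inl_fst_add_inr_snd_eq τ).symm
    have h1 : fA τ = Algebra.ofId A (TrivSqZeroExt B' N) τ.fst + g τ.snd := by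
      conv_lhs => rw [hd]
      rw [map_add, TrivSqZeroExt.lift_apply_inl, TrivSqZeroExt.lift_apply_inr]
    have h2 : algebraMap (TrivSqZeroExt A J) B' τ = algebraMap A B' τ.fst + ε τ.snd := by
      conv_lhs => rw [hd]
      rw [map_add, IsScalarTower.algebraMap_apply A (TrivSqZeroExt A J) B']
      rfl
    rw [h1, h2, TrivSqZeroExt.inl_add]
    refine TrivSqZeroExt.ext ?_ ?_
    · simp [hg1, TrivSqZeroExt.fst_add, j₀]
      rfl
    · simp [hg2, TrivSqZeroExt.snd_add, j₀]
      rfl
  have hΨker : RingHom.ker π.toRingHom ≤ RingHom.ker Ψ₀ := by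
    intro c hc
    have hc' : c ∈ RingHom.ker π := hc
    rw [hker] at hc'
    obtain ⟨c, rfl⟩ := Ideal.mem_span_singleton'.1 hc'
    rw [RingHom.mem_ker, map_mul]
    suffices h : Ψ₀ (MvPolynomial.X 0 * MvPolynomial.X 1 - MvPolynomial.C τ) = 0 by rw [h, mul_zero]
    have hxy : x * y = algebraMap (TrivSqZeroExt A J) B' τ := by
      have : π (MvPolynomial.X 0 * MvPolynomial.X 1 - MvPolynomial.C τ) = 0 := by
        rw [← RingHom.mem_ker, hker]
        exact Ideal.subset_span rfl
      simpa [π, sub_eq_zero] using this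
    simp only [Ψ₀, map_sub, map_mul, MvPolynomial.eval₂Hom_X', MvPolynomial.eval₂Hom_C]
    show X' * Y' - fA τ = 0
    rw [sub_eq_zero, hτ]
    refine TrivSqZeroExt.ext ?_ ?_
    · simp [X', Y', TrivSqZeroExt.fst_mul, hxy]
    · rw [TrivSqZeroExt.snd_mul, op_smul_eq_smul]
      simp only [X', Y', TrivSqZeroExt.fst_add, TrivSqZeroExt.fst_inl, TrivSqZeroExt.fst_inr, add_zero,
        TrivSqZeroExt.snd_add, TrivSqZeroExt.snd_inl, TrivSqZeroExt.snd_inr, zero_add]
      rw [← map_smul, ← map_smul, ← map_add]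
      refine (Submodule.Quotient.eq rel).2 ?_
      refine Submodule.mem_span_singleton.2 ⟨-1, ?_⟩
      refine Prod.ext ?_ (Prod.ext ?_ ?_) <;> simp [Algebra.smul_def, j₀] <;> rfl
  let Ψ : B' →+* (TrivSqZeroExt B' N) := RingHom.liftOfSurjective π.toRingHom hsurj ⟨Ψ₀, hΨker⟩
  have hΨ : ∀ c, Ψ (π c) = Ψ₀ c := fun c => RingHom.liftOfRightInverse_comp_apply _ _ _ _ c
  have hfst : ∀ b, (Ψ b).fst = b := fun b => by
    obtain ⟨c, rfl⟩ := hsurj b
    have h : ((TrivSqZeroExt.fstHom A B' N).toRingHom).comp Ψ₀ = π.toRingHom := by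
      refine MvPolynomial.ringHom_ext (fun r => ?_) fun k => ?_
      · simp only [Ψ₀, π, RingHom.comp_apply, MvPolynomial.eval₂Hom_C]
        show (fA r).fst = MvPolynomial.aeval ![x, y] (MvPolynomial.C r)
        rw [MvPolynomial.aeval_C, ← TrivSqZeroExt.inl_fst_add_inr_snd_eq r, map_add, map_add,
          TrivSqZeroExt.lift_apply_inl, TrivSqZeroExt.lift_apply_inr, TrivSqZeroExt.fst_add, hg1]
        congr 1
        exact IsScalarTower.algebraMap_apply A (TrivSqZeroExt A J) B' r.fst
      · fin_cases k <;> simp [Ψ₀, π, X', Y']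
    show (Ψ (π c)).fst = π c
    rw [hΨ]
    exact RingHom.congr_fun h c
  have hA : ∀ a : A, Ψ (algebraMap A B' a) = algebraMap A (TrivSqZeroExt B' N) a := fun a => by
    have h : algebraMap A B' a = π (MvPolynomial.C (algebraMap A (TrivSqZeroExt A J) a)) := by
      simp only [π, MvPolynomial.aeval_C]
      exact IsScalarTower.algebraMap_apply A (TrivSqZeroExt A J) B' a
    rw [h, hΨ]
    simp only [Ψ₀, MvPolynomial.eval₂Hom_C]
    exact fA.commutes a
  let D : Derivation A B' N :=
    { toFun := fun b => (Ψ b).snd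
      map_add' := fun a b => by rw [map_add, TrivSqZeroExt.snd_add]
      map_smul' := fun a b => by
        rw [Algebra.smul_def, map_mul, TrivSqZeroExt.snd_mul, op_smul_eq_smul, hfst, hA]
        rw [show (algebraMap A (TrivSqZeroExt B' N) a).snd = 0 from rfl, smul_zero]
        simp [TrivSqZeroExt.algebraMap_eq_inlHom, algebraMap_smul]
      map_one_eq_zero' := by
        show (Ψ 1).snd = 0
        rw [map_one]
        rfl
      leibniz' := fun a b => by
        show (Ψ (a * b)).snd = a • (Ψ b).snd + b • (Ψ a).snd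
        rw [map_mul, TrivSqZeroExt.snd_mul, op_smul_eq_smul, hfst, hfst] }
  have hD : ∀ i : ↥I, D i = q (i, 0, 0) := by
    rintro ⟨i, hi⟩
    have hi' := hi
    rw [hI] at hi'
    induction hi' using Submodule.span_induction with
    | mem b hb =>
      obtain ⟨j, rfl⟩ := hb
      have : ε j = π (MvPolynomial.C (TrivSqZeroExt.inr j)) := by simp [π, ε, TrivSqZeroExt.inrHom]
      show (Ψ (ε j)).snd = q (εI j, 0, 0)
      rw [this, hΨ]
      simp only [Ψ₀, MvPolynomial.eval₂Hom_C]
      show (fA (TrivSqZeroExt.inr j)).snd = _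
      rw [TrivSqZeroExt.lift_apply_inr, hg2]
    | zero =>
      show D 0 = _
      rw [map_zero]
      exact (map_zero q).symm
    | add u v hu hv hu' hv' =>
      replace hu : u ∈ I := by rw [hI]; exact hu
      replace hv : v ∈ I := by rw [hI]; exact hv
      show D (u + v) = _
      rw [map_add, hu' hu, hv' hv, ← map_add]
      simp
    | smul r u hu hu' =>
      replace hu : u ∈ I := by rw [hI]; exact hu
      show D (r * u) = _
      rw [Derivation.leibniz, hu' hu, hann u hu, add_zero, ← map_smul]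
      simp
  let L : (B' ⧸ I) ⊗[B'] Ω[B'⁄A] →ₗ[B'] N :=
    TensorProduct.lift (Submodule.liftQ I (LinearMap.toSpanSingleton B' _ D.liftKaehlerDifferential)
      (fun r hr => LinearMap.mem_ker.2 (LinearMap.ext fun z => hann r hr _)))
  rw [injective_iff_map_eq_zero]
  rintro ⟨i, hi⟩ h
  have hiI : i ∈ I := by
    rw [RingHom.mem_ker, Ideal.Quotient.algebraMap_eq, Ideal.Quotient.eq_zero_iff_mem] at hi
    exact hi
  have h1 : D i = 0 := by
    have := congrArg L h
    rw [map_zero] at this
    refine Eq.trans ?_ this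
    show D i = L ((Ideal.Quotient.mk I (1 : B')) ⊗ₜ KaehlerDifferential.D A B' i)
    simp only [L, TensorProduct.lift.tmul]
    show D i = (1 : B') • D.liftKaehlerDifferential (KaehlerDifferential.D A B' i)
    rw [one_smul, Derivation.liftKaehlerDifferential_comp_D]
  refine Subtype.ext ?_
  have h2 : q (⟨i, hiI⟩, 0, 0) = 0 := (hD ⟨i, hiI⟩).symm.trans h1
  obtain ⟨f, hf⟩ := Submodule.mem_span_singleton.1 ((Submodule.Quotient.mk_eq_zero rel).1 h2)
  simp only [Prod.smul_mk, Prod.mk.injEq] at hf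
  obtain ⟨hf1, hf2, hf3⟩ := hf
  -- a common annihilator of the two variables vanishes on the special fibre
  let P := SpinCurv.PolyNodeRing A τ.fst
  let φ₀ : MvPolynomial (Fin 2) (TrivSqZeroExt A J) →+* P := MvPolynomial.eval₂Hom
    ((algebraMap A P).comp (TrivSqZeroExt.fstHom A A J).toRingHom)
    ![SpinCurv.PolyNodeRing.x A τ.fst, SpinCurv.PolyNodeRing.y A τ.fst]
  let φ : B' →+* P := RingHom.liftOfSurjective π.toRingHom hsurj ⟨φ₀, fun c hc => by
    have hc' : c ∈ RingHom.ker π := hc
    rw [hker] at hc'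
    obtain ⟨c, rfl⟩ := Ideal.mem_span_singleton'.1 hc'
    rw [RingHom.mem_ker, map_mul]
    have : φ₀ (MvPolynomial.X 0 * MvPolynomial.X 1 - MvPolynomial.C τ) = 0 := by
      simp only [φ₀, map_sub, map_mul, MvPolynomial.eval₂Hom_X', MvPolynomial.eval₂Hom_C, sub_eq_zero]
      exact Groth.Agent.S18436.xy A τ.fst
    rw [this, mul_zero]⟩
  have hφ : ∀ c, φ (π c) = φ₀ c := fun c => RingHom.liftOfRightInverse_comp_apply _ _ _ _ c
  have hφI : ∀ b ∈ I, φ b = 0 := by
    intro b hb
    rw [hI] at hb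
    induction hb using Submodule.span_induction with
    | mem b hb =>
      obtain ⟨j, rfl⟩ := hb
      have : ε j = π (MvPolynomial.C (TrivSqZeroExt.inr j)) := by simp [π, ε, TrivSqZeroExt.inrHom]
      rw [this, hφ]
      simp [φ₀]
    | zero => exact map_zero φ
    | add u v _ _ hu hv => rw [map_add, hu, hv, add_zero]
    | smul r u _ hu => rw [smul_eq_mul, map_mul, hu, mul_zero]
  have hx : φ x = SpinCurv.PolyNodeRing.x A τ.fst := by
    have : x = π (MvPolynomial.X 0) := by simp [π]
    rw [this, hφ]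
    simp [φ₀]
  have hy : φ y = SpinCurv.PolyNodeRing.y A τ.fst := by
    have : y = π (MvPolynomial.X 1) := by simp [π]
    rw [this, hφ]
    simp [φ₀]
  have hfy : φ f * SpinCurv.PolyNodeRing.y A τ.fst = 0 := by
    rw [← hy, ← map_mul]
    refine hφI _ (Ideal.Quotient.eq_zero_iff_mem.1 ?_)
    rw [map_mul]
    have := neg_eq_zero.1 ((smul_neg f _).symm.trans hf2)
    exact this
  have hfx : φ f * SpinCurv.PolyNodeRing.x A τ.fst = 0 := by
    rw [← hx, ← map_mul]
    refine hφI _ (Ideal.Quotient.eq_zero_iff_mem.1 ?_)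
    rw [map_mul]
    have := neg_eq_zero.1 ((smul_neg f _).symm.trans hf3)
    exact this
  have hφf : φ f = 0 := node_annihilator A τ.fst _ hfx hfy
  -- recover the class modulo the ideal
  let χ₀ : MvPolynomial (Fin 2) A →+* B' ⧸ I :=
    MvPolynomial.eval₂Hom (algebraMap A (B' ⧸ I)) ![Ideal.Quotient.mk I x, Ideal.Quotient.mk I y]
  let χ : P →+* B' ⧸ I := Ideal.Quotient.lift _ χ₀ fun c hc => by
    obtain ⟨c, rfl⟩ := Ideal.mem_span_singleton'.1 hc
    rw [map_mul]
    have : χ₀ (MvPolynomial.X 0 * MvPolynomial.X 1 - MvPolynomial.C τ.fst) = 0 := by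
      simp only [χ₀, map_sub, map_mul, MvPolynomial.eval₂Hom_X', MvPolynomial.eval₂Hom_C]
      show Ideal.Quotient.mk I x * Ideal.Quotient.mk I y - algebraMap A (B' ⧸ I) τ.fst = 0
      rw [← map_mul]
      refine sub_eq_zero.2 (Ideal.Quotient.eq.2 ?_)
      have h0 : π (MvPolynomial.X 0 * MvPolynomial.X 1 - MvPolynomial.C τ) = 0 := by
        rw [← RingHom.mem_ker, hker]
        exact Ideal.subset_span rfl
      simp only [π, map_sub, map_mul, MvPolynomial.aeval_X, MvPolynomial.aeval_C, sub_eq_zero] at h0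
      rw [show x * y = algebraMap (TrivSqZeroExt A J) B' τ from h0,
        IsScalarTower.algebraMap_apply A (TrivSqZeroExt A J) B', ← map_sub]
      refine Ideal.mem_map_of_mem _ ?_
      show (τ - algebraMap A (TrivSqZeroExt A J) τ.fst).fst = 0
      simp [TrivSqZeroExt.algebraMap_eq_inlHom]
    rw [this, mul_zero]
  have hχ : ∀ b, χ (φ b) = Ideal.Quotient.mk I b := fun b => by
    obtain ⟨c, rfl⟩ := hsurj b
    show χ (φ (π c)) = Ideal.Quotient.mk I (π c)
    rw [hφ]
    refine RingHom.congr_fun (f := χ.comp φ₀) (g := (Ideal.Quotient.mk I).comp π.toRingHom) ?_ c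
    refine MvPolynomial.ringHom_ext (fun r => ?_) fun k => ?_
    · simp only [φ₀, RingHom.comp_apply, MvPolynomial.eval₂Hom_C]
      show χ₀ (MvPolynomial.C r.fst) = Ideal.Quotient.mk I (π (MvPolynomial.C r))
      simp only [χ₀, MvPolynomial.eval₂Hom_C, π, MvPolynomial.aeval_C]
      show Ideal.Quotient.mk I (algebraMap A B' r.fst) = _
      refine Ideal.Quotient.eq.2 ?_
      rw [IsScalarTower.algebraMap_apply A (TrivSqZeroExt A J) B', ← map_sub]
      refine Ideal.mem_map_of_mem _ ?_
      show (algebraMap A (TrivSqZeroExt A J) r.fst - r).fst = 0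
      simp [TrivSqZeroExt.algebraMap_eq_inlHom]
    · fin_cases k <;> simp [φ₀, π]
      · show χ₀ (MvPolynomial.X 0) = _
        simp [χ₀]
      · show χ₀ (MvPolynomial.X 1) = _
        simp [χ₀]
  have hfI : f ∈ I := by
    rw [← Ideal.Quotient.eq_zero_iff_mem, ← hχ, hφf, map_zero]
  exact (congrArg Subtype.val hf1).symm.trans (hII f hfI _ (hmem j₀))

end Groth.Agent.S16980
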