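import Groth.Statements.S16981
import Groth.Agent.FinAdic.Basic
import Mathlib.RingTheory.Filtration
import Mathlib.RingTheory.Noetherian.Basic
import Mathlib.Algebra.Module.Torsion.Basic
import Mathlib.Tactic.Ring

set_option autoImplicit false
universe u v
open CAlg Groth.Agent

namespace Groth.Agent.S16981

/-- Let A be a complete Noetherian local ring and f : E → A a surjective ring homomorphism whose kernel
has square zero and is finitely generated (equivalently, is a finite A-module for the induced module
structure). Then E is separated and complete for the adic topology of the inverse image of the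
maximal ideal of A. (The published statement takes A to be the completion of a local ring of a
scheme of finite type over an Artinian local ring and the kernel the completion of a finite module;
this row assumes only that A is complete Noetherian local and the kernel finitely generated.) -/
theorem result
    {A : Type u} {E : Type v} [CommRing A] [CommRing E] [IsNoetherianRing A] [IsLocalRing A]
    [IsAdicComplete (IsLocalRing.maximalIdeal A) A]
    (f : E →+* A) (hf : Function.Surjective f)
    (hsq : RingHom.ker f ^ 2 = ⊥) (hfg : (RingHom.ker f).FG) :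
    IsAdicComplete ((IsLocalRing.maximalIdeal A).comap f) E := by
  classical
  set m := IsLocalRing.maximalIdeal A
  set I := m.comap f with hI
  set N := RingHom.ker f
  letI : Algebra E A := f.toAlgebra
  letI : Module (E ⧸ N) N := Module.IsTorsionBySet.module (I := N) (fun x a => by
    apply Subtype.ext
    show (a : E) * (x : E) = 0
    have : (a : E) * (x : E) ∈ N ^ 2 := by rw [pow_two]; exact Ideal.mul_mem_mul a.2 x.2
    rwa [hsq, Ideal.mem_bot] at this)
  let e := RingHom.quotientKerEquivOfSurjective hf
  letI : Module A N := Module.compHom N e.symm.toRingHom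
  haveI : IsScalarTower E A N := by
    refine IsScalarTower.of_algebraMap_smul fun r x => ?_
    show e.symm (f r) • x = r • x
    rw [show e.symm (f r) = Ideal.Quotient.mk N r from e.symm_apply_eq.mpr rfl]
    rfl
  haveI : Module.Finite E N := Module.Finite.iff_fg.mpr hfg
  haveI : Module.Finite A N := Module.Finite.of_restrictScalars_finite E A N
  haveI : IsNoetherianRing E := by
    haveI hA : IsNoetherian E A := by
      let up : Submodule E A → Submodule A A := fun W =>
        { carrier := W
          add_mem' := W.add_mem
          zero_mem' := W.zero_mem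
          smul_mem' := fun r x hx => by
            obtain ⟨r, rfl⟩ := hf r
            exact W.smul_mem r hx }
      have hup : StrictMono up := fun W W' h => ⟨fun x hx => h.le hx, fun hle => h.not_ge fun x hx => hle hx⟩
      exact isNoetherian_mk hup.wellFoundedGT
    haveI hN : IsNoetherian E N := by
      haveI : IsNoetherian A N := isNoetherian_of_isNoetherianRing_of_finite A N
      let up : Submodule E N → Submodule A N := fun W =>
        { carrier := W
          add_mem' := W.add_mem
          zero_mem' := W.zero_mem
          smul_mem' := fun r x hx => by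
            obtain ⟨r, rfl⟩ := hf r
            show algebraMap E A r • x ∈ W
            rw [IsScalarTower.algebraMap_smul]
            exact W.smul_mem r hx }
      have hup : StrictMono up := fun W W' h => ⟨fun x hx => h.le hx, fun hle => h.not_ge fun x hx => hle hx⟩
      exact isNoetherian_mk hup.wellFoundedGT
    exact isNoetherian_of_range_eq_ker (Submodule.subtype N) (Algebra.linearMap E A)
      (by rw [Submodule.range_subtype]; rfl)
  have hImap : I.map (algebraMap E A) = m := Ideal.map_comap_of_surjective f hf m
  haveI : IsAdicComplete I N := by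
    rw [← IsAdicComplete.map_algebraMap_iff (S := A), hImap]
    exact FinAdic.isAdicComplete_of_finite m N
  obtain ⟨c, hc⟩ := Ideal.exists_pow_inf_eq_pow_smul I (N : Submodule E E)
  have hAR : ∀ (n : ℕ) (x : E) (hx : x ∈ N), x ∈ I ^ (n + c) → (⟨x, hx⟩ : N) ∈ (I ^ n • ⊤ : Submodule E N) := by
    intro n x hx hxI
    have h0 : x ∈ I ^ (n + c) • (⊤ : Submodule E E) ⊓ N := ⟨by rw [smul_eq_mul, Ideal.mul_top]; exact hxI, hx⟩
    rw [hc (n + c) (Nat.le_add_left c n), Nat.add_sub_cancel] at h0
    have h1 : x ∈ I ^ n • (N : Submodule E E) := Submodule.smul_mono le_rfl inf_le_right h0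
    have h2 : (I ^ n • (⊤ : Submodule E N)).map (Submodule.subtype N) = I ^ n • (N : Submodule E E) := by
      rw [Submodule.map_smul'', Submodule.map_top, Submodule.range_subtype]
    rw [← h2] at h1
    obtain ⟨y, hy, hyx⟩ := h1
    rwa [show (⟨x, hx⟩ : N) = y from Subtype.ext hyx.symm]
  have hfI : ∀ (n : ℕ) (x : E), x ∈ I ^ n → f x ∈ m ^ n := fun n x hx => by
    have := Ideal.mem_map_of_mem f hx
    rwa [Ideal.map_pow, show I.map f = m from hImap] at this
  refine { haus' := fun x hx => ?_, prec' := fun u hu => ?_ }
  · have hx' : ∀ n, x ∈ I ^ n := fun n => by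
      have := hx n
      rwa [SModEq.zero, smul_eq_mul, Ideal.mul_top] at this
    have hxN : x ∈ N := IsHausdorff.haus (inferInstance : IsHausdorff m A) (f x) fun n => by
      rw [SModEq.zero, smul_eq_mul, Ideal.mul_top]; exact hfI n x (hx' n)
    exact congrArg Subtype.val (IsHausdorff.haus (inferInstance : IsHausdorff I N) (⟨x, hxN⟩ : N)
      fun n => SModEq.zero.mpr (hAR n x hxN (hx' _)))
  · have hu' : ∀ {a b : ℕ}, a ≤ b → u a - u b ∈ I ^ a := fun h => by
      have := hu h
      rwa [SModEq.sub_mem, smul_eq_mul, Ideal.mul_top] at this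
    obtain ⟨L, hL⟩ := IsPrecomplete.prec (inferInstance : IsPrecomplete m A) (f := fun n => f (u n)) fun {a b} h => by
      rw [SModEq.sub_mem, smul_eq_mul, Ideal.mul_top, ← map_sub]; exact hfI a _ (hu' h)
    obtain ⟨L0, rfl⟩ := hf L
    have hdec : ∀ n, ∃ ν : N, u n - L0 - (ν : E) ∈ I ^ n := by
      intro n
      have h := hL n
      rw [SModEq.sub_mem, smul_eq_mul, Ideal.mul_top, ← map_sub, ← hImap, ← Ideal.map_pow] at h
      have h' : u n - L0 ∈ I ^ n ⊔ N := by
        have h'' : u n - L0 ∈ ((I ^ n).map f).comap f := h
        rwa [Ideal.comap_map_of_surjective _ hf] at h''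
      obtain ⟨i, hi, ν, hν, hiv⟩ := Submodule.mem_sup.mp h'
      exact ⟨⟨ν, hν⟩, by simpa [← hiv] using hi⟩
    choose ν hν using hdec
    obtain ⟨ν', hν'⟩ := IsPrecomplete.prec (inferInstance : IsPrecomplete I N) (f := fun n => ν (n + c)) fun {a b} h => by
      rw [SModEq.sub_mem]
      refine hAR a _ (ν (a + c) - ν (b + c)).2 ?_
      have e : ((ν (a + c) : E) - ν (b + c)) = (u (a + c) - u (b + c)) - (u (a + c) - L0 - ν (a + c)) + (u (b + c) - L0 - ν (b + c)) := by
        ring
      show ((ν (a + c) : E) - ν (b + c)) ∈ _
      rw [e]
      exact add_mem (sub_mem (hu' (by omega)) (hν _)) (Ideal.pow_le_pow_right (by omega) (hν _))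
    refine ⟨L0 + ν', fun n => ?_⟩
    rw [SModEq.sub_mem, smul_eq_mul, Ideal.mul_top]
    have h1 : ((ν (n + c) : E) - ν') ∈ I ^ n := by
      have := SModEq.sub_mem.mp (hν' n)
      have h2 : Submodule.subtype N (ν (n + c) - ν') ∈ (I ^ n • (⊤ : Submodule E N)).map (Submodule.subtype N) :=
        ⟨_, this, rfl⟩
      rw [Submodule.map_smul''] at h2
      have h4 := Submodule.smul_mono (I := I ^ n) le_rfl
        (le_top : (⊤ : Submodule E N).map (Submodule.subtype N) ≤ ⊤) h2
      rw [smul_eq_mul, Ideal.mul_top, Submodule.subtype_apply, Submodule.coe_sub] at h4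
      exact h4
    have e : u n - (L0 + ν') = (u n - u (n + c)) + (u (n + c) - L0 - ν (n + c)) + ((ν (n + c) : E) - ν') := by ring
    rw [e]
    exact add_mem (add_mem (hu' (Nat.le_add_right n c)) (Ideal.pow_le_pow_right (Nat.le_add_right n c) (hν _))) h1

end Groth.Agent.S16981
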