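import Groth.Statements.S16982
import Groth.Agent.ArtPow.Basic
import Mathlib.RingTheory.AdicCompletion.Noetherian

set_option autoImplicit false
set_option backward.isDefEq.respectTransparency false
set_option linter.style.haveILetI false
universe u v w w'
open CAlg

namespace Groth.Agent.S16982

open Ideal in
theorem isNoetherianRing_of_sqZero {E A : Type*} [CommRing E] [CommRing A] [IsNoetherianRing A] (f : E →+* A)
    (hf : Function.Surjective f) (hsq : RingHom.ker f ^ 2 = ⊥) (hfg : (RingHom.ker f).FG) : IsNoetherianRing E := by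
  obtain ⟨s, g, hg⟩ := Submodule.fg_iff_exists_fin_generating_family.mp hfg
  haveI : IsNoetherianRing (E ⧸ RingHom.ker f) :=
    isNoetherianRing_of_ringEquiv A (RingHom.quotientKerEquivOfSurjective hf).symm
  haveI : IsNoetherian E (E ⧸ RingHom.ker f) :=
    isNoetherian_mk ⟨OrderEmbedding.wellFounded (Submodule.orderIsoOfAlgebraMapSurjective (R := E)
      (S := E ⧸ RingHom.ker f) (M := E ⧸ RingHom.ker f) Ideal.Quotient.mk_surjective).symm.toOrderEmbedding.dual
      (inferInstance : IsNoetherianRing (E ⧸ RingHom.ker f)).wf⟩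
  let ψ : (Fin s → E ⧸ RingHom.ker f) →ₗ[E] E :=
    ∑ i : Fin s, (Submodule.liftQ (RingHom.ker f) (LinearMap.toSpanSingleton E E (g i)) fun x hx => by
      have : x * g i ∈ RingHom.ker f ^ 2 := by
        rw [pow_two]
        exact Ideal.mul_mem_mul hx (by rw [← hg]; exact Submodule.subset_span ⟨i, rfl⟩)
      rw [hsq] at this
      simpa [mul_comm] using this) ∘ₗ LinearMap.proj i
  refine isNoetherianRing_iff.mpr (isNoetherian_of_range_eq_ker ψ (RingHom.ker f).mkQ ?_)
  rw [Submodule.ker_mkQ]
  refine le_antisymm ?_ (hg.symm.le.trans (Submodule.span_le.mpr ?_))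
  · rintro _ ⟨v, rfl⟩
    rw [LinearMap.sum_apply]
    refine sum_mem fun i _ => ?_
    obtain ⟨e, he⟩ := Ideal.Quotient.mk_surjective (v i)
    rw [LinearMap.comp_apply, LinearMap.proj_apply, ← he]
    exact Ideal.mul_mem_left _ e (hg.le (Submodule.subset_span ⟨i, rfl⟩))
  · rintro _ ⟨i, rfl⟩
    refine ⟨Pi.single i 1, ?_⟩
    rw [LinearMap.sum_apply, Finset.sum_eq_single i (fun b _ hb => by simp [hb]) (by simp)]
    rw [LinearMap.comp_apply, LinearMap.proj_apply, Pi.single_eq_same, ← map_one (Ideal.Quotient.mk (RingHom.ker f))]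
    exact one_mul (g i)

/-- A square-zero finitely generated extension of a complete Noetherian ring is complete. -/
theorem isAdicComplete_of_sqZero {E A : Type*} [CommRing E] [CommRing A] [IsNoetherianRing A] (f : E →+* A)
    (hf : Function.Surjective f) (hsq : RingHom.ker f ^ 2 = ⊥) (hfg : (RingHom.ker f).FG)
    (m : Ideal A) [IsAdicComplete m A] (_hm : m.FG) : IsAdicComplete (m.comap f) E := by
  haveI := isNoetherianRing_of_sqZero f hf hsq hfg
  let J := m.comap f
  let K := RingHom.ker f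
  have hmem : ∀ n (x : E), x ∈ J ^ n → f x ∈ m ^ n := fun n x hx => by
    have := Ideal.mem_map_of_mem f hx
    rwa [Ideal.map_pow, Ideal.map_comap_of_surjective f hf] at this
  have hlift : ∀ n (a : A), a ∈ m ^ n → ∃ x ∈ J ^ n, f x = a := fun n a ha => by
    rw [← Ideal.map_comap_of_surjective f hf m, ← Ideal.map_pow] at ha
    exact (Ideal.mem_map_iff_of_surjective f hf).mp ha
  have hjac : J ≤ (⊥ : Ideal E).jacobson := fun x hx => by
    rw [Ideal.mem_jacobson_bot]
    intro y
    have h1 : IsUnit (f (x * y + 1)) := by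
      rw [map_add, map_mul, map_one]
      exact Ideal.mem_jacobson_bot.mp (IsAdicComplete.le_jacobson_bot (I := m) hx) _
    obtain ⟨u, hu⟩ := hf ↑h1.unit⁻¹
    have h2 : (x * y + 1) * u - 1 ∈ K := by
      rw [RingHom.mem_ker, map_sub, map_one, map_mul, hu, IsUnit.mul_val_inv, sub_self]
    have h3 : IsNilpotent ((x * y + 1) * u - 1) :=
      ⟨2, by
        have := Ideal.pow_mem_pow h2 2
        rw [show K ^ 2 = ⊥ from hsq] at this
        exact this⟩
    exact isUnit_of_mul_isUnit_left (by simpa using h3.isUnit_add_one)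
  refine { haus' := (IsHausdorff.of_le_jacobson J E hjac).haus', prec' := fun x hx => ?_ }
  simp only [SModEq.sub_mem, smul_eq_mul, Ideal.mul_top] at hx ⊢
  obtain ⟨a, ha⟩ := IsPrecomplete.prec (I := m) inferInstance (f := fun n => f (x n)) fun {i j} hij => by
    rw [SModEq.sub_mem, smul_eq_mul, Ideal.mul_top, ← map_sub]
    exact hmem i _ (hx hij)
  obtain ⟨x₀, rfl⟩ := hf a
  have hsplit : ∀ n, ∃ k ∈ K, x n - x₀ - k ∈ J ^ n := fun n => by
    have h := ha n
    rw [SModEq.sub_mem, smul_eq_mul, Ideal.mul_top, ← map_sub] at h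
    obtain ⟨j, hj, hje⟩ := hlift n _ h
    exact ⟨x n - x₀ - j, by rw [RingHom.mem_ker, map_sub, hje, sub_self], by simpa using hj⟩
  choose k hkK hk using hsplit
  obtain ⟨c, hc⟩ := Ideal.exists_pow_inf_eq_pow_smul J (K : Submodule E E)
  have hdiff : ∀ n, k (n + 1 + c) - k (n + c) ∈ J ^ n * K := fun n => by
    have h1 : k (n + 1 + c) - k (n + c) ∈ (J ^ (n + c) • ⊤ ⊓ (K : Submodule E E)) := by
      refine ⟨?_, K.sub_mem (hkK _) (hkK _)⟩
      rw [smul_eq_mul, Ideal.mul_top]
      have a1 := hk (n + c)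
      have a2 := Ideal.pow_le_pow_right (show n + c ≤ n + 1 + c by omega) (hk (n + 1 + c))
      have a3 := hx (show n + c ≤ n + 1 + c by omega)
      have := Ideal.sub_mem _ (Ideal.sub_mem _ a1 a2) a3
      show k (n + 1 + c) - k (n + c) ∈ J ^ (n + c)
      ring_nf at this ⊢
      exact this
    rw [hc (n + c) (by omega), Nat.add_sub_cancel] at h1
    exact Submodule.smul_mono le_rfl inf_le_right h1
  obtain ⟨s, g, hg⟩ := Submodule.fg_iff_exists_fin_generating_family.mp hfg
  have hrep : ∀ n, ∃ d : Fin s → E, (∀ i, d i ∈ J ^ n) ∧ k (n + 1 + c) - k (n + c) = ∑ i, d i * g i := fun n => by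
    have h := hdiff n
    rw [show (K : Ideal E) = Submodule.span E (Set.range g) from hg.symm] at h
    obtain ⟨d, hd, he⟩ := (Submodule.mem_ideal_smul_span_iff_exists_sum (J ^ n) g _).mp h
    refine ⟨d, hd, ?_⟩
    rw [← he, Finsupp.sum_fintype]
    · rfl
    · simp
  choose d hdJ hd using hrep
  have hlim : ∀ i, ∃ b : A, ∀ n, (∑ j ∈ Finset.range n, f (d j i)) - b ∈ m ^ n := fun i => by
    obtain ⟨b, hb⟩ := IsPrecomplete.prec (I := m) inferInstance
      (f := fun n => ∑ j ∈ Finset.range n, f (d j i)) fun {p q} hpq => by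
      rw [SModEq.sub_mem, smul_eq_mul, Ideal.mul_top, ← neg_sub, ← Finset.sum_Ico_eq_sub _ hpq]
      exact neg_mem (Ideal.sum_mem _ fun j hj =>
        Ideal.pow_le_pow_right (Finset.mem_Ico.mp hj).1 (hmem j _ (hdJ j i)))
    refine ⟨b, fun n => ?_⟩
    have := hb n
    rwa [SModEq.sub_mem, smul_eq_mul, Ideal.mul_top] at this
  choose b hb using hlim
  choose e he using fun i => hf (b i)
  refine ⟨x₀ + (k c + ∑ i, e i * g i), fun n => ?_⟩
  have tel : ∀ p, k (p + c) = k c + ∑ i, (∑ j ∈ Finset.range p, d j i) * g i := by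
    intro p
    induction p with
    | zero => simp
    | succ p ih =>
      simp only [Finset.sum_range_succ, add_mul, Finset.sum_add_distrib, ← add_assoc, ← ih, ← hd]
      ring
  have h1 : k (n + c) - (k c + ∑ i, e i * g i) ∈ J ^ n := by
    rw [tel, add_sub_add_left_eq_sub, ← Finset.sum_sub_distrib]
    refine Ideal.sum_mem _ fun i _ => ?_
    obtain ⟨j, hj, hje⟩ := hlift n _ (hb i n)
    rw [← sub_mul]
    have hK : (∑ j ∈ Finset.range n, d j i) - e i - j ∈ K := by
      rw [RingHom.mem_ker, map_sub, map_sub, map_sum, he, hje, sub_self]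
    have h0 : ((∑ j ∈ Finset.range n, d j i) - e i - j) * g i = 0 := by
      have hgi : g i ∈ K := by
        show g i ∈ RingHom.ker f
        rw [← hg]; exact Submodule.subset_span ⟨i, rfl⟩
      have := Ideal.mul_mem_mul hK hgi
      rw [← pow_two, hsq] at this
      exact (Submodule.mem_bot E).mp this
    rw [show ((∑ j ∈ Finset.range n, d j i) - e i) * g i = j * g i by linear_combination h0]
    exact Ideal.mul_mem_right _ _ hj
  have h2 : k n - k (n + c) ∈ J ^ n := by
    have := Ideal.sub_mem _ (Ideal.sub_mem _ (Ideal.pow_le_pow_right (Nat.le_add_right n c) (hk (n + c))) (hk n))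
      (show x (n + c) - x n ∈ J ^ n by rw [← neg_sub]; exact neg_mem (hx (Nat.le_add_right n c)))
    ring_nf at this ⊢
    exact this
  have := Ideal.add_mem _ (Ideal.add_mem _ (hk n) h2) h1
  ring_nf at this ⊢
  exact this

theorem exists_evalAdic {σ : Type*} [Fintype σ] {R : Type*} [CommRing R] {B : Type*} [CommRing B]
    [Algebra R B] (I : Ideal B) [IsAdicComplete I B] (c : σ → B) (hc : ∀ i, c i ∈ I) :
    ∃ ψ : MvPowerSeries σ R →ₐ[R] B, ∀ i, ψ (MvPowerSeries.X i) = c i := by
  have hnil : ∀ n, ∀ i, IsNilpotent (Ideal.Quotient.mk (I ^ n) (c i)) := fun n i =>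
    ⟨n, by rw [← map_pow, Ideal.Quotient.eq_zero_iff_mem]; exact Ideal.pow_mem_pow (hc i) n⟩
  let f : ∀ n, MvPowerSeries σ R →ₐ[R] B ⧸ I ^ n := fun n => ArtPow.evalNil _ (hnil n)
  have hf : ∀ {m n : ℕ} (hle : m ≤ n),
      (Ideal.Quotient.factorPow I hle).comp (f n).toRingHom = (f m).toRingHom := by
    intro m n hle
    let φ : B ⧸ I ^ n →ₐ[R] B ⧸ I ^ m :=
      { Ideal.Quotient.factorPow I hle with commutes' := fun _ => rfl }
    have hN : (I.map (Ideal.Quotient.mk (I ^ m))) ^ m = ⊥ := by rw [← Ideal.map_pow, Ideal.map_quotient_self]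
    have e : φ.comp (f n) = f m := by
      refine ArtPow.algHom_ext hN (fun i => ?_) (fun i => ?_)
      · rw [AlgHom.comp_apply, ArtPow.evalNil_X, ArtPow.evalNil_X]
        rfl
      · rw [AlgHom.comp_apply, ArtPow.evalNil_X]
        exact Ideal.mem_map_of_mem _ (hc i)
    exact congr_arg AlgHom.toRingHom e
  let ψ₀ := IsAdicComplete.liftRingHom I (fun n => (f n).toRingHom) hf
  have hψ : ∀ n x, Ideal.Quotient.mk (I ^ n) (ψ₀ x) = f n x := fun n x =>
    IsAdicComplete.mk_liftRingHom I (fun n => (f n).toRingHom) hf n x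
  have heq : ∀ x y : B, (∀ n, Ideal.Quotient.mk (I ^ n) x = Ideal.Quotient.mk (I ^ n) y) → x = y := by
    intro x y h
    refine sub_eq_zero.mp (IsHausdorff.haus' (I := I) _ fun n => ?_)
    rw [SModEq.sub_mem, sub_zero, smul_eq_mul, Ideal.mul_top]
    exact Ideal.Quotient.eq.mp (h n)
  refine ⟨{ ψ₀ with commutes' := fun r => heq _ _ fun n => ?_ }, fun i => heq _ _ fun n => ?_⟩
  · exact (hψ n _).trans ((f n).commutes r)
  · exact (hψ n _).trans (ArtPow.evalNil_X _ _ i)

theorem ext_adic {σ : Type*} [Fintype σ] {R : Type*} [CommRing R] {B : Type*} [CommRing B]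
    [Algebra R B] (I : Ideal B) [IsHausdorff I B] {φ ψ : MvPowerSeries σ R →ₐ[R] B}
    (hX : ∀ i, φ (MvPowerSeries.X i) = ψ (MvPowerSeries.X i)) (hφ : ∀ i, φ (MvPowerSeries.X i) ∈ I) : φ = ψ := by
  refine AlgHom.ext fun f => sub_eq_zero.mp (IsHausdorff.haus' (I := I) _ fun n => ?_)
  rw [SModEq.sub_mem, sub_zero, smul_eq_mul, Ideal.mul_top, ← Ideal.Quotient.eq]
  have hN : (I.map (Ideal.Quotient.mk (I ^ n))) ^ n = ⊥ := by rw [← Ideal.map_pow, Ideal.map_quotient_self]
  exact DFunLike.congr_fun (ArtPow.algHom_ext (φ := (Ideal.Quotient.mkₐ R (I ^ n)).comp φ)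
    (ψ := (Ideal.Quotient.mkₐ R (I ^ n)).comp ψ) hN (fun i => congrArg _ (hX i))
    fun i => Ideal.mem_map_of_mem _ (hφ i)) f


/-- Let R be a commutative ring, A a complete Noetherian local R-algebra written as a quotient of a
power series ring over R in finitely many variables by a surjective R-algebra map π, and f : E → A a
surjective R-algebra map whose kernel has square zero and is finitely generated. Then π lifts along
f to an R-algebra map λ from the power series ring to E with f ∘ λ = π. (The published statement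
takes R Artinian local and asks for a lift that is continuous for the adic topologies; this row
allows any commutative R and asks for any lift.) -/
theorem result
    {R : Type u} [CommRing R] {σ : Type v} [Finite σ]
    {A : Type w} {E : Type w'} [CommRing A] [CommRing E] [Algebra R A] [Algebra R E]
    [IsNoetherianRing A] [IsLocalRing A] [IsAdicComplete (IsLocalRing.maximalIdeal A) A]
    (π : MvPowerSeries σ R →ₐ[R] A) (hπ : Function.Surjective π)
    (f : E →ₐ[R] A) (hf : Function.Surjective f)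
    (hsq : RingHom.ker f.toRingHom ^ 2 = ⊥) (hfg : (RingHom.ker f.toRingHom).FG) :
    ∃ l : MvPowerSeries σ R →ₐ[R] E, f.comp l = π := by
  classical
  obtain ⟨_⟩ := nonempty_fintype σ
  let m := IsLocalRing.maximalIdeal A
  let J : Ideal E := m.comap f.toRingHom
  let K : Ideal E := RingHom.ker f.toRingHom
  haveI : IsAdicComplete J E := isAdicComplete_of_sqZero f.toRingHom hf hsq hfg m
    ((IsLocalRing.maximalIdeal A).fg_of_isNoetherianRing)
  have hX : ∀ i, π (MvPowerSeries.X i) ∈ m := fun i => by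
    rw [IsLocalRing.mem_maximalIdeal, mem_nonunits_iff]
    intro hu
    obtain ⟨g, hg⟩ := hπ ↑hu.unit⁻¹
    have h1 : π (1 - MvPowerSeries.X i * g) = 0 := by
      rw [map_sub, map_one, map_mul, hg, IsUnit.mul_val_inv, sub_self]
    have h2 : IsUnit (1 - MvPowerSeries.X i * g : MvPowerSeries σ R) := by
      rw [MvPowerSeries.isUnit_iff_constantCoeff]
      simp
    exact not_isUnit_zero (h1 ▸ h2.map π)
  choose c hc using fun i => hf (π (MvPowerSeries.X i))
  have hcJ : ∀ i, c i ∈ J := fun i => show f (c i) ∈ m by rw [hc]; exact hX i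
  obtain ⟨l, hl⟩ := exists_evalAdic (R := R) J c hcJ
  refine ⟨l, ext_adic m (fun i => ?_) (fun i => ?_)⟩
  · rw [AlgHom.comp_apply, hl, hc]
  · rw [AlgHom.comp_apply, hl, hc]
    exact hX i

end Groth.Agent.S16982
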