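import Groth.Statements.S16983
import Mathlib
-- import your own Groth.Agent.* helpers here

set_option autoImplicit false
universe u
open DeformData

namespace Groth.Agent.S16983

/-- Let p be a prime, s ≥ 1, B a finite index set with a subset B₀ of exactly three elements, m_j ≥ 1
integers coprime to p, and σ_{i,j} (i < s, j ∈ B) rational numbers with m_j σ_{i,j} an integer, such
that Σ_j (σ_{i,j} − 1) = −2 for every i, the fractional part of σ_{i,j} equals that of p^i σ_{0,j},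
no σ_{i,j} equals 1, and the minimum over i of ⌊σ_{i,j}⌋ is 0 for j ∈ B₀ and 1 for j ∉ B₀. Then for
every i the fractional parts ⟨σ_{i,j}⟩ sum over j to 1 (purity), and ⌊σ_{i,j}⌋ is 0 on B₀ and 1 off
B₀ for every i. (The hypotheses are exactly the properties of the signature of a special deformation
datum on the projective line: each entry is an integer divided by a stabilizer order m_j in a group
of order prime to p, the degree identity coming from Riemann–Hurwitz, the Frobenius-twist relation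
between fractional parts, and the speciality conditions; the statement is given here for any such
tuple.) -/
theorem result
    {B : Type u} [Fintype B] [DecidableEq B] (B₀ : Finset B) (hB₀ : B₀.card = 3)
    (p : ℕ) (hp : p.Prime) (s : ℕ) (hs : 0 < s)
    (m : B → ℕ) (hm : ∀ j, 0 < m j) (hmp : ∀ j, Nat.Coprime (m j) p)
    (σ : Fin s → B → ℚ) (hint : ∀ i j, ∃ h : ℤ, σ i j = (h : ℚ) / (m j : ℚ))
    (hsum : ∀ i, ∑ j, (σ i j - 1) = -2)
    (hfract : ∀ i j, Int.fract (σ i j) = Int.fract ((p : ℚ) ^ (i : ℕ) * σ ⟨0, hs⟩ j))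
    (hne : ∀ i j, σ i j ≠ 1)
    (hB₀min : ∀ j ∈ B₀, (∃ i, ⌊σ i j⌋ = 0) ∧ ∀ i, 0 ≤ ⌊σ i j⌋)
    (hBmin : ∀ j ∉ B₀, (∃ i, ⌊σ i j⌋ = 1) ∧ ∀ i, 1 ≤ ⌊σ i j⌋) :
    (∀ i, ∑ j, Int.fract (σ i j) = 1) ∧ (∀ i j, ⌊σ i j⌋ = if j ∈ B₀ then 0 else 1) := by
  have hpoint : ∀ i, ∀ j, (if j ∈ B₀ then (0 : ℤ) else 1) ≤ ⌊σ i j⌋ := fun i j => by
    by_cases hj : j ∈ B₀
    · rw [if_pos hj]; exact (hB₀min j hj).2 i
    · rw [if_neg hj]; exact (hBmin j hj).2 i
  have hcard : ∑ j, (if j ∈ B₀ then (0 : ℤ) else 1) = (Fintype.card B : ℤ) - 3 := by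
    have : ∀ j : B, (if j ∈ B₀ then (0 : ℤ) else 1) = 1 - (if j ∈ B₀ then 1 else 0) := fun j => by
      split_ifs <;> simp
    simp [this, Finset.sum_ite_mem, hB₀]
  have htot : ∀ i, ∑ j, Int.fract (σ i j) = (((Fintype.card B : ℤ) - 2 - ∑ j, ⌊σ i j⌋ : ℤ) : ℚ) := by
    intro i
    have h1 := hsum i
    rw [Finset.sum_sub_distrib, Finset.sum_const, Finset.card_univ, nsmul_one] at h1
    have h2 : ∑ j, σ i j = ∑ j, (⌊σ i j⌋ : ℚ) + ∑ j, Int.fract (σ i j) := by
      rw [← Finset.sum_add_distrib]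
      exact Finset.sum_congr rfl fun j _ => (Int.floor_add_fract _).symm
    push_cast
    linarith
  have hbound : ∀ i, (Fintype.card B : ℤ) - 3 ≤ ∑ j, ⌊σ i j⌋ := fun i =>
    hcard ▸ Finset.sum_le_sum fun j _ => hpoint i j
  have hne0 : ∀ i, (∑ j, ⌊σ i j⌋) ≠ (Fintype.card B : ℤ) - 2 := by
    intro i heq
    have hz : ∀ j, Int.fract (σ i j) = 0 := fun j =>
      (Finset.sum_eq_zero_iff_of_nonneg fun j _ => Int.fract_nonneg _).1
        (by rw [htot i, heq]; simp) j (Finset.mem_univ j)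
    have h0 : ∀ j, Int.fract (σ ⟨0, hs⟩ j) = 0 := by
      intro j
      obtain ⟨h, hh⟩ := hint ⟨0, hs⟩ j
      obtain ⟨z, hzz⟩ := Int.fract_eq_zero_iff.1 ((hfract i j).symm.trans (hz j))
      have hmj : (m j : ℚ) ≠ 0 := Nat.cast_ne_zero.2 (hm j).ne'
      have hdvd : (m j : ℤ) ∣ (p : ℤ) ^ (i : ℕ) * h := by
        refine ⟨z, ?_⟩
        have : (z : ℚ) * m j = (p : ℚ) ^ (i : ℕ) * h := by rw [hzz, hh]; field_simp
        rw [mul_comm] at this
        exact_mod_cast this.symm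
      have hco : IsCoprime (m j : ℤ) ((p : ℤ) ^ (i : ℕ)) :=
        (Nat.isCoprime_iff_coprime.2 (hmp j)).pow_right
      obtain ⟨c, hc⟩ := hco.dvd_of_dvd_mul_left hdvd
      refine Int.fract_eq_zero_iff.2 ⟨c, ?_⟩
      rw [hh, hc]; push_cast; field_simp
    have hall : ∀ i' j, Int.fract (σ i' j) = 0 := fun i' j => by
      obtain ⟨z, hzz⟩ := Int.fract_eq_zero_iff.1 (h0 j)
      rw [hfract i' j, ← hzz, show ((p : ℚ) ^ (i' : ℕ) * z) = (((p : ℤ) ^ (i' : ℕ) * z : ℤ) : ℚ) by push_cast; rfl]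
      exact Int.fract_intCast _
    have hval : ∀ i' j, σ i' j = (⌊σ i' j⌋ : ℚ) := fun i' j => by
      conv_lhs => rw [← Int.floor_add_fract (σ i' j), hall i' j, add_zero]
    have hn1 : ∀ i' j, ⌊σ i' j⌋ ≠ 1 := fun i' j h1 => hne i' j (by rw [hval i' j, h1, Int.cast_one])
    have hB : ∀ j, j ∈ B₀ := fun j => by
      by_contra hj
      obtain ⟨i', hi'⟩ := (hBmin j hj).1
      exact hn1 i' j hi'
    have hcard3 : Fintype.card B = 3 := by
      rw [← hB₀, Finset.eq_univ_iff_forall.2 hB, Finset.card_univ]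
    rw [hcard3] at heq
    by_cases hex : ∃ j, ⌊σ i j⌋ ≠ 0
    · obtain ⟨j, hj⟩ := hex
      have h1 := Finset.single_le_sum (f := fun j => ⌊σ i j⌋)
        (fun j _ => (hB₀min j (hB j)).2 i) (Finset.mem_univ j)
      have h2 := (hB₀min j (hB j)).2 i
      have h3 := hn1 i j
      omega
    · push Not at hex
      simp [hex] at heq
  have hfl : ∀ i, ∑ j, ⌊σ i j⌋ = (Fintype.card B : ℤ) - 3 := by
    intro i
    have h1 := hbound i
    have h2 := hne0 i
    have h3 : (0 : ℤ) ≤ (Fintype.card B : ℤ) - 2 - ∑ j, ⌊σ i j⌋ := by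
      have : (0 : ℚ) ≤ ∑ j, Int.fract (σ i j) := Finset.sum_nonneg fun j _ => Int.fract_nonneg _
      rw [htot i] at this
      exact_mod_cast this
    omega
  refine ⟨fun i => by rw [htot i, hfl i]; push_cast; ring, fun i j => ?_⟩
  exact ((Finset.sum_eq_sum_iff_of_le fun j _ => hpoint i j).1 ((hcard.trans (hfl i).symm)) j
    (Finset.mem_univ j)).symm

end Groth.Agent.S16983
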