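import Groth.Statements.S16984
import Mathlib

set_option autoImplicit false
universe u v w
open Hoch

namespace Groth.Agent.S16984

open TensorProduct in
/-- Let k be a commutative ring, A a commutative k-bialgebra that is flat over k (the coordinate ring of
a flat affine group scheme over Spec k; flatness and commutativity are the standing hypotheses of
the appendix and are not needed for the assertion) and P a k-module. Then p ↦ p ⊗ 1 is an injection
of P into the induced comodule P ⊗ A (coaction id ⊗ Δ) whose image is exactly the submodule of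
invariants, i.e. the elements with coaction x ↦ x ⊗ 1. (The published statement writes the
coordinate-ring factor on the left and calls this module coinduced; this row is its degree-zero
part, the identification of P with the invariants of the coinduced module.) -/
theorem result (k : Type u) [CommRing k] (A : Type v) [CommRing A] [Bialgebra k A]
    [Module.Flat k A] (P : Type w) [AddCommGroup P] [Module k P] :
    Function.Injective ((Hoch.Ind.equiv k A P).toLinearMap ∘ₗ (TensorProduct.mk k P A).flip (1 : A)) ∧
    LinearMap.range ((Hoch.Ind.equiv k A P).toLinearMap ∘ₗ (TensorProduct.mk k P A).flip (1 : A)) =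
      HopfRep.fixedPts k A (Hoch.Ind k A P) := by
  let ε : TensorProduct k P A →ₗ[k] P := (TensorProduct.rid k P).toLinearMap ∘ₗ (Coalgebra.counit (R := k) (A := A)).lTensor P
  have h1 : ∀ p : P, ε (p ⊗ₜ (1 : A)) = p := fun p ↦ by simp [ε, Bialgebra.counit_one]
  have hnat : ∀ (p : P) (z : TensorProduct k A A),
      ε.rTensor A ((TensorProduct.assoc k P A A).symm (p ⊗ₜ z)) =
        p ⊗ₜ[k] (TensorProduct.lid k A ((Coalgebra.counit (R := k) (A := A)).rTensor A z)) := fun p z ↦ by
    induction z with
    | zero => simp
    | tmul x y => simp [ε, TensorProduct.smul_tmul]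
    | add x y hx hy => simp only [TensorProduct.tmul_add, map_add, hx, hy]
  have h2 : ∀ v : TensorProduct k P A, ε.rTensor A (Hoch.Ind.coactAux k A P v) = v := fun v ↦ by
    induction v with
    | zero => simp
    | tmul p a => simp [hnat, Coalgebra.rTensor_counit_comul]
    | add x y hx hy => simp [hx, hy]
  refine ⟨fun p q h ↦ ?_, le_antisymm ?_ fun v hv ↦ ?_⟩
  · have := congrArg ε h
    simpa [h1, Hoch.Ind.equiv] using (h1 p).symm.trans (this.trans (h1 q))
  · rintro _ ⟨p, rfl⟩
    show Hoch.Ind.coactAux k A P (p ⊗ₜ (1 : A)) = (p ⊗ₜ (1 : A)) ⊗ₜ (1 : A)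
    rw [Hoch.Ind.coactAux_tmul, Bialgebra.comul_one]
    simp [Algebra.TensorProduct.one_def]
  · refine ⟨ε v, ?_⟩
    have h := congrArg (ε.rTensor A) (show Hoch.Ind.coactAux k A P v = (v : TensorProduct k P A) ⊗ₜ (1 : A) from hv)
    erw [h2, LinearMap.rTensor_tmul] at h
    exact h.symm

end Groth.Agent.S16984
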