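import Groth.Statements.S16985
import Mathlib

set_option autoImplicit false
universe u v
open Hoch

namespace Groth.Agent.S16985

section
open scoped TensorProduct

variable (k : Type u) [CommRing k] (A : Type v) [CommRing A] [Bialgebra k A]

lemma assoc_nat {M N : Type v} [AddCommGroup M] [Module k M] [AddCommGroup N] [Module k N] (f : M →ₗ[k] N)
    (m : M) (z : A ⊗[k] A) :
    (TensorProduct.assoc k N A A).symm (f m ⊗ₜ z) =
      (f.rTensor A).rTensor A ((TensorProduct.assoc k M A A).symm (m ⊗ₜ z)) := by
  induction z with
  | zero => simp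
  | tmul x y => simp
  | add x y hx hy => simp only [TensorProduct.tmul_add, map_add, hx, hy]

lemma tail_nat {M N : Type v} [AddCommGroup M] [Module k M] [AddCommGroup N] [Module k N] (f : M →ₗ[k] N) :
    Hoch.tail k A N ∘ₗ f.rTensor A = (f.rTensor A).rTensor A ∘ₗ Hoch.tail k A M :=
  TensorProduct.ext' fun m a ↦ by
    simp only [LinearMap.comp_apply, LinearMap.rTensor_tmul, Hoch.tail_tmul]
    exact assoc_nat k A f m _

variable (P : Type v) [AddCommGroup P] [Module k P]

noncomputable def s : (n : ℕ) → ((Hoch.cochain k A (Hoch.Ind k A P) (n + 1) : Type v) →ₗ[k]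
    (Hoch.cochain k A (Hoch.Ind k A P) n : Type v))
  | 0 => (Hoch.Ind.equiv k A P).toLinearMap ∘ₗ (Hoch.Ind.counit k A P).rTensor A
  | n + 1 => (s n).rTensor A

/-- The counit on the last factor. -/
noncomputable def epsP : P ⊗[k] A →ₗ[k] P :=
  (TensorProduct.rid k P).toLinearMap ∘ₗ (Coalgebra.counit (R := k) (A := A)).lTensor P

@[simp] lemma epsP_tmul (p : P) (a : A) : epsP k A P (p ⊗ₜ a) = Coalgebra.counit (R := k) a • p := by
  simp [epsP]

lemma counit_first (p : P) (z : A ⊗[k] A) :
    (epsP k A P).rTensor A ((TensorProduct.assoc k P A A).symm (p ⊗ₜ z)) =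
      p ⊗ₜ[k] (TensorProduct.lid k A ((Coalgebra.counit (R := k) (A := A)).rTensor A z)) := by
  induction z with
  | zero => simp
  | tmul x y => simp [TensorProduct.smul_tmul]
  | add x y hx hy => simp only [TensorProduct.tmul_add, map_add, hx, hy]

lemma base :
    (Hoch.Ind.coactAux k A P - (TensorProduct.mk k (P ⊗[k] A) A).flip 1) ∘ₗ (epsP k A P).rTensor A +
      ((epsP k A P).rTensor A).rTensor A ∘ₗ ((Hoch.Ind.coactAux k A P - (TensorProduct.mk k (P ⊗[k] A) A).flip 1).rTensor A +
        ((-1 : k) ^ (0 + 1)) • Hoch.tail k A (P ⊗[k] A)) = LinearMap.id := by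
  refine TensorProduct.ext' fun v b ↦ ?_
  induction v with
  | zero => simp
  | add x y hx hy => simp only [TensorProduct.add_tmul, map_add, hx, hy]
  | tmul p a =>
    simp only [zero_add, pow_one, neg_smul, one_smul, neg_one_smul, LinearMap.add_apply, LinearMap.comp_apply,
      LinearMap.neg_apply, LinearMap.sub_apply, LinearMap.rTensor_tmul, LinearMap.flip_apply,
      TensorProduct.mk_apply, LinearMap.id_apply, map_sub, map_add, map_neg, epsP_tmul,
      TensorProduct.sub_tmul, Hoch.tail_tmul, TensorProduct.tmul_sub,
      TensorProduct.assoc_symm_tmul]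
    erw [LinearMap.smul_apply, map_smul]
    simp only [Hoch.tail_tmul, map_sub, TensorProduct.tmul_sub, TensorProduct.assoc_symm_tmul,
      LinearMap.rTensor_tmul, epsP_tmul]
    rw [← assoc_nat k A (epsP k A P), Hoch.Ind.coactAux_tmul, Hoch.Ind.coactAux_tmul, counit_first, Coalgebra.rTensor_counit_comul, epsP_tmul]
    simp only [TensorProduct.lid_tmul, one_smul]
    module

lemma homotopy : ∀ n, Hoch.d k A (Hoch.Ind k A P) n ∘ₗ s k A P n +
    s k A P (n + 1) ∘ₗ Hoch.d k A (Hoch.Ind k A P) (n + 1) = LinearMap.id
  | 0 => base k A P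
  | n + 1 => by
    have ih := congrArg (LinearMap.rTensor A) (homotopy n)
    rw [LinearMap.rTensor_add, LinearMap.rTensor_comp, LinearMap.rTensor_comp, LinearMap.rTensor_id] at ih
    refine Eq.trans ?_ ih
    rw [show s k A P (n + 1 + 1) = (s k A P (n + 1)).rTensor A from rfl]
    conv_lhs => rw [Hoch.d_succ, Hoch.d_succ k A (Hoch.Ind k A P) (n + 1)]
    rw [show s k A P (n + 1) = (s k A P n).rTensor A from rfl]
    rw [LinearMap.add_comp, LinearMap.comp_add, LinearMap.smul_comp, LinearMap.comp_smul,
      tail_nat, pow_succ (-1 : k) (n + 1)]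
    simp only [mul_neg, mul_one, neg_smul]
    abel

end

open TensorProduct in
/-- Let k be a commutative ring, A a commutative k-bialgebra flat over k (the coordinate ring of a flat
affine group scheme over Spec k; flatness and commutativity are the standing hypotheses of the
appendix and are not needed for the assertion) and P a k-module. Then the cochain complex of the
induced comodule P ⊗ A (coaction id ⊗ Δ), with n-cochains (P ⊗ A) ⊗ A ⊗ ⋯ ⊗ A, has every
(n+1)-cocycle an (n+1)-coboundary, for all n. (The published statement is the vanishing of the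
higher derived functors of invariants on coinduced modules; this row states the vanishing in
positive degrees of the cohomology of the cochain complex above, which the same appendix identifies
with those derived functors. P is taken in the universe of A, as the cochain modules require.) -/
theorem result (k : Type u) [CommRing k] (A : Type v) [CommRing A]
    [Bialgebra k A] [Module.Flat k A] (P : Type v) [AddCommGroup P] [Module k P] (n : ℕ) :
    Hoch.cocycles k A (Hoch.Ind k A P) (n + 1) ≤ Hoch.coboundaries k A (Hoch.Ind k A P) (n + 1) := by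
  intro c hc
  refine ⟨s k A P n c, ?_⟩
  have h := LinearMap.congr_fun (homotopy k A P n) c
  rw [LinearMap.add_apply, LinearMap.comp_apply, LinearMap.comp_apply, LinearMap.id_apply] at h
  rw [LinearMap.mem_ker.mp hc, map_zero, add_zero] at h
  exact h

end Groth.Agent.S16985
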