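import Groth.Statements.S16987
import Groth.Agent.QuadSm.Main

set_option autoImplicit false
universe u
open CategoryTheory AlgebraicGeometry
open QuadGrp

namespace Groth.Agent.S16987

/-- Let Q be a quadratic form on R^n, n ≥ 1, over a commutative ring R, non-degenerate (perfect polar
pairing for even n, unit half-discriminant in the standard basis for odd n), and let G be a group
scheme over Spec R which is the naive special orthogonal group of Q (its A-valued points are the
isometries of Q_A of determinant one, naturally in A). If n is odd or 2 is a unit in R, then G is
smooth over Spec R. (The published statement also asserts the converse, that smoothness forces n odd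
or 2 a unit; the converse fails over any base of characteristic 2: there every isometry of a
non-degenerate form of even rank has determinant one, so the naive group is the whole orthogonal
group, which is smooth — for instance the split form x₀x₁ over the field with two elements. Only the
implication the published proof establishes is stated. The published statement is for a
line-bundle-valued form on a vector bundle over an arbitrary scheme; the free affine case is
stated.) -/
theorem result (R : Type u) [CommRing R] (n : ℕ) (hn : 1 ≤ n)
    (Q : QuadraticForm R (Fin n → R))
    (hQ : QuadGrp.IsNondeg (Pi.basisFun R (Fin n)) (LinearEquiv.refl R R) Q)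
    (G : Over (Spec (CommRingCat.of R))) [GrpObj G] (D : QuadGrp.SOrth'Rep Q G)
    (h : Odd n ∨ IsUnit (2 : R)) :
    AlgebraicGeometry.Smooth G.hom := by
  open Groth.Agent.QuadSm in
  rw [smooth_iff_formallySmooth (a := table Q) (sp := true)
    (fun A _ _ e => mem_sorth'_iff Q A e) G D]
  by_cases hn : Even n
  · have h2 : IsUnit (2 : R) := h.resolve_left fun ho => Nat.not_even_iff_odd.2 ho hn
    exact formallySmooth_regular (isUnit_polA_det Q hQ (Or.inr h2)) fun _ => h2
  · exact formallySmooth_odd (Nat.not_even_iff_odd.1 hn) (hQ.2 (Nat.not_even_iff_odd.1 hn))

end Groth.Agent.S16987
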