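import Groth.Statements.S16990
import Groth.Agent.CliffSm.EvenDet

set_option autoImplicit false
universe u v
open QuadGrp

namespace Groth.Agent.S16990

/-- Comparison with SO′: over a commutative ring in which 2 is invertible, for a quadratic form Q on a
finite free module of even rank 2m ≥ 2 whose polar form is a perfect pairing, the isometries
satisfying the Dickson condition are exactly the isometries of determinant one. -/
theorem result {R : Type u} [CommRing R] [Invertible (2 : R)]
    {M : Type v} [AddCommGroup M] [Module R M] [Module.Free R M] [Module.Finite R M]
    (m : ℕ) (hm : 1 ≤ m) (hM : Module.finrank R M = 2 * m) (Q : QuadraticForm R M) (hQ : QuadGrp.IsRegular Q) :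
    QuadGrp.SOeven Q = QuadGrp.SO' Q := by
  rcases subsingleton_or_nontrivial R with hR | hR
  · haveI : Subsingleton M := Module.subsingleton R M
    haveI : Subsingleton (M ≃ₗ[R] M) := ⟨fun a c => LinearEquiv.ext fun v => Subsingleton.elim _ _⟩
    exact SetLike.ext fun g => by rw [Subsingleton.elim g 1]; simp [one_mem]
  let b := Module.finBasisOfFinrankEq R M hM
  exact Groth.Agent.CliffSm.soeven_eq_SO' b hQ

end Groth.Agent.S16990
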