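import Groth.Statements.S1700
import Groth.Agent.S1570
import Groth.Agent.CDivNormal.Primes
import Groth.Agent.KrullThick.Basic

set_option autoImplicit false
universe u
open CategoryTheory CategoryTheory.Limits AlgebraicGeometry TopologicalSpace
open SDiv

set_option backward.isDefEq.respectTransparency false
set_option backward.isDefEq.respectTransparency.types false

namespace Groth.Agent.S1700

/-- Let X be a Noetherian scheme and 𝓘 a quasi-coherent ideal sheaf with closed subscheme Z such that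
(1) Z has no embedded points: every point of Z whose local ring has its maximal ideal associated is
a maximal point of Z; (2) every maximal point of Z has codimension 1 in X (the local ring of X there
has dimension 1); (3) the local ring of X at every point of Z is a unique factorisation domain. Then
𝓘 is the ideal sheaf of an effective Cartier divisor. -/
theorem result (X : Scheme.{u}) [IsNoetherian X] (𝓘 : X.IdealSheafData)
    (h1 : ∀ z : ↥𝓘.subscheme, IsAssociatedPrime (IsLocalRing.maximalIdeal ↑(𝓘.subscheme.presheaf.stalk z)) ↑(𝓘.subscheme.presheaf.stalk z) → ∀ z' : ↥𝓘.subscheme, z' ⤳ z → z' = z)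
    (h2 : ∀ z : ↥𝓘.subscheme, (∀ z' : ↥𝓘.subscheme, z' ⤳ z → z' = z) →
      ringKrullDim (X.presheaf.stalk (𝓘.subschemeι z)) = 1)
    (h3 : ∀ x : ↥X, x ∈ 𝓘.support → IsDomain (X.presheaf.stalk x) ∧ UniqueFactorizationMonoid (X.presheaf.stalk x)) :
    BlowUp.IsEffCartierIdeal 𝓘 := by
  classical
  refine Groth.Agent.S1570.result X 𝓘 fun x hx U hxU => ?_
  obtain ⟨hdom, hufd⟩ := h3 x hx
  let gx := (X.presheaf.germ U.1 x hxU).hom
  let J := (𝓘.ideal U).map gx
  letI algx := gx.toAlgebra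
  haveI := U.2.isLocalization_stalk ⟨x, hxU⟩
  have key : ∀ Q : Ideal (X.presheaf.stalk x), J ≤ Q → IsAssociatedPrime Q ((X.presheaf.stalk x) ⧸ J) →
      ∃ (z : X) (hz : z ⤳ x), Groth.Agent.CDivNormal.genPrime hz = Q ∧ Order.coheight z = 1 := by
    intro Q hJQ hQ
    haveI : Q.IsPrime := hQ.isPrime
    obtain ⟨-, aq, haq⟩ := isAssociatedPrime_iff.1 hQ
    obtain ⟨a, rfl⟩ := Ideal.Quotient.mk_surjective aq
    have hcol : ∀ r : X.presheaf.stalk x, r ∈ Q ↔ r * a ∈ J := fun r => by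
      rw [haq, Submodule.mem_colon_singleton, Submodule.mem_bot, Algebra.smul_def, Ideal.Quotient.algebraMap_eq,
        ← map_mul, Ideal.Quotient.eq_zero_iff_mem]
    obtain ⟨z, hz, hzQ⟩ := Groth.Agent.CDivNormal.exists_genPrime_eq x Q
    have hzU : z ∈ U.1 := hz.mem_open U.1.2 hxU
    have hQmem : ∀ r : Γ(X, U.1), gx r ∈ Q ↔ r ∈ (U.2.primeIdealOf ⟨z, hzU⟩).asIdeal := fun r => by
      rw [← hzQ]; exact Groth.Agent.CDivNormal.germ_mem_genPrime hz U.2 hxU r
    have hzs : z ∈ 𝓘.support := by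
      rw [Scheme.IdealSheafData.mem_support_iff_of_mem (U := U) hzU, Scheme.mem_zeroLocus_iff]
      exact fun r hr hmem => (Groth.Agent.WeakAssLib.mem_primeIdealOf U.2 hzU r).1 hmem
        ((hQmem r).1 (hJQ (Ideal.mem_map_of_mem gx hr)))
    obtain ⟨z', rfl⟩ : ∃ z', 𝓘.subschemeι z' = z := by
      have h : z ∈ Set.range 𝓘.subschemeι := by rw [Scheme.IdealSheafData.range_subschemeι]; exact hzs
      exact h
    let gz := (X.presheaf.germ U.1 (𝓘.subschemeι z') hzU).hom
    let ψ := (𝓘.subschemeι.stalkMap z').hom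
    let sp := (X.presheaf.stalkSpecializes hz).hom
    have hsp : ∀ r, sp (gx r) = gz r := fun r => X.presheaf.germ_stalkSpecializes_apply hxU hz r
    have hIz : ∀ r ∈ 𝓘.ideal U, ψ (gz r) = 0 := fun r hr => by
      change (𝓘.subschemeι.stalkMap z').hom ((X.presheaf.germ U.1 (𝓘.subschemeι z') hzU).hom r) = 0
      rw [Scheme.Hom.germ_stalkMap_apply]
      rw [← 𝓘.ker_subschemeι_app U, RingHom.mem_ker] at hr
      rw [hr, map_zero]
    have hJ0 : ∀ j ∈ J, ψ (sp j) = 0 := fun j hj => by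
      have hle : J ≤ RingHom.ker (ψ.comp sp) := Ideal.map_le_iff_le_comap.2 fun r hr =>
        (congrArg ψ (hsp r)).trans (hIz r hr)
      exact RingHom.mem_ker.1 (hle hj)
    have hne : ψ (sp a) ≠ 0 := by
      intro h0
      have hm := Groth.Agent.KrullThick.ker_stalkMap_le 𝓘 z' hzU (RingHom.mem_ker.2 h0)
      obtain ⟨⟨r₀, s₀⟩, hrs⟩ := IsLocalization.surj
        (U.2.primeIdealOf ⟨x, hxU⟩).asIdeal.primeCompl a
      have hrs' : a * gx s₀.1 = gx r₀ := hrs
      letI algz := gz.toAlgebra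
      haveI := U.2.isLocalization_stalk ⟨𝓘.subschemeι z', hzU⟩
      have h1 : gz r₀ ∈ (𝓘.ideal U).map gz := by
        rw [← hsp, ← hrs', map_mul]
        exact Ideal.mul_mem_right _ _ hm
      obtain ⟨m, hm', hmr⟩ := (IsLocalization.algebraMap_mem_map_algebraMap_iff
        (U.2.primeIdealOf ⟨𝓘.subschemeι z', hzU⟩).asIdeal.primeCompl (X.presheaf.stalk (𝓘.subschemeι z')) _ r₀).1 h1
      have h2 : gx s₀.1 * gx m * a ∈ J := by
        rw [mul_comm (gx s₀.1), mul_assoc, mul_comm _ a, hrs', ← map_mul]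
        exact Ideal.mem_map_of_mem gx hmr
      rcases (inferInstance : Q.IsPrime).mem_or_mem ((hcol _).2 h2) with h | h
      · exact (inferInstance : Q.IsPrime).ne_top (Ideal.eq_top_of_isUnit_mem _ h
          (IsLocalization.map_units (X.presheaf.stalk x) s₀))
      · exact hm' ((hQmem m).1 h)
    have hass : IsAssociatedPrime (IsLocalRing.maximalIdeal (𝓘.subscheme.presheaf.stalk z'))
        (𝓘.subscheme.presheaf.stalk z') := by
      haveI : IsNoetherianRing (𝓘.subscheme.presheaf.stalk z') := by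
        haveI : IsLocallyNoetherian 𝓘.subscheme := LocallyOfFiniteType.isLocallyNoetherian 𝓘.subschemeι
        infer_instance
      refine isAssociatedPrime_iff.2 ⟨inferInstance, ψ (sp a), le_antisymm (fun c hc => ?_) (fun c hc => ?_)⟩
      · obtain ⟨b, rfl⟩ := 𝓘.subschemeι.stalkMap_surjective z' c
        rw [Submodule.mem_colon_singleton, Submodule.mem_bot, smul_eq_mul]
        have hb : b ∈ IsLocalRing.maximalIdeal (X.presheaf.stalk (𝓘.subschemeι z')) := fun hu => hc (hu.map ψ)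
        letI algz := gz.toAlgebra
        haveI := U.2.isLocalization_stalk ⟨𝓘.subschemeι z', hzU⟩
        obtain ⟨⟨r, s⟩, hrs⟩ := IsLocalization.surj
          (U.2.primeIdealOf ⟨𝓘.subschemeι z', hzU⟩).asIdeal.primeCompl b
        have hr : r ∈ (U.2.primeIdealOf ⟨𝓘.subschemeι z', hzU⟩).asIdeal := by
          by_contra hr
          refine hb (isUnit_of_mul_isUnit_left (y := gz s.1) ?_)
          rw [show b * gz s.1 = gz r from hrs]
          exact IsLocalization.map_units (X.presheaf.stalk (𝓘.subschemeι z'))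
            (⟨r, hr⟩ : (U.2.primeIdealOf ⟨𝓘.subschemeι z', hzU⟩).asIdeal.primeCompl)
        have h1 := hJ0 _ ((hcol _).1 ((hQmem r).2 hr))
        rw [map_mul, map_mul, hsp, ← show b * gz s.1 = gz r from hrs, map_mul, mul_assoc,
          mul_left_comm] at h1
        exact ((IsLocalization.map_units (X.presheaf.stalk (𝓘.subschemeι z')) s).map ψ).mul_right_eq_zero.1 h1
      · rw [Submodule.mem_colon_singleton, Submodule.mem_bot, smul_eq_mul] at hc
        exact fun hu => hne (hu.mul_right_eq_zero.1 hc)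
    have hd := h2 z' (h1 z' hass)
    rw [ringKrullDim_stalk_eq_coheight] at hd
    exact ⟨_, hz, hzQ, by exact_mod_cast hd⟩
  have hlt : ∀ z w : X, w ⤳ z → w ≠ z → Order.coheight w + 1 ≤ Order.coheight z := fun z w h hne =>
    Order.coheight_add_one_le (lt_iff_le_not_ge.2 ⟨h, fun h' => hne (h.antisymm h').eq⟩)
  have hJtop : J ≠ ⊤ := by
    intro htop
    have h1 : J ≤ IsLocalRing.maximalIdeal (X.presheaf.stalk x) := Ideal.map_le_iff_le_comap.2 fun r hr hu => by
      have h2 := (Scheme.IdealSheafData.mem_support_iff_of_mem (I := 𝓘) (U := U) hxU).1 hx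
      rw [Scheme.mem_zeroLocus_iff] at h2
      exact h2 r hr ((X.mem_basicOpen r x hxU).2 hu)
    exact (IsLocalRing.maximalIdeal.isMaximal (X.presheaf.stalk x)).ne_top (top_le_iff.1 (htop ▸ h1))
  have hJ0 : J ≠ ⊥ := by
    intro hbot
    have hass : IsAssociatedPrime (⊥ : Ideal (X.presheaf.stalk x)) ((X.presheaf.stalk x) ⧸ J) := by
      haveI : (⊥ : Ideal (X.presheaf.stalk x)).IsPrime := Ideal.isPrime_bot
      refine isAssociatedPrime_iff.2 ⟨inferInstance, Ideal.Quotient.mk J 1, ?_⟩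
      ext r
      rw [Submodule.mem_colon_singleton, Submodule.mem_bot, Submodule.mem_bot, Algebra.smul_def,
        Ideal.Quotient.algebraMap_eq, ← map_mul, mul_one, Ideal.Quotient.eq_zero_iff_mem, hbot, Submodule.mem_bot]
    obtain ⟨z, hz, hzQ, hco⟩ := key ⊥ hbot.le hass
    obtain ⟨w, hwz, hwne⟩ : ∃ w, w ⤳ z ∧ w ≠ z := by
      by_contra hc
      push Not at hc
      rw [Order.coheight_eq_zero.2 (fun w hw => by rw [hc w hw] : IsMax z)] at hco
      exact zero_ne_one hco
    have hle := Groth.Agent.CDivNormal.genPrime_mono hwz hz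
    rw [hzQ, le_bot_iff] at hle
    exact hwne (hwz.antisymm (Groth.Agent.CDivNormal.specializes_of_le hz (hwz.trans hz)
      (by rw [hzQ]; exact bot_le))).eq
  obtain ⟨a₀, ha₀J, ha₀⟩ := Submodule.exists_mem_ne_zero_of_ne_bot hJ0
  obtain ⟨b, ⟨g, hgb, hJg⟩, hmin⟩ := (wellFounded_dvdNotUnit (α := X.presheaf.stalk x)).has_min
    {b | ∃ g, a₀ = g * b ∧ J ≤ Ideal.span {g}}
    ⟨a₀, 1, (one_mul _).symm, by rw [Ideal.span_singleton_one]; exact le_top⟩
  have hg0 : g ≠ 0 := fun h => ha₀ (by rw [hgb, h, zero_mul])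
  refine ⟨g, mem_nonZeroDivisors_of_ne_zero hg0, le_antisymm hJg ((Ideal.span_singleton_le_iff_mem _).2 ?_)⟩
  change g ∈ J
  by_contra hgJ
  have hq : (Ideal.Quotient.mk J g) ≠ 0 := fun h => hgJ (Ideal.Quotient.eq_zero_iff_mem.1 h)
  obtain ⟨Q, hQ, hle⟩ := exists_le_isAssociatedPrime_of_isNoetherianRing (X.presheaf.stalk x) _ hq
  haveI : Q.IsPrime := hQ.isPrime
  have hmemQ : ∀ r, r * g ∈ J → r ∈ Q := fun r hr => hle (by
    rw [Submodule.mem_colon_singleton, Submodule.mem_bot, Algebra.smul_def, Ideal.Quotient.algebraMap_eq,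
      ← map_mul, Ideal.Quotient.eq_zero_iff_mem]; exact hr)
  have hJQ : J ≤ Q := fun r hr => hmemQ r (Ideal.mul_mem_right _ _ hr)
  obtain ⟨z, hz, hzQ, hco⟩ := key Q hJQ hQ
  have hQ0 : Q ≠ ⊥ := fun h => hJ0 (le_bot_iff.1 (h ▸ hJQ))
  obtain ⟨p, hp, hpp⟩ := (inferInstance : Q.IsPrime).exists_mem_prime_of_ne_bot hQ0
  haveI : (Ideal.span {p}).IsPrime := (Ideal.span_singleton_prime hpp.ne_zero).2 hpp
  obtain ⟨w, hw, hwp⟩ := Groth.Agent.CDivNormal.exists_genPrime_eq x (Ideal.span {p})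
  obtain ⟨w₀, hw₀, hw₀P⟩ := Groth.Agent.CDivNormal.exists_genPrime_eq x (⊥ : Ideal (X.presheaf.stalk x))
  have hQp : Q = Ideal.span {p} := by
    have hwz : w ⤳ z := Groth.Agent.CDivNormal.specializes_of_le hw hz (by
      rw [hwp, hzQ]; exact (Ideal.span_singleton_le_iff_mem _).2 hp)
    by_cases hne : w = z
    · subst hne
      exact hzQ.symm.trans hwp
    exfalso
    have hw₀w : w₀ ⤳ w := Groth.Agent.CDivNormal.specializes_of_le hw₀ hw (by rw [hw₀P]; exact bot_le)
    have hw₀ne : w₀ ≠ w := fun e => by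
      subst e
      exact hpp.ne_zero (Ideal.span_singleton_eq_bot.1 (hwp.symm.trans hw₀P))
    have h4 := (add_le_add_left ((add_le_add bot_le le_rfl).trans (hlt w w₀ hw₀w hw₀ne)) 1).trans (hlt z w hwz hne)
    rw [hco] at h4
    exact absurd h4 (by decide)
  have hJgp : J ≤ Ideal.span {g * p} := fun j hj => by
    obtain ⟨c, rfl⟩ := Ideal.mem_span_singleton'.1 (hJg hj)
    obtain ⟨d, rfl⟩ := Ideal.mem_span_singleton'.1 (hQp ▸ hmemQ c hj)
    exact Ideal.mem_span_singleton'.2 ⟨d, by ring⟩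
  obtain ⟨b', hb'⟩ := Ideal.mem_span_singleton'.1 (hJgp ha₀J)
  have hbb : b = p * b' := mul_left_cancel₀ hg0 (by rw [← hgb, ← hb']; ring)
  refine hmin b' ⟨g * p, by rw [← hb']; ring, hJgp⟩ ⟨?_, p, hpp.not_unit, by rw [hbb]; ring⟩
  intro h0
  rw [h0, zero_mul] at hb'
  exact ha₀ hb'.symm

end Groth.Agent.S1700
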