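import Groth.Statements.S17000
import Groth.Agent.QuadSm.NaiveSO
import Mathlib.RingTheory.Int.Basic

set_option autoImplicit false
open CategoryTheory AlgebraicGeometry
open QuadGrp

namespace Groth.Agent.S17000

/-- For m ≥ 1, a group scheme over Spec ℤ which is the naive special orthogonal group (kernel of the
determinant on the orthogonal group) of the standard split quadratic form in 2m variables is a
reduced scheme and is not flat over ℤ. (The published statement also identifies the complement of
the Dickson special orthogonal group inside it with the non-identity component of the orthogonal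
group in characteristic 2.) -/
theorem result (m : ℕ) (hm : 1 ≤ m)
    (G : Over (Spec (CommRingCat.of ℤ))) [GrpObj G] (D : QuadGrp.SOrth'Rep (QuadGrp.splitForm ℤ (2 * m)) G) :
    AlgebraicGeometry.IsReduced G.left ∧ ¬ AlgebraicGeometry.Flat G.hom := by
  open Groth.Agent.QuadSm in
  obtain ⟨u, hu⟩ := exists_iso_coord (a := splitTable m) (sp := true)
    (fun A _ _ e => mem_sorth'_iff (QuadGrp.splitForm ℤ (2 * m)) A e) G D
  have ha := isUnit_polA_split m
  haveI := isReduced_coord (splitTable m) ha (by norm_num)
    ((Ideal.span_singleton_prime (by norm_num)).2 Int.prime_two)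
  refine isReduced_and_not_flat u (not_flat_coord (splitTable m) ha ?_ ?_ (good_swap m hm) ?_)
  · rw [Int.isUnit_iff]; norm_num
  · exact mem_nonZeroDivisors_of_ne_zero (by norm_num)
  · rw [Matrix.det_permute', swapPerm, Equiv.Perm.sign_swap (by simp [Fin.ext_iff])]
    simp

end Groth.Agent.S17000
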