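import Groth.Statements.S17005
import Groth.Agent.QuadCentre.Main

set_option autoImplicit false
universe u
open scoped TensorProduct
open QuadGrp

namespace Groth.Agent.S17005

/-- Let Q be a non-degenerate quadratic form on R^n, n ≥ 3, over a commutative ring R (perfect polar
pairing for even n, unit half-discriminant in the standard basis for odd n). An isometry g of Q of
determinant one commutes, after base change to every R-algebra A, with every determinant-one
isometry of Q_A if and only if g is multiplication by a scalar whose square is one; for odd n such a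
scalar is 1 because the determinant of g is its n-th power. (Points-level form of: the functorial
centre of the naive special orthogonal group is the central μ₂ for even rank and trivial for odd
rank.) -/
theorem result (R : Type u) [CommRing R] (n : ℕ) (hn : 3 ≤ n)
    (Q : QuadraticForm R (Fin n → R))
    (hQ : QuadGrp.IsNondeg (Pi.basisFun R (Fin n)) (LinearEquiv.refl R R) Q)
    (g : (Fin n → R) ≃ₗ[R] (Fin n → R)) (hg : g ∈ QuadGrp.SO' Q) :
    (∀ (A : Type u) [CommRing A] [Algebra R A], ∀ h ∈ QuadGrp.sorth' Q A,
        g.baseChange R A (Fin n → R) (Fin n → R) * h = h * g.baseChange R A (Fin n → R) (Fin n → R)) ↔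
      ∃ c : R, c * c = 1 ∧ ∀ v, g v = c • v := by
  classical
  constructor
  · intro H
    have hB := Groth.Agent.QuadCentre.content_of_isNondeg Q hn hQ
    apply Groth.Agent.QuadCentre.scalar_of_Bpol_mul_Wpol Q g hB hg.1 (by omega)
    intro k i j
    rcases Nat.even_or_odd n with he | ho
    · apply Groth.Agent.QuadCentre.Bpol_mul_Wpol_of_commPairs Q g hn
        (Groth.Agent.QuadCentre.dual_of_isRegular Q (hQ.1 he)) hB
      intro A _ _ x u hu y t ht v
      haveI : Module.Free A (A ⊗[R] (Fin n → R)) :=
        Module.Free.of_basis (Groth.Agent.QuadCentre.bA R n A)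
      exact LinearEquiv.congr_fun (H A _ ⟨Groth.Agent.QuadCentre.mem_O_baseChange Q A _
        (mul_mem (Groth.Agent.QuadCentre.refl_mem_O _ x u hu)
          (Groth.Agent.QuadCentre.refl_mem_O _ y t ht)),
        Groth.Agent.QuadCentre.det_refl_mul _ x u hu y t ht⟩) v
    · apply Groth.Agent.QuadCentre.Bpol_mul_Wpol_of_commRefl Q g hB
      intro A _ _ x u hu v
      haveI : Module.Free A (A ⊗[R] (Fin n → R)) :=
        Module.Free.of_basis (Groth.Agent.QuadCentre.bA R n A)
      have hmem : Groth.Agent.QuadCentre.refl (QuadGrp.baseChangeForm A Q) x u hu *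
          LinearEquiv.neg A ∈ QuadGrp.sorth' Q A := by
        refine ⟨Groth.Agent.QuadCentre.mem_O_baseChange Q A _
          (mul_mem (Groth.Agent.QuadCentre.refl_mem_O _ x u hu) fun w => ?_), ?_⟩
        · rw [LinearEquiv.neg_apply, QuadraticMap.map_neg]
        · change LinearEquiv.det _ = 1
          rcases subsingleton_or_nontrivial A with hA | hA
          · exact Units.ext (Subsingleton.elim _ _)
          rw [map_mul, Groth.Agent.QuadCentre.det_refl, ← Units.val_inj, Units.val_mul,
            LinearEquiv.coe_det, Units.val_neg, Units.val_one]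
          have hneg : (LinearEquiv.neg A : (A ⊗[R] (Fin n → R)) ≃ₗ[A] _).toLinearMap =
              (-1 : A) • LinearMap.id := by
            ext
            simp
          rw [hneg, LinearMap.det_smul, LinearMap.det_id, mul_one,
            Module.finrank_eq_card_basis (Groth.Agent.QuadCentre.bA R n A), Fintype.card_fin,
            ho.neg_one_pow, neg_mul_neg, one_mul]
      have := LinearEquiv.congr_fun (H A _ hmem) v
      rw [LinearEquiv.mul_apply, LinearEquiv.mul_apply, LinearEquiv.mul_apply,
        LinearEquiv.mul_apply, LinearEquiv.neg_apply, LinearEquiv.neg_apply, map_neg, map_neg,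
        map_neg, neg_inj] at this
      exact this
  · rintro ⟨c, _, hc⟩ A _ _ h _
    exact Groth.Agent.QuadCentre.commute_of_scalar g hc h

end Groth.Agent.S17005
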