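import Groth.Statements.S1701
import Groth.Agent.FlatCartier.Basic
import Groth.Agent.FlatCartier.Local

set_option autoImplicit false
universe u
open CategoryTheory CategoryTheory.Limits AlgebraicGeometry TopologicalSpace
open SDiv

namespace Groth.Agent.S1701

/-- Let f : X ⟶ S be a morphism, 𝓘 the ideal sheaf of an effective Cartier divisor D ⊂ X such that D ⟶ S
is flat (a relative effective Cartier divisor), and x a point of D at which the local ring of X is
Noetherian. Then f is flat at x. -/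
theorem result {X S : Scheme.{u}} (f : X ⟶ S) (𝓘 : X.IdealSheafData)
    (hD : (BlowUp.IsEffCartierIdeal 𝓘 ∧ Flat (𝓘.subschemeι ≫ f))) (d : ↥𝓘.subscheme) [IsNoetherianRing (X.presheaf.stalk (𝓘.subschemeι d))] :
    (f.stalkMap (𝓘.subschemeι d)).hom.Flat := by
  set x := 𝓘.subschemeι d
  have hxs : x ∈ 𝓘.support := 𝓘.range_subschemeι.subset ⟨d, rfl⟩
  obtain ⟨V, hV, hxV, -⟩ := exists_isAffineOpen_mem_and_subset (X := S) (U := ⊤) (trivial : f.base x ∈ (⊤ : S.Opens))
  obtain ⟨U, hxU, hUV, g, hg, he⟩ := Groth.Agent.BlowUpLib.exists_small_generator hD.1 (O := f ⁻¹ᵁ V) hxV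
  have hfq := Groth.Agent.FlatCartier.flat_quotient hD.2 hV U hUV
  rw [he] at hfq
  letI := (f.appLE V U.1 hUV).hom.toAlgebra
  letI algB : Algebra Γ(X, U.1) (X.presheaf.stalk x) := (X.presheaf.germ U.1 x hxU).hom.toAlgebra
  letI := (((X.presheaf.germ U.1 x hxU).hom).comp (f.appLE V U.1 hUV).hom).toAlgebra
  haveI : IsScalarTower Γ(S, V) Γ(X, U.1) (X.presheaf.stalk x) := IsScalarTower.of_algebraMap_eq fun _ => rfl
  haveI hloc : IsLocalization.AtPrime (X.presheaf.stalk x) (U.2.primeIdealOf ⟨x, hxU⟩).asIdeal :=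
    U.2.isLocalization_stalk ⟨x, hxU⟩
  haveI : Module.Flat Γ(X, U.1) (X.presheaf.stalk x) :=
    IsLocalization.flat _ (U.2.primeIdealOf ⟨x, hxU⟩).asIdeal.primeCompl
  haveI : Module.Flat Γ(S, V) (Γ(X, U.1) ⧸ Ideal.span {g}) := RingHom.flat_algebraMap_iff.1 hfq
  haveI := Groth.Agent.FlatCartier.flat_quotient_of_flat (R := Γ(S, V)) (A := X.presheaf.stalk x) g
  have hreg : algebraMap Γ(X, U.1) (X.presheaf.stalk x) g ∈ nonZeroDivisors (X.presheaf.stalk x) :=
    IsLocalization.map_nonZeroDivisors_le (U.2.primeIdealOf ⟨x, hxU⟩).asIdeal.primeCompl _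
      (Submonoid.mem_map_of_mem _ hg)
  have hm : ¬ IsUnit (algebraMap Γ(X, U.1) (X.presheaf.stalk x) g) := fun h => by
    have h1 : x ∈ X.basicOpen g := (X.mem_basicOpen g x hxU).2 h
    exact (Groth.Agent.BlowUpLib.mem_basicOpen_of_notMem_support he hxU).2 h1 hxs
  have hflat : Module.Flat Γ(S, V) (X.presheaf.stalk x) :=
    Groth.Agent.FlatCartier.flat_of_flat_quotient_local _ hreg hm
  let q := hV.primeIdealOf ⟨f.base x, hxV⟩
  letI : Algebra Γ(S, V) (S.presheaf.stalk (f.base x)) := (S.presheaf.germ V (f.base x) hxV).hom.toAlgebra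
  haveI : IsLocalization.AtPrime (S.presheaf.stalk (f.base x)) q.asIdeal :=
    hV.isLocalization_stalk ⟨f.base x, hxV⟩
  letI := (f.stalkMap x).hom.toAlgebra
  haveI : IsScalarTower Γ(S, V) (S.presheaf.stalk (f.base x)) (X.presheaf.stalk x) := by
    refine IsScalarTower.of_algebraMap_eq' ?_
    show (X.presheaf.germ U.1 x hxU).hom.comp (f.appLE V U.1 hUV).hom =
      (f.stalkMap x).hom.comp (S.presheaf.germ V (f.base x) hxV).hom
    rw [← CommRingCat.hom_comp, ← CommRingCat.hom_comp, Scheme.Hom.germ_stalkMap, Scheme.Hom.appLE,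
      Category.assoc, X.presheaf.germ_res]
  exact (Module.flat_iff_of_isLocalization (S.presheaf.stalk (f.base x)) q.asIdeal.primeCompl (X.presheaf.stalk x)).2 hflat

end Groth.Agent.S1701
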