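import Groth.Statements.S17021
import Groth.Agent.ParaFLib.Ext
import Groth.Agent.FlatParaF.Main
import Groth.Agent.RefStalk.Extend
import Groth.Agent.FinFlatExt.Basic
import Groth.Agent.Hensel.Fibres
import Groth.Agent.Purity.DepthPair
import Groth.Agent.CoprodAmple.Basic
import Groth.Agent.W7FlatBC.Main
import Groth.Agent.QC.Localisation
import Groth.Agent.LocH.DepthMisc

set_option autoImplicit false
universe u
open CategoryTheory CategoryTheory.Limits AlgebraicGeometry
open PicF

set_option backward.isDefEq.respectTransparency false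
set_option backward.isDefEq.respectTransparency.types false

namespace Groth.Agent.S17021

/-- Let X be a locally Noetherian scheme all of whose local rings satisfy Serre's condition (S₂), p a
closed point of X whose local ring has Krull dimension 2, U the open complement of p and L an
invertible O_U-module. Suppose L extends to an invertible module over an étale neighbourhood of p:
there are an étale morphism j : V → X, a point q of V with j(q) = p and an invertible O_V-module M
whose pullback to j⁻¹(U) is isomorphic to the pullback of L along j⁻¹(U) → U. Then L extends to X: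
some invertible O_X-module has pullback to U isomorphic to L. (Stated for schemes; the published
statement is for a Deligne–Mumford stack of dimension 2 satisfying (S₂) and its proof passes to a
scheme on an étale chart. Dimension 2 is imposed here on the local ring at p. The published setting
takes everything essentially of finite type over a field of characteristic zero; here X is only
assumed locally Noetherian.) -/
theorem result {X : Scheme.{u}} [IsLocallyNoetherian X]
    (hS2 : ∀ x : X, LocCoh.HasSk 2 (X.presheaf.stalk x) (X.presheaf.stalk x))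
    (p : X) (hp : IsClosed ({p} : Set X)) (hdim : ringKrullDim (X.presheaf.stalk p) = 2)
    (U : X.Opens) (hU : (U : Set X) = {p}ᶜ)
    (L : (U : Scheme.{u}).Modules) (hL : PicF.IsInvertible L)
    {V : Scheme.{u}} (j : V ⟶ X) [Etale j] (q : V) (hq : j.base q = p)
    (M : V.Modules) (hM : PicF.IsInvertible M)
    (e : (Scheme.Modules.pullback (j ⁻¹ᵁ U).ι).obj M ≅ (Scheme.Modules.pullback (j ∣_ U)).obj L) :
    ∃ N : X.Modules, PicF.IsInvertible N ∧ Nonempty ((Scheme.Modules.pullback U.ι).obj N ≅ L) := by
  obtain ⟨V', hV', hqV', -⟩ := exists_isAffineOpen_mem_and_subset (X := V) (x := q) (U := ⊤) trivial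
  haveI : IsAffine V'.toScheme := hV'
  let g : V'.toScheme ⟶ X := V'.ι ≫ j
  haveI : LocallyOfFiniteType g := inferInstance
  haveI : IsLocallyNoetherian V'.toScheme := LocallyOfFiniteType.isLocallyNoetherian g
  haveI : QuasiCompact U.ι := inferInstance
  haveI : L.IsQuasicoherent := TMul.isQCoh_of_isInvertible hL
  let N := (Scheme.Modules.pushforward U.ι).obj L
  haveI hNq : N.IsQuasicoherent := Groth.Agent.QC.isQCoh_pushforward U.ι
  let eU : (Scheme.Modules.pullback U.ι).obj N ≅ L :=
    ((Scheme.Modules.restrictFunctorIsoPullback U.ι).app N).symm ≪≫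
      (Scheme.Modules.restrictFunctorAdjCounitIso U.ι).app L
  refine ⟨N, ?_, ⟨eU⟩⟩
  -- depth two off `U`
  have hdp : (2 : ℕ∞) ≤ LocCoh.depth (X.presheaf.stalk p) (X.presheaf.stalk p) := by
    let A := X.presheaf.stalk p
    have h := (Groth.Agent.Hensel.hasSk_self_iff 2 A).1 (hS2 p) (IsLocalRing.maximalIdeal A)
    let e : A ≃+* Localization.AtPrime (IsLocalRing.maximalIdeal A) :=
      (IsLocalization.atUnits A (IsLocalRing.maximalIdeal A).primeCompl
        fun x hx => not_not.1 fun hu => hx hu).toRingEquiv
    rw [← ringKrullDim_eq_of_ringEquiv e, hdim, Groth.Agent.Purity.depth_eq_of_ringEquiv e] at h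
    rw [show ((2 : ℕ) : WithBot ℕ∞) = (2 : WithBot ℕ∞) from rfl, min_self] at h
    exact WithBot.coe_le_coe.1 h
  let W := g ⁻¹ᵁ U
  have hdepth : ∀ z : V'.toScheme, z ∉ W → (2 : ℕ∞) ≤ LocCoh.depth (V'.toScheme.presheaf.stalk z)
      ((Coh.structureModule V'.toScheme).presheaf.stalk z) := by
    intro z hz
    have hgz : g z = p := by
      have : g z ∉ (U : Set X) := hz
      rw [hU] at this
      simpa using this
    obtain ⟨e, -⟩ := Groth.Agent.RefStalk.exists_structStalk (X := V'.toScheme) z
    refine le_trans ?_ (Groth.Agent.LocH.idealDepth_congr e _).le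
    have h2 : (2 : ℕ∞) ≤ LocCoh.depth (X.presheaf.stalk (g z)) (X.presheaf.stalk (g z)) := by
      rw [hgz]; exact hdp
    exact h2.trans (Groth.Agent.FinFlatExt.depth_le_stalk g z)
  have hO : Groth.Agent.ParaFLib.SecBij W (Coh.structureModule V'.toScheme) := fun A =>
    Groth.Agent.RefStalk.bijective_rs_of_depth Groth.Agent.RefStalk.isCoh_structureModule inf_le_left
      fun z hz hz' => hdepth z fun h => hz' ⟨hz, h⟩
  let M' := (Scheme.Modules.pullback V'.ι).obj M
  have hM' : PicF.IsInvertible M' := PicLoc.isInvertible_pullback _ hM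
  have hunit : IsIso ((Scheme.Modules.restrictAdjunction W.ι).unit.app M') :=
    Groth.Agent.ParaFLib.isIso_unit_app W.ι
      (by rw [Scheme.Opens.opensRange_ι]; exact Groth.Agent.ParaFLib.secBij_of_isInvertible hO hM')
  -- comparison on `W`
  let t : W.toScheme ⟶ (j ⁻¹ᵁ U).toScheme :=
    IsOpenImmersion.lift (j ⁻¹ᵁ U).ι (W.ι ≫ V'.ι) (by
      rw [Scheme.Opens.range_ι]
      rintro _ ⟨w, rfl⟩
      exact w.2)
  have ht : t ≫ (j ⁻¹ᵁ U).ι = W.ι ≫ V'.ι := IsOpenImmersion.lift_fac _ _ _
  have ht' : t ≫ (j ∣_ U) = g ∣_ U := by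
    rw [← cancel_mono U.ι, Category.assoc, morphismRestrict_ι, morphismRestrict_ι, reassoc_of% ht]
  let eW : (Scheme.Modules.pullback (g ∣_ U)).obj L ≅ (Scheme.Modules.restrictFunctor W.ι).obj M' :=
    (Scheme.Modules.pullbackCongr ht'.symm).app L ≪≫
      ((Scheme.Modules.pullbackComp t (j ∣_ U)).app L).symm ≪≫
      (Scheme.Modules.pullback t).mapIso e.symm ≪≫
      (Scheme.Modules.pullbackComp t (j ⁻¹ᵁ U).ι).app M ≪≫
      (Scheme.Modules.pullbackCongr ht).app M ≪≫
      ((Scheme.Modules.pullbackComp W.ι V'.ι).app M).symm ≪≫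
      ((Scheme.Modules.restrictFunctorIsoPullback W.ι).app M').symm
  haveI : Flat g := inferInstance
  haveI : QuasiSeparated U.ι := inferInstance
  haveI := Groth.Agent.W7FlatBC.isIso_baseChangeMap (f := U.ι) (g := g) (g' := g ∣_ U) (f' := W.ι)
    (isPullback_morphismRestrict g U) (TMul.isQCoh_of_isInvertible hL)
  have hgN : PicF.IsInvertible ((Scheme.Modules.pullback g).obj N) := by
    refine Groth.Agent.ParaFLib.isInvertible_of_iso (Iso.symm ?_) hM'
    exact @asIso _ _ _ _ _ this ≪≫ (Scheme.Modules.pushforward W.ι).mapIso eW ≪≫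
      (@asIso _ _ _ _ _ hunit).symm
  -- descent
  let f : U.toScheme ⨿ V'.toScheme ⟶ X := coprod.desc U.ι g
  haveI : Flat f := by
    refine IsZariskiLocalAtSource.of_openCover (coprodOpenCover.{u, u} U.toScheme V'.toScheme) ?_
    rintro (⟨⟨⟩⟩ | ⟨⟨⟩⟩)
    · show Flat (coprod.inl ≫ f)
      rw [show coprod.inl ≫ f = U.ι from coprod.inl_desc _ _]
      infer_instance
    · show Flat (coprod.inr ≫ f)
      rw [show coprod.inr ≫ f = g from coprod.inr_desc _ _]
      infer_instance
  haveI : Surjective f := ⟨fun x => by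
    by_cases hx : x ∈ U
    · exact ⟨(coprod.inl : U.toScheme ⟶ _) ⟨x, hx⟩, by rw [← Scheme.Hom.comp_apply, coprod.inl_desc]; rfl⟩
    · refine ⟨(coprod.inr : V'.toScheme ⟶ U.toScheme ⨿ _) ⟨q, hqV'⟩, ?_⟩
      rw [← Scheme.Hom.comp_apply, coprod.inr_desc]
      have : x ∉ (U : Set X) := hx
      rw [hU] at this
      simp only [Set.mem_compl_iff, Set.mem_singleton_iff, not_not] at this
      exact hq.trans this.symm⟩
  haveI : QuasiCompact g := inferInstance
  haveI : QuasiCompact f := Groth.Agent.CoprodAmple.quasiCompact_desc (f := U.ι) (f' := g)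
  have hfN : PicF.IsInvertible ((Scheme.Modules.pullback f).obj N) := by
    refine Groth.Agent.CoprodAmple.isInvertible_of_pullback ?_ ?_
    · exact Groth.Agent.ParaFLib.isInvertible_of_iso ((Iso.symm (((Scheme.Modules.pullbackComp coprod.inl f).app N) ≪≫
        (Scheme.Modules.pullbackCongr (coprod.inl_desc U.ι g)).app N ≪≫ eU))) hL
    · exact Groth.Agent.ParaFLib.isInvertible_of_iso ((Iso.symm (((Scheme.Modules.pullbackComp coprod.inr f).app N) ≪≫
        (Scheme.Modules.pullbackCongr (coprod.inr_desc U.ι g)).app N))) hgN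
  exact Groth.Agent.FlatParaF.isInvertible_of_pullback f
    (Groth.Agent.S1177.result f N (Groth.Agent.ResDesc.isFinLocFree_of_isInvertible hfN)) hfN

end Groth.Agent.S17021
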