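import Groth.Statements.S17022
import Groth.Agent.TwoBranch.Count
import Groth.Agent.TwoBranch.Points
import Groth.Agent.CurveFF.Basic
import Groth.Agent.W7Cover.Basic
import Groth.Agent.S11571
import Groth.Agent.S10829
import Groth.Agent.ExtFund.SmoothPn
import Groth.Agent.Horrocks.Dim
import Groth.Agent.PtPush.Line
import Groth.Agent.DualGeneric.GenusZero
import Groth.Agent.DualGeneric.GenusZeroPt
import Groth.Agent.SectRank.DimOfRelDim
import Groth.Agent.CurveRR.Easy
import Groth.Agent.CurveRR.Curve
import Groth.Agent.CurveRR.Deg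

set_option autoImplicit false
universe u
open CategoryTheory CategoryTheory.Limits AlgebraicGeometry
open Curves

set_option backward.isDefEq.respectTransparency false
set_option backward.isDefEq.respectTransparency.types false

namespace Groth.Agent.S17022

/-- Let k be an algebraically closed field of characteristic zero, C a connected scheme which is proper
and smooth of relative dimension 1 over k, and f : C → P¹_k a surjective morphism over k which is
étale over the complement of two closed points p, q of P¹_k (p = q is allowed). Then C is isomorphic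
to P¹_k over k, and f has exactly one point over p and exactly one point over q. (Existence of an
isomorphism only; the published statement moreover identifies f, in suitable coordinates, with (a :
b) ↦ (aⁿ : bⁿ) for some n. The published statement leaves implicit that the ground field is
algebraically closed and that C is a connected smooth proper curve; its argument uses both, and over
a non-closed field the projective line over a finite extension is a connected cover with no
ramification.) -/
theorem result (k : Type u) [Field k]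
    [IsAlgClosed k] [CharZero k] {C : Scheme.{u}} (s : C ⟶ Spec (CommRingCat.of k))
    [IsProper s] [SmoothOfRelativeDimension 1 s] [ConnectedSpace C]
    (f : C ⟶ CohB1.ProjSpace 1 k) (hf : f ≫ CohB1.ProjSpace.toSpec 1 k = s) [Surjective f]
    (p q : ↥(CohB1.ProjSpace 1 k)) (hp : IsClosed ({p} : Set ↥(CohB1.ProjSpace 1 k))) (hq : IsClosed ({q} : Set ↥(CohB1.ProjSpace 1 k)))
    (W : (CohB1.ProjSpace 1 k).Opens) (hW : (W : Set ↥(CohB1.ProjSpace 1 k)) = {p, q}ᶜ) [Etale (f ∣_ W)] :
    (∃ e : C ≅ CohB1.ProjSpace 1 k, e.hom ≫ CohB1.ProjSpace.toSpec 1 k = s) ∧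
      (∀ x y : C, f.base x = p → f.base y = p → x = y) ∧
      (∀ x y : C, f.base x = q → f.base y = q → x = y) := by
  classical
  letI : C.Over (Spec (CommRingCat.of k)) := ⟨s⟩
  letI : (CohB1.ProjSpace 1 k).Over (Spec (CommRingCat.of k)) := ⟨CohB1.ProjSpace.toSpec 1 k⟩
  haveI : IsProper (C ↘ Spec (CommRingCat.of k)) := ‹IsProper s›
  haveI hsm : Smooth s := SmoothOfRelativeDimension.smooth 1 s
  haveI : Smooth (C ↘ Spec (CommRingCat.of k)) := hsm
  haveI := CurveRR.isNoetherian_of_proper k C
  haveI : TopologicalSpace.NoetherianSpace C := inferInstance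
  letI : ∀ x : C, Algebra k (C.residueField x) := fun x => Curv2.resAlgebra k C x
  haveI : IsIntegral C := CurveRR.Easy.isIntegral_of_smooth (k := k) (X := C)
  have hdC : topologicalKrullDim C = 1 := SectRank.topologicalKrullDim_of_smoothOfRelativeDimension s 1
  haveI := ProjMor.isProper_toSpec 1 k
  haveI : IsProper ((CohB1.ProjSpace 1 k) ↘ Spec (CommRingCat.of k)) := ProjMor.isProper_toSpec 1 k
  haveI : IsIntegral (CohB1.ProjSpace 1 k) := Horrocks.isIntegral_projSpace
  have hdP : topologicalKrullDim (CohB1.ProjSpace 1 k) = 1 := Groth.Agent.S10829.result k 1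
  haveI hsmP : SmoothOfRelativeDimension 1 (CohB1.ProjSpace.toSpec 1 k) := ExtFund.smoothOfRelativeDimension_projSpace (k := k) 1
  haveI : Smooth (CohB1.ProjSpace.toSpec 1 k) := SmoothOfRelativeDimension.smooth 1 _
  have hCC : Curve.IsSmoothProperCurve k C s := ⟨inferInstance, hsm, inferInstance, hdC⟩
  have hPP : Curve.IsSmoothProperCurve k (CohB1.ProjSpace 1 k) (CohB1.ProjSpace.toSpec 1 k) :=
    ⟨inferInstance, inferInstance, inferInstance, hdP⟩
  haveI : IsLocallyNoetherian C := LocallyOfFiniteType.isLocallyNoetherian s
  haveI : IsLocallyNoetherian (CohB1.ProjSpace 1 k) := LocallyOfFiniteType.isLocallyNoetherian (CohB1.ProjSpace.toSpec 1 k)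
  have e : f (genericPoint C) = genericPoint (CohB1.ProjSpace 1 k) := by
    have h := (genericPoint_spec C).image f.continuous
    rw [Set.image_univ, f.surjective.range_eq, closure_univ] at h
    exact h.eq (genericPoint_spec _)
  haveI : IsProper f := by
    haveI : IsProper (f ≫ CohB1.ProjSpace.toSpec 1 k) := by rw [hf]; infer_instance
    exact IsProper.of_comp f (CohB1.ProjSpace.toSpec 1 k)
  have hclosed : ∀ x : C, f x ≠ genericPoint (CohB1.ProjSpace 1 k) → IsClosed ({x} : Set C) := fun x hx =>
    CurveFF.isClosed_of_ne_generic hCC fun h => hx (h ▸ e)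
  haveI hfin : IsFinite f := by
    haveI : LocallyQuasiFinite f := by
      refine locallyQuasiFinite_iff_isDiscrete_preimage_singleton.mpr fun y => ?_
      by_cases hy : y = genericPoint (CohB1.ProjSpace 1 k)
      · have hsub : f ⁻¹' {y} ⊆ {genericPoint C} := fun x hx => by
          by_contra hne
          have hxc := CurveFF.isClosed_of_ne_generic hCC hne
          have := f.isClosedMap _ hxc
          rw [Set.image_singleton, show f x = y from hx, hy] at this
          exact CurveFF.not_isClosed_generic hPP this
        exact IsDiscrete.mono (Set.subsingleton_singleton.isDiscrete) hsub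
      · have hcl : IsClosed (f ⁻¹' {y}) := (CurveFF.isClosed_of_ne_generic hPP hy).preimage f.continuous
        have hfin : (f ⁻¹' {y}).Finite :=
          TwoBranch.finite_of_forall_isClosed hcl fun x hx => hclosed x (by rw [show f x = y from hx]; exact hy)
        exact TwoBranch.isDiscrete_of_finite hfin fun x hx => hclosed x (by rw [show f x = y from hx]; exact hy)
    exact IsFinite.of_isProper_of_locallyQuasiFinite f
  have hfinset : ∀ y : ↥(CohB1.ProjSpace 1 k), IsClosed ({y} : Set _) → (f ⁻¹' {y}).Finite := fun y hy =>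
    TwoBranch.finite_of_forall_isClosed (hy.preimage f.continuous) fun x hx => hclosed x (by
      rw [show f x = y from hx]
      exact CurveFF.ne_generic hPP hy)
  letI := ((((CohB1.ProjSpace 1 k).presheaf.stalkSpecializes (specializes_of_eq e)) ≫ f.stalkMap (genericPoint C)).hom).toAlgebra
  have hsep : Algebra.IsSeparable (CohB1.ProjSpace 1 k).functionField C.functionField := by
    haveI := TwoBranch.finite_functionField f e
    haveI : CharZero (CohB1.ProjSpace 1 k).functionField :=
      charZero_of_injective_ringHom (CurveFF.stStr (CohB1.ProjSpace.toSpec 1 k) (genericPoint (CohB1.ProjSpace 1 k))).injective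
    exact inferInstanceAs (Algebra.IsSeparable (CohB1.ProjSpace 1 k).functionField C.functionField)
  have hnC : Pi1.IsNormalScheme C := fun x => ⟨inferInstance, CurveFF.stalk_normal hCC x⟩
  have hnP : Pi1.IsNormalScheme (CohB1.ProjSpace 1 k) := fun x => ⟨inferInstance, CurveFF.stalk_normal hPP x⟩
  have hRH := (Groth.Agent.S11571.result k C (CohB1.ProjSpace 1 k)
    (DualGeneric.exists_projective k hdC) ⟨1, 𝟙 _, inferInstance, Category.id_comp _⟩
    hdC hdP hnC hnP f hf e hsep).2.mpr (fun x hx => by
      letI := (f.stalkMap x).hom.toAlgebra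
      letI := (f.residueFieldMap x).hom.toAlgebra
      have hfx : IsClosed ({f x} : Set _) := by
        have := f.isClosedMap _ hx
        rwa [Set.image_singleton] at this
      haveI : CharZero ((CohB1.ProjSpace 1 k).residueField (f x)) :=
        charZero_of_injective_ringHom (Curv2.resMap k (CohB1.ProjSpace 1 k) (f x)).injective
      haveI := CurveFF.stalk_dvr hCC hx
      haveI := CurveFF.stalk_dvr hPP hfx
      obtain ⟨h0, h1⟩ := TwoBranch.ramificationIdx_pos f x (W7Cover.stalkMap_injective f e x)
      exact ⟨TwoBranch.isSeparable_residue_of_closed (k := k) f hf hx, Nat.cast_ne_zero.mpr h0.ne'⟩)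
  set n := Module.finrank (CohB1.ProjSpace 1 k).functionField C.functionField
  have hn : 0 < n := by
    haveI := TwoBranch.finite_functionField f e
    exact Module.finrank_pos
  have hA := hfinset p hp
  have hB := hfinset q hq
  set A := hA.toFinset
  set B := hB.toFinset
  set ram : C → ℕ := fun x => (letI := (f.stalkMap x).hom.toAlgebra
    Ideal.ramificationIdx (IsLocalRing.maximalIdeal (C.presheaf.stalk x)) ((CohB1.ProjSpace 1 k).presheaf.stalk (f x)))
    with hram
  set g : C → ℤ := fun x => (letI := (f.stalkMap x).hom.toAlgebra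
      if IsClosed ({x} : Set C) then
        (((Ideal.ramificationIdx (IsLocalRing.maximalIdeal (C.presheaf.stalk x)) ((CohB1.ProjSpace 1 k).presheaf.stalk (f x)) - 1 : ℕ) : ℤ) *
          (Module.finrank k (C.residueField x) : ℤ))
      else 0) with hg
  have hle : ∀ T : Finset C, ∀ y, IsClosed ({y} : Set _) → (∀ x ∈ T, f x = y) → (∑ x ∈ T, ram x : ℕ) ≤ n :=
    fun T y hy hT => TwoBranch.sum_ramificationIdx_le f hdC.le hdP.le (fun x => (hnC x).2) (fun x => (hnP x).2) e hy
      (CurveFF.ne_generic hPP hy) T fun x hx => ⟨hT x hx, hclosed x (by rw [hT x hx]; exact CurveFF.ne_generic hPP hy)⟩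
  have hpos : ∀ x, IsClosed ({x} : Set C) → 1 ≤ ram x := fun x hx => by
    haveI := CurveFF.stalk_dvr hCC hx
    have hfx : IsClosed ({f x} : Set _) := by
      have := f.isClosedMap _ hx
      rwa [Set.image_singleton] at this
    haveI := CurveFF.stalk_dvr hPP hfx
    exact (TwoBranch.ramificationIdx_pos f x (W7Cover.stalkMap_injective f e x)).1
  have hgval : ∀ x, IsClosed ({x} : Set C) → g x = (ram x : ℤ) - 1 := fun x hx => by
    simp only [hg, hram, if_pos hx]
    rw [TwoBranch.finrank_residueField_eq_one (k := k) hx, Nat.cast_one, mul_one, Nat.cast_sub (hpos x hx), Nat.cast_one]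
  have hsupp : Function.support g ⊆ ↑(A ∪ B) := by
    intro x hx
    by_contra hxAB
    simp only [A, B, Finset.coe_union, Set.Finite.coe_toFinset, Set.mem_union, Set.mem_preimage,
      Set.mem_singleton_iff, not_or] at hxAB
    apply hx
    by_cases hxc : IsClosed ({x} : Set C)
    · have hxW : f x ∈ W := by
        show f x ∈ (W : Set _)
        rw [hW]
        simpa [not_or] using hxAB
      rw [hgval x hxc, hram]
      beta_reduce
      rw [TwoBranch.ramificationIdx_eq_one f W hxW]
      norm_num
    · simp [hg, hxc]
  have hS : ∑ᶠ x : C, g x = ∑ x ∈ A ∪ B, g x := finsum_eq_sum_of_support_subset g hsupp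
  have hmemA : ∀ x ∈ A, f x = p := fun x hx => by simpa [A] using hx
  have hmemB : ∀ x ∈ B, f x = q := fun x hx => by simpa [B] using hx
  have hcA : ∀ x ∈ A, IsClosed ({x} : Set C) := fun x hx => hclosed x (by rw [hmemA x hx]; exact CurveFF.ne_generic hPP hp)
  have hcB : ∀ x ∈ B, IsClosed ({x} : Set C) := fun x hx => hclosed x (by rw [hmemB x hx]; exact CurveFF.ne_generic hPP hq)
  have hsA : ∑ x ∈ A, g x ≤ (n : ℤ) - A.card := by
    rw [Finset.sum_congr rfl fun x hx => hgval x (hcA x hx), Finset.sum_sub_distrib, ← Nat.cast_sum]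
    have := hle A p hp hmemA
    simp only [Finset.sum_const, nsmul_one]
    omega
  have hsB : ∑ x ∈ B, g x ≤ (n : ℤ) - B.card := by
    rw [Finset.sum_congr rfl fun x hx => hgval x (hcB x hx), Finset.sum_sub_distrib, ← Nat.cast_sum]
    have := hle B q hq hmemB
    simp only [Finset.sum_const, nsmul_one]
    omega
  have hA1 : 1 ≤ A.card := by
    obtain ⟨x, hx⟩ := f.surjective p
    exact Finset.card_pos.mpr ⟨x, by simpa [A] using hx⟩
  have hB1 : 1 ≤ B.card := by
    obtain ⟨x, hx⟩ := f.surjective q
    exact Finset.card_pos.mpr ⟨x, by simpa [B] using hx⟩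
  rw [CurveRR.euler_structure hdC.le (CurveRR.h0_structure k C)] at hRH
  have heP : Curv2.euler k (CohB1.ProjSpace 1 k) (Coh.structureModule (CohB1.ProjSpace 1 k)) = 1 :=
    PtPush.euler_structure_line k
  rw [heP] at hRH
  change (n : ℤ) * (2 * ((1 - 1 : ℤ) - 1)) + ∑ᶠ x : C, g x = _ at hRH
  rw [hS] at hRH
  have key : Curv2.genus k C = 0 ∧ A.card ≤ 1 ∧ B.card ≤ 1 := by
    by_cases hpq : p = q
    · have hAB : A = B := by subst hpq; rfl
      rw [← hAB, Finset.union_self] at hRH
      rw [← hAB]
      omega
    · have hd : Disjoint A B := Finset.disjoint_left.mpr fun x hx hx' => hpq ((hmemA x hx).symm.trans (hmemB x hx'))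
      rw [Finset.sum_union hd] at hRH
      omega
  haveI : JacobsonSpace C := LocallyOfFiniteType.jacobsonSpace s
  obtain ⟨x₀, -, hx₀⟩ := nonempty_inter_closedPoints (Z := (Set.univ : Set C)) Set.univ_nonempty isOpen_univ.isLocallyClosed
  refine ⟨?_, fun x y hx hy => Finset.card_le_one.mp key.2.1 x (by simpa [A] using hx) y (by simpa [A] using hy),
    fun x y hx hy => Finset.card_le_one.mp key.2.2 x (by simpa [B] using hx) y (by simpa [B] using hy)⟩
  haveI : Smooth ((⊤ : C.Opens).ι ≫ (C ↘ Spec (CommRingCat.of k))) := inferInstance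
  exact DualGeneric.exists_iso_of_ratPoint k hdC key.1 (pointOfClosedPoint s x₀ hx₀) (pointOfClosedPoint_comp s x₀ hx₀) ⊤ trivial

end Groth.Agent.S17022
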