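import Groth.Statements.S17023
import Groth.Agent.GeomProp.SmoothLocal
import Groth.Agent.SerreReg.MiracleFinite
import Groth.Agent.SerreReg.CM
import Groth.Agent.RegLoc.Order

set_option autoImplicit false
universe u
open FlatMor

namespace Groth.Agent.S17023

theorem isUnit_mk_iff {R : Type u} [CommRing R] [IsLocalRing R] {I : Ideal R}
    (hI : I ≤ IsLocalRing.maximalIdeal R) (x : R) : IsUnit (Ideal.Quotient.mk I x) ↔ IsUnit x := by
  refine ⟨fun h => ?_, fun h => h.map _⟩
  obtain ⟨y, hy⟩ := isUnit_iff_exists_inv.mp h
  obtain ⟨y, rfl⟩ := Ideal.Quotient.mk_surjective y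
  rw [← map_mul, ← map_one (Ideal.Quotient.mk I), Ideal.Quotient.mk_eq_mk_iff_sub_mem] at hy
  by_contra hx
  have h1 : x * y ∈ IsLocalRing.maximalIdeal R :=
    Ideal.mul_mem_right _ _ ((IsLocalRing.mem_maximalIdeal _).mpr hx)
  have := sub_mem h1 (hI hy)
  rw [sub_sub_cancel] at this
  exact (IsLocalRing.maximalIdeal.isMaximal R).ne_top ((Ideal.eq_top_iff_one _).mpr this)

/-- Let B be a discrete valuation ring, A a B-algebra of finite type and p a prime ideal of A which lies
over the maximal ideal of B (a point of the special fibre), at which A is smooth over B (the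
localization A_p is formally smooth over B), and such that B maps onto the residue field κ(p). Then
there are a discrete valuation ring B' and a ring map ψ : A → B' pulling the maximal ideal of B'
back to p, such that the composite B → A → B' is injective, the maximal ideal of B generates the
maximal ideal of B', and B maps onto the residue field of B'; in other words Spec B' → Spec A → Spec
B is surjective and unramified with trivial residue field extension. (The published statement does
not say that the closed point of Spec B' goes to p; it is required here. The published setting takes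
A essentially of finite type over a field of characteristic zero; here A is taken of finite type
over B, with no ground field.) -/
theorem result
    (B : Type u) [CommRing B] [IsDomain B] [IsDiscreteValuationRing B]
    (A : Type u) [CommRing A] [Algebra B A] [Algebra.FiniteType B A]
    (p : Ideal A) [p.IsPrime] (hp : p.comap (algebraMap B A) = IsLocalRing.maximalIdeal B)
    [Algebra.IsSmoothAt B p]
    (hres : Function.Surjective ((algebraMap A p.ResidueField).comp (algebraMap B A))) :
    ∃ (B' : Type u) (_ : CommRing B') (_ : IsDomain B') (_ : IsDiscreteValuationRing B') (ψ : A →+* B'),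
      Ideal.comap ψ (IsLocalRing.maximalIdeal B') = p ∧
      Function.Injective (ψ.comp (algebraMap B A)) ∧
      Ideal.map (ψ.comp (algebraMap B A)) (IsLocalRing.maximalIdeal B) = IsLocalRing.maximalIdeal B' ∧
      Function.Surjective ((IsLocalRing.residue B').comp (ψ.comp (algebraMap B A))) := by
  classical
  haveI : Algebra.FinitePresentation B A := Algebra.FinitePresentation.of_finiteType.mp inferInstance
  obtain ⟨g, hg, hsm⟩ := Algebra.IsSmoothAt.exists_notMem_smooth B p
  haveI := hsm
  let C := Localization.Away g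
  let q : Ideal C := Ideal.map (algebraMap A C) p
  have hdisj : Disjoint (Submonoid.powers g : Set A) (p : Set A) := by
    rw [Set.disjoint_left]
    rintro _ ⟨n, rfl⟩ h
    exact hg ((inferInstance : p.IsPrime).mem_of_pow_mem n h)
  haveI : q.IsPrime := IsLocalization.isPrime_of_isPrime_disjoint (Submonoid.powers g) C p inferInstance hdisj
  have hqp : q.comap (algebraMap A C) = p :=
    IsLocalization.under_map_of_isPrime_disjoint (Submonoid.powers g) C inferInstance hdisj
  have hqm : q.comap (algebraMap B C) = IsLocalRing.maximalIdeal B := by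
    rw [IsScalarTower.algebraMap_eq B A C, ← Ideal.comap_comap, hqp, hp]
  haveI : IsNoetherianRing C := Algebra.FiniteType.isNoetherianRing B C
  let S := Localization.AtPrime q
  obtain ⟨π, hπ⟩ := IsDiscreteValuationRing.exists_irreducible B
  have hmπ : IsLocalRing.maximalIdeal B = Ideal.span {π} := (IsDiscreteValuationRing.irreducible_iff_uniformizer π).mp hπ
  let πS : S := algebraMap B S π
  haveI : IsRegularLocalRing (S ⧸ Ideal.span {πS}) := by
    have h := Groth.Agent.GeomProp.isRegularLocalRing_fibLocRing_of_smooth B C q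
    have hI : (q.comap (algebraMap B C)).map (algebraMap B S) = Ideal.span {πS} := by
      rw [hqm, hmπ, Ideal.map_span, Set.image_singleton]
    exact IsRegularLocalRing.of_ringEquiv (R := EGA4.FibLocRing B C q) (Ideal.quotEquivOfEq hI)
  have hπm : πS ∈ IsLocalRing.maximalIdeal S := by
    rw [show πS = algebraMap C S (algebraMap B C π) from IsScalarTower.algebraMap_apply B C S π,
      IsLocalization.AtPrime.to_map_mem_maximal_iff S q, ← Ideal.mem_comap, hqm, hmπ]
    exact Ideal.mem_span_singleton_self π
  have hπreg : IsSMulRegular S πS := by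
    haveI : Module.Flat B S := Module.Flat.trans B C S
    have h := Module.Flat.isSMulRegular_of_isRegular (M := S) (isRegular_of_ne_zero hπ.ne_zero)
    intro a b hab
    exact h (by simpa [Algebra.smul_def, πS] using hab)
  obtain ⟨d, hd⟩ := Groth.Agent.SerreReg.exists_dim (S ⧸ Ideal.span {πS})
  obtain ⟨rs, hlen, -, hspan⟩ := Groth.Agent.SerreReg.exists_regular_rsop d _ hd
  choose lift hlift using fun y : S ⧸ Ideal.span {πS} => Ideal.Quotient.mk_surjective y
  let xs : Finset S := (rs.map lift).toFinset
  let I : Ideal S := Ideal.span (xs : Set S)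
  have hxs : (xs : Set S) ⊆ IsLocalRing.maximalIdeal S := by
    intro s hs
    obtain ⟨r, hr, rfl⟩ := List.mem_map.mp (List.mem_toFinset.mp hs)
    have hrm : r ∈ IsLocalRing.maximalIdeal (S ⧸ Ideal.span {πS}) := hspan ▸ Ideal.subset_span hr
    refine (IsLocalRing.mem_maximalIdeal _).mpr fun hu => (IsLocalRing.mem_maximalIdeal _).mp hrm ?_
    rw [← hlift r]
    exact hu.map (Ideal.Quotient.mk _)
  have hIm : I ≤ IsLocalRing.maximalIdeal S := Ideal.span_le.mpr hxs
  let B' := S ⧸ I
  haveI : Nontrivial B' := Ideal.Quotient.nontrivial_iff.mpr fun h =>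
    (IsLocalRing.maximalIdeal.isMaximal S).ne_top (top_le_iff.mp (h ▸ hIm))
  haveI : IsLocalRing B' := IsLocalRing.of_surjective' (Ideal.Quotient.mk I) Ideal.Quotient.mk_surjective
  let π' : B' := Ideal.Quotient.mk I πS
  have hmax : IsLocalRing.maximalIdeal B' = Ideal.span {π'} := by
    apply le_antisymm
    · intro y hy
      obtain ⟨s, rfl⟩ := Ideal.Quotient.mk_surjective y
      have hs : s ∈ IsLocalRing.maximalIdeal S := (IsLocalRing.mem_maximalIdeal _).mpr fun hu =>
        (IsLocalRing.mem_maximalIdeal _).mp hy (hu.map _)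
      have h1 : s ∈ I ⊔ Ideal.span {πS} := by
        have hmap : (I ⊔ Ideal.span {πS}).map (Ideal.Quotient.mk (Ideal.span {πS})) = IsLocalRing.maximalIdeal (S ⧸ Ideal.span {πS}) := by
          rw [← hspan, Ideal.map_sup, Ideal.map_quotient_self, sup_bot_eq, Ideal.map_span, Ideal.ofList]
          congr 1
          ext r
          constructor
          · rintro ⟨s, hs, rfl⟩
            obtain ⟨r', hr', rfl⟩ := List.mem_map.mp (List.mem_toFinset.mp hs)
            rw [hlift]
            exact hr'
          · intro hr
            exact ⟨lift r, List.mem_toFinset.mpr (List.mem_map_of_mem hr), hlift r⟩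
        have : Ideal.Quotient.mk (Ideal.span {πS}) s ∈ (I ⊔ Ideal.span {πS}).map (Ideal.Quotient.mk (Ideal.span {πS})) := by
          rw [hmap]
          refine (IsLocalRing.mem_maximalIdeal _).mpr fun hu => (IsLocalRing.mem_maximalIdeal _).mp hs ?_
          exact (isUnit_mk_iff (Ideal.span_le.mpr (Set.singleton_subset_iff.mpr hπm)) s).mp hu
        rw [Ideal.mem_map_iff_of_surjective _ Ideal.Quotient.mk_surjective] at this
        obtain ⟨z, hz, hzs⟩ := this
        rw [Ideal.Quotient.mk_eq_mk_iff_sub_mem] at hzs
        have := sub_mem hz ((le_sup_right : Ideal.span {πS} ≤ I ⊔ Ideal.span {πS}) hzs)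
        rwa [sub_sub_cancel] at this
      have := Ideal.mem_map_of_mem (Ideal.Quotient.mk I) h1
      rwa [Ideal.map_sup, Ideal.map_quotient_self, bot_sup_eq, Ideal.map_span, Set.image_singleton] at this
    · rw [Ideal.span_le, Set.singleton_subset_iff]
      exact (IsLocalRing.mem_maximalIdeal _).mpr fun hu => (IsLocalRing.mem_maximalIdeal _).mp hπm
        ((isUnit_mk_iff hIm πS).mp hu)
  have hdim : (1 : WithBot ℕ∞) ≤ ringKrullDim B' := by
    have h1 := ringKrullDim_quotient_span_singleton_succ_eq_ringKrullDim hπreg hπm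
    rw [hd] at h1
    have h2 := ringKrullDim_le_ringKrullDim_quotient_add_card xs (by
      rw [IsLocalRing.ringJacobson_eq_maximalIdeal]; exact hxs)
    rw [← h1] at h2
    have h3 : xs.card ≤ d := by
      refine (List.toFinset_card_le _).trans ?_
      rw [List.length_map, hlen]
    have h4 : (d : WithBot ℕ∞) + 1 ≤ ringKrullDim B' + (d : WithBot ℕ∞) :=
      h2.trans (add_le_add le_rfl (by exact_mod_cast h3))
    rw [add_comm (d : WithBot ℕ∞) 1] at h4
    exact (ENat.WithBot.add_le_add_natCast_right_iff (c := d)).mp h4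
  haveI : IsRegularLocalRing B' := by
    refine IsRegularLocalRing.of_spanFinrank_maximalIdeal_le _ (le_trans ?_ hdim)
    rw [hmax]
    have : (Ideal.span {π'}).spanFinrank ≤ 1 := by
      refine (Submodule.spanFinrank_span_le_ncard_of_finite (Set.finite_singleton π')).trans ?_
      simp
    exact_mod_cast this
  haveI : IsDomain B' := Groth.Agent.RegLoc.isDomain (A := B')
  haveI : IsPrincipalIdealRing B' :=
    ((tfae_of_isNoetherianRing_of_isLocalRing_of_isDomain B').out 4 0).mp
      (show (IsLocalRing.maximalIdeal B').IsPrincipal from ⟨π', hmax⟩)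
  have hnf : IsLocalRing.maximalIdeal B' ≠ ⊥ := by
    intro h
    have hf : IsField B' := IsLocalRing.isField_iff_maximalIdeal_eq.mpr h
    let := hf.toField
    rw [ringKrullDim_eq_zero_of_field] at hdim
    exact absurd hdim (by norm_num)
  haveI : IsDiscreteValuationRing B' := { not_a_field' := hnf }
  let ψ : A →+* B' := (Ideal.Quotient.mk I).comp ((algebraMap C S).comp (algebraMap A C))
  have hψB : ψ.comp (algebraMap B A) = (Ideal.Quotient.mk I).comp (algebraMap B S) := by
    ext b
    simp only [ψ, RingHom.comp_apply]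
    rw [← IsScalarTower.algebraMap_apply B A C, ← IsScalarTower.algebraMap_apply B C S]
  have hψp : Ideal.comap ψ (IsLocalRing.maximalIdeal B') = p := by
    ext a
    rw [← hqp, Ideal.mem_comap, Ideal.mem_comap, ← IsLocalization.AtPrime.to_map_mem_maximal_iff S q,
      IsLocalRing.mem_maximalIdeal, IsLocalRing.mem_maximalIdeal, mem_nonunits_iff, mem_nonunits_iff,
      ← isUnit_mk_iff hIm]
    rfl
  have hψπ : ψ.comp (algebraMap B A) π = π' := by rw [hψB]; rfl
  have hmap : Ideal.map (ψ.comp (algebraMap B A)) (IsLocalRing.maximalIdeal B) = IsLocalRing.maximalIdeal B' := by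
    rw [hmπ, Ideal.map_span, Set.image_singleton, hψπ, hmax]
  refine ⟨B', inferInstance, inferInstance, inferInstance, ψ, hψp, ?_, hmap, ?_⟩
  · rw [injective_iff_map_eq_zero]
    intro b hb
    by_contra hb0
    obtain ⟨n, v, rfl⟩ := IsDiscreteValuationRing.eq_unit_mul_pow_irreducible hb0 hπ
    rw [map_mul, map_pow, hψπ] at hb
    rcases mul_eq_zero.mp hb with h | h
    · exact (v.isUnit.map (ψ.comp (algebraMap B A))).ne_zero h
    · refine hnf ?_
      rw [hmax, eq_zero_of_pow_eq_zero h, Ideal.span_singleton_eq_bot]
  · intro y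
    obtain ⟨y, rfl⟩ := IsLocalRing.residue_surjective y
    obtain ⟨s, rfl⟩ := Ideal.Quotient.mk_surjective y
    obtain ⟨⟨c, t⟩, hct⟩ := IsLocalization.surj q.primeCompl s
    obtain ⟨⟨a, ⟨_, n, rfl⟩⟩, hac⟩ := IsLocalization.surj (Submonoid.powers g) c
    obtain ⟨⟨a', ⟨_, m, rfl⟩⟩, hat⟩ := IsLocalization.surj (Submonoid.powers g) (t : C)
    let ρ : A →+* IsLocalRing.ResidueField B' := (IsLocalRing.residue B').comp ψ
    have key : ∀ x : A, ∃ b : B, ρ (algebraMap B A b) = ρ x := by
      intro x
      obtain ⟨b, hb⟩ := hres (algebraMap A p.ResidueField x)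
      refine ⟨b, ?_⟩
      rw [RingHom.comp_apply, ← sub_eq_zero, ← map_sub, Ideal.algebraMap_residueField_eq_zero] at hb
      rw [← sub_eq_zero, ← map_sub]
      show IsLocalRing.residue B' (ψ _) = 0
      rw [IsLocalRing.residue_eq_zero_iff, ← Ideal.mem_comap, hψp]
      exact hb
    have hρ0 : ∀ x : A, ρ x = 0 ↔ x ∈ p := fun x => by
      show IsLocalRing.residue B' (ψ x) = 0 ↔ _
      rw [IsLocalRing.residue_eq_zero_iff, ← Ideal.mem_comap, hψp]
    have ht : a' ∉ p := by
      intro h
      have h1 : algebraMap A C a' ∈ q := Ideal.mem_map_of_mem _ h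
      rw [← hat] at h1
      rcases (inferInstance : q.IsPrime).mem_or_mem h1 with h2 | h2
      · exact t.2 h2
      · have h3 : g ^ m ∈ q.comap (algebraMap A C) := h2
        rw [hqp] at h3
        exact hg ((inferInstance : p.IsPrime).mem_of_pow_mem m h3)
    obtain ⟨b₁, h₁⟩ := key (a * g ^ m)
    obtain ⟨b₂, h₂⟩ := key (a' * g ^ n)
    have hden : ρ (a' * g ^ n) ≠ 0 := fun h => by
      rcases (inferInstance : p.IsPrime).mem_or_mem ((hρ0 _).mp h) with h | h
      · exact ht h
      · exact hg ((inferInstance : p.IsPrime).mem_of_pow_mem n h)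
    have hb₂ : IsUnit b₂ := by
      by_contra h
      have h' : algebraMap B A b₂ ∈ p := by
        rw [← Ideal.mem_comap, hp]
        exact (IsLocalRing.mem_maximalIdeal _).mpr h
      exact hden (h₂ ▸ (hρ0 _).mpr h')
    refine ⟨b₁ * ↑hb₂.unit⁻¹, ?_⟩
    show ρ (algebraMap B A (b₁ * ↑hb₂.unit⁻¹)) = _
    have e1 : ρ (algebraMap B A (b₁ * ↑hb₂.unit⁻¹)) * ρ (a' * g ^ n) = ρ (a * g ^ m) := by
      rw [← h₁, ← h₂, ← map_mul, ← map_mul, mul_assoc, hb₂.val_inv_mul, mul_one]
    have hS : s * algebraMap C S (algebraMap A C (a' * g ^ n)) = algebraMap C S (algebraMap A C (a * g ^ m)) := by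
      have hac' : c * algebraMap A C (g ^ n) = algebraMap A C a := hac
      have hat' : (t : C) * algebraMap A C (g ^ m) = algebraMap A C a' := hat
      rw [map_mul, map_mul (algebraMap A C) a, ← hac', ← hat', map_mul, map_mul, map_mul, map_mul,
        ← show s * algebraMap C S (t : C) = algebraMap C S c from hct]
      ring
    have e2 : IsLocalRing.residue B' (Ideal.Quotient.mk I s) * ρ (a' * g ^ n) = ρ (a * g ^ m) := by
      show _ * IsLocalRing.residue B' (Ideal.Quotient.mk I _) = IsLocalRing.residue B' (Ideal.Quotient.mk I _)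
      rw [← map_mul, ← map_mul]
      exact congrArg _ (congrArg _ hS)
    exact mul_right_cancel₀ hden (e1.trans e2.symm)

end Groth.Agent.S17023
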