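import Groth.Statements.S1703
import Groth.Agent.W7FlatCart.Basic
import Groth.Agent.S0386
import Groth.Agent.FlatCartier.Basic
import Groth.Agent.FlatCartier.Local

set_option autoImplicit false
universe u
open CategoryTheory CategoryTheory.Limits AlgebraicGeometry TopologicalSpace
open SDiv
open TopologicalSpace

set_option backward.isDefEq.respectTransparency false
set_option backward.isDefEq.respectTransparency.types false

namespace Groth.Agent.S1703

/-- Let f : X ⟶ S be locally of finite presentation and 𝓘 the ideal sheaf of an effective Cartier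
divisor D ⊂ X with D ⟶ S flat. Then there is an open subscheme U of X containing D such that U ⟶ S
is flat. -/
theorem result {X S : Scheme.{u}} (f : X ⟶ S) [LocallyOfFinitePresentation f] (𝓘 : X.IdealSheafData)
    (hD : (BlowUp.IsEffCartierIdeal 𝓘 ∧ Flat (𝓘.subschemeι ≫ f))) : ∃ U : X.Opens, (𝓘.support : Set ↥X) ⊆ U ∧ Flat (U.ι ≫ f) := by
  let W : X.Opens := ⟨{x : X | (f.stalkMap x).hom.Flat}, S0386.result f⟩
  have key : ∀ x : X, x ∈ 𝓘.support → (f.stalkMap x).hom.Flat := by
    intro x hxs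
    obtain ⟨V, hV, hxV, -⟩ := exists_isAffineOpen_mem_and_subset (X := S) (U := ⊤) (trivial : f.base x ∈ (⊤ : S.Opens))
    obtain ⟨U, hxU, hUV, g, hg, he⟩ := Groth.Agent.BlowUpLib.exists_small_generator hD.1 (O := f ⁻¹ᵁ V) hxV
    have hfq := Groth.Agent.FlatCartier.flat_quotient hD.2 hV U hUV
    rw [he] at hfq
    letI := (f.appLE V U.1 hUV).hom.toAlgebra
    letI algB : Algebra Γ(X, U.1) (X.presheaf.stalk x) := (X.presheaf.germ U.1 x hxU).hom.toAlgebra
    letI := (((X.presheaf.germ U.1 x hxU).hom).comp (f.appLE V U.1 hUV).hom).toAlgebra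
    haveI : IsScalarTower Γ(S, V) Γ(X, U.1) (X.presheaf.stalk x) := IsScalarTower.of_algebraMap_eq fun _ => rfl
    haveI hloc : IsLocalization.AtPrime (X.presheaf.stalk x) (U.2.primeIdealOf ⟨x, hxU⟩).asIdeal :=
      U.2.isLocalization_stalk ⟨x, hxU⟩
    haveI : Module.Flat Γ(X, U.1) (X.presheaf.stalk x) :=
      IsLocalization.flat _ (U.2.primeIdealOf ⟨x, hxU⟩).asIdeal.primeCompl
    haveI : Module.Flat Γ(S, V) (Γ(X, U.1) ⧸ Ideal.span {g}) := RingHom.flat_algebraMap_iff.1 hfq
    haveI := Groth.Agent.FlatCartier.flat_quotient_of_flat (R := Γ(S, V)) (A := X.presheaf.stalk x) g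
    have hreg : algebraMap Γ(X, U.1) (X.presheaf.stalk x) g ∈ nonZeroDivisors (X.presheaf.stalk x) :=
      IsLocalization.map_nonZeroDivisors_le (U.2.primeIdealOf ⟨x, hxU⟩).asIdeal.primeCompl _
        (Submonoid.mem_map_of_mem _ hg)
    have hm : ¬ IsUnit (algebraMap Γ(X, U.1) (X.presheaf.stalk x) g) := fun h => by
      have h1 : x ∈ X.basicOpen g := (X.mem_basicOpen g x hxU).2 h
      exact (Groth.Agent.BlowUpLib.mem_basicOpen_of_notMem_support he hxU).2 h1 hxs
    haveI : Algebra.FinitePresentation Γ(S, V) Γ(X, U.1) := f.finitePresentation_appLE hV U.2 hUV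
    have hflat : Module.Flat Γ(S, V) (X.presheaf.stalk x) :=
      Groth.Agent.W7FlatCart.flat_of_flat_quotient (B := Γ(X, U.1)) (U.2.primeIdealOf ⟨x, hxU⟩).asIdeal _ hreg hm
    let q := hV.primeIdealOf ⟨f.base x, hxV⟩
    letI : Algebra Γ(S, V) (S.presheaf.stalk (f.base x)) := (S.presheaf.germ V (f.base x) hxV).hom.toAlgebra
    haveI : IsLocalization.AtPrime (S.presheaf.stalk (f.base x)) q.asIdeal :=
      hV.isLocalization_stalk ⟨f.base x, hxV⟩
    letI := (f.stalkMap x).hom.toAlgebra
    haveI : IsScalarTower Γ(S, V) (S.presheaf.stalk (f.base x)) (X.presheaf.stalk x) := by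
      refine IsScalarTower.of_algebraMap_eq' ?_
      show (X.presheaf.germ U.1 x hxU).hom.comp (f.appLE V U.1 hUV).hom =
        (f.stalkMap x).hom.comp (S.presheaf.germ V (f.base x) hxV).hom
      rw [← CommRingCat.hom_comp, ← CommRingCat.hom_comp, Scheme.Hom.germ_stalkMap, Scheme.Hom.appLE,
        Category.assoc, X.presheaf.germ_res]
    exact (Module.flat_iff_of_isLocalization (S.presheaf.stalk (f.base x)) q.asIdeal.primeCompl (X.presheaf.stalk x)).2 hflat
  refine ⟨W, fun x hx => key x hx, (Flat.iff_flat_stalkMap (W.ι ≫ f)).2 fun w => ?_⟩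
  rw [Scheme.Hom.stalkMap_comp, CommRingCat.hom_comp]
  refine RingHom.Flat.comp w.2 ?_
  exact RingHom.Flat.of_bijective (ConcreteCategory.bijective_of_isIso _)

end Groth.Agent.S1703
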