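import Groth.Statements.S17030
import Groth.Agent.FSchCoh.IndBrown
import Groth.Agent.FSchCoh.IndGroth
import Groth.Agent.FSchCoh.DerivedCoreflect
import Groth.Agent.DQCoh.AffinePerf
import Groth.Agent.RPushSite.Limits
import Groth.Agent.S17029

set_option autoImplicit false
open CategoryTheory CategoryTheory.Limits
universe u
attribute [local instance] HasDerivedCategory.standard
open FSch

namespace Groth.Agent.S17030

/-- Let f : 𝔛 ⟶ 𝔜 be a morphism of formal schemes given as systems of thickenings with quasi-compact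
underlying spaces, 𝔛 moreover adic with locally Noetherian levels (a Noetherian formal scheme). Let
A be the full subcategory of O_𝔛-modules that are small filtered colimits of coherent ones; assume
(as holds here) that it contains 0, is closed under kernels, cokernels and finite products, and that
its inclusion is exact, so that A is abelian with derived category D(A). Then the composite of the
induced functor D(A) ⥤ D(O_𝔛) with the total right derived functor Rf_* : D(O_𝔛) ⥤ D(O_𝔜) has a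
right adjoint. (The published statement gives a right adjoint compatible with the triangulated
structures.) -/
theorem result (𝔛 𝔜 : FSch.Sys.{u}) (h𝔛 : 𝔛.IsLocNoethFormal)
    [CompactSpace (𝔛.X 0)] (h𝔜 : 𝔜.IsFormal) [CompactSpace (𝔜.X 0)] (f : 𝔛 ⟶ 𝔜)
    [(ObjectProperty.ind.{u} fun 𝔊 : FSch.ModF 𝔛 h𝔛.1 => FSch.IsCohF 𝔛 h𝔛.1 𝔊).ContainsZero] [(ObjectProperty.ind.{u} fun 𝔊 : FSch.ModF 𝔛 h𝔛.1 => FSch.IsCohF 𝔛 h𝔛.1 𝔊).IsClosedUnderKernels]
    [(ObjectProperty.ind.{u} fun 𝔊 : FSch.ModF 𝔛 h𝔛.1 => FSch.IsCohF 𝔛 h𝔛.1 𝔊).IsClosedUnderCokernels] [(ObjectProperty.ind.{u} fun 𝔊 : FSch.ModF 𝔛 h𝔛.1 => FSch.IsCohF 𝔛 h𝔛.1 𝔊).IsClosedUnderFiniteProducts]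
    [PreservesFiniteLimits (ObjectProperty.ind.{u} fun 𝔊 : FSch.ModF 𝔛 h𝔛.1 => FSch.IsCohF 𝔛 h𝔛.1 𝔊).ι] [PreservesFiniteColimits (ObjectProperty.ind.{u} fun 𝔊 : FSch.ModF 𝔛 h𝔛.1 => FSch.IsCohF 𝔛 h𝔛.1 𝔊).ι]
    [SiteCmp.HasRpushD (FSch.homMor f h𝔛.1 h𝔜)] :
    ((ObjectProperty.ind.{u} fun 𝔊 : FSch.ModF 𝔛 h𝔛.1 => FSch.IsCohF 𝔛 h𝔛.1 𝔊).ι.mapDerivedCategory ⋙ SiteCmp.RpushD (FSch.homMor f h𝔛.1 h𝔜)).IsLeftAdjoint := by
  let P := ObjectProperty.ind.{u} fun 𝔊 : FSch.ModF 𝔛 h𝔛.1 => FSch.IsCohF 𝔛 h𝔛.1 𝔊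
  haveI : IsGrothendieckAbelian.{u} (FSch.ModF 𝔛 h𝔛.1) := KFlat.isGrothendieck _
  haveI : IsGrothendieckAbelian.{u} (FSch.ModF 𝔜 h𝔜) := KFlat.isGrothendieck _
  haveI : IsGrothendieckAbelian.{u} P.FullSubcategory := FSchCoh.isGrothendieckAbelian_ind h𝔛
  have hι := FSchCoh.isLeftAdjoint_ind h𝔛
  haveI hD : P.ι.mapDerivedCategory.IsLeftAdjoint := FSchCoh.isLeftAdjoint_mapDerived P.ι hι
  let R := SiteCmp.RpushD (FSch.homMor f h𝔛.1 h𝔜)
  haveI : R.Additive := RPushSite.additive_RpushD _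
  haveI : P.ι.mapDerivedCategory.Additive := Functor.additive_of_preserves_binary_products _
  refine FSchCoh.isLeftAdjoint_standard (P.ι.mapDerivedCategory ⋙ R) (fun T hT => ?_) fun ι => ⟨fun {K} => ?_⟩
  · exact RPushSite.exists_rpush_triangle _ _ _ _ (P.ι.mapDerivedCategory.map_distinguished T hT)
  · haveI := hD.exists_rightAdjoint
    haveI : PreservesColimit K P.ι.mapDerivedCategory :=
      (Adjunction.ofIsLeftAdjoint P.ι.mapDerivedCategory).leftAdjoint_preservesColimits.preservesColimitsOfShape.preservesColimit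
    haveI : PreservesColimit (K ⋙ P.ι.mapDerivedCategory) R := by
      haveI := FSchCoh.preservesColimit_rpush_ind h𝔛 h𝔜 f (fun t => P.ι.mapDerivedCategory.obj (K.obj ⟨t⟩)) fun t i =>
        P.prop_of_iso ((DQCoh.homologyDerIso P.ι i).app (K.obj ⟨t⟩)).symm
          ((DerivedCategory.homologyFunctor P.FullSubcategory i).obj (K.obj ⟨t⟩)).property
      exact preservesColimit_of_iso_diagram R
        (Discrete.natIso fun _ => Iso.refl _ :
          Discrete.functor (fun t => P.ι.mapDerivedCategory.obj (K.obj ⟨t⟩)) ≅ K ⋙ P.ι.mapDerivedCategory)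
    exact comp_preservesColimit _ _

end Groth.Agent.S17030
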