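import Groth.Statements.S17032
import Groth.Agent.FSchCoh.Bound

set_option autoImplicit false
open CategoryTheory CategoryTheory.Limits
universe u
attribute [local instance] HasDerivedCategory.standard
open FSch

namespace Groth.Agent.S17032

/-- Let f : 𝔛 ⟶ 𝔜 be a morphism of formal schemes given as systems of thickenings with quasi-compact
underlying spaces, 𝔛 adic with locally Noetherian levels (a Noetherian formal scheme), and assume
the total right derived functor Rf_* on unbounded derived categories of modules exists. Then Rf_* is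
bounded above on complexes with lim-coherent cohomology: there is an integer e ≥ 0 such that
whenever G ∈ D(O_𝔛) has every cohomology sheaf a small filtered colimit of coherent O_𝔛-modules and
H^i(G) = 0 for all i ≥ i₀, then H^i(Rf_* G) = 0 for all i ≥ i₀ + e. -/
theorem result (𝔛 𝔜 : FSch.Sys.{u}) (h𝔛 : 𝔛.IsLocNoethFormal)
    [CompactSpace (𝔛.X 0)] (h𝔜 : 𝔜.IsFormal) [CompactSpace (𝔜.X 0)] (f : 𝔛 ⟶ 𝔜)
    [SiteCmp.HasRpushD (FSch.homMor f h𝔛.1 h𝔜)] :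
    ∃ e : ℕ, ∀ (G : DerivedCategory (FSch.ModF 𝔛 h𝔛.1)),
      (∀ i : ℤ, (ObjectProperty.ind.{u} fun 𝔊 : FSch.ModF 𝔛 h𝔛.1 => FSch.IsCohF 𝔛 h𝔛.1 𝔊) (SiteCmp.HMod G i)) →
      ∀ i₀ : ℤ, (∀ i : ℤ, i₀ ≤ i → IsZero (SiteCmp.HMod G i)) →
        ∀ i : ℤ, i₀ + e ≤ i → IsZero (SiteCmp.HMod ((SiteCmp.RpushD (FSch.homMor f h𝔛.1 h𝔜)).obj G) i) := by
  haveI : AlgebraicGeometry.IsLocallyNoetherian (𝔛.X 0) := h𝔛.2.2 0
  haveI : AlgebraicGeometry.IsNoetherian (𝔛.X 0) := ⟨⟩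
  let f0 := (f : FSch.Hom 𝔛 𝔜).app 0
  haveI : AlgebraicGeometry.QuasiCompact f0 :=
    ⟨fun U _ _ => TopologicalSpace.NoetherianSpace.isCompact _⟩
  haveI : AlgebraicGeometry.QuasiSeparated f0 := inferInstance
  obtain ⟨n, hn⟩ := Groth.Agent.FSchCoh.exists_preimage_bound f0
  refine ⟨n, fun G hG i₀ hi₀ i hi => Groth.Agent.RPushSite.isZero_homology_rpush (FSch.homMor f h𝔛.1 h𝔜) G i fun V => ?_⟩
  obtain ⟨ι, Z, a, hcov, hZ⟩ := hn V
  exact ⟨ι, Z, a, hcov, fun j =>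
    Groth.Agent.FSchCoh.subsingleton_hg_of_le 𝔛 h𝔛 G hG i₀ hi₀ (hZ j) i hi⟩

end Groth.Agent.S17032
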