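import Groth.Statements.S3855
import Groth.Agent.ThickSys.Sys

set_option linter.style.haveILetI false

set_option autoImplicit false
universe u
open FCompl CategoryTheory CategoryTheory.Limits AlgebraicGeometry

namespace Groth.Agent.S3855

open AlgebraicGeometry in
/-- Sufficiency (the formal spectrum presented as the system Spec(A/J) -> Spec(A/J^2) -> ...). For a
Noetherian ring A and an ideal J this system is a locally Noetherian adic formal system: the
transition maps are surjective closed immersions, the kernel ideal of Spec(A/J^(n+1)) ->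
Spec(A/J^(n+2)) is the (n+1)-st power of that of Spec(A/J) -> Spec(A/J^(n+2)), and every level is
locally Noetherian. -/
theorem result (A : Type u) [CommRing A] [IsNoetherianRing A] (J : Ideal A) :
    (FSch.spf A J).IsLocNoethFormal := by
  set_option backward.isDefEq.respectTransparency false in
  have hq : ∀ n, IsClosedImmersion (CohB1.specQuot J n) := fun n =>
    IsClosedImmersion.spec_of_surjective _ Ideal.Quotient.mk_surjective
  have hc : ∀ n, IsClosedImmersion ((FSch.spf A J).ι n) := fun n =>
    IsClosedImmersion.spec_of_surjective _ (Ideal.Quotient.factor_surjective (Ideal.pow_le_pow_right (Nat.le_succ (n + 1)) : J ^ (n + 2) ≤ J ^ (n + 1)))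
  have hι : ∀ n, (FSch.spf A J).ι n ≫ CohB1.specQuot J (n + 1) = CohB1.specQuot J n :=
    fun n => CohB1.specQuotTrans_specQuot J n
  have hto : ∀ n, (FSch.spf A J).toX n ≫ CohB1.specQuot J n = CohB1.specQuot J 0 := by
    intro n
    induction n with
    | zero => exact Category.id_comp _
    | succ n ih => rw [FSch.Sys.toX, Category.assoc, hι n, ih]
  have hF : (FSch.spf A J).IsFormal := fun n => by
    refine ⟨hc n, fun z => ?_⟩
    obtain ⟨Q, hQ⟩ : ∃ Q : PrimeSpectrum (A ⧸ J ^ (n + 2)), Q = z := ⟨z, rfl⟩
    have h1 : z ∈ PrimeSpectrum.zeroLocus (RingHom.ker (Ideal.Quotient.factor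
        (Ideal.pow_le_pow_right (Nat.le_succ (n + 1)) : J ^ (n + 2) ≤ J ^ (n + 1))) : Set (A ⧸ J ^ (n + 2))) := by
      subst hQ
      intro a ha
      obtain ⟨b, rfl⟩ := Ideal.Quotient.mk_surjective a
      rw [SetLike.mem_coe, RingHom.mem_ker, Ideal.Quotient.factor_mk, Ideal.Quotient.eq_zero_iff_mem] at ha
      refine Q.2.mem_of_pow_mem 2 ?_
      rw [← map_pow, show Ideal.Quotient.mk (J ^ (n + 2)) (b ^ 2) = 0 from Ideal.Quotient.eq_zero_iff_mem.2
        (Ideal.pow_le_pow_right (show n + 2 ≤ (n + 1) * 2 by omega) (pow_mul J (n + 1) 2 ▸ Ideal.pow_mem_pow ha 2))]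
      exact Q.asIdeal.zero_mem
    rw [← _root_.range_comap_of_surjective _ _ (Ideal.Quotient.factor_surjective _)] at h1
    exact h1
  refine ⟨hF, fun n => ?_, fun n => inferInstanceAs (IsLocallyNoetherian (Spec _))⟩
  haveI := hc n
  haveI := hq n
  haveI := hq (n + 1)
  haveI := (Groth.Agent.ThickSys.closed_surj_toX hF (n + 1)).1
  rw [Groth.Agent.ThickSys.ker_eq_comap_ker_comp ((FSch.spf A J).ι n) (CohB1.specQuot J (n + 1)),
    Groth.Agent.ThickSys.ker_eq_comap_ker_comp ((FSch.spf A J).toX (n + 1)) (CohB1.specQuot J (n + 1)),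
    hι n, hto (n + 1), ← Groth.Agent.ThickSys.comap_pow]
  exact congrArg (fun K : (Spec (CommRingCat.of A)).IdealSheafData => K.comap (CohB1.specQuot J (n + 1)))
    ((Groth.Agent.ThickSys.idealSpec_pow A J (n + 1)).trans
      (congrArg (· ^ (n + 1)) (congrArg (FSch.idealSpec A) (pow_one J).symm)))

end Groth.Agent.S3855
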