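import Groth.Statements.S8868
import Groth.Agent.WeakAssLib.Push

set_option autoImplicit false
universe u
open CategoryTheory CategoryTheory.Limits AlgebraicGeometry TopologicalSpace
open SDiv

namespace Groth.Agent.S8868

/-- Let X be a scheme and F a quasi-coherent O_X-module. Then F is zero if and only if F has no weakly
associated point. -/
theorem result (X : Scheme.{u}) (F : X.Modules) (hF : Coh.IsQCoh F) :
    IsZero F ↔ ∀ x : ↥X, ¬ Curv2.IsWeakAssPoint F x := by
  constructor
  · intro h x ⟨m, hm⟩
    have hzero : m = 0 := by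
      obtain ⟨V, hxV, s, rfl⟩ := F.presheaf.exists_germ_eq (x := x) m
      have hid : (𝟙 F : F ⟶ F) = 0 := h.eq_of_src _ _
      have hs : s = 0 := congr($(congrArg (fun φ : F ⟶ F => φ.app V) hid) s)
      rw [hs, map_zero]
    rw [hzero, LinearMap.toSpanSingleton_zero, LinearMap.ker_zero, Ideal.radical_top] at hm
    exact (IsLocalRing.maximalIdeal.isMaximal _).ne_top hm.symm
  · intro h
    rw [IsZero.iff_id_eq_zero]
    refine Scheme.Modules.hom_ext _ _ fun U => ?_
    ext s
    exact (Groth.Agent.WeakAssLib.eq_zero_of_forall hF _ fun y _ hw => absurd hw (h y)).trans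
      (Groth.Agent.WeakAssLib.eq_zero_of_forall hF _ fun y _ hw => absurd hw (h y)).symm

end Groth.Agent.S8868
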