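import Groth.Statements.S17050
import Groth.Agent.FSchCoh.IndBrown
import Groth.Agent.FSchCoh.QCTGroth
import Groth.Agent.FSchCoh.DerivedCoreflect
import Groth.Agent.RPushSite.Limits
import Groth.Agent.S17053

set_option autoImplicit false
open CategoryTheory CategoryTheory.Limits
universe u
attribute [local instance] HasDerivedCategory.standard
open FTors

namespace Groth.Agent.S17050

/-- Let f : 𝔛 ⟶ 𝔜 be a morphism of Noetherian formal schemes (adic systems of thickenings with locally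
Noetherian levels and quasi-compact underlying spaces), and assume the total right derived functor
Rf_* exists on unbounded derived categories of modules. Let A_qct be the full subcategory of
quasi-coherent torsion O_𝔛-modules, assumed (as holds) to contain 0, to be closed under kernels,
cokernels and finite products and to have exact inclusion; assume further that the induced functor
D(A_qct) ⥤ D(O_𝔛) is fully faithful with essential image D_qct(𝔛), the complexes with quasi-coherent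
torsion cohomology sheaves — the case the published proof establishes first, valid when 𝔛 is
separated or of finite Krull dimension. Then the restriction of Rf_* to D_qct(𝔛) has a right
adjoint. (The published statement also removes the hypothesis on 𝔛 when f is separated, by gluing
over an open cover, and gives a bounded-below right adjoint compatible with the triangulated
structures.) -/
theorem result (𝔛 𝔜 : FSch.Sys.{u}) (h𝔛 : 𝔛.IsLocNoethFormal) (h𝔜 : 𝔜.IsLocNoethFormal)
    [CompactSpace (𝔛.X 0)] [CompactSpace (𝔜.X 0)] (f : 𝔛 ⟶ 𝔜)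
    [SiteCmp.HasRpushD (FSch.homMor f h𝔛.1 h𝔜.1)]
    [(FTors.IsQCT 𝔛 h𝔛.1).ContainsZero] [(FTors.IsQCT 𝔛 h𝔛.1).IsClosedUnderKernels]
    [(FTors.IsQCT 𝔛 h𝔛.1).IsClosedUnderCokernels] [(FTors.IsQCT 𝔛 h𝔛.1).IsClosedUnderFiniteProducts]
    [PreservesFiniteLimits (FTors.IsQCT 𝔛 h𝔛.1).ι] [PreservesFiniteColimits (FTors.IsQCT 𝔛 h𝔛.1).ι]
    (hj : (FTors.IsQCT 𝔛 h𝔛.1).ι.mapDerivedCategory.Full ∧ (FTors.IsQCT 𝔛 h𝔛.1).ι.mapDerivedCategory.Faithful ∧
      ∀ G : DerivedCategory (FSch.ModF 𝔛 h𝔛.1),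
        (FTors.IsQCT 𝔛 h𝔛.1).ι.mapDerivedCategory.essImage G ↔ FTors.IsDQCT 𝔛 h𝔛.1 G) :
    ((FTors.IsDQCT 𝔛 h𝔛.1).ι ⋙ SiteCmp.RpushD (FSch.homMor f h𝔛.1 h𝔜.1)).IsLeftAdjoint := by
  let P := FTors.IsQCT 𝔛 h𝔛.1
  haveI : IsGrothendieckAbelian.{u} (FSch.ModF 𝔛 h𝔛.1) := KFlat.isGrothendieck _
  haveI : IsGrothendieckAbelian.{u} (FSch.ModF 𝔜 h𝔜.1) := KFlat.isGrothendieck _
  haveI : IsGrothendieckAbelian.{u} P.FullSubcategory := FSchCoh.isGrothendieckAbelian_qct h𝔛
  have hι := FSchCoh.isLeftAdjoint_qct h𝔛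
  let M := P.ι.mapDerivedCategory
  haveI hD : M.IsLeftAdjoint := FSchCoh.isLeftAdjoint_mapDerived P.ι hι
  let R := SiteCmp.RpushD (FSch.homMor f h𝔛.1 h𝔜.1)
  haveI : R.Additive := RPushSite.additive_RpushD _
  haveI : M.Additive := Functor.additive_of_preserves_binary_products _
  haveI h : (M ⋙ R).IsLeftAdjoint := by
    refine FSchCoh.isLeftAdjoint_standard (M ⋙ R) (fun T hT => ?_) fun ι => ⟨fun {K} => ?_⟩
    · exact RPushSite.exists_rpush_triangle _ _ _ _ (M.map_distinguished T hT)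
    · haveI := FSchCoh.preservesColimit_rpush_ind h𝔛 h𝔜.1 f (fun t => M.obj (K.obj ⟨t⟩)) fun t i =>
        (Groth.Agent.S17053.result 𝔛 h𝔛).2 _ ((hj.2.2 _).1 (M.obj_mem_essImage (K.obj ⟨t⟩)) i)
      haveI : PreservesColimit (K ⋙ M) R :=
        preservesColimit_of_iso_diagram R
          (Discrete.natIso fun _ => Iso.refl _ : Discrete.functor (fun t => M.obj (K.obj ⟨t⟩)) ≅ K ⋙ M)
      haveI : PreservesColimit K M :=
        (Adjunction.ofIsLeftAdjoint M).leftAdjoint_preservesColimits.preservesColimitsOfShape.preservesColimit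
      exact comp_preservesColimit _ _
  let L := (FTors.IsDQCT 𝔛 h𝔛.1).lift M fun X => (hj.2.2 _).1 (M.obj_mem_essImage X)
  haveI : M.Full := hj.1
  haveI : M.Faithful := hj.2.1
  haveI : L.EssSurj := ⟨fun Y => by
    obtain ⟨X, ⟨e⟩⟩ := (hj.2.2 Y.obj).2 Y.property
    exact ⟨X, ⟨(FTors.IsDQCT 𝔛 h𝔛.1).fullyFaithfulι.preimageIso e⟩⟩⟩
  haveI : L.IsEquivalence := {}
  have e : L.asEquivalence.inverse ⋙ M ⋙ R ≅ (FTors.IsDQCT 𝔛 h𝔛.1).ι ⋙ R :=
    (Functor.associator _ _ _).symm ≪≫ Functor.isoWhiskerRight (Functor.isoWhiskerLeft L.asEquivalence.inverse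
      ((FTors.IsDQCT 𝔛 h𝔛.1).liftCompιIso M fun X => (hj.2.2 _).1 (M.obj_mem_essImage X)).symm ≪≫
        (Functor.associator _ _ _).symm ≪≫ Functor.isoWhiskerRight L.asEquivalence.counitIso _ ≪≫ Functor.leftUnitor _) R
  exact Functor.isLeftAdjoint_of_iso e

end Groth.Agent.S17050
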