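import Groth.Statements.S17057
import Groth.Agent.FSchTors.Derived

set_option autoImplicit false
open CategoryTheory CategoryTheory.Limits
universe u
attribute [local instance] HasDerivedCategory.standard
open FTors

namespace Groth.Agent.S17057

/-- On a locally Noetherian formal scheme 𝔛 (an adic system of thickenings with locally Noetherian
levels), with RΓ'_𝔛 assumed to exist, for E ∈ D(O_𝔛) with torsion cohomology sheaves and any F ∈
D(O_𝔛), composition with the canonical morphism RΓ'_𝔛 F ⟶ F is a bijection Hom(E, RΓ'_𝔛 F) ⟶ Hom(E,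
F). (The published statement asserts the isomorphism of the complexes RHom^•; this row asserts its
degree-zero cohomology for every shift.) -/
theorem result (𝔛 : FSch.Sys.{u}) (h𝔛 : 𝔛.IsLocNoethFormal)
    [FTors.HasRgammaT 𝔛 h𝔛.1] (E F : DerivedCategory (FSch.ModF 𝔛 h𝔛.1)) (hE : FTors.IsDTorsF 𝔛 h𝔛.1 E) :
    Function.Bijective (fun φ : E ⟶ (FTors.RgammaT 𝔛 h𝔛.1).obj F => φ ≫ (FTors.RgammaTε 𝔛 h𝔛.1).app F) := by
  haveI := Groth.Agent.FSchTors.isIso_ε h𝔛 hE
  have n : ∀ {X Y : DerivedCategory (FSch.ModF 𝔛 h𝔛.1)} (f : X ⟶ Y),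
      (FTors.RgammaT 𝔛 h𝔛.1).map f ≫ (FTors.RgammaTε 𝔛 h𝔛.1).app Y = (FTors.RgammaTε 𝔛 h𝔛.1).app X ≫ f :=
    fun f => (FTors.RgammaTε 𝔛 h𝔛.1).naturality f
  refine Function.bijective_iff_has_inverse.2
    ⟨fun ψ => inv ((FTors.RgammaTε 𝔛 h𝔛.1).app E) ≫ (FTors.RgammaT 𝔛 h𝔛.1).map ψ, fun φ => ?_, fun ψ => ?_⟩
  · simp only
    rw [IsIso.inv_comp_eq, Functor.map_comp, Groth.Agent.FSchTors.map_ε_eq h𝔛 F]
    exact n φ
  · simp only [Category.assoc]
    rw [IsIso.inv_comp_eq]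
    exact n ψ

end Groth.Agent.S17057
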