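import Groth.Statements.S17060
import Groth.Agent.FSchCoh.LevelRpush

set_option autoImplicit false
open CategoryTheory CategoryTheory.Limits
universe u
open FTors

namespace Groth.Agent.S17060

/-- Let f : 𝔛 ⟶ 𝔜 be a morphism of Noetherian formal schemes (adic systems of thickenings with locally
Noetherian levels and quasi-compact underlying spaces). Then f_* M is a quasi-coherent torsion
O_𝔜-module for every quasi-coherent torsion O_𝔛-module M; if moreover f is pseudo-proper (its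
morphism of smallest levels is proper) and M is also coherent, then f_* M is coherent. -/
theorem result (𝔛 𝔜 : FSch.Sys.{u}) (h𝔛 : 𝔛.IsLocNoethFormal) (h𝔜 : 𝔜.IsLocNoethFormal)
    [CompactSpace (𝔛.X 0)] [CompactSpace (𝔜.X 0)] (f : 𝔛 ⟶ 𝔜)
    (M : FSch.ModF 𝔛 h𝔛.1) (hM : FTors.IsQCT 𝔛 h𝔛.1 M) :
    FTors.IsQCT 𝔜 h𝔜.1 ((FSch.pushF f h𝔛.1 h𝔜.1).obj M) ∧
      (AlgebraicGeometry.IsProper ((f : FSch.Hom 𝔛 𝔜).app 0) → FSch.IsCohF 𝔛 h𝔛.1 M →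
        FSch.IsCohF 𝔜 h𝔜.1 ((FSch.pushF f h𝔛.1 h𝔜.1).obj M)) := by
  haveI : IsGrothendieckAbelian.{u} (FSch.ModF 𝔛 h𝔛.1) := KFlat.isGrothendieck _
  haveI : HasInjectiveResolutions (FSch.ModF 𝔛 h𝔛.1) := by infer_instance
  let P := FSch.pushF f h𝔛.1 h𝔜.1
  haveI : P.IsRightAdjoint := (FSch.homMor f h𝔛.1 h𝔜.1).adj.isRightAdjoint
  haveI : P.Additive := Functor.additive_of_preserves_binary_products _
  refine ⟨(FSchCoh.qt_pushF (h𝔛 := h𝔛) (h𝔜 := h𝔜) f (FSchCoh.qt_of_isQCT h𝔛 hM.1 hM.2)).isQCT, fun hf hc => ?_⟩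
  haveI := hf
  exact ObjectProperty.IsClosedUnderIsomorphisms.of_iso (P := fun G : FSch.ModF 𝔜 h𝔜.1 => FSch.IsCohF 𝔜 h𝔜.1 G)
    (P.rightDerivedZeroIsoSelf.app M) (FSchCoh.isCohF_rpush_qct (h𝔛 := h𝔛) (h𝔜 := h𝔜) f 0 M hc hM.1)

end Groth.Agent.S17060
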