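import Groth.Statements.S17063
import Groth.Agent.FSchTors.Right
import Groth.Agent.S17050
import Mathlib.CategoryTheory.Adjunction.Restrict

set_option autoImplicit false
open CategoryTheory CategoryTheory.Limits
universe u
attribute [local instance] HasDerivedCategory.standard
open FTors

namespace Groth.Agent.S17063

/-- Let f : 𝔛 ⟶ 𝔜 be a morphism of Noetherian formal schemes (adic systems of thickenings with locally
Noetherian levels and quasi-compact underlying spaces), with RΓ'_𝔛 and Rf_* assumed to exist on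
unbounded derived categories; let A_qct (quasi-coherent torsion O_𝔛-modules) contain 0, be closed
under kernels, cokernels and finite products with exact inclusion, and assume the induced functor
D(A_qct) ⥤ D(O_𝔛) is fully faithful with essential image D_qct(𝔛) (true for 𝔛 separated or of finite
Krull dimension). Then Rf_* ∘ RΓ'_𝔛 restricted to D̃_qc(𝔛) — the complexes E with RΓ'_𝔛 E in
D_qct(𝔛) — has a right adjoint. (The published statement names it f^# = Λ_𝔛 f_t^× and shows it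
bounded below; only existence is asserted here.) -/
theorem result (𝔛 𝔜 : FSch.Sys.{u})
    (h𝔛 : 𝔛.IsLocNoethFormal) (h𝔜 : 𝔜.IsLocNoethFormal) [CompactSpace (𝔛.X 0)] [CompactSpace (𝔜.X 0)]
    (f : 𝔛 ⟶ 𝔜) [FTors.HasRgammaT 𝔛 h𝔛.1] [SiteCmp.HasRpushD (FSch.homMor f h𝔛.1 h𝔜.1)]
    [(FTors.IsQCT 𝔛 h𝔛.1).ContainsZero] [(FTors.IsQCT 𝔛 h𝔛.1).IsClosedUnderKernels]
    [(FTors.IsQCT 𝔛 h𝔛.1).IsClosedUnderCokernels] [(FTors.IsQCT 𝔛 h𝔛.1).IsClosedUnderFiniteProducts]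
    [PreservesFiniteLimits (FTors.IsQCT 𝔛 h𝔛.1).ι] [PreservesFiniteColimits (FTors.IsQCT 𝔛 h𝔛.1).ι]
    (hj : (FTors.IsQCT 𝔛 h𝔛.1).ι.mapDerivedCategory.Full ∧ (FTors.IsQCT 𝔛 h𝔛.1).ι.mapDerivedCategory.Faithful ∧
      ∀ G : DerivedCategory (FSch.ModF 𝔛 h𝔛.1),
        (FTors.IsQCT 𝔛 h𝔛.1).ι.mapDerivedCategory.essImage G ↔ FTors.IsDQCT 𝔛 h𝔛.1 G) :
    (ObjectProperty.ι (FTors.IsDQCTilde 𝔛 h𝔛.1) ⋙ FTors.RgammaT 𝔛 h𝔛.1 ⋙
      SiteCmp.RpushD (FSch.homMor f h𝔛.1 h𝔜.1)).IsLeftAdjoint := by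
  let R := FTors.RgammaT 𝔛 h𝔛.1
  haveI : R.IsLeftAdjoint := Groth.Agent.FSchTors.isLeftAdjoint_RgammaT h𝔛
  let Λ := Adjunction.ofIsLeftAdjoint R
  let P := FTors.IsDQCTilde 𝔛 h𝔛.1
  let Q := FTors.IsDQCT 𝔛 h𝔛.1
  let M := (FTors.IsQCT 𝔛 h𝔛.1).ι.mapDerivedCategory
  have hiso : ∀ {A B : DerivedCategory (FSch.ModF 𝔛 h𝔛.1)}, (A ≅ B) → Q A → Q B := fun e h =>
    (hj.2.2 _).1 (Functor.essImage.ofIso e ((hj.2.2 _).2 h))
  have hmem : ∀ Y : Q.FullSubcategory, P (R.rightAdjoint.obj Y.obj) := fun Y => by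
    haveI := Groth.Agent.FSchTors.isIso_counit h𝔛 Λ (Y := Y.obj) fun i => (Y.property i).1
    exact hiso (asIso (Λ.counit.app Y.obj)).symm Y.property
  let L : P.FullSubcategory ⥤ Q.FullSubcategory := Q.lift (P.ι ⋙ R) fun X => X.property
  let L' : Q.FullSubcategory ⥤ P.FullSubcategory := P.lift (Q.ι ⋙ R.rightAdjoint) hmem
  let A : L ⊣ L' := Λ.restrictFullyFaithful P.fullyFaithfulι Q.fullyFaithfulι (Iso.refl _) (Iso.refl _)
  haveI : L.IsLeftAdjoint := A.isLeftAdjoint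
  haveI : (Q.ι ⋙ SiteCmp.RpushD (FSch.homMor f h𝔛.1 h𝔜.1)).IsLeftAdjoint :=
    Groth.Agent.S17050.result 𝔛 𝔜 h𝔛 h𝔜 f hj
  exact Functor.isLeftAdjoint_of_iso (F := L ⋙ Q.ι ⋙ SiteCmp.RpushD (FSch.homMor f h𝔛.1 h𝔜.1)) (Iso.refl _)

end Groth.Agent.S17063
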