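import Groth.Statements.S17065
import Mathlib.RingTheory.Filtration

set_option autoImplicit false
universe u
open CAlg

namespace Groth.Agent.S17065

/-- The local algebraic statement its proof establishes: let A be a Noetherian ring, I ≤ J radical
ideals and Â the J-adic completion of A. If J^n Â ⊆ I Â for some n, then the closed set V(J) is open
inside V(I) ⊆ Spec A. (Globally: if X₂ ⊆ X₁ are the completions of a locally Noetherian scheme along
nested closed subsets Z₂ ⊆ Z₁ and the ideal of Z₁ generates an ideal of definition of X₂, then X₂ is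
a union of connected components of X₁.) -/
theorem result (A : Type u) [CommRing A] [IsNoetherianRing A]
    (I J : Ideal A) (hIJ : I ≤ J) (hI : I.IsRadical) (hJ : J.IsRadical) (n : ℕ)
    (h : (J ^ n).map (algebraMap A (AdicCompletion J A)) ≤ I.map (algebraMap A (AdicCompletion J A))) :
    IsOpen ((fun x : PrimeSpectrum.zeroLocus (I : Set A) => (x : PrimeSpectrum A)) ⁻¹'
      PrimeSpectrum.zeroLocus (J : Set A)) := by
  classical
  have hmem : ∀ x ∈ J ^ n, ∀ k : ℕ, x ∈ I ⊔ J ^ k := by
    intro x hx k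
    have h1 := Ideal.mem_map_of_mem (AdicCompletion.evalₐ J k).toRingHom
      (h (Ideal.mem_map_of_mem _ hx))
    rw [Ideal.map_map] at h1
    simp only [AlgHom.toRingHom_eq_coe, AlgHom.comp_algebraMap, RingHom.coe_coe] at h1
    have e1 : (AdicCompletion.evalₐ J k) (algebraMap A (AdicCompletion J A) x) =
        Ideal.Quotient.mk (J ^ k) x := (AdicCompletion.evalₐ J k).commutes x
    rw [e1] at h1
    have h2 : Ideal.Quotient.mk (J ^ k) x ∈ I.map (Ideal.Quotient.mk (J ^ k)) := h1
    rwa [← Ideal.mem_comap, Ideal.comap_map_of_surjective _ Ideal.Quotient.mk_surjective,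
      ← RingHom.ker_eq_comap_bot, Ideal.mk_ker] at h2
  have hsep : ∀ x ∈ J ^ n, ∃ c : A, c - 1 ∈ J ∧ c * x ∈ I := by
    intro x hx
    have hmk : Ideal.Quotient.mk I x ∈ (⨅ k : ℕ, J ^ k • ⊤ : Submodule A (A ⧸ I)) := by
      rw [Submodule.mem_iInf]
      intro k
      obtain ⟨i, hi, j, hj, rfl⟩ := Submodule.mem_sup.1 (hmem x hx k)
      have : Ideal.Quotient.mk I (i + j) = j • (1 : A ⧸ I) := by
        rw [map_add, Ideal.Quotient.eq_zero_iff_mem.2 hi, zero_add, Algebra.smul_def, mul_one]
        rfl
      rw [this]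
      exact Submodule.smul_mem_smul hj Submodule.mem_top
    obtain ⟨r, hr⟩ := (Ideal.mem_iInf_smul_pow_eq_bot_iff J _).1 hmk
    refine ⟨1 - (r : A), by simp, ?_⟩
    rw [← Ideal.Quotient.eq_zero_iff_mem, sub_mul, one_mul, map_sub, sub_eq_zero]
    exact hr.symm
  obtain ⟨G, hG⟩ := (IsNoetherian.noetherian (J ^ n) : (J ^ n).FG)
  choose c hc1 hc2 using fun g : G => hsep g (hG.le (Submodule.subset_span g.2))
  let C := ∏ g, c g
  have hC : C - 1 ∈ J := by
    rw [← Ideal.Quotient.eq]
    simp only [C, map_prod]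
    exact (Finset.prod_eq_one fun g _ => Ideal.Quotient.eq.2 (hc1 g)).trans (map_one _).symm
  have hCJ : ∀ x ∈ J ^ n, C * x ∈ I := by
    intro x hx
    rw [← hG] at hx
    induction hx using Submodule.span_induction with
    | mem g hg =>
      obtain ⟨d, hd⟩ := Finset.dvd_prod_of_mem c (Finset.mem_univ (⟨g, hg⟩ : G))
      simp only [C, hd]
      rw [mul_right_comm]
      exact Ideal.mul_mem_right _ _ (hc2 ⟨g, hg⟩)
    | zero => simp
    | add a b _ _ ha hb => rw [mul_add]; exact add_mem ha hb
    | smul a b _ hb => rw [smul_eq_mul, mul_left_comm]; exact Ideal.mul_mem_left _ _ hb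
  have key : (fun x : PrimeSpectrum.zeroLocus (I : Set A) => (x : PrimeSpectrum A)) ⁻¹'
      PrimeSpectrum.zeroLocus (J : Set A) =
      (fun x : PrimeSpectrum.zeroLocus (I : Set A) => (x : PrimeSpectrum A)) ⁻¹'
      (PrimeSpectrum.basicOpen C : Set (PrimeSpectrum A)) := by
    ext ⟨p, hp⟩
    simp only [Set.mem_preimage, PrimeSpectrum.mem_zeroLocus, SetLike.mem_coe,
      PrimeSpectrum.mem_basicOpen]
    constructor
    · intro hJp hCp
      exact p.2.ne_top ((Ideal.eq_top_iff_one _).2 (by
        have := sub_mem hCp (hJp hC)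
        simpa using this))
    · intro hCp y hy
      exact p.2.mem_of_pow_mem n
        ((p.2.mem_or_mem (hp (hCJ _ (Ideal.pow_mem_pow hy n)))).resolve_left hCp)
  rw [key]
  exact (PrimeSpectrum.basicOpen C).2.preimage continuous_subtype_val

end Groth.Agent.S17065
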