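import Groth.Statements.S1707
import Groth.Agent.WeakAssLib.Basic

set_option autoImplicit false
universe u
open CategoryTheory CategoryTheory.Limits AlgebraicGeometry TopologicalSpace
open SDiv

namespace Groth.Agent.S1707

/-- Let X be a scheme, F a quasi-coherent module and x a point of the support of F such that no other
point of the support specializes to x. Then x is weakly associated to F. -/
theorem result (X : Scheme.{u}) (F : X.Modules) (hF : Coh.IsQCoh F) (x : ↥X)
    (hx : x ∈ CohB1.support F) (hmax : ∀ y : ↥X, y ∈ CohB1.support F → y ⤳ x → y = x) : Curv2.IsWeakAssPoint F x := by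
  obtain ⟨U, hU, hxU, -⟩ := AlgebraicGeometry.exists_isAffineOpen_mem_and_subset (X := X) (U := ⊤)
    (trivial : x ∈ (⊤ : X.Opens))
  have hx' : ¬ Subsingleton (F.presheaf.stalk x) := hx
  have := not_subsingleton_iff_nontrivial.1 hx'
  obtain ⟨t, ht⟩ := exists_ne (0 : F.presheaf.stalk x)
  obtain ⟨a, s, ha, has⟩ := Groth.Agent.WeakAssLib.exists_germ hU
    (Groth.Agent.QC.isLoc_of_isQCoh hU (hM := hF)) hxU t
  have hne : Groth.Agent.WeakAssLib.mgerm F hxU s ≠ 0 := fun h =>
    ht ((Groth.Agent.WeakAssLib.isUnit_germ hU hxU ha).smul_eq_zero.1 (has.trans h))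
  obtain ⟨y, hy, hyx, hwa, hne'⟩ := Groth.Agent.WeakAssLib.exists_weakAss hF hxU s hne
  have hys : y ∈ CohB1.support F := fun (h : Subsingleton (F.presheaf.stalk y)) =>
    hne' (Subsingleton.elim _ _)
  exact hmax y hys hyx ▸ hwa

end Groth.Agent.S1707
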