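import Groth.Statements.S17073
import Groth.Agent.LocH.CdTop

set_option autoImplicit false
open CategoryTheory
universe u
open LocCoh

namespace Groth.Agent.S17073

/-- Let R → S be a homomorphism of Noetherian rings, J an ideal of S containing elements u₁, …, u_d such
that S/(u₁, …, u_d) is a finite R-module and J lies in the radical of (u₁, …, u_d), and let F be a
finite R-module. Then the functor sending an S-module E to the set Hom_R(H^d_J(E), F) (d-th local
cohomology supported in J, scalars restricted to R) is representable by an S-module. (The published
statement gives the representing module as the degree −d cohomology of RHom_R(RΓ_J S, F) and a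
bifunctorial isomorphism; only representability is asserted here.) -/
theorem result
    (R S : Type u) [CommRing R] [CommRing S] [IsNoetherianRing R] [IsNoetherianRing S] [Algebra R S]
    (J : Ideal S) (d : ℕ) (u : Fin d → S) (hu : ∀ i, u i ∈ J)
    (hJ : J ≤ (Ideal.span (Set.range u)).radical) [Module.Finite R (S ⧸ Ideal.span (Set.range u))]
    (F : Type u) [AddCommGroup F] [Module R F] [Module.Finite R F] :
    ((localCohomology J d ⋙ ModuleCat.restrictScalars (algebraMap R S)).op ⋙
      yoneda.obj (ModuleCat.of R F)).IsRepresentable := by
  classical
  haveI : IsNoetherian S S := inferInstance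
  have hrad : (Ideal.span (Set.range u)).radical = J.radical := le_antisymm
    (Ideal.radical_mono (Ideal.span_le.2 fun x hx => by obtain ⟨i, rfl⟩ := hx; exact hu i))
    ((Ideal.radical_mono hJ).trans (Ideal.radical_idem _).le)
  have hcd : LocCoh.CdLE S J d := by
    intro M _ _ i hi
    have h1 := Groth.Agent.LocH.cdLE_card (Finset.univ.image u) M i
      (lt_of_le_of_lt (Finset.card_image_le.trans (by simp)) hi)
    have e : (localCohomology (Ideal.span ((Finset.univ.image u : Finset S) : Set S)) i).obj (ModuleCat.of S M) ≅
        (localCohomology J i).obj (ModuleCat.of S M) :=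
      (localCohomology.isoOfSameRadical (by simpa using hrad) i).app _
    exact e.toLinearEquiv.toEquiv.symm.subsingleton
  let T : ModuleCat.{u} S := (localCohomology J d).obj (ModuleCat.of S S)
  let η : MonoidalCategory.tensorLeft T ≅ localCohomology J d := NatIso.ofComponents
    (fun E => (LinearEquiv.ofBijective _ (Groth.Agent.LocH.CdTop.topMap_bijective J d hcd E)).toModuleIso)
    (fun f => ModuleCat.hom_ext (LinearMap.ext fun t => Groth.Agent.LocH.topMap_natural J d f.hom t))
  let adj1 := (CategoryTheory.ihom.adjunction T).ofNatIsoLeft η
  let adj := adj1.comp (ModuleCat.restrictCoextendScalarsAdj.{u} (algebraMap R S))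
  exact Functor.RepresentableBy.isRepresentable
    (Y := (CategoryTheory.ihom T).obj ((ModuleCat.coextendScalars (algebraMap R S)).obj (ModuleCat.of R F)))
    { homEquiv := fun {E} => (adj.homEquiv E (ModuleCat.of R F)).symm
      homEquiv_comp := fun f g => adj.homEquiv_naturality_left_symm f g }

end Groth.Agent.S17073
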