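import Groth.Statements.S17075
import Mathlib.AlgebraicGeometry.Morphisms.Proper
import Mathlib.AlgebraicGeometry.PullbackCarrier

set_option autoImplicit false
set_option backward.isDefEq.respectTransparency false
set_option linter.style.haveILetI false
universe u
open CategoryTheory CategoryTheory.Limits AlgebraicGeometry
open MorSch

namespace Groth.Agent.S17075

/-- Let g : X → S be a proper morphism, i : V → X a closed immersion and j : U → X an open immersion.
Then there is an open subset S₀ of S such that, for every scheme S' and every morphism f : S' → S,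
the image of f lies in S₀ if and only if the base change V ×_S S' → X ×_S S' of i factors through
the open subscheme U ×_S S', equivalently the composite V ×_S S' → V → X has image contained in the
image of j. -/
theorem result
    {V X U S : Scheme.{u}} (g : X ⟶ S) [IsProper g] (i : V ⟶ X) [IsClosedImmersion i]
    (j : U ⟶ X) [IsOpenImmersion j] :
    ∃ S₀ : S.Opens, ∀ (S' : Scheme.{u}) (f : S' ⟶ S),
      Set.range f ⊆ (S₀ : Set S) ↔
        Set.range (pullback.fst (i ≫ g) f ≫ i) ⊆ Set.range j := by
  have hbad : IsClosed (Set.range i \ Set.range j) :=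
    i.isClosedEmbedding.isClosed_range.sdiff j.isOpenEmbedding.isOpen_range
  refine ⟨⟨(g.base '' (Set.range i \ Set.range j))ᶜ, (g.isClosedMap _ hbad).isOpen_compl⟩, fun S' f => ?_⟩
  constructor
  · rintro h _ ⟨z, rfl⟩
    by_contra hne
    refine h ⟨pullback.snd (i ≫ g) f z, rfl⟩ ⟨i (pullback.fst (i ≫ g) f z), ⟨⟨_, rfl⟩, hne⟩, ?_⟩
    have := congr($(pullback.condition (f := i ≫ g) (g := f)) z)
    exact this
  · rintro h _ ⟨t, rfl⟩ ⟨x, ⟨⟨v, rfl⟩, hx⟩, hxt⟩
    obtain ⟨z, hz, -⟩ := Scheme.Pullback.exists_preimage_pullback (f := i ≫ g) (g := f) v t (by exact hxt)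
    refine hx ?_
    rw [← hz]
    exact h ⟨z, rfl⟩

end Groth.Agent.S17075
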