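import Groth.Statements.S17079
import Mathlib.CategoryTheory.Comma.Over.Pullback
-- import your own Groth.Agent.* helpers here

set_option autoImplicit false
set_option linter.style.haveILetI false
set_option linter.unusedSimpArgs false
universe u
open CategoryTheory CategoryTheory.Limits AlgebraicGeometry
open MorSch

namespace Groth.Agent.S17079

namespace MorSchLib

set_option backward.isDefEq.respectTransparency false in
/-- `S`-morphisms `T ×_S X ⟶ Y` are `S'`-morphisms `T ×_{S'} (X ×_S S') ⟶ Y ×_S S'`. -/
noncomputable def transfer {X Y S S' : Scheme.{u}} (gX : X ⟶ S) (gY : Y ⟶ S) (h : S' ⟶ S) (T : Over S') :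
    (Flatn.morS gX gY).obj (Opposite.op ((Over.map h).obj T)) ≃
      (Flatn.morS (pullback.snd gX h) (pullback.snd gY h)).obj (Opposite.op T) where
  toFun b := Over.homMk
    (pullback.lift
      (pullback.lift (pullback.fst T.hom (pullback.snd gX h))
        (pullback.snd T.hom (pullback.snd gX h) ≫ pullback.fst gX h)
        (by
          change _ ≫ T.hom ≫ h = _
          rw [← Category.assoc, pullback.condition, Category.assoc, Category.assoc, pullback.condition]) ≫ b.left)
      (pullback.snd T.hom (pullback.snd gX h) ≫ pullback.snd gX h)
      (by
        have hw : b.left ≫ gY = pullback.snd (T.hom ≫ h) gX ≫ gX := Over.w b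
        rw [Category.assoc, hw, ← Category.assoc]
        erw [pullback.lift_snd]
        rw [Category.assoc, Category.assoc, pullback.condition]))
    (pullback.lift_snd _ _ _)
  invFun c := Over.homMk
    (pullback.lift (pullback.fst (T.hom ≫ h) gX)
        (pullback.lift (pullback.snd (T.hom ≫ h) gX) (pullback.fst (T.hom ≫ h) gX ≫ T.hom)
          (by rw [Category.assoc, ← pullback.condition]))
        (by rw [pullback.lift_snd]) ≫ c.left ≫ pullback.fst gY h)
    (by
      have hw : c.left ≫ pullback.snd gY h =
          pullback.snd T.hom (pullback.snd gX h) ≫ pullback.snd gX h := Over.w c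
      change (_ ≫ c.left ≫ pullback.fst gY h) ≫ gY = pullback.snd (T.hom ≫ h) gX ≫ gX
      simp only [Category.assoc, pullback.condition, reassoc_of% hw, pullback.lift_snd_assoc])
  left_inv b := Over.OverMorphism.ext (by
    simp only [Over.homMk_left, pullback.lift_fst]
    rw [← Category.assoc]
    conv_rhs => rw [← Category.id_comp b.left]
    congr 1
    apply pullback.hom_ext <;> simp)
  right_inv c := Over.OverMorphism.ext (by
    have hw : c.left ≫ pullback.snd gY h =
        pullback.snd T.hom (pullback.snd gX h) ≫ pullback.snd gX h := Over.w c
    simp only [Over.homMk_left]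
    apply pullback.hom_ext
    · rw [pullback.lift_fst, ← Category.assoc]
      conv_rhs => rw [← Category.id_comp c.left, Category.assoc]
      congr 1
      apply pullback.hom_ext
      · simp
      · apply pullback.hom_ext
        · simp
        · simp [← pullback.condition]
    · rw [pullback.lift_snd, hw])

set_option backward.isDefEq.respectTransparency false in
theorem transfer_nat {X Y S S' : Scheme.{u}} (gX : X ⟶ S) (gY : Y ⟶ S) (h : S' ⟶ S) {T T' : Over S'}
    (f : T ⟶ T') (b : (Flatn.morS gX gY).obj (Opposite.op ((Over.map h).obj T'))) :
    transfer gX gY h T ((Flatn.morS gX gY).map ((Over.map h).map f).op b) =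
      (Flatn.morS (pullback.snd gX h) (pullback.snd gY h)).map f.op (transfer gX gY h T' b) := by
  refine Over.OverMorphism.ext ?_
  rw [Flatn.morS_map, Flatn.morS_map]
  simp only [transfer, Equiv.coe_fn_mk, Over.homMk_left, Over.comp_left, Over.map_map_left, Over.pullback_map_left]
  apply pullback.hom_ext
  · simp only [pullback.lift_fst, Category.assoc]
    simp only [← Category.assoc]
    congr 1
    apply pullback.hom_ext <;> simp
  · simp

end MorSchLib

/-- Let gX : X → S and gY : Y → S be morphisms and suppose the functor Mor_S(X, Y) — sending an S-scheme
T to the set of S-morphisms T ×_S X → Y, with base change as transition maps — is represented by an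
S-scheme M. Then for every morphism h : S' → S the functor Mor_{S'}(X ×_S S', Y ×_S S') on
S'-schemes is represented by M ×_S S'. (The published statement assumes X and Y projective over S
with X flat and S, S' locally Noetherian; this row assumes only that the functor is represented by
M. Only the existence of a representing structure on M ×_S S' is asserted, not its compatibility
with the one on M.) -/
theorem result
    {X Y S S' : Scheme.{u}} (gX : X ⟶ S) (gY : Y ⟶ S) (h : S' ⟶ S)
    (M : Over S) (e : (Flatn.morS gX gY).RepresentableBy M) :
    Nonempty ((Flatn.morS (pullback.snd gX h) (pullback.snd gY h)).RepresentableBy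
      (Over.mk (pullback.snd M.hom h))) := by
  refine ⟨{ homEquiv := fun {T} => ?_, homEquiv_comp := ?_ }⟩
  · refine Equiv.trans ?_ (Equiv.trans (e.homEquiv (X := (Over.map h).obj T)) ?_)
    · exact ((Over.mapPullbackAdj h).homEquiv T M).symm
    · exact MorSchLib.transfer gX gY h T
  · intro T T' f g
    simp only [Equiv.trans_apply]
    erw [Adjunction.homEquiv_naturality_left_symm, e.homEquiv_comp, MorSchLib.transfer_nat]

end Groth.Agent.S17079
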