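import Groth.Statements.S17080
import Mathlib

set_option autoImplicit false
set_option backward.isDefEq.respectTransparency false
set_option backward.isDefEq.respectTransparency.types false
set_option maxHeartbeats 800000
universe u
open CategoryTheory CategoryTheory.Limits AlgebraicGeometry
open MorSch

namespace Groth.Agent.S17080

/-- Let gX : X → S be proper and flat, gY : Y → S separated and j : U → Y an open immersion, and suppose
the functor Mor_S(X, Y) — S-schemes T ↦ S-morphisms T ×_S X → Y — is represented by an S-scheme M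
via e. Then there are an open subset M₀ of M and a representation e₀ of Mor_S(X, U) by the open
subscheme M₀ (viewed over S through M) which is compatible with e: for every S-morphism φ : T → M₀,
the S-morphism T ×_S X → Y classified by φ followed by the inclusion M₀ → M is the S-morphism T ×_S
X → U classified by φ, followed by j. In particular the morphism Mor_S(X, U) → Mor_S(X, Y) induced
by j is an open immersion. (Published for X projective and flat and Y quasi-projective over a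
locally Noetherian S, which is how M is known to exist there; representability is taken as a
hypothesis here.) -/
theorem result
    {X Y U S : Scheme.{u}} (gX : X ⟶ S) [IsProper gX] [Flat gX] (gY : Y ⟶ S) [IsSeparated gY]
    (j : U ⟶ Y) [IsOpenImmersion j] (M : Over S) (e : (Flatn.morS gX gY).RepresentableBy M) :
    ∃ (M₀ : M.left.Opens)
      (e₀ : (Flatn.morS gX (j ≫ gY)).RepresentableBy (Over.mk (M₀.ι ≫ M.hom))),
      ∀ (T : Over S) (φ : T ⟶ Over.mk (M₀.ι ≫ M.hom)),
        (e.homEquiv (φ ≫ Over.homMk M₀.ι rfl) :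
            (Over.map gX).obj ((Over.pullback gX).obj T) ⟶ Over.mk gY) =
          (e₀.homEquiv φ : (Over.map gX).obj ((Over.pullback gX).obj T) ⟶ Over.mk (j ≫ gY)) ≫
            (Over.homMk j rfl : Over.mk (j ≫ gY) ⟶ Over.mk gY) := by
  let P := fun T : Over S => (Over.map gX).obj ((Over.pullback gX).obj T)
  let b : P M ⟶ Over.mk gY := e.homEquiv (𝟙 M)
  let pr : ∀ T : Over S, (P T).left ⟶ T.left := fun T => pullback.fst T.hom gX
  haveI : IsProper (pr M) := MorphismProperty.pullback_fst _ _ inferInstance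
  let M₀ : M.left.Opens := ⟨((pr M) '' (b.left ⁻¹' (Set.range j)ᶜ))ᶜ,
    ((pr M).isClosedMap _ (j.isOpenEmbedding.isOpen_range.isClosed_compl.preimage b.left.continuous)).isOpen_compl⟩
  let mp : ∀ {T T' : Over S} (_ : T ⟶ T'), P T ⟶ P T' := fun φ => (Over.map gX).map ((Over.pullback gX).map φ)
  have he : ∀ {T : Over S} (ψ : T ⟶ M), (e.homEquiv ψ : P T ⟶ Over.mk gY) = mp ψ ≫ b := fun ψ => e.homEquiv_eq ψ
  have hpr : ∀ {T T' : Over S} (φ : T ⟶ T'), (mp φ).left ≫ pr T' = pr T ≫ φ.left := fun φ => by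
    simp [mp, pr, P, Over.pullback]
  have hsq : ∀ {T T' : Over S} (φ : T ⟶ T'), IsPullback (mp φ).left (pr T) (pr T') φ.left := fun {T T'} φ => by
    refine IsPullback.of_right ?_ (hpr φ) (IsPullback.of_hasPullback T'.hom gX).flip
    have h1 : (mp φ).left ≫ pullback.snd T'.hom gX = pullback.snd T.hom gX := by simp [mp, P, Over.pullback]
    rw [h1, Over.w φ]
    exact (IsPullback.of_hasPullback T.hom gX).flip
  -- a classified map lands in `U` iff the classifying map lands in `M₀`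
  have key : ∀ {T : Over S} (ψ : T ⟶ M),
      Set.range ψ.left ⊆ (M₀ : Set M.left) ↔ Set.range (mp ψ ≫ b).left ⊆ Set.range j := by
    intro T ψ
    constructor
    · rintro h _ ⟨z, rfl⟩
      by_contra hz
      refine h ⟨pr T z, rfl⟩ ⟨(mp ψ).left z, hz, ?_⟩
      rw [← Scheme.Hom.comp_apply, hpr ψ, Scheme.Hom.comp_apply]
    · rintro h _ ⟨t, rfl⟩ ⟨w, hw, hwt⟩
      obtain ⟨z, hz, -⟩ := Scheme.Pullback.exists_preimage_pullback w t hwt
      refine hw ?_
      have h1 : (mp ψ).left ((hsq ψ).isoPullback.inv z) = w := by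
        rw [← Scheme.Hom.comp_apply, (hsq ψ).isoPullback_inv_fst]
        exact hz
      rw [← h1]
      exact h ⟨(hsq ψ).isoPullback.inv z, rfl⟩
  let ιM : Over.mk (M₀.ι ≫ M.hom) ⟶ M := Over.homMk M₀.ι rfl
  have hin : ∀ {T : Over S} (φ : T ⟶ Over.mk (M₀.ι ≫ M.hom)),
      Set.range (mp (φ ≫ ιM) ≫ b).left ⊆ Set.range j := fun φ => (key _).1 (by
    rintro _ ⟨t, rfl⟩
    exact (φ.left t).2)
  let jY : Over.mk (j ≫ gY) ⟶ Over.mk gY := Over.homMk j rfl
  have hfac : ∀ {T : Over S} (φ : T ⟶ Over.mk (M₀.ι ≫ M.hom)),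
      IsOpenImmersion.lift j (mp (φ ≫ ιM) ≫ b).left (hin φ) ≫ j ≫ gY = (P T).hom := fun φ => by
    rw [← Category.assoc, IsOpenImmersion.lift_fac]
    exact Over.w (mp (φ ≫ ιM) ≫ b)
  let cls : ∀ {T : Over S}, (T ⟶ Over.mk (M₀.ι ≫ M.hom)) → (P T ⟶ Over.mk (j ≫ gY)) := fun φ =>
    Over.homMk (IsOpenImmersion.lift j (mp (φ ≫ ιM) ≫ b).left (hin φ)) (hfac φ)
  have hto : ∀ {T : Over S} (φ : T ⟶ Over.mk (M₀.ι ≫ M.hom)), cls φ ≫ jY = mp (φ ≫ ιM) ≫ b := fun φ =>
    Over.OverMorphism.ext (IsOpenImmersion.lift_fac _ _ _)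
  have hjY : ∀ {T : Over S} (c c' : P T ⟶ Over.mk (j ≫ gY)), c ≫ jY = c' ≫ jY → c = c' := fun c c' h =>
    Over.OverMorphism.ext ((cancel_mono j).1 (congrArg CommaMorphism.left h))
  have hinj : ∀ {T : Over S}, Function.Injective (cls (T := T)) := fun {T} ⦃φ φ'⦄ h => by
    have h1 : φ ≫ ιM = φ' ≫ ιM := e.homEquiv.injective
      (((he _).trans ((hto φ).symm.trans ((congrArg (· ≫ jY) h).trans (hto φ')))).trans (he _).symm)
    exact Over.OverMorphism.ext ((cancel_mono M₀.ι).1 (congrArg CommaMorphism.left h1))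
  have hsurj : ∀ {T : Over S}, Function.Surjective (cls (T := T)) := fun {T} c => by
    let ψ : T ⟶ M := e.homEquiv.symm (c ≫ jY)
    have hψ : mp ψ ≫ b = c ≫ jY := (he ψ).symm.trans (e.homEquiv.apply_symm_apply _)
    have hr : Set.range ψ.left ⊆ Set.range M₀.ι := by
      rw [Scheme.Opens.range_ι]
      refine (key ψ).2 ?_
      rw [hψ]
      rintro _ ⟨z, rfl⟩
      exact ⟨c.left z, rfl⟩
    let φ : T ⟶ Over.mk (M₀.ι ≫ M.hom) := Over.homMk (IsOpenImmersion.lift M₀.ι ψ.left hr) (by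
      change IsOpenImmersion.lift M₀.ι ψ.left hr ≫ M₀.ι ≫ M.hom = T.hom
      rw [IsOpenImmersion.lift_fac_assoc, Over.w ψ])
    refine ⟨φ, hjY _ _ ?_⟩
    rw [hto, show φ ≫ ιM = ψ from Over.OverMorphism.ext (IsOpenImmersion.lift_fac _ _ _), hψ]
  refine ⟨M₀, {
    homEquiv := fun {T} => Equiv.ofBijective (cls (T := T)) ⟨hinj, hsurj⟩
    homEquiv_comp := fun {T T'} g φ => ?_ }, fun T φ => ?_⟩
  · refine hjY _ _ ?_
    change cls (g ≫ φ) ≫ jY = (mp g ≫ cls φ) ≫ jY
    rw [hto, Category.assoc (mp g), hto, Category.assoc g, ← Category.assoc (mp g)]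
    congr 1
    simp [mp]
  · exact (he (φ ≫ ιM)).trans (hto φ).symm

end Groth.Agent.S17080
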