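import Groth.Statements.S17083
import Groth.Agent.BlowUpLib.Basic
import Groth.Agent.ModPairCoprod.Basic

set_option autoImplicit false
set_option backward.isDefEq.respectTransparency false
set_option linter.style.haveILetI false
universe u
open CategoryTheory CategoryTheory.Limits AlgebraicGeometry
open MorSch

namespace Groth.Agent.S17083

open TopologicalSpace

/-- The closed immersion constructed in its proof, as follows. Let X be a scheme, I₁ and I₂
quasi-coherent ideal sheaves on X with I₁ + I₂ = O_X, so that they cut out disjoint closed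
subschemes Z₁ and Z₂, let σ : B → X be a blow-up of X in the ideal I₁ ∩ I₂ of Z₁ ∪ Z₂, and let σ₁ :
B₁ → X and σ₂ : B₂ → X be blow-ups of X in Z₁ and in Z₂ (blow-up in the sense of the universal
property: the inverse image ideal is effective Cartier, finally so). Then there is a morphism ι : B
→ B₁ ×_X B₂ over X which is a closed immersion; the components B → B_i are necessarily the unique
X-morphisms given by the universal properties. (Published for X a projective space over an
algebraically closed field, Z₂ a closed point and Z₁ a finite set of closed points not containing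
it, and iterated there to embed the blow-up at r distinct points as a closed subscheme of the fibre
product over X of the r blow-ups at single points.) -/
theorem result
    {X B B₁ B₂ : Scheme.{u}} (I₁ I₂ : X.IdealSheafData) (hdisj : I₁ ⊔ I₂ = ⊤)
    (σ : B ⟶ X) (hσ : BlowUp.IsBlowUp σ (I₁ ⊓ I₂))
    (σ₁ : B₁ ⟶ X) (hσ₁ : BlowUp.IsBlowUp σ₁ I₁) (σ₂ : B₂ ⟶ X) (hσ₂ : BlowUp.IsBlowUp σ₂ I₂) :
    ∃ ι : B ⟶ pullback σ₁ σ₂, IsClosedImmersion ι ∧ ι ≫ pullback.fst σ₁ σ₂ ≫ σ₁ = σ := by
  have hinf : I₁ ⊓ I₂ = I₁ * I₂ := by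
    refine Scheme.IdealSheafData.ext (funext fun U => ?_)
    have hs : I₁.ideal U ⊔ I₂.ideal U = ⊤ := by
      have := congr(($hdisj).ideal U)
      simpa using this
    simp only [Scheme.IdealSheafData.ideal_inf, Scheme.IdealSheafData.ideal_mul, Pi.inf_apply, Pi.mul_apply]
    exact (Ideal.inf_eq_mul_of_isCoprime (Ideal.isCoprime_iff_sup_eq.mpr hs))
  rw [hinf] at hσ
  let π : pullback σ₁ σ₂ ⟶ X := pullback.fst σ₁ σ₂ ≫ σ₁
  have hsupp : ∀ x : X, x ∉ I₁.support ∨ x ∉ I₂.support := by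
    intro x
    by_contra h
    push Not at h
    obtain ⟨U, hU, hxU, -⟩ := exists_isAffineOpen_mem_and_subset (X := X) (U := ⊤) (trivial : x ∈ (⊤ : X.Opens))
    have h1 := (I₁.mem_support_iff_of_mem (U := ⟨U, hU⟩) hxU).mp h.1
    have h2 := (I₂.mem_support_iff_of_mem (U := ⟨U, hU⟩) hxU).mp h.2
    rw [Scheme.mem_zeroLocus_iff] at h1 h2
    have hs : I₁.ideal ⟨U, hU⟩ ⊔ I₂.ideal ⟨U, hU⟩ = ⊤ := by
      have := congr(($hdisj).ideal ⟨U, hU⟩)
      simpa using this
    obtain ⟨a, ha, b, hb, hab⟩ := Submodule.mem_sup.mp ((by rw [hs]; trivial) : (1 : Γ(X, U)) ∈ I₁.ideal ⟨U, hU⟩ ⊔ I₂.ideal ⟨U, hU⟩)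
    have := (X.basicOpen_le (1 : Γ(X, U)))
    have hu : IsUnit (X.presheaf.germ U x hxU a + X.presheaf.germ U x hxU b) := by
      rw [← map_add, hab, map_one]
      exact isUnit_one
    rcases IsLocalRing.isUnit_or_isUnit_of_isUnit_add hu with hh | hh
    · exact h1 a ha ((Scheme.mem_basicOpen _ _ _ hxU).mpr hh)
    · exact h2 b hb ((Scheme.mem_basicOpen _ _ _ hxU).mpr hh)
  have piece : ∀ {A C : Scheme.{u}} {a : A ⟶ X} {c : C ⟶ X} {I J : X.IdealSheafData} {P : Scheme.{u}} {p : P ⟶ A} {q : P ⟶ C},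
      IsPullback p q a c → BlowUp.IsBlowUp a I → BlowUp.IsBlowUp c J →
      ∀ O : P.Opens, O = (p ≫ a) ⁻¹ᵁ J.support.compl →
        BlowUp.IsEffCartierIdeal (((I * J).comap (p ≫ a)).comap O.ι) := by
    intro A C a c I J P p q h ha hc O hO
    haveI := Groth.Agent.BlowUpLib.isIso_restrict hc
    haveI : IsOpenImmersion ((c ⁻¹ᵁ J.support.compl).ι ≫ c) := by
      rw [← morphismRestrict_ι]; infer_instance
    obtain rfl : O = q ⁻¹ᵁ (c ⁻¹ᵁ J.support.compl) := by
      rw [hO, h.w]
      rfl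
    have hsq := (isPullback_morphismRestrict q (c ⁻¹ᵁ J.support.compl)).flip.paste_horiz h
    haveI : IsOpenImmersion ((q ⁻¹ᵁ (c ⁻¹ᵁ J.support.compl)).ι ≫ p) := MorphismProperty.of_isPullback hsq.flip inferInstance
    rw [Groth.Agent.BlowUpLib.comap_mul, Groth.Agent.BlowUpLib.comap_mul, ← Scheme.IdealSheafData.comap_comp, ← Scheme.IdealSheafData.comap_comp]
    refine Groth.Agent.BlowUpLib.cartier_mul ?_ ?_
    · rw [← Category.assoc, Scheme.IdealSheafData.comap_comp]
      exact Groth.Agent.BlowUpLib.cartier_comap_flat ha.1 _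
    · rw [Groth.Agent.BlowUpLib.comap_eq_top J _ fun z => ?_]
      · exact Groth.Agent.BlowUpLib.cartier_top
      · show (p ≫ a) _ ∉ _
        rw [h.w]
        exact z.2
  have hP : BlowUp.IsBlowUp π (I₁ * I₂) := by
    refine ⟨?_, fun Y g hg => ?_⟩
    · refine Groth.Agent.ModPairCoprod.cartier_of_cover (Scheme.openCoverOfIsOpenCover _ (fun b : ULift.{u} Bool => if b.down then π ⁻¹ᵁ I₂.support.compl else π ⁻¹ᵁ I₁.support.compl) ?_) ?_
      · refine IsOpenCover.mk (top_le_iff.mp fun x _ => ?_)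
        rcases hsupp (π x) with hh | hh
        · exact Opens.mem_iSup.mpr ⟨⟨false⟩, hh⟩
        · exact Opens.mem_iSup.mpr ⟨⟨true⟩, hh⟩
      · rintro ⟨b⟩
        cases b
        · show BlowUp.IsEffCartierIdeal (((I₁ * I₂).comap π).comap (π ⁻¹ᵁ I₁.support.compl).ι)
          have := piece (IsPullback.of_hasPullback σ₁ σ₂).flip hσ₂ hσ₁ (π ⁻¹ᵁ I₁.support.compl) (by rw [← pullback.condition])
          rw [mul_comm, show π = pullback.snd σ₁ σ₂ ≫ σ₂ from pullback.condition]
          rw [show π = pullback.snd σ₁ σ₂ ≫ σ₂ from pullback.condition] at this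
          exact this
        · show BlowUp.IsEffCartierIdeal (((I₁ * I₂).comap π).comap (π ⁻¹ᵁ I₂.support.compl).ι)
          exact piece (IsPullback.of_hasPullback σ₁ σ₂) hσ₁ hσ₂ _ rfl
    · rw [Groth.Agent.BlowUpLib.comap_mul] at hg
      obtain ⟨h1, hh1, hu1⟩ := hσ₁.2 Y g (Groth.Agent.BlowUpLib.cartier_of_mul_left hg)
      obtain ⟨h2, hh2, hu2⟩ := hσ₂.2 Y g (Groth.Agent.BlowUpLib.cartier_of_mul_right hg)
      refine ⟨pullback.lift h1 h2 (hh1.trans hh2.symm), by simp [π, hh1], fun k hk => ?_⟩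
      apply pullback.hom_ext
      · rw [pullback.lift_fst]
        exact hu1 _ (show (k ≫ pullback.fst σ₁ σ₂) ≫ σ₁ = g from (Category.assoc _ _ _).trans hk)
      · rw [pullback.lift_snd]
        refine hu2 _ ?_
        show (k ≫ pullback.snd σ₁ σ₂) ≫ σ₂ = g
        rw [Category.assoc, ← pullback.condition]
        exact hk
  obtain ⟨u, hu, -⟩ := hP.2 B σ hσ.1
  obtain ⟨v, hv, -⟩ := hσ.2 _ π hP.1
  have : IsIso u := ⟨v, (hσ.2 B σ hσ.1).unique (by rw [Category.assoc, hv, hu]) (Category.id_comp _),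
    (hP.2 _ π hP.1).unique (by rw [Category.assoc, hu, hv]) (Category.id_comp _)⟩
  exact ⟨u, inferInstance, hu⟩

end Groth.Agent.S17083
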