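import Groth.Statements.S17084
import Mathlib.AlgebraicGeometry.Limits
import Mathlib.AlgebraicGeometry.PullbackCarrier

set_option autoImplicit false
set_option backward.isDefEq.respectTransparency false
set_option linter.style.haveILetI false
universe u
open CategoryTheory CategoryTheory.Limits AlgebraicGeometry
open MorSch

namespace Groth.Agent.S17084

lemma eq_of_ι_eq {I : Type u} {Z : I → Scheme.{u}} {i j : I} {x : Z i} {y : Z j}
    (h : Sigma.ι Z i x = Sigma.ι Z j y) : i = j := by
  rw [← sigmaMk_mk Z i x, ← sigmaMk_mk Z j y] at h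
  exact congrArg Sigma.fst ((sigmaMk Z).injective h)

/-- Let (X_i)_{i ∈ ι} be a finite family of schemes over S with structure morphisms g_i : X_i → S, let Y
→ S be a scheme over S and T an S-scheme. Then for every family of S-morphisms a_i : T ×_S X_i → Y
there is a unique S-morphism b : T ×_S (∐_i X_i) → Y whose restriction along each T ×_S X_i → T ×_S
(∐_i X_i) is a_i. In other words the canonical map Mor_S(∐_i X_i, Y) → ∏_i Mor_S(X_i, Y) of functors
on S-schemes is an isomorphism. -/
theorem result
    {S Y : Scheme.{u}} {ι : Type u} [Finite ι] (X : ι → Scheme.{u}) (g : ∀ i, X i ⟶ S)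
    (gY : Y ⟶ S) (T : Over S) (a : ∀ i, (Flatn.morS (g i) gY).obj (Opposite.op T)) :
    ∃! b : (Flatn.morS (Sigma.desc g) gY).obj (Opposite.op T),
      ∀ i, pullback.map T.hom (g i) T.hom (Sigma.desc g) (𝟙 T.left) (Sigma.ι X i) (𝟙 S)
          ((Category.comp_id _).trans (Category.id_comp _).symm)
          ((Category.comp_id _).trans (Sigma.ι_desc g i).symm) ≫ b.left = (a i).left := by
  classical
  let P := pullback T.hom (Sigma.desc g)
  let m : ∀ i, pullback T.hom (g i) ⟶ P := fun i =>
    pullback.map T.hom (g i) T.hom (Sigma.desc g) (𝟙 T.left) (Sigma.ι X i) (𝟙 S)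
          ((Category.comp_id _).trans (Category.id_comp _).symm)
          ((Category.comp_id _).trans (Sigma.ι_desc g i).symm)
  have hm1 : ∀ i, m i ≫ pullback.fst _ _ = pullback.fst _ _ := fun i => by simp [m, P]
  have hm2 : ∀ i, m i ≫ pullback.snd _ _ = pullback.snd _ _ ≫ Sigma.ι X i := fun i => by simp [m, P]
  have hpb : ∀ i, IsPullback (pullback.snd T.hom (g i)) (m i) (Sigma.ι X i) (pullback.snd T.hom (Sigma.desc g)) := fun i =>
    IsPullback.of_bot (by
      rw [hm1, Sigma.ι_desc]
      exact (IsPullback.of_hasPullback T.hom (g i)).flip) (hm2 i).symm (IsPullback.of_hasPullback T.hom (Sigma.desc g)).flip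
  have hom : ∀ i, IsOpenImmersion (m i) := fun i => MorphismProperty.of_isPullback (hpb i) inferInstance
  have hidx : ∀ {i j} (y : ↥(pullback T.hom (g i))) (z : ↥(pullback T.hom (g j))), m i y = m j z → i = j := by
    intro i j y z h
    refine eq_of_ι_eq (x := pullback.snd T.hom (g i) y) (y := pullback.snd T.hom (g j) z) ?_
    have h1 := congr($(hm2 i) y)
    have h2 := congr($(hm2 j) z)
    simp only [Scheme.Hom.comp_apply] at h1 h2
    rw [← h1, ← h2, h]
  let 𝒰 : P.OpenCover := Scheme.Cover.mkOfCovers ι _ m (fun x => by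
      obtain ⟨⟨i, y⟩, hy⟩ := (sigmaMk X).surjective (pullback.snd T.hom (Sigma.desc g) x)
      rw [sigmaMk_mk] at hy
      obtain ⟨w, -, hw⟩ := Scheme.exists_preimage_of_isPullback (hpb i) y x hy
      exact ⟨i, w, hw⟩) hom
  have hcomp : ∀ i j, pullback.fst (m i) (m j) ≫ (a i).left = pullback.snd (m i) (m j) ≫ (a j).left := by
    intro i j
    by_cases h : i = j
    · subst h
      haveI := hom i
      rw [(cancel_mono (m i)).mp pullback.condition]
    · haveI : IsEmpty ↥(pullback (m i) (m j)) := ⟨fun z => h (hidx (pullback.fst (m i) (m j) z) (pullback.snd (m i) (m j) z) (by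
        simpa only [Scheme.Hom.comp_apply] using congr($(pullback.condition (f := m i) (g := m j)) z)))⟩
      exact isInitialOfIsEmpty.hom_ext _ _
  have hw : ∀ i, (a i).left ≫ gY = pullback.snd T.hom (g i) ≫ g i := fun i => Over.w (a i)
  refine ⟨Over.homMk (𝒰.glueMorphisms (fun i => (a i).left) hcomp) ?_, fun i => 𝒰.ι_glueMorphisms _ hcomp i, fun b hb => ?_⟩
  · refine 𝒰.hom_ext _ _ fun i => ?_
    show m i ≫ 𝒰.glueMorphisms (fun i => (a i).left) hcomp ≫ gY = m i ≫ pullback.snd T.hom (Sigma.desc g) ≫ Sigma.desc g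
    rw [reassoc_of% (hm2 i), Sigma.ι_desc, ← hw]
    exact 𝒰.ι_glueMorphisms_assoc _ hcomp i _
  · refine Over.OverMorphism.ext (𝒰.hom_ext _ _ fun i => ?_)
    exact (hb i).trans (𝒰.ι_glueMorphisms _ hcomp i).symm

end Groth.Agent.S17084
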