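import Groth.Statements.S17085
import Groth.Agent.BendBreak.Fibre
import Groth.Agent.AVRat.AxesSingular
import Groth.Agent.SmoothCompl.Basic
import Groth.Agent.S7826
import Groth.Agent.RegLoc.Normal
import Groth.Agent.DimAffMap.Basic

set_option backward.isDefEq.respectTransparency false
set_option backward.isDefEq.respectTransparency.types false
set_option synthInstance.maxHeartbeats 400000
set_option maxHeartbeats 1000000
set_option linter.style.haveILetI false

set_option autoImplicit false
universe u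
open CategoryTheory CategoryTheory.Limits AlgebraicGeometry
open RatCurve

namespace Groth.Agent.S17085

/-- Let k be an algebraically closed field and C ⊆ P^n_k a closed subscheme which is an integral scheme
of dimension one (a projective curve). Then C is rational — some nonempty open subscheme of C is
isomorphic over k to an open subscheme of the projective line P^1_k — if and only if C is the
scheme-theoretic image of some k-morphism f : P^1_k → P^n_k, i.e. the ideal sheaf of C in P^n_k is
the kernel ideal sheaf of f. -/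
theorem result
    {k : Type u} [Field k] [IsAlgClosed k] {n : ℕ} (C : Scheme.{u})
    (i : C ⟶ CohB1.ProjSpace n k) [IsClosedImmersion i] [IsIntegral C]
    (hdim : topologicalKrullDim C = 1) :
    (∃ (U : C.Opens) (V : (CohB1.ProjSpace 1 k).Opens) (e : (↑U : Scheme.{u}) ≅ ↑V),
        Nonempty U ∧
          e.hom ≫ V.ι ≫ CohB1.ProjSpace.toSpec 1 k = U.ι ≫ i ≫ CohB1.ProjSpace.toSpec n k) ↔
      ∃ f : CohB1.ProjSpace 1 k ⟶ CohB1.ProjSpace n k,
        f ≫ CohB1.ProjSpace.toSpec n k = CohB1.ProjSpace.toSpec 1 k ∧ f.ker = i.ker := by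
  let P := CohB1.ProjSpace n k
  let P₁ := CohB1.ProjSpace 1 k
  let sC : C ⟶ Spec (CommRingCat.of k) := i ≫ CohB1.ProjSpace.toSpec n k
  let s₁ : P₁ ⟶ Spec (CommRingCat.of k) := CohB1.ProjSpace.toSpec 1 k
  haveI := ProjMor.isProper_toSpec n k
  haveI : IsProper sC := inferInstanceAs (IsProper (i ≫ CohB1.ProjSpace.toSpec n k))
  haveI : IsProper s₁ := ProjMor.isProper_toSpec 1 k
  haveI : IsLocallyNoetherian C := LocallyOfFiniteType.isLocallyNoetherian sC
  haveI : IsIntegral P₁ := Groth.Agent.Horrocks.isIntegral_projSpace (n := 1) (k := k)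
  haveI : IsLocallyNoetherian P₁ := LocallyOfFiniteType.isLocallyNoetherian s₁
  haveI : Smooth s₁ := Groth.Agent.CycPB.smooth_toSpec 1 k
  have hval : ∀ y ∈ (Set.univ : Set P₁), ∃ _ : IsDomain (P₁.presheaf.stalk y),
      ValuationRing (P₁.presheaf.stalk y) := fun y _ =>
    Groth.Agent.RatExt.domain_valuationRing_of_regular
      (Groth.Agent.WeilExt.regular_of_smooth (Groth.Agent.WeilExt.regular_spec (R := k)) s₁ y)
      (Groth.Agent.BendBreak.dim_le_one_p1 y)
  -- extension of rational maps from the line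
  have ext₁ : ∀ {Y : Scheme.{u}} (q : Y ⟶ Spec (CommRingCat.of k)) (_ : IsProper q) (V : P₁.Opens)
      (_ : (V : Set P₁).Nonempty) (h : V.toScheme ⟶ Y), h ≫ q = V.ι ≫ s₁ →
      ∃ g : P₁ ⟶ Y, g ≫ q = s₁ ∧ V.ι ≫ g = h := by
    intro Y q hq V hV h hh
    haveI := hq
    obtain ⟨W, hVW, h', hh', hres, hWall⟩ := Groth.Agent.RatExt.exists_hom_points q s₁ V (V.2.dense hV) h hh
      Set.univ hval
    obtain rfl : W = ⊤ := eq_top_iff.2 fun y _ => hWall y trivial
    refine ⟨P₁.topIso.inv ≫ h', ?_, ?_⟩
    · rw [Category.assoc, hh', ← Scheme.topIso_hom, Iso.inv_hom_id_assoc]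
    · have h1 : V.ι ≫ P₁.topIso.inv = P₁.homOfLE hVW := by
        rw [Iso.comp_inv_eq, Scheme.topIso_hom, Scheme.homOfLE_ι]
      rw [reassoc_of% h1, hres]
  constructor
  · rintro ⟨U, V, e, hU, he⟩
    obtain ⟨u₀⟩ := hU
    obtain ⟨g, hg, hgV⟩ := ext₁ sC inferInstance V ⟨_, (e.hom u₀).2⟩ (e.inv ≫ U.ι) (by
      rw [Category.assoc]
      exact ((Iso.eq_inv_comp e).2 he).symm)
    have hrange : (U : Set C) ⊆ Set.range g := fun x hx => by
      refine ⟨V.ι (e.hom ⟨x, hx⟩), ?_⟩
      rw [← Scheme.Hom.comp_apply, hgV, ← Scheme.Hom.comp_apply, Iso.hom_inv_id_assoc]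
      rfl
    haveI : IsDominant g := ⟨fun x => closure_mono hrange ((U.2.dense ⟨_, u₀.2⟩) x)⟩
    haveI := IsSchemeTheoreticallyDominant.of_isDominant g
    refine ⟨g ≫ i, by rw [Category.assoc]; exact hg, ?_⟩
    rw [Scheme.Hom.ker_comp, g.ker_eq_bot, Scheme.IdealSheafData.map_bot]
  · rintro ⟨f, hf, hker⟩
    let g : P₁ ⟶ C := IsClosedImmersion.lift i f hker.ge
    have hgi : g ≫ i = f := IsClosedImmersion.lift_fac _ _ _
    have hg : g ≫ sC = s₁ := by
      rw [show g ≫ sC = (g ≫ i) ≫ CohB1.ProjSpace.toSpec n k from (Category.assoc _ _ _).symm, hgi]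
      exact hf
    haveI : IsProper (g ≫ sC) := hg ▸ inferInstance
    haveI : IsProper g := IsProper.of_comp g sC
    haveI : IsProper f := hgi ▸ inferInstance
    have hsurj : Function.Surjective g := fun x => by
      have h1 : i x ∈ closure (Set.range f) := by
        rw [← f.support_ker, hker, i.support_ker]
        exact subset_closure ⟨x, rfl⟩
      rw [(f.isClosedMap.isClosed_range).closure_eq] at h1
      obtain ⟨p, hp⟩ := h1
      refine ⟨p, i.isClosedEmbedding.injective ?_⟩
      rw [← Scheme.Hom.comp_apply, hgi, hp]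
    haveI : IsIntegral (Over.mk sC).left := inferInstanceAs (IsIntegral C)
    haveI : IsProper (Over.mk sC).hom := inferInstanceAs (IsProper sC)
    obtain ⟨U, j, pt, hj, hUi, hUs, hUsep, hUqc, -⟩ := Groth.Agent.AVRat.exists_smooth_open (Over.mk sC)
    let O : C.Opens := j.left.opensRange
    let eO : U.left ≅ O.toScheme := j.left.isoOpensRange
    have hne : (O : Set C).Nonempty := ⟨_, pt.left (IsLocalRing.closedPoint k), rfl⟩
    haveI := hUi
    haveI := hUs
    haveI := hUsep
    haveI := hUqc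
    have hUdim : topologicalKrullDim U.left = 1 := by
      rw [← hdim, ← Groth.Agent.DimAffMap.dim_opens sC O (O.2.dense hne)]
      exact IsHomeomorph.topologicalKrullDim_eq _ eO.hom.homeomorph.isHomeomorph
    obtain ⟨Y, q, jY, hjY, hjq, hYi, hYs, hYdim, m, iY, hiY, hiYq⟩ :=
      Groth.Agent.SmoothCompl.exists_completion U.hom hUdim
    haveI := hjY
    haveI := hYi
    haveI := hYs
    haveI : IsProper q := by
      rw [← hiYq]
      haveI := hiY
      haveI := ProjMor.isProper_toSpec m k
      infer_instance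
    -- the rational map from the line to the completion
    let V : P₁.Opens := g ⁻¹ᵁ O
    let h : V.toScheme ⟶ Y := g ∣_ O ≫ eO.inv ≫ jY
    have hh : h ≫ q = V.ι ≫ s₁ := by
      have h1 : eO.inv ≫ j.left = O.ι := j.left.isoOpensRange_inv_comp
      have h2 : j.left ≫ sC = U.hom := Over.w j
      simp only [h, Category.assoc, hjq, ← h2, reassoc_of% h1, morphismRestrict_ι_assoc, hg]
      rfl
    obtain ⟨p₀, hp₀⟩ := hsurj hne.some
    obtain ⟨φ, hφ, hφV⟩ := ext₁ q inferInstance V ⟨p₀, show g p₀ ∈ O from hp₀ ▸ hne.some_mem⟩ h hh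
    -- it is not constant
    have hnc : ∃ a b : P₁, φ a ≠ φ b := by
      by_contra hc
      push Not at hc
      have hsub : ∀ u u' : U.left, u = u' := fun u u' => by
        have key : ∀ u : U.left, ∃ a : P₁, φ a = jY u := fun u => by
          obtain ⟨a, ha⟩ := hsurj (eO.hom u).1
          have haV : a ∈ V := show g a ∈ O from ha ▸ (eO.hom u).2
          refine ⟨a, ?_⟩
          have h3 : (g ∣_ O) ⟨a, haV⟩ = eO.hom u := Subtype.ext ((morphismRestrict_base_coe g O _).trans ha)
          calc φ a = (V.ι ≫ φ) ⟨a, haV⟩ := rfl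
            _ = jY (eO.inv ((g ∣_ O) ⟨a, haV⟩)) := by rw [hφV]; rfl
            _ = jY u := by rw [h3, ← Scheme.Hom.comp_apply eO.hom eO.inv, Iso.hom_inv_id]; rfl
        obtain ⟨a, ha⟩ := key u
        obtain ⟨b, hb⟩ := key u'
        exact jY.isOpenEmbedding.injective (ha.symm.trans ((hc a b).trans hb))
      haveI : Subsingleton U.left := ⟨hsub⟩
      have h0 : topologicalKrullDim U.left ≤ 0 := by
        rw [topologicalKrullDim, Order.krullDim_nonpos_iff_forall_isMax]
        intro a b _
        refine le_of_eq (TopologicalSpace.IrreducibleCloseds.ext (Set.ext fun x => ?_))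
        obtain ⟨y, hy⟩ := a.isIrreducible.nonempty
        obtain ⟨z, hz⟩ := b.isIrreducible.nonempty
        exact ⟨fun _ => Subsingleton.elim y x ▸ hy, fun _ => Subsingleton.elim z x ▸ hz⟩
      rw [hUdim] at h0
      exact absurd h0 (by decide)
    have hN : Pi1.IsNormalScheme Y := fun y => by
      haveI := Groth.Agent.WeilExt.regular_of_smooth (Groth.Agent.WeilExt.regular_spec (R := k)) q y
      haveI : IsLocallyNoetherian Y := LocallyOfFiniteType.isLocallyNoetherian q
      exact ⟨inferInstance, Groth.Agent.RegLoc.isIntegrallyClosed⟩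
    haveI : ConnectedSpace Y := inferInstance
    obtain ⟨e₁, he₁⟩ := Groth.Agent.S7826.result k q hN hYdim φ hφ hnc
    -- the open subscheme
    haveI : IsOpenImmersion (jY ≫ e₁.hom) := inferInstance
    refine ⟨O, (jY ≫ e₁.hom).opensRange, eO.symm ≪≫ (jY ≫ e₁.hom).isoOpensRange, ⟨⟨_, hne.some_mem⟩⟩, ?_⟩
    have h1 : eO.inv ≫ j.left = O.ι := j.left.isoOpensRange_inv_comp
    have h2 : j.left ≫ sC = U.hom := Over.w j
    rw [Iso.trans_hom, Iso.symm_hom, Category.assoc, Scheme.Hom.isoOpensRange_hom_ι_assoc, Category.assoc, he₁,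
      hjq, ← h2, reassoc_of% h1]

end Groth.Agent.S17085
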