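import Groth.Statements.S17086
import Groth.Agent.BendBreak.Fibre
import Groth.Agent.BlowUpExist.Proper

set_option backward.isDefEq.respectTransparency false
set_option backward.isDefEq.respectTransparency.types false

set_option autoImplicit false
universe u
open CategoryTheory CategoryTheory.Limits AlgebraicGeometry
open RatCurve

namespace Groth.Agent.S17086

/-- Let k be an algebraically closed field, X a closed subscheme of P^n_k, Z ⊆ X a closed subscheme and
σ : B → X a blow-up of X along Z (the inverse image ideal of Z is effective Cartier and σ is final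
with this property). Then every k-morphism f : P^1_k → X whose image is not contained in Z lifts
uniquely along σ: there is exactly one morphism g : P^1_k → B with g ≫ σ = f. Equivalently, over the
open locus of morphisms meeting X ∖ Z, the morphism Mor(P^1_k, B) → Mor(P^1_k, X) induced by σ is a
bijection on k-points. -/
theorem result
    {k : Type u} [Field k] [IsAlgClosed k] {n : ℕ} (X : Scheme.{u})
    (c : X ⟶ CohB1.ProjSpace n k) [IsClosedImmersion c]
    (Z : Scheme.{u}) (iZ : Z ⟶ X) [IsClosedImmersion iZ]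
    (B : Scheme.{u}) (σ : B ⟶ X) (hσ : BlowUp.IsBlowUp σ iZ.ker)
    (f : CohB1.ProjSpace 1 k ⟶ X)
    (hf : f ≫ c ≫ CohB1.ProjSpace.toSpec n k = CohB1.ProjSpace.toSpec 1 k)
    (hfZ : ¬ Set.range f ⊆ Set.range iZ) :
    ∃! g : CohB1.ProjSpace 1 k ⟶ B, g ≫ σ = f := by
  haveI := Groth.Agent.Horrocks.isIntegral_projSpace (n := 1) (k := k)
  haveI := ProjMor.isProper_toSpec n k
  haveI := ProjMor.isProper_toSpec 1 k
  haveI : IsLocallyNoetherian X := LocallyOfFiniteType.isLocallyNoetherian (c ≫ CohB1.ProjSpace.toSpec n k)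
  haveI : IsLocallyNoetherian (CohB1.ProjSpace 1 k) :=
    LocallyOfFiniteType.isLocallyNoetherian (CohB1.ProjSpace.toSpec 1 k)
  haveI : IsProper σ := Groth.Agent.BlowUpExist.isProper_of_isFiniteType hσ fun U =>
    haveI := IsLocallyNoetherian.component_noetherian U
    IsNoetherian.noetherian _
  let O : X.Opens := iZ.ker.support.compl
  haveI : IsIso (σ ∣_ O) := Groth.Agent.BlowUpLib.isIso_restrict hσ
  have hne : (f ⁻¹ᵁ O : Set (CohB1.ProjSpace 1 k)).Nonempty := by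
    obtain ⟨_, ⟨p, rfl⟩, hp⟩ := Set.not_subset.1 hfZ
    refine ⟨p, fun h => hp ?_⟩
    have h2 : f p ∈ closure (Set.range iZ) := iZ.support_ker ▸ h
    rwa [iZ.isClosedEmbedding.isClosed_range.closure_eq] at h2
  haveI := Groth.Agent.CycPB.smooth_toSpec 1 k
  obtain ⟨g, hg⟩ := Groth.Agent.BendBreak.exists_lift σ O
    (Groth.Agent.WeilExt.regular_of_smooth (Groth.Agent.WeilExt.regular_spec (R := k)) (CohB1.ProjSpace.toSpec 1 k))
    Groth.Agent.BendBreak.dim_le_one_p1 f hne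
  refine ⟨g, hg, fun g' hg' => ?_⟩
  have key : ∀ g₀ : CohB1.ProjSpace 1 k ⟶ B, g₀ ≫ σ = f →
      (f ⁻¹ᵁ O).ι ≫ g₀ = (f ∣_ O) ≫ inv (σ ∣_ O) ≫ (σ ⁻¹ᵁ O).ι := fun g₀ h₀ => by
    let l : (f ⁻¹ᵁ O).toScheme ⟶ (σ ⁻¹ᵁ O).toScheme :=
      IsOpenImmersion.lift (σ ⁻¹ᵁ O).ι ((f ⁻¹ᵁ O).ι ≫ g₀) (by
        rw [Scheme.Opens.range_ι]
        rintro _ ⟨z, rfl⟩
        show σ (g₀ ((f ⁻¹ᵁ O).ι z)) ∈ O
        rw [← Scheme.Hom.comp_apply, h₀]
        exact z.2)
    have hl : l ≫ (σ ⁻¹ᵁ O).ι = (f ⁻¹ᵁ O).ι ≫ g₀ := IsOpenImmersion.lift_fac _ _ _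
    have hl2 : l ≫ (σ ∣_ O) = f ∣_ O := by
      rw [← cancel_mono O.ι, Category.assoc, morphismRestrict_ι, reassoc_of% hl, h₀, morphismRestrict_ι]
    rw [← hl, ← hl2, Category.assoc, IsIso.hom_inv_id_assoc]
  haveI : IsDominant (f ⁻¹ᵁ O).ι := ⟨by
    rw [DenseRange, Scheme.Opens.range_ι]
    exact (f ⁻¹ᵁ O).2.dense hne⟩
  exact ext_of_isDominant_of_isSeparated σ (hg'.trans hg.symm) (f ⁻¹ᵁ O).ι ((key g' hg').trans (key g hg).symm)

end Groth.Agent.S17086
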