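import Groth.Statements.S17087
import Groth.Agent.FreeCurve.MorRep

set_option backward.isDefEq.respectTransparency false
set_option backward.isDefEq.respectTransparency.types false
set_option maxHeartbeats 1000000

set_option autoImplicit false
universe u
open CategoryTheory CategoryTheory.Limits AlgebraicGeometry
open MorSch

namespace Groth.Agent.S17087

/-- Let S be a locally Noetherian scheme, gX : X → S proper and flat, gY : Y → S separated, and (H, Z) a
pair representing the Hilbert functor of X ×_S Y over S on locally Noetherian S-schemes (H locally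
Noetherian; Z ⊆ (X ×_S Y) ×_S H closed, proper and flat over H; universal). For an S-morphism a : T
×_S X → Y write Γ_a : T ×_S X → (X ×_S Y) ×_S T for its graph, a closed immersion. Then there is an
open subset H₀ of H such that, for every locally Noetherian S-scheme T: every S-morphism a : T ×_S X
→ Y has exactly one S-morphism g : T → H with image in H₀ along which Z pulls back to the closed
subscheme defined by Γ_a; and every S-morphism g : T → H with image in H₀ pulls Z back to the graph
of exactly one such a. Thus the functor Mor_S(X, Y) on locally Noetherian S-schemes is represented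
by the open subscheme H₀ of the Hilbert scheme of X ×_S Y, the universal family being a graph.
(Published for X and Y projective over S, with X flat; the Hilbert scheme is taken as given here.
The published statement also asserts that each irreducible component of the representing scheme is
of finite type over S; that clause is not part of this row.) -/
theorem result
    {X Y S : Scheme.{u}} [IsLocallyNoetherian S] (gX : X ⟶ S) [IsProper gX] [Flat gX]
    (gY : Y ⟶ S) [IsSeparated gY]
    (H : Over S) (Z : FGA.HilbSet (pullback.fst gX gY ≫ gX) H)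
    (hH : FGA.HilbRepresentedBy (pullback.fst gX gY ≫ gX) H Z) :
    ∃ H₀ : H.left.Opens, ∀ (T : Over S) [IsLocallyNoetherian T.left],
      (∀ a : (Flatn.morS gX gY).obj (Opposite.op T),
        ∃! g : T ⟶ H, Set.range g.left ⊆ (H₀ : Set H.left) ∧
          FGA.hilbPull (pullback.fst gX gY ≫ gX) g Z.1 =
            (pullback.lift
              (pullback.lift (pullback.snd T.hom gX) a.left (Over.w a).symm)
              (pullback.fst T.hom gX)
              ((pullback.lift_fst_assoc _ _ _ _).trans pullback.condition.symm)
              : pullback T.hom gX ⟶ PicF.XT (pullback.fst gX gY ≫ gX) T).ker) ∧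
      (∀ g : T ⟶ H, Set.range g.left ⊆ (H₀ : Set H.left) →
        ∃! a : (Flatn.morS gX gY).obj (Opposite.op T),
          FGA.hilbPull (pullback.fst gX gY ≫ gX) g Z.1 =
            (pullback.lift
              (pullback.lift (pullback.snd T.hom gX) a.left (Over.w a).symm)
              (pullback.fst T.hom gX)
              ((pullback.lift_fst_assoc _ _ _ _).trans pullback.condition.symm)
              : pullback T.hom gX ⟶ PicF.XT (pullback.fst gX gY ≫ gX) T).ker) := by
  obtain ⟨H₀, v, ⟨-, huniv⟩, hpull, hland⟩ := FreeCurve.exists_open_locus H Z hH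
  refine ⟨H₀, fun T _ => ?_⟩
  let σ : PicF.XT gX T ≅ pullback T.hom gX := pullbackSymmetry gX T.hom
  let toObj : (Flatn.morS gX gY).obj (Opposite.op T) → MorSch.Obj gX gY T := fun a =>
    ⟨σ.hom ≫ a.left, by
      rw [Category.assoc, show a.left ≫ gY = pullback.snd T.hom gX ≫ gX from Over.w a]
      simp [σ]⟩
  let toMor : MorSch.Obj gX gY T → (Flatn.morS gX gY).obj (Opposite.op T) := fun φ =>
    Over.homMk (σ.inv ≫ φ.1) (by
      show (σ.inv ≫ φ.1) ≫ gY = pullback.snd T.hom gX ≫ gX
      rw [Category.assoc, φ.2]
      simp [σ])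
  have hker : ∀ a : (Flatn.morS gX gY).obj (Opposite.op T),
      (pullback.lift (pullback.lift (pullback.snd T.hom gX) a.left (Over.w a).symm) (pullback.fst T.hom gX)
        ((pullback.lift_fst_assoc _ _ _ _).trans pullback.condition.symm) :
          pullback T.hom gX ⟶ PicF.XT (pullback.fst gX gY ≫ gX) T).ker =
        (FreeCurve.gr (toObj a)).ker := fun a => by
    rw [← Scheme.Hom.ker_comp_of_isIso σ.hom]
    refine congrArg Scheme.Hom.ker ?_
    apply pullback.hom_ext
    · apply pullback.hom_ext <;> simp [FreeCurve.gr, toObj, σ]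
    · simp [FreeCurve.gr, σ]
  have hinj : ∀ a b, toObj a = toObj b → a = b := fun a b h =>
    Over.OverMorphism.ext ((cancel_epi σ.hom).1 (congrArg (fun φ : MorSch.Obj gX gY T => φ.1) h))
  let j : Over.mk (H₀.ι ≫ H.hom) ⟶ H := Over.homMk H₀.ι rfl
  have hfac : ∀ g : T ⟶ H, Set.range g.left ⊆ (H₀ : Set H.left) → ∃ g₀ : T ⟶ Over.mk (H₀.ι ≫ H.hom), g₀ ≫ j = g :=
    fun g hg => ⟨Over.homMk (IsOpenImmersion.lift H₀.ι g.left (hg.trans H₀.range_ι.ge)) (by
      show IsOpenImmersion.lift H₀.ι g.left _ ≫ H₀.ι ≫ H.hom = _
      rw [← Category.assoc, IsOpenImmersion.lift_fac, Over.w g]), Over.OverMorphism.ext (IsOpenImmersion.lift_fac _ _ _)⟩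
  constructor
  · intro a
    obtain ⟨g₀, hg₀, hu⟩ := huniv T (toObj a)
    refine ⟨g₀ ≫ j, ⟨?_, ?_⟩, ?_⟩
    · rintro _ ⟨t, rfl⟩
      exact (H₀.range_ι).le ⟨g₀.left t, rfl⟩
    · rw [hpull T g₀, hg₀]
      exact (hker a).symm
    · rintro g ⟨hg, hgp⟩
      obtain ⟨g₁, rfl⟩ := hfac g hg
      rw [hker a, hpull T g₁] at hgp
      rw [hu g₁ (FreeCurve.gr_ker_injective hgp)]
  · intro g hg
    obtain ⟨g₀, rfl⟩ := hfac g hg
    have hto : toObj (toMor (MorSch.pull gX gY g₀ v)) = MorSch.pull gX gY g₀ v :=
      MorSch.Obj.ext (σ.hom_inv_id_assoc _)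
    refine ⟨toMor (MorSch.pull gX gY g₀ v), ?_, fun b hb => ?_⟩
    · show FGA.hilbPull _ _ _ = _
      rw [hker, hto, hpull T g₀]
    · have h1 : (FreeCurve.gr (MorSch.pull gX gY g₀ v)).ker = (FreeCurve.gr (toObj b)).ker :=
        (hpull T g₀).symm.trans (hb.trans (hker b))
      exact hinj _ _ ((FreeCurve.gr_ker_injective h1).symm.trans hto.symm)

end Groth.Agent.S17087
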