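import Groth.Statements.S17088
import Mathlib.AlgebraicGeometry.Morphisms.Immersion
import Mathlib.AlgebraicGeometry.ZariskisMainTheorem
-- import your own Groth.Agent.* helpers here

set_option autoImplicit false
universe u
open CategoryTheory CategoryTheory.Limits AlgebraicGeometry
open MorSch

namespace Groth.Agent.S17088

/-- Let f : X → S be a separated morphism, ι : W → X an immersion and T an S-scheme. For every closed
subscheme V of W ×_S T which is proper and flat over T — a T-point of the Hilbert functor of W over
S — the composite V → W ×_S T → X ×_S T is a closed immersion, and the map sending V to the ideal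
sheaf of this composite, from T-points of the Hilbert functor of W to ideal sheaves on X ×_S T, is
injective: an immersion induces a monomorphism of Hilbert functors. -/
theorem result
    {W X S : Scheme.{u}} (f : X ⟶ S) [IsSeparated f] (ι : W ⟶ X) [IsImmersion ι]
    (T : Over S) :
    (∀ V : FGA.HilbSet (ι ≫ f) T,
      IsClosedImmersion (V.1.subschemeι ≫ pullback.map (ι ≫ f) T.hom f T.hom ι (𝟙 T.left) (𝟙 S)
          (Category.comp_id _) ((Category.comp_id _).trans (Category.id_comp _).symm))) ∧
    Function.Injective (fun V : FGA.HilbSet (ι ≫ f) T =>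
      (V.1.subschemeι ≫ pullback.map (ι ≫ f) T.hom f T.hom ι (𝟙 T.left) (𝟙 S)
          (Category.comp_id _) ((Category.comp_id _).trans (Category.id_comp _).symm)).ker) := by
  let m : pullback (ι ≫ f) T.hom ⟶ pullback f T.hom :=
    pullback.map (ι ≫ f) T.hom f T.hom ι (𝟙 T.left) (𝟙 S)
      (Category.comp_id _) ((Category.comp_id _).trans (Category.id_comp _).symm)
  haveI : MorphismProperty.IsStableUnderComposition (@IsImmersion : MorphismProperty Scheme.{u}) :=
    ⟨fun f g hf hg => @IsImmersion.comp _ _ _ f g hf hg⟩
  haveI : IsImmersion m := by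
    apply MorphismProperty.pullbackMap (P := @IsImmersion)
    · assumption
    · infer_instance
    · rfl
    · exact (Category.id_comp _).symm
  have hcl : ∀ V : FGA.HilbSet (ι ≫ f) T, IsClosedImmersion (V.1.subschemeι ≫ m) := by
    intro V
    have e : (V.1.subschemeι ≫ m) ≫ pullback.snd f T.hom =
        V.1.subschemeι ≫ PicF.XTproj (ι ≫ f) T := by
      rw [Category.assoc]
      congr 1
      simp only [m, pullback.map, pullback.lift_snd, Category.comp_id]
    haveI h1 := V.2.1
    haveI : IsProper ((V.1.subschemeι ≫ m) ≫ pullback.snd f T.hom) := by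
      rw [e]; exact h1
    haveI : IsImmersion (V.1.subschemeι ≫ m) := inferInstance
    exact (IsClosedImmersion.iff_isProper_and_mono _).mpr
      ⟨IsProper.of_comp (V.1.subschemeι ≫ m) (pullback.snd f T.hom), inferInstance⟩
  refine ⟨hcl, fun V V' h => Subtype.ext ?_⟩
  have key : ∀ A B : FGA.HilbSet (ι ≫ f) T,
      (A.1.subschemeι ≫ m).ker = (B.1.subschemeι ≫ m).ker → A.1 ≤ B.1 := by
    intro A B hAB
    haveI := hcl A
    obtain ⟨l, hl⟩ : ∃ l, l ≫ (A.1.subschemeι ≫ m) = B.1.subschemeι ≫ m :=
      ⟨IsClosedImmersion.lift _ _ hAB.le, IsClosedImmersion.lift_fac _ _ _⟩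
    rw [← Category.assoc, cancel_mono] at hl
    calc A.1 = A.1.subschemeι.ker := A.1.ker_subschemeι.symm
      _ ≤ (l ≫ A.1.subschemeι).ker := Scheme.Hom.le_ker_comp l A.1.subschemeι
      _ = B.1 := by rw [hl, Scheme.IdealSheafData.ker_subschemeι]
  exact le_antisymm (key V V' h) (key V' V h.symm)

end Groth.Agent.S17088
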