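import Groth.Statements.S17091
import Groth.Agent.UniRad.Exists
-- import your own Groth.Agent.* helpers here

set_option autoImplicit false
set_option backward.isDefEq.respectTransparency false
universe u
open CategoryTheory MonoidalCategory CartesianMonoidalCategory MonObj GrpObj AlgebraicGeometry
open AGF

set_option backward.isDefEq.respectTransparency false

namespace Groth.Agent.S17091
open Groth.Agent

/-- Let k be an algebraically closed field, G an affine, smooth, connected k-group scheme, u : U ⟶ G its
unipotent radical (the largest normal closed subgroup scheme of G, smooth and quasi-compact over k,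
whose geometric fibre is connected and contains no non-trivial subtorus), B a Borel subgroup of G
and v : V ⟶ B the unipotent radical of B. Then U is contained in V: u factors through v. -/
theorem result (k : Type u) [Field k] [IsAlgClosed k]
    (G : Over (Spec (CommRingCat.of k))) [GrpObj G] [IsAffine G.left] [Smooth G.hom] [ConnectedSpace ↥G.left]
    (U : Over (Spec (CommRingCat.of k))) [GrpObj U] (u : U ⟶ G) (hU : Par.IsUnipotentRadical u)
    (B : Over (Spec (CommRingCat.of k))) [GrpObj B] (iB : B ⟶ G) (hB : Red.IsBorelOver k iB)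
    (V : Over (Spec (CommRingCat.of k))) [GrpObj V] (v : V ⟶ B) (hV : Par.IsUnipotentRadical v) :
    ∃ f : U ⟶ V, f ≫ v ≫ iB = u := by
  obtain ⟨hum, huc, hun, hus, -, huf, -⟩ := hU
  obtain ⟨hbm, hbc, hbs, hbconn, hbsol, -⟩ := id hB
  haveI := hum; haveI := huc; haveI := hus; haveI := hbm; haveI := hbc; haveI := hbs; haveI := hbconn
  obtain ⟨hUconn, hUt⟩ := (UniRad.geomFibre_unipotent_iff U (IsLocalRing.closedPoint k)).1 (huf _)
  haveI := hUconn
  haveI : IsAffine U.left := isAffine_of_isAffineHom u.left
  haveI : IsAffine B.left := isAffine_of_isAffineHom iB.left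
  haveI := RedCent.isSolvable_of_noSubtorus hUt
  haveI := Chev.Borel.isSolvable_rp hbsol
  haveI : Mono iB := GrpField.SchImg.mono_of_isClosedImmersion iB
  obtain ⟨f, hf⟩ := RedCent.exists_le_borel_of_normal iB hB u hun
  haveI : IsMonHom f := MTSplit.isMonHom_of_comp_mono f iB u hf
  haveI : IsClosedImmersion f.left := by
    haveI : IsClosedImmersion (f.left ≫ iB.left) := by rw [← Over.comp_left, hf]; infer_instance
    exact IsClosedImmersion.of_comp f.left iB.left
  obtain ⟨V₀, _, v₀, hv₀, hV₀a, hV₀c, hV₀t, hV₀u⟩ := UniRad.exists_radical_univ B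
  haveI := hV₀a; haveI := hV₀c; haveI := hv₀.1; haveI := hv₀.2.1; haveI := hv₀.2.2.2.1
  obtain ⟨f₀, hf₀⟩ := hV₀u U f inferInstance inferInstance inferInstance hUt
  obtain ⟨f₁, hf₁⟩ := UniRad.exists_le_radical hV v₀ hv₀.2.2.1 hV₀t
  exact ⟨f₀ ≫ f₁, by rw [Category.assoc, reassoc_of% hf₁, reassoc_of% hf₀, hf]⟩

end Groth.Agent.S17091
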