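import Groth.Statements.S17094
import Groth.Agent.RedCartan.Sep
import Groth.Agent.SmoothRed.Scheme
-- import your own Groth.Agent.* helpers here

set_option autoImplicit false
universe u
open CategoryTheory MonoidalCategory CartesianMonoidalCategory MonObj GrpObj AlgebraicGeometry
open AGF

set_option backward.isDefEq.respectTransparency false

namespace Groth.Agent.S17094
open Groth.Agent CategoryTheory.Limits

/-- Let k be a separably closed field and G a reductive k-group scheme (affine, smooth, connected
reductive geometric fibre). Then the maximal k-tori of G generate it: if i : H ⟶ G is a closed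
subgroup scheme through which the inclusion of every maximal torus of G factors, then i is an
isomorphism. -/
theorem result (k : Type u) [Field k] [IsSepClosed k]
    (G : Over (Spec (CommRingCat.of k))) [GrpObj G] (hG : Red.IsReductive G)
    (H : Over (Spec (CommRingCat.of k))) [GrpObj H] (i : H ⟶ G) [IsMonHom i] (hi : IsClosedImmersion i.left)
    (hH : ∀ (T : Over (Spec (CommRingCat.of k))) [GrpObj T] (iT : T ⟶ G), Red.IsMaximalTorus iT → ∃ t : T ⟶ H, t ≫ i = iT) :
    IsIso i := by
  haveI := hG.1; haveI := hG.2.1; haveI := hi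
  have hconn := RedCartan.isConnected_fibre_of_isReductive hG
  have hu := RedCartan.unipotentRankZero_of_isReductive hG
  obtain ⟨T, _, j, hj⟩ := RedCartan.exists_maxTorus_sepClosed (MTCentre.redRankLocallyConstant_of_urz hconn hu)
  haveI : IsAffineHom G.hom := hG.1
  haveI : Smooth T.hom := MTImage.smooth_torus hj.2.2.1
  haveI : Smooth (G ⊗ T : Over (Spec (CommRingCat.of k))).hom :=
    inferInstanceAs (Smooth (pullback.fst G.hom T.hom ≫ G.hom))
  haveI : IsReduced G.left := SmoothRed.isReduced_of_smooth_scheme G.hom
  let Z : Set (G ⊗ T : Over (Spec (CommRingCat.of k))).left := (RedCartan.conjFam j).left ⁻¹' Set.range i.left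
  have hZ : Z = Set.univ := by
    refine Set.eq_univ_of_univ_subset ?_
    rw [← (PtsDense.dense_rational k (G ⊗ T : Over (Spec (CommRingCat.of k))).hom).closure_eq]
    refine closure_minimal ?_ (i.left.isClosedEmbedding.isClosed_range.preimage (RedCartan.conjFam j).left.continuous)
    rintro x ⟨s, hs, rfl⟩
    let q : 𝟙_ (Over (Spec (CommRingCat.of k))) ⟶ G ⊗ T := Over.homMk s hs
    obtain ⟨t, ht⟩ := hH T (AGF.conjBy (q ≫ fst G T) j) (RedCartan.isMaximalTorus_conjBy _ j hj)
    have e : q ≫ RedCartan.conjFam j = (q ≫ snd G T) ≫ t ≫ i := by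
      rw [ht, RedCartan.point_conjBy, toUnit_unique (toUnit (𝟙_ _)) (𝟙 _), Category.id_comp, RedCartan.conjFam]
      simp only [MonObj.comp_mul, GrpObj.comp_inv, Category.assoc]
    refine ⟨((q ≫ snd G T) ≫ t).left (IsLocalRing.closedPoint k), ?_⟩
    show _ = (RedCartan.conjFam j).left (q.left (IsLocalRing.closedPoint k))
    rw [← Scheme.Hom.comp_apply, ← Scheme.Hom.comp_apply, ← Over.comp_left, ← Over.comp_left, Category.assoc, ← e]

  have hsurj : Function.Surjective i.left := fun y => by
    by_contra hy
    obtain ⟨p, hp, -⟩ := RedCartan.exists_conjFam_mem hconn (MTCentre.cartanIsTorus_of_urz hconn hu) j hj (G.hom y)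
      ⟨(Set.range i.left)ᶜ, i.left.isClosedEmbedding.isClosed_range.isOpen_compl⟩ ⟨y, hy, rfl⟩
    exact hp (hZ.ge (Set.mem_univ p))
  haveI : Surjective i.left := ⟨hsurj⟩
  haveI : IsIso i.left := isIso_of_isClosedImmersion_of_surjective _
  haveI : IsIso ((Over.forget _).map i) := ‹IsIso i.left›
  exact isIso_of_reflects_iso i (Over.forget _)

end Groth.Agent.S17094
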