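import Groth.Statements.S17095
import Groth.Agent.RedCartan.Sep
-- import your own Groth.Agent.* helpers here

set_option autoImplicit false
universe u
open CategoryTheory MonoidalCategory CartesianMonoidalCategory MonObj GrpObj AlgebraicGeometry
open AGF

set_option backward.isDefEq.respectTransparency false

namespace Groth.Agent.S17095

/-- Let k be a separably closed field, G a reductive k-group scheme and z : Z ⟶ G its centre. Then Z is
the scheme-theoretic intersection of the maximal k-tori of G: for every k-scheme X and every
X-valued point g of G, g factors through Z if and only if g factors through the inclusion of every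
maximal torus of G. -/
theorem result (k : Type u) [Field k] [IsSepClosed k]
    (G : Over (Spec (CommRingCat.of k))) [GrpObj G] (hG : Red.IsReductive G)
    (Z : Over (Spec (CommRingCat.of k))) [GrpObj Z] (z : Z ⟶ G) (hz : Red.IsCentre z)
    (X : Over (Spec (CommRingCat.of k))) (g : X ⟶ G) :
    (∃ c : X ⟶ Z, c ≫ z = g) ↔
      ∀ (T : Over (Spec (CommRingCat.of k))) [GrpObj T] (iT : T ⟶ G), Red.IsMaximalTorus iT → ∃ t : X ⟶ T, t ≫ iT = g := by
  haveI := hG.1; haveI := hG.2.1; haveI := hz.1
  have hconn := RedCartan.isConnected_fibre_of_isReductive hG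
  have hu := RedCartan.unipotentRankZero_of_isReductive hG
  constructor
  · rintro ⟨a, ha⟩ T _ iT hT
    refine ((RedCartan.isCentralizerOf_self hG iT hT).2.2 X g).2 fun X' x h => ?_
    have hc := (hz.2.2 X g).1 ⟨a, ha⟩ X' x (h ≫ iT)
    simpa using hc
  · intro h
    refine (hz.2.2 X g).2 fun X' x w => ?_
    obtain ⟨T, _, i, hi⟩ := RedCartan.exists_maxTorus_sepClosed (MTCentre.redRankLocallyConstant_of_urz hconn hu)
    rw [Category.comp_id]
    refine RedCartan.commute_of_conj_tori hconn hu i hi (x ≫ g) (fun q => ?_) w
    obtain ⟨t, ht⟩ := h T (AGF.conjBy q i) (RedCartan.isMaximalTorus_conjBy q i hi)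
    exact ⟨x ≫ t, by rw [Category.assoc, ht]⟩

end Groth.Agent.S17095
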