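import Groth.Statements.S17096
import Groth.Agent.IsogTorus.Main
import Groth.Agent.Chev.TorusImage
import Groth.Agent.Chev.SolvTorus
-- import your own Groth.Agent.* helpers here

set_option autoImplicit false
universe u
open CategoryTheory MonoidalCategory CartesianMonoidalCategory MonObj GrpObj AlgebraicGeometry
open AGF

set_option backward.isDefEq.respectTransparency false

namespace Groth.Agent.S17096

open Groth.Agent

/-- Let k be a field, H' and H reductive k-group schemes and f : H' ⟶ H a central isogeny: a surjective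
homomorphism whose kernel K ⟶ H' has finitely many points, all central in H'. Let i : T ⟶ H be a
maximal torus and i' : T' ⟶ H' its scheme-theoretic preimage (the square T' ⟶ H' ⟶ H, T' ⟶ T ⟶ H is
cartesian), with its induced subgroup structure. Then T' is a maximal torus of H'. -/
theorem result (k : Type u) [Field k]
    (H' H : Over (Spec (CommRingCat.of k))) [GrpObj H'] [GrpObj H] (hH' : Red.IsReductive H') (hH : Red.IsReductive H)
    (f : H' ⟶ H) [IsMonHom f] (hf : Surjective f.left)
    (K : Over (Spec (CommRingCat.of k))) [GrpObj K] (iK : K ⟶ H') (hK : AlgGrp.IsKernel iK f) (hKf : Finite ↥K.left)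
    (hKc : ∀ (X : Over (Spec (CommRingCat.of k))) (x : X ⟶ K) (X' : Over (Spec (CommRingCat.of k))) (y : X' ⟶ X) (h : X' ⟶ H'),
      (y ≫ x ≫ iK) * h = h * (y ≫ x ≫ iK))
    (T : Over (Spec (CommRingCat.of k))) [GrpObj T] (i : T ⟶ H) (hT : Red.IsMaximalTorus i)
    (T' : Over (Spec (CommRingCat.of k))) [GrpObj T'] (i' : T' ⟶ H') [IsMonHom i'] (p : T' ⟶ T) (hsq : IsPullback i' p f i) :
    Red.IsMaximalTorus i' := by
  haveI := hH'.1; haveI := hH'.2.1; haveI := hH.1; haveI := hH.2.1; haveI := hf
  haveI : QuasiCompact H.hom := inferInstance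
  haveI := hT.1; haveI := hT.2.1
  have hker : ∀ (X : Over (Spec (CommRingCat.of k))) (δ : X ⟶ H'), δ ≫ f = 1 →
      ∀ (X' : Over (Spec (CommRingCat.of k))) (x : X' ⟶ X) (h : X' ⟶ H'), (x ≫ δ) * h = h * (x ≫ δ) := by
    intro X δ hδ X' x h
    have hw : δ ≫ f = toUnit X ≫ η[H] := by rw [hδ, Hom.one_def]
    rw [show δ = IsPullback.lift hK δ (toUnit X) hw ≫ iK from (IsPullback.lift_fst hK _ _ _).symm]
    exact hKc X _ X' x h
  haveI : Mono i' := ⟨fun a b hab => hsq.hom_ext hab ((cancel_mono i).1 (by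
    rw [Category.assoc, Category.assoc, ← hsq.w, ← Category.assoc, ← Category.assoc, hab]))⟩
  let s₀ : Spec (CommRingCat.of k) := IsLocalRing.closedPoint k
  have key : AGF.IsMaxTorus ((Over.pullback (Red.geomPt s₀)).map i') :=
    IsogTorus.isMaxTorus_preimage_bc (Red.geomPt s₀) hH' f hker i
      (Chev.MaxTorusBC.isMaxTorus_pt i hT (Red.geomPt s₀)) i' p hsq
  obtain ⟨r, hr⟩ := Chev.Borel.split_of_isTorus key.2.2.1
  refine ⟨inferInstance, inferInstance, Chev.isTorus_of_isSplit (Red.geomPt s₀) hr, fun s => ?_⟩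
  obtain rfl : s = s₀ := Subsingleton.elim (α := PrimeSpectrum k) _ _
  exact key.2.2.2

end Groth.Agent.S17096
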