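import Groth.Statements.S17097
import Groth.Agent.IsogTorus.Main
import Groth.Agent.Chev.TorusImage
import Groth.Agent.Chev.SolvTorus
import Groth.Agent.Chev.GeomPtIso
import Groth.Agent.S14756
-- import your own Groth.Agent.* helpers here

set_option autoImplicit false
universe u
open CategoryTheory MonoidalCategory CartesianMonoidalCategory MonObj GrpObj AlgebraicGeometry
open AGF

set_option backward.isDefEq.respectTransparency false

namespace Groth.Agent.S17097

open Groth.Agent

/-- Let k be a field, H' and H reductive k-group schemes and f : H' ⟶ H a central isogeny: a surjective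
homomorphism whose kernel K ⟶ H' has finitely many points, all central in H'. Then every maximal
torus j : S' ⟶ H' is the scheme-theoretic preimage of a maximal torus of H: there are a maximal
torus i : T ⟶ H and a morphism S' ⟶ T making the square with j, f and i cartesian. -/
theorem result (k : Type u) [Field k]
    (H' H : Over (Spec (CommRingCat.of k))) [GrpObj H'] [GrpObj H] (hH' : Red.IsReductive H') (hH : Red.IsReductive H)
    (f : H' ⟶ H) [IsMonHom f] (hf : Surjective f.left)
    (K : Over (Spec (CommRingCat.of k))) [GrpObj K] (iK : K ⟶ H') (hK : AlgGrp.IsKernel iK f) (hKf : Finite ↥K.left)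
    (hKc : ∀ (X : Over (Spec (CommRingCat.of k))) (x : X ⟶ K) (X' : Over (Spec (CommRingCat.of k))) (y : X' ⟶ X) (h : X' ⟶ H'),
      (y ≫ x ≫ iK) * h = h * (y ≫ x ≫ iK))
    (S' : Over (Spec (CommRingCat.of k))) [GrpObj S'] (j : S' ⟶ H') (hS' : Red.IsMaximalTorus j) :
    ∃ (T : Over (Spec (CommRingCat.of k))) (_ : GrpObj T) (i : T ⟶ H) (p : S' ⟶ T),
      Red.IsMaximalTorus i ∧ IsPullback j p f i := by
  haveI := hH'.1; haveI := hH'.2.1; haveI := hH.1; haveI := hH.2.1; haveI := hf
  haveI : QuasiCompact H.hom := inferInstance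
  haveI := hS'.1; haveI := hS'.2.1
  have hker : ∀ (X : Over (Spec (CommRingCat.of k))) (δ : X ⟶ H'), δ ≫ f = 1 →
      ∀ (X' : Over (Spec (CommRingCat.of k))) (x : X' ⟶ X) (h : X' ⟶ H'), (x ≫ δ) * h = h * (x ≫ δ) := by
    intro X δ hδ X' x h
    have hw : δ ≫ f = toUnit X ≫ η[H] := by rw [hδ, Hom.one_def]
    rw [show δ = IsPullback.lift hK δ (toUnit X) hw ≫ iK from (IsPullback.lift_fst hK _ _ _).symm]
    exact hKc X _ X' x h
  haveI := Chev.isAffine_of_isTorus hS'.2.2.1
  haveI := Chev.connectedSpace_of_isTorus hS'.2.2.1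
  haveI : Smooth S'.hom := Chev.smooth_of_isTorus hS'.2.2.1
  obtain ⟨T, hTg, i, v, him, hic, hv, hvs, hTs, -, -⟩ := S14756.exists_smooth_image (j ≫ f)
  haveI := him; haveI := hic; haveI := hvs; haveI := hTs
  haveI : Mono i := GrpField.SchImg.mono_of_isClosedImmersion i
  haveI : IsMonHom v := MTSplit.isMonHom_of_comp_mono v i (j ≫ f) hv
  haveI : QuasiCompact T.hom := by rw [← Over.w i]; infer_instance
  have hTt : Red.IsTorus T := Chev.isTorus_of_surjective hS'.2.2.1 v
  let s₀ : Spec (CommRingCat.of k) := IsLocalRing.closedPoint k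
  let q := Red.geomPt s₀
  let F := Over.pullback q
  haveI : Limits.PreservesLimitsOfShape Limits.WalkingCospan F :=
    (Adjunction.rightAdjoint_preservesLimits (Over.mapPullbackAdj q)).preservesLimitsOfShape
  haveI : LocallyOfFiniteType (F.obj H').hom := inferInstanceAs (LocallyOfFiniteType (Limits.pullback.snd H'.hom q))
  haveI : QuasiCompact (F.obj H').hom := inferInstanceAs (QuasiCompact (Limits.pullback.snd H'.hom q))
  haveI : LocallyOfFiniteType (F.obj H).hom := inferInstanceAs (LocallyOfFiniteType (Limits.pullback.snd H.hom q))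
  haveI : QuasiCompact (F.obj H).hom := inferInstanceAs (QuasiCompact (Limits.pullback.snd H.hom q))
  haveI : Surjective (F.map f).left := MorphismProperty.baseChange_map _ f hf
  haveI : Surjective (F.map v).left := MorphismProperty.baseChange_map _ v ‹Surjective v.left›
  have hTK : AGF.IsMaxTorus (F.map i) :=
    Chev.MaxTorusImage.isMaxTorus_image (F.map f) (F.map j) (Chev.MaxTorusBC.isMaxTorus_pt j hS' q) (F.map i)
      (Chev.Borel.isTorus_bc_scheme T q hTt) (F.map v) (by rw [← F.map_comp, hv, F.map_comp])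
  have hT : Red.IsMaximalTorus i := ⟨inferInstance, inferInstance, hTt, fun s => by
    obtain rfl : s = s₀ := Subsingleton.elim (α := PrimeSpectrum k) _ _
    exact hTK.2.2.2⟩
  let P := Limits.pullback f i
  let i' : P ⟶ H' := Limits.pullback.fst f i
  have hsq : IsPullback i' (Limits.pullback.snd f i) f i := IsPullback.of_hasPullback f i
  haveI : Mono i' := ⟨fun a b hab => hsq.hom_ext hab ((cancel_mono i).1 (by
    rw [Category.assoc, Category.assoc, ← hsq.w, ← Category.assoc, ← Category.assoc, hab]))⟩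
  have hfac : ∀ {X : Over (Spec (CommRingCat.of k))} (x : X ⟶ H') (y : X ⟶ T), y ≫ i = x ≫ f →
      ∃ w : X ⟶ P, w ≫ i' = x := fun {X} x y h => ⟨hsq.lift x y h.symm, hsq.lift_fst _ _ _⟩
  obtain ⟨hPg, hi'm⟩ := MTBridge.exists_grpObj_of_div i' (hfac η[H'] η[T] (by rw [IsMonHom.one_hom, IsMonHom.one_hom]))
    fun X k₁ k₂ => hfac _ ((k₁ ≫ Limits.pullback.snd f i)⁻¹ * (k₂ ≫ Limits.pullback.snd f i)) (by
      simp only [MonObj.mul_comp, GrpObj.inv_comp, Category.assoc]
      rw [show i' ≫ f = Limits.pullback.snd f i ≫ i from hsq.w])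
  haveI := hi'm
  have hPK : AGF.IsMaxTorus (F.map i') :=
    IsogTorus.isMaxTorus_preimage_bc q hH' f hker i hTK i' _ hsq
  let c : S' ⟶ P := hsq.lift j v hv.symm
  have hc : c ≫ i' = j := hsq.lift_fst _ _ _
  haveI := hPK.1; haveI := hPK.2.1
  haveI : IsIso (F.map c) := hS'.2.2.2 s₀ (F.obj P) (F.map i') (F.map c) hPK.2.2.1 (by
    rw [← F.map_comp, hc])
  haveI : Surjective q := ⟨fun _ => ⟨IsLocalRing.closedPoint _, Subsingleton.elim (α := PrimeSpectrum k) _ _⟩⟩
  haveI : Flat q := by
    rw [← Spec.map_preimage q, Flat.SpecMap_iff]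
    letI := (Spec.preimage q).hom.toAlgebra
    exact RingHom.flat_algebraMap_iff.2 (inferInstanceAs (Module.Flat k _))
  haveI : IsIso c := Chev.Borel.isIso_of_isIso_pullback q c
  exact ⟨T, hTg, i, v, hT, hsq.of_iso (asIso c).symm (Iso.refl _) (Iso.refl _) (Iso.refl _) (by simp [← hc])
    (by simp [← show c ≫ Limits.pullback.snd f i = v from hsq.lift_snd _ _ _])
    (by simp) (by simp)⟩

end Groth.Agent.S17097
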