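import Groth.Statements.S17099
import Groth.Agent.RedCartan.Global
import Groth.Agent.MTSub.Basic
import Groth.Agent.MTBridge.Prim
import Groth.Agent.GrpField.Kernel
-- import your own Groth.Agent.* helpers here

set_option autoImplicit false
universe u
open CategoryTheory MonoidalCategory CartesianMonoidalCategory MonObj GrpObj AlgebraicGeometry
open AGF

set_option backward.isDefEq.respectTransparency false

namespace Groth.Agent.S17099

open Groth.Agent TensorProduct

/-- Let p be a prime, k a field of characteristic p, G a reductive k-group scheme (affine, smooth,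
connected reductive geometric fibre) and z : Z ⟶ G its scheme-theoretic centre. Then Z contains
neither α_p nor Z/pZ as a subgroup scheme: no homomorphism of k-group schemes from α_p (the spectrum
of k[X]/(X^p) with X primitive) to Z is a monomorphism, and no homomorphism from the constant
k-group scheme of the cyclic group of order p to Z is a monomorphism. (Stated over every field of
characteristic p; applied over an algebraic closure of k to the base change of G, whose centre is
the base change of Z, this is the published assertion about the geometric centre.) -/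
theorem result (p : ℕ) [Fact p.Prime]
    (k : Type u) [Field k] [CharP k p]
    (G : Over (Spec (CommRingCat.of k))) [GrpObj G] (hG : Red.IsReductive G)
    (Z : Over (Spec (CommRingCat.of k))) [GrpObj Z] (z : Z ⟶ G) (hz : Red.IsCentre z) :
    (∀ (φ : (Spec (CommRingCat.of (AlphaP.A p k))).asOver (Spec (CommRingCat.of k)) ⟶ Z), IsMonHom φ → ¬ Mono φ.left) ∧
      (∀ (ψ : (Spec (CommRingCat.of (ConstGrp.F k (Multiplicative (ZMod p))))).asOver (Spec (CommRingCat.of k)) ⟶ Z),
        IsMonHom ψ → ¬ Mono ψ.left) := by
  obtain ⟨hGa, hGs, -⟩ := id hG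
  haveI := hGa; haveI := hGs; haveI := hz.1; haveI := hz.2.1
  obtain ⟨Z', hZ'g, z', hz', hzc', hmt⟩ := RedCartan.exists_centre_of_isReductive hG
  haveI := hz'.1; haveI := hz'.2.1
  -- the two centres agree
  obtain ⟨a, ha⟩ := (hz'.2.2 Z z).2 ((hz.2.2 Z z).1 ⟨𝟙 Z, Category.id_comp z⟩)
  haveI : IsMonHom a := MTSplit.isMonHom_of_comp_mono a z' z ha
  haveI : Mono (a ≫ z') := by rw [ha]; infer_instance
  haveI : Mono a := mono_of_mono a z'
  haveI := Groth.Agent.MTFT.locallyOfFiniteType _ hmt
  haveI : QuasiCompact Z'.hom := by rw [← Over.w z']; infer_instance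
  haveI : Subsingleton (Spec (CommRingCat.of k)) := inferInstanceAs (Subsingleton (PrimeSpectrum k))
  haveI : Nonempty (Spec (CommRingCat.of k)) := inferInstanceAs (Nonempty (PrimeSpectrum k))
  -- finite groups mapping monomorphically to the centre are of multiplicative type
  have key : ∀ (B : Type u) [CommRing B] [HopfAlgebra k B] [Module.Finite k B]
      (φ : (Spec (CommRingCat.of B)).asOver (Spec (CommRingCat.of k)) ⟶ Z), IsMonHom φ → Mono φ.left →
      SGA3b.IsMultType k B := by
    intro B _ _ _ φ hφ hφm
    haveI := hφ; haveI := hφm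
    haveI : Mono φ := (Over.forget _).mono_of_mono_map (show Mono φ.left from inferInstance)
    haveI : LocallyOfFiniteType ((Spec (CommRingCat.of B)).asOver (Spec (CommRingCat.of k))).hom := by
      show LocallyOfFiniteType (Spec.map (CommRingCat.ofHom (algebraMap k B)))
      rw [HasRingHomProperty.Spec_iff (P := @LocallyOfFiniteType)]
      exact RingHom.finiteType_algebraMap.2 inferInstance
    haveI : IsLocallyNoetherian (Spec (CommRingCat.of k)) := inferInstance
    haveI : Flat ((Spec (CommRingCat.of B)).asOver (Spec (CommRingCat.of k))).hom := by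
      show Flat (Spec.map (CommRingCat.ofHom (algebraMap k B)))
      rw [Flat.SpecMap_iff]
      exact RingHom.flat_algebraMap_iff.2 inferInstance
    haveI : LocallyOfFinitePresentation ((Spec (CommRingCat.of B)).asOver (Spec (CommRingCat.of k))).hom := inferInstance
    haveI : IsAffine ((Spec (CommRingCat.of B)).asOver (Spec (CommRingCat.of k))).left :=
      inferInstanceAs (IsAffine (Spec (CommRingCat.of B)))
    haveI : IsSeparated Z'.hom := GrpField.isSeparated_hom Z'
    haveI : QuasiCompact (φ ≫ a).left := by
      haveI : QuasiCompact ((φ ≫ a).left ≫ Z'.hom) := by rw [Over.w]; infer_instance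
      exact QuasiCompact.of_comp (φ ≫ a).left Z'.hom
    haveI : IsClosedImmersion (φ ≫ a).left := GrpField.isClosedImmersion_of_mono (φ ≫ a)
    exact (MTBridge.isMultType_of_specGrp (MTSub.isMultTypeFT_of_closed _ Z' hmt (φ ≫ a))).1
  refine ⟨fun φ hφ hφm => ?_, fun ψ hψ hψm => ?_⟩
  · have hx := MTBridge.primitive_eq_zero (key (AlphaP.A p k) φ hφ hφm) _ (AlphaP.comul_x p k)
    exact (AlphaP.basis p k).ne_zero ⟨1, (Fact.out : p.Prime).one_lt⟩
      (by rw [AlphaP.basis_apply]; simpa using hx)
  · let f : ConstGrp.F k (Multiplicative (ZMod p)) := fun g => ZMod.castHom (dvd_refl p) k (Multiplicative.toAdd g)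
    have hadd : ∀ x y, f (x * y) = f x + f y := fun x y => map_add _ _ _
    have hf : Coalgebra.comul (R := k) f = f ⊗ₜ[k] 1 + 1 ⊗ₜ[k] f := by
      rw [ConstGrp.comul_eq_sum]
      simp only [hadd, add_smul, Finset.sum_add_distrib]
      congr 1
      · simp only [← TensorProduct.smul_tmul', ← Finset.smul_sum, ← TensorProduct.tmul_sum, ConstGrp.sum_e]
        conv_rhs => rw [ConstGrp.eq_sum_smul_e f, TensorProduct.sum_tmul]
        simp only [← TensorProduct.smul_tmul']
      · rw [Finset.sum_comm]
        simp only [← TensorProduct.tmul_smul, ← TensorProduct.sum_tmul, ConstGrp.sum_e]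
        conv_rhs => rw [ConstGrp.eq_sum_smul_e f, TensorProduct.tmul_sum]
    have h0 := congrFun (MTBridge.primitive_eq_zero (key _ ψ hψ hψm) _ hf) (Multiplicative.ofAdd (1 : ZMod p))
    change ZMod.castHom (dvd_refl p) k 1 = (0 : k) at h0
    rw [map_one] at h0
    exact one_ne_zero h0

end Groth.Agent.S17099
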