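import Groth.Statements.S1710
import Groth.Agent.FlatCartier.Basic

set_option autoImplicit false
universe u
open CategoryTheory CategoryTheory.Limits AlgebraicGeometry TopologicalSpace
open SDiv

namespace Groth.Agent.S1710

/-- Let f : X ⟶ S be a morphism and 𝓘₁, 𝓘₂ ideal sheaves of effective Cartier divisors D₁ ⊆ D₂ on X,
both flat over S, and let 𝓘 be the ideal sheaf of an effective Cartier divisor D with D₂ = D₁ + D
(that is, 𝓘₁𝓘 = 𝓘₂). Then D is flat over S as well. -/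
theorem result {X S : Scheme.{u}} (f : X ⟶ S) (𝓘₁ 𝓘₂ 𝓘 : X.IdealSheafData)
    (h₁ : (BlowUp.IsEffCartierIdeal 𝓘₁ ∧ Flat (𝓘₁.subschemeι ≫ f))) (h₂ : (BlowUp.IsEffCartierIdeal 𝓘₂ ∧ Flat (𝓘₂.subschemeι ≫ f))) (h : BlowUp.IsEffCartierIdeal 𝓘) (hsum : 𝓘₁ * 𝓘 = 𝓘₂) :
    Flat (𝓘.subschemeι ≫ f) := by
  refine Groth.Agent.FlatCartier.flat_subscheme fun x _ => ?_
  obtain ⟨V, U, hxU, e, a, b, ha, hb, hea, heb⟩ := Groth.Agent.FlatCartier.exists_common h₁.1 h f x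
  have hfa := Groth.Agent.FlatCartier.flat_quotient h₁.2 V.2 U e
  have hfc := Groth.Agent.FlatCartier.flat_quotient h₂.2 V.2 U e
  rw [← hsum, Scheme.IdealSheafData.ideal_mul, Pi.mul_apply, hea, heb,
    Ideal.span_singleton_mul_span_singleton] at hfc
  rw [hea] at hfa
  refine ⟨V, U, hxU, e, ?_⟩
  rw [heb]
  letI := (f.appLE V.1 U.1 e).hom.toAlgebra
  obtain ⟨i, q, hi, hex, hq⟩ := Groth.Agent.FlatCartier.exists_mul_sequence (R := Γ(S, V.1)) a b ha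
  have : Module.Flat Γ(S, V.1) (Γ(X, U.1) ⧸ Ideal.span {a}) := RingHom.flat_algebraMap_iff.1 hfa
  have : Module.Flat Γ(S, V.1) (Γ(X, U.1) ⧸ Ideal.span {a * b}) := RingHom.flat_algebraMap_iff.1 hfc
  exact RingHom.flat_algebraMap_iff.2 (Groth.Agent.FlatCartier.flat_left i q hi hex hq)

end Groth.Agent.S1710
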