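import Groth.Statements.S17138
import Groth.Agent.PicCurve.AlbCoarse
import Groth.Agent.HilbSum.Split
-- import your own Groth.Agent.* helpers here

set_option autoImplicit false
set_option backward.isDefEq.respectTransparency false
set_option backward.isDefEq.respectTransparency.types false
set_option linter.style.haveILetI false
set_option maxHeartbeats 1000000
universe u
open CategoryTheory CategoryTheory.Limits AlgebraicGeometry MonoidalCategory CartesianMonoidalCategory MonObj
open Jac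

namespace Groth.Agent.S17138

open Groth.Agent.PicCurve Groth.Agent.W7Cube TopologicalSpace
open TMul (homOf)
attribute [local instance] Groth.Agent.W7Cube.law

theorem exists_split_classes {k : Type u} [Field k] {X : Scheme.{u}} (f : X ⟶ Spec (CommRingCat.of k))
    [IsProper f] [SmoothOfRelativeDimension 1 f] [GeometricallyConnected f] [GeometricallyIrreducible f] [Smooth f]
    [IsIntegral X] (hd : topologicalKrullDim X = 1) (d₀ : ℕ) (g : ℕ)
    (hO : ∀ z : Spec (CommRingCat.of k), PerfAux.betti f (Coh.structureModule X) z 0 = 1 ∧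
      PerfAux.betti f (Coh.structureModule X) z 1 = g) (hgn : g ≤ d₀)
    {Ω : Type u} [Field Ω] [IsAlgClosed Ω] (ω : Spec (CommRingCat.of Ω) ⟶ Spec (CommRingCat.of k))
    {L : (PicF.XT f (ptOver ω)).Modules} (hL : PicF.IsInvertible L)
    (hdeg : ∀ t, degC f (ptOver ω) (PicGrp.cls L hL) t = d₀) :
    ∃ (T' : Over (Spec (CommRingCat.of k))) (gT : T' ⟶ ptOver ω), Surjective gT.left ∧
      ∃ (x : Fin (d₀) → (T'.left ⟶ X)) (hx : ∀ i, x i ≫ f = T'.hom),
        (1 : ℕ) ≤ d₀ → pull (PicF.XTmap f gT) (PicGrp.cls L hL) = ∏ i, ptCl f T' (x i) (hx i) := by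
  have hdim : ∀ z, topologicalKrullDim ↥(f.fiber z) = 1 := fun z => (dim_fiber_spec f z).trans hd
  let T : Over (Spec (CommRingCat.of k)) := ptOver ω
  letI := ptStr f ω
  haveI : IsProper (PicF.XT f T ↘ Spec (CommRingCat.of Ω)) := isProper_proj f _
  haveI : SmoothOfRelativeDimension 1 (PicF.XT f T ↘ Spec (CommRingCat.of Ω)) := smooth_proj f _
  haveI : Smooth (PicF.XT f T ↘ Spec (CommRingCat.of Ω)) := SmoothOfRelativeDimension.smooth 1 _
  haveI : GeometricallyConnected (PicF.XT f T ↘ Spec (CommRingCat.of Ω)) := geomConn_proj f _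
  obtain ⟨hd', hint⟩ := curve_pt f hdim ω
  haveI := hint
  haveI := Groth.Agent.CurveRR.isNoetherian_of_proper Ω (PicF.XT f T)
  let t : T.left := IsLocalRing.closedPoint Ω
  have h1 : Groth.Agent.CurveRR.h Ω (Coh.structureModule (PicF.XT f T)) 1 = g :=
    (Groth.Agent.AbelMap.betti_field (X := PicF.XT f T) (Groth.Agent.QC.isQCoh_unit _) t 1).symm.trans
      (betti_proj f g hO T t).2
  have h0 : Groth.Agent.CurveRR.h Ω (Coh.structureModule (PicF.XT f T)) 0 = 1 :=
    (Groth.Agent.AbelMap.betti_field (X := PicF.XT f T) (Groth.Agent.QC.isQCoh_unit _) t 0).symm.trans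
      (betti_proj f g hO T t).1
  have hLd : Curv2.deg Ω (PicF.XT f T) L 1 = d₀ := by
    rw [← degP_cls Ω hL, ← degC_pt f ω _ t]
    exact hdeg t
  have hne : Groth.Agent.CurveRR.h Ω L 0 ≠ 0 := by
    intro hz
    have h := hLd
    rw [Curv2.deg, Groth.Agent.CurveRR.euler_eq hd'.le, Groth.Agent.CurveRR.euler_eq hd'.le, hz, h0, h1] at h
    push_cast at h
    omega
  obtain ⟨s, hs⟩ : ∃ s : Γ(L, ⊤), s ≠ 0 := by
    by_contra! hh
    letI := Groth.Agent.CurveRR.secMod Ω L ⊤
    haveI : Subsingleton Γ(L, ⊤) := ⟨fun a b => (hh a).trans (hh b).symm⟩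
    exact hne (by rw [← Groth.Agent.CurveRR.finrank_sec]; exact Module.finrank_zero_of_subsingleton)
  let J := PicF2.zeroScheme L (homOf s)
  have hJ : BlowUp.IsEffCartierIdeal J :=
    isEffCartier_of_genLocus hL _ ⟨_, Groth.Agent.CurveRR.generic_mem_genLocus hL hs⟩
  let q := J.subschemeι ≫ (PicF.XT f T ↘ Spec (CommRingCat.of Ω))
  haveI : Subsingleton ↥(Spec (CommRingCat.of Ω)) := inferInstanceAs (Subsingleton (PrimeSpectrum Ω))
  haveI hflat : Flat q := inferInstance
  haveI : LocallyQuasiFinite q := ((Groth.Agent.S1184.result _ J).1.1 ⟨hJ, hflat⟩).1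
  haveI : IsFinite q := IsFinite.of_isProper_of_locallyQuasiFinite _
  haveI : IsAffine J.subscheme := isAffine_of_isAffineHom q
  letI := Groth.Agent.DualGeneric.Sub.algI Ω J
  haveI : Module.Finite Ω Γ(J.subscheme, ⊤) := Groth.Agent.DualGeneric.Sub.finite_algI Ω J
  have hinv := isInverseOf_of_effCartier hL (homOf s) hJ
  have hfr : (Module.finrank Ω Γ(J.subscheme, ⊤) : ℤ) = d₀ := by
    rw [← hLd]
    have h := Groth.Agent.CurveRR.deg_tensor_cartier (k := Ω) hd'.le hJ hL hinv
      (Groth.Agent.CurveRR.isFinLocFreeOfRank_one (TMul.isInvertible_structureModule (X := PicF.XT f T)))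
    rw [Groth.Agent.CurveRR.deg_structure, Groth.Agent.DualGeneric.Sub.h0_quotMod_eq Ω J, Curv2.deg,
      Groth.Agent.CurveRR.euler_eq_of_iso (TMul.leftUnitIso L)] at h
    rw [Curv2.deg]
    push_cast at h ⊢
    simp only [T] at h ⊢
    omega
  have hmem : Mor2.IsFinLocFreeOfDeg d₀ (J.subschemeι ≫ PicF.XTproj f T) :=
    ⟨⟨‹IsFinite q›, hflat, Groth.Agent.SymCurve.lfp_of_lft_noeth q⟩, fun y => by
      refine (finrank_eq_dim q y).trans ?_
      exact_mod_cast hfr⟩
  obtain ⟨T', gT, -, hgT, -, x, hx⟩ := Groth.Agent.HilbSum.exists_split f d₀ T J hmem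
  refine ⟨T', gT, hgT, fun i => (x i).1, fun i => (x i).2, fun h1n => ?_⟩
  obtain ⟨m, rfl⟩ := Nat.exists_eq_add_of_le' h1n
  have hcl : PicGrp.cls L hL = cH f (m + 1) T ⟨J, hmem⟩ := cls_eq_divCl hL hJ hinv
  rw [hcl, pull_cH]
  exact (divCl_congr hx _ (cartier_prod_succ _ fun i => effCartier_obj f _ (d := 1)
    ⟨_, Groth.Agent.HilbOne.secGraph_mem f T' (x i).1 (x i).2⟩)).trans (divCl_prod _ _ _)

/-- Let X be a smooth proper geometrically connected curve of genus g ≥ 1 over a field k and n ≥ 1; let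
(Y, q) be the n-th symmetric power C^(n) of X over k (q : X ×_k ⋯ ×_k X → Y a quotient of the n-fold
fibre power by the symmetric group permuting the factors: affine, invariant, identifying sections of
O_Y with invariant sections, with q over k), let (J_n, ψ_n) be a coarse moduli scheme, on all
k-schemes, for line bundles of degree n on X modulo twisting from the base (the degree-n Picard
scheme), and let j_n : Y → J_n be the morphism through which the classifying map of the family O(Γ_1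
+ ⋯ + Γ_n) on X × X^n factors (Γ_i the graph of the i-th projection; the family F is pinned by F ⊗
I_{Γ_1} ⊗ ⋯ ⊗ I_{Γ_n} ≅ O), i.e. q followed by j_n is ψ_n of that family, so that j_n sends an
effective divisor D of degree n to the class of O(D). If g ≤ n, then j_n is surjective (on the
underlying topological spaces). -/
theorem result (k : Type u) [Field k]
    (X : Scheme.{u}) [X.Over (Spec (CommRingCat.of k))]
    [IsProper (X ↘ Spec (CommRingCat.of k))] [Smooth (X ↘ Spec (CommRingCat.of k))]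
    [GeometricallyConnected (X ↘ Spec (CommRingCat.of k))] (hdim : topologicalKrullDim ↥X = 1)
    (g : ℕ) (hg : Curv2.genus k X = g) (hg1 : 1 ≤ g)
    (n : ℕ) (hn : 1 ≤ n)
    (Y : Scheme.{u}) (q : SymProd.fibPow (X ↘ Spec (CommRingCat.of k)) n ⟶ Y) (gY : Y ⟶ Spec (CommRingCat.of k))
    (hq : SymProd.IsSymProd (X ↘ Spec (CommRingCat.of k)) n q gY)
    (Jn : Over (Spec (CommRingCat.of k)))
    (ψn : (ModFun.PicDeg (X ↘ Spec (CommRingCat.of k)) (n : ℤ)).Hom ⊤ Jn)
    (hJn : ModFun.IsCoarseModuli ⊤ (ModFun.PicDeg (X ↘ Spec (CommRingCat.of k)) (n : ℤ)) Jn ψn)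
    (F : (PicF.XT (X ↘ Spec (CommRingCat.of k)) (Over.mk (WidePullback.base fun (_ : Fin n) => (X ↘ Spec (CommRingCat.of k))))).Modules)
    (hF : Nonempty (CohB1.tensorMod F (FGA.tensorList (List.ofFn fun i : Fin n =>
        ClSub.idealMod (pullback.lift (WidePullback.π (fun (_ : Fin n) => (X ↘ Spec (CommRingCat.of k))) i) (𝟙 (SymProd.fibPow (X ↘ Spec (CommRingCat.of k)) n))
          ((WidePullback.π_arrow (fun (_ : Fin n) => (X ↘ Spec (CommRingCat.of k))) i).trans (Category.id_comp _).symm) :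
            SymProd.fibPow (X ↘ Spec (CommRingCat.of k)) n ⟶ PicF.XT (X ↘ Spec (CommRingCat.of k)) (Over.mk (WidePullback.base fun (_ : Fin n) => (X ↘ Spec (CommRingCat.of k))))).ker)) ≅
      Coh.structureModule _))
    (hT : (⊤ : ObjectProperty (Over (Spec (CommRingCat.of k)))) (Over.mk (WidePullback.base fun (_ : Fin n) => (X ↘ Spec (CommRingCat.of k)))))
    (hFok : (ModFun.PicDeg (X ↘ Spec (CommRingCat.of k)) (n : ℤ)).ok (Over.mk (WidePullback.base fun (_ : Fin n) => (X ↘ Spec (CommRingCat.of k)))) F)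
    (jn : Over.mk gY ⟶ Jn)
    (hjn : Over.homMk q hq.over ≫ jn = ψn.app (Over.mk (WidePullback.base fun (_ : Fin n) => (X ↘ Spec (CommRingCat.of k)))) F hT hFok)
    (hgn : g ≤ n) :
    Function.Surjective jn.left.base := by
  let f := X ↘ Spec (CommRingCat.of k)
  haveI : GeometricallyIntegral f := Groth.Agent.ClosedRep.GeomIntegral.geometricallyIntegral_of_smooth f
  haveI : IsIntegral X := GeometricallyIntegral.isIntegral_of_subsingleton f
  haveI := Groth.Agent.AlgEquivCurve.smoothOfRelativeDimension_one f hdim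
  have hdim' : ∀ z, topologicalKrullDim ↥(f.fiber z) = 1 := fun z => (dim_fiber_spec f z).trans hdim
  intro z
  obtain ⟨Ω, _, _, zt, y, hy⟩ := Groth.Agent.AbelMap.exists_geomPt Jn.left z
  let ω : Spec (CommRingCat.of Ω) ⟶ Spec (CommRingCat.of k) := zt ≫ Jn.hom
  let t : ptOver ω ⟶ Jn := Over.homMk zt rfl
  obtain ⟨L₀, hLok, hLt⟩ := (hJn.2.2 Ω ω trivial).1 t
  let L : (PicF.XT f (ptOver ω)).Modules := L₀
  have hL : PicF.IsInvertible L := ZeroSch.isInvertible_of_rankOne hLok.1.2
  have hdeg := (ok_iff f hdim (n : ℤ) _ hL).1 hLok.2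
  have hO : ∀ z, PerfAux.betti f (Coh.structureModule X) z 0 = 1 ∧ PerfAux.betti f (Coh.structureModule X) z 1 = g := by
    intro z
    haveI : Subsingleton ↥(Spec (CommRingCat.of k)) := inferInstanceAs (Subsingleton (PrimeSpectrum k))
    refine ⟨?_, ?_⟩
    · rw [Groth.Agent.AbelMap.betti_field (Groth.Agent.QC.isQCoh_unit _)]
      exact Groth.Agent.W7Cover.h0_of_geometricallyConnected
    · rw [Groth.Agent.AbelMap.betti_field (Groth.Agent.QC.isQCoh_unit _)]
      exact hg
  obtain ⟨T', gT, hgT, x, hx, hcl⟩ := exists_split_classes f hdim n g hO hgn ω hL hdeg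
  replace hcl := hcl hn
  let Pw : Over (Spec (CommRingCat.of k)) := Over.mk (WidePullback.base fun (_ : Fin n) => f)
  let yT : T' ⟶ Pw := tupleHom f n fun i => Over.homMk (x i) (hx i)
  have hFi : PicF.IsInvertible F := ZeroSch.isInvertible_of_rankOne hFok.1.2
  obtain ⟨eF⟩ := hF
  have hIi : ∀ i : Fin n, PicF.IsInvertible (ClSub.idealMod (HilbD.secGraph f Pw
      (WidePullback.π (fun (_ : Fin n) => f) i) (WidePullback.π_arrow (fun (_ : Fin n) => f) i))) := fun i =>
    (Groth.Agent.S8914.result _).2 (effCartier_obj f Pw (d := 1) ⟨_, Groth.Agent.HilbOne.secGraph_mem f Pw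
      (WidePullback.π (fun (_ : Fin n) => f) i) (WidePullback.π_arrow (fun (_ : Fin n) => f) i)⟩)
  have hTL := isInvertible_tensorList (List.ofFn fun i : Fin n => ClSub.idealMod (HilbD.secGraph f Pw
      (WidePullback.π (fun (_ : Fin n) => f) i) (WidePullback.π_arrow (fun (_ : Fin n) => f) i)))
    fun M hM => by obtain ⟨i, rfl⟩ := List.mem_ofFn.1 hM; exact hIi i
  have hFc : PicGrp.cls F hFi = ∏ i, ptCl f Pw (WidePullback.π (fun (_ : Fin n) => f) i)
      (WidePullback.π_arrow (fun (_ : Fin n) => f) i) := by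
    have h1 : PicGrp.cls F hFi * PicGrp.cls _ hTL = 1 := by
      rw [← cls_structure]
      exact (PicGrp.cls_eq_cls_iff (TMul.isInvertible_tensorMod hFi hTL) TMul.isInvertible_structureModule).2 ⟨eF⟩
    rw [cls_tensorList _ hIi hTL] at h1
    rw [eq_inv_of_mul_eq_one_left h1, ← Finset.prod_inv_distrib]
    rfl
  have hLi := PicLoc.isInvertible_pullback (PicF.XTmap f gT) hL
  have hFi' := PicLoc.isInvertible_pullback (PicF.XTmap f yT) hFi
  have hclass : PicGrp.cls _ hFi' = PicGrp.cls _ hLi := by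
    rw [← pull_cls (PicF.XTmap f yT) F hFi, ← pull_cls (PicF.XTmap f gT) L hL, hcl, hFc, map_prod]
    refine Finset.prod_congr rfl fun i _ => ?_
    rw [pull_ptCl]
    exact ptCl_congr f _ (congrArg CommaMorphism.left (tupleHom_proj f n (fun i => Over.homMk (x i) (hx i)) i)) _ _
  have okL : (ModFun.PicDeg f (n : ℤ)).ok T' ((Scheme.Modules.pullback (PicF.XTmap f gT)).obj L) :=
    ⟨⟨trivial, Groth.Agent.CurveRR.isFinLocFreeOfRank_one hLi⟩, (ok_iff f hdim (n : ℤ) T' hLi).2 fun p => by
      rw [← pull_cls (PicF.XTmap f gT) L hL, degC_pull]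
      exact hdeg _⟩
  have okF : (ModFun.PicDeg f (n : ℤ)).ok T' ((Scheme.Modules.pullback (PicF.XTmap f yT)).obj F) :=
    ⟨⟨trivial, Groth.Agent.CurveRR.isFinLocFreeOfRank_one hFi'⟩, (ok_iff f hdim (n : ℤ) T' hFi').2 fun p => by
      rw [hclass]
      exact (ok_iff f hdim (n : ℤ) T' hLi).1 okL.2 p⟩
  let qT : Pw ⟶ Over.mk gY := Over.homMk q hq.over
  have key : yT ≫ qT ≫ jn = gT ≫ t := by
    have e1 : ψn.app T' ((Scheme.Modules.pullback (PicF.XTmap f yT)).obj F) trivial okF =
        yT ≫ ψn.app Pw F hT hFok := ψn.natural yT F hT trivial hFok okF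
    have e2 : ψn.app T' ((Scheme.Modules.pullback (PicF.XTmap f gT)).obj L) trivial okL = gT ≫ t := by
      rw [← hLt]
      exact ψn.natural gT L trivial trivial hLok okL
    rw [show qT ≫ jn = _ from hjn, ← e1, ← e2]
    exact ψn.resp _ _ _ _ _ ((r_iff f hFi' hLi).2 ⟨1, by rw [map_one, _root_.mul_one, hclass]⟩)
  obtain ⟨p, hp⟩ := hgT.surj y
  refine ⟨(yT ≫ qT).left p, ?_⟩
  have h := congrArg (fun m : T' ⟶ Jn => m.left p) key
  simp only [Over.comp_left, Scheme.Hom.comp_apply] at h ⊢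
  rw [h, hp]
  exact hy

end Groth.Agent.S17138
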