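import Groth.Statements.S17153
import Groth.Agent.IsocLib.Isoclinic

set_option autoImplicit false
universe u
open Isoc

namespace Groth.Agent.S17153

/-- Let k be a perfect field of characteristic p, W = W(k), L its fraction field, a ∈ ℤ, and λ = d/h
with h > 0 and gcd(d, h) = 1. The standard σ^a-F-isocrystal N_λ of slope λ — the space L^h with the
σ^a-semilinear F determined by F e_i = e_{i+1} (i + 1 < h) and F e_{h−1} = p^d · e_0 — is a simple
isocrystal: an L-subspace of L^h carried into itself by F is either 0 or everything. (The source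
introduces N_λ for a ≠ 0 only; the simplicity argument, via sub-isocrystals of an isoclinic
isocrystal having the same slope, does not use that restriction, and the statement is made for all
a.) -/
theorem result (p : ℕ) [Fact p.Prime] (k : Type u) [Field k] [CharP k p] [PerfectRing k p]
    (a : ℤ) (d : ℤ) (h : ℕ) (hh : 0 < h) (hdh : Int.gcd d h = 1)
    (P : Submodule (FractionRing (WittVector p k)) (Fin h → (FractionRing (WittVector p k))))
    (hP : ∀ x ∈ P, Isoc.stdIsoc (Isoc.frob p k a) d h x ∈ P) : P = ⊥ ∨ P = ⊤ := by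
  have hτ := Groth.Agent.IsocLib.twist_frob (p := p) (k := k) a
  have hF := Groth.Agent.IsocLib.isIsoc_std (p := p) (k := k) d h hτ
  have hPi := (Groth.Agent.IsocLib.isoclinicOn_std d h hτ hh).sub hτ hF.bijective.injective hP le_top
  have hiso := (Groth.Agent.IsocLib.isIsoclinic_restrict_iff hτ hP).2 hPi
  obtain ⟨M, hM, r, s, hs, hμ, heq⟩ := hiso
  let b := Module.finBasis (FractionRing (WittVector p k)) P
  obtain ⟨d', hd'⟩ := Groth.Agent.IsocLib.exists_isOrdP_det hτ b (Groth.Agent.IsocLib.isIsoc_restrict hτ hF hP).bijective.injective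
  have h1 := Groth.Agent.IsocLib.det_of_eq hτ b hd' heq
  have h2 := (Groth.Agent.IsocLib.exponents_eq (μ₁ := (d : ℚ) / h) hs hh hμ rfl).2 rfl
  set n := Module.finrank (FractionRing (WittVector p k)) P with hn
  have h3 : (h : ℤ) * d' = d * n := by
    have h4 : (s : ℤ) * ((h : ℤ) * d') = (s : ℤ) * (d * n) := by linear_combination (-(h : ℤ)) * h1 + (n : ℤ) * h2
    exact mul_left_cancel₀ (by exact_mod_cast hs.ne') h4
  have h5 : (h : ℤ) ∣ (n : ℤ) :=
    Int.dvd_of_dvd_mul_right_of_gcd_one ⟨d', h3.symm⟩ (by rw [Int.gcd_comm]; exact hdh)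
  have h6 : n ≤ h := (Submodule.finrank_le P).trans_eq (Module.finrank_fin_fun _)
  rcases Nat.eq_zero_or_pos n with h0 | h0
  · exact Or.inl (Submodule.finrank_eq_zero.1 h0)
  · refine Or.inr (Submodule.eq_top_of_finrank_eq ?_)
    rw [Module.finrank_fin_fun]
    exact le_antisymm h6 (Nat.le_of_dvd h0 (by exact_mod_cast h5))

end Groth.Agent.S17153
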