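import Groth.Statements.S17159
import Groth.Agent.FreeCurve.DescEv
import Groth.Agent.FreeCurve.FreeIff

set_option linter.style.haveILetI false
set_option backward.isDefEq.respectTransparency false
set_option backward.isDefEq.respectTransparency.types false
set_option synthInstance.maxHeartbeats 400000
set_option maxHeartbeats 1000000

set_option autoImplicit false
universe u
open CategoryTheory CategoryTheory.Limits AlgebraicGeometry
open MorSch

namespace Groth.Agent.S17159

/-- For a field k and a quasi-projective k-variety X that is smooth over k, consider the morphism scheme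
(M, u) of k-morphisms from the projective line to X with its universal morphism, the evaluation map
ev from the product of the projective line with M to X (M is locally of finite type over k). If f is
a free rational curve on X, that is a nonconstant k-morphism from the projective line to X with
f^*T_X globally generated (T_X the dual of the sheaf of differentials), then ev is smooth at every
point of the fibre of the product over the k-point [f] of M: each such point has an open
neighbourhood on which ev is smooth. -/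
theorem result
    (k : Type u) [Field k] (X : Scheme.{u}) (pX : X ⟶ Spec (CommRingCat.of k)) [IsIntegral X] [Smooth pX]
    (hqp : ∃ (N : ℕ) (ι : X ⟶ CohB1.ProjSpace N k), IsImmersion ι ∧ ι ≫ CohB1.ProjSpace.toSpec N k = pX)
    (M : Over (Spec (CommRingCat.of k))) [LocallyOfFiniteType M.hom] (u : MorSch.Obj (CohB1.ProjSpace.toSpec 1 k) pX M)
    (hM : MorSch.IsUniversal (CohB1.ProjSpace.toSpec 1 k) pX M u)
    (f : CohB1.ProjSpace 1 k ⟶ X) (hf : f ≫ pX = CohB1.ProjSpace.toSpec 1 k)
    (hnc : ¬ ∃ x : X, Set.range f.base ⊆ {x}) (hfree : MorSch.IsFree pX f)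
    (z : ↥(PicF.XT (CohB1.ProjSpace.toSpec 1 k) M))
    (hz : (PicF.XTproj (CohB1.ProjSpace.toSpec 1 k) M).base z ∈
      Set.range (hM.lift (MorSch.Obj.ofHom (CohB1.ProjSpace.toSpec 1 k) pX f hf)).left.base) :
    ∃ U : (PicF.XT (CohB1.ProjSpace.toSpec 1 k) M).Opens, z ∈ U ∧ Smooth (U.ι ≫ MorSch.ev (CohB1.ProjSpace.toSpec 1 k) pX u) := by
  haveI : IsSeparated pX := by
    obtain ⟨N, ι, hι, rfl⟩ := hqp
    haveI := hι
    haveI := ProjMor.isProper_toSpec N k
    infer_instance
  haveI : IsLocallyNoetherian M.left := LocallyOfFiniteType.isLocallyNoetherian M.hom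
  let T₁ : Over (Spec (CommRingCat.of k)) := Over.mk (𝟙 (Spec (CommRingCat.of k)))
  let φ : MorSch.Obj (CohB1.ProjSpace.toSpec 1 k) pX T₁ := MorSch.Obj.ofHom (CohB1.ProjSpace.toSpec 1 k) pX f hf
  let g : T₁ ⟶ M := hM.lift φ
  let mp : Spec (CommRingCat.of k) ⟶ M.left := g.left
  have hmp : mp ≫ M.hom = 𝟙 _ := Over.w g
  have hcurve : FreeCurve.curveAt u mp hmp = f := by
    have h1 : PicF.XTmap (CohB1.ProjSpace.toSpec 1 k) g ≫ u.1 = φ.1 := congrArg Subtype.val (hM.pull_lift φ)
    let s : CohB1.ProjSpace 1 k ⟶ PicF.XT (CohB1.ProjSpace.toSpec 1 k) T₁ :=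
      pullback.lift (𝟙 _) (CohB1.ProjSpace.toSpec 1 k)
        ((Category.id_comp _).trans (Category.comp_id _).symm)
    have h2 : pullback.lift (𝟙 _) (CohB1.ProjSpace.toSpec 1 k ≫ mp) (by
        rw [Category.id_comp, Category.assoc, hmp, Category.comp_id]) = s ≫ PicF.XTmap (CohB1.ProjSpace.toSpec 1 k) g := by
      apply pullback.hom_ext
      · exact (pullback.lift_fst _ _ _).trans ((pullback.lift_fst _ _ _).symm.trans
          ((congrArg (s ≫ ·) (MorSch.XTmap_fst _ g)).symm.trans (Category.assoc _ _ _).symm))
      · refine (pullback.lift_snd _ _ _).trans ?_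
        refine Eq.trans ?_ ((congrArg (s ≫ ·) (pullback.lift_snd _ _ _)).symm.trans (Category.assoc _ _ _).symm)
        exact (congrArg (· ≫ mp) (pullback.lift_snd _ _ _)).symm.trans (Category.assoc _ _ _)
    rw [FreeCurve.curveAt, h2, Category.assoc, h1]
    show s ≫ pullback.fst (CohB1.ProjSpace.toSpec 1 k) T₁.hom ≫ f = f
    rw [← Category.assoc, pullback.lift_fst, Category.id_comp]
  obtain ⟨y, hy⟩ := hz
  refine FreeCurve.exists_smooth_nhd_ev pX (FreeCurve.isUnivN_of_isUniversal _ _ hM) mp hmp
    (by rw [hcurve]; exact (FreeCurve.isFree_iff pX f).1 hfree) z ?_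
  obtain rfl : y = IsLocalRing.closedPoint k := Subsingleton.elim (α := PrimeSpectrum k) _ _
  exact hy.symm

end Groth.Agent.S17159
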