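import Groth.Statements.S17160
import Groth.Agent.FreeCurve.BadLocus

set_option linter.style.haveILetI false
set_option backward.isDefEq.respectTransparency false
set_option backward.isDefEq.respectTransparency.types false
set_option synthInstance.maxHeartbeats 400000
set_option maxHeartbeats 1000000

set_option autoImplicit false
universe u
open CategoryTheory CategoryTheory.Limits AlgebraicGeometry
open MorSch

namespace Groth.Agent.S17160

/-- For a field k of characteristic zero and a quasi-projective k-variety X that is smooth over k, there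
are dense open subsets U_0, U_1, U_2, … of X such that every rational curve on X whose image meets
all of them in one point is free: for every nonconstant k-morphism f from the projective line to X
whose image has a point lying in every U_n, f^*T_X is globally generated (T_X the dual of the sheaf
of differentials). (Over a countable field the common part of the U_n may contain no closed point.) -/
theorem result
    (k : Type u) [Field k] [CharZero k] (X : Scheme.{u}) (pX : X ⟶ Spec (CommRingCat.of k)) [IsIntegral X] [Smooth pX]
    (hqp : ∃ (N : ℕ) (ι : X ⟶ CohB1.ProjSpace N k), IsImmersion ι ∧ ι ≫ CohB1.ProjSpace.toSpec N k = pX) :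
    ∃ U : ℕ → X.Opens, (∀ n, Dense ((U n : Set X))) ∧
      ∀ (f : CohB1.ProjSpace 1 k ⟶ X), f ≫ pX = CohB1.ProjSpace.toSpec 1 k → (¬ ∃ x : X, Set.range f.base ⊆ {x}) →
        (Set.range f.base ∩ ⋂ n, (U n : Set X)).Nonempty → MorSch.IsFree pX f := by
  classical
  haveI := ProjMor.isProper_toSpec 1 k
  haveI := FreeCurve.smooth_toSpec k
  obtain ⟨M, hlft, v, hM, hcov⟩ := FreeCurve.exists_mor_countable pX hqp
  haveI := hlft
  obtain ⟨N, ι, hι, hιp⟩ := hqp
  haveI := hι
  haveI := ProjMor.isProper_toSpec N k
  haveI : IsSeparated pX := by rw [← hιp]; infer_instance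
  haveI : IsLocallyNoetherian M.left := LocallyOfFiniteType.isLocallyNoetherian M.hom
  let p := CohB1.ProjSpace.toSpec 1 k
  obtain ⟨U, hU, havoid⟩ := FreeCurve.exists_seq_opens_avoid hcov (PicF.XTproj p M) v.1
    ((FreeCurve.goodOpen v : Set M.left))ᶜ (FreeCurve.goodOpen v).2.isClosed_compl
    fun Z hZ hirr hbad => FreeCurve.not_dense_of_bad pX v hZ hirr hbad
  refine ⟨U, hU, fun f hf _ ⟨y, ⟨t, ht⟩, hy⟩ => ?_⟩
  obtain ⟨m, hm, hc⟩ := FreeCurve.exists_point_of_curve hM f hf
  let i : CohB1.ProjSpace 1 k ⟶ PicF.XT p M :=
    pullback.lift (𝟙 _) (p ≫ m) (by rw [Category.id_comp, Category.assoc, hm, Category.comp_id])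
  have hsnd : PicF.XTproj p M (i t) = m (IsLocalRing.closedPoint k) := by
    rw [← Scheme.Hom.comp_apply, pullback.lift_snd, Scheme.Hom.comp_apply]
    exact congrArg m (Subsingleton.elim (α := PrimeSpectrum k) _ _)
  have hgood : m (IsLocalRing.closedPoint k) ∈ FreeCurve.goodSet (Twist.twistProjSpace 1 k (-1)) v := by
    by_contra hbad
    refine havoid (i t) (fun h => hbad (hsnd ▸ h)) ?_
    have h1 : v.1 (i t) = y := by
      rw [← ht, ← hc]
      rfl
    rw [h1]; exact hy
  have hG := (FreeCurve.good_iff_rational (v := v) m hm).2 hgood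
  rw [hc] at hG
  exact (FreeCurve.isFree_iff pX f).2 hG

end Groth.Agent.S17160
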