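import Groth.Statements.S17161
import Groth.Agent.FreeCurve.ThroughPoint
import Groth.Agent.FreeCurve.CurveFamily

set_option linter.style.haveILetI false
set_option backward.isDefEq.respectTransparency false
set_option backward.isDefEq.respectTransparency.types false
set_option synthInstance.maxHeartbeats 400000
set_option maxHeartbeats 1000000

set_option autoImplicit false
universe u
open CategoryTheory CategoryTheory.Limits AlgebraicGeometry
open MorSch

namespace Groth.Agent.S17161

/-- For an algebraically closed field k of characteristic zero, a quasi-projective k-variety X that is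
smooth over k and a closed point x of X, there are dense open subsets U_0, U_1, U_2, … of X such
that every rational curve on X through x whose image meets all of them in one point is very free:
for every nonconstant k-morphism f from the projective line to X whose image contains x and has a
point lying in every U_n, f^*T_X ⊗ O(−1) is globally generated (T_X the dual of the sheaf of
differentials). (The published subset lies in the complement of x; removing x from each U_n keeps
them dense open unless X is a point, where there is no rational curve, so nothing changes.) -/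
theorem result
    (k : Type u) [Field k] [IsAlgClosed k] [CharZero k] (X : Scheme.{u}) (pX : X ⟶ Spec (CommRingCat.of k))
    [IsIntegral X] [Smooth pX]
    (hqp : ∃ (N : ℕ) (ι : X ⟶ CohB1.ProjSpace N k), IsImmersion ι ∧ ι ≫ CohB1.ProjSpace.toSpec N k = pX)
    (x : X) (hx : IsClosed ({x} : Set X)) :
    ∃ U : ℕ → X.Opens, (∀ n, Dense ((U n : Set X))) ∧
      ∀ (f : CohB1.ProjSpace 1 k ⟶ X), f ≫ pX = CohB1.ProjSpace.toSpec 1 k → (¬ ∃ y : X, Set.range f.base ⊆ {y}) →
        x ∈ Set.range f.base → (Set.range f.base ∩ ⋂ n, (U n : Set X)).Nonempty →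
        MorSch.IsVeryFree pX f := by
  classical
  haveI := ProjMor.isProper_toSpec 1 k
  haveI := FreeCurve.smooth_toSpec k
  obtain ⟨M, hlft, v, hM, hcov⟩ := FreeCurve.exists_mor_countable pX hqp
  haveI := hlft
  obtain ⟨N, ι, hι, hιp⟩ := hqp
  haveI := hι
  haveI := ProjMor.isProper_toSpec N k
  haveI : IsSeparated pX := by rw [← hιp]; infer_instance
  haveI : IsLocallyNoetherian M.left := LocallyOfFiniteType.isLocallyNoetherian M.hom
  let p := CohB1.ProjSpace.toSpec 1 k
  let pr := PicF.XTproj p M
  haveI : IsProper pr := MorphismProperty.pullback_snd _ _ inferInstance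
  haveI : IsLocallyNoetherian (PicF.XT p M) := LocallyOfFiniteType.isLocallyNoetherian (pr ≫ M.hom)
  obtain ⟨⟨xs, hxs⟩, hxsx⟩ : ∃ z₀ : {z : Spec (CommRingCat.of k) ⟶ X // z ≫ pX = 𝟙 _},
      z₀.1 (IsLocalRing.closedPoint k) = x :=
    ⟨_, congrArg Subtype.val ((pointEquivClosedPoint pX).apply_symm_apply ⟨x, hx⟩)⟩
  obtain ⟨A, hA⟩ := FreeCurve.exists_vfOpen v
  obtain ⟨U, hU, havoid⟩ := FreeCurve.exists_seq_opens_avoid (hcov.of_quasiCompact pr) (pullback.fst pr pr)
    (pullback.snd pr pr ≫ v.1) (v.1 ⁻¹' {x} ∩ pr ⁻¹' (A : Set M.left)ᶜ)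
    ((hx.preimage v.1.continuous).inter (A.2.isClosed_compl.preimage pr.continuous))
    fun Z hZ hirr hsub => FreeCurve.not_dense_of_through pX v A (fun mp hmp h => (hA mp hmp).2 h) xs hxs hZ hirr
      fun w hw => ⟨(hsub hw).1.trans hxsx.symm, (hsub hw).2⟩
  refine ⟨U, hU, fun f hf _ ⟨tx, htx⟩ ⟨y, ⟨s, hs⟩, hy⟩ => ?_⟩
  obtain ⟨m, hm, hc⟩ := FreeCurve.exists_point_of_curve hM f hf
  let i : CohB1.ProjSpace 1 k ⟶ PicF.XT p M :=
    pullback.lift (𝟙 _) (p ≫ m) (by rw [Category.id_comp, Category.assoc, hm, Category.comp_id])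
  have hsnd : ∀ t, pr (i t) = m (IsLocalRing.closedPoint k) := fun t => by
    rw [← Scheme.Hom.comp_apply, pullback.lift_snd, Scheme.Hom.comp_apply]
    exact congrArg m (Subsingleton.elim (α := PrimeSpectrum k) _ _)
  have hval : ∀ t, v.1 (i t) = f t := fun t => by
    rw [← hc]
    rfl
  have hmA : m (IsLocalRing.closedPoint k) ∈ A := by
    by_contra hbad
    obtain ⟨w, hw₁, hw₂⟩ := Scheme.Pullback.exists_preimage_pullback (f := pr) (g := pr) (i tx) (i s)
      ((hsnd tx).trans (hsnd s).symm)
    refine havoid w ?_ ?_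
    · rw [hw₁]
      exact ⟨(hval tx).trans htx, fun h => hbad (hsnd tx ▸ h)⟩
    · rw [Scheme.Hom.comp_apply, hw₂, hval, hs]
      exact hy
  have h1 := (hA m hm).1 hmA
  rw [hc] at h1
  exact (FreeCurve.isVeryFree_iff pX f).2 h1

end Groth.Agent.S17161
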