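import Groth.Statements.S17162
import Groth.Agent.FreeCurve.CurveFamily

set_option linter.style.haveILetI false
set_option backward.isDefEq.respectTransparency false
set_option backward.isDefEq.respectTransparency.types false
set_option synthInstance.maxHeartbeats 400000
set_option maxHeartbeats 1000000

set_option autoImplicit false
universe u
open CategoryTheory CategoryTheory.Limits AlgebraicGeometry
open MorSch

namespace Groth.Agent.S17162

/-- Let X be a quasi-projective variety over an algebraically closed field k. If X contains a free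
rational curve, i.e. a nonconstant k-morphism f from the projective line to X whose image lies in
the smooth locus of X over k and such that f^*T_X is globally generated (T_X the dual of the sheaf
of differentials), then X is separably uniruled: there is a k-variety M and a rational map from the
product of the projective line with M to X, defined on a dense open subset, which is dominant,
smooth on a dense open subset of its domain, and does not contract some curve of the family. (The
published statement is for any variety; its proof first replaces X by a quasi-projective variety,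
and this row assumes X quasi-projective.) -/
theorem result
    (k : Type u) [Field k] [IsAlgClosed k] (X : Scheme.{u}) (pX : X ⟶ Spec (CommRingCat.of k))
    [IsIntegral X] [IsSeparated pX] [LocallyOfFinitePresentation pX] [QuasiCompact pX]
    (hqp : ∃ (N : ℕ) (ι : X ⟶ CohB1.ProjSpace N k), IsImmersion ι ∧ ι ≫ CohB1.ProjSpace.toSpec N k = pX)
    (f : CohB1.ProjSpace 1 k ⟶ X) (hf : f ≫ pX = CohB1.ProjSpace.toSpec 1 k)
    (hnc : ¬ ∃ x : X, Set.range f.base ⊆ {x})
    (hsm : Set.range f.base ⊆ (pX.smoothLocus : Set X)) (hfree : MorSch.IsFree pX f) :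
    MorSch.IsSepUniruled k pX := by
  classical
  obtain ⟨hWs, hWsep, hqp'⟩ := FreeCurve.smoothPart pX hqp
  obtain ⟨f', hf', hf'q, hsep⟩ := FreeCurve.exists_lift_smooth pX f hf hnc hsm
  let W := pX.smoothLocus
  let q := W.ι ≫ pX
  haveI : Smooth q := hWs
  haveI : IsSeparated q := hWsep
  have hgood : FreeCurve.Good q f' :=
    (FreeCurve.isFree_iff q f').1 ((FreeCurve.isFree_restrict_iff pX W f').2 (by rw [hf']; exact hfree))
  obtain ⟨M, hlft, v, hM⟩ := FreeCurve.exists_mor (q := q) hqp'
  haveI := hlft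
  obtain ⟨mp, hmp, hc⟩ := FreeCurve.exists_point_of_curve hM f' hf'q
  obtain ⟨B, mb, hmb, -, hBgood, hvar, hsmB, hmbB, hsepb⟩ := FreeCurve.exists_var_family v hM ⊤ mp hmp trivial
    (by rw [hc]; exact hgood) (by rw [hc]; exact hsep)
  let p := CohB1.ProjSpace.toSpec 1 k
  let Z := pullback.snd p M.hom ⁻¹ᵁ B
  haveI : Smooth (Z.ι ≫ v.1) := FreeCurve.smooth_ev_good hM B hBgood
  let e₀ : pullback p (B.ι ≫ M.hom) ⟶ X := (FreeCurve.prodOpenIso B).hom ≫ (Z.ι ≫ v.1) ≫ W.ι
  haveI : Smooth e₀ := inferInstanceAs (Smooth ((FreeCurve.prodOpenIso B).hom ≫ (Z.ι ≫ v.1) ≫ W.ι))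
  have he₀ : e₀ ≫ pX = pullback.fst p (B.ι ≫ M.hom) ≫ p := by
    show ((FreeCurve.prodOpenIso B).hom ≫ (Z.ι ≫ v.1) ≫ W.ι) ≫ pX = _
    simp only [Category.assoc]
    rw [show v.1 ≫ W.ι ≫ pX = pullback.fst p M.hom ≫ p from v.2]
    exact (Category.assoc _ _ _).symm.trans ((Category.assoc _ _ _).symm.trans (congrArg (· ≫ p)
      ((Category.assoc _ _ _).trans (FreeCurve.prodOpenIso_fst B))))
  let F : RatFam k pX :=
    { M := B
      m := B.ι ≫ M.hom
      isVar := hvar
      e := ⟨⊤, dense_univ, (⊤ : (pullback p (B.ι ≫ M.hom)).Opens).ι ≫ e₀⟩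
      comm := by
        show ((⊤ : (pullback p (B.ι ≫ M.hom)).Opens).ι ≫ e₀) ≫ pX = _
        rw [Category.assoc, he₀] }
  haveI : Smooth F.e.hom := inferInstanceAs (Smooth ((⊤ : (pullback p (B.ι ≫ M.hom)).Opens).ι ≫ e₀))
  obtain ⟨t, t', ht, ht', hne⟩ := hsepb
  let mbB : Spec (CommRingCat.of k) ⟶ B := IsOpenImmersion.lift B.ι mb (by
    rintro _ ⟨y, rfl⟩
    obtain rfl : y = IsLocalRing.closedPoint k := Subsingleton.elim (α := PrimeSpectrum k) _ _
    rw [Scheme.Opens.range_ι]
    exact hmbB)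
  have hmbB' : mbB ≫ B.ι = mb := IsOpenImmersion.lift_fac _ _ _
  have mk : ∀ u : Spec (CommRingCat.of k) ⟶ CohB1.ProjSpace 1 k, u ≫ p = 𝟙 _ →
      ∃ z : Spec (CommRingCat.of k) ⟶ F.e.domain, z ≫ F.toM = mbB ∧
        z ≫ F.e.hom = u ≫ FreeCurve.curveAt v mb hmb ≫ W.ι := fun u hu => by
    let z₀ : Spec (CommRingCat.of k) ⟶ pullback p (B.ι ≫ M.hom) :=
      pullback.lift u mbB (by rw [hu, reassoc_of% hmbB', hmb])
    have htop : (pullback p (B.ι ≫ M.hom)).topIso.inv ≫ (⊤ : (pullback p (B.ι ≫ M.hom)).Opens).ι = 𝟙 _ :=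
      (pullback p (B.ι ≫ M.hom)).topIso.inv_hom_id
    refine ⟨z₀ ≫ (pullback p (B.ι ≫ M.hom)).topIso.inv, ?_, ?_⟩
    · show (z₀ ≫ _) ≫ (⊤ : (pullback p (B.ι ≫ M.hom)).Opens).ι ≫ pullback.snd p (B.ι ≫ M.hom) = mbB
      simp only [Category.assoc, reassoc_of% htop]
      exact pullback.lift_snd _ _ _
    · show (z₀ ≫ _) ≫ (⊤ : (pullback p (B.ι ≫ M.hom)).Opens).ι ≫ e₀ = _
      simp only [Category.assoc, reassoc_of% htop, e₀, FreeCurve.curveAt]
      rw [← Category.assoc (FreeCurve.prodOpenIso B).hom, ← Category.assoc z₀]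
      simp only [← Category.assoc]
      refine congrArg (· ≫ W.ι) (congrArg (· ≫ v.1) ?_)
      apply pullback.hom_ext
      · simp only [Category.assoc]
        rw [FreeCurve.prodOpenIso_fst B, pullback.lift_fst, pullback.lift_fst, Category.comp_id]
      · simp only [Category.assoc]
        rw [show Z.ι ≫ pullback.snd p M.hom = (pullback.snd p M.hom ∣_ B) ≫ B.ι from (morphismRestrict_ι _ _).symm,
          reassoc_of% (FreeCurve.prodOpenIso_snd B), pullback.lift_snd_assoc, hmbB', pullback.lift_snd,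
          reassoc_of% hu]
  obtain ⟨z, hz, hz'⟩ := mk t ht
  obtain ⟨w, hw, hw'⟩ := mk t' ht'
  refine ⟨F, ⟨(F.e.hom.isOpenMap.isOpen_range.dense ?_)⟩, ⟨z (IsLocalRing.closedPoint k),
    w (IsLocalRing.closedPoint k), ?_, fun he => hne ?_⟩, ⊤, dense_univ, inferInstance⟩
  · exact ⟨F.e.hom (z (IsLocalRing.closedPoint k)), _, rfl⟩
  · show (z ≫ F.toM) (IsLocalRing.closedPoint k) = (w ≫ F.toM) (IsLocalRing.closedPoint k)
    rw [hz, hw]
  · have hq : FreeCurve.curveAt v mb hmb ≫ W.ι ≫ pX = p := FreeCurve.curveAt_comp mb hmb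
    refine (cancel_mono W.ι).1 (ext_of_apply_closedPoint_eq pX ?_ ?_ ?_)
    · simp only [Category.assoc]; rw [hq, ht]
    · simp only [Category.assoc]; rw [hq, ht']
    · rw [Category.assoc, Category.assoc, ← hz', ← hw']
      exact he

end Groth.Agent.S17162
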