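import Groth.Statements.S17163
import Groth.Agent.FreeCurve.RatFamExt
import Groth.Agent.FreeCurve.CurveFamily
import Groth.Agent.FreeCurve.TanFree

set_option linter.style.haveILetI false
set_option backward.isDefEq.respectTransparency false
set_option backward.isDefEq.respectTransparency.types false
set_option synthInstance.maxHeartbeats 400000
set_option maxHeartbeats 1000000

set_option autoImplicit false
universe u
open CategoryTheory CategoryTheory.Limits AlgebraicGeometry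
open MorSch

namespace Groth.Agent.S17163

/-- Let X be a smooth projective variety over an algebraically closed field k which is separably
uniruled. Then a general point of X lies on a free rational curve: there is a nonempty open subset U
of X such that every closed point of U lies on the image of a nonconstant k-morphism g from the
projective line with g^*T_X globally generated (T_X the dual of the sheaf of differentials). (The
published statement has X smooth and proper; this row takes X projective.) -/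
theorem result
    (k : Type u) [Field k] [IsAlgClosed k] (X : Scheme.{u}) (pX : X ⟶ Spec (CommRingCat.of k))
    [IsIntegral X] [Smooth pX]
    (hproj : ∃ (N : ℕ) (ι : X ⟶ CohB1.ProjSpace N k), IsClosedImmersion ι ∧ ι ≫ CohB1.ProjSpace.toSpec N k = pX)
    (h : MorSch.IsSepUniruled k pX) :
    ∃ U : X.Opens, (U : Set X).Nonempty ∧ ∀ x ∈ (U : Set X), IsClosed ({x} : Set X) →
      ∃ g : CohB1.ProjSpace 1 k ⟶ X, g ≫ pX = CohB1.ProjSpace.toSpec 1 k ∧ (¬ ∃ y : X, Set.range g.base ⊆ {y}) ∧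
        x ∈ Set.range g.base ∧ MorSch.IsFree pX g := by
  classical
  obtain ⟨N, ι, hι, hιp⟩ := hproj
  haveI := hι
  haveI := ProjMor.isProper_toSpec N k
  haveI : IsProper pX := by rw [← hιp]; infer_instance
  obtain ⟨F, -, ⟨ξ, ξ', hξ, hξne⟩, V, hV, hVsm⟩ := h
  obtain ⟨U', hle, hU', B, hB, hBsm, hBU', hU'p, hU'e⟩ := FreeCurve.exists_extend F
  obtain ⟨hint, hsep, hlft, hqc⟩ := F.isVar
  let p := CohB1.ProjSpace.toSpec 1 k
  haveI : IsIntegral (CohB1.ProjSpace 1 k) := Groth.Agent.CurveP1.isIntegral k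
  haveI := ProjMor.isProper_toSpec 1 k
  haveI := FreeCurve.smooth_toSpec k
  haveI : IsIntegral (pullback p F.m) := Groth.Agent.S1582.result k _ _ p F.m
  let f := pullback.snd p F.m
  haveI : Smooth f := MorphismProperty.pullback_snd _ _ ‹Smooth p›
  haveI : IsSeparated f := MorphismProperty.pullback_snd _ _ inferInstance
  haveI : QuasiCompact f := MorphismProperty.pullback_snd _ _ inferInstance
  haveI : LocallyOfFiniteType f := inferInstance
  haveI : IsIntegral (pullback p (f ≫ F.m)) := Groth.Agent.S1582.result k _ _ p (f ≫ F.m)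
  haveI : IsIntegral (pullback f f) := by
    haveI : Nonempty ↥(pullback f f) :=
      Nonempty.map (pullbackLeftPullbackSndIso p F.m f).inv inferInstance
    exact isIntegral_of_isOpenImmersion (pullbackLeftPullbackSndIso p F.m f).hom
  let P := pullback F.toM F.toM
  let c : P ⟶ pullback f f := pullback.map F.toM F.toM f f F.e.domain.ι F.e.domain.ι (𝟙 _)
    (Category.comp_id _) (Category.comp_id _)
  haveI : IsOpenImmersion c := inferInstance
  obtain ⟨w, hw, hw'⟩ := Scheme.Pullback.exists_preimage_pullback ξ ξ' hξ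
  haveI : Nonempty ↥P := ⟨w⟩
  haveI : IsIntegral P := isIntegral_of_isOpenImmersion c
  haveI : Smooth F.toM := inferInstanceAs (Smooth (F.e.domain.ι ≫ f))
  haveI : Smooth (pullback.fst F.toM F.toM) := MorphismProperty.pullback_fst _ _ ‹Smooth F.toM›
  let fs := pullback.fst F.toM F.toM
  let D : P.Opens := F.ev₂ ⁻¹ᵁ ⟨(Set.range (pullback.diagonal pX))ᶜ,
    (pullback.diagonal pX).isClosedEmbedding.isClosed_range.isOpen_compl⟩
  have hwD : w ∈ D := by
    rintro ⟨y, hy⟩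
    refine hξne ?_
    have h1 := congrArg (pullback.fst pX pX) hy
    have h2 := congrArg (pullback.snd pX pX) hy
    rw [← Scheme.Hom.comp_apply, ← Scheme.Hom.comp_apply, pullback.diagonal_fst, RatFam.ev₂_fst,
      Scheme.Hom.comp_apply, hw] at h1
    rw [← Scheme.Hom.comp_apply, ← Scheme.Hom.comp_apply, pullback.diagonal_snd, RatFam.ev₂_snd,
      Scheme.Hom.comp_apply, hw'] at h2
    exact h1.symm.trans h2
  have hVne : ((fs ⁻¹ᵁ V : P.Opens) : Set ↥P).Nonempty := by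
    obtain ⟨y, ⟨a, rfl⟩, hy⟩ := hV.inter_open_nonempty _ fs.isOpenMap.isOpen_range ⟨_, w, rfl⟩
    exact ⟨a, hy⟩
  have hBne : (((fs ≫ F.toM) ⁻¹ᵁ B : P.Opens) : Set ↥P).Nonempty := by
    obtain ⟨y, ⟨a, rfl⟩, hy⟩ := nonempty_preirreducible_inter (fs ≫ F.toM).isOpenMap.isOpen_range B.2
      ⟨_, w, rfl⟩ hB
    exact ⟨a, hy⟩
  let O : P.Opens := (D ⊓ fs ⁻¹ᵁ V) ⊓ (fs ≫ F.toM) ⁻¹ᵁ B
  have hOne : (O : Set ↥P).Nonempty := nonempty_preirreducible_inter (D ⊓ fs ⁻¹ᵁ V).2 ((fs ≫ F.toM) ⁻¹ᵁ B).2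
    (nonempty_preirreducible_inter D.2 (fs ⁻¹ᵁ V).2 ⟨w, hwD⟩ hVne) hBne
  let φ : (O : Scheme.{u}) ⟶ X := O.ι ≫ fs ≫ F.e.hom
  haveI : Smooth φ := by
    show Smooth (O.ι ≫ fs ≫ F.e.hom)
    rw [show O.ι ≫ fs ≫ F.e.hom = P.homOfLE (inf_le_left.trans inf_le_right : O ≤ fs ⁻¹ᵁ V) ≫ (fs ∣_ V) ≫
      V.ι ≫ F.e.hom by rw [morphismRestrict_ι_assoc, Scheme.homOfLE_ι_assoc]]
    haveI : Smooth (fs ∣_ V) := IsZariskiLocalAtTarget.restrict ‹Smooth fs› V
    haveI := hVsm
    infer_instance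
  refine ⟨⟨Set.range φ, φ.isOpenMap.isOpen_range⟩, ⟨_, ⟨⟨_, hOne.some_mem⟩, rfl⟩⟩, ?_⟩
  rintro x ⟨y, rfl⟩ hxc
  let qO : (O : Scheme.{u}) ⟶ Spec (CommRingCat.of k) := φ ≫ pX
  haveI : LocallyOfFiniteType qO := inferInstanceAs (LocallyOfFiniteType (φ ≫ pX))
  haveI : JacobsonSpace (O : Scheme.{u}) := LocallyOfFiniteType.jacobsonSpace qO
  obtain ⟨y', hy', hyc⟩ := nonempty_inter_closedPoints (X := (O : Scheme.{u})) (Z := φ ⁻¹' {φ y})
    ⟨y, rfl⟩ (hxc.preimage φ.continuous).isLocallyClosed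
  let y₀ := (pointEquivClosedPoint qO).symm ⟨y', hyc⟩
  have hy₀ : y₀.1 (IsLocalRing.closedPoint k) = y' :=
    congrArg Subtype.val ((pointEquivClosedPoint qO).apply_symm_apply ⟨y', hyc⟩)
  let z : Spec (CommRingCat.of k) ⟶ P := y₀.1 ≫ O.ι
  have hz : z (IsLocalRing.closedPoint k) ∈ O := (y₀.1 (IsLocalRing.closedPoint k)).2
  have hzq : (z ≫ fs ≫ F.e.hom) ≫ pX = 𝟙 _ := by
    refine Eq.trans ?_ y₀.2
    simp [z, qO, φ]
  let mz := z ≫ fs ≫ F.toM
  let mB : Spec (CommRingCat.of k) ⟶ B := IsOpenImmersion.lift B.ι mz (by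
    rintro _ ⟨q, rfl⟩
    obtain rfl : q = IsLocalRing.closedPoint k := Subsingleton.elim (α := PrimeSpectrum k) _ _
    rw [Scheme.Opens.range_ι]
    exact hz.2)
  have hmB : mB ≫ B.ι = mz := IsOpenImmersion.lift_fac _ _ _
  let a := z ≫ fs ≫ F.e.domain.ι
  let b := z ≫ pullback.snd F.toM F.toM ≫ F.e.domain.ι
  have ha : a ≫ f = mz := by simp [a, mz, fs, f]; rfl
  have hb : b ≫ f = mz := by
    show _ = z ≫ pullback.fst F.toM F.toM ≫ F.toM
    rw [pullback.condition]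
    simp [b, f]; rfl
  have hmzq : mz ≫ F.m = 𝟙 _ := by
    refine Eq.trans ?_ hzq
    exact (Category.assoc z _ F.m).trans ((congrArg (z ≫ ·) ((Category.assoc fs F.toM F.m).trans
      ((congrArg (fs ≫ ·) F.toM_m).trans (Category.assoc _ _ _).symm))).trans (Category.assoc _ _ _).symm)
  let m := B.ι ≫ F.m
  have hmBm : mB ≫ m = 𝟙 _ := by rw [← hmzq, ← hmB, Category.assoc]
  let M' : Over (Spec (CommRingCat.of k)) := Over.mk F.m
  let j : pullback p m ⟶ pullback p F.m := (FreeCurve.prodOpenIso (M := M') B).hom ≫ (f ⁻¹ᵁ B).ι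
  have hj₁ : j ≫ pullback.fst p F.m = pullback.fst p m :=
    (Category.assoc _ _ _).trans (FreeCurve.prodOpenIso_fst (M := M') B)
  have hj₂ : j ≫ f = pullback.snd p m ≫ B.ι := by
    show (_ ≫ _) ≫ f = _
    rw [Category.assoc, show (f ⁻¹ᵁ B).ι ≫ f = (f ∣_ B) ≫ B.ι from (morphismRestrict_ι _ _).symm, ← Category.assoc]
    exact congrArg (· ≫ B.ι) (FreeCurve.prodOpenIso_snd (M := M') B)
  let jU : pullback p m ⟶ U' := IsOpenImmersion.lift U'.ι j (by
    rintro _ ⟨q, rfl⟩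
    rw [Scheme.Opens.range_ι]
    exact hBU' ((FreeCurve.prodOpenIso (M := M') B).hom q).2)
  have hjU : jU ≫ U'.ι = j := IsOpenImmersion.lift_fac _ _ _
  let E : pullback p m ⟶ X := jU ≫ hU'
  have hE : E ≫ pX = pullback.fst p m ≫ p := by
    show (jU ≫ hU') ≫ pX = _
    rw [Category.assoc, hU'p, reassoc_of% hjU, reassoc_of% hj₁]
  have hle' : (pullback p F.m).homOfLE hle ≫ U'.ι = F.e.domain.ι := Scheme.homOfLE_ι _ hle
  let i : CohB1.ProjSpace 1 k ⟶ pullback p m :=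
    pullback.lift (𝟙 _) (p ≫ mB) (by rw [Category.id_comp, Category.assoc, hmBm, Category.comp_id])
  let g := i ≫ E
  have hg : g ≫ pX = p := by rw [Category.assoc, hE, pullback.lift_fst_assoc, Category.id_comp]
  have key : ∀ (a' : Spec (CommRingCat.of k) ⟶ F.e.domain) (ha' : (a' ≫ F.e.domain.ι) ≫ f = mz),
      ((a' ≫ F.e.domain.ι) ≫ pullback.fst p F.m) ≫ p = 𝟙 _ ∧
      (((a' ≫ F.e.domain.ι) ≫ pullback.fst p F.m) ≫ i) ≫ j = a' ≫ F.e.domain.ι ∧
      ((a' ≫ F.e.domain.ι) ≫ pullback.fst p F.m) ≫ g = a' ≫ F.e.hom := by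
    intro a' ha'
    have h1 : ((a' ≫ F.e.domain.ι) ≫ pullback.fst p F.m) ≫ p = 𝟙 _ := by
      rw [Category.assoc, pullback.condition, ← Category.assoc, ha', hmzq]
    have h2 : (((a' ≫ F.e.domain.ι) ≫ pullback.fst p F.m) ≫ i) ≫ j = a' ≫ F.e.domain.ι := by
      apply pullback.hom_ext
      · rw [Category.assoc, hj₁, Category.assoc, pullback.lift_fst, Category.comp_id]
      · rw [Category.assoc, hj₂, Category.assoc, pullback.lift_snd_assoc, Category.assoc p mB B.ι, hmB,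
          ← Category.assoc _ p mz, h1, Category.id_comp, ha']
    refine ⟨h1, h2, ?_⟩
    have h3 : (((a' ≫ F.e.domain.ι) ≫ pullback.fst p F.m) ≫ i) ≫ jU = a' ≫ (pullback p F.m).homOfLE hle := by
      rw [← cancel_mono U'.ι]
      simp only [Category.assoc, hle', hjU]
      simpa only [Category.assoc] using h2
    show ((a' ≫ F.e.domain.ι) ≫ pullback.fst p F.m) ≫ i ≫ jU ≫ hU' = _
    rw [← hU'e, ← Category.assoc _ i, ← Category.assoc _ jU, h3, Category.assoc]
  obtain ⟨ht, htj, htg⟩ := key (z ≫ fs) (by rw [← ha]; simp [a])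
  obtain ⟨ht', -, htg'⟩ := key (z ≫ pullback.snd F.toM F.toM) (by rw [← hb]; simp [b])
  refine ⟨g, hg, ?_, ?_, ?_⟩
  · refine (FreeCurve.sep_iff_nonconst g hg).1 ⟨_, _, ht, ht', fun he => hz.1.1 ?_⟩
    rw [htg, htg'] at he
    have h5 : z ≫ F.ev₂ = (z ≫ fs ≫ F.e.hom) ≫ pullback.diagonal pX := by
      apply pullback.hom_ext
      · simp [fs]
      · simpa [fs] using he.symm
    exact ⟨(z ≫ fs ≫ F.e.hom) (IsLocalRing.closedPoint k),
      (congrArg (fun φ : Spec (CommRingCat.of k) ⟶ pullback pX pX => φ (IsLocalRing.closedPoint k)) h5).symm⟩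
  · refine ⟨(((z ≫ fs) ≫ F.e.domain.ι) ≫ pullback.fst p F.m) (IsLocalRing.closedPoint k), ?_⟩
    show ((((z ≫ fs) ≫ F.e.domain.ι) ≫ pullback.fst p F.m) ≫ g) (IsLocalRing.closedPoint k) = _
    rw [htg]
    refine Eq.trans ?_ hy'
    rw [← hy₀, ← Scheme.Hom.comp_apply]
    simp [z, φ, Category.assoc]
  refine (FreeCurve.isFree_iff pX g).2 (FreeCurve.good_of_cotangent pX m mB E hE i (pullback.lift_fst _ _ _)
    (pullback.lift_snd _ _ _) _ ht ?_)
  let t := ((z ≫ fs) ≫ F.e.domain.ι) ≫ pullback.fst p F.m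
  let pt : Spec (CommRingCat.of k) ⟶ pullback p m := t ≫ i
  let qP : pullback p m ⟶ Spec (CommRingCat.of k) := pullback.snd p m ≫ m
  haveI : Smooth m := hBsm
  haveI : Smooth (pullback.snd p m) := MorphismProperty.pullback_snd _ _ ‹Smooth p›
  haveI : Smooth qP := inferInstanceAs (Smooth (_ ≫ _))
  have hEq : E ≫ pX = qP := hE.trans pullback.condition
  haveI : IsOpenImmersion j := inferInstanceAs (IsOpenImmersion (_ ≫ _))
  let W₁ := j ⁻¹ᵁ (F.e.domain.ι ''ᵁ V)
  have hptW : pt (IsLocalRing.closedPoint k) ∈ W₁ := by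
    show (pt ≫ j) (IsLocalRing.closedPoint k) ∈ F.e.domain.ι ''ᵁ V
    rw [show pt ≫ j = (z ≫ fs) ≫ F.e.domain.ι from htj]
    exact ⟨(z ≫ fs) (IsLocalRing.closedPoint k), hz.1.2, rfl⟩
  let ℓ : (W₁ : Scheme.{u}) ⟶ V := IsOpenImmersion.lift (V.ι ≫ F.e.domain.ι) (W₁.ι ≫ j) (by
    rintro _ ⟨q, rfl⟩
    obtain ⟨d, hd, hd'⟩ : (W₁.ι ≫ j) q ∈ F.e.domain.ι ''ᵁ V := q.2
    exact ⟨⟨d, hd⟩, hd'⟩)
  have hℓ : ℓ ≫ V.ι ≫ F.e.domain.ι = W₁.ι ≫ j := IsOpenImmersion.lift_fac _ _ _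
  haveI : IsOpenImmersion ℓ := by
    haveI : IsOpenImmersion (ℓ ≫ V.ι ≫ F.e.domain.ι) := by rw [hℓ]; infer_instance
    exact IsOpenImmersion.of_comp ℓ (V.ι ≫ F.e.domain.ι)
  haveI : Smooth (W₁.ι ≫ E) := by
    have h6 : W₁.ι ≫ jU = (ℓ ≫ V.ι) ≫ (pullback p F.m).homOfLE hle := by
      rw [← cancel_mono U'.ι]
      simp only [Category.assoc, hle', hjU, hℓ]
    rw [show W₁.ι ≫ E = ℓ ≫ V.ι ≫ F.e.hom by
      show W₁.ι ≫ jU ≫ hU' = _
      rw [reassoc_of% h6, hU'e]]
    haveI := hVsm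
    infer_instance
  haveI : LocallyOfFiniteType (E ≫ pX) := by rw [hEq]; infer_instance
  haveI : LocallyOfFiniteType E := locallyOfFiniteType_of_comp E pX
  haveI : IsLocallyNoetherian X := LocallyOfFiniteType.isLocallyNoetherian pX
  haveI : LocallyOfFinitePresentation E := LocallyOfFinitePresentation.iff_locallyOfFiniteType.2 inferInstance
  have hptc : IsClosed ({pt (IsLocalRing.closedPoint k)} : Set ↥(pullback p m)) :=
    (pointEquivClosedPoint qP ⟨pt, by
      show (t ≫ i) ≫ pullback.snd p m ≫ m = 𝟙 _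
      rw [← pullback.condition, Category.assoc, pullback.lift_fst_assoc, Category.id_comp]
      exact ht⟩).2
  have hmem : pt (IsLocalRing.closedPoint k) ∈ E.smoothLocus := by
    have h8 : (⟨pt (IsLocalRing.closedPoint k), hptW⟩ : W₁) ∈ (W₁.ι ≫ E).smoothLocus := by
      rw [Scheme.Hom.smoothLocus_eq_top_iff.2 inferInstance]; trivial
    rwa [← Scheme.Hom.preimage_smoothLocus_eq] at h8
  exact (SmDiff.cotangentMapAt_injective_iff E _).1
    ((SmDiff.formallySmooth_stalkMap_iff_injective qP pX E hEq hptc).1 (Scheme.Hom.mem_smoothLocus.1 hmem))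

end Groth.Agent.S17163
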