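import Groth.Statements.S17164
import Groth.Agent.FreeCurve.SmoothPair

set_option linter.style.haveILetI false
set_option backward.isDefEq.respectTransparency false
set_option backward.isDefEq.respectTransparency.types false
set_option synthInstance.maxHeartbeats 400000
set_option maxHeartbeats 1000000

set_option autoImplicit false
universe u
open CategoryTheory CategoryTheory.Limits AlgebraicGeometry
open MorSch

namespace Groth.Agent.S17164

/-- Let X be a projective variety over an algebraically closed field k containing a very free rational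
curve, i.e. a nonconstant k-morphism f from the projective line to X whose image lies in the smooth
locus of X over k and such that f^*T_X ⊗ O(−1) is globally generated (T_X the dual of the sheaf of
differentials). Then a general pair of points of X lies on one very free rational curve: there is a
nonempty open subset W of X ×_k X such that for every closed point w of W some nonconstant
k-morphism g from the projective line, with image in the smooth locus and g^*T_X ⊗ O(−1) globally
generated, has both projections of w in its image. (The published statement is for X proper and for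
a general finite subset of any size; this row takes X projective and states the case of two points.) -/
theorem result
    (k : Type u) [Field k] [IsAlgClosed k] (X : Scheme.{u}) (pX : X ⟶ Spec (CommRingCat.of k))
    [IsIntegral X] [IsSeparated pX] [LocallyOfFinitePresentation pX] [QuasiCompact pX]
    (hproj : ∃ (N : ℕ) (ι : X ⟶ CohB1.ProjSpace N k), IsClosedImmersion ι ∧ ι ≫ CohB1.ProjSpace.toSpec N k = pX)
    (f : CohB1.ProjSpace 1 k ⟶ X) (hf : f ≫ pX = CohB1.ProjSpace.toSpec 1 k)
    (hnc : ¬ ∃ x : X, Set.range f.base ⊆ {x})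
    (hsm : Set.range f.base ⊆ (pX.smoothLocus : Set X)) (hvf : MorSch.IsVeryFree pX f) :
    ∃ W : (pullback pX pX).Opens, (W : Set ↥(pullback pX pX)).Nonempty ∧
      ∀ w ∈ (W : Set ↥(pullback pX pX)), IsClosed ({w} : Set ↥(pullback pX pX)) →
        ∃ g : CohB1.ProjSpace 1 k ⟶ X, g ≫ pX = CohB1.ProjSpace.toSpec 1 k ∧ (¬ ∃ y : X, Set.range g.base ⊆ {y}) ∧
          Set.range g.base ⊆ (pX.smoothLocus : Set X) ∧ MorSch.IsVeryFree pX g ∧
          (pullback.fst pX pX).base w ∈ Set.range g.base ∧ (pullback.snd pX pX).base w ∈ Set.range g.base := by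
  classical
  obtain ⟨N, ι, hι, hιp⟩ := hproj
  haveI := hι
  obtain ⟨hWs, hWsep, hqp'⟩ := FreeCurve.smoothPart pX ⟨N, ι, inferInstance, hιp⟩
  obtain ⟨f', hf', hf'q, hsep⟩ := FreeCurve.exists_lift_smooth pX f hf hnc hsm
  let W := pX.smoothLocus
  let q := W.ι ≫ pX
  haveI : Smooth q := hWs
  haveI : IsSeparated q := hWsep
  have hvf' : Subsingleton (Coh.HH (CohB1.ProjSpace 1 k)
      ((Scheme.Modules.pullback f').obj (Omega.sheaf q)) 0) :=
    (FreeCurve.isVeryFree_iff q f').1 ((FreeCurve.isRFree_restrict_iff pX W f' 1).2 (by rw [hf']; exact hvf))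
  obtain ⟨M, hlft, v, hM⟩ := FreeCurve.exists_mor (q := q) hqp'
  haveI := hlft
  obtain ⟨mp, hmp, hc⟩ := FreeCurve.exists_point_of_curve hM f' hf'q
  obtain ⟨A₁, hA₁⟩ := FreeCurve.exists_vfOpen v
  obtain ⟨A₂, hA₂⟩ := FreeCurve.exists_sepOpen v
  let A := FreeCurve.goodOpen v ⊓ (A₁ ⊓ A₂)
  have hmpA : mp (IsLocalRing.closedPoint k) ∈ A :=
    ⟨(FreeCurve.good_iff_rational mp hmp).1 (by rw [hc]; exact FreeCurve.good_of_hh0 f' hvf'),
      (hA₁ mp hmp).2 (by rw [hc]; exact hvf'), (hA₂ mp hmp).2 (by rw [hc]; exact hsep)⟩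
  let O := FreeCurve.pairOpen (k := k) A
  haveI hsmO : Smooth (O.ι ≫ FreeCurve.ev₂ v) := FreeCurve.smooth_ev₂ hM A inf_le_left
    fun m hm h => (hA₁ m hm).1 h.2.1
  let wW : pullback q q ⟶ pullback pX pX := pullback.map q q pX pX W.ι W.ι (𝟙 _) (by simp [q]) (by simp [q])
  haveI : IsOpenImmersion wW := inferInstance
  let F := (O.ι ≫ FreeCurve.ev₂ v) ≫ wW
  haveI : Smooth F := inferInstanceAs (Smooth ((O.ι ≫ FreeCurve.ev₂ v) ≫ wW))
  refine ⟨⟨Set.range F, F.isOpenMap.isOpen_range⟩, ?_, ?_⟩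
  · obtain ⟨t, t', ht, ht', hne, h0, h0'⟩ := FreeCurve.exists_two_points_chart (k := k)
    obtain ⟨z, hz, -⟩ := FreeCurve.exists_pairPoint A mp hmp hmpA t t' ht ht' hne h0 h0'
    exact ⟨_, ⟨z (IsLocalRing.closedPoint k), hz⟩, rfl⟩
  rintro w ⟨y, rfl⟩ hwc
  let qO : (O : Scheme.{u}) ⟶ Spec (CommRingCat.of k) := F ≫ pullback.fst pX pX ≫ pX
  haveI : LocallyOfFiniteType qO := inferInstanceAs (LocallyOfFiniteType (F ≫ pullback.fst pX pX ≫ pX))
  haveI : JacobsonSpace (O : Scheme.{u}) := LocallyOfFiniteType.jacobsonSpace qO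
  obtain ⟨y', hy', hyc⟩ := nonempty_inter_closedPoints (X := (O : Scheme.{u})) (Z := F ⁻¹' {F y})
    ⟨y, rfl⟩ (hwc.preimage F.continuous).isLocallyClosed
  let y₀ := (pointEquivClosedPoint qO).symm ⟨y', hyc⟩
  have hy₀ : y₀.1 (IsLocalRing.closedPoint k) = y' :=
    congrArg Subtype.val ((pointEquivClosedPoint qO).apply_symm_apply ⟨y', hyc⟩)
  have hw : (y₀.1 ≫ F) (IsLocalRing.closedPoint k) = F y := by
    rw [Scheme.Hom.comp_apply, hy₀]; exact hy'
  let p := CohB1.ProjSpace.toSpec 1 k
  let pr := pullback.snd p M.hom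
  let z := y₀.1 ≫ O.ι
  have hmem : z (IsLocalRing.closedPoint k) ∈ O := (y₀.1 (IsLocalRing.closedPoint k)).2
  let mz := z ≫ pullback.fst pr pr ≫ pr
  have hmz : mz ≫ M.hom = 𝟙 _ := by
    refine Eq.trans ?_ y₀.2
    simp only [mz, z, qO, F, wW, Category.assoc, pullback.lift_fst_assoc]
    rw [reassoc_of% (FreeCurve.ev₂_fst v)]
    show _ = y₀.1 ≫ O.ι ≫ pullback.fst pr pr ≫ v.1 ≫ q
    rw [show v.1 ≫ q = pullback.fst p M.hom ≫ p from v.2, show pullback.fst p M.hom ≫ p = pr ≫ M.hom from pullback.condition]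
  have hA := hmem.1.1
  let g' := FreeCurve.curveAt v mz hmz
  have hg' : g' ≫ q = p := FreeCurve.curveAt_comp mz hmz
  let g := g' ≫ W.ι
  have hg : g ≫ pX = p := by rw [Category.assoc]; exact hg'
  have hvfz := (hA₁ mz hmz).1 hA.2.1
  have hsepz := (hA₂ mz hmz).1 hA.2.2
  refine ⟨g, hg, ?_, ?_, ?_, ?_, ?_⟩
  · refine (FreeCurve.sep_iff_nonconst g hg).1 ?_
    obtain ⟨t, t', ht, ht', hne⟩ := hsepz
    exact ⟨t, t', ht, ht', fun he => hne ((cancel_mono W.ι).1 (by simpa only [g, Category.assoc] using he))⟩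
  · rintro _ ⟨x, rfl⟩
    exact (g' x).2
  · exact (FreeCurve.isRFree_restrict_iff pX W g' 1).1 ((FreeCurve.isVeryFree_iff q g').2 hvfz)
  · refine ⟨(z ≫ pullback.fst pr pr ≫ pullback.fst p M.hom) (IsLocalRing.closedPoint k), ?_⟩
    show ((z ≫ pullback.fst pr pr ≫ pullback.fst p M.hom) ≫ g) (IsLocalRing.closedPoint k) = _
    rw [← hw]
    show _ = ((y₀.1 ≫ F) ≫ pullback.fst pX pX) (IsLocalRing.closedPoint k)
    refine congrArg (fun φ : Spec (CommRingCat.of k) ⟶ X => φ (IsLocalRing.closedPoint k)) ?_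
    simp only [g, g', F, wW, FreeCurve.curveAt, Category.assoc, pullback.lift_fst]
    rw [reassoc_of% (FreeCurve.ev₂_fst v)]
    simp only [← Category.assoc]
    refine congrArg (· ≫ W.ι) (congrArg (· ≫ v.1) ?_)
    apply pullback.hom_ext
    · simp [z, p, pr]
    · simp only [Category.assoc, pullback.lift_snd, mz, z]
      rw [← Category.assoc (pullback.fst p M.hom) p, pullback.condition (f := p) (g := M.hom), Category.assoc,
        show pr ≫ M.hom ≫ y₀.1 ≫ O.ι ≫ pullback.fst pr pr ≫ pr = pr ≫ M.hom ≫ mz from rfl]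
      have h1 : (y₀.1 ≫ O.ι ≫ pullback.fst pr pr ≫ pr) ≫ M.hom = 𝟙 _ := by simpa [mz, z] using hmz
      simp only [mz, z, Category.assoc]
      simp only [Category.assoc] at h1
      rw [reassoc_of% h1]
  · refine ⟨(z ≫ pullback.snd pr pr ≫ pullback.fst p M.hom) (IsLocalRing.closedPoint k), ?_⟩
    show ((z ≫ pullback.snd pr pr ≫ pullback.fst p M.hom) ≫ g) (IsLocalRing.closedPoint k) = _
    rw [← hw]
    show _ = ((y₀.1 ≫ F) ≫ pullback.snd pX pX) (IsLocalRing.closedPoint k)
    refine congrArg (fun φ : Spec (CommRingCat.of k) ⟶ X => φ (IsLocalRing.closedPoint k)) ?_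
    simp only [g, g', F, wW, FreeCurve.curveAt, Category.assoc, pullback.lift_snd]
    rw [reassoc_of% (FreeCurve.ev₂_snd v)]
    simp only [← Category.assoc]
    refine congrArg (· ≫ W.ι) (congrArg (· ≫ v.1) ?_)
    apply pullback.hom_ext
    · simp [z, p, pr]
    · simp only [Category.assoc, pullback.lift_snd, mz, z]
      rw [← Category.assoc (pullback.fst p M.hom) p, pullback.condition (f := p) (g := M.hom), Category.assoc]
      have h1 : (y₀.1 ≫ O.ι ≫ pullback.fst pr pr ≫ pr) ≫ M.hom = 𝟙 _ := by simpa [mz, z] using hmz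
      simp only [Category.assoc] at h1
      rw [← pullback.condition_assoc (f := pr) (g := pr), reassoc_of% h1]
      exact congrArg (fun φ => y₀.1 ≫ O.ι ≫ φ) pullback.condition

end Groth.Agent.S17164
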