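import Groth.Statements.S17165
import Groth.Agent.FreeCurve.SmoothPair
import Groth.Agent.S1582

set_option linter.style.haveILetI false
set_option backward.isDefEq.respectTransparency false
set_option backward.isDefEq.respectTransparency.types false
set_option synthInstance.maxHeartbeats 400000
set_option maxHeartbeats 1000000

set_option autoImplicit false
universe u
open CategoryTheory CategoryTheory.Limits AlgebraicGeometry
open MorSch

namespace Groth.Agent.S17165

/-- Let X be a projective variety over an algebraically closed field k containing a very free rational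
curve, i.e. a nonconstant k-morphism f from the projective line to X whose image lies in the smooth
locus of X over k and such that f^*T_X ⊗ O(−1) is globally generated (T_X the dual of the sheaf of
differentials). Then X is separably rationally connected: there is a k-variety M and a rational map
e from the product of the projective line with M to X such that the doubled evaluation map (t, t',
z) ↦ (e(t, z), e(t', z)) to X ×_k X is dominant and smooth on a dense open subset of its source.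
(The published statement is for X proper; this row takes X projective.) -/
theorem result
    (k : Type u) [Field k] [IsAlgClosed k] (X : Scheme.{u}) (pX : X ⟶ Spec (CommRingCat.of k))
    [IsIntegral X] [LocallyOfFinitePresentation pX] [IsProper pX]
    (hproj : ∃ (N : ℕ) (ι : X ⟶ CohB1.ProjSpace N k), IsClosedImmersion ι ∧ ι ≫ CohB1.ProjSpace.toSpec N k = pX)
    (f : CohB1.ProjSpace 1 k ⟶ X) (hf : f ≫ pX = CohB1.ProjSpace.toSpec 1 k)
    (hnc : ¬ ∃ x : X, Set.range f.base ⊆ {x})
    (hsm : Set.range f.base ⊆ (pX.smoothLocus : Set X)) (hvf : MorSch.IsVeryFree pX f) :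
    MorSch.IsSepRatConn k pX := by
  classical
  obtain ⟨N, ι, hι, hιp⟩ := hproj
  haveI := hι
  obtain ⟨hWs, hWsep, hqp'⟩ := FreeCurve.smoothPart pX ⟨N, ι, inferInstance, hιp⟩
  obtain ⟨f', hf', hf'q, hsep⟩ := FreeCurve.exists_lift_smooth pX f hf hnc hsm
  let W := pX.smoothLocus
  let q := W.ι ≫ pX
  haveI : Smooth q := hWs
  haveI : IsSeparated q := hWsep
  have hvf' : Subsingleton (Coh.HH (CohB1.ProjSpace 1 k)
      ((Scheme.Modules.pullback f').obj (Omega.sheaf q)) 0) :=
    (FreeCurve.isVeryFree_iff q f').1 ((FreeCurve.isRFree_restrict_iff pX W f' 1).2 (by rw [hf']; exact hvf))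
  obtain ⟨M, hlft, v, hM⟩ := FreeCurve.exists_mor (q := q) hqp'
  haveI := hlft
  obtain ⟨mp, hmp, hc⟩ := FreeCurve.exists_point_of_curve hM f' hf'q
  obtain ⟨A₁, hA₁⟩ := FreeCurve.exists_vfOpen v
  obtain ⟨B, mb, hmb, hBA, hBgood, hvar, hsmB, hmbB, -⟩ := FreeCurve.exists_var_family v hM A₁ mp hmp
    ((hA₁ mp hmp).2 (by rw [hc]; exact hvf')) (by rw [hc]; exact FreeCurve.good_of_hh0 f' hvf')
    (by rw [hc]; exact hsep)
  let p := CohB1.ProjSpace.toSpec 1 k
  let pr := pullback.snd p M.hom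
  let Z := pr ⁻¹ᵁ B
  let m := B.ι ≫ M.hom
  let e₀ : pullback p m ⟶ X := (FreeCurve.prodOpenIso B).hom ≫ Z.ι ≫ v.1 ≫ W.ι
  have he₀ : e₀ ≫ pX = pullback.fst p m ≫ p := by
    show ((FreeCurve.prodOpenIso B).hom ≫ Z.ι ≫ v.1 ≫ W.ι) ≫ pX = _
    simp only [Category.assoc]
    rw [show v.1 ≫ W.ι ≫ pX = pullback.fst p M.hom ≫ p from v.2]
    exact (congrArg ((FreeCurve.prodOpenIso B).hom ≫ ·) (Category.assoc _ _ _).symm).trans
      ((Category.assoc _ _ _).symm.trans (congrArg (· ≫ p) (FreeCurve.prodOpenIso_fst B)))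
  let F : RatFam k pX :=
    { M := B
      m := m
      isVar := hvar
      e := ⟨⊤, dense_univ, (⊤ : (pullback p m).Opens).ι ≫ e₀⟩
      comm := by
        show ((⊤ : (pullback p m).Opens).ι ≫ e₀) ≫ pX = _
        rw [Category.assoc, he₀] }
  let eY : (F.e.domain : Scheme.{u}) ⟶ PicF.XT p M :=
    F.e.domain.ι ≫ (FreeCurve.prodOpenIso B).hom ≫ Z.ι
  have heY : F.toM ≫ B.ι = eY ≫ pr := by
    show (F.e.domain.ι ≫ pullback.snd p m) ≫ B.ι = (F.e.domain.ι ≫ (FreeCurve.prodOpenIso B).hom ≫ Z.ι) ≫ pr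
    simp only [Category.assoc]
    rw [show Z.ι ≫ pr = (pr ∣_ B) ≫ B.ι from (morphismRestrict_ι _ _).symm,
      reassoc_of% (FreeCurve.prodOpenIso_snd B)]
  haveI : IsOpenImmersion eY :=
    inferInstanceAs (IsOpenImmersion (F.e.domain.ι ≫ (FreeCurve.prodOpenIso B).hom ≫ Z.ι))
  let Ψ : pullback F.toM F.toM ⟶ FreeCurve.pairSpace k M := pullback.map F.toM F.toM pr pr eY eY B.ι heY heY
  let wW : pullback q q ⟶ pullback pX pX := pullback.map q q pX pX W.ι W.ι (𝟙 _) (by simp [q]) (by simp [q])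
  have hΨ : F.ev₂ = Ψ ≫ FreeCurve.ev₂ v ≫ wW := by
    apply pullback.hom_ext
    · rw [RatFam.ev₂_fst]
      simp only [Ψ, wW, Category.assoc, pullback.lift_fst]
      rw [reassoc_of% (FreeCurve.ev₂_fst v), pullback.lift_fst_assoc]
      simp only [Category.assoc]
      rfl
    · rw [RatFam.ev₂_snd]
      simp only [Ψ, wW, Category.assoc, pullback.lift_snd]
      rw [reassoc_of% (FreeCurve.ev₂_snd v), pullback.lift_snd_assoc]
      simp only [Category.assoc]
      rfl
  let O := FreeCurve.pairOpen (k := k) B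
  haveI : Smooth (O.ι ≫ FreeCurve.ev₂ v) := FreeCurve.smooth_ev₂ hM B hBgood
    fun m hm h => (hA₁ m hm).1 (hBA h)
  let V := Ψ ⁻¹ᵁ O
  haveI : IsOpenImmersion wW := inferInstance
  haveI : IsOpenImmersion Ψ := inferInstance
  haveI hVsm : Smooth (V.ι ≫ F.ev₂) := by
    rw [hΨ, show V.ι ≫ Ψ ≫ FreeCurve.ev₂ v ≫ wW = (Ψ ∣_ O) ≫ (O.ι ≫ FreeCurve.ev₂ v) ≫ wW by
      rw [Category.assoc, morphismRestrict_ι_assoc]]
    haveI : IsOpenImmersion (Ψ ∣_ O) := IsZariskiLocalAtTarget.restrict ‹IsOpenImmersion Ψ› O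
    infer_instance
  -- irreducibility
  obtain ⟨hBint, hBsep, hBlft, hBqc⟩ := hvar
  haveI : IsIntegral (CohB1.ProjSpace 1 k) := Groth.Agent.CurveP1.isIntegral k
  haveI := ProjMor.isProper_toSpec 1 k
  haveI hYint : IsIntegral (pullback p m) := Groth.Agent.S1582.result k _ _ p m
  haveI : IsSeparated (pullback.snd p m) := MorphismProperty.pullback_snd _ _ inferInstance
  haveI : LocallyOfFiniteType (pullback.snd p m) := MorphismProperty.pullback_snd _ _ inferInstance
  haveI : QuasiCompact (pullback.snd p m) := MorphismProperty.pullback_snd _ _ inferInstance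
  haveI : IsIntegral (pullback p (pullback.snd p m ≫ m)) :=
    Groth.Agent.S1582.result k _ _ p (pullback.snd p m ≫ m)
  haveI hirr : IrreducibleSpace ↥(pullback F.toM F.toM) := by
    let c := pullback.map F.toM F.toM (pullback.snd p m) (pullback.snd p m) F.e.domain.ι F.e.domain.ι (𝟙 _)
      (Category.comp_id _) (Category.comp_id _)
    haveI : IsIso F.e.domain.ι := (pullback p m).topIso.isIso_hom
    haveI : IsIso c := inferInstance
    let d := c ≫ (pullbackLeftPullbackSndIso p m (pullback.snd p m)).hom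
    exact (asIso d).hom.homeomorph.irreducibleSpace_iff.2 inferInstance
  haveI : IsIntegral (pullback pX pX) := Groth.Agent.S1582.result k _ _ pX pX
  -- a point
  obtain ⟨t, t', ht, ht', hne, h0, h0'⟩ := FreeCurve.exists_two_points_chart (k := k)
  obtain ⟨z, hz, hz₂, hzt, hzt'⟩ := FreeCurve.exists_pairPoint B mb hmb hmbB t t' ht ht' hne h0 h0'
  let mbB : Spec (CommRingCat.of k) ⟶ B := IsOpenImmersion.lift B.ι mb (by
    rintro _ ⟨y, rfl⟩
    obtain rfl : y = IsLocalRing.closedPoint k := Subsingleton.elim (α := PrimeSpectrum k) _ _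
    rw [Scheme.Opens.range_ι]
    exact hmbB)
  have hmbB' : mbB ≫ B.ι = mb := IsOpenImmersion.lift_fac _ _ _
  have mk : ∀ u : Spec (CommRingCat.of k) ⟶ CohB1.ProjSpace 1 k, u ≫ p = 𝟙 _ →
      ∃ a : Spec (CommRingCat.of k) ⟶ F.e.domain, a ≫ F.toM = mbB ∧
        a ≫ eY ≫ pullback.fst p M.hom = u ∧ a ≫ eY ≫ pr = mb := fun u hu => by
    let a₀ : Spec (CommRingCat.of k) ⟶ pullback p m :=
      pullback.lift u mbB (by show u ≫ p = mbB ≫ B.ι ≫ M.hom; rw [hu, reassoc_of% hmbB', hmb])
    have htop : (pullback p m).topIso.inv ≫ F.e.domain.ι = 𝟙 _ := (pullback p m).topIso.inv_hom_id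
    have h1 : (a₀ ≫ (pullback p m).topIso.inv) ≫ F.toM = mbB := by
      show (a₀ ≫ _) ≫ F.e.domain.ι ≫ pullback.snd p m = mbB
      simp only [Category.assoc, reassoc_of% htop]
      exact pullback.lift_snd _ _ _
    refine ⟨_, h1, ?_, ?_⟩
    · show (a₀ ≫ _) ≫ (F.e.domain.ι ≫ _ ≫ _) ≫ _ = u
      simp only [Category.assoc, reassoc_of% htop]
      exact (congrArg (a₀ ≫ ·) (FreeCurve.prodOpenIso_fst B)).trans (pullback.lift_fst _ _ _)
    · rw [← heY, ← Category.assoc, h1, hmbB']
  obtain ⟨a, ha, ha₁, ha₂⟩ := mk t ht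
  obtain ⟨b, hb, hb₁, hb₂⟩ := mk t' ht'
  let z₂ : Spec (CommRingCat.of k) ⟶ pullback F.toM F.toM := pullback.lift a b (ha.trans hb.symm)
  have hz₂Ψ : z₂ ≫ Ψ = z := by
    have hz' : z ≫ pullback.snd pr pr ≫ pr = mb := by rw [← pullback.condition]; exact hz₂
    have e1 : (z₂ ≫ Ψ) ≫ pullback.fst pr pr = a ≫ eY :=
      (Category.assoc _ _ _).trans ((congrArg (z₂ ≫ ·) (pullback.lift_fst _ _ _)).trans
        ((Category.assoc _ _ _).symm.trans (congrArg (· ≫ eY) (pullback.lift_fst _ _ _))))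
    have e2 : (z₂ ≫ Ψ) ≫ pullback.snd pr pr = b ≫ eY :=
      (Category.assoc _ _ _).trans ((congrArg (z₂ ≫ ·) (pullback.lift_snd _ _ _)).trans
        ((Category.assoc _ _ _).symm.trans (congrArg (· ≫ eY) (pullback.lift_snd _ _ _))))
    apply pullback.hom_ext
    · rw [e1]
      apply pullback.hom_ext
      · simpa only [Category.assoc] using ha₁.trans hzt.symm
      · simpa only [Category.assoc] using ha₂.trans hz₂.symm
    · rw [e2]
      apply pullback.hom_ext
      · simpa only [Category.assoc] using hb₁.trans hzt'.symm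
      · simpa only [Category.assoc] using hb₂.trans hz'.symm
  have hVne : (V : Set ↥(pullback F.toM F.toM)).Nonempty := by
    refine ⟨z₂ (IsLocalRing.closedPoint k), ?_⟩
    show (z₂ ≫ Ψ) (IsLocalRing.closedPoint k) ∈ O
    rw [hz₂Ψ]; exact hz
  refine ⟨F, ⟨?_⟩, V, V.2.dense hVne, hVsm⟩
  have hd : Dense (Set.range (V.ι ≫ F.ev₂)) :=
    (V.ι ≫ F.ev₂).isOpenMap.isOpen_range.dense
      (Set.range_nonempty_iff_nonempty.2 ⟨⟨_, hVne.some_mem⟩⟩)
  exact hd.mono (by rintro _ ⟨x, rfl⟩; exact ⟨V.ι x, rfl⟩)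

end Groth.Agent.S17165
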