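import Groth.Statements.S17166
import Groth.Agent.FreeCurve.RatFamExt
import Groth.Agent.FreeCurve.CurveFamily
import Groth.Agent.FreeCurve.VFree
import Groth.Agent.FreeCurve.SmoothPair

set_option linter.style.haveILetI false
set_option backward.isDefEq.respectTransparency false
set_option backward.isDefEq.respectTransparency.types false
set_option synthInstance.maxHeartbeats 400000
set_option maxHeartbeats 1000000

set_option autoImplicit false
universe u
open CategoryTheory CategoryTheory.Limits AlgebraicGeometry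
open MorSch

namespace Groth.Agent.S17166

/-- Let X be a smooth projective variety over an algebraically closed field k which is separably
rationally connected and which is not a point (it has two distinct points). Then a general point of
X lies on a very free rational curve: for some nonempty open subset U of X, every closed point of U
lies on the image of a nonconstant k-morphism g from the projective line with g^*T_X ⊗ O(−1)
globally generated (T_X the dual of the sheaf of differentials). (The published statement has X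
smooth and proper and does not exclude the point, where by convention the constant map is the very
free curve; this row takes X projective, assumes X is not a point and asks for a nonconstant curve.) -/
theorem result
    (k : Type u) [Field k] [IsAlgClosed k] (X : Scheme.{u}) (pX : X ⟶ Spec (CommRingCat.of k))
    [IsIntegral X] [Smooth pX] [IsProper pX]
    (hproj : ∃ (N : ℕ) (ι : X ⟶ CohB1.ProjSpace N k), IsClosedImmersion ι ∧ ι ≫ CohB1.ProjSpace.toSpec N k = pX)
    (hpos : ∃ x y : X, x ≠ y)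
    (h : MorSch.IsSepRatConn k pX) :
    ∃ U : X.Opens, (U : Set X).Nonempty ∧ ∀ x ∈ (U : Set X), IsClosed ({x} : Set X) →
      ∃ g : CohB1.ProjSpace 1 k ⟶ X, g ≫ pX = CohB1.ProjSpace.toSpec 1 k ∧ (¬ ∃ y : X, Set.range g.base ⊆ {y}) ∧
        x ∈ Set.range g.base ∧ MorSch.IsVeryFree pX g := by
  classical
  obtain ⟨N, ι, hι, hιp⟩ := hproj
  haveI := hι
  haveI := ProjMor.isProper_toSpec N k
  obtain ⟨F, hdom, V, hV, hVsm⟩ := h
  obtain ⟨U', hle, hU', B, hB, hBsm, hBU', hU'p, hU'e⟩ := FreeCurve.exists_extend F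
  obtain ⟨hint, hsep, hlft, hqc⟩ := F.isVar
  let p := CohB1.ProjSpace.toSpec 1 k
  haveI : IsIntegral (CohB1.ProjSpace 1 k) := Groth.Agent.CurveP1.isIntegral k
  haveI := ProjMor.isProper_toSpec 1 k
  haveI := FreeCurve.smooth_toSpec k
  haveI : IsIntegral (pullback p F.m) := Groth.Agent.S1582.result k _ _ p F.m
  let f := pullback.snd p F.m
  haveI : Smooth f := MorphismProperty.pullback_snd _ _ ‹Smooth p›
  haveI : IsSeparated f := MorphismProperty.pullback_snd _ _ inferInstance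
  haveI : QuasiCompact f := MorphismProperty.pullback_snd _ _ inferInstance
  haveI : LocallyOfFiniteType f := inferInstance
  haveI : IsIntegral (pullback p (f ≫ F.m)) := Groth.Agent.S1582.result k _ _ p (f ≫ F.m)
  haveI : IsIntegral (pullback f f) := by
    haveI : Nonempty ↥(pullback f f) :=
      Nonempty.map (pullbackLeftPullbackSndIso p F.m f).inv inferInstance
    exact isIntegral_of_isOpenImmersion (pullbackLeftPullbackSndIso p F.m f).hom
  let P := pullback F.toM F.toM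
  let c : P ⟶ pullback f f := pullback.map F.toM F.toM f f F.e.domain.ι F.e.domain.ι (𝟙 _)
    (Category.comp_id _) (Category.comp_id _)
  haveI : IsOpenImmersion c := inferInstance
  obtain ⟨x₁, x₂, hx₁₂⟩ := hpos
  obtain ⟨xy, hxy, hxy'⟩ := Scheme.Pullback.exists_preimage_pullback (f := pX) (g := pX) x₁ x₂
    (Subsingleton.elim (α := PrimeSpectrum k) _ _)
  let Δc : (pullback pX pX).Opens := ⟨(Set.range (pullback.diagonal pX))ᶜ,
    (pullback.diagonal pX).isClosedEmbedding.isClosed_range.isOpen_compl⟩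
  have hxyD : xy ∈ Δc := by
    rintro ⟨y, hy⟩
    refine hx₁₂ ?_
    rw [← hxy, ← hxy', ← hy, ← Scheme.Hom.comp_apply, ← Scheme.Hom.comp_apply, pullback.diagonal_fst,
      pullback.diagonal_snd]
  obtain ⟨w, hwD'⟩ : ∃ w, F.ev₂ w ∈ Δc := hdom.denseRange.exists_mem_open Δc.2 ⟨xy, hxyD⟩
  haveI : Nonempty ↥P := ⟨w⟩
  haveI : IsIntegral P := isIntegral_of_isOpenImmersion c
  haveI : Smooth F.toM := inferInstanceAs (Smooth (F.e.domain.ι ≫ f))
  haveI : Smooth (pullback.fst F.toM F.toM) := MorphismProperty.pullback_fst _ _ ‹Smooth F.toM›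
  let fs := pullback.fst F.toM F.toM
  haveI : Smooth (pullback.snd F.toM F.toM) := MorphismProperty.pullback_snd _ _ ‹Smooth F.toM›
  let sn := pullback.snd F.toM F.toM
  let D : P.Opens := F.ev₂ ⁻¹ᵁ Δc
  haveI : Nonempty ↥(pullback p F.m) := inferInstance
  obtain ⟨u0, hu0⟩ : ((P1Split.U k 0 : (CohB1.ProjSpace 1 k).Opens) : Set (CohB1.ProjSpace 1 k)).Nonempty :=
    P1Split.U_nonempty 0
  obtain ⟨b0, hb0⟩ := hB
  obtain ⟨y0, hy0, -⟩ := Scheme.Pullback.exists_preimage_pullback (f := p) (g := F.m) u0 b0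
    (Subsingleton.elim (α := PrimeSpectrum k) _ _)
  have hU0 : ((pullback.fst p F.m ⁻¹ᵁ P1Split.U k 0 : (pullback p F.m).Opens) : Set ↥(pullback p F.m)).Nonempty :=
    ⟨y0, show pullback.fst p F.m y0 ∈ P1Split.U k 0 by rw [hy0]; exact hu0⟩
  have hop : ∀ (φ : P ⟶ pullback p F.m) [Smooth φ] {W : (pullback p F.m).Opens},
      (W : Set ↥(pullback p F.m)).Nonempty → ((φ ⁻¹ᵁ W : P.Opens) : Set ↥P).Nonempty := by
    intro φ _ W hW
    obtain ⟨y, ⟨a, rfl⟩, hy⟩ := nonempty_preirreducible_inter φ.isOpenMap.isOpen_range W.2 ⟨_, w, rfl⟩ hW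
    exact ⟨a, hy⟩
  haveI : Smooth (fs ≫ F.e.domain.ι) := inferInstance
  haveI : Smooth (sn ≫ F.e.domain.ι) := inferInstance
  let U₀₁ : P.Opens := (fs ≫ F.e.domain.ι) ⁻¹ᵁ (pullback.fst p F.m ⁻¹ᵁ P1Split.U k 0) ⊓
    (sn ≫ F.e.domain.ι) ⁻¹ᵁ (pullback.fst p F.m ⁻¹ᵁ P1Split.U k 0)
  have hBne : (((fs ≫ F.toM) ⁻¹ᵁ B : P.Opens) : Set ↥P).Nonempty := by
    obtain ⟨y, ⟨a, rfl⟩, hy⟩ := nonempty_preirreducible_inter (fs ≫ F.toM).isOpenMap.isOpen_range B.2
      ⟨_, w, rfl⟩ ⟨b0, hb0⟩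
    exact ⟨a, hy⟩
  let O : P.Opens := ((D ⊓ V) ⊓ (fs ≫ F.toM) ⁻¹ᵁ B) ⊓ U₀₁
  have hOne : (O : Set ↥P).Nonempty := by
    have hu : (U₀₁ : Set ↥P).Nonempty := nonempty_preirreducible_inter
      ((fs ≫ F.e.domain.ι) ⁻¹ᵁ _).2 ((sn ≫ F.e.domain.ι) ⁻¹ᵁ _).2 (hop _ hU0) (hop _ hU0)
    obtain ⟨a, haD, haV⟩ := hV.inter_open_nonempty _ D.2 ⟨w, hwD'⟩
    exact nonempty_preirreducible_inter ((D ⊓ V) ⊓ (fs ≫ F.toM) ⁻¹ᵁ B).2 U₀₁.2
      (nonempty_preirreducible_inter (D ⊓ V).2 ((fs ≫ F.toM) ⁻¹ᵁ B).2 ⟨a, haD, haV⟩ hBne) hu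
  let φ : (O : Scheme.{u}) ⟶ X := O.ι ≫ F.ev₂ ≫ pullback.fst pX pX
  haveI : Smooth φ := by
    show Smooth (O.ι ≫ F.ev₂ ≫ pullback.fst pX pX)
    rw [show O.ι ≫ F.ev₂ ≫ pullback.fst pX pX = P.homOfLE ((inf_le_left.trans inf_le_left).trans inf_le_right : O ≤ V) ≫
      (V.ι ≫ F.ev₂) ≫ pullback.fst pX pX by rw [Category.assoc, Scheme.homOfLE_ι_assoc]]
    haveI := hVsm
    haveI : Smooth (pullback.fst pX pX) := MorphismProperty.pullback_fst _ _ ‹Smooth pX›
    infer_instance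
  refine ⟨⟨Set.range φ, φ.isOpenMap.isOpen_range⟩, ⟨_, ⟨⟨_, hOne.some_mem⟩, rfl⟩⟩, ?_⟩
  rintro x ⟨y, rfl⟩ hxc
  let qO : (O : Scheme.{u}) ⟶ Spec (CommRingCat.of k) := φ ≫ pX
  haveI : LocallyOfFiniteType qO := inferInstanceAs (LocallyOfFiniteType (φ ≫ pX))
  haveI : JacobsonSpace (O : Scheme.{u}) := LocallyOfFiniteType.jacobsonSpace qO
  obtain ⟨y', hy', hyc⟩ := nonempty_inter_closedPoints (X := (O : Scheme.{u})) (Z := φ ⁻¹' {φ y})
    ⟨y, rfl⟩ (hxc.preimage φ.continuous).isLocallyClosed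
  let y₀ := (pointEquivClosedPoint qO).symm ⟨y', hyc⟩
  have hy₀ : y₀.1 (IsLocalRing.closedPoint k) = y' :=
    congrArg Subtype.val ((pointEquivClosedPoint qO).apply_symm_apply ⟨y', hyc⟩)
  let z : Spec (CommRingCat.of k) ⟶ P := y₀.1 ≫ O.ι
  have hz : z (IsLocalRing.closedPoint k) ∈ O := (y₀.1 (IsLocalRing.closedPoint k)).2
  have hzq : (z ≫ fs ≫ F.e.hom) ≫ pX = 𝟙 _ := by
    refine Eq.trans ?_ y₀.2
    simp [z, qO, φ, fs]
  let mz := z ≫ fs ≫ F.toM
  let mB : Spec (CommRingCat.of k) ⟶ B := IsOpenImmersion.lift B.ι mz (by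
    rintro _ ⟨q, rfl⟩
    obtain rfl : q = IsLocalRing.closedPoint k := Subsingleton.elim (α := PrimeSpectrum k) _ _
    rw [Scheme.Opens.range_ι]
    exact hz.1.2)
  have hmB : mB ≫ B.ι = mz := IsOpenImmersion.lift_fac _ _ _
  let a := z ≫ fs ≫ F.e.domain.ι
  let b := z ≫ pullback.snd F.toM F.toM ≫ F.e.domain.ι
  have ha : a ≫ f = mz := by simp [a, mz, fs, f]; rfl
  have hb : b ≫ f = mz := by
    show _ = z ≫ pullback.fst F.toM F.toM ≫ F.toM
    rw [pullback.condition]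
    simp [b, f]; rfl
  have hmzq : mz ≫ F.m = 𝟙 _ := by
    refine Eq.trans ?_ hzq
    exact (Category.assoc z _ F.m).trans ((congrArg (z ≫ ·) ((Category.assoc fs F.toM F.m).trans
      ((congrArg (fs ≫ ·) F.toM_m).trans (Category.assoc _ _ _).symm))).trans (Category.assoc _ _ _).symm)
  let m := B.ι ≫ F.m
  have hmBm : mB ≫ m = 𝟙 _ := by rw [← hmzq, ← hmB, Category.assoc]
  let M' : Over (Spec (CommRingCat.of k)) := Over.mk F.m
  let j : pullback p m ⟶ pullback p F.m := (FreeCurve.prodOpenIso (M := M') B).hom ≫ (f ⁻¹ᵁ B).ι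
  have hj₁ : j ≫ pullback.fst p F.m = pullback.fst p m :=
    (Category.assoc _ _ _).trans (FreeCurve.prodOpenIso_fst (M := M') B)
  have hj₂ : j ≫ f = pullback.snd p m ≫ B.ι := by
    show (_ ≫ _) ≫ f = _
    rw [Category.assoc, show (f ⁻¹ᵁ B).ι ≫ f = (f ∣_ B) ≫ B.ι from (morphismRestrict_ι _ _).symm, ← Category.assoc]
    exact congrArg (· ≫ B.ι) (FreeCurve.prodOpenIso_snd (M := M') B)
  let jU : pullback p m ⟶ U' := IsOpenImmersion.lift U'.ι j (by
    rintro _ ⟨q, rfl⟩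
    rw [Scheme.Opens.range_ι]
    exact hBU' ((FreeCurve.prodOpenIso (M := M') B).hom q).2)
  have hjU : jU ≫ U'.ι = j := IsOpenImmersion.lift_fac _ _ _
  let E : pullback p m ⟶ X := jU ≫ hU'
  have hE : E ≫ pX = pullback.fst p m ≫ p := by
    show (jU ≫ hU') ≫ pX = _
    rw [Category.assoc, hU'p, reassoc_of% hjU, reassoc_of% hj₁]
  have hle' : (pullback p F.m).homOfLE hle ≫ U'.ι = F.e.domain.ι := Scheme.homOfLE_ι _ hle
  let i : CohB1.ProjSpace 1 k ⟶ pullback p m :=
    pullback.lift (𝟙 _) (p ≫ mB) (by rw [Category.id_comp, Category.assoc, hmBm, Category.comp_id])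
  let g := i ≫ E
  have hg : g ≫ pX = p := by rw [Category.assoc, hE, pullback.lift_fst_assoc, Category.id_comp]
  have key : ∀ (a' : Spec (CommRingCat.of k) ⟶ F.e.domain) (ha' : (a' ≫ F.e.domain.ι) ≫ f = mz),
      ((a' ≫ F.e.domain.ι) ≫ pullback.fst p F.m) ≫ p = 𝟙 _ ∧
      (((a' ≫ F.e.domain.ι) ≫ pullback.fst p F.m) ≫ i) ≫ j = a' ≫ F.e.domain.ι ∧
      ((a' ≫ F.e.domain.ι) ≫ pullback.fst p F.m) ≫ g = a' ≫ F.e.hom := by
    intro a' ha'
    have h1 : ((a' ≫ F.e.domain.ι) ≫ pullback.fst p F.m) ≫ p = 𝟙 _ := by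
      rw [Category.assoc, pullback.condition, ← Category.assoc, ha', hmzq]
    have h2 : (((a' ≫ F.e.domain.ι) ≫ pullback.fst p F.m) ≫ i) ≫ j = a' ≫ F.e.domain.ι := by
      apply pullback.hom_ext
      · rw [Category.assoc, hj₁, Category.assoc, pullback.lift_fst, Category.comp_id]
      · rw [Category.assoc, hj₂, Category.assoc, pullback.lift_snd_assoc, Category.assoc p mB B.ι, hmB,
          ← Category.assoc _ p mz, h1, Category.id_comp, ha']
    refine ⟨h1, h2, ?_⟩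
    have h3 : (((a' ≫ F.e.domain.ι) ≫ pullback.fst p F.m) ≫ i) ≫ jU = a' ≫ (pullback p F.m).homOfLE hle := by
      rw [← cancel_mono U'.ι]
      simp only [Category.assoc, hle', hjU]
      simpa only [Category.assoc] using h2
    show ((a' ≫ F.e.domain.ι) ≫ pullback.fst p F.m) ≫ i ≫ jU ≫ hU' = _
    rw [← hU'e, ← Category.assoc _ i, ← Category.assoc _ jU, h3, Category.assoc]
  obtain ⟨ht, htj, htg⟩ := key (z ≫ fs) (by rw [← ha]; simp [a])
  obtain ⟨ht', htj', htg'⟩ := key (z ≫ pullback.snd F.toM F.toM) (by rw [← hb]; simp [b])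
  refine ⟨g, hg, ?_, ?_, ?_⟩
  · refine (FreeCurve.sep_iff_nonconst g hg).1 ⟨_, _, ht, ht', fun he => hz.1.1.1 ?_⟩
    rw [htg, htg'] at he
    have h5 : z ≫ F.ev₂ = (z ≫ fs ≫ F.e.hom) ≫ pullback.diagonal pX := by
      apply pullback.hom_ext
      · simp [fs]
      · simpa [fs] using he.symm
    exact ⟨(z ≫ fs ≫ F.e.hom) (IsLocalRing.closedPoint k),
      (congrArg (fun φ : Spec (CommRingCat.of k) ⟶ pullback pX pX => φ (IsLocalRing.closedPoint k)) h5).symm⟩
  · refine ⟨(((z ≫ fs) ≫ F.e.domain.ι) ≫ pullback.fst p F.m) (IsLocalRing.closedPoint k), ?_⟩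
    show ((((z ≫ fs) ≫ F.e.domain.ι) ≫ pullback.fst p F.m) ≫ g) (IsLocalRing.closedPoint k) = _
    rw [htg]
    refine Eq.trans ?_ hy'
    rw [← hy₀, ← Scheme.Hom.comp_apply]
    simp [z, φ, fs, Category.assoc]
  refine (FreeCurve.isVeryFree_iff pX g).2 ?_
  let t := ((z ≫ fs) ≫ F.e.domain.ι) ≫ pullback.fst p F.m
  let t' := ((z ≫ sn) ≫ F.e.domain.ι) ≫ pullback.fst p F.m
  have hne : t ≠ t' := fun he => hz.1.1.1 (by
    have he' : (z ≫ fs) ≫ F.e.hom = (z ≫ sn) ≫ F.e.hom := by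
      rw [← htg, ← htg']
      exact congrArg (· ≫ g) he
    have h5 : z ≫ F.ev₂ = (z ≫ fs ≫ F.e.hom) ≫ pullback.diagonal pX := by
      apply pullback.hom_ext
      · simp [fs]
      · simpa [fs, sn] using he'.symm
    exact ⟨(z ≫ fs ≫ F.e.hom) (IsLocalRing.closedPoint k),
      (congrArg (fun φ : Spec (CommRingCat.of k) ⟶ pullback pX pX => φ (IsLocalRing.closedPoint k)) h5).symm⟩)
  have h0 : ⊤ ≤ t ⁻¹ᵁ P1Split.U k 0 := FreeCurve.le_preimage_of_mem t hz.2.1
  have h0' : ⊤ ≤ t' ⁻¹ᵁ P1Split.U k 0 := FreeCurve.le_preimage_of_mem t' hz.2.2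
  let pr := pullback.snd p m
  let P2 := pullback pr pr
  let zz : Spec (CommRingCat.of k) ⟶ P2 := pullback.lift (t ≫ i) (t' ≫ i) (by
    show (t ≫ i) ≫ pr = (t' ≫ i) ≫ pr
    rw [Category.assoc t, Category.assoc t', pullback.lift_snd, ← Category.assoc t, ← Category.assoc t', ht, ht'])
  let ev : P2 ⟶ pullback pX pX := pullback.lift (pullback.fst pr pr ≫ E) (pullback.snd pr pr ≫ E) (by
    refine (Category.assoc _ E pX).trans (Eq.trans ?_ (Category.assoc _ E pX).symm)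
    rw [hE, pullback.condition (f := p) (g := m), pullback.condition_assoc])
  haveI : IsSeparated m := inferInstanceAs (IsSeparated (B.ι ≫ F.m))
  refine FreeCurve.hh0_of_cotangent₂ pX m mB hmBm E hE i (pullback.lift_fst _ _ _) (pullback.lift_snd _ _ _) t t' ht ht' hne
    h0 h0' ev (pullback.lift_fst _ _ _) (pullback.lift_snd _ _ _) zz (pullback.lift_fst _ _ _) (pullback.lift_snd _ _ _) ?_
  haveI : Smooth m := hBsm
  haveI : Smooth pr := MorphismProperty.pullback_snd _ _ ‹Smooth p›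
  haveI : Smooth (pullback.fst pr pr) := MorphismProperty.pullback_fst _ _ ‹Smooth pr›
  let qP : P2 ⟶ Spec (CommRingCat.of k) := pullback.fst pr pr ≫ pr ≫ m
  haveI : Smooth qP := inferInstanceAs (Smooth (_ ≫ _ ≫ _))
  let q₂ : pullback pX pX ⟶ Spec (CommRingCat.of k) := pullback.fst pX pX ≫ pX
  haveI : Smooth (pullback.fst pX pX) := MorphismProperty.pullback_fst _ _ ‹Smooth pX›
  haveI : Smooth q₂ := inferInstanceAs (Smooth (_ ≫ _))
  have hevq : ev ≫ q₂ = qP := by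
    show ev ≫ pullback.fst pX pX ≫ pX = pullback.fst pr pr ≫ pr ≫ m
    rw [pullback.lift_fst_assoc, Category.assoc, hE, pullback.condition (f := p) (g := m)]
  haveI : IsOpenImmersion j := inferInstanceAs (IsOpenImmersion (_ ≫ _))
  let jP : P2 ⟶ pullback f f := pullback.map pr pr f f j j B.ι hj₂.symm hj₂.symm
  haveI : IsOpenImmersion jP := inferInstance
  let W₁ := jP ⁻¹ᵁ (c ''ᵁ V)
  have hzzc : zz ≫ jP = z ≫ c := by
    apply pullback.hom_ext
    · simp only [Category.assoc, jP, c, pullback.lift_fst, zz, pullback.lift_fst_assoc]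
      refine Eq.trans ?_ (htj.trans (Category.assoc _ _ _))
      simp [t]
    · simp only [Category.assoc, jP, c, pullback.lift_snd, zz, pullback.lift_snd_assoc]
      refine Eq.trans ?_ (htj'.trans (Category.assoc _ _ _))
      simp [t', sn]
  have hzW : zz (IsLocalRing.closedPoint k) ∈ W₁ := by
    show (zz ≫ jP) (IsLocalRing.closedPoint k) ∈ c ''ᵁ V
    rw [hzzc]
    exact ⟨z (IsLocalRing.closedPoint k), hz.1.1.2, rfl⟩
  let ℓ : (W₁ : Scheme.{u}) ⟶ V := IsOpenImmersion.lift (V.ι ≫ c) (W₁.ι ≫ jP) (by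
    rintro _ ⟨q, rfl⟩
    obtain ⟨d, hd, hd'⟩ : (W₁.ι ≫ jP) q ∈ c ''ᵁ V := q.2
    exact ⟨⟨d, hd⟩, hd'⟩)
  have hℓ : ℓ ≫ V.ι ≫ c = W₁.ι ≫ jP := IsOpenImmersion.lift_fac _ _ _
  haveI : IsOpenImmersion ℓ := by
    haveI : IsOpenImmersion (ℓ ≫ V.ι ≫ c) := by rw [hℓ]; infer_instance
    exact IsOpenImmersion.of_comp ℓ (V.ι ≫ c)
  have hside : ∀ {Q : Scheme.{u}} (a : Q ⟶ pullback p m) (a' : Q ⟶ F.e.domain),
      a ≫ j = a' ≫ F.e.domain.ι → a ≫ E = a' ≫ F.e.hom := by
    intro Q a a' haa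
    have h6 : a ≫ jU = a' ≫ (pullback p F.m).homOfLE hle := by
      rw [← cancel_mono U'.ι]
      simp only [Category.assoc, hle', hjU, haa]
    show a ≫ jU ≫ hU' = _
    rw [reassoc_of% h6, hU'e]
  have hW₁ev : W₁.ι ≫ ev = ℓ ≫ V.ι ≫ F.ev₂ := by
    apply pullback.hom_ext
    · simp only [Category.assoc, ev, pullback.lift_fst, RatFam.ev₂_fst]
      have h7 := congrArg (· ≫ pullback.fst f f) hℓ
      simp only [Category.assoc, jP, c, pullback.lift_fst] at h7
      simpa only [Category.assoc] using hside (W₁.ι ≫ pullback.fst pr pr) (ℓ ≫ V.ι ≫ fs)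
        (by simpa only [Category.assoc] using h7.symm)
    · simp only [Category.assoc, ev, pullback.lift_snd, RatFam.ev₂_snd]
      have h7 := congrArg (· ≫ pullback.snd f f) hℓ
      simp only [Category.assoc, jP, c, pullback.lift_snd] at h7
      simpa only [Category.assoc] using hside (W₁.ι ≫ pullback.snd pr pr) (ℓ ≫ V.ι ≫ sn)
        (by simpa only [Category.assoc] using h7.symm)
  haveI : Smooth (W₁.ι ≫ ev) := by
    rw [hW₁ev]
    haveI := hVsm
    infer_instance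
  haveI : LocallyOfFiniteType (ev ≫ q₂) := by rw [hevq]; infer_instance
  haveI : LocallyOfFiniteType ev := locallyOfFiniteType_of_comp ev q₂
  haveI : IsLocallyNoetherian (pullback pX pX) := LocallyOfFiniteType.isLocallyNoetherian q₂
  haveI : LocallyOfFinitePresentation ev := LocallyOfFinitePresentation.iff_locallyOfFiniteType.2 inferInstance
  have hzc : IsClosed ({zz (IsLocalRing.closedPoint k)} : Set ↥P2) :=
    (pointEquivClosedPoint qP ⟨zz, by
      show zz ≫ pullback.fst pr pr ≫ pr ≫ m = 𝟙 _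
      rw [pullback.lift_fst_assoc, Category.assoc t, pullback.lift_snd_assoc, Category.assoc p mB m, hmBm, Category.comp_id]
      exact ht⟩).2
  have hmem : zz (IsLocalRing.closedPoint k) ∈ ev.smoothLocus := by
    have h8 : (⟨zz (IsLocalRing.closedPoint k), hzW⟩ : W₁) ∈ (W₁.ι ≫ ev).smoothLocus := by
      rw [Scheme.Hom.smoothLocus_eq_top_iff.2 inferInstance]; trivial
    rwa [← Scheme.Hom.preimage_smoothLocus_eq] at h8
  exact (SmDiff.cotangentMapAt_injective_iff ev _).1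
    ((SmDiff.formallySmooth_stalkMap_iff_injective qP q₂ ev hevq hzc).1 (Scheme.Hom.mem_smoothLocus.1 hmem))

end Groth.Agent.S17166
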