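import Groth.Statements.S17167
import Groth.Agent.FreeCurve.TanFree

set_option linter.style.haveILetI false
set_option backward.isDefEq.respectTransparency false
set_option backward.isDefEq.respectTransparency.types false
set_option synthInstance.maxHeartbeats 400000
set_option maxHeartbeats 1000000

set_option autoImplicit false
universe u
open CategoryTheory CategoryTheory.Limits AlgebraicGeometry
open MorSch

namespace Groth.Agent.S17167

/-- For a field k and a quasi-projective k-variety X that is smooth over k, let f be a rational curve on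
X (a nonconstant k-morphism from the projective line). Suppose given a k-scheme M, a k-point m of M
and a k-morphism e from the product of the projective line with M to X whose restriction to the
fibre over m is f, such that the tangent map of e is surjective at some point of that fibre. Then f
is free: f^*T_X is globally generated (T_X the dual of the sheaf of differentials). Here the point
is taken k-rational (the image of a k-point t of the projective line under the inclusion i of the
fibre over m), and surjectivity of the tangent map is stated as injectivity of the cotangent map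
from m_{e(z)}/m_{e(z)}^2 to m_z/m_z^2, which is equivalent at a k-rational point; the published
statement allows any point of the fibre. -/
theorem result
    (k : Type u) [Field k] (X : Scheme.{u}) (pX : X ⟶ Spec (CommRingCat.of k)) [IsIntegral X] [Smooth pX]
    (hqp : ∃ (N : ℕ) (ι : X ⟶ CohB1.ProjSpace N k), IsImmersion ι ∧ ι ≫ CohB1.ProjSpace.toSpec N k = pX)
    (f : CohB1.ProjSpace 1 k ⟶ X) (hf : f ≫ pX = CohB1.ProjSpace.toSpec 1 k) (hnc : ¬ ∃ x : X, Set.range f.base ⊆ {x})
    (M : Scheme.{u}) (qM : M ⟶ Spec (CommRingCat.of k)) (m : Spec (CommRingCat.of k) ⟶ M) (hm : m ≫ qM = 𝟙 (Spec (CommRingCat.of k)))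
    (e : pullback (CohB1.ProjSpace.toSpec 1 k) qM ⟶ X) (he : e ≫ pX = pullback.fst (CohB1.ProjSpace.toSpec 1 k) qM ≫ CohB1.ProjSpace.toSpec 1 k)
    (i : CohB1.ProjSpace 1 k ⟶ pullback (CohB1.ProjSpace.toSpec 1 k) qM) (hi₁ : i ≫ pullback.fst (CohB1.ProjSpace.toSpec 1 k) qM = 𝟙 (CohB1.ProjSpace 1 k))
    (hi₂ : i ≫ pullback.snd (CohB1.ProjSpace.toSpec 1 k) qM = CohB1.ProjSpace.toSpec 1 k ≫ m) (hie : i ≫ e = f)
    (t : Spec (CommRingCat.of k) ⟶ CohB1.ProjSpace 1 k) (ht : t ≫ CohB1.ProjSpace.toSpec 1 k = 𝟙 (Spec (CommRingCat.of k)))
    (hinj : Function.Injective (FixPt.cotangentMapAt e ((t ≫ i) (IsLocalRing.closedPoint k))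
      (e ((t ≫ i) (IsLocalRing.closedPoint k))) rfl)) :
    MorSch.IsFree pX f := by
  haveI : IsSeparated pX := by
    obtain ⟨N, ι, hι, rfl⟩ := hqp
    haveI := hι
    haveI := ProjMor.isProper_toSpec N k
    infer_instance
  subst hie
  exact (FreeCurve.isFree_iff pX _).2 (FreeCurve.good_of_cotangent pX qM m e he i hi₁ hi₂ t ht
    ((SmDiff.cotangentMapAt_injective_iff e _).1 hinj))

end Groth.Agent.S17167
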