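import Groth.Statements.S17168
import Groth.Agent.FreeCurve.BadLocus
import Groth.Agent.FreeCurve.CurveFamily
import Groth.Agent.S15237

set_option linter.style.haveILetI false
set_option backward.isDefEq.respectTransparency false
set_option backward.isDefEq.respectTransparency.types false
set_option synthInstance.maxHeartbeats 400000
set_option maxHeartbeats 1000000

set_option autoImplicit false
universe u
open CategoryTheory CategoryTheory.Limits AlgebraicGeometry
open MorSch

namespace Groth.Agent.S17168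

/-- Let k be an uncountable algebraically closed field and X a projective variety over k. If every
closed point of some nonempty open subset U of X lies on a rational curve, that is on the image of a
nonconstant k-morphism from the projective line, then X is uniruled: there is a k-variety M and a
dominant rational map from the product of the projective line with M to X, defined on a dense open
subset, which does not contract some curve of the family. (The published remark is for X proper;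
this row takes X projective. Uncountability matters: the morphism scheme has countably many
components.) -/
theorem result
    (k : Type u) [Field k] [IsAlgClosed k] [Uncountable k] (X : Scheme.{u}) (pX : X ⟶ Spec (CommRingCat.of k))
    [IsIntegral X] [IsProper pX]
    (hproj : ∃ (N : ℕ) (ι : X ⟶ CohB1.ProjSpace N k), IsClosedImmersion ι ∧ ι ≫ CohB1.ProjSpace.toSpec N k = pX)
    (U : X.Opens) (hU : (U : Set X).Nonempty)
    (h : ∀ x ∈ (U : Set X), IsClosed ({x} : Set X) →
      ∃ g : CohB1.ProjSpace 1 k ⟶ X, g ≫ pX = CohB1.ProjSpace.toSpec 1 k ∧ (¬ ∃ y : X, Set.range g.base ⊆ {y}) ∧ x ∈ Set.range g.base) :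
    MorSch.IsUniruled k pX := by
  classical
  haveI := ProjMor.isProper_toSpec 1 k
  haveI := FreeCurve.smooth_toSpec k
  obtain ⟨N, ι, hι, hιp⟩ := hproj
  haveI := hι
  obtain ⟨M, hlft, v, hM, hcov⟩ := FreeCurve.exists_mor_countable pX ⟨N, ι, inferInstance, hιp⟩
  haveI := hlft
  haveI : IsLocallyNoetherian M.left := LocallyOfFiniteType.isLocallyNoetherian M.hom
  let p := CohB1.ProjSpace.toSpec 1 k
  let pr := PicF.XTproj p M
  obtain ⟨A, hA⟩ := FreeCurve.exists_sepOpen v
  let A' := pr ⁻¹ᵁ A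
  haveI : IsLocallyNoetherian (A : Scheme.{u}) := inferInstance
  -- some irreducible family of nonconstant curves sweeps out a dense set
  obtain ⟨Z, hZlc, hZirr, hZd⟩ : ∃ Z : Set ↥(A : Scheme.{u}), IsLocallyClosed Z ∧ IsIrreducible Z ∧
      Dense ((A'.ι ≫ v.1) '' ((pr ∣_ A) ⁻¹' Z)) := by
    by_contra hno
    obtain ⟨W, hW, havoid⟩ := FreeCurve.exists_seq_opens_avoid (hcov.of_isOpenImmersion A.ι) (pr ∣_ A) (A'.ι ≫ v.1)
      Set.univ isClosed_univ fun Z h1 h2 _ hd => hno ⟨Z, h1, h2, hd⟩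
    let T : ℕ → TopologicalSpace.Closeds X := fun n => Nat.rec ⟨(U : Set X)ᶜ, U.2.isClosed_compl⟩
      (fun n _ => ⟨(W n : Set X)ᶜ, (W n).2.isClosed_compl⟩) n
    obtain ⟨x, hx, hxT⟩ := S15237.result k X pX T (fun n => by
      cases n with
      | zero =>
        intro h0
        obtain ⟨y, hy⟩ := hU
        exact Set.eq_univ_iff_forall.1 h0 y hy
      | succ n =>
        intro h0
        obtain ⟨y, -, hy⟩ := (hW n).inter_open_nonempty Set.univ isOpen_univ Set.univ_nonempty
        exact Set.eq_univ_iff_forall.1 h0 y hy)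
    have hxU : x ∈ (U : Set X) := Set.notMem_compl_iff.1 (hxT 0)
    obtain ⟨g, hg, hnc, ⟨t, ht⟩⟩ := h x hxU hx
    obtain ⟨m, hm, hc⟩ := FreeCurve.exists_point_of_curve hM g hg
    have hmA : m (IsLocalRing.closedPoint k) ∈ A :=
      (hA m hm).2 (by rw [hc]; exact (FreeCurve.sep_iff_nonconst g hg).2 hnc)
    let i : CohB1.ProjSpace 1 k ⟶ PicF.XT p M :=
      pullback.lift (𝟙 _) (p ≫ m) (by rw [Category.id_comp, Category.assoc, hm, Category.comp_id])
    have hsnd : pr (i t) = m (IsLocalRing.closedPoint k) := by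
      rw [← Scheme.Hom.comp_apply, pullback.lift_snd, Scheme.Hom.comp_apply]
      exact congrArg m (Subsingleton.elim (α := PrimeSpectrum k) _ _)
    refine havoid ⟨i t, show pr (i t) ∈ A from hsnd ▸ hmA⟩ trivial (Set.mem_iInter.2 fun n => ?_)
    have h1 : v.1 (i t) = x := by
      rw [← ht, ← hc]
      rfl
    show v.1 (i t) ∈ (W n : Set X)
    rw [h1]
    exact Set.notMem_compl_iff.1 (hxT (n + 1))
  -- its reduced structure, and an affine piece of it
  obtain ⟨O, g, hint, hlftO, hr, hdom⟩ := FreeCurve.exists_dominant_piece v (Z := A.ι '' Z)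
    (by
      obtain ⟨U₁, C, hU₁, hC, rfl⟩ := hZlc
      obtain ⟨C', hC', rfl⟩ := A.ι.isOpenEmbedding.isInducing.isClosed_iff.1 hC
      rw [Set.image_inter_preimage]
      exact (A.ι.isOpenEmbedding.isOpenMap _ hU₁).isLocallyClosed.inter hC'.isLocallyClosed)
    (hZirr.image _ A.ι.continuous.continuousOn)
    (hZd.mono (by
      rintro _ ⟨w, hw, rfl⟩
      refine ⟨A'.ι w, ⟨(pr ∣_ A) w, hw, ?_⟩, rfl⟩
      exact congrArg (fun φ => φ w) (congrArg (fun φ => φ.base.hom.toFun) (morphismRestrict_ι pr A))))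
  haveI := hint
  haveI := hlftO
  haveI := hdom
  let vO := MorSch.pull p pX g v
  obtain ⟨o, -, ho⟩ : ∃ o : O.left, o ∈ Set.univ ∧ g.left o ∈ A := by
    obtain ⟨z, hz⟩ := hZirr.nonempty
    obtain ⟨o, ho⟩ : A.ι z ∈ Set.range g.left := hr.symm ▸ ⟨z, hz, rfl⟩
    exact ⟨o, trivial, ho ▸ z.2⟩
  obtain ⟨B, hB, hoB, -⟩ := exists_isAffineOpen_mem_and_subset (X := O.left) (x := o) (U := ⊤) trivial
  haveI : IsAffine B := hB
  haveI : Nonempty B := ⟨⟨o, hoB⟩⟩
  haveI : IsIntegral (B : Scheme.{u}) := isIntegral_of_isOpenImmersion B.ι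
  let m₀ := B.ι ≫ O.hom
  haveI : LocallyOfFiniteType m₀ := inferInstanceAs (LocallyOfFiniteType (B.ι ≫ O.hom))
  have hvar : MorSch.IsVar k m₀ := ⟨inferInstance, inferInstance, inferInstance, inferInstance⟩
  let gB : Over.mk m₀ ⟶ O := Over.homMk B.ι rfl
  let vB := MorSch.pull p pX gB vO
  have hdense : Dense (Set.range vB.1) := by
    refine dense_iff_inter_open.2 fun V hV hVne => ?_
    obtain ⟨x, hxV, ⟨w, rfl⟩⟩ := vO.1.denseRange.inter_open_nonempty _ hV hVne
    let prO := PicF.XTproj p O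
    haveI : Smooth prO := MorphismProperty.pullback_snd _ _ ‹Smooth p›
    obtain ⟨_, ⟨w', hw', rfl⟩, hb⟩ := nonempty_preirreducible_inter
      (prO.isOpenMap _ (hV.preimage vO.1.continuous)) B.2 ⟨_, w, hxV, rfl⟩ ⟨o, hoB⟩
    obtain ⟨z, hz, -⟩ := Scheme.exists_preimage_of_isPullback (S17082.isPullback_XTmap p gB) w' ⟨_, hb⟩ rfl
    refine ⟨vB.1 z, ?_, ⟨z, rfl⟩⟩
    show vO.1 (PicF.XTmap p gB z) ∈ V
    rw [hz]; exact hw'
  let P₁ := pullback p m₀
  let F : RatFam k pX :=
    { M := B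
      m := m₀
      isVar := hvar
      e := ⟨⊤, dense_univ, (⊤ : P₁.Opens).ι ≫ vB.1⟩
      comm := by
        show ((⊤ : P₁.Opens).ι ≫ vB.1) ≫ pX = _
        rw [Category.assoc, show vB.1 ≫ pX = pullback.fst p m₀ ≫ p from vB.2] }
  have htop : P₁.topIso.inv ≫ (⊤ : P₁.Opens).ι = 𝟙 _ := P₁.topIso.inv_hom_id
  -- a rational point of the piece in the nonconstant locus
  let gA : (B : Scheme.{u}) ⟶ M.left := B.ι ≫ g.left
  haveI : JacobsonSpace ↥(B : Scheme.{u}) := LocallyOfFiniteType.jacobsonSpace m₀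
  obtain ⟨b, hbA, hbc⟩ := nonempty_inter_closedPoints (X := (B : Scheme.{u}))
    (Z := ((gA ⁻¹ᵁ A : TopologicalSpace.Opens _) : Set _)) ⟨⟨o, hoB⟩, ho⟩ (gA ⁻¹ᵁ A).2.isLocallyClosed
  obtain ⟨⟨mb, hmb⟩, hmbb⟩ : ∃ z₀ : {z : Spec (CommRingCat.of k) ⟶ B // z ≫ m₀ = 𝟙 _},
      z₀.1 (IsLocalRing.closedPoint k) = b :=
    ⟨_, congrArg Subtype.val ((pointEquivClosedPoint m₀).apply_symm_apply ⟨b, hbc⟩)⟩
  subst hmbb
  have hmb' : (mb ≫ gA) ≫ M.hom = 𝟙 _ := by
    rw [Category.assoc, Category.assoc, Over.w g]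
    exact hmb
  obtain ⟨t, t', ht, ht', hne⟩ := (hA (mb ≫ gA) hmb').1 hbA
  have mk : ∀ u : Spec (CommRingCat.of k) ⟶ CohB1.ProjSpace 1 k, u ≫ p = 𝟙 _ →
      ∃ z : Spec (CommRingCat.of k) ⟶ F.e.domain, z ≫ F.toM = mb ∧
        z ≫ F.e.hom = u ≫ FreeCurve.curveAt v (mb ≫ gA) hmb' := fun u hu => by
    let z₀ : Spec (CommRingCat.of k) ⟶ P₁ := pullback.lift u mb (by rw [hu, hmb])
    refine ⟨z₀ ≫ P₁.topIso.inv, ?_, ?_⟩
    · show (z₀ ≫ _) ≫ (⊤ : P₁.Opens).ι ≫ pullback.snd p m₀ = mb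
      simp only [Category.assoc, reassoc_of% htop]
      exact pullback.lift_snd _ _ _
    · show (z₀ ≫ _) ≫ (⊤ : P₁.Opens).ι ≫ vB.1 = _
      simp only [Category.assoc, reassoc_of% htop]
      show z₀ ≫ PicF.XTmap p gB ≫ PicF.XTmap p g ≫ v.1 = _
      rw [FreeCurve.curveAt]
      simp only [← Category.assoc]
      refine congrArg (· ≫ v.1) ?_
      apply pullback.hom_ext
      · simp only [Category.assoc, MorSch.XTmap_fst]
        rw [pullback.lift_fst, Category.comp_id]
        exact (pullback.lift_fst _ _ _ : z₀ ≫ pullback.fst p m₀ = u)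
      · have hu' : u ≫ CohB1.ProjSpace.toSpec 1 k = 𝟙 _ := hu
        have e1 : PicF.XTmap p g ≫ pullback.snd p M.hom = pullback.snd p O.hom ≫ g.left := pullback.lift_snd _ _ _
        have e2 : PicF.XTmap p gB ≫ pullback.snd p O.hom = pullback.snd p m₀ ≫ B.ι := pullback.lift_snd _ _ _
        have e3 : z₀ ≫ pullback.snd p m₀ = mb := pullback.lift_snd _ _ _
        simp only [Category.assoc]
        rw [e1, reassoc_of% e2, reassoc_of% e3, pullback.lift_snd]
        simp only [gA]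
        rw [reassoc_of% hu']
  obtain ⟨z, hz, hz'⟩ := mk t ht
  obtain ⟨w, hw, hw'⟩ := mk t' ht'
  refine ⟨F, ⟨?_⟩, z (IsLocalRing.closedPoint k), w (IsLocalRing.closedPoint k), ?_, fun he => hne ?_⟩
  · refine hdense.mono ?_
    rintro _ ⟨q, rfl⟩
    exact ⟨P₁.topIso.inv q, congrArg (fun φ => (φ ≫ vB.1) q) htop⟩
  · show (z ≫ F.toM) (IsLocalRing.closedPoint k) = (w ≫ F.toM) (IsLocalRing.closedPoint k)
    rw [hz, hw]
  · have hq : ∀ u : Spec (CommRingCat.of k) ⟶ CohB1.ProjSpace 1 k, u ≫ p = 𝟙 _ →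
        (u ≫ FreeCurve.curveAt v (mb ≫ gA) hmb') ≫ pX = 𝟙 _ := fun u hu => by
      rw [Category.assoc, show FreeCurve.curveAt v (mb ≫ gA) hmb' ≫ pX = p from FreeCurve.curveAt_comp _ hmb', hu]
    refine ext_of_apply_closedPoint_eq pX (hq t ht) (hq t' ht') ?_
    rw [← hz', ← hw']
    exact he

end Groth.Agent.S17168
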