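import Groth.Statements.S17169
import Groth.Agent.FreeCurve.Uniruled

set_option backward.isDefEq.respectTransparency false
set_option backward.isDefEq.respectTransparency.types false

set_option autoImplicit false
universe u
open CategoryTheory CategoryTheory.Limits AlgebraicGeometry
open MorSch

namespace Groth.Agent.S17169

/-- Let X be a projective uniruled variety over an algebraically closed field k. Then there is a
rational curve through every closed point of X: for each closed point x there is a nonconstant
k-morphism g from the projective line to X whose image contains x. (The published remark is for X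
proper and first gives a rational curve through a general point, then through every point by
closedness of the locus swept by rational curves of bounded degree; this row takes X projective.) -/
theorem result
    (k : Type u) [Field k] [IsAlgClosed k] (X : Scheme.{u}) (pX : X ⟶ Spec (CommRingCat.of k))
    [IsIntegral X] [IsProper pX]
    (hproj : ∃ (N : ℕ) (ι : X ⟶ CohB1.ProjSpace N k), IsClosedImmersion ι ∧ ι ≫ CohB1.ProjSpace.toSpec N k = pX)
    (h : MorSch.IsUniruled k pX) (x : X) (hx : IsClosed ({x} : Set X)) :
    ∃ g : CohB1.ProjSpace 1 k ⟶ X, g ≫ pX = CohB1.ProjSpace.toSpec 1 k ∧ (¬ ∃ y : X, Set.range g.base ⊆ {y}) ∧ x ∈ Set.range g.base := by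
  obtain ⟨B, v, hint, haff, hsm, hdom, hnc⟩ := Groth.Agent.FreeCurve.exists_family_of_uniruled h
  haveI := hint
  haveI := haff
  haveI := hsm
  haveI := hdom
  obtain ⟨φ, h1, h2, h3⟩ := Groth.Agent.FreeCurve.exists_curve_through B v hnc x hx
  exact ⟨φ, h1, h3, h2⟩

end Groth.Agent.S17169
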