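import Groth.Statements.S17170
import Groth.Agent.FreeCurve.CharZero

set_option linter.style.haveILetI false
set_option backward.isDefEq.respectTransparency false
set_option backward.isDefEq.respectTransparency.types false
set_option synthInstance.maxHeartbeats 400000
set_option maxHeartbeats 1000000

set_option autoImplicit false
universe u
open CategoryTheory CategoryTheory.Limits AlgebraicGeometry
open MorSch

namespace Groth.Agent.S17170

/-- For a field k of characteristic zero and a quasi-projective k-variety X that is smooth over k, let M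
be an irreducible k-scheme, locally of finite type over k, and e a dominant k-morphism from the
product of the projective line with M to X which does not contract the fibre over some k-point m₀ of
M. Then the members of the family over the points of a nonempty open part of M are free rational
curves: there is a nonempty open subset M' of M such that for every k-point m of M in M', the
restriction f_m of e to the fibre over m (through the section i of the first projection lying over
m) is nonconstant and f_m^*T_X is globally generated (T_X the dual of the sheaf of differentials).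
(The published statement allows any irreducible k-scheme M; this row takes M locally of finite type
over k, the case the generic-smoothness argument covers.) -/
theorem result
    (k : Type u) [Field k] [CharZero k] (X : Scheme.{u}) (pX : X ⟶ Spec (CommRingCat.of k)) [IsIntegral X] [Smooth pX]
    (hqp : ∃ (N : ℕ) (ι : X ⟶ CohB1.ProjSpace N k), IsImmersion ι ∧ ι ≫ CohB1.ProjSpace.toSpec N k = pX)
    (M : Scheme.{u}) [IrreducibleSpace M] (qM : M ⟶ Spec (CommRingCat.of k)) [LocallyOfFiniteType qM]
    (e : pullback (CohB1.ProjSpace.toSpec 1 k) qM ⟶ X) (he : e ≫ pX = pullback.fst (CohB1.ProjSpace.toSpec 1 k) qM ≫ CohB1.ProjSpace.toSpec 1 k) [IsDominant e]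
    (m₀ : Spec (CommRingCat.of k) ⟶ M) (hm₀ : m₀ ≫ qM = 𝟙 (Spec (CommRingCat.of k)))
    (i₀ : CohB1.ProjSpace 1 k ⟶ pullback (CohB1.ProjSpace.toSpec 1 k) qM) (hi₀₁ : i₀ ≫ pullback.fst (CohB1.ProjSpace.toSpec 1 k) qM = 𝟙 (CohB1.ProjSpace 1 k))
    (hi₀₂ : i₀ ≫ pullback.snd (CohB1.ProjSpace.toSpec 1 k) qM = CohB1.ProjSpace.toSpec 1 k ≫ m₀)
    (hnc₀ : ¬ ∃ x : X, Set.range (i₀ ≫ e).base ⊆ {x}) :
    ∃ M' : M.Opens, (M' : Set M).Nonempty ∧
      ∀ (m : Spec (CommRingCat.of k) ⟶ M), m ≫ qM = 𝟙 (Spec (CommRingCat.of k)) → m (IsLocalRing.closedPoint k) ∈ M' →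
        ∀ (i : CohB1.ProjSpace 1 k ⟶ pullback (CohB1.ProjSpace.toSpec 1 k) qM), i ≫ pullback.fst (CohB1.ProjSpace.toSpec 1 k) qM = 𝟙 (CohB1.ProjSpace 1 k) →
          i ≫ pullback.snd (CohB1.ProjSpace.toSpec 1 k) qM = CohB1.ProjSpace.toSpec 1 k ≫ m →
          (¬ ∃ x : X, Set.range (i ≫ e).base ⊆ {x}) ∧ MorSch.IsFree pX (i ≫ e) := by
  classical
  haveI := ProjMor.isProper_toSpec 1 k
  haveI := FreeCurve.smooth_toSpec k
  obtain ⟨N, ι, hι, hιp⟩ := hqp
  haveI := hι
  haveI := ProjMor.isProper_toSpec N k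
  haveI : IsSeparated pX := by rw [← hιp]; infer_instance
  let p := CohB1.ProjSpace.toSpec 1 k
  let v : MorSch.Obj p pX (Over.mk qM) := ⟨e, he⟩
  haveI : IsDominant v.1 := ‹IsDominant e›
  obtain ⟨A, key⟩ := FreeCurve.exists_nonconstOpen v
  have curve_eq : ∀ (m : Spec (CommRingCat.of k) ⟶ M) (hm : m ≫ qM = 𝟙 _)
      (i : CohB1.ProjSpace 1 k ⟶ pullback p qM), i ≫ pullback.fst p qM = 𝟙 _ →
      i ≫ pullback.snd p qM = p ≫ m → FreeCurve.curveAt v m hm = i ≫ e := by
    intro m hm i h1 h2
    rw [FreeCurve.curveAt]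
    refine congrArg (· ≫ e) (pullback.hom_ext ?_ ?_)
    · rw [pullback.lift_fst]; exact h1.symm
    · rw [pullback.lift_snd]; exact h2.symm
  have hm₀A : m₀ (IsLocalRing.closedPoint k) ∈ A :=
    (key m₀ hm₀).2 (by rw [curve_eq m₀ hm₀ i₀ hi₀₁ hi₀₂]; exact hnc₀)
  refine ⟨FreeCurve.goodOpen v ⊓ A, nonempty_preirreducible_inter (FreeCurve.goodOpen v).2 A.2
    (FreeCurve.exists_good_of_isDominant pX qM v) ⟨_, hm₀A⟩, ?_⟩
  intro m hm hmem i hi₁ hi₂
  rw [← curve_eq m hm i hi₁ hi₂]
  have hnc := (key m hm).1 hmem.2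
  have hg : m (IsLocalRing.closedPoint k) ∈ FreeCurve.goodOpen v := hmem.1
  have hg' : m (IsLocalRing.closedPoint k) ∈ FreeCurve.goodSet (Twist.twistProjSpace 1 k (-1)) v := hg
  have hh := (FreeCurve.good_iff_rational (v := v) m hm).2 hg'
  exact ⟨hnc, (FreeCurve.isFree_iff pX _).2 hh⟩

end Groth.Agent.S17170
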