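import Groth.Statements.S17171
import Mathlib.Data.Finset.Sort
import Mathlib.RingTheory.MvPowerSeries.Basic
import Mathlib.RingTheory.MvPolynomial.Homogeneous
-- import your own Groth.Agent.* helpers here

set_option autoImplicit false
set_option linter.style.haveILetI false
set_option linter.unusedSimpArgs false
open QSymFn

namespace Groth.Agent.S17171

/-- The ring QSym of quasisymmetric functions over ℤ, with its restriction maps to the polynomial rings
in finitely many ordered variables, is the limit of the diagram S ↦ ℤ[α_s : s ∈ S] over finite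
ordered sets S and order-preserving injections (an injection φ : S → T acting by α_t ↦ α_s when t =
φ s and α_t ↦ 0 otherwise), the limit being taken in graded rings. Stated here on degree-d
components, with the variables indexed by ℕ in place of the positive integers and the finite ordered
sets taken to be the Fin n: (a) if F is a formal power series over ℤ in variables indexed by ℕ which
is quasisymmetric (for strictly increasing i, j : Fin ℓ → ℕ and positive exponents a, the
coefficients of ∏ x_{i t}^{a t} and ∏ x_{j t}^{a t} agree) and all of whose monomials have degree d,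
then its restrictions to the initial segments Fin n ⊂ ℕ are compatible with every order embedding
Fin n ↪o Fin m; (b) every family of degree-d homogeneous polynomials f n ∈ ℤ[x_s : s ∈ Fin n],
compatible with all order embeddings Fin n ↪o Fin m in this sense, is the family of restrictions of
exactly one such quasisymmetric F of degree d. -/
theorem result (d : ℕ) :
    (∀ F : MvPowerSeries ℕ ℤ,
      (∀ (ℓ : ℕ) (i j : Fin ℓ → ℕ) (a : Fin ℓ → ℕ), StrictMono i → StrictMono j → (∀ t, 0 < a t) →
        MvPowerSeries.coeff (∑ t : Fin ℓ, Finsupp.single (i t) (a t)) F =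
          MvPowerSeries.coeff (∑ t : Fin ℓ, Finsupp.single (j t) (a t)) F) →
      (∀ e : ℕ →₀ ℕ, MvPowerSeries.coeff e F ≠ 0 → e.degree = d) →
      ∀ (n m : ℕ) (φ : Fin n ↪o Fin m) (e : Fin n →₀ ℕ),
        MvPowerSeries.coeff (Finsupp.mapDomain Fin.val e) F =
          MvPowerSeries.coeff (Finsupp.mapDomain Fin.val (Finsupp.mapDomain φ e)) F) ∧
    (∀ f : (n : ℕ) → MvPolynomial (Fin n) ℤ,
      (∀ n, (f n).IsHomogeneous d) →
      (∀ (n m : ℕ) (φ : Fin n ↪o Fin m) (e : Fin n →₀ ℕ),
        MvPolynomial.coeff e (f n) = MvPolynomial.coeff (Finsupp.mapDomain φ e) (f m)) →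
      ∃! F : MvPowerSeries ℕ ℤ,
        (∀ (ℓ : ℕ) (i j : Fin ℓ → ℕ) (a : Fin ℓ → ℕ), StrictMono i → StrictMono j → (∀ t, 0 < a t) →
          MvPowerSeries.coeff (∑ t : Fin ℓ, Finsupp.single (i t) (a t)) F =
            MvPowerSeries.coeff (∑ t : Fin ℓ, Finsupp.single (j t) (a t)) F) ∧
        (∀ e : ℕ →₀ ℕ, MvPowerSeries.coeff e F ≠ 0 → e.degree = d) ∧
        (∀ (n : ℕ) (e : Fin n →₀ ℕ),
          MvPowerSeries.coeff (Finsupp.mapDomain Fin.val e) F = MvPolynomial.coeff e (f n))) := by
  classical
  refine ⟨fun F hF _ n m φ e => ?_, fun f hdeg hf => ?_⟩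
  · let en := e.support.orderEmbOfFin rfl
    have he : e = ∑ t : Fin e.support.card, Finsupp.single (en t) (e (en t)) := by
      conv_lhs => rw [← Finsupp.sum_single e]
      unfold Finsupp.sum
      refine Eq.trans ?_ (Finset.sum_map Finset.univ en.toEmbedding (fun x => Finsupp.single x (e x)))
      rw [Finset.map_orderEmbOfFin_univ]
    have h1 := hF _ (fun t => (en t : ℕ)) (fun t => (φ (en t) : ℕ)) (fun t => e (en t))
      (fun a b h => en.strictMono h) (fun a b h => φ.strictMono (en.strictMono h))
      (fun t => Nat.pos_of_ne_zero (Finsupp.mem_support_iff.1 (e.support.orderEmbOfFin_mem rfl t)))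
    conv_lhs => rw [he, Finsupp.mapDomain_finsetSum]
    conv_rhs => rw [he, Finsupp.mapDomain_finsetSum, Finsupp.mapDomain_finsetSum]
    simpa only [Finsupp.mapDomain_single] using h1
  · let N : (ℕ →₀ ℕ) → ℕ := fun e => e.support.sup id + 1
    let F : MvPowerSeries ℕ ℤ := fun e =>
      MvPolynomial.coeff (e.comapDomain Fin.val (Fin.val_injective.injOn)) (f (N e))
    have hFc : ∀ e : ℕ →₀ ℕ, MvPowerSeries.coeff e F =
        MvPolynomial.coeff (e.comapDomain Fin.val (Fin.val_injective.injOn)) (f (N e)) := fun e => rfl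
    have hback : ∀ (n : ℕ) (e : ℕ →₀ ℕ), (∀ x ∈ e.support, x < n) →
        Finsupp.mapDomain (Fin.val : Fin n → ℕ) (e.comapDomain Fin.val (Fin.val_injective.injOn)) = e := by
      intro n e he
      refine Finsupp.mapDomain_comapDomain _ Fin.val_injective _ fun x hx => ?_
      exact ⟨⟨x, he x hx⟩, rfl⟩
    have hN : ∀ e : ℕ →₀ ℕ, ∀ x ∈ e.support, x < N e := fun e x hx =>
      Nat.lt_succ_of_le (Finset.le_sup (f := id) hx)
    have hrest : ∀ (n : ℕ) (e : Fin n →₀ ℕ),
        MvPowerSeries.coeff (Finsupp.mapDomain Fin.val e) F = MvPolynomial.coeff e (f n) := by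
      intro n e
      set e' := Finsupp.mapDomain (Fin.val : Fin n → ℕ) e with he'
      set c := e'.comapDomain (Fin.val : Fin (N e') → ℕ) (Fin.val_injective.injOn) with hc
      rw [hFc, hf n (max n (N e')) (Fin.castLEOrderEmb (le_max_left _ _)) e, ← hc,
        hf (N e') (max n (N e')) (Fin.castLEOrderEmb (le_max_right _ _)) c]
      congr 1
      apply Finsupp.mapDomain_injective Fin.val_injective
      rw [← Finsupp.mapDomain_comp, ← Finsupp.mapDomain_comp]
      exact (hback _ _ (hN e')).trans he'
    refine ⟨F, ⟨?_, ?_, hrest⟩, ?_⟩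
    · intro ℓ i j a hi hj _
      let n := (Finset.univ.sup fun t => max (i t) (j t)) + 1
      have hin : ∀ t, i t < n := fun t => Nat.lt_succ_of_le
        (le_trans (le_max_left _ _) (Finset.le_sup (f := fun t => max (i t) (j t)) (Finset.mem_univ t)))
      have hjn : ∀ t, j t < n := fun t => Nat.lt_succ_of_le
        (le_trans (le_max_right _ _) (Finset.le_sup (f := fun t => max (i t) (j t)) (Finset.mem_univ t)))
      have key : ∀ (k : Fin ℓ → ℕ) (hk : StrictMono k) (hkn : ∀ t, k t < n),
          MvPowerSeries.coeff (∑ t, Finsupp.single (k t) (a t)) F =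
            MvPolynomial.coeff (∑ t, Finsupp.single t (a t)) (f ℓ) := by
        intro k hk hkn
        rw [hf ℓ n (OrderEmbedding.ofStrictMono (fun t => ⟨k t, hkn t⟩) (fun x y h => hk h)),
          ← hrest n]
        refine congrArg (fun t => MvPowerSeries.coeff t F) ?_
        simp only [Finsupp.mapDomain_finsetSum, Finsupp.mapDomain_single]
        exact Finset.sum_congr rfl fun t _ => rfl
      rw [key i hi hin, key j hj hjn]
    · intro e he
      rw [hFc] at he
      have h1 := hdeg _ he
      rw [← hback _ e (hN e), Finsupp.degree_mapDomain]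
      rwa [Finsupp.degree_eq_weight_one]
    · rintro F' ⟨-, -, hF'⟩
      refine MvPowerSeries.ext fun e => ?_
      rw [← hback _ e (hN e), hF', hrest]

end Groth.Agent.S17171
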