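import Groth.Statements.S17172
import Groth.Agent.EtPur.SemiPurField

set_option autoImplicit false
universe u
open EtCoh

namespace Groth.Agent.S17172

open CategoryTheory AlgebraicGeometry in
/-- Let k be a field, X an integral scheme which is smooth and of finite type over k, n a natural number
invertible in k, and U ⊆ X an open subscheme whose complement has codimension at least 2 (every
point of X outside U has a local ring of Krull dimension at least 2). Then restriction along U → X
is a bijection H²(X_ét, μ_n) → H²(U_ét, μ_n). Here μ_n is the kernel of the n-th power map on G_m on
the small étale site, μ_n on U is written as the pullback of μ_n on X along the open immersion U →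
X, and the restriction map is the pullback on étale cohomology (whose finite-limit hypothesis on the
pullback functor is carried as an instance binder). The published statement covers X a
Deligne–Mumford stack with trivial generic stabilizer and U an open substack; only the case of a
scheme is stated here. -/
theorem result (k : Type u) [Field k]
    (X : Scheme.{u}) (f : X ⟶ Spec (CommRingCat.of k)) [Smooth f] [IsIntegral X] [CompactSpace X]
    (n : ℕ) (hn : (n : k) ≠ 0) (U : X.Opens)
    (hY : ∀ x : X, x ∉ U → 2 ≤ ringKrullDim (X.presheaf.stalk x))
    [Limits.PreservesFiniteLimits (EtCoh.pull U.ι)] :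
    Function.Bijective (EtCore.Hpull U.ι (EtCoh.mu X n) 2) := by
  haveI : EtCoh.BCCont U.ι := inferInstance
  have hd := Groth.Agent.EtPur.depthGE_mu_of_codim U.ι f hn 2 (fun x hx => hY x fun hU => hx (by rw [Scheme.Opens.range_ι]; exact hU))
  exact (Groth.Agent.EtDepthX.γH_iff_Hpull U.ι _ 2).2.1 ((Groth.Agent.EtDepthX.gh_of_depthGE U.ι hd).1 2 (by omega))

end Groth.Agent.S17172
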