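import Groth.Statements.S17177
import Groth.Agent.NormalH1.Dual
import Groth.Agent.H1Triv.Basic
import Groth.Agent.CycK0.Degree
import Groth.Agent.W7Proj.NegAffine
import Groth.Agent.CohQC.QuasiAffine
import Groth.Agent.CohQC.Restrict
import Groth.Agent.Devissage.Serre
import Groth.Agent.RefStalk.Coherent
import Groth.Agent.QC.FiniteType
import Groth.Agent.GrpOmega.Diff
import Groth.Agent.PnEuler.Split
import Groth.Agent.CIPicGlobal.Main
import Groth.Agent.GeomProp.SmoothPoint
import Groth.Agent.GeomProp.NilReduced

set_option autoImplicit false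
set_option backward.isDefEq.respectTransparency false
set_option backward.isDefEq.respectTransparency.types false
universe u
open CategoryTheory CategoryTheory.Limits AlgebraicGeometry
attribute [local instance] HasDerivedCategory.standard
open Curves

namespace Groth.Agent.S17177

open TopologicalSpace

theorem isInvertible_pull {X Y : Scheme.{u}} (i : X ⟶ Y) {L : Y.Modules} (hL : PicF.IsInvertible L) :
    PicF.IsInvertible ((Scheme.Modules.pullback i).obj L) := fun x =>
  let ⟨U, hU, ⟨e⟩⟩ := hL (i x)
  ⟨i ⁻¹ᵁ U, hU, ⟨(DerPerf.pullRestrictIso i U).app L ≪≫ (Scheme.Modules.pullback (i ∣_ U)).mapIso e ≪≫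
    DerPerf.pullUnitIso (i ∣_ U)⟩⟩

/-- `H¹(Hom(C, O)) = 0` on a reduced curve, from a generic injection `C ⊗ T → O^m` with `H¹(T) = 0`. -/
theorem subsingleton_h1_homSh (k : Type u) [Field k] {X : Scheme.{u}} [X.Over (Spec (CommRingCat.of k))]
    [IsNoetherian X] [IsReduced X] (hdim : topologicalKrullDim X ≤ 1) {C T : X.Modules} {m : ℕ}
    (hC : Coh.IsCoh C) (hT : PicF.IsInvertible T) (hTc : Coh.IsCoh T) (h1 : Subsingleton (Coh.HH X T 1))
    (χ : CohB1.tensorMod C T ⟶ FlatMod.freeMod X m)
    (hinj : ∀ η ∈ genericPoints X, Function.Injective (W7Hull.st χ η)) :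
    Subsingleton (Coh.HH X (RefHull.homSh C (Coh.structureModule X)) 1) := by
  have hFP : CohB1.IsFP C := QC.isFP_of_isQCoh_of_isFT (hM := hC.1) hC.2
  have hN : Coh.IsCoh (RefHull.homSh C (Coh.structureModule X)) :=
    RefStalk.isCoh_homSh hC RefStalk.isCoh_structureModule
  have hP : Coh.IsCoh (∐ fun _ : Fin m => T) := CohFinite.isCoh_of_iso (biproduct.isoCoproduct fun _ : Fin m => T) (Devissage.isCoh_biproduct _ fun _ => hTc)
  let Φ := NormalH1.dualMap χ
  have hQ : Coh.IsCoh (cokernel Φ) := QC.isCoh_cokernel hP.1 hN Φ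
  have hK : Coh.IsCoh (kernel (cokernel.π Φ)) := QC.isCoh_kernel hN hQ.1 _
  have hu : topologicalKrullDim (Set.univ : Set X) ≤ ((1 : ℕ) : WithBot ℕ∞) :=
    (le_of_eq (Homeomorph.Set.univ X).isHomeomorph.topologicalKrullDim_eq).trans hdim
  have hv : ∀ M : X.Modules, Coh.IsCoh M → Subsingleton (Coh.HH X M 2) := fun M _ =>
    CycK0.subsingleton_hh_supp isClosed_univ hu M (Set.subset_univ _) 2 one_lt_two
  have hP1 := W7Proj.subsingleton_hh_sigma h1 m
  haveI : Epi (kernel.lift (cokernel.π Φ) Φ (cokernel.condition Φ)) :=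
    inferInstanceAs (Epi (Abelian.factorThruImage Φ))
  have hK1 : Subsingleton (Coh.HH X (kernel (cokernel.π Φ)) 1) :=
    H1Triv.subsingleton_h1_of_epi k hv hP hK (kernel.lift (cokernel.π Φ) Φ (cokernel.condition Φ)) hP1
  have hgen : ∀ η ∈ genericPoints X, η ∉ CohB1.support (cokernel Φ) := fun η hη => by
    intro h
    apply h
    refine subsingleton_of_forall_eq 0 fun z => ?_
    haveI : Epi (W7Hull.st (cokernel.π Φ) η |> ModuleCat.ofHom) :=
      inferInstanceAs (Epi ((DerSch.stalkFunctor X η).map (cokernel.π Φ)))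
    obtain ⟨w, rfl⟩ := (ModuleCat.epi_iff_surjective _).1 this z
    obtain ⟨v, rfl⟩ := NormalH1.surjective_st_dualMap hT hFP χ (hinj η hη)
      (isField_stalk_of_closure_mem_irreducibleComponents X η hη) w
    change W7Hull.st (cokernel.π Φ) η (W7Hull.st Φ η v) = 0
    rw [← W7Hull.st_comp, cokernel.condition, W7Hull.st_zero]
  have hS : IsClosed (CohB1.support (cokernel Φ)) := Devissage.isClosed_support' hQ
  have hdS : topologicalKrullDim (CohB1.support (cokernel Φ)) ≤ ((0 : ℕ) : WithBot ℕ∞) := by
    have hmax : ∀ x y z : X, x ⤳ y → x ≠ y → z ⤳ x → z = x := by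
      intro x y z hxy hne hzx
      by_contra hne'
      let c : Fin 3 → IrreducibleCloseds X := fun i => ⟨closure {![y, x, z] i}, isIrreducible_singleton.closure, isClosed_closure⟩
      have hlt : ∀ a b : X, a ⤳ b → a ≠ b → closure ({b} : Set X) < closure {a} := fun a b hab hn => by
        refine lt_of_le_of_ne (specializes_iff_closure_subset.1 hab) fun e => hn ?_
        exact (hab.antisymm (specializes_iff_closure_subset.2 e.ge)).eq
      let p : LTSeries (IrreducibleCloseds X) :=
        { length := 2
          toFun := c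
          step := fun i => by
            match i with
            | 0 => exact hlt x y hxy hne
            | 1 => exact hlt z x hzx hne' }
      have := (Order.LTSeries.length_le_krullDim p).trans hdim
      change ((2 : ℕ) : WithBot ℕ∞) ≤ ((1 : ℕ) : WithBot ℕ∞) at this
      exact absurd (Nat.cast_le.1 this) (by norm_num)
    have hlt1 : topologicalKrullDim (CohB1.support (cokernel Φ)) < ((1 : ℕ) : WithBot ℕ∞) := by
      classical
      refine CycK0.dim_lt_of_bound hS (fun x => if IsClosed ({x} : Set X) then 0 else 1) ?_ 1 ?_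
      · intro x y hxy hne
        have hx : ¬ IsClosed ({x} : Set X) := fun h => hne (hxy.mem_closed h rfl).symm
        rw [if_neg hx, if_pos]
        · exact one_pos
        · rw [← closure_subset_iff_isClosed]
          intro z hz
          by_contra hzy
          exact hne (hmax y z x (specializes_iff_mem_closure.2 hz) (Ne.symm hzy) hxy)
      · intro y hy
        by_contra hb
        have hyc : ¬ IsClosed ({y} : Set X) := fun h => hb (by rw [if_pos h]; exact one_pos)
        refine hgen y ((GeomProp.mem_genericPoints_iff X y).2 fun z hz => ?_) hy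
        obtain ⟨w, hw, hwy⟩ : ∃ w, y ⤳ w ∧ w ≠ y := by
          by_contra hall
          push Not at hall
          exact hyc (closure_subset_iff_isClosed.1 fun w hw => hall w (specializes_iff_mem_closure.2 hw))
        exact hmax y w z hw hwy.symm hz
    rcases hd : topologicalKrullDim (CohB1.support (cokernel Φ)) with _ | d
    · exact bot_le
    · rw [hd] at hlt1
      exact Order.le_of_lt_succ (by exact_mod_cast hlt1)
  have hQ1 : Subsingleton (Coh.HH X (cokernel Φ) 1) :=
    CycK0.subsingleton_hh_supp hS hdS _ (le_refl _) 1 one_pos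
  exact CohQC.subsingleton_hh_middle (W7Proj.shortExact_kernel (cokernel.π Φ)) 1 hK1 hQ1

/-- Let k be an algebraically closed field, r ≥ 1, and X ⊆ P^r_k a closed subscheme, cut out by a
quasi-coherent ideal sheaf I, which is a connected nodal curve: reduced, connected, of dimension
one, with at-worst-nodal singularities over k. Suppose H^1(X, O_X(1)) = 0, O_X(1) being the
pull-back of O(1). Let N = Hom_{O_X}(I/I², O_X) be the normal sheaf (the sheaf Hom, assumed to exist
as the right adjoint of tensoring with the conormal sheaf I/I²). Then H^1(X, N) = 0. (In the paper X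
is a curve of degree d ≥ 20(g - 1) and genus g ≥ 3 whose Hilbert point is semistable, for which
H^1(X, O_X(1)) = 0 holds, and the vanishing is used to conclude that the Hilbert scheme is
nonsingular of dimension r(r + 2) + 4g - 3 at the point of X; that deduction, through the
identification of the tangent space with H^0(X, N) and Riemann–Roch, is not part of this row.) -/
theorem result
    (k : Type u) [Field k] [IsAlgClosed k] (r : ℕ) (hr : 1 ≤ r)
    (I₀ : (CohB1.ProjSpace r k).IdealSheafData) [I₀.subscheme.Over (Spec (CommRingCat.of k))]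
    (hX : I₀.subscheme ↘ Spec (CommRingCat.of k) = I₀.subschemeι ≫ (CohB1.ProjSpace r k ↘ Spec (CommRingCat.of k)))
    [IsReduced I₀.subscheme] [ConnectedSpace I₀.subscheme] (hdim : topologicalKrullDim I₀.subscheme = 1)
    (hnod : Curv2.AtWorstNodal k I₀.subscheme)
    (h1 : Subsingleton (Coh.HH I₀.subscheme
      ((Scheme.Modules.pullback I₀.subschemeι).obj (Twist.twistProjSpace r k 1)) 1))
    [DCoh.HasSheafHom (Omega.conormal I₀.subschemeι)] :
    Subsingleton (Coh.HH I₀.subscheme
      ((DCoh.sheafHom (Omega.conormal I₀.subschemeι)).obj (Coh.structureModule I₀.subscheme)) 1) := by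
  let i := I₀.subschemeι
  let f := CohB1.ProjSpace.toSpec r k
  haveI : IsNoetherian (CohB1.ProjSpace r k) := CohFinite.isNoetherian_projSpace r k
  haveI : IsLocallyNoetherian I₀.subscheme := LocallyOfFiniteType.isLocallyNoetherian i
  haveI : CompactSpace I₀.subscheme := QuasiCompact.compactSpace_of_compactSpace i
  haveI : IsNoetherian I₀.subscheme := {}
  haveI := PnHodge.quasiSeparated_toSpec r k
  haveI := ProjMor.isProper_toSpec r k
  haveI : LocallyOfFinitePresentation (i ≫ f) := LocallyOfFinitePresentation.iff_locallyOfFiniteType.mpr inferInstance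
  obtain ⟨φ, hφ⟩ := GrpOmega.exists_conormalDiff i (OmegaSh.dOmega f)
  have hd := OmegaLib.isUniversal_dOmega f
  obtain ⟨q, hq, ⟨ε⟩⟩ := PnEuler.exists_euler (k := k) r
  have hL := CIPicGlobal.isInvertible_twist (n := r) (k := k) 1
  have hT := isInvertible_pull i hL
  have hC : Coh.IsCoh (Omega.conormal i) := QC.isCoh_pullback i (CurveRR.isCoh_idealMod i.ker).1
  refine CohQC.hh_subsingleton_of_iso ((W7Hull.sheafHomIso (Omega.conormal i)).app (Coh.structureModule _)).symm 1 ?_
  refine subsingleton_h1_homSh k hdim.le hC hT (CurveRR.isCoh_of_rank (CurveRR.isFinLocFreeOfRank_one hT)) h1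
    (NormalH1.chi i φ (ε.hom ≫ kernel.ι q)) fun η hη => ?_
  refine NormalH1.injective_st_chi i φ hL hT ε (NormalH1.injective_st_conormalDiff hd hφ ?_)
  exact GeomProp.genericPoint_mem_of_dense I₀.subscheme hη (i ≫ f).smoothLocus (i ≫ f).dense_smoothLocus_of_perfectField

end Groth.Agent.S17177
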