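import Groth.Statements.S17178
import Groth.Agent.Devissage.Support
import Groth.Agent.AmpleDimOne.Top
import Groth.Agent.CurveDiv.Basic
import Groth.Agent.QC.Coherent
import Groth.Agent.CurveRR.Euler
import Groth.Agent.TopDim.Basic

set_option autoImplicit false
universe u
open CategoryTheory CategoryTheory.Limits AlgebraicGeometry
open Curves Groth.Agent Groth.Agent.WeakAssLib

set_option backward.isDefEq.respectTransparency false
set_option backward.isDefEq.respectTransparency.types false

namespace Groth.Agent.S17178

/-- Let k be an algebraically closed field and X a nodal curve over k: proper over k, reduced,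
connected, every irreducible component of dimension one, with at-worst-nodal singularities. Let J be
a coherent O_X-module which is pure of dimension one (every nonzero coherent submodule has
one-dimensional support), for instance a pure quotient with one-dimensional support of a rank-one
torsion-free sheaf. Let U be an open subset and f a function on U vanishing at every point of U
lying in the support Y of J. Then f acts as zero on J over U: for every x ∈ U the germ of f at x
annihilates the stalk J_x. In other words the ideal sheaf of the reduced subcurve Y annihilates J,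
so J is an O_Y-module; this is the first assertion in the proof that every such quotient q : I → J
of a rank-one torsion-free I factors through the torsion-free restriction of I to Y, the remaining
assertion (that the induced map is an isomorphism) not being part of this row. -/
theorem result
    (k : Type u) [Field k] [IsAlgClosed k] (X : Scheme.{u}) [X.Over (Spec (CommRingCat.of k))]
    [IsProper (X ↘ Spec (CommRingCat.of k))] [IsReduced X] [ConnectedSpace X]
    (hequi : ∀ Z ∈ irreducibleComponents (X : Type u), topologicalKrullDim Z = 1)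
    (hX : Curv2.AtWorstNodal k X)
    (J : X.Modules) (hJc : Coh.IsCoh J) (hJp : ShStab.IsPure X J 1)
    (U : X.Opens) (f : X.presheaf.obj (Opposite.op U))
    (hf : ∀ x : X, x ∈ U → x ∈ CohB1.support J → x ∉ X.basicOpen f)
    (x : X) (hx : x ∈ U) (t : J.presheaf.stalk x) :
    (X.presheaf.germ U x hx f) • t = 0 := by
  haveI := CurveRR.isNoetherian_of_proper k X
  by_contra hne
  -- dimension at most one
  have hdim : topologicalKrullDim (X : Type u) ≤ 1 := by
    refine iSup_le fun l => ?_
    obtain ⟨Z, hZ, hsub⟩ := exists_mem_irreducibleComponents_subset_of_isIrreducible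
      (l ⟨l.length, Nat.lt_succ_self _⟩ : Set X) (l ⟨l.length, Nat.lt_succ_self _⟩).isIrreducible
    exact (TopDim.length_le_dim_closed l (isClosed_of_mem_irreducibleComponents Z hZ) hsub).trans
      (hequi Z hZ).le
  obtain ⟨V, hxV, t', rfl⟩ := J.presheaf.exists_germ_eq (x := x) t
  let W : X.Opens := U ⊓ V
  have hxW : x ∈ W := ⟨hx, hxV⟩
  let fW : Γ(X, W) := X.presheaf.map (homOfLE (inf_le_left : W ≤ U)).op f
  let s : Γ(J, W) := fW • QC.res J (inf_le_right : W ≤ V) t'
  have hs : ∀ (y : X) (hy : y ∈ W), mgerm J hy s =
      (X.presheaf.germ U y hy.1).hom f • mgerm J hy.2 t' := by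
    intro y hy
    rw [show mgerm J hy s = (X.presheaf.germ W y hy).hom fW •
      mgerm J hy (QC.res J (inf_le_right : W ≤ V) t') from mgerm_smul J hy _ _, mgerm_res]
    congr 1
    exact X.presheaf.germ_res_apply _ y hy f
  -- a point where the section survives is closed
  have hclosed : ∀ (y : X) (hy : y ∈ W), mgerm J hy s ≠ 0 → IsClosed ({y} : Set X) := by
    intro y hy h0
    by_contra hcl
    have hsupp : y ∈ CohB1.support J := Devissage.mem_support_of_germ hy h0
    have hnu : ¬ IsUnit ((X.presheaf.germ U y hy.1).hom f) := fun hu =>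
      hf y hy.1 hsupp ((X.mem_basicOpen f y hy.1).2 hu)
    refine h0 ?_
    rw [hs]
    have hnil : IsNilpotent ((X.presheaf.germ U y hy.1).hom f) := by
      rw [nilpotent_iff_mem_prime]
      intro P hP
      let p : PrimeSpectrum (X.presheaf.stalk y) := ⟨P, hP⟩
      have h1 : X.fromSpecStalk y p ⤳ X.fromSpecStalk y (IsLocalRing.closedPoint _) :=
        Specializes.map ((PrimeSpectrum.le_iff_specializes p _).1 (IsLocalRing.le_maximalIdeal hP.ne_top))
          (X.fromSpecStalk y).continuous
      rw [Scheme.fromSpecStalk_closedPoint] at h1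
      obtain ⟨c, hc, hcy⟩ : ∃ c : X, y ⤳ c ∧ c ≠ y := by
        by_contra hno
        push_neg at hno
        refine hcl ?_
        rw [← closure_subset_iff_isClosed]
        exact fun c hc => hno c (specializes_iff_mem_closure.2 hc)
      rcases AmpleDimOne.eq_or_eq_of_specializes hdim h1 hc with e | e
      · have e' : p = IsLocalRing.closedPoint _ :=
          (X.fromSpecStalk y).isEmbedding.injective (e.trans Scheme.fromSpecStalk_closedPoint.symm)
        have : P = IsLocalRing.maximalIdeal _ := congrArg PrimeSpectrum.asIdeal e'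
        rw [this]
        exact hnu
      · exact absurd e.symm hcy
    rw [hnil.eq_zero, zero_smul]
  -- the survivors form a finite set
  let O : X.Opens := ⟨{y | ∃ hy : y ∈ W, mgerm J hy s = 0}, isOpen_iff_forall_mem_open.2 fun y ⟨hy, h0⟩ => by
    obtain ⟨W', hyW', iU, iV, h⟩ := TopCat.Presheaf.germ_eq J.presheaf y hy hy s 0
      (h0.trans (map_zero _).symm)
    refine ⟨(W' : Set X), fun z hz => ⟨iU.le hz, ?_⟩, W'.2, hyW'⟩
    have h' : QC.res J iU.le s = 0 := h.trans (map_zero _)
    rw [← mgerm_res J iU.le hz s, h', map_zero]⟩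
  have hT : {z : X | z ∈ W ∧ z ∉ O}.Finite := CurveDiv.finite_of_forall_isClosed W O
    fun z hz hzO => hclosed z hz fun h => hzO ⟨hz, h⟩
  let R : Set X := {z : X | z ∈ W ∧ z ∉ O} \ {x}
  have hR : IsClosed R := by
    rw [show R = ⋃ z ∈ R, {z} from (Set.biUnion_of_singleton R).symm]
    exact (hT.subset Set.diff_subset).isClosed_biUnion fun z hz =>
      hclosed z hz.1.1 fun h => hz.1.2 ⟨hz.1.1, h⟩
  let W' : X.Opens := W ⊓ ⟨Rᶜ, hR.isOpen_compl⟩
  have hxW' : x ∈ W' := ⟨hxW, fun h => h.2 rfl⟩
  have hsx : mgerm J hxW s ≠ 0 := by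
    rw [hs]
    exact hne
  let U' : X.Opens := ⟨({x} : Set X)ᶜ, (hclosed x hxW hsx).isOpen_compl⟩
  have hker : (Devissage.unitE U' J).app W' (QC.res J (inf_le_left : W' ≤ W) s) = 0 :=
    (Devissage.unitE_eq_zero_iff U' J _).2 fun y hy hyU => by
      rw [mgerm_res]
      by_contra h
      exact hy.2 ⟨⟨hy.1, fun ⟨_, hO⟩ => h hO⟩, hyU⟩
  obtain ⟨a, ha⟩ := (QC.mem_range_kernel_app _ _ _).2 hker
  have hF : Coh.IsCoh (kernel (Devissage.unitE U' J)) :=
    QC.isCoh_kernel hJc (Devissage.isQCoh_pushE hJc.1 U') _
  have hsupp : CohB1.support (kernel (Devissage.unitE U' J)) ⊆ ({x} : Set X) := fun y hy => by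
    have := Devissage.support_kernel_unitE U' J hy
    simpa [U'] using this
  by_cases h0 : IsZero (kernel (Devissage.unitE U' J))
  · refine hsx ?_
    have hι : kernel.ι (Devissage.unitE U' J) = 0 := h0.eq_of_src _ _
    have hz : QC.res J (inf_le_left : W' ≤ W) s = 0 := by
      rw [← ha, hι]
      rfl
    rw [← mgerm_res J (inf_le_left : W' ≤ W) hxW' s, hz, map_zero]
  · have h1 := hJp _ (kernel.ι (Devissage.unitE U' J)) inferInstance hF h0
    haveI : Subsingleton ↥(CohB1.support (kernel (Devissage.unitE U' J))) :=
      ⟨fun a b => Subtype.ext ((hsupp a.2).trans (hsupp b.2).symm)⟩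
    haveI : Subsingleton (TopologicalSpace.IrreducibleCloseds
        ↥(CohB1.support (kernel (Devissage.unitE U' J)))) := ⟨fun A B => by
      refine TopologicalSpace.IrreducibleCloseds.ext (Set.ext fun z => ?_)
      obtain ⟨a, haA⟩ := A.isIrreducible.nonempty
      obtain ⟨b, hbB⟩ := B.isIrreducible.nonempty
      exact ⟨fun _ => Subsingleton.elim b z ▸ hbB, fun _ => Subsingleton.elim a z ▸ haA⟩⟩
    have h2 : topologicalKrullDim ↥(CohB1.support (kernel (Devissage.unitE U' J))) ≤ 0 :=
      Order.krullDim_nonpos_of_subsingleton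
    rw [h1] at h2
    exact absurd h2 (by norm_num)

end Groth.Agent.S17178
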