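import Groth.Statements.S17181
import Mathlib.AlgebraicGeometry.Geometrically.Irreducible
import Mathlib.AlgebraicGeometry.Fiber
import Mathlib.AlgebraicGeometry.Morphisms.Flat

set_option autoImplicit false
universe u
open CategoryTheory CategoryTheory.Limits AlgebraicGeometry
open FBase

namespace Groth.Agent.S17181

/-- Let k be a field, C an irreducible k-scheme which is geometrically irreducible over k, and f : X → C
a flat k-morphism locally of finite type with X irreducible. If the generic fibre of f is
geometrically irreducible over the residue field of the generic point of C, then X is geometrically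
irreducible over k. (The published setting is a regular proper surface mapping onto a smooth
projective geometrically irreducible curve with smooth projective geometrically irreducible generic
fibre; the printed argument uses only the hypotheses kept here.) -/
theorem result (k : Type u) [Field k]
    (X C : Scheme.{u}) [X.Over (Spec (CommRingCat.of k))] [C.Over (Spec (CommRingCat.of k))]
    (f : X ⟶ C) [f.IsOver (Spec (CommRingCat.of k))] [IrreducibleSpace X] [IrreducibleSpace C]
    [GeometricallyIrreducible (C ↘ Spec (CommRingCat.of k))] [Flat f] [LocallyOfFiniteType f]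
    [GeometricallyIrreducible (f.fiberToSpecResidueField (genericPoint C))] :
    GeometricallyIrreducible (X ↘ Spec (CommRingCat.of k)) := by
  refine ⟨fun K _ s W q p hsq => ?_⟩
  let cp : C ⟶ Spec (CommRingCat.of k) := C ↘ Spec (CommRingCat.of k)
  let xp : X ⟶ Spec (CommRingCat.of k) := X ↘ Spec (CommRingCat.of k)
  have hfx : f ≫ cp = xp := comp_over f (Spec (CommRingCat.of k))
  haveI : IrreducibleSpace ↥(pullback cp s) :=
    GeometricallyIrreducible.geometrically_irreducibleSpace s (pullback.fst cp s) (pullback.snd cp s)
      (IsPullback.of_hasPullback _ _)
  let g : W ⟶ pullback cp s := pullback.lift (q ≫ f) p (by rw [Category.assoc, hfx]; exact hsq.w)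
  have sq : IsPullback q g f (pullback.fst cp s) := by
    refine IsPullback.of_bot ?_ (by rw [pullback.lift_fst]) (IsPullback.of_hasPullback cp s)
    rw [pullback.lift_snd, hfx]
    exact hsq
  haveI : Flat g := MorphismProperty.of_isPullback (P := @Flat) sq ‹_›
  have hη : (pullback.fst cp s) (genericPoint ↥(pullback cp s)) = genericPoint C := by
    refine Specializes.antisymm ?_ (genericPoint_specializes _) |>.eq
    haveI : Surjective s := ⟨fun x => ⟨default, Subsingleton.elim _ _⟩⟩
    obtain ⟨w, hw⟩ := (pullback.fst cp s).surjective (genericPoint C)
    rw [← hw]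
    exact (genericPoint_specializes w).map (pullback.fst cp s).continuous
  have hη' : GeometricallyIrreducible (f.fiberToSpecResidueField ((pullback.fst cp s) (genericPoint ↥(pullback cp s)))) := by
    rw [hη]; infer_instance
  haveI : GeometricallyIrreducible (g.fiberToSpecResidueField (genericPoint ↥(pullback cp s))) :=
    MorphismProperty.of_isPullback (P := @GeometricallyIrreducible)
      (isPullback_fiberToSpecResidueField_of_isPullback sq (genericPoint ↥(pullback cp s))) hη'
  haveI : IrreducibleSpace ↥(g.fiber (genericPoint ↥(pullback cp s))) :=
    GeometricallyIrreducible.irreducibleSpace_of_subsingleton (g.fiberToSpecResidueField (genericPoint ↥(pullback cp s)))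
  let ξ := g.fiberι (genericPoint ↥(pullback cp s)) (genericPoint ↥(g.fiber (genericPoint ↥(pullback cp s))))
  have hall : ∀ w : W, ξ ⤳ w := fun w => by
    obtain ⟨v, hv, hvη⟩ := Flat.generalizingMap (f := g) (genericPoint_specializes (g w))
    obtain ⟨v₀, rfl⟩ : ∃ v₀, g.fiberι (genericPoint ↥(pullback cp s)) v₀ = v :=
      (g.range_fiberι (genericPoint ↥(pullback cp s))).ge hvη
    exact ((genericPoint_specializes v₀).map (g.fiberι _).continuous).trans hv
  have hu : (Set.univ : Set W) = closure {ξ} := (Set.eq_univ_of_forall fun w => (hall w).mem_closure).symm
  exact { toPreirreducibleSpace := ⟨by rw [hu]; exact isIrreducible_singleton.closure.2⟩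
          toNonempty := ⟨ξ⟩ }

end Groth.Agent.S17181
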