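import Groth.Statements.S1721
import Groth.Agent.DualCx.PolyDual
import Groth.Agent.DualCx.Dim
import Groth.Agent.Catenary.Ring
import Groth.Agent.DimFun.Basic

set_option autoImplicit false
universe u
open CategoryTheory
attribute [local instance] HasDerivedCategory.standard
open Dual

namespace Groth.Agent.S1721

theorem catenary_of_dualizing {A : Type u} [CommRing A] [IsNoetherianRing A] {ω : Dual.D A}
    (hω : Dual.IsDualizing A ω) : CAlg.IsCatenary A :=
  Groth.Agent.Catenary.isCatenary_iff.2 (Groth.Agent.DimFun.isCat_of_intGrade
    (fun p => -Groth.Agent.DualCx.del hω p)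
    (fun a b h => neg_lt_neg (Groth.Agent.DualCx.del_lt hω h))
    (fun a b h => by have := Groth.Agent.DualCx.del_covBy hω h; lia))

theorem catenary_mvPolynomial : ∀ (n : ℕ) (A : Type u) [CommRing A] [IsNoetherianRing A] (ω : Dual.D A),
    Dual.IsDualizing A ω → CAlg.IsCatenary (MvPolynomial (Fin n) A) := by
  intro n
  induction n with
  | zero =>
    intro A _ _ ω hω
    exact Groth.Agent.Catenary.isCatenary_of_ringEquiv (MvPolynomial.isEmptyAlgEquiv A (Fin 0)).toRingEquiv.symm
      (catenary_of_dualizing hω)
  | succ n ih =>
    intro A _ _ ω hω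
    haveI : DRing.HasLBaseChange (algebraMap A (Polynomial A)) := Groth.Agent.DRingKP.hasLBaseChange _
    exact Groth.Agent.Catenary.isCatenary_of_ringEquiv
      ((MvPolynomial.renameEquiv A (finSuccEquiv n)).trans (MvPolynomial.optionEquivRight A (Fin n))).toRingEquiv.symm
      (ih (Polynomial A) _ (Groth.Agent.DualCx.Poly.isDualizing_lBaseChange hω))


/-- A Noetherian ring admitting a dualizing complex is universally catenary. (Finiteness of the
dimension is a separate, earlier result.) -/
theorem result (A : Type u) [CommRing A] [IsNoetherianRing A] (ω : Dual.D A) (hω : Dual.IsDualizing A ω) : CAlg.IsUniversallyCatenary A := by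
  exact Groth.Agent.Catenary.isUniversallyCatenary_of_polynomial fun n => catenary_mvPolynomial n A ω hω

end Groth.Agent.S1721
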