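import Groth.Statements.S17210
import Groth.Agent.GenULoc.Fibres

set_option autoImplicit false
universe u
open CategoryTheory CategoryTheory.Limits AlgebraicGeometry Opposite
open EtAcyc

namespace Groth.Agent.S17210

/-- Let S be a Noetherian scheme and f : X → S a morphism of finite type. There is a dense open U of S
such that for every morphism b : S' → S whose image lies in U and every cartesian square exhibiting
f' : X' → S' as the base change of f, all Milnor fibres of f' are nonempty and connected: for every
point x' of X', all strict henselizations R of the local ring of S' at f' x' and R' of the local
ring of X' at x' with a compatible local homomorphism R → R', and every geometric point of Spec R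
with values in a separably closed field algebraic over the residue field of a point of Spec R, the
fibre of Spec R' → Spec R at that geometric point is nonempty and connected. (Equivalently: for
every finite set E the constant sheaf E on X_U is universally locally acyclic for X_U → U, local
acyclicity of a sheaf of sets meaning that its sections over each strict localization map
bijectively to its sections over every Milnor fibre. The published statement asserts the conclusion
for f itself rather than for its restriction over U, one dense open U serving both for this and for
the companion statement on principal covers of the Milnor fibres; in the unrestricted form it fails,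
for instance for the inclusion of a closed point in the affine line over a field, whose Milnor fibre
over the generic point is empty; this row states it over U, which is what the proof gives.) -/
theorem result {X S : Scheme.{u}} (f : X ⟶ S) [IsNoetherian S]
    [LocallyOfFiniteType f] [QuasiCompact f] :
    ∃ U : S.Opens, Dense (U : Set S) ∧
      ∀ ⦃X' S' : Scheme.{u}⦄ (b : S' ⟶ S), Set.range b.base ⊆ (U : Set S) →
        ∀ (f' : X' ⟶ S') (b' : X' ⟶ X), IsPullback b' f' f b →
          EtAcyc.OnStrictLocalizations f' (fun _ _ h => EtAcyc.GeomFibresAcyclicN Set.univ 0 h) := by
  obtain ⟨U, hU, hgood⟩ := GenULoc.exists_dense_good f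
  refine ⟨U, hU, fun X' S' b hb f' b' hsq x RY RX _ _ _ _ _ _ _ _ _ _ _ _ hc y Ω _ _ _ _ => ?_⟩
  have hu := GenULoc.uloc_of_range hgood hb hsq
  haveI := GenULoc.connectedSpace_strict_fibre f' hu ({ R := RX } : Groth.Agent.EtBCQ.SH X' x)
    ({ R := RY } : Groth.Agent.EtBCQ.SH S' (f'.base x)) (algebraMap RY RX)
    (Groth.Agent.EtBCQ.specOf_comp f' x RY RX (algebraMap RY RX) hc).symm Ω (EtAcyc.geomPt _ y Ω)
  exact ⟨inferInstance, inferInstance, fun _ _ _ q h1 h2 => absurd (h1.trans h2) (by omega)⟩

end Groth.Agent.S17210
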