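import Groth.Statements.S1723
import Groth.Agent.DualFlat.Apps
import Groth.Agent.AdicFibres.Completion

set_option autoImplicit false
universe u
open CategoryTheory
attribute [local instance] HasDerivedCategory.standard
open Dual

namespace Groth.Agent.S1723

/-- If a Noetherian local ring A has a dualizing complex, then each of its formal fibres is a Gorenstein
ring: for every prime p the ring A^ ⊗_A κ(p) (completion at the maximal ideal, tensored with the
residue field of p) is a Gorenstein ring. -/
theorem result (A : Type u) [CommRing A] [IsLocalRing A] [IsNoetherianRing A] (ω : Dual.D A) (hω : Dual.IsDualizing A ω) (p : PrimeSpectrum A) : LocCoh.IsGorensteinRing (EGA4.formalFibre A p.asIdeal) := by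
  haveI : IsNoetherianRing (EGA4.Cpl A) :=
    Groth.Agent.ResExt.isNoetherianRing_adicCompletion _ (IsNoetherian.noetherian _)
  haveI := DRingKP.hasLBaseChange (algebraMap A (EGA4.Cpl A))
  have hB := DualFlat.isDualizing_lBaseChange_unramified (EGA4.Cpl A) ω (fun n hn => by
    haveI := hn
    exact (AdicFibres.maximal_setup A (IsLocalRing.maximalIdeal A) n).2.2.symm) hω
  haveI : IsNoetherianRing (p.asIdeal.Fiber (EGA4.Cpl A)) :=
    FlatDepth.isNoetherianRing_tensor_essFinite A (EGA4.Cpl A) p.asIdeal.ResidueField
  refine { isGorensteinLocalRing_localization := fun Q hQ => ?_ }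
  let P := Q.comap (Algebra.TensorProduct.includeRight : EGA4.Cpl A →ₐ[A] p.asIdeal.Fiber (EGA4.Cpl A))
  haveI : P.LiesOver p.asIdeal := inferInstance
  letI := Localization.AtPrime.algebraOfLiesOver p.asIdeal P
  have h1 := DualFlat.gorenstein_fibLocRing (EGA4.Cpl A) ω hω
    (DualCx.isDualizing_of_iso (DualCx.lBaseChangeObjIso (algebraMap A (EGA4.Cpl A)) ω) hB) P
  rw [show P.comap (algebraMap A (EGA4.Cpl A)) = p.asIdeal from (Ideal.LiesOver.over (p := p.asIdeal) (P := P)).symm] at h1
  exact Goren.isGorenstein_of_equiv (Ideal.Fiber.localizationAlgEquivQuotient _ Q).toRingEquiv.symm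

end Groth.Agent.S1723
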