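import Groth.Statements.S17244
import Groth.Agent.DivWronsk.Main

set_option autoImplicit false
open W4c4effdivwronsk2

namespace Groth.Agent.S17244

open Polynomial in
/-- Let `k` be a field of characteristic zero and take, on the projective line over `k`, the point `∞`
and `m` further distinct points `r_1, …, r_m` of the affine line, with positive integers `b` (at
`∞`) and `a_1, …, a_m`; put `N = b + ∑ a_j`. The sum of the spaces of differentials with a single
pole, of order at most `b + 1` at `∞`, resp. at most `a_j + 1` at `r_j`, `V = H⁰(ω((b+1)∞)) + ∑_j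
H⁰(ω((a_j+1)r_j)) ⊆ H⁰(ω((b+1)∞ + ∑_j (a_j+1)r_j)) ≅ H⁰(O(d))`, `d = b - 1 + ∑ (a_j+1)`, becomes,
after multiplying by `dX⁻¹ ∏_j (X - r_j)^(a_j+1)`, the subspace of `k[X]_{≤ d}` spanned by
`D·k[X]_{<b}` and the `D_i·k[X]_{<a_i}`, where `D = ∏_j (X - r_j)^(a_j+1)` and `D_i` omits the
`i`-th factor; a member `h` vanishes to order `n` at a point `q` of the affine line when `(X - q)^n
∣ h`, and to order `d - deg h` at `∞`. Let `V₁ ⊆ V` be a hyperplane (`dim V₁ = N - 1`) containing
`D·k[X]_{<b-2}` and every `D_i·k[X]_{<a_i}` (that is, containing `H⁰(ω((b-1)∞)) + ∑_j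
H⁰(ω((a_j+1)r_j))`). The weight of `V₁` at a point is `∑_{n=1}^{d} dim V₁(-n·point) - (N-1 choose
2)` (the sum of the vanishing orders minus `0 + 1 + ⋯ + (N-2)`). Then the weight of `V₁` at `r_i` is
`∑_{j≠i} a_j + b - 1 + ε_i` and its weight at `∞` is `∑_j a_j + N - 2 + ε`, with `ε_i, ε ∈ {0, 1}`.
(The published statement is over the complex numbers with the distinguished marked point arbitrary;
it is placed at `∞` here.) -/
theorem result
    (k : Type*) [Field k] [CharZero k] (m : ℕ) (r : Fin m → k) (hr : Function.Injective r)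
    (a : Fin m → ℕ) (ha : ∀ j, 1 ≤ a j) (b : ℕ) (hb : 1 ≤ b) (N d : ℕ)
    (hN : N = (∑ j, a j) + b) (hd : d + 1 = (∑ j, (a j + 1)) + b)
    (V : Submodule k (Polynomial k))
    (hV : V = (Polynomial.degreeLT k b).map (LinearMap.mulLeft k (∏ j, (X - C (r j)) ^ (a j + 1))) ⊔
      ⨆ i, (Polynomial.degreeLT k (a i)).map
        (LinearMap.mulLeft k (∏ j ∈ Finset.univ.erase i, (X - C (r j)) ^ (a j + 1))))
    (V₁ : Submodule k (Polynomial k)) (hV₁ : V₁ ≤ V) (hfin : Module.finrank k ↥V₁ + 1 = N)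
    (hU : (Polynomial.degreeLT k (b - 2)).map (LinearMap.mulLeft k (∏ j, (X - C (r j)) ^ (a j + 1))) ⊔
      (⨆ i, (Polynomial.degreeLT k (a i)).map
        (LinearMap.mulLeft k (∏ j ∈ Finset.univ.erase i, (X - C (r j)) ^ (a j + 1)))) ≤ V₁) :
    (∀ i : Fin m, ∃ ε : ℕ, ε ≤ 1 ∧
      (∑ n ∈ Finset.range d, Module.finrank k ↥(V₁ ⊓ (Ideal.span {(X - C (r i)) ^ (n + 1)}).restrictScalars k)) + 1 =
        (N - 1).choose 2 + (N - a i) + ε) ∧
    (∃ ε : ℕ, ε ≤ 1 ∧
      (∑ n ∈ Finset.range d, Module.finrank k ↥(V₁ ⊓ Polynomial.degreeLT k (d - n))) =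
        (N - 1).choose 2 + (N - b) + (N - 2) + ε) := by
  subst hN
  have hV' : V = Groth.Agent.DivWronsk.V r a b := hV
  subst hV'
  have hd' : d + 1 = (∑ j, a j) + b + m := by
    rw [hd, Finset.sum_add_distrib, Finset.sum_const, Finset.card_fin, smul_eq_mul]; omega
  refine ⟨fun i => ?_, ?_⟩
  · exact Groth.Agent.DivWronsk.weight_root r a hb hr V₁ hV₁ ha hfin i
      (Groth.Agent.DivWronsk.not_both_mem r a hb hr V₁ hfin hV₁ hU (r i)) d hd
  · have hma : m ≤ ∑ j, a j := by
      simpa using Finset.card_nsmul_le_sum Finset.univ a 1 (fun j _ => ha j)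
    obtain ⟨c, -, hc, he⟩ := Groth.Agent.DivWronsk.weight_infty r a hb hr V₁ hV₁ ha hfin d 0
      (min 1 d) (Nat.zero_le _) (Nat.zero_le _) hd (fun h => absurd h (by omega)) (fun h => by
        rw [show min 1 d + 1 = 2 by omega,
          show (∑ j, a j) + b + m - 2 = ((∑ j, a j) + b - 2) + m by omega,
          Groth.Agent.DivWronsk.V_inf_degreeLT r a hr b _ (by omega)]
        rintro _ ⟨G, hG, rfl⟩
        refine Groth.Agent.DivWronsk.L_mem_of_hU r a hb hr V₁ hU ?_
        rwa [show (∑ j, a j) + b - 2 + 1 = (∑ j, a j) + b - 1 by omega] at hG)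
    by_cases hN2 : 2 ≤ (∑ j, a j) + b
    · exact ⟨1 - c, by omega, by omega⟩
    · exact ⟨0, by omega, by omega⟩

end Groth.Agent.S17244
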