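import Groth.Statements.S17245
import Groth.Agent.DivWronsk.Main

set_option autoImplicit false
open W4c4effdivwronsk2

namespace Groth.Agent.S17245

open Polynomial in
/-- Let `k` be a field of characteristic zero and take, on the projective line over `k`, the point `∞`
and `m` further distinct points `r_1, …, r_m` of the affine line, with positive integers `b` (at
`∞`) and `a_1, …, a_m`; put `N = b + ∑ a_j`. The sum of the spaces of differentials with a single
pole, of order at most `b + 1` at `∞`, resp. at most `a_j + 1` at `r_j`, `V = H⁰(ω((b+1)∞)) + ∑_j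
H⁰(ω((a_j+1)r_j)) ⊆ H⁰(ω((b+1)∞ + ∑_j (a_j+1)r_j)) ≅ H⁰(O(d))`, `d = b - 1 + ∑ (a_j+1)`, becomes,
after multiplying by `dX⁻¹ ∏_j (X - r_j)^(a_j+1)`, the subspace of `k[X]_{≤ d}` spanned by
`D·k[X]_{<b}` and the `D_i·k[X]_{<a_i}`, where `D = ∏_j (X - r_j)^(a_j+1)` and `D_i` omits the
`i`-th factor; a member `h` vanishes to order `n` at a point `q` of the affine line when `(X - q)^n
∣ h`, and to order `d - deg h` at `∞`. Let `p` be a further point of the affine line, distinct from
the `r_j`, and `V₁ = V(-p)` the members divisible by `X - p`, an `(N-1)`-dimensional system in the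
line bundle twisted down by `p` (its vanishing orders at points `q ≠ p`, and at `∞`, are read off
exactly as for `V`; at `p` itself they are one less than the order of divisibility by `X - p`). Then
`dim V₁ = N - 1`, the point `p` is not a ramification point of `V₁` (no nonzero member of `V₁` is
divisible by `(X - p)^N`), and `V₁` has at most one ramification point off the marked points, a
simple one: at every `q` other than `p` and the `r_j`, no nonzero member is divisible by `(X - q)^N`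
and at most a line of members is divisible by `(X - q)^(N-2)`, and at most one such `q` has a
nonzero member divisible by `(X - q)^(N-1)`. (The published statement is over the complex numbers
with all points arbitrary; one marked point is placed at `∞` here and `p` is taken distinct from the
marked points.) -/
theorem result
    (k : Type*) [Field k] [CharZero k] (m : ℕ) (r : Fin m → k) (hr : Function.Injective r)
    (a : Fin m → ℕ) (ha : ∀ j, 1 ≤ a j) (b : ℕ) (hb : 1 ≤ b) (N d : ℕ)
    (hN : N = (∑ j, a j) + b) (hd : d + 1 = (∑ j, (a j + 1)) + b)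
    (V : Submodule k (Polynomial k))
    (hV : V = (Polynomial.degreeLT k b).map (LinearMap.mulLeft k (∏ j, (X - C (r j)) ^ (a j + 1))) ⊔
      ⨆ i, (Polynomial.degreeLT k (a i)).map
        (LinearMap.mulLeft k (∏ j ∈ Finset.univ.erase i, (X - C (r j)) ^ (a j + 1))))
    (p : k) (hp : ∀ j, p ≠ r j) (V₁ : Submodule k (Polynomial k))
    (hV₁ : V₁ = V ⊓ (Ideal.span {X - C p}).restrictScalars k) :
    Module.finrank k ↥V₁ + 1 = N ∧
    (V₁ ⊓ (Ideal.span {(X - C p) ^ N}).restrictScalars k) = ⊥ ∧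
    (∀ q : k, (∀ j, q ≠ r j) → q ≠ p →
      (V₁ ⊓ (Ideal.span {(X - C q) ^ N}).restrictScalars k) = ⊥ ∧
      Module.finrank k ↥(V₁ ⊓ (Ideal.span {(X - C q) ^ (N - 2)}).restrictScalars k) ≤ 1) ∧
    (∀ q q' : k, (∀ j, q ≠ r j) → q ≠ p → (∀ j, q' ≠ r j) → q' ≠ p →
      (V₁ ⊓ (Ideal.span {(X - C q) ^ (N - 1)}).restrictScalars k) ≠ ⊥ →
      (V₁ ⊓ (Ideal.span {(X - C q') ^ (N - 1)}).restrictScalars k) ≠ ⊥ → q = q') := by
  subst hN
  have hV' : V = Groth.Agent.DivWronsk.V r a b := hV
  subst hV'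
  have hV₁' : V₁ = Groth.Agent.DivWronsk.V r a b ⊓ Groth.Agent.DivWronsk.dvdAt p 1 := by
    rw [hV₁]; simp [Groth.Agent.DivWronsk.dvdAt]
  subst hV₁'
  have hfin : Module.finrank k ↥(Groth.Agent.DivWronsk.V r a b ⊓ Groth.Agent.DivWronsk.dvdAt p 1) + 1 =
      (∑ j, a j) + b := by
    rw [Groth.Agent.DivWronsk.finrank_V_inf_dvdAt r a hr b hp 1]; omega
  have hev : ∀ h ∈ Groth.Agent.DivWronsk.V r a b ⊓ Groth.Agent.DivWronsk.dvdAt p 1, h.eval p = 0 := by
    intro h hh
    obtain ⟨G, hG⟩ := Groth.Agent.DivWronsk.mem_dvdAt.mp hh.2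
    simp [hG]
  have hP := Groth.Agent.DivWronsk.eval_P_ne_zero r hp
  have hnot : ∀ q : k, q ≠ p → 2 ≤ (∑ j, a j) + b →
      Groth.Agent.DivWronsk.L r a ((Polynomial.X - Polynomial.C q) ^ ((∑ j, a j) + b - 1)) ∈
        Groth.Agent.DivWronsk.V r a b ⊓ Groth.Agent.DivWronsk.dvdAt p 1 →
      Groth.Agent.DivWronsk.L r a ((Polynomial.X - Polynomial.C q) ^ ((∑ j, a j) + b)) ∈
        Groth.Agent.DivWronsk.V r a b ⊓ Groth.Agent.DivWronsk.dvdAt p 1 → False := by
    intro q hqp hN2 h1 h2
    obtain ⟨M, hM⟩ : ∃ M, (∑ j, a j) + b = M + 2 := ⟨_, (Nat.sub_add_cancel hN2).symm⟩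
    have e1 := hev _ h1
    have e2 := hev _ h2
    rw [hM, show M + 2 - 1 = M + 1 from rfl, Groth.Agent.DivWronsk.eval_L_pow] at e1
    rw [hM, Groth.Agent.DivWronsk.eval_L_pow] at e2
    have hne : ∀ t : ℕ, (p - q) ^ t ≠ 0 := fun t => pow_ne_zero _ (sub_ne_zero.mpr hqp.symm)
    have f1 := (mul_eq_zero.mp e1).resolve_left (hne _)
    have f2 := (mul_eq_zero.mp e2).resolve_left (hne _)
    push_cast at f1 f2
    exact hP (by linear_combination f2 - f1)
  refine ⟨hfin, ?_, fun q hq hqp => ⟨?_, ?_⟩, fun q q' hq hqp hq' hqp' h h' => ?_⟩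
  · exact le_bot_iff.mp ((inf_le_inf_right _ inf_le_left).trans
      (Groth.Agent.DivWronsk.inf_dvdAt_eq_bot r a hr hp).le)
  · exact le_bot_iff.mp ((inf_le_inf_right _ inf_le_left).trans
      (Groth.Agent.DivWronsk.inf_dvdAt_eq_bot r a hr hq).le)
  · exact Groth.Agent.DivWronsk.finrank_inf_le_one r a hr _ inf_le_left hfin hq (hnot q hqp)
  · have e1 := hev _ (Groth.Agent.DivWronsk.mem_of_inf_ne_bot r a hr hq _ inf_le_left (by omega) h)
    have e2 := hev _ (Groth.Agent.DivWronsk.mem_of_inf_ne_bot r a hr hq' _ inf_le_left (by omega) h')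
    obtain ⟨M, hM⟩ : ∃ M, (∑ j, a j) + b = M + 1 :=
      ⟨_, (Nat.sub_add_cancel (by omega : 1 ≤ (∑ j, a j) + b)).symm⟩
    rw [hM, Groth.Agent.DivWronsk.eval_L_pow] at e1 e2
    have f1 := (mul_eq_zero.mp e1).resolve_left (pow_ne_zero _ (sub_ne_zero.mpr hqp.symm))
    have f2 := (mul_eq_zero.mp e2).resolve_left (pow_ne_zero _ (sub_ne_zero.mpr hqp'.symm))
    have f3 : (q - q') * (Groth.Agent.DivWronsk.S r a).eval p = 0 := by linear_combination f1 - f2
    rcases mul_eq_zero.mp f3 with h3 | h3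
    · exact sub_eq_zero.mp h3
    · rw [h3, mul_zero, sub_zero] at f1
      exact absurd ((mul_eq_zero.mp f1).resolve_left (Nat.cast_ne_zero.mpr (Nat.succ_ne_zero M))) hP

end Groth.Agent.S17245
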