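import Groth.Statements.S17246
import Groth.Agent.DivWronsk.Main

set_option autoImplicit false
open W4c4effdivwronsk2

namespace Groth.Agent.S17246

open Polynomial in
/-- Let `k` be a field of characteristic zero and take, on the projective line over `k`, the point `∞`
and `m` further distinct points `r_1, …, r_m` of the affine line, with positive integers `b` (at
`∞`) and `a_1, …, a_m`; put `N = b + ∑ a_j`. The sum of the spaces of differentials with a single
pole, of order at most `b + 1` at `∞`, resp. at most `a_j + 1` at `r_j`, `V = H⁰(ω((b+1)∞)) + ∑_j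
H⁰(ω((a_j+1)r_j)) ⊆ H⁰(ω((b+1)∞ + ∑_j (a_j+1)r_j)) ≅ H⁰(O(d))`, `d = b - 1 + ∑ (a_j+1)`, becomes,
after multiplying by `dX⁻¹ ∏_j (X - r_j)^(a_j+1)`, the subspace of `k[X]_{≤ d}` spanned by
`D·k[X]_{<b}` and the `D_i·k[X]_{<a_i}`, where `D = ∏_j (X - r_j)^(a_j+1)` and `D_i` omits the
`i`-th factor; a member `h` vanishes to order `n` at a point `q` of the affine line when `(X - q)^n
∣ h`, and to order `d - deg h` at `∞`. Let `p` be a further point of the affine line, distinct from
the `r_j`, and `V₁ = V(-p)` the members divisible by `X - p` (an `(N-1)`-dimensional system in the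
line bundle twisted down by `p`, with vanishing orders at the marked points read off as for `V`).
With the weight of `V₁` at a marked point defined as `∑_{n=1}^{d} dim V₁(-n·point) - (N-1 choose
2)`: the weight at `r_i` is `∑_{j≠i} a_j + b - 1 + ε_i` and the weight at `∞` is `∑_j a_j - 1 + ε`,
with all `ε` in `{0, 1}`. (The published statement is over the complex numbers with all points
arbitrary; one marked point is placed at `∞` here and `p` is taken distinct from the marked points.) -/
theorem result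
    (k : Type*) [Field k] [CharZero k] (m : ℕ) (r : Fin m → k) (hr : Function.Injective r)
    (a : Fin m → ℕ) (ha : ∀ j, 1 ≤ a j) (b : ℕ) (hb : 1 ≤ b) (N d : ℕ)
    (hN : N = (∑ j, a j) + b) (hd : d + 1 = (∑ j, (a j + 1)) + b)
    (V : Submodule k (Polynomial k))
    (hV : V = (Polynomial.degreeLT k b).map (LinearMap.mulLeft k (∏ j, (X - C (r j)) ^ (a j + 1))) ⊔
      ⨆ i, (Polynomial.degreeLT k (a i)).map
        (LinearMap.mulLeft k (∏ j ∈ Finset.univ.erase i, (X - C (r j)) ^ (a j + 1))))
    (p : k) (hp : ∀ j, p ≠ r j) (V₁ : Submodule k (Polynomial k))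
    (hV₁ : V₁ = V ⊓ (Ideal.span {X - C p}).restrictScalars k) :
    (∀ i : Fin m, ∃ ε : ℕ, ε ≤ 1 ∧
      (∑ n ∈ Finset.range d, Module.finrank k ↥(V₁ ⊓ (Ideal.span {(X - C (r i)) ^ (n + 1)}).restrictScalars k)) + 1 =
        (N - 1).choose 2 + (N - a i) + ε) ∧
    (∃ ε : ℕ, ε ≤ 1 ∧
      (∑ n ∈ Finset.range d, Module.finrank k ↥(V₁ ⊓ Polynomial.degreeLT k (d - n))) + 1 =
        (N - 1).choose 2 + (N - b) + ε) := by
  subst hN
  have hV' : V = Groth.Agent.DivWronsk.V r a b := hV
  subst hV'
  have hV₁' : V₁ = Groth.Agent.DivWronsk.V r a b ⊓ Groth.Agent.DivWronsk.dvdAt p 1 := by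
    rw [hV₁]; simp [Groth.Agent.DivWronsk.dvdAt]
  subst hV₁'
  have hfin : Module.finrank k ↥(Groth.Agent.DivWronsk.V r a b ⊓ Groth.Agent.DivWronsk.dvdAt p 1) + 1 =
      (∑ j, a j) + b := by
    rw [Groth.Agent.DivWronsk.finrank_V_inf_dvdAt r a hr b hp 1]; omega
  have hev : ∀ h ∈ Groth.Agent.DivWronsk.V r a b ⊓ Groth.Agent.DivWronsk.dvdAt p 1, h.eval p = 0 := by
    intro h hh
    obtain ⟨G, hG⟩ := Groth.Agent.DivWronsk.mem_dvdAt.mp hh.2
    simp [hG]
  have hP := Groth.Agent.DivWronsk.eval_P_ne_zero r hp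
  have hnot : ∀ q : k, q ≠ p → 2 ≤ (∑ j, a j) + b →
      Groth.Agent.DivWronsk.L r a ((Polynomial.X - Polynomial.C q) ^ ((∑ j, a j) + b - 1)) ∈
        Groth.Agent.DivWronsk.V r a b ⊓ Groth.Agent.DivWronsk.dvdAt p 1 →
      Groth.Agent.DivWronsk.L r a ((Polynomial.X - Polynomial.C q) ^ ((∑ j, a j) + b)) ∈
        Groth.Agent.DivWronsk.V r a b ⊓ Groth.Agent.DivWronsk.dvdAt p 1 → False := by
    intro q hqp hN2 h1 h2
    obtain ⟨M, hM⟩ : ∃ M, (∑ j, a j) + b = M + 2 := ⟨_, (Nat.sub_add_cancel hN2).symm⟩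
    have e1 := hev _ h1
    have e2 := hev _ h2
    rw [hM, show M + 2 - 1 = M + 1 from rfl, Groth.Agent.DivWronsk.eval_L_pow] at e1
    rw [hM, Groth.Agent.DivWronsk.eval_L_pow] at e2
    have hne : ∀ t : ℕ, (p - q) ^ t ≠ 0 := fun t => pow_ne_zero _ (sub_ne_zero.mpr hqp.symm)
    have f1 := (mul_eq_zero.mp e1).resolve_left (hne _)
    have f2 := (mul_eq_zero.mp e2).resolve_left (hne _)
    push_cast at f1 f2
    exact hP (by linear_combination f2 - f1)
  have hd' : d + 1 = (∑ j, a j) + b + m := by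
    rw [hd, Finset.sum_add_distrib, Finset.sum_const, Finset.card_fin, smul_eq_mul]; omega
  refine ⟨fun i => ?_, ?_⟩
  · have hi : 1 ≤ ∑ j, a j := (ha i).trans
      (Finset.single_le_sum (fun j _ => Nat.zero_le _) (Finset.mem_univ i))
    exact Groth.Agent.DivWronsk.weight_root r a hb hr _ inf_le_left ha hfin i
      (hnot (r i) (hp i).symm (by omega)) d hd
  · have hma : m ≤ ∑ j, a j := by
      simpa using Finset.card_nsmul_le_sum Finset.univ a 1 (fun j _ => ha j)
    obtain ⟨c, hc1, hc, he⟩ := Groth.Agent.DivWronsk.weight_infty r a hb hr _ inf_le_left ha hfin d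
      (min ((∑ j, a j) + b - 1) d) (min ((∑ j, a j) + b) d) (by omega) (by omega) hd
      (fun hn1 hsub => by
        rw [show (∑ j, a j) + b + m - min ((∑ j, a j) + b - 1) d = 1 + m by omega,
          Groth.Agent.DivWronsk.V_inf_degreeLT r a hr b 1 (by omega)] at hsub
        have mem : ∀ n, n < 2 → (Polynomial.X : Polynomial k) ^ n ∈ Polynomial.degreeLT k (1 + 1) := by
          intro n hn
          rw [Polynomial.mem_degreeLT, Polynomial.degree_X_pow]
          exact_mod_cast hn
        have e0 := hev _ (hsub ⟨_, mem 0 (by omega), rfl⟩)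
        have e1 := hev _ (hsub ⟨_, mem 1 (by omega), rfl⟩)
        simp [Groth.Agent.DivWronsk.L_apply] at e0 e1
        exact hP (by linear_combination e1 + p * e0))
      (fun h => by
        rw [show min ((∑ j, a j) + b) d = (∑ j, a j) + b by omega]
        haveI := Groth.Agent.DivWronsk.finite_V r a hr b
        haveI : FiniteDimensional k ↥(Groth.Agent.DivWronsk.V r a b ⊓
            Polynomial.degreeLT k ((∑ j, a j) + b + m - ((∑ j, a j) + b + 1))) :=
          Submodule.finiteDimensional_of_le inf_le_left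
        rw [Submodule.finrank_eq_zero.mp (by
          rw [Groth.Agent.DivWronsk.finrank_V_inf_degreeLT r a hr b, if_neg (by omega)]; omega :
          Module.finrank k ↥(Groth.Agent.DivWronsk.V r a b ⊓
            Polynomial.degreeLT k ((∑ j, a j) + b + m - ((∑ j, a j) + b + 1))) = 0)]
        exact bot_le)
    exact ⟨(∑ j, a j) + b - c, by omega, by omega⟩

end Groth.Agent.S17246
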