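import Groth.Statements.S17247
import Groth.Agent.FunFld.GenusOne

set_option autoImplicit false
open FunFld

namespace Groth.Agent.S17247

/-- Let `K/k` be a function field of one variable of genus one over an algebraically closed field `k` of
characteristic zero (an elliptic curve `E`), `A` a place, and `g ≥ 3` an odd integer. Inside
`H⁰(O_E((2g-2)A)) = L((2g-2)A)` consider `V = L(gA)` (dimension `g`) and any hyperplane `V₁` of it
containing `L((g-2)A)`: `L((g-2)A) ⊆ V₁ ⊆ L(gA)`, `dim V₁ = g - 1`. Vanishing orders are those of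
sections of `O_E((2g-2)A)`: a member `f` vanishes to order at least `n` at a place `Q` when `f ∈
L((2g-2)A - nQ)`, and the weight of `V₁` at `Q` is `∑_{n=1}^{2g-2} dim (V₁ ∩ L((2g-2)A - nQ)) - (g-1
choose 2)` (the sum of the `g - 1` vanishing orders minus `0 + 1 + ⋯ + (g-2)`). Then the weight of
`V₁` at every place `Q ≠ A` is at most `2`. (The published statement is for a smooth elliptic curve
over the complex numbers and allows every odd positive `g`; for `g = 1` the inclusion `O(gA) ⊆
O((2g-2)A)` it uses fails, so `g ≥ 3` here.) -/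
theorem result
    (k K : Type*) [Field k] [IsAlgClosed k] [CharZero k] [Field K] [Algebra k K]
    (hK : FunFld.IsFunctionField k K) (hg1 : FunFld.genus k K = 1)
    (g : ℕ) (hodd : Odd g) (h3 : 3 ≤ g) (A : FunFld.Place k K)
    (V₁ : Submodule k K) (hlo : FunFld.L (Finsupp.single A ((g : ℤ) - 2)) ≤ V₁)
    (hhi : V₁ ≤ FunFld.L (Finsupp.single A (g : ℤ))) (hdim : Module.finrank k ↥V₁ + 1 = g)
    (Q : FunFld.Place k K) (hQ : Q ≠ A) :
    (∑ n ∈ Finset.range (2 * g - 2), Module.finrank k
        ↥(V₁ ⊓ FunFld.L (Finsupp.single A (2 * (g : ℤ) - 2) - Finsupp.single Q ((n : ℤ) + 1)))) ≤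
      (g - 1).choose 2 + 2 := by
  classical
  set U := FunFld.L (Finsupp.single A ((g : ℤ) - 2)) with hU
  have hg2 : ((g : ℤ) - 2) = ((g - 2 : ℕ) : ℤ) := by omega
  have hUdim : Module.finrank k U = g - 2 := by
    have := Groth.Agent.FunFld.ell_single_sub_eq hK hg1 A Q (m := g - 2) (n := 0) (by omega)
    rw [Nat.cast_zero, Finsupp.single_zero, sub_zero, ← hg2] at this
    rw [hU]; exact this
  have hfinU := Groth.Agent.FunFld.L_finite hK (Finsupp.single A ((g : ℤ) - 2))
  have hfin : FiniteDimensional k V₁ := by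
    have := Groth.Agent.FunFld.L_finite hK (Finsupp.single A (g : ℤ))
    exact Submodule.finiteDimensional_of_le hhi
  set a := fun t : ℕ => Module.finrank k
    ↥(V₁ ⊓ FunFld.L (Finsupp.single A (2 * (g : ℤ) - 2) - Finsupp.single Q (t : ℤ))) with ha
  -- the two bounds
  have hb1 : ∀ t : ℕ, a t ≤ FunFld.ell (Finsupp.single A (g : ℤ) - Finsupp.single Q (t : ℤ)) := by
    intro t
    have := Groth.Agent.FunFld.L_finite hK (Finsupp.single A (g : ℤ) - Finsupp.single Q (t : ℤ))
    refine Submodule.finrank_mono fun x hx R => ?_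
    rcases eq_or_ne R Q with rfl | hR
    · have := hx.2 R
      rw [Finsupp.sub_apply, Finsupp.single_eq_same, Finsupp.single_eq_of_ne hQ] at this
      rw [Finsupp.sub_apply, Finsupp.single_eq_same, Finsupp.single_eq_of_ne hQ]
      exact this
    · rw [Finsupp.sub_apply, Finsupp.single_eq_of_ne hR, sub_zero]
      exact hhi hx.1 R
  have hb2 : ∀ t : ℕ, a t ≤ FunFld.ell (Finsupp.single A ((g - 2 : ℕ) : ℤ) - Finsupp.single Q (t : ℤ)) + 1 := by
    intro t
    set T := V₁ ⊓ FunFld.L (Finsupp.single A (2 * (g : ℤ) - 2) - Finsupp.single Q (t : ℤ)) with hT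
    have := Groth.Agent.FunFld.L_finite hK (Finsupp.single A ((g - 2 : ℕ) : ℤ) - Finsupp.single Q (t : ℤ))
    have : FiniteDimensional k T := Submodule.finiteDimensional_of_le inf_le_left
    have h1 := Submodule.finrank_sup_add_finrank_inf_eq T U
    have h2 : Module.finrank k ↥(T ⊔ U) ≤ Module.finrank k V₁ :=
      Submodule.finrank_mono (sup_le inf_le_left hlo)
    have h3 : Module.finrank k ↥(T ⊓ U) ≤
        FunFld.ell (Finsupp.single A ((g - 2 : ℕ) : ℤ) - Finsupp.single Q (t : ℤ)) := by
      refine Submodule.finrank_mono fun x hx R => ?_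
      rcases eq_or_ne R Q with rfl | hR
      · have := hx.1.2 R
        rw [Finsupp.sub_apply, Finsupp.single_eq_same, Finsupp.single_eq_of_ne hQ] at this
        rw [Finsupp.sub_apply, Finsupp.single_eq_same, Finsupp.single_eq_of_ne hQ]
        exact this
      · rw [Finsupp.sub_apply, Finsupp.single_eq_of_ne hR, sub_zero, ← hg2]
        exact hx.2 R
    show Module.finrank k T ≤ _
    omega
  have hdz : ∀ m : ℕ, FunFld.Divisor.deg (Finsupp.single A (m : ℤ) - Finsupp.single Q (m : ℤ) : FunFld.Divisor k K) = 0 := fun m => by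
    rw [Groth.Agent.FunFld.deg_sub, Groth.Agent.FunFld.deg_single, Groth.Agent.FunFld.deg_single, Groth.Agent.FunFld.deg_eq_one hK, Groth.Agent.FunFld.deg_eq_one hK]; ring
  set δ := FunFld.ell (Finsupp.single A (g : ℤ) - Finsupp.single Q (g : ℤ)) with hδ
  set δ' := FunFld.ell (Finsupp.single A ((g - 2 : ℕ) : ℤ) - Finsupp.single Q ((g - 2 : ℕ) : ℤ)) with hδ'
  have hδ1 : δ + δ' ≤ 1 := by
    have e1 := (Groth.Agent.FunFld.ell_of_deg_zero hK (hdz g)).1
    have e2 := (Groth.Agent.FunFld.ell_of_deg_zero hK (hdz (g - 2))).1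
    by_contra hcon
    exact Groth.Agent.FunFld.not_both_principal hK hg1 hQ hodd h3 (by omega) (by omega)
  have hsum : ∑ n ∈ Finset.range (2 * g - 2), Module.finrank k
      ↥(V₁ ⊓ FunFld.L (Finsupp.single A (2 * (g : ℤ) - 2) - Finsupp.single Q ((n : ℤ) + 1))) =
      ∑ n ∈ Finset.range (2 * g - 2), a (n + 1) := Finset.sum_congr rfl fun n _ => by simp only [ha]; push_cast; rfl
  rw [hsum, ← Finset.sum_subset (Finset.range_mono (show g ≤ 2 * g - 2 by omega)) (fun n _ hn => by
    have h1 := hb1 (n + 1)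
    rw [Finset.mem_range, not_lt] at hn
    rw [Groth.Agent.FunFld.ell_single_sub_zero hK A Q (by omega)] at h1
    exact Nat.le_zero.1 h1)]
  rw [show g = (g - 3) + 1 + 1 + 1 by omega, Finset.sum_range_succ, Finset.sum_range_succ, Finset.sum_range_succ]
  rw [show g - 3 + 1 + 1 + 1 = g by omega, show g - 3 + 1 + 1 = g - 1 by omega, show g - 3 + 1 = g - 2 by omega]
  have e1 : a (g - 2) ≤ δ' + 1 := hb2 _
  have e2 : a (g - 1) ≤ 1 := by
    have := hb1 (g - 1)
    rw [Groth.Agent.FunFld.ell_single_sub_eq hK hg1 A Q (by omega)] at this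
    omega
  have e3 : a g ≤ δ := hb1 g
  have e4 : ∑ n ∈ Finset.range (g - 3), a (n + 1) + 1 ≤ (g - 1).choose 2 := by
    rw [Nat.choose_two_right, show g - 1 - 1 = g - 2 by omega, Nat.mul_comm (g - 1) (g - 2),
      show g - 1 = g - 2 + 1 by omega, ← Groth.Agent.FunFld.sum_tri (g - 2), show g - 2 = g - 3 + 1 by omega, Finset.sum_range_succ]
    refine add_le_add (Finset.sum_le_sum fun n hn => ?_) (by omega)
    have := hb2 (n + 1)
    rw [Finset.mem_range] at hn
    rw [Groth.Agent.FunFld.ell_single_sub_eq hK hg1 A Q (by omega)] at this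
    omega
  omega

end Groth.Agent.S17247
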