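import Groth.Statements.S17248
import Groth.Agent.FunFld.GenusOne

set_option autoImplicit false
open FunFld

namespace Groth.Agent.S17248

/-- Let `K/k` be a function field of one variable of genus one over an algebraically closed field `k` of
characteristic zero (an elliptic curve `E`), `A` a place, and `g ≥ 3` an integer. Inside
`H⁰(O_E((2g-2)A)) = L((2g-2)A)` consider `V = L(gA)` (dimension `g`) and any hyperplane `V₁` of it
containing `L((g-2)A)`: `L((g-2)A) ⊆ V₁ ⊆ L(gA)`, `dim V₁ = g - 1`. Vanishing orders are those of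
sections of `O_E((2g-2)A)`: a member `f` vanishes to order at least `n` at a place `Q` when `f ∈
L((2g-2)A - nQ)`, and the weight of `V₁` at `Q` is `∑_{n=1}^{2g-2} dim (V₁ ∩ L((2g-2)A - nQ)) - (g-1
choose 2)` (the sum of the `g - 1` vanishing orders minus `0 + 1 + ⋯ + (g-2)`). Then the weight of
`V₁` at `A` is `(g-1)² + ε` with `ε ∈ {0, 1}`. (The published statement is for a smooth elliptic
curve over the complex numbers and `g` odd positive; `g ≥ 3` here since the ambient inclusion needs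
it; this row does not assume `g` odd.) -/
theorem result
    (k K : Type*) [Field k] [IsAlgClosed k] [CharZero k] [Field K] [Algebra k K]
    (hK : FunFld.IsFunctionField k K) (hg1 : FunFld.genus k K = 1)
    (g : ℕ) (h3 : 3 ≤ g) (A : FunFld.Place k K)
    (V₁ : Submodule k K) (hlo : FunFld.L (Finsupp.single A ((g : ℤ) - 2)) ≤ V₁)
    (hhi : V₁ ≤ FunFld.L (Finsupp.single A (g : ℤ))) (hdim : Module.finrank k ↥V₁ + 1 = g) :
    ∃ ε : ℕ, ε ≤ 1 ∧
      (∑ n ∈ Finset.range (2 * g - 2), Module.finrank k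
        ↥(V₁ ⊓ FunFld.L (Finsupp.single A (2 * (g : ℤ) - 2) - Finsupp.single A ((n : ℤ) + 1)))) =
      (g - 1).choose 2 + (g - 1) ^ 2 + ε := by
  classical
  have hg2 : ((g : ℤ) - 2) = ((g - 2 : ℕ) : ℤ) := by omega
  have hell : ∀ m : ℕ, 1 ≤ m → FunFld.ell (Finsupp.single A (m : ℤ)) = m := fun m hm => by
    have := Groth.Agent.FunFld.ell_single_sub_eq hK hg1 A A (m := m) (n := 0) hm
    rwa [Nat.cast_zero, Finsupp.single_zero, sub_zero, Nat.sub_zero] at this
  have hfin : FiniteDimensional k V₁ := by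
    have := Groth.Agent.FunFld.L_finite hK (Finsupp.single A (g : ℤ))
    exact Submodule.finiteDimensional_of_le hhi
  set c := fun m : ℤ => Module.finrank k ↥(V₁ ⊓ FunFld.L (Finsupp.single A m)) with hc
  have hsum : ∑ n ∈ Finset.range (2 * g - 2), Module.finrank k
      ↥(V₁ ⊓ FunFld.L (Finsupp.single A (2 * (g : ℤ) - 2) - Finsupp.single A ((n : ℤ) + 1))) =
      ∑ n ∈ Finset.range ((g - 2) + 1 + (g - 1)), c (2 * (g : ℤ) - 2 - ((n : ℤ) + 1)) := by
    rw [show (g - 2) + 1 + (g - 1) = 2 * g - 2 by omega]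
    exact Finset.sum_congr rfl fun n _ => by simp only [hc]; rw [show (Finsupp.single A (2 * (g : ℤ) - 2 - ((n : ℤ) + 1)) : FunFld.Divisor k K) = Finsupp.single A (2 * (g : ℤ) - 2) - Finsupp.single A ((n : ℤ) + 1) from Finsupp.single_sub ..]
  have hhigh : ∀ m : ℤ, (g : ℤ) ≤ m → c m = g - 1 := fun m hm => by
    show Module.finrank k _ = _
    rw [inf_eq_left.2 (hhi.trans (Groth.Agent.FunFld.L_single_mono hK hm))]
    omega
  have hlow : ∀ m : ℤ, m ≤ (g : ℤ) - 2 → c m = FunFld.ell (Finsupp.single A m) := fun m hm => by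
    show Module.finrank k _ = _
    rw [inf_eq_right.2 ((Groth.Agent.FunFld.L_single_mono hK hm).trans hlo)]
    rfl
  have hmid : g - 2 ≤ c ((g : ℤ) - 1) ∧ c ((g : ℤ) - 1) ≤ g - 1 := by
    refine ⟨?_, le_trans (Submodule.finrank_mono inf_le_left) (by omega)⟩
    have h1 : c ((g : ℤ) - 2) ≤ c ((g : ℤ) - 1) :=
      Submodule.finrank_mono (inf_le_inf_left _ (Groth.Agent.FunFld.L_single_mono hK (by omega)))
    rw [hlow _ le_rfl, hg2, hell _ (by omega)] at h1
    exact h1
  refine ⟨c ((g : ℤ) - 1) - (g - 2), by omega, ?_⟩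
  rw [hsum, Finset.sum_range_add, Finset.sum_range_succ]
  have e1 : ∑ n ∈ Finset.range (g - 2), c (2 * (g : ℤ) - 2 - ((n : ℤ) + 1)) = (g - 2) * (g - 1) := by
    rw [Finset.sum_congr rfl fun n hn => hhigh _ (by rw [Finset.mem_range] at hn; omega), Finset.sum_const,
      Finset.card_range, smul_eq_mul]
  have e2 : 2 * (g : ℤ) - 2 - (((g - 2 : ℕ) : ℤ) + 1) = (g : ℤ) - 1 := by omega
  have e3 : ∑ n ∈ Finset.range (g - 1), c (2 * (g : ℤ) - 2 - (((g - 2 + 1 + n : ℕ) : ℤ) + 1)) =
      (g - 1).choose 2 + 1 := by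
    rw [Nat.choose_two_right, show g - 1 - 1 = g - 2 by omega, Nat.mul_comm (g - 1) (g - 2),
      show g - 1 = g - 2 + 1 by omega, ← Groth.Agent.FunFld.sum_tri (g - 2), Finset.sum_range_succ]
    refine congrArg₂ (· + ·) (Finset.sum_congr rfl fun n hn => ?_) ?_
    · rw [Finset.mem_range] at hn
      rw [show 2 * (g : ℤ) - 2 - (((g - 2 + 1 + n : ℕ) : ℤ) + 1) = ((g - 2 - n : ℕ) : ℤ) by omega,
        hlow _ (by omega), hell _ (by omega)]
    · rw [show 2 * (g : ℤ) - 2 - (((g - 2 + 1 + (g - 2) : ℕ) : ℤ) + 1) = 0 by omega, hlow _ (by omega),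
        Finsupp.single_zero, Groth.Agent.FunFld.ell_zero hK]
  rw [e1, e2, e3, show (g - 1) ^ 2 = (g - 2) * (g - 1) + (g - 1) by
    obtain ⟨j, rfl⟩ : ∃ j, g = j + 3 := ⟨g - 3, by omega⟩
    simp only [show j + 3 - 1 = j + 2 by omega, show j + 3 - 2 = j + 1 by omega]; ring]
  omega

end Groth.Agent.S17248
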