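import Groth.Statements.S17252
import Groth.Agent.S7789
import Groth.Agent.Rigid.Over
import Groth.Agent.Rigid.Smooth
-- import your own Groth.Agent.* helpers here

set_option autoImplicit false
universe u
open CategoryTheory CategoryTheory.Limits MonoidalCategory CartesianMonoidalCategory MonObj GrpObj AlgebraicGeometry
open AbSch

set_option backward.isDefEq.respectTransparency false
set_option backward.isDefEq.respectTransparency.types false
set_option linter.style.haveILetI false

namespace Groth.Agent.S17252

/-- Let S be a scheme, A an abelian scheme over S (an S-group scheme whose structure morphism is smooth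
and proper with geometrically connected fibres) and m an integer whose image in Γ(S, O_S) is a unit.
Then multiplication by m, the m-th power [m] of the identity in the group of S-endomorphisms of A,
is surjective locally for the étale topology: for every S-scheme T and every α ∈ A(T) there are an
étale surjective S-morphism φ : T′ → T and β ∈ A(T′) with [m] ∘ β = α ∘ φ. With A[m] the kernel of
[m], this is the exactness on the right of the Kummer sequence 0 → A[m] → A → A → 0 of étale
sheaves; in particular it holds for every étale S-scheme T, the case expressing exactness on the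
small étale site of S, and it is stated here for all S-schemes T. -/
theorem result {S : Scheme.{u}} (A : Over S) [GrpObj A]
    [Smooth A.hom] [IsProper A.hom] [GeometricallyConnected A.hom]
    (m : ℤ) (hm : IsUnit (m : Γ(S, ⊤))) (T : Over S) (α : T ⟶ A) :
    ∃ (T' : Over S) (φ : T' ⟶ T) (β : T' ⟶ A),
      Etale φ.left ∧ Surjective φ.left ∧ β ≫ (𝟙 A ^ m) = φ ≫ α := by
  
  haveI : GeometricallyReduced A.hom := Rigid.geometricallyReduced_of_smooth A.hom
  haveI : LocallyOfFinitePresentation A.hom := inferInstance
  obtain ⟨hfin, het⟩ := S7789.result A m hm
  let f := (𝟙 A ^ m : A ⟶ A)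
  haveI hsurj : Surjective f.left := ⟨fun a => by
    let e := (η[A] : 𝟙_ (Over S) ⟶ A).left (A.hom a)
    have he : A.hom e = A.hom a := congrArg (fun φ => φ.base (A.hom a)) (Over.w η[A])
    have hc : IsClopen (Set.range f.left) :=
      ⟨f.left.isClosedMap.isClosed_range, f.left.isOpenMap.isOpen_range⟩
    have hfix : f.left e = e := by
      have h : η[A] ≫ f = η[A] := by
        rw [GrpObj.comp_zpow, Category.comp_id, ← (show (1 : 𝟙_ (Over S) ⟶ A) = η[A] by simp [Hom.one_def]), one_zpow]
      exact congrArg (fun φ : 𝟙_ (Over S) ⟶ A => φ.left.base (A.hom a)) h
    exact (Rigid.isPreconnected_fibre (A.hom a)).subset_isClopen hc ⟨e, he, e, hfix⟩ rfl⟩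
  refine ⟨Over.mk (Limits.pullback.fst α.left f.left ≫ T.hom), Over.homMk (Limits.pullback.fst α.left f.left) rfl,
    Over.homMk (Limits.pullback.snd α.left f.left) ?_,
    MorphismProperty.pullback_fst (P := @Etale) _ _ het, MorphismProperty.pullback_fst (P := @Surjective) _ _ hsurj,
    Over.OverMorphism.ext Limits.pullback.condition.symm⟩
  change _ = Limits.pullback.fst α.left f.left ≫ T.hom
  rw [← Over.w α, Limits.pullback.condition_assoc, Over.w f]


end Groth.Agent.S17252
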