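import Groth.Statements.S17253
import Mathlib
import Groth.Agent.S0383
import Groth.Agent.GrpField.AbelianField
import Groth.Agent.ClosedRep.GeomIntegral
import Groth.Agent.FieldPow.Main

set_option autoImplicit false
set_option backward.isDefEq.respectTransparency false
set_option backward.isDefEq.respectTransparency.types false
universe u
open CategoryTheory CategoryTheory.Limits MonoidalCategory CartesianMonoidalCategory MonObj GrpObj AlgebraicGeometry
open AbVar

namespace Groth.Agent.S17253

/-- Let k be a field and A, B abelian varieties over k (smooth proper k-group schemes with geometrically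
connected fibres), f : A → B a homomorphism, g : B → A an isogeny (a homomorphism which is finite,
flat and surjective) and d a nonzero integer with g ∘ f = [d]_A, the d-th power of the identity in
the group of endomorphisms of A. Then f is an isogeny as well — finite, flat and surjective — and f
∘ g = [d]_B. -/
theorem result (k : Type u) [Field k]
    (A B : Over (Spec (CommRingCat.of k)))
    [GrpObj A] [Smooth A.hom] [IsProper A.hom] [GeometricallyConnected A.hom]
    [GrpObj B] [Smooth B.hom] [IsProper B.hom] [GeometricallyConnected B.hom]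
    (f : A ⟶ B) [IsMonHom f] (g : B ⟶ A) [IsMonHom g] [IsFinite g.left] [Flat g.left] [Surjective g.left]
    (d : ℤ) (hd : d ≠ 0) (h : f ≫ g = 𝟙 A ^ d) :
    IsFinite f.left ∧ Flat f.left ∧ Surjective f.left ∧ g ≫ f = 𝟙 B ^ d := by
  haveI : GeometricallyIntegral A.hom := ClosedRep.GeomIntegral.geometricallyIntegral_of_smooth A.hom
  haveI := GrpField.isIntegral_of_smooth_connected A
  haveI := GrpField.isIntegral_of_smooth_connected B
  have hcA : IsCommMonObj A := isCommMonObj_of_isProper_of_geometricallyIntegral A
  haveI : IsMonHom (𝟙 A ^ d : A ⟶ A) := FieldPow.isMonHom_pow A d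
  haveI : Surjective (𝟙 A ^ d : A ⟶ A).left := by
    have hd' : 1 ≤ d.natAbs := Int.natAbs_pos.2 hd
    haveI := S0383.result k A d.natAbs hd'
    rcases Int.natAbs_eq d with e | e
    · rw [e, zpow_natCast]; infer_instance
    · rw [e, zpow_neg, zpow_natCast]
      have h2 : (𝟙 A)⁻¹ ≫ (𝟙 A)⁻¹ = 𝟙 A := by rw [GrpObj.comp_inv, Category.comp_id, _root_.inv_inv]
      haveI : IsIso ((𝟙 A)⁻¹).left := ⟨((𝟙 A)⁻¹).left, by rw [← Over.comp_left, h2, Over.id_left],
        by rw [← Over.comp_left, h2, Over.id_left]⟩
      have h1 : (𝟙 A ^ d.natAbs)⁻¹ = (𝟙 A ^ d.natAbs) ≫ (𝟙 A)⁻¹ := by rw [GrpObj.comp_inv, Category.comp_id]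
      rw [h1, Over.comp_left]
      infer_instance
  haveI := (GrpField.isFinite_flat (𝟙 A ^ d) rfl).1
  haveI hf : IsFinite f.left := by
    haveI : IsFinite (f.left ≫ g.left) := by rw [← Over.comp_left, h]; infer_instance
    exact IsFinite.of_comp f.left g.left
  have hdim : topologicalKrullDim A.left = topologicalKrullDim B.left := (GrpField.dim_eq_of_isFinite g).symm
  haveI : Surjective f.left := GrpField.surjective_of_isFinite f hdim
  refine ⟨hf, GrpField.flat_of_surjective f, inferInstance, ?_⟩
  have e : f ≫ (g ≫ f) = f ≫ (𝟙 B ^ d) := by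
    rw [← Category.assoc, h, GrpObj.zpow_comp, GrpObj.comp_zpow, Category.id_comp, Category.comp_id]
  apply Over.OverMorphism.ext
  exact ext_of_isDominant_of_isSeparated B.hom ((Over.w (g ≫ f)).trans (Over.w (𝟙 B ^ d)).symm) f.left
    (by rw [← Over.comp_left, ← Over.comp_left, e])

end Groth.Agent.S17253
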