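import Groth.Statements.S17258
import Groth.Agent.NodeBr.Tree
-- import your own Groth.Agent.* helpers here

set_option autoImplicit false
set_option backward.isDefEq.respectTransparency false
set_option backward.isDefEq.respectTransparency.types false
set_option maxHeartbeats 1000000
universe u
open Curves

namespace Groth.Agent.S17258

open CategoryTheory AlgebraicGeometry in
/-- Let Ω be an algebraically closed field of characteristic zero and let C be a scheme proper over Ω
which is connected, of dimension one and has at-worst-nodal singularities. Then the first cohomology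
of the structure sheaf of C vanishes if and only if C is a rational tree: every irreducible
component of C is the image of a closed immersion of the projective line over Ω, and the number of
nodes of C plus one equals the number of irreducible components. (The source phrases the second
condition as the absence of closed chains of components; for a connected nodal curve whose
components are projective lines the two conditions agree, a connected graph being a tree exactly
when it has one more vertex than edges. The source takes Ω an algebraically closed extension of the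
complex numbers.) -/
theorem result (Ω : Type u) [Field Ω] [IsAlgClosed Ω] [CharZero Ω]
    (C : Scheme.{u}) [C.Over (Spec (CommRingCat.of Ω))] [IsProper (C ↘ Spec (CommRingCat.of Ω))]
    [ConnectedSpace ↥C] (hdim : topologicalKrullDim ↥C = 1) (hnod : Curv2.AtWorstNodal Ω C) :
    Curv2.genus Ω C = 0 ↔
      ((∀ E ∈ irreducibleComponents (↥C : Type u), CurvSt.IsSmRatComp Ω C (C ↘ Spec (CommRingCat.of Ω)) E) ∧
        {x : ↥C | Curv2.IsNode Ω C x}.encard + 1 = (irreducibleComponents (↥C : Type u)).encard) := by
  classical
  haveI := CurveRR.isNoetherian_of_proper Ω C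
  haveI : ∀ z : C, _root_.IsReduced (C.presheaf.stalk z) := NodalRed.isReduced_stalk Ω C hnod
  haveI : AlgebraicGeometry.IsReduced C := isReduced_of_isReduced_stalk C
  haveI : Fintype (irreducibleComponents (↥C : Type u)) :=
    (TopologicalSpace.NoetherianSpace.finite_irreducibleComponents (α := C)).fintype
  obtain ⟨hsum, hfin⟩ := NodeBr.sum_ncard_meet Ω hdim hnod
  have hform := NodeBr.genus_formula Ω hdim hnod
  have hgen : ∀ (E : Set C) (hE : E ∈ irreducibleComponents (↥C : Type u)),
      DualGeneric.Sub.genJ Ω (DualGeneric.Sub.cI E hE) = CurveRR.h Ω (ClSub.quotMod (DualGeneric.Sub.cI E hE)) 1 :=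
    fun E hE => (DualGeneric.Sub.h_cI Ω E hE 1).symm
  have hc : (irreducibleComponents (↥C : Type u)).encard = (Fintype.card (irreducibleComponents (↥C : Type u)) : ℕ∞) := by
    rw [Set.encard_eq_coe_toFinset_card, Set.toFinset_card]
  have hmain : (∀ E ∈ irreducibleComponents (↥C : Type u), CurvSt.IsSmRatComp Ω C (C ↘ Spec (CommRingCat.of Ω)) E) →
      ({x : C | Curv2.IsNode Ω C x}.encard + 1 = (irreducibleComponents (↥C : Type u)).encard ↔ Curv2.genus Ω C = 0) := by
    intro hrat
    rw [Set.ext (NodeBr.isNode_iff_mem_meet Ω hdim hnod hrat) (a := {x : C | Curv2.IsNode Ω C x})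
      (b := {x : C | ∃ E ∈ irreducibleComponents (↥C : Type u), x ∈ E ∩ closure Eᶜ}), ← hfin.cast_ncard_eq, hc]
    have h0 : ∀ Z : irreducibleComponents (↥C : Type u), DualGeneric.Sub.genJ Ω (DualGeneric.Sub.cI Z.1 Z.2) = 0 := fun Z => by
      rw [hgen]; exact (NodeBr.isSmRatComp_iff Ω hdim Z.1 Z.2).1 (hrat Z.1 Z.2)
    simp only [h0, Finset.sum_add_distrib] at hform
    rw [← Nat.cast_sum, hsum] at hform
    simp only [Finset.sum_const, Finset.card_univ, nsmul_eq_mul] at hform
    push_cast at hform
    constructor
    · intro he
      have : ({x : C | ∃ E ∈ irreducibleComponents (↥C : Type u), x ∈ E ∩ closure Eᶜ}).ncard + 1 =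
          Fintype.card (irreducibleComponents (↥C : Type u)) := by exact_mod_cast he
      omega
    · intro he
      have : ({x : C | ∃ E ∈ irreducibleComponents (↥C : Type u), x ∈ E ∩ closure Eᶜ}).ncard + 1 =
          Fintype.card (irreducibleComponents (↥C : Type u)) := by rw [he] at hform; push_cast at hform; omega
      exact_mod_cast this
  constructor
  · intro hg
    have hrat : ∀ E ∈ irreducibleComponents (↥C : Type u), CurvSt.IsSmRatComp Ω C (C ↘ Spec (CommRingCat.of Ω)) E := by
      intro E hE
      refine (NodeBr.isSmRatComp_iff Ω hdim E hE).2 ?_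
      haveI := CohFinite.finite_proper Ω C _ RefStalk.isCoh_structureModule 1
      haveI : Subsingleton (Coh.HH C (Coh.structureModule C) 1) := Module.finrank_zero_iff.1 hg
      haveI : Subsingleton (Coh.HH C (DualGeneric.Sub.A ⟨E, isClosed_of_mem_irreducibleComponents E hE⟩) 1) :=
        (DualGeneric.Sub.surjective_h1_q Ω hdim.le _).subsingleton
      exact CurveRR.h_eq_zero inferInstance
    exact ⟨hrat, (hmain hrat).2 hg⟩
  · rintro ⟨hrat, hn⟩
    exact (hmain hrat).1 hn

end Groth.Agent.S17258
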