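import Groth.Statements.S17275
import Groth.Agent.FrobPic.Basic
import Groth.Agent.K0Coh.Basic
import Groth.Agent.W7Hull.AmpleSurj
import Groth.Agent.CurveRR.Multi
import Groth.Agent.VBTwo.Basic
import Groth.Agent.W7Slope.H0Bound
import Groth.Agent.W7Slope.Twist
import Groth.Agent.W7Slope.Sat

set_option autoImplicit false
universe u
open CategoryTheory CategoryTheory.Limits AlgebraicGeometry
open VBCurve

set_option backward.isDefEq.respectTransparency false
set_option backward.isDefEq.respectTransparency.types false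

set_option backward.isDefEq.respectTransparency false
set_option backward.isDefEq.respectTransparency.types false

open Groth.Agent

namespace Groth.Agent.S17275

/-- Let p be a prime, k an algebraically closed field whose characteristic is p, and X an integral
curve, smooth and proper over k (of dimension one), with absolute Frobenius F : X → X. For every
finite locally free O_X-module E and every invertible O_X-module L there are natural numbers M and N
such that dim_k H⁰(X, (Fⁿ)^*E ⊗ L) ≤ M·pⁿ for all n ≥ N, where (Fⁿ)^* is the n-fold iterate of the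
module pullback along F. (This is the bound established inside the printed proof for vector bundles
on the auxiliary curve, in the case where that curve is a scheme; the printed lemma itself concerns
sheaves on a two-dimensional Deligne–Mumford stack.) -/
theorem result (p : ℕ) [Fact p.Prime]
    (k : Type u) [Field k] [IsAlgClosed k] [CharP k p]
    (X : Scheme.{u}) [X.Over (Spec (CommRingCat.of k))] [IsIntegral X]
    [IsProper (X ↘ Spec (CommRingCat.of k))] [Smooth (X ↘ Spec (CommRingCat.of k))]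
    (hdim : topologicalKrullDim X = 1) [FrobSch.IsCharP X p]
    (E : X.Modules) (hE : FlatMod.IsFinLocFree E) (L : X.Modules) (hL : PicF.IsInvertible L) :
    ∃ M N : ℕ, ∀ n : ℕ, N ≤ n →
      Module.finrank k (Coh.HH X (CohB1.tensorMod
        (((Scheme.Modules.pullback (FrobSch.frob X p)).obj)^[n] E) L) 0) ≤ M * p ^ n := by
  classical
  haveI := CurveRR.isNoetherian_of_proper k X
  let hX : W7Slope.RegCurve X := W7Slope.regCurve_of_smooth (k := k) hdim
  let F := Scheme.Modules.pullback (FrobSch.frob X p)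
  haveI : F.IsLeftAdjoint := (Scheme.Modules.pullbackPushforwardAdjunction _).isLeftAdjoint
  haveI : F.PreservesZeroMorphisms := Functor.preservesZeroMorphisms_of_isLeftAdjoint _
  have hrk : ∀ {r : ℕ} {A : X.Modules}, FlatMod.IsFinLocFreeOfRank r A →
      FlatMod.IsFinLocFreeOfRank r (F.obj A) := fun h => CurveRR.Multi.isFinLocFreeOfRank_pullback _ h
  have hrkn : ∀ {r : ℕ} {A : X.Modules}, FlatMod.IsFinLocFreeOfRank r A → ∀ n : ℕ,
      FlatMod.IsFinLocFreeOfRank r ((F.obj)^[n] A) := fun {r A} h n => by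
    induction n with
    | zero => exact h
    | succ n ih => rw [Function.iterate_succ_apply']; exact hrk ih
  -- pullback of a sequence of bundles
  have hstep : ∀ (a c : ℕ) (S : ShortComplex X.Modules), S.ShortExact → FlatMod.IsFinLocFreeOfRank a S.X₁ →
      FlatMod.IsFinLocFreeOfRank (a + c) S.X₂ → FlatMod.IsFinLocFreeOfRank c S.X₃ →
      ∃ S' : ShortComplex X.Modules, S'.ShortExact ∧ Nonempty (S'.X₁ ≅ F.obj S.X₁) ∧
        Nonempty (S'.X₂ ≅ F.obj S.X₂) ∧ Nonempty (S'.X₃ ≅ F.obj S.X₃) := fun a c S hS h₁ h₂ h₃ => by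
    haveI := hS.epi_g
    have hT := hS.exact.map_of_epi_of_preservesCokernel F inferInstance inferInstance
    haveI : Epi (F.map S.g) := inferInstance
    have w : F.map S.f ≫ F.map S.g = 0 := by rw [← F.map_comp, S.zero, F.map_zero]
    haveI : Epi (kernel.lift (F.map S.g) (F.map S.f) w) :=
      hT.epi_kernelLift
    have hg := W7Slope.grk_add (CurveRR.shortExact_ker (F.map S.g)) (CurveRR.isCoh_of_rank (hrk h₂))
    change W7Slope.grk (F.obj S.X₂) = W7Slope.grk (kernel (F.map S.g)) + W7Slope.grk (F.obj S.X₃) at hg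
    rw [W7Slope.grk_of_rank (hrk h₂), W7Slope.grk_of_rank (hrk h₃)] at hg
    have hK := W7Slope.isFinLocFree_sub k hX (kernel.ι (F.map S.g))
      (W7Slope.isCoh_kernel k (CurveRR.isCoh_of_rank (hrk h₂)) (CurveRR.isCoh_of_rank (hrk h₃)) _) (hrk h₂)
    rw [show W7Slope.grk (kernel (F.map S.g)) = a by omega] at hK
    haveI := W7Slope.isIso_of_epi k hX (hrk h₁) hK
      (kernel.lift (F.map S.g) (F.map S.f) w)
    exact ⟨_, CurveRR.shortExact_ker (F.map S.g), ⟨(asIso (kernel.lift (F.map S.g) (F.map S.f)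
      w)).symm⟩, ⟨Iso.refl _⟩, ⟨Iso.refl _⟩⟩
  have hiso : ∀ {A B : X.Modules} (e : A ≅ B) (n : ℕ), Nonempty ((F.obj)^[n] A ≅ (F.obj)^[n] B) := fun {A B} e n => by
    induction n with
    | zero => exact ⟨e⟩
    | succ n ih =>
      obtain ⟨e'⟩ := ih
      rw [Function.iterate_succ_apply', Function.iterate_succ_apply']
      exact ⟨F.mapIso e'⟩
  have hseq : ∀ (a c : ℕ) (n : ℕ) (S : ShortComplex X.Modules), S.ShortExact → FlatMod.IsFinLocFreeOfRank a S.X₁ →
      FlatMod.IsFinLocFreeOfRank (a + c) S.X₂ → FlatMod.IsFinLocFreeOfRank c S.X₃ →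
      ∃ S' : ShortComplex X.Modules, S'.ShortExact ∧ Nonempty (S'.X₁ ≅ (F.obj)^[n] S.X₁) ∧
        Nonempty (S'.X₂ ≅ (F.obj)^[n] S.X₂) ∧ Nonempty (S'.X₃ ≅ (F.obj)^[n] S.X₃) := fun a c n => by
    induction n with
    | zero => exact fun S hS _ _ _ => ⟨S, hS, ⟨Iso.refl _⟩, ⟨Iso.refl _⟩, ⟨Iso.refl _⟩⟩
    | succ n ih =>
      intro S hS h₁ h₂ h₃
      obtain ⟨T, hT, ⟨u₁⟩, ⟨u₂⟩, ⟨u₃⟩⟩ := ih S hS h₁ h₂ h₃
      obtain ⟨S', hS', ⟨v₁⟩, ⟨v₂⟩, ⟨v₃⟩⟩ := hstep a c T hT (W7Slope.rank_iso u₁.symm (hrkn h₁ n))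
        (W7Slope.rank_iso u₂.symm (hrkn h₂ n)) (W7Slope.rank_iso u₃.symm (hrkn h₃ n))
      simp only [Function.iterate_succ_apply']
      exact ⟨S', hS', ⟨v₁ ≪≫ F.mapIso u₁⟩, ⟨v₂ ≪≫ F.mapIso u₂⟩, ⟨v₃ ≪≫ F.mapIso u₃⟩⟩
  have hdegF : ∀ A : X.Modules, PicF.IsInvertible A → ∀ n : ℕ, PicF.IsInvertible ((F.obj)^[n] A) ∧
      Curv2.deg k X ((F.obj)^[n] A) 1 = ((p ^ n : ℕ) : ℤ) * Curv2.deg k X A 1 := fun A hA n => by
    induction n with
    | zero => exact ⟨hA, by simp⟩
    | succ n ih =>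
      obtain ⟨hi, hd⟩ := ih
      obtain ⟨e⟩ := FrobPic.nonempty_pullback_iso p hi
      rw [Function.iterate_succ_apply']
      refine ⟨PicLoc.isInvertible_pullback _ hi, ?_⟩
      rw [W7Slope.deg_iso (k := k) e, CurveRR.deg_tensorPow (k := k) hX.dim hi p, hd]
      push_cast
      ring
  have hline : ∀ A : X.Modules, PicF.IsInvertible A → ∃ M : ℕ, ∀ n : ℕ,
      CurveRR.h k (CohB1.tensorMod ((F.obj)^[n] A) L) 0 ≤ M * p ^ n := fun A hA => by
    refine ⟨(Curv2.deg k X A 1).natAbs + (Curv2.deg k X L 1).natAbs + 1, fun n => ?_⟩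
    obtain ⟨hi, hd⟩ := hdegF A hA n
    by_cases hs : CurveRR.h k (CohB1.tensorMod ((F.obj)^[n] A) L) 0 = 0
    · rw [hs]; exact Nat.zero_le _
    have hb := (CurveRR.series_bound hX.dim (CurveRR.h0_structure k X) (TMul.isInvertible_tensorMod hi hL) hs).1
    rw [CurveRR.deg_tensor_inv (k := k) hX.dim hi hL, hd] at hb
    have hp1 : (1 : ℤ) ≤ ((p ^ n : ℕ) : ℤ) := by exact_mod_cast Nat.one_le_pow n p (Fact.out : p.Prime).pos
    have h1 : Curv2.deg k X A 1 ≤ |Curv2.deg k X A 1| := le_abs_self _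
    have h2 : Curv2.deg k X L 1 ≤ |Curv2.deg k X L 1| := le_abs_self _
    have h3 := abs_nonneg (Curv2.deg k X L 1)
    zify
    push_cast at hb hp1 ⊢
    nlinarith
  have key : ∀ (r : ℕ) (A : X.Modules), FlatMod.IsFinLocFreeOfRank r A → ∃ M : ℕ, ∀ n : ℕ,
      CurveRR.h k (CohB1.tensorMod ((F.obj)^[n] A) L) 0 ≤ M * p ^ n := fun r => by
    induction r with
    | zero =>
      intro A hA
      refine ⟨0, fun n => ?_⟩
      have hz := W7Slope.isZero_of_rank_zero (W7Slope.rank_tensor_inv (hrkn hA n) hL)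
      haveI := W7Hull.hh_subsingleton_of_isZero hz 0
      rw [CurveRR.h_eq_zero inferInstance]
      exact Nat.zero_le _
    | succ r ih =>
      intro A hA
      obtain ⟨J, J', hJ, hJ', hdJ, -, ⟨e⟩⟩ := VBTwo.exists_deg k hdim hX
        ((r + 1 : ℕ) * (Curv2.genus k X : ℤ) + 1 + |Curv2.deg k X A (r + 1)|)
      have hd := W7Slope.deg_twist (k := k) hX.dim hA hJ
      have hR := VBTwo.le_h0 (k := k) hX (CohB1.tensorMod A J) (r + 1)
      have h1 := neg_abs_le (Curv2.deg k X A (r + 1))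
      have h2 := abs_nonneg (Curv2.deg k X A (r + 1))
      have h3 : (0 : ℤ) ≤ (Curv2.genus k X : ℤ) := Int.natCast_nonneg _
      have hne : CurveRR.h k (CohB1.tensorMod A J) 0 ≠ 0 := fun h0 => by
        rw [h0, hd, hdJ] at hR
        push_cast at hR h1 h2
        nlinarith [mul_nonneg (Int.natCast_nonneg r) h2, mul_nonneg (mul_nonneg (Int.natCast_nonneg r) (Int.natCast_nonneg r)) h3, mul_nonneg (Int.natCast_nonneg r) h3]
      obtain ⟨s, hs⟩ := CurveRR.exists_section (k := k) hne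
      haveI := VBTwo.mono_of_ne_zero' k hX TMul.isInvertible_structureModule (W7Slope.rank_tensor_inv hA hJ) s hs
      haveI := W7Slope.mono_tmap hJ' s
      let j : J' ⟶ A := (TMul.leftUnitIso J').inv ≫ CohFinite.tmap s J' ≫ (W7Slope.untw e A).hom
      haveI : Mono j := mono_comp _ _
      obtain ⟨G, Q, i, l, q, w, hS, -, -, hG, hQ, hsum, -, -, -⟩ :=
        W7Slope.exists_saturation k hX hA (CurveRR.isCoh_of_inv hJ') j
      rw [W7Slope.grk_of_rank (CurveRR.isFinLocFreeOfRank_one hJ')] at hG hsum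
      rw [show W7Slope.grk Q = r by omega] at hQ
      obtain ⟨M₁, hM₁⟩ := hline G (ZeroSch.isInvertible_of_rankOne hG)
      obtain ⟨M₂, hM₂⟩ := ih Q hQ
      refine ⟨M₁ + M₂, fun n => ?_⟩
      obtain ⟨S', hS', ⟨v₁⟩, ⟨v₂⟩, ⟨v₃⟩⟩ := hseq 1 r n _ hS hG (add_comm r 1 ▸ hA) hQ
      have hT := CohFinite.shortExact_tmap hL hS'
      have hc : ∀ {t : ℕ} {B : X.Modules}, FlatMod.IsFinLocFreeOfRank t B → Coh.IsCoh (CohB1.tensorMod B L) :=
        fun h => CurveRR.isCoh_of_rank (W7Slope.rank_tensor_inv h hL)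
      have hle := W7Slope.h0_le_add (k := k) hT (hc (W7Slope.rank_iso v₁.symm (hrkn hG n)))
        (hc (W7Slope.rank_iso v₂.symm (hrkn hA n))) (hc (W7Slope.rank_iso v₃.symm (hrkn hQ n)))
      change CurveRR.h k (CohB1.tensorMod S'.X₂ L) 0 ≤
        CurveRR.h k (CohB1.tensorMod S'.X₁ L) 0 + CurveRR.h k (CohB1.tensorMod S'.X₃ L) 0 at hle
      rw [CurveRR.h_eq_of_iso (PicGrp.tensorModIso v₁ (Iso.refl L)) (q := 0),
        CurveRR.h_eq_of_iso (PicGrp.tensorModIso v₂ (Iso.refl L)) (q := 0),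
        CurveRR.h_eq_of_iso (PicGrp.tensorModIso v₃ (Iso.refl L)) (q := 0)] at hle
      calc CurveRR.h k (CohB1.tensorMod ((F.obj)^[n] A) L) 0 ≤ _ := hle
        _ ≤ M₁ * p ^ n + M₂ * p ^ n := Nat.add_le_add (hM₁ n) (hM₂ n)
        _ = (M₁ + M₂) * p ^ n := (add_mul _ _ _).symm
  obtain ⟨M, hM⟩ := key _ E (W7Slope.rank_of_isFinLocFree (K0Coh.isCoh_of_isFinLocFree hE).1 hE)
  exact ⟨M, 0, fun n _ => hM n⟩

end Groth.Agent.S17275
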