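import Groth.Statements.S17277
import Groth.Agent.Nakai.GrowthGeneral

set_option autoImplicit false
set_option linter.style.haveILetI false
set_option backward.isDefEq.respectTransparency false
universe u
open CategoryTheory CategoryTheory.Limits AlgebraicGeometry TopologicalSpace
open Variety

namespace Groth.Agent.S17277

/-- Let X be a proper scheme over a field k of dimension d and L an invertible O_X-module that is big:
there is a real constant c > 0 with dim_k H^0(X, L^{⊗n}) > c·n^d for all sufficiently large n. Then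
for every closed subscheme Z ⊆ X of dimension < d, with quasi-coherent ideal sheaf I_Z, there is an
integer m > 0 with H^0(X, I_Z ⊗ L^{⊗m}) ≠ 0. -/
theorem result (k : Type u) [Field k] (X : Scheme.{u})
    [X.Over (Spec (CommRingCat.of k))] [IsProper (X ↘ (Spec (CommRingCat.of k)))]
    (d : ℕ) (hdim : topologicalKrullDim X = d) (L : X.Modules) (hL : PicF.IsInvertible L)
    (hbig : ∃ c : ℝ, 0 < c ∧ ∀ᶠ n : ℕ in Filter.atTop,
      c * (n : ℝ) ^ d < (Module.finrank k (Coh.HH X (CohB1.tensorPow L n) 0) : ℝ))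
    (Z : X.IdealSheafData) (hZ : topologicalKrullDim (Z.support : Set X) < d) :
    ∃ m : ℕ, 0 < m ∧
      Nontrivial (Coh.HH X (CohB1.tensorMod (ClSub.idealMod Z) (CohB1.tensorPow L m)) 0) := by
  haveI := Groth.Agent.CurveRR.isNoetherian_of_proper k X
  obtain ⟨hI, hQ⟩ := Groth.Agent.CurveRR.isCoh_idealMod Z
  obtain ⟨c, hc, hev⟩ := hbig
  by_contra hno
  push Not at hno
  have hz : ∀ n : ℕ, 0 < n → Groth.Agent.CurveRR.h k (CohB1.tensorMod (ClSub.idealMod Z) (CohB1.tensorPow L n)) 0 = 0 :=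
    fun n hn => by
      by_contra h
      have := (Groth.Agent.Nakai.nontrivial_H0_iff k
        (Groth.Agent.Intersect.isCoh_twist k hI (TMul.isInvertible_tensorPow hL n))).2 (Nat.pos_of_ne_zero h)
      exact not_nontrivial_iff_subsingleton.2 (hno n hn) this
  have hle : ∀ n : ℕ, 0 < n → Groth.Agent.CurveRR.h k (CohB1.tensorPow L n) 0 ≤
      Groth.Agent.CurveRR.h k (CohB1.tensorMod (ClSub.quotMod Z) (CohB1.tensorPow L n)) 0 := fun n hn => by
    have hLn := TMul.isInvertible_tensorPow hL n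
    have h := Groth.Agent.Nakai.h0_middle k
      (Groth.Agent.CohFinite.shortExact_tmap hLn (Groth.Agent.CurveRR.ideal_shortExact Z))
      (Groth.Agent.Intersect.isCoh_twist k hI hLn)
      (Groth.Agent.Intersect.isCoh_twist k Groth.Agent.RefStalk.isCoh_structureModule hLn)
      (Groth.Agent.Intersect.isCoh_twist k hQ hLn)
    change Groth.Agent.CurveRR.h k (CohB1.tensorMod (Coh.structureModule X) (CohB1.tensorPow L n)) 0 ≤
      Groth.Agent.CurveRR.h k (CohB1.tensorMod (ClSub.idealMod Z) (CohB1.tensorPow L n)) 0 +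
        Groth.Agent.CurveRR.h k (CohB1.tensorMod (ClSub.quotMod Z) (CohB1.tensorPow L n)) 0 at h
    rwa [Groth.Agent.CurveRR.h_eq_of_iso (TMul.leftUnitIso (CohB1.tensorPow L n)) 0, hz n hn, zero_add] at h
  obtain ⟨n₀, hn₀⟩ := Filter.eventually_atTop.1 hev
  rcases Nat.eq_zero_or_pos d with rfl | hd
  · have he : IsEmpty (Z.support : Set X) := ⟨fun z => by
      haveI : Nonempty (Z.support : Set X) := ⟨z⟩
      have h0 : (0 : WithBot ℕ∞) ≤ topologicalKrullDim (Z.support : Set X) := by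
        haveI : Nonempty (TopologicalSpace.IrreducibleCloseds (Z.support : Set X)) :=
          ⟨⟨closure {z}, isIrreducible_singleton.closure, isClosed_closure⟩⟩
        exact Order.krullDim_nonneg
      exact absurd (h0.trans_lt hZ) (by simp)⟩
    have hq : IsZero (ClSub.quotMod Z) := Groth.Agent.KFlat.isZero_of_stalks _ fun x =>
      @ModuleCat.isZero_of_subsingleton _ _ _ (not_not.1 fun hx => he.elim ⟨x, Groth.Agent.CurveRR.support_quotMod Z hx⟩)
    have h1 := hle (n₀ + 1) (by omega)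
    have hz2 : IsZero (CohB1.tensorMod (ClSub.quotMod Z) (CohB1.tensorPow L (n₀ + 1))) := (IsZero.iff_id_eq_zero _).2
      (by rw [← Groth.Agent.CohFinite.tmap_id, hq.eq_of_src (𝟙 (ClSub.quotMod Z)) 0, Groth.Agent.CohFinite.tmap_zero])
    rw [Groth.Agent.CurveRR.h_eq_zero (Groth.Agent.W7Hull.hh_subsingleton_of_isZero hz2 0), Nat.le_zero] at h1
    have h2 := hn₀ (n₀ + 1) (by omega)
    change c * _ < ((Groth.Agent.CurveRR.h k (CohB1.tensorPow L (n₀ + 1)) 0 : ℕ) : ℝ) at h2
    rw [h1, pow_zero, mul_one, Nat.cast_zero] at h2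
    linarith
  obtain ⟨e, rfl⟩ : ∃ e, d = e + 1 := ⟨d - 1, by omega⟩
  have hZe : topologicalKrullDim (CohB1.support (ClSub.quotMod Z)) ≤ (e : WithBot ℕ∞) := by
    rw [Groth.Agent.Nakai.dim_support_quotMod]
    exact Groth.Agent.Intersect.le_of_lt_succ' hZ
  obtain ⟨C, hC⟩ := Groth.Agent.Nakai.slowGrowth_general k hL e hQ hZe
  obtain ⟨m, hm⟩ := exists_nat_gt (((C : ℝ) * 2 ^ e) / c)
  let n := m + n₀ + 1
  have h1 := hle n (by omega)
  have h2 := hn₀ n (by omega)
  change c * _ < ((Groth.Agent.CurveRR.h k (CohB1.tensorPow L n) 0 : ℕ) : ℝ) at h2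
  have h3 : ((Groth.Agent.CurveRR.h k (CohB1.tensorMod (ClSub.quotMod Z) (CohB1.tensorPow L n)) 0 : ℕ) : ℝ) ≤
      (C : ℝ) * ((n : ℝ) + 1) ^ e := by exact_mod_cast hC n
  have hn1 : (1 : ℝ) ≤ n := by exact_mod_cast (show 1 ≤ n by omega)
  have hC0 : (0 : ℝ) ≤ C := by
    have h : (0 : ℝ) ≤ (C : ℝ) * ((n : ℝ) + 1) ^ e := le_trans (Nat.cast_nonneg _) h3
    exact nonneg_of_mul_nonneg_left h (by positivity)
  have h4 : ((n : ℝ) + 1) ^ e ≤ 2 ^ e * (n : ℝ) ^ e := by
    rw [← mul_pow]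
    exact pow_le_pow_left₀ (by positivity) (by linarith) e
  have h5 : c * (n : ℝ) ^ (e + 1) < (C : ℝ) * 2 ^ e * (n : ℝ) ^ e := by
    calc c * (n : ℝ) ^ (e + 1) < _ := h2
      _ ≤ _ := Nat.cast_le.2 h1
      _ ≤ (C : ℝ) * ((n : ℝ) + 1) ^ e := h3
      _ ≤ _ := by rw [mul_assoc]; exact mul_le_mul_of_nonneg_left h4 hC0
  rw [pow_succ, ← mul_assoc, mul_right_comm] at h5
  have h6 : c * (n : ℝ) < (C : ℝ) * 2 ^ e := lt_of_mul_lt_mul_right h5 (by positivity)
  rw [div_lt_iff₀ hc] at hm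
  have : (m : ℝ) ≤ n := by exact_mod_cast (show m ≤ n by omega)
  nlinarith

end Groth.Agent.S17277
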