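import Groth.Statements.S17278
import Groth.Agent.Nakai.BigApps

set_option autoImplicit false
universe u
open CategoryTheory CategoryTheory.Limits AlgebraicGeometry TopologicalSpace
open Variety

namespace Groth.Agent.S17278

/-- Let X be a projective variety over a field k (an integral scheme, proper over k, carrying an ample
invertible module A₀) of dimension d, and L an invertible O_X-module. Then L is big, meaning that
for some real c > 0 one has dim_k H^0(X, L^{⊗n}) > c·n^d for all sufficiently large n, if and only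
if for every ample invertible O_X-module A, with a tensor inverse A' (A' ⊗ A ≅ O_X), there is an
integer m > 0 with H^0(X, A' ⊗ L^{⊗m}) ≠ 0. -/
theorem result (k : Type u) [Field k]
    (X : Scheme.{u}) [X.Over (Spec (CommRingCat.of k))] [IsProper (X ↘ (Spec (CommRingCat.of k)))] [IsIntegral X]
    (A₀ : X.Modules) (hA₀ : CohB1.IsAmple A₀)
    (d : ℕ) (hdim : topologicalKrullDim X = d) (L : X.Modules) (hL : PicF.IsInvertible L) :
    (∃ c : ℝ, 0 < c ∧ ∀ᶠ n : ℕ in Filter.atTop,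
        c * (n : ℝ) ^ d < (Module.finrank k (Coh.HH X (CohB1.tensorPow L n) 0) : ℝ)) ↔
      ∀ (A A' : X.Modules), CohB1.IsAmple A → ClSub.IsInverseOf A' A →
        ∃ m : ℕ, 0 < m ∧ Nontrivial (Coh.HH X (CohB1.tensorMod A' (CohB1.tensorPow L m)) 0) := by
  refine ⟨fun ⟨c, hc, he⟩ A A' hA hAA' => ?_, fun h => ?_⟩
  · obtain ⟨e⟩ := hAA'
    have hK := Groth.Agent.Nakai.kod_of_freq_real k hL hA₀ d hdim hc (he.mono fun n hn => hn.le).frequently
    obtain ⟨m, hm, hp⟩ := hK.all k hL d hdim hA.1 ⟨TMul.commIso A A' ≪≫ e⟩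
    exact ⟨m, hm, (Groth.Agent.Nakai.nontrivial_H0_iff k (Groth.Agent.Nakai.isCoh_inv k (TMul.isInvertible_tensorMod
      (Groth.Agent.Intersect.isInvertible_inverse hA.1 ⟨TMul.commIso A A' ≪≫ e⟩) (TMul.isInvertible_tensorPow hL m)))).2 hp⟩
  · obtain ⟨A', hA', ⟨e⟩⟩ := Groth.Agent.W7Hull.exists_tensor_inverse hA₀.1
    obtain ⟨m, hm, hp⟩ := h A₀ A' hA₀ ⟨TMul.commIso A' A₀ ≪≫ e⟩
    have hK : Groth.Agent.Nakai.Kod k L := ⟨A₀, A', m, hA₀, ⟨e⟩, hm, (Groth.Agent.Nakai.nontrivial_H0_iff k (Groth.Agent.Nakai.isCoh_inv k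
      (TMul.isInvertible_tensorMod hA' (TMul.isInvertible_tensorPow hL m)))).1 hp⟩
    obtain ⟨c, hc, n₀, hn⟩ := hK.growth_real k hL d hdim
    exact ⟨c, hc, Filter.eventually_atTop.2 ⟨n₀, hn⟩⟩

end Groth.Agent.S17278
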