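import Groth.Statements.S1728
import Mathlib
import Groth.Agent.InjHull.Noetherian
-- import your own Groth.Agent.* helpers here

set_option autoImplicit false
universe u
open InjHull

namespace Groth.Agent.S1728

/-- Let I be an injective R-module and E a submodule of I. Then E is an injective module if and only if
every submodule E' of I containing E, such that every nonzero submodule of E' meets E nontrivially,
is equal to E. -/
theorem result (R : Type u) [CommRing R] (I : Type u) [AddCommGroup I] [Module R I] [Module.Injective R I] (E : Submodule R I) : Module.Injective R E ↔ ∀ E' : Submodule R I, E ≤ E' → (∀ N : Submodule R I, N ≤ E' → N ≠ ⊥ → N ⊓ E ≠ ⊥) → E' = E := by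
  constructor
  · intro hE E' hle hess
    obtain ⟨C, hC⟩ := Groth.Agent.InjHull.exists_isCompl_of_injective E
    refine le_antisymm (fun x hx => ?_) hle
    have hx' : x ∈ E ⊔ C := hC.sup_eq_top ▸ Submodule.mem_top
    obtain ⟨e, he, c, hc, rfl⟩ := Submodule.mem_sup.1 hx'
    have hcE' : c ∈ E' := by
      have := E'.sub_mem hx (hle he)
      simpa using this
    suffices c = 0 by simpa [this] using he
    by_contra hc0
    refine hess (Submodule.span R {c}) ((Submodule.span_singleton_le_iff_mem c E').2 hcE')
      (by simpa [Submodule.span_singleton_eq_bot] using hc0) ?_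
    rw [eq_bot_iff]
    exact (inf_le_inf_right E ((Submodule.span_singleton_le_iff_mem c C).2 hc)).trans
      hC.symm.disjoint.le_bot
  · intro h
    refine Groth.Agent.InjHull.injective_of_no_essential_extension E fun E' hle hess =>
      h E' hle fun N hN hN0 hbot => ?_
    obtain ⟨x, hx, hx0⟩ := Submodule.exists_mem_ne_zero_of_ne_bot hN0
    obtain ⟨r, hr, hr0⟩ := hess x (hN hx) hx0
    have : r • x ∈ N ⊓ E := ⟨N.smul_mem r hx, hr⟩
    rw [hbot] at this
    exact hr0 this

end Groth.Agent.S1728
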