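import Groth.Statements.S17280
import Groth.Agent.W7Slope.Hom
import Groth.Agent.DerPerf.Local
import Groth.Agent.ZeroSch.Basic

set_option autoImplicit false
universe u
open CategoryTheory CategoryTheory.Limits AlgebraicGeometry TopologicalSpace
open Variety

set_option backward.isDefEq.respectTransparency false
set_option backward.isDefEq.respectTransparency.types false

open Groth.Agent Groth.Agent.CurveRR

namespace Groth.Agent.S17280

/-- Scheme case, curve-test form of nefness: let X be a proper scheme over a field k and 0 → E' → E →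
E'' → 0 a short exact sequence whose three terms are finite locally free O_X-modules. Assume that E'
and E'' are nef in the curve-test sense: for every regular projective curve C over k (integral,
proper over k, of dimension one, all local rings regular), every k-morphism f : C → X and every
invertible quotient M of the pulled-back module, deg M = χ(M) - χ(O_C) ≥ 0. Then E is nef in the
same sense. (The source states this for proper algebraic spaces and nefness of O(1) on P(E); on
proper schemes the two senses agree by the Barton–Kleiman criterion.) -/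
theorem result (k : Type u) [Field k] (X : Scheme.{u})
    [X.Over (Spec (CommRingCat.of k))] [IsProper (X ↘ (Spec (CommRingCat.of k)))] (S : ShortComplex X.Modules) (hS : S.ShortExact)
    (h₁ : FlatMod.IsFinLocFree S.X₁) (h₂ : FlatMod.IsFinLocFree S.X₂) (h₃ : FlatMod.IsFinLocFree S.X₃)
    (hnef₁ : ∀ (C : Scheme.{u}) [C.Over (Spec (CommRingCat.of k))] [IsProper (C ↘ (Spec (CommRingCat.of k)))] [IsIntegral C],
      topologicalKrullDim C = 1 → (∀ x : C, IsRegularLocalRing (C.presheaf.stalk x)) →
      ∀ (f : C ⟶ X), f ≫ (X ↘ (Spec (CommRingCat.of k))) = C ↘ (Spec (CommRingCat.of k)) →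
      ∀ (M : C.Modules), PicF.IsInvertible M →
      ∀ (q : (Scheme.Modules.pullback f).obj S.X₁ ⟶ M), Epi q → 0 ≤ Curv2.deg k C M 1)
    (hnef₃ : ∀ (C : Scheme.{u}) [C.Over (Spec (CommRingCat.of k))] [IsProper (C ↘ (Spec (CommRingCat.of k)))] [IsIntegral C],
      topologicalKrullDim C = 1 → (∀ x : C, IsRegularLocalRing (C.presheaf.stalk x)) →
      ∀ (f : C ⟶ X), f ≫ (X ↘ (Spec (CommRingCat.of k))) = C ↘ (Spec (CommRingCat.of k)) →
      ∀ (M : C.Modules), PicF.IsInvertible M →
      ∀ (q : (Scheme.Modules.pullback f).obj S.X₃ ⟶ M), Epi q → 0 ≤ Curv2.deg k C M 1) :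
    ∀ (C : Scheme.{u}) [C.Over (Spec (CommRingCat.of k))] [IsProper (C ↘ (Spec (CommRingCat.of k)))] [IsIntegral C],
    topologicalKrullDim C = 1 → (∀ x : C, IsRegularLocalRing (C.presheaf.stalk x)) →
    ∀ (f : C ⟶ X), f ≫ (X ↘ (Spec (CommRingCat.of k))) = C ↘ (Spec (CommRingCat.of k)) →
    ∀ (M : C.Modules), PicF.IsInvertible M →
    ∀ (q : (Scheme.Modules.pullback f).obj S.X₂ ⟶ M), Epi q → 0 ≤ Curv2.deg k C M 1 := by
  intro C _ _ _ hC hreg f hf M hM q hq
  haveI := isNoetherian_of_proper k C
  have hX : W7Slope.RegCurve C := ⟨hC.le, hreg⟩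
  have hMr := isFinLocFreeOfRank_one hM
  let F := Scheme.Modules.pullback f
  haveI : PreservesColimitsOfSize.{0, 0} F :=
    (Scheme.Modules.pullbackPushforwardAdjunction f).leftAdjoint_preservesColimits
  haveI : Epi S.g := hS.epi_g
  let T : ShortComplex C.Modules := S.map F
  have hT : IsColimit (CokernelCofork.ofπ T.g T.zero) := isColimitCoforkMapOfIsColimit' F S.zero hS.gIsCokernel
  by_cases ha : T.f ≫ q = 0
  · let γ := hT.desc (CokernelCofork.ofπ q ha)
    have hγ : T.g ≫ γ = q := hT.fac (CokernelCofork.ofπ q ha) WalkingParallelPair.one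
    exact hnef₃ C hC hreg f hf M hM γ (epi_of_epi_fac hγ)
  let a := T.f ≫ q
  have hA : Coh.IsCoh T.X₁ := by
    have h := DerPerf.isFinLocFree_pullback f h₁
    exact ⟨LocFree.isQCoh_of_isFinLocFree h, LocFree.isFT_of_isFinLocFree h⟩
  have hI : Coh.IsCoh (Abelian.image a) :=
    W7Slope.isCoh_kernel k (isCoh_of_inv hM) (W7Slope.isCoh_cokernel k hA (isCoh_of_inv hM) a) _
  have hIl := W7Slope.isFinLocFree_sub k hX (Abelian.image.ι a) hI hMr
  have hle := W7Slope.grk_le_of_mono k (Abelian.image.ι a) (isCoh_of_inv hM)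
  rw [W7Slope.grk_of_rank hMr] at hle
  obtain h | h : W7Slope.grk (Abelian.image a) = 0 ∨ W7Slope.grk (Abelian.image a) = 1 := by omega
  · exfalso
    rw [h] at hIl
    apply ha
    change a = 0
    rw [← Abelian.image.fac a, (W7Slope.isZero_of_rank_zero hIl).eq_of_src (Abelian.image.ι a) 0, comp_zero]
  · rw [h] at hIl
    have hIi := ZeroSch.isInvertible_of_rankOne hIl
    have h0 := hnef₁ C hC hreg f hf (Abelian.image a) hIi (Abelian.factorThruImage a) inferInstance
    refine h0.trans (W7Slope.deg_le_of_mono k hX hIl hMr (Abelian.image.ι a)).1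

end Groth.Agent.S17280
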