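import Groth.Statements.S17281
import Groth.Agent.W7Slope.GlobGenBundle

set_option autoImplicit false
universe u
open CategoryTheory CategoryTheory.Limits AlgebraicGeometry TopologicalSpace
open Curves

set_option backward.isDefEq.respectTransparency false
set_option backward.isDefEq.respectTransparency.types false

open Groth.Agent Groth.Agent.CurveRR Groth.Agent.CohFinite CategoryTheory.Limits

namespace Groth.Agent.S17281

/-- Fix an algebraically closed field k and a regular projective curve C over it (integral, proper over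
k, of dimension one, all local rings regular) of genus g = dim_k H^1(C, O_C), E a finite locally
free O_C-module that is nef in the curve-test sense (for every regular projective curve C' over k,
every k-morphism f : C' → C and every invertible quotient M of f^*E, deg M = χ(M) - χ(O_{C'}) ≥ 0),
and H an invertible O_C-module with deg H = χ(H) - χ(O_C) ≥ 2g. Then E ⊗ H is generated by its
global sections. -/
theorem result (k : Type u) [Field k] [IsAlgClosed k]
    (X : Scheme.{u}) [X.Over (Spec (CommRingCat.of k))] [IsProper (X ↘ (Spec (CommRingCat.of k)))] [IsIntegral X]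
    (hdim : topologicalKrullDim X = 1) (hreg : ∀ x : X, IsRegularLocalRing (X.presheaf.stalk x))
    (E : X.Modules) (hE : FlatMod.IsFinLocFree E)
    (hnef : ∀ (C : Scheme.{u}) [C.Over (Spec (CommRingCat.of k))] [IsProper (C ↘ (Spec (CommRingCat.of k)))] [IsIntegral C],
      topologicalKrullDim C = 1 → (∀ x : C, IsRegularLocalRing (C.presheaf.stalk x)) →
      ∀ (f : C ⟶ X), f ≫ (X ↘ (Spec (CommRingCat.of k))) = C ↘ (Spec (CommRingCat.of k)) →
      ∀ (M : C.Modules), PicF.IsInvertible M →
      ∀ (q : (Scheme.Modules.pullback f).obj E ⟶ M), Epi q → 0 ≤ Curv2.deg k C M 1)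
    (H : X.Modules) (hH : PicF.IsInvertible H)
    (hdeg : 2 * (Curv2.genus k X : ℤ) ≤ Curv2.deg k X H 1) :
    Curv2.IsGloballyGenerated (CohB1.tensorMod E H) := by
  haveI := isNoetherian_of_proper k X
  have hX : W7Slope.RegCurve X := ⟨hdim.le, hreg⟩
  have hEq : Coh.IsQCoh E := LocFree.isQCoh_of_isFinLocFree hE
  have hEr := W7Slope.rank_of_isFinLocFree hEq hE
  have hMr := W7Slope.rank_tensor_inv hEr hH
  refine W7Slope.isGloballyGenerated_of_h1 k hdim hMr fun P hP => ?_
  set I := ClSub.idealMod (Scheme.IdealSheafData.vanishingIdeal ⟨{P}, hP⟩) with hIdef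
  have hI : PicF.IsInvertible I :=
    isInvertible_pointIdeal hX.dim hP (genericPoint_ne_of_closed (k := k) hdim hP) (hX.reg P)
  by_contra h1
  have h1' : ¬ Subsingleton (Coh.HH X (CohB1.tensorMod (CohB1.tensorMod E H) I) 1) := fun hs => h1 (by
    haveI := hs
    exact (hhEquiv k (TMul.commIso I (CohB1.tensorMod E H)) 1).toEquiv.subsingleton)
  obtain ⟨Q, K, p, i, n, hp, -, -, hQ, -, -, hQ1, -⟩ :=
    W7Slope.exists_invertible_quotient k hdim hX (W7Slope.rank_tensor_inv hMr hI) h1'
  have hdQ : Curv2.deg k X Q 1 ≤ 2 * (Curv2.genus k X : ℤ) - 2 := by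
    by_contra hlt
    exact hQ1 (subsingleton_h1 (k := k) hX.dim (h0_structure k X) hQ (by omega))
  obtain ⟨I', hI', ⟨e⟩⟩ := W7Hull.exists_tensor_inverse hI
  obtain ⟨H', hH', ⟨eH⟩⟩ := W7Hull.exists_tensor_inverse hH
  have hdI : Curv2.deg k X I 1 = -1 := by
    have h := euler_ideal_tensor (k := k) (TMul.isInvertible_structureModule (X := X))
      (Scheme.IdealSheafData.vanishingIdeal ⟨{P}, hP⟩) (point_dim hP)
    rw [euler_eq_of_iso (TMul.commIso _ _), euler_eq_of_iso (TMul.leftUnitIso _), h0_quotMod_point hP] at h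
    rw [hIdef, Curv2.deg, h]
    push_cast
    ring
  have hdI' := W7Slope.deg_twist (k := k) hX.dim (isFinLocFreeOfRank_one hI) hI'
  rw [W7Slope.deg_iso (k := k) e, deg_structure, hdI] at hdI'
  have hdH' := W7Slope.deg_twist (k := k) hX.dim (isFinLocFreeOfRank_one hH) hH'
  rw [W7Slope.deg_iso (k := k) eH, deg_structure] at hdH'
  haveI := hp
  haveI := W7Slope.epi_tmap hI' p
  let p₁ : CohB1.tensorMod E H ⟶ CohB1.tensorMod Q I' := (W7Slope.untw e _).inv ≫ tmap p I'
  haveI : Epi p₁ := epi_comp _ _
  haveI := W7Slope.epi_tmap hH' p₁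
  let p₂ : E ⟶ CohB1.tensorMod (CohB1.tensorMod Q I') H' := (W7Slope.untw eH E).inv ≫ tmap p₁ H'
  haveI : Epi p₂ := epi_comp _ _
  have hM := TMul.isInvertible_tensorMod (TMul.isInvertible_tensorMod hQ hI') hH'
  have hge := hnef X hdim hreg (𝟙 X) (Category.id_comp _) _ hM
    ((Scheme.Modules.pullbackId (X := X)).hom.app E ≫ p₂) (epi_comp _ _)
  rw [W7Slope.deg_twist hX.dim (isFinLocFreeOfRank_one (TMul.isInvertible_tensorMod hQ hI')) hH',
    W7Slope.deg_twist hX.dim (isFinLocFreeOfRank_one hQ) hI'] at hge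
  push_cast at hge hdI' hdH'
  linarith

end Groth.Agent.S17281
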