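import Groth.Statements.S17287
import Groth.Agent.FibrePts.Basic
import Groth.Agent.WeilLib.Trdeg
import Groth.Agent.BMCoh.Height
import Groth.Agent.DvrDom.ClosedProper

set_option autoImplicit false
universe u
open CategoryTheory CategoryTheory.Limits AlgebraicGeometry TopologicalSpace
open Variety

set_option backward.isDefEq.respectTransparency false
set_option backward.isDefEq.respectTransparency.types false

open Groth.Agent

namespace Groth.Agent.S17287

/-- Let f : Y → X be a surjective k-morphism of proper schemes over a field k and C ⊆ X an integral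
closed subscheme of dimension one. Then there is an integral closed subscheme C' ⊆ Y of dimension
one with f(C') = C as closed subsets. (The source states this for proper algebraic spaces over k;
this is the case of schemes.) -/
theorem result (k : Type u) [Field k] (X Y : Scheme.{u})
    [X.Over (Spec (CommRingCat.of k))] [IsProper (X ↘ (Spec (CommRingCat.of k)))] [Y.Over (Spec (CommRingCat.of k))] [IsProper (Y ↘ (Spec (CommRingCat.of k)))]
    (f : Y ⟶ X) (hf : f ≫ (X ↘ (Spec (CommRingCat.of k))) = Y ↘ (Spec (CommRingCat.of k))) [Surjective f]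
    (C : X.IdealSheafData) [IsIntegral C.subscheme] (hC : topologicalKrullDim (C.support : Set X) = 1) :
    ∃ C' : Y.IdealSheafData, IsIntegral C'.subscheme ∧ topologicalKrullDim (C'.support : Set Y) = 1 ∧
      f.base '' (C'.support : Set Y) = (C.support : Set X) := by
  let fY := Y ↘ Spec (CommRingCat.of k)
  let fX := X ↘ Spec (CommRingCat.of k)
  haveI : IsProper (f ≫ fX) := by rw [hf]; infer_instance
  haveI : IsProper f := IsProper.of_comp f fX
  let ξ := C.subschemeι (genericPoint C.subscheme)
  have hsupp : (C.support : Set X) = closure {ξ} := by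
    rw [← C.range_subschemeι, ← Set.image_univ, ← (show closure {genericPoint C.subscheme} = Set.univ from genericPoint_spec C.subscheme),
      ← C.subschemeι.isClosedEmbedding.closure_image_eq, Set.image_singleton]
  obtain ⟨y₀, hy₀⟩ := f.surjective ξ
  haveI : Nonempty (f.fiber ξ) := by
    obtain ⟨w, -⟩ : y₀ ∈ Set.range (f.fiberι ξ) := by rw [Scheme.Hom.range_fiberι]; exact hy₀
    exact ⟨w⟩
  obtain ⟨w, -, hw⟩ := IsClosed.exists_closed_singleton (isClosed_univ (X := f.fiber ξ)) Set.univ_nonempty
  have hy : f (f.fiberι ξ w) = ξ := by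
    have : f.fiberι ξ w ∈ f ⁻¹' {ξ} := by rw [← Scheme.Hom.range_fiberι]; exact ⟨w, rfl⟩
    exact this
  set y := f.fiberι ξ w with hydef
  have hfin : (f.residueFieldMap y).hom.Finite := by
    refine (FibrePts.isClosed_asFiber_iff f y).1 ?_
    have key : ∀ (ξ : X) (w : f.fiber ξ), IsClosed ({w} : Set (f.fiber ξ)) → f (f.fiberι ξ w) = ξ →
        IsClosed ({f.asFiber (f.fiberι ξ w)} : Set (f.fiber (f (f.fiberι ξ w)))) := by
      intro ξ w hw hy
      generalize hy' : f.fiberι ξ w = y at hy
      subst hy
      have : f.asFiber y = w := (f.fiberι (f y)).isEmbedding.injective (by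
        rw [Scheme.Hom.fiberι_asFiber]; exact hy'.symm)
      rw [this]; exact hw
    exact key ξ w hw hy
  have hdeg : f.residueDegree y ≠ 0 := by
    letI := (f.residueFieldMap y).hom.toAlgebra
    haveI : Module.Finite (X.residueField (f y)) (Y.residueField y) := hfin
    exact Module.finrank_pos.ne'
  have hp : WeilCoh.pdim X ξ = 1 := by
    rw [WeilCoh.pdim, WeilCoh.natDim, ← hsupp, hC]
    rfl
  have hpy : WeilCoh.pdim Y y = 1 := by
    rw [← WeilLib.pdim_eq_of_residueDegree_ne_zero fY f fX hf hdeg, hy, hp]
  let Z : TopologicalSpace.Closeds Y := ⟨closure {y}, isClosed_closure⟩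
  let C' := Scheme.IdealSheafData.vanishingIdeal Z
  have hC' : (C'.support : Set Y) = closure {y} := by simp [C', Z]
  haveI : IsReduced C'.subscheme := DvrDom.isReduced_vanishingIdeal_subscheme _
  haveI : IrreducibleSpace C'.subscheme := by
    obtain ⟨y', hy'⟩ : y ∈ Set.range C'.subschemeι := by
      rw [C'.range_subschemeι, hC']; exact subset_closure rfl
    have hd : ∀ z, y' ⤳ z := fun z => C'.subschemeι.isClosedEmbedding.isInducing.specializes_iff.1 (by
      rw [hy', specializes_iff_mem_closure, ← hC', ← C'.range_subschemeι]; exact ⟨z, rfl⟩)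
    haveI : Nonempty C'.subscheme := ⟨y'⟩
    have hu : IsGenericPoint y' (Set.univ : Set C'.subscheme) :=
      Set.eq_univ_of_forall fun z => (hd z).mem_closure
    exact { isPreirreducible_univ := hu.isIrreducible.isPreirreducible, toNonempty := ⟨y'⟩ }
  refine ⟨C', isIntegral_of_irreducibleSpace_of_isReduced _, ?_, ?_⟩
  · rw [hC', BMCoh.topologicalKrullDim_closure_singleton, (WeilLib.exists_pdim_eq_trd fY y).2, hpy]
    rfl
  · rw [hC', ← f.isClosedMap.closure_image_eq_of_continuous f.continuous, Set.image_singleton, hsupp]
    exact congrArg (fun z => closure ({z} : Set X)) hy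

end Groth.Agent.S17287
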