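import Groth.Statements.S17283
import Groth.Agent.W7Nef.Normalise
import Groth.Agent.S17287
import Groth.Agent.S7640
import Groth.Agent.CurveRR.Curve
import Groth.Prelude.Def_PicLoc

set_option autoImplicit false
universe u
open CategoryTheory CategoryTheory.Limits AlgebraicGeometry TopologicalSpace
open Variety

set_option backward.isDefEq.respectTransparency false
set_option backward.isDefEq.respectTransparency.types false

open Groth.Agent CategoryTheory.Limits

namespace Groth.Agent.S17283

/-- Scheme case, curve-test form of nefness: let f : Y → X be a surjective k-morphism of proper schemes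
over a field k and E a finite locally free O_X-module. If the pullback f^*E is nef on Y in the
curve-test sense (for every regular projective curve C over k — integral, proper over k, of
dimension one, all local rings regular — every k-morphism g : C → Y and every invertible quotient M
of g^*(f^*E), deg M = χ(M) - χ(O_C) ≥ 0), then E is nef on X in the same sense. (The source states
this for proper algebraic spaces with nefness of O(1) on P(E); on proper schemes the senses agree by
the Barton–Kleiman criterion.) -/
theorem result (k : Type u) [Field k] (X Y : Scheme.{u})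
    [X.Over (Spec (CommRingCat.of k))] [IsProper (X ↘ (Spec (CommRingCat.of k)))] [Y.Over (Spec (CommRingCat.of k))] [IsProper (Y ↘ (Spec (CommRingCat.of k)))]
    (f : Y ⟶ X) (hf : f ≫ (X ↘ (Spec (CommRingCat.of k))) = Y ↘ (Spec (CommRingCat.of k))) [Surjective f]
    (E : X.Modules) (hE : FlatMod.IsFinLocFree E)
    (hnef : ∀ (C : Scheme.{u}) [C.Over (Spec (CommRingCat.of k))] [IsProper (C ↘ (Spec (CommRingCat.of k)))] [IsIntegral C],
      topologicalKrullDim C = 1 → (∀ x : C, IsRegularLocalRing (C.presheaf.stalk x)) →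
      ∀ (g : C ⟶ Y), g ≫ (Y ↘ (Spec (CommRingCat.of k))) = C ↘ (Spec (CommRingCat.of k)) →
      ∀ (M : C.Modules), PicF.IsInvertible M →
      ∀ (q : (Scheme.Modules.pullback g).obj ((Scheme.Modules.pullback f).obj E) ⟶ M), Epi q → 0 ≤ Curv2.deg k C M 1) :
    ∀ (C : Scheme.{u}) [C.Over (Spec (CommRingCat.of k))] [IsProper (C ↘ (Spec (CommRingCat.of k)))] [IsIntegral C],
    topologicalKrullDim C = 1 → (∀ x : C, IsRegularLocalRing (C.presheaf.stalk x)) →
    ∀ (g : C ⟶ X), g ≫ (X ↘ (Spec (CommRingCat.of k))) = C ↘ (Spec (CommRingCat.of k)) →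
    ∀ (M : C.Modules), PicF.IsInvertible M →
    ∀ (q : (Scheme.Modules.pullback g).obj E ⟶ M), Epi q → 0 ≤ Curv2.deg k C M 1 := by
  intro C _ _ _ hC hreg g hg M hM q hq
  let fC := C ↘ Spec (CommRingCat.of k)
  let p := pullback.fst g f
  haveI : IsProper (f ≫ (X ↘ Spec (CommRingCat.of k))) := by rw [hf]; infer_instance
  haveI : IsProper f := IsProper.of_comp f (X ↘ Spec (CommRingCat.of k))
  haveI : IsProper p := MorphismProperty.pullback_fst g f inferInstance
  haveI : Surjective p := MorphismProperty.pullback_fst g f inferInstance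
  letI : (pullback g f).Over (Spec (CommRingCat.of k)) := ⟨p ≫ fC⟩
  haveI : IsProper (pullback g f ↘ Spec (CommRingCat.of k)) := inferInstanceAs (IsProper (p ≫ fC))
  have hbot : ((⊥ : C.IdealSheafData).support : Set C) = Set.univ := by simp
  haveI : Nonempty (⊥ : C.IdealSheafData).subscheme := ⟨(inv (⊥ : C.IdealSheafData).subschemeι) (genericPoint C)⟩
  haveI : IsIntegral (⊥ : C.IdealSheafData).subscheme :=
    isIntegral_of_isOpenImmersion (⊥ : C.IdealSheafData).subschemeι
  have hdimbot : topologicalKrullDim ((⊥ : C.IdealSheafData).support : Set C) = 1 := by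
    rw [hbot, (Homeomorph.Set.univ C).isHomeomorph.topologicalKrullDim_eq, hC]
  obtain ⟨C₁, hC₁, hd₁, him⟩ := S17287.result k C (pullback g f) p rfl ⊥ hdimbot
  letI : C₁.subscheme.Over (Spec (CommRingCat.of k)) := ⟨C₁.subschemeι ≫ p ≫ fC⟩
  haveI : IsProper (C₁.subscheme ↘ Spec (CommRingCat.of k)) :=
    inferInstanceAs (IsProper (C₁.subschemeι ≫ p ≫ fC))
  have hd₁' : topologicalKrullDim C₁.subscheme = 1 := by
    rw [← hd₁, ← C₁.range_subschemeι]
    exact C₁.subschemeι.isClosedEmbedding.isEmbedding.toHomeomorph.isHomeomorph.topologicalKrullDim_eq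
  obtain ⟨C', ν, hint, hprop, hd', hreg', hgen⟩ := W7Nef.exists_regular_model k C₁.subscheme hd₁'
  let h : C' ⟶ C := ν ≫ C₁.subschemeι ≫ p
  letI : C'.Over (Spec (CommRingCat.of k)) := ⟨h ≫ fC⟩
  haveI : IsProper (C' ↘ Spec (CommRingCat.of k)) := by
    show IsProper (h ≫ fC)
    simp only [h, Category.assoc]
    exact hprop
  have hξ : h (genericPoint C') = genericPoint C := by
    show p (C₁.subschemeι (ν (genericPoint C'))) = _
    rw [hgen]
    refine ((genericPoint_spec C).eq ?_).symm
    show closure {p (C₁.subschemeι (genericPoint C₁.subscheme))} = Set.univ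
    rw [← hbot, ← him, ← C₁.range_subschemeι, ← Set.range_comp, ← Set.image_univ,
      ← (show closure {genericPoint C₁.subscheme} = Set.univ from genericPoint_spec C₁.subscheme)]
    haveI : IsProper (C₁.subschemeι ≫ p) := inferInstance
    rw [show (⇑p.base ∘ ⇑C₁.subschemeι) = ⇑(C₁.subschemeι ≫ p) from rfl,
      ← (C₁.subschemeι ≫ p).isClosedMap.closure_image_eq_of_continuous (C₁.subschemeι ≫ p).continuous,
      Set.image_singleton]
    rfl
  have hdeg := S7640.result k C' C hd' hC h rfl hξ 1 M (CurveRR.isFinLocFreeOfRank_one hM)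
  let g' : C' ⟶ Y := ν ≫ C₁.subschemeι ≫ pullback.snd g f
  have hg' : g' ≫ f = h ≫ g := by simp [g', h, p, pullback.condition]
  have hg'' : g' ≫ (Y ↘ Spec (CommRingCat.of k)) = C' ↘ Spec (CommRingCat.of k) := by
    rw [← hf, ← Category.assoc, hg', Category.assoc, hg]
    rfl
  let e : (Scheme.Modules.pullback g').obj ((Scheme.Modules.pullback f).obj E) ≅
      (Scheme.Modules.pullback h).obj ((Scheme.Modules.pullback g).obj E) :=
    (Scheme.Modules.pullbackComp g' f).app E ≪≫ (Scheme.Modules.pullbackCongr hg').app E ≪≫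
      ((Scheme.Modules.pullbackComp h g).app E).symm
  haveI : PreservesColimitsOfSize.{0, 0} (Scheme.Modules.pullback h) :=
    (Scheme.Modules.pullbackPushforwardAdjunction h).leftAdjoint_preservesColimits
  haveI : Epi ((Scheme.Modules.pullback h).map q) := inferInstance
  have h0 := hnef C' hd' hreg' g' hg'' _ (PicLoc.isInvertible_pullback h hM)
    (e.hom ≫ (Scheme.Modules.pullback h).map q) (epi_comp _ _)
  rw [hdeg] at h0
  haveI : IsProper (h ≫ fC) := inferInstanceAs (IsProper (C' ↘ Spec (CommRingCat.of k)))
  haveI : IsProper h := IsProper.of_comp h fC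
  have hfin := W7Nef.residueDegree_pos k h h.isClosedMap hd' hC hξ
  exact (mul_nonneg_iff_of_pos_left (by exact_mod_cast hfin)).1 h0

end Groth.Agent.S17283
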