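import Groth.Statements.S17284
import Groth.Agent.W7Nef.Normalise
import Groth.Agent.S7640
import Groth.Agent.CurveRR.Multi2
import Groth.Prelude.Def_PicLoc

set_option autoImplicit false
universe u
open CategoryTheory CategoryTheory.Limits AlgebraicGeometry TopologicalSpace
open Variety

set_option backward.isDefEq.respectTransparency false
set_option backward.isDefEq.respectTransparency.types false

open Groth.Agent CategoryTheory.Limits

namespace Groth.Agent.S17284

/-- (iii) ⇒ (ii): let X be a proper scheme over a field k and E a finite locally free O_X-module.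
Suppose that for every regular projective curve C over k (integral, proper over k, of dimension one,
all local rings regular), every k-morphism f : C → X and every invertible quotient f^*E → M, deg M =
χ(M) - χ(O_C) ≥ 0. Then for every proper k-scheme C of dimension one (equivalently projective;
possibly reducible or non-reduced), every k-morphism f : C → X and every invertible quotient f^*E →
M, deg M = χ(M) - χ(O_C) ≥ 0. (The source states this for proper algebraic spaces X; this is the
case of schemes.) -/
theorem result (k : Type u) [Field k]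
    (X : Scheme.{u}) [X.Over (Spec (CommRingCat.of k))] [IsProper (X ↘ (Spec (CommRingCat.of k)))] (E : X.Modules) (hE : FlatMod.IsFinLocFree E)
    (hnef : ∀ (C : Scheme.{u}) [C.Over (Spec (CommRingCat.of k))] [IsProper (C ↘ (Spec (CommRingCat.of k)))] [IsIntegral C],
      topologicalKrullDim C = 1 → (∀ x : C, IsRegularLocalRing (C.presheaf.stalk x)) →
      ∀ (f : C ⟶ X), f ≫ (X ↘ (Spec (CommRingCat.of k))) = C ↘ (Spec (CommRingCat.of k)) →
      ∀ (M : C.Modules), PicF.IsInvertible M →
      ∀ (q : (Scheme.Modules.pullback f).obj E ⟶ M), Epi q → 0 ≤ Curv2.deg k C M 1) :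
    ∀ (C : Scheme.{u}) [C.Over (Spec (CommRingCat.of k))] [IsProper (C ↘ (Spec (CommRingCat.of k)))], topologicalKrullDim C = 1 →
    ∀ (f : C ⟶ X), f ≫ (X ↘ (Spec (CommRingCat.of k))) = C ↘ (Spec (CommRingCat.of k)) →
    ∀ (M : C.Modules), PicF.IsInvertible M →
    ∀ (q : (Scheme.Modules.pullback f).obj E ⟶ M), Epi q → 0 ≤ Curv2.deg k C M 1 := by
  intro C _ _ hC f hf M hM q hq
  haveI := CurveRR.isNoetherian_of_proper k C
  haveI : Fintype (irreducibleComponents (C : Type u)) :=
    (TopologicalSpace.NoetherianSpace.finite_irreducibleComponents (α := C)).fintype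
  rw [CurveRR.Multi.deg_eq_finsum k hC.le 1 M (CurveRR.isFinLocFreeOfRank_one hM), finsum_eq_sum_of_fintype]
  refine Finset.sum_nonneg fun Z _ => ?_
  split_ifs with h1
  swap
  · exact le_rfl
  refine mul_nonneg (Int.natCast_nonneg _) ?_
  rw [CurveRR.Multi.radical_component Z]
  let I := Scheme.IdealSheafData.vanishingIdeal (Devissage.Zc Z.2.1.genericPoint)
  let fC := C ↘ Spec (CommRingCat.of k)
  letI : I.subscheme.Over (Spec (CommRingCat.of k)) := ⟨I.subschemeι ≫ fC⟩
  haveI : IsProper (I.subscheme ↘ Spec (CommRingCat.of k)) := inferInstanceAs (IsProper (I.subschemeι ≫ fC))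
  haveI : IsIntegral I.subscheme := Devissage.Zi_isIntegral _
  have hd : topologicalKrullDim I.subscheme = 1 := by
    rw [(I.subschemeι.isClosedEmbedding.isEmbedding.toHomeomorph).isHomeomorph.topologicalKrullDim_eq,
      I.range_subschemeι, Scheme.IdealSheafData.coe_support_vanishingIdeal]
    show topologicalKrullDim (closure {Z.2.1.genericPoint} : Set C) = 1
    rw [(Z.2.1.isGenericPoint_genericPoint (isClosed_of_mem_irreducibleComponents _ Z.2)).def]
    exact h1
  obtain ⟨C', ν, hint, hprop, hd', hreg', hgen⟩ := W7Nef.exists_regular_model k I.subscheme hd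
  letI : C'.Over (Spec (CommRingCat.of k)) := ⟨ν ≫ (I.subscheme ↘ Spec (CommRingCat.of k))⟩
  haveI : IsProper (C' ↘ Spec (CommRingCat.of k)) := hprop
  let M₀ := (Scheme.Modules.pullback I.subschemeι).obj M
  have hdeg := S7640.result k C' I.subscheme hd' hd ν rfl hgen 1 M₀
    (CurveRR.isFinLocFreeOfRank_one (PicLoc.isInvertible_pullback I.subschemeι hM))
  let g' : C' ⟶ X := (ν ≫ I.subschemeι) ≫ f
  have hg' : g' ≫ (X ↘ Spec (CommRingCat.of k)) = C' ↘ Spec (CommRingCat.of k) := by
    show ((ν ≫ I.subschemeι) ≫ f) ≫ _ = ν ≫ I.subschemeι ≫ fC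
    rw [Category.assoc, hf, Category.assoc]
  let e : (Scheme.Modules.pullback g').obj E ≅
      (Scheme.Modules.pullback ν).obj ((Scheme.Modules.pullback I.subschemeι).obj ((Scheme.Modules.pullback f).obj E)) :=
    ((Scheme.Modules.pullbackComp (ν ≫ I.subschemeι) f).app E).symm ≪≫
      ((Scheme.Modules.pullbackComp ν I.subschemeι).app _).symm
  let R := Scheme.Modules.pullback I.subschemeι ⋙ Scheme.Modules.pullback ν
  haveI : PreservesColimitsOfSize.{0, 0} R :=
    ((Scheme.Modules.pullbackPushforwardAdjunction I.subschemeι).comp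
      (Scheme.Modules.pullbackPushforwardAdjunction ν)).leftAdjoint_preservesColimits
  haveI : Epi (R.map q) := inferInstance
  have h0 := hnef C' hd' hreg' g' hg' _ (PicLoc.isInvertible_pullback ν (PicLoc.isInvertible_pullback I.subschemeι hM))
    (e.hom ≫ R.map q) (epi_comp _ _)
  haveI : IsProper (ν ≫ (I.subscheme ↘ Spec (CommRingCat.of k))) := hprop
  haveI : IsProper ν := IsProper.of_comp ν (I.subscheme ↘ Spec (CommRingCat.of k))
  have hfin := W7Nef.residueDegree_pos k ν ν.isClosedMap hd' hd hgen
  rw [hdeg] at h0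
  exact (mul_nonneg_iff_of_pos_left (by exact_mod_cast hfin)).1 h0

end Groth.Agent.S17284
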