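import Groth.Statements.S17285
import Groth.Agent.Nakai.GrowthGeneral

set_option autoImplicit false
universe u
open CategoryTheory CategoryTheory.Limits AlgebraicGeometry TopologicalSpace
open Variety

namespace Groth.Agent.S17285

/-- Let X and Y be proper varieties over a field k (integral schemes, proper over k) of the same
dimension d, f : Y → X a birational k-morphism (generic point to generic point, with a single point
in that fibre and the same residue field there), and L an invertible O_X-module. Then L is big,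
meaning that some real c > 0 has dim_k H^0(X, L^{⊗n}) > c·n^d for all sufficiently large n, if and
only if f^*L is big on Y in the same sense. (The source states this for birational morphisms of
proper schemes over k; it is stated here for integral X and Y, the case in which the printed
argument's injectivity of O_X → f_*O_Y holds.) -/
theorem result (k : Type u) [Field k] (X Y : Scheme.{u})
    [X.Over (Spec (CommRingCat.of k))] [IsProper (X ↘ (Spec (CommRingCat.of k)))] [IsIntegral X]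
    [Y.Over (Spec (CommRingCat.of k))] [IsProper (Y ↘ (Spec (CommRingCat.of k)))] [IsIntegral Y]
    (f : Y ⟶ X) (hf : f ≫ (X ↘ (Spec (CommRingCat.of k))) = Y ↘ (Spec (CommRingCat.of k))) (hbir : RadPt.IsBirational f)
    (d : ℕ) (hdimX : topologicalKrullDim X = d) (hdimY : topologicalKrullDim Y = d)
    (L : X.Modules) (hL : PicF.IsInvertible L) :
    (∃ c : ℝ, 0 < c ∧ ∀ᶠ n : ℕ in Filter.atTop,
        c * (n : ℝ) ^ d < (Module.finrank k (Coh.HH X (CohB1.tensorPow L n) 0) : ℝ)) ↔
      (∃ c : ℝ, 0 < c ∧ ∀ᶠ n : ℕ in Filter.atTop,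
        c * (n : ℝ) ^ d < (Module.finrank k (Coh.HH Y (CohB1.tensorPow ((Scheme.Modules.pullback f).obj L) n) 0) : ℝ)) := by
  obtain ⟨h1, C, h2⟩ := Groth.Agent.Nakai.eventually_big_of_pullback k f hf hbir d hdimX hL
  refine ⟨fun ⟨c, hc, h⟩ => ⟨c, hc, h.mono fun n hn => lt_of_lt_of_le hn (Nat.cast_le.2 (h1 n))⟩,
    fun ⟨c, hc, h⟩ => ?_⟩
  rcases Nat.eq_zero_or_pos d with rfl | hd0
  · haveI := Groth.Agent.Nakai.subsingleton_of_dim_zero k (X := X) hdimX
    refine ⟨1 / 2, by norm_num, Filter.Eventually.of_forall fun n => ?_⟩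
    obtain ⟨e⟩ := Groth.Agent.Nakai.nonempty_iso_one_of_subsingleton (X := X) (TMul.isInvertible_tensorPow hL n)
    have h3 : 0 < Groth.Agent.CurveRR.h k (CohB1.tensorPow L n) 0 := by
      rw [← Groth.Agent.CurveRR.h_eq_of_iso (k := k) e 0]
      exact Groth.Agent.Nakai.h0_one_pos k
    have h4 : (1 : ℝ) ≤ (Module.finrank k (Coh.HH X (CohB1.tensorPow L n) 0) : ℝ) := by exact_mod_cast h3
    rw [pow_zero]
    linarith
  obtain ⟨N, hN⟩ := exists_nat_gt (|(C : ℝ)| * 2 ^ (d - 1) / (c / 2))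
  refine ⟨c / 2, by positivity, (h.and (Filter.eventually_ge_atTop (N + 1))).mono fun n ⟨hn, hn1⟩ => ?_⟩
  have h3 : (((Module.finrank k (Coh.HH Y (CohB1.tensorPow ((Scheme.Modules.pullback f).obj L) n) 0) : ℕ) : ℚ) : ℝ) ≤
      (((Module.finrank k (Coh.HH X (CohB1.tensorPow L n) 0) : ℕ) : ℚ) + C * ((n : ℚ) + 1) ^ (d - 1) : ℚ) :=
    Rat.cast_le.2 (h2 n)
  push_cast at h3
  have hn' : (N : ℝ) + 1 ≤ n := by exact_mod_cast hn1
  have hn0 : (1 : ℝ) ≤ n := by linarith [(Nat.cast_nonneg N : (0 : ℝ) ≤ N)]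
  have h5 : (C : ℝ) * ((n : ℝ) + 1) ^ (d - 1) ≤ |(C : ℝ)| * 2 ^ (d - 1) * (n : ℝ) ^ (d - 1) := by
    rw [mul_assoc, ← mul_pow]
    exact (mul_le_mul_of_nonneg_right (le_abs_self _) (by positivity)).trans
      (mul_le_mul_of_nonneg_left (pow_le_pow_left₀ (by positivity) (by linarith) _) (abs_nonneg _))
  rw [div_lt_iff₀ (by positivity)] at hN
  have h6 : |(C : ℝ)| * 2 ^ (d - 1) * (n : ℝ) ^ (d - 1) ≤ c / 2 * (n : ℝ) ^ d := by
    calc |(C : ℝ)| * 2 ^ (d - 1) * (n : ℝ) ^ (d - 1) ≤ c / 2 * n * (n : ℝ) ^ (d - 1) :=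
          mul_le_mul_of_nonneg_right (by nlinarith) (by positivity)
      _ = c / 2 * (n : ℝ) ^ d := by rw [mul_assoc, ← pow_succ', Nat.sub_add_cancel hd0]
  linarith

end Groth.Agent.S17285
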