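import Groth.Statements.S1729
import Mathlib.RingTheory.LocalRing.Module
import Mathlib.RingTheory.Nakayama
import Mathlib.Tactic

set_option autoImplicit false
set_option linter.style.haveILetI false

universe u
open Dual2

namespace Groth.Agent.S1729

/-- Over a local ring, every finite module M admits a projective cover: a surjection from a projective
module P onto M such that no proper submodule of P maps onto M. -/
theorem result (R : Type u) [CommRing R] [IsLocalRing R] (M : Type u) [AddCommGroup M] [Module R M] [Module.Finite R M] : ∃ (P : Type u) (_ : AddCommGroup P) (_ : Module R P) (f : P →ₗ[R] M), Dual2.IsProjectiveCover f := by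
  classical
  let κ := IsLocalRing.ResidueField R
  let mk := TensorProduct.mk R κ M 1
  let b := Module.finBasis κ (TensorProduct R κ M)
  choose g hg using fun i => TensorProduct.mk_surjective R M κ IsLocalRing.residue_surjective (b i)
  let f : (Fin (Module.finrank κ (TensorProduct R κ M)) → R) →ₗ[R] M := Fintype.linearCombination R g
  refine ⟨_, inferInstance, inferInstance, f, inferInstance, ?_, ?_⟩
  · rw [← LinearMap.range_eq_top, ← IsLocalRing.map_tensorProduct_mk_eq_top, _root_.eq_top_iff]
    rintro v -
    rw [← b.sum_repr v]
    refine Submodule.sum_mem _ fun i _ => ?_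
    obtain ⟨r, hr⟩ := IsLocalRing.residue_surjective (b.repr v i)
    rw [← hr, ← IsLocalRing.ResidueField.algebraMap_eq, algebraMap_smul]
    refine Submodule.smul_mem _ _ ⟨g i, ⟨Pi.single i 1, ?_⟩, hg i⟩
    simp [f, Fintype.linearCombination_apply, Pi.single_apply, ite_smul]
  · intro N hN
    refine top_le_iff.1 (Submodule.le_of_le_smul_of_le_jacobson_bot (I := IsLocalRing.maximalIdeal R)
      Module.Finite.fg_top (IsLocalRing.maximalIdeal_le_jacobson _) fun x _ => ?_)
    obtain ⟨y, hy, hyx⟩ : f x ∈ Submodule.map f N := hN ▸ Submodule.mem_top
    have hz : ∀ i, (x - y) i ∈ IsLocalRing.maximalIdeal R := by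
      have h0 : mk (f (x - y)) = 0 := by rw [map_sub, hyx, sub_self, map_zero]
      simp only [f, Fintype.linearCombination_apply, map_sum, map_smul] at h0
      rw [Finset.sum_congr rfl fun i _ => (show (x - y) i • mk (g i) =
        (algebraMap R κ ((x - y) i)) • b i by rw [algebraMap_smul]; exact congrArg _ (hg i))] at h0
      intro i
      rw [← IsLocalRing.residue_eq_zero_iff]
      exact Fintype.linearIndependent_iff.1 b.linearIndependent _ h0 i
    rw [← add_sub_cancel y x]
    refine Submodule.add_mem_sup hy ?_
    rw [pi_eq_sum_univ (x - y)]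
    exact Submodule.sum_mem _ fun i _ => Submodule.smul_mem_smul (hz i) Submodule.mem_top

end Groth.Agent.S1729
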