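import Groth.Statements.S17308
import Groth.Agent.CurvFieldPt.LocP
import Groth.Agent.LciSp.Basic
import Groth.Agent.S8661
import Groth.Agent.S8658

set_option autoImplicit false
universe u
open CurvSt

namespace Groth.Agent.S17308

open CategoryTheory AlgebraicGeometry in
/-- Let X be a proper scheme of dimension at most 1 over a field k with structure morphism p, and Spec k
→ S a point of the base. The classifying object of X in the stack of curves over S lies in the local
complete intersection open substack — by definition: the morphism of sheaves h_X → h_{Spec k}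
induced by p is a Koszul morphism etale locally on every chart diagram — if and only if X is a local
complete intersection over k, i.e. p is Koszul at every point of X (near each point, locally of
finite type and a Koszul-regular immersion into a scheme smooth over k). -/
theorem result (S : Scheme.{u}) (k : Type u) [Field k] (t : Spec (CommRingCat.of k) ⟶ S)
    (X : Scheme.{u}) (p : X ⟶ Spec (CommRingCat.of k)) [IsProper p] (hdim : topologicalKrullDim ↥X ≤ 1) :
    AlgSp.IsLCIMor ((AlgSp.yon S).map (Over.homMk p rfl : Over.mk (p ≫ t) ⟶ Over.mk t)) ↔ ∀ x : ↥X, Synt.IsKoszulAt p x := by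
  refine ⟨fun H => AlgSp.locP_yon_map H, fun H => ?_⟩
  refine (Groth.Agent.CurvFieldPt.locP_yon_iff_of_charts _).2 ?_
  intro U V a b h ha hb e
  haveI := ha
  haveI := hb
  have hU : ∀ u, Synt.IsKoszulAt (h.left ≫ b.left) u := by
    rw [← e]
    exact Groth.Agent.S8661.result a.left p (Groth.Agent.LciSp.isKoszulAt_of_etale a.left) H
  have hP := Groth.Agent.S8658.result (h.left ≫ b.left) b.left (Limits.pullback.snd (h.left ≫ b.left) b.left)
    (Limits.pullback.fst (h.left ≫ b.left) b.left) (IsPullback.of_hasPullback _ _) hU
  haveI : Etale (Limits.pullback.lift (f := h.left ≫ b.left) (g := b.left) (𝟙 _) h.left (by simp)) := by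
    haveI : Etale (Limits.pullback.lift (f := h.left ≫ b.left) (g := b.left) (𝟙 _) h.left (by simp) ≫
        Limits.pullback.fst (h.left ≫ b.left) b.left) := by
      rw [Limits.pullback.lift_fst]; infer_instance
    exact Etale.of_comp _ (Limits.pullback.fst (h.left ≫ b.left) b.left)
  have hh := Groth.Agent.S8661.result (Limits.pullback.lift (f := h.left ≫ b.left) (g := b.left) (𝟙 _) h.left (Category.id_comp _))
    (Limits.pullback.snd (h.left ≫ b.left) b.left) (Groth.Agent.LciSp.isKoszulAt_of_etale _) hP
  rwa [Limits.pullback.lift_snd] at hh

end Groth.Agent.S17308
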