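import Groth.Statements.S1731
import Groth.Agent.ExtFlat.Adj
import Mathlib

set_option autoImplicit false
universe u
open CategoryTheory
open scoped TensorProduct
attribute [local instance] HasDerivedCategory.standard
open LocCoh

namespace Groth.Agent.S1731

/-- Statement for modules: let A → B be a flat ring map and I a finitely generated ideal of A such that
A → B/IB is surjective with kernel I (so A/I ≅ B/IB). If M is an I-power torsion A-module, then for
every A-module N and every integer i the group of maps M → N[i] in D(A) is isomorphic to the group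
of maps B ⊗_A M → (B ⊗_A N)[i] in D(B). (Only the existence of an isomorphism is asserted; the
published statement shows that the base-change map is one.) -/
theorem result (A B : Type u) [CommRing A] [CommRing B] [Algebra A B] [Module.Flat A B] (I : Ideal A) (hI : I.FG) (hs : Function.Surjective ((Ideal.Quotient.mk (I.map (algebraMap A B))).comp (algebraMap A B))) (hk : RingHom.ker ((Ideal.Quotient.mk (I.map (algebraMap A B))).comp (algebraMap A B)) = I) (M N : Type u) [AddCommGroup M] [Module A M] [AddCommGroup N] [Module A N] (hM : LocCoh.IsPowerTorsion I M) (i : ℤ) : Nonempty ((Dual.inD A M ⟶ (Dual.inD A N)⟦i⟧) ≃+ (Dual.inD B (B ⊗[A] M) ⟶ (Dual.inD B (B ⊗[A] N))⟦i⟧)) := by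
  have aux : ∀ (R : Type u) [CommRing R] (X Y : ModuleCat.{u} R) (j : ℤ), j < 0 →
      Subsingleton ((DerivedCategory.singleFunctor (ModuleCat.{u} R) 0).obj X ⟶
        ((DerivedCategory.singleFunctor (ModuleCat.{u} R) 0).obj Y)⟦j⟧) := fun R _ X Y j hj => by
    refine ⟨fun f g => ?_⟩
    haveI := DerivedCategory.TStructure.t.isGE_shift ((DerivedCategory.singleFunctor (ModuleCat.{u} R) 0).obj Y) 0 j (-j)
    rw [DerivedCategory.TStructure.t.zero f 0 (-j), DerivedCategory.TStructure.t.zero g 0 (-j)]
  rcases i with q | q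
  · obtain ⟨e⟩ := ExtFlat.nonempty_ext_baseChange (B := B) I hI hs hk M N hM q
    exact ⟨(Abelian.Ext.homAddEquiv.symm.trans e).trans Abelian.Ext.homAddEquiv⟩
  · haveI := aux A (ModuleCat.of A M) (ModuleCat.of A N) (Int.negSucc q) (Int.negSucc_lt_zero q)
    haveI := aux B (ModuleCat.of B (B ⊗[A] M)) (ModuleCat.of B (B ⊗[A] N)) (Int.negSucc q) (Int.negSucc_lt_zero q)
    haveI : Unique (Dual.inD A M ⟶ (Dual.inD A N)⟦Int.negSucc q⟧) := uniqueOfSubsingleton 0
    haveI : Unique (Dual.inD B (B ⊗[A] M) ⟶ (Dual.inD B (B ⊗[A] N))⟦Int.negSucc q⟧) := uniqueOfSubsingleton 0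
    exact ⟨AddEquiv.ofUnique⟩

end Groth.Agent.S1731
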