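import Groth.Statements.S17310
import Groth.Agent.CurvFieldPt.Fibres

set_option autoImplicit false
universe u
open CurvSt

namespace Groth.Agent.S17310

open CategoryTheory AlgebraicGeometry in
/-- Let X be a proper scheme of dimension at most 1 over a field k with structure morphism p, and Spec k
→ S a point of the base. The classifying object of X in the stack of curves over S lies in the open
substack of curves with geometrically reduced, connected fibres of dimension 1 — by definition:
every geometric fibre of h_X → h_{Spec k}, realised as a scheme over an algebraically closed field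
through a cartesian square of sheaves, is reduced, connected and of Krull dimension 1 — if and only
if X is geometrically reduced and geometrically connected over k and has Krull dimension 1. -/
theorem result (S : Scheme.{u}) (k : Type u) [Field k] (t : Spec (CommRingCat.of k) ⟶ S)
    (X : Scheme.{u}) (p : X ⟶ Spec (CommRingCat.of k)) [IsProper p] (hdim : topologicalKrullDim ↥X ≤ 1) :
    CurvSt.GeomFib (fun _ _ _ X' _ _ => IsReduced X' ∧ ConnectedSpace ↥X' ∧ topologicalKrullDim ↥X' = 1) ((CurvSt.toSpFam S 0).obj ⟨Over.mk t, X, p, Fin.elim0, fun i => i.elim0⟩) ↔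
      GeometricallyReduced p ∧ GeometricallyConnected p ∧ topologicalKrullDim ↥X = 1 := by
  rw [Groth.Agent.CurvFieldPt.geomFib_iff (⟨Over.mk t, X, p, Fin.elim0, fun i => i.elim0⟩ : CurvSt.PtFamObj S 0)
    (fun _ _ _ X' _ => IsReduced X' ∧ ConnectedSpace ↥X' ∧ topologicalKrullDim ↥X' = 1)]
  constructor
  · intro H
    refine ⟨Groth.Agent.CurvFieldPt.geometricallyReduced_of_algClosed p fun Ω _ _ s X' q i h => (H Ω s X' q i h).1,
      Groth.Agent.CurvFieldPt.geometricallyConnected_of_algClosed p fun Ω _ _ s X' q i h => (H Ω s X' q i h).2.1, ?_⟩
    let s : Spec (CommRingCat.of (AlgebraicClosure k)) ⟶ Spec (CommRingCat.of k) :=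
      Groth.Agent.CurvFieldPt.closureMap k
    have h := IsPullback.of_hasPullback p s
    exact (Groth.Agent.CurvFieldPt.dim_eq p h).trans (H _ s _ _ _ h).2.2
  · intro hp Ω _ _ s X' q i h
    exact ⟨hp.1.geometrically_isReduced s i q h, hp.2.1.geometrically_connectedSpace s i q h,
      (Groth.Agent.CurvFieldPt.dim_eq p h).symm.trans hp.2.2⟩

end Groth.Agent.S17310
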