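import Groth.Statements.S17311
import Groth.Agent.CurvFieldPt.Fibres

set_option autoImplicit false
universe u
open CurvSt

namespace Groth.Agent.S17311

open CategoryTheory AlgebraicGeometry in
/-- Let X be a proper scheme of dimension at most 1 over a field k with structure morphism p, and Spec k
→ S a point of the base. The classifying object of X in the stack of curves over S lies in the open
substack of curves with isolated singularities — by definition: every geometric fibre of h_X →
h_{Spec k}, realised as a scheme over an algebraically closed field Ω through a cartesian square of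
sheaves, is smooth over Ω outside a finite set of points — if and only if p : X → Spec k is smooth
outside a finite set of points of X. -/
theorem result (S : Scheme.{u}) (k : Type u) [Field k] (t : Spec (CommRingCat.of k) ⟶ S)
    (X : Scheme.{u}) (p : X ⟶ Spec (CommRingCat.of k)) [IsProper p] (hdim : topologicalKrullDim ↥X ≤ 1) :
    CurvSt.GeomFib (fun _ _ _ X' q _ => Set.Finite {x : ↥X' | ¬ ∃ U : X'.Opens, x ∈ U ∧ Smooth (U.ι ≫ q)}) ((CurvSt.toSpFam S 0).obj ⟨Over.mk t, X, p, Fin.elim0, fun i => i.elim0⟩) ↔
      Set.Finite {x : ↥X | ¬ ∃ U : X.Opens, x ∈ U ∧ Smooth (U.ι ≫ p)} := by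
  rw [Groth.Agent.CurvFieldPt.geomFib_iff (⟨Over.mk t, X, p, Fin.elim0, fun i => i.elim0⟩ : CurvSt.PtFamObj S 0)
    (fun _ _ _ X' q => Set.Finite {x : ↥X' | ¬ ∃ U : X'.Opens, x ∈ U ∧ Smooth (U.ι ≫ q)})]
  constructor
  · intro H
    let s : Spec (CommRingCat.of (AlgebraicClosure k)) ⟶ Spec (CommRingCat.of k) :=
      Groth.Agent.CurvFieldPt.closureMap k
    have h := IsPullback.of_hasPullback p s
    exact (Groth.Agent.CurvFieldPt.finite_singular_iff p h).1 (H _ s _ _ _ h)
  · intro hp Ω _ _ s X' q i h
    exact (Groth.Agent.CurvFieldPt.finite_singular_iff p h).2 hp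

end Groth.Agent.S17311
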