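import Groth.Statements.S1732
import Groth.Agent.H4Easy.Batch38

set_option autoImplicit false
universe u
open LocCoh

namespace Groth.Agent.S1732

/-- Let k be a field of characteristic zero, d ≥ 1, A = k[[x_1, …, x_d]] with maximal ideal m, and E an
injective hull of the residue field of A. Let M be an m-power torsion A-module equipped with
additive maps D_1, …, D_d such that D_i(f z) = θ_i(f) z + f D_i(z), where θ_i is the k-derivation of
A with θ_i(x_j) = δ_ij (the partial derivative in x_i). Then M is, up to isomorphism, a direct sum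
of copies of E. -/
theorem result (k : Type u) [Field k] [CharZero k] (d : ℕ) (hd : 1 ≤ d) (E : Type u) [AddCommGroup E] [Module (MvPowerSeries (Fin d) k) E] (e : IsLocalRing.ResidueField (MvPowerSeries (Fin d) k) →ₗ[MvPowerSeries (Fin d) k] E) (he : InjHull.IsInjectiveHull e) (θ : Fin d → Derivation k (MvPowerSeries (Fin d) k) (MvPowerSeries (Fin d) k)) (hθ : ∀ i j : Fin d, θ i (MvPowerSeries.X j) = if i = j then 1 else 0) (M : Type u) [AddCommGroup M] [Module (MvPowerSeries (Fin d) k) M] (hM : LocCoh.IsPowerTorsion (IsLocalRing.maximalIdeal (MvPowerSeries (Fin d) k)) M) (D : Fin d → M →+ M) (hD : ∀ (i : Fin d) (f : MvPowerSeries (Fin d) k) (z : M), D i (f • z) = θ i f • z + f • D i z) : ∃ J : Type u, Nonempty (M ≃ₗ[MvPowerSeries (Fin d) k] (J →₀ E)) := by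
  have hx : Ideal.span (Set.range (MvPowerSeries.X : Fin d → MvPowerSeries (Fin d) k)) =
      IsLocalRing.maximalIdeal (MvPowerSeries (Fin d) k) := Groth.Agent.ArtPow.span_X_eq_maximalIdeal
  have hunit : ∀ n : ℕ, IsUnit ((n + 1 : ℕ) : MvPowerSeries (Fin d) k) := fun n => by
    rw [MvPowerSeries.isUnit_iff_constantCoeff, map_natCast]
    exact isUnit_iff_ne_zero.2 (Nat.cast_ne_zero.2 n.succ_ne_zero)
  exact Groth.Agent.H4Easy.powerTorsion_derivations_sum_hull MvPowerSeries.X hx hunit
    (fun i => θ i) hθ e he hM D hD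

end Groth.Agent.S1732
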