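import Groth.Statements.S17321
import Mathlib.RingTheory.Kaehler.Basic
import Mathlib.RingTheory.Unramified.Field
import Mathlib.RingTheory.Artinian.Algebra
import Mathlib.RingTheory.Ideal.AssociatedPrime.Finiteness
import Mathlib.RingTheory.Ideal.AssociatedPrime.Localization
import Mathlib.FieldTheory.IsAlgClosed.Basic
import Mathlib.RingTheory.Jacobson.Ideal
import Mathlib.RingTheory.Unramified.Basic

set_option autoImplicit false
universe u v
open CAlg

namespace Groth.Agent.S17321

/-- Let k be an algebraically closed field and A a commutative k-algebra which is finite-dimensional as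
a k-vector space (the coordinate ring of a finite k-scheme). Then the space Der(A) of k-derivations
A → A is zero if and only if A is reduced. -/
theorem result (k : Type u) [Field k] [IsAlgClosed k]
    (A : Type v) [CommRing A] [Algebra k A] [Module.Finite k A] :
    Subsingleton (Derivation k A A) ↔ IsReduced A := by
  haveI : IsArtinianRing A := IsArtinianRing.of_finite k A
  constructor
  · intro h
    haveI : Algebra.FiniteType k A := inferInstance
    haveI : Algebra.EssFiniteType k A := inferInstance
    by_contra hred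
    have hΩ : Nontrivial (Ω[A⁄k]) := by
      by_contra hs
      rw [not_nontrivial_iff_subsingleton] at hs
      haveI : Algebra.FormallyUnramified k A := ⟨hs⟩
      exact hred (Algebra.FormallyUnramified.isReduced_of_field k A)
    haveI : Module.Finite A (Ω[A⁄k]) := inferInstance
    haveI : IsNoetherianRing A := IsNoetherianRing.of_finite k A
    obtain ⟨N, hN, -⟩ := (IsCoatomic.eq_top_or_exists_le_coatom (⊥ : Submodule A (Ω[A⁄k]))).resolve_left bot_ne_top
    haveI : IsSimpleModule A (Ω[A⁄k] ⧸ N) := isSimpleModule_iff_isCoatom.2 hN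
    obtain ⟨m, hm, ⟨e⟩⟩ := isSimpleModule_iff_quot_maximal.1 (inferInstance : IsSimpleModule A (Ω[A⁄k] ⧸ N))
    haveI := hm
    have hass : m ∈ associatedPrimes A A := by
      refine Module.associatedPrimes.minimalPrimes_annihilator_subset_associatedPrimes A A ?_
      have h0 : Module.annihilator A A = ⊥ := (Submodule.eq_bot_iff _).2 fun a ha => by
        simpa using Module.mem_annihilator.1 ha 1
      rw [h0]
      exact ⟨⟨hm.isPrime, bot_le⟩, fun q hq hqm => ((haveI := hq.1; IsArtinianRing.isMaximal_of_isPrime q).eq_of_le hm.ne_top hqm).ge⟩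
    obtain ⟨-, ⟨f, hf⟩⟩ := (isAssociatedPrime_iff_exists_injective_linearMap m A).1 (AssociatedPrimes.mem_iff.1 hass)
    let L : Ω[A⁄k] →ₗ[A] A := f ∘ₗ e.toLinearMap ∘ₗ N.mkQ
    have hL0 : L = 0 := (KaehlerDifferential.linearMapEquivDerivation k A).injective (Subsingleton.elim _ _)
    obtain ⟨w, hw⟩ := N.mkQ_surjective (e.symm (Ideal.Quotient.mk m 1))
    have h1 : L w = 0 := by rw [hL0, LinearMap.zero_apply]
    change f (e (N.mkQ w)) = 0 at h1
    rw [hw, e.apply_symm_apply] at h1
    have h2 : Ideal.Quotient.mk m 1 = 0 := hf (h1.trans (map_zero f).symm)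
    exact hm.ne_top ((Ideal.eq_top_iff_one m).2 (Ideal.Quotient.eq_zero_iff_mem.1 h2))
  · intro h
    refine ⟨fun D D' => ?_⟩
    suffices ∀ D : Derivation k A A, D = 0 by rw [this D, this D']
    intro D
    apply Derivation.ext
    intro a
    change D a = 0
    have hall : ∀ m : Ideal A, m.IsMaximal → D a ∈ m := by
      intro m hm
      haveI := hm
      letI : Field (A ⧸ m) := Ideal.Quotient.field m
      obtain ⟨c, hc⟩ := (IsAlgClosed.algebraMap_bijective_of_isIntegral (k := k) (K := A ⧸ m)).2 (Ideal.Quotient.mk m a)
      have hu : a - algebraMap k A c ∈ m := by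
        rw [← Ideal.Quotient.eq_zero_iff_mem, map_sub, sub_eq_zero, ← hc]; rfl
      have hsq : ∀ u ∈ m, D u ∈ m := by
        intro u hu
        obtain ⟨n, v, hv⟩ : ∃ (n : ℕ) (v : A), u ^ (n + 1) * v = u ^ n := by
          obtain ⟨n, v, hv⟩ := IsArtinian.exists_pow_succ_smul_dvd u (1 : A)
          exact ⟨n, v, by simpa [smul_eq_mul, pow_succ, mul_comm, mul_left_comm, mul_assoc] using hv⟩
        have h0 : u * (1 - u * v) = 0 := by
          apply eq_zero_of_pow_eq_zero (n := n + 1)
          have : u ^ (n + 1) * (1 - u * v) = 0 := by linear_combination -(u * hv)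
          rw [mul_pow, pow_succ (1 - u * v), ← mul_assoc, mul_comm (u ^ (n+1)), mul_assoc, this, mul_zero]
        have hu2 : u = u * (u * v) := by linear_combination h0
        rw [hu2, D.leibniz, smul_eq_mul, smul_eq_mul]
        exact add_mem (m.mul_mem_right _ hu) (m.mul_mem_right _ (m.mul_mem_right _ hu))
      have := hsq _ hu
      rwa [map_sub, Derivation.map_algebraMap, sub_zero] at this
    have hj : D a ∈ Ring.jacobson A := by
      rw [Ring.jacobson_eq_sInf_isMaximal, Ideal.mem_sInf]
      exact fun {m} hm => hall m hm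
    have hn : IsNilpotent (D a) := by
      have h2 := IsArtinianRing.jacobson_eq_radical (⊥ : Ideal A)
      rw [← mem_nilradical]
      rw [Ring.jacobson_eq_sInf_isMaximal, Ideal.mem_sInf] at hj
      change D a ∈ (⊥ : Ideal A).radical
      rw [← h2, Ideal.jacobson, Ideal.mem_sInf]
      exact fun {m} hm => hj hm.2
    exact IsReduced.eq_zero _ hn

end Groth.Agent.S17321
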