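import Groth.Statements.S17323
import Groth.Agent.FinAlgClosed.Basic

set_option autoImplicit false
universe u v
open CAlg Groth.Agent

namespace Groth.Agent.S17323

/-- Let k be an algebraically closed field and A a commutative k-algebra which is finite-dimensional as
a k-vector space. Then A has a largest reduced subalgebra: a k-subalgebra B which is reduced and
contains every reduced k-subalgebra of A; moreover the composite of the inclusion B → A with the
projection A → A/nilradical(A) is bijective. -/
theorem result (k : Type u) [Field k] [IsAlgClosed k]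
    (A : Type v) [CommRing A] [Algebra k A] [Module.Finite k A] :
    ∃ B : Subalgebra k A, IsReduced ↥B ∧ (∀ C : Subalgebra k A, IsReduced ↥C → C ≤ B) ∧
      Function.Bijective ((Ideal.Quotient.mkₐ k (nilradical A)).comp B.val) := by
  obtain ⟨s, hs, -⟩ := FinAlgClosed.existsUnique_section k A
  have hs' : ∀ x, Ideal.Quotient.mk (nilradical A) (s x) = x := fun x => AlgHom.congr_fun hs x
  have hinj : Function.Injective s := Function.LeftInverse.injective hs'
  refine ⟨s.range, ?_, ?_, ?_, fun x => ⟨⟨s x, x, rfl⟩, hs' x⟩⟩
  · have : IsReduced (A ⧸ nilradical A) := (Ideal.isRadical_iff_quotient_reduced _).1 (Ideal.radical_isRadical _)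
    exact isReduced_of_injective (AlgEquiv.ofInjective s hinj).symm.toAlgHom (AlgEquiv.ofInjective s hinj).symm.injective
  · intro C hC c hc
    have := FinAlgClosed.formallyEtale_of_isReduced k C
    have : IsArtinianRing A := IsArtinianRing.of_finite k A
    have h := Algebra.FormallyUnramified.lift_unique (R := k) (A := C) (nilradical A) IsArtinianRing.isNilpotent_nilradical
      C.val ((s.comp (Ideal.Quotient.mkₐ k (nilradical A))).comp C.val)
      (AlgHom.ext fun x => (hs' _).symm)
    exact ⟨Ideal.Quotient.mk (nilradical A) c, (AlgHom.congr_fun h ⟨c, hc⟩).symm⟩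
  · rintro ⟨_, x, rfl⟩ ⟨_, y, rfl⟩ h
    have h1 : x = y := (hs' x).symm.trans (h.trans (hs' y))
    subst h1
    rfl

end Groth.Agent.S17323
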