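import Groth.Statements.S17324
import Mathlib.RingTheory.Artinian.Ring
import Mathlib.RingTheory.LocalRing.ResidueField.Basic
import Mathlib.FieldTheory.IsAlgClosed.Basic
import Mathlib.RingTheory.Jacobson.Ring
import Mathlib.RingTheory.HopkinsLevitzki

set_option autoImplicit false
universe u v
open CAlg

namespace Groth.Agent.S17324

/-- (i) ⟺ (ii): let k be an algebraically closed field, A a commutative k-algebra which is
finite-dimensional as a k-vector space and is a local ring with maximal ideal m, and a_1, …, a_m ∈
m. Then A is generated as a k-algebra by a_1, …, a_m if and only if m is generated as an ideal by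
a_1, …, a_m. (The printed lemma has a third equivalent condition, that the images of the a_i span
m/m²; its equivalence with (ii) is Nakayama's lemma.) -/
theorem result (k : Type u) [Field k] [IsAlgClosed k]
    (A : Type v) [CommRing A] [Algebra k A] [Module.Finite k A] [IsLocalRing A]
    (m : ℕ) (a : Fin m → A) (ha : ∀ i, a i ∈ IsLocalRing.maximalIdeal A) :
    Algebra.adjoin k (Set.range a) = ⊤ ↔ Ideal.span (Set.range a) = IsLocalRing.maximalIdeal A := by
  classical
  have : IsArtinianRing A := IsArtinianRing.of_finite k A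
  set J := Ideal.span (Set.range a) with hJ
  have hle : J ≤ IsLocalRing.maximalIdeal A := Ideal.span_le.2 (by rintro _ ⟨i, rfl⟩; exact ha i)
  have hres : ∀ x : A, ∃ c : k, x - algebraMap k A c ∈ IsLocalRing.maximalIdeal A := by
    intro x
    have : Module.Finite k (IsLocalRing.ResidueField A) := inferInstance
    obtain ⟨c, hc⟩ := (IsAlgClosed.algebraMap_bijective_of_isIntegral (k := k) (K := IsLocalRing.ResidueField A)).2 (IsLocalRing.residue A x)
    refine ⟨c, (IsLocalRing.residue_eq_zero_iff _).1 ?_⟩
    rw [map_sub, ← hc, IsScalarTower.algebraMap_apply k A (IsLocalRing.ResidueField A), IsLocalRing.ResidueField.algebraMap_eq, sub_self]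
  constructor
  · intro h
    refine le_antisymm hle fun y hy => ?_
    have key : ∀ x ∈ Algebra.adjoin k (Set.range a), ∃ c : k, x - algebraMap k A c ∈ J := by
      intro x hx
      induction hx using Algebra.adjoin_induction with
      | mem x hx => exact ⟨0, by rw [map_zero, sub_zero]; exact Ideal.subset_span hx⟩
      | algebraMap r => exact ⟨r, by simp⟩
      | add x y _ _ hx hy =>
        obtain ⟨c, hc⟩ := hx
        obtain ⟨d, hd⟩ := hy
        exact ⟨c + d, by rw [map_add, add_sub_add_comm]; exact J.add_mem hc hd⟩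
      | mul x y _ _ hx hy =>
        obtain ⟨c, hc⟩ := hx
        obtain ⟨d, hd⟩ := hy
        refine ⟨c * d, ?_⟩
        rw [map_mul, show x * y - algebraMap k A c * algebraMap k A d = (x - algebraMap k A c) * y + algebraMap k A c * (y - algebraMap k A d) by ring]
        exact J.add_mem (J.mul_mem_right _ hc) (J.mul_mem_left _ hd)
    obtain ⟨c, hc⟩ := key y (h ▸ Algebra.mem_top)
    by_cases hc0 : c = 0
    · simpa [hc0] using hc
    · exfalso
      have h1 : algebraMap k A c ∈ IsLocalRing.maximalIdeal A := by simpa using Ideal.sub_mem _ hy (hle hc)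
      exact h1 ((IsUnit.mk0 c hc0).map (algebraMap k A))
  · intro h
    let B := Algebra.adjoin k (Set.range a)
    have hbase : ∀ x : A, ∃ v ∈ B, x - v ∈ J := fun x => (hres x).elim fun c hc => ⟨_, B.algebraMap_mem c, h ▸ hc⟩
    have hpow : ∀ j : ℕ, ∀ y ∈ J ^ j, ∃ v ∈ B, y - v ∈ J ^ (j + 1) := by
      intro j
      induction j with
      | zero => simpa using hbase
      | succ j ih =>
        intro y hy
        rw [pow_succ] at hy
        refine Submodule.mul_induction_on hy (fun p hp q hq => ?_) fun p q ⟨v, hv, h1⟩ ⟨w, hw, h2⟩ => ⟨v + w, B.add_mem hv hw, by rw [add_sub_add_comm]; exact (J ^ (j + 1 + 1)).add_mem h1 h2⟩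
        rw [hJ] at hq
        induction hq using Submodule.span_induction generalizing p with
        | mem g hg =>
          obtain ⟨v, hv, h1⟩ := ih p hp
          refine ⟨v * g, B.mul_mem hv (Algebra.subset_adjoin hg), ?_⟩
          rw [← sub_mul, pow_succ]
          exact Ideal.mul_mem_mul h1 (Ideal.subset_span hg)
        | zero => exact ⟨0, B.zero_mem, by simp⟩
        | add b c _ _ hb hc =>
          obtain ⟨v, hv, h1⟩ := hb p hp
          obtain ⟨w, hw, h2⟩ := hc p hp
          exact ⟨v + w, B.add_mem hv hw, by rw [mul_add, add_sub_add_comm]; exact (J ^ (j + 1 + 1)).add_mem h1 h2⟩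
        | smul r b _ hb =>
          obtain ⟨v, hv, h1⟩ := hb (r * p) (Ideal.mul_mem_left _ _ hp)
          exact ⟨v, hv, by rwa [smul_eq_mul, mul_left_comm, ← mul_assoc]⟩
    have hall : ∀ j : ℕ, ∀ x : A, ∃ v ∈ B, x - v ∈ J ^ j := by
      intro j
      induction j with
      | zero => exact fun x => ⟨0, B.zero_mem, by simp⟩
      | succ j ih =>
        intro x
        obtain ⟨v, hv, h1⟩ := ih x
        obtain ⟨w, hw, h2⟩ := hpow j _ h1
        exact ⟨v + w, B.add_mem hv hw, by rwa [← sub_sub]⟩
    obtain ⟨N, hN⟩ : IsNilpotent J := by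
      rw [h, ← IsLocalRing.jacobson_eq_maximalIdeal ⊥ bot_ne_top]
      exact IsArtinianRing.isNilpotent_jacobson_bot
    refine eq_top_iff.2 fun x _ => ?_
    obtain ⟨v, hv, h1⟩ := hall N x
    rw [hN, Ideal.zero_eq_bot, Ideal.mem_bot, sub_eq_zero] at h1
    exact h1 ▸ hv

end Groth.Agent.S17324
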