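import Groth.Statements.S17325
import Mathlib.FieldTheory.IsAlgClosed.Basic
import Mathlib.LinearAlgebra.FiniteDimensional.Basic
import Mathlib.Algebra.CharP.Lemmas
import Mathlib.FieldTheory.Separable
-- import your own Groth.Agent.* helpers here

set_option autoImplicit false
set_option linter.style.haveILetI false
set_option linter.unusedSimpArgs false
universe u v
open LieAlg

namespace Groth.Agent.S17325

/-- Let k be an algebraically closed field of characteristic p > 0, V a finite-dimensional k-vector
space and g a nonzero k-linear subspace of End_k(V) closed under the p-th power map u ↦ u^p. Then g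
contains a nonzero u with u^p = c u for some c ∈ k, i.e. a line k u closed under p-th powers. (The
published lemma concerns an abstract nonzero finite-dimensional restricted Lie algebra; this row
concerns subspaces of End_k(V) closed under p-th powers, a class that contains every restricted Lie
subalgebra of gl(V).) -/
theorem result (k : Type u) [Field k] [IsAlgClosed k]
    (p : ℕ) [Fact p.Prime] [CharP k p] (V : Type v) [AddCommGroup V] [Module k V] [FiniteDimensional k V]
    (g : Submodule k (Module.End k V)) (hg : ∀ u ∈ g, u ^ p ∈ g) (hne : g ≠ ⊥) :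
    ∃ u ∈ g, u ≠ 0 ∧ ∃ c : k, u ^ p = c • u := by
  classical
  have hp : p.Prime := Fact.out
  haveI : ExpChar k p := ExpChar.prime hp
  obtain ⟨u, hu, hu0⟩ := Submodule.exists_mem_ne_zero_of_ne_bot hne
  let x : ℕ → Module.End k V := fun i => u ^ (p ^ i)
  have hxg : ∀ i, x i ∈ g := by
    intro i
    induction i with
    | zero => simpa [x] using hu
    | succ i ih => simpa [x, pow_succ, pow_mul] using hg _ ih
  have hxp : ∀ i, x i ^ p = x (i + 1) := fun i => by simp [x, pow_succ, pow_mul]
  have hx0 : x 0 = u := by simp [x]
  -- first dependence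
  have hdep : ∃ N, x N ∈ Submodule.span k (Set.range fun i : Fin N => x i) := by
    by_contra hno
    push Not at hno
    have hind : ∀ N, LinearIndependent k (fun i : Fin N => x i) := by
      intro N
      induction N with
      | zero => exact linearIndependent_empty_type
      | succ N ih =>
        rw [linearIndependent_finSucc']
        exact ⟨ih, hno N⟩
    have := (hind (Module.finrank k (Module.End k V) + 1)).fintype_card_le_finrank
    simp at this
  set N := Nat.find hdep with hNdef
  have hN0 : N ≠ 0 := by
    intro h
    have := Nat.find_spec hdep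
    rw [← hNdef, h] at this
    simp [hx0] at this
    exact hu0 this
  obtain ⟨M, hM⟩ : ∃ M, N = M + 1 := ⟨N - 1, by omega⟩
  have hlast : x M ∉ Submodule.span k (Set.range fun i : Fin M => x i) :=
    Nat.find_min hdep (by omega)
  have hspec : x (M + 1) ∈ Submodule.span k (Set.range fun i : Fin (M + 1) => x i) := by
    have := Nat.find_spec hdep
    rwa [← hNdef, hM] at this
  obtain ⟨a, ha⟩ := (Submodule.mem_span_range_iff_exists_fun k).1 hspec
  let A : ℕ → k := fun i => if h : i < M + 1 then a ⟨i, h⟩ else 0
  have hA : x (M + 1) = ∑ i ∈ Finset.range (M + 1), A i • x i := by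
    rw [← ha, Finset.sum_range]
    exact Finset.sum_congr rfl fun i _ => by simp only [A, dif_pos i.2, Fin.eta]
  by_cases hall : ∀ i < M + 1, A i = 0
  · refine ⟨x M, hxg M, fun h => hlast (h ▸ zero_mem _), 0, ?_⟩
    rw [hxp, hA, zero_smul, Finset.sum_eq_zero]
    intro i hi
    rw [hall i (Finset.mem_range.1 hi), zero_smul]
  -- the additive polynomials `P i` with `P i = (P (i-1)) ^ p + A i * T ^ p`
  let P : ℕ → Polynomial k := fun i => Nat.rec (Polynomial.C (A 0) * Polynomial.X ^ p)
    (fun i q => q ^ p + Polynomial.C (A (i + 1)) * Polynomial.X ^ p) i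
  have hder : ∀ i, Polynomial.derivative (P i) = 0 := by
    intro i
    induction i with
    | zero => simp [P, Polynomial.derivative_X_pow, CharP.cast_eq_zero]
    | succ i ih =>
      simp [P, Polynomial.derivative_pow, Polynomial.derivative_X_pow, CharP.cast_eq_zero]
  have hP0 : ∀ i, (P i).coeff 0 = 0 := by
    intro i
    induction i with
    | zero => simp [P, Polynomial.coeff_X_pow, hp.ne_zero.symm]
    | succ i ih =>
      have : (P i ^ p).coeff 0 = 0 := by
        rw [Polynomial.coeff_zero_eq_eval_zero, Polynomial.eval_pow,
          ← Polynomial.coeff_zero_eq_eval_zero, ih, zero_pow hp.ne_zero]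
      simp [P, Polynomial.coeff_X_pow, this, hp.ne_zero.symm]
  have hcoef : ∀ i, ∀ j ≤ i, (P i).coeff (p ^ (i - j + 1)) = A j ^ (p ^ (i - j)) := by
    intro i
    induction i with
    | zero =>
      intro j hj
      obtain rfl : j = 0 := by omega
      simp [P]
    | succ i ih =>
      intro j hj
      have hexp : ∀ q : ℕ, (P i ^ p).coeff (p * q) = (P i).coeff q ^ p := by
        intro q
        rw [← Polynomial.map_frobenius_expand p (P i), Polynomial.map_expand,
          Polynomial.coeff_expand_mul' hp.pos, Polynomial.coeff_map, frobenius_def]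
      rcases Nat.lt_or_ge j (i + 1) with hlt | hge
      · have e : i + 1 - j + 1 = (i - j + 1) + 1 := by omega
        have hne1 : p * p ^ (i - j + 1) ≠ p := by
          intro h
          have h2 : 1 < p ^ (i - j + 1) := Nat.one_lt_pow (by omega) hp.one_lt
          exact absurd h (ne_of_gt (lt_mul_of_one_lt_right hp.pos h2))
        change (P i ^ p + Polynomial.C (A (i + 1)) * Polynomial.X ^ p).coeff _ = _
        rw [e, pow_succ', Polynomial.coeff_add, hexp, ih j (by omega)]
        rw [Polynomial.coeff_C_mul, Polynomial.coeff_X_pow, if_neg hne1, mul_zero, add_zero,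
          show i + 1 - j = (i - j) + 1 by omega, pow_succ, pow_mul]
      · obtain rfl : j = i + 1 := by omega
        change (P i ^ p + Polynomial.C (A (i + 1)) * Polynomial.X ^ p).coeff _ = _
        have h1 : (P i ^ p).coeff (p * 1) = (P i).coeff 1 ^ p := hexp 1
        have h2 : (P i).coeff 1 = 0 := by
          have := congrArg (fun q : Polynomial k => q.coeff 0) (hder i)
          simpa [Polynomial.coeff_derivative] using this
        simp only [mul_one] at h1
        simp [Polynomial.coeff_X_pow, h1, h2, zero_pow hp.ne_zero]
  have hne' : P M ≠ 0 := by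
    intro h
    apply hall
    intro i hi
    have := hcoef M i (by omega)
    rw [h, Polynomial.coeff_zero] at this
    exact eq_zero_of_pow_eq_zero this.symm
  have hsep : (P M - Polynomial.X).Separable := by
    rw [Polynomial.separable_def, Polynomial.derivative_sub, hder, Polynomial.derivative_X,
      zero_sub]
    exact isCoprime_one_right.neg_right
  obtain ⟨t, ht0, htP⟩ : ∃ t : k, t ≠ 0 ∧ (P M).eval t = t := by
    have hnod := Polynomial.nodup_roots hsep
    have hcard := (IsAlgClosed.splits (P M - Polynomial.X)).natDegree_eq_card_roots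
    have hdeg : 2 ≤ (P M - Polynomial.X).natDegree := by
      obtain ⟨i, hi, hiA⟩ : ∃ i < M + 1, A i ≠ 0 := by
        push Not at hall
        exact hall
      have h2 : 2 ≤ p ^ (M - i + 1) :=
        le_trans hp.two_le (Nat.le_self_pow (by omega) p)
      refine le_trans h2 (Polynomial.le_natDegree_of_ne_zero ?_)
      rw [Polynomial.coeff_sub, hcoef M i (by omega), Polynomial.coeff_X_of_ne_one (by omega),
        sub_zero]
      exact pow_ne_zero _ hiA
    by_contra hno
    push Not at hno
    have : (P M - Polynomial.X).roots ⊆ ({0} : Multiset k) := by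
      intro r hr
      rw [Polynomial.mem_roots'] at hr
      by_contra hr0
      exact hno r (by simpa using hr0) (sub_eq_zero.1 (by simpa [Polynomial.IsRoot] using hr.2))
    have := Multiset.card_le_card ((Multiset.le_iff_subset hnod).2 this)
    simp at this
    omega
  let b : ℕ → k := fun i => (P i).eval t
  have hb0 : b 0 = A 0 * t ^ p := by simp [b, P]
  have hb : ∀ i, b (i + 1) = b i ^ p + A (i + 1) * t ^ p := fun i => by simp [b, P]
  let v : Module.End k V := ∑ i ∈ Finset.range (M + 1), b i • x i
  refine ⟨v, Submodule.sum_mem _ fun i _ => Submodule.smul_mem _ _ (hxg i), ?_, 1, ?_⟩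
  · intro hv
    apply hlast
    simp only [v, Finset.sum_range_succ] at hv
    rw [show b M = t from htP] at hv
    have : x M = -(t⁻¹ • ∑ i ∈ Finset.range M, b i • x i) := by
      rw [eq_neg_iff_add_eq_zero, ← smul_right_injective _ ht0 |>.eq_iff, smul_add, smul_smul,
        mul_inv_cancel₀ ht0, one_smul, smul_zero, add_comm]
      exact hv
    rw [this]
    exact neg_mem (Submodule.smul_mem _ _ (Submodule.sum_mem _ fun i hi =>
      Submodule.smul_mem _ _ (Submodule.subset_span ⟨⟨i, Finset.mem_range.1 hi⟩, rfl⟩)))
  · have h1 : v ^ p = ∑ i ∈ Finset.range (M + 1), b i ^ p • x (i + 1) := by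
      have e : v = Polynomial.aeval u (∑ i ∈ Finset.range (M + 1),
          Polynomial.C (b i) * Polynomial.X ^ (p ^ i)) := by
        simp [v, x, Algebra.smul_def]
      rw [e, ← map_pow, sum_pow_char p]
      simp only [mul_pow, ← Polynomial.C_pow, ← pow_mul, ← pow_succ]
      simp [x, Algebra.smul_def]
    rw [h1, one_smul, Finset.sum_range_succ, show b M = t from htP, hA, Finset.smul_sum]
    have e2 : ∀ m ≤ M, ∑ i ∈ Finset.range m, b i ^ p • x (i + 1) +
        ∑ i ∈ Finset.range (m + 1), t ^ p • A i • x i =
        ∑ i ∈ Finset.range (m + 1), b i • x i := by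
      intro m
      induction m with
      | zero => intro _; simp [hb0, smul_smul, mul_comm]
      | succ m ih =>
        intro hm
        rw [Finset.sum_range_succ _ m, Finset.sum_range_succ _ (m + 1),
          Finset.sum_range_succ _ (m + 1), ← ih (by omega), hb m, add_smul, smul_smul,
          mul_comm (A (m + 1))]
        abel
    exact e2 M le_rfl

end Groth.Agent.S17325
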