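import Groth.Statements.S17326
import Mathlib.FieldTheory.Perfect
import Mathlib.LinearAlgebra.FiniteDimensional.Basic
import Mathlib.FieldTheory.IsAlgClosed.Basic
import Mathlib.Algebra.CharP.Algebra

set_option autoImplicit false
universe u v
open CAlg

namespace Groth.Agent.S17326

/-- Let k be an algebraically closed field of characteristic p > 0, A a commutative k-algebra which is
finite-dimensional as a k-vector space (a finite k-scheme X), and n ≥ 1. The n-th iterated relative
Frobenius morphism X → X^(p^n) is an isomorphism if and only if X is reduced; on rings: the map a ↦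
a^(p^n) of A to itself (which is the ring homomorphism underlying the relative Frobenius, the twist
A^(p^n) having the same underlying ring as A) is bijective if and only if A is reduced. -/
theorem result (k : Type u) [Field k] [IsAlgClosed k]
    (p : ℕ) [Fact p.Prime] [CharP k p] (A : Type v) [CommRing A] [Algebra k A] [Module.Finite k A]
    (n : ℕ) (hn : 1 ≤ n) :
    Function.Bijective (fun a : A => a ^ p ^ n) ↔ IsReduced A := by
  by_cases hA : Nontrivial A
  swap
  · rw [not_nontrivial_iff_subsingleton] at hA
    exact iff_of_true ⟨fun a b _ => Subsingleton.elim a b, fun b => ⟨b, Subsingleton.elim _ _⟩⟩ ⟨fun a _ => Subsingleton.elim a 0⟩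
  have : CharP A p := charP_of_injective_algebraMap (algebraMap k A).injective p
  have hq1 : 1 < p ^ n := Nat.one_lt_pow (by omega) (Fact.out : p.Prime).one_lt
  constructor
  · intro h
    refine (isReduced_iff_pow_one_lt _ hq1).2 fun x hx => h.1 ?_
    show x ^ p ^ n = 0 ^ p ^ n
    rw [hx, zero_pow (by omega)]
  · intro h
    have hinj : Function.Injective (iterateFrobenius A p n) := iterateFrobenius_inj A p n
    refine ⟨hinj, fun y => ?_⟩
    let b := Module.finBasis k A
    have hk : Function.Bijective (iterateFrobenius k p n) := bijective_iterateFrobenius k p n
    have hli : LinearIndependent k fun i => iterateFrobenius A p n (b i) := by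
      rw [Fintype.linearIndependent_iff]
      intro c hc i
      choose d hd using fun i => hk.2 (c i)
      have h1 : iterateFrobenius A p n (∑ i, d i • b i) = 0 := by
        rw [map_sum, ← hc]
        refine Finset.sum_congr rfl fun i _ => ?_
        rw [← hd i, Algebra.smul_def, map_mul, Algebra.smul_def]
        simp [iterateFrobenius_def]
      have h2 := Fintype.linearIndependent_iff.1 b.linearIndependent d (hinj (h1.trans (map_zero _).symm)) i
      rw [← hd i, h2, map_zero]
    have h1 : y ∈ Submodule.span k (Set.range fun i => iterateFrobenius A p n (b i)) := by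
      rw [hli.span_eq_top_of_card_eq_finrank' (by simp)]
      trivial
    obtain ⟨c, hc⟩ := (Submodule.mem_span_range_iff_exists_fun k).1 h1
    choose d hd using fun i => hk.2 (c i)
    refine ⟨∑ i, d i • b i, ?_⟩
    show iterateFrobenius A p n _ = y
    rw [map_sum, ← hc]
    refine Finset.sum_congr rfl fun i _ => ?_
    rw [← hd i, Algebra.smul_def, map_mul, Algebra.smul_def]
    simp [iterateFrobenius_def]

end Groth.Agent.S17326
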