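import Groth.Statements.S17329
import Groth.Agent.FinQuot.Rank
import Mathlib

set_option autoImplicit false
universe u v
open scoped TensorProduct
open Hopf

namespace Groth.Agent.S17329

/-- Let k be an algebraically closed field, A a commutative Hopf algebra over k which is
finite-dimensional as a k-vector space (a finite group scheme G = Spec A), and I a Hopf ideal of A
(a subgroup scheme H = Spec (A/I) of G, of order dim_k (A/I)). Let B ⊆ A be the k-subalgebra of
functions invariant under right multiplication by H: the equaliser of the two algebra maps A → A ⊗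
(A/I), a ↦ (id ⊗ π)(Δ a) and a ↦ a ⊗ 1, so that Spec B is the quotient G/H. Then the quotient
morphism G → G/H is finite locally free of rank |H|: A is a free B-module of rank dim_k (A/I) (B
being a finite product of local rings, locally free of constant rank is the same as free of that
rank). -/
theorem result (k : Type u) [Field k] [IsAlgClosed k]
    (A : Type v) [CommRing A] [HopfAlgebra k A] [Module.Finite k A] (I : Ideal A) [I.IsHopfIdeal k] :
    Module.Free
        ↥(AlgHom.equalizer
          ((Algebra.TensorProduct.map (AlgHom.id k A) (Ideal.Quotient.mkₐ k I)).comp (Bialgebra.comulAlgHom k A))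
          (Algebra.TensorProduct.includeLeft : A →ₐ[k] A ⊗[k] (A ⧸ I))) A ∧
      Module.finrank
        ↥(AlgHom.equalizer
          ((Algebra.TensorProduct.map (AlgHom.id k A) (Ideal.Quotient.mkₐ k I)).comp (Bialgebra.comulAlgHom k A))
          (Algebra.TensorProduct.includeLeft : A →ₐ[k] A ⊗[k] (A ⧸ I))) A =
        Module.finrank k (A ⧸ I) := by
  haveI := Groth.Agent.FinQuot.inv_faithfullyFlat (R := k) I
  haveI := Groth.Agent.FinQuot.inv_finite (R := k) I
  haveI : Module.Finite k (Groth.Agent.FinQuot.inv k I) := Groth.Agent.FinQuot.inv_finite_base I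
  haveI : IsArtinianRing (Groth.Agent.FinQuot.inv k I) := IsArtinianRing.of_finite k _
  have hd : ∀ P : PrimeSpectrum (Groth.Agent.FinQuot.inv k I),
      Module.rankAtStalk A P = Module.finrank k (A ⧸ I) := fun P => by
    rw [Groth.Agent.FinQuot.rank_over_inv, Module.rankAtStalk_eq_finrank_of_free]
    rfl
  have hfree : Module.Free (Groth.Agent.FinQuot.inv k I) A :=
    Module.free_of_flat_of_finrank_eq _ A (Module.finrank k (A ⧸ I)) fun P => by
      letI : Field (Groth.Agent.FinQuot.inv k I ⧸ P.1) := Ideal.Quotient.field P.1
      obtain ⟨Q⟩ : Nonempty (PrimeSpectrum (Groth.Agent.FinQuot.inv k I ⧸ P.1)) := inferInstance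
      rw [← hd (PrimeSpectrum.comap (algebraMap _ (Groth.Agent.FinQuot.inv k I ⧸ P.1)) Q),
        ← Module.rankAtStalk_baseChange (S := Groth.Agent.FinQuot.inv k I ⧸ P.1) Q,
        Module.rankAtStalk_eq_finrank_of_free]
      rfl
  refine ⟨hfree, ?_⟩
  haveI : Nontrivial A := (Bialgebra.counitAlgHom k A).toRingHom.domain_nontrivial
  haveI : Nontrivial (Groth.Agent.FinQuot.inv k I) := inferInstance
  obtain ⟨P⟩ : Nonempty (PrimeSpectrum (Groth.Agent.FinQuot.inv k I)) := inferInstance
  haveI := hfree
  rw [← hd P, Module.rankAtStalk_eq_finrank_of_free]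
  rfl

end Groth.Agent.S17329
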