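import Groth.Statements.S1733
import Mathlib
-- import your own Groth.Agent.* helpers here

set_option autoImplicit false
universe u
open LocCoh

namespace Groth.Agent.S1733

/-- Let f_1, …, f_r and g be elements of a ring (r ≥ 1). If the family f_1, …, f_{r-1}, f_r g is
independent (every linear relation has coefficients in the ideal the family generates), then f_1, …,
f_r is independent. -/
theorem result (A : Type u) [CommRing A] (r : ℕ) (f : Fin (r + 1) → A) (g : A) (h : Dual2.Independent (Function.update f (Fin.last r) (f (Fin.last r) * g))) : Dual2.Independent f := by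
  classical
  set f' := Function.update f (Fin.last r) (f (Fin.last r) * g) with hf'
  have hne : ∀ i : Fin r, f' i.castSucc = f i.castSucc := fun i =>
    Function.update_of_ne (Fin.castSucc_lt_last i).ne _ _
  have hlast : f' (Fin.last r) = f (Fin.last r) * g := Function.update_self _ _ _
  have hle : Ideal.span (Set.range f') ≤ Ideal.span (Set.range f) := by
    rw [Ideal.span_le]
    rintro _ ⟨i, rfl⟩
    induction i using Fin.lastCases with
    | last => rw [hlast]; exact Ideal.mul_mem_right _ _ (Ideal.subset_span ⟨_, rfl⟩)
    | cast i => rw [hne i]; exact Ideal.subset_span ⟨_, rfl⟩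
  intro a ha
  rw [Fin.sum_univ_castSucc] at ha
  have h1 : a (Fin.last r) ∈ Ideal.span (Set.range f') := by
    have := h (fun i => Fin.lastCases (a (Fin.last r)) (fun j => a j.castSucc * g) i) (by
      rw [Fin.sum_univ_castSucc]
      simp only [Fin.lastCases_castSucc, Fin.lastCases_last, hne, hlast]
      rw [Finset.sum_congr rfl fun (j : Fin r) _ => mul_right_comm _ g _, ← Finset.sum_mul, ← mul_assoc,
        ← add_mul, ha, zero_mul]) (Fin.last r)
    simpa using this
  obtain ⟨b, hb⟩ := Ideal.mem_span_range_iff_exists_fun.1 h1
  rw [Fin.sum_univ_castSucc] at hb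
  simp only [hne, hlast] at hb
  have h2 := h (fun i => Fin.lastCases (b (Fin.last r) * f (Fin.last r))
    (fun j => a j.castSucc + b j.castSucc * f (Fin.last r)) i) (by
      rw [Fin.sum_univ_castSucc]
      simp only [Fin.lastCases_castSucc, Fin.lastCases_last, hne, hlast]
      rw [← hb] at ha
      simp only [add_mul, Finset.sum_add_distrib]
      rw [← ha, add_mul, Finset.sum_mul]
      rw [Finset.sum_congr rfl fun (j : Fin r) _ => mul_right_comm (b j.castSucc) (f (Fin.last r)) _]
      ring)
  intro i
  induction i using Fin.lastCases with
  | last => exact hle h1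
  | cast i =>
    have := hle (h2 i.castSucc)
    simp only [Fin.lastCases_castSucc] at this
    exact (Ideal.add_mem_iff_left _ (Ideal.mul_mem_left (Ideal.span (Set.range f)) _ (Ideal.subset_span ⟨Fin.last r, rfl⟩))).1 this

end Groth.Agent.S1733
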