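import Groth.Statements.S17330
import Groth.Agent.HopfSmDim.RestrictedLie
import Groth.Agent.FinHopf.Aug

set_option autoImplicit false
universe u v
open Hopf

namespace Groth.Agent.S17330

open TensorProduct Coalgebra Polynomial Groth.Agent Groth.Agent.HopfSmDim
open scoped Classical

section
variable {k : Type u} [Field k] {A : Type v} [CommRing A] [HopfAlgebra k A]

theorem map_counit_comp {Q R : A →ₗ[k] A} (hR : IsInv R) (a : A) :
    TensorProduct.lid k k (TensorProduct.map (counit ∘ₗ Q) (counit ∘ₗ R) (comul a)) = counit (R := k) (Q (R a)) := by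
  have h1 : TensorProduct.map (counit ∘ₗ Q) (counit ∘ₗ R) (comul (R := k) a) =
      TensorProduct.map (counit ∘ₗ Q) counit (R.lTensor A (comul a)) := by
    rw [LinearMap.lTensor, ← LinearMap.comp_apply (TensorProduct.map (counit ∘ₗ Q) counit), ← TensorProduct.map_comp]
    rfl
  rw [h1, ← hR, show (counit ∘ₗ Q : A →ₗ[k] k) = (counit ∘ₗ Q) ∘ₗ LinearMap.id from rfl,
    ← LinearMap.id_comp (counit (R := k) (A := A)), TensorProduct.map_comp, LinearMap.comp_apply]
  rw [show TensorProduct.map LinearMap.id (counit (R := k) (A := A)) = counit.lTensor A from rfl,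
    Coalgebra.lTensor_counit_comul]
  simp

theorem map_expand {C : Type*} [CommRing C] [Algebra k C] {I : Type*} (s : Finset I) (c : I → A →ₗ[k] k) (v : I → C)
    (F : A →ₗ[k] C) (hF : ∀ a, F a = ∑ i ∈ s, c i a • v i) (t : A ⊗[k] A) :
    TensorProduct.map F F t = ∑ i ∈ s, ∑ j ∈ s, TensorProduct.lid k k (TensorProduct.map (c i) (c j) t) • (v i ⊗ₜ[k] v j) := by
  induction t using TensorProduct.induction_on with
  | zero => simp
  | add t t' ht ht' => simp only [map_add, ht, ht', add_smul, Finset.sum_add_distrib]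
  | tmul a b =>
    rw [TensorProduct.map_tmul, hF, hF, TensorProduct.sum_tmul]
    refine Finset.sum_congr rfl fun i _ => ?_
    rw [TensorProduct.tmul_sum]
    refine Finset.sum_congr rfl fun j _ => ?_
    rw [TensorProduct.smul_tmul', TensorProduct.map_tmul, TensorProduct.lid_tmul, smul_eq_mul,
      TensorProduct.tmul_smul, TensorProduct.smul_tmul', smul_smul, mul_comm]

variable (p : ℕ) [Fact p.Prime] [CharP k p]

theorem to_alpha {E : A →ₗ[k] A} (hE : IsDer E) (hI : IsInv E) (hne : E ≠ 0) (hp0 : E ^ p = 0) :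
    ∃ f : A →ₐc[k] AlphaP.A p k, Function.Surjective f := by
  have hp : p.Prime := Fact.out
  have hfac : ∀ j < p, (j.factorial : k) ≠ 0 := fun j hj h => by
    rw [CharP.cast_eq_zero_iff k p, hp.dvd_factorial] at h; omega
  let c : ℕ → A →ₗ[k] k := fun j => (j.factorial : k)⁻¹ • (counit ∘ₗ (E ^ j))
  have hbig : ∀ j, p ≤ j → E ^ j = 0 := fun j hj => by
    rw [show j = p + (j - p) by omega, pow_add, hp0, zero_mul]
  have hc0 : ∀ a, c 0 a = counit a := fun a => by simp [c]
  have hc1 : ∀ j, c (j + 1) 1 = 0 := fun j => by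
    simp [c, pow_succ, hE.map_one]
  let F : A →ₗ[k] AlphaP.A p k := ∑ j ∈ Finset.range p, (c j).smulRight (AlphaP.x p k ^ j)
  have hF : ∀ a, F a = ∑ j ∈ Finset.range p, c j a • AlphaP.x p k ^ j := fun a => by
    simp [F, LinearMap.sum_apply]
  let P : A → k[X] := fun a => ∑ j ∈ Finset.range p, C (c j a) * X ^ j
  have hFP : ∀ a, F a = AlphaP.mk p k (P a) := fun a => by
    simp [hF, P, map_sum, map_pow, ← AlphaP.mk_X, Algebra.smul_def, Polynomial.C_eq_algebraMap]
  have hone : F 1 = 1 := by
    rw [hF, Finset.sum_eq_single 0, hc0, Bialgebra.counit_one, pow_zero, one_smul]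
    · intro j _ hj
      obtain ⟨i, rfl⟩ : ∃ i, j = i + 1 := ⟨j - 1, by omega⟩
      rw [hc1, zero_smul]
    · intro h; exact absurd (Finset.mem_range.2 hp.pos) h
  have hmul : ∀ a b, F (a * b) = F a * F b := by
    intro a b
    rw [hFP, hFP, hFP, ← map_mul, ← sub_eq_zero, ← map_sub]
    obtain ⟨q, hq⟩ : (X : k[X]) ^ p ∣ P (a * b) - P a * P b := by
      rw [X_pow_dvd_iff]
      intro d hd
      have hcoef : ∀ z m, (P z).coeff m = if m < p then c m z else 0 := fun z m => by
        simp [P, finsetSum_coeff, coeff_X_pow]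
      rw [coeff_sub, hcoef, if_pos hd, coeff_mul, Finset.Nat.sum_antidiagonal_eq_sum_range_succ_mk, sub_eq_zero]
      show (d.factorial : k)⁻¹ * counit (R := k) ((E ^ d) (a * b)) = _
      rw [hE.leibniz_pow, map_sum, Finset.mul_sum]
      refine Finset.sum_congr rfl fun i hi => ?_
      have hi' : i ≤ d := Nat.lt_succ_iff.1 (Finset.mem_range.1 hi)
      rw [hcoef, hcoef, if_pos (by omega), if_pos (by omega), Bialgebra.counit_mul, Bialgebra.counit_mul,
        Bialgebra.counit_natCast]
      show _ = (i.factorial : k)⁻¹ * counit (R := k) ((E ^ i) a) * (((d - i).factorial : k)⁻¹ * counit (R := k) ((E ^ (d - i)) b))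
      have h1 := hfac i (by omega)
      have h2 := hfac (d - i) (by omega)
      have h3 := hfac d hd
      have h4 : (d.choose i : k) * i.factorial * (d - i).factorial = d.factorial := by
        rw [← Nat.cast_mul, ← Nat.cast_mul, Nat.choose_mul_factorial_mul_factorial hi']
      field_simp
      linear_combination (counit (R := k) ((E ^ i) a) * counit (R := k) ((E ^ (d - i)) b)) * h4
    rw [hq, map_mul, map_pow, AlphaP.mk_X, AlphaP.x_pow, zero_mul]
  let f₀ : A →ₐ[k] AlphaP.A p k := AlgHom.ofLinearMap F hone hmul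
  have hcounit : (Bialgebra.counitAlgHom k (AlphaP.A p k)).comp f₀ = Bialgebra.counitAlgHom k A := by
    refine AlgHom.ext fun a => ?_
    show Bialgebra.counitAlgHom k (AlphaP.A p k) (F a) = _
    rw [hF, map_sum, Finset.sum_eq_single 0]
    · simp [hc0]
    · intro j _ hj
      rw [map_smul, map_pow, show Bialgebra.counitAlgHom k (AlphaP.A p k) (AlphaP.x p k) = 0 from AlphaP.counit_x p k,
        zero_pow hj, smul_zero]
    · intro h; exact absurd (Finset.mem_range.2 hp.pos) h
  have hcomul : (Algebra.TensorProduct.map f₀ f₀).comp (Bialgebra.comulAlgHom k A) =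
      (Bialgebra.comulAlgHom k (AlphaP.A p k)).comp f₀ := by
    refine AlgHom.ext fun a => ?_
    show TensorProduct.map F F (comul a) = Bialgebra.comulAlgHom k (AlphaP.A p k) (F a)
    rw [map_expand (Finset.range p) c (fun j => AlphaP.x p k ^ j) F hF, hF, map_sum]
    have hpow : ∀ j < p, Bialgebra.comulAlgHom k (AlphaP.A p k) (AlphaP.x p k ^ j) =
        ∑ i ∈ Finset.range p, ∑ l ∈ Finset.range p,
          if i + l = j then (j.choose i : k) • ((AlphaP.x p k ^ i) ⊗ₜ[k] (AlphaP.x p k ^ l)) else 0 := by
      intro j hj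
      rw [map_pow, show Bialgebra.comulAlgHom k (AlphaP.A p k) (AlphaP.x p k) =
        AlphaP.x p k ⊗ₜ[k] 1 + 1 ⊗ₜ[k] AlphaP.x p k from AlphaP.comul_x p k, add_pow]
      rw [← Finset.sum_subset (Finset.range_subset_range.2 (show j + 1 ≤ p by omega)) fun i _ hi => ?_]
      · refine Finset.sum_congr rfl fun i hi => ?_
        have hi' := Finset.mem_range.1 hi
        rw [Finset.sum_eq_single (j - i) (fun l _ hl => if_neg (by omega))
          (fun h => absurd (Finset.mem_range.2 (by omega)) h), if_pos (by omega)]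
        simp [Algebra.TensorProduct.tmul_pow, Algebra.smul_def, mul_comm]
      · have hi' := Finset.mem_range.not.1 hi
        exact Finset.sum_eq_zero fun l _ => if_neg (by omega)
    rw [show (∑ j ∈ Finset.range p, Bialgebra.comulAlgHom k (AlphaP.A p k) (c j a • AlphaP.x p k ^ j)) =
        ∑ j ∈ Finset.range p, ∑ i ∈ Finset.range p, c j a • (∑ l ∈ Finset.range p,
          if i + l = j then (j.choose i : k) • ((AlphaP.x p k ^ i) ⊗ₜ[k] (AlphaP.x p k ^ l)) else 0) from
      Finset.sum_congr rfl fun j hj => by rw [map_smul, hpow j (Finset.mem_range.1 hj), Finset.smul_sum]]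
    conv_rhs => rw [Finset.sum_comm]
    refine Finset.sum_congr rfl fun i hi => ?_
    simp only [Finset.smul_sum, smul_ite, smul_zero]
    rw [Finset.sum_comm]
    refine Finset.sum_congr rfl fun l hl => ?_
    have hi' := Finset.mem_range.1 hi
    have hl' := Finset.mem_range.1 hl
    rw [Finset.sum_ite_eq]
    have hval : TensorProduct.lid k k (TensorProduct.map (c i) (c l) (comul a)) =
        (i.factorial : k)⁻¹ * (l.factorial : k)⁻¹ * counit (R := k) ((E ^ (i + l)) a) := by
      simp only [c, TensorProduct.map_smul_left, TensorProduct.map_smul_right, LinearMap.smul_apply, map_smul, smul_eq_mul,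
        map_counit_comp (hI.pow l)]
      rw [pow_add, Module.End.mul_apply]; ring
    rw [hval]
    split_ifs with h
    · rw [smul_smul]
      congr 1
      have h' := Finset.mem_range.1 h
      show _ = ((i + l).factorial : k)⁻¹ * counit (R := k) ((E ^ (i + l)) a) * ((i + l).choose i : k)
      have h1 := hfac i hi'
      have h2 := hfac l hl'
      have h3 := hfac (i + l) h'
      have h4 : ((i + l).choose i : k) * i.factorial * l.factorial = (i + l).factorial := by
        have := Nat.choose_mul_factorial_mul_factorial (Nat.le_add_right i l)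
        rw [Nat.add_sub_cancel_left] at this
        rw [← Nat.cast_mul, ← Nat.cast_mul, this]
      field_simp
      linear_combination -(counit (R := k) ((E ^ (i + l)) a)) * h4
    · rw [hbig (i + l) (by simpa using h), LinearMap.zero_apply, map_zero, mul_zero, zero_smul]
  refine ⟨BialgHom.ofAlgHom f₀ hcounit hcomul, ?_⟩
  show Function.Surjective f₀
  obtain ⟨a, ha⟩ : ∃ a, counit (R := k) (E a) ≠ 0 := by
    by_contra h
    push Not at h
    exact hne (hI.eq_zero h)
  let a' : A := (counit (R := k) (E a))⁻¹ • (a - algebraMap k A (counit a))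
  have hEc : E (algebraMap k A (counit a)) = 0 := by
    rw [Algebra.algebraMap_eq_smul_one, map_smul, hE.map_one, smul_zero]
  have hca : c 0 a' = 0 ∧ c 1 a' = 1 := by
    refine ⟨?_, ?_⟩
    · rw [hc0]; simp [a', Bialgebra.counit_algebraMap]
    · simp [c, a', hEc, ha]
  obtain ⟨q, hq⟩ : (X : k[X]) ^ 2 ∣ P a' - X := by
    rw [X_pow_dvd_iff]
    intro d hd
    interval_cases d <;> simp [P, finsetSum_coeff, coeff_X_pow, coeff_X, hp.pos, hp.one_lt, hca.1, hca.2]
  let w : AlphaP.A p k := 1 + AlphaP.x p k * AlphaP.mk p k q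
  have hy : f₀ a' = AlphaP.x p k * w := by
    show F a' = _
    rw [hFP, show P a' = X + X ^ 2 * q by rw [← hq]; ring]
    simp [w, AlphaP.mk_X]
    ring
  have key : ∀ j n, p ≤ n + j → ∀ z, ∃ b, f₀ b = AlphaP.x p k ^ n * z := by
    intro j
    induction j with
    | zero => intro n hn z; exact ⟨0, by rw [map_zero, AlphaP.x_pow_of_le p k (by omega), zero_mul]⟩
    | succ j ih =>
      intro n hn z
      obtain ⟨r, rfl⟩ := AlphaP.mk_surjective p k z
      obtain ⟨u, hu⟩ : ∃ u, w ^ n = 1 + AlphaP.x p k * u := by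
        obtain ⟨u, hu⟩ := sub_one_dvd_pow_sub_one w n
        refine ⟨AlphaP.mk p k q * u, ?_⟩
        have : w - 1 = AlphaP.x p k * AlphaP.mk p k q := by simp [w]
        rw [this] at hu
        linear_combination hu
      obtain ⟨b, hb⟩ := ih (n + 1) (by omega) (AlphaP.mk p k r.divX - algebraMap k _ (r.coeff 0) * u)
      refine ⟨algebraMap k A (r.coeff 0) * a' ^ n + b, ?_⟩
      have hr : AlphaP.mk p k r = AlphaP.x p k * AlphaP.mk p k r.divX + algebraMap k _ (r.coeff 0) := by
        conv_lhs => rw [← Polynomial.X_mul_divX_add r]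
        simp [AlphaP.mk_X, Polynomial.C_eq_algebraMap]
      rw [map_add, map_mul, map_pow, AlgHom.commutes, hy, mul_pow, hu, hb, hr]
      ring
  intro z
  obtain ⟨b, hb⟩ := key p 0 (by omega) z
  exact ⟨b, by rw [hb, pow_zero, one_mul]⟩

theorem to_mu {E : A →ₗ[k] A} (hE : IsDer E) (hI : IsInv E) (hne : E ≠ 0) (hp1 : E ^ p = E) :
    ∃ f : A →ₐc[k] MonoidAlgebra k (Multiplicative (ZMod p)), Function.Surjective f := by
  have hp : p.Prime := Fact.out
  let ι' : ZMod p →+* k := ZMod.castHom dvd_rfl k
  have : CharP (Module.End k A) p := by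
    have : Nontrivial A := Bialgebra.nontrivial k
    exact charP_of_injective_algebraMap (algebraMap k (Module.End k A)).injective p
  let q : ZMod p → k[X] := fun l => 1 - (X - C (ι' l)) ^ (p - 1)
  let P : ZMod p → Module.End k A := fun l => Polynomial.aeval E (q l)
  have hpl : ∀ l : ZMod p, ι' l ^ p = ι' l := fun l => by rw [← map_pow, ZMod.pow_card]
  have hEP : ∀ l z, E (P l z) = ι' l • P l z := by
    intro l z
    have h0 : Polynomial.aeval E ((X - C (ι' l)) * q l) = 0 := by
      simp only [q, mul_sub, mul_one, ← pow_succ', show p - 1 + 1 = p from Nat.sub_add_cancel hp.pos,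
        sub_pow_char, map_sub, map_pow, Polynomial.aeval_X, Polynomial.aeval_C, hp1]
      rw [← map_pow, hpl, sub_self]
    rw [map_mul] at h0
    have := LinearMap.congr_fun h0 z
    simp only [map_sub, Polynomial.aeval_X, Polynomial.aeval_C, Module.End.mul_apply, LinearMap.sub_apply,
      Module.algebraMap_end_apply, LinearMap.zero_apply, sub_eq_zero] at this
    exact this
  have hPeig : ∀ (n r : ZMod p) (y : A), E y = ι' n • y → P r y = if r = n then y else 0 := by
    intro n r y hy
    have h0 : ∀ f : k[X], Polynomial.aeval E f y = f.eval (ι' n) • y := by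
      intro f
      induction f using Polynomial.induction_on' with
      | add f g hf hg => rw [map_add, LinearMap.add_apply, hf, hg, eval_add, add_smul]
      | monomial m b =>
        have hm : (E ^ m) y = ι' n ^ m • y := by
          induction m with
          | zero => simp
          | succ m ih => rw [pow_succ', Module.End.mul_apply, ih, map_smul, hy, smul_smul, ← pow_succ]
        rw [Polynomial.aeval_monomial, Module.End.mul_apply, Module.algebraMap_end_apply, hm, eval_monomial, smul_smul]
    have h1 : P r y = (q r).eval (ι' n) • y := h0 _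
    rw [h1]
    simp only [q, eval_sub, eval_one, eval_pow, eval_X, eval_C, ← map_sub]
    split_ifs with h
    · subst h; rw [sub_self, map_zero, zero_pow (Nat.sub_ne_zero_of_lt hp.one_lt), sub_zero, one_smul]
    · rw [← map_pow, ZMod.pow_card_sub_one_eq_one (sub_ne_zero.2 (Ne.symm h)), map_one, sub_self, zero_smul]
  have hPP : ∀ r n z, P r (P n z) = if r = n then P n z else 0 := fun r n z => hPeig n r _ (hEP n z)
  have hsum : ∀ z, ∑ l, P l z = z := by
    intro z
    have h1 : ∑ l, q l = 1 := by
      have h2 : (∑ l : ZMod p, ((1 : (ZMod p)[X]) - (X - C l) ^ (p - 1))) - 1 = 0 := by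
        refine Polynomial.eq_zero_of_natDegree_lt_card_of_eval_eq_zero _ Function.injective_id (fun x => ?_) ?_
        · simp only [id, eval_sub, eval_finsetSum, eval_one, eval_pow, eval_X, eval_C]
          rw [Finset.sum_eq_single x]
          · rw [sub_self, zero_pow (Nat.sub_ne_zero_of_lt hp.one_lt), sub_zero, sub_self]
          · intro l _ hl
            rw [ZMod.pow_card_sub_one_eq_one (sub_ne_zero.2 (Ne.symm hl)), sub_self]
          · intro h; exact absurd (Finset.mem_univ x) h
        · rw [ZMod.card]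
          refine lt_of_le_of_lt ?_ (Nat.sub_lt hp.pos one_pos)
          refine (natDegree_sub_le _ _).trans (max_le (natDegree_sum_le_of_forall_le _ _ fun l _ => ?_) (by simp))
          refine (natDegree_sub_le _ _).trans (max_le (by simp) ?_)
          exact natDegree_pow_le.trans (by rw [natDegree_X_sub_C, mul_one])
      have h3 := congrArg (Polynomial.map ι') (sub_eq_zero.1 h2)
      simpa [q, Polynomial.map_sum] using h3
    have h4 := congrArg (Polynomial.aeval E) h1
    rw [map_sum, map_one] at h4
    have h5 := LinearMap.congr_fun h4 z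
    rwa [LinearMap.sum_apply, Module.End.one_apply] at h5
  have hPI : ∀ l, IsInv (P l) := fun l => hI.aeval _
  let G := Multiplicative (ZMod p)
  let F : A →ₗ[k] MonoidAlgebra k G :=
    ∑ l : ZMod p, (counit ∘ₗ P l).smulRight (MonoidAlgebra.of k G (Multiplicative.ofAdd l))
  have hF : ∀ a, F a = ∑ l : ZMod p, counit (R := k) (P l a) • MonoidAlgebra.of k G (Multiplicative.ofAdd l) := fun a => by
    simp [F, LinearMap.sum_apply]
  have hFeig : ∀ n y, E y = ι' n • y → F y = counit (R := k) y • MonoidAlgebra.of k G (Multiplicative.ofAdd n) := by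
    intro n y hy
    rw [hF, Finset.sum_eq_single n]
    · rw [hPeig n n y hy, if_pos rfl]
    · intro l _ hl; rw [hPeig n l y hy, if_neg hl, map_zero, zero_smul]
    · intro h; exact absurd (Finset.mem_univ n) h
  have hprod : ∀ l m a b, E (P l a * P m b) = ι' (l + m) • (P l a * P m b) := by
    intro l m a b
    rw [hE, hEP, hEP, map_add, add_smul, smul_mul_assoc, mul_smul_comm]
  have hone : F 1 = 1 := by
    rw [hFeig 0 1 (by rw [hE.map_one, map_zero, zero_smul])]
    simp [MonoidAlgebra.one_def]
  have hmul : ∀ a b, F (a * b) = F a * F b := by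
    intro a b
    conv_lhs => rw [← hsum a, ← hsum b, Finset.sum_mul_sum]
    rw [map_sum, hF a, hF b, Finset.sum_mul_sum]
    refine Finset.sum_congr rfl fun l _ => ?_
    rw [map_sum]
    refine Finset.sum_congr rfl fun m _ => ?_
    rw [hFeig _ _ (hprod l m a b), Bialgebra.counit_mul, smul_mul_smul_comm, ← map_mul (MonoidAlgebra.of k G), ← ofAdd_add]
  let f₀ : A →ₐ[k] MonoidAlgebra k G := AlgHom.ofLinearMap F hone hmul
  have hcounit : (Bialgebra.counitAlgHom k (MonoidAlgebra k G)).comp f₀ = Bialgebra.counitAlgHom k A := by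
    refine AlgHom.ext fun a => ?_
    show counit (R := k) (F a) = counit a
    conv_rhs => rw [← hsum a, map_sum]
    rw [hF, map_sum]
    exact Finset.sum_congr rfl fun l _ => by simp
  have hcomul : (Algebra.TensorProduct.map f₀ f₀).comp (Bialgebra.comulAlgHom k A) =
      (Bialgebra.comulAlgHom k (MonoidAlgebra k G)).comp f₀ := by
    refine AlgHom.ext fun a => ?_
    show TensorProduct.map F F (comul a) = comul (F a)
    rw [map_expand Finset.univ (fun l => counit ∘ₗ P l) (fun l => MonoidAlgebra.of k G (Multiplicative.ofAdd l)) F hF,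
      hF, map_sum]
    refine Finset.sum_congr rfl fun l _ => ?_
    rw [Finset.sum_eq_single l]
    · rw [map_counit_comp (hPI l), hPP, if_pos rfl, map_smul]
      congr 1
      simp [MonoidAlgebra.of_apply]
    · intro m _ hm
      rw [map_counit_comp (hPI m), hPP, if_neg (Ne.symm hm), map_zero, zero_smul]
    · intro h; exact absurd (Finset.mem_univ l) h
  refine ⟨BialgHom.ofAlgHom f₀ hcounit hcomul, ?_⟩
  show Function.Surjective f₀
  let S : Set (ZMod p) := {l | ∃ y, E y = ι' l • y ∧ counit (R := k) y = 1}
  have hS : ∀ l, ∀ a, counit (R := k) (P l a) ≠ 0 → l ∈ S := fun l a ha =>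
    ⟨(counit (R := k) (P l a))⁻¹ • P l a, by rw [map_smul, hEP, smul_comm], by rw [map_smul, smul_eq_mul, inv_mul_cancel₀ ha]⟩
  obtain ⟨l₀, hl₀, hl₀0⟩ : ∃ l₀ ∈ S, l₀ ≠ 0 := by
    by_contra h
    push Not at h
    refine hne (LinearMap.ext fun z => ?_)
    rw [← hsum z, map_sum, LinearMap.zero_apply]
    refine Finset.sum_eq_zero fun l _ => ?_
    rcases eq_or_ne l 0 with rfl | hl
    · rw [hEP, map_zero, zero_smul]
    · have : P l = 0 := (hPI l).eq_zero fun y => by
        by_contra hy
        exact hl (h l (hS l y hy))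
      rw [this, LinearMap.zero_apply, map_zero]
  have hmulS : ∀ l ∈ S, ∀ m ∈ S, l + m ∈ S := by
    rintro l ⟨y, hy, hy'⟩ m ⟨z, hz, hz'⟩
    exact ⟨y * z, by rw [hE, hy, hz, map_add, add_smul, smul_mul_assoc, mul_smul_comm],
      by rw [Bialgebra.counit_mul, hy', hz', one_mul]⟩
  have hnat : ∀ n : ℕ, (n : ZMod p) * l₀ ∈ S := by
    intro n
    induction n with
    | zero => exact ⟨1, by simp [hE.map_one], Bialgebra.counit_one⟩
    | succ n ih => rw [Nat.cast_succ, add_mul, one_mul]; exact hmulS _ ih _ hl₀
  have hall : ∀ l, l ∈ S := fun l => by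
    have := hnat (l / l₀).val
    rwa [ZMod.natCast_zmod_val, div_mul_cancel₀ _ hl₀0] at this
  intro z
  induction z using MonoidAlgebra.induction_on with
  | of g =>
    obtain ⟨y, hy, hy'⟩ := hall (Multiplicative.toAdd g)
    exact ⟨y, by show F y = _; rw [hFeig _ y hy, hy', one_smul, ofAdd_toAdd]⟩
  | add f g hf hg =>
    obtain ⟨a, rfl⟩ := hf
    obtain ⟨b, rfl⟩ := hg
    exact ⟨a + b, map_add _ _ _⟩
  | smul r f hf =>
    obtain ⟨a, rfl⟩ := hf
    exact ⟨r • a, map_smul _ _ _⟩

end


/-- Let k be an algebraically closed field of characteristic p > 0 and A a commutative Hopf algebra over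
k, finite-dimensional as a k-vector space and not reduced (a non-reduced finite group scheme G =
Spec A). Then G contains a subgroup scheme isomorphic to μ_p or to α_p: there is a surjective
bialgebra homomorphism from A onto the group algebra of the cyclic group of order p (the Hopf
algebra of μ_p, group elements group-like) or onto k[X]/(X^p) with X primitive (the Hopf algebra of
α_p). -/
theorem result (k : Type u) [Field k] [IsAlgClosed k]
    (p : ℕ) [Fact p.Prime] [CharP k p] (A : Type v) [CommRing A] [HopfAlgebra k A] [Module.Finite k A]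
    (hA : ¬ IsReduced A) :
    (∃ f : A →ₐc[k] MonoidAlgebra k (Multiplicative (ZMod p)), Function.Surjective f) ∨
      (∃ f : A →ₐc[k] AlphaP.A p k, Function.Surjective f) := by
  have : Algebra.FiniteType k A := inferInstance
  have : Nontrivial A := Bialgebra.nontrivial k
  have : CharP A p := charP_of_injective_algebraMap (algebraMap k A).injective p
  obtain ⟨d, hd⟩ : ∃ d, Module.finrank k (RingHom.ker (Bialgebra.counitAlgHom k A)).Cotangent = d := ⟨_, rfl⟩
  obtain ⟨x, D, hx, hD, hgen, hinv⟩ := exists_frame_inv k A d hd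
  obtain ⟨i0⟩ : Nonempty (Fin d) := by
    by_contra hempty
    have : IsEmpty (Fin d) := not_nonempty_iff.1 hempty
    refine hA ?_
    have hsq : RingHom.ker (Bialgebra.counitAlgHom k A) ^ 2 = RingHom.ker (Bialgebra.counitAlgHom k A) := by
      refine le_antisymm (Ideal.pow_le_self two_ne_zero) fun a ha => ?_
      obtain ⟨c, hc⟩ := hgen a ha
      simpa using hc
    have : Algebra.FormallyUnramified k A := FinHopf.formallyUnramified_of_aug_sq_eq k A hsq
    exact Algebra.FormallyUnramified.isReduced_of_field k A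
  let L : A →ₗ[k] A := (D i0).toLinearMap
  have hLd : IsDer L := fun a b => by
    show D i0 (a * b) = D i0 a * b + a * D i0 b
    rw [Derivation.leibniz, smul_eq_mul, smul_eq_mul]; ring
  have hLi : IsInv L := hinv i0
  have hL : L ≠ 0 := fun h => by
    have h1 := hD i0 i0
    rw [if_pos rfl, show D i0 (x i0) = 0 from LinearMap.congr_fun h (x i0), zero_sub, RingHom.mem_ker, map_neg, map_one] at h1
    exact one_ne_zero (neg_eq_zero.1 h1)
  obtain ⟨n, c, hne, hcase⟩ := exists_normal p L hL
  have hd' : IsDer (∑ i ∈ Finset.range n, c i • L ^ p ^ i) :=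
    Finset.sum_induction _ IsDer (fun _ _ => IsDer.add) IsDer.zero fun i _ => (hLd.iterate p i).smul _
  have hi' : IsInv (∑ i ∈ Finset.range n, c i • L ^ p ^ i) :=
    Finset.sum_induction _ IsInv (fun _ _ => IsInv.add) IsInv.zero fun i _ => (hLi.pow _).smul _
  rcases hcase with h | h
  · exact Or.inr (to_alpha p hd' hi' hne h)
  · exact Or.inl (to_mu p hd' hi' hne h)

end Groth.Agent.S17330
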