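import Groth.Statements.S17331
import Groth.Agent.S17330
import Groth.Agent.FinHopf.Power

set_option autoImplicit false
universe u v
open Hopf

namespace Groth.Agent.S17331

open TensorProduct Coalgebra WithConv Groth.Agent

theorem pair_injective.{u₁, v₁} (k : Type u₁) (G : Type v₁) [Field k] [Group G] [Fintype G] [DecidableEq G] :
    Function.Injective (ConstGrp.pair k G) := by
  let b := ConstGrp.basis k G
  have h : ∀ z a c, (b.tensorProduct b).repr z (a, c) = ConstGrp.pair k G z (a, c) := by
    intro z a c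
    induction z using TensorProduct.induction_on with
    | zero => simp
    | add z w hz hw => simp only [map_add, Finsupp.add_apply, hz, hw, ConstGrp.add_apply]
    | tmul u v =>
      rw [Module.Basis.tensorProduct_repr_tmul_apply, ConstGrp.pair_tmul]
      rw [smul_eq_mul, mul_comm]
      rfl
  intro z w hzw
  refine (b.tensorProduct b).repr.injective (Finsupp.ext fun ⟨a, c⟩ => ?_)
  rw [h, h, hzw]

theorem of_points.{u₁, v₁} {k : Type u₁} [Field k] {A : Type v₁} [CommRing A] [HopfAlgebra k A]
    [Module.Finite k A] (p : ℕ) [Fact p.Prime] (Φ : A ≃ₐ[k] (Fin p → k)) :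
    Nonempty (A ≃ₐc[k] ConstGrp.F k (Multiplicative (ZMod p))) := by
  let pt : Fin p → WithConv (A →ₐ[k] k) := fun j => toConv ((Pi.evalAlgHom k (fun _ => k) j).comp Φ.toAlgHom)
  have hpt : Function.Bijective pt := by
    refine ⟨fun i j hij => ?_, fun f => ?_⟩
    · by_contra hne
      have h := congr($hij (Φ.symm (Pi.single i 1)))
      change Φ (Φ.symm (Pi.single i (1 : k))) i = Φ (Φ.symm (Pi.single i (1 : k))) j at h
      rw [AlgEquiv.apply_symm_apply, Pi.single_eq_same, Pi.single_eq_of_ne (Ne.symm hne)] at h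
      exact one_ne_zero h
    · let g := f.ofConv.comp Φ.symm.toAlgHom
      obtain ⟨j, hj⟩ : ∃ j, g (Pi.single j (1 : k)) ≠ 0 := by
        by_contra hno
        push Not at hno
        have : g (∑ j, Pi.single j ((1 : Fin p → k) j)) = 0 := by
          rw [map_sum]; exact Finset.sum_eq_zero fun j _ => hno j
        rw [Finset.univ_sum_single, map_one] at this
        exact one_ne_zero this
      have hidem : g (Pi.single j (1 : k)) = 1 := by
        have : g (Pi.single j (1 : k)) * g (Pi.single j (1 : k)) = g (Pi.single j (1 : k)) := by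
          rw [← map_mul]; congr 1; ext l; by_cases h : l = j <;> simp [h]
        exact mul_left_cancel₀ hj (this.trans (mul_one _).symm)
      refine ⟨j, WithConv.ext (AlgHom.ext fun a => ?_)⟩
      show Φ a j = f.ofConv a
      have e : f.ofConv a = g (Φ a) := by simp [g]
      have e2 : g (Φ a) = g (Φ a * Pi.single j 1) := by rw [map_mul, hidem, mul_one]
      have e3 : Φ a * Pi.single j (1 : k) = Φ a j • Pi.single j (1 : k) := by
        ext l; by_cases h : l = j <;> simp [h]
      rw [e, e2, e3, map_smul, hidem, smul_eq_mul, mul_one]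
  have hcard : Nat.card (WithConv (A →ₐ[k] k)) = p := by
    rw [← Nat.card_congr (Equiv.ofBijective pt hpt), Nat.card_fin]
  let ψ : Multiplicative (ZMod p) ≃* WithConv (A →ₐ[k] k) :=
    mulEquivOfPrimeCardEq (p := p) (by rw [Nat.card_eq_fintype_card, Fintype.card_multiplicative, ZMod.card]) hcard
  let f₀ : A →ₐ[k] ConstGrp.F k (Multiplicative (ZMod p)) :=
    (ConstGrp.equivFun k (Multiplicative (ZMod p))).symm.toAlgHom.comp (Pi.algHom k (fun _ => k) fun g => (ψ g).ofConv)
  have hf : ∀ a g, f₀ a g = (ψ g).ofConv a := fun a g => rfl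
  have hcounit : (Bialgebra.counitAlgHom k (ConstGrp.F k (Multiplicative (ZMod p)))).comp f₀ = Bialgebra.counitAlgHom k A := by
    refine AlgHom.ext fun a => ?_
    show f₀ a 1 = _
    rw [hf, map_one, AlgHom.convOne_def]
    simp
  have hcomul : (Algebra.TensorProduct.map f₀ f₀).comp (Bialgebra.comulAlgHom k A) =
      (Bialgebra.comulAlgHom k (ConstGrp.F k (Multiplicative (ZMod p)))).comp f₀ := by
    refine AlgHom.ext fun a => pair_injective k _ (ConstGrp.ext fun ⟨g, h⟩ => ?_)
    show ConstGrp.pair k _ (Algebra.TensorProduct.map f₀ f₀ (comul a)) (g, h) =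
      ConstGrp.pair k _ (comul (f₀ a)) (g, h)
    rw [ConstGrp.pair_comul, hf, map_mul, AlgHom.convMul_apply]
    induction comul (R := k) a using TensorProduct.induction_on with
    | zero => simp
    | tmul u v => simp [hf]
    | add u v hu hv => simp only [map_add, ConstGrp.add_apply, hu, hv]
  refine ⟨BialgEquiv.ofBijective (BialgHom.ofAlgHom f₀ hcounit hcomul) ?_⟩
  have hinj : Function.Injective f₀.toLinearMap := by
    intro a b hab
    apply Φ.injective
    funext j
    obtain ⟨g, hg⟩ := ψ.surjective (pt j)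
    have := congrFun hab g
    change (ψ g).ofConv a = (ψ g).ofConv b at this
    rw [hg] at this
    exact this
  refine ⟨hinj, (LinearMap.injective_iff_surjective_of_finrank_eq_finrank ?_).1 hinj⟩
  rw [Φ.toLinearEquiv.finrank_eq, (ConstGrp.equivFun k (Multiplicative (ZMod p))).toLinearEquiv.finrank_eq]
  simp

theorem exists_points.{u₁, v₁} {k : Type u₁} [Field k] [IsAlgClosed k] {A : Type v₁} [CommRing A] [HopfAlgebra k A]
    [Module.Finite k A] [IsReduced A] (p : ℕ) (hA : Module.finrank k A = p) : Nonempty (A ≃ₐ[k] (Fin p → k)) := by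
  obtain ⟨e, hH, g, he, heI, hinf, -, Φ, hΦ⟩ := Groth.Agent.FinHopf.exists_decomposition (k := k) (A := A)
  have hdim := Groth.Agent.FinHopf.finrank_eq_of_decomposition Φ hΦ
  have : Nontrivial A := Bialgebra.nontrivial k
  have : Nontrivial (A ⧸ Ideal.span {e}) := Bialgebra.nontrivial k
  obtain ⟨j⟩ : Nonempty (Fin g) := by
    by_contra h
    have : IsEmpty (Fin g) := not_nonempty_iff.1 h
    have h1 : Φ 1 = Φ 0 := funext fun i => isEmptyElim i
    exact one_ne_zero (hΦ.1 h1)
  have hsurj : Function.Surjective (algebraMap k (A ⧸ Ideal.span {e})) := fun b => ⟨counit b, by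
    have h0 := hinf _ (FinHopf.sub_counit_mem (k := k) b)
    obtain ⟨a, ha⟩ := hΦ.2 (fun _ => b - algebraMap k _ (counit b))
    have han : IsNilpotent a := (IsNilpotent.map_iff hΦ.1).1 (by
      obtain ⟨N, hN⟩ := h0
      exact ⟨N, by rw [ha]; funext i; exact hN⟩)
    rw [han.eq_zero, map_zero] at ha
    exact (sub_eq_zero.1 (congrFun ha j).symm).symm⟩
  let eA : (A ⧸ Ideal.span {e}) ≃ₐ[k] k :=
    (AlgEquiv.ofBijective (Algebra.ofId k (A ⧸ Ideal.span {e})) ⟨(algebraMap k _).injective, hsurj⟩).symm
  have hg : g = p := by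
    rw [eA.toLinearEquiv.finrank_eq, Module.finrank_self, mul_one, hA] at hdim
    exact hdim.symm
  subst hg
  exact ⟨(AlgEquiv.ofBijective Φ hΦ).trans (AlgEquiv.piCongrRight fun _ => eA)⟩


/-- Let k be an algebraically closed field of characteristic p > 0, ℓ a prime, and A a commutative Hopf
algebra over k of dimension ℓ as a k-vector space (a finite group scheme G of prime order ℓ). If ℓ ≠
p then G ≅ ℤ/ℓ: A is isomorphic as a bialgebra to the algebra of k-valued functions on the cyclic
group of order ℓ. If ℓ = p then G is isomorphic to ℤ/p, μ_p or α_p: A is isomorphic as a bialgebra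
to the algebra of functions on the cyclic group of order p, to its group algebra (group elements
group-like), or to k[X]/(X^p) with X primitive. -/
theorem result (k : Type u) [Field k] [IsAlgClosed k]
    (p : ℕ) [Fact p.Prime] [CharP k p] (A : Type v) [CommRing A] [HopfAlgebra k A]
    (ℓ : ℕ) [Fact ℓ.Prime] (hA : Module.finrank k A = ℓ) :
    (ℓ ≠ p → Nonempty (A ≃ₐc[k] ConstGrp.F k (Multiplicative (ZMod ℓ)))) ∧
      (ℓ = p → Nonempty (A ≃ₐc[k] ConstGrp.F k (Multiplicative (ZMod p))) ∨
        Nonempty (A ≃ₐc[k] MonoidAlgebra k (Multiplicative (ZMod p))) ∨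
        Nonempty (A ≃ₐc[k] AlphaP.A p k)) := by
  have hℓ : ℓ.Prime := Fact.out
  have : Module.Finite k A := Module.finite_of_finrank_pos (by rw [hA]; exact hℓ.pos)
  refine ⟨fun hne => ?_, fun heq => ?_⟩
  · have h0 : ((Module.finrank k A : ℕ) : k) ≠ 0 := by
      rw [hA]
      intro h
      rw [CharP.cast_eq_zero_iff k p, Nat.prime_dvd_prime_iff_eq (Fact.out : p.Prime) hℓ] at h
      exact hne h.symm
    have := Groth.Agent.FinHopf.etale_of_finrank_ne_zero k A h0
    have : IsReduced A := Algebra.FormallyUnramified.isReduced_of_field k A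
    obtain ⟨Φ⟩ := exists_points ℓ hA
    exact of_points ℓ Φ
  · subst heq
    by_cases hred : IsReduced A
    · obtain ⟨Φ⟩ := exists_points ℓ hA
      exact Or.inl (of_points ℓ Φ)
    · rcases Groth.Agent.S17330.result k ℓ A hred with ⟨f, hf⟩ | ⟨f, hf⟩
      · refine Or.inr (Or.inl ⟨BialgEquiv.ofBijective f ⟨?_, hf⟩⟩)
        have : Module.finrank k (MonoidAlgebra k (Multiplicative (ZMod ℓ))) = ℓ := by
          rw [(MonoidAlgebra.coeffLinearEquiv k).finrank_eq]
          simp
        exact (LinearMap.injective_iff_surjective_of_finrank_eq_finrank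
          (f := (AlgHomClass.toAlgHom f).toLinearMap) (hA.trans this.symm)).2 hf
      · refine Or.inr (Or.inr ⟨BialgEquiv.ofBijective f ⟨?_, hf⟩⟩)
        exact (LinearMap.injective_iff_surjective_of_finrank_eq_finrank
          (f := (AlgHomClass.toAlgHom f).toLinearMap) (hA.trans (AlphaP.finrank_eq ℓ k).symm)).2 hf

end Groth.Agent.S17331
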