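import Groth.Statements.S17332
import Mathlib.RingTheory.Idempotents
import Mathlib.Algebra.Algebra.Pi

set_option autoImplicit false
universe u v w
open CAlg

namespace Groth.Agent.S17332

/-- Let k be a field, E and F finite sets, and O(E), O(F) the k-algebras of k-valued functions with
pointwise operations. Then every k-algebra homomorphism u : O(F) → O(E) is pull-back along a unique
map φ : E → F, i.e. u(g) = g ∘ φ for all g. (In the source k is algebraically closed; the printed
argument only uses that k is a field.) -/
theorem result (k : Type u) [Field k] (E : Type v) [Finite E]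
    (F : Type w) [Finite F] (u : (F → k) →ₐ[k] (E → k)) :
    ∃! φ : E → F, ∀ g : F → k, u g = g ∘ φ := by
  classical
  cases nonempty_fintype F
  have hone : ∀ e : E, ∃! y : F, u (Pi.single y 1) e ≠ 0 := fun e => by
    have hsum : ∑ y : F, u (Pi.single y 1) e = 1 := by
      rw [← Finset.sum_apply, ← map_sum, Finset.univ_sum_single (fun _ : F => (1 : k)),
        show (fun _ : F => (1 : k)) = 1 from rfl, map_one, Pi.one_apply]
    obtain ⟨y, hy⟩ : ∃ y, u (Pi.single y 1) e ≠ 0 := by
      by_contra! h
      rw [Finset.sum_eq_zero fun y _ => h y] at hsum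
      exact zero_ne_one hsum
    refine ⟨y, hy, fun z hz => by_contra fun hne => ?_⟩
    have h := congr_fun (map_mul u (Pi.single z (1 : k)) (Pi.single y 1)) e
    rw [show (Pi.single z (1 : k) : F → k) * Pi.single y 1 = 0 by
      ext w; by_cases hw : w = z
      · subst hw; simp [hne]
      · simp [hw], map_zero, Pi.zero_apply, Pi.mul_apply] at h
    exact mul_ne_zero hz hy h.symm
  choose φ hφ hu using fun e => hone e
  refine ⟨φ, fun g => ?_, fun ψ hψ => funext fun e => hu e (ψ e) ?_⟩
  · ext e
    have hval : u (Pi.single (φ e) 1) e = 1 := by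
      have h := congr_fun (map_mul u (Pi.single (φ e) (1 : k)) (Pi.single (φ e) 1)) e
      rw [← Pi.single_mul, mul_one, Pi.mul_apply] at h
      exact mul_right_cancel₀ (hφ e) (by rw [one_mul]; exact h.symm)
    conv_lhs => rw [← Finset.univ_sum_single g]
    rw [map_sum, Finset.sum_apply, Finset.sum_eq_single (φ e)]
    · rw [show Pi.single (φ e) (g (φ e)) = g (φ e) • Pi.single (φ e) (1 : k) by rw [← Pi.single_smul, smul_eq_mul, mul_one],
        map_smul, Pi.smul_apply, hval, smul_eq_mul, mul_one, Function.comp_apply]
    · intro y _ hy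
      rw [show Pi.single y (g y) = g y • Pi.single y (1 : k) by rw [← Pi.single_smul, smul_eq_mul, mul_one],
        map_smul, Pi.smul_apply, not_not.1 fun h => hy (hu e y h), smul_zero]
    · exact fun h => absurd (Finset.mem_univ _) h
  · show u (Pi.single (ψ e) 1) e ≠ 0
    rw [congr_fun (hψ (Pi.single (ψ e) 1)) e]
    simp

end Groth.Agent.S17332
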