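import Groth.Statements.S17333
import Mathlib.RingTheory.Derivation.Basic
import Mathlib.LinearAlgebra.Prod

set_option autoImplicit false
universe u v w
open CAlg

namespace Groth.Agent.S17333

/-- Let k be a field and A = B × C a decomposable commutative k-algebra. Then the natural map Der(B) ×
Der(C) → Der(A) is bijective: every k-derivation D : A → A is (b, c) ↦ (D₁ b, D₂ c) for a unique
pair of k-derivations D₁ : B → B, D₂ : C → C. Compatibility with brackets is not stated. (The
published statement takes k algebraically closed; this row takes any field.) -/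
theorem result (k : Type u) [Field k] (B : Type v) [CommRing B] [Algebra k B]
    (C : Type w) [CommRing C] [Algebra k C] (D : Derivation k (B × C) (B × C)) :
    ∃! P : Derivation k B B × Derivation k C C, ∀ (b : B) (c : C), D (b, c) = (P.1 b, P.2 c) := by
  have hidem : ∀ x : B × C, x * x = x → D x = 0 := fun x hx => by
    have h := D.leibniz x x
    rw [hx, smul_eq_mul] at h
    have h2 : x * D x = x * D x + x * D x := by
      calc x * D x = x * (x * D x + x * D x) := by rw [← h]
        _ = (x * x) * D x + (x * x) * D x := by ring
        _ = _ := by rw [hx]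
    have h3 : x * D x = 0 := left_eq_add.1 h2
    rw [h, h3, add_zero]
  have he : D (1, 0) = 0 := hidem _ (by simp)
  have hf : D (0, 1) = 0 := hidem _ (by simp)
  have hB : ∀ b : B, D (b, 0) = ((D (b, 0)).1, 0) := fun b => by
    have h := D.leibniz (1, 0) (b, 0)
    rw [he, smul_zero, add_zero, show ((1 : B), (0 : C)) * (b, 0) = (b, 0) by simp] at h
    exact Prod.ext rfl (by simpa using congrArg Prod.snd h)
  have hC : ∀ c : C, D (0, c) = (0, (D (0, c)).2) := fun c => by
    have h := D.leibniz (0, 1) (0, c)
    rw [hf, smul_zero, add_zero, show ((0 : B), (1 : C)) * (0, c) = (0, c) by simp] at h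
    exact Prod.ext (by simpa using congrArg Prod.fst h) rfl
  let lB : B →ₗ[k] B := (LinearMap.fst k B C).comp (D.toLinearMap.comp (LinearMap.inl k B C))
  let lC : C →ₗ[k] C := (LinearMap.snd k B C).comp (D.toLinearMap.comp (LinearMap.inr k B C))
  let P1 : Derivation k B B := Derivation.mk' lB fun a b => by
    show (D (a * b, 0)).1 = a • (D (b, 0)).1 + b • (D (a, 0)).1
    rw [show ((a * b, 0) : B × C) = (a, 0) * (b, 0) by simp, D.leibniz]
    simp
  let P2 : Derivation k C C := Derivation.mk' lC fun a b => by
    show (D (0, a * b)).2 = a • (D (0, b)).2 + b • (D (0, a)).2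
    rw [show ((0, a * b) : B × C) = (0, a) * (0, b) by simp, D.leibniz]
    simp
  refine ⟨(P1, P2), fun b c => ?_, fun Q hQ => ?_⟩
  · show D (b, c) = ((D (b, 0)).1, (D (0, c)).2)
    rw [show ((b, c) : B × C) = (b, 0) + (0, c) by simp, map_add, hB b, hC c]
    simp
  · refine Prod.ext (Derivation.ext fun b => ?_) (Derivation.ext fun c => ?_)
    · exact ((congrArg Prod.fst (hQ b 0))).symm
    · exact ((congrArg Prod.snd (hQ 0 c))).symm

end Groth.Agent.S17333
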