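import Groth.Statements.S17334
import Mathlib.RingTheory.Artinian.Module
import Mathlib.RingTheory.Artinian.Ring
import Mathlib.RingTheory.Idempotents
import Mathlib.RingTheory.Nilpotent.Basic

set_option autoImplicit false
universe u v
open CAlg

namespace Groth.Agent.S17334

/-- Let k be a field and A a nonzero commutative k-algebra which is finite-dimensional as a k-vector
space. Then A is indecomposable (no decomposition as a product of two nonzero rings, i.e. no
idempotent other than 0 and 1) if and only if A is a local ring. (In the source k is algebraically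
closed and the lemma adds that the maximal ideal is then the nilradical, is nilpotent, and has
residue field k; the equivalence itself uses only that k is a field, and the zero algebra is
excluded here explicitly.) -/
theorem result (k : Type u) [Field k]
    (A : Type v) [CommRing A] [Algebra k A] [Module.Finite k A] [Nontrivial A] :
    (∀ e : A, IsIdempotentElem e → e = 0 ∨ e = 1) ↔ IsLocalRing A := by
  haveI : IsArtinianRing A := IsArtinianRing.of_finite k A
  refine ⟨fun h => ?_, fun _ e he => ?_⟩
  · refine IsLocalRing.of_isUnit_or_isUnit_one_sub_self fun a => ?_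
    obtain ⟨n, y, hy⟩ := IsArtinian.exists_pow_succ_smul_dvd a (1 : A)
    -- a^(n+1) * y = a^n, so (a * y)^n is an idempotent
    rw [smul_eq_mul, smul_eq_mul, mul_one] at hy
    have hpow : ∀ j : ℕ, a ^ n * (a * y) ^ j = a ^ n := fun j => by
      induction j with
      | zero => rw [pow_zero, mul_one]
      | succ j ih => rw [pow_succ, ← mul_assoc, ih, ← mul_assoc, ← pow_succ]; exact hy
    have he : IsIdempotentElem ((a * y) ^ n) := by
      show (a * y) ^ n * (a * y) ^ n = (a * y) ^ n
      calc (a * y) ^ n * (a * y) ^ n = (a ^ n * (a * y) ^ n) * y ^ n := by rw [mul_pow]; ring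
        _ = _ := by rw [hpow n, ← mul_pow]
    rcases h _ he with h0 | h1
    · have := hpow n
      rw [h0, mul_zero] at this
      exact Or.inr (IsNilpotent.isUnit_one_sub ⟨n, this.symm⟩)
    · rcases n with _ | n
      · rw [pow_succ, pow_zero, one_mul] at hy
        exact Or.inl (IsUnit.of_mul_eq_one y hy)
      · rw [pow_succ, mul_comm ((a * y) ^ n), mul_assoc] at h1
        exact Or.inl (IsUnit.of_mul_eq_one _ h1)
  · rcases IsLocalRing.isUnit_or_isUnit_one_sub_self e with hu | hu
    · exact Or.inr ((IsIdempotentElem.iff_eq_one_of_isUnit hu).1 he)
    · exact Or.inl (by have := (IsIdempotentElem.iff_eq_one_of_isUnit hu).1 he.one_sub; exact sub_eq_self.1 this)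

end Groth.Agent.S17334
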