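import Groth.Statements.S17335
import Mathlib.FieldTheory.IsAlgClosed.Basic
import Mathlib.RingTheory.Artinian.Module
import Mathlib.RingTheory.Nilpotent.Lemmas
import Mathlib.RingTheory.Ideal.Quotient.Operations
import Mathlib.RingTheory.Jacobson.Ring

set_option autoImplicit false
universe u v
open CAlg

namespace Groth.Agent.S17335

/-- Let k be an algebraically closed field and A a commutative k-algebra which is finite-dimensional as
a k-vector space, and let E be the set of k-algebra homomorphisms A → k. Then E is finite, and the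
evaluation homomorphism A → O(E) = (E → k), a ↦ (f ↦ f(a)), is surjective with kernel the nilradical
of A; it therefore induces an isomorphism of A_red = A/nilradical(A) onto O(E). -/
theorem result (k : Type u) [Field k]
    [IsAlgClosed k] (A : Type v) [CommRing A] [Algebra k A] [Module.Finite k A] :
    Finite (A →ₐ[k] k) ∧
      Function.Surjective (AlgHom.pi (R := k) (fun f : A →ₐ[k] k => f)) ∧
      RingHom.ker (AlgHom.pi (R := k) (fun f : A →ₐ[k] k => f)) = nilradical A := by
  classical
  have : IsArtinianRing A := IsArtinianRing.of_finite k A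
  have hker : ∀ f g : A →ₐ[k] k, RingHom.ker f = RingHom.ker g → f = g := by
    intro f g h
    ext a
    have h1 : a - algebraMap k A (f a) ∈ RingHom.ker g := h ▸ (by simp [RingHom.mem_ker])
    rw [RingHom.mem_ker, map_sub, AlgHom.commutes] at h1
    exact (sub_eq_zero.1 h1).symm
  have hmax : ∀ f : A →ₐ[k] k, (RingHom.ker f).IsMaximal := fun f =>
    RingHom.ker_isMaximal_of_surjective f fun c => ⟨algebraMap k A c, AlgHom.commutes f c⟩
  have hfin : Finite (A →ₐ[k] k) := Finite.of_injective (fun f => (⟨RingHom.ker f, hmax f⟩ : MaximalSpectrum A))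
    fun f g h => hker f g (congrArg MaximalSpectrum.asIdeal h)
  refine ⟨hfin, ?_, le_antisymm (fun a ha => ?_) (fun a ha => ?_)⟩
  · intro v
    have := Fintype.ofFinite (A →ₐ[k] k)
    have hco : ∀ f g : A →ₐ[k] k, f ≠ g → ∃ e : A, f e = 1 ∧ g e = 0 := by
      intro f g hne
      obtain ⟨e, he, he'⟩ := Set.not_subset.1 (fun h => hne (hker f g (((hmax g).eq_of_le (hmax f).ne_top h).symm)) : ¬ (RingHom.ker g : Set A) ⊆ RingHom.ker f)
      exact ⟨(f e)⁻¹ • e, by rw [map_smul, smul_eq_mul, inv_mul_cancel₀ he'], by rw [map_smul, RingHom.mem_ker.1 he, smul_zero]⟩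
    choose e he1 he0 using hco
    let E : (A →ₐ[k] k) → A := fun f => ∏ g, if h : f ≠ g then e f g h else 1
    have hE : ∀ (f g : A →ₐ[k] k), g (E f) = if f = g then 1 else 0 := by
      intro f g
      split_ifs with h
      · subst h
        rw [map_prod]
        refine Finset.prod_eq_one fun g' _ => ?_
        split_ifs with h'
        · exact he1 f g' h'
        · exact map_one _
      · rw [map_prod]
        exact Finset.prod_eq_zero (Finset.mem_univ g) (by rw [dif_pos h]; exact he0 f g h)
    refine ⟨∑ f, v f • E f, funext fun g => ?_⟩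
    show g (∑ f, v f • E f) = v g
    simp [map_sum, map_smul, hE]
  · rw [mem_nilradical, nilpotent_iff_mem_prime]
    intro P hP
    have : P.IsMaximal := IsArtinianRing.isMaximal_of_isPrime P
    have : Module.Finite k (A ⧸ P) := inferInstance
    let e := IsAlgClosed.algebraMap_bijective_of_isIntegral (k := k) (K := A ⧸ P)
    let f : A →ₐ[k] k := (AlgEquiv.ofBijective (Algebra.ofId k (A ⧸ P)) e).symm.toAlgHom.comp (Ideal.Quotient.mkₐ k P)
    have h1 : f a = 0 := congrFun (RingHom.mem_ker.1 ha) f
    exact Ideal.Quotient.eq_zero_iff_mem.1 ((EmbeddingLike.map_eq_zero_iff (f := (AlgEquiv.ofBijective (Algebra.ofId k (A ⧸ P)) e).symm)).1 h1)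
  · exact RingHom.mem_ker.2 (funext fun f => IsReduced.eq_zero _ ((mem_nilradical.1 ha).map f))

end Groth.Agent.S17335
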