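import Groth.Statements.S17341
import Groth.Agent.CBSurf.Reduced
-- import your own Groth.Agent.* helpers here

set_option autoImplicit false
universe u
open CategoryTheory CategoryTheory.Limits AlgebraicGeometry
open AdjLin

namespace Groth.Agent.S17341

/-- Let k be an algebraically closed field of characteristic zero and X a smooth projective surface over
k (irreducible, proper, smooth of dimension 2, with an ample invertible module), ω a second exterior
power of Ω_{X/k}, L an invertible O_X-module and Z ⊆ X a finite set of closed points, viewed as a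
reduced finite subscheme with ideal sheaf I_Z (the vanishing ideal of the closed set Z). Then the
following are equivalent: (a) there are a locally free O_X-module E of rank 2, a section s : O_X → E
and a map E → L ⊗ I_Z making 0 → O_X → E → L ⊗ I_Z → 0 a short exact sequence (the Koszul complex of
a rank-2 bundle of determinant L with a section vanishing exactly on Z); (b) for every point z of Z,
every global section of L ⊗ ω whose zero scheme contains all the other points of Z also vanishes at
z. -/
theorem result (k : Type u) [Field k] [IsAlgClosed k] [CharZero k]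
    (X : Scheme.{u}) [X.Over (Spec (CommRingCat.of k))] [IsProper (X ↘ (Spec (CommRingCat.of k)))]
    [Smooth (X ↘ (Spec (CommRingCat.of k)))] [IrreducibleSpace X] (hdim : topologicalKrullDim X = 2)
    (H : X.Modules) (hH : CohB1.IsAmple H)
    (L : X.Modules) (hL : PicF.IsInvertible L)
    (ω : X.Modules) (hω : ExtPow.IsExtPow 2 (Omega.sheaf (X ↘ (Spec (CommRingCat.of k)))) ω)
    (Z : Finset X) (hZc : IsClosed ((Z : Set X))) (hZ : ∀ z ∈ Z, IsClosed ({z} : Set X)) :
    (∃ (E : X.Modules) (sE : Coh.structureModule X ⟶ E)
        (p : E ⟶ CohB1.tensorMod L (ClSub.idealMod (Scheme.IdealSheafData.vanishingIdeal ⟨(Z : Set X), hZc⟩)))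
        (w : sE ≫ p = 0), FlatMod.IsFinLocFreeOfRank 2 E ∧ (ShortComplex.mk sE p w).ShortExact) ↔
      (∀ z ∈ Z, ∀ σ : Coh.structureModule X ⟶ CohB1.tensorMod L ω,
        (∀ z' ∈ Z, z' ≠ z → z' ∈ (PicF2.zeroScheme (CohB1.tensorMod L ω) σ).support) →
          z ∈ (PicF2.zeroScheme (CohB1.tensorMod L ω) σ).support) := by
  haveI := Groth.Agent.CurveRR.isNoetherian_of_proper k X
  have hfin : ((Scheme.IdealSheafData.vanishingIdeal ⟨(Z : Set X), hZc⟩).support : Set X).Finite := by
    rw [Scheme.IdealSheafData.coe_support_vanishingIdeal]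
    exact Z.finite_toSet
  have hlci := Groth.Agent.CBSurf.lci_of_points (k := k) (Z := ⟨(Z : Set X), hZc⟩) Z.finite_toSet hZ
    (fun z hz => Groth.Agent.CBSurf.regular_dim_two (k := k) hdim (hZ z hz))
  have hO : PicF.IsInvertible (Coh.structureModule X) := PicLoc.isInvertible_structureModule X
  refine (Groth.Agent.CBSurf.bundle_iff_cb (k := k) hdim hH hω hO
    (⟨SecTwist.unitorR _⟩ : ClSub.IsInverseOf (Coh.structureModule X) (Coh.structureModule X)) hL
    (Scheme.IdealSheafData.vanishingIdeal ⟨(Z : Set X), hZc⟩) hfin hlci).trans ?_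
  have hωi : PicF.IsInvertible ω := by
    haveI : AlgebraicGeometry.IsIntegral X := Groth.Agent.CurveRR.Easy.isIntegral_of_smooth (k := k)
    exact Groth.Agent.SurfAdj.isInvertible_W k hdim hω
  let j := PicGrp.tensorModIso (SecTwist.unitorR L) (Iso.refl ω)
  have hM := TMul.isInvertible_tensorMod hL hωi
  have hM' := TMul.isInvertible_tensorMod (TMul.isInvertible_tensorMod hL hO) hωi
  refine Iff.trans ?_ (Groth.Agent.CBSurf.cb_points_iff (k := k) (Z := ⟨(Z : Set X), hZc⟩) hM hH Z.finite_toSet)
  constructor
  · intro h I' hI' σ hσ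
    have e := Groth.Agent.AbelMap.zeroScheme_comp_iso hM hM' σ j.symm
    rw [← e] at hσ ⊢
    exact h I' hI' _ hσ
  · intro h I' hI' σ hσ
    have e := Groth.Agent.AbelMap.zeroScheme_comp_iso hM' hM σ j
    rw [← e] at hσ ⊢
    exact h I' hI' _ hσ

end Groth.Agent.S17341
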