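import Groth.Statements.S17346
import Groth.Agent.PtBlowCoh.Main
import Groth.Agent.CBSurf.Setup
import Groth.Agent.S11345
import Groth.Agent.DivPart.Sum
-- import your own Groth.Agent.* helpers here

set_option backward.isDefEq.respectTransparency false
set_option autoImplicit false
universe u
open CategoryTheory CategoryTheory.Limits AlgebraicGeometry
open AdjLin

namespace Groth.Agent.S17346

/-- Let k be an algebraically closed field of characteristic zero, X a smooth projective surface over k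
(irreducible, proper, smooth of dimension 2, with an ample invertible module), ω_X a second exterior
power of Ω_{X/k}, L an invertible O_X-module, x a closed point with ideal sheaf m_x, r > 0 an
integer, f : Y → X a blow-up of X at x over k with exceptional ideal I_E = m_x · O_Y, and ω_Y a
second exterior power of Ω_{Y/k}. Then for every i the k-vector spaces H^i(X, m_x^r ⊗ (L ⊗ ω_X)) and
H^i(Y, I_E^(r+1) ⊗ (f^*L ⊗ ω_Y)) have the same dimension; in divisor notation H^i(X, O_X(K_X + L) ⊗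
m_x^r) ≅ H^i(Y, O_Y(K_Y + f^*L − (r+1)E)). (The published statement gives isomorphisms of these
cohomology groups; this row states only that their dimensions agree.) -/
theorem result (k : Type u) [Field k] [IsAlgClosed k] [CharZero k]
    (X : Scheme.{u}) [X.Over (Spec (CommRingCat.of k))] [IsProper (X ↘ (Spec (CommRingCat.of k)))]
    [Smooth (X ↘ (Spec (CommRingCat.of k)))] [IrreducibleSpace X] (hdim : topologicalKrullDim X = 2)
    (H : X.Modules) (hH : CohB1.IsAmple H)
    (ωX : X.Modules) (hωX : ExtPow.IsExtPow 2 (Omega.sheaf (X ↘ (Spec (CommRingCat.of k)))) ωX)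
    (L : X.Modules) (hL : PicF.IsInvertible L)
    (x : X) (hx : IsClosed ({x} : Set X)) (r : ℕ) (hr : 0 < r)
    (Y : Scheme.{u}) [Y.Over (Spec (CommRingCat.of k))] (f : Y ⟶ X) (hf : f ≫ (X ↘ (Spec (CommRingCat.of k))) = Y ↘ (Spec (CommRingCat.of k)))
    (hbl : BlowUp.IsBlowUp f (W4c2seshadripos.pointIdeal x hx))
    (ωY : Y.Modules) (hωY : ExtPow.IsExtPow 2 (Omega.sheaf (Y ↘ (Spec (CommRingCat.of k)))) ωY) (i : ℕ) :
    Module.finrank k (Coh.HH X (CohB1.tensorMod (ClSub.idealMod ((W4c2seshadripos.pointIdeal x hx) ^ r))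
        (CohB1.tensorMod L ωX)) i) =
      Module.finrank k (Coh.HH Y (CohB1.tensorMod
        (ClSub.idealMod ((BlowUp.exceptional f (W4c2seshadripos.pointIdeal x hx)) ^ (r + 1)))
        (CohB1.tensorMod ((Scheme.Modules.pullback f).obj L) ωY)) i) := by
  haveI := Groth.Agent.CurveRR.isNoetherian_of_proper k X
  haveI : AlgebraicGeometry.IsIntegral X := Groth.Agent.CurveRR.Easy.isIntegral_of_smooth (k := k)
  have hreg := fun y : X => Groth.Agent.SurfAdj.regular k hdim y
  obtain ⟨hr1, hr2⟩ := Groth.Agent.CBSurf.regular_dim_two (k := k) hdim hx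
  have hp : Groth.Agent.PtBlow.IsRegPt X x := ⟨hx, hr1, hr2.trans (by norm_cast)⟩
  have hb : BlowUp.IsBlowUp f (Groth.Agent.PtBlow.pt hp) := hbl
  haveI := Groth.Agent.PtBlow.isProper_blowUp hp hb
  haveI : IsIntegral Y := Groth.Agent.PtPush.isIntegral_blowUp hp hb
  have hdim' := Groth.Agent.PtBlowCoh.dim_eq_two (k := k) hdim hp hb
  have hproj : ∃ (n : ℕ) (ι : X ⟶ CohB1.ProjSpace n k), IsClosedImmersion ι ∧
      ι ≫ CohB1.ProjSpace.toSpec n k = (X ↘ (Spec (CommRingCat.of k))) := by
    obtain ⟨n, d, ρ, -, hρ, hρc, -⟩ :=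
      Groth.Agent.AmpleEmb.exists_closedImmersion_projSpace (X ↘ (Spec (CommRingCat.of k))) hH
    exact ⟨n, ρ, hρc, hρ⟩
  obtain ⟨⟨e⟩, -⟩ := Groth.Agent.S11345.result k X hdim hreg hproj ωX hωX x hx Y f hb hdim'
    (fun t => Groth.Agent.PtPush.regular_blowUp hp hb hreg t)
    (Groth.Agent.PtBlowCoh.exists_closedImmersion (k := k) hH hb) ωY (by rw [hf]; exact hωY)
  have hG : PicF.IsInvertible (CohB1.tensorMod L ωX) :=
    TMul.isInvertible_tensorMod hL (Groth.Agent.SurfAdj.isInvertible_W k hdim hωX)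
  let J := BlowUp.exceptional f (W4c2seshadripos.pointIdeal x hx)
  have hJ : BlowUp.IsEffCartierIdeal J := hb.1
  obtain ⟨t⟩ := Groth.Agent.Nakai.nonempty_idealMod_mul (Groth.Agent.DivPart.cartier_pow hJ r) hJ
  obtain ⟨p⟩ := TMul.nonempty_pullTensorIso f L ωX
  let w : CohB1.tensorMod (ClSub.idealMod (J ^ (r + 1))) (CohB1.tensorMod ((Scheme.Modules.pullback f).obj L) ωY) ≅
      CohB1.tensorMod (ClSub.idealMod (J ^ r)) ((Scheme.Modules.pullback f).obj (CohB1.tensorMod L ωX)) :=
    PicGrp.tensorModIso (eqToIso (congrArg ClSub.idealMod (pow_succ J r)) ≪≫ t.symm) (Iso.refl _) ≪≫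
      TMul.swapIso _ _ _ _ ≪≫ TMul.assocIso _ _ _ ≪≫
      PicGrp.tensorModIso (Iso.refl _) (PicGrp.tensorModIso (Iso.refl _) (TMul.commIso _ _ ≪≫ e) ≪≫ p)
  obtain ⟨a⟩ := Groth.Agent.PtBlowCoh.nonempty_hh_pow (k := k) hp hf hreg hb hG r i
  exact ((Groth.Agent.CohFinite.hhEquiv k w i).trans a).finrank_eq.symm

end Groth.Agent.S17346
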