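import Groth.Statements.S17352
import Groth.Agent.AzLoc.Tools

set_option autoImplicit false
set_option backward.isDefEq.respectTransparency false
universe u v w w'
open scoped TensorProduct
open AzInv
open Groth.Agent.AzLoc

namespace Groth.Agent.S17352

/-- (b) ⇒ (a): let `R` be a commutative ring with an involution `lam` whose fixed ring is exactly `S`;
assume that units have square roots locally for the etale topology of `S` (every unit of an etale
`S`-algebra becomes a square in some etale faithfully flat extension), and that `2` is a unit in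
`S`, or `R` is a quadratic etale `S`-algebra, or `n` is odd. Let `A` and `A'` be Azumaya
`R`-algebras of the same degree `n ≥ 1` with `lam`-involutions `t` and `t'`. If `t` and `t'` have
the same type, i.e. for some positive sizes the matrix algebras over `A` and `A'` with the
involutions induced by `t` and `t'` (apply the involution entrywise, then transpose) become
isomorphic as `R`-algebras with involution after an etale faithfully flat base change of `S`, then
`(A, t)` and `(A', t')` themselves become isomorphic as `R`-algebras with involution after an etale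
faithfully flat base change of `S`. (The source states this for an exact quotient of a locally
ringed topos with involution; the row is the affine case `Spec R → Spec S`, with etale coverings of
`Spec S` replaced by a single etale faithfully flat `S`-algebra.) -/
theorem result (S : Type u) (R : Type v) [CommRing S] [CommRing R] [Algebra S R]
    (lam : R ≃ₐ[S] R) (hlam : ∀ r, lam (lam r) = r) (hfix : RInv.IsFixedRing S R lam.toRingEquiv)
    (hsq : ∀ (S₁ : Type u) [CommRing S₁] [Algebra S S₁] [Algebra.Etale S S₁] (x : S₁ˣ),
      ∃ (S₂ : Type u) (_ : CommRing S₂) (_ : Algebra S₁ S₂) (_ : Algebra.Etale S₁ S₂)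
        (_ : Module.FaithfullyFlat S₁ S₂) (y : S₂), y * y = algebraMap S₁ S₂ ↑x)
    (n : ℕ) (hn : 0 < n) (hcond : IsUnit (2 : S) ∨ RInv.IsQuadEtale S R ∨ Odd n)
    (A : Type w) [Ring A] [Algebra S A] [Algebra R A] [IsScalarTower S R A]
    (A' : Type w') [Ring A'] [Algebra S A'] [Algebra R A'] [IsScalarTower S R A']
    (hA : AzInv.IsAzumayaDeg R A n) (hA' : AzInv.IsAzumayaDeg R A' n)
    (t : AzInv.LamInv R A lam) (t' : AzInv.LamInv R A' lam) (h : AzInv.SameType S lam t t') :
    AzInv.LocIsoEt S lam t t' := by
  haveI := hA.1
  haveI := hA'.1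
  refine locIso_of_local t t' fun p T _ _ _ hsc hp hcol => isoAt_of_iso' t t' ?_
  have hI := isInv_T hlam hfix hcol
  rcases hI.ram_or_spl with hR | hS
  swap
  · exact (std1_at_spl hI hS hn hA).iso (std1_at_spl hI hS hn hA')
  have hc : IsUnit (2 : T ⊗[S] R) ∨ Odd n := by
    rcases hcond with h2 | hq | ho
    · exact Or.inl (isUnit_two_bc T h2)
    · exact absurd (spl_of_quad hq hI) (hI.not_ram_spl hR)
    · exact Or.inr ho
  obtain ⟨s, hs, hstd⟩ := exists_signOK (t := t) hI hR hn hA hc
  obtain ⟨s', hs', hstd'⟩ := exists_signOK (t := t') hI hR hn hA' hc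
  obtain ⟨m, m', hm, hm', hloc⟩ := h
  haveI := hI.isLocalRing hR
  haveI := hI.finite_maximal
  haveI : Module.Finite R (Matrix (Fin m) (Fin m) A) := finite_matrix m
  haveI : Module.Finite R (Matrix (Fin m') (Fin m') A') := finite_matrix m'
  haveI : Module.Projective R (Matrix (Fin m) (Fin m) A) := projective_matrix m
  haveI : Module.Projective R (Matrix (Fin m') (Fin m') A') := projective_matrix m'
  have hiso := iso'_of_isoAt _ _ (isoAt_of_locIso _ _ hloc T)
  have h1 := Std.bcMatrix T t hstd m
  have h2 := (Std.bcMatrix T t' hstd' m').of_iso hiso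
  haveI := hI.nontrivial
  have hcard : m' * n = m * n := by simpa using h2.card_eq h1
  have hss : s' = s := by
    rcases hs with ⟨rfl, hc1⟩ | ⟨rfl, hu⟩ <;> rcases hs' with ⟨rfl, hc1'⟩ | ⟨rfl, hu'⟩
    · rfl
    · exact (not_std_one_neg hR hI (Nat.mul_pos hm hn) hu' h1 (h2.cast hcard)).elim
    · exact (not_std_one_neg hR hI (Nat.mul_pos hm hn) hu (h2.cast hcard) h1).elim
    · rfl
  subst hss
  exact iso_of_sign hI hR (exists_sqrt hcol hsq) hs hstd hstd'

end Groth.Agent.S17352
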