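import Groth.Statements.S17356
import Groth.Agent.AzLoc.Tools

set_option autoImplicit false
set_option backward.isDefEq.respectTransparency false
universe u v w
open scoped TensorProduct
open AzInv
open Groth.Agent.AzLoc

namespace Groth.Agent.S17356

/-- Let `R` be a commutative ring with an involution `lam` whose fixed ring is exactly `S`, and let `A`
be an Azumaya `R`-algebra of degree `n ≥ 1`. Then `A` becomes a matrix algebra after base change
along an etale covering of `S` (and not merely of `R`): there are an etale faithfully flat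
`S`-algebra `S'` and an `S'`-algebra isomorphism from `S' ⊗_S A` to the `n × n` matrices over `S'
⊗_S R` that carries multiplication by `1 ⊗ r`, for `r` in `R`, to multiplication by the scalar
matrix `1 ⊗ r`. (The source states this for a good quotient of schemes by an involution; the row is
the affine case `Spec R → Spec S`.) -/
theorem result (S : Type u) (R : Type v) [CommRing S] [CommRing R] [Algebra S R]
    (lam : R ≃ₐ[S] R) (hlam : ∀ r, lam (lam r) = r) (hfix : RInv.IsFixedRing S R lam.toRingEquiv)
    (A : Type w) [Ring A] [Algebra S A] [Algebra R A] [IsScalarTower S R A]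
    (n : ℕ) (hn : 0 < n) (hA : AzInv.IsAzumayaDeg R A n) :
    ∃ (S' : Type u) (_ : CommRing S') (_ : Algebra S S') (_ : Algebra.Etale S S')
      (_ : Module.FaithfullyFlat S S') (f : S' ⊗[S] A ≃ₐ[S'] Matrix (Fin n) (Fin n) (S' ⊗[S] R)),
      ∀ (r : R) (x : S' ⊗[S] A),
        f (((1 : S') ⊗ₜ[S] algebraMap R A r) * x) = Matrix.scalar (Fin n) ((1 : S') ⊗ₜ[S] r) * f x := by
  haveI := hA.1
  haveI : Module.Projective R (Matrix (Fin n) (Fin n) R) := projective_matrix n
  obtain ⟨E, i1, i2, het, hff, f, hf, -⟩ := exists_iso_cover (A := A) (A' := Matrix (Fin n) (Fin n) R)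
    (lam := lam) none (fun p T _ _ _ hsc hp hcol => by
      have hI := isInv_T hlam hfix hcol
      haveI := hI.isIntegral
      haveI := hI.finite_maximal
      obtain ⟨hAz, hr⟩ := azumaya_bc (S := S) (E := T) R A hA
      haveI := hAz
      obtain ⟨θ⟩ := exists_matrixIso T (T ⊗[S] A) hn hr
      refine ⟨(θ.restrictScalars T).trans (mEquiv R T (Fin n)).symm, fun r x => ?_, fun _ h => by simp at h⟩
      apply (mEquiv R T (Fin n)).injective
      show (mEquiv R T (Fin n)) ((mEquiv R T (Fin n)).symm (θ _)) = _
      rw [AlgEquiv.apply_symm_apply, ← scal_tmul, ← bc_smul_def, map_smul, ← scal_tmul, mEquiv_scal_self]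
      congr 1
      exact ((mEquiv R T (Fin n)).apply_symm_apply _).symm)
  refine ⟨E, i1, i2, het, hff, f.trans (mEquiv R E (Fin n)), fun r x => ?_⟩
  show mEquiv R E (Fin n) (f _) = _
  rw [hf, ← scal_tmul, mEquiv_scal_self]
  ext i j
  simp [Matrix.scalar, Matrix.diagonal_mul]

end Groth.Agent.S17356
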