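import Groth.Statements.S17358
import Groth.Agent.AzLoc.Sign

set_option autoImplicit false
set_option backward.isDefEq.respectTransparency false
universe u v w
open scoped TensorProduct
open AzInv
open Groth.Agent.AzLoc

namespace Groth.Agent.S17358


section Helpers

variable {R : Type v} [CommRing R]

/-- The standard alternating matrix. -/
private def altJ (m : ℕ) : Matrix (Fin (m * 2)) (Fin (m * 2)) R :=
  Matrix.reindexAlgEquiv R R finProdFinEquiv
    (Matrix.compAlgEquiv (Fin m) (Fin 2) R R (Matrix.diagonal fun _ => J2 R))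

private theorem altJ_sq (m : ℕ) : altJ (R := R) m * altJ m = -1 := by
  have h : J2 R * J2 R = -1 := by
    ext a b
    fin_cases a <;> fin_cases b <;> simp [J2, Matrix.mul_apply, Fin.sum_univ_two]
  rw [altJ, ← map_mul, ← map_mul, Matrix.diagonal_mul_diagonal, h,
    show (Matrix.diagonal fun _ : Fin m => (-1 : Matrix (Fin 2) (Fin 2) R)) = -1 by
      ext a b x y
      by_cases h : a = b <;> simp [h, Matrix.one_apply],
    map_neg, map_neg, map_one, map_one]

private theorem lamTr_J2 {S : Type u} [CommRing S] [Algebra S R] (lam : R ≃ₐ[S] R) :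
    AzInv.lamTr (⇑lam) (J2 R) = -J2 R := by
  ext a b
  fin_cases a <;> fin_cases b <;> simp [J2]

private theorem lamTr_altJ {S : Type u} [CommRing S] [Algebra S R] (lam : R ≃ₐ[S] R) (m : ℕ) :
    AzInv.lamTr (⇑lam) (altJ m) = -altJ m := by
  ext i j
  obtain ⟨⟨a, x⟩, rfl⟩ := finProdFinEquiv.surjective i
  obtain ⟨⟨b, y⟩, rfl⟩ := finProdFinEquiv.surjective j
  simp only [altJ, AzInv.lamTr_apply, Matrix.neg_apply, Matrix.coe_reindexAlgEquiv, Matrix.reindex_apply,
    Matrix.submatrix_apply, Equiv.symm_apply_apply]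
  show lam ((Matrix.diagonal fun _ : Fin m => J2 R) b a y x) = -((Matrix.diagonal fun _ : Fin m => J2 R) a b x y)
  rcases eq_or_ne a b with rfl | hab
  · simp only [Matrix.diagonal_apply_eq]
    exact congrFun (congrFun (lamTr_J2 lam) x) y
  · simp [hab, Ne.symm hab]

end Helpers

/-- The twisted transpose by a global matrix, given by an element and a sign. -/
private theorem exists_matrix {S : Type u} [CommRing S] {R : Type v} [CommRing R] [Algebra S R]
    (lam : R ≃ₐ[S] R) (hlam : ∀ r, lam (lam r) = r) {f : R} (hf : f * f = f) (hlf : lam f = f) (n : ℕ)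
    (hodd : Odd n → f = 1) :
    ∃ (w : (Matrix (Fin n) (Fin n) R)ˣ),
      AzInv.LamInv.transpose lam (Fin n) hlam (↑w : Matrix (Fin n) (Fin n) R) =
        (2 * f - 1) • (↑w : Matrix (Fin n) (Fin n) R) ∧ lam (2 * f - 1) * (2 * f - 1) = 1 := by
  have he : lam (2 * f - 1) * (2 * f - 1) = 1 := by
    rw [map_sub, map_mul, map_ofNat, map_one, hlf]; linear_combination 4 * hf
  rcases Nat.even_or_odd n with ⟨m, rfl⟩ | ho
  swap
  · refine ⟨1, ?_, he⟩
    rw [hodd ho, mul_one, show (2 : R) - 1 = 1 by norm_num, one_smul]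
    exact AzInv.LamInv.map_one _
  · let J := Matrix.reindexAlgEquiv R R (finCongr (by ring : m * 2 = m + m)) (altJ (R := R) m)
    have hJ2 : J * J = -1 := by simp only [J, ← map_mul, altJ_sq, map_neg, map_one]
    have hJt : AzInv.lamTr (⇑lam) J = -J := by
      ext i j
      exact congrFun (congrFun (lamTr_altJ lam m) _) _
    refine ⟨⟨f • 1 + (1 - f) • J, f • 1 - (1 - f) • J, ?_, ?_⟩, ?_, he⟩
    · simp only [add_mul, mul_sub, smul_add, smul_sub, smul_mul_assoc, mul_smul_comm, smul_smul, mul_one, one_mul, hJ2, hf,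
        show f * (1 - f) = 0 by linear_combination -hf, show (1 - f) * f = 0 by linear_combination -hf,
        show (1 - f) * (1 - f) = 1 - f by linear_combination hf, zero_smul, sub_zero, zero_sub, add_zero, zero_add, smul_neg, neg_neg, sub_neg_eq_add]
      rw [← add_smul, add_sub_cancel, one_smul]
    · simp only [sub_mul, mul_add, smul_add, smul_sub, smul_mul_assoc, mul_smul_comm, smul_smul, mul_one, one_mul, hJ2, hf,
        show f * (1 - f) = 0 by linear_combination -hf, show (1 - f) * f = 0 by linear_combination -hf,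
        show (1 - f) * (1 - f) = 1 - f by linear_combination hf, zero_smul, add_zero, zero_add, smul_neg,
        sub_neg_eq_add, sub_zero]
      rw [← add_smul, add_sub_cancel, one_smul]
    · show AzInv.lamTr (⇑lam) (f • 1 + (1 - f) • J) = (2 * f - 1) • (f • 1 + (1 - f) • J)
      rw [lamTr_add, lamTr_smul, lamTr_smul, lamTr_one, hJt, map_sub, map_one, hlf, smul_add, smul_smul, smul_smul,
        show (2 * f - 1) * f = f by linear_combination 2 * hf,
        show (2 * f - 1) * (1 - f) = -(1 - f) by linear_combination -2 * hf, smul_neg, neg_smul]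

/-- Let `R` be a commutative ring with an involution `lam` whose fixed ring is exactly `S`; assume that
units have square roots locally for the etale topology of `S` (every unit of an etale `S`-algebra
becomes a square in some etale faithfully flat extension), and that either `2` is a unit in `S` and
the quotient `Spec R → Spec S` is everywhere ramified (for no prime `p` of `S` is `S_p ⊗_S R` a
quadratic etale `S_p`-algebra; the case `R = S` is included), or `R` is a quadratic etale
`S`-algebra (the unramified case). Then every `lam`-involution `t` of an Azumaya `R`-algebra `A` of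
degree `n ≥ 1` is ordinary: there are a global invertible `n × n` matrix `w` over `R` and an element
`e` of `R` with `lam`-transpose of `w` equal to `e • w` and `lam e * e = 1`, such that `(A, t)`
becomes isomorphic, after an etale faithfully flat base change of `S`, to the matrix algebra over
`R` with the involution `x ↦ w * (lam-transpose of x) * w⁻¹` (equivalently `x ↦ (a x a⁻¹)` followed
by the `lam`-transpose, for the global matrix `a` whose `lam`-transpose is `w⁻¹`). (The source
states this for an exact quotient of a locally ringed topos with involution; the row is the affine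
case `Spec R → Spec S`, with etale coverings of `Spec S` replaced by a single etale faithfully flat
`S`-algebra.) -/
theorem result (S : Type u) (R : Type v) [CommRing S] [CommRing R] [Algebra S R]
    (lam : R ≃ₐ[S] R) (hlam : ∀ r, lam (lam r) = r) (hfix : RInv.IsFixedRing S R lam.toRingEquiv)
    (hsq : ∀ (S₁ : Type u) [CommRing S₁] [Algebra S S₁] [Algebra.Etale S S₁] (x : S₁ˣ),
      ∃ (S₂ : Type u) (_ : CommRing S₂) (_ : Algebra S₁ S₂) (_ : Algebra.Etale S₁ S₂)
        (_ : Module.FaithfullyFlat S₁ S₂) (y : S₂), y * y = algebraMap S₁ S₂ ↑x)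
    (hram : (IsUnit (2 : S) ∧ ∀ p : PrimeSpectrum S,
        ¬ RInv.IsQuadEtale (Localization.AtPrime p.asIdeal) (Localization.AtPrime p.asIdeal ⊗[S] R)) ∨
      RInv.IsQuadEtale S R)
    (A : Type w) [Ring A] [Algebra S A] [Algebra R A] [IsScalarTower S R A]
    (n : ℕ) (hn : 0 < n) (hA : AzInv.IsAzumayaDeg R A n) (t : AzInv.LamInv R A lam) :
    ∃ (w : (Matrix (Fin n) (Fin n) R)ˣ) (e : R)
      (hw : AzInv.LamInv.transpose lam (Fin n) hlam (↑w : Matrix (Fin n) (Fin n) R) = e • (↑w : Matrix (Fin n) (Fin n) R))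
      (he : lam e * e = 1),
      AzInv.LocIsoEt S lam t ((AzInv.LamInv.transpose lam (Fin n) hlam).conj w e hw he) := by
  haveI := hA.1
  classical
  rcases hram with ⟨h2, hram⟩ | hq
  swap
  · obtain ⟨w, hw, he⟩ := exists_matrix lam hlam (f := (1 : R)) (one_mul 1) (map_one lam) n fun _ => rfl
    refine ⟨w, _, hw, he, ?_⟩
    haveI : Module.Projective R (Matrix (Fin n) (Fin n) R) := projective_matrix n
    refine locIso_of_local _ _ fun p T _ _ _ hsc hp hcol => isoAt_of_iso' _ _ ?_
    have hI := isInv_T hlam hfix hcol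
    haveI : Nonempty (Fin n) := ⟨⟨0, hn⟩⟩
    have hS := spl_of_quad hq hI
    have hC := std_conj_transpose T hlam w _ hw he
    exact (std1_at_spl hI hS hn hA).iso (std1_of_spl hS (hC.isUnit_sign hI) hC)
  have hall : ∀ (q : PrimeSpectrum R) (r : R), lam r - r ∈ q.asIdeal := fun q r => by
    by_contra hr
    exact hram (PrimeSpectrum.comap (algebraMap S R) q) (quad_of_unramified hlam hfix q hr _ rfl)
  have h2R : IsUnit (2 : R) := by rw [← map_ofNat (algebraMap S R) 2]; exact h2.map _
  let Ot : Set (PrimeSpectrum R) := {q | Groth.Agent.AzSign.symRank (⇑lam) t q = (n + 1).choose 2}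
  have hclopen : IsClopen Ot := by
    have ho : IsLocallyConstant fun q => decide (q ∈ Ot) := by
      refine (IsLocallyConstant.iff_exists_open _).2 fun q => ?_
      obtain ⟨g, hg, hq'⟩ := Groth.Agent.AzSign.exists_nhd (⇑lam) t h2R q (hall q)
      exact ⟨PrimeSpectrum.basicOpen g, PrimeSpectrum.isOpen_basicOpen, hg, fun q' h' => by
        simp only [Ot, Set.mem_setOf_eq, hq' q' (hall q') h']⟩
    have h := ho.isClopen_fiber true
    simpa using h
  obtain ⟨f, hf, hOf⟩ := (PrimeSpectrum.existsUnique_idempotent_basicOpen_eq_of_isClopen hclopen).exists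
  have hlf : lam f = f := by
    refine PrimeSpectrum.basicOpen_injOn_isIdempotentElem (hf.map lam) hf ?_
    ext q
    show lam f ∉ q.asIdeal ↔ f ∉ q.asIdeal
    exact not_congr ⟨fun h => by simpa using sub_mem h (hall q f), fun h => by simpa using add_mem (hall q f) h⟩
  have hmem : ∀ q : PrimeSpectrum R, f ∉ q.asIdeal ↔
      Groth.Agent.AzSign.symRank (⇑lam) t q = (n + 1).choose 2 := fun q => (Set.ext_iff.1 hOf q).symm
  have hpt : ∀ (T : Type u) [CommRing T] [HenselianLocalRing T] [Algebra S T],
      IsSepClosed (IsLocalRing.ResidueField T) → Groth.Agent.MultT.IsEtColim S T →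
      IsInv (lamE T lam) ∧ Ram (lamE T lam) ∧ ∃ s, SignOK (T := T) (S := S) (R := R) n s ∧
        Std (lamE T lam) s (Fin n) (bcInv T t) ∧ (1 : T) ⊗ₜ[S] (2 * f - 1) = s ∧
        ∃ q : PrimeSpectrum R, (f ∉ q.asIdeal ↔ s = 1) ∧ q.asIdeal.comap (algebraMap S R) =
          (IsLocalRing.maximalIdeal T).comap (algebraMap S T) := by
    intro T _ _ _ hsc hcol
    have hI := isInv_T hlam hfix hcol
    haveI := hI.nontrivial
    obtain ⟨M, hM⟩ := Ideal.exists_maximal (T ⊗[S] R)
    let q := below (S := S) (R := R) (T := T) ⟨M, hM⟩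
    obtain ⟨hR, -⟩ := ram_of_ramified hlam hfix hI (q := q) (hall q) (below_over hI ⟨M, hM⟩)
    haveI := hI.isLocalRing hR
    obtain ⟨s, hs, hstd⟩ := exists_signOK (t := t) hI hR hn hA (Or.inl (isUnit_two_bc T h2))
    have hfs : f ∉ q.asIdeal ↔ s = 1 := (hmem q).trans (orth_iff h2 hI hR hn hA t hs.sign hstd ⟨M, hM⟩)
    refine ⟨hI, hR, s, hs, hstd, ?_, q, hfs, below_over hI ⟨M, hM⟩⟩
    have hmap : (1 : T) ⊗ₜ[S] (2 * f - 1) = 2 * ((1 : T) ⊗ₜ[S] f) - 1 := by
      show (Algebra.TensorProduct.includeRight : R →ₐ[S] T ⊗[S] R) (2 * f - 1) = _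
      rw [map_sub, map_mul, map_ofNat, map_one]
      rfl
    have hidem : ((1 : T) ⊗ₜ[S] f) * ((1 : T) ⊗ₜ[S] f) = (1 : T) ⊗ₜ[S] f := by
      rw [Algebra.TensorProduct.tmul_mul_tmul, one_mul, hf.eq]
    have hMm := IsLocalRing.eq_maximalIdeal hM
    by_cases hfq : f ∈ q.asIdeal
    · have h0 : (1 : T) ⊗ₜ[S] f = 0 := by
        have hnu : IsUnit (1 - (1 : T) ⊗ₜ[S] f) := by
          by_contra hn'
          have h1 := add_mem ((IsLocalRing.mem_maximalIdeal _).2 hn') (hMm ▸ (show (1 : T) ⊗ₜ[S] f ∈ M from hfq))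
          rw [sub_add_cancel] at h1
          exact (IsLocalRing.maximalIdeal.isMaximal _).ne_top ((Ideal.eq_top_iff_one _).2 h1)
        exact hnu.mul_right_eq_zero.1 (by rw [sub_mul, one_mul, hidem, sub_self])
      rw [hmap, h0, hs.sign.resolve_left fun h => hfs.2 h hfq]
      ring
    · have hu : IsUnit ((1 : T) ⊗ₜ[S] f) := by
        by_contra hn'
        exact hfq (show (1 : T) ⊗ₜ[S] f ∈ M from hMm.symm ▸ (IsLocalRing.mem_maximalIdeal _).2 hn')
      have h1 : (1 : T) ⊗ₜ[S] f = 1 := hu.mul_left_cancel (by rw [hidem, mul_one])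
      rw [hmap, h1, hfs.1 hfq]
      ring
  have hodd : Odd n → f = 1 := by
    intro ho
    refine PrimeSpectrum.basicOpen_injOn_isIdempotentElem hf IsIdempotentElem.one ?_
    refine SetLike.ext fun q => ⟨fun _ => fun h => q.isPrime.ne_top ((Ideal.eq_top_iff_one _).2 h), fun _ => ?_⟩
    obtain ⟨T, _, _, _, hsc, hp, hcol⟩ :=
      Groth.Agent.MultT.exists_strict_colim S (PrimeSpectrum.comap (algebraMap S R) q).asIdeal
    obtain ⟨hI, hR, s, hs, hstd, -, q', hq', hover⟩ := hpt T hsc hcol
    haveI := hI.isLocalRing hR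
    have hqq : q' = q := by
      haveI := q.isPrime
      haveI := q'.isPrime
      exact PrimeSpectrum.ext (eq_of_ramified hlam hfix (hall q) (hover.trans hp))
    subst hqq
    refine hq'.2 (hs.sign.resolve_right fun hneg => ?_)
    subst hneg
    exact not_std_one_neg hR hI hn (isUnit_two_bc T h2) (std_one_of_odd hI ho hstd) hstd
  obtain ⟨w, hw, he⟩ := exists_matrix lam hlam hf.eq hlf n hodd
  refine ⟨w, _, hw, he, ?_⟩
  haveI : Module.Projective R (Matrix (Fin n) (Fin n) R) := projective_matrix n
  refine locIso_of_local _ _ fun p T _ _ _ hsc hp hcol => isoAt_of_iso' _ _ ?_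
  obtain ⟨hI, hR, s, hs, hstd, hes, -⟩ := hpt T hsc hcol
  have hC := std_conj_transpose T hlam w _ hw he
  rw [hes] at hC
  exact iso_of_sign hI hR (exists_sqrt hcol hsq) hs hstd hC

end Groth.Agent.S17358
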