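import Groth.Statements.S17359
import Groth.Agent.AzLoc.Sign

set_option autoImplicit false
set_option backward.isDefEq.respectTransparency false
universe u w
open scoped TensorProduct
open AzInv
open Groth.Agent.AzLoc

namespace Groth.Agent.S17359

/-- Let `R` be a nontrivial commutative ring with connected spectrum in which `2` is a unit, with the
trivial involution (so that the involutions considered are of the first kind and the quotient is the
trivial one). Then there are exactly two types, the orthogonal and the symplectic one; this row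
states the first half: every involution of the first kind `t` of an Azumaya `R`-algebra `A` of
degree `n ≥ 1` has the same type either as the identity of `R` or as the standard symplectic
involution `x ↦ J xᵀ J⁻¹` of the `2 × 2` matrix algebra, `J` the matrix with rows `(0, -1)` and `(1,
0)` (same type: suitable matrix algebras over the two, with the induced involutions, become
isomorphic as `R`-algebras with involution after an etale faithfully flat base change of `R`). (The
source states that the monoid of types is isomorphic to the group of global square roots of `1`, for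
a locally ringed topos with trivial involution and `2` invertible; the row is the affine case with
connected spectrum, where that group is `{1, -1}`.) -/
theorem result (R : Type u) [CommRing R] (hlam : ∀ r : R, (AlgEquiv.refl : R ≃ₐ[R] R) ((AlgEquiv.refl : R ≃ₐ[R] R) r) = r)
    [Nontrivial R] [ConnectedSpace (PrimeSpectrum R)] (h2 : IsUnit (2 : R))
    (J : (Matrix (Fin 2) (Fin 2) R)ˣ) (hJ : (↑J : Matrix (Fin 2) (Fin 2) R) = Matrix.of ![![0, -1], ![1, 0]])
    (hJt : AzInv.LamInv.transpose (AlgEquiv.refl : R ≃ₐ[R] R) (Fin 2) hlam (↑J : Matrix (Fin 2) (Fin 2) R) = (-1 : R) • (↑J : Matrix (Fin 2) (Fin 2) R))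
    (hneg : (AlgEquiv.refl : R ≃ₐ[R] R) (-1) * (-1) = 1)
    (A : Type w) [Ring A] [Algebra R A]
    (n : ℕ) (hn : 0 < n) (hA : AzInv.IsAzumayaDeg R A n) (t : AzInv.LamInv R A (AlgEquiv.refl : R ≃ₐ[R] R)) :
    AzInv.SameType R (AlgEquiv.refl : R ≃ₐ[R] R) t (AzInv.LamInv.self (AlgEquiv.refl : R ≃ₐ[R] R) hlam) ∨
      AzInv.SameType R (AlgEquiv.refl : R ≃ₐ[R] R) t ((AzInv.LamInv.transpose (AlgEquiv.refl : R ≃ₐ[R] R) (Fin 2) hlam).conj J (-1) hJt hneg) := by
  haveI := hA.1
  classical
  have hfix : RInv.IsFixedRing R R (AlgEquiv.refl : R ≃ₐ[R] R).toRingEquiv :=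
    ⟨fun a b h => h, fun r => ⟨fun _ => ⟨r, rfl⟩, fun _ => rfl⟩⟩
  have hram : ∀ (q : PrimeSpectrum R) (r : R), (AlgEquiv.refl : R ≃ₐ[R] R) r - r ∈ q.asIdeal := fun q r => by
    simp
  let o : PrimeSpectrum R → Bool := fun q =>
    decide (Groth.Agent.AzSign.symRank (⇑(AlgEquiv.refl : R ≃ₐ[R] R)) t q = (n + 1).choose 2)
  have ho : IsLocallyConstant o := by
    refine (IsLocallyConstant.iff_exists_open o).2 fun q => ?_
    obtain ⟨f, hf, hq'⟩ := Groth.Agent.AzSign.exists_nhd (⇑(AlgEquiv.refl : R ≃ₐ[R] R)) t h2 q (hram q)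
    exact ⟨PrimeSpectrum.basicOpen f, PrimeSpectrum.isOpen_basicOpen, hf, fun q' h' => by
      simp only [o, hq' q' (hram q') h']⟩
  obtain ⟨q₀⟩ : Nonempty (PrimeSpectrum R) := inferInstance
  have key : ∀ (T : Type u) [CommRing T] [HenselianLocalRing T] [Algebra R T],
      IsSepClosed (IsLocalRing.ResidueField T) → Groth.Agent.MultT.IsEtColim R T →
      IsInv (lamE (R := R) T (AlgEquiv.refl : R ≃ₐ[R] R)) ∧ Ram (lamE (R := R) T (AlgEquiv.refl : R ≃ₐ[R] R)) ∧
      ∃ s, SignOK (R := R) (S := R) (T := T) n s ∧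
        Std (lamE (R := R) T (AlgEquiv.refl : R ≃ₐ[R] R)) s (Fin n) (bcInv T t) ∧ (o q₀ = true ↔ s = 1) := by
    intro T _ _ _ hsc hcol
    have hI := isInv_T (lam := (AlgEquiv.refl : R ≃ₐ[R] R)) hlam hfix hcol
    have hR : Ram (lamE (R := R) T (AlgEquiv.refl : R ≃ₐ[R] R)) := fun m w => by simp [lamE_refl]
    obtain ⟨s, hs, hstd⟩ := exists_signOK (t := t) hI hR hn hA (Or.inl (isUnit_two_bc T h2))
    haveI := hI.nontrivial
    obtain ⟨M, hM⟩ := Ideal.exists_maximal (T ⊗[R] R)
    refine ⟨hI, hR, s, hs, hstd, ?_⟩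
    rw [ho.apply_eq_of_preconnectedSpace q₀ (below (R := R) ⟨M, hM⟩), ← orth_iff h2 hI hR hn hA t hs.sign hstd ⟨M, hM⟩]
    simp [o]
  cases hc : o q₀ with
  | true =>
    left
    haveI : Module.Finite R (Matrix (Fin 1) (Fin 1) A) := finite_matrix 1
    haveI : Module.Projective R (Matrix (Fin 1) (Fin 1) A) := projective_matrix 1
    haveI : Module.Projective R (Matrix (Fin n) (Fin n) R) := projective_matrix n
    refine ⟨1, n, one_pos, hn, ?_⟩
    rw [self_matrix_eq hlam n]
    refine locIso_of_local _ _ fun p T _ _ _ hsc hp hcol => isoAt_of_iso' _ _ ?_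
    obtain ⟨hI, hR, s, hs, hstd, hso⟩ := key T hsc hcol
    haveI := hI.isLocalRing hR
    obtain rfl : s = 1 := hso.1 hc
    exact (std1_of_one hR hI (exists_sqrt_of_two (by rw [← map_ofNat (algebraMap R T) 2]; exact h2.map _))
      (Or.inl (isUnit_two_bc T h2)) ((Std.bcMatrix T t hstd 1).cast (one_mul n))).iso (std1_transpose T hlam n)
  | false =>
    right
    haveI : Module.Finite R (Matrix (Fin 2) (Fin 2) A) := finite_matrix 2
    haveI : Module.Projective R (Matrix (Fin 2) (Fin 2) A) := projective_matrix 2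
    haveI : Module.Projective R (Matrix (Fin 2) (Fin 2) R) := projective_matrix 2
    haveI : Module.Finite R (Matrix (Fin n) (Fin n) (Matrix (Fin 2) (Fin 2) R)) := finite_matrix n
    haveI : Module.Projective R (Matrix (Fin n) (Fin n) (Matrix (Fin 2) (Fin 2) R)) := projective_matrix n
    refine ⟨2, n, two_pos, hn, locIso_of_local _ _ fun p T _ _ _ hsc hp hcol => isoAt_of_iso' _ _ ?_⟩
    obtain ⟨hI, hR, s, hs, hstd, hso⟩ := key T hsc hcol
    haveI := hI.isLocalRing hR
    obtain rfl : s = -1 := hs.sign.resolve_left fun h => by simpa [hc] using hso.2 h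
    have hJs := std_conj_transpose T hlam J (-1) hJt hneg
    rw [neg_tmul_one] at hJs
    exact iso_of_neg hR hI (isUnit_two_bc T h2) (Std.bcMatrix T t hstd 2)
      ((Std.bcMatrix T _ hJs n).cast (mul_comm n 2))

end Groth.Agent.S17359
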