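import Groth.Statements.S1736
import Mathlib
import Groth.Agent.LocH.Grothendieck
import Groth.Agent.S1806
-- import your own Groth.Agent.* helpers here

set_option autoImplicit false
universe u
open LocCoh

namespace Groth.Agent.S1736

/-- Let A be a Noetherian ring of finite dimension d and I ⊆ I' ideals with I' contained in the Jacobson
radical of A. If cd(A, I') < d, i.e. H^i_{I'}(M) = 0 for all A-modules M and all i ≥ d, then also
cd(A, I) < d: H^i_I(M) = 0 for all A-modules M and all i ≥ d. -/
theorem result (A : Type u) [CommRing A] [IsNoetherianRing A] (d : ℕ) (hd : ringKrullDim A = d) (I I' : Ideal A) (hII' : I ≤ I') (hJ : I' ≤ (⊥ : Ideal A).jacobson) (h : ∀ (M : Type u) [AddCommGroup M] [Module A M] (i : ℕ), d ≤ i → Subsingleton (LocCoh.H I' i M)) (M : Type u) [AddCommGroup M] [Module A M] (i : ℕ) (hi : d ≤ i) : Subsingleton (LocCoh.H I i M) := by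
  refine subsingleton_of_forall_eq 0 fun x => ?_
  obtain ⟨y, rfl⟩ := (Groth.Agent.S1806.result A I I' hII' M i).1 (fun p hIp hI'p => by
    refine Groth.Agent.LocH.subsingleton_of_supportDim_lt _ i _ ?_
    obtain ⟨m, hm, hpm⟩ := Ideal.exists_le_maximal p.asIdeal p.isPrime.ne_top
    have hlt : p.asIdeal < m := lt_of_le_of_ne hpm fun e => hI'p (e ▸ hJ.trans (sInf_le ⟨bot_le, hm⟩))
    have h1 := Ideal.height_add_one_le_of_lt_of_isPrime hlt
    have h2 : ((m.height : ℕ∞) : WithBot ℕ∞) ≤ d := hd ▸ Ideal.height_le_ringKrullDim_of_isPrime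
    refine lt_of_le_of_lt ((Module.supportDim_le_ringKrullDim _ _).trans
      (IsLocalization.AtPrime.ringKrullDim_eq_height p.asIdeal _).le) ?_
    have h3 : p.asIdeal.height + 1 ≤ (i : ℕ∞) :=
      h1.trans ((WithBot.coe_le_coe.1 (h2.trans_eq rfl)).trans (by exact_mod_cast hi))
    exact WithBot.coe_lt_coe.2 ((ENat.add_one_le_iff (fun e => by rw [e, top_add] at h3; exact absurd h3 (by simp))).1 h3)) x
  have := h M i hi
  rw [this.elim y 0, map_zero]

end Groth.Agent.S1736
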