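import Groth.Statements.S17360
import Groth.Agent.AzLoc.Sign

set_option autoImplicit false
set_option backward.isDefEq.respectTransparency false
universe u
open scoped TensorProduct
open AzInv
open Groth.Agent.AzLoc

namespace Groth.Agent.S17360

/-- Let `R` be a nontrivial commutative ring in which `2` is a unit, with the trivial involution. This
row states the second half of the count of types: the identity of `R` (the orthogonal type) and the
standard symplectic involution `x ↦ J xᵀ J⁻¹` of the `2 × 2` matrix algebra, `J` the matrix with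
rows `(0, -1)` and `(1, 0)`, do not have the same type, i.e. for no positive sizes do the matrix
algebras over `R` with the transpose and over `M_2(R)` with the involution induced by the symplectic
one become isomorphic as `R`-algebras with involution after an etale faithfully flat base change of
`R`. (The source states that the monoid of types is isomorphic to the group of global square roots
of `1`, for a locally ringed topos with trivial involution and `2` invertible; the row is the affine
case.) -/
theorem result (R : Type u) [CommRing R] (hlam : ∀ r : R, (AlgEquiv.refl : R ≃ₐ[R] R) ((AlgEquiv.refl : R ≃ₐ[R] R) r) = r)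
    [Nontrivial R] (h2 : IsUnit (2 : R))
    (J : (Matrix (Fin 2) (Fin 2) R)ˣ) (hJ : (↑J : Matrix (Fin 2) (Fin 2) R) = Matrix.of ![![0, -1], ![1, 0]])
    (hJt : AzInv.LamInv.transpose (AlgEquiv.refl : R ≃ₐ[R] R) (Fin 2) hlam (↑J : Matrix (Fin 2) (Fin 2) R) = (-1 : R) • (↑J : Matrix (Fin 2) (Fin 2) R))
    (hneg : (AlgEquiv.refl : R ≃ₐ[R] R) (-1) * (-1) = 1) :
    ¬ AzInv.SameType R (AlgEquiv.refl : R ≃ₐ[R] R) (AzInv.LamInv.self (AlgEquiv.refl : R ≃ₐ[R] R) hlam) ((AzInv.LamInv.transpose (AlgEquiv.refl : R ≃ₐ[R] R) (Fin 2) hlam).conj J (-1) hJt hneg) := by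
  rintro ⟨a, b, ha, hb, hloc⟩
  have hfix : RInv.IsFixedRing R R (AlgEquiv.refl : R ≃ₐ[R] R).toRingEquiv :=
    ⟨fun a b h => h, fun r => ⟨fun _ => ⟨r, rfl⟩, fun _ => rfl⟩⟩
  obtain ⟨m, hm⟩ := Ideal.exists_maximal R
  obtain ⟨T, _, _, _, hsc, hp, hcol⟩ := Groth.Agent.MultT.exists_strict_colim R m
  have hI := isInv_T (lam := (AlgEquiv.refl : R ≃ₐ[R] R)) hlam hfix hcol
  have hR : Ram (lamE (R := R) T (AlgEquiv.refl : R ≃ₐ[R] R)) := fun m w => by simp [lamE_refl]
  haveI := hI.isLocalRing hR
  haveI := hI.finite_maximal
  haveI := hI.nontrivial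
  rw [self_matrix_eq hlam a] at hloc
  haveI : Module.Projective R (Matrix (Fin a) (Fin a) R) := projective_matrix a
  haveI : Module.Projective R (Matrix (Fin 2) (Fin 2) R) := projective_matrix 2
  haveI : Module.Finite R (Matrix (Fin b) (Fin b) (Matrix (Fin 2) (Fin 2) R)) := finite_matrix b
  haveI : Module.Projective R (Matrix (Fin b) (Fin b) (Matrix (Fin 2) (Fin 2) R)) := projective_matrix b
  have hiso := iso'_of_isoAt _ _ (isoAt_of_locIso _ _ hloc T)
  have hJs := std_conj_transpose T hlam J (-1) hJt hneg
  rw [neg_tmul_one] at hJs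
  have h1 := (std1_transpose T hlam a).std
  have h' := (Std.bcMatrix T _ hJs b).of_iso hiso
  have hcard : b * 2 = a := by simpa using h'.card_eq h1
  exact not_std_one_neg hR hI ha (isUnit_two_bc T h2) h1 (h'.cast hcard)

end Groth.Agent.S17360
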