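import Groth.Statements.S17361
import Groth.Agent.AzLoc.Sign

set_option autoImplicit false
set_option backward.isDefEq.respectTransparency false
universe u v w w'
open scoped TensorProduct
open AzInv
open Groth.Agent.AzLoc

namespace Groth.Agent.S17361

/-- Let `R` be a commutative ring with an involution `lam` whose fixed ring is exactly `S`, with `2` a
unit in `S`, and let `(A, t)` and `(A', t')` be Azumaya `R`-algebras of degrees `n, n' ≥ 1` with
`lam`-involutions. For a prime `q` of `R` in the ramification locus, i.e. such that `lam` is the
identity modulo `q`, the involution induced by `t` on the central simple algebra `k(q) ⊗_R A` is of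
the first kind, and it is orthogonal precisely when the images of the `t`-symmetric elements of `A`
span a subspace of dimension `n (n + 1) / 2` over `k(q)` (and symplectic otherwise). Then `t` and
`t'` have the same type (for some positive sizes, the matrix algebras over `A` and `A'` with the
induced involutions become isomorphic as `R`-algebras with involution after an etale faithfully flat
base change of `S`) if and only if at every prime of the ramification locus the involutions induced
by `t` and by `t'` are both orthogonal or both symplectic. (The source states this for a good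
quotient of schemes by an involution, with `2` invertible, through a locally constant sign function
on the ramification locus; the row is the affine case `Spec R → Spec S` with the signs spelled out
by dimensions of symmetric elements.) -/
theorem result (S : Type u) (R : Type v) [CommRing S] [CommRing R] [Algebra S R]
    (lam : R ≃ₐ[S] R) (hlam : ∀ r, lam (lam r) = r) (hfix : RInv.IsFixedRing S R lam.toRingEquiv)
    (h2 : IsUnit (2 : S))
    (A : Type w) [Ring A] [Algebra S A] [Algebra R A] [IsScalarTower S R A]
    (A' : Type w') [Ring A'] [Algebra S A'] [Algebra R A'] [IsScalarTower S R A']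
    (n n' : ℕ) (hn : 0 < n) (hn' : 0 < n') (hA : AzInv.IsAzumayaDeg R A n) (hA' : AzInv.IsAzumayaDeg R A' n')
    (t : AzInv.LamInv R A lam) (t' : AzInv.LamInv R A' lam) :
    AzInv.SameType S lam t t' ↔
      ∀ q : PrimeSpectrum R, (∀ r : R, lam r - r ∈ q.asIdeal) →
        (Module.finrank q.asIdeal.ResidueField
            (Submodule.span q.asIdeal.ResidueField
              (Set.range fun a : {a : A // t a = a} => (1 : q.asIdeal.ResidueField) ⊗ₜ[R] (a : A))) = Nat.choose (n + 1) 2 ↔
          Module.finrank q.asIdeal.ResidueField
            (Submodule.span q.asIdeal.ResidueField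
              (Set.range fun a : {a : A' // t' a = a} => (1 : q.asIdeal.ResidueField) ⊗ₜ[R] (a : A'))) = Nat.choose (n' + 1) 2) := by
  haveI := hA.1
  haveI := hA'.1
  constructor
  · rintro ⟨m, m', hm, hm', hloc⟩ q hq
    let p : PrimeSpectrum S := PrimeSpectrum.comap (algebraMap S R) q
    obtain ⟨T, _, _, _, hsc, hp, hcol⟩ := Groth.Agent.MultT.exists_strict_colim S p.asIdeal
    have hI := isInv_T hlam hfix hcol
    obtain ⟨hR, hb⟩ := ram_of_ramified hlam hfix hI hq hp.symm
    haveI := hI.isLocalRing hR
    haveI := hI.finite_maximal
    haveI := hI.nontrivial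
    have h2' := isUnit_two_bc (R := R) T h2
    obtain ⟨s, hs, hstd⟩ := exists_signOK (t := t) hI hR hn hA (Or.inl h2')
    obtain ⟨s', hs', hstd'⟩ := exists_signOK (t := t') hI hR hn' hA' (Or.inl h2')
    haveI : Module.Finite R (Matrix (Fin m) (Fin m) A) := finite_matrix m
    haveI : Module.Projective R (Matrix (Fin m) (Fin m) A) := projective_matrix m
    haveI : Module.Finite R (Matrix (Fin m') (Fin m') A') := finite_matrix m'
    haveI : Module.Projective R (Matrix (Fin m') (Fin m') A') := projective_matrix m'
    have hiso := iso'_of_isoAt _ _ (isoAt_of_locIso _ _ hloc T)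
    have h1 := Std.bcMatrix T t hstd m
    have hh := (Std.bcMatrix T t' hstd' m').of_iso hiso
    have hcard : m' * n' = m * n := by simpa using hh.card_eq h1
    have hss : s' = s := by
      rcases hs.sign with rfl | rfl <;> rcases hs'.sign with rfl | rfl
      · rfl
      · exact (not_std_one_neg hR hI (Nat.mul_pos hm hn) h2' h1 (hh.cast hcard)).elim
      · exact (not_std_one_neg hR hI (Nat.mul_pos hm hn) h2' (hh.cast hcard) h1).elim
      · rfl
    subst hss
    obtain ⟨M, hM⟩ := Ideal.exists_maximal (T ⊗[S] R)
    rw [← hb ⟨M, hM⟩]
    exact (orth_iff h2 hI hR hn hA t hs.sign hstd _).trans (orth_iff h2 hI hR hn' hA' t' hs'.sign hstd' _).symm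
  · intro h
    haveI : Module.Finite R (Matrix (Fin n') (Fin n') A) := finite_matrix n'
    haveI : Module.Projective R (Matrix (Fin n') (Fin n') A) := projective_matrix n'
    haveI : Module.Finite R (Matrix (Fin n) (Fin n) A') := finite_matrix n
    haveI : Module.Projective R (Matrix (Fin n) (Fin n) A') := projective_matrix n
    refine ⟨n', n, hn', hn, locIso_of_local _ _ fun p T _ _ _ hsc hp hcol => isoAt_of_iso' _ _ ?_⟩
    have hI := isInv_T hlam hfix hcol
    obtain ⟨s, hs, hstd⟩ := exists_std T hI t hn hA
    obtain ⟨s', hs', hstd'⟩ := exists_std T hI t' hn' hA'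
    rcases hI.ram_or_spl with hR | hS
    · haveI := hI.isLocalRing hR
      haveI := hI.nontrivial
      have h2' := isUnit_two_bc (R := R) T h2
      obtain ⟨s, hs, hstd⟩ := exists_signOK (t := t) hI hR hn hA (Or.inl h2')
      obtain ⟨s', hs', hstd'⟩ := exists_signOK (t := t') hI hR hn' hA' (Or.inl h2')
      obtain ⟨M, hM⟩ := Ideal.exists_maximal (T ⊗[S] R)
      have hq := h (below ⟨M, hM⟩) (ramified_below hR ⟨M, hM⟩)
      have hss : s = s' := eq_of_sign_iff hs.sign hs'.sign
        (((orth_iff h2 hI hR hn hA t hs.sign hstd _).symm.trans hq).trans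
          (orth_iff h2 hI hR hn' hA' t' hs'.sign hstd' _))
      subst hss
      exact iso_of_sign hI hR
        (exists_sqrt_of_two (by rw [← map_ofNat (algebraMap S T) 2]; exact h2.map _))
        (hs.sign.imp (fun h => ⟨h, Or.inl h2'⟩) fun h => ⟨h, h2'⟩)
        (Std.bcMatrix T t hstd n') ((Std.bcMatrix T t' hstd' n).cast (mul_comm n n'))
    · exact (std1_of_spl hS hs (Std.bcMatrix T t hstd n')).iso
        (std1_of_spl hS hs' ((Std.bcMatrix T t' hstd' n).cast (mul_comm n n')))

end Groth.Agent.S17361
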