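import Groth.Statements.S17375
import Groth.Agent.AsympCoh.PullPoly

set_option autoImplicit false
set_option backward.isDefEq.respectTransparency false
set_option backward.isDefEq.respectTransparency.types false
universe u
open CategoryTheory CategoryTheory.Limits AlgebraicGeometry Asymptotics
open Variety

namespace Groth.Agent.S17375

/-- Let X and Y be geometrically integral schemes proper over a field k, each admitting an ample
invertible module, with X of dimension d, and let f : Y → X be a k-morphism which is dominant and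
generically finite of degree n ≥ 1: f maps the generic point of Y to the generic point of X and the
induced extension of function fields has finite degree n. Then for every invertible module L on X
the difference dim_k H^0(Y, (f^*L)^m) − n · dim_k H^0(X, L^m) is O(m^(d−1)) as m → ∞ (so the volume
of f^*L is n times that of L). -/
theorem result (k : Type u) [Field k] (X Y : Scheme.{u})
    [X.Over (Spec (CommRingCat.of k))] [Y.Over (Spec (CommRingCat.of k))] [IsIntegral X] [IsIntegral Y]
    [GeometricallyIntegral (X ↘ Spec (CommRingCat.of k))] [GeometricallyIntegral (Y ↘ Spec (CommRingCat.of k))]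
    [IsProper (X ↘ Spec (CommRingCat.of k))] [IsProper (Y ↘ Spec (CommRingCat.of k))]
    (hXproj : ∃ A : X.Modules, CohB1.IsAmple A) (hYproj : ∃ B : Y.Modules, CohB1.IsAmple B)
    (d : ℕ) (hd : topologicalKrullDim X = d)
    (f : Y ⟶ X) (hf : f ≫ (X ↘ Spec (CommRingCat.of k)) = Y ↘ Spec (CommRingCat.of k))
    (hdom : f.base (genericPoint Y) = genericPoint X) (n : ℕ) (hn : f.residueDegree (genericPoint Y) = n) (hn0 : 0 < n)
    (L : X.Modules) (hL : PicF.IsInvertible L) :
    (fun m : ℕ => (Module.finrank k (Coh.HH Y (CohB1.tensorPow ((Scheme.Modules.pullback f).obj L) m) 0) : ℝ) -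
        n * Module.finrank k (Coh.HH X (CohB1.tensorPow L m) 0)) =O[Filter.atTop]
      (fun m : ℕ => (m : ℝ) ^ (d - 1)) := by
  obtain ⟨A, hA⟩ := hXproj
  obtain ⟨B, hB⟩ := hYproj
  haveI : IsProper (f ≫ (X ↘ Spec (CommRingCat.of k))) := by rw [hf]; infer_instance
  haveI : IsProper f := IsProper.of_comp f (X ↘ Spec (CommRingCat.of k))
  obtain ⟨C, hC⟩ := Groth.Agent.AsympCoh.compare_pull_deg k f hf hA hB hd hdom hn hn0 hL 0
  refine IsBigO.of_bound ((C * d * 2 ^ (d - 1) : ℕ) : ℝ) ?_
  filter_upwards [Filter.eventually_ge_atTop 1] with m hm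
  obtain ⟨h1, h2⟩ := hC m
  have hp : Groth.Agent.AsympCoh.poly d m ≤ d * 2 ^ (d - 1) * m ^ (d - 1) := by
    rw [Groth.Agent.AsympCoh.poly, mul_assoc, ← mul_pow]
    exact Nat.mul_le_mul_left _ (Nat.pow_le_pow_left (by omega) _)
  have h1' : ((Module.finrank k (Coh.HH Y (CohB1.tensorPow ((Scheme.Modules.pullback f).obj L) m) 0) : ℕ) : ℝ) ≤
      (n : ℝ) * (Module.finrank k (Coh.HH X (CohB1.tensorPow L m) 0) : ℕ) +
        ((C * d * 2 ^ (d - 1) : ℕ) : ℝ) * (m : ℝ) ^ (d - 1) := by
    refine le_trans (Nat.cast_le.2 (le_trans h1 (Nat.add_le_add_left (Nat.mul_le_mul_left C hp) _))) ?_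
    push_cast
    exact le_of_eq (by simp only [CurveRR.h]; ring)
  have h2' : (n : ℝ) * (Module.finrank k (Coh.HH X (CohB1.tensorPow L m) 0) : ℕ) ≤
      ((Module.finrank k (Coh.HH Y (CohB1.tensorPow ((Scheme.Modules.pullback f).obj L) m) 0) : ℕ) : ℝ) +
        ((C * d * 2 ^ (d - 1) : ℕ) : ℝ) * (m : ℝ) ^ (d - 1) := by
    refine le_trans (le_of_eq ?_) (le_trans (Nat.cast_le.2 (le_trans h2 (Nat.add_le_add_left (Nat.mul_le_mul_left C hp) _))) ?_)
    · push_cast; rfl
    · push_cast
      exact le_of_eq (by simp only [CurveRR.h]; ring)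
  rw [Real.norm_eq_abs, norm_pow, RCLike.norm_natCast, abs_le]
  constructor <;> linarith

end Groth.Agent.S17375
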