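import Groth.Statements.S17377
import Groth.Agent.BiratNormal.Scheme
import Groth.Agent.UnibranchEtale.RationalSection
import Groth.Agent.FpqcDescent.IdealGlue
import Groth.Agent.BlowUpLib.Cartier

set_option autoImplicit false
universe u
open CategoryTheory CategoryTheory.Limits AlgebraicGeometry
open Variety

set_option backward.isDefEq.respectTransparency false
set_option backward.isDefEq.respectTransparency.types false

namespace Groth.Agent.S17377

/-- Let X and Y be integral normal schemes locally of finite type over a field k and f : Y → X a finite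
étale k-morphism; let D ⊆ X be a closed subscheme which is an effective Cartier divisor and is
integral and normal as a scheme, and E ⊆ Y an integral closed subscheme mapping to D by a surjective
morphism g compatible with the inclusions whose residue-field extension at the generic point of E
has degree 1 (so E is a prime divisor of Y over D with the same function field: D splits in Y at the
level of Weil divisors). Then g is an isomorphism and E is an effective Cartier divisor on Y; in
particular D is the image of the relative Cartier divisor E (D is c-split). (The source works with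
projective, geometrically normal and geometrically integral X, Y of dimension at least 2 and
geometrically normal, geometrically integral D; those hypotheses only serve base change to extension
fields and are dropped here.) -/
theorem result (k : Type u) [Field k] (X Y : Scheme.{u})
    [X.Over (Spec (CommRingCat.of k))] [Y.Over (Spec (CommRingCat.of k))]
    [LocallyOfFiniteType (X ↘ Spec (CommRingCat.of k))] [LocallyOfFiniteType (Y ↘ Spec (CommRingCat.of k))]
    [IsIntegral X] [IsIntegral Y] (hX : Pi1.IsNormalScheme X) (hY : Pi1.IsNormalScheme Y)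
    (f : Y ⟶ X) (hf : f ≫ (X ↘ Spec (CommRingCat.of k)) = Y ↘ Spec (CommRingCat.of k)) [IsFinite f] [Etale f]
    (D : X.IdealSheafData) (hD : FGA.IsEffCartier D) [IsIntegral D.subscheme] (hDn : Pi1.IsNormalScheme D.subscheme)
    (E : Y.IdealSheafData) [IsIntegral E.subscheme]
    (g : (E.subscheme : Scheme.{u}) ⟶ D.subscheme) (hg : g ≫ D.subschemeι = E.subschemeι ≫ f)
    (hsurj : Function.Surjective g.base) (hdeg : g.residueDegree (genericPoint E.subscheme) = 1) :
    IsIso g ∧ FGA.IsEffCartier E := by
  haveI : IsFinite g := by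
    have : IsFinite (g ≫ D.subschemeι) := by rw [hg]; infer_instance
    exact MorphismProperty.of_postcomp (W := @IsFinite) (W' := @IsSeparated) g D.subschemeι inferInstance this
  haveI : Surjective g := ⟨hsurj⟩
  have hgen : g (genericPoint E.subscheme) = genericPoint D.subscheme :=
    ((genericPoint_spec E.subscheme).image g.continuous).eq
      (by rw [Set.image_univ, g.surjective.range_eq, closure_univ]; exact genericPoint_spec D.subscheme)
  have hgiso : IsIso g := by
    letI : Field (E.subscheme.presheaf.stalk (genericPoint E.subscheme)) :=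
      inferInstanceAs (Field E.subscheme.functionField)
    have hfld : IsField (D.subscheme.presheaf.stalk (g (genericPoint E.subscheme))) := by
      rw [hgen]; exact Field.toIsField D.subscheme.functionField
    have hres : Function.Surjective (g.residueFieldMap (genericPoint E.subscheme)).hom := by
      letI := (g.residueFieldMap (genericPoint E.subscheme)).hom.toAlgebra
      have h1 : Module.finrank (D.subscheme.residueField (g (genericPoint E.subscheme)))
          (E.subscheme.residueField (genericPoint E.subscheme)) = 1 := hdeg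
      exact (Module.Free.bijective_algebraMap_of_finrank_eq_one h1).2
    have hbir : IsIso (g.stalkMap (genericPoint E.subscheme)) := by
      letI := hfld.toField
      rw [ConcreteCategory.isIso_iff_bijective]
      refine ⟨RingHom.injective _, fun b => ?_⟩
      obtain ⟨a', ha'⟩ := hres (E.subscheme.residue _ b)
      obtain ⟨a, rfl⟩ := Ideal.Quotient.mk_surjective a'
      refine ⟨a, (E.subscheme.residue (genericPoint E.subscheme)).hom.injective ?_⟩
      exact (congr($(Scheme.residue_residueFieldMap g (genericPoint E.subscheme)) a)).symm.trans ha'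
    refine IsZariskiLocalAtTarget.of_forall_exists_morphismRestrict (P := MorphismProperty.isomorphisms Scheme)
      fun d => ?_
    obtain ⟨x, rfl⟩ := hsurj d
    obtain ⟨W, V, e, hxW, hxV, hiso⟩ := Groth.Agent.BiratNormal.exists_nhd_isIso g hbir x
      (hDn (g x)).2 (g.quasiFiniteAt x)
    haveI := hiso
    exact ⟨W, hxW, Groth.Agent.BiratNormal.isIso_morphismRestrict_of_nhd g W V e ⟨x, hxV⟩⟩
  haveI := hgiso
  refine ⟨hgiso, fun y => ?_⟩
  by_cases hy : y ∈ (E.support : Set Y)
  swap
  · obtain ⟨V, hV, hyV, hVE⟩ := exists_isAffineOpen_mem_and_subset (U := ⟨(E.support : Set Y)ᶜ,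
      E.support.isClosed.isOpen_compl⟩) (x := y) hy
    refine ⟨⟨V, hV⟩, hyV, 1, Submonoid.one_mem _, ?_⟩
    rw [Ideal.span_singleton_one, ← PrimeSpectrum.zeroLocus_empty_iff_eq_top]
    have h := Scheme.IdealSheafData.coe_support_inter E ⟨V, hV⟩
    rw [Set.eq_empty_iff_forall_notMem]
    intro p hp
    have hpV : hV.fromSpec p ∈ (V : Set Y) := hV.range_fromSpec.le ⟨p, rfl⟩
    have : hV.fromSpec p ∈ (E.support : Set Y) ∩ V := by
      rw [h]
      exact ⟨(Set.ext_iff.mp (hV.fromSpec_preimage_zeroLocus _) p).mpr hp, hpV⟩
    exact hVE this.2 this.1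
  obtain ⟨e₀, rfl⟩ : y ∈ Set.range E.subschemeι := by rwa [Scheme.IdealSheafData.range_subschemeι]
  let j := pullback.fst f D.subschemeι
  let q := pullback.snd f D.subschemeι
  let l : E.subscheme ⟶ pullback f D.subschemeι := pullback.lift E.subschemeι g hg.symm
  let s : D.subscheme ⟶ pullback f D.subschemeι := inv g ≫ l
  have hs : s ≫ q = 𝟙 _ := by simp [s, q, l]
  have hgs : g ≫ s ≫ j = E.subschemeι := by simp [s, j, l]
  haveI : IsOpenImmersion s := by
    have := Groth.Agent.UnibranchEtale.isOpenImmersion_of_section q ⊤ ((⊤ : D.subscheme.Opens).ι ≫ s)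
      (by rw [Category.assoc, hs, Category.comp_id])
    have e : s = (D.subscheme.topIso).inv ≫ ((⊤ : D.subscheme.Opens).ι ≫ s) := by
      rw [← Scheme.topIso_hom, Iso.inv_hom_id_assoc]
    rw [e]; infer_instance
  haveI : IsClosedImmersion j := inferInstance
  obtain ⟨O, hO, hOe⟩ := j.isEmbedding.isInducing.isOpen_iff.mp s.opensRange.2
  have hs0 : j (s (g e₀)) = E.subschemeι e₀ := by
    rw [← hgs]; rfl
  have hyO : E.subschemeι e₀ ∈ O := by
    rw [← hs0]
    exact (Set.ext_iff.mp hOe _).mpr ⟨g e₀, rfl⟩
  obtain ⟨U, ⟨hxU, a, ha, hDa⟩⟩ := hD (f (E.subschemeι e₀))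
  obtain ⟨W, hW, hyW, hWle⟩ := exists_isAffineOpen_mem_and_subset (U := ⟨O, hO⟩ ⊓ f ⁻¹ᵁ U.1)
    (x := E.subschemeι e₀) ⟨hyO, hxU⟩
  have eWU : W ≤ f ⁻¹ᵁ U.1 := hWle.trans inf_le_right
  have hDY : (D.comap f).ideal ⟨W, hW⟩ = Ideal.span {(f.appLE U.1 W eWU).hom a} := by
    rw [Groth.Agent.FpqcDescent.ideal_comap_appLE D f U ⟨W, hW⟩ eWU, hDa, Ideal.map_span, Set.image_singleton]
  refine ⟨⟨W, hW⟩, hyW, (f.appLE U.1 W eWU).hom a,
    Groth.Agent.BlowUpLib.mem_nonZeroDivisors_map_of_flat _ (f.flat_appLE U.2 hW eWU) ha, ?_⟩
  rw [← hDY]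
  -- the two closed subschemes agree on `W`
  have hker : E.comap W.ι = (D.comap f).comap W.ι := by
    have h1 : D.comap f = j.ker := by
      rw [Scheme.IdealSheafData.ker_fst_of_isClosedImmersion, Scheme.IdealSheafData.ker_subschemeι]
    haveI : IsClosedImmersion (s ≫ j) := by
      have e : s ≫ j = inv g ≫ E.subschemeι := by rw [← hgs, IsIso.inv_hom_id_assoc]
      rw [e]; infer_instance
    have h2 : E = (s ≫ j).ker := by
      have : E = (g ≫ s ≫ j).ker := by rw [hgs, Scheme.IdealSheafData.ker_subschemeι]
      exact this.trans (Scheme.Hom.ker_comp_of_isIso g (s ≫ j))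
    rw [h1, h2, ← Scheme.IdealSheafData.ker_fst_of_isClosedImmersion,
      ← Scheme.IdealSheafData.ker_fst_of_isClosedImmersion]
    let c : pullback W.ι (s ≫ j) ⟶ pullback W.ι j :=
      pullback.lift (pullback.fst _ _) (pullback.snd _ _ ≫ s) (by rw [Category.assoc]; exact pullback.condition)
    have hc : IsPullback (pullback.snd W.ι (s ≫ j)) c s (pullback.snd W.ι j) := by
      refine (IsPullback.of_right ?_ (pullback.lift_snd _ _ _) (IsPullback.of_hasPullback W.ι j)).flip
      rw [pullback.lift_fst]
      exact IsPullback.of_hasPullback W.ι (s ≫ j)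
    haveI : IsOpenImmersion c := MorphismProperty.of_isPullback hc inferInstance
    haveI : Surjective c := ⟨fun p => by
      have hp : j (pullback.snd W.ι j p) ∈ O := by
        rw [← Scheme.Hom.comp_apply, ← pullback.condition]
        exact (hWle (pullback.fst W.ι j p).2).1
      obtain ⟨d, hd⟩ := (Set.ext_iff.mp hOe _).mp hp
      obtain ⟨r, -, hr⟩ := Scheme.exists_preimage_of_isPullback hc d p hd
      exact ⟨r, hr⟩⟩
    haveI : IsIso c := (isIso_iff_isOpenImmersion_and_surjective c).mpr ⟨inferInstance, inferInstance⟩
    rw [show pullback.fst W.ι (s ≫ j) = c ≫ pullback.fst W.ι j from (pullback.lift_fst _ _ _).symm,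
      Scheme.Hom.ker_comp_of_isIso]
  apply Groth.Agent.FpqcDescent.map_injective_of_bijective (Groth.Agent.FpqcDescent.bijective_ι_appLE ⟨W, hW⟩)
  haveI : IsAffine W.toScheme := hW
  rw [← Groth.Agent.FpqcDescent.ideal_comap_ι, ← Groth.Agent.FpqcDescent.ideal_comap_ι, hker]

end Groth.Agent.S17377
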