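import Groth.Statements.S17384
import Groth.Agent.Nagata.Graph
import Groth.Agent.S17382
import Groth.Agent.RZExt.Consequences
import Groth.Agent.BlowUpExist.Proper
-- import your own Groth.Agent.* helpers here

set_option autoImplicit false
universe u
open FlatMor

namespace Groth.Agent.S17384

open AlgebraicGeometry CategoryTheory Limits in
/-- Let S be a quasi-compact quasi-separated scheme, X and Y quasi-compact quasi-separated S-schemes
with Y → S separated and locally of finite type, U ⊆ V ⊆ X dense quasi-compact open subschemes, and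
f : U → Y an S-morphism which is a quasi-domination of V over Y: the image Γ of its graph morphism U
→ X ×_S Y satisfies closure(Γ) ∩ (part over V) ⊆ Γ, i.e. the graph is closed in V ×_S Y. Then there
are a blowing up q : X̃ → X in a quasi-coherent ideal of finite type with support disjoint from V, a
dense open W ⊆ X̃ containing q⁻¹(U), and an S-morphism f̃ : W → Y which agrees with f on q⁻¹(U) and
whose graph morphism W → X̃ ×_S Y has closed image (a quasi-domination of X̃ over Y extending f). -/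
theorem result
    {S X Y : Scheme.{u}} [CompactSpace S] [QuasiSeparatedSpace S]
    [CompactSpace X] [QuasiSeparatedSpace X] [CompactSpace Y] [QuasiSeparatedSpace Y]
    (pX : X ⟶ S) (pY : Y ⟶ S) [IsSeparated pY] [LocallyOfFiniteType pY]
    (U V : X.Opens) (hUV : U ≤ V) (hU : IsCompact (U : Set X)) (hV : IsCompact (V : Set X))
    (hUd : Dense (U : Set X))
    (f : (U : Scheme.{u}) ⟶ Y) (hf : U.ι ≫ pX = f ≫ pY)
    (hcl : closure (Set.range (fun x => pullback.lift U.ι f hf x)) ∩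
        ((pullback.fst pX pY) ⁻¹ᵁ V : Set ↥(pullback pX pY)) ⊆ Set.range (fun x => pullback.lift U.ι f hf x)) :
    ∃ (𝓘 : X.IdealSheafData) (Xt : Scheme.{u}) (q : Xt ⟶ X),
      BlowUp.IsBlowUp q 𝓘 ∧ BlowUp.IsAdmissibleFor V 𝓘 ∧
      ∃ (W : Xt.Opens) (hle : q ⁻¹ᵁ U ≤ W) (ft : (W : Scheme.{u}) ⟶ Y) (hft : W.ι ≫ q ≫ pX = ft ≫ pY),
        Dense (W : Set Xt) ∧ Xt.homOfLE hle ≫ ft = (q ∣_ U) ≫ f ∧
        IsClosed (Set.range (fun x => pullback.lift W.ι ft hft x)) := by
  haveI : QuasiCompact pY := quasiCompact_of_compactSpace pY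
  haveI : CompactSpace U.toScheme := isCompact_iff_compactSpace.1 hU
  let γ : U.toScheme ⟶ pullback pX pY := pullback.lift U.ι f hf
  haveI : QuasiSeparatedSpace ↥(pullback pX pY) := quasiSeparatedSpace_of_quasiSeparated (pullback.fst pX pY)
  haveI : QuasiCompact γ := quasiCompact_of_compactSpace γ
  haveI : IsImmersion (γ ≫ pullback.fst pX pY) := by rw [pullback.lift_fst]; infer_instance
  haveI : IsImmersion γ := IsImmersion.of_comp γ (pullback.fst pX pY)
  let p : γ.image ⟶ X := γ.imageι ≫ pullback.fst pX pY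
  have hγp : γ.toImage ≫ p = U.ι := by
    rw [Scheme.Hom.toImage_imageι_assoc, pullback.lift_fst]
  have hover : ∀ x, p x ∈ V → x ∈ Set.range γ.toImage := by
    intro x hx
    have hc : γ.imageι x ∈ closure (Set.range γ) := by
      have hd : DenseRange γ.toImage.base := Scheme.Hom.denseRange _
      refine closure_mono ?_ (image_closure_subset_closure_image γ.imageι.continuous ⟨x, hd x, rfl⟩)
      rintro _ ⟨_, ⟨u, rfl⟩, rfl⟩
      exact ⟨u, by rw [← Scheme.Hom.comp_apply, Scheme.Hom.toImage_imageι]⟩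
    obtain ⟨u, hu⟩ := hcl ⟨hc, hx⟩
    refine ⟨u, γ.imageι.isClosedEmbedding.injective ?_⟩
    rw [← Scheme.Hom.comp_apply, Scheme.Hom.toImage_imageι]
    exact hu
  have hcond : γ.toImage ≫ p = X.homOfLE hUV ≫ V.ι := by rw [hγp, Scheme.homOfLE_ι]
  let a₁ := γ.toImage
  let a₂ := X.homOfLE hUV
  haveI : CompactSpace V.toScheme := isCompact_iff_compactSpace.1 hV
  haveI : QuasiCompact V.ι := quasiCompact_of_compactSpace _
  have hrange : IsClosed (Set.range (pullback.lift a₁ a₂ hcond)) := by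
    suffices h : Set.range (pullback.lift a₁ a₂ hcond) = Set.univ from h ▸ isClosed_univ
    refine Set.eq_univ_of_forall fun z => ?_
    have hz : p (pullback.fst p V.ι z) ∈ V := by
      rw [← Scheme.Hom.comp_apply, pullback.condition, Scheme.Hom.comp_apply]
      exact (pullback.snd p V.ι z).2
    obtain ⟨u, hu⟩ := hover _ hz
    refine ⟨u, (pullback.fst p V.ι).isOpenEmbedding.injective ?_⟩
    rw [← Scheme.Hom.comp_apply, pullback.lift_fst]
    exact hu
  haveI hsep : IsSeparated (pushout.desc p V.ι hcond) :=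
    Groth.Agent.RZExt.isSeparated_pushout_desc a₁ a₂ p V.ι hcond hrange
  obtain ⟨hlft, hqc⟩ := Groth.Agent.RZExt.finite_type_pushout_desc a₁ a₂ p V.ι hcond
  haveI := Groth.Agent.LimModel.isOpenImmersion_inl a₁ a₂
  haveI := Groth.Agent.LimModel.isOpenImmersion_inr a₁ a₂
  let i₁ := pushout.inl a₁ a₂
  let i₂ := pushout.inr a₁ a₂
  let P := pushout.desc p V.ι hcond
  have hi₁ : i₁ ≫ P = p := pushout.inl_desc _ _ _
  have hi₂ : i₂ ≫ P = V.ι := pushout.inr_desc _ _ _
  have hai : a₁ ≫ i₁ = a₂ ≫ i₂ := pushout.condition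
  have hpre : P ⁻¹ᵁ V = i₂.opensRange := by
    apply le_antisymm
    · intro z hz
      rcases (Groth.Agent.LimModel.inl_range_sup_inr_range a₁ a₂).ge (Set.mem_univ z) with ⟨x, rfl⟩ | h
      · obtain ⟨u, rfl⟩ := hover x (by rw [← hi₁, Scheme.Hom.comp_apply]; exact hz)
        exact ⟨a₂ u, by rw [← Scheme.Hom.comp_apply, ← hai, Scheme.Hom.comp_apply]⟩
      · exact h
    · rintro _ ⟨v, rfl⟩
      show P (i₂ v) ∈ V
      rw [← Scheme.Hom.comp_apply, hi₂]
      exact v.2
  haveI : IsIso (P ∣_ V) := by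
    let l := IsOpenImmersion.lift (P ⁻¹ᵁ V).ι i₂ (by rw [Scheme.Opens.range_ι, hpre]; rfl)
    have hl : l ≫ (P ⁻¹ᵁ V).ι = i₂ := IsOpenImmersion.lift_fac _ _ _
    haveI : IsOpenImmersion (l ≫ (P ⁻¹ᵁ V).ι) := hl ▸ inferInstance
    haveI : IsOpenImmersion l := IsOpenImmersion.of_comp l (P ⁻¹ᵁ V).ι
    haveI : IsIso l := (isIso_iff_isOpenImmersion_and_surjective _).2 ⟨inferInstance, ⟨fun v => by
      obtain ⟨x, hx⟩ := (hpre.le v.2 : v.1 ∈ i₂.opensRange)
      exact ⟨x, (P ⁻¹ᵁ V).ι.isOpenEmbedding.injective (by rw [← Scheme.Hom.comp_apply, hl]; exact hx)⟩⟩⟩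
    have e : P ∣_ V = inv l := by
      rw [← cancel_epi l, IsIso.hom_inv_id, ← cancel_mono V.ι, Category.assoc, morphismRestrict_ι, reassoc_of% hl,
        hi₂, Category.id_comp]
    rw [e]
    infer_instance
  have hPd : Dense ((P ⁻¹ᵁ V : Scheme.Opens _) : Set ↥(pushout a₁ a₂)) := by
    intro z
    rcases (Groth.Agent.LimModel.inl_range_sup_inr_range a₁ a₂).ge (Set.mem_univ z) with ⟨x, rfl⟩ | h
    · have hd : DenseRange a₁.base := Scheme.Hom.denseRange _
      refine closure_mono ?_ (image_closure_subset_closure_image i₁.continuous ⟨x, hd x, rfl⟩)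
      rintro _ ⟨_, ⟨u, rfl⟩, rfl⟩
      rw [hpre]
      exact ⟨a₂ u, by rw [← Scheme.Hom.comp_apply, ← hai, Scheme.Hom.comp_apply]⟩
    · exact subset_closure (hpre.ge h)
  obtain ⟨I, J, G', Xt, b, c, j, hb, hI, hc, hJ, _, hjc⟩ :=
    Groth.Agent.S17382.result P V hV (hUd.mono hUV) hPd
  haveI : IsProper b := Groth.Agent.BlowUpExist.isProper_of_isFiniteType hb hI.1
  haveI : IsProper c := Groth.Agent.BlowUpExist.isProper_of_isFiniteType hc hJ.1
  haveI := Groth.Agent.BlowUpLib.isIso_restrict hb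
  haveI := Groth.Agent.BlowUpLib.isIso_restrict hc
  have hVJ : ∀ {x : X}, x ∈ V → x ∈ J.support.compl := fun hx h => Set.disjoint_left.1 hJ.2 h hx
  let O : G'.Opens := b ⁻¹ᵁ i₁.opensRange
  let k : O.toScheme ⟶ Xt := O.ι ≫ j
  let W : Xt.Opens := k.opensRange
  let e := k.isoOpensRange
  let β : O.toScheme ⟶ γ.image := (b ∣_ i₁.opensRange) ≫ i₁.isoOpensRange.inv
  have hβ : β ≫ i₁ = O.ι ≫ b := by
    rw [Category.assoc, Scheme.Hom.isoOpensRange_inv_comp, morphismRestrict_ι]
  have hβp : β ≫ p = k ≫ c := by rw [← hi₁, reassoc_of% hβ, ← hjc, Category.assoc]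
  let ft : W.toScheme ⟶ Y := e.inv ≫ β ≫ γ.imageι ≫ pullback.snd pX pY
  have hft : W.ι ≫ c ≫ pX = ft ≫ pY := by
    rw [← cancel_epi e.hom]
    simp only [ft, Category.assoc, Iso.hom_inv_id_assoc]
    rw [← pullback.condition, Scheme.Hom.isoOpensRange_hom_ι_assoc, ← reassoc_of% hβp]
    simp [p]
  have hle : c ⁻¹ᵁ U ≤ W := by
    intro x hx
    have hxV : c x ∈ V := hUV hx
    obtain ⟨u, hu⟩ : ∃ u : U.toScheme, U.ι u = c x := ⟨⟨c x, hx⟩, rfl⟩
    let v := i₁ (a₁ u)
    have hvV : v ∈ P ⁻¹ᵁ V := by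
      show P (i₁ (a₁ u)) ∈ V
      rw [← Scheme.Hom.comp_apply i₁, hi₁, ← Scheme.Hom.comp_apply, hγp, hu]
      exact hxV
    obtain ⟨z, hz⟩ := (b ∣_ I.support.compl).surjective ⟨v, fun h => Set.disjoint_left.1 hI.2 h hvV⟩
    rw [morphismRestrict_base] at hz
    have hz' : b z.1 = v := congrArg Subtype.val hz
    refine ⟨⟨z.1, ?_⟩, ?_⟩
    · show b z.1 ∈ i₁.opensRange
      rw [hz']
      exact ⟨a₁ u, rfl⟩
    · have h1 : c (j z.1) = c x := by
        rw [← Scheme.Hom.comp_apply, hjc, Scheme.Hom.comp_apply, hz', ← Scheme.Hom.comp_apply i₁, hi₁,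
          ← Scheme.Hom.comp_apply, hγp, hu]
      have hm : ∀ y, c y ∈ V → y ∈ c ⁻¹ᵁ J.support.compl := fun y hy => hVJ hy
      have h2 := (c ∣_ J.support.compl).isOpenEmbedding.injective
        (a₁ := ⟨j z.1, hm _ (h1 ▸ hxV)⟩) (a₂ := ⟨x, hm _ hxV⟩)
        (by rw [morphismRestrict_base]; exact Subtype.ext h1)
      exact congrArg Subtype.val h2
  refine ⟨J, Xt, c, hc, hJ, W, hle, ft, hft, ?_, ?_, ?_⟩
  · refine Dense.mono hle ?_
    have hd := Groth.Agent.RZExt.dense_awayFrom hc.1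
    rw [Scheme.IdealSheafData.support_comap] at hd
    rw [dense_iff_inter_open]
    intro G hG hGne
    obtain ⟨y, hyG, hy⟩ := dense_iff_inter_open.1 hd G hG hGne
    let O' : Set (c ⁻¹ᵁ J.support.compl).toScheme := (c ⁻¹ᵁ J.support.compl).ι ⁻¹' G
    have hopen : IsOpen ((show X.Opens from J.support.compl).ι '' ((c ∣_ J.support.compl) '' O')) :=
      (show X.Opens from J.support.compl).ι.isOpenEmbedding.isOpenMap _
        ((c ∣_ J.support.compl).isOpenEmbedding.isOpenMap _
          (hG.preimage (c ⁻¹ᵁ J.support.compl).ι.continuous))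
    obtain ⟨_, ⟨_, ⟨w, hw, rfl⟩, rfl⟩, hwU⟩ := dense_iff_inter_open.1 hUd _ hopen
      ⟨_, ⟨_, ⟨⟨y, hy⟩, hyG, rfl⟩, rfl⟩⟩
    refine ⟨w.1, hw, ?_⟩
    show c w.1 ∈ U
    have := morphismRestrict_ι c J.support.compl
    rw [← Scheme.Hom.comp_apply, this, Scheme.Hom.comp_apply] at hwU
    exact hwU
  · let φ : (c ⁻¹ᵁ U).toScheme ⟶ γ.image := Xt.homOfLE hle ≫ e.inv ≫ β
    have hφp : φ ≫ p = (c ∣_ U) ≫ U.ι := by
      rw [morphismRestrict_ι]
      simp only [φ, Category.assoc]
      rw [hβp, Scheme.Hom.isoOpensRange_inv_comp_assoc, Scheme.homOfLE_ι_assoc]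
    have hr : Set.range φ ⊆ Set.range a₁ := by
      rintro _ ⟨x, rfl⟩
      refine hover _ (hUV ?_)
      rw [← Scheme.Hom.comp_apply, hφp, Scheme.Hom.comp_apply]
      exact ((c ∣_ U) x).2
    let t := IsOpenImmersion.lift a₁ φ hr
    have ht : t ≫ a₁ = φ := IsOpenImmersion.lift_fac _ _ _
    have htc : t = c ∣_ U := by rw [← cancel_mono U.ι, ← hφp, ← ht, Category.assoc, hγp]
    calc Xt.homOfLE hle ≫ ft = φ ≫ γ.imageι ≫ pullback.snd pX pY := by simp only [ft, φ, Category.assoc]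
      _ = t ≫ a₁ ≫ γ.imageι ≫ pullback.snd pX pY := by rw [reassoc_of% ht]
      _ = (c ∣_ U) ≫ f := by rw [htc, Scheme.Hom.toImage_imageι_assoc, pullback.lift_snd]
  · let m := pullback.lift W.ι ft hft
    let n : pullback (c ≫ pX) pY ⟶ pullback pX pY := pullback.map _ _ _ _ c (𝟙 Y) (𝟙 S) (by simp) (by simp)
    have hmn : m ≫ n = e.inv ≫ β ≫ γ.imageι := by
      apply pullback.hom_ext
      · simp only [m, n, Category.assoc, pullback.lift_fst, pullback.lift_fst_assoc]
        change W.ι ≫ c = e.inv ≫ β ≫ p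
        rw [hβp, Scheme.Hom.isoOpensRange_inv_comp_assoc]
      · simp only [m, n, ft, pullback.map, Category.assoc, pullback.lift_snd, pullback.lift_snd_assoc, Category.comp_id]
    haveI : IsProper (m ≫ n) := hmn ▸ inferInstance
    haveI : IsSeparated n := by
      haveI : IsSeparated (n ≫ pullback.fst pX pY) := by
        rw [show n ≫ pullback.fst pX pY = pullback.fst (c ≫ pX) pY ≫ c by simp only [n, pullback.map, pullback.lift_fst]]
        infer_instance
      exact IsSeparated.of_comp n (pullback.fst pX pY)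
    haveI : IsProper m := IsProper.of_comp (f := m) (g := n)
    exact m.isClosedMap.isClosed_range

end Groth.Agent.S17384
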