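import Groth.Statements.S17386
import Groth.Agent.BlowSep.Strict
-- import your own Groth.Agent.* helpers here

set_option autoImplicit false
universe u
open BlowUp

namespace Groth.Agent.S17386

open AlgebraicGeometry CategoryTheory Limits in
/-- Let X be any scheme, J_1, …, J_n quasi-coherent ideals on X with closed subschemes Y_i, and b : X' →
X a blowing up of X in the ideal J_1 + ⋯ + J_n of the intersection of the Y_i. For each i let b_i' :
Y_i' → Y_i be a blowing up of Y_i in the inverse image of J_1 + ⋯ + J_n and k_i : Y_i' → X' the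
morphism with k_i ≫ b = b_i' ≫ (Y_i → X), so that the image of k_i is the strict transform of Y_i.
Then the strict transforms have empty common intersection: no point of X' lies in the image of every
k_i. -/
theorem result
    {X X' : Scheme.{u}} {n : ℕ} (𝓙 : Fin n → X.IdealSheafData) (b : X' ⟶ X)
    (hb : BlowUp.IsBlowUp b (⨆ i, 𝓙 i))
    (Y' : Fin n → Scheme.{u}) (b' : ∀ i, Y' i ⟶ (𝓙 i).subscheme)
    (hb' : ∀ i, BlowUp.IsBlowUp (b' i) ((⨆ j, 𝓙 j).comap (𝓙 i).subschemeι))
    (k : ∀ i, Y' i ⟶ X') (hk : ∀ i, k i ≫ b = b' i ≫ (𝓙 i).subschemeι) :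
    (⋂ i, Set.range (fun y => k i y)) = (∅ : Set X') := by
  classical
  refine Set.eq_empty_of_forall_notMem fun x hx => ?_
  obtain ⟨O, hxO, -, ε, hεreg, hε⟩ := BlowUpLib.exists_small_generator hb.1 (O := ⊤) (x := x) trivial
  have hsum := hε
  rw [(Scheme.IdealSheafData.map_gc b).l_iSup, Scheme.IdealSheafData.ideal_iSup, iSup_apply] at hsum
  obtain ⟨f, hf⟩ := (Submodule.mem_iSup_finset_iff_exists_sum (s := (Finset.univ : Finset (Fin n)))
    (p := fun j => ((𝓙 j).comap b).ideal O) ε).1 (by simpa using hsum.ge (Ideal.mem_span_singleton_self ε))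
  have hfac : ∀ j, ∃ a, (f j : Γ(X', O.1)) = ε * a := fun j => Ideal.mem_span_singleton.1
    (hε ▸ Scheme.IdealSheafData.comap_mono b (le_iSup 𝓙 j) O (f j).2)
  choose a ha using hfac
  have hone : ∑ j, a j = 1 := by
    rw [← mul_cancel_left_mem_nonZeroDivisors hεreg, Finset.mul_sum, mul_one, ← Finset.sum_congr rfl (fun j _ => ha j)]
    exact hf
  have hz : ∀ j, x ∉ X'.basicOpen (a j) := fun j => by
    obtain ⟨y, hy⟩ := Set.mem_iInter.1 hx j
    dsimp only at hy
    rw [← hy] at hxO ⊢
    exact BlowSep.strict_cofactor (hk j) (BlowSep.comap_subschemeι_eq_bot (𝓙 j))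
      (by rw [Scheme.IdealSheafData.comap_comp]; exact (hb' j).1) hε (ha j ▸ (f j).2) y hxO
  refine (X'.evaluation_ne_zero_iff_mem_basicOpen x hxO (1 : Γ(X', O.1))).2
    (by rw [X'.basicOpen_of_isUnit isUnit_one]; exact hxO) ?_
  rw [← hone, map_sum]
  exact Finset.sum_eq_zero fun j _ => (X'.evaluation_eq_zero_iff_notMem_basicOpen x hxO _).2 (hz j)

end Groth.Agent.S17386
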