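import Groth.Statements.S17388
import Groth.Agent.RZExt.Consequences
import Groth.Agent.RZExt.Descend
import Groth.Agent.RZExt.ExtendIdeal
-- import your own Groth.Agent.* helpers here

set_option autoImplicit false
universe u
open FlatMor

namespace Groth.Agent.S17388

open AlgebraicGeometry CategoryTheory Limits

/-- The image of an open of the isomorphism locus. -/
theorem exists_image {X Y : Scheme.{u}} (π : X ⟶ Y) (U₀ : Y.Opens) [IsIso (π ∣_ U₀)] (U : X.Opens)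
    (hU : U ≤ π ⁻¹ᵁ U₀) :
    ∃ V : Y.Opens, (V : Set Y) = π '' (U : Set X) ∧ IsIso (π ∣_ V) ∧ π ⁻¹ᵁ V = U := by
  let O : U₀.toScheme.Opens := (π ∣_ U₀) ''ᵁ ((π ⁻¹ᵁ U₀).ι ⁻¹ᵁ U)
  let V : Y.Opens := U₀.ι ''ᵁ O
  have hval : ∀ x, U₀.ι ((π ∣_ U₀) x) = π x.1 := fun x => by
    rw [morphismRestrict_base]; rfl
  have hV : (V : Set Y) = π '' (U : Set X) := by
    ext y
    constructor
    · rintro ⟨_, ⟨x, hx, rfl⟩, rfl⟩
      exact ⟨x.1, hx, (hval x).symm⟩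
    · rintro ⟨x, hx, rfl⟩
      exact ⟨_, ⟨⟨x, hU hx⟩, hx, rfl⟩, hval _⟩
  have hle : V ≤ U₀ := by
    rintro _ ⟨z, -, rfl⟩
    exact z.2
  have hpre : π ⁻¹ᵁ V = U := by
    ext x
    constructor
    · intro hx
      obtain ⟨x', hx', he⟩ := hV.subset hx
      have h0 : π x ∈ U₀ := hle hx
      have h1 := (π ∣_ U₀).isOpenEmbedding.injective (a₁ := ⟨x', hU hx'⟩) (a₂ := ⟨x, h0⟩)
        (U₀.ι.isOpenEmbedding.injective ((hval ⟨x', hU hx'⟩).trans (he.trans (hval ⟨x, h0⟩).symm)))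
      have h2 : x' = x := congrArg Subtype.val h1
      exact h2 ▸ hx'
    · exact fun hx => hV.superset ⟨x, hx, rfl⟩
  refine ⟨V, hV, ?_, hpre⟩
  have hle' : π ⁻¹ᵁ V ≤ π ⁻¹ᵁ U₀ := fun x hx => hle hx
  have e : X.homOfLE hle' ≫ π ∣_ U₀ = π ∣_ V ≫ Y.homOfLE hle := by
    rw [← cancel_mono U₀.ι, Category.assoc, Category.assoc, morphismRestrict_ι, Scheme.homOfLE_ι, morphismRestrict_ι,
      Scheme.homOfLE_ι_assoc]
  haveI : IsOpenImmersion (π ∣_ V ≫ Y.homOfLE hle) := e ▸ inferInstance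
  haveI : IsOpenImmersion (π ∣_ V) := IsOpenImmersion.of_comp _ (Y.homOfLE hle)
  refine (isIso_iff_isOpenImmersion_and_surjective _).2 ⟨inferInstance, ⟨fun v => ?_⟩⟩
  obtain ⟨x, hx, hxv⟩ := hV.subset v.2
  refine ⟨⟨x, hpre.ge hx⟩, ?_⟩
  rw [morphismRestrict_base]
  exact Subtype.ext hxv

/-- Two blow-ups in the same ideal. -/
theorem exists_iso {X A B : Scheme.{u}} {a : A ⟶ X} {b : B ⟶ X} {J : X.IdealSheafData} (ha : BlowUp.IsBlowUp a J)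
    (hb : BlowUp.IsBlowUp b J) : ∃ e : A ⟶ B, e ≫ b = a ∧ IsIso e := by
  obtain ⟨e, he, -⟩ := hb.2 A a ha.1
  obtain ⟨e', he', -⟩ := ha.2 B b hb.1
  refine ⟨e, he, e', ?_, ?_⟩
  · exact (ha.2 A a ha.1).unique (by rw [Category.assoc, he', he]) (Category.id_comp _)
  · exact (hb.2 B b hb.1).unique (by rw [Category.assoc, he, he']) (Category.id_comp _)

open Groth.Agent in
/-- One side of the simultaneous blow-up. -/
theorem exists_side {X Y : Scheme.{u}} [CompactSpace X] [QuasiSeparatedSpace X] [CompactSpace Y]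
    [QuasiSeparatedSpace Y] (π : X ⟶ Y) (V : Y.Opens) (hV : IsCompact (V : Set Y))
    (I : RZExt.Centre V) {D : I.T.Opens} {h : D.toScheme ⟶ X} (hf : h ≫ π = D.ι ≫ I.b)
    (hblow : BlowUp.IsBlowUp h (I.ideal.comap π)) (hft : BlowUp.IsFiniteTypeIdeal (I.ideal.comap π))
    (A : X.IdealSheafData) (hA : BlowUp.IsFiniteTypeIdeal A)
    (hAd : Disjoint (A.support : Set X) ((π ⁻¹ᵁ V : X.Opens) : Set X))
    {Xt : Scheme.{u}} {g : Xt ⟶ D.toScheme} (hg : BlowUp.IsBlowUp g (A.comap h)) :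
    ∃ (K : Y.IdealSheafData) (Yt : Scheme.{u}) (c : Yt ⟶ Y) (j : Xt ⟶ Yt), BlowUp.IsBlowUp c K ∧
      BlowUp.IsFiniteTypeIdeal K ∧ Disjoint (K.support : Set Y) (V : Set Y) ∧ IsOpenImmersion j ∧
      j ≫ c = g ≫ h ≫ π := by
  haveI : IsProper I.b := BlowUpExist.isProper_of_isFiniteType I.isBlowUp I.ft
  haveI : IsProper h := BlowUpExist.isProper_of_isFiniteType hblow hft
  haveI : CompactSpace I.T := QuasiCompact.compactSpace_of_compactSpace I.b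
  haveI : QuasiSeparatedSpace I.T := quasiSeparatedSpace_of_quasiSeparated I.b
  haveI : CompactSpace D.toScheme := QuasiCompact.compactSpace_of_compactSpace h
  obtain ⟨J, hJft, hJd, hJc⟩ := RZExt.exists_extend_centre (I.b ⁻¹ᵁ V) D (I.b.isCompact_preimage hV)
    (isCompact_iff_compactSpace.2 ‹CompactSpace D.toScheme›) (A.comap h) (RZExt.isFiniteType_comap h hA) (by
      refine Set.disjoint_left.2 fun z hz hzV => ?_
      rw [Scheme.IdealSheafData.support_comap] at hz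
      refine Set.disjoint_left.1 hAd hz ?_
      show π (h z) ∈ V
      rw [← Scheme.Hom.comp_apply, hf, Scheme.Hom.comp_apply]
      exact hzV)
  obtain ⟨T', c', hc'⟩ := BlowUpExist.exists_isBlowUp I.T J
  have hfl := BlowUpLib.isBlowUp_flat D.ι hc'
  rw [hJc] at hfl
  obtain ⟨e, he, hei⟩ := exists_iso hg hfl
  haveI := hei
  obtain ⟨K, hK, hKs, hKb⟩ := RZExt.exists_isBlowUp_comp I.isBlowUp I.ft hJft hc'
  refine ⟨K, T', c' ≫ I.b, e ≫ pullback.snd D.ι c', hKb, hK, ?_, inferInstance, ?_⟩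
  · rw [hKs, I.supp, Set.disjoint_union_left]
    refine ⟨disjoint_compl_left, Set.disjoint_left.2 ?_⟩
    rintro _ ⟨z, hz, rfl⟩ hzV
    exact Set.disjoint_left.1 hJd hz hzV
  · rw [Category.assoc, ← pullback.condition_assoc, reassoc_of% he, hf]


open AlgebraicGeometry CategoryTheory Limits in
/-- Let X, Y₁, Y₂ be quasi-compact quasi-separated schemes and π_i : X → Y_i (i = 1, 2) separated
morphisms of finite type which are birational: U_i ⊆ Y_i is a quasi-compact dense open subscheme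
over which π_i restricts to an isomorphism and whose preimage is dense in X. Let U = π₁⁻¹(U₁) ∩
π₂⁻¹(U₂), a dense quasi-compact open of X mapping isomorphically onto dense opens of Y₁ and Y₂. Then
there are blowing ups b : X̃ → X, c₁ : Ỹ₁ → Y₁, c₂ : Ỹ₂ → Y₂ in quasi-coherent ideals of finite type
whose supports are disjoint from U, π₁(U) and π₂(U) respectively, and open immersions j_i : X̃ → Ỹ_i
with j_i ≫ c_i = b ≫ π_i. -/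
theorem result
    {X Y₁ Y₂ : Scheme.{u}} [CompactSpace X] [QuasiSeparatedSpace X]
    [CompactSpace Y₁] [QuasiSeparatedSpace Y₁] [CompactSpace Y₂] [QuasiSeparatedSpace Y₂]
    (π₁ : X ⟶ Y₁) (π₂ : X ⟶ Y₂)
    [IsSeparated π₁] [QuasiCompact π₁] [LocallyOfFiniteType π₁]
    [IsSeparated π₂] [QuasiCompact π₂] [LocallyOfFiniteType π₂]
    (U₁ : Y₁.Opens) (U₂ : Y₂.Opens) (hU₁ : IsCompact (U₁ : Set Y₁)) (hU₂ : IsCompact (U₂ : Set Y₂))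
    (hd₁ : Dense (U₁ : Set Y₁)) (hd₂ : Dense (U₂ : Set Y₂)) [IsIso (π₁ ∣_ U₁)] [IsIso (π₂ ∣_ U₂)]
    (hd₁' : Dense ((π₁ ⁻¹ᵁ U₁ : X.Opens) : Set X)) (hd₂' : Dense ((π₂ ⁻¹ᵁ U₂ : X.Opens) : Set X)) :
    ∃ (𝓘 : X.IdealSheafData) (𝓙₁ : Y₁.IdealSheafData) (𝓙₂ : Y₂.IdealSheafData)
      (Xt Yt₁ Yt₂ : Scheme.{u}) (b : Xt ⟶ X) (c₁ : Yt₁ ⟶ Y₁) (c₂ : Yt₂ ⟶ Y₂) (j₁ : Xt ⟶ Yt₁) (j₂ : Xt ⟶ Yt₂),
      BlowUp.IsBlowUp b 𝓘 ∧ BlowUp.IsAdmissibleFor (π₁ ⁻¹ᵁ U₁ ⊓ π₂ ⁻¹ᵁ U₂) 𝓘 ∧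
      BlowUp.IsBlowUp c₁ 𝓙₁ ∧ BlowUp.IsFiniteTypeIdeal 𝓙₁ ∧
        Disjoint (𝓙₁.support : Set Y₁) ((fun x => π₁ x) '' ((π₁ ⁻¹ᵁ U₁ ⊓ π₂ ⁻¹ᵁ U₂ : X.Opens) : Set X)) ∧
      BlowUp.IsBlowUp c₂ 𝓙₂ ∧ BlowUp.IsFiniteTypeIdeal 𝓙₂ ∧
        Disjoint (𝓙₂.support : Set Y₂) ((fun x => π₂ x) '' ((π₁ ⁻¹ᵁ U₁ ⊓ π₂ ⁻¹ᵁ U₂ : X.Opens) : Set X)) ∧
      IsOpenImmersion j₁ ∧ IsOpenImmersion j₂ ∧ j₁ ≫ c₁ = b ≫ π₁ ∧ j₂ ≫ c₂ = b ≫ π₂ := by
  let U : X.Opens := π₁ ⁻¹ᵁ U₁ ⊓ π₂ ⁻¹ᵁ U₂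
  have hU : IsCompact (U : Set X) :=
    QuasiSeparatedSpace.inter_isCompact _ _ (π₁ ⁻¹ᵁ U₁).2 (π₁.isCompact_preimage hU₁) (π₂ ⁻¹ᵁ U₂).2
      (π₂.isCompact_preimage hU₂)
  obtain ⟨V₁, hV₁, hV₁i, hU₁'⟩ := exists_image π₁ U₁ U inf_le_left
  obtain ⟨V₂, hV₂, hV₂i, hU₂'⟩ := exists_image π₂ U₂ U inf_le_right
  haveI := hV₁i
  haveI := hV₂i
  have hc₁ : IsCompact (V₁ : Set Y₁) := by rw [hV₁]; exact hU.image π₁.continuous
  have hc₂ : IsCompact (V₂ : Set Y₂) := by rw [hV₂]; exact hU.image π₂.continuous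
  obtain ⟨I₁, D₁, h₁, hf₁, -, hblow₁, hadm₁, -⟩ := Groth.Agent.RZExt.exists_openImmersion hc₁ π₁
  obtain ⟨I₂, D₂, h₂, hf₂, -, hblow₂, hadm₂, -⟩ := Groth.Agent.RZExt.exists_openImmersion hc₂ π₂
  rw [hU₁'] at hadm₁
  rw [hU₂'] at hadm₂
  let A₁ := I₁.ideal.comap π₁
  let A₂ := I₂.ideal.comap π₂
  obtain ⟨Xt, g₁, hg₁⟩ := BlowUpExist.exists_isBlowUp D₁.toScheme (A₂.comap h₁)
  obtain ⟨Xt', g', hg'⟩ := BlowUpExist.exists_isBlowUp D₂.toScheme (A₁.comap h₂)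
  have hb : BlowUp.IsBlowUp (g₁ ≫ h₁) (A₁ * A₂) := BlowUpLib.isBlowUp_comp hblow₁ hg₁
  have hb' : BlowUp.IsBlowUp (g' ≫ h₂) (A₁ * A₂) := by
    rw [mul_comm]
    exact BlowUpLib.isBlowUp_comp hblow₂ hg'
  obtain ⟨e, he, hei⟩ := exists_iso hb hb'
  haveI := hei
  obtain ⟨K₁, Y₁', c₁, j₁, hK₁, hK₁ft, hK₁d, hj₁o, hj₁⟩ := exists_side π₁ V₁ hc₁ I₁ hf₁ hblow₁
    (RZExt.isFiniteType_comap π₁ I₁.ft) A₂ hadm₂.1 (by rw [hU₁']; exact hadm₂.2) hg₁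
  obtain ⟨K₂, Y₂', c₂, j₂, hK₂, hK₂ft, hK₂d, hj₂o, hj₂⟩ := exists_side π₂ V₂ hc₂ I₂ hf₂ hblow₂
    (RZExt.isFiniteType_comap π₂ I₂.ft) A₁ hadm₁.1 (by rw [hU₂']; exact hadm₁.2) (RZExt.isBlowUp_iso_comp hg' e)
  refine ⟨A₁ * A₂, K₁, K₂, Xt, Y₁', Y₂', g₁ ≫ h₁, c₁, c₂, j₁, j₂, hb, ⟨?_, ?_⟩, hK₁, hK₁ft, ?_, hK₂, hK₂ft, ?_,
    hj₁o, hj₂o, ?_, ?_⟩
  · intro W
    rw [Scheme.IdealSheafData.ideal_mul, Pi.mul_apply]
    exact (hadm₁.1 W).mul (hadm₂.1 W)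
  · rw [Scheme.IdealSheafData.support_mul, TopologicalSpace.Closeds.coe_sup, Set.disjoint_union_left]
    exact ⟨hadm₁.2, hadm₂.2⟩
  · show Disjoint (K₁.support : Set Y₁) (π₁ '' (U : Set X))
    rw [← hV₁]
    exact hK₁d
  · show Disjoint (K₂.support : Set Y₂) (π₂ '' (U : Set X))
    rw [← hV₂]
    exact hK₂d
  · rw [hj₁, Category.assoc]
  · rw [hj₂, Category.assoc, reassoc_of% he, Category.assoc]

end Groth.Agent.S17388
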