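import Groth.Statements.S17389
import Groth.Agent.Nagata.Dense
import Groth.Agent.Nagata.Graph
-- import your own Groth.Agent.* helpers here

set_option autoImplicit false
universe u
open FlatMor

namespace Groth.Agent.S17389

open AlgebraicGeometry CategoryTheory Limits in
/-- Let S be a quasi-compact quasi-separated scheme, U, X₁, X₂ separated S-schemes of finite type (so U
is quasi-compact), and j₁ : U → X₁, j₂ : U → X₂ open immersions over S with dense image (necessarily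
quasi-compact). Then there are a separated S-scheme X of finite type and a schematically dense open
immersion j : U → X over S such that X properly quasi-dominates each X_i in a manner extending j_i:
for i = 1, 2 there are an open W_i ⊆ X containing the image of j, a proper S-morphism p_i : W_i →
X_i whose composite with the factorisation U → W_i of j is j_i, and the graph morphism W_i → X ×_S
X_i of p_i has closed image. -/
theorem result
    {S U X₁ X₂ : Scheme.{u}} [CompactSpace S] [QuasiSeparatedSpace S]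
    (g₁ : X₁ ⟶ S) (g₂ : X₂ ⟶ S)
    [IsSeparated g₁] [QuasiCompact g₁] [LocallyOfFiniteType g₁]
    [IsSeparated g₂] [QuasiCompact g₂] [LocallyOfFiniteType g₂]
    (j₁ : U ⟶ X₁) (j₂ : U ⟶ X₂) [IsOpenImmersion j₁] [IsOpenImmersion j₂] [IsDominant j₁] [IsDominant j₂]
    [CompactSpace U]
    (h : j₁ ≫ g₁ = j₂ ≫ g₂) :
    ∃ (X : Scheme.{u}) (q : X ⟶ S) (_ : IsSeparated q) (_ : QuasiCompact q) (_ : LocallyOfFiniteType q)
      (j : U ⟶ X) (_ : IsOpenImmersion j) (_ : IsSchemeTheoreticallyDominant j) (_ : j ≫ q = j₁ ≫ g₁),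
      (∃ (W : X.Opens) (l : U ⟶ (W : Scheme.{u})) (p : (W : Scheme.{u}) ⟶ X₁) (hp : W.ι ≫ q = p ≫ g₁),
        l ≫ W.ι = j ∧ l ≫ p = j₁ ∧ IsProper p ∧
        IsClosed (Set.range (fun x => pullback.lift W.ι p hp x))) ∧
      (∃ (W : X.Opens) (l : U ⟶ (W : Scheme.{u})) (p : (W : Scheme.{u}) ⟶ X₂) (hp : W.ι ≫ q = p ≫ g₂),
        l ≫ W.ι = j ∧ l ≫ p = j₂ ∧ IsProper p ∧
        IsClosed (Set.range (fun x => pullback.lift W.ι p hp x))) := by
  haveI : CompactSpace X₁ := QuasiCompact.compactSpace_of_compactSpace g₁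
  haveI : CompactSpace X₂ := QuasiCompact.compactSpace_of_compactSpace g₂
  haveI : QuasiSeparatedSpace X₁ := quasiSeparatedSpace_of_quasiSeparated g₁
  haveI : QuasiCompact j₁ := quasiCompact_of_compactSpace j₁
  let f := j₁ ≫ g₁
  obtain ⟨P₁, c₁, q₁, _, _, _, h₁⟩ := Groth.Agent.S0384.result g₁
  obtain ⟨P₂, c₂, q₂, _, _, _, h₂⟩ := Groth.Agent.S0384.result g₂
  obtain ⟨Y, j, q, b₁, b₂, _, _, _, _, _, hjq, hb₁, hb₂, hjb₁, hjb₂⟩ :=
    Groth.Agent.Nagata.exists_over_two f q₁ q₂ (j₁ ≫ c₁) (j₂ ≫ c₂) (by rw [Category.assoc, h₁])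
      (by rw [Category.assoc, h₂, ← h])
  haveI : QuasiSeparatedSpace Y := quasiSeparatedSpace_of_quasiSeparated q
  haveI : IsProper (b₁ ≫ q₁) := hb₁ ▸ inferInstance
  haveI : IsProper (b₂ ≫ q₂) := hb₂ ▸ inferInstance
  haveI : IsProper b₁ := IsProper.of_comp (f := b₁) (g := q₁)
  haveI : IsProper b₂ := IsProper.of_comp (f := b₂) (g := q₂)
  let W : Y.Opens := b₁ ⁻¹ᵁ c₁.opensRange ⊔ b₂ ⁻¹ᵁ c₂.opensRange
  have hk : Set.range j ⊆ Set.range W.ι := by
    rw [Scheme.Opens.range_ι]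
    rintro _ ⟨x, rfl⟩
    refine TopologicalSpace.Opens.mem_sup.2 (Or.inl ⟨j₁ x, ?_⟩)
    rw [← Scheme.Hom.comp_apply, ← hjb₁, Scheme.Hom.comp_apply]
  let k : U ⟶ W.toScheme := IsOpenImmersion.lift W.ι j hk
  have hkι : k ≫ W.ι = j := IsOpenImmersion.lift_fac _ _ _
  haveI : IsOpenImmersion (k ≫ W.ι) := hkι ▸ inferInstance
  haveI : IsOpenImmersion k := IsOpenImmersion.of_comp k W.ι
  haveI : CompactSpace W.toScheme := isCompact_iff_compactSpace.1 (by
    show IsCompact ((b₁ ⁻¹ᵁ c₁.opensRange ⊔ b₂ ⁻¹ᵁ c₂.opensRange : Y.Opens) : Set Y)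
    rw [TopologicalSpace.Opens.coe_sup]
    exact (b₁.isCompact_preimage (isCompact_range c₁.continuous)).union
      (b₂.isCompact_preimage (isCompact_range c₂.continuous)))
  haveI : QuasiCompact W.ι := quasiCompact_of_compactSpace _
  haveI : QuasiCompact (k ≫ W.ι) := hkι ▸ inferInstance
  haveI : IsSchemeTheoreticallyDominant (k ≫ W.ι) := hkι ▸ inferInstance
  haveI : IsSchemeTheoreticallyDominant k := Groth.Agent.Nagata.schemDom_of_comp_openImmersion k W.ι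
  let p : W.toScheme ⟶ S := W.ι ≫ q
  have hkp : k ≫ p = j₁ ≫ g₁ := by rw [← Category.assoc, hkι, hjq]
  refine ⟨W.toScheme, p, inferInstance, inferInstance, inferInstance, k, inferInstance, inferInstance, hkp, ?_⟩
  have key : ∀ {X P : Scheme.{u}} (pX : X ⟶ S) [IsSeparated pX] (c : X ⟶ P) [IsOpenImmersion c] (t : P ⟶ S),
      c ≫ t = pX → ∀ (b : Y ⟶ P) [IsProper b], b ≫ t = q → ∀ (jX : U ⟶ X), jX ≫ c = j ≫ b →
      b ⁻¹ᵁ c.opensRange ≤ W →
      ∃ (W₁ : W.toScheme.Opens) (l : U ⟶ W₁.toScheme) (φ : W₁.toScheme ⟶ X) (hφ : W₁.ι ≫ p = φ ≫ pX),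
        l ≫ W₁.ι = k ∧ l ≫ φ = jX ∧ IsProper φ ∧
        IsClosed (Set.range (fun w => (pullback.lift W₁.ι φ hφ) w)) := by
    intro X P pX _ c _ t hct b _ hbt jX hjX hle
    let W₀ : Y.Opens := b ⁻¹ᵁ c.opensRange
    let W₁ : W.toScheme.Opens := W.ι ⁻¹ᵁ W₀
    let r : W₁.toScheme ⟶ W₀.toScheme := W.ι ∣_ W₀
    haveI : IsIso r := by
      refine (isIso_iff_isOpenImmersion_and_surjective _).2 ⟨inferInstance, ⟨fun v => ⟨⟨⟨v.1, hle v.2⟩, v.2⟩, ?_⟩⟩⟩
      rw [morphismRestrict_base]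
      rfl
    let φ : W₁.toScheme ⟶ X := r ≫ (b ∣_ c.opensRange) ≫ c.isoOpensRange.inv
    have hφc : φ ≫ c = W₁.ι ≫ W.ι ≫ b := by
      simp only [φ, Category.assoc, Scheme.Hom.isoOpensRange_inv_comp, morphismRestrict_ι]
      exact morphismRestrict_ι_assoc W.ι W₀ b
    have hφ : W₁.ι ≫ p = φ ≫ pX := by
      rw [← hct, reassoc_of% hφc, hbt]
    have hl : Set.range k ⊆ Set.range W₁.ι := by
      rw [Scheme.Opens.range_ι]
      rintro _ ⟨x, rfl⟩
      show b (W.ι (k x)) ∈ c.opensRange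
      refine ⟨jX x, ?_⟩
      rw [← Scheme.Hom.comp_apply, hjX, ← hkι, Category.assoc, Scheme.Hom.comp_apply, Scheme.Hom.comp_apply]
    let l : U ⟶ W₁.toScheme := IsOpenImmersion.lift W₁.ι k hl
    have hlk : l ≫ W₁.ι = k := IsOpenImmersion.lift_fac _ _ _
    refine ⟨W₁, l, φ, hφ, hlk, ?_, inferInstance, Groth.Agent.Nagata.isClosed_range_lift p pX W₁.ι φ hφ⟩
    rw [← cancel_mono c, Category.assoc, hφc, reassoc_of% hlk, reassoc_of% hkι, hjX]
  exact ⟨key g₁ c₁ q₁ h₁ b₁ hb₁ j₁ hjb₁.symm le_sup_left, key g₂ c₂ q₂ h₂ b₂ hb₂ j₂ hjb₂.symm le_sup_right⟩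

end Groth.Agent.S17389
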