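import Groth.Statements.S17391
import Groth.Agent.BlowSep.Strict
-- import your own Groth.Agent.* helpers here

set_option autoImplicit false
universe u
open BlowUp

namespace Groth.Agent.S17391

open AlgebraicGeometry CategoryTheory Limits in
/-- Let X and Z be schemes, p : Z → X a morphism, U ⊆ V ⊆ X open subschemes, and f : Y → Z a
quasi-compact immersion whose composite with p lands in U. Let I₁ be a quasi-coherent ideal on X
whose support contains V ∖ U and is disjoint from U, and I₂ a quasi-coherent ideal whose support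
lies in supp(I₁) ∖ V. Assume that the closed subscheme p⁻¹(V(I₁²)) ∩ Ȳ of Z, where Ȳ is the
scheme-theoretic image of f, is contained in p⁻¹(V(I₂)) as a closed subscheme: the inverse image
ideal of I₂ on Z lies in the sum of the inverse image ideal of I₁² and the kernel ideal of f. Then
for every blowing up q : X' → X of X in I₁ + I₂, writing Z' = Z ×_X X' → X' and Y' = Y ×_Z Z' → Z'
for the base changes, the closure in Z' of the image of Y' is disjoint from the preimage in Z' of
the closure in X' of q⁻¹(V ∖ U). (The blowing up is an isomorphism over V, since the support of I₁ +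
I₂ is that of I₂ and lies in X ∖ V; the point is that the closure of q⁻¹(V ∖ U) in X', which may
reach over X ∖ V, still misses the closure of Y'.) -/
theorem result
    {X Y Z X' : Scheme.{u}} (p : Z ⟶ X) (U V : X.Opens) (hUV : U ≤ V)
    (f : Y ⟶ Z) [IsImmersion f] [QuasiCompact f] (hY : Set.range (fun y => p (f y)) ⊆ (U : Set X))
    (𝓘₁ 𝓘₂ : X.IdealSheafData)
    (h₁ : (V : Set X) \ (U : Set X) ⊆ (𝓘₁.support : Set X)) (h₁' : Disjoint (𝓘₁.support : Set X) (U : Set X))
    (h₂ : (𝓘₂.support : Set X) ⊆ (𝓘₁.support : Set X) \ (V : Set X))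
    (hincl : 𝓘₂.comap p ≤ (𝓘₁ * 𝓘₁).comap p ⊔ f.ker)
    (q : X' ⟶ X) (hq : BlowUp.IsBlowUp q (𝓘₁ ⊔ 𝓘₂)) :
    Disjoint (closure (Set.range (fun y => (pullback.snd f (pullback.fst p q)) y)))
      ((fun z => (pullback.snd p q) z) ⁻¹'
        closure ((fun x' => q x') ⁻¹' ((V : Set X) \ (U : Set X)))) := by
  refine Set.disjoint_left.2 fun z hzY hzV => ?_
  let g := pullback.snd p q
  have hsupp : ∀ x, x ∈ (V : Set X) \ (U : Set X) → x ∈ 𝓘₁.support ∧ x ∉ (𝓘₁ ⊔ 𝓘₂).support := fun x hx =>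
    ⟨h₁ hx, fun h => by
      rw [Scheme.IdealSheafData.support_sup] at h
      exact (h₂ h.2).2 hx.1⟩
  obtain ⟨W, hW, hzW, -⟩ := exists_isAffineOpen_mem_and_subset (X := X) (U := ⊤) (trivial : q (g z) ∈ (⊤ : X.Opens))
  obtain ⟨O, hzO, hOW, ε, hεreg, hε⟩ := BlowUpLib.exists_small_generator hq.1 (show g z ∈ q ⁻¹ᵁ W from hzW)
  have hε' := hε
  rw [Scheme.IdealSheafData.comap_sup, Scheme.IdealSheafData.ideal_sup, Pi.sup_apply] at hε'
  obtain ⟨a, ha, b, hb, hab⟩ := Submodule.mem_sup.1 (hε' ▸ Ideal.mem_span_singleton_self ε)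
  obtain ⟨a', rfl⟩ := Ideal.mem_span_singleton.1 (hε' ▸ Submodule.mem_sup_left ha)
  obtain ⟨b', rfl⟩ := Ideal.mem_span_singleton.1 (hε' ▸ Submodule.mem_sup_right hb)
  have h1 : a' + b' = 1 := by rw [← mul_cancel_left_mem_nonZeroDivisors hεreg, mul_add, hab, mul_one]
  have hzcl : g z ∈ closure ((fun x => q x) ⁻¹' ((𝓘₁.support : Set X) \ (𝓘₁ ⊔ 𝓘₂).support)) :=
    closure_mono (Set.preimage_mono fun x hx => hsupp x hx) hzV
  obtain ⟨T, hT, hzT, eT⟩ := exists_isAffineOpen_mem_and_subset (X := pullback p q) (U := g ⁻¹ᵁ O.1)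
    (show z ∈ g ⁻¹ᵁ O.1 from hzO)
  let φ : Γ(X', O.1) →+* Γ(pullback p q, T) := (g.appLE O.1 T eT).hom
  -- pulled back inclusion
  have hpull : 𝓘₂.comap (g ≫ q) ≤ (𝓘₁.comap q * 𝓘₁.comap q).comap g ⊔ (f.ker).comap (pullback.fst p q) := by
    rw [← BlowUpLib.comap_mul, ← Scheme.IdealSheafData.comap_comp]
    rw [show g ≫ q = pullback.fst p q ≫ p from pullback.condition.symm, Scheme.IdealSheafData.comap_comp,
      Scheme.IdealSheafData.comap_comp, ← Scheme.IdealSheafData.comap_sup]
    exact Scheme.IdealSheafData.comap_mono _ hincl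
  have hmem : φ (ε * b') ∈ ((𝓘₁.comap q * 𝓘₁.comap q).comap g ⊔ (f.ker).comap (pullback.fst p q)).ideal ⟨T, hT⟩ := by
    refine hpull ⟨T, hT⟩ ?_
    rw [Scheme.IdealSheafData.comap_comp, FpqcDescent.ideal_comap_appLE _ g O ⟨T, hT⟩ eT]
    exact Ideal.mem_map_of_mem _ hb
  rw [Scheme.IdealSheafData.ideal_sup, Pi.sup_apply] at hmem
  obtain ⟨c, hc, r, hr, hcr⟩ := Submodule.mem_sup.1 hmem
  -- the square is a multiple of the square of the generator
  obtain ⟨t, ht, hct⟩ : ∃ t ∈ Ideal.span {x | z ∉ (pullback p q).basicOpen x}, c = φ ε * φ ε * t := by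
    rw [FpqcDescent.ideal_comap_appLE _ g O ⟨T, hT⟩ eT] at hc
    refine Ideal.mem_span_singleton_mul.1 ?_ |>.imp fun t ht => ⟨ht.1, ht.2.symm⟩
    refine (Ideal.map_le_iff_le_comap.2 ?_) hc
    rw [Scheme.IdealSheafData.ideal_mul, Pi.mul_apply]
    refine Ideal.mul_le.2 fun x hx y hy => ?_
    have hle := Scheme.IdealSheafData.comap_mono q (le_sup_left : 𝓘₁ ≤ 𝓘₁ ⊔ 𝓘₂) O
    obtain ⟨x', rfl⟩ := Ideal.mem_span_singleton.1 (hε ▸ hle hx)
    obtain ⟨y', rfl⟩ := Ideal.mem_span_singleton.1 (hε ▸ hle hy)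
    rw [Ideal.mem_comap, map_mul, map_mul, map_mul, mul_mul_mul_comm]
    refine Ideal.mul_mem_mul (Ideal.mem_span_singleton_self _) (Ideal.mul_mem_right _ _ (Ideal.subset_span fun h => ?_))
    exact BlowSep.notMem_basicOpen_cofactor hε hzcl hx ((BlowSep.mem_basicOpen_appLE g O.1 T eT _ z).1 h).2
  have hzt : (pullback p q).evaluation T z hzT t = 0 := by
    rw [(pullback p q).evaluation_eq_zero_iff_notMem_basicOpen z hzT]
    intro h
    have h2 : z ∈ (pullback p q).zeroLocus (U := T) {x : Γ(pullback p q, T) | z ∉ (pullback p q).basicOpen x} :=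
      (Scheme.mem_zeroLocus_iff _ _ _).2 fun x hx => hx
    rw [← Scheme.zeroLocus_span] at h2
    exact (Scheme.mem_zeroLocus_iff _ _ _).1 h2 t ht h
  have hzb : (pullback p q).evaluation T z hzT (φ b') = 1 := by
    have : φ a' + φ b' = 1 := by rw [← map_add, h1, map_one]
    rw [eq_sub_of_add_eq' this, map_sub, map_one,
      ((pullback p q).evaluation_eq_zero_iff_notMem_basicOpen z hzT _).2 ?_, sub_zero]
    intro h
    exact BlowSep.notMem_basicOpen_cofactor hε hzcl ha ((BlowSep.mem_basicOpen_appLE g O.1 T eT _ z).1 h).2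
  have hzn : z ∈ (pullback p q).basicOpen (φ b' - φ ε * t) := by
    rw [← (pullback p q).evaluation_ne_zero_iff_mem_basicOpen z hzT, map_sub, map_mul, hzt, mul_zero, sub_zero, hzb]
    exact one_ne_zero
  obtain ⟨_, hu, ⟨y, rfl⟩⟩ := mem_closure_iff.1 hzY _ ((pullback p q).basicOpen _).2 hzn
  set u := (pullback.snd f (pullback.fst p q)) y with hudef
  have huT : u ∈ T := (pullback p q).basicOpen_le _ hu
  have hfu : (pullback.fst p q) u = f ((pullback.fst f (pullback.fst p q)) y) := by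
    rw [hudef, ← Scheme.Hom.comp_apply, ← pullback.condition, Scheme.Hom.comp_apply]
  have huε : (pullback p q).evaluation T u huT (φ ε) ≠ 0 := by
    rw [(pullback p q).evaluation_ne_zero_iff_mem_basicOpen u huT]
    rw [BlowSep.mem_basicOpen_appLE g O.1 T eT ε u]
    refine ⟨huT, BlowSep.mem_basicOpen_gen hε (eT huT) fun h => ?_⟩
    rw [Scheme.IdealSheafData.support_sup] at h
    refine Set.disjoint_left.1 h₁' h.1 ?_
    rw [← Scheme.Hom.comp_apply, ← pullback.condition, Scheme.Hom.comp_apply, hfu]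
    exact hY ⟨_, rfl⟩
  have hur : (pullback p q).evaluation T u huT r = 0 := by
    rw [(pullback p q).evaluation_eq_zero_iff_notMem_basicOpen u huT]
    intro h
    have h2 : u ∈ ((f.ker).comap (pullback.fst p q)).support := by
      rw [Scheme.IdealSheafData.support_comap]
      show (pullback.fst p q) u ∈ (f.ker.support : Set Z)
      rw [hfu]
      exact f.range_subset_ker_support ⟨_, rfl⟩
    rw [Scheme.IdealSheafData.mem_support_iff_of_mem (U := ⟨T, hT⟩) huT, Scheme.mem_zeroLocus_iff] at h2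
    exact h2 r hr h
  refine ((pullback p q).evaluation_ne_zero_iff_mem_basicOpen u huT _).2 hu ((mul_eq_zero.1 ?_).resolve_left huε)
  rw [← map_mul, mul_sub, ← mul_assoc, ← hct, ← map_mul, ← hcr, add_sub_cancel_left, hur]

end Groth.Agent.S17391
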