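import Groth.Statements.S17392
import Groth.Agent.BlowSep.Main
-- import your own Groth.Agent.* helpers here

set_option autoImplicit false
universe u
open BlowUp

namespace Groth.Agent.S17392

open AlgebraicGeometry CategoryTheory Limits in
/-- Let X₁ and X₂ be quasi-compact quasi-separated schemes, q : X₂ → X₁ a quasi-compact separated
morphism, V₁ ⊆ X₁ a quasi-compact open subscheme and U ⊆ q⁻¹(V₁) an open subscheme of X₂ on which q
restricts to an open immersion (so U is identified with an open of V₁). Let Z₁ ⊆ X₁ be a closed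
subset whose open complement is quasi-compact, put Y₁ = Z₁ ∩ V₁, and let Z₂ ⊆ X₂ be a closed subset
whose open complement is also quasi-compact, with q⁻¹(Y₁) ⊆ Z₂. Then there is a quasi-coherent ideal
E of finite type on X₁ with support contained in Z₁ ∖ V₁ (so that blowing up E is V₁-admissible)
such that, for every blowing up c : X₁' → X₁ of X₁ in E with base change q' : X₂' = X₂ ×_{X₁} X₁' →
X₁' and c₂ : X₂' → X₂, one has q'⁻¹(closure of c⁻¹(Y₁)) ∩ closure(c₂⁻¹(U)) ⊆ c₂⁻¹(Z₂) as subsets of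
X₂'. -/
theorem result
    {X₁ X₂ : Scheme.{u}} [CompactSpace X₁] [QuasiSeparatedSpace X₁] [CompactSpace X₂] [QuasiSeparatedSpace X₂]
    (q : X₂ ⟶ X₁) [QuasiCompact q] [IsSeparated q]
    (V₁ : X₁.Opens) (hV₁ : IsCompact (V₁ : Set X₁))
    (U : X₂.Opens) (hU : U ≤ q ⁻¹ᵁ V₁) [IsOpenImmersion (U.ι ≫ q)]
    (Z₁ : Set X₁) (hZ₁ : IsClosed Z₁) (hZ₁c : IsCompact Z₁ᶜ)
    (Z₂ : Set X₂) (hZ₂ : IsClosed Z₂) (hZ₂c : IsCompact Z₂ᶜ)
    (hYZ : (fun x => q x) ⁻¹' (Z₁ ∩ (V₁ : Set X₁)) ⊆ Z₂) :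
    ∃ 𝓔 : X₁.IdealSheafData, BlowUp.IsFiniteTypeIdeal 𝓔 ∧ (𝓔.support : Set X₁) ⊆ Z₁ \ (V₁ : Set X₁) ∧
      ∀ (X₁' : Scheme.{u}) (c : X₁' ⟶ X₁), BlowUp.IsBlowUp c 𝓔 →
        (fun z => (pullback.snd q c) z) ⁻¹' closure ((fun x => c x) ⁻¹' (Z₁ ∩ (V₁ : Set X₁))) ∩
            closure ((fun z => (pullback.fst q c) z) ⁻¹' (U : Set X₂)) ⊆
          (fun z => (pullback.fst q c) z) ⁻¹' Z₂ := by
  obtain ⟨A, -, -, -, -, -, -, hAfg, hAsupp⟩ := QC.exists_ftIdeal ⟨Z₁ᶜ, hZ₁.isOpen_compl⟩ hZ₁c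
  obtain ⟨J, -, -, -, -, -, -, hJfg, hJsupp⟩ := QC.exists_ftIdeal V₁ hV₁
  replace hAsupp : (A.support : Set X₁) = Z₁ := hAsupp.trans (compl_compl Z₁)
  obtain ⟨n, hn⟩ := BlowSep.exists_pow_le (q := q) A J hJfg (W := ⟨Z₂ᶜ, hZ₂.isOpen_compl⟩) hZ₂c (fun w hw hA => by
    by_contra hJ
    rw [← SetLike.mem_coe, hJsupp, Set.mem_compl_iff, not_not] at hJ
    exact hw (hYZ ⟨hAsupp.le hA, hJ⟩))
  refine ⟨A ⊔ J ^ (n + 1), fun W => ?_, ?_, fun X₁' c hc => ?_⟩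
  · rw [Scheme.IdealSheafData.ideal_sup, Scheme.IdealSheafData.ideal_pow]
    exact Submodule.FG.sup (hAfg W) (Submodule.FG.pow (hJfg W) _)
  · rw [Scheme.IdealSheafData.support_sup, Scheme.IdealSheafData.support_pow_succ,
      TopologicalSpace.Closeds.coe_inf, hAsupp, hJsupp]
    exact fun x hx => hx
  rintro z ⟨hz1, hz2⟩
  by_contra hzZ
  obtain ⟨O, D, e, hwD, hle⟩ := hn (pullback.fst q c z) hzZ
  have hV : ∀ x ∈ (V₁ : Set X₁), x ∉ (A ⊔ J ^ (n + 1)).support := fun x hx hxs => by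
    rw [← SetLike.mem_coe, Scheme.IdealSheafData.support_sup, Scheme.IdealSheafData.support_pow_succ,
      TopologicalSpace.Closeds.coe_inf, hJsupp] at hxs
    exact hxs.2 hx
  refine BlowSep.separated pullback.condition A (A ⊔ J ^ (n + 1)) V₁ hV hc.1 le_sup_left _
    (fun u hu => hU hu) z hz2 (by rw [hAsupp]; exact hz1) O D e hwD ?_
  rw [Scheme.IdealSheafData.ideal_sup, Pi.sup_apply, Ideal.map_sup]
  refine sup_le le_rfl (le_trans (Ideal.map_mono ?_) hle)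
  rw [Scheme.IdealSheafData.ideal_pow, Scheme.IdealSheafData.ideal_pow]
  exact Ideal.pow_le_pow_right n.le_succ

end Groth.Agent.S17392
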