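import Groth.Statements.S17394
import Groth.Agent.BlowSep.Empty
import Groth.Agent.BlowUpExist.Global
-- import your own Groth.Agent.* helpers here

set_option autoImplicit false
universe u
open FlatMor

namespace Groth.Agent.S17394

open AlgebraicGeometry CategoryTheory Limits in
/-- Let S be a quasi-compact quasi-separated scheme, X → S separated of finite type, and for i = 1, …, m
let X̄_i → S be proper, o_i : X_i → X̄_i a quasi-compact open immersion and q_i : X_i → X a proper
S-morphism; let U be a scheme with quasi-compact open immersions jU : U → X and v_i : U → X_i such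
that v_i ≫ q_i = jU, with U dense in X, in each X_i and in each X̄_i (via v_i ≫ o_i). Let Y_i ⊆ X_i
be closed subschemes of finite presentation. Let Ū ⊆ X̄_1 ×_S ⋯ ×_S X̄_m be the closure of the image
of U (the scheme-theoretic closure, the morphism being quasi-compact) with projections π_i : Ū →
X̄_i, and assume ⋂_i π_i⁻¹(Y_i) = ∅. Then there are blowing ups c_i : X̄_i' → X̄_i in quasi-coherent
ideals of finite type with support disjoint from X_i (X_i-admissible), with the lifts v_i' : U →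
X̄_i' of v_i ≫ o_i, such that, writing Ū' for the closure of the image of U in X̄_1' ×_S ⋯ ×_S X̄_m'
with projections π_i' and Ȳ_i' for the closure in X̄_i' of c_i⁻¹(Y_i), one has ⋂_i (π_i')⁻¹(Ȳ_i') =
∅. -/
theorem result
    {S X U : Scheme.{u}} [CompactSpace S] [QuasiSeparatedSpace S] {m : ℕ}
    (gX : X ⟶ S) [IsSeparated gX] [QuasiCompact gX] [LocallyOfFiniteType gX]
    (Xi Xb : Fin m → Scheme.{u}) (gb : ∀ i, Xb i ⟶ S) [∀ i, IsProper (gb i)]
    (o : ∀ i, Xi i ⟶ Xb i) [∀ i, IsOpenImmersion (o i)] [∀ i, QuasiCompact (o i)]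
    (q : ∀ i, Xi i ⟶ X) [∀ i, IsProper (q i)] (hq : ∀ i, q i ≫ gX = o i ≫ gb i)
    (jU : U ⟶ X) [IsOpenImmersion jU] [QuasiCompact jU] [IsDominant jU]
    (v : ∀ i, U ⟶ Xi i) [∀ i, IsOpenImmersion (v i)] [∀ i, QuasiCompact (v i)] [∀ i, IsDominant (v i)]
    [∀ i, IsDominant (v i ≫ o i)]
    (hv : ∀ i, v i ≫ q i = jU) (w : ∀ i, (v i ≫ o i) ≫ gb i = jU ≫ gX)
    (Y : ∀ i, (Xi i).IdealSheafData) (hY : ∀ i, BlowUp.IsFiniteTypeIdeal (Y i))
    (hempty : ∀ z ∈ closure (Set.range (fun x => (WidePullback.lift (jU ≫ gX) (fun i => v i ≫ o i) w) x)),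
      ∃ i, (WidePullback.π gb i) z ∉ (fun x => o i x) '' ((Y i).support : Set (Xi i))) :
    ∃ (𝓔 : ∀ i, (Xb i).IdealSheafData) (Xb' : Fin m → Scheme.{u}) (c : ∀ i, Xb' i ⟶ Xb i)
      (v' : ∀ i, U ⟶ Xb' i) (w' : ∀ i, v' i ≫ c i ≫ gb i = jU ≫ gX),
      (∀ i, BlowUp.IsBlowUp (c i) (𝓔 i) ∧ BlowUp.IsAdmissibleFor (o i).opensRange (𝓔 i) ∧
        v' i ≫ c i = v i ≫ o i) ∧
      ∀ z ∈ closure (Set.range (fun x => (WidePullback.lift (jU ≫ gX) (fun i => v' i) w') x)),
        ∃ i, (WidePullback.π (fun i => c i ≫ gb i) i) z ∉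
          closure ((fun y => c i y) ⁻¹' ((fun x => o i x) '' ((Y i).support : Set (Xi i)))) := by
  classical
  haveI : CompactSpace X := QuasiCompact.compactSpace_of_compactSpace gX
  haveI : ∀ i, CompactSpace (Xb i) := fun i => QuasiCompact.compactSpace_of_compactSpace (gb i)
  haveI : ∀ i, QuasiSeparatedSpace (Xb i) := fun i => quasiSeparatedSpace_of_quasiSeparated (gb i)
  haveI : ∀ i, CompactSpace (Xi i) := fun i => QuasiCompact.compactSpace_of_compactSpace (o i)
  have hA : ∀ i, ∃ A : (Xb i).IdealSheafData, BlowUp.IsFiniteTypeIdeal A ∧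
      ∀ x : Xi i, ((o i) x ∈ A.support ↔ x ∈ (Y i).support) := fun i => by
    obtain ⟨A, -, -, -, -, -, -, hAfg, hAsupp⟩ := QC.exists_ftIdeal
      ⟨(fun x => o i x) '' ((Y i).support : Set (Xi i))ᶜ,
        (o i).isOpenEmbedding.isOpenMap _ (Y i).support.isClosed.isOpen_compl⟩
      ((QC.isCompact_compl_support (Y i) (hY i)).image (o i).continuous)
    refine ⟨A, hAfg, fun x => ?_⟩
    rw [← SetLike.mem_coe, hAsupp]
    exact ⟨fun h => by_contra fun hx => h ⟨x, hx, rfl⟩,
      fun h ⟨y, hy, hxy⟩ => hy ((o i).isOpenEmbedding.injective hxy ▸ h)⟩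
  choose A hAfg hAY using hA
  have hD : ∀ i, ∃ D : (Xb i).IdealSheafData, BlowUp.IsFiniteTypeIdeal D ∧
      (D.support : Set (Xb i)) = ((o i).opensRange : Set (Xb i))ᶜ := fun i => by
    obtain ⟨D, -, -, -, -, -, -, hfg, hsupp⟩ := QC.exists_ftIdeal (o i).opensRange (isCompact_range (o i).continuous)
    exact ⟨D, hfg, hsupp⟩
  choose D hDfg hDsupp using hD
  haveI : ∀ i, QuasiCompact (gb i) := fun i => inferInstance
  haveI : CompactSpace ↥(widePullback S Xb gb) :=
    haveI := BlowSep.quasiCompact_base Xb gb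
    QuasiCompact.compactSpace_of_compactSpace (WidePullback.base gb)
  let C : TopologicalSpace.Closeds ↥(widePullback S Xb gb) :=
    ⟨closure (Set.range (fun x => (WidePullback.lift (jU ≫ gX) (fun i => v i ≫ o i) w) x)), isClosed_closure⟩
  let K := (⨆ j, (A j).comap (WidePullback.π gb j)) ⊔ Scheme.IdealSheafData.vanishingIdeal C
  have hK : ∀ i, ∃ n, ∀ N, n ≤ N → ((D i) ^ N).comap (WidePullback.π gb i) ≤ K := fun i => by
    refine BlowSep.exists_pow_comap_le _ _ (hDfg i) K fun y hy => ?_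
    by_contra hyD
    rw [← SetLike.mem_coe, hDsupp, Set.mem_compl_iff, not_not] at hyD
    rw [Scheme.IdealSheafData.support_sup] at hy
    have hyC : y ∈ (C : Set ↥(widePullback S Xb gb)) := by
      have := hy.2
      rwa [← Scheme.IdealSheafData.coe_support_vanishingIdeal C]
    obtain ⟨j, hj⟩ := hempty y hyC
    obtain ⟨x, hx⟩ := BlowSep.mem_range_of_closure gX gb o q hq jU v hv w hyC i j hyD
    refine hj ⟨x, (hAY j x).1 ?_, hx⟩
    have h1 : y ∈ ((A j).comap (WidePullback.π gb j)).support :=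
      Scheme.IdealSheafData.support_antitone (le_iSup (fun j => (A j).comap (WidePullback.π gb j)) j) hy.1
    rw [Scheme.IdealSheafData.support_comap] at h1
    rw [hx]
    exact h1
  choose n hn using hK
  let E : ∀ i, (Xb i).IdealSheafData := fun i => A i ⊔ D i ^ (n i + 1)
  have hEfg : ∀ i, BlowUp.IsFiniteTypeIdeal (E i) := fun i W => by
    rw [Scheme.IdealSheafData.ideal_sup, Scheme.IdealSheafData.ideal_pow]
    exact Submodule.FG.sup (hAfg i W) (Submodule.FG.pow (hDfg i W) _)
  have hEsupp : ∀ i, ∀ x : Xi i, (o i) x ∉ (E i).support := fun i x hx => by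
    rw [← SetLike.mem_coe, Scheme.IdealSheafData.support_sup, Scheme.IdealSheafData.support_pow_succ,
      TopologicalSpace.Closeds.coe_inf, hDsupp] at hx
    exact hx.2 ⟨x, rfl⟩
  choose Xb' c hc using fun i => BlowUpExist.exists_isBlowUp (Xb i) (E i)
  have hlift : ∀ i, ∃! h : U ⟶ Xb' i, h ≫ c i = v i ≫ o i := fun i => by
    refine (hc i).2 U _ ?_
    rw [BlowUpLib.comap_eq_top (E i) (v i ≫ o i) fun x => by rw [Scheme.Hom.comp_apply]; exact hEsupp i _]
    exact BlowUpLib.cartier_top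
  choose v' hv' _hu using hlift
  have w' : ∀ i, v' i ≫ c i ≫ gb i = jU ≫ gX := fun i => by rw [← Category.assoc, hv' i]; exact w i
  refine ⟨E, Xb', c, v', w', fun i => ⟨hc i, ⟨hEfg i, Set.disjoint_left.2 ?_⟩, hv' i⟩, fun z hz => ?_⟩
  · rintro _ hy ⟨x, rfl⟩
    exact hEsupp i x hy
  let τ : widePullback S Xb' (fun i => c i ≫ gb i) ⟶ widePullback S Xb gb :=
    WidePullback.lift (WidePullback.base _) (fun i => WidePullback.π (fun i => c i ≫ gb i) i ≫ c i)
      (fun i => by rw [Category.assoc]; exact WidePullback.π_arrow (fun i => c i ≫ gb i) i)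
  have hτ : ∀ i, τ ≫ WidePullback.π gb i = WidePullback.π (fun i => c i ≫ gb i) i ≫ c i :=
    fun i => WidePullback.lift_π _ _ _ _ i
  have hl : WidePullback.lift (jU ≫ gX) (fun i => v' i) w' ≫ τ =
      WidePullback.lift (jU ≫ gX) (fun i => v i ≫ o i) w := by
    refine WidePullback.hom_ext gb _ _ (fun i => ?_) ?_
    · rw [Category.assoc, hτ]
      erw [WidePullback.lift_π, WidePullback.lift_π_assoc]
      exact hv' i
    · erw [Category.assoc, WidePullback.lift_base, WidePullback.lift_base, WidePullback.lift_base]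
  have hτC : ∀ u ∈ Set.range (fun x => (WidePullback.lift (jU ≫ gX) (fun i => v' i) w') x), τ u ∈
      (C : Set ↥(widePullback S Xb gb)) := by
    rintro _ ⟨x, rfl⟩
    refine subset_closure ⟨x, ?_⟩
    rw [← hl]
    rfl
  by_contra hall
  simp only [not_exists, not_not] at hall
  have hzC : τ z ∈ (C : Set ↥(widePullback S Xb gb)) :=
    closure_minimal (fun u hu => hτC u hu) (C.isClosed.preimage τ.continuous) hz
  obtain ⟨i₀, -⟩ := hempty (τ z) hzC
  refine BlowSep.empty_core i₀ (WidePullback.π gb) (WidePullback.π (fun i => c i ≫ gb i)) c τ hτ A E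
    (fun i => (hc i).1) (fun i => le_sup_left) C _ (fun i => ?_) hτC ?_ z hz (fun i => ?_)
  · rw [Scheme.IdealSheafData.comap_sup]
    exact sup_le (le_sup_of_le_left (le_iSup (fun j => (A j).comap (WidePullback.π gb j)) i)) (hn i _ (Nat.le_succ _))
  · rintro _ ⟨x, rfl⟩ i
    have h1 : c i ((WidePullback.π (fun i => c i ≫ gb i) i) ((WidePullback.lift (jU ≫ gX) (fun i => v' i) w') x)) =
        o i (v i x) := by
      rw [← Scheme.Hom.comp_apply, ← Scheme.Hom.comp_apply, ← Scheme.Hom.comp_apply]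
      congr 1
      erw [WidePullback.lift_π_assoc]
      rw [hv' i]
    rw [h1]
    exact hEsupp i _
  · refine closure_mono (fun y hy => ?_) (hall i)
    obtain ⟨x, hx, hxy⟩ := hy
    simp only [Set.mem_preimage] at hxy ⊢
    rw [← hxy]
    exact ⟨(hAY i x).2 hx, hEsupp i x⟩

end Groth.Agent.S17394
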