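import Groth.Statements.S1740
import Mathlib
-- import your own Groth.Agent.* helpers here

set_option autoImplicit false
universe u
open CategoryTheory
attribute [local instance] HasDerivedCategory.standard
open LocCoh

namespace Groth.Agent.S1740

/-- Let α : M → M' be a map of R-modules with M finitely presented such that the induced map Tor_1(M, N)
→ Tor_1(M', N) is zero for every R-module N. Then α is the composite of a map from M into a free
R-module and a map from that free module to M'. -/
theorem result (R : Type u) [CommRing R] (M M' : Type u) [AddCommGroup M] [Module R M] [Module.FinitePresentation R M] [AddCommGroup M'] [Module R M'] (α : M →ₗ[R] M') (h : ∀ (N : Type u) [AddCommGroup N] [Module R N], ((CategoryTheory.Tor (ModuleCat.{u} R) 1).map (ModuleCat.ofHom α)).app (ModuleCat.of R N) = 0) : ∃ (ι : Type u) (g : M →ₗ[R] (ι →₀ R)) (h : (ι →₀ R) →ₗ[R] M'), α = h ∘ₗ g := by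
  classical
  open scoped TensorProduct in
  open CategoryTheory in
  have aux : ∀ {A B C D : ModuleCat.{u} R} (a : A ≅ B) (b : C ≅ D) (x : B ⟶ D), a.hom ≫ x ≫ b.inv = 0 → x = 0 := by
    intro A B C D a b x hx
    simpa using congrArg (fun y => a.inv ≫ y ≫ b.hom) hx
  -- a criterion on one presentation, read off from the chain complex computing `Tor_1`
  have key : ∀ (F N : Type u) [AddCommGroup F] [Module R F] [AddCommGroup N] [Module R N] [Module.Projective R F]
      (π : F →ₗ[R] N), Function.Surjective π → ∀ z : M ⊗[R] LinearMap.ker π,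
      (LinearMap.ker π).subtype.lTensor M z = 0 → α.rTensor (LinearMap.ker π) z = 0 := by
    intro F N _ _ _ _ _ π hπ z hz
    let P := ProjectiveResolution.of (ModuleCat.of R N)
    let d1 : P.complex.X 1 →ₗ[R] P.complex.X 0 := (P.complex.d 1 0).hom
    let d2 : P.complex.X 2 →ₗ[R] P.complex.X 1 := (P.complex.d 2 1).hom
    let p : P.complex.X 0 →ₗ[R] N := (P.π.f 0).hom
    have hp : Function.Surjective p := (ModuleCat.epi_iff_surjective (P.π.f 0)).1 inferInstance
    have h10 : Function.Exact d1 p := (ShortComplex.ShortExact.moduleCat_exact_iff_function_exact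
      (ShortComplex.mk (P.complex.d 1 0) (P.π.f 0) P.complex_d_comp_π_f_zero)).1
      (ShortComplex.exact_of_g_is_cokernel _ P.isColimitCokernelCofork)
    have h21 : Function.Exact d2 d1 := (ShortComplex.ShortExact.moduleCat_exact_iff_function_exact _).1 (P.exact_succ 0)
    let F₁ := (MonoidalCategory.tensoringLeft (ModuleCat.{u} R)).obj (ModuleCat.of R M)
    let F₂ := (MonoidalCategory.tensoringLeft (ModuleCat.{u} R)).obj (ModuleCat.of R M')
    let β : F₁ ⟶ F₂ := (MonoidalCategory.tensoringLeft (ModuleCat.{u} R)).map (ModuleCat.ofHom α)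
    have h0 := h N
    change (NatTrans.leftDerived β 1).app (ModuleCat.of R N) = 0 at h0
    rw [P.leftDerived_app_eq β 1] at h0
    have hH : HomologicalComplex.homologyMap ((NatTrans.mapHomologicalComplex β _).app P.complex) 1 = 0 :=
      aux (P.isoLeftDerivedObj F₁ 1) (P.isoLeftDerivedObj F₂ 1) _ h0
    let K₁ := (F₁.mapHomologicalComplex (ComplexShape.down ℕ)).obj P.complex
    let K₂ := (F₂.mapHomologicalComplex (ComplexShape.down ℕ)).obj P.complex
    have hcyc : ∀ x : M ⊗[R] P.complex.X 1, d1.lTensor M x = 0 →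
        ∃ w : M' ⊗[R] P.complex.X 2, d2.lTensor M' w = α.rTensor (P.complex.X 1) x := by
      intro x hx
      let T : ModuleCat.of R R ⟶ K₁.X 1 := ModuleCat.ofHom (LinearMap.toSpanSingleton R _ x)
      have hT : T ≫ K₁.d 1 0 = 0 := by
        ext
        show d1.lTensor M ((1 : R) • x) = 0
        rw [one_smul, hx]
      let c := K₁.liftCycles T 0 (by simp) hT
      have hc : (c ≫ HomologicalComplex.cyclesMap ((NatTrans.mapHomologicalComplex β _).app P.complex) 1) ≫ K₂.homologyπ 1 = 0 := by
        rw [Category.assoc, ← HomologicalComplex.homologyπ_naturality, hH, CategoryTheory.Limits.comp_zero, CategoryTheory.Limits.comp_zero]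
      obtain ⟨A, e, he, w, hw⟩ := (K₂.comp_homologyπ_eq_zero_iff_up_to_refinements 2 1 (by simp)
        (c ≫ HomologicalComplex.cyclesMap ((NatTrans.mapHomologicalComplex β _).app P.complex) 1)).1 hc
      obtain ⟨a, ha⟩ := (ModuleCat.epi_iff_surjective e).1 he (1 : R)
      refine ⟨w a, ?_⟩
      let ψ : K₁ ⟶ K₂ := (NatTrans.mapHomologicalComplex β (ComplexShape.down ℕ)).app P.complex
      have h2 : (c ≫ HomologicalComplex.cyclesMap ψ 1) ≫ K₂.iCycles 1 = T ≫ ψ.f 1 := by
        rw [Category.assoc, HomologicalComplex.cyclesMap_i, HomologicalComplex.liftCycles_i_assoc]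
      have h3 : e ≫ T ≫ ψ.f 1 = w ≫ K₂.d 2 1 :=
        (congrArg (fun q => e ≫ q) h2).symm.trans ((Category.assoc _ _ _).symm.trans
          ((congrArg (fun q => q ≫ K₂.iCycles 1) hw).trans ((Category.assoc _ _ _).trans
            (congrArg (fun q => w ≫ q) (K₂.toCycles_i 2 1)))))
      have h1 := ConcreteCategory.congr_hom h3 a
      refine h1.symm.trans ?_
      change α.rTensor (P.complex.X 1) (LinearMap.toSpanSingleton R _ x (e a)) = _
      rw [ha]
      exact congrArg _ (one_smul R x)
    -- transfer to the kernel of `p`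
    let d1' : P.complex.X 1 →ₗ[R] LinearMap.ker p := d1.codRestrict _ fun x => (h10 (d1 x)).2 ⟨x, rfl⟩
    have hd1' : Function.Surjective d1' := fun z => ((h10 z.1).1 z.2).imp fun x hx => Subtype.ext hx
    have h21' : Function.Exact d2 d1' := fun x => ⟨fun hx => (h21 x).1 (congrArg Subtype.val hx),
      fun hx => Subtype.ext ((h21 x).2 hx)⟩
    have hP : ∀ z : M ⊗[R] LinearMap.ker p, (LinearMap.ker p).subtype.lTensor M z = 0 →
        α.rTensor (LinearMap.ker p) z = 0 := by
      intro z hz
      obtain ⟨x, rfl⟩ := LinearMap.lTensor_surjective M hd1' z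
      have hd : d1 = (LinearMap.ker p).subtype ∘ₗ d1' := rfl
      obtain ⟨w, hw⟩ := hcyc x (by rw [hd, LinearMap.lTensor_comp]; exact hz)
      rw [← LinearMap.comp_apply, LinearMap.rTensor_comp_lTensor, ← LinearMap.lTensor_comp_rTensor, LinearMap.comp_apply, ← hw]
      exact (lTensor_exact M' h21' hd1' _).2 ⟨w, rfl⟩
    -- compare the two presentations
    have : Module.Projective R (P.complex.X 0) := (IsProjective.iff_projective _).2 (P.projective 0)
    obtain ⟨g, hg⟩ := Module.projective_lifting_property p π hp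
    obtain ⟨g₂, hg₂⟩ := Module.projective_lifting_property π p hπ
    have hgker : ∀ x ∈ LinearMap.ker π, g x ∈ LinearMap.ker p := fun x hx => (LinearMap.congr_fun hg x).trans hx
    have hg₂ker : ∀ x ∈ LinearMap.ker p, g₂ x ∈ LinearMap.ker π := fun x hx => (LinearMap.congr_fun hg₂ x).trans hx
    let φ : F →ₗ[R] LinearMap.ker π := (LinearMap.id - g₂ ∘ₗ g).codRestrict _ fun x => by
      simp [LinearMap.mem_ker, ← LinearMap.comp_apply π g₂, ← LinearMap.comp_apply p g, hg, hg₂]
    have hdec : (LinearMap.id : LinearMap.ker π →ₗ[R] LinearMap.ker π) =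
        φ ∘ₗ (LinearMap.ker π).subtype + g₂.restrict hg₂ker ∘ₗ g.restrict hgker := by
      ext x
      simp [φ]
    have h2 := hP ((g.restrict hgker).lTensor M z) (by
      have hsq : (LinearMap.ker p).subtype ∘ₗ g.restrict hgker = g ∘ₗ (LinearMap.ker π).subtype := rfl
      rw [← LinearMap.comp_apply, ← LinearMap.lTensor_comp, hsq, LinearMap.lTensor_comp, LinearMap.comp_apply, hz, map_zero])
    have h3 : z = (g₂.restrict hg₂ker).lTensor M ((g.restrict hgker).lTensor M z) := by
      conv_lhs => rw [← LinearMap.id_apply (R := R) z, ← LinearMap.lTensor_id, hdec, LinearMap.lTensor_add,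
        LinearMap.lTensor_comp, LinearMap.lTensor_comp, LinearMap.add_apply, LinearMap.comp_apply, hz, map_zero, zero_add]
      rfl
    rw [h3, ← LinearMap.comp_apply, LinearMap.rTensor_comp_lTensor, ← LinearMap.lTensor_comp_rTensor, LinearMap.comp_apply, h2, map_zero]
  -- the transpose
  obtain ⟨n, K, e, hK⟩ := Module.FinitePresentation.exists_fin R M
  obtain ⟨m, r, hr⟩ := Submodule.fg_iff_exists_fin_generating_family.1 hK
  let s : (Fin n → R) →ₗ[R] M := e.symm.toLinearMap ∘ₗ K.mkQ
  have hs0 : ∀ j, s (r j) = 0 := fun j => by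
    show e.symm (K.mkQ (r j)) = 0
    rw [Submodule.mkQ_apply, (Submodule.Quotient.mk_eq_zero K).2 (hr ▸ Submodule.subset_span ⟨j, rfl⟩), map_zero]
  let AT : (Fin n → R) →ₗ[R] (Fin m → R) := LinearMap.pi fun j => ∑ i, r j i • LinearMap.proj i
  let π : (Fin m → R) →ₗ[R] (Fin m → R) ⧸ LinearMap.range AT := (LinearMap.range AT).mkQ
  have hker : LinearMap.ker π = LinearMap.range AT := Submodule.ker_mkQ _
  let AT' : (Fin n → R) →ₗ[R] LinearMap.ker π := AT.codRestrict _ fun x => hker.ge ⟨x, rfl⟩
  have hAT' : Function.Surjective AT' := fun ⟨y, hy⟩ => by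
    rw [hker] at hy
    exact hy.imp fun x hx => Subtype.ext hx
  let z₀ : M ⊗[R] (Fin n → R) := ∑ i, s (Pi.single i 1) ⊗ₜ Pi.single i 1
  have hz : (LinearMap.ker π).subtype.lTensor M (AT'.lTensor M z₀) = 0 := by
    rw [← LinearMap.comp_apply, ← LinearMap.lTensor_comp, show (LinearMap.ker π).subtype ∘ₗ AT' = AT from rfl]
    have hc : ∀ i, AT (Pi.single i 1) = ∑ j, r j i • Pi.single j 1 := fun i => by
      funext j
      simp [AT, Pi.single_apply]
    simp only [z₀, map_sum, LinearMap.lTensor_tmul, hc, TensorProduct.tmul_sum, TensorProduct.tmul_smul, TensorProduct.smul_tmul']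
    rw [Finset.sum_comm]
    simp only [← TensorProduct.sum_tmul, ← map_smul, ← map_sum]
    refine Finset.sum_eq_zero fun j _ => ?_
    rw [show (∑ i, r j i • Pi.single i (1 : R)) = r j by funext i; simp [Pi.single_apply], hs0, TensorProduct.zero_tmul]
  have h4 := key (Fin m → R) _ π (Submodule.mkQ_surjective _) _ hz
  rw [← LinearMap.comp_apply, LinearMap.rTensor_comp_lTensor, ← LinearMap.lTensor_comp_rTensor, LinearMap.comp_apply] at h4
  obtain ⟨w, hw⟩ := (lTensor_exact M' (LinearMap.exact_subtype_ker_map AT') hAT' _).1 h4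
  obtain ⟨S, hS⟩ := TensorProduct.exists_finset w
  have hlift : ∀ f : LinearMap.ker AT', ∃ g : M →ₗ[R] R, ∀ i, g (s (Pi.single i 1)) = f.1 i := by
    intro f
    let L : (Fin n → R) →ₗ[R] R := ∑ i, f.1 i • LinearMap.proj i
    have hL : K ≤ LinearMap.ker L := by
      rw [← hr, Submodule.span_le]
      rintro _ ⟨j, rfl⟩
      have h5 : AT f.1 j = 0 := congrArg (fun y : LinearMap.ker π => y.1 j) (LinearMap.mem_ker.1 f.2)
      simp [AT] at h5
      simpa [L, mul_comm] using h5
    refine ⟨K.liftQ L hL ∘ₗ e.toLinearMap, fun i => ?_⟩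
    simp [s, L, Pi.single_apply]
  choose gl hgl using hlift
  let g : M →ₗ[R] ((M' × LinearMap.ker AT') →₀ R) := ∑ q ∈ S, (Finsupp.lsingle q) ∘ₗ gl q.2
  refine ⟨_, g, Finsupp.linearCombination R (fun q => q.1), ?_⟩
  have hs : Function.Surjective s := e.symm.surjective.comp K.mkQ_surjective
  refine (LinearMap.cancel_right hs).1 ?_
  refine LinearMap.pi_ext' fun i => LinearMap.ext_ring ?_
  have h6 := congrArg (fun y => TensorProduct.rid R M' ((LinearMap.proj i : (Fin n → R) →ₗ[R] R).lTensor M'
    ((LinearMap.ker AT').subtype.lTensor M' y))) hS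
  simp only [hw] at h6
  simp [z₀, map_sum, Pi.single_apply] at h6
  simp [g, h6, hgl, map_sum]

end Groth.Agent.S1740
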