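import Groth.Statements.S17403
import Groth.Agent.CycNorm.Irred
import Mathlib.RingTheory.RootsOfUnity.AlgebraicallyClosed
import Mathlib.RingTheory.LocalProperties.IntegrallyClosed

set_option autoImplicit false
universe u
open CycCov

set_option backward.isDefEq.respectTransparency false
set_option linter.style.haveILetI false
set_option maxHeartbeats 1000000

namespace Groth.Agent.S17403

open CategoryTheory AlgebraicGeometry Opposite in
/-- For X integral and smooth over an algebraically closed field k, L an invertible module, N ≥ 1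
invertible in k, D_1, …, D_r a strict normal crossing divisor on X with multiplicities α_j, s a
global section of the N-th tensor power of L whose divisor of zeros is D = Σ α_j D_j, and π : Y → X
with its root datum the normalised cyclic N-th-root cover of X defined by s, the scheme Y fails to
be irreducible exactly when, for some divisor μ > 1 of N, s is the μ-th power of a global section s'
of the (N/μ)-th tensor power of L; the power relation is stated frame by frame: on every affine open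
with a frame e of L, if s = a · e^{⊗N} and s' = b · e^{⊗(N/μ)} then a = b^μ. (The published claim
allows any effective divisor on a manifold; it is stated here for components forming a strict normal
crossing divisor.) -/
theorem result {k : Type u} [Field k] [IsAlgClosed k] {X Y : Scheme.{u}}
    (f : X ⟶ Spec (CommRingCat.of k)) [Smooth f] [IsIntegral X]
    (L : X.Modules) (hL : PicF.IsInvertible L) (N : ℕ) (hN : 0 < N) (hNk : (N : k) ≠ 0)
    {r : ℕ} (D : Fin r → X.IdealSheafData) (α : Fin r → ℕ) (hD : LogNCD.IsNCD D f)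
    (s : Coh.structureModule X ⟶ CohB1.tensorPow L N) (hs : CycCov.IsZeroDiv (CohB1.tensorPow L N) s (CycCov.divIdeal D α))
    (π : Y ⟶ X) (R : CycCov.Root L N s π) (hR : CycCov.IsCover R) :
    ¬ IrreducibleSpace Y ↔
      ∃ μ : ℕ, 1 < μ ∧ μ ∣ N ∧ ∃ s' : Coh.structureModule X ⟶ CohB1.tensorPow L (N / μ),
        ∀ (U : X.affineOpens) (e : L.val.obj (op U.1)), CycCov.IsGen L U.1 e →
          ∀ a b : Γ(X, U.1), SecTwist.val s U.1 = a • CycCov.lpow L U.1 e N →
            SecTwist.val s' U.1 = b • CycCov.lpow L U.1 e (N / μ) → a = b ^ μ := by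
  classical
  obtain ⟨hfin, hYn, -⟩ := id hR
  haveI := hfin
  haveI : IsReduced Y := by
    haveI : ∀ y : Y, _root_.IsReduced (Y.presheaf.stalk y) := fun y => by
      haveI := (hYn y).1
      infer_instance
    exact isReduced_of_isReduced_stalk Y
  obtain ⟨U₀, e₀, g₀, hxU₀, -, he₀, hg₀, -⟩ :=
    CycNorm.exists_chart hL hs (O := ⊤) (x := Classical.arbitrary X) trivial
  haveI hne₀ : Nonempty U₀.1 := ⟨⟨_, hxU₀⟩⟩
  haveI : IsDomain Γ(X, U₀.1) := IsIntegral.component_integral U₀.1
  have hic : ∀ (V : X.affineOpens) [Nonempty V.1], IsIntegrallyClosed Γ(X, V.1) := by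
    intro V _
    haveI : IsDomain Γ(X, V.1) := IsIntegral.component_integral V.1
    letI : Algebra k Γ(X, V.1) := (CycNorm.cst f V.1).toAlgebra
    haveI : Algebra.Smooth k Γ(X, V.1) := CycNorm.smooth_cst f V.2
    haveI : IsRegularRing Γ(X, V.1) := GeomProp.isRegularRing_of_smooth k _
    exact IsIntegrallyClosed.of_localization_maximal fun P hP => (CycNorm.normal_of_regular P).2
  haveI := hic U₀
  haveI := functionField_isFractionRing_of_isAffineOpen X U₀.1 U₀.2
  obtain ⟨hint, hgS, hker, gd, hgd, hloc⟩ := CycNorm.chart_facts R hR hN U₀ ⟨_, hxU₀⟩ e₀ he₀ g₀ hg₀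
  have hπne : ((π ⁻¹ᵁ U₀.1 : Y.Opens) : Set Y).Nonempty := by
    rw [Set.nonempty_iff_ne_empty]
    intro hempty
    haveI : Subsingleton Γ(Y, π ⁻¹ᵁ U₀.1) := by
      rw [show π ⁻¹ᵁ U₀.1 = ⊥ from TopologicalSpace.Opens.ext hempty]
      infer_instance
    have h1 := hker 1 (Subsingleton.elim _ _)
    have hp : (Polynomial.X ^ N - Polynomial.C g₀ : Polynomial Γ(X, U₀.1)).Monic :=
      Polynomial.monic_X_pow_sub_C _ hN.ne'
    rw [← map_one (AdjoinRoot.mk _), AdjoinRoot.mk_eq_zero] at h1
    have h2 := Polynomial.natDegree_le_of_dvd h1 one_ne_zero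
    rw [Polynomial.natDegree_X_pow_sub_C, Polynomial.natDegree_one] at h2
    omega
  rw [CycNorm.irreducibleSpace_iff_isDomain (U₀.2.preimage π) hπne
      (CycNorm.dense_preimage hL hs hN R hR ⟨_, hxU₀⟩),
    CycNorm.isDomain_iff_irreducible X.functionField hN g₀ _ hgS hker gd hgd hloc]
  have hgerm : ∀ {U W : X.Opens} [Nonempty U] [Nonempty W] (h : W ≤ U) (t : Γ(X, U)),
      X.germToFunctionField W (QC.resO X h t) = X.germToFunctionField U t := fun h t =>
    X.presheaf.germ_res_apply (homOfLE h) _ _ t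
  have hval : ∀ {U W : X.Opens} (h : W ≤ U) {e : Γ(L, U)} {a : Γ(X, U)},
      SecTwist.val s U = a • CycCov.lpow L U e N →
      SecTwist.val s W = QC.resO X h a • TMul.pw (QC.res L h e) N := fun h _ _ ha => by
    rw [CycNorm.val_eq_res h ha, CycNorm.lpow_eq_pw]
  constructor
  · intro hirr
    obtain ⟨ζ, hζ⟩ : ∃ ζ : X.functionField, IsPrimitiveRoot ζ N := by
      haveI : NeZero N := ⟨hN.ne'⟩
      haveI : NeZero (N : k) := ⟨hNk⟩
      obtain ⟨z, hz⟩ := HasEnoughRootsOfUnity.exists_primitiveRoot k N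
      exact ⟨_, hz.map_of_injective
        ((X.germToFunctionField U₀.1).hom.comp (CycNorm.cst f U₀.1)).injective⟩
    obtain ⟨μ, bK, hμ, hμN, hbK⟩ := CycNorm.exists_pow_eq_of_reducible hN hζ hirr
    obtain ⟨c₀, hc₀⟩ := IsIntegrallyClosed.exists_algebraMap_eq_of_isIntegral_pow (R := Γ(X, U₀.1))
      (show 0 < μ by omega) (x := bK) (hbK ▸ isIntegral_algebraMap)
    have hc₀' : c₀ ^ μ = g₀ := IsFractionRing.injective Γ(X, U₀.1) X.functionField (by rw [map_pow, hc₀, hbK])
    have hMμ : N / μ * μ = N := Nat.div_mul_cancel hμN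
    let M := N / μ
    let T := CohB1.tensorPow L M
    let σ₀ : Γ(T, U₀.1) := c₀ • TMul.pw e₀ M
    -- extending the section to every chart
    have hext : ∀ x : X, ∃ (V : X.Opens) (σ : Γ(T, V)), x ∈ V ∧
        QC.res T (inf_le_left : V ⊓ U₀.1 ≤ V) σ = QC.res T (inf_le_right : V ⊓ U₀.1 ≤ U₀.1) σ₀ := by
      intro x
      obtain ⟨V, e, g, hxV, -, he, hg, -⟩ := CycNorm.exists_chart hL hs (O := ⊤) (x := x) trivial
      haveI : Nonempty V.1 := ⟨⟨x, hxV⟩⟩
      haveI := hic V
      haveI := functionField_isFractionRing_of_isAffineOpen X V.1 V.2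
      obtain ⟨z, hz⟩ := nonempty_preirreducible_inter V.1.2 U₀.1.2 ⟨x, hxV⟩ ⟨_, hxU₀⟩
      let W := V.1 ⊓ U₀.1
      haveI : Nonempty W := ⟨⟨z, hz⟩⟩
      obtain ⟨u, hu⟩ := (he W inf_le_left).2 (QC.res L (inf_le_right : W ≤ U₀.1) e₀)
      have hu' : u • QC.res L (inf_le_left : W ≤ V.1) e = QC.res L (inf_le_right : W ≤ U₀.1) e₀ := hu
      have hgW : QC.resO X (inf_le_left : W ≤ V.1) g = QC.resO X (inf_le_right : W ≤ U₀.1) g₀ * u ^ N := by
        have h1 := (hval (inf_le_left : W ≤ V.1) hg).symm.trans (hval (inf_le_right : W ≤ U₀.1) hg₀)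
        rw [← hu', TMul.pw_smul, smul_smul] at h1
        exact CycNorm.eq_of_smul_eq (TMul.isGen_pw (he.res _) N) h1
      let cW := QC.resO X (inf_le_right : W ≤ U₀.1) c₀ * u ^ M
      have hcW : cW ^ μ = QC.resO X (inf_le_left : W ≤ V.1) g := by
        rw [hgW, mul_pow, ← map_pow, hc₀', ← pow_mul, hMμ]
      obtain ⟨c, hc⟩ := IsIntegrallyClosed.exists_algebraMap_eq_of_isIntegral_pow (R := Γ(X, V.1))
        (show 0 < μ by omega) (x := X.germToFunctionField W cW) (by
          rw [← map_pow, hcW, hgerm]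
          exact isIntegral_algebraMap)
      have hcres : QC.resO X (inf_le_left : W ≤ V.1) c = cW :=
        Scheme.germToFunctionField_injective X W ((hgerm _ _).trans hc)
      refine ⟨V.1, c • TMul.pw e M, hxV, ?_⟩
      rw [QC.res_smul, QC.res_smul, TMul.res_pw, TMul.res_pw, hcres, ← hu', TMul.pw_smul, smul_smul]
    choose V σ hxV hσ using hext
    have hinjT : ∀ {U W : X.Opens} (h : W ≤ U), (W : Set X).Nonempty → Function.Injective (QC.res T h) :=
      fun h hW => CycNorm.res_injective (CycNorm.frames_pw hL M) h hW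
    obtain ⟨t, ht, -⟩ := TopCat.Sheaf.existsUnique_gluing' (QC.abSheaf T) V ⊤
      (fun x => CategoryTheory.homOfLE le_top) (fun x _ => TopologicalSpace.Opens.mem_iSup.mpr ⟨x, hxV x⟩)
      σ (fun x x' => by
        show QC.res T (inf_le_left : V x ⊓ V x' ≤ V x) (σ x) = QC.res T (inf_le_right : V x ⊓ V x' ≤ V x') (σ x')
        rcases (((V x ⊓ V x' : X.Opens) : Set X)).eq_empty_or_nonempty with h0 | h0
        · exact QC.section_eq_of_locally fun z hz => absurd (show z ∈ ((V x ⊓ V x' : X.Opens) : Set X) from hz)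
            (h0 ▸ Set.notMem_empty z)
        · refine hinjT (W := V x ⊓ V x' ⊓ U₀.1) inf_le_left
            (nonempty_preirreducible_inter (V x ⊓ V x').2 U₀.1.2 h0 ⟨_, hxU₀⟩) ?_
          have h1 := congrArg (QC.res T (show V x ⊓ V x' ⊓ U₀.1 ≤ V x ⊓ U₀.1 from inf_le_inf_right _ inf_le_left))
            (hσ x)
          have h2 := congrArg (QC.res T (show V x ⊓ V x' ⊓ U₀.1 ≤ V x' ⊓ U₀.1 from inf_le_inf_right _ inf_le_right))
            (hσ x')
          rw [QC.res_res, QC.res_res] at h1 h2 ⊢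
          exact h1.trans h2.symm)
    have ht0 : QC.res T (le_top : U₀.1 ≤ ⊤) t = σ₀ := QC.section_eq_of_locally fun x hx => by
      refine ⟨V x ⊓ U₀.1, inf_le_right, ⟨hxV x, hx⟩, ?_⟩
      rw [← hσ x, ← (show QC.res T (le_top : V x ≤ ⊤) t = σ x from ht x), QC.res_res, QC.res_res]
    refine ⟨μ, hμ, hμN, TMul.homOf t, fun U e he a b ha hb => ?_⟩
    rcases ((U.1 : Set X)).eq_empty_or_nonempty with h0 | h0
    · haveI : Subsingleton Γ(X, U.1) := by
        rw [show U.1 = ⊥ from TopologicalSpace.Opens.ext h0]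
        infer_instance
      exact Subsingleton.elim _ _
    haveI : Nonempty U.1 := h0.to_subtype
    obtain ⟨z, hz⟩ := nonempty_preirreducible_inter U.1.2 U₀.1.2 h0 ⟨_, hxU₀⟩
    let W := U.1 ⊓ U₀.1
    haveI : Nonempty W := ⟨⟨z, hz⟩⟩
    obtain ⟨u, hu⟩ := (he₀ W inf_le_right).2 (QC.res L (inf_le_left : W ≤ U.1) e)
    have hu' : u • QC.res L (inf_le_right : W ≤ U₀.1) e₀ = QC.res L (inf_le_left : W ≤ U.1) e := hu
    have hu0 : u ≠ 0 := by
      intro hu0
      rw [hu0, zero_smul, ← map_zero (QC.res L (inf_le_left : W ≤ U.1))] at hu'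
      have he0 : e = 0 := CycNorm.res_injective (TMul.exists_isGen hL) _ ⟨z, hz⟩ hu'.symm
      exact one_ne_zero (α := Γ(X, U.1)) (he.1 (show (1 : Γ(X, U.1)) • e = (0 : Γ(X, U.1)) • e by
        rw [he0, smul_zero, smul_zero]))
    have hga : QC.resO X (inf_le_right : W ≤ U₀.1) g₀ = QC.resO X (inf_le_left : W ≤ U.1) a * u ^ N := by
      have h1 := (hval (inf_le_right : W ≤ U₀.1) hg₀).symm.trans (hval (inf_le_left : W ≤ U.1) ha)
      rw [← hu', TMul.pw_smul, smul_smul] at h1
      exact CycNorm.eq_of_smul_eq (TMul.isGen_pw (he₀.res _) N) h1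
    have hcb : QC.resO X (inf_le_right : W ≤ U₀.1) c₀ = QC.resO X (inf_le_left : W ≤ U.1) b * u ^ M := by
      have h1 := congrArg (QC.res T (inf_le_left : W ≤ U.1)) hb
      rw [show SecTwist.val (TMul.homOf t) U.1 = QC.res T le_top t from TMul.val_homOf t U.1, CycNorm.lpow_eq_pw, QC.res_res, QC.res_smul, TMul.res_pw] at h1
      have h2 := congrArg (QC.res T (inf_le_right : W ≤ U₀.1)) ht0
      rw [QC.res_res, QC.res_smul, TMul.res_pw] at h2
      have h3 := h2.symm.trans h1
      rw [← hu', TMul.pw_smul, smul_smul] at h3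
      exact CycNorm.eq_of_smul_eq (TMul.isGen_pw (he₀.res _) M) h3
    refine map_injective_of_isIntegral X (CategoryTheory.homOfLE (inf_le_left : W ≤ U.1)) ?_
    haveI : IsDomain Γ(X, W) := IsIntegral.component_integral W
    refine mul_right_cancel₀ (pow_ne_zero N hu0) ?_
    show QC.resO X (inf_le_left : W ≤ U.1) a * u ^ N = QC.resO X (inf_le_left : W ≤ U.1) (b ^ μ) * u ^ N
    rw [← hga, ← hc₀', map_pow, hcb, mul_pow, ← pow_mul, hMμ, map_pow]
  · rintro ⟨μ, hμ, hμN, s', hs'⟩ hirr
    have hMμ : N / μ * μ = N := Nat.div_mul_cancel hμN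
    obtain ⟨b, hb⟩ := (CycNorm.isGen_self (TMul.isGen_pw he₀ (N / μ))).2 (SecTwist.val s' U₀.1)
    have hgb := hs' U₀ e₀ (CycNorm.isGen_self he₀) g₀ b hg₀ (by rw [CycNorm.lpow_eq_pw]; exact hb.symm)
    rw [hgb, map_pow] at hirr
    set c := algebraMap Γ(X, U₀.1) X.functionField b
    obtain ⟨q, hq⟩ := sub_dvd_pow_sub_pow (Polynomial.X ^ (N / μ) : Polynomial X.functionField) (Polynomial.C c) μ
    rw [← pow_mul, hMμ, ← Polynomial.C_pow] at hq
    have hM0 : 0 < N / μ := Nat.div_pos (Nat.le_of_dvd hN hμN) (by omega)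
    rcases hirr.isUnit_or_isUnit hq with h | h
    · have h1 := Polynomial.natDegree_eq_zero_of_isUnit h
      rw [Polynomial.natDegree_X_pow_sub_C] at h1
      omega
    · have h1 := congrArg Polynomial.natDegree hq
      rw [Polynomial.natDegree_X_pow_sub_C, Polynomial.natDegree_mul (Polynomial.X_pow_sub_C_ne_zero hM0 c)
        h.ne_zero, Polynomial.natDegree_X_pow_sub_C, Polynomial.natDegree_eq_zero_of_isUnit h] at h1
      have : N / μ < N := Nat.div_lt_self hN hμ
      omega


end Groth.Agent.S17403
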