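import Groth.Statements.S17407
import Groth.Agent.CycNorm.NCD

set_option autoImplicit false
universe u
open CycCov

set_option backward.isDefEq.respectTransparency false
set_option linter.style.haveILetI false
set_option maxHeartbeats 1000000

namespace Groth.Agent.S17407

open CategoryTheory AlgebraicGeometry in
/-- For X integral and smooth over an algebraically closed field k, L an invertible module, N ≥ 1
invertible in k, D_1, …, D_r a strict normal crossing divisor on X with multiplicities α_j, s a
global section of the N-th tensor power of L whose divisor of zeros is D = Σ α_j D_j, and π : Y → X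
with its root datum the normalised cyclic N-th-root cover of X defined by s, assume that the
components D_j with α_j > 0 are pairwise disjoint (the reduced divisor of D is non-singular; the D_j
with α_j = 0 form an auxiliary reduced divisor Γ, D + Γ a normal crossing divisor). Then the reduced
preimages (π^*D_j)_red, j = 1, …, r, form a strict normal crossing divisor on Y over k. (The
published claim is the local statement over an affine open where D has one component; normal
crossings being a local property, it is stated here on all of Y.) -/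
theorem result {k : Type u} [Field k] [IsAlgClosed k] {X Y : Scheme.{u}}
    (f : X ⟶ Spec (CommRingCat.of k)) [Smooth f] [IsIntegral X]
    (L : X.Modules) (hL : PicF.IsInvertible L) (N : ℕ) (hN : 0 < N) (hNk : (N : k) ≠ 0)
    {r : ℕ} (D : Fin r → X.IdealSheafData) (α : Fin r → ℕ) (hD : LogNCD.IsNCD D f)
    (s : Coh.structureModule X ⟶ CohB1.tensorPow L N) (hs : CycCov.IsZeroDiv (CohB1.tensorPow L N) s (CycCov.divIdeal D α))
    (π : Y ⟶ X) (R : CycCov.Root L N s π) (hR : CycCov.IsCover R)
    (hdisj : ∀ (x : X) (j j' : Fin r), 0 < α j → 0 < α j' → x ∈ (D j).support → x ∈ (D j').support → j = j') :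
    LogNCD.IsNCD (fun j : Fin r => ((D j).comap π).radical) (π ≫ f) := by
  classical
  haveI := hR.1
  intro y hy
  obtain ⟨⟨j₁, hj₁⟩⟩ := hy
  have hsupp : ∀ j, y ∈ ((D j).comap π).radical.support ↔ π y ∈ (D j).support := fun j => by
    rw [Scheme.IdealSheafData.support_radical, Scheme.IdealSheafData.support_comap]
    rfl
  obtain ⟨W₀, hxW₀, n, v, e, he, het, hcoord, hout⟩ := hD (π y) ⟨⟨j₁, (hsupp j₁).1 hj₁⟩⟩
  haveI := het
  obtain ⟨U₀, hxU₀, hetU⟩ := CycNorm.etale_coord f W₀ v hxW₀
  obtain ⟨U, hUO, W, hW, z, hyW, hz, hrel⟩ := CycNorm.exists_cover_coords f hL hN hNk D α hD hs R hR y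
    (hdisj (π y)) (O := W₀ ⊓ U₀) ⟨hxW₀, hxU₀⟩ (fun V hV i => LogNCD.sectOn W₀ (hV.trans inf_le_left) (v i))
    (fun V hV => hetU V (hV.trans inf_le_right) (hV.trans inf_le_left))
    (fun j hj => ULift.up (e ⟨j, hj⟩)) (fun j hj V hV => hcoord ⟨j, hj⟩ V (hV.trans inf_le_left))
  refine ⟨W.1, hyW, n, fun i => W.1.topIso.inv (z i), fun i => e ⟨i.1, (hsupp i.1).1 i.2⟩, ?_,
    CycNorm.etale_vector (π ≫ f) W.2 z hz, ?_, ?_⟩
  · intro i i' h
    exact Subtype.ext (congrArg (fun t => t.1) (he h) :)
  · intro i V hV
    have hWeq : ((D i.1).comap π).radical.ideal W = Ideal.span {z ⟨e ⟨i.1, (hsupp i.1).1 i.2⟩⟩} := by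
      obtain ⟨m, a, hm, ha, hma⟩ := hrel ⟨e ⟨i.1, (hsupp i.1).1 i.2⟩⟩
      rw [Scheme.IdealSheafData.radical_ideal,
        ← ((D i.1).comap π).map_ideal (V := ⟨π ⁻¹ᵁ U.1, U.2.preimage π⟩) hW, CycNorm.ideal_comap_preimage,
        hcoord ⟨i.1, (hsupp i.1).1 i.2⟩ U (hUO.trans inf_le_left), Ideal.map_span, Set.image_singleton,
        Ideal.map_span, Set.image_singleton]
      exact CycNorm.radical_span_of_pow ha hm hma (CycNorm.isRadical_span_coord _ z hz _)
    rw [← ((D i.1).comap π).radical.map_ideal (V := W) hV, hWeq, Ideal.map_span, Set.image_singleton]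
    congr 2
    rw [LogNCD.sectOn_apply, Iso.inv_hom_id_apply]
    rfl
  · intro j hj V hV
    have htop := hout j (fun h => hj ((hsupp j).2 h)) U (hUO.trans inf_le_left)
    rw [← ((D j).comap π).radical.map_ideal (V := W) hV, Scheme.IdealSheafData.radical_ideal,
      ← ((D j).comap π).map_ideal (V := ⟨π ⁻¹ᵁ U.1, U.2.preimage π⟩) hW, CycNorm.ideal_comap_preimage, htop,
      Ideal.map_top, Ideal.map_top, Ideal.radical_top, Ideal.map_top]


end Groth.Agent.S17407
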