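import Groth.Statements.S17409
import Mathlib.Algebra.MvPolynomial.PDeriv
import Mathlib.Tactic

set_option autoImplicit false
set_option linter.style.haveILetI false

universe u
open Prym5

namespace Groth.Agent.S17409

/-- Over a perfect field K of characteristic different from 2 and 3, let G₂, G₃, G₄ be polynomials in
two variables x, y and consider G₂ z² + 2 G₃ z + G₄ as a polynomial in the three variables x, y, z.
If it lies in the square of the ideal (x, y, z) — the surface it defines has a double point at the
origin — then the discriminant G₃² − G₂ G₄ lies in the square of the ideal (x, y) of K[x, y], so the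
plane curve G₃² − G₂ G₄ = 0 is singular at the origin. (This is the affine-local form used in the
published proof: the surface is a quartic with a node at the centre of projection placed at infinity
on the z-axis, and the curve is the branch sextic of that projection.) -/
theorem result (K : Type u) [Field K] [PerfectField K]
    (h2 : (2 : K) ≠ 0) (h3 : (3 : K) ≠ 0) (G₂ G₃ G₄ : MvPolynomial (Fin 2) K)
    (h : MvPolynomial.rename (Fin.castSucc : Fin 2 → Fin 3) G₂ * MvPolynomial.X (2 : Fin 3) ^ 2
        + 2 * MvPolynomial.rename (Fin.castSucc : Fin 2 → Fin 3) G₃ * MvPolynomial.X (2 : Fin 3)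
        + MvPolynomial.rename (Fin.castSucc : Fin 2 → Fin 3) G₄
        ∈ (Ideal.span (Set.range (MvPolynomial.X : Fin 3 → MvPolynomial (Fin 3) K))) ^ 2) :
    G₃ ^ 2 - G₂ * G₄ ∈ (Ideal.span (Set.range (MvPolynomial.X : Fin 2 → MvPolynomial (Fin 2) K))) ^ 2 := by
  classical
  let e : MvPolynomial (Fin 3) K →ₐ[K] MvPolynomial (Fin 2) K :=
    MvPolynomial.aeval ![MvPolynomial.X 0, MvPolynomial.X 1, 0]
  let m2 : Ideal (MvPolynomial (Fin 2) K) := Ideal.span (Set.range MvPolynomial.X)
  let m3 : Ideal (MvPolynomial (Fin 3) K) := Ideal.span (Set.range MvPolynomial.X)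
  have he : ∀ P : MvPolynomial (Fin 2) K, e (MvPolynomial.rename Fin.castSucc P) = P := by
    intro P
    induction P using MvPolynomial.induction_on with
    | C a => simp [e]
    | add p q hp hq => simp [hp, hq]
    | mul_X p i hp => fin_cases i <;> simp_all [e]
  have hX : ∀ i, e (MvPolynomial.X i) ∈ m2 := by
    intro i
    fin_cases i <;> simp [e, m2] <;> exact Ideal.subset_span ⟨_, rfl⟩
  have hm : m3.map e ≤ m2 := by
    rw [Ideal.map_span, Ideal.span_le]
    rintro _ ⟨_, ⟨i, rfl⟩, rfl⟩
    exact hX i
  have h4 : G₄ ∈ m2 ^ 2 := by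
    have := Ideal.mem_map_of_mem e h
    rw [Ideal.map_pow] at this
    have := Ideal.pow_right_mono hm 2 this
    have hz : e (MvPolynomial.X 2) = 0 := by simp [e]
    simpa [he, hz] using this
  let d := MvPolynomial.pderiv (R := K) (2 : Fin 3)
  have hd : ∀ P : MvPolynomial (Fin 2) K, d (MvPolynomial.rename Fin.castSucc P) = 0 := by
    intro P
    induction P using MvPolynomial.induction_on with
    | C a => simp [d]
    | add p q hp hq => simp [hp, hq]
    | mul_X p i hp => fin_cases i <;> simp_all [d, Derivation.leibniz]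
  have hdm : ∀ P ∈ m3 ^ 2, e (d P) ∈ m2 := by
    intro P hP
    rw [pow_two] at hP
    induction hP using Submodule.mul_induction_on' with
    | mem_mul_mem a ha b hb =>
      rw [Derivation.leibniz, smul_eq_mul, smul_eq_mul, map_add, map_mul, map_mul]
      exact add_mem (Ideal.mul_mem_right _ _ (hm (Ideal.mem_map_of_mem e ha)))
        (Ideal.mul_mem_right _ _ (hm (Ideal.mem_map_of_mem e hb)))
    | add x _ y _ hx hy => simpa using add_mem hx hy
  have h3' : 2 * G₃ ∈ m2 := by
    have := hdm _ h
    have hz : e (MvPolynomial.X 2) = 0 := by simp [e]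
    have h2d : d (2 : MvPolynomial (Fin 3) K) = 0 := by
      rw [show (2 : MvPolynomial (Fin 3) K) = MvPolynomial.C 2 by rw [map_ofNat]]
      simp [d]
    have hdX : d (MvPolynomial.X (2 : Fin 3)) = 1 := by simp [d]
    simpa [Derivation.leibniz, pow_two, hd, h2d, hdX, hz, he, map_ofNat] using this
  have h3m : G₃ ∈ m2 := by
    have := Ideal.mul_mem_left m2 (MvPolynomial.C (2 : K)⁻¹) h3'
    rwa [← mul_assoc, show (2 : MvPolynomial (Fin 2) K) = MvPolynomial.C 2 by rw [map_ofNat],
      ← map_mul, inv_mul_cancel₀ h2, map_one, one_mul] at this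
  exact sub_mem (Ideal.pow_mem_pow h3m 2) (Ideal.mul_mem_left _ _ h4)

end Groth.Agent.S17409
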