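import Groth.Statements.S1741
import Groth.Agent.TorBalance.LESFlip
import Groth.Agent.S1740
import Mathlib.Algebra.Homology.HomologySequenceLemmas

set_option autoImplicit false
set_option linter.style.haveILetI false
set_option backward.isDefEq.respectTransparency false
universe u
open CategoryTheory
attribute [local instance] HasDerivedCategory.standard
open LocCoh

namespace Groth.Agent.S1741

section Shift

variable {R : Type u} [CommRing R]

theorem ext_shift {S S' : ShortComplex (ModuleCat.{u} R)} (hS : S.ShortExact) (hS' : S'.ShortExact)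
    (φ : S ⟶ S') [Projective S.X₂] [Projective S'.X₂] (n : ℕ) :
    (∀ (N : ModuleCat.{u} R) (x : Abelian.Ext S'.X₃ N (n + 2)), (Abelian.Ext.mk₀ φ.τ₃).comp x (zero_add _) = 0) ↔
      ∀ (N : ModuleCat.{u} R) (x : Abelian.Ext S'.X₁ N (n + 1)), (Abelian.Ext.mk₀ φ.τ₁).comp x (zero_add _) = 0 := by
  have e : 1 + (n + 1) = n + 2 := by omega
  have hn := ShortComplex.ShortExact.extClass_naturality hS hS' φ
  have key : ∀ (N : ModuleCat.{u} R) (x : Abelian.Ext S'.X₁ N (n + 1)),
      hS.extClass.comp ((Abelian.Ext.mk₀ φ.τ₁).comp x (zero_add _)) e =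
        (Abelian.Ext.mk₀ φ.τ₃).comp (hS'.extClass.comp x e) (zero_add _) := by
    intro N x
    rw [← Abelian.Ext.comp_assoc (a₁₂ := 1) _ _ _ (add_zero 1) (zero_add _) (by omega), hn,
      Abelian.Ext.comp_assoc (a₂₃ := n + 2) _ _ _ (zero_add 1) e (by omega)]
  constructor
  · intro h N x
    have h1 : hS.extClass.comp ((Abelian.Ext.mk₀ φ.τ₁).comp x (zero_add _)) e = 0 := by rw [key, h]
    obtain ⟨y, hy⟩ := Abelian.Ext.contravariant_sequence_exact₁ hS N _ e h1
    rw [← hy, Abelian.Ext.eq_zero_of_projective (P := S.X₂) y, Abelian.Ext.comp_zero]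
  · intro h N x
    obtain ⟨y, rfl⟩ := Abelian.Ext.contravariant_sequence_exact₃ hS' N x
      (Abelian.Ext.eq_zero_of_projective (P := S'.X₂) _) e
    rw [← key, h, Abelian.Ext.comp_zero]

open TorBalance in
theorem tor_shift {S S' : ShortComplex (ModuleCat.{u} R)} (hS : S.ShortExact) (hS' : S'.ShortExact)
    (φ : S ⟶ S') [Module.Flat R S.X₂] [Module.Flat R S'.X₂] (n : ℕ) (N : ModuleCat.{u} R) :
    ((Tor (ModuleCat.{u} R) (n + 2)).map φ.τ₃).app N = 0 ↔
      ((Tor (ModuleCat.{u} R) (n + 1)).map φ.τ₁).app N = 0 := by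
  let Q := projectiveResolution N
  have hC := shortExact_cxL Q hS
  have hC' := shortExact_cxL Q hS'
  have hrel : (ComplexShape.down ℕ).Rel (n + 2) (n + 1) := by simp
  haveI : IsIso (hC.δ (n + 2) (n + 1) hrel) := hC.isIso_δ _ _ hrel
    ((isZero_flat S.X₂ N (n + 1)).of_iso ((flipIso Q (n + 2)).app S.X₂).symm)
    ((isZero_flat S.X₂ N n).of_iso ((flipIso Q (n + 1)).app S.X₂).symm)
  haveI : IsIso (hC'.δ (n + 2) (n + 1) hrel) := hC'.isIso_δ _ _ hrel
    ((isZero_flat S'.X₂ N (n + 1)).of_iso ((flipIso Q (n + 2)).app S'.X₂).symm)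
    ((isZero_flat S'.X₂ N n).of_iso ((flipIso Q (n + 1)).app S'.X₂).symm)
  have hnat := HomologicalComplex.HomologySequence.δ_naturality
    ((cxL Q.complex).mapShortComplex.map φ) hC hC' (n + 2) (n + 1) hrel
  have hz : ∀ (p : ℕ) {X Y : ModuleCat.{u} R} (f : X ⟶ Y),
      ((Tor (ModuleCat.{u} R) p).map f).app N = 0 ↔
        HomologicalComplex.homologyMap ((cxL Q.complex).map f) p = 0 := fun p X Y f => by
    have h := (flipIso Q p).hom.naturality f
    constructor
    · intro h0
      have h' := congrArg (fun z => ((flipIso Q p).app X).inv ≫ z) h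
      refine Eq.trans ?_ (h'.symm.trans ?_)
      · exact (((flipIso Q p).app X).inv_hom_id_assoc _).symm
      · rw [show ((Tor (ModuleCat.{u} R) p).flip.obj N).map f = 0 from h0, Limits.zero_comp, Limits.comp_zero]
    · intro h0
      show ((Tor (ModuleCat.{u} R) p).flip.obj N).map f = 0
      have h' := congrArg (fun z => z ≫ ((flipIso Q p).app Y).inv) h
      refine Eq.trans ?_ (h'.trans ?_)
      · refine Eq.trans ?_ (Category.assoc _ _ _).symm
        exact ((congrArg (fun z => ((Tor (ModuleCat.{u} R) p).flip.obj N).map f ≫ z) ((flipIso Q p).app Y).hom_inv_id).trans (Category.comp_id _)).symm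
      · refine Eq.trans (congrArg (fun z => ((flipIso Q p).hom.app X ≫ z) ≫ ((flipIso Q p).app Y).inv) h0) ?_
        simp
  rw [hz, hz]
  constructor
  · intro h0
    rw [← cancel_epi (hC.δ (n + 2) (n + 1) hrel), Limits.comp_zero]
    refine hnat.trans ?_
    exact (congrArg (fun z => z ≫ hC'.δ (n + 2) (n + 1) hrel) h0).trans Limits.zero_comp
  · intro h0
    rw [← cancel_mono (hC'.δ (n + 2) (n + 1) hrel), Limits.zero_comp]
    refine hnat.symm.trans ?_
    exact (congrArg (fun z => hC.δ (n + 2) (n + 1) hrel ≫ z) h0).trans Limits.comp_zero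

theorem ext_iff_tor [IsNoetherianRing R] : ∀ (e : ℕ) (M M' : Type u) [AddCommGroup M] [Module R M]
    [Module.Finite R M] [AddCommGroup M'] [Module R M'] (α : M →ₗ[R] M'),
    (∀ (N : ModuleCat.{u} R) (x : Abelian.Ext (ModuleCat.of R M') N (e + 1)),
        (Abelian.Ext.mk₀ (ModuleCat.ofHom α)).comp x (zero_add _) = 0) ↔
      ∀ (N : Type u) [AddCommGroup N] [Module R N],
        ((Tor (ModuleCat.{u} R) (e + 1)).map (ModuleCat.ofHom α)).app (ModuleCat.of R N) = 0 := by
  intro e
  induction e with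
  | zero =>
    intro M M' _ _ _ _ _ α
    let g : (M' →₀ R) →ₗ[R] M' := Finsupp.linearCombination R id
    have hg : Function.Surjective g := fun m => ⟨Finsupp.single m 1, by simp [g]⟩
    have hS := LinearMap.shortExact_shortComplexKer hg
    constructor
    · intro h N _ _
      obtain ⟨y, hy⟩ := Abelian.Ext.covariant_sequence_exact₃ (ModuleCat.of R M) hS
        (Abelian.Ext.mk₀ (ModuleCat.ofHom α)) (zero_add 1) (h _ hS.extClass)
      obtain ⟨l, rfl⟩ := Abelian.Ext.addEquiv₀.symm.surjective y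
      rw [show (Abelian.Ext.addEquiv₀.symm l : Abelian.Ext _ _ 0) = Abelian.Ext.mk₀ l from rfl,
        Abelian.Ext.mk₀_comp_mk₀] at hy
      rw [← Abelian.Ext.addEquiv₀.symm.injective hy, Functor.map_comp, NatTrans.comp_app]
      haveI : Module.Flat R g.shortComplexKer.X₂ := inferInstanceAs (Module.Flat R (M' →₀ R))
      exact (congrArg (· ≫ _) ((TorBalance.isZero_flat g.shortComplexKer.X₂ _ 0).eq_of_tgt _ 0)).trans Limits.zero_comp
    · intro h N x
      haveI : Module.FinitePresentation R M := Module.finitePresentation_of_finite R M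
      obtain ⟨ι, a, b, rfl⟩ := Groth.Agent.S1740.result R M M' α h
      haveI : Projective (ModuleCat.of R (ι →₀ R)) := (IsProjective.iff_projective _).mp inferInstance
      rw [ModuleCat.ofHom_comp, ← Abelian.Ext.mk₀_comp_mk₀,
        Abelian.Ext.comp_assoc (a₂₃ := 1) _ _ _ (zero_add 0) (zero_add 1) (by omega),
        Abelian.Ext.eq_zero_of_projective (P := ModuleCat.of R (ι →₀ R)) ((Abelian.Ext.mk₀ (ModuleCat.ofHom b)).comp x _),
        Abelian.Ext.comp_zero]
  | succ e ih =>
    intro M M' _ _ _ _ _ α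
    obtain ⟨k, g, hg⟩ := Module.Finite.exists_fin' R M
    let g' : (M' →₀ R) →ₗ[R] M' := Finsupp.linearCombination R id
    have hg' : Function.Surjective g' := fun m => ⟨Finsupp.single m 1, by simp [g']⟩
    obtain ⟨l, hl⟩ := Module.projective_lifting_property g' (α ∘ₗ g) hg'
    let β : LinearMap.ker g →ₗ[R] LinearMap.ker g' := l.restrict fun x hx => by
      rw [LinearMap.mem_ker, ← LinearMap.comp_apply, hl, LinearMap.comp_apply, LinearMap.mem_ker.1 hx, map_zero]
    let φ : g.shortComplexKer ⟶ g'.shortComplexKer := ShortComplex.homMk (ModuleCat.ofHom β)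
      (ModuleCat.ofHom l) (ModuleCat.ofHom α) rfl (ModuleCat.hom_ext hl)
    have hS := LinearMap.shortExact_shortComplexKer hg
    have hS' := LinearMap.shortExact_shortComplexKer hg'
    haveI : Projective g.shortComplexKer.X₂ := (IsProjective.iff_projective (Fin k → R)).mp inferInstance
    haveI : Projective g'.shortComplexKer.X₂ := (IsProjective.iff_projective (M' →₀ R)).mp inferInstance
    haveI : Module.Flat R g.shortComplexKer.X₂ := inferInstanceAs (Module.Flat R (Fin k → R))
    haveI : Module.Flat R g'.shortComplexKer.X₂ := inferInstanceAs (Module.Flat R (M' →₀ R))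
    haveI : Module.Finite R (LinearMap.ker g) := Module.Finite.of_fg (IsNoetherian.noetherian _)
    have h1 := ext_shift hS hS' φ e
    have h2 := ih (↥(LinearMap.ker g)) (↥(LinearMap.ker g')) β
    have h3 : ∀ (N : Type u) [AddCommGroup N] [Module R N],
        (((Tor (ModuleCat.{u} R) (e + 2)).map φ.τ₃).app (ModuleCat.of R N) = 0 ↔
          ((Tor (ModuleCat.{u} R) (e + 1)).map φ.τ₁).app (ModuleCat.of R N) = 0) :=
      fun N _ _ => tor_shift hS hS' φ e (ModuleCat.of R N)
    constructor
    · intro h N _ _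
      exact (h3 N).2 (h2.1 (h1.1 h) N)
    · intro h
      exact h1.2 (h2.2 fun N _ _ => (h3 N).1 (h N))

end Shift

/-- Equivalence of (4) and (7) in the Noetherian case. Let R be a Noetherian ring, α : M → M' a map of
R-modules with M finite, and e ≥ 0. Then precomposition with α kills all classes in Ext^{e+1}(M', N)
(maps M' → N[e+1] in D(R)) for every module N if and only if the map Tor_{e+1}(M, N) → Tor_{e+1}(M',
N) induced by α is zero for every module N. -/
theorem result (R : Type u) [CommRing R] [IsNoetherianRing R] (M M' : Type u) [AddCommGroup M] [Module R M] [Module.Finite R M] [AddCommGroup M'] [Module R M'] (α : M →ₗ[R] M') (e : ℕ) : (∀ (N : Type u) [AddCommGroup N] [Module R N] (φ : Dual.inD R M' ⟶ (Dual.inD R N)⟦((e : ℤ) + 1)⟧), (DerivedCategory.singleFunctor (ModuleCat.{u} R) 0).map (ModuleCat.ofHom α) ≫ φ = 0) ↔ (∀ (N : Type u) [AddCommGroup N] [Module R N], ((CategoryTheory.Tor (ModuleCat.{u} R) (e + 1)).map (ModuleCat.ofHom α)).app (ModuleCat.of R N) = 0) := by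
  rw [show ((e : ℤ) + 1) = ((e + 1 : ℕ) : ℤ) from (Nat.cast_succ e).symm]
  refine Iff.trans ?_ (ext_iff_tor e M M' α)
  constructor
  · intro h N x
    refine Abelian.Ext.homEquiv.injective ?_
    show ((Abelian.Ext.mk₀ (ModuleCat.ofHom α)).comp x _).hom = (0 : Abelian.Ext _ _ _).hom
    rw [Abelian.Ext.comp_hom, Abelian.Ext.mk₀_hom, ShiftedHom.mk₀_comp, Abelian.Ext.zero_hom]
    exact h N x.hom
  · intro h N _ _ φ
    let x : Abelian.Ext (ModuleCat.of R M') (ModuleCat.of R N) (e + 1) := Abelian.Ext.homEquiv.symm φ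
    have hx := congrArg Abelian.Ext.hom (h _ x)
    rw [Abelian.Ext.comp_hom, Abelian.Ext.mk₀_hom, ShiftedHom.mk₀_comp, Abelian.Ext.zero_hom] at hx
    have hφ : x.hom = φ := Abelian.Ext.homEquiv.apply_symm_apply φ
    rw [hφ] at hx
    exact hx

end Groth.Agent.S1741
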