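import Groth.Statements.S17410
import Mathlib.RingTheory.TensorProduct.Basic
import Mathlib

set_option autoImplicit false
set_option linter.style.haveILetI false
open scoped TensorProduct
universe u
open Prym5

namespace Groth.Agent.S17410

/-- Over a perfect field K of characteristic different from 2 and 3, let h be an irreducible polynomial
of degree 2 in the variable z with coefficients in K[x, y] and A = K[x, y][z]/(h). For every
multiplicative subset S of K[x, y], the localisation S⁻¹A is integral over S⁻¹K[x, y] if and only if
the leading coefficient of h is invertible in S⁻¹K[x, y]; and K(x, y) ⊗ A is a K(x, y)-vector space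
of dimension 2. (Geometrically: for a quartic surface with an ordinary double point, written u₂ x₃²
+ 2 u₃ x₃ + u₄ = 0 with the node at (0:0:0:1), the projection from the node restricted to a standard
affine chart of the plane is given by such an algebra A with leading coefficient the dehomogenised
u₂, so the projection is finite of degree two exactly over the locus u₂ ≠ 0. Stated for any
irreducible h of degree 2, which is all the argument uses.) -/
theorem result (K : Type u) [Field K]
    [PerfectField K] (h2 : (2 : K) ≠ 0) (h3 : (3 : K) ≠ 0)
    (h : Polynomial (MvPolynomial (Fin 2) K)) (hirr : Irreducible h) (hdeg : h.natDegree = 2)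
    (S : Submonoid (MvPolynomial (Fin 2) K)) :
    (Algebra.IsIntegral (Localization S) (Localization (Algebra.algebraMapSubmonoid (AdjoinRoot h) S))
        ↔ IsUnit (algebraMap (MvPolynomial (Fin 2) K) (Localization S) h.leadingCoeff))
      ∧ Module.finrank (FractionRing (MvPolynomial (Fin 2) K))
          (TensorProduct (MvPolynomial (Fin 2) K) (FractionRing (MvPolynomial (Fin 2) K)) (AdjoinRoot h)) = 2 := by
  have hh0 : h ≠ 0 := hirr.ne_zero
  refine ⟨⟨fun hint => ?_, fun hu => ?_⟩, ?_⟩
  · -- integrality forces the leading coefficient to be invertible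
    set r : Localization (Algebra.algebraMapSubmonoid (AdjoinRoot h) S) :=
      algebraMap (AdjoinRoot h) _ (AdjoinRoot.root h) with hr
    obtain ⟨g, hgm, hg⟩ := hint.isIntegral r
    obtain ⟨s, hs⟩ := IsLocalization.integerNormalization_map_to_map S g
    set g0 := IsLocalization.integerNormalization S g with hg0
    have he : algebraMap (AdjoinRoot h) (Localization (Algebra.algebraMapSubmonoid (AdjoinRoot h) S))
        (AdjoinRoot.mk h g0) = 0 := by
      rw [← AdjoinRoot.aeval_eq, ← Polynomial.aeval_algebraMap_apply, ← hr,
        ← Polynomial.aeval_map_algebraMap (Localization S), hs,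
        ← algebraMap_smul (Localization S) (s : MvPolynomial (Fin 2) K) g,
        Polynomial.smul_eq_C_mul, map_mul]
      exact mul_eq_zero_of_right _ hg
    obtain ⟨⟨m, hm⟩, htg⟩ := (IsLocalization.map_eq_zero_iff (Algebra.algebraMapSubmonoid (AdjoinRoot h) S) _ _).mp he
    obtain ⟨t, ht, rfl⟩ := Submonoid.mem_map.mp hm
    replace htg : AdjoinRoot.mk h (Polynomial.C t * g0) = 0 := by
      rw [map_mul]; exact htg
    obtain ⟨q, hq⟩ := AdjoinRoot.mk_eq_zero.mp htg
    nontriviality (Localization S)
    have hcoef : algebraMap _ (Localization S) (g0.coeff g.natDegree) = algebraMap _ (Localization S) (s : MvPolynomial (Fin 2) K) := by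
      have := congrArg (fun p => p.coeff g.natDegree) hs
      simp only [Polynomial.coeff_map, Polynomial.coeff_smul, hgm.coeff_natDegree] at this
      rw [this]
      exact (Algebra.algebraMap_eq_smul_one _).symm
    have hle : ∀ l, g.natDegree < l → algebraMap _ (Localization S) (g0.coeff l) = 0 := by
      intro l hl
      have := congrArg (fun p => p.coeff l) hs
      simp only [Polynomial.coeff_map, Polynomial.coeff_smul, Polynomial.coeff_eq_zero_of_natDegree_lt hl] at this
      rw [this, smul_zero]
    have hinj : Function.Injective (algebraMap (MvPolynomial (Fin 2) K) (Localization S)) :=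
      IsLocalization.injective _ (le_nonZeroDivisors_of_noZeroDivisors fun h0 =>
        not_subsingleton (Localization S) (IsLocalization.subsingleton (M := S) h0))
    have hlead : g0.leadingCoeff = (s : MvPolynomial (Fin 2) K) := by
      have hc := hinj hcoef
      have hd : g0.natDegree = g.natDegree := by
        refine le_antisymm (Polynomial.natDegree_le_iff_coeff_eq_zero.mpr fun l hl => hinj (by rw [hle l hl, map_zero]))
          (Polynomial.le_natDegree_of_ne_zero ?_)
        rw [hc]
        intro h0
        exact not_subsingleton (Localization S) (IsLocalization.subsingleton (M := S) (h0 ▸ s.2))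
      rw [Polynomial.leadingCoeff, hd, hc]
    have hlc := congrArg Polynomial.leadingCoeff hq
    rw [Polynomial.leadingCoeff_mul, Polynomial.leadingCoeff_mul, Polynomial.leadingCoeff_C, hlead] at hlc
    have hu : IsUnit (algebraMap (MvPolynomial (Fin 2) K) (Localization S) (t * s)) :=
      IsLocalization.map_units (Localization S) (⟨t * s, S.mul_mem ht s.2⟩ : S)
    rw [hlc, map_mul] at hu
    exact isUnit_of_mul_isUnit_left hu
  · -- a unit leading coefficient makes the root integral
    set T := Localization (Algebra.algebraMapSubmonoid (AdjoinRoot h) S)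
    set r : T := algebraMap (AdjoinRoot h) _ (AdjoinRoot.root h) with hr
    obtain ⟨v, hv⟩ := hu
    rcases subsingleton_or_nontrivial (Localization S) with hsub | hnt
    · haveI : Subsingleton T := Module.subsingleton (Localization S) T
      exact ⟨fun x => by rw [Subsingleton.elim x 0]; exact isIntegral_zero⟩
    have hint : IsIntegral (Localization S) r := by
      refine ⟨Polynomial.C (↑v⁻¹ : Localization S) * h.map (algebraMap _ _), ?_, ?_⟩
      · refine Polynomial.monic_C_mul_of_mul_leadingCoeff_eq_one ?_
        rw [Polynomial.leadingCoeff_map_of_leadingCoeff_ne_zero, ← hv, Units.inv_mul]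
        exact hv ▸ v.ne_zero
      · have hz : Polynomial.aeval r h = 0 := by
          rw [hr, Polynomial.aeval_algebraMap_apply, AdjoinRoot.aeval_eq, AdjoinRoot.mk_self, map_zero]
        rw [← Polynomial.aeval_def, map_mul, Polynomial.aeval_map_algebraMap (Localization S) r h, hz, mul_zero]
    constructor
    intro x
    obtain ⟨⟨a, ⟨m, hm⟩⟩, hx⟩ := IsLocalization.surj (Algebra.algebraMapSubmonoid (AdjoinRoot h) S) x
    obtain ⟨t, ht, rfl⟩ := Submonoid.mem_map.mp hm
    obtain ⟨p, rfl⟩ := AdjoinRoot.mk_surjective a
    obtain ⟨w, hw⟩ := IsLocalization.map_units (Localization S) (⟨t, ht⟩ : S)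
    have hpi : IsIntegral (Localization S) (algebraMap (AdjoinRoot h) T (AdjoinRoot.mk h p)) := by
      rw [← AdjoinRoot.aeval_eq, ← Polynomial.aeval_algebraMap_apply, ← hr,
        ← Polynomial.aeval_map_algebraMap (Localization S)]
      exact adjoin_le_integralClosure hint (Polynomial.aeval_mem_adjoin_singleton _ _)
    have hxe : x = (↑w⁻¹ : Localization S) • algebraMap (AdjoinRoot h) T (AdjoinRoot.mk h p) := by
      rw [← hx, Algebra.smul_def, mul_left_comm,
        ← IsScalarTower.algebraMap_apply (MvPolynomial (Fin 2) K) (AdjoinRoot h) T,
        IsScalarTower.algebraMap_apply (MvPolynomial (Fin 2) K) (Localization S) T, ← map_mul, ← hw,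
        Units.inv_mul, map_one, mul_one]
    rw [hxe]
    rw [Algebra.smul_def]
    exact isIntegral_algebraMap.mul hpi
  · let F := FractionRing (MvPolynomial (Fin 2) K)
    let q : Polynomial (F ⊗[MvPolynomial (Fin 2) K] MvPolynomial (Fin 2) K) :=
      h.map Algebra.TensorProduct.includeRight.toRingHom
    let e := AdjoinRoot.tensorAlgEquiv (R := MvPolynomial (Fin 2) K) (T := F) h q rfl
    let e0 : F ⊗[MvPolynomial (Fin 2) K] MvPolynomial (Fin 2) K ≃ₐ[F] F :=
      Algebra.TensorProduct.rid _ F F
    let q' : Polynomial F := h.map (algebraMap _ F)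
    let e1 : AdjoinRoot q ≃ₐ[F] AdjoinRoot q' := AdjoinRoot.mapAlgEquiv e0 q q' (by
      refine Associated.of_eq ?_
      rw [Polynomial.map_map]
      congr 1
      ext x <;> simp [e0, Algebra.TensorProduct.rid_tmul, Algebra.smul_def])
    rw [(e.trans e1).toLinearEquiv.finrank_eq]
    have hq' : q' ≠ 0 := (Polynomial.map_ne_zero_iff (IsFractionRing.injective _ _)).mpr hh0
    rw [(AdjoinRoot.powerBasis hq').finrank, AdjoinRoot.powerBasis_dim,
      Polynomial.natDegree_map_eq_of_injective (IsFractionRing.injective _ _), hdeg]

end Groth.Agent.S17410
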