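import Groth.Statements.S17411
import Mathlib
import Groth.Agent.WeilLib.Trdeg
import Groth.Agent.BMCoh.Height

set_option autoImplicit false
universe u
open CategoryTheory AlgebraicGeometry
open Prym5
set_option backward.isDefEq.respectTransparency false
set_option linter.style.haveILetI false
set_option maxHeartbeats 1000000

namespace Groth.Agent.S17411

/-- Let k be an algebraically closed field of characteristic zero and X, Y, Z schemes of finite type
over k, with Y and Z irreducible of the same dimension, η : Y → Z a dominant k-morphism and ρ : X →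
Y a k-morphism. Then the composite ρ ≫ η is dominant exactly when ρ is dominant. (The published
statement concerns the forgetful map from the moduli space of étale double covers of genus-five
curves to the moduli space of genus-five curves, both irreducible of dimension 12, and a morphism
into the former; its argument uses only the hypotheses kept here.) -/
theorem result (k : Type u) [Field k] [IsAlgClosed k]
    [CharZero k] (X Y Z : Scheme.{u}) [X.Over (Spec (CommRingCat.of k))] [Y.Over (Spec (CommRingCat.of k))]
    [Z.Over (Spec (CommRingCat.of k))]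
    [LocallyOfFiniteType (X ↘ Spec (CommRingCat.of k))] [QuasiCompact (X ↘ Spec (CommRingCat.of k))]
    [LocallyOfFiniteType (Y ↘ Spec (CommRingCat.of k))] [QuasiCompact (Y ↘ Spec (CommRingCat.of k))]
    [LocallyOfFiniteType (Z ↘ Spec (CommRingCat.of k))] [QuasiCompact (Z ↘ Spec (CommRingCat.of k))]
    [IrreducibleSpace Y] [IrreducibleSpace Z] (hdim : topologicalKrullDim Y = topologicalKrullDim Z)
    (ρ : X ⟶ Y) [ρ.IsOver (Spec (CommRingCat.of k))] (η : Y ⟶ Z) [η.IsOver (Spec (CommRingCat.of k))]
    [IsDominant η] :
    IsDominant (ρ ≫ η) ↔ IsDominant ρ := by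
  classical
  set sX := X ↘ Spec (CommRingCat.of k) with hsX
  set sY := Y ↘ Spec (CommRingCat.of k) with hsY
  set sZ := Z ↘ Spec (CommRingCat.of k) with hsZ
  refine ⟨fun hd => ?_, fun hd => inferInstance⟩
  haveI : IsLocallyNoetherian X := LocallyOfFiniteType.isLocallyNoetherian sX
  haveI : CompactSpace X := QuasiCompact.compactSpace_of_compactSpace sX
  haveI : IsNoetherian X := ⟨⟩
  -- a point of `X` over the generic point of `Z`
  obtain ⟨x, hx⟩ : ∃ x : X, (ρ ≫ η).base x = genericPoint Z := by
    have hfin : (irreducibleComponents X).Finite := TopologicalSpace.NoetherianSpace.finite_irreducibleComponents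
    have h1 : (Set.univ : Set Z) ⊆ ⋃ C ∈ hfin.toFinset, closure ((ρ ≫ η).base '' C) := by
      have h2 : Set.range (ρ ≫ η).base ⊆ ⋃ C ∈ hfin.toFinset, closure ((ρ ≫ η).base '' C) := by
        rintro _ ⟨a, rfl⟩
        exact Set.mem_biUnion (hfin.mem_toFinset.2 (irreducibleComponent_mem_irreducibleComponents a))
          (subset_closure ⟨a, mem_irreducibleComponent, rfl⟩)
      have h3 : IsClosed (⋃ C ∈ hfin.toFinset, closure ((ρ ≫ η).base '' C)) :=
        isClosed_biUnion_finset fun C _ => isClosed_closure
      rw [← (hd.denseRange).closure_range]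
      exact closure_minimal h2 h3
    obtain ⟨C, hC, hgC⟩ : ∃ C ∈ hfin.toFinset, genericPoint Z ∈ closure ((ρ ≫ η).base '' C) := by
      simpa using h1 (Set.mem_univ (genericPoint Z))
    have hC' := (hfin.mem_toFinset.1 hC)
    refine ⟨hC'.1.genericPoint, ?_⟩
    have hgen : IsGenericPoint hC'.1.genericPoint C := by
      simpa [(isClosed_of_mem_irreducibleComponents C hC').closure_eq] using hC'.1.isGenericPoint_genericPoint_closure
    have h4 := (hgen.image (ρ ≫ η).base.hom.continuous)
    have h5 : closure ((ρ ≫ η).base '' C) = Set.univ := by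
      refine Set.eq_univ_of_univ_subset ?_
      rw [← genericPoint_closure (α := Z)]
      exact closure_minimal (Set.singleton_subset_iff.2 hgC) isClosed_closure
    rw [h5] at h4
    exact h4.eq (genericPoint_spec Z)
  haveI : IsLocallyNoetherian Y := LocallyOfFiniteType.isLocallyNoetherian sY
  have hy : η.base (ρ.base x) = genericPoint Z := hx
  -- dimensions
  have hdim' : ∀ (W : Scheme.{u}) (s : W ⟶ Spec (CommRingCat.of k)) [LocallyOfFiniteType s] [IrreducibleSpace W],
      topologicalKrullDim W = ((WeilCoh.pdim W (genericPoint W) : ℕ∞) : WithBot ℕ∞) := by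
    intro W s _ _
    rw [← (Groth.Agent.WeilLib.exists_pdim_eq_trd s _).2, ← Groth.Agent.BMCoh.topologicalKrullDim_closure_singleton,
      genericPoint_closure]
    exact (IsHomeomorph.topologicalKrullDim_eq _ (Homeomorph.Set.univ ↥W).isHomeomorph).symm
  have hpd : WeilCoh.pdim Y (genericPoint Y) = WeilCoh.pdim Z (genericPoint Z) := by
    rw [hdim' Y sY, hdim' Z sZ] at hdim
    exact_mod_cast hdim
  have hcomp : η ≫ sZ = sY := comp_over η _
  have hle : WeilCoh.pdim Z (η.base (ρ.base x)) ≤ WeilCoh.pdim Y (ρ.base x) := by
    letI := (Groth.Agent.WeilLib.kStr sZ (η.base (ρ.base x))).toAlgebra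
    letI := (Groth.Agent.WeilLib.kStr sY (ρ.base x)).toAlgebra
    let F : Z.residueField (η.base (ρ.base x)) →ₐ[k] Y.residueField (ρ.base x) :=
      { (η.residueFieldMap (ρ.base x)).hom with
        commutes' := fun a => RingHom.congr_fun (Groth.Agent.WeilLib.kStr_comp sY η sZ hcomp (ρ.base x)) a }
    have h := trdeg_le_of_injective F (η.residueFieldMap (ρ.base x)).hom.injective
    have h1 := (Groth.Agent.WeilLib.exists_pdim_eq_trd sY (ρ.base x)).1
    have h2 := (Groth.Agent.WeilLib.exists_pdim_eq_trd sZ (η.base (ρ.base x))).1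
    exact Nat.cast_le.1 ((h2.symm.trans_le h).trans_eq h1)
  have hgen : ρ.base x = genericPoint Y := by
    by_contra hne
    have := Groth.Agent.WeilLib.pdim_lt sY ((genericPoint_spec Y).specializes (Set.mem_univ (ρ.base x))) hne
    rw [hy] at hle
    omega
  refine ⟨fun y => ?_⟩
  refine closure_mono (Set.singleton_subset_iff.2 (show genericPoint Y ∈ Set.range ρ.base from ⟨x, hgen⟩)) ?_
  rw [genericPoint_closure]
  trivial

end Groth.Agent.S17411
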