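import Groth.Statements.S17413
import Groth.Agent.RegLoc.CotInj
import Groth.Agent.SmDiff.Closed
import Groth.Agent.GrpAct.GenericSmoothMap
import Groth.Agent.S0558
-- import your own Groth.Agent.* helpers here

set_option autoImplicit false
universe u
open CategoryTheory AlgebraicGeometry
open Prym5

open CategoryTheory CategoryTheory.Limits AlgebraicGeometry
open Groth.Agent.SmDiff (baseToStalk)
set_option linter.style.haveILetI false
set_option backward.isDefEq.respectTransparency false

namespace Groth.Agent.S17413

lemma formallySmooth_baseToStalk {k : Type u} [Field k] {X : Scheme.{u}} (q : X ⟶ Spec (CommRingCat.of k))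
    [LocallyOfFinitePresentation q] {x : X} (hx : x ∈ q.smoothLocus) : (baseToStalk q x).hom.FormallySmooth := by
  refine RingHom.FormallySmooth.stableUnderComposition _ _ ?_ (Scheme.Hom.mem_smoothLocus.1 hx)
  letI := (StructureSheaf.toStalk k (q x)).hom.toAlgebra
  exact RingHom.formallySmooth_algebraMap.2 (.of_isLocalization (q x).asIdeal.primeCompl)


lemma baseToStalk_comp {k : Type u} [Field k] {X Y : Scheme.{u}} (u : X ⟶ Y) {qX : X ⟶ Spec (CommRingCat.of k)}
    {qY : Y ⟶ Spec (CommRingCat.of k)} (hu : u ≫ qY = qX) (P : X) :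
    baseToStalk qY (u P) ≫ u.stalkMap P = baseToStalk qX P := by
  subst hu
  rw [baseToStalk, baseToStalk, Scheme.Hom.stalkMap_comp, Category.assoc]
  rfl

/-- Let k be an algebraically closed field of characteristic zero, X a reduced scheme of finite type
over k, Y an integral scheme of finite type over k and u : X → Y a k-morphism. Then u is dominant if
and only if there is a closed point P of X such that X is regular at P and the differential of u at
P is surjective onto the tangent space of Y at u(P); surjectivity of the differential is written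
dually as injectivity of the map of cotangent spaces m_{u(P)}/m_{u(P)}² → m_P/m_P² induced by the
local homomorphism of u at P. (The published statement asks only that Y be irreducible, puts no
condition on P and concludes that the scheme-theoretic image is all of Y. Without regularity at P
the backward implication fails: the inclusion of the union of the two coordinate axes into the
affine plane induces a bijection of tangent spaces at the origin and is not dominant. Without
reducedness of Y the forward implication fails: the reduced line inside the doubled line y² = 0 is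
dominant but its differential is nowhere surjective. For Y integral and u quasi-compact, dominance
is the same as the scheme-theoretic image being Y.) -/
theorem result (k : Type u) [Field k]
    [IsAlgClosed k] [CharZero k] (X Y : Scheme.{u})
    [X.Over (Spec (CommRingCat.of k))] [Y.Over (Spec (CommRingCat.of k))]
    [LocallyOfFiniteType (X ↘ Spec (CommRingCat.of k))] [QuasiCompact (X ↘ Spec (CommRingCat.of k))]
    [LocallyOfFiniteType (Y ↘ Spec (CommRingCat.of k))] [QuasiCompact (Y ↘ Spec (CommRingCat.of k))]
    [AlgebraicGeometry.IsReduced X] [AlgebraicGeometry.IsIntegral Y] (u : X ⟶ Y) [u.IsOver (Spec (CommRingCat.of k))] :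
    IsDominant u ↔
      ∃ P : X, IsClosed ({P} : Set X) ∧ IsRegularLocalRing (X.presheaf.stalk P) ∧
        ∀ a ∈ IsLocalRing.maximalIdeal (Y.presheaf.stalk (u P)),
          (u.stalkMap P).hom a ∈ IsLocalRing.maximalIdeal (X.presheaf.stalk P) ^ 2 →
            a ∈ IsLocalRing.maximalIdeal (Y.presheaf.stalk (u P)) ^ 2 := by
  let qX := X ↘ Spec (CommRingCat.of k)
  let qY := Y ↘ Spec (CommRingCat.of k)
  have hu : u ≫ qY = qX := comp_over u (Spec (CommRingCat.of k))
  haveI : IsLocallyNoetherian X := LocallyOfFiniteType.isLocallyNoetherian qX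
  haveI : IsLocallyNoetherian Y := LocallyOfFiniteType.isLocallyNoetherian qY
  haveI : JacobsonSpace X := LocallyOfFiniteType.jacobsonSpace qX
  haveI : LocallyOfFinitePresentation qX := InfLift.lfp_of_lft qX
  haveI : LocallyOfFinitePresentation qY := InfLift.lfp_of_lft qY
  haveI : LocallyOfFiniteType (u ≫ qY) := hu.symm ▸ inferInstance
  haveI : LocallyOfFiniteType u := locallyOfFiniteType_of_comp u qY
  haveI : LocallyOfFinitePresentation u := InfLift.lfp_of_lft u
  have hcomp : ∀ P : X, baseToStalk qY (u P) ≫ u.stalkMap P = baseToStalk qX P := baseToStalk_comp u hu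
  constructor
  · intro hd
    haveI := hd
    haveI : CompactSpace X := QuasiCompact.compactSpace_of_compactSpace qX
    haveI : AlgebraicGeometry.IsNoetherian X := ⟨⟩
    let XS := qX.smoothLocus
    haveI : Smooth (XS.ι ≫ qX) := Scheme.Hom.smoothLocus_eq_top_iff.1 (by
      rw [← Scheme.Hom.preimage_smoothLocus_eq]; exact TopologicalSpace.Opens.ext (Set.eq_univ_of_forall fun x => x.2))
    haveI : QuasiCompact (u ≫ qY) := hu.symm ▸ inferInstance
    haveI : CompactSpace (XS : Scheme.{u}) :=
      isCompact_iff_compactSpace.mp (TopologicalSpace.NoetherianSpace.isCompact _)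
    haveI : AlgebraicGeometry.IsNoetherian (XS : Scheme.{u}) := ⟨⟩
    obtain ⟨V, hVne, hV⟩ := GrpAct.exists_smooth_restrict (XS.ι ≫ qX) qY (XS.ι ≫ u)
      (by rw [Category.assoc, hu])
    have hηV : genericPoint Y ∈ V := ((genericPoint_spec Y).mem_open_set_iff V.2).2 (by simpa using hVne)
    have hηS : genericPoint Y ∈ qY.smoothLocus := qY.genericPoint_mem_smoothLocus_of_perfectField
    let Z : X.Opens := u ⁻¹ᵁ (V ⊓ qY.smoothLocus)
    have hZ : (Z : Set X).Nonempty := by
      obtain ⟨y, hy⟩ := u.denseRange.exists_mem_open (V ⊓ qY.smoothLocus).2 ⟨_, hηV, hηS⟩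
      exact ⟨y, hy⟩
    obtain ⟨w, hwS, hwZ⟩ := qX.dense_smoothLocus_of_perfectField.exists_mem_open Z.2 hZ
    obtain ⟨P, hP, hPc⟩ := nonempty_inter_closedPoints (Z := ((Z ⊓ XS : X.Opens) : Set X)) ⟨w, hwZ, hwS⟩
      (Z ⊓ XS).2.isLocallyClosed
    obtain ⟨⟨hPV, hPY⟩, hPX⟩ := hP
    have hregP : IsRegularLocalRing (X.presheaf.stalk P) := by
      have h1 := SmLocalST.isRegularLocalRing_stalk_of_smooth_field (XS.ι ≫ qX) ⟨P, hPX⟩
      exact IsRegularLocalRing.of_ringEquiv (asIso (XS.ι.stalkMap ⟨P, hPX⟩)).commRingCatIsoToRingEquiv.symm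
    refine ⟨P, hPc, hregP, ?_⟩
    let q := XS.ι ≫ u
    have hmem : (⟨P, hPX⟩ : (XS : Scheme.{u})) ∈ q.smoothLocus := by
      haveI : Smooth ((q ⁻¹ᵁ V).ι ≫ q) := by rw [← morphismRestrict_ι]; infer_instance
      have h2 : (⟨⟨P, hPX⟩, hPV⟩ : (q ⁻¹ᵁ V : Scheme.{u})) ∈ (q ⁻¹ᵁ V).ι ⁻¹ᵁ q.smoothLocus := by
        rw [Scheme.Hom.preimage_smoothLocus_eq, Scheme.Hom.smoothLocus_eq_top]; trivial
      exact h2
    have hfs : (u.stalkMap P).hom.FormallySmooth := by
      have h3 : (⟨P, hPX⟩ : (XS : Scheme.{u})) ∈ XS.ι ⁻¹ᵁ u.smoothLocus := by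
        rw [Scheme.Hom.preimage_smoothLocus_eq]; exact hmem
      exact h3
    letI := (baseToStalk qY (u P)).hom.toAlgebra
    letI := (baseToStalk qX P).hom.toAlgebra
    letI := (u.stalkMap P).hom.toAlgebra
    haveI : IsScalarTower k (Y.presheaf.stalk (u P)) (X.presheaf.stalk P) := IsScalarTower.of_algebraMap_eq' (by
      rw [RingHom.algebraMap_toAlgebra, RingHom.algebraMap_toAlgebra, RingHom.algebraMap_toAlgebra,
        ← CommRingCat.hom_comp, hcomp])
    haveI : Algebra.FormallySmooth k (Y.presheaf.stalk (u P)) := formallySmooth_baseToStalk qY hPY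
    haveI : Algebra.FormallySmooth k (X.presheaf.stalk P) := formallySmooth_baseToStalk qX hPX
    haveI : Algebra.FormallySmooth (Y.presheaf.stalk (u P)) (X.presheaf.stalk P) := hfs
    intro a ha ha2
    exact SmDiff.mem_sq_of_formallySmooth k _ _ (SmDiff.residue_baseToStalk_surjective qX hPc) ha ha2
  · rintro ⟨P, hPc, hreg, hcot⟩
    haveI := hreg
    haveI : IsDomain (X.presheaf.stalk P) := Groth.Agent.S0558.result _
    have hinj : Function.Injective (u.stalkMap P).hom := by
      refine RegLoc.injective_of_cotangent _ (fun b => ?_) hcot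
      obtain ⟨c, hc⟩ := SmDiff.residue_baseToStalk_surjective qX hPc (X.residue P b)
      refine ⟨(baseToStalk qY (u P)).hom c, ?_⟩
      rw [← CommRingCat.comp_apply, hcomp, ← IsLocalRing.ker_residue, RingHom.mem_ker, map_sub, sub_eq_zero]
      exact hc.symm
    let z : Spec (X.presheaf.stalk P) := ⟨⊥, Ideal.isPrime_bot⟩
    have hz : u (X.fromSpecStalk P z) = genericPoint Y := by
      rw [← Scheme.Hom.comp_apply, ← Scheme.SpecMap_stalkMap_fromSpecStalk, Scheme.Hom.comp_apply]
      obtain ⟨e, he⟩ : genericPoint Y ∈ Set.range (Y.fromSpecStalk (u P)) := by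
        rw [Scheme.range_fromSpecStalk]
        exact (genericPoint_spec Y).specializes (Set.mem_univ _)
      have h1 : Spec.map (u.stalkMap P) z ⤳ e := by
        refine (PrimeSpectrum.le_iff_specializes _ _).1 ?_
        show Ideal.comap (u.stalkMap P).hom ⊥ ≤ _
        rw [← RingHom.ker_eq_comap_bot, (RingHom.injective_iff_ker_eq_bot _).1 hinj]
        exact bot_le
      exact (((genericPoint_spec Y).specializes (Set.mem_univ _)).antisymm
        (he ▸ h1.map (Y.fromSpecStalk (u P)).continuous)).eq.symm
    refine ⟨dense_iff_closure_eq.2 (top_le_iff.1 ?_)⟩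
    show Set.univ ⊆ _
    rw [← (genericPoint_spec Y).def]
    exact closure_mono (Set.singleton_subset_iff.2 ⟨_, hz⟩)

end Groth.Agent.S17413
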