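import Groth.Statements.S17414
import Groth.Agent.S17409
import Mathlib.RingTheory.MvPolynomial.Ideal

set_option autoImplicit false
set_option linter.style.haveILetI false

universe u
open Prym5

namespace Groth.Agent.S17414

/-- Over a perfect field K of characteristic different from 2 and 3, let G₂, G₃, G₄ be polynomials in x,
y, let h = G₂ z² + 2 G₃ z + G₄ in K[x, y, z] and D = G₃² − G₂ G₄ in K[x, y]. Suppose h ∈ (x, y, z) —
the origin Q lies on the surface h = 0 — and D ∈ (x, y) — the image of Q under (x, y, z) ↦ (x, y)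
lies on the discriminant curve D = 0. Then D ∈ (x, y)², i.e. the image point is singular on the
discriminant curve, if and only if either h ∈ (x, y, z)², i.e. Q is a singular point of the surface,
or G₂, G₃, G₄ ∈ (x, y), i.e. Q lies on all three cones G₂ = G₃ = G₄ = 0. (Affine-local form, in a
chart where the node projected from sits at infinity on the z-axis and Q at the origin, of the
published claim: for a point Q ≠ P of the nodal quartic whose projection lies on the branch sextic,
the projection is singular on the sextic exactly when Q is singular on the quartic or lies on the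
cones u₂ = u₃ = u₄ = 0.) -/
theorem result (K : Type u) [Field K] [PerfectField K]
    (h2 : (2 : K) ≠ 0) (h3 : (3 : K) ≠ 0) (G₂ G₃ G₄ : MvPolynomial (Fin 2) K)
    (hQ : MvPolynomial.rename (Fin.castSucc : Fin 2 → Fin 3) G₂ * MvPolynomial.X (2 : Fin 3) ^ 2
        + 2 * MvPolynomial.rename (Fin.castSucc : Fin 2 → Fin 3) G₃ * MvPolynomial.X (2 : Fin 3)
        + MvPolynomial.rename (Fin.castSucc : Fin 2 → Fin 3) G₄
        ∈ Ideal.span (Set.range (MvPolynomial.X : Fin 3 → MvPolynomial (Fin 3) K)))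
    (hD : G₃ ^ 2 - G₂ * G₄ ∈ Ideal.span (Set.range (MvPolynomial.X : Fin 2 → MvPolynomial (Fin 2) K))) :
    G₃ ^ 2 - G₂ * G₄ ∈ (Ideal.span (Set.range (MvPolynomial.X : Fin 2 → MvPolynomial (Fin 2) K))) ^ 2 ↔
      (MvPolynomial.rename (Fin.castSucc : Fin 2 → Fin 3) G₂ * MvPolynomial.X (2 : Fin 3) ^ 2
          + 2 * MvPolynomial.rename (Fin.castSucc : Fin 2 → Fin 3) G₃ * MvPolynomial.X (2 : Fin 3)
          + MvPolynomial.rename (Fin.castSucc : Fin 2 → Fin 3) G₄
          ∈ (Ideal.span (Set.range (MvPolynomial.X : Fin 3 → MvPolynomial (Fin 3) K))) ^ 2 ∨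
        (G₂ ∈ Ideal.span (Set.range (MvPolynomial.X : Fin 2 → MvPolynomial (Fin 2) K)) ∧
          G₃ ∈ Ideal.span (Set.range (MvPolynomial.X : Fin 2 → MvPolynomial (Fin 2) K)) ∧
          G₄ ∈ Ideal.span (Set.range (MvPolynomial.X : Fin 2 → MvPolynomial (Fin 2) K)))) := by
  classical
  let e : MvPolynomial (Fin 3) K →ₐ[K] MvPolynomial (Fin 2) K :=
    MvPolynomial.aeval ![MvPolynomial.X 0, MvPolynomial.X 1, 0]
  set m2 : Ideal (MvPolynomial (Fin 2) K) := Ideal.span (Set.range MvPolynomial.X) with hm2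
  set m3 : Ideal (MvPolynomial (Fin 3) K) := Ideal.span (Set.range MvPolynomial.X) with hm3
  let r := MvPolynomial.rename (R := K) (Fin.castSucc : Fin 2 → Fin 3)
  have he : ∀ P : MvPolynomial (Fin 2) K, e (r P) = P := by
    intro P
    induction P using MvPolynomial.induction_on with
    | C a => simp [e, r]
    | add p q hp hq => simp [hp, hq]
    | mul_X p i hp => fin_cases i <;> simp_all [e, r]
  have hr : m2.map r ≤ m3 := by
    rw [hm2, Ideal.map_span, Ideal.span_le]
    rintro _ ⟨_, ⟨i, rfl⟩, rfl⟩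
    exact Ideal.subset_span ⟨i.castSucc, by simp [r]⟩
  have hm : m3.map e ≤ m2 := by
    rw [hm3, Ideal.map_span, Ideal.span_le]
    rintro _ ⟨_, ⟨i, rfl⟩, rfl⟩
    fin_cases i <;> simp [e, hm2] <;> exact Ideal.subset_span ⟨_, rfl⟩
  have hz : e (MvPolynomial.X 2) = 0 := by simp [e]
  have h4 : G₄ ∈ m2 := by
    have := hm (Ideal.mem_map_of_mem e hQ)
    simpa [r, hz, show ∀ P, e (MvPolynomial.rename Fin.castSucc P) = P from he] using this
  have hmker : m2 = RingHom.ker (MvPolynomial.constantCoeff (σ := Fin 2) (R := K)) := by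
    ext x
    rw [hm2, ← Set.image_univ, MvPolynomial.mem_ideal_span_X_image, RingHom.mem_ker,
      MvPolynomial.constantCoeff_eq]
    constructor
    · intro h
      by_contra hc
      obtain ⟨i, -, hi⟩ := h 0 (MvPolynomial.mem_support_iff.2 hc)
      exact hi rfl
    · intro h m hm
      obtain ⟨i, hi⟩ : ∃ i, m i ≠ 0 := by
        by_contra hall
        push_neg at hall
        rw [show m = 0 from Finsupp.ext hall] at hm
        exact MvPolynomial.mem_support_iff.1 hm h
      exact ⟨i, Set.mem_univ _, hi⟩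
  have hprime : m2.IsPrime := hmker ▸ RingHom.ker_isPrime _
  have h3m : G₃ ∈ m2 := by
    refine hprime.mem_of_pow_mem 2 ?_
    have := add_mem hD (Ideal.mul_mem_left m2 G₂ h4)
    simpa using this
  have hiff : G₃ ^ 2 - G₂ * G₄ ∈ m2 ^ 2 ↔ G₂ * G₄ ∈ m2 ^ 2 :=
    ⟨fun h => by simpa using sub_mem (Ideal.pow_mem_pow h3m 2) h,
      fun h => sub_mem (Ideal.pow_mem_pow h3m 2) h⟩
  constructor
  · intro hD2
    by_cases h2m : G₂ ∈ m2
    · exact Or.inr ⟨h2m, h3m, h4⟩
    · left
      let c := MvPolynomial.constantCoeff G₂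
      have hc : c ≠ 0 := fun h => h2m (hmker ▸ h)
      have hdiff : G₂ - MvPolynomial.C c ∈ m2 := by
        rw [hmker, RingHom.mem_ker]; simp [c]
      have hc4 : MvPolynomial.C c * G₄ ∈ m2 ^ 2 := by
        have := sub_mem (hiff.1 hD2) (pow_two m2 ▸ Ideal.mul_mem_mul hdiff h4)
        simpa [sub_mul] using this
      have h42 : G₄ ∈ m2 ^ 2 := by
        have := Ideal.mul_mem_left (m2 ^ 2) (MvPolynomial.C c⁻¹) hc4
        rwa [← mul_assoc, ← map_mul, inv_mul_cancel₀ hc, map_one, one_mul] at this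
      have hX : MvPolynomial.X (2 : Fin 3) ∈ m3 := Ideal.subset_span ⟨2, rfl⟩
      refine add_mem (add_mem (Ideal.mul_mem_left _ _ (Ideal.pow_mem_pow hX 2)) ?_) ?_
      · rw [mul_assoc, pow_two]
        exact Ideal.mul_mem_left _ _ (Ideal.mul_mem_mul (hr (Ideal.mem_map_of_mem r h3m)) hX)
      · refine Ideal.pow_right_mono hr 2 ?_
        rw [← Ideal.map_pow]
        exact Ideal.mem_map_of_mem r h42
  · rintro (h | ⟨h2m, -, -⟩)
    · exact Groth.Agent.S17409.result K h2 h3 G₂ G₃ G₄ h
    · exact hiff.2 (pow_two m2 ▸ Ideal.mul_mem_mul h2m h4)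

end Groth.Agent.S17414
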