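import Groth.Statements.S1742
import Groth.Agent.LocH.Depth
import Groth.Agent.LocH.Spread
import Mathlib
-- import your own Groth.Agent.* helpers here

set_option autoImplicit false
universe u
open LocCoh

namespace Groth.Agent.S1742

/-- Let A be a Noetherian ring, I an ideal, M a finite A-module and p a prime containing I such that the
IA_p-depth of M_p is a finite number e. Then there is an open subset U of Spec A meeting V(p) such
that the IA_q-depth of M_q is at least e for every q in U ∩ V(p). -/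
theorem result (A : Type u) [CommRing A] [IsNoetherianRing A] (I : Ideal A) (M : Type u) [AddCommGroup M] [Module A M] [Module.Finite A M] (p : PrimeSpectrum A) (hp : I ≤ p.asIdeal) (e : ℕ) (he : LocCoh.idealDepth (I.map (algebraMap A (Localization.AtPrime p.asIdeal))) (LocalizedModule p.asIdeal.primeCompl M) = e) : ∃ U : Set (PrimeSpectrum A), IsOpen U ∧ (U ∩ PrimeSpectrum.zeroLocus (p.asIdeal : Set A)).Nonempty ∧ ∀ q : PrimeSpectrum A, q ∈ U → p ≤ q → (e : ℕ∞) ≤ LocCoh.idealDepth (I.map (algebraMap A (Localization.AtPrime q.asIdeal))) (LocalizedModule q.asIdeal.primeCompl M) := by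
  classical
  let Ap := Localization.AtPrime p.asIdeal
  obtain ⟨rs, hlen, hrs, hmem⟩ := Groth.Agent.LocH.exists_isWeaklyRegular (I.map (algebraMap A Ap)) e
    (LocalizedModule p.asIdeal.primeCompl M) ((Groth.Agent.LocH.le_idealDepth_iff _ _ e).1 he.ge)
  have hch : ∀ r : {r // r ∈ rs}, ∃ (a : A) (v : Ap), a ∈ I ∧ v * algebraMap A Ap a = r.1 := fun r => by
    obtain ⟨⟨⟨a, ha⟩, s⟩, hs⟩ := (IsLocalization.mem_map_algebraMap_iff p.asIdeal.primeCompl Ap).1 (hmem r.1 r.2)
    obtain ⟨u, hu⟩ := IsLocalization.map_units Ap s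
    refine ⟨a, ↑u⁻¹, ha, ?_⟩
    rw [← hs, ← hu, mul_comm r.1, ← mul_assoc, Units.inv_mul, one_mul]
  choose a v haI hv using hch
  let P : List (Ap × Ap) := rs.attach.map fun r => (algebraMap A Ap (a r), v r)
  have hP : P.map (fun x => x.2 * x.1) = rs := by
    simp only [P, List.map_map]
    conv_rhs => rw [← List.attach_map_subtype_val rs]
    exact List.map_congr_left fun r _ => hv r
  let L : List A := rs.attach.map a
  have hL : L.map (algebraMap A Ap) = P.map Prod.fst := by simp [L, P, Function.comp_def]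
  have hreg := Groth.Agent.LocH.weaklyRegular_of_mul P _ (hP.symm ▸ hrs)
  rw [← hL] at hreg
  obtain ⟨g, hg, hq⟩ := Groth.Agent.LocH.exists_notMem_weaklyRegular (M := M) p.asIdeal L hreg
  refine ⟨PrimeSpectrum.basicOpen g, (PrimeSpectrum.basicOpen g).2, ⟨p, hg, Set.Subset.refl _⟩, fun q hqg _ => ?_⟩
  rw [Groth.Agent.LocH.le_idealDepth_iff]
  intro i hi
  refine Groth.Agent.LocH.subsingleton_of_isWeaklyRegular _ _ _ (hq q.asIdeal hqg) (fun r hr => ?_) i (by simpa [L, hlen] using hi)
  obtain ⟨b, hb, rfl⟩ := List.mem_map.1 hr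
  obtain ⟨r, -, rfl⟩ := List.mem_map.1 hb
  exact Ideal.mem_map_of_mem _ (haI r)

end Groth.Agent.S1742
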