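import Groth.Statements.S17428
import Mathlib.RingTheory.AdicCompletion.AsTensorProduct
import Mathlib.RingTheory.Ideal.Operations

set_option autoImplicit false
universe u
open FrobAlg

namespace Groth.Agent.S17428

/-- Let p be a prime, A a regular local ring of characteristic p whose absolute Frobenius a ↦ a^p is a
finite ring homomorphism, I an ideal of A and Â the I-adic completion of A. Then Spec Â → Spec A is
relatively perfect: the relative Frobenius Â ⊗_{A,Frob} A → Â, b ⊗ a ↦ b^p a, is bijective. (Â is
also flat over A since A is Noetherian, so the morphism is flat and relatively perfect. The instance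
hypothesis that Â has characteristic p holds as soon as I ≠ A.) -/
theorem result (p : ℕ) [Fact p.Prime]
    (A : Type u) [CommRing A] [IsRegularLocalRing A] [CharP A p] (hF : (frobenius A p).Finite)
    (I : Ideal A) [CharP (AdicCompletion I A) p] :
    Function.Bijective (FrobAlg.relFrob p A (AdicCompletion I A)) := by
  classical
  haveI : IsNoetherianRing A := inferInstance
  haveI : Module.Finite A (FrobAlg.Twist p A) := hF
  let e : A ≃+* FrobAlg.Twist p A := FrobAlg.toTwist p A
  have hsmul : ∀ (r : A) (c : FrobAlg.Twist p A), e.symm (r • c) = r ^ p * e.symm c := fun r c => by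
    rw [Algebra.smul_def, FrobAlg.algebraMap_twist, map_mul, RingEquiv.symm_apply_apply]
  let S : ℕ → Submodule A (FrobAlg.Twist p A) := fun n => I ^ n • ⊤
  let T : ℕ → Submodule A A := fun n => I ^ n • ⊤
  have hTI : ∀ n (a : A), a ∈ T n ↔ a ∈ I ^ n := fun n a => by simp [T]
  have key1 : ∀ n (c : FrobAlg.Twist p A), c ∈ S n → e.symm c ∈ T n := by
    intro n c hc
    refine Submodule.smul_induction_on hc (fun r hr x _ => ?_) fun x y hx hy => ?_
    · rw [hsmul, hTI]
      exact Ideal.mul_mem_right _ _ (Ideal.pow_mem_of_mem _ hr p (Fact.out : p.Prime).pos)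
    · rw [map_add]
      exact Submodule.add_mem _ hx hy
  have key2 : ∀ n, ∃ N, ∀ a : A, a ∈ T N → e a ∈ S n := by
    intro n
    let J : Ideal A := (I ^ n).map (frobenius A p)
    have hrad : I ^ n ≤ J.radical := fun x hx => ⟨p, Ideal.mem_map_of_mem (frobenius A p) hx⟩
    obtain ⟨k, hk⟩ := Ideal.exists_pow_le_of_le_radical_of_fg hrad (IsNoetherian.noetherian _)
    refine ⟨n * k, fun a ha => ?_⟩
    have haJ : a ∈ J := hk (by rw [← pow_mul]; exact (hTI _ a).mp ha)
    have : ∀ b ∈ J, ∀ c : A, e (c * b) ∈ S n := by
      intro b hb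
      refine Submodule.span_induction ?_ ?_ ?_ ?_ hb
      · rintro _ ⟨r, hr, rfl⟩ c
        have h : e (c * frobenius A p r) = r • e c := e.symm.injective (by
          rw [hsmul, RingEquiv.symm_apply_apply, RingEquiv.symm_apply_apply, frobenius_def, mul_comm])
        rw [h]
        exact Submodule.smul_mem_smul hr Submodule.mem_top
      · intro c
        rw [mul_zero, map_zero]
        exact Submodule.zero_mem _
      · intro x y _ _ hx hy c
        rw [mul_add, map_add]
        exact Submodule.add_mem _ (hx c) (hy c)
      · intro r x _ hx c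
        rw [smul_eq_mul, ← mul_assoc]
        exact hx _
    simpa using this a haJ 1
  let ι' : FrobAlg.Twist p A →+ A := e.symm.toAddMonoidHom
  let q : ∀ n, (FrobAlg.Twist p A ⧸ S n) →+ (A ⧸ T n) := fun n =>
    QuotientAddGroup.lift (S n).toAddSubgroup ((T n).mkQ.toAddMonoidHom.comp ι')
      (fun c hc => (Submodule.Quotient.mk_eq_zero _).mpr (key1 n c hc))
  have hq : ∀ n (c : FrobAlg.Twist p A),
      q n (Submodule.Quotient.mk c) = Submodule.Quotient.mk (e.symm c) := fun n c => rfl
  have hf : ∀ (x : AdicCompletion I (FrobAlg.Twist p A)) {m n : ℕ} (h : m ≤ n),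
      AdicCompletion.transitionMap I A h (q n (x.val n)) = q m (x.val m) := by
    intro x m n h
    rw [← x.2 h]
    obtain ⟨c, hc⟩ := Submodule.Quotient.mk_surjective _ (x.val n)
    rw [← hc]
    rfl
  let Ψ : AdicCompletion I (FrobAlg.Twist p A) →+ AdicCompletion I A :=
    { toFun := fun x => ⟨fun n => q n (x.val n), fun h => hf x h⟩
      map_zero' := AdicCompletion.ext fun n => map_zero (q n)
      map_add' := fun x y => AdicCompletion.ext fun n => map_add (q n) _ _ }
  have hΨv : ∀ x n, (Ψ x).val n = q n (x.val n) := fun _ _ => rfl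
  have hΨsmul : ∀ (b : AdicCompletion I A) (a : A),
      Ψ (b • AdicCompletion.of I _ (e a)) = b ^ p * algebraMap A _ a := by
    intro b a
    refine AdicCompletion.ext fun n => ?_
    obtain ⟨r, hr⟩ := Submodule.Quotient.mk_surjective _ (b.val n)
    have hp : ∀ k, (b ^ k).val n = Submodule.Quotient.mk (r ^ k) := by
      intro k
      induction k with
      | zero => rw [pow_zero, AdicCompletion.val_one, pow_zero]; rfl
      | succ k ih => rw [pow_succ, AdicCompletion.val_mul, ih, ← hr, pow_succ]; rfl
    rw [hΨv, AdicCompletion.smul_eval, AdicCompletion.of_apply, AdicCompletion.val_mul, hp, ← hr]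
    show q n (Submodule.Quotient.mk (r • e a)) = _
    rw [hq, hsmul, RingEquiv.symm_apply_apply]
    rfl
  have hΨinj : Function.Injective Ψ := by
    refine (injective_iff_map_eq_zero Ψ).mpr fun x hx => AdicCompletion.ext fun n => ?_
    obtain ⟨N, hN⟩ := key2 n
    let K := max n N
    obtain ⟨c, hc⟩ := Submodule.Quotient.mk_surjective _ (x.val K)
    have h0 : (Ψ x).val K = 0 := by rw [hx]; rfl
    rw [hΨv, ← hc, hq, Submodule.Quotient.mk_eq_zero] at h0
    have hcN : e.symm c ∈ T N := (hTI N _).mpr
      (Ideal.pow_le_pow_right (le_max_right _ _) ((hTI K _).mp h0))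
    have hcS : c ∈ S n := by simpa using hN _ hcN
    rw [← x.2 (le_max_left n N), ← hc]
    exact (Submodule.Quotient.mk_eq_zero _).mpr hcS
  have hΨsurj : Function.Surjective Ψ := by
    intro y
    choose N hN using key2
    choose a ha using fun n => Submodule.Quotient.mk_surjective _ (y.val n)
    have hdiff : ∀ {i j : ℕ}, i ≤ j → a j - a i ∈ T i := by
      intro i j h
      have := y.2 h
      rw [← ha j, ← ha i] at this
      exact (Submodule.Quotient.eq _).mp this
    refine ⟨⟨fun n => Submodule.Quotient.mk (e (a (max n (N n)))), fun {m n} h => ?_⟩, ?_⟩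
    · show Submodule.Quotient.mk (e (a (max n (N n)))) = _
      refine (Submodule.Quotient.eq _).mpr ?_
      let K := max (max n (N n)) (max m (N m))
      have e1 : e (a K - a (max n (N n))) ∈ S n := hN n _ ((hTI _ _).mpr
        (Ideal.pow_le_pow_right (le_max_right n (N n)) ((hTI _ _).mp (hdiff (le_max_left _ _)))))
      have e2 : e (a K - a (max m (N m))) ∈ S m := hN m _ ((hTI _ _).mpr
        (Ideal.pow_le_pow_right (le_max_right m (N m)) ((hTI _ _).mp (hdiff (le_max_right _ _)))))
      have e3 := Submodule.sub_mem _ e2 (Submodule.smul_mono_left (Ideal.pow_le_pow_right h) e1)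
      rw [← map_sub] at e3
      rw [← map_sub]
      rwa [sub_sub_sub_cancel_left] at e3
    · refine AdicCompletion.ext fun n => ?_
      rw [hΨv]
      show q n (Submodule.Quotient.mk (e (a (max n (N n))))) = _
      rw [hq, RingEquiv.symm_apply_apply, ← ha n]
      exact (Submodule.Quotient.eq _).mpr (hdiff (le_max_left _ _))
  have hrel : (FrobAlg.relFrob p A (AdicCompletion I A) : _ → _) =
      Ψ ∘ AdicCompletion.ofTensorProduct I (FrobAlg.Twist p A) := by
    funext t
    induction t using TensorProduct.induction_on with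
    | zero => simp
    | tmul b a =>
      rw [Function.comp_apply, AdicCompletion.ofTensorProduct_tmul, ← e.apply_symm_apply a,
        hΨsmul]
      exact rfl
    | add x y hx hy =>
      simp only [Function.comp_apply] at hx hy ⊢
      rw [map_add, map_add, map_add, hx, hy]
  rw [hrel]
  exact (Function.Bijective.comp ⟨hΨinj, hΨsurj⟩
    (AdicCompletion.ofTensorProduct_bijective_of_finite_of_isNoetherian I (FrobAlg.Twist p A)))

end Groth.Agent.S17428
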