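import Groth.Statements.S17432
import Groth.Agent.AdjVar.Structure

set_option autoImplicit false
universe u v w
open LieAlgebra LieModule
open AdjVar

namespace Groth.Agent.S17432

/-- Let L be a finite-dimensional simple Lie algebra over an algebraically closed field K of
characteristic zero, H a Cartan subalgebra and b a basis of (L, H) in Mathlib's sense (Chevalley
generators h_i, e_i, f_i indexed by a finite type, with simple roots α_i = b.baseSupp i and upper
Borel subalgebra 𝔟 = H + the Lie subalgebra generated by the e_i). Let ρ be the highest root: a root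
of H on L whose root space is nonzero and such that no ρ + α_i is a root (the root space of ρ + α_i
is zero for every i). Assume that exactly one simple root α_j is not orthogonal to ρ (ρ(h_i) ≠ 0 if
and only if i = j) and that ρ(h_j) = 1; for simple L these two conditions say precisely that L is
not of type A_r or C_r (r ≥ 1), the case excluded in the source. Let W be a three-dimensional linear
subspace of L stable under 𝔟 and q a quadratic form on W which is semi-invariant under 𝔟: for every
x in 𝔟 there is a scalar c with polar_q([x, w], w) = c q(w) for all w in W (this is the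
infinitesimal condition for the line spanned by q, equivalently the conic q = 0 of the plane P(W),
to be stable under the Borel subgroup). Then q is a scalar multiple of the square of a linear form
on W. In the source's words: P(L) contains no Borel-stable conic which is smooth or reducible (a
pair of distinct lines); only double lines occur. (Over the complex numbers a conic of rank at least
two is Borel-stable exactly when its plane is 𝔟-stable and its equation is 𝔟-semi-invariant, which
is the form stated here.) -/
theorem result {ι : Type u} {K : Type v} {L : Type w} [Fintype ι] [Field K] [CharZero K]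
    [IsAlgClosed K] [LieRing L] [LieAlgebra K L] [FiniteDimensional K L] [LieAlgebra.IsSimple K L]
    (H : LieSubalgebra K L) [H.IsCartanSubalgebra] (b : LieAlgebra.Basis ι H)
    (ρ : Module.Dual K H) (hρ : rootSpace H ρ ≠ ⊥) (htop : ∀ i, rootSpace H (ρ + b.baseSupp i) = ⊥)
    (j : ι) (hN : ∀ i, ρ (b.h' i) ≠ 0 ↔ i = j) (hj : ρ (b.h' j) = 1)
    (W : Submodule K L) (hW : Module.finrank K W = 3)
    (hst : ∀ x ∈ H.toSubmodule ⊔ (b.borelUpper : Submodule K L), ∀ w ∈ W, ⁅x, w⁆ ∈ W)
    (q : QuadraticForm K W)
    (hq : ∀ (x : L) (hx : x ∈ H.toSubmodule ⊔ (b.borelUpper : Submodule K L)), ∃ c : K, ∀ w : W,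
      QuadraticMap.polar q ⟨⁅x, (w : L)⁆, hst x hx w w.property⟩ w = c * q w) :
    ∃ (ℓ : Module.Dual K W) (c : K), ∀ w : W, q w = c * ℓ w ^ 2 := by
  classical
  obtain ⟨hH, he⟩ := (Groth.Agent.AdjVar.stable_iff b).1 hst
  obtain ⟨i, v₀, v₁, v₂, a, hij, -, ha, m₀, m₁, m₂, j0, j1, j2, i0, i1, i2, hsp, -⟩ :=
    Groth.Agent.AdjVar.structure_three b ρ hρ htop j hN hj hH he hW
  let E : ι → (W →ₗ[K] W) := fun l => (LieAlgebra.ad K L (b.e l)).restrict (he l)
  have hbe : ∀ l, b.e l ∈ H.toSubmodule ⊔ (b.borelUpper : Submodule K L) := fun l =>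
    Submodule.mem_sup_right (LieSubalgebra.subset_lieSpan ⟨l, rfl⟩)
  let x : W := ⟨v₀, m₀⟩
  let y : W := ⟨v₁, m₁⟩
  let z : W := ⟨v₂, m₂⟩
  have hspan : ∀ w : W, ∃ r s t : K, w = r • x + s • y + t • z := by
    intro w
    obtain ⟨r, s, t, h⟩ := Submodule.mem_span_triple.1 (hsp w.2)
    exact ⟨r, s, t, Subtype.ext h.symm⟩
  obtain ⟨qx, qy, bxy, bxz, byz⟩ := Groth.Agent.AdjVar.rank_le_one q x y z hspan (E j) (E i)
    (Subtype.ext j0) (Subtype.ext j1) (Subtype.ext j2) a ha (Subtype.ext i0) (Subtype.ext i1)
    (Subtype.ext i2) (hq _ (hbe j)) (hq _ (hbe i))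
  have hz : ∀ r s t : K, q (r • x + s • y + t • z) = q z * t ^ 2 := by
    intro r s t
    rw [QuadraticMap.map_add (⇑q), QuadraticMap.map_add (⇑q), QuadraticMap.map_smul, QuadraticMap.map_smul,
      QuadraticMap.map_smul, QuadraticMap.polar_add_left, QuadraticMap.polar_smul_left,
      QuadraticMap.polar_smul_left, QuadraticMap.polar_smul_left, QuadraticMap.polar_smul_right,
      QuadraticMap.polar_smul_right, QuadraticMap.polar_smul_right, qx, qy, bxy, bxz, byz]
    simp only [smul_eq_mul]
    ring
  let bW : Module.Basis (Fin 3) K W := basisOfTopLeSpanOfCardEqFinrank ![x, y, z] (by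
    rintro w -
    obtain ⟨r, s, t, rfl⟩ := hspan w
    refine Submodule.add_mem _ (Submodule.add_mem _ ?_ ?_) ?_ <;>
      refine Submodule.smul_mem _ _ (Submodule.subset_span ?_)
    exacts [⟨0, rfl⟩, ⟨1, rfl⟩, ⟨2, rfl⟩]) (by simp [hW])
  refine ⟨bW.coord 2, q z, fun w => ?_⟩
  have h := bW.sum_repr w
  rw [Fin.sum_univ_three, show (bW : Fin 3 → W) = ![x, y, z] from
    coe_basisOfTopLeSpanOfCardEqFinrank _ _ _] at h
  conv_lhs => rw [← h]
  exact hz _ _ _

end Groth.Agent.S17432
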