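import Groth.Statements.S17440
import Groth.Agent.DefoLib.Basic
import Groth.Agent.DQCoh.LocLift
import Groth.Agent.ZCl.Basic
-- import your own Groth.Agent.* helpers here

set_option autoImplicit false
set_option backward.isDefEq.respectTransparency false
set_option linter.style.haveILetI false
universe u
open CategoryTheory AlgebraicGeometry
open DefoSh CategoryTheory.Limits

namespace Groth.Agent.S17440

open CategoryTheory CategoryTheory.Limits AlgebraicGeometry ArtFun

variable {k : Type u} [Field k] {X : Scheme.{u}} [X.Over (Spec (CommRingCat.of k))]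

/-- multiplication by `ε` factors through the reduction -/
theorem exists_ι {E : X.Modules} (D : DefoSh.Defo E (Art.dual k k)) :
    ∃ ι : E ⟶ D.sheaf, D.π ≫ ι = D.act (DualNumber.eps : DualNumber k) := by
  haveI : Epi D.π := DefoLib.epi_of_stalk _ D.surj
  let a : Art.dual k k := (DualNumber.eps : DualNumber k)
  have h : kernel.ι D.π ≫ (D.act a : D.sheaf ⟶ D.sheaf) = 0 := by
    refine Scheme.Modules.hom_ext _ _ fun U => ?_
    ext s
    refine ZCl.ext_germ D.sheaf _ _ fun p hp => ?_
    let z := (kernel D.π).presheaf.germ U p hp s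
    have h1 : D.sheaf.presheaf.germ U p hp ((kernel.ι D.π ≫ (D.act a : D.sheaf ⟶ D.sheaf)).app U s) =
        RefHull.stalkMapₗ (kernel.ι D.π ≫ (D.act a : D.sheaf ⟶ D.sheaf)) p z :=
      (ZCl.stalk_map_germ _ p hp s).symm
    have h2 : D.sheaf.presheaf.germ U p hp ((0 : kernel D.π ⟶ D.sheaf).app U s) =
        RefHull.stalkMapₗ (0 : kernel D.π ⟶ D.sheaf) p z :=
      (ZCl.stalk_map_germ _ p hp s).symm
    rw [h1, h2, DefoSh.stalkMapₗ_zero_apply, DefoSh.stalkMapₗ_comp_apply]
    have h3 : RefHull.stalkMapₗ D.π p (RefHull.stalkMapₗ (kernel.ι D.π) p z) = 0 := by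
      rw [← DefoSh.stalkMapₗ_comp_apply, kernel.condition, DefoSh.stalkMapₗ_zero_apply]
    letI : Module (Art.dual k k) ↑(D.sheaf.presheaf.stalk p) := DefoSh.stalkModule D.sheaf D.act.toRingHom p
    change a • (RefHull.stalkMapₗ (kernel.ι D.π) p z : ↑(D.sheaf.presheaf.stalk p)) = 0
    refine Submodule.smul_induction_on (p := fun w => a • w = 0) (D.ker_le p _ h3) (fun b hb w _ => ?_)
      (fun w w' hw hw' => by rw [smul_add, hw, hw', add_zero])
    rw [Art.mem_maximalIdeal_iff] at hb
    have hab : a * b = 0 := by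
      change (DualNumber.eps : DualNumber k) * (show DualNumber k from b) = 0
      have hb' : TrivSqZeroExt.fst (show DualNumber k from b) = 0 := hb
      exact TrivSqZeroExt.ext (by simp) (by simpa using hb')
    rw [← mul_smul, hab, zero_smul]
  exact ⟨Abelian.epiDesc D.π _ h, Abelian.comp_epiDesc D.π _ h⟩

/-- scalars commute with maps defined on an open -/
theorem restrict_smul_comm {M N : X.Modules} (U : X.Opens) (c : k)
    (h : M.restrict U.ι ⟶ N.restrict U.ι) :
    (Scheme.Modules.restrictFunctor U.ι).map (c • 𝟙 M) ≫ h = h ≫ (Scheme.Modules.restrictFunctor U.ι).map (c • 𝟙 N) := by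
  refine Scheme.Modules.hom_ext _ _ fun W => ?_
  ext s
  let r : Γ(X, U.ι ''ᵁ W) := X.presheaf.map (homOfLE (le_top : U.ι ''ᵁ W ≤ ⊤)).op (Coh.toGlobal (X ↘ Spec (CommRingCat.of k)) c)
  let t : Γ((U : Scheme.{u}), W) := (U.ι.appIso W).hom r
  have key : ∀ (P : X.Modules) (y : Γ(P.restrict U.ι, W)),
      ((Scheme.Modules.restrictFunctor U.ι).map (c • 𝟙 P)).app W y = t • y := fun P y => by
    refine (KLin.smul_app_apply c (𝟙 P) (U.ι ''ᵁ W) y).trans ?_
    change _ = (U.ι.appIso W).inv ((U.ι.appIso W).hom r) • (𝟙 P : P ⟶ P).app (U.ι ''ᵁ W) y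
    rw [← ConcreteCategory.comp_apply, Iso.hom_inv_id, ConcreteCategory.id_apply]
  change h.app W (((Scheme.Modules.restrictFunctor U.ι).map (c • 𝟙 M)).app W s) =
    ((Scheme.Modules.restrictFunctor U.ι).map (c • 𝟙 N)).app W (h.app W s)
  rw [key, key, Scheme.Modules.Hom.app_smul]

end Groth.Agent.S17440

namespace Groth.Agent.S17440


/-- Let k be a field, X a scheme over k, E a finite locally free O_X-module and D a first-order
deformation of E, with reduction π : D.sheaf → E. Then D is locally trivial: every point of X has an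
open neighbourhood U together with an isomorphism of O_U-modules between the restrictions to U of
D.sheaf and of E ⊕ εE which commutes with the actions of k[ε] and with the reductions to E. In
particular the deformed module is again a vector bundle over the dual numbers. -/
theorem result (k : Type u) [Field k] (X : Scheme.{u})
    [X.Over (Spec (CommRingCat.of k))] (E : X.Modules) (hE : FlatMod.IsFinLocFree E)
    (D : DefoSh.Defo E (ArtFun.Art.dual k k)) (x : X) :
    ∃ (U : X.Opens) (e : D.sheaf.restrict U.ι ≅ (DefoSh.Defo.trivDual k E).sheaf.restrict U.ι), x ∈ U ∧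
      e.hom ≫ (Scheme.Modules.restrictFunctor U.ι).map (DefoSh.Defo.trivDual k E).π =
        (Scheme.Modules.restrictFunctor U.ι).map D.π ∧
      ∀ a : ArtFun.Art.dual k k, (Scheme.Modules.restrictFunctor U.ι).map (D.act a) ≫ e.hom =
        e.hom ≫ (Scheme.Modules.restrictFunctor U.ι).map ((DefoSh.Defo.trivDual k E).act a) := by
  obtain ⟨ι, hι⟩ := exists_ι D
  have h0 := Groth.Agent.DefoLib.ι_π D ι hι
  haveI := Groth.Agent.DefoLib.epi_π D ι hι
  -- a local section of the reduction
  obtain ⟨U₀, j, _, u, hu, ψ, hψ⟩ := Groth.Agent.DQCoh.exists_lift_finLocFree hE D.π (𝟙 E) x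
  obtain ⟨g, _, hg⟩ := Groth.Agent.DQCoh.exists_opens j
  let U := j.opensRange
  let R := Scheme.Modules.restrictFunctor U.ι
  let η : R ≅ Scheme.Modules.restrictFunctor j ⋙ Scheme.Modules.restrictFunctor g :=
    Scheme.Modules.restrictFunctorCongr hg.symm ≪≫ Scheme.Modules.restrictFunctorComp g j
  let σ : R.obj E ⟶ R.obj D.sheaf :=
    η.hom.app E ≫ (Scheme.Modules.restrictFunctor g).map ψ ≫ η.inv.app D.sheaf
  have hσ : σ ≫ R.map D.π = 𝟙 _ := by
    simp only [σ, Category.assoc]
    rw [← η.inv.naturality D.π, Functor.comp_map, ← Functor.map_comp_assoc, hψ]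
    simp
  have hS := (Groth.Agent.DefoLib.shortExact D ι hι).map_of_exact R
  haveI : Mono ((ShortComplex.mk ι D.π h0).map R).f := hS.mono_f
  let sp := ShortComplex.Splitting.ofExactOfSection _ hS.exact σ hσ hS.mono_f
  haveI : R.Additive := inferInstance
  let r : R.obj D.sheaf ⟶ R.obj E := sp.r
  let e : R.obj D.sheaf ⟶ R.obj (E ⊞ E) := R.map D.π ≫ R.map biprod.inl + r ≫ R.map biprod.inr
  let e' : R.obj (E ⊞ E) ⟶ R.obj D.sheaf := R.map biprod.fst ≫ σ + R.map biprod.snd ≫ R.map ι
  have hιr : R.map ι ≫ r = 𝟙 _ := sp.f_r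
  have hσr : σ ≫ r = 0 := sp.s_r
  have hid : r ≫ R.map ι + R.map D.π ≫ σ = 𝟙 _ := sp.id
  have hιπ : R.map ι ≫ R.map D.π = 0 := by rw [← R.map_comp, h0, R.map_zero]
  have he : e ≫ e' = 𝟙 _ := by
    simp only [e, e', Preadditive.add_comp, Preadditive.comp_add, Category.assoc]
    simp only [← R.map_comp_assoc, biprod.inl_fst, biprod.inl_snd, biprod.inr_fst, biprod.inr_snd,
      CategoryTheory.Functor.map_id, Category.id_comp, R.map_zero, zero_comp, comp_zero, add_zero, zero_add]
    rw [add_comm]; exact hid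
  have he' : e' ≫ e = 𝟙 _ := by
    simp only [e, e', Preadditive.add_comp, Preadditive.comp_add, Category.assoc, reassoc_of% hσ,
      reassoc_of% hιr, reassoc_of% hσr, reassoc_of% hιπ, zero_comp, comp_zero, add_zero, zero_add]
    rw [← R.map_comp, ← R.map_comp, ← R.map_add, biprod.total, CategoryTheory.Functor.map_id]
  refine ⟨U, ⟨e, e', he, he'⟩, ⟨u, hu⟩, ?_, fun a => ?_⟩
  · change e ≫ R.map (biprod.fst : E ⊞ E ⟶ E) = R.map D.π
    simp only [e, Preadditive.add_comp, Category.assoc, ← R.map_comp, biprod.inl_fst, biprod.inr_fst,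
      CategoryTheory.Functor.map_id, R.map_zero, comp_zero, add_zero, Category.comp_id]
  · have e_def : e = R.map D.π ≫ R.map biprod.inl + r ≫ R.map biprod.inr := rfl
    clear_value e
    change R.map (D.act a : D.sheaf ⟶ D.sheaf) ≫ e = e ≫ R.map ((DefoSh.Defo.trivDual k E).act a : E ⊞ E ⟶ E ⊞ E)
    let z : DualNumber k := a
    have hz : a = z.fst • (1 : ArtFun.Art.dual k k) +
        z.snd • (show ArtFun.Art.dual k k from (DualNumber.eps : DualNumber k)) :=
      Groth.Agent.DefoLib.dual_eq z
    have h1 : (D.act a : D.sheaf ⟶ D.sheaf) = z.fst • 𝟙 D.sheaf + (z.snd • 𝟙 D.sheaf) ≫ D.π ≫ ι := by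
      rw [Linear.smul_comp, Category.id_comp, hι]
      conv_lhs => rw [hz, map_add, map_smul, map_smul, map_one]
      rfl
    have h2 : ((DefoSh.Defo.trivDual k E).act a : E ⊞ E ⟶ E ⊞ E) =
        z.fst • 𝟙 (E ⊞ E) + (z.snd • 𝟙 (E ⊞ E)) ≫ (biprod.fst : E ⊞ E ⟶ E) ≫ biprod.inr := by
      rw [Linear.smul_comp, Category.id_comp]
      exact DefoSh.dualAct_hom (k := k) E z
    rw [h1, h2, R.map_add, R.map_add, R.map_comp, R.map_comp, R.map_comp, R.map_comp, Preadditive.add_comp,
      Preadditive.comp_add, restrict_smul_comm U _ e, ← reassoc_of% (restrict_smul_comm U z.snd e)]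
    congr 1
    simp only [Category.assoc]
    congr 1
    simp only [e_def, Preadditive.comp_add, Preadditive.add_comp, Category.assoc, reassoc_of% hιπ,
      reassoc_of% hιr, zero_comp, comp_zero, add_zero, zero_add]
    simp only [← R.map_comp_assoc, biprod.inl_fst, biprod.inr_fst, CategoryTheory.Functor.map_id, R.map_zero,
      Category.id_comp, zero_comp, comp_zero, add_zero]

end Groth.Agent.S17440
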