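import Groth.Statements.S17435
import Groth.Agent.DefoLib.Basic
import Groth.Agent.S17440
import Groth.Agent.CGrpExt.Basic
import Groth.Agent.DerPush.Basic
-- import your own Groth.Agent.* helpers here

set_option autoImplicit false
set_option backward.isDefEq.respectTransparency false
set_option linter.style.haveILetI false
universe u
open CategoryTheory AlgebraicGeometry
open DefoSh

namespace Groth.Agent.S17435

open CategoryTheory CategoryTheory.Limits CategoryTheory.Abelian AlgebraicGeometry ArtFun
open scoped TensorProduct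

section Abstract

universe w v u₀

variable {C : Type u₀} [Category.{v} C] [Abelian C] [HasExt.{w} C]

/-- With enough injectives every class of degree one comes from an extension. -/
theorem exists_extension_of_ext [EnoughInjectives C] {A Q : C} (x : Ext Q A 1) :
    ∃ (M : C) (f : A ⟶ M) (g : M ⟶ Q) (z : f ≫ g = 0) (h : (ShortComplex.mk f g z).ShortExact),
      h.extClass = x := by
  let i := Injective.ι A
  have hJ : (ShortComplex.mk i (cokernel.π i) (cokernel.condition i)).ShortExact :=
    { exact := ShortComplex.exact_of_g_is_cokernel _ (cokernelIsCokernel i) }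
  obtain ⟨y, hy⟩ := Ext.covariant_sequence_exact₁ Q hJ x (Ext.eq_zero_of_injective _) rfl
  obtain ⟨f, rfl⟩ := (Ext.mk₀_bijective _ _).2 y
  have z0 : (0 : A ⟶ Q) ≫ f = i ≫ cokernel.π i := by rw [zero_comp, cokernel.condition]
  let a : A ⟶ pullback f (cokernel.π i) := pullback.lift 0 i z0
  have za : a ≫ pullback.fst f (cokernel.π i) = 0 := pullback.lift_fst _ _ _
  have hs : a ≫ pullback.snd f (cokernel.π i) = i := pullback.lift_snd _ _ _
  haveI : Mono a := mono_of_mono_fac hs
  have h : (ShortComplex.mk a (pullback.fst f (cokernel.π i)) za).ShortExact :=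
    { exact := by
        refine ShortComplex.exact_of_f_is_kernel _ (KernelFork.IsLimit.ofι' a za fun {W} φ hφ => ?_)
        have h1 : (φ ≫ pullback.snd f (cokernel.π i)) ≫ cokernel.π i = 0 := by
          rw [Category.assoc, ← pullback.condition, reassoc_of% hφ, zero_comp]
        refine ⟨hJ.exact.lift _ h1, ?_⟩
        refine pullback.hom_ext ?_ ?_
        · rw [Category.assoc, za, comp_zero, hφ]
        · rw [Category.assoc, hs]
          exact hJ.exact.lift_f _ h1
      epi_g := (inferInstance : Epi (pullback.fst f (cokernel.π i))) }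
  refine ⟨_, a, _, za, h, ?_⟩
  let φ : ShortComplex.mk a (pullback.fst f (cokernel.π i)) za ⟶
      ShortComplex.mk i (cokernel.π i) (cokernel.condition i) :=
    { τ₁ := 𝟙 A, τ₂ := pullback.snd f (cokernel.π i), τ₃ := f
      comm₁₂ := by simpa using hs.symm
      comm₂₃ := pullback.condition.symm }
  refine (Ext.comp_mk₀_id _).symm.trans ?_
  exact (ShortComplex.ShortExact.extClass_naturality h hJ φ).trans hy

/-- Isomorphic extensions have the same class. -/
theorem extClass_eq_of_iso {A Q B₁ B₂ : C} {f₁ : A ⟶ B₁} {g₁ : B₁ ⟶ Q} {f₂ : A ⟶ B₂} {g₂ : B₂ ⟶ Q}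
    {z₁ : f₁ ≫ g₁ = 0} {z₂ : f₂ ≫ g₂ = 0} (h₁ : (ShortComplex.mk f₁ g₁ z₁).ShortExact)
    (h₂ : (ShortComplex.mk f₂ g₂ z₂).ShortExact) (φ : B₁ ⟶ B₂) (hf : f₁ ≫ φ = f₂) (hg : φ ≫ g₂ = g₁) :
    h₁.extClass = h₂.extClass := by
  let ψ : ShortComplex.mk f₁ g₁ z₁ ⟶ ShortComplex.mk f₂ g₂ z₂ :=
    { τ₁ := 𝟙 A, τ₂ := φ, τ₃ := 𝟙 Q, comm₁₂ := by simp [hf], comm₂₃ := by simp [hg] }
  exact ((Ext.comp_mk₀_id _).symm.trans (ShortComplex.ShortExact.extClass_naturality h₁ h₂ ψ)).trans
    (Ext.mk₀_id_comp _)

/-- A split extension has class zero. -/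
theorem extClass_eq_zero_of_section {S : ShortComplex C} (h : S.ShortExact) (s : S.X₃ ⟶ S.X₂)
    (hs : s ≫ S.g = 𝟙 _) : h.extClass = 0 := by
  rw [← Ext.mk₀_id_comp h.extClass, ← hs, ← Ext.mk₀_comp_mk₀,
    Ext.comp_assoc _ _ _ (zero_add 0) (zero_add 1) (by omega), h.comp_extClass, Ext.comp_zero]

end Abstract

section Dual

variable {k : Type u} [Field k]

/-- A module over the dual numbers in which only multiples of `ε` are killed by `ε` is flat. -/
theorem flat_dual (L : Type u) [AddCommGroup L] [Module (DualNumber k) L]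
    (h : ∀ v : L, (DualNumber.eps : DualNumber k) • v = 0 → ∃ w, (DualNumber.eps : DualNumber k) • w = v) :
    Module.Flat (DualNumber k) L := by
  refine Module.Flat.iff_rTensor_injective.2 fun I hI => ?_
  by_cases htop : ∃ a ∈ I, a.fst ≠ 0
  · obtain ⟨a, ha, hne⟩ := htop
    have hu : IsUnit a := TrivSqZeroExt.isUnit_iff_isUnit_fst.2 (isUnit_iff_ne_zero.2 hne)
    obtain rfl : I = ⊤ := Ideal.eq_top_of_isUnit_mem _ ha hu
    exact (LinearEquiv.rTensor L Submodule.topEquiv).injective
  · push_neg at htop
    rcases eq_or_ne I ⊥ with rfl | hne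
    · haveI : Subsingleton ((⊥ : Ideal (DualNumber k)) ⊗[DualNumber k] L) := inferInstance
      exact Function.injective_of_subsingleton _
    obtain ⟨a, ha, ha0⟩ := Submodule.exists_mem_ne_zero_of_ne_bot hne
    have hs : a.snd ≠ 0 := fun h0 => ha0 (TrivSqZeroExt.ext (htop a ha) h0)
    have hεI : (DualNumber.eps : DualNumber k) ∈ I := by
      have := I.mul_mem_left (TrivSqZeroExt.inl a.snd⁻¹) ha
      convert this using 1
      exact TrivSqZeroExt.ext (by simp [htop a ha]) (by simp [hs])
    have hgen : ∀ b : I, b = (TrivSqZeroExt.inl (b : DualNumber k).snd : DualNumber k) • (⟨DualNumber.eps, hεI⟩ : I) :=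
      fun b => Subtype.ext (TrivSqZeroExt.ext (by simp [htop _ b.2]) (by simp))
    have hall : ∀ z : I ⊗[DualNumber k] L, ∃ v, z = (⟨DualNumber.eps, hεI⟩ : I) ⊗ₜ v := fun z => by
      induction z using TensorProduct.induction_on with
      | zero => exact ⟨0, (TensorProduct.tmul_zero _ _).symm⟩
      | tmul b v => exact ⟨(TrivSqZeroExt.inl (b : DualNumber k).snd : DualNumber k) • v, by
          rw [TensorProduct.tmul_smul, TensorProduct.smul_tmul', ← hgen]⟩
      | add z z' hz hz' =>
        obtain ⟨v, rfl⟩ := hz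
        obtain ⟨v', rfl⟩ := hz'
        exact ⟨v + v', (TensorProduct.tmul_add _ _ _).symm⟩
    refine (injective_iff_map_eq_zero _).2 fun z hz => ?_
    obtain ⟨v, rfl⟩ := hall z
    have hv : (DualNumber.eps : DualNumber k) • v = 0 := by
      simpa using congrArg (TensorProduct.lid (DualNumber k) L) hz
    obtain ⟨w, rfl⟩ := h v hv
    rw [TensorProduct.tmul_smul, TensorProduct.smul_tmul']
    have : (DualNumber.eps : DualNumber k) • (⟨DualNumber.eps, hεI⟩ : I) = 0 :=
      Subtype.ext DualNumber.eps_mul_eps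
    rw [this, TensorProduct.zero_tmul]

end Dual

section Defo

variable {k : Type u} [Field k] {X : Scheme.{u}} [X.Over (Spec (CommRingCat.of k))] {E : X.Modules}

/-- the action of a dual number, in coordinates -/
theorem act_eq_coord (D : DefoSh.Defo E (Art.dual k k)) {ι : E ⟶ D.sheaf}
    (hι : D.π ≫ ι = D.act (DualNumber.eps : DualNumber k)) (a : Art.dual k k) :
    (D.act a : D.sheaf ⟶ D.sheaf) =
      (show DualNumber k from a).fst • 𝟙 D.sheaf + (show DualNumber k from a).snd • (D.π ≫ ι) := by
  have h : (a : Art.dual k k) = (show DualNumber k from a).fst • (1 : Art.dual k k) +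
      (show DualNumber k from a).snd • (show Art.dual k k from (DualNumber.eps : DualNumber k)) :=
    DefoLib.dual_eq (show DualNumber k from a)
  conv_lhs => rw [h]
  rw [map_add, map_smul, map_smul, map_one, hι]
  rfl

/-- the deformation attached to an extension of `E` by `E` -/
theorem exists_defo {M : X.Modules} (i : E ⟶ M) (p : M ⟶ E) (z : i ≫ p = 0)
    (hS : (ShortComplex.mk i p z).ShortExact) :
    ∃ (D : DefoSh.Defo E (Art.dual k k)) (ι : E ⟶ D.sheaf) (φ : M ⟶ D.sheaf),
      D.π ≫ ι = D.act (DualNumber.eps : DualNumber k) ∧ i ≫ φ = ι ∧ φ ≫ D.π = p := by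
  let N : End M := p ≫ i
  have hN : N * N = 0 := by
    change (p ≫ i) ≫ (p ≫ i) = 0
    rw [Category.assoc, reassoc_of% z, zero_comp, comp_zero]
  let act : DualNumber k →ₐ[k] End M :=
    DualNumber.lift ⟨(Algebra.ofId k (End M), N), hN, fun a => (Algebra.commutes a N).symm⟩
  have hact : ∀ a : DualNumber k, (act a : M ⟶ M) = a.fst • 𝟙 M + a.snd • (p ≫ i) := fun a => by
    change algebraMap k (End M) a.fst + (algebraMap k (End M) a.snd) * N = _
    rw [Algebra.algebraMap_eq_smul_one, Algebra.algebraMap_eq_smul_one, smul_mul_assoc, one_mul]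
    rfl
  have hε : (act (DualNumber.eps : DualNumber k) : M ⟶ M) = p ≫ i := by
    rw [hact]; simp
  have hx : ∀ (x : X), (∀ v, RefHull.stalkMapₗ p x v = 0 → ∃ e, RefHull.stalkMapₗ i x e = v) ∧
      Function.Injective (RefHull.stalkMapₗ i x) ∧ Function.Surjective (RefHull.stalkMapₗ p x) := fun x => by
    have h := hS.map_of_exact (DerSch.stalkFunctor X x)
    exact ⟨fun v hv => (ShortComplex.moduleCat_exact_iff _).1 h.exact v hv,
      (ModuleCat.mono_iff_injective _).1 h.mono_f, (ModuleCat.epi_iff_surjective _).1 h.epi_g⟩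
  refine ⟨{ sheaf := M, act := act, π := p, act_π := fun a ha => ?_, surj := fun x => (hx x).2.2,
            ker_le := fun x v hv => ?_, flat := fun x => ?_ }, i, 𝟙 M, hε.symm, Category.comp_id i, Category.id_comp p⟩
  · have ha' : (show DualNumber k from a).fst = 0 := ha
    change (act (show DualNumber k from a) : M ⟶ M) ≫ p = 0
    rw [hact, ha', Preadditive.add_comp, zero_smul, zero_comp, zero_add, Linear.smul_comp, Category.assoc, z,
      comp_zero, smul_zero]
  · letI : Module (Art.dual k k) ↑(M.presheaf.stalk x) := DefoSh.stalkModule M act.toRingHom x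
    obtain ⟨e, rfl⟩ := (hx x).1 v hv
    obtain ⟨w, rfl⟩ := (hx x).2.2 e
    have hw : RefHull.stalkMapₗ i x (RefHull.stalkMapₗ p x w) =
        (show Art.dual k k from (DualNumber.eps : DualNumber k)) • w := by
      change _ = RefHull.stalkMapₗ (act (DualNumber.eps : DualNumber k) : M ⟶ M) x w
      rw [hε, DefoSh.stalkMapₗ_comp_apply]
    rw [hw]
    refine Submodule.smul_mem_smul ?_ Submodule.mem_top
    rw [Art.mem_maximalIdeal_iff]
    rfl
  · letI : Module (DualNumber k) ↑(M.presheaf.stalk x) := DefoSh.stalkModule M act.toRingHom x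
    have hw : ∀ w : ↑(M.presheaf.stalk x), (DualNumber.eps : DualNumber k) • w =
        RefHull.stalkMapₗ i x (RefHull.stalkMapₗ p x w) := fun w => by
      change RefHull.stalkMapₗ (act (DualNumber.eps : DualNumber k) : M ⟶ M) x w = _
      rw [hε, DefoSh.stalkMapₗ_comp_apply]
    refine flat_dual _ fun v hv => ?_
    rw [hw] at hv
    have hv' : RefHull.stalkMapₗ p x v = 0 := (hx x).2.1 (hv.trans (map_zero _).symm)
    obtain ⟨e, rfl⟩ := (hx x).1 v hv'
    obtain ⟨w, rfl⟩ := (hx x).2.2 e
    exact ⟨w, hw w⟩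

end Defo

/-- The first-order deformations of any module are its self-extensions. -/
theorem exists_equiv (k : Type u) [Field k] (X : Scheme.{u})
    [X.Over (Spec (CommRingCat.of k))] (E : X.Modules) [HasExt.{u} X.Modules] :
    ∃ e : DefoSh.FirstOrder k E ≃ Abelian.Ext E E 1,
      e (DefoSh.Defo.trivDual k E).cl = 0 ∧
      ∀ (D : DefoSh.Defo E (ArtFun.Art.dual k k)) (i : E ⟶ D.sheaf)
        (hi : D.π ≫ i = D.act (DualNumber.eps : DualNumber k))
        (h0 : i ≫ D.π = 0) (hS : (ShortComplex.mk i D.π h0).ShortExact),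
        e D.cl = hS.extClass := by
  haveI : EnoughInjectives X.Modules := inferInstance
  choose ι hι using fun D : DefoSh.Defo E (ArtFun.Art.dual k k) => Groth.Agent.S17440.exists_ι D
  let cls : DefoSh.Defo E (ArtFun.Art.dual k k) → Abelian.Ext E E 1 := fun D =>
    (Groth.Agent.DefoLib.shortExact D (ι D) (hι D)).extClass
  have hwd : ∀ D D', Nonempty (DefoSh.Defo.Iso D D') → cls D = cls D' := by
    rintro D D' ⟨e⟩
    haveI := Groth.Agent.DefoLib.epi_π D (ι D) (hι D)
    refine extClass_eq_of_iso _ _ e.iso.hom ?_ e.hom_π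
    rw [← cancel_epi D.π, ← Category.assoc, hι, e.act_hom, ← hι, ← Category.assoc, e.hom_π]
  let f : DefoSh.FirstOrder k E → Abelian.Ext E E 1 := Quotient.lift cls hwd
  have hval : ∀ (D : DefoSh.Defo E (ArtFun.Art.dual k k)) (i : E ⟶ D.sheaf)
      (hi : D.π ≫ i = D.act (DualNumber.eps : DualNumber k))
      (h0 : i ≫ D.π = 0) (hS : (ShortComplex.mk i D.π h0).ShortExact), cls D = hS.extClass := by
    intro D i hi h0 hS
    haveI := Groth.Agent.DefoLib.epi_π D i hi
    obtain rfl : i = ι D := by rw [← cancel_epi D.π, hi, hι]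
    rfl
  have hinj : Function.Injective f := by
    intro a b
    induction a using Quotient.inductionOn with | h D => ?_
    induction b using Quotient.inductionOn with | h D' => ?_
    intro h
    obtain ⟨φ, _, hf, hg⟩ := Groth.Agent.CGrpExt.exists_iso_of_extClass_eq _ _ _ _
      (Groth.Agent.DefoLib.shortExact D (ι D) (hι D)) (Groth.Agent.DefoLib.shortExact D' (ι D') (hι D')) h
    refine Quotient.sound ⟨⟨asIso φ, fun a => ?_, hg⟩⟩
    change (D.act a : D.sheaf ⟶ D.sheaf) ≫ φ = φ ≫ (D'.act a : D'.sheaf ⟶ D'.sheaf)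
    rw [act_eq_coord D (hι D), act_eq_coord D' (hι D'), Preadditive.add_comp, Preadditive.comp_add,
      Linear.smul_comp, Linear.smul_comp, Linear.comp_smul, Linear.comp_smul, Category.id_comp,
      Category.comp_id, Category.assoc, hf, ← Category.assoc φ, hg]
  have hsurj : Function.Surjective f := by
    intro x
    obtain ⟨M, i, p, z, hM, rfl⟩ := exists_extension_of_ext x
    obtain ⟨D, i', φ, hi, hiφ, hφp⟩ := exists_defo (k := k) i p z hM
    refine ⟨D.cl, ?_⟩
    have hD := Groth.Agent.DefoLib.shortExact D i' hi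
    exact (hval D i' hi _ hD).trans (extClass_eq_of_iso hM hD φ hiφ hφp).symm
  refine ⟨Equiv.ofBijective f ⟨hinj, hsurj⟩, ?_, hval⟩
  let D₀ := DefoSh.Defo.trivDual k E
  refine extClass_eq_zero_of_section (Groth.Agent.DefoLib.shortExact D₀ (ι D₀) (hι D₀))
    (Limits.biprod.inl : E ⟶ E ⊞ E) ?_
  exact Limits.biprod.inl_fst

end Groth.Agent.S17435

namespace Groth.Agent.S17435


/-- Let k be a field, X a locally Noetherian scheme over k and E a coherent O_X-module. There is a
bijection e between the isomorphism classes of deformations of E over the dual numbers k[ε]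
(O_X-modules with a k[ε]-action, flat stalkwise, with reduction identified with E) and Ext¹(E, E)
such that, for every such deformation D with reduction π : D.sheaf → E and for the map i : E →
D.sheaf with π ≫ i = ε (multiplication by ε), e sends the class of D to the extension class of the
short exact sequence 0 → E → D.sheaf → E → 0 formed by i and π; and e sends the class of the trivial
deformation E ⊕ εE to 0. The published statement takes X to be any scheme over k; this row assumes X
locally Noetherian, so that coherent means quasi-coherent of finite type. -/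
theorem result (k : Type u) [Field k] (X : Scheme.{u})
    [X.Over (Spec (CommRingCat.of k))] [IsLocallyNoetherian X] (E : X.Modules) (hE : Coh.IsCoh E)
    [HasExt.{u} X.Modules] :
    ∃ e : DefoSh.FirstOrder k E ≃ Abelian.Ext E E 1,
      e (DefoSh.Defo.trivDual k E).cl = 0 ∧
      ∀ (D : DefoSh.Defo E (ArtFun.Art.dual k k)) (i : E ⟶ D.sheaf)
        (hi : D.π ≫ i = D.act (DualNumber.eps : DualNumber k))
        (h0 : i ≫ D.π = 0) (hS : (ShortComplex.mk i D.π h0).ShortExact),
        e D.cl = hS.extClass := by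
  exact exists_equiv k X E

end Groth.Agent.S17435
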