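import Groth.Statements.S17437
import Groth.Agent.DefoLib.Conn
-- import your own Groth.Agent.* helpers here

set_option autoImplicit false
set_option backward.isDefEq.respectTransparency false
set_option linter.style.haveILetI false
universe u
open CategoryTheory AlgebraicGeometry
open DefoSh

namespace Groth.Agent.S17437

/-- Let k be a field, X a scheme over k with a receptacle of differentials (Ω′, δ) over k, Ω′
quasi-coherent, and E a finite locally free O_X-module with a connection ∇ : E → E ⊗ Ω′. Let D be a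
first-order deformation of E with reduction π : D.sheaf → E and let ι : E → D.sheaf be
multiplication by ε (π ≫ ι = ε). Two deformations c and c′ of ∇ over D are transport equivalent —
some automorphism of D inducing the identity of E carries c to c′ — if and only if there is a global
endomorphism S of E with c′ − c = π ≫ (∇ ≫ (S ⊗ 1) − S ≫ ∇) ≫ (ι ⊗ 1); the middle map is minus the
covariant derivative of S for the connection induced on End(E), so together with the bijection
between deformations of ∇ over D and Hom(E, E ⊗ Ω′) this identifies transport classes with H⁰(End(E)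
⊗ Ω′) modulo the derivatives of global endomorphisms. The printed statement is the case of the
trivial deformation. The published statement is for a curve with its sheaf of differentials; this
row takes any scheme over k with any quasi-coherent receptacle of differentials, which the printed
computation does not use. -/
theorem result (k : Type u) [Field k] (X : Scheme.{u})
    [X.Over (Spec (CommRingCat.of k))] (Ω' : X.Modules) (δ : OmegaSh.Der (X ↘ Spec (CommRingCat.of k)) Ω')
    (hΩ' : Coh.IsQCoh Ω') (E : X.Modules) (hE : FlatMod.IsFinLocFree E)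
    (nabla : Coh.toAb E ⟶ Coh.toAb (CohB1.tensorMod E Ω')) (hn : ConnSh.IsConn δ E nabla)
    (D : DefoSh.Defo E (ArtFun.Art.dual k k)) (ι : E ⟶ D.sheaf)
    (hι : D.π ≫ ι = D.act (DualNumber.eps : DualNumber k)) (c c' : DefoSh.DefoConn δ nabla D) :
    DefoSh.DefoConn.Transport c c' ↔ ∃ S : E ⟶ E,
      c'.conn - c.conn = (SheafOfModules.toSheaf X.ringCatSheaf).map D.π ≫
        (nabla ≫ (SheafOfModules.toSheaf X.ringCatSheaf).map (KoszTw.tensorMap S (𝟙 Ω')) - (SheafOfModules.toSheaf X.ringCatSheaf).map S ≫ nabla) ≫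
          (SheafOfModules.toSheaf X.ringCatSheaf).map (KoszTw.tensorMap ι (𝟙 Ω')) := by
  let F := Groth.Agent.DefoLib.F X
  let T := fun {M M' : X.Modules} (φ : M ⟶ M') => KoszTw.tensorMap φ (𝟙 Ω')
  haveI := Groth.Agent.DefoLib.epi_π D ι hι
  have hS := Groth.Agent.DefoLib.shortExact D ι hι
  haveI : Mono ι := hS.mono_f
  haveI : Epi (ShortComplex.mk ι D.π (Groth.Agent.DefoLib.ι_π D ι hι)).g := hS.epi_g
  have h0 := Groth.Agent.DefoLib.ι_π D ι hι
  have hπ := Groth.Agent.DefoLib.isHorizontal_iff.1 c.π_horizontal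
  -- horizontality of `1 + πSι` in closed form
  have key : ∀ S : E ⟶ E, ConnSh.IsHorizontal c.conn c'.conn (𝟙 D.sheaf + D.π ≫ S ≫ ι) ↔
      c'.conn - c.conn = F.map D.π ≫ (nabla ≫ F.map (T S) - F.map S ≫ nabla) ≫ F.map (T ι) := by
    intro S
    rw [Groth.Agent.DefoLib.isHorizontal_iff, Functor.map_add, Preadditive.add_comp]
    have hT : KoszTw.tensorMap (𝟙 D.sheaf + D.π ≫ S ≫ ι) (𝟙 Ω') =
        𝟙 _ + T D.π ≫ T S ≫ T ι := by
      rw [Groth.Agent.DefoLib.tensorMap_eq, Groth.Agent.DefoLib.T_add, ← Groth.Agent.DefoLib.tensorMap_eq,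
        ← Groth.Agent.DefoLib.tensorMap_eq, Groth.Agent.DefoLib.tensorMap_id_comp,
        Groth.Agent.DefoLib.tensorMap_id_comp, KoszTw.tensorMap_id]
    rw [hT, Functor.map_add, Preadditive.comp_add, CategoryTheory.Functor.map_id, CategoryTheory.Functor.map_id,
      Category.id_comp, Category.comp_id, Functor.map_comp, Functor.map_comp, Functor.map_comp, Functor.map_comp,
      Category.assoc, Category.assoc, Groth.Agent.DefoLib.ι_horizontal hι c', ← reassoc_of% hπ]
    simp only [Preadditive.sub_comp, Preadditive.comp_sub, Category.assoc, sub_eq_iff_eq_add]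
    constructor
    · intro h
      rw [eq_sub_of_add_eq h]
      abel
    · intro h
      rw [h]
      abel
  constructor
  · rintro ⟨e, he⟩
    have hψ : (e.iso.hom - 𝟙 D.sheaf) ≫ D.π = 0 := by
      rw [Preadditive.sub_comp, e.hom_π, Category.id_comp, sub_self]
    obtain ⟨ψ, hψ'⟩ : ∃ ψ : D.sheaf ⟶ E, ψ ≫ ι = e.iso.hom - 𝟙 D.sheaf :=
      ⟨hS.exact.lift _ hψ, hS.exact.lift_f _ hψ⟩
    have hιe : ι ≫ e.iso.hom = ι := by
      rw [← cancel_epi D.π, ← Category.assoc, hι, e.act_hom, ← hι, ← Category.assoc, e.hom_π]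
    have hιψ : ι ≫ ψ = 0 := by
      rw [← cancel_mono ι, Category.assoc, hψ', Preadditive.comp_sub, hιe, Category.comp_id, sub_self, Limits.zero_comp]
    obtain ⟨S, hS'⟩ : ∃ S : E ⟶ E, D.π ≫ S = ψ :=
      ⟨hS.exact.desc ψ hιψ, hS.exact.g_desc ψ hιψ⟩
    refine ⟨S, (key S).1 ?_⟩
    rwa [← Category.assoc, hS', hψ', add_sub_cancel]
  · rintro ⟨S, hS'⟩
    let N : D.sheaf ⟶ D.sheaf := D.π ≫ S ≫ ι
    have hN : N ≫ N = 0 := by
      simp [N, reassoc_of% h0]
    refine ⟨⟨⟨𝟙 _ + N, 𝟙 _ - N, ?_, ?_⟩, fun a => ?_, ?_⟩, (key S).2 hS'⟩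
    · simp [Preadditive.add_comp, Preadditive.comp_sub, hN]
    · simp [Preadditive.comp_add, Preadditive.sub_comp, hN]
    · obtain ⟨r, h1, h2⟩ := Groth.Agent.DefoLib.act_comp_π_comp D ι hι a (S ≫ ι)
      change D.act a ≫ (𝟙 _ + N) = (𝟙 _ + N) ≫ D.act a
      simp only [N, Preadditive.comp_add, Preadditive.add_comp, Category.comp_id, Category.id_comp,
        Category.assoc, h1, h2, Linear.comp_smul]
    · change (𝟙 _ + N) ≫ D.π = D.π
      simp [N, Preadditive.add_comp, h0]

end Groth.Agent.S17437
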