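import Groth.Statements.S17438
import Groth.Agent.DefoLib.CechTwo
import Groth.Agent.S17435
import Groth.Agent.RefStalk.Eval
import Groth.Agent.RefStalk.Coherent
import Groth.Agent.RefStalk.Generic
import Groth.Agent.SerrePn.ExtVanish
import Groth.Agent.CohQC.Flasque
import Groth.Agent.CohQC.CechVanish
import Groth.Agent.W7Gen.Affine
import Groth.Agent.SiteCoh.Cover
-- import your own Groth.Agent.* helpers here

set_option autoImplicit false
set_option backward.isDefEq.respectTransparency false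
set_option linter.style.haveILetI false
universe u
open CategoryTheory AlgebraicGeometry
open DefoSh

namespace Groth.Agent.S17438

open CategoryTheory CategoryTheory.Limits CategoryTheory.Abelian AlgebraicGeometry TopologicalSpace Opposite
open Groth.Agent.WeakAssLib
open Groth.Agent.QC (res res_res app_res)

variable {X : Scheme.{u}}

/-- restriction of sections -/
noncomputable abbrev rs (M : X.Modules) {A B : X.Opens} (h : B ≤ A) : Γ(M, A) →+ Γ(M, B) :=
  DefoLib.pr M.presheaf h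

theorem germ_rs (M : X.Modules) {A B : X.Opens} (h : B ≤ A) {y : X} (hy : y ∈ B) (s : Γ(M, A)) :
    mgerm M hy (rs M h s) = mgerm M (h hy) s :=
  mgerm_res M h hy s

theorem app_rs {M N : X.Modules} (φ : M ⟶ N) {A B : X.Opens} (h : B ≤ A) (s : Γ(M, A)) :
    φ.app B (rs M h s) = rs N h (φ.app A s) :=
  ConcreteCategory.congr_hom (φ.mapPresheaf.naturality (homOfLE h).op) s

theorem rs_smul (M : X.Modules) {A B : X.Opens} (h : B ≤ A) (a : Γ(X, A)) (s : Γ(M, A)) :
    rs M h (a • s) = X.presheaf.map (homOfLE h).op a • rs M h s :=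
  M.val.map_smul (homOfLE h).op a s

/-- On an open inside an affine one over which `E` is free, a section of `𝓗om(E, G')` lifts along `φ : G ⟶ G'`
once its values on a basis do. -/
theorem exists_lift {E G G' : X.Modules} (φ : G ⟶ G') {U W : X.Opens} (hU : IsAffineOpen U) (hE : Coh.IsQCoh E)
    (hWU : W ≤ U) {ι : Type*} (b : Module.Basis ι Γ(X, U) Γ(E, U)) (g : Γ(RefHull.homSh E G', W))
    (h : ∀ n : Γ(G', W), (∃ i, ∀ (y : X) (hy : y ∈ W), mgerm G' hy n = g.1 ⟨y, hy⟩ (mgerm E (hWU hy) (b i))) →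
      ∃ m, φ.app W m = n) :
    ∃ g' : Γ(RefHull.homSh E G, W), (RefFun.homMap E φ).app W g' = g := by
  choose n hn using fun i => RefStalk.exists_app g le_rfl (rs E hWU (b i))
  have hn' : ∀ i (y : X) (hy : y ∈ W), mgerm G' hy (n i) = g.1 ⟨y, hy⟩ (mgerm E (hWU hy) (b i)) := fun i y hy => by
    rw [hn i y hy, germ_rs]
  choose m hm using fun i => h (n i) ⟨i, hn' i⟩
  let ρ := (X.presheaf.map (homOfLE hWU).op).hom
  letI : Module Γ(X, U) Γ(G, W) := Module.compHom _ ρ
  let ψ : Γ(E, U) →ₗ[Γ(X, U)] Γ(G, W) := b.constr ℤ m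
  obtain ⟨g', hg'⟩ := RefStalk.exists_section_of_linear (F := E) (G := G) hU hE hWU ψ.toAddMonoidHom
    (fun a s => ψ.map_smul a s)
  refine ⟨g', RefStalk.hom_ext_span hU hE hWU b b.span_eq _ _ fun y hy i => ?_⟩
  rw [RefFun.homMap_app_apply, LinearMap.comp_apply, hg' y hy, RefHull.stalkMapₗ_germ, ← hn' i y hy]
  change mgerm G' hy (φ.app W (ψ (b i))) = _
  rw [show ψ (b i) = m i from Module.Basis.constr_basis b ℤ m i, hm]

/-- Restriction of sections of `𝓗om(E, I)` is surjective below an open where `E` is free, for injective `I`. -/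
theorem rs_surjective {E I : X.Modules} [Injective I] {U W : X.Opens} (hU : IsAffineOpen U) (hE : Coh.IsQCoh E)
    (hWU : W ≤ U) {ι : Type*} (b : Module.Basis ι Γ(X, U) Γ(E, U)) (g : Γ(RefHull.homSh E I, W)) :
    ∃ g' : Γ(RefHull.homSh E I, U), rs _ hWU g' = g := by
  choose n hn using fun i => RefStalk.exists_app g le_rfl (rs E hWU (b i))
  choose m hm using fun i => CohQC.sections_surjective_of_injective (R := X.ringCatSheaf) I (homOfLE hWU) (n i)
  let ψ : Γ(E, U) →ₗ[Γ(X, U)] Γ(I, U) := b.constr ℤ m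
  obtain ⟨g', hg'⟩ := RefStalk.exists_section_of_linear (F := E) (G := I) hU hE le_rfl ψ.toAddMonoidHom
    (fun a s => by
      change ψ (a • s) = _
      rw [ψ.map_smul]
      congr 1
      change a = X.presheaf.map (𝟙 (op U)) a
      rw [X.presheaf.map_id]; rfl)
  refine ⟨g', RefStalk.hom_ext_span hU hE hWU b b.span_eq _ _ fun y hy i => ?_⟩
  change g'.1 ⟨y, hWU hy⟩ (mgerm E (hWU hy) (b i)) = _
  rw [hg' y (hWU hy), ← germ_rs E hWU hy, ← hn i y hy, ← hm i]
  change mgerm I (hWU hy) (ψ (b i)) = mgerm I hy (rs I hWU (m i))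
  rw [germ_rs, show ψ (b i) = m i from Module.Basis.constr_basis b ℤ m i]

/-- the section of `𝓗om` defined by a morphism, restricted -/
theorem exists_secOf (E G : X.Modules) : ∃ θ : ∀ (W : X.Opens), (E ⟶ G) → Γ(RefHull.homSh E G, W),
    ∀ (W : X.Opens) (φ : E ⟶ G) (y : W), (θ W φ).1 y = RefHull.stalkMapₗ φ y.1 :=
  ⟨fun W φ => ⟨fun y => RefHull.stalkMapₗ φ y.1, fun V i m x => ⟨V, x.2, 𝟙 V, φ.app V m, fun y =>
    RefHull.stalkMapₗ_germ φ y.1 y.2 m⟩⟩, fun _ _ _ => rfl⟩

/-- abstract nonsense: surjections with the same kernel have equivalent targets -/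
theorem nonempty_equiv {A B C : Type*} [AddCommGroup A] [AddCommGroup B] [AddCommGroup C] (p : A →+ B) (q : A →+ C)
    (hp : Function.Surjective p) (hq : Function.Surjective q) (h : ∀ a, p a = 0 ↔ q a = 0) :
    Nonempty (B ≃+ C) :=
  ⟨(QuotientAddGroup.quotientKerEquivOfSurjective p hp).symm.trans
    ((QuotientAddGroup.quotientAddEquivOfEq (AddSubgroup.ext fun a => h a)).trans
      (QuotientAddGroup.quotientKerEquivOfSurjective q hq))⟩

set_option maxHeartbeats 1000000 in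
/-- `Ext¹(E, E)` is the first Čech group of `𝓗om(E, E)` for two affine opens on which `E` is free. -/
theorem nonempty_ext_equiv_cech [HasExt.{u} X.Modules] (U : ULift.{u} (Fin 2) → X.Opens)
    (hU : ∀ i, IsAffineOpen (U i)) (hcov : ∀ x, ∃ i, x ∈ U i) (E : X.Modules) (hE : Coh.IsQCoh E)
    (hb : ∀ i, Module.Free Γ(X, U i) Γ(E, U i)) :
    Nonempty (Ext E E 1 ≃+ ↑(CohB1.cechH U (RefHull.homSh E E) 1)) := by
  haveI : EnoughInjectives X.Modules := inferInstance
  let ι := Injective.ι E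
  let I := Injective.under E
  let π := cokernel.π ι
  let Q := cokernel ι
  have hS : (ShortComplex.mk ι π (cokernel.condition ι)).ShortExact :=
    { exact := ShortComplex.exact_of_g_is_cokernel _ (cokernelIsCokernel ι) }
  have hAb := W7Gen.toAb_shortExact hS
  have hinjι : ∀ W, Function.Injective (ι.app W) := fun W => SiteCoh.sections_injective hAb W
  have hexι : ∀ (W : X.Opens) (m : Γ(I, W)), π.app W m = 0 → ∃ e, ι.app W e = m := fun W m hm =>
    SiteCoh.sections_exact hAb W m hm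
  -- surjectivity over the affine opens
  have hsurjπ : ∀ i, Function.Surjective (π.app (U i)) := fun i =>
    W7Gen.app_surjective_of_acyAt hS fun q =>
      @CohQC.hu_vanish_of_isAffineOpen X E hE (U i) (hU i) q
  let b := fun i => Module.Free.chooseBasis Γ(X, U i) Γ(E, U i)
  let H := fun G : X.Modules => RefHull.homSh E G
  let hι := fun W => ((RefFun.homMap E ι).app W).hom
  let hπ := fun W => ((RefFun.homMap E π).app W).hom
  have hιinj : ∀ W, Function.Injective (hι W) := fun W g g' h => by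
    refine Subtype.ext (funext fun y => LinearMap.ext fun v => ?_)
    have h' := LinearMap.congr_fun (congrArg (fun z : Γ(H I, W) => z.1 y) h) v
    exact (ModuleCat.mono_iff_injective _).1 (Functor.map_mono (DerSch.stalkFunctor X y.1) ι) h'
  have hιπ : ∀ W g, hπ W (hι W g) = 0 := fun W g => by
    refine Subtype.ext (funext fun y => LinearMap.ext fun v => ?_)
    change RefHull.stalkMapₗ π y.1 (RefHull.stalkMapₗ ι y.1 (g.1 y v)) = 0
    rw [← DefoSh.stalkMapₗ_comp_apply, cokernel.condition, DefoSh.stalkMapₗ_zero_apply]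
  obtain ⟨θI, hθI⟩ := exists_secOf E I
  obtain ⟨θQ, hθQ⟩ := exists_secOf E Q
  let U₀ := U DefoLib.j₀
  let U₁ := U DefoLib.j₁
  let U₀₁ := U₀ ⊓ U₁
  -- exactness on the overlap
  have hex : ∀ g : Γ(H I, U₀₁), hπ _ g = 0 → ∃ k, hι _ k = g := fun g hg => by
    refine exists_lift ι (hU DefoLib.j₀) hE (inf_le_left : U₀₁ ≤ U₀) (b _) g fun n ⟨i, hn⟩ => hexι _ n ?_
    refine RefStalk.germ_ext fun y hy => ?_
    rw [map_zero, ← RefHull.stalkMapₗ_germ π y hy n]
    exact (congrArg (RefHull.stalkMapₗ π y) (hn y hy)).trans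
      (LinearMap.congr_fun (congrArg (fun z : Γ(H Q, U₀₁) => z.1 ⟨y, hy⟩) hg) _)
  -- lifting on each open
  have hlift : ∀ i (g : Γ(H Q, U i)), ∃ g', hπ _ g' = g := fun i g =>
    exists_lift π (hU i) hE le_rfl (b i) g fun n _ => hsurjπ i n
  -- pairs of local lifts of a global morphism
  let d : Γ(H I, U₀) × Γ(H I, U₁) →+ Γ(H I, U₀₁) :=
    (rs (H I) inf_le_left).comp (AddMonoidHom.fst _ _) - (rs (H I) inf_le_right).comp (AddMonoidHom.snd _ _)
  let A : AddSubgroup (Γ(H I, U₀) × Γ(H I, U₁)) := ((hπ U₀₁).comp d).ker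
  have hπrs : ∀ {V W : X.Opens} (h : W ≤ V) (g : Γ(H I, V)), hπ W (rs (H I) h g) = rs (H Q) h (hπ V g) :=
    fun h g => app_rs (RefFun.homMap E π) h g
  have hιrs : ∀ {V W : X.Opens} (h : W ≤ V) (g : Γ(H E, V)), hι W (rs (H E) h g) = rs (H I) h (hι V g) :=
    fun h g => app_rs (RefFun.homMap E ι) h g
  have hcov' : ∀ x : X, x ∈ U₀ ∨ x ∈ U₁ := fun x => by
    obtain ⟨⟨i⟩, hi⟩ := hcov x
    fin_cases i
    exacts [Or.inl hi, Or.inr hi]
  -- gluing
  have hglue : ∀ (G : X.Modules) (g₀ : Γ(H G, U₀)) (g₁ : Γ(H G, U₁)),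
      rs (H G) (inf_le_left : U₀₁ ≤ U₀) g₀ = rs (H G) (inf_le_right : U₀₁ ≤ U₁) g₁ →
      ∃ φ : E ⟶ G, ∀ (y : X), (∀ h : y ∈ U₀, RefHull.stalkMapₗ φ y = g₀.1 ⟨y, h⟩) ∧
        (∀ h : y ∈ U₁, RefHull.stalkMapₗ φ y = g₁.1 ⟨y, h⟩) := by
    intro G g₀ g₁ h
    obtain ⟨t, ht⟩ := ZCl.glue (H G) (V := ⊤) (fun i : ULift.{u} (Fin 2) => U i) (fun _ => le_top)
      (fun x _ => hcov x) (fun i => match i with | ⟨0⟩ => g₀ | ⟨1⟩ => g₁) (by
        rintro ⟨i⟩ ⟨j⟩
        fin_cases i <;> fin_cases j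
        · rfl
        · exact h
        · refine Subtype.ext (funext fun y => ?_)
          exact (congrArg (fun z : Γ(H G, U₀₁) => z.1 ⟨y.1, y.2.2, y.2.1⟩) h).symm
        · rfl)
    obtain ⟨φ, hφ⟩ := RefStalk.exists_hom t
    refine ⟨φ, fun y => ⟨fun hy => ?_, fun hy => ?_⟩⟩
    · rw [hφ]; exact congrArg (fun z : Γ(H G, U₀) => z.1 ⟨y, hy⟩) (ht DefoLib.j₀)
    · rw [hφ]; exact congrArg (fun z : Γ(H G, U₁) => z.1 ⟨y, hy⟩) (ht DefoLib.j₁)
  have hA : ∀ a : A, ∃ f : E ⟶ Q, θQ U₀ f = hπ U₀ a.1.1 ∧ θQ U₁ f = hπ U₁ a.1.2 := fun a => by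
    have h0 : hπ U₀₁ (d a.1) = 0 := a.2
    have h1 : rs (H Q) inf_le_left (hπ U₀ a.1.1) = rs (H Q) inf_le_right (hπ U₁ a.1.2) := by
      rw [← hπrs, ← hπrs, ← sub_eq_zero, ← map_sub]
      exact h0
    obtain ⟨f, hf⟩ := hglue Q _ _ h1
    exact ⟨f, Subtype.ext (funext fun y => (hθQ U₀ f y).trans ((hf y.1).1 y.2)),
      Subtype.ext (funext fun y => (hθQ U₁ f y).trans ((hf y.1).2 y.2))⟩
  choose fA hfA₀ hfA₁ using hA
  have hθadd : ∀ W (f f' : E ⟶ Q), θQ W (f + f') = θQ W f + θQ W f' := fun W f f' => by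
    refine Subtype.ext (funext fun y => LinearMap.ext fun v => ?_)
    change (θQ W (f + f')).1 y v = (θQ W f).1 y v + (θQ W f').1 y v
    rw [hθQ, hθQ, hθQ]
    exact DefoSh.stalkMapₗ_add_apply _ _ _ v
  have hθext : ∀ f f' : E ⟶ Q, θQ U₀ f = θQ U₀ f' → θQ U₁ f = θQ U₁ f' → f = f' := fun f f' h0 h1 =>
    SerrePn.hom_ext_stalk fun y => by
      rcases hcov' y with hy | hy
      · rw [← hθQ U₀ f ⟨y, hy⟩, h0, hθQ]
      · rw [← hθQ U₁ f ⟨y, hy⟩, h1, hθQ]
  let p : A →+ Ext E E 1 := AddMonoidHom.mk' (fun a => (Ext.mk₀ (fA a)).comp hS.extClass (zero_add 1))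
    (fun a a' => by
      rw [← Ext.add_comp, ← Ext.mk₀_add]
      congr 2
      refine hθext _ _ ?_ ?_
      · rw [hθadd, hfA₀, hfA₀, hfA₀, ← map_add]; rfl
      · rw [hθadd, hfA₁, hfA₁, hfA₁, ← map_add]; rfl)
  obtain ⟨qC, hqC, hqker⟩ := DefoLib.exists_cechOne U (H E).presheaf
  choose kA hkA using fun a : A => hex (d a.1) a.2
  let q : A →+ ↑(CohB1.cechH U (RefHull.homSh E E) 1) := AddMonoidHom.mk' (fun a => qC (kA a)) (fun a a' => by
    refine (congrArg qC (hιinj _ ?_)).trans (map_add qC _ _)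
    rw [map_add, hkA, hkA, hkA, ← map_add]; rfl)
  refine nonempty_equiv p q (fun x => ?_) (fun x => ?_) (fun a => ?_)
  · obtain ⟨x₀, hx⟩ := Ext.covariant_sequence_exact₁ E hS x (Ext.eq_zero_of_injective _) rfl
    obtain ⟨f, rfl⟩ := (Ext.mk₀_bijective _ _).2 x₀
    obtain ⟨g₀, hg₀⟩ := hlift DefoLib.j₀ (θQ U₀ f)
    obtain ⟨g₁, hg₁⟩ := hlift DefoLib.j₁ (θQ U₁ f)
    have hmem : hπ U₀₁ (d (g₀, g₁)) = 0 := by
      change hπ U₀₁ (rs (H I) _ g₀ - rs (H I) _ g₁) = 0
      rw [map_sub, hπrs, hπrs, hg₀, hg₁, sub_eq_zero]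
      refine Subtype.ext (funext fun y => ?_)
      exact (hθQ U₀ f ⟨y.1, y.2.1⟩).trans (hθQ U₁ f ⟨y.1, y.2.2⟩).symm
    refine ⟨⟨(g₀, g₁), hmem⟩, ?_⟩
    change (Ext.mk₀ (fA _)).comp hS.extClass (zero_add 1) = x
    rw [hθext (fA _) f ((hfA₀ _).trans hg₀) ((hfA₁ _).trans hg₁)]
    exact hx
  · obtain ⟨k, rfl⟩ := hqC x
    obtain ⟨g₀, hg₀⟩ := rs_surjective (hU DefoLib.j₀) hE (inf_le_left : U₀₁ ≤ U₀) (b _) (hι U₀₁ k)
    have hd : d (g₀, 0) = hι U₀₁ k := by
      change rs (H I) _ g₀ - rs (H I) _ 0 = _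
      rw [map_zero, sub_zero, hg₀]
    refine ⟨⟨(g₀, 0), by change hπ U₀₁ (d (g₀, 0)) = 0; rw [hd, hιπ]⟩, ?_⟩
    change qC (kA _) = qC k
    exact congrArg qC (hιinj _ ((hkA _).trans hd))
  · change (Ext.mk₀ (fA a)).comp hS.extClass (zero_add 1) = 0 ↔ qC (kA a) = 0
    rw [hqker]
    constructor
    · intro h
      obtain ⟨x₂, hx₂⟩ := Ext.covariant_sequence_exact₃ E hS (Ext.mk₀ (fA a)) rfl h
      obtain ⟨g, rfl⟩ := (Ext.mk₀_bijective _ _).2 x₂
      rw [Ext.mk₀_comp_mk₀] at hx₂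
      have hg : g ≫ π = fA a := (Ext.mk₀_bijective _ _).1 hx₂
      have hk : ∀ (i : ULift.{u} (Fin 2)) (gi : Γ(H I, U i)), θQ (U i) (fA a) = hπ (U i) gi →
          ∃ s, hι (U i) s = gi - θI (U i) g := by
        intro i gi hgi
        refine exists_lift ι (hU i) hE le_rfl (b i) _ fun n ⟨j, hn⟩ => hexι _ n ?_
        refine RefStalk.germ_ext fun y hy => ?_
        rw [map_zero, ← RefHull.stalkMapₗ_germ π y hy n]
        refine (congrArg (RefHull.stalkMapₗ π y) (hn y hy)).trans ?_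
        change RefHull.stalkMapₗ π y (gi.1 ⟨y, hy⟩ _ - (θI (U i) g).1 ⟨y, hy⟩ _) = 0
        have h1 := congrArg (fun z : Γ(H Q, U i) => z.1 ⟨y, hy⟩) hgi
        dsimp only at h1
        rw [hθQ, ← hg] at h1
        rw [map_sub, hθI, sub_eq_zero, ← DefoSh.stalkMapₗ_comp_apply]
        exact (LinearMap.congr_fun h1 _).symm
      obtain ⟨s, hs⟩ := hk DefoLib.j₀ a.1.1 (hfA₀ a)
      obtain ⟨t, ht⟩ := hk DefoLib.j₁ a.1.2 (hfA₁ a)
      refine ⟨s, t, hιinj U₀₁ ?_⟩
      rw [map_sub, hkA]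
      change hι U₀₁ (rs (H E) _ s) - hι U₀₁ (rs (H E) _ t) = rs (H I) _ a.1.1 - rs (H I) _ a.1.2
      rw [hιrs, hιrs, hs, ht, map_sub, map_sub]
      have : rs (H I) (inf_le_left : U₀₁ ≤ U₀) (θI U₀ g) = rs (H I) (inf_le_right : U₀₁ ≤ U₁) (θI U₁ g) :=
        Subtype.ext (funext fun y => (hθI U₀ g ⟨y.1, y.2.1⟩).trans (hθI U₁ g ⟨y.1, y.2.2⟩).symm)
      rw [this]
      abel
    · rintro ⟨s, t, hst⟩
      have h1 : rs (H I) (inf_le_left : U₀₁ ≤ U₀) (a.1.1 - hι U₀ s) =
          rs (H I) (inf_le_right : U₀₁ ≤ U₁) (a.1.2 - hι U₁ t) := by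
        have h2 := hkA a
        rw [← hst] at h2
        change hι U₀₁ (rs (H E) _ s - rs (H E) _ t) = rs (H I) _ a.1.1 - rs (H I) _ a.1.2 at h2
        rw [map_sub, hιrs, hιrs] at h2
        rw [map_sub, map_sub, sub_eq_sub_iff_sub_eq_sub]
        exact h2.symm
      obtain ⟨g, hg⟩ := hglue I _ _ h1
      have hgf : g ≫ π = fA a := by
        refine hθext _ _ ?_ ?_
        · rw [hfA₀, ← sub_zero (hπ U₀ a.1.1), ← hιπ U₀ s, ← map_sub]
          refine Subtype.ext (funext fun y => LinearMap.ext fun v => ?_)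
          rw [hθQ, DefoSh.stalkMapₗ_comp_apply, (hg y.1).1 y.2]
          rfl
        · rw [hfA₁, ← sub_zero (hπ U₁ a.1.2), ← hιπ U₁ t, ← map_sub]
          refine Subtype.ext (funext fun y => LinearMap.ext fun v => ?_)
          rw [hθQ, DefoSh.stalkMapₗ_comp_apply, (hg y.1).2 y.2]
          rfl
      rw [← hgf, ← Ext.mk₀_comp_mk₀, Ext.comp_assoc _ _ _ (zero_add 0) (zero_add 1) (by omega),
        hS.comp_extClass, Ext.comp_zero]

end Groth.Agent.S17438

namespace Groth.Agent.S17438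


/-- Let k be a field, X a scheme over k, U₀ and U₁ two affine opens covering X, and E an O_X-module free
of the same finite rank n on U₀ and on U₁ (a vector bundle given by one transition matrix). Then the
isomorphism classes of deformations of E over the dual numbers k[ε] (O_X-modules with a k[ε]-action,
flat stalkwise, with reduction identified with E) are in bijection with the first Čech cohomology
group of the cover (U₀, U₁) with coefficients in the sheaf End(E), by a bijection taking the class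
of the trivial deformation E ⊕ εE to 0 (existence of such a bijection only: the cocycle attached to
a deformation depends on chosen trivializations over U₀ and U₁). The assertion on deformations with
fixed determinant is not stated. The published statement is for a curve and uses the sheaf
cohomology H¹(C, End(E)); this row takes any scheme over k covered by two affine opens on which E is
free, as the printed proof uses, and the Čech cohomology of that cover. -/
theorem result (k : Type u) [Field k] (X : Scheme.{u})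
    [X.Over (Spec (CommRingCat.of k))] (U : ULift.{u} (Fin 2) → X.Opens)
    (hU : ∀ i, IsAffineOpen (U i)) (hcov : ⨆ i, U i = ⊤) (E : X.Modules) (n : ℕ)
    (hfree : ∀ i, Nonempty (E.restrict (U i).ι ≅ FlatMod.freeMod ↑(U i) n)) :
    ∃ e : DefoSh.FirstOrder k E ≃ ↑(CohB1.cechH U (RefHull.homSh E E) 1),
      e (DefoSh.Defo.trivDual k E).cl = 0 := by
  haveI : HasExt.{u + 1} X.Modules := HasExt.standard _
  have hcov' : ∀ x, ∃ i, x ∈ U i := fun x => TopologicalSpace.Opens.mem_iSup.1 (by rw [hcov]; trivial)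
  have hfl : FlatMod.IsFinLocFree E := fun x => by
    obtain ⟨i, hi⟩ := hcov' x
    exact ⟨U i, n, hi, hfree i⟩
  haveI : CategoryTheory.EnoughInjectives X.Modules := inferInstance
  haveI : HasExt.{u} X.Modules := inferInstance
  obtain ⟨e, he, -⟩ := Groth.Agent.S17435.exists_equiv k X E
  obtain ⟨e'⟩ := nonempty_ext_equiv_cech U hU hcov' E (Groth.Agent.LocFree.isQCoh_of_isFinLocFree hfl) fun i => by
    obtain ⟨f⟩ := hfree i
    exact (Groth.Agent.LocFree.free_sections_of_le f (hU i) le_rfl).1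
  exact ⟨e.trans e'.toEquiv, by simp [he]⟩

end Groth.Agent.S17438
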