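import Groth.Statements.S17439
-- import your own Groth.Agent.* helpers here

set_option autoImplicit false
set_option backward.isDefEq.respectTransparency false
set_option linter.style.haveILetI false
universe u
open CategoryTheory AlgebraicGeometry
open DefoSh CategoryTheory.Limits

namespace Groth.Agent.S17439

open CategoryTheory CategoryTheory.Limits AlgebraicGeometry Opposite

section
variable {X : Scheme.{u}} {M M' N P : X.Modules}

/-- A morphism out of a tensor product is determined by its values on pure tensors. -/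
theorem hom_ext_tmul {φ ψ : CohB1.tensorMod M N ⟶ P}
    (h : ∀ (U : X.Opens) (m : Γ(M, U)) (n : Γ(N, U)),
      φ.app U (SecTwist.tmul M N U m n) = ψ.app U (SecTwist.tmul M N U m n)) : φ = ψ := by
  refine ((PresheafOfModules.sheafificationAdjunction.{u, u, u, u}
    (J := Opens.grothendieckTopology X) (𝟙 X.ringCatSheaf.obj)).homEquiv _ _).injective ?_
  refine PresheafOfModules.hom_ext fun U => ModuleCat.MonoidalCategory.tensor_ext fun m n => ?_
  exact h U.unop m n

theorem tmul_add_left (U : X.Opens) (m m' : Γ(M, U)) (n : Γ(N, U)) :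
    SecTwist.tmul M N U (m + m') n = SecTwist.tmul M N U m n + SecTwist.tmul M N U m' n := by
  simp only [SecTwist.tmul, TensorProduct.add_tmul, map_add]

theorem tmul_smul_left (U : X.Opens) (t : Γ(X, U)) (m : Γ(M, U)) (n : Γ(N, U)) :
    SecTwist.tmul M N U (t • m) n = t • SecTwist.tmul M N U m n :=
  LinearMap.map_smul ((SecTwist.toTensor M N).app (op U)).hom t (m ⊗ₜ n)

theorem tensorMap_add (f g : M ⟶ M') :
    KoszTw.tensorMap (f + g) (𝟙 N) = KoszTw.tensorMap f (𝟙 N) + KoszTw.tensorMap g (𝟙 N) := by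
  refine hom_ext_tmul fun U m n => ?_
  change _ = (KoszTw.tensorMap f (𝟙 N)).app U _ + (KoszTw.tensorMap g (𝟙 N)).app U _
  rw [KoszTw.tensorMap_tmul, KoszTw.tensorMap_tmul, KoszTw.tensorMap_tmul, ← tmul_add_left]
  rfl

variable {k : Type u} [Field k] [X.Over (Spec (CommRingCat.of k))]

theorem tensorMap_smul (c : k) (f : M ⟶ M') :
    KoszTw.tensorMap (c • f) (𝟙 N) = c • KoszTw.tensorMap f (𝟙 N) := by
  refine hom_ext_tmul fun U m n => ?_
  rw [KLin.smul_app_apply, KoszTw.tensorMap_tmul, KoszTw.tensorMap_tmul, KLin.smul_app_apply, tmul_smul_left]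

theorem tmul_zero_right (U : X.Opens) (m : Γ(M, U)) : SecTwist.tmul M N U m 0 = 0 := by
  simp only [SecTwist.tmul, TensorProduct.tmul_zero]
  exact map_zero _

end

section
variable {k : Type u} [Field k] {X : Scheme.{u}} [X.Over (Spec (CommRingCat.of k))] {Ω' : X.Modules}
  {M M' : X.Modules} {c : Coh.toAb M ⟶ Coh.toAb (CohB1.tensorMod M Ω')}
  {c' : Coh.toAb M' ⟶ Coh.toAb (CohB1.tensorMod M' Ω')}

theorem isHorizontal_add {φ ψ : M ⟶ M'} (h₁ : ConnSh.IsHorizontal c c' φ) (h₂ : ConnSh.IsHorizontal c c' ψ) :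
    ConnSh.IsHorizontal c c' (φ + ψ) := fun U e => by
  rw [tensorMap_add]
  change ConnSh.secApp c' U (φ.app U e + ψ.app U e) =
    (KoszTw.tensorMap φ (𝟙 Ω')).app U _ + (KoszTw.tensorMap ψ (𝟙 Ω')).app U _
  rw [← h₁ U e, ← h₂ U e]
  exact map_add _ _ _

theorem isHorizontal_smul (δ : OmegaSh.Der (X ↘ Spec (CommRingCat.of k)) Ω') (hc' : ConnSh.IsConn δ M' c') (a : k)
    {φ : M ⟶ M'} (h₁ : ConnSh.IsHorizontal c c' φ) : ConnSh.IsHorizontal c c' (a • φ) := fun U e => by
  rw [tensorMap_smul, KLin.smul_app_apply, KLin.smul_app_apply, hc' U, ← h₁ U e]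
  have : δ.app U (X.presheaf.map (homOfLE (le_top : U ≤ ⊤)).op (Coh.toGlobal (X ↘ Spec (CommRingCat.of k)) a)) = 0 :=
    by
      have h := δ.d_map (homOfLE (le_top : U ≤ ⊤)).op (Coh.toGlobal (X ↘ Spec (CommRingCat.of k)) a)
      refine h.trans ?_
      erw [δ.d_app (X := op ⊤) ((Scheme.ΓSpecIso (CommRingCat.of k)).inv a), map_zero]
  rw [this, tmul_zero_right, add_zero]

end

end Groth.Agent.S17439

namespace Groth.Agent.S17439


/-- Let k be a field, X a scheme over k with a receptacle of differentials (Ω′, δ) over k, Ω′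
quasi-coherent, and E a finite locally free O_X-module with a connection ∇ : E → E ⊗ Ω′. Then ∇ has
at least one deformation over the trivial first-order deformation E ⊕ εE of E (a connection on E ⊕
εE commuting with k[ε] and reducing to ∇), so the set of deformations of ∇ over the trivial
deformation (the set that corresponds to H⁰(End(E) ⊗ Ω′)) is not empty. The published statement is
for a curve with its sheaf of differentials; this row takes any scheme over k with any
quasi-coherent receptacle of differentials, which the printed computation does not use. -/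
theorem result (k : Type u) [Field k] (X : Scheme.{u})
    [X.Over (Spec (CommRingCat.of k))] (Ω' : X.Modules) (δ : OmegaSh.Der (X ↘ Spec (CommRingCat.of k)) Ω')
    (hΩ' : Coh.IsQCoh Ω') (E : X.Modules) (hE : FlatMod.IsFinLocFree E)
    (nabla : Coh.toAb E ⟶ Coh.toAb (CohB1.tensorMod E Ω')) (hn : ConnSh.IsConn δ E nabla) :
    Nonempty (DefoSh.DefoConn δ nabla (DefoSh.Defo.trivDual k E)) := by
  let F := SheafOfModules.toSheaf X.ringCatSheaf
  let i₁ : Coh.toAb E ⟶ Coh.toAb (E ⊞ E) := F.map (biprod.inl : E ⟶ E ⊞ E)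
  let conn : Coh.toAb (E ⊞ E) ⟶ Coh.toAb (CohB1.tensorMod (E ⊞ E) Ω') :=
    F.map (biprod.fst : E ⊞ E ⟶ E) ≫ nabla ≫ F.map (KoszTw.tensorMap (biprod.inl : E ⟶ E ⊞ E) (𝟙 Ω')) +
    F.map (biprod.snd : E ⊞ E ⟶ E) ≫ nabla ≫ F.map (KoszTw.tensorMap (biprod.inr : E ⟶ E ⊞ E) (𝟙 Ω'))
  have hval : ∀ (U : X.Opens) (e : (E ⊞ E).val.obj (Opposite.op U)), ConnSh.secApp conn U e =
      (KoszTw.tensorMap (biprod.inl : E ⟶ E ⊞ E) (𝟙 Ω')).app U (ConnSh.secApp nabla U ((biprod.fst : E ⊞ E ⟶ E).app U e)) +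
      (KoszTw.tensorMap (biprod.inr : E ⟶ E ⊞ E) (𝟙 Ω')).app U (ConnSh.secApp nabla U ((biprod.snd : E ⊞ E ⟶ E).app U e)) :=
    fun U e => rfl
  have hc : ConnSh.IsConn δ (E ⊞ E) conn := fun U t e => by
    have htot : (biprod.inl : E ⟶ E ⊞ E).app U ((biprod.fst : E ⊞ E ⟶ E).app U e) +
        (biprod.inr : E ⟶ E ⊞ E).app U ((biprod.snd : E ⊞ E ⟶ E).app U e) = e :=
      congrArg (fun ψ : E ⊞ E ⟶ E ⊞ E => ψ.app U e) biprod.total
    rw [hval, hval, Scheme.Modules.Hom.app_smul, Scheme.Modules.Hom.app_smul, hn U, hn U]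
    conv_rhs => enter [2]; rw [← htot, tmul_add_left]
    simp only [map_add, Scheme.Modules.Hom.app_smul, KoszTw.tensorMap_tmul, smul_add]
    erw [Scheme.Modules.Hom.app_smul, Scheme.Modules.Hom.app_smul]
    simp only [Scheme.Modules.Hom.id_app, AddCommGrpCat.hom_id, AddMonoidHom.id_apply, ConcreteCategory.id_apply]
    abel
  have hπ : ConnSh.IsHorizontal conn nabla (biprod.fst : E ⊞ E ⟶ E) := fun U e => by
    rw [hval, map_add]
    have h1 : ∀ (φ : E ⟶ E ⊞ E) (y), (KoszTw.tensorMap (biprod.fst : E ⊞ E ⟶ E) (𝟙 Ω')).app U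
        ((KoszTw.tensorMap φ (𝟙 Ω')).app U y) = (KoszTw.tensorMap (φ ≫ biprod.fst) (𝟙 Ω')).app U y := fun φ y => by
      rw [← Category.comp_id (𝟙 Ω'), KoszTw.tensorMap_comp]
      simp
    rw [h1, h1, biprod.inl_fst, biprod.inr_fst, KoszTw.tensorMap_id]
    have h0 : KoszTw.tensorMap (0 : E ⟶ E) (𝟙 Ω') = 0 := by
      have := tensorMap_add (N := Ω') (0 : E ⟶ E) 0
      rw [add_zero] at this
      exact left_eq_add.1 this
    rw [h0]
    simp
  have hinr : ConnSh.IsHorizontal nabla conn (biprod.inr : E ⟶ E ⊞ E) := fun U e => by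
    rw [hval]
    have h1 : (biprod.fst : E ⊞ E ⟶ E).app U ((biprod.inr : E ⟶ E ⊞ E).app U e) = 0 :=
      congrArg (fun ψ : E ⟶ E => ψ.app U e) biprod.inr_fst
    have h2 : (biprod.snd : E ⊞ E ⟶ E).app U ((biprod.inr : E ⟶ E ⊞ E).app U e) = e :=
      congrArg (fun ψ : E ⟶ E => ψ.app U e) biprod.inr_snd
    rw [h1, h2]
    simp
  refine ⟨⟨conn, hc, fun a => ?_, hπ⟩⟩
  rw [show (DefoSh.Defo.trivDual k E).act a = DefoSh.dualAct k E a from rfl]
  rw [DefoSh.dualAct_hom]
  exact isHorizontal_add (isHorizontal_smul δ hc _ (DefoSh.isHorizontal_id conn))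
    (isHorizontal_smul δ hc _ (DefoSh.isHorizontal_comp hπ hinr))

end Groth.Agent.S17439
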