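import Groth.Statements.S17441
import Groth.Agent.ZCl.Basic
import Groth.Agent.ArtFlat.Basic
import Mathlib.RingTheory.Smooth.Quotient
-- import your own Groth.Agent.* helpers here

set_option autoImplicit false
universe u
open CategoryTheory AlgebraicGeometry
open DefoSh

namespace Groth.Agent.S17441

/-- Let k be a field, X a scheme over k, E an O_X-module and A a local Artinian k-algebra with residue
field k. If D and D′ are deformations of E over A (O_X-modules with an action of A, flat over A
stalkwise, with reductions π, π′ to E whose stalkwise kernels are m_A times the stalk), then every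
O_X-linear map φ : D.sheaf → D′.sheaf that commutes with the actions of A and satisfies φ ≫ π′ = π
is an isomorphism. The printed remark is the first-order case A = k[ε]; this row states it for every
local Artinian k-algebra A with residue field k. -/
theorem result (k : Type u) [Field k] (X : Scheme.{u})
    [X.Over (Spec (CommRingCat.of k))] (E : X.Modules) (A : ArtFun.Art k k)
    (D D' : DefoSh.Defo E A) (φ : D.sheaf ⟶ D'.sheaf)
    (hact : ∀ a : A, D.act a ≫ φ = φ ≫ D'.act a) (hπ : φ ≫ D'.π = D.π) :
    IsIso φ := by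
  refine Groth.Agent.ZCl.isIso_of_stalk φ fun p => ?_
  letI := DefoSh.stalkModule D.sheaf D.act.toRingHom p
  letI := DefoSh.stalkModule D'.sheaf D'.act.toRingHom p
  let m := IsLocalRing.maximalIdeal A
  let f : ↑(D.sheaf.presheaf.stalk p) →ₗ[A] ↑(D'.sheaf.presheaf.stalk p) :=
    { toFun := RefHull.stalkMapₗ φ p
      map_add' := fun v w => map_add _ v w
      map_smul' := fun a v => by
        show RefHull.stalkMapₗ φ p (RefHull.stalkMapₗ (D.act a) p v) =
          RefHull.stalkMapₗ (D'.act a) p (RefHull.stalkMapₗ φ p v)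
        rw [← DefoSh.stalkMapₗ_comp_apply, ← DefoSh.stalkMapₗ_comp_apply, hact a] }
  have hker : ∀ v, f v = 0 → v ∈ m • (⊤ : Submodule A ↑(D.sheaf.presheaf.stalk p)) := fun v hv => by
    apply D.ker_le p v
    rw [← hπ, DefoSh.stalkMapₗ_comp_apply]
    show RefHull.stalkMapₗ D'.π p (f v) = 0
    rw [hv, map_zero]
  have hsurj1 : ∀ w, ∃ v, f v - w ∈ m • (⊤ : Submodule A ↑(D'.sheaf.presheaf.stalk p)) := fun w => by
    obtain ⟨v, hv⟩ := D.surj p (RefHull.stalkMapₗ D'.π p w)
    refine ⟨v, D'.ker_le p _ ?_⟩
    rw [map_sub, ← hv]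
    show RefHull.stalkMapₗ D'.π p (RefHull.stalkMapₗ φ p v) - _ = 0
    rw [← DefoSh.stalkMapₗ_comp_apply, hπ, sub_self]
  obtain ⟨n, hn⟩ := Groth.Agent.ArtFlat.isNilpotent_maximalIdeal (A := A)
  have hnak : ∀ (M : Type u) [AddCommGroup M] [Module A M] (N : Submodule A M),
      (⊤ : Submodule A M) ≤ N ⊔ m • ⊤ → N = ⊤ := by
    intro M _ _ N hN
    have h : ∀ k : ℕ, (⊤ : Submodule A M) ≤ N ⊔ m ^ k • ⊤ := by
      intro k
      induction k with
      | zero => rw [pow_zero, one_smul]; exact le_sup_right
      | succ k ih =>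
        refine ih.trans (sup_le le_sup_left ?_)
        refine (Submodule.smul_mono le_rfl hN).trans ?_
        rw [Submodule.smul_sup, ← Submodule.mul_smul, ← pow_succ]
        exact sup_le (le_sup_of_le_left Submodule.smul_le_right) le_sup_right
    have := h n
    rwa [hn, Ideal.zero_eq_bot, Submodule.bot_smul, sup_bot_eq, top_le_iff] at this
  have hs : Function.Surjective f := by
    rw [← LinearMap.range_eq_top]
    refine hnak _ _ fun w _ => ?_
    obtain ⟨v, hv⟩ := hsurj1 w
    rw [show w = f v - (f v - w) by abel]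
    exact sub_mem (Submodule.mem_sup_left ⟨v, rfl⟩) (Submodule.mem_sup_right hv)
  haveI : Module.Flat A ↑(D'.sheaf.presheaf.stalk p) := D'.flat p
  have hi : Function.Injective f := by
    have e : f.ker = m • f.ker := by
      rw [← LinearMap.ker_inf_smul_top_eq_smul_of_flat m f hs, eq_comm, inf_eq_left]
      exact fun v hv => hker v hv
    have hk : ∀ k : ℕ, f.ker = m ^ k • f.ker := by
      intro k
      induction k with
      | zero => rw [pow_zero, one_smul]
      | succ k ih => rw [pow_succ, Submodule.mul_smul, ← e, ← ih]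
    rw [← LinearMap.ker_eq_bot, hk n, hn, Ideal.zero_eq_bot, Submodule.bot_smul]
  exact ⟨hi, hs⟩

end Groth.Agent.S17441
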