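import Groth.Statements.S17442
import Groth.Agent.AgSymm.PoincarePow

set_option autoImplicit false
universe u
open CategoryTheory CategoryTheory.Limits MonoidalCategory CartesianMonoidalCategory MonObj GrpObj AlgebraicGeometry
open AbVar

attribute [local instance] Groth.Agent.W7Cube.law
namespace Groth.Agent.S17442

/-- Let k be a field, A an abelian variety over k (a proper smooth k-group scheme with geometrically
connected fibres), (A^t, φ) a given dual abelian variety of A for the fppf topology with A^t itself
an abelian variety, and P an invertible module on A ×_k A^t whose class is a Poincaré class (it lies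
in Pic⁰ fibrewise over A^t, corresponds to the identity of A^t under φ, and is rigidified along the
unit section of A). For a natural number n write [n] for the n-th power of the identity in the group
of endomorphisms of A, resp. of A^t. Then the pull back of P along id_A × [n] and the pull back of P
along [n] × id_{A^t} both have the same isomorphism class as the n-th tensor power of P. (The
published statement covers every integer n; only n ≥ 0 is stated here.) -/
theorem result (k : Type u) [Field k]
    (A At : Over (Spec (CommRingCat.of k))) [GrpObj A] [IsProper A.hom] [Smooth A.hom] [GeometricallyConnected A.hom]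
    [GrpObj At] [IsProper At.hom] [Smooth At.hom] [GeometricallyConnected At.hom]
    (φ : ∀ T : Over (Spec (CommRingCat.of k)), PicF.Cl (PicF.XT A.hom T) → (T ⟶ At))
    (hφ : AbDual.IsDualAV Scheme.fppfPrecoverage A At φ)
    (P : (PicF.XT A.hom At).Modules) (hP : PicF.IsInvertible P)
    (hξ : AbDual.IsPoincareCl A At φ (PicF.cl P)) (n : ℕ) :
    PicF.cl ((Scheme.Modules.pullback (PicF.XTmap A.hom (𝟙 At ^ n))).obj P) = PicF.cl (CohB1.tensorPow P n) ∧
      PicF.cl ((Scheme.Modules.pullback (AbDual.bcMap (𝟙 A ^ n) At)).obj P) = PicF.cl (CohB1.tensorPow P n) := by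
  obtain ⟨X, hX⟩ := Groth.Agent.AgSymm.exists_poincare hξ
  have hx : X.x = PicGrp.cls P hP := Subtype.ext hX
  constructor
  · refine congrArg Subtype.val (?_ : PicGrp.cls _ (PicLoc.isInvertible_pullback _ hP) = PicGrp.cls _ (TMul.isInvertible_tensorPow hP n))
    have h := X.pull_pow_right hφ n
    rw [hx, Groth.Agent.W7Cube.pull_cls] at h
    exact h.trans (Groth.Agent.AgSymm.cls_tensorPow hP n)
  · refine congrArg Subtype.val (?_ : PicGrp.cls _ (PicLoc.isInvertible_pullback _ hP) = PicGrp.cls _ (TMul.isInvertible_tensorPow hP n))
    have h := X.pull_pow_left n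
    rw [hx, Groth.Agent.W7Cube.pull_cls] at h
    exact h.trans (Groth.Agent.AgSymm.cls_tensorPow hP n)

end Groth.Agent.S17442
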