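import Groth.Statements.S17444
import Mathlib

set_option autoImplicit false
universe u v
open SSRed

namespace Groth.Agent.S17444

/-- Let K be a field of characteristic zero, V a K-vector space and g a K-linear endomorphism of V such
that g - 1 is nilpotent (a unipotent automorphism). Then for every integer n > 0 the endomorphisms
gⁿ - 1 and g - 1 have the same kernel: a vector fixed by gⁿ is fixed by g. (The published statement
assumes V finite-dimensional; this row allows any V.) -/
theorem result (K : Type u) (V : Type v) [Field K] [CharZero K]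
    [AddCommGroup V] [Module K V] (g : Module.End K V) (hg : IsNilpotent (g - 1)) (n : ℕ) (hn : 0 < n) :
    LinearMap.ker (g ^ n - 1) = LinearMap.ker (g - 1) := by
  have hg1 : ∀ i : ℕ, ∃ b : Module.End K V, Commute (g - 1) b ∧ g ^ i - 1 = (g - 1) * b := fun i =>
    ⟨∑ j ∈ Finset.range i, g ^ j,
      Commute.sum_right _ _ _ fun j _ => ((Commute.refl g).pow_right j).sub_left (Commute.one_left _),
      (mul_geom_sum g i).symm⟩
  let h : Module.End K V := ∑ i ∈ Finset.range n, g ^ i
  choose b hbc hb using hg1
  have hh : h = (n : Module.End K V) + (g - 1) * ∑ i ∈ Finset.range n, b i := by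
    rw [Finset.mul_sum, ← Finset.sum_congr rfl (fun i _ => hb i), Finset.sum_sub_distrib]
    simp [h]
  have hnil : IsNilpotent ((g - 1) * ∑ i ∈ Finset.range n, b i) :=
    (Commute.sum_right _ _ _ fun i _ => hbc i).isNilpotent_mul_right hg
  have hn' : IsUnit (n : Module.End K V) := by
    have : (n : Module.End K V) = algebraMap K (Module.End K V) n := (map_natCast _ n).symm
    rw [this]
    exact (IsUnit.mk0 (n : K) (by exact_mod_cast hn.ne')).map _
  have hu : IsUnit h := by
    rw [hh]
    exact hnil.isUnit_add_left_of_commute hn' (Nat.cast_commute n _).symm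
  have hgh : g ^ n - 1 = h * (g - 1) := (geom_sum_mul g n).symm
  ext v
  rw [LinearMap.mem_ker, LinearMap.mem_ker, hgh, Module.End.mul_apply]
  refine ⟨fun h0 => ?_, fun h0 => by rw [h0, map_zero]⟩
  exact ((Module.End.isUnit_iff h).mp hu).1 (h0.trans (map_zero h).symm)

end Groth.Agent.S17444
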