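import Groth.Statements.S17446
import Mathlib.LinearAlgebra.FiniteDimensional.Basic
import Mathlib.Algebra.BigOperators.Fin
-- import your own Groth.Agent.* helpers here

set_option autoImplicit false
universe u v
open SSRed

namespace Groth.Agent.S17446

theorem aux {K : Type u} {V : Type v} [Field K] [AddCommGroup V] [Module K V] {ι : Type v}
    (n : ℕ) (N : ℕ → Submodule K V) (hN0 : N 0 = ⊥) (hmono : ∀ i, N i ≤ N (i + 1))
    (d e : ι → Module.End K V) (he : ∀ x i, ∀ w ∈ N i, e x w ∈ N i)
    (hde : ∀ x i, ∀ w ∈ N (i + 1), d x w - e x w ∈ N i)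
    (hn : ∀ f : Fin n → ι, (List.ofFn fun j => e (f j)).prod = 0) :
    ∀ (m : ℕ) (f : Fin (m * n) → ι) (v : V), v ∈ N m →
      (List.ofFn fun j => d (f j)).prod v = 0 := by
  have hd : ∀ x i, ∀ w ∈ N i, d x w ∈ N i := by
    intro x i w hw
    cases i with
    | zero =>
      have : w = 0 := by simpa [hN0] using hw
      simp [this]
    | succ i => simpa using add_mem (hmono i (hde x i w hw)) (he x _ w hw)
  have hel : ∀ (l : List ι) i, ∀ w ∈ N i, (l.map e).prod w ∈ N i := by
    intro l i w hw
    induction l with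
    | nil => simpa using hw
    | cons y l ih => simpa [Module.End.mul_apply] using he y i _ ih
  have key : ∀ (l : List ι) i, ∀ w ∈ N (i + 1),
      (l.map d).prod w - (l.map e).prod w ∈ N i := by
    intro l i w hw
    induction l with
    | nil => simp
    | cons y l ih =>
      have h1 := hd y i _ ih
      have h2 := hde y i _ (hel l _ w hw)
      have := add_mem h1 h2
      simpa [Module.End.mul_apply, map_sub] using this
  have main : ∀ m (l : List ι), l.length = m * n → ∀ v ∈ N m, (l.map d).prod v = 0 := by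
    intro m
    induction m with
    | zero =>
      intro l _ v hv
      have : v = 0 := by simpa [hN0] using hv
      simp [this]
    | succ m ih =>
      intro l hl v hv
      rw [← List.take_append_drop (m * n) l, List.map_append, List.prod_append,
        Module.End.mul_apply]
      refine ih _ (by simp [hl, Nat.succ_mul]) _ ?_
      have hk := key (l.drop (m * n)) m v hv
      have hlen : (l.drop (m * n)).length = n := by simp [hl, Nat.succ_mul]
      generalize l.drop (m * n) = L at hk hlen
      subst hlen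
      have := hn L.get
      rw [List.ofFn_comp' L.get e, List.ofFn_get] at this
      rwa [this, LinearMap.zero_apply, sub_zero] at hk
  intro m f v hv
  have := main m (List.ofFn f) (by simp) v hv
  rwa [List.map_ofFn] at this

/-- Let K be a field, V a finite-dimensional K-vector space and H₁, H₂ subgroups of the group of
K-linear automorphisms of V such that H₂ normalizes H₁. Call the action of a subgroup H unipotent
when, for some n, every product (h₁ - 1)(h₂ - 1)⋯(hₙ - 1) with all hᵢ in H is the zero endomorphism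
(equivalently, V has an H-stable flag on whose successive quotients H acts trivially). If H₁ and H₂
act unipotently, then the subgroup generated by H₁ and H₂ acts unipotently. (In the published result
H₁ and H₂ are the absolute Galois groups of two finite Galois extensions of a strictly henselian
discretely valued field over which an abelian variety becomes semistable, acting on its rational
ℓ-adic Tate module, and the conclusion is semistability over the intersection of the two fields; the
printed argument uses only that H₂ normalizes H₁.) -/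
theorem result (K : Type u) (V : Type v) [Field K]
    [AddCommGroup V] [Module K V] [FiniteDimensional K V]
    (H₁ H₂ : Subgroup (V ≃ₗ[K] V)) (hnorm : ∀ g ∈ H₂, ∀ h ∈ H₁, g * h * g⁻¹ ∈ H₁)
    (h₁ : ∃ n : ℕ, ∀ f : Fin n → ↥H₁,
      (List.ofFn fun i => (((f i : ↥H₁) : V ≃ₗ[K] V) : Module.End K V) - 1).prod = 0)
    (h₂ : ∃ n : ℕ, ∀ f : Fin n → ↥H₂,
      (List.ofFn fun i => (((f i : ↥H₂) : V ≃ₗ[K] V) : Module.End K V) - 1).prod = 0) :
    ∃ n : ℕ, ∀ f : Fin n → ↥(H₁ ⊔ H₂),
      (List.ofFn fun i => (((f i : ↥(H₁ ⊔ H₂)) : V ≃ₗ[K] V) : Module.End K V) - 1).prod = 0 := by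
  classical
  obtain ⟨n₁, hn₁⟩ := h₁
  obtain ⟨n₂, hn₂⟩ := h₂
  -- the flag attached to `H₁`
  let N : ℕ → Submodule K V := fun i => Nat.rec (⊥ : Submodule K V)
    (fun _ W => ⨅ h : ↥H₁, W.comap (((h : V ≃ₗ[K] V) : Module.End K V) - 1)) i
  have hN : ∀ i v, v ∈ N (i + 1) ↔ ∀ h : ↥H₁, (((h : V ≃ₗ[K] V) : Module.End K V) - 1) v ∈ N i := by
    intro i v
    simp [N, Submodule.mem_iInf]
  have hprod : ∀ (i : ℕ) (v : V),
      (∀ f : Fin i → ↥H₁, (List.ofFn fun j =>
        (((f j : ↥H₁) : V ≃ₗ[K] V) : Module.End K V) - 1).prod v = 0) → v ∈ N i := by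
    intro i
    induction i with
    | zero => intro v hv; simpa [N] using hv ![]
    | succ i ih =>
      intro v hv
      rw [hN]
      intro h
      refine ih _ fun f => ?_
      have := hv (Fin.snoc f h)
      rw [List.ofFn_succ', List.prod_concat] at this
      simpa using this
  have htop : ∀ v, v ∈ N n₁ := fun v => hprod n₁ v fun f => by rw [hn₁ f]; rfl
  have hH₁ : ∀ h ∈ H₁, ∀ i, ∀ v ∈ N (i + 1), h v - v ∈ N i := by
    intro h hh i v hv
    simpa using (hN i v).1 hv ⟨h, hh⟩
  have hst₂ : ∀ g ∈ H₂, ∀ i, ∀ v ∈ N i, g v ∈ N i := by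
    intro g hg i
    induction i with
    | zero => intro v hv; have : v = 0 := by simpa [N] using hv
              simp [this]
    | succ i ih =>
      intro v hv
      rw [hN]
      intro h
      have hh : g⁻¹ * (h : V ≃ₗ[K] V) * g ∈ H₁ := by
        have := hnorm g⁻¹ (inv_mem hg) h h.2
        rwa [inv_inv] at this
      have := ih _ (hH₁ _ hh i v hv)
      have e : g ((g⁻¹ * (h : V ≃ₗ[K] V) * g) v - v) = (h : V ≃ₗ[K] V) (g v) - g v := by
        simp [map_sub, LinearEquiv.mul_apply, LinearEquiv.coe_inv]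
      rw [e] at this
      simpa using this
  have hle : H₂ ≤ Subgroup.normalizer (H₁ : Set (V ≃ₗ[K] V)) := by
    intro g hg
    rw [Subgroup.mem_normalizer_iff]
    intro h
    refine ⟨hnorm g hg h, fun hh => ?_⟩
    have := hnorm g⁻¹ (inv_mem hg) _ hh
    simpa [mul_assoc] using this
  have hdec : ∀ x : ↥(H₁ ⊔ H₂), ∃ h : ↥H₁, ∃ g : ↥H₂, (x : V ≃ₗ[K] V) = h * g := by
    intro x
    have hx : (x : V ≃ₗ[K] V) ∈ ((H₁ ⊔ H₂ : Subgroup (V ≃ₗ[K] V)) : Set (V ≃ₗ[K] V)) := x.2
    rw [Subgroup.coe_mul_of_right_le_normalizer_left H₁ H₂ hle] at hx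
    obtain ⟨a, ha, b, hb, e⟩ := hx
    exact ⟨⟨a, ha⟩, ⟨b, hb⟩, e.symm⟩
  choose hh gg hxg using hdec
  have hmono : ∀ j, N j ≤ N (j + 1) := by
    intro j
    induction j with
    | zero => exact bot_le
    | succ j ihj => exact fun w hw => (hN (j + 1) w).2 fun h => ihj ((hN j w).1 hw h)
  refine ⟨n₁ * n₂, fun f => LinearMap.ext fun v => ?_⟩
  refine aux n₂ N rfl hmono
    (fun x : ↥(H₁ ⊔ H₂) => ((x : V ≃ₗ[K] V) : Module.End K V) - 1)
    (fun x : ↥(H₁ ⊔ H₂) => ((gg x : V ≃ₗ[K] V) : Module.End K V) - 1)
    ?_ ?_ ?_ n₁ f v (htop v)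
  · intro x i w hw
    have := sub_mem (hst₂ _ (gg x).2 i w hw) hw
    simpa using this
  · intro x i w hw
    have := hH₁ _ (hh x).2 i _ (hst₂ _ (gg x).2 (i + 1) w hw)
    simpa [hxg x] using this
  · intro f'
    exact hn₂ fun j => gg (f' j)

end Groth.Agent.S17446
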