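import Groth.Statements.S17449
import Groth.Agent.ZarConn.AnyBase
import Groth.Agent.GeomFib.Consequences
import Groth.Agent.S1363

set_option autoImplicit false
universe u
open CategoryTheory CategoryTheory.Limits AlgebraicGeometry
open Stein

namespace Groth.Agent.S17449

/-- Let S be a Noetherian scheme and f : X → S a proper, flat and surjective morphism. Suppose that for
every generic point η of an irreducible component of S the fibre of f at η is geometrically
connected and smooth over the residue field κ(η). Then every fibre of f is geometrically connected. -/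
theorem result {X S : Scheme.{u}}
    (f : X ⟶ S) [IsProper f] [Flat f] [Surjective f] [IsNoetherian S]
    (h : ∀ (Z : Set ↑S) (η : ↑S), Z ∈ irreducibleComponents ↑S → IsGenericPoint η Z →
      GeometricallyConnected (f.fiberToSpecResidueField η) ∧ Smooth (f.fiberToSpecResidueField η)) :
    GeometricallyConnected f := by
  haveI : LocallyOfFinitePresentation f := inferInstance
  refine (GeometricallyConnected.iff_geometricallyConnected_fiber f).mpr fun y ↦ ?_
  rw [Groth.Agent.GeomFib.geometricallyConnected_fiber_iff]
  obtain ⟨Z, hZ, -, hy⟩ : ∃ Z ∈ irreducibleComponents ↑S, True ∧ y ∈ Z :=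
    ⟨irreducibleComponent y, irreducibleComponent_mem_irreducibleComponents y, trivial, mem_irreducibleComponent⟩
  have hη := hZ.1.isGenericPoint_genericPoint
  replace hη := hη (isClosed_of_mem_irreducibleComponents Z hZ)
  have h1 := (Groth.Agent.GeomFib.geometricallyConnected_fiber_iff f _).mp (h Z _ hZ hη).1
  have hle : MoreMor.nGeomConnComp f y ≤ 1 := by
    by_contra hlt
    have := Groth.Agent.S1363.result f y 1 (not_le.mp hlt)
    obtain ⟨V, hV, hVo, hyV⟩ := mem_nhds_iff.mp this
    have := hV ((hη.specializes hy).mem_open hVo hyV)
    simp only [Set.mem_setOf_eq, h1, lt_self_iff_false] at this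
  refine le_antisymm hle ?_
  obtain ⟨x, hx⟩ := f.surjective y
  rw [(Groth.Agent.GeomFib.nGeom_eq f (Groth.Agent.GeomFib.geomPt y) y
    (Groth.Agent.GeomFib.fromSpecResidueField_geomPt y)).2]
  obtain ⟨p, -⟩ := Scheme.Pullback.exists_preimage_pullback (f := f) (g := Groth.Agent.GeomFib.geomPt y) x
    (IsLocalRing.closedPoint _) (hx.trans (Groth.Agent.GeomFib.fromSpecResidueField_geomPt y).symm)
  haveI : Nonempty (_root_.ConnectedComponents ↥(pullback f (Groth.Agent.GeomFib.geomPt y))) :=
    ⟨_root_.ConnectedComponents.mk p⟩
  exact (ENat.one_le_card_iff_nonempty _).mpr inferInstance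

end Groth.Agent.S17449
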