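import Groth.Statements.S1745
import Mathlib
import Groth.Agent.InjHull.FlatTensor
-- import your own Groth.Agent.* helpers here

set_option autoImplicit false
universe u
open scoped TensorProduct
open InjHull

namespace Groth.Agent.S1745

/-- Let A → B be a flat homomorphism of Noetherian rings such that for every prime q of B with
contraction p, the ideal p B_q equals the maximal ideal q B_q of B_q (for instance an étale map).
Then for every injective A-module I the B-module B ⊗_A I is injective. -/
theorem result (A B : Type u) [CommRing A] [CommRing B] [Algebra A B] [IsNoetherianRing A] [IsNoetherianRing B] [Module.Flat A B] (h : ∀ q : PrimeSpectrum B, Ideal.map (algebraMap B (Localization.AtPrime q.asIdeal)) ((q.asIdeal.comap (algebraMap A B)).map (algebraMap A B)) = IsLocalRing.maximalIdeal (Localization.AtPrime q.asIdeal)) (I : Type u) [AddCommGroup I] [Module A I] [Module.Injective A I] : Module.Injective B (B ⊗[A] I) := by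
  classical
  refine Groth.Agent.InjHull.injective_of_prime_local _ fun q hq φ => ?_
  haveI := hq
  set p := q.comap (algebraMap A B) with hp
  set pB := p.map (algebraMap A B) with hpB
  have hle : pB ≤ q := Ideal.map_comap_le
  obtain ⟨x, hx⟩ := Groth.Agent.H4Easy.injective_flatTensor_hom_surjective A B p I
    (φ ∘ₗ Submodule.inclusion hle)
  have hx' : ∀ (e : B) (he : e ∈ pB), φ ⟨e, hle he⟩ = e • x := fun e he =>
    (LinearMap.congr_fun hx ⟨e, he⟩).symm
  have hloc : ∀ c ∈ q, ∃ m ∈ q.primeCompl, m * c ∈ pB := fun c hc => by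
    rw [← IsLocalization.algebraMap_mem_map_algebraMap_iff q.primeCompl (Localization.AtPrime q), hpB, hp,
      h ⟨q, hq⟩, IsLocalization.AtPrime.to_map_mem_maximal_iff (Localization.AtPrime q) q]
    exact hc
  obtain ⟨G, hG⟩ := (isNoetherianRing_iff_ideal_fg B).mp inferInstance q
  choose m hm hmc using fun c : (G : Set B) => hloc c (hG ▸ Ideal.subset_span c.2)
  have hs : ∏ c, m c ∉ q := Submonoid.prod_mem q.primeCompl fun c _ => hm c
  have hsq : q ≤ Submodule.comap (LinearMap.toSpanSingleton B B (∏ c, m c)) pB := by
    rw [← hG]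
    refine Submodule.span_le.mpr fun c hc => ?_
    simp only [SetLike.mem_coe, Submodule.mem_comap, LinearMap.toSpanSingleton_apply, smul_eq_mul]
    rw [mul_comm, ← Finset.prod_erase_mul _ _ (Finset.mem_univ (⟨c, hc⟩ : (G : Set B))), mul_assoc]
    exact pB.mul_mem_left _ (hmc ⟨c, hc⟩)
  refine ⟨(∏ c, m c) • x, _, hs, fun c => ?_⟩
  rw [smul_smul, ← map_smul]
  have hmem : (c : B) * ∏ c, m c ∈ pB := hsq c.2
  rw [← hx' _ hmem]
  congr 1
  exact Subtype.ext (mul_comm _ _)

end Groth.Agent.S1745
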