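import Groth.Statements.S17451
import Groth.Agent.Chev.SemiAbelian
import Groth.Agent.Chev.Descent
import Groth.Agent.AVDeg.Pow

set_option autoImplicit false
universe u
open CategoryTheory MonoidalCategory CartesianMonoidalCategory MonObj GrpObj AlgebraicGeometry CategoryTheory.Limits
open AlgGrp

namespace Groth.Agent.S17451
open Groth.Agent
open scoped CategoryTheory.Obj

/-- Let k be a field with algebraic closure K and G a smooth connected k-group scheme of finite type,
not assumed commutative, whose base change G_K has a torus as a subgroup with an abelian variety as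
the quotient: there are a closed subgroup scheme T of G_K which is a torus and a flat surjective
homomorphism from G_K onto a proper smooth connected K-group scheme with kernel T. Then G is
commutative. (The published result also asserts that G then has, over k itself, a unique torus
subgroup with abelian-variety quotient of this kind; only commutativity is stated here.) -/
theorem result (k : Type u) [Field k]
    (G : Over (Spec (CommRingCat.of k))) [GrpObj G] [Smooth G.hom] [QuasiCompact G.hom] [ConnectedSpace ↥G.left]
    (hK : (∃ (T : Over (Spec (CommRingCat.of (AlgebraicClosure k)))) (_ : GrpObj T) (i : T ⟶ Red.bc (Spec.map (CommRingCat.ofHom (algebraMap k (AlgebraicClosure k)))) G) (A : Over (Spec (CommRingCat.of (AlgebraicClosure k)))) (_ : GrpObj A) (q : Red.bc (Spec.map (CommRingCat.ofHom (algebraMap k (AlgebraicClosure k)))) G ⟶ A),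
        IsMonHom i ∧ IsClosedImmersion i.left ∧ Red.IsTorus T ∧ IsMonHom q ∧ Surjective q.left ∧ Flat q.left ∧
        AlgGrp.IsKernel i q ∧ IsProper A.hom ∧ Smooth A.hom ∧ ConnectedSpace ↥A.left)) :
    IsCommMonObj G := by
  let p := AVDeg.specMap k (AlgebraicClosure k)
  let F := Over.pullback p
  haveI : Smooth (F.obj G).hom := inferInstanceAs (Smooth (pullback.snd G.hom p))
  haveI : QuasiCompact (F.obj G).hom := inferInstanceAs (QuasiCompact (pullback.snd G.hom p))
  haveI : ConnectedSpace (F.obj G).left := Chev.connectedSpace_bcK (AlgebraicClosure k) (X := G)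
  haveI hc : IsCommMonObj (F.obj G) := Chev.IsSA.isCommMonObj hK
  haveI : Surjective p := ⟨fun _ => ⟨IsLocalRing.closedPoint _, Subsingleton.elim (α := PrimeSpectrum k) _ _⟩⟩
  haveI : Surjective (pullback.fst (G ⊗ G).hom p) := MorphismProperty.pullback_fst _ _ ‹_›
  refine ⟨?_⟩
  have h1 : F.map ((β_ G G).hom ≫ μ[G]) = F.map μ[G] := by
    rw [← cancel_epi (Functor.LaxMonoidal.μ F G G), F.map_comp, ← Category.assoc, Functor.LaxBraided.braided,
      Category.assoc, ← Functor.obj.μ_def]
    exact hc.mul_comm
  apply Over.OverMorphism.ext
  rw [← cancel_epi (pullback.fst (G ⊗ G).hom p)]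
  have h2 := congrArg (fun v => v.left ≫ pullback.fst G.hom p) h1
  simp only [F, Over.pullback_map_left, pullback.lift_fst] at h2
  exact h2

end Groth.Agent.S17451
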