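import Groth.Statements.S17453
import Groth.Agent.Chev.SAExt
import Groth.Agent.Chev.BcKernel
import Groth.Agent.Chev.Descent

set_option autoImplicit false
universe u
open CategoryTheory MonoidalCategory CartesianMonoidalCategory MonObj GrpObj AlgebraicGeometry CategoryTheory.Limits
open AlgGrp

namespace Groth.Agent.S17453
open Groth.Agent

/-- Let k be a field with algebraic closure K and 1 → G' → G → G'' → 1 a short exact sequence of smooth
connected k-group schemes of finite type: G' → G is a homomorphism and a closed immersion, G → G''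
is a flat surjective homomorphism, and G' is its kernel. Say that such a group is semi-abelian when
its base change to K, modulo a suitable torus, is an abelian variety (there are a closed subgroup
scheme of the base change which is a torus and a flat surjective homomorphism onto a proper smooth
connected K-group scheme with that kernel); commutativity is not assumed, it follows. Then G is
semi-abelian exactly when both G' and G'' are semi-abelian. -/
theorem result (k : Type u) [Field k]
    (G' G G'' : Over (Spec (CommRingCat.of k))) [GrpObj G'] [GrpObj G] [GrpObj G'']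
    [Smooth G'.hom] [QuasiCompact G'.hom] [ConnectedSpace ↥G'.left]
    [Smooth G.hom] [QuasiCompact G.hom] [ConnectedSpace ↥G.left]
    [Smooth G''.hom] [QuasiCompact G''.hom] [ConnectedSpace ↥G''.left]
    (j : G' ⟶ G) [IsMonHom j] [IsClosedImmersion j.left]
    (p : G ⟶ G'') [IsMonHom p] [Surjective p.left] [Flat p.left] (hex : AlgGrp.IsKernel j p) :
    (∃ (T : Over (Spec (CommRingCat.of (AlgebraicClosure k)))) (_ : GrpObj T) (i : T ⟶ Red.bc (Spec.map (CommRingCat.ofHom (algebraMap k (AlgebraicClosure k)))) G) (A : Over (Spec (CommRingCat.of (AlgebraicClosure k)))) (_ : GrpObj A) (q : Red.bc (Spec.map (CommRingCat.ofHom (algebraMap k (AlgebraicClosure k)))) G ⟶ A),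
        IsMonHom i ∧ IsClosedImmersion i.left ∧ Red.IsTorus T ∧ IsMonHom q ∧ Surjective q.left ∧ Flat q.left ∧
        AlgGrp.IsKernel i q ∧ IsProper A.hom ∧ Smooth A.hom ∧ ConnectedSpace ↥A.left) ↔
    ((∃ (T : Over (Spec (CommRingCat.of (AlgebraicClosure k)))) (_ : GrpObj T) (i : T ⟶ Red.bc (Spec.map (CommRingCat.ofHom (algebraMap k (AlgebraicClosure k)))) G') (A : Over (Spec (CommRingCat.of (AlgebraicClosure k)))) (_ : GrpObj A) (q : Red.bc (Spec.map (CommRingCat.ofHom (algebraMap k (AlgebraicClosure k)))) G' ⟶ A),
        IsMonHom i ∧ IsClosedImmersion i.left ∧ Red.IsTorus T ∧ IsMonHom q ∧ Surjective q.left ∧ Flat q.left ∧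
        AlgGrp.IsKernel i q ∧ IsProper A.hom ∧ Smooth A.hom ∧ ConnectedSpace ↥A.left) ∧
     (∃ (T : Over (Spec (CommRingCat.of (AlgebraicClosure k)))) (_ : GrpObj T) (i : T ⟶ Red.bc (Spec.map (CommRingCat.ofHom (algebraMap k (AlgebraicClosure k)))) G'') (A : Over (Spec (CommRingCat.of (AlgebraicClosure k)))) (_ : GrpObj A) (q : Red.bc (Spec.map (CommRingCat.ofHom (algebraMap k (AlgebraicClosure k)))) G'' ⟶ A),
        IsMonHom i ∧ IsClosedImmersion i.left ∧ Red.IsTorus T ∧ IsMonHom q ∧ Surjective q.left ∧ Flat q.left ∧
        AlgGrp.IsKernel i q ∧ IsProper A.hom ∧ Smooth A.hom ∧ ConnectedSpace ↥A.left)) := by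
  let K := AlgebraicClosure k
  let F := Over.pullback (AVDeg.specMap k K)
  haveI : IsSeparated G.hom := GrpField.isSeparated_hom G
  haveI : Mono j := GrpField.SchImg.mono_of_isClosedImmersion j
  haveI : Smooth (F.obj G').hom := Chev.smooth_bcK K
  haveI : Smooth (F.obj G).hom := Chev.smooth_bcK K
  haveI : Smooth (F.obj G'').hom := Chev.smooth_bcK K
  haveI : QuasiCompact (F.obj G').hom := Chev.quasiCompact_bcK K
  haveI : QuasiCompact (F.obj G).hom := Chev.quasiCompact_bcK K
  haveI : QuasiCompact (F.obj G'').hom := Chev.quasiCompact_bcK K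
  haveI : ConnectedSpace (F.obj G').left := Chev.connectedSpace_bcK K
  haveI : ConnectedSpace (F.obj G).left := Chev.connectedSpace_bcK K
  haveI : ConnectedSpace (F.obj G'').left := Chev.connectedSpace_bcK K
  haveI : IsClosedImmersion (F.map j).left := MorphismProperty.baseChange_map (P := @IsClosedImmersion) _ j ‹_›
  haveI : Surjective (F.map p).left := MorphismProperty.baseChange_map (P := @Surjective) _ p ‹_›
  haveI : Flat (F.map p).left := MorphismProperty.baseChange_map (P := @Flat) _ p ‹_›
  have hexK : AlgGrp.IsKernel (F.map j) (F.map p) := Chev.isKernel_bc _ j p hex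
  constructor
  · intro h
    exact ⟨Chev.isSA_of_subgroup (G := F.obj G) h (F.map j), Chev.isSA_of_surjective (H := F.obj G) h (F.map p)⟩
  · rintro ⟨h', h''⟩
    exact Chev.isSA_of_extension (F.map j) (F.map p) hexK h' h''


end Groth.Agent.S17453
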