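import Groth.Statements.S17454
import Groth.Agent.Chev.AntiAff
import Groth.Agent.S12442

set_option autoImplicit false
universe u
open CategoryTheory MonoidalCategory CartesianMonoidalCategory MonObj GrpObj AlgebraicGeometry CategoryTheory.Limits
open AlgGrp

namespace Groth.Agent.S17454
open Groth.Agent

/-- Let k be a perfect field and f : G' → G a surjective homomorphism of smooth connected k-group
schemes of finite type. Let N' → G' and N → G be Chevalley decompositions: normal closed subgroup
schemes which are smooth, connected and affine, kernels of flat surjective homomorphisms q' : G' →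
A' and q : G → A onto proper smooth connected k-group schemes. Then f maps N' onto N: there is a
homomorphism g : N' → N, compatible with f and the two inclusions, whose underlying map is
surjective; and f induces a homomorphism A' → A compatible with q' and q whose underlying map is
surjective. (The isogeny refinement of the published statement is not stated.) -/
theorem result (k : Type u) [Field k] [PerfectField k]
    (G' G : Over (Spec (CommRingCat.of k))) [GrpObj G'] [GrpObj G]
    [Smooth G'.hom] [QuasiCompact G'.hom] [ConnectedSpace ↥G'.left]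
    [Smooth G.hom] [QuasiCompact G.hom] [ConnectedSpace ↥G.left]
    (f : G' ⟶ G) [IsMonHom f] [Surjective f.left]
    (N' : Over (Spec (CommRingCat.of k))) [GrpObj N'] (i' : N' ⟶ G') [IsMonHom i'] [IsClosedImmersion i'.left]
    [Smooth N'.hom] [ConnectedSpace ↥N'.left] [IsAffine N'.left] (hn' : AlgGrp.IsNormalHom i')
    (A' : Over (Spec (CommRingCat.of k))) [GrpObj A'] (q' : G' ⟶ A') [IsMonHom q'] [Surjective q'.left] [Flat q'.left]
    [IsProper A'.hom] [Smooth A'.hom] [ConnectedSpace ↥A'.left] (hk' : AlgGrp.IsKernel i' q')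
    (N : Over (Spec (CommRingCat.of k))) [GrpObj N] (i : N ⟶ G) [IsMonHom i] [IsClosedImmersion i.left]
    [Smooth N.hom] [ConnectedSpace ↥N.left] [IsAffine N.left] (hn : AlgGrp.IsNormalHom i)
    (A : Over (Spec (CommRingCat.of k))) [GrpObj A] (q : G ⟶ A) [IsMonHom q] [Surjective q.left] [Flat q.left]
    [IsProper A.hom] [Smooth A.hom] [ConnectedSpace ↥A.left] (hk : AlgGrp.IsKernel i q) :
    (∃ g : N' ⟶ N, IsMonHom g ∧ g ≫ i = i' ≫ f ∧ Surjective g.left) ∧
      (∃ h : A' ⟶ A, IsMonHom h ∧ q' ≫ h = f ≫ q ∧ Surjective h.left) := by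
  haveI : IsSeparated G'.hom := GrpField.isSeparated_hom G'
  haveI : IsSeparated G.hom := GrpField.isSeparated_hom G
  haveI : Mono i := GrpField.SchImg.mono_of_isClosedImmersion i
  obtain ⟨g, hg⟩ := Chev.exists_factor_affPart hk (i' ≫ f)
  haveI : IsMonHom (g ≫ i) := by rw [hg]; infer_instance
  haveI := Chev.isMonHom_of_comp g i
  haveI : QuasiCompact q'.left := by
    haveI : QuasiCompact (q'.left ≫ A'.hom) := by rw [Over.w]; infer_instance
    exact QuasiCompact.of_comp _ A'.hom
  haveI : EffectiveEpi q'.left := inferInstance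
  haveI : LocallyOfFinitePresentation q'.left := by
    haveI : LocallyOfFinitePresentation (q'.left ≫ A'.hom) := by rw [Over.w]; infer_instance
    exact S12442.result q'.left A'.hom
  obtain ⟨h, hh⟩ := AdjRep.exists_desc i' q' hk' (f ≫ q) (Chev.eq_one_of_affine_of_proper' (i' ≫ f ≫ q))
  haveI : IsMonHom (q' ≫ h) := by rw [hh]; infer_instance
  refine ⟨⟨g, inferInstance, hg, ?_⟩, ⟨h, Chev.isMonHom_desc q' h, hh, ?_⟩⟩
  swap
  · haveI : Surjective (q'.left ≫ h.left) := by rw [← Over.comp_left, hh, Over.comp_left]; infer_instance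
    exact Surjective.of_comp q'.left h.left
  -- the image of `N'` is normal with proper quotient
  haveI : IsAffineHom N'.hom := isAffineHom_of_isAffine N'.hom
  haveI : QuasiCompact (g ≫ i).left := by
    haveI : QuasiCompact ((g ≫ i).left ≫ G.hom) := by rw [Over.w]; infer_instance
    exact QuasiCompact.of_comp _ G.hom
  obtain ⟨C, hC, c, g₀, hcm, hg₀, hgc, hcc, hgd, hgq, hgs⟩ := GrpField.SchImg.exists_image (g ≫ i)
  haveI := hcm; haveI := hcc; haveI := hgq; haveI := hgs
  haveI : IsSchemeTheoreticallyDominant g₀.left := hgd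
  haveI : LocallyOfFiniteType C.hom := by rw [← Over.w c]; infer_instance
  haveI := GrpField.SchImg.geometricallyReduced_of_smooth N'.hom
  haveI := GrpField.SchImg.geometricallyReduced_of_schDom g₀
  haveI : IsReduced N'.left := Chev.isReduced_of_smooth' N'
  haveI : IsReduced C.left := IsSchemeTheoreticallyDominant.isReduced g₀.left
  haveI : Smooth C.hom := by
    letI : GrpObj (Over.mk C.hom) := hC
    exact GrpBasic.smooth_of_grpObj_perfect C.hom
  haveI : Smooth (G ⊗ C).hom := by
    haveI : Smooth (Limits.pullback.fst G.hom C.hom) := MorphismProperty.pullback_fst _ _ ‹Smooth C.hom›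
    exact inferInstanceAs (Smooth (Limits.pullback.fst G.hom C.hom ≫ G.hom))
  haveI : IsReduced (G ⊗ C).left := Chev.isReduced_of_smooth' (G ⊗ C)
  haveI : Surjective (f ⊗ₘ g₀).left := by
    rw [MonoidalCategory.tensorHom_def, Over.comp_left]
    haveI : Surjective (f ▷ N').left := MorphismProperty.of_isPullback (P := @Surjective)
      (FMTool.isPullback_fst_whiskerRight f N') ‹_›
    haveI : Surjective (G ◁ g₀).left := MorphismProperty.of_isPullback (P := @Surjective)
      (FMTool.isPullback_whiskerLeft (A := G) g₀).flip ‹_›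
    infer_instance
  let w : G ⊗ C ⟶ G := fst G C * (snd G C ≫ c) * (fst G C)⁻¹
  obtain ⟨y, hy⟩ := hn' (G' ⊗ N') (fst G' N') (snd G' N')
  have e : (f ⊗ₘ g₀) ≫ w = (y ≫ g₀) ≫ c := by
    have := congrArg (fun φ => φ ≫ f) hy
    simp only [MonObj.mul_comp, GrpObj.inv_comp, Category.assoc] at this
    rw [Category.assoc, hgc, hg, ← this]
    simp only [w, MonObj.comp_mul, GrpObj.comp_inv, tensorHom_fst, tensorHom_snd_assoc, hgc, hg, Category.assoc]
  obtain ⟨w', hw'⟩ := Chev.exists_lift_range w c (by
    rintro _ ⟨x, rfl⟩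
    obtain ⟨x', rfl⟩ := (f ⊗ₘ g₀).left.surjective x
    exact ⟨(y ≫ g₀).left x', (congrArg (fun φ => φ.left x') e).symm⟩)
  have hcn : AlgGrp.IsNormalHom c := by
    intro T a b
    refine ⟨lift a b ≫ w', ?_⟩
    rw [Category.assoc, hw']
    simp only [w, MonObj.comp_mul, GrpObj.comp_inv, lift_fst, lift_snd_assoc, Category.assoc]
  obtain ⟨R, hR, r, hrm, hrf, hrs, hrk, hrsep, hRsm, hRq, hRc, -⟩ := Chev.exists_quotient_group' c hcn
  haveI := hrm; haveI := hrs; haveI := hrsep; haveI := hRsm; haveI := hRq
  have hkill : i' ≫ f ≫ r = 1 := by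
    rw [← reassoc_of% hg, ← reassoc_of% hgc, hrk.w, comp_toUnit_assoc, ← Hom.one_def]
  obtain ⟨d, hd⟩ := AdjRep.exists_desc i' q' hk' (f ≫ r) hkill
  haveI : UniversallyClosed R.hom := by
    haveI : Surjective (q'.left ≫ d.left) := by rw [← Over.comp_left, hd, Over.comp_left]; infer_instance
    haveI : Surjective d.left := Surjective.of_comp q'.left d.left
    haveI : UniversallyClosed (d.left ≫ R.hom) := by rw [Over.w]; infer_instance
    exact UniversallyClosed.of_comp_surjective d.left R.hom
  haveI : IsProper R.hom := { }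
  obtain ⟨u, hu⟩ := Chev.exists_factor_affPart hrk i
  refine ⟨fun x => ?_⟩
  obtain ⟨x', hx'⟩ := g₀.left.surjective (u.left x)
  refine ⟨x', i.left.isClosedEmbedding.injective ?_⟩
  calc i.left (g.left x') = c.left (g₀.left x') := congrArg (fun φ => φ.left x') hgc.symm
    _ = c.left (u.left x) := by rw [hx']
    _ = i.left x := congrArg (fun φ => φ.left x) hu


end Groth.Agent.S17454
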