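import Groth.Statements.S17459
import Groth.Agent.GrpLoc.Field
import Groth.Agent.GrpField.Isogeny
import Mathlib.AlgebraicGeometry.ZariskisMainTheorem

set_option backward.isDefEq.respectTransparency false
set_option backward.isDefEq.respectTransparency.types false

set_option autoImplicit false
set_option synthInstance.maxHeartbeats 400000
set_option maxHeartbeats 1000000
universe u
open CategoryTheory CategoryTheory.Limits AlgebraicGeometry MonObj
open SGA7

namespace Groth.Agent.S17459

open scoped CategoryTheory.Obj in
/-- A homomorphism of abelian varieties of equal dimension quasi-finite on a nonempty open is an isogeny. -/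
theorem isogeny_of_qf {K : Type u} [Field K] {A B : Over (Spec (CommRingCat.of K))} [GrpObj A] [GrpObj B]
    [IsProper A.hom] [GeometricallyIntegral A.hom] [IsProper B.hom] [GeometricallyIntegral B.hom]
    (f : A ⟶ B) [IsMonHom f] (hdim : topologicalKrullDim ↥A.left = topologicalKrullDim ↥B.left)
    (W : A.left.Opens) (hW : (W : Set A.left).Nonempty) (h : LocallyQuasiFinite (W.ι ≫ f.left)) :
    SGA7.IsIsogenyOver f := by
  haveI : IsProper f.left := by
    haveI : IsProper (f.left ≫ B.hom) := by rw [Over.w f]; infer_instance
    exact IsProper.of_comp f.left B.hom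
  haveI : LocallyQuasiFinite f.left := Groth.Agent.GrpLoc.locallyQuasiFinite_of_restrict f W hW h
  haveI : IsFinite f.left := IsFinite.of_isProper_of_locallyQuasiFinite _
  haveI : IsIntegral A.left := GeometricallyIntegral.isIntegral_of_subsingleton A.hom
  haveI : IsIntegral B.left := GeometricallyIntegral.isIntegral_of_subsingleton B.hom
  refine ⟨Groth.Agent.GrpField.surjective_of_isFinite f hdim, fun M i hM => ?_⟩
  exact MorphismProperty.of_isPullback (P := @IsFinite) (hM.map (Over.forget _))
    (show IsFinite f.left from inferInstance)

/-- Let R be a discrete valuation ring with fraction field K, let N and N' be group schemes over Spec R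
which are Néron models of their generic fibres A = N_K and B = N'_K, abelian varieties (proper and
geometrically integral) of the same dimension, and let u : N → N' be a homomorphism (the extension
of u_K : A → B). If the homomorphism induced by u on the special fibres is locally quasi-finite — as
it is when it restricts to an isogeny between the identity components, the printed hypothesis, which
also forces dim A = dim B — then u_K is an isogeny: its underlying map is surjective and its kernel
is finite. -/
theorem result (R K : Type u) [CommRing R] [IsDomain R]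
    [IsDiscreteValuationRing R] [Field K] [Algebra R K] [IsFractionRing R K]
    (N N' : Over (Spec (CommRingCat.of R))) [GrpObj N] [GrpObj N']
    (hN : SGA7.IsNeron R K N) (hN' : SGA7.IsNeron R K N')
    [IsProper ((SGA7.genFib R K).obj N).hom] [GeometricallyIntegral ((SGA7.genFib R K).obj N).hom]
    [IsProper ((SGA7.genFib R K).obj N').hom] [GeometricallyIntegral ((SGA7.genFib R K).obj N').hom]
    (hdim : topologicalKrullDim ↥((SGA7.genFib R K).obj N).left = topologicalKrullDim ↥((SGA7.genFib R K).obj N').left)
    (u : N ⟶ N') [IsMonHom u]
    [LocallyQuasiFinite (SGA7.fibreHom (IsLocalRing.closedPoint R) u).left] :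
    SGA7.IsIsogenyOver ((SGA7.genFib R K).map u) := by
  open scoped CategoryTheory.Obj in
  haveI : Smooth N.hom := hN.1
  haveI : Smooth N'.hom := hN'.1
  haveI : LocallyOfFiniteType u.left := by
    haveI : LocallyOfFiniteType (u.left ≫ N'.hom) := by rw [Over.w u]; infer_instance
    exact locallyOfFiniteType_of_comp u.left N'.hom
  -- quasi-finite at the closed point of the unit section
  let c : ↥(Spec (CommRingCat.of R)) := IsLocalRing.closedPoint R
  let e₀ := η[N].left c
  have hqf : u.left.QuasiFiniteAt e₀ := by
    let g := (Spec (CommRingCat.of R)).fromSpecResidueField c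
    let p := pullback.fst N.hom g
    let p' := pullback.fst N'.hom g
    haveI : IsPreimmersion p := MorphismProperty.pullback_fst _ _ inferInstance
    haveI : IsPreimmersion p' := MorphismProperty.pullback_fst _ _ inferInstance
    let v := (SGA7.fibreHom c u).left
    have hv : v ≫ p' = p ≫ u.left := pullback.lift_fst _ _ _
    have hv' : ∀ x, p' (v x) = u.left (p x) := fun x => by
      exact congrArg (fun k : _ ⟶ N'.left => k x) hv
    have he : N.hom e₀ = c := by
      rw [← Scheme.Hom.comp_apply, Over.w]; rfl
    obtain ⟨x₀, hx₀⟩ : e₀ ∈ Set.range p := by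
      rw [Scheme.Pullback.range_fst]
      exact ⟨IsLocalRing.closedPoint _, (Scheme.fromSpecResidueField_apply c _).trans he.symm⟩
    have hset : u.left ⁻¹' {u.left e₀} = p '' (v ⁻¹' {v x₀}) := by
      ext z
      constructor
      · intro hz
        have hzc : N.hom z = c := by
          rw [← Over.w u, Scheme.Hom.comp_apply, show u.left z = u.left e₀ from hz, ← Scheme.Hom.comp_apply,
            Over.w u, he]
        obtain ⟨x, rfl⟩ : z ∈ Set.range p := by
          rw [Scheme.Pullback.range_fst]
          exact ⟨IsLocalRing.closedPoint _, (Scheme.fromSpecResidueField_apply c _).trans hzc.symm⟩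
        refine ⟨x, p'.isEmbedding.injective ?_, rfl⟩
        rw [hv', hv', hx₀]
        exact hz
      · rintro ⟨x, hx, rfl⟩
        change u.left (p x) = u.left e₀
        rw [← hx₀, ← hv', ← hv', show v x = v x₀ from hx]
    haveI : DiscreteTopology ↥(u.left ⁻¹' {u.left e₀}) := by
      rw [hset]
      exact ((v.isDiscrete_preimage_singleton (v x₀)).image p.isEmbedding.toIsInducing).to_subtype
    rw [Scheme.Hom.quasiFiniteAt_iff_isOpen_singleton_asFiber, ← (u.left.fiberHomeo _).isOpen_image]
    exact isOpen_discrete _
  -- hence at the generic point of the unit section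
  let F := SGA7.genFib R K
  let pK : Spec (CommRingCat.of K) ⟶ Spec (CommRingCat.of R) := Spec.map (CommRingCat.ofHom (algebraMap R K))
  let q : pullback N.hom pK ⟶ N.left := pullback.fst N.hom pK
  let W : (pullback N.hom pK).Opens := q ⁻¹ᵁ u.left.quasiFiniteLocus
  let Q := u.left.quasiFiniteLocus
  have hη : η[N].left ≫ N.hom = 𝟙 _ := Over.w η[N]
  let sec : Spec (CommRingCat.of K) ⟶ pullback N.hom pK :=
    pullback.lift (pK ≫ η[N].left) (𝟙 _) (by
      refine (Category.assoc _ _ _).trans ?_
      refine (congrArg (fun k => pK ≫ k) hη).trans ?_
      exact (Category.comp_id pK).trans (Category.id_comp pK).symm)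
  have hsec : sec ≫ q = pK ≫ η[N].left := pullback.lift_fst _ _ _
  have hW : (W : Set ↥(pullback N.hom pK)).Nonempty := by
    let t : ↥(Spec (CommRingCat.of K)) := IsLocalRing.closedPoint K
    refine ⟨sec t, ?_⟩
    have e : q (sec t) = η[N].left (pK t) := congrArg (fun k : _ ⟶ N.left => k t) hsec
    change q (sec t) ∈ Q
    rw [e]
    exact (IsLocalRing.specializes_closedPoint (pK t)).mem_open (η[N].left ⁻¹ᵁ Q).2 hqf
  haveI : LocallyQuasiFinite (u.left.quasiFiniteLocus.ι ≫ u.left) := inferInstance
  have hres : LocallyQuasiFinite (W.ι ≫ (F.map u).left) :=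
    MorphismProperty.of_isPullback ((isPullback_morphismRestrict q _).paste_vert
      (Groth.Agent.GrpLoc.isPullback_bc pK u)) ‹LocallyQuasiFinite (u.left.quasiFiniteLocus.ι ≫ u.left)›
  exact isogeny_of_qf (F.map u) hdim W hW hres

end Groth.Agent.S17459
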