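import Groth.Statements.S17460
import Groth.Agent.NeronSS.SpecialKill

set_option backward.isDefEq.respectTransparency false
set_option backward.isDefEq.respectTransparency.types false
set_option synthInstance.maxHeartbeats 400000
set_option maxHeartbeats 1000000

set_option autoImplicit false
universe u
open CategoryTheory CategoryTheory.Limits AlgebraicGeometry MonObj MonoidalCategory
open SGA7

namespace Groth.Agent.S17460

/-- Let R be a discrete valuation ring with fraction field K and let N and N' be group schemes over Spec
R which are Néron models of their generic fibres A = N_K and B = N'_K, abelian varieties (proper and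
geometrically integral), both with semistable reduction: the geometric fibres of N and of N' contain
no copy of the additive group. Let u : N → N' be a homomorphism (equivalently a homomorphism A → B,
by the Néron property). If u is constant on the connected component of the unit in the special fibre
of N (any two of its points have the same image; equivalently, since u is a homomorphism, they all
go to the unit point of the special fibre of N'), then u is the trivial homomorphism. (Since the
special fibre is reduced this says that the restriction map Hom_K(A, B) → Hom_k(N_k^0, N'_k^0) is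
injective; without semistability it fails, e.g. for multiplication by p on an elliptic curve with
additive reduction in residue characteristic p.) -/
theorem result (R K : Type u) [CommRing R] [IsDomain R]
    [IsDiscreteValuationRing R] [Field K] [Algebra R K] [IsFractionRing R K]
    (N N' : Over (Spec (CommRingCat.of R))) [GrpObj N] [GrpObj N']
    (hN : SGA7.IsNeron R K N) (hN' : SGA7.IsNeron R K N')
    [IsProper ((SGA7.genFib R K).obj N).hom] [GeometricallyIntegral ((SGA7.genFib R K).obj N).hom]
    [IsProper ((SGA7.genFib R K).obj N').hom] [GeometricallyIntegral ((SGA7.genFib R K).obj N').hom]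
    (hss : SGA7.FibresUnipotentRankZero N) (hss' : SGA7.FibresUnipotentRankZero N')
    (u : N ⟶ N') [IsMonHom u]
    (hu : ∀ x ∈ SGA7.secComp R N η[N], ∀ y ∈ SGA7.secComp R N η[N], u.left.base x = u.left.base y) :
    u = 1 := by
  open MonoidalCategory CartesianMonoidalCategory MonObj in
  open scoped CategoryTheory.Obj in
  obtain ⟨hNs, hNsep, hNq, hNbij⟩ := hN
  obtain ⟨hN's, hN'sep, hN'q, -⟩ := hN'
  haveI := hNs; haveI := hNsep; haveI := hNq; haveI := hN's; haveI := hN'sep; haveI := hN'q
  let F := SGA7.genFib R K
  haveI : IsCommMonObj (F.obj N) := isCommMonObj_of_isProper_of_geometricallyIntegral _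
  haveI : IsCommMonObj (F.obj N') := isCommMonObj_of_isProper_of_geometricallyIntegral _
  haveI : IsCommMonObj N' := Groth.Agent.NeronSS.isCommMonObj_of_genFib R K N'
  obtain ⟨v, hv, m, hm, hvu⟩ := Groth.Agent.NeronSS.exists_pseudoInverse (F.map u)
  obtain ⟨V, hV⟩ := (hNbij N' hN's).2 v
  have hV' : F.map V = v := hV
  haveI : IsMonHom (F.map V) := by rw [hV']; exact hv
  haveI : IsMonHom V := Groth.Agent.NeronSS.isMonHom_of_genFib R K V
  have huVu : u ≫ V ≫ u = u ^ m := Groth.Agent.NeronSS.genFib_ext R K _ _ (by
    rw [Functor.map_comp, Functor.map_comp, hV']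
    exact hvu.trans (map_pow (Over.pullback (Spec.map (CommRingCat.ofHom (algebraMap R K)))).homMonoidHom u m).symm)
  let e : N' ⟶ N' := V ≫ u
  have he : e ≫ e = e ^ m := by
    show (V ≫ u) ≫ V ≫ u = _
    rw [Category.assoc, huVu, MonObj.comp_pow]
  have hk : ∀ z ∈ SGA7.secComp R N' η[N'], e.left z = η[N'].left (IsLocalRing.closedPoint R) := by
    intro z hz
    have hη : V.left (η[N'].left (IsLocalRing.closedPoint R)) = η[N].left (IsLocalRing.closedPoint R) := by
      rw [← Scheme.Hom.comp_apply, ← Over.comp_left, IsMonHom.one_hom]
    have hη' : u.left (η[N].left (IsLocalRing.closedPoint R)) = η[N'].left (IsLocalRing.closedPoint R) := by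
      rw [← Scheme.Hom.comp_apply, ← Over.comp_left, IsMonHom.one_hom]
    have hmem : η[N'].left (IsLocalRing.closedPoint R) ∈ SGA7.secComp R N' η[N'] := by
      refine mem_connectedComponentIn ?_
      show N'.hom (η[N'].left (IsLocalRing.closedPoint R)) = IsLocalRing.closedPoint R
      rw [← Scheme.Hom.comp_apply, Over.w η[N']]
      rfl
    have hsub : V.left '' SGA7.secComp R N' η[N'] ⊆ SGA7.secComp R N η[N] := by
      refine (isPreconnected_connectedComponentIn.image _ V.left.continuous.continuousOn).subset_connectedComponentIn
        ⟨_, hmem, hη⟩ ?_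
      rintro _ ⟨w, hw, rfl⟩
      show N.hom (V.left w) = IsLocalRing.closedPoint R
      rw [← Scheme.Hom.comp_apply, Over.w V]
      exact (connectedComponentIn_subset _ _ hw : _)
    show (V.left ≫ u.left) z = _
    rw [Scheme.Hom.comp_apply, ← hη']
    exact hu _ (hsub ⟨z, hz, rfl⟩) _ (hsub ⟨_, hmem, hη⟩)
  have heK : F.map e = 1 := Groth.Agent.NeronSS.map_eq_one_of_special (K := K) hss' e hm he hk
  have hpow : (F.map u) ^ m = 1 := by
    rw [← hvu, show v ≫ F.map u = F.map e by rw [Functor.map_comp, hV'], heK, MonObj.comp_one]
  refine Groth.Agent.NeronSS.genFib_ext R K _ _ ?_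
  rw [Groth.Agent.NeronSS.eq_one_of_pow (F.map u) hm hpow]
  exact (map_one (Over.pullback (Spec.map (CommRingCat.ofHom (algebraMap R K)))).homMonoidHom).symm

end Groth.Agent.S17460
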