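import Groth.Statements.S17464
import Mathlib
import Groth.Agent.Chev.UnitsAxes
import Groth.Agent.S13371

set_option autoImplicit false
universe u
open CategoryTheory MonoidalCategory CartesianMonoidalCategory MonObj GrpObj AlgebraicGeometry CategoryTheory.Limits
open AlgGrp

open MonObj CartesianMonoidalCategory
set_option linter.style.haveILetI false

namespace Groth.Agent.S17464

/-- Let k be an algebraically closed field, T a k-torus and U a smooth connected affine k-group scheme
of finite type with a composition series whose successive quotients are additive groups: closed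
subgroup schemes U_0 → U_1 → … → U_n = U (homomorphisms which are closed immersions, U_i ↦ U_{i+1}),
with U_0 the trivial group, U_n identified with U by an isomorphism of group schemes, and each U_i
the kernel of a flat surjective homomorphism from U_{i+1} onto the additive group. Then every
homomorphism from U to T is the trivial one. (The published statement is over an arbitrary field for
a torus and a smooth connected unipotent group, unipotent meaning that such a composition series
exists over an algebraic closure; this row states the case of an algebraically closed base field.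
The companion assertion, that homomorphisms from T to U are trivial, is an existing statement about
groups of multiplicative type.) -/
theorem result (k : Type u) [Field k] [IsAlgClosed k]
    (T U : Over (Spec (CommRingCat.of k))) [GrpObj T] [GrpObj U] (hT : Red.IsTorus T)
    [Smooth U.hom] [QuasiCompact U.hom] [ConnectedSpace ↥U.left] [IsAffine U.left]
    (n : ℕ) (Us : Fin (n + 1) → Over (Spec (CommRingCat.of k))) [∀ i, GrpObj (Us i)]
    (h0 : Red.IsTrivialGrp (Us 0))
    (e : Us (Fin.last n) ≅ U) [IsMonHom e.hom]
    (incl : ∀ i : Fin n, Us i.castSucc ⟶ Us i.succ) [∀ i, IsMonHom (incl i)]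
    [∀ i, IsClosedImmersion (incl i).left]
    (quot : ∀ i : Fin n, Us i.succ ⟶ Red.Ga (Spec (CommRingCat.of k))) [∀ i, IsMonHom (quot i)]
    [∀ i, Surjective (quot i).left] [∀ i, Flat (quot i).left]
    (hker : ∀ i : Fin n, AlgGrp.IsKernel (incl i) (quot i))
    (f : U ⟶ T) [IsMonHom f] :
    f = 1 := by
  have haff : ∀ i, IsAffine (Us i).left := by
    intro i
    induction i using Fin.reverseInduction with
    | last =>
      haveI : IsIso e.hom.left := inferInstanceAs (IsIso ((Over.forget _).map e.hom))
      exact IsAffine.of_isIso e.hom.left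
    | cast i ih =>
      haveI := ih
      exact isAffine_of_isAffineHom (incl i).left
  haveI hred : IsReduced (Spec (CommRingCat.of k)) := inferInstance
  have main : ∀ i, ∀ (φ : Us i ⟶ T) [IsMonHom φ], φ = 1 := by
    intro i
    induction i using Fin.induction with
    | zero =>
      intro φ hφ
      haveI : IsIso (Us 0).hom := h0
      have h1 : 𝟙 (Us 0) = toUnit (Us 0) ≫ MonObj.one := by
        apply Over.OverMorphism.ext
        rw [← cancel_mono (Us 0).hom, Over.w, Over.w]
      rw [← Category.id_comp φ, h1, Category.assoc, IsMonHom.one_hom φ]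
      rfl
    | succ j ih =>
      intro φ hφ
      haveI hq : IsMonHom (quot j) := inferInstance
      have hi : incl j ≫ φ = 1 := ih _
      have hpair : ∀ {Z : Over (Spec (CommRingCat.of k))} (a b : Z ⟶ Us j.succ),
          a ≫ quot j = b ≫ quot j → a ≫ φ = b ≫ φ := by
        intro Z a b h
        have h1 : (a⁻¹ * b) ≫ quot j = 1 := by
          rw [MonObj.mul_comp, ← h, ← MonObj.mul_comp, inv_mul_cancel, MonObj.one_comp]
        obtain ⟨n, hn⟩ : ∃ n, n ≫ incl j = a⁻¹ * b :=
          ⟨(hker j).lift (a⁻¹ * b) (toUnit Z) (h1.trans rfl), (hker j).lift_fst _ _ _⟩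
        have h2 : (a⁻¹ * b) ≫ φ = 1 := by
          rw [← hn, Category.assoc, hi, MonObj.comp_one]
        rw [MonObj.mul_comp, GrpObj.inv_comp, inv_mul_eq_one] at h2
        exact h2
      haveI := haff j.succ
      haveI : IsAffine (Red.Ga (Spec (CommRingCat.of k))).left := by
        show IsAffine (pullback Red.GaZ.hom (specULiftZIsTerminal.from (Spec (CommRingCat.of k))))
        haveI : IsAffine Red.GaZ.left := inferInstanceAs (IsAffine (Spec (CommRingCat.of (SymmetricAlgebra (ULift.{u} ℤ) (ULift.{u} ℤ)))))
        infer_instance
      haveI : QuasiCompact (quot j).left := inferInstance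
      haveI : EffectiveEpi (quot j).left := inferInstance
      have hd : ∀ {Z : Scheme.{u}} (g₁ g₂ : Z ⟶ (Us j.succ).left),
          g₁ ≫ (quot j).left = g₂ ≫ (quot j).left → g₁ ≫ φ.left = g₂ ≫ φ.left := by
        intro Z g₁ g₂ h
        have h' : g₂ ≫ (Us j.succ).hom = g₁ ≫ (Us j.succ).hom := by
          rw [← Over.w (quot j), ← Category.assoc, ← h, Category.assoc]
        exact congrArg CommaMorphism.left (hpair (Over.homMk g₁ rfl : Over.mk (g₁ ≫ (Us j.succ).hom) ⟶ Us j.succ)
          (Over.homMk g₂ h') (Over.OverMorphism.ext h))
      let ψl := EffectiveEpi.desc (quot j).left φ.left hd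
      have hψl : (quot j).left ≫ ψl = φ.left := EffectiveEpi.fac _ _ _
      let ψ : Red.Ga (Spec (CommRingCat.of k)) ⟶ T := Over.homMk ψl (by
        rw [← cancel_epi (quot j).left, ← Category.assoc, hψl, Over.w, Over.w])
      have hψ : quot j ≫ ψ = φ := Over.OverMorphism.ext hψl
      have hconst : ψ = toUnit _ ≫ η[Red.Ga (Spec (CommRingCat.of k))] ≫ ψ := by
        refine Chev.torus_hom_ext_units hT _ _ fun a ha => ?_
        have h := S13371.unit_Ga (Spec (CommRingCat.of k)) (ψ.left.appTop a) (ha.map ψ.left.appTop.hom)
          (η[Red.Ga (Spec (CommRingCat.of k))]).left ((Over.w _).trans rfl)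
        refine h.symm.trans ?_
        rw [Over.comp_left, Over.comp_left, Scheme.Hom.comp_appTop, Scheme.Hom.comp_appTop,
          CommRingCat.comp_apply, CommRingCat.comp_apply, Scheme.Hom.comp_appTop, CommRingCat.comp_apply,
          Over.toUnit_left]
      have h3 : φ = toUnit _ ≫ η[Red.Ga (Spec (CommRingCat.of k))] ≫ ψ := by
        rw [← hψ]
        conv_lhs => rw [hconst]
        rw [← Category.assoc, toUnit_unique (quot j ≫ toUnit _) (toUnit _)]
      have h4 : η[Red.Ga (Spec (CommRingCat.of k))] ≫ ψ = η[T] := by
        rw [← IsMonHom.one_hom (quot j), Category.assoc, hψ, IsMonHom.one_hom φ]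
      rw [h3, h4]
      rfl
  have := main (Fin.last n) (e.hom ≫ f)
  rw [← cancel_epi e.hom, this, MonObj.comp_one]

end Groth.Agent.S17464
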