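import Groth.Statements.S17465
import Groth.Agent.Chev.SemiAbelian
import Groth.Agent.Chev.BackIsogeny

set_option autoImplicit false
universe u
open CategoryTheory MonoidalCategory CartesianMonoidalCategory MonObj GrpObj AlgebraicGeometry CategoryTheory.Limits
open AlgGrp

namespace Groth.Agent.S17465
open Groth.Agent

/-- Let k be a field and f : G' → G an isogeny, i.e. a surjective homomorphism with finite kernel,
between smooth connected commutative affine k-group schemes of finite type. Then G' is a torus
exactly when G is one. (The published sentence draws this conclusion after treating surjective
homomorphisms and isogenies together; for a surjective homomorphism with positive-dimensional kernel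
only the implication from G' to G survives — the projection of the product of the multiplicative and
the additive group onto the multiplicative group is surjective with a non-torus source — so the
equivalence is stated for isogenies, the case the dimension count in the printed proof covers. The
companion clause about unipotence is not stated.) -/
theorem result (k : Type u) [Field k]
    (G' G : Over (Spec (CommRingCat.of k))) [GrpObj G'] [GrpObj G] [IsCommMonObj G'] [IsCommMonObj G]
    [Smooth G'.hom] [QuasiCompact G'.hom] [ConnectedSpace ↥G'.left] [IsAffine G'.left]
    [Smooth G.hom] [QuasiCompact G.hom] [ConnectedSpace ↥G.left] [IsAffine G.left]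
    (f : G' ⟶ G) [IsMonHom f] (hf : SGA7.IsIsogenyOver f) :
    Red.IsTorus G' ↔ Red.IsTorus G := by
  obtain ⟨hfs, hfk⟩ := hf
  haveI := hfs
  refine ⟨fun h => Chev.isTorus_of_surjective h f, fun h => ?_⟩
  obtain ⟨N, hN, n, hnm, hnc, -, hnk⟩ := AdjRep.exists_kernel f
  haveI := hnm; haveI := hnc
  haveI : IsFinite N.hom := hfk N n hnk
  obtain ⟨ψ, hψm, hψs⟩ := Chev.exists_back G' G f N n hnk fun r hr => Chev.surjective_pow_torus h hr
  haveI := hψm; haveI := hψs
  exact Chev.isTorus_of_surjective h ψ


end Groth.Agent.S17465
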