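import Groth.Statements.S17466


set_option autoImplicit false
universe u v
open BigOperators
open NRGIT

namespace Groth.Agent.S17466

/-- Let A be a commutative algebra graded by the natural numbers, let σ_1, …, σ_n be homogeneous
elements of degree 1 and let s ≥ 1 be an integer such that, for every i, the degree-zero homogeneous
localisation of A away from σ_i is generated over A_0 by the fractions f / σ_i ^ s with f
homogeneous of degree s. Then for every exponent vector K = (k_1, …, k_n) with k_1 + ⋯ + k_n = s,
the degree-zero homogeneous localisation of A away from the monomial σ^K = ∏ σ_i ^ (k_i) is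
generated over A_0 by the fractions f / σ^K with f homogeneous of degree s. (Equivalently: the
natural map from the degree-zero localisation of the symmetric algebra on A_s, taken away from σ^K
viewed as an element of degree one, to the degree-zero localisation of A away from σ^K is
surjective. The published lemma concerns the algebra of invariant sections of the powers of a
linearised line bundle on an irreducible projective scheme over a field, with the σ_i a basis of a
weight space of sections, and concludes a closed immersion of a quotient into an open piece of a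
projective space; this row keeps only the graded-algebra step, for any commutative graded algebra,
with the base field replaced by A_0, which generates nothing new since a / 1 = a σ^s / σ^s for a of
degree zero.) -/
theorem result
    {R : Type u} {A : Type v} [CommRing R] [CommRing A] [Algebra R A]
    (𝒜 : ℕ → Submodule R A) [GradedAlgebra 𝒜]
    {n : ℕ} (σ : Fin n → A) (hσ : ∀ i, σ i ∈ 𝒜 1) {s : ℕ} (hs : 0 < s)
    (hgen : ∀ i, Algebra.adjoin (𝒜 0)
      {z : HomogeneousLocalization.Away 𝒜 (σ i) |
        ∃ f ∈ 𝒜 s, z.val = Localization.mk f ⟨σ i ^ s, Submonoid.pow_mem _ (Submonoid.mem_powers (σ i)) s⟩} = ⊤)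
    (K : Fin n → ℕ) (hK : ∑ i, K i = s) :
    Algebra.adjoin (𝒜 0)
      {z : HomogeneousLocalization.Away 𝒜 (∏ i, σ i ^ K i) |
        ∃ f ∈ 𝒜 s, z.val = Localization.mk f ⟨∏ i, σ i ^ K i, Submonoid.mem_powers _⟩} = ⊤ := by
  classical
  set P : A := ∏ i, σ i ^ K i with hPdef
  have hmon : ∀ L : Fin n → ℕ, (∏ i, σ i ^ L i) ∈ 𝒜 (∑ i, L i) := by
    intro L
    exact SetLike.prod_mem_graded 𝒜 L (fun i => σ i ^ L i) fun i _ => by
      simpa using SetLike.pow_mem_graded (L i) (hσ i)
  have hP : P ∈ 𝒜 s := hK ▸ hmon K
  set T := {z : HomogeneousLocalization.Away 𝒜 P |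
    ∃ f ∈ 𝒜 s, z.val = Localization.mk f ⟨P, Submonoid.mem_powers _⟩} with hT
  have hgen1 : ∀ (f : A) (hf : f ∈ 𝒜 (1 • s)),
      HomogeneousLocalization.Away.mk 𝒜 hP 1 f hf ∈ Algebra.adjoin (𝒜 0) T := by
    intro f hf
    refine Algebra.subset_adjoin ⟨f, by simpa using hf, ?_⟩
    rw [HomogeneousLocalization.Away.val_mk]
    congr 1
    exact Subtype.ext (pow_one P)
  have hmul : ∀ (a b : ℕ) (x y : A) (hx : x ∈ 𝒜 (a • s)) (hy : y ∈ 𝒜 (b • s)) (hxy : x * y ∈ 𝒜 ((a + b) • s)),
      HomogeneousLocalization.Away.mk 𝒜 hP (a + b) (x * y) hxy =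
        HomogeneousLocalization.Away.mk 𝒜 hP a x hx * HomogeneousLocalization.Away.mk 𝒜 hP b y hy := by
    intro a b x y hx hy hxy
    apply HomogeneousLocalization.val_injective
    rw [HomogeneousLocalization.val_mul, HomogeneousLocalization.Away.val_mk,
      HomogeneousLocalization.Away.val_mk, HomogeneousLocalization.Away.val_mk, Localization.mk_mul]
    congr 1
    exact Subtype.ext (pow_add P a b)
  -- monomials of degree `s·m` over `P^m` lie in the algebra
  have hmonmem : ∀ (m : ℕ) (L : Fin n → ℕ), ∑ i, L i = m * s → ∀ hh,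
      HomogeneousLocalization.Away.mk 𝒜 hP m (∏ i, σ i ^ L i) hh ∈ Algebra.adjoin (𝒜 0) T := by
    intro m
    induction m with
    | zero =>
      intro L hL hh
      have h1 : ∏ i, σ i ^ L i = 1 := Finset.prod_eq_one fun i hi => by
        have : L i ≤ ∑ j, L j := Finset.single_le_sum (fun j _ => Nat.zero_le _) hi
        rw [show L i = 0 by omega, pow_zero]
      have : HomogeneousLocalization.Away.mk 𝒜 hP 0 (∏ i, σ i ^ L i) hh = 1 := by
        apply HomogeneousLocalization.val_injective
        rw [HomogeneousLocalization.Away.val_mk, HomogeneousLocalization.val_one]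
        simp only [h1, pow_zero]
        exact Localization.mk_self (⟨1, Submonoid.one_mem _⟩ : Submonoid.powers P)
      rw [this]
      exact one_mem _
    | succ m ih =>
      intro L hL hh
      have hex : ∀ (j : ℕ), j ≤ ∑ i, L i → ∃ L' : Fin n → ℕ, (∀ i, L' i ≤ L i) ∧ ∑ i, L' i = j := by
        intro j
        induction j with
        | zero => exact fun _ => ⟨0, fun i => Nat.zero_le _, by simp⟩
        | succ j ihj =>
          intro hj
          obtain ⟨L', hle, hsum⟩ := ihj (by omega)
          obtain ⟨i, hi⟩ : ∃ i, L' i < L i := by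
            by_contra hc
            push Not at hc
            have := Finset.sum_le_sum (s := Finset.univ) fun i _ => hc i
            omega
          refine ⟨L' + Pi.single i 1, fun l => ?_, ?_⟩
          · by_cases h : l = i
            · subst h; simp; omega
            · simp [h, hle l]
          · simp [Finset.sum_add_distrib, hsum]
      obtain ⟨L', hle, hsum⟩ := hex s (by rw [hL, Nat.succ_mul]; omega)
      have hL2 : ∑ i, (L i - L' i) = m * s := by
        have : ∑ i, (L i - L' i) + ∑ i, L' i = ∑ i, L i := by
          rw [← Finset.sum_add_distrib]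
          exact Finset.sum_congr rfl fun i _ => Nat.sub_add_cancel (hle i)
        rw [hsum, hL, Nat.succ_mul] at this
        omega
      have h1 : (∏ i, σ i ^ L' i) ∈ 𝒜 (1 • s) := by rw [one_smul]; exact hsum ▸ hmon L'
      have h2 : (∏ i, σ i ^ (L i - L' i)) ∈ 𝒜 (m • s) := by
        rw [smul_eq_mul]; exact hL2 ▸ hmon _
      have h3 : ∏ i, σ i ^ L i = (∏ i, σ i ^ (L i - L' i)) * ∏ i, σ i ^ L' i := by
        rw [← Finset.prod_mul_distrib]
        exact Finset.prod_congr rfl fun i _ => by rw [← pow_add, Nat.sub_add_cancel (hle i)]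
      have h4 : (∏ i, σ i ^ (L i - L' i)) * (∏ i, σ i ^ L' i) ∈ 𝒜 ((m + 1) • s) := h3 ▸ hh
      simp only [h3]
      rw [hmul m 1 _ _ h2 h1 h4]
      exact mul_mem (ih _ hL2 h2) (hgen1 _ h1)
  rw [eq_top_iff]
  intro z _
  obtain ⟨m, a, ha, rfl⟩ := HomogeneousLocalization.Away.mk_surjective 𝒜 hP z
  obtain ⟨i, -, hi⟩ : ∃ i ∈ Finset.univ, K i ≠ 0 := Finset.exists_ne_zero_of_sum_ne_zero (by omega)
  let K' : Fin n → ℕ := Function.update K i (K i - 1)
  have hK' : ∀ l, K l = K' l + if l = i then 1 else 0 := fun l => by
    by_cases h : l = i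
    · subst h; simp [K']; omega
    · simp [K', h]
  have hK'sum : ∑ l, K' l + 1 = s := by
    rw [← hK, Finset.sum_congr rfl fun l _ => hK' l, Finset.sum_add_distrib]
    simp
  set g : A := ∏ l, σ l ^ K' l with hgdef
  have hg : g ∈ 𝒜 (∑ l, K' l) := hmon K'
  have hPg : P = σ i * g := by
    rw [hgdef, hPdef, mul_comm, Finset.prod_congr rfl fun l _ => by rw [hK' l, pow_add],
      Finset.prod_mul_distrib]
    simp
  let φ := HomogeneousLocalization.awayMapₐ 𝒜 hg hPg
  -- the image of the algebra of `σ i`
  have hφ : ∀ y, φ y ∈ Algebra.adjoin (𝒜 0) T := by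
    intro y
    have hy : y ∈ Algebra.adjoin (𝒜 0) _ := (hgen i).symm ▸ Algebra.mem_top
    induction hy using Algebra.adjoin_induction with
    | algebraMap r => rw [AlgHom.commutes]; exact Subalgebra.algebraMap_mem _ _
    | add x y _ _ hx hy => rw [map_add]; exact add_mem hx hy
    | mul x y _ _ hx hy => rw [map_mul]; exact mul_mem hx hy
    | mem x hx =>
      obtain ⟨f, hf, hxv⟩ := hx
      have hf' : f ∈ 𝒜 (s • 1) := by simpa using hf
      have hxe : x = HomogeneousLocalization.Away.mk 𝒜 (hσ i) s f hf' :=
        HomogeneousLocalization.val_injective _ (hxv.trans (HomogeneousLocalization.Away.val_mk 𝒜 s (hσ i) f hf').symm)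
      subst hxe
      have hgs : g ^ s = ∏ l, σ l ^ (K' l * s) := by
        rw [hgdef, ← Finset.prod_pow]
        exact Finset.prod_congr rfl fun l _ => (pow_mul _ _ _).symm
      have hsum' : ∑ l, K' l * s = (s - 1) * s := by
        rw [← Finset.sum_mul, show ∑ l, K' l = s - 1 by omega]
      have h2 : g ^ s ∈ 𝒜 ((s - 1) • s) := by
        rw [hgs, smul_eq_mul, ← hsum']; exact hmon _
      have h1 : f ∈ 𝒜 (1 • s) := by simpa using hf
      have h3 : f * g ^ s ∈ 𝒜 ((1 + (s - 1)) • s) := by
        rw [add_smul]; exact SetLike.mul_mem_graded h1 h2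
      have key : φ (HomogeneousLocalization.Away.mk 𝒜 (hσ i) s f hf') =
          HomogeneousLocalization.Away.mk 𝒜 hP (1 + (s - 1)) (f * g ^ s) h3 := by
        apply HomogeneousLocalization.val_injective
        rw [HomogeneousLocalization.awayMapₐ_apply, HomogeneousLocalization.awayMap_mk,
          HomogeneousLocalization.Away.val_mk, HomogeneousLocalization.Away.val_mk]
        congr 1
        exact Subtype.ext (show P ^ s = P ^ (1 + (s - 1)) by congr 1; omega)
      rw [key, hmul 1 (s - 1) f (g ^ s) h1 h2 h3]
      refine mul_mem (hgen1 f h1) ?_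
      simp only [hgs]
      exact hmonmem _ _ hsum' _
  have hσpow : σ i ^ (m * s) = ∏ l, σ l ^ (if l = i then m * s else 0) := by simp
  have hw : σ i ^ (m * s) ∈ 𝒜 (m • s) := by simpa using SetLike.pow_mem_graded (m * s) (hσ i)
  have ha' : a ∈ 𝒜 ((m * s) • 1) := by simpa using ha
  have key : HomogeneousLocalization.Away.mk 𝒜 hP m a ha =
      φ (HomogeneousLocalization.Away.mk 𝒜 (hσ i) (m * s) a ha') *
        HomogeneousLocalization.Away.mk 𝒜 hP m (σ i ^ (m * s)) hw := by
    apply HomogeneousLocalization.val_injective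
    rw [HomogeneousLocalization.val_mul, HomogeneousLocalization.awayMapₐ_apply,
      HomogeneousLocalization.awayMap_mk, HomogeneousLocalization.Away.val_mk,
      HomogeneousLocalization.Away.val_mk, HomogeneousLocalization.Away.val_mk, Localization.mk_mul,
      Localization.mk_eq_mk_iff, Localization.r_iff_exists]
    refine ⟨1, ?_⟩
    simp only [Submonoid.coe_mul, OneMemClass.coe_one, one_mul]
    rw [show P ^ (m * s) = σ i ^ (m * s) * g ^ (m * s) by rw [hPg, mul_pow]]
    ring
  rw [key]
  refine mul_mem (hφ _) ?_
  simp only [hσpow]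
  exact hmonmem m _ (by simp) _

end Groth.Agent.S17466
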