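import Groth.Statements.S17468
import Mathlib

set_option autoImplicit false
universe u v w
open LieRep

namespace Groth.Agent.S17468

theorem sum_sq_cast (k : Type*) [CommRing k] (n : ℕ) :
    3 * ∑ i : Fin (n + 1), ((n : k) - 2 * ((i : ℕ) : k)) ^ 2 = (n : k) * (n + 1) * (n + 2) := by
  have h : ∀ m : ℕ, 3 * ∑ i ∈ Finset.range m, ((n : k) - 2 * (i : k)) ^ 2 =
      3 * (m : k) * (n : k) ^ 2 - 6 * n * m * (m - 1) + 2 * m * (m - 1) * (2 * m - 1) := by
    intro m
    induction m with
    | zero => simp
    | succ m ih => rw [Finset.sum_range_succ, mul_add, ih, Nat.cast_succ]; ring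
  rw [Fin.sum_univ_eq_sum_range (fun i => ((n : k) - 2 * (i : k)) ^ 2), h, Nat.cast_succ]
  ring

theorem six_choose (m : ℕ) : 6 * (m + 2).choose 3 = m * (m + 1) * (m + 2) := by
  induction m with
  | zero => rfl
  | succ m ih =>
    rw [Nat.choose_succ_succ' (m + 2) 2, mul_add, ih, Nat.choose_two_right]
    have : 2 ∣ (m + 2) * (m + 2 - 1) := (Nat.even_mul_pred_self _).two_dvd
    obtain ⟨c, hc⟩ := this
    rw [hc, Nat.mul_div_cancel_left _ (by norm_num)]
    have h2 : (m + 2) * (m + 1) = 2 * c := by simpa using hc
    nlinarith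

theorem trace_irr (k : Type u) [Field k] [IsAlgClosed k] [CharZero k] (L : Type v) [LieRing L]
    [LieAlgebra k L] {h e f : L} (t : IsSl2Triple h e f) (hspan : t.toLieSubalgebra k = ⊤)
    (W : Type w) [AddCommGroup W] [Module k W] [LieRingModule L W] [LieModule k L W]
    [FiniteDimensional k W] [LieModule.IsIrreducible k L W] :
    LinearMap.trace k W ((LieModule.toEnd k L W h) ^ 2) =
      2 * (((Module.finrank k W + 1).choose 3 : ℕ) : k) := by
  haveI : Nontrivial W := LieModule.nontrivial_of_isIrreducible k L W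
  obtain ⟨μ, m, hm, P⟩ := t.exists_hasPrimitiveVectorWith (R := k) (M := W)
  obtain ⟨n, hn⟩ := P.exists_nat
  let ψ : ℕ → W := fun i => ((LieModule.toEnd k L W f) ^ i) m
  let v : Fin (n + 1) → W := fun i => ψ i
  have hvec : ∀ i : Fin (n + 1), (LieModule.toEnd k L W h).HasEigenvector (μ - 2 * ((i : ℕ) : k)) (v i) :=
    fun i => ⟨Module.End.mem_eigenspace_iff.2 (P.lie_h_pow_toEnd_f i),
      P.pow_toEnd_f_ne_zero_of_eq_nat hn (Nat.lt_succ_iff.1 i.2)⟩
  have hli : LinearIndependent k v :=
    Module.End.eigenvectors_linearIndependent' _ (fun i : Fin (n + 1) => μ - 2 * ((i : ℕ) : k))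
      (fun i j hij => Fin.ext (Nat.cast_injective (R := k) (by simpa using hij))) v hvec
  have hlast : ψ (n + 1) = 0 := P.pow_toEnd_f_eq_zero_of_eq_nat hn
  have hmem : ∀ i ≤ n + 1, ψ i ∈ Submodule.span k (Set.range v) := by
    intro i hi
    rcases Nat.lt_or_eq_of_le hi with hi | rfl
    · exact Submodule.subset_span ⟨⟨i, hi⟩, rfl⟩
    · rw [hlast]; exact Submodule.zero_mem _
  let N : LieSubmodule k L W :=
    { Submodule.span k (Set.range v) with
      lie_mem := fun {x w} hw => by
        have hx : x ∈ t.toLieSubalgebra k := by rw [hspan]; trivial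
        obtain ⟨c₁, c₂, c₃, rfl⟩ := IsSl2Triple.mem_toLieSubalgebra_iff.1 hx
        change ⁅_, w⁆ ∈ Submodule.span k (Set.range v)
        change w ∈ Submodule.span k (Set.range v) at hw
        induction hw using Submodule.span_induction with
        | zero => rw [lie_zero]; exact Submodule.zero_mem _
        | add a b _ _ ha hb => rw [lie_add]; exact add_mem ha hb
        | smul r a _ ha => rw [lie_smul]; exact Submodule.smul_mem _ _ ha
        | mem a ha =>
          obtain ⟨⟨i, hi⟩, rfl⟩ := ha
          simp only [add_lie, smul_lie, t.lie_e_f]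
          refine add_mem (add_mem (Submodule.smul_mem _ _ ?_) (Submodule.smul_mem _ _ ?_))
            (Submodule.smul_mem _ _ ?_)
          · cases i with
            | zero =>
              show ⁅e, ψ 0⁆ ∈ _
              simp [ψ, P.lie_e]
            | succ i =>
              show ⁅e, ψ (i + 1)⁆ ∈ _
              rw [show ⁅e, ψ (i + 1)⁆ = _ from P.lie_e_pow_succ_toEnd_f i]
              exact Submodule.smul_mem _ _ (hmem i (by omega))
          · show ⁅f, ψ i⁆ ∈ _
            rw [show ⁅f, ψ i⁆ = ψ (i + 1) from P.lie_f_pow_toEnd_f i]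
            exact hmem (i + 1) (by omega)
          · show ⁅h, ψ i⁆ ∈ _
            rw [show ⁅h, ψ i⁆ = _ from P.lie_h_pow_toEnd_f i]
            exact Submodule.smul_mem _ _ (hmem i (by omega)) }
  have htop : N = ⊤ := by
    refine (eq_bot_or_eq_top N).resolve_left fun h0 => hm ?_
    have h1 : ψ 0 ∈ N := Submodule.subset_span ⟨0, rfl⟩
    rw [h0, LieSubmodule.mem_bot] at h1
    simpa [ψ] using h1
  have hsp : ⊤ ≤ Submodule.span k (Set.range v) := fun x _ => by
    have hx : x ∈ N := by rw [htop]; trivial
    exact hx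
  let b := Module.Basis.mk hli hsp
  have hdim : Module.finrank k W = n + 1 := by
    rw [Module.finrank_eq_card_basis b, Fintype.card_fin]
  have hb : ∀ i : Fin (n + 1), ((LieModule.toEnd k L W h) ^ 2) (b i) =
      (((n : k) - 2 * ((i : ℕ) : k)) ^ 2) • b i := by
    intro i
    have h1 : (LieModule.toEnd k L W h) (v i) = (μ - 2 * ((i : ℕ) : k)) • v i :=
      P.lie_h_pow_toEnd_f i
    rw [Module.Basis.mk_apply, sq, Module.End.mul_apply, h1, map_smul, h1, smul_smul, hn, ← sq]
  rw [LinearMap.trace_eq_matrix_trace k b, Matrix.trace, hdim]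
  simp only [Matrix.diag_apply, LinearMap.toMatrix_apply, hb, map_smul, Module.Basis.repr_self,
    Finsupp.smul_single, smul_eq_mul, mul_one, Finsupp.single_eq_same]
  have h3 := sum_sq_cast k n
  have h6 : (6 : k) * ((n + 2).choose 3 : ℕ) = (n : k) * (n + 1) * (n + 2) := by
    exact_mod_cast congrArg (Nat.cast : ℕ → k) (six_choose n)
  apply mul_left_cancel₀ (show (3 : k) ≠ 0 by norm_num)
  rw [h3, ← h6]; ring


/-- Let k be an algebraically closed field of characteristic zero, L a Lie algebra over k spanned by an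
sl_2-triple (h, e, f), and V a finite-dimensional L-module written as an internal direct sum of
finitely many irreducible Lie submodules V_i. Then the trace on V of the square of the action of h
is 2 Σ_i C(dim V_i + 1, 3). (The published statement concerns a finite-dimensional representation V
of a simple Lie algebra restricted to the copy of sl_2 attached to the highest root θ, with h the
coroot θ^∨; there Σ_i C(dim V_i + 1, 3) is the index of V, and the trace is the sum over the weights
λ of V, with multiplicity, of ⟨λ, θ^∨⟩².) -/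
theorem result
    (k : Type u) [Field k] [IsAlgClosed k] [CharZero k]
    (L : Type v) [LieRing L] [LieAlgebra k L]
    (h e f : L) (t : IsSl2Triple h e f) (hspan : t.toLieSubalgebra k = ⊤)
    (V : Type w) [AddCommGroup V] [Module k V] [LieRingModule L V] [LieModule k L V]
    [FiniteDimensional k V]
    (ι : Type) [Fintype ι] [DecidableEq ι] (W : ι → LieSubmodule k L V)
    (hW : DirectSum.IsInternal fun i => (W i).toSubmodule)
    (hirr : ∀ i, LieModule.IsIrreducible k L (W i)) :
    LinearMap.trace k V ((LieModule.toEnd k L V h) ^ 2) =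
      2 * ∑ i, (((Module.finrank k (W i) + 1).choose 3 : ℕ) : k) := by
  have hf : ∀ i, Set.MapsTo (⇑((LieModule.toEnd k L V h) ^ 2 : Module.End k V)) ((W i).toSubmodule : Set V) ((W i).toSubmodule : Set V) := by
    intro i x hx
    rw [sq, Module.End.mul_apply]
    exact (W i).lie_mem ((W i).lie_mem hx)
  rw [LinearMap.trace_eq_sum_trace_restrict hW hf, Finset.mul_sum]
  refine Finset.sum_congr rfl fun i _ => ?_
  haveI := hirr i
  rw [← trace_irr k L t hspan (W i)]
  congr 1

end Groth.Agent.S17468
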