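import Groth.Statements.S17469
import Mathlib

set_option autoImplicit false
universe u
open CategoryTheory AlgebraicGeometry
open Variety

set_option backward.isDefEq.respectTransparency false
namespace Groth.Agent.S17469

/-- Let X be a locally Noetherian integral scheme all of whose local rings are integrally closed domains
and U an open subset of X. A section of O_X over U that is integral over the ring of global sections
of X, the latter acting through restriction, is itself the restriction of a global section. (The
published lemma is stated for an irreducible normal variety and for the graded ring of sections over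
U of all non-negative powers of a line bundle, integral over the corresponding ring of sections over
X; for the trivial line bundle its homogeneous components are the present statement, which is made
here for any locally Noetherian normal integral scheme.) -/
theorem result
    (X : Scheme.{u}) [AlgebraicGeometry.IsIntegral X] [IsLocallyNoetherian X]
    (hX : Pi1.IsNormalScheme X) (U : X.Opens) (b : Γ(X, U))
    (hb : (X.presheaf.map (homOfLE le_top : U ⟶ ⊤).op).hom.IsIntegralElem b) :
    b ∈ Set.range (X.presheaf.map (homOfLE le_top : U ⟶ ⊤).op).hom := by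
  classical
  let res : Γ(X, ⊤) →+* Γ(X, U) := (X.presheaf.map (homOfLE le_top : U ⟶ ⊤).op).hom
  haveI : Nonempty (⊤ : X.Opens) := ⟨⟨Classical.arbitrary X, trivial⟩⟩
  by_cases hU : Nonempty U
  swap
  · haveI : Subsingleton Γ(X, U) := by
      have : U = ⊥ := by
        ext x
        exact ⟨fun hx => absurd ⟨⟨x, hx⟩⟩ hU, fun hx => hx.elim⟩
      subst this
      exact CommRingCat.subsingleton_of_isTerminal (TopCat.Sheaf.isTerminalOfEmpty X.sheaf)
    exact ⟨0, Subsingleton.elim _ _⟩
  let β : X.functionField := X.germToFunctionField U b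
  have hres : ∀ (V W : X.Opens) [Nonempty V] [Nonempty W] (h : V ≤ W) (s : Γ(X, W)),
      X.germToFunctionField V ((X.presheaf.map (homOfLE h).op).hom s) = X.germToFunctionField W s := by
    intro V W _ _ h s
    exact X.presheaf.germ_res_apply (homOfLE h) _ _ s
  have hloc : ∀ x : X, ∃ (V : X.Opens) (hx : x ∈ V) (s : Γ(X, V)),
      ∀ [Nonempty V], X.germToFunctionField V s = β := by
    intro x
    haveI := (hX x).1
    haveI := (hX x).2
    obtain ⟨p, hp, hp0⟩ := hb
    have hint : IsIntegral (X.presheaf.stalk x) β := by
      refine ⟨p.map (X.presheaf.germ ⊤ x trivial).hom, hp.map _, ?_⟩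
      rw [Polynomial.eval₂_map]
      have h1 : ((algebraMap (X.presheaf.stalk x) X.functionField).comp (X.presheaf.germ ⊤ x trivial).hom) =
          (X.germToFunctionField U).hom.comp res := by
        refine RingHom.ext fun s => ?_
        rw [RingHom.comp_apply, RingHom.comp_apply]
        refine (X.algebraMap_germ_eq_germToFunctionField (U := (⊤ : X.Opens)) (x := x) trivial s).trans ?_
        exact (hres U ⊤ le_top s).symm
      rw [h1, ← Polynomial.hom_eval₂, hp0, map_zero]
    obtain ⟨y, hy⟩ := IsIntegrallyClosed.isIntegral_iff.1 hint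
    obtain ⟨V, hxV, s, rfl⟩ := TopCat.Presheaf.exists_germ_eq (C := CommRingCat.{u}) X.presheaf y
    refine ⟨V, hxV, s, fun {_} => ?_⟩
    rw [← X.algebraMap_germ_eq_germToFunctionField hxV s]
    exact hy
  choose V hxV s hs using hloc
  haveI hne : ∀ x, Nonempty (V x) := fun x => ⟨⟨x, hxV x⟩⟩
  have hsup : (⊤ : X.Opens) ≤ iSup V := fun x _ => TopologicalSpace.Opens.mem_iSup.2 ⟨x, hxV x⟩
  obtain ⟨g, hg, -⟩ := X.sheaf.existsUnique_gluing' V ⊤ (fun x => homOfLE le_top) hsup s fun x y => by
    by_cases he : Nonempty (↥(V x ⊓ V y : X.Opens))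
    · haveI : Nonempty ↥((V x ⊓ V y : X.Opens) : Scheme.{u}) := he
      refine @Scheme.germToFunctionField_injective X _ (V x ⊓ V y) he _ _ ?_
      exact ((hres _ _ inf_le_left (s x)).trans (hs x)).trans ((hres _ _ inf_le_right (s y)).trans (hs y)).symm
    · have : V x ⊓ V y = ⊥ := by
        ext z
        exact ⟨fun hz => absurd ⟨⟨z, hz⟩⟩ he, fun hz => hz.elim⟩
      haveI : Subsingleton Γ(X, V x ⊓ V y) := by
        rw [this]
        exact CommRingCat.subsingleton_of_isTerminal (TopCat.Sheaf.isTerminalOfEmpty X.sheaf)
      exact @Subsingleton.elim Γ(X, V x ⊓ V y) _ _ _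
  obtain ⟨⟨x₀, hx₀⟩⟩ := hU
  haveI : Nonempty ↥((U : X.Opens) : Scheme.{u}) := ⟨⟨x₀, hx₀⟩⟩
  refine ⟨g, X.germToFunctionField_injective U ?_⟩
  refine (hres U ⊤ le_top g).trans ?_
  refine ((hres (V x₀) ⊤ le_top g).symm.trans ?_).trans (hs x₀)
  exact congrArg _ (hg x₀)

end Groth.Agent.S17469
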