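import Groth.Statements.S17471
import Groth.Agent.RootCh.Core

set_option autoImplicit false
universe u v w x
open RootCh

namespace Groth.Agent.S17471

/-- Let Φ be a finite, reduced, crystallographic, irreducible root system with a base, and θ a positive
root such that θ + β is a root for no positive root β (so θ is the highest root). Then Σ_{β>0} ⟨β,
θ^∨⟩² = 2 + Σ_{β>0} ⟨β, θ^∨⟩ = 2(1 + ⟨ρ, θ^∨⟩), ρ being half the sum of the positive roots; in the
source the left side is the index of the adjoint representation obtained from its formal character,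
and 1 + ⟨ρ, θ^∨⟩ is the dual Coxeter number. -/
theorem result
    {ι : Type u} {R : Type v} {M : Type w} {N : Type x}
    [Field R] [LinearOrder R] [IsStrictOrderedRing R]
    [AddCommGroup M] [Module R M] [AddCommGroup N] [Module R N] [Fintype ι]
    (P : RootPairing ι R M N) [P.IsRootSystem] [P.IsCrystallographic] [P.IsReduced]
    [P.IsIrreducible] (b : P.Base) (θ : ι) (hθ : b.IsPos θ)
    (hmax : ∀ i : ι, b.IsPos i → P.root θ + P.root i ∉ Set.range P.root) :
    ∑ i ∈ Finset.univ.filter (fun i => 0 < b.height i), P.pairing i θ ^ 2 =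
      2 + ∑ i ∈ Finset.univ.filter (fun i => 0 < b.height i), P.pairing i θ := by
  classical
  have hθ0 : b.height θ > 0 := (RootPairing.Base.isPos_iff b).mp hθ
  have hmem : θ ∈ Finset.univ.filter (fun i => 0 < b.height i) := by simpa using hθ0
  rw [← Finset.add_sum_erase _ _ hmem, ← Finset.add_sum_erase _ _ hmem, P.pairing_same]
  have key : ∀ i ∈ (Finset.univ.filter (fun i => 0 < b.height i)).erase θ,
      P.pairing i θ ^ 2 = P.pairing i θ := by
    intro i hi
    simp only [Finset.mem_erase, Finset.mem_filter, Finset.mem_univ, true_and] at hi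
    obtain ⟨hne, hpos⟩ := hi
    have hip : b.IsPos i := (RootPairing.Base.isPos_iff b).mpr hpos
    have hnn : 0 ≤ P.pairingIn ℤ i θ := by
      by_contra hlt
      refine hmax i hip ?_
      rw [add_comm]
      refine P.root_add_root_mem_of_pairingIn_neg (not_le.mp hlt) ?_
      rw [← Groth.Agent.RootCh.root_opp θ]
      intro h
      have := P.root.injective h
      subst this
      exact (Groth.Agent.RootCh.isPos_opp b θ).mp hip hθ
    have hle : P.pairingIn ℤ i θ ≤ 1 := by
      by_contra hgt
      rw [not_le] at hgt
      obtain ⟨k, hk⟩ := P.root_sub_root_mem_of_pairingIn_pos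
        (by omega : 0 < P.pairingIn ℤ i θ) hne
      by_cases hkp : b.IsPos k
      · exact hmax k hkp ⟨i, by rw [hk]; abel⟩
      -- `θ - i` is a positive root
      have hj := (Groth.Agent.RootCh.isPos_opp b k).mpr hkp
      refine hmax _ hj ?_
      rw [Groth.Agent.RootCh.root_opp, hk]
      rcases (show P.pairingIn ℤ i θ = 2 ∨ 2 < P.pairingIn ℤ i θ by omega) with h2 | h2
      · refine ⟨P.reflectionPerm (P.reflectionPerm θ i) (P.reflectionPerm θ i), ?_⟩
        rw [Groth.Agent.RootCh.root_opp, P.root_reflectionPerm, P.reflection_apply_root' ℤ, h2]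
        module
      · have hneg : P.pairingIn ℤ (P.reflectionPerm k k) θ < 0 := by
          have h : P.pairing (P.reflectionPerm k k) θ = 2 - P.pairing i θ := by
            show P.toLinearMap (P.root (P.reflectionPerm k k)) (P.coroot θ) = _
            rw [Groth.Agent.RootCh.root_opp, hk, neg_sub, map_sub, LinearMap.sub_apply]
            rw [show P.toLinearMap (P.root θ) (P.coroot θ) = 2 from P.root_coroot_two θ]
            rfl
          rw [← P.algebraMap_pairingIn ℤ, ← P.algebraMap_pairingIn ℤ i θ, eq_intCast, eq_intCast] at h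
          have h' : P.pairingIn ℤ (P.reflectionPerm k k) θ = 2 - P.pairingIn ℤ i θ := by
            exact_mod_cast h
          omega
        rw [← hk, ← Groth.Agent.RootCh.root_opp, add_comm]
        refine P.root_add_root_mem_of_pairingIn_neg hneg ?_
        rw [← Groth.Agent.RootCh.root_opp θ]
        intro h
        exact (Groth.Agent.RootCh.isPos_opp b θ).mp (P.root.injective h ▸ hj) hθ
    rw [← P.algebraMap_pairingIn ℤ, eq_intCast]
    rcases (show P.pairingIn ℤ i θ = 0 ∨ P.pairingIn ℤ i θ = 1 by omega) with h | h <;> simp [h]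
  rw [Finset.sum_congr rfl key]
  ring

end Groth.Agent.S17471
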