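import Groth.Statements.S17473
import Groth.Agent.Chev.ContractFactor

set_option autoImplicit false
universe u
open CategoryTheory MonoidalCategory CartesianMonoidalCategory MonObj GrpObj AlgebraicGeometry CategoryTheory.Limits
open AlgGrp

namespace Groth.Agent.S17473

/-- Let k be a field, G a k-group scheme locally of finite type, X and Y separated k-schemes, f : X → Y
a proper k-morphism such that O_Y → f_*O_X is an isomorphism (on sections over every open subset of
Y), and a an action of G on X. The following are equivalent: (i) some action of G on Y makes f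
equivariant; (ii) X ×_Y X is stable under G acting diagonally on X × X, i.e. for every k-scheme T,
every T-point g of G and all T-points x₁, x₂ of X with f x₁ = f x₂ one has f (g · x₁) = f (g · x₂);
(iii) the underlying map of the composite G × X → X → Y is constant on the topological fibres of G ×
X → G × Y. (The published text works over an algebraically closed field; any field is allowed here.) -/
theorem result (k : Type u) [Field k]
    (G X Y : Over (Spec (CommRingCat.of k))) [GrpObj G] [LocallyOfFiniteType G.hom]
    [IsSeparated X.hom] [IsSeparated Y.hom]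
    (f : X ⟶ Y) [IsProper f.left] (hf : ∀ U : Y.left.Opens, IsIso (f.left.app U))
    (a : AlgGrp.Action G X) :
    [∃ b : AlgGrp.Action G Y, (G ◁ f) ≫ b.act = a.act ≫ f,
      ∀ (T : Over (Spec (CommRingCat.of k))) (g : T ⟶ G) (x₁ x₂ : T ⟶ X),
        x₁ ≫ f = x₂ ≫ f → lift g x₁ ≫ a.act ≫ f = lift g x₂ ≫ a.act ≫ f,
      ∀ p q : ↥(G ⊗ X).left, (G ◁ f).left.base p = (G ◁ f).left.base q →
        (a.act ≫ f).left.base p = (a.act ≫ f).left.base q].TFAE := by
  classical
  haveI : Surjective f.left := Contract.surjective_of_bijective_app f.left hf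
  have hpb : ∀ P : Over (Spec (CommRingCat.of k)),
      IsPullback (snd P X).left (P ◁ f).left f.left (snd P Y).left := by
    intro P
    have hbig : IsPullback (snd P X).left ((P ◁ f).left ≫ (fst P Y).left) (f.left ≫ Y.hom) P.hom := by
      rw [← Over.comp_left, whiskerLeft_fst, Over.w f]
      exact (IsPullback.of_hasPullback P.hom X.hom).flip
    exact IsPullback.of_bot hbig (by rw [← Over.comp_left, ← Over.comp_left, whiskerLeft_snd])
      (IsPullback.of_hasPullback P.hom Y.hom).flip
  have hbasis : ∀ P : Over (Spec (CommRingCat.of k)), Contract.HasGoodBasis (P ◁ f).left := by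
    intro P
    haveI : Flat (snd P Y).left := MorphismProperty.pullback_snd P.hom Y.hom inferInstance
    exact Contract.hasGoodBasis_of_isPullback (hpb P) fun U _ => hf U
  have hsurj : ∀ P : Over (Spec (CommRingCat.of k)), Surjective (P ◁ f).left := fun P =>
    MorphismProperty.of_isPullback (P := @Surjective) (hpb P) ‹_›
  have hprop : ∀ P : Over (Spec (CommRingCat.of k)), IsProper (P ◁ f).left := fun P =>
    MorphismProperty.of_isPullback (P := @IsProper) (hpb P) ‹_›
  have hepi : ∀ P : Over (Spec (CommRingCat.of k)), Epi (P ◁ f) := fun P => ⟨fun u v h => by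
    haveI := hsurj P
    exact Over.OverMorphism.ext (Contract.hom_ext _ (hbasis P) _ _ (congrArg CommaMorphism.left h))⟩
  tfae_have 1 → 2 := by
    rintro ⟨b, hb⟩ T g x₁ x₂ hx
    have : ∀ x : T ⟶ X, lift g x ≫ a.act ≫ f = lift g (x ≫ f) ≫ b.act := fun x => by
      rw [← hb, lift_whiskerLeft_assoc]
    rw [this, this, hx]
  tfae_have 2 → 3 := by
    intro h p q hpq
    obtain ⟨r, hr₁, hr₂⟩ := Scheme.Pullback.exists_preimage_pullback
      (f := (G ◁ f).left) (g := (G ◁ f).left) p q hpq
    let P₀ : Over (Spec (CommRingCat.of k)) := Over.mk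
      (((pullback (G ◁ f).left (G ◁ f).left).fromSpecResidueField r ≫ pullback.fst _ _) ≫ (G ⊗ X).hom)
    let u : P₀ ⟶ G ⊗ X := Over.homMk
      ((pullback (G ◁ f).left (G ◁ f).left).fromSpecResidueField r ≫ pullback.fst _ _) rfl
    let v : P₀ ⟶ G ⊗ X := Over.homMk
      ((pullback (G ◁ f).left (G ◁ f).left).fromSpecResidueField r ≫ pullback.snd _ _) (by
        show _ ≫ (G ⊗ X).hom = _ ≫ (G ⊗ X).hom
        rw [← Over.w (G ◁ f), Category.assoc, ← pullback.condition_assoc, Category.assoc])
    have huv : u ≫ (G ◁ f) = v ≫ (G ◁ f) := by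
      apply Over.OverMorphism.ext
      show (_ ≫ pullback.fst _ _) ≫ (G ◁ f).left = (_ ≫ pullback.snd _ _) ≫ (G ◁ f).left
      rw [Category.assoc, pullback.condition, Category.assoc]
    have h1 : u ≫ fst G X = v ≫ fst G X := by
      simpa using congrArg (· ≫ fst G Y) huv
    have h2 : (u ≫ snd G X) ≫ f = (v ≫ snd G X) ≫ f := by
      simpa using congrArg (· ≫ snd G Y) huv
    have h3 := h P₀ (u ≫ fst G X) (u ≫ snd G X) (v ≫ snd G X) h2
    rw [← comp_lift, lift_fst_snd, Category.comp_id, h1, ← comp_lift, lift_fst_snd, Category.comp_id] at h3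
    have z : (Spec ((pullback (G ◁ f).left (G ◁ f).left).residueField r)) := IsLocalRing.closedPoint _
    have h4 : (a.act ≫ f).left (u.left z) = (a.act ≫ f).left (v.left z) := by
      rw [← Scheme.Hom.comp_apply, ← Over.comp_left, ← Scheme.Hom.comp_apply, ← Over.comp_left, h3]
    have hu : u.left z = p := by
      show ((pullback (G ◁ f).left (G ◁ f).left).fromSpecResidueField r ≫ pullback.fst _ _) z = p
      rw [Scheme.Hom.comp_apply, Scheme.fromSpecResidueField_apply, hr₁]
    have hv : v.left z = q := by
      show ((pullback (G ◁ f).left (G ◁ f).left).fromSpecResidueField r ≫ pullback.snd _ _) z = q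
      rw [Scheme.Hom.comp_apply, Scheme.fromSpecResidueField_apply, hr₂]
    rwa [hu, hv] at h4
  tfae_have 3 → 1 := by
    intro h
    haveI := hsurj G
    haveI := hprop G
    obtain ⟨m, hm⟩ := Contract.exists_desc (G ◁ f).left (hbasis G) (G ◁ f).left.isClosedMap (a.act ≫ f).left h
    let b : G ⊗ Y ⟶ Y := Over.homMk m (Contract.hom_ext _ (hbasis G) _ _ (by
      rw [← Category.assoc, hm, Over.w (a.act ≫ f), Over.w (G ◁ f)]))
    have hb : (G ◁ f) ≫ b = a.act ≫ f := Over.OverMorphism.ext hm
    refine ⟨⟨b, ?_, ?_⟩, hb⟩
    · haveI := hepi (𝟙_ _)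
      rw [← cancel_epi (_ ◁ f), whisker_exchange_assoc, hb, ← Category.assoc, a.one_act,
        leftUnitor_naturality]
    · haveI := hepi (G ⊗ G)
      rw [← cancel_epi (_ ◁ f), whisker_exchange_assoc, hb, ← Category.assoc, a.mul_act,
        associator_naturality_right_assoc, ← MonoidalCategory.whiskerLeft_comp_assoc G (G ◁ f), hb,
        MonoidalCategory.whiskerLeft_comp_assoc, hb]
      simp only [Category.assoc]
  tfae_finish

end Groth.Agent.S17473
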