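import Groth.Statements.S17474
import Groth.Agent.TMul.Assoc
import Groth.Agent.W7Cube.Pic

set_option autoImplicit false
universe u
open CategoryTheory MonoidalCategory CartesianMonoidalCategory MonObj GrpObj AlgebraicGeometry CategoryTheory.Limits
open AlgGrp

set_option backward.isDefEq.respectTransparency false
set_option backward.isDefEq.respectTransparency.types false
set_option linter.style.haveILetI false

namespace Groth.Agent.S17474

open Groth.Agent

/-- Over an algebraically closed field k, let X be a projective variety (an integral k-scheme admitting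
a closed immersion into some projective space over k) and let a connected k-group scheme of finite
type G act on X. For a k-point g of G write t_g : X → X, x ↦ g · x. Then for every invertible
O_X-module L and every invertible M with L ⊗ M ≅ O_X (an inverse of L), the invertible module
t_g^*(L) ⊗ M is algebraically equivalent to zero. Equivalently, the neutral component of the
automorphism group scheme of X acts trivially on the Néron–Severi group of X. -/
theorem result (k : Type u) [Field k] [IsAlgClosed k]
    (G X : Over (Spec (CommRingCat.of k))) [GrpObj G] [LocallyOfFiniteType G.hom] [QuasiCompact G.hom]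
    [ConnectedSpace ↥G.left] [IsIntegral X.left] (hX : RelProj.IsHProjective X.hom)
    (a : AlgGrp.Action G X) (g : 𝟙_ (Over (Spec (CommRingCat.of k))) ⟶ G)
    (L M : X.left.Modules) (hL : PicF.IsInvertible L) (hM : PicF.IsInvertible M)
    (hLM : Nonempty (CohB1.tensorMod L M ≅ Coh.structureModule X.left)) :
    @Pic13.IsAlgEquivZero k _ X.left ⟨X.hom⟩
      (CohB1.tensorMod ((Scheme.Modules.pullback (lift (toUnit X ≫ g) (𝟙 X) ≫ a.act).left).obj L) M) := by
  letI : X.left.Over (Spec (CommRingCat.of k)) := ⟨X.hom⟩
  obtain ⟨e⟩ := hLM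
  let q := (lift (snd X G) (fst X G) ≫ a.act).left
  let F := CohB1.tensorMod ((Scheme.Modules.pullback q).obj L) ((Scheme.Modules.pullback (fst X G).left).obj M)
  have key : ∀ h : 𝟙_ (Over (Spec (CommRingCat.of k))) ⟶ G,
      Nonempty (Pic13.fibreMod k X.left G.hom h.left (Over.w h) F ≅
        CohB1.tensorMod ((Scheme.Modules.pullback (lift (toUnit X ≫ h) (𝟙 X) ≫ a.act).left).obj L) M) := by
    intro h
    have es : Pic13.sliceAt k X.left G.hom h.left (Over.w h) = (lift (𝟙 X) (toUnit X ≫ h)).left := by
      refine pullback.hom_ext ?_ ?_ <;> simp [Pic13.sliceAt] <;>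
        first | exact (pullback.lift_fst _ _ _).symm | exact (pullback.lift_snd _ _ _).symm
    let σ := (lift (𝟙 X) (toUnit X ≫ h)).left
    have e1 : σ ≫ q = (lift (toUnit X ≫ h) (𝟙 X) ≫ a.act).left := by
      rw [← Over.comp_left, ← Category.assoc, comp_lift, lift_fst, lift_snd]
    have e2 : σ ≫ (fst X G).left = 𝟙 _ := by rw [← Over.comp_left, lift_fst]; rfl
    obtain ⟨u⟩ := TMul.nonempty_pullTensorIso σ ((Scheme.Modules.pullback q).obj L)
      ((Scheme.Modules.pullback (fst X G).left).obj M)
    exact ⟨(Scheme.Modules.pullbackCongr es).app F ≪≫ u.symm ≪≫ PicGrp.tensorModIso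
      ((Scheme.Modules.pullbackComp σ q).app L ≪≫ (Scheme.Modules.pullbackCongr e1).app L)
      ((Scheme.Modules.pullbackComp σ _).app M ≪≫ (Scheme.Modules.pullbackCongr e2).app M ≪≫
        (Scheme.Modules.pullbackId _).app M)⟩
  obtain ⟨i⟩ := key g
  obtain ⟨i₀⟩ := key η[G]
  have e0 : (lift (toUnit X ≫ η[G]) (𝟙 X) ≫ a.act).left = 𝟙 _ := by
    rw [show lift (toUnit X ≫ η[G]) (𝟙 X) = (λ_ X).inv ≫ (η[G] ▷ X) by
      refine CartesianMonoidalCategory.hom_ext _ _ ?_ ?_ <;> simp [toUnit_unique (_ : X ⟶ 𝟙_ _) (toUnit X)],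
      Category.assoc, a.one_act, Iso.inv_hom_id]
    rfl
  exact ⟨G.left, G.hom, inferInstance, inferInstance, inferInstance, F,
    TMul.isInvertible_tensorMod (PicLoc.isInvertible_pullback _ hL) (PicLoc.isInvertible_pullback _ hM),
    g.left, η[G].left, Over.w g, Over.w η[G], ⟨i⟩,
    ⟨i₀ ≪≫ PicGrp.tensorModIso ((Scheme.Modules.pullbackCongr e0).app L ≪≫ (Scheme.Modules.pullbackId _).app L)
      (Iso.refl M) ≪≫ e⟩⟩


end Groth.Agent.S17474
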