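import Groth.Statements.S17475
import Groth.Agent.NormAct.Main
import Groth.Agent.HQProj.Basic

set_option autoImplicit false
universe u
open CategoryTheory MonoidalCategory CartesianMonoidalCategory MonObj GrpObj AlgebraicGeometry CategoryTheory.Limits
open AlgGrp

set_option backward.isDefEq.respectTransparency false
set_option backward.isDefEq.respectTransparency.types false

namespace Groth.Agent.S17475

/-- Over an algebraically closed field k, let X be a normal projective variety (an integral k-scheme
whose local rings are integrally closed domains, admitting a closed immersion into some projective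
space over k) and let a connected k-group scheme of finite type G act on X. For a k-point g of G
write t_g : X → X, x ↦ g · x. Then every invertible O_X-module L which is algebraically equivalent
to zero satisfies t_g^*(L) ≅ L. Equivalently, the Picard variety of X is an abelian variety on which
the neutral component of the automorphism group scheme of X acts trivially. (For non-normal X the
conclusion can fail: the neutral component may act non-trivially on the Picard variety.) -/
theorem result (k : Type u) [Field k] [IsAlgClosed k]
    (G X : Over (Spec (CommRingCat.of k))) [GrpObj G] [LocallyOfFiniteType G.hom] [QuasiCompact G.hom]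
    [ConnectedSpace ↥G.left] [IsIntegral X.left] (hXn : Pi1.IsNormalScheme X.left)
    (hX : RelProj.IsHProjective X.hom)
    (a : AlgGrp.Action G X) (g : 𝟙_ (Over (Spec (CommRingCat.of k))) ⟶ G)
    (L : X.left.Modules) (hL : PicF.IsInvertible L) (h0 : @Pic13.IsAlgEquivZero k _ X.left ⟨X.hom⟩ L) :
    Nonempty ((Scheme.Modules.pullback (lift (toUnit X ≫ g) (𝟙 X) ≫ a.act).left).obj L ≅ L) := by
  letI := Groth.Agent.W7Cube.law
  haveI : IsProper X.hom := by
    obtain ⟨n, i, hi, he⟩ := hX
    haveI := hi
    haveI := Groth.Agent.HQProj.isProper_toBase n (Spec (CommRingCat.of k))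
    rw [← he]
    infer_instance
  letI : X.left.Over (Spec (CommRingCat.of k)) := ⟨X.hom⟩
  have hone : lift (toUnit X ≫ η[G]) (𝟙 X) ≫ a.act = 𝟙 X := by
    have h : lift (toUnit X ≫ η[G]) (𝟙 X) = lift (toUnit X) (𝟙 X) ≫ (η[G] ▷ X) := by
      apply CartesianMonoidalCategory.hom_ext <;> simp
    rw [h, Category.assoc, a.one_act]
    simp
  have h := Groth.Agent.NormAct.translate_eq hXn a.act η[G] g hone ((Groth.Agent.PicRoot.algCl_iff hL).2 h0)
  rw [← PicGrp.cls_eq_cls_iff (PicLoc.isInvertible_pullback _ hL) hL, ← Groth.Agent.W7Cube.pull_cls]
  exact h

end Groth.Agent.S17475
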