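import Groth.Statements.S17476
import Groth.Agent.RefStalk.Codim
import Groth.Agent.RefStalk.Refl

set_option autoImplicit false
universe u
open CategoryTheory AlgebraicGeometry Opposite
open Coh

set_option backward.isDefEq.respectTransparency false
namespace Groth.Agent.S17476

/-- Let R be a Noetherian ring, Z = Spec R, M a finitely generated R-module with associated
quasi-coherent sheaf M~ (so that Hom_R(M, R) = Hom_Z(M~, O_Z)), and Z₀ ⊆ Z an open subscheme. (1) If
the restriction of functions Γ(Z, O_Z) → Γ(Z₀, O_Z) is injective, then the restriction map Hom_Z(M~,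
O_Z) → Hom_{Z₀}(M~|Z₀, O_{Z₀}) is injective. (2) If R is an integrally closed domain and the closed
complement of Z₀ has codimension at least 2 (every prime ideal outside Z₀ has height at least 2),
then that restriction map is bijective. (The published first assertion assumes only that Z₀ is
dense; for R = k[x,y]/(x², xy), M = R and Z₀ the locus y ≠ 0, which is dense, multiplication by x is
a nonzero element of Hom_R(M, R) restricting to zero, so schematic density is what is needed and
what the printed argument uses. The published second assertion is for a normal irreducible affine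
variety; any Noetherian integrally closed domain is allowed here.) -/
theorem result (R : Type u) [CommRing R] [IsNoetherianRing R]
    (M : ModuleCat.{u} (CommRingCat.of R)) [Module.Finite R M] (U : (Spec (CommRingCat.of R)).Opens) :
    (Function.Injective ((Spec (CommRingCat.of R)).presheaf.map (homOfLE (le_top : U ≤ ⊤)).op) →
      Function.Injective (fun φ : AlgebraicGeometry.tilde M ⟶ Coh.structureModule (Spec (CommRingCat.of R)) =>
        (Scheme.Modules.restrictFunctor U.ι).map φ)) ∧
    (IsDomain R → IsIntegrallyClosed R → (∀ p : PrimeSpectrum R, p ∉ U → (2 : ℕ∞) ≤ p.asIdeal.height) →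
      Function.Bijective (fun φ : AlgebraicGeometry.tilde M ⟶ Coh.structureModule (Spec (CommRingCat.of R)) =>
        (Scheme.Modules.restrictFunctor U.ι).map φ)) := by
  classical
  let X := Spec (CommRingCat.of R)
  let O := Coh.structureModule X
  let η := (Scheme.Modules.restrictAdjunction U.ι).unit.app O
  let g := (moduleSpecΓFunctor (R := CommRingCat.of R)).map η
  let e₁ := (tilde.adjunction (R := CommRingCat.of R)).homEquiv M O
  let e₂ := ((Scheme.Modules.restrictAdjunction U.ι).homEquiv (tilde M) ((Scheme.Modules.restrictFunctor U.ι).obj O)).trans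
    ((tilde.adjunction (R := CommRingCat.of R)).homEquiv M _)
  have hkey : ∀ φ : tilde M ⟶ O, e₂ ((Scheme.Modules.restrictFunctor U.ι).map φ) = e₁ φ ≫ g := fun φ => by
    change (tilde.adjunction (R := CommRingCat.of R)).homEquiv M _
      ((Scheme.Modules.restrictAdjunction U.ι).homEquiv _ _ ((Scheme.Modules.restrictFunctor U.ι).map φ)) = _
    have h0 : (Scheme.Modules.restrictAdjunction U.ι).homEquiv _ _ ((Scheme.Modules.restrictFunctor U.ι).map φ) =
        φ ≫ η := (Adjunction.homEquiv_unit _ _ _ _).trans
      ((Scheme.Modules.restrictAdjunction U.ι).unit.naturality φ).symm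
    exact (congrArg ((tilde.adjunction (R := CommRingCat.of R)).homEquiv M _) h0).trans
      ((tilde.adjunction (R := CommRingCat.of R)).homEquiv_naturality_right φ η)
  have heq : ((fun φ => (Scheme.Modules.restrictFunctor U.ι).map φ) : (tilde M ⟶ O) → _) =
      e₂.symm ∘ (fun h => h ≫ g) ∘ e₁ := funext fun φ => by
    simp only [Function.comp_apply]
    rw [← hkey, Equiv.symm_apply_apply]
  let V : X.Opens := U.ι ''ᵁ (U.ι ⁻¹ᵁ ⊤)
  have hV : V = U := U.ι_image_top
  have hg : Function.Injective (X.presheaf.map (homOfLE (le_top : U ≤ ⊤)).op) → Function.Injective g.hom := by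
    intro h
    have h' : Function.Injective (X.presheaf.map (homOfLE (le_top : V ≤ ⊤)).op) := hV.symm ▸ h
    exact h'
  have hcomp : Function.Injective (X.presheaf.map (homOfLE (le_top : U ≤ ⊤)).op) →
      Function.Injective (fun h : M ⟶ moduleSpecΓFunctor.obj O => h ≫ g) := fun h a b hab => by
    ext m
    exact hg h (congr($(hab) m))
  refine ⟨fun h => ?_, fun hd hi hht => ?_⟩
  · rw [show ((fun φ => (Scheme.Modules.restrictFunctor U.ι).map φ) : (tilde M ⟶ O) → _) = _ from heq]
    exact e₂.symm.injective.comp ((hcomp h).comp e₁.injective)
  · have hn : Pi1.IsNormalScheme X := fun p =>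
      ⟨IsLocalization.isDomain_of_le_nonZeroDivisors (R := R) (S := (Spec.structureSheaf R).presheaf.stalk p)
          (M := p.asIdeal.primeCompl) p.asIdeal.primeCompl_le_nonZeroDivisors,
        isIntegrallyClosed_of_isLocalization ((Spec.structureSheaf R).presheaf.stalk p) p.asIdeal.primeCompl
          p.asIdeal.primeCompl_le_nonZeroDivisors⟩
    haveI : IsNoetherianRing (CommRingCat.of R) := inferInstanceAs (IsNoetherianRing R)
    have hb : Function.Bijective (X.presheaf.map (homOfLE (le_top : V ≤ ⊤)).op) :=
      RefStalk.bijective_rs_of_depth (F := Coh.structureModule X) (RefStalk.isCoh_structureModule) le_top fun x _ hx =>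
        RefStalk.two_le_depth_of_isReflexiveAt RefStalk.isCoh_structureModule x (by
          obtain ⟨e, -⟩ := RefStalk.exists_structStalk x
          haveI := Module.Free.of_equiv e
          haveI : Module.Finite (X.presheaf.stalk x) ((Coh.structureModule X).presheaf.stalk x) := Module.Finite.equiv e
          infer_instance) (RefStalk.two_le_depth hn x (by
          have e := IsLocalization.AtPrime.ringKrullDim_eq_height x.asIdeal ((Spec.structureSheaf R).presheaf.stalk x)
          exact (WithBot.coe_le_coe.2 (hht x (hV ▸ hx))).trans_eq e.symm))
    haveI : IsIso g := (ConcreteCategory.isIso_iff_bijective g).2 hb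
    rw [show ((fun φ => (Scheme.Modules.restrictFunctor U.ι).map φ) : (tilde M ⟶ O) → _) = _ from heq]
    exact e₂.symm.bijective.comp (((asIso g).homToEquiv).bijective.comp e₁.bijective)

end Groth.Agent.S17476
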