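import Groth.Statements.S17478
import Groth.Agent.FixAmple.Main
import Groth.Agent.GrMax.Step
import Groth.Agent.AdjRep.CompAffine
import Groth.Agent.HQProj.Basic

set_option autoImplicit false
set_option linter.style.haveILetI false
universe u
open CategoryTheory MonoidalCategory CartesianMonoidalCategory MonObj GrpObj AlgebraicGeometry CategoryTheory.Limits
open AlgGrp

namespace Groth.Agent.S17478

/-- Over an algebraically closed field k, let X be a projective variety (an integral k-scheme with a
closed immersion into some projective space over k) and L an ample invertible O_X-module. Let G be a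
reduced k-group scheme of finite type acting faithfully on X (for every k-scheme T, a T-point of G
acting as the identity on X × T is the unit) such that every k-point g of G fixes the isomorphism
class of L: t_g^*(L) ≅ L, where t_g : X → X is x ↦ g · x. Then G is affine. (The published statement
is that the reduced stabiliser of the class of L in the automorphism group scheme of X is a linear
algebraic group, i.e. smooth, affine and of finite type; the form here is its consequence for
reduced algebraic groups acting faithfully, the reduced closed subgroups of that stabiliser, and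
does not restate that the stabiliser has finitely many components.) -/
theorem result (k : Type u) [Field k] [IsAlgClosed k]
    (G X : Over (Spec (CommRingCat.of k))) [GrpObj G] [LocallyOfFiniteType G.hom] [QuasiCompact G.hom]
    [IsReduced G.left] [IsIntegral X.left] (hX : RelProj.IsHProjective X.hom)
    (a : AlgGrp.Action G X)
    (hfaith : ∀ (T : Over (Spec (CommRingCat.of k))) (g : T ⟶ G),
      lift (fst T X ≫ g) (snd T X) ≫ a.act = snd T X → g = toUnit T ≫ η[G])
    (L : X.left.Modules) (hL : PicF.IsInvertible L) (hLa : CohB1.IsAmple L)
    (hfix : ∀ g : 𝟙_ (Over (Spec (CommRingCat.of k))) ⟶ G, Nonempty ((Scheme.Modules.pullback (lift (toUnit X ≫ g) (𝟙 X) ≫ a.act).left).obj L ≅ L)) :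
    IsAffine G.left := by
  haveI : IsProper X.hom := by
    obtain ⟨n, i, hi, he⟩ := hX
    haveI := hi
    haveI := Groth.Agent.HQProj.isProper_toBase n (Spec (CommRingCat.of k))
    rw [← he]
    infer_instance
  haveI : Smooth G.hom := by
    letI : GrpObj (Over.mk G.hom) := inferInstanceAs (GrpObj G)
    exact Groth.Agent.GrpBasic.smooth_of_grpObj_perfect G.hom
  obtain ⟨C, hC, c, hcm, hco, hcc, hCs, hCq, hCc⟩ := Groth.Agent.GrMax.exists_neutral G
  haveI := hcm; haveI := hco; haveI := hCs; haveI := hCq; haveI := hCc
  haveI : Mono c.left := inferInstance
  haveI : Mono c := Over.mono_of_mono_left c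
  have hact : ∀ (T : Over (Spec (CommRingCat.of k))) (g : T ⟶ C) (y : T ⟶ X),
      lift g y ≫ (Groth.Agent.Chev.BorelFixed.resAction c a).act = lift (g ≫ c) y ≫ a.act := fun T g y => by
    change lift g y ≫ (c ▷ X) ≫ a.act = _
    rw [lift_whiskerRight_assoc]
  haveI : IsAffine C.left := Groth.Agent.FixAmple.isAffine_of_connected (Groth.Agent.Chev.BorelFixed.resAction c a)
    (fun T g h => by
      rw [hact, Category.assoc] at h
      rw [← cancel_mono c, hfaith T (g ≫ c) h, Category.assoc, IsMonHom.one_hom])
    hLa (fun g => by
      rw [hact, Category.assoc]
      exact hfix (g ≫ c))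
  exact Groth.Agent.AdjRep.isAffine_of_affine_open_subgroup G C c

end Groth.Agent.S17478
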