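import Groth.Statements.S17479
import Groth.Agent.FixAmple.Main
import Groth.Agent.NilAffine.Main
import Groth.Agent.S17474
import Groth.Agent.HQProj.Basic
import Groth.Agent.ProjMor.Segre
import Groth.Agent.TMul.RelAmple

set_option autoImplicit false
set_option linter.style.haveILetI false
universe u
open CategoryTheory MonoidalCategory CartesianMonoidalCategory MonObj GrpObj AlgebraicGeometry CategoryTheory.Limits
open AlgGrp

namespace Groth.Agent.S17479

/-- Over an algebraically closed field k, let X be a projective variety (an integral k-scheme with a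
closed immersion into some projective space over k) whose Picard variety is trivial: every
invertible O_X-module algebraically equivalent to zero is isomorphic to O_X. Let G be a connected
k-group scheme of finite type acting faithfully on X (for every k-scheme T, a T-point of G acting as
the identity on X × T is the unit). Then G is affine. (The published statement is that the neutral
component of the reduced automorphism group of X is linear; linear is read as affine, and the form
here is its consequence for connected algebraic groups acting faithfully, which are closed subgroup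
schemes of the neutral component of the automorphism group scheme. For a non-reduced such group this
says slightly more than the published corollary: one also uses that a Noetherian scheme whose
reduction is affine is affine.) -/
theorem result (k : Type u) [Field k] [IsAlgClosed k]
    (G X : Over (Spec (CommRingCat.of k))) [GrpObj G] [LocallyOfFiniteType G.hom] [QuasiCompact G.hom]
    [ConnectedSpace ↥G.left] [IsIntegral X.left] (hX : RelProj.IsHProjective X.hom)
    (hPic : ∀ L : X.left.Modules, PicF.IsInvertible L → @Pic13.IsAlgEquivZero k _ X.left ⟨X.hom⟩ L →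
      Nonempty (L ≅ Coh.structureModule X.left))
    (a : AlgGrp.Action G X)
    (hfaith : ∀ (T : Over (Spec (CommRingCat.of k))) (g : T ⟶ G),
      lift (fst T X ≫ g) (snd T X) ≫ a.act = snd T X → g = toUnit T ≫ η[G]) :
    IsAffine G.left := by
  obtain ⟨n, i, hi, he⟩ := hX
  haveI := hi
  haveI : IsProper X.hom := by
    haveI := Groth.Agent.HQProj.isProper_toBase n (Spec (CommRingCat.of k))
    rw [← he]
    infer_instance
  have hamp : CohB1.IsAmple ((Scheme.Modules.pullback i).obj (Twist.twistOver n (Spec (CommRingCat.of k)) 1)) :=
    TMul.isAmple_pullback_of_isAffineHom i (ProjMor.isAmple_twistOver n _)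
  generalize (Scheme.Modules.pullback i).obj (Twist.twistOver n (Spec (CommRingCat.of k)) 1) = L at hamp
  letI := Groth.Agent.W7Cube.law X.left
  obtain ⟨R, hR, r, hrm, hrc, hrs, hRs⟩ := Groth.Agent.Chev.exists_red_group G
  haveI := hrm; haveI := hrc; haveI := hrs; haveI := hRs
  haveI : LocallyOfFiniteType R.hom := by rw [← Over.w r]; infer_instance
  haveI : QuasiCompact R.hom := by rw [← Over.w r]; infer_instance
  haveI : Mono r := Groth.Agent.GrpField.SchImg.mono_of_isClosedImmersion r
  haveI : ConnectedSpace R.left := by
    let h := r.left.isClosedEmbedding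
    refine connectedSpace_iff_univ.2 ⟨⟨(r.left.surjective (η[G].left (IsLocalRing.closedPoint k))).choose, trivial⟩, ?_⟩
    refine h.isInducing.isPreconnected_image.1 ?_
    rw [Set.image_univ, Set.range_eq_univ.2 r.left.surjective]
    exact isPreconnected_univ
  have hact : ∀ (T : Over (Spec (CommRingCat.of k))) (g : T ⟶ R) (y : T ⟶ X),
      lift g y ≫ (Groth.Agent.Chev.BorelFixed.resAction r a).act = lift (g ≫ r) y ≫ a.act := fun T g y => by
    change lift g y ≫ (r ▷ X) ≫ a.act = _
    rw [lift_whiskerRight_assoc]
  obtain ⟨M, hM, hMe⟩ := PicGrp.exists_eq_cls (PicGrp.cls L hamp.1)⁻¹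
  have hLM : Nonempty (CohB1.tensorMod L M ≅ Coh.structureModule X.left) := by
    rw [← PicGrp.cls_eq_one_iff (hL := TMul.isInvertible_tensorMod hamp.1 hM)]
    rw [show PicGrp.cls _ (TMul.isInvertible_tensorMod hamp.1 hM) = PicGrp.cls L hamp.1 * PicGrp.cls M hM from
      Subtype.ext (PicGrp.mul_val (PicGrp.cls L hamp.1) (PicGrp.cls M hM)).symm, ← hMe, mul_inv_cancel]
  haveI : IsAffine R.left := Groth.Agent.FixAmple.isAffine_of_connected (Groth.Agent.Chev.BorelFixed.resAction r a)
    (fun T g h => by
      rw [hact, Category.assoc] at h
      rw [← cancel_mono r, hfaith T (g ≫ r) h, Category.assoc, IsMonHom.one_hom])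
    hamp (fun g => by
      rw [hact, Category.assoc]
      have hI := PicLoc.isInvertible_pullback (lift (toUnit X ≫ g ≫ r) (𝟙 X) ≫ a.act).left hamp.1
      have h0 := hPic _ (TMul.isInvertible_tensorMod hI hM)
        (Groth.Agent.S17474.result k G X ⟨n, i, hi, he⟩ a (g ≫ r) L M hamp.1 hM hLM)
      rw [← PicGrp.cls_eq_one_iff (hL := TMul.isInvertible_tensorMod hI hM),
        show PicGrp.cls _ (TMul.isInvertible_tensorMod hI hM) = PicGrp.cls _ hI * PicGrp.cls M hM from
        Subtype.ext (PicGrp.mul_val (PicGrp.cls _ hI) (PicGrp.cls M hM)).symm, ← hMe, mul_inv_eq_one] at h0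
      exact (PicGrp.cls_eq_cls_iff _ _).1 h0)
  exact Groth.Agent.NilAffine.isAffine_of_surjective r.left

end Groth.Agent.S17479
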