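import Groth.Statements.S17487
import Mathlib
open CategoryTheory CategoryTheory.Limits AlgebraicGeometry

set_option autoImplicit false
universe u
open CategoryTheory CategoryTheory.Limits AlgebraicGeometry
open Coherent

set_option maxHeartbeats 1000000
namespace Groth.Agent.S17487


universe w
variable {C : Type*} [Category C] [Abelian C] [HasExt.{w} C] {m : ℕ} (E : Fin m → C)

/-- The identity of a finite coproduct is a sum of projections followed by inclusions. -/
theorem exists_total : ∃ π : ∀ t, (∐ E) ⟶ E t, ∑ t, π t ≫ Sigma.ι E t = 𝟙 (∐ E) := by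
  classical
  haveI : HasFiniteBiproducts C := HasFiniteBiproducts.of_hasFiniteProducts
  refine ⟨fun t => (biproduct.isoCoproduct E).inv ≫ biproduct.π E t, ?_⟩
  have h : ∀ t, Sigma.ι E t = biproduct.ι E t ≫ (biproduct.isoCoproduct E).hom := fun t => by
    rw [← Iso.comp_inv_eq, biproduct.isoCoproduct_inv, colimit.ι_desc]
    rfl
  simp only [h, Category.assoc]
  rw [← Preadditive.comp_sum]
  simp only [← Category.assoc]
  rw [← Preadditive.sum_comp, biproduct.total, Category.id_comp, Iso.inv_hom_id]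

theorem subsingleton_to {A Z : C} (e : Z ≅ ∐ E) (p : ℕ) (h : ∀ t, Subsingleton (Abelian.Ext A (E t) p)) :
    Subsingleton (Abelian.Ext A Z p) := by
  obtain ⟨π, hπ⟩ := exists_total E
  refine subsingleton_of_forall_eq 0 fun x => ?_
  have h1 : e.hom ≫ (∑ t, π t ≫ Sigma.ι E t) ≫ e.inv = 𝟙 Z := by rw [hπ, Category.id_comp, Iso.hom_inv_id]
  rw [← Abelian.Ext.comp_mk₀_id x, ← h1]
  simp only [Preadditive.sum_comp, Preadditive.comp_sum, Abelian.Ext.mk₀_sum, Abelian.Ext.comp_sum]
  refine Finset.sum_eq_zero fun t _ => ?_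
  rw [show e.hom ≫ (π t ≫ Sigma.ι E t) ≫ e.inv = (e.hom ≫ π t) ≫ (Sigma.ι E t ≫ e.inv) by simp only [Category.assoc],
    ← Abelian.Ext.mk₀_comp_mk₀, ← Abelian.Ext.comp_assoc_of_second_deg_zero]
  haveI := h t
  rw [Subsingleton.elim (x.comp (Abelian.Ext.mk₀ (e.hom ≫ π t)) (add_zero p)) 0, Abelian.Ext.zero_comp]

theorem subsingleton_from {A Z : C} (e : Z ≅ ∐ E) (p : ℕ) (h : ∀ t, Subsingleton (Abelian.Ext (E t) A p)) :
    Subsingleton (Abelian.Ext Z A p) := by
  obtain ⟨π, hπ⟩ := exists_total E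
  refine subsingleton_of_forall_eq 0 fun x => ?_
  have h1 : e.hom ≫ (∑ t, π t ≫ Sigma.ι E t) ≫ e.inv = 𝟙 Z := by rw [hπ, Category.id_comp, Iso.hom_inv_id]
  rw [← Abelian.Ext.mk₀_id_comp x, ← h1]
  simp only [Preadditive.sum_comp, Preadditive.comp_sum, Abelian.Ext.mk₀_sum, Abelian.Ext.sum_comp]
  refine Finset.sum_eq_zero fun t _ => ?_
  rw [show e.hom ≫ (π t ≫ Sigma.ι E t) ≫ e.inv = (e.hom ≫ π t) ≫ (Sigma.ι E t ≫ e.inv) by simp only [Category.assoc],
    ← Abelian.Ext.mk₀_comp_mk₀, Abelian.Ext.comp_assoc_of_second_deg_zero]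
  haveI := h t
  rw [Subsingleton.elim ((Abelian.Ext.mk₀ (Sigma.ι E t ≫ e.inv)).comp x (zero_add p)) 0, Abelian.Ext.comp_zero]

/-- Let k be an algebraically closed field of characteristic zero and Y a smooth projective variety over
k (an integral scheme, smooth over k, with a closed immersion into some P^n_k over k). Let E_1, …,
E_n be coherent O_Y-modules forming a strong exceptional sequence, expressed through Ext groups in
the category of O_Y-modules (the Ext instance is the stated hypothesis; it holds): End(E_i) is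
one-dimensional over k, Ext^p(E_i, E_j) = 0 for all p when i > j, and Ext^p(E_i, E_j) = 0 for all i,
j when p ≥ 1 (indices here run over 0, …, n-1). Let d ≤ n and let 0 → K → M → F → 0 be a short exact
sequence of O_Y-modules in which K is isomorphic to a finite direct sum of copies of members E_i
with i < d and M to a finite direct sum of copies of members E_i with i ≥ d (a two-term resolution
of F by the sequence, split at d). Then Ext^p(E_i, F) = 0 for every i and every p ≥ 1, and Ext^p(F,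
E_i) = 0 for every i < d and every p ≠ 1. (The published criterion also asks that the sequence
generate the derived category, states the first vanishing only for i ≥ d, and adds conditions on
terms of the associated filtration and cofiltration of F, which are not restated here; the
vanishings above follow from the resolution alone.) -/
theorem result
    (k : Type u) [Field k] [IsAlgClosed k] [CharZero k]
    (Y : Scheme.{u}) [Y.Over (Spec (CommRingCat.of k))] [AlgebraicGeometry.IsIntegral Y]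
    [Smooth (Y ↘ Spec (CommRingCat.of k))]
    (hproj : ∃ (N : ℕ) (ι : Y ⟶ CohB1.ProjSpace N k), IsClosedImmersion ι ∧
      ι ≫ CohB1.ProjSpace.toSpec N k = (Y ↘ (Spec (CommRingCat.of k))))
    [HasExt.{u} Y.Modules]
    (n d : ℕ) (hdn : d ≤ n) (E : Fin n → Y.Modules) (hEcoh : ∀ i, Coh.IsCoh (E i))
    (hend : ∀ i, Module.finrank k (E i ⟶ E i) = 1)
    (hexc : ∀ i j : Fin n, j < i → ∀ p : ℕ, Subsingleton (Abelian.Ext (E i) (E j) p))
    (hstr : ∀ (i j : Fin n) (p : ℕ), 1 ≤ p → Subsingleton (Abelian.Ext (E i) (E j) p))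
    (S : ShortComplex Y.Modules) (hS : S.ShortExact)
    (m₁ : ℕ) (c₁ : Fin m₁ → Fin n) (hc₁ : ∀ t, (c₁ t : ℕ) < d) (e₁ : S.X₁ ≅ ∐ fun t => E (c₁ t))
    (m₂ : ℕ) (c₂ : Fin m₂ → Fin n) (hc₂ : ∀ t, d ≤ (c₂ t : ℕ)) (e₂ : S.X₂ ≅ ∐ fun t => E (c₂ t)) :
    (∀ (i : Fin n) (p : ℕ), 1 ≤ p → Subsingleton (Abelian.Ext (E i) S.X₃ p)) ∧
      (∀ i : Fin n, (i : ℕ) < d → ∀ p : ℕ, p ≠ 1 → Subsingleton (Abelian.Ext S.X₃ (E i) p)) := by
  refine ⟨fun i p hp => ?_, fun i hi p hp => ?_⟩
  · haveI : Subsingleton (Abelian.Ext (E i) S.X₂ p) := subsingleton_to (fun t => E (c₂ t)) e₂ p fun t => hstr _ _ p hp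
    haveI : Subsingleton (Abelian.Ext (E i) S.X₁ (p + 1)) := subsingleton_to (fun t => E (c₁ t)) e₁ _ fun t => hstr _ _ _ (by omega)
    refine subsingleton_of_forall_eq 0 fun x => ?_
    obtain ⟨x₂, rfl⟩ := Abelian.Ext.covariant_sequence_exact₃ _ hS x rfl (Subsingleton.elim _ _)
    rw [Subsingleton.elim x₂ 0, Abelian.Ext.zero_comp]
  · have hM : ∀ q : ℕ, Subsingleton (Abelian.Ext S.X₂ (E i) q) := fun q =>
      subsingleton_from (fun t => E (c₂ t)) e₂ q fun t => hexc _ _ (Fin.lt_def.2 (lt_of_lt_of_le hi (hc₂ t))) q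
    refine subsingleton_of_forall_eq 0 fun x => ?_
    haveI := hM p
    rcases Nat.eq_zero_or_pos p with rfl | hp0
    · obtain ⟨f, rfl⟩ := (Abelian.Ext.mk₀_bijective _ _).2 x
      haveI := hS.epi_g
      have h : S.g ≫ f = 0 := (Abelian.Ext.mk₀_bijective _ _).1 (Subsingleton.elim _ _)
      rw [show f = 0 from (cancel_epi S.g).1 (h.trans comp_zero.symm), Abelian.Ext.mk₀_zero]
    · obtain ⟨q, rfl⟩ : ∃ q, p = 1 + q := ⟨p - 1, by omega⟩
      haveI : Subsingleton (Abelian.Ext S.X₁ (E i) q) := subsingleton_from (fun t => E (c₁ t)) e₁ q fun t => hstr _ _ q (by omega)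
      obtain ⟨x₁, rfl⟩ := Abelian.Ext.contravariant_sequence_exact₃ hS _ x (Subsingleton.elim _ _) (n₀ := q) rfl
      rw [Subsingleton.elim x₁ 0, Abelian.Ext.comp_zero]

end Groth.Agent.S17487
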