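import Groth.Statements.S17499
import Groth.Agent.K0Sym.Cl

set_option autoImplicit false
universe u
open RelQuot

namespace Groth.Agent.S17499

open CategoryTheory CategoryTheory.Limits AlgebraicGeometry in
/-- Let k be an algebraically closed field of characteristic zero, X, Y and F schemes of finite type
over k, and f : X → Y a morphism over k which is a Zariski locally trivial fibration with fibre F:
every point of Y has an open neighbourhood U together with an isomorphism from f⁻¹(U) to U ×_k F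
whose composite with the first projection is the restriction of f. Then in the Grothendieck ring of
k-schemes of finite type the class of X equals [Y] · [F]. The published statement is for varieties;
it is stated here for schemes of finite type over k, which present the same ring. -/
theorem result
    (k : Type u) [Field k] [IsAlgClosed k] [CharZero k] {X Y F : Scheme.{u}}
    (pY : Y ⟶ Spec (CommRingCat.of k)) [LocallyOfFiniteType pY] [QuasiCompact pY]
    (pF : F ⟶ Spec (CommRingCat.of k)) [LocallyOfFiniteType pF] [QuasiCompact pF]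
    (f : X ⟶ Y) [LocallyOfFiniteType f] [QuasiCompact f]
    (hf : ∀ y : Y, ∃ (U : Y.Opens) (e : (f ⁻¹ᵁ U).toScheme ≅ pullback (U.ι ≫ pY) pF),
      y ∈ U ∧ e.hom ≫ pullback.fst (U.ι ≫ pY) pF = f ∣_ U) :
    K0Var.cl (f ≫ pY) = K0Var.cl pY * K0Var.cl pF := by
  haveI : IsLocallyNoetherian Y := LocallyOfFiniteType.isLocallyNoetherian pY
  haveI : IsLocallyNoetherian X := LocallyOfFiniteType.isLocallyNoetherian f
  haveI : CompactSpace Y := QuasiCompact.compactSpace_of_compactSpace pY
  choose U e hyU he using hf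
  have key : ∀ (a : Y) (W : Y.Opens), W ≤ U a →
      Groth.Agent.K0Sym.clo (f ≫ pY) (f ⁻¹ᵁ W) = Groth.Agent.K0Sym.clo pY W * K0Var.cl pF := fun a W hW => by
    rw [Groth.Agent.K0Sym.clo, Groth.Agent.K0Sym.clo, ← K0Var.cl_mul]
    have hle : f ⁻¹ᵁ W ≤ f ⁻¹ᵁ U a := f.preimage_mono hW
    have sq : IsPullback (X.homOfLE hle) (f ∣_ W) (f ∣_ U a) (Y.homOfLE hW) := by
      refine IsPullback.of_right ?_ ?_ (isPullback_morphismRestrict f (U a)).flip
      · rw [Scheme.homOfLE_ι, Scheme.homOfLE_ι]
        exact (isPullback_morphismRestrict f W).flip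
      · rw [← cancel_mono (U a).ι]
        simp
    have sq1 : IsPullback (e a).hom (f ∣_ U a) (pullback.fst ((U a).ι ≫ pY) pF) (𝟙 _) :=
      IsPullback.of_horiz_isIso ⟨by rw [Category.comp_id, he a]⟩
    have sq2 : IsPullback (X.homOfLE hle ≫ (e a).hom ≫ pullback.snd _ _) (f ∣_ W) pF
        ((Y.homOfLE hW ≫ 𝟙 _) ≫ (U a).ι ≫ pY) := by
      have := (sq.paste_horiz sq1).paste_horiz (IsPullback.of_hasPullback ((U a).ι ≫ pY) pF).flip
      rwa [Category.assoc] at this
    rw [Category.comp_id, Scheme.homOfLE_ι_assoc] at sq2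
    refine K0Var.cl_congr _ _ sq2.flip.isoPullback ?_
    rw [sq2.flip.isoPullback_hom_fst_assoc]
    rw [morphismRestrict_ι_assoc]
  obtain ⟨t, ht⟩ := isCompact_univ.elim_finite_subcover (fun y => (U y : Set Y)) (fun y => (U y).isOpen)
    (fun y _ => Set.mem_iUnion.2 ⟨y, hyU y⟩)
  have main : ∀ (s : Finset Y) (W : Y.Opens), W ≤ s.sup U →
      Groth.Agent.K0Sym.clo (f ≫ pY) (f ⁻¹ᵁ W) = Groth.Agent.K0Sym.clo pY W * K0Var.cl pF := by
    classical
    intro s
    induction s using Finset.induction with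
    | empty =>
      intro W hW
      have hW : W = ⊥ := le_bot_iff.1 (by simpa using hW)
      rw [Groth.Agent.K0Sym.clo_empty _ _ (by rw [hW]; rfl), Groth.Agent.K0Sym.clo_empty _ _ hW, zero_mul]
    | insert a s _ ih =>
      intro W hW
      rw [Finset.sup_insert] at hW
      have h1 := key a (W ⊓ U a) inf_le_right
      have h2 := ih (W ⊓ s.sup U) inf_le_right
      have h3 := key a ((W ⊓ U a) ⊓ (W ⊓ s.sup U)) (inf_le_left.trans inf_le_right)
      have h4 : W = (W ⊓ U a) ⊔ (W ⊓ s.sup U) := by rw [← inf_sup_left, inf_eq_left.2 hW]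
      have e1 := Groth.Agent.K0Sym.clo_sup (f ≫ pY) (f ⁻¹ᵁ (W ⊓ U a)) (f ⁻¹ᵁ (W ⊓ s.sup U))
      have e2 := Groth.Agent.K0Sym.clo_sup pY (W ⊓ U a) (W ⊓ s.sup U)
      rw [← Scheme.Hom.preimage_sup, ← Scheme.Hom.preimage_inf, ← h4, h1, h2, h3] at e1
      rw [← h4] at e2
      linear_combination e1 - (K0Var.cl pF) * e2
  have := main t ⊤ (fun y hy => by
    obtain ⟨i, hi, h⟩ := Set.mem_iUnion₂.1 (ht (Set.mem_univ y))
    exact (Finset.le_sup hi : U i ≤ t.sup U) h)
  rw [← Groth.Agent.K0Sym.clo_top, ← Groth.Agent.K0Sym.clo_top pY]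
  exact this

end Groth.Agent.S17499
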