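import Groth.Statements.S1750
import Mathlib
import Groth.Agent.InjHull.FlatTensor
-- import your own Groth.Agent.* helpers here

set_option autoImplicit false
universe u
open InjHull

namespace Groth.Agent.S1750

/-- Let R → S be a flat local homomorphism of Noetherian local rings with m_R S = m_S inducing a
bijection on residue fields. If κ_S → E is an injective hull of the residue field of S over S, then
E regarded as an R-module is an injective hull of the residue field of R (for a suitable R-linear
map κ_R → E). -/
theorem result (R S : Type u) [CommRing R] [CommRing S] [IsLocalRing R] [IsLocalRing S] [IsNoetherianRing R] [IsNoetherianRing S] [Algebra R S] [IsLocalHom (algebraMap R S)] [Module.Flat R S] (hm : (IsLocalRing.maximalIdeal R).map (algebraMap R S) = IsLocalRing.maximalIdeal S) (hk : Function.Bijective (IsLocalRing.ResidueField.map (algebraMap R S))) (E : Type u) [AddCommGroup E] [Module S E] [Module R E] [IsScalarTower R S E] (f : IsLocalRing.ResidueField S →ₗ[S] E) (hf : InjHull.IsInjectiveHull f) : ∃ g : IsLocalRing.ResidueField R →ₗ[R] E, InjHull.IsInjectiveHull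 g := by
  classical
  haveI := hf.isInjective
  let j : IsLocalRing.ResidueField R →ₗ[R] E :=
    { toFun := fun y => f (IsLocalRing.ResidueField.map (algebraMap R S) y)
      map_add' := fun x y => by rw [map_add, map_add]
      map_smul' := fun r y => by
        obtain ⟨y, rfl⟩ := IsLocalRing.residue_surjective y
        rw [RingHom.id_apply, Algebra.smul_def, map_mul,
          show algebraMap R (IsLocalRing.ResidueField R) r = IsLocalRing.residue R r from rfl,
          IsLocalRing.ResidueField.map_residue, IsLocalRing.ResidueField.map_residue,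
          show IsLocalRing.residue S (algebraMap R S r) * IsLocalRing.residue S (algebraMap R S y) =
            algebraMap R S r • IsLocalRing.residue S (algebraMap R S y) from (Algebra.smul_def _ _).symm,
          map_smul, algebraMap_smul] }
  refine ⟨j, ⟨Groth.Agent.InjHull.isEssentialInj_iff.2 ⟨hf.injective.comp hk.1, fun z hz => ?_⟩,
    Groth.Agent.InjHull.injective_restrictScalars_of_flat R S E⟩⟩
  have hn : ∃ n : ℕ, ∀ a ∈ IsLocalRing.maximalIdeal R ^ n, a • z = 0 := by
    obtain ⟨n, hn⟩ := Groth.Agent.InjHull.isPowerTorsion_hull (f := f) hf z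
    refine ⟨n, fun a ha => ?_⟩
    rw [← algebraMap_smul S a z]
    refine hn _ ?_
    rw [← hm, ← Ideal.map_pow]
    exact Ideal.mem_map_of_mem _ ha
  let n := Nat.find hn
  have hn0 : n ≠ 0 := fun h0 => hz (by
    have := Nat.find_spec hn 1 (by rw [show Nat.find hn = 0 from h0]; simp)
    simpa using this)
  obtain ⟨r, hr, hr0⟩ : ∃ r ∈ IsLocalRing.maximalIdeal R ^ (n - 1), r • z ≠ 0 := by
    by_contra hh
    push Not at hh
    exact Nat.find_min hn (Nat.sub_one_lt hn0) hh
  refine ⟨r, ?_, hr0⟩
  have hS : ∀ a ∈ IsLocalRing.maximalIdeal S, a • (r • z) = 0 := by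
    intro a ha
    rw [← hm] at ha
    change a ∈ Ideal.span _ at ha
    induction ha using Submodule.span_induction with
    | mem t ht =>
      obtain ⟨t, ht, rfl⟩ := ht
      rw [algebraMap_smul, smul_smul]
      refine Nat.find_spec hn _ ?_
      have := Ideal.mul_mem_mul ht hr
      rwa [← pow_succ', Nat.sub_one_add_one hn0] at this
    | zero => simp
    | add u v _ _ hu hv => rw [add_smul, hu, hv, add_zero]
    | smul t u _ hu => rw [smul_eq_mul, mul_smul, hu, smul_zero]
  obtain ⟨y, hy⟩ := Groth.Agent.InjHull.mem_range_of_smul_eq_zero (f := f) hf hS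
  obtain ⟨y', hy'⟩ := hk.2 y
  exact ⟨y', by rw [← hy, ← hy']; rfl⟩

end Groth.Agent.S1750
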