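import Groth.Statements.S17500
import Mathlib

set_option linter.style.haveILetI false

set_option autoImplicit false
universe u
open TorsMod

namespace Groth.Agent.S17500

/-- Let p be a prime number, n a natural number and H a module over ℤ/p^nℤ. Then H is flat over ℤ/p^nℤ
if and only if, for every i with 0 ≤ i ≤ n, the kernel of multiplication by p^i on H coincides with
the image of multiplication by p^(n-i) on H. (The published item is phrased for an fppf sheaf of
ℤ/p^nℤ-modules on a scheme; this is the case of a single module, which is the case the argument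
treats.) -/
theorem result (p n : ℕ) [Fact p.Prime]
    (H : Type u) [AddCommGroup H] [Module (ZMod (p ^ n)) H] :
    Module.Flat (ZMod (p ^ n)) H ↔
      ∀ i : ℕ, i ≤ n →
        LinearMap.ker ((p ^ i : ZMod (p ^ n)) • (LinearMap.id : H →ₗ[ZMod (p ^ n)] H)) =
          LinearMap.range ((p ^ (n - i) : ZMod (p ^ n)) • (LinearMap.id : H →ₗ[ZMod (p ^ n)] H)) := by
  set R := ZMod (p ^ n) with hR
  have hpn : ((p : R) ^ n) = 0 := by rw [← Nat.cast_pow]; exact ZMod.natCast_self _
  have hker : ∀ (i : ℕ) (h : H), h ∈ LinearMap.ker ((p ^ i : R) • (LinearMap.id : H →ₗ[R] H)) ↔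
      (p : R) ^ i • h = 0 := fun i h => by
    simp [LinearMap.mem_ker]
  have hrg : ∀ (i : ℕ) (h : H), h ∈ LinearMap.range ((p ^ i : R) • (LinearMap.id : H →ₗ[R] H)) ↔
      ∃ g, (p : R) ^ i • g = h := fun i h => by
    simp [LinearMap.mem_range]
  constructor
  · intro hf i hi
    have hex : Function.Exact ((p : R) ^ (n - i) • (LinearMap.id : R →ₗ[R] R))
        ((p : R) ^ i • (LinearMap.id : R →ₗ[R] R)) := by
      intro a
      simp only [LinearMap.smul_apply, LinearMap.id_coe, id_eq, smul_eq_mul, Set.mem_range]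
      constructor
      · intro ha
        obtain ⟨t, rfl⟩ := ZMod.intCast_surjective a
        rw [← Nat.cast_pow, ← Int.cast_natCast, ← Int.cast_mul, ZMod.intCast_zmod_eq_zero_iff_dvd] at ha
        have hd : ((p : ℤ) ^ i) * ((p : ℤ) ^ (n - i)) ∣ ((p : ℤ) ^ i) * t := by
          rw [← pow_add, Nat.add_sub_cancel' hi]; exact_mod_cast ha
        obtain ⟨s, rfl⟩ := (mul_dvd_mul_iff_left
          (pow_ne_zero i (by exact_mod_cast (Fact.out : p.Prime).ne_zero))).mp hd
        exact ⟨s, by push_cast; ring⟩
      · rintro ⟨b, rfl⟩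
        rw [← mul_assoc, ← pow_add, Nat.add_sub_cancel' hi, hpn, zero_mul]
    have hT := Module.Flat.lTensor_exact (R := R) (M := H) hex
    have hcomm : ∀ (j : ℕ) (t : TensorProduct R H R), TensorProduct.rid R H
        (LinearMap.lTensor H ((p : R) ^ j • (LinearMap.id : R →ₗ[R] R)) t) =
          (p : R) ^ j • TensorProduct.rid R H t := by
      intro j t
      rw [LinearMap.lTensor_smul, LinearMap.smul_apply, LinearMap.lTensor_id, LinearMap.id_apply, map_smul]
    ext h
    rw [hker, hrg]
    constructor
    · intro h0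
      obtain ⟨t, ht⟩ := (hT ((TensorProduct.rid R H).symm h)).mp ((TensorProduct.rid R H).injective (by
        rw [hcomm, LinearEquiv.apply_symm_apply, h0, map_zero]))
      refine ⟨TensorProduct.rid R H t, ?_⟩
      rw [← hcomm, ht, LinearEquiv.apply_symm_apply]
    · rintro ⟨g, rfl⟩
      rw [smul_smul, ← pow_add, Nat.add_sub_cancel' hi, hpn, zero_smul]
  · intro hH
    rw [Module.Flat.iff_lift_lsmul_comp_subtype_injective]
    intro I _
    obtain ⟨j, hj, hI⟩ : ∃ j ≤ n, I = Ideal.span {(p : R) ^ j} := by
      let J : Ideal ℤ := I.comap (Int.castRingHom R)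
      obtain ⟨d, hd⟩ := IsPrincipalIdealRing.principal J
      have hpJ : ((p : ℤ) ^ n) ∈ J := by
        simp only [J, Ideal.mem_comap, map_pow, map_natCast, hpn]
        exact I.zero_mem
      rw [hd, Ideal.submodule_span_eq, Ideal.mem_span_singleton] at hpJ
      obtain ⟨j, hj, hassoc⟩ := (dvd_prime_pow (Nat.prime_iff_prime_int.mp (Fact.out : p.Prime)) n).mp hpJ
      refine ⟨j, hj, ?_⟩
      rw [← Ideal.map_comap_of_surjective (Int.castRingHom R) ZMod.intCast_surjective I]
      show Ideal.map _ J = _
      rw [hd, Ideal.submodule_span_eq, Ideal.span_singleton_eq_span_singleton.mpr hassoc,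
        Ideal.map_span, Set.image_singleton, map_pow, map_natCast]
    subst hI
    have hmem : (p : R) ^ j ∈ Ideal.span {(p : R) ^ j} := Ideal.mem_span_singleton_self _
    have hgen : ∀ t : TensorProduct R (Ideal.span {(p : R) ^ j} : Ideal R) H,
        ∃ h : H, TensorProduct.tmul R (⟨_, hmem⟩ : (Ideal.span {(p : R) ^ j} : Ideal R)) h = t := by
      intro t
      induction t using TensorProduct.induction_on with
      | zero => exact ⟨0, TensorProduct.tmul_zero _ _⟩
      | tmul a b =>
        obtain ⟨a, ha⟩ := a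
        obtain ⟨c, rfl⟩ := Ideal.mem_span_singleton'.mp ha
        refine ⟨c • b, ?_⟩
        rw [TensorProduct.tmul_smul, TensorProduct.smul_tmul']
        rfl
      | add a b ha hb =>
        obtain ⟨x, rfl⟩ := ha
        obtain ⟨y, rfl⟩ := hb
        exact ⟨x + y, TensorProduct.tmul_add _ _ _⟩
    rw [injective_iff_map_eq_zero]
    intro t ht
    obtain ⟨h, rfl⟩ := hgen t
    have h0 : (p : R) ^ j • h = 0 := ht
    obtain ⟨g, rfl⟩ := (hrg _ h).mp (hH j hj ▸ (hker j h).mpr h0)
    rw [TensorProduct.tmul_smul, TensorProduct.smul_tmul']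
    refine (congrArg (TensorProduct.tmul R · g) (Subtype.ext ?_)).trans (TensorProduct.zero_tmul _ g)
    show (p : R) ^ (n - j) * (p : R) ^ j = 0
    rw [← pow_add, Nat.sub_add_cancel hj, hpn]

end Groth.Agent.S17500
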