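import Groth.Statements.S17503
import Groth.Agent.AVIndex.Powers

set_option autoImplicit false
universe u
open CategoryTheory CategoryTheory.Limits MonoidalCategory CartesianMonoidalCategory MonObj GrpObj AlgebraicGeometry
open AbVar

set_option maxHeartbeats 1000000
set_option synthInstance.maxHeartbeats 200000

namespace Groth.Agent.S17503

attribute [local instance] W7Cube.law AVDeg.overInst

/-- Let X be an abelian variety over a field k (a proper, geometrically integral k-group scheme), and
let L be an invertible O_X-module and i a natural number such that the cohomology of L is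
concentrated in degree i: H^j(X, L) = 0 for j ≠ i and H^i(X, L) ≠ 0. Then for every integer m > 0
the tensor power L^{⊗ m} has the same property: H^j(X, L^{⊗ m}) = 0 for j ≠ i and H^i(X, L^{⊗ m}) ≠
0; that is, L^{⊗ m} is non-degenerate with the same index as L. (A line bundle on an abelian variety
is non-degenerate with index i exactly when its cohomology vanishes outside degree i and is non-zero
in degree i; this is how non-degeneracy and the index are expressed here.) -/
theorem result
    (k : Type u) [Field k] (X : Over (Spec (CommRingCat.of k))) [GrpObj X] [IsProper X.hom] [GeometricallyIntegral X.hom]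
    (L : X.left.Modules) (hL : PicF.IsInvertible L) (i : ℕ)
    (hvan : ∀ j : ℕ, j ≠ i → Subsingleton (Coh.HH X.left L j)) (hne : Nontrivial (Coh.HH X.left L i))
    (m : ℕ) (hm : 0 < m) :
    (∀ j : ℕ, j ≠ i → Subsingleton (Coh.HH X.left (CohB1.tensorPow L m) j)) ∧
      Nontrivial (Coh.HH X.left (CohB1.tensorPow L m) i) := by
  let K := AlgebraicClosure k
  let p := Limits.pullback.fst X.hom (AVDeg.specMap k K)
  have hp := PicLoc.isInvertible_pullback p hL
  have h0 : AVIndex.Conc (AVDeg.bcK k K X) ((Scheme.Modules.pullback p).obj L) i :=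
    AVIndex.Conc.bcK K hL ⟨hvan, hne⟩
  have h1 := ((AVIndex.concC_cls hp i).2 h0).pow hm
  obtain ⟨N, hN, hNc⟩ := PicGrp.exists_eq_cls (PicGrp.cls L hL ^ m)
  have hN' : Nonempty (N ≅ CohB1.tensorPow L m) := by
    refine (PicGrp.cl_eq_cl_iff _ _).1 ?_
    rw [← PicGrp.cls_pow_val hL m, hNc]
    rfl
  obtain ⟨e⟩ := hN'
  have h2 : AVIndex.ConcC (A := AVDeg.bcK k K X) (PicGrp.cls _ (PicLoc.isInvertible_pullback p hN)) i := by
    rw [show (PicGrp.cls _ (PicLoc.isInvertible_pullback p hN) : PicLoc.PicSet (AVDeg.bcK k K X).left) =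
      PicGrp.cls _ hp ^ m from (((W7Cube.pull_cls p N hN).symm.trans
        ((congrArg (W7Cube.pull p) hNc.symm).trans (map_pow _ _ _))).trans
          (congrArg (fun c => c ^ m) (W7Cube.pull_cls p L hL)))]
    exact h1
  obtain ⟨ha, hb⟩ := (((AVIndex.concC_cls _ i).1 h2).of_bcK K hN).congr
    (fun j => ⟨fun hs => CohQC.hh_subsingleton_of_iso e j hs, fun hs => CohQC.hh_subsingleton_of_iso e.symm j hs⟩)
  exact ⟨ha, hb⟩

end Groth.Agent.S17503
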