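import Groth.Statements.S17504
import Groth.Agent.AVIndex.Additive

set_option autoImplicit false
universe u
open CategoryTheory CategoryTheory.Limits MonoidalCategory CartesianMonoidalCategory MonObj GrpObj AlgebraicGeometry
open AbVar

namespace Groth.Agent.S17504

attribute [local instance] W7Cube.law AVDeg.overInst

/-- Let X be an abelian variety over a field k (a proper, geometrically integral k-group scheme), let L₁
and L₂ be invertible O_X-modules and M an O_X-module isomorphic to L₁ ⊗ L₂. Suppose that the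
cohomology of L₁ is concentrated in degree i₁: H^j(X, L₁) = 0 for j ≠ i₁ and H^i₁(X, L₁) ≠ 0, that
likewise the cohomology of L₂ is concentrated in degree i₂, and that of M in degree i, each non-zero
in that degree (all three line bundles non-degenerate, with indices i₁, i₂, i). Then i ≤ i₁ + i₂. (A
line bundle on an abelian variety is non-degenerate with index i exactly when its cohomology
vanishes outside degree i and is non-zero in degree i; this is how non-degeneracy and the index are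
expressed here.) -/
theorem result
    (k : Type u) [Field k] (X : Over (Spec (CommRingCat.of k))) [GrpObj X] [IsProper X.hom] [GeometricallyIntegral X.hom]
    (L₁ L₂ M : X.left.Modules) (hL₁ : PicF.IsInvertible L₁) (hL₂ : PicF.IsInvertible L₂)
    (hM : Nonempty (M ≅ CohB1.tensorMod L₁ L₂)) (i₁ i₂ i : ℕ)
    (h₁ : ∀ j : ℕ, j ≠ i₁ → Subsingleton (Coh.HH X.left L₁ j)) (h₁' : Nontrivial (Coh.HH X.left L₁ i₁))
    (h₂ : ∀ j : ℕ, j ≠ i₂ → Subsingleton (Coh.HH X.left L₂ j)) (h₂' : Nontrivial (Coh.HH X.left L₂ i₂))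
    (h : ∀ j : ℕ, j ≠ i → Subsingleton (Coh.HH X.left M j)) (h' : Nontrivial (Coh.HH X.left M i)) :
    i ≤ i₁ + i₂ := by
  obtain ⟨e⟩ := hM
  let K := AlgebraicClosure k
  let p := Limits.pullback.fst X.hom (AVDeg.specMap k K)
  have hMi : PicF.IsInvertible (CohB1.tensorMod L₁ L₂) := TMul.isInvertible_tensorMod hL₁ hL₂
  have c₁ : AVIndex.ConcC (A := AVDeg.bcK k K X) (PicGrp.cls _ (PicLoc.isInvertible_pullback p hL₁)) i₁ :=
    (AVIndex.concC_cls _ i₁).2 (AVIndex.Conc.bcK K hL₁ ⟨h₁, h₁'⟩)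
  have c₂ : AVIndex.ConcC (A := AVDeg.bcK k K X) (PicGrp.cls _ (PicLoc.isInvertible_pullback p hL₂)) i₂ :=
    (AVIndex.concC_cls _ i₂).2 (AVIndex.Conc.bcK K hL₂ ⟨h₂, h₂'⟩)
  have hc : AVIndex.Conc X (CohB1.tensorMod L₁ L₂) i :=
    AVIndex.Conc.congr (L := M) (fun j => ⟨fun hs => CohQC.hh_subsingleton_of_iso e j hs,
      fun hs => CohQC.hh_subsingleton_of_iso e.symm j hs⟩) ⟨h, h'⟩
  have c : AVIndex.ConcC (A := AVDeg.bcK k K X) (PicGrp.cls _ (PicLoc.isInvertible_pullback p hMi)) i :=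
    (AVIndex.concC_cls _ i).2 (AVIndex.Conc.bcK K hMi hc)
  haveI : IsCommMonObj (AVDeg.bcK k K X) := isCommMonObj_of_isProper_of_geometricallyIntegral _
  refine AVIndex.index_add_le c₁ c₂ ?_
  rw [show (PicGrp.cls _ (PicLoc.isInvertible_pullback p hL₁) * PicGrp.cls _ (PicLoc.isInvertible_pullback p hL₂) :
      PicLoc.PicSet (AVDeg.bcK k K X).left) = PicGrp.cls _ (PicLoc.isInvertible_pullback p hMi) from by
    refine Eq.trans ?_ (W7Cube.pull_cls p (CohB1.tensorMod L₁ L₂) hMi)
    rw [show PicGrp.cls (CohB1.tensorMod L₁ L₂) hMi = PicGrp.cls L₁ hL₁ * PicGrp.cls L₂ hL₂ from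
      (Subtype.ext (PicGrp.cls_mul_cls_val hL₁ hL₂)).symm, map_mul, W7Cube.pull_cls, W7Cube.pull_cls]]
  exact c

end Groth.Agent.S17504
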