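import Groth.Statements.S17509
import Groth.Agent.AVHilb.Main

set_option autoImplicit false
set_option backward.isDefEq.respectTransparency false
universe u
open CategoryTheory CategoryTheory.Limits MonoidalCategory CartesianMonoidalCategory MonObj GrpObj AlgebraicGeometry
open AbVar

namespace Groth.Agent.S17509

/-- Let X be an abelian variety over a field k (a proper, geometrically integral k-group scheme), let L
be an invertible O_X-module, H an ample invertible O_X-module and M an O_X-module isomorphic to L ⊗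
H; suppose H^j(X, L) = 0 for j ≠ i with H^i(X, L) ≠ 0 and H^j(X, M) = 0 for j ≠ i' with H^{i'}(X, M)
≠ 0 (L and L ⊗ H non-degenerate, of indices i and i'), and i ≠ i'. Let Φ be a polynomial with
rational coefficients such that Φ(n) = χ(X, L ⊗ H^{⊗ n}) for every natural number n. Then Φ has a
real root t with 0 ≤ t ≤ 1. (Non-degeneracy with index i is expressed by the equivalent condition
that the cohomology is concentrated in degree i and non-zero there.) -/
theorem result
    (k : Type u) [Field k] (X : Over (Spec (CommRingCat.of k))) [GrpObj X] [IsProper X.hom] [GeometricallyIntegral X.hom]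
    (L H M : X.left.Modules) (hL : PicF.IsInvertible L) (hH : CohB1.IsAmple H)
    (hM : Nonempty (M ≅ CohB1.tensorMod L H)) (i i' : ℕ)
    (hvan : ∀ j : ℕ, j ≠ i → Subsingleton (Coh.HH X.left L j)) (hne : Nontrivial (Coh.HH X.left L i))
    (hvan' : ∀ j : ℕ, j ≠ i' → Subsingleton (Coh.HH X.left M j)) (hne' : Nontrivial (Coh.HH X.left M i'))
    (hii' : i ≠ i')
    (Φ : Polynomial ℚ)
    (hΦ : ∀ n : ℕ, Φ.eval (n : ℚ) =
      (@Curv2.euler k _ X.left ⟨X.hom⟩ (CohB1.tensorMod L (CohB1.tensorPow H n)) : ℚ)) :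
    ∃ t : ℝ, 0 ≤ t ∧ t ≤ 1 ∧ (Φ.map (algebraMap ℚ ℝ)).eval t = 0 := by
  obtain ⟨g, hg, l, h, hh, hP, hL0, hM1⟩ := AVHilb.exists_setup hL hH Φ hΦ
  subst hP
  by_contra hcon
  push Not at hcon
  obtain ⟨h1, h2⟩ := AVHilb.index_drop hg l h hh (a := 0) (a' := 1) one_pos one_pos (by simp) (hL0 i ⟨hvan, hne⟩)
    (hM1 M hM i' ⟨hvan', hne'⟩)
  have h0 : AVHilb.cnt (AVHilb.hilbR hg l h) (((0 : ℕ) : ℚ) / ((1 : ℕ) : ℚ) : ℚ) (((1 : ℕ) : ℚ) / ((1 : ℕ) : ℚ) : ℚ) = 0 := by
    rw [AVHilb.cnt, Multiset.card_eq_zero, Multiset.filter_eq_nil]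
    intro x hx hx'
    simp only [Nat.cast_zero, Nat.cast_one, zero_div, div_one, Rat.cast_zero, Rat.cast_one] at hx'
    exact hcon x hx'.1.le hx'.2.le (Polynomial.isRoot_of_mem_roots hx)
  rw [h0] at h1
  omega

end Groth.Agent.S17509
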