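import Groth.Statements.S17510
import Groth.Agent.AVHilb.Main

set_option autoImplicit false
set_option backward.isDefEq.respectTransparency false
universe u
open CategoryTheory CategoryTheory.Limits MonoidalCategory CartesianMonoidalCategory MonObj GrpObj AlgebraicGeometry
open AbVar

namespace Groth.Agent.S17510

/-- Let X be an abelian variety over a field k (a proper, geometrically integral k-group scheme), let L
be an invertible O_X-module with H^j(X, L) = 0 for j ≠ i and H^i(X, L) ≠ 0, H an ample invertible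
O_X-module, and M an O_X-module isomorphic to L ⊗ H with H^j(X, M) = 0 for j ≠ i' and H^{i'}(X, M) ≠
0 (so L and L ⊗ H are non-degenerate with indices i and i'). Let Φ be a polynomial with rational
coefficients such that Φ(n) = χ(X, L ⊗ H^{⊗ n}) for every natural number n, and suppose Φ has
exactly one real root τ in the interval [0, 1], with τ ≠ 1. Then i ≤ i' + μ, where μ is the
multiplicity of τ as a root of Φ. (Non-degeneracy with index i is expressed by the equivalent
condition that the cohomology is concentrated in degree i and non-zero there.) -/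
theorem result
    (k : Type u) [Field k] (X : Over (Spec (CommRingCat.of k))) [GrpObj X] [IsProper X.hom] [GeometricallyIntegral X.hom]
    (L H M : X.left.Modules) (hL : PicF.IsInvertible L) (hH : CohB1.IsAmple H)
    (hM : Nonempty (M ≅ CohB1.tensorMod L H)) (i i' : ℕ)
    (hvan : ∀ j : ℕ, j ≠ i → Subsingleton (Coh.HH X.left L j)) (hne : Nontrivial (Coh.HH X.left L i))
    (hvan' : ∀ j : ℕ, j ≠ i' → Subsingleton (Coh.HH X.left M j)) (hne' : Nontrivial (Coh.HH X.left M i'))
    (Φ : Polynomial ℚ)
    (hΦ : ∀ n : ℕ, Φ.eval (n : ℚ) =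
      (@Curv2.euler k _ X.left ⟨X.hom⟩ (CohB1.tensorMod L (CohB1.tensorPow H n)) : ℚ))
    (τ : ℝ) (hτ0 : 0 ≤ τ) (hτ1 : τ < 1) (hτ : (Φ.map (algebraMap ℚ ℝ)).eval τ = 0)
    (huniq : ∀ t : ℝ, 0 ≤ t → t ≤ 1 → (Φ.map (algebraMap ℚ ℝ)).eval t = 0 → t = τ) :
    i ≤ i' + (Φ.map (algebraMap ℚ ℝ)).rootMultiplicity τ := by
  classical
  obtain ⟨g, hg, l, h, hh, hP, hL0, hM1⟩ := AVHilb.exists_setup hL hH Φ hΦ
  subst hP
  refine (AVHilb.index_drop hg l h hh (a := 0) (a' := 1) one_pos one_pos (by simp) (hL0 i ⟨hvan, hne⟩)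
    (hM1 M hM i' ⟨hvan', hne'⟩)).1.trans (Nat.add_le_add_left ?_ i')
  rw [AVHilb.cnt, ← Polynomial.count_roots, Multiset.count_eq_card_filter_eq]
  refine Multiset.card_le_card (Multiset.le_iff_count.2 fun x => ?_)
  rw [Multiset.count_filter, Multiset.count_filter]
  by_cases hx : x ∈ (AVHilb.hilbR hg l h).roots
  · split_ifs with h1 h2
    · rfl
    · simp only [Nat.cast_zero, Nat.cast_one, zero_div, div_one, Rat.cast_zero, Rat.cast_one] at h1
      exact absurd (huniq x h1.1.le h1.2.le (Polynomial.isRoot_of_mem_roots hx)).symm h2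
    · exact Nat.zero_le _
    · exact le_rfl
  · rw [Multiset.count_eq_zero.2 hx]
    simp

end Groth.Agent.S17510
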