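import Groth.Statements.S17511
import Groth.Agent.W7Cech.GrauertMain
import Groth.Agent.CurveRR.Euler
import Groth.Agent.W7Hull.PushOne
import Groth.Agent.CurveRR.Deg
import Groth.Agent.DCohShriek.DualModuleField
import Groth.Agent.DimField.Scheme
import Groth.Agent.AVDeg.EulerDegenerate

set_option autoImplicit false
universe u
open CategoryTheory CategoryTheory.Limits MonoidalCategory CartesianMonoidalCategory MonObj GrpObj AlgebraicGeometry
open AbVar

namespace Groth.Agent.S17511

/-- In an algebraic family of line bundles the index cannot jump locally. Let X be an abelian variety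
over a field k (a proper, geometrically integral k-group scheme), let T be a locally Noetherian
k-scheme, M an invertible module on X ×_k T, and for each point t of T let M_t be the pull-back of M
to the fibre X ×_k Spec k(t). Suppose every M_t is non-degenerate, with index idx(t): H^j(X ×_k Spec
k(t), M_t) = 0 for j ≠ idx(t) and H^{idx(t)} ≠ 0. Then t ↦ idx(t) is a locally constant function on
T. (Non-degeneracy with index i is expressed by the equivalent condition that the cohomology is
concentrated in degree i and non-zero there.) -/
theorem result
    (k : Type u) [Field k] (X : Over (Spec (CommRingCat.of k))) [GrpObj X] [IsProper X.hom] [GeometricallyIntegral X.hom]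
    (T : Over (Spec (CommRingCat.of k))) [IsLocallyNoetherian T.left]
    (M : (X ⊗ T).left.Modules) (hM : PicF.IsInvertible M)
    (idx : ↥T.left → ℕ)
    (hidx : ∀ t : ↥T.left,
      (∀ j : ℕ, j ≠ idx t →
        Subsingleton (Coh.HH (pullback (snd X T).left (T.left.fromSpecResidueField t))
          ((Scheme.Modules.pullback (pullback.fst (snd X T).left (T.left.fromSpecResidueField t))).obj M) j)) ∧
      Nontrivial (Coh.HH (pullback (snd X T).left (T.left.fromSpecResidueField t))
          ((Scheme.Modules.pullback (pullback.fst (snd X T).left (T.left.fromSpecResidueField t))).obj M) (idx t))) :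
    IsLocallyConstant idx := by
  have hsq : IsPullback (fst X T).left (snd X T).left X.hom T.hom := IsPullback.of_hasPullback X.hom T.hom
  haveI : IsProper (snd X T).left := MorphismProperty.of_isPullback (P := @IsProper) hsq ‹_›
  haveI : Flat (snd X T).left := MorphismProperty.of_isPullback (P := @Flat) hsq inferInstance
  haveI : IsLocallyNoetherian (X ⊗ T).left := LocallyOfFiniteType.isLocallyNoetherian (snd X T).left
  have hfl := W7Hull.isFlatOver_of_isInvertible (snd X T).left hM
  refine (IsLocallyConstant.iff_eventually_eq idx).2 fun t => ?_
  -- near `t` every degree in a finite range vanishes except the index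
  have hnhd : ∀ j : ℕ, j ≠ idx t → ∃ U : T.left.Opens, t ∈ U ∧
      ∀ z ∈ U, Subsingleton (CohIII.fiberH (snd X T).left M z j) := fun j hj =>
    W7Cech.exists_nhd_vanish (snd X T).left (CurveRR.isCoh_of_inv hM) hfl j t ((hidx t).1 j hj)
  obtain ⟨g, hg⟩ : ∃ g : ℕ, topologicalKrullDim X.left = (g : WithBot ℕ∞) := by
    haveI : Nonempty X.left := ⟨η[X].left (IsLocalRing.closedPoint k)⟩
    exact AVDeg.exists_dim X
  have hN : ∀ z : T.left, ∀ j : ℕ, g < j → Subsingleton (Coh.HH (pullback (snd X T).left (T.left.fromSpecResidueField z))
      ((Scheme.Modules.pullback (pullback.fst (snd X T).left (T.left.fromSpecResidueField z))).obj M) j) := fun z j hj => by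
    letI : (pullback (snd X T).left (T.left.fromSpecResidueField z)).Over (Spec (CommRingCat.of (T.left.residueField z))) :=
      ⟨pullback.snd _ _⟩
    haveI : IsProper ((pullback (snd X T).left (T.left.fromSpecResidueField z)) ↘
        Spec (CommRingCat.of (T.left.residueField z))) :=
      inferInstanceAs (IsProper (pullback.snd (snd X T).left (T.left.fromSpecResidueField z)))
    haveI : Subsingleton (Spec (CommRingCat.of k)) := inferInstanceAs (Subsingleton (PrimeSpectrum k))
    haveI : Subsingleton (Spec (T.left.residueField z)) := inferInstanceAs (Subsingleton (PrimeSpectrum (T.left.residueField z)))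
    have hd := DimField.dim_eq_of_isPullback X.hom (pullback.snd (snd X T).left (T.left.fromSpecResidueField z))
      (pullback.fst (snd X T).left (T.left.fromSpecResidueField z) ≫ (fst X T).left)
      (T.left.fromSpecResidueField z ≫ T.hom) ((IsPullback.of_hasPullback _ _).paste_horiz hsq)
    exact DCohShriek.subsingleton_hh_of_dim_le (T.left.residueField z) g (hd.symm.trans hg).le _
      (Groth.Agent.QC.isCoh_pullback _ (CurveRR.isCoh_of_inv hM)).1 j hj
  choose! U htU hU using hnhd
  refine Filter.mem_of_superset (IsOpen.mem_nhds (((Finset.range (g + 1)).filter fun j => j ≠ idx t).finite_toSet.isOpen_biInter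
    (fun j _ => (U j).2)) (Set.mem_iInter₂.2 fun j hj => htU j (Finset.mem_filter.1 hj).2)) ?_
  intro z hz
  by_contra hne
  refine not_subsingleton_iff_nontrivial.2 (hidx z).2 ?_
  by_cases hb : idx z < g + 1
  · exact hU _ hne z (Set.mem_iInter₂.1 hz _ (Finset.mem_filter.2 ⟨Finset.mem_range.2 hb, hne⟩))
  · exact hN z _ (by omega)

end Groth.Agent.S17511
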