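import Groth.Statements.S17512
import Mathlib

set_option autoImplicit false
universe u
open ThetaRep

namespace Groth.Agent.S17512

open scoped commutatorElement

theorem cast_ne_zero_of_dvd (k : Type u) [Field k] {N m : ℕ} (hN : N ≠ 0) (hcop : N.Coprime (ringExpChar k)) (hm : m ∣ N) :
    (m : k) ≠ 0 := by
  obtain ⟨p, hp⟩ := ExpChar.exists k
  rw [ringExpChar.eq k p] at hcop
  cases hp with
  | zero => exact Nat.cast_ne_zero.2 (fun h => hN (by simpa [h] using hm))
  | prime hprime =>
    rw [Ne, CharP.cast_eq_zero_iff k p]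
    intro h
    exact hprime.one_lt.ne' (Nat.eq_one_of_dvd_coprimes hcop (h.trans hm) dvd_rfl)

/-- Characters trivial on a normal subgroup with commutative quotient. -/
theorem card_chars (k : Type u) [Field k] [IsAlgClosed k] {G : Type u} [Group G] (M : Subgroup G) [M.Normal]
    (hM : commutator G ≤ M) (hidx : M.index ≠ 0) (hk : ∀ m, m ∣ M.index → (m : k) ≠ 0) :
    Nat.card {f : G →* kˣ // M ≤ f.ker} = M.index ∧ Finite {f : G →* kˣ // M ≤ f.ker} := by
  haveI : M.FiniteIndex := ⟨hidx⟩
  haveI : Finite (G ⧸ M) := Subgroup.finite_quotient_of_finiteIndex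
  letI : CommGroup (G ⧸ M) :=
    { (inferInstance : Group (G ⧸ M)) with
      mul_comm := fun a b => by
        obtain ⟨a, rfl⟩ := QuotientGroup.mk_surjective a
        obtain ⟨b, rfl⟩ := QuotientGroup.mk_surjective b
        rw [← QuotientGroup.mk_mul, ← QuotientGroup.mk_mul, QuotientGroup.eq]
        refine hM ?_
        have : (a * b)⁻¹ * (b * a) = ⁅b⁻¹, a⁻¹⁆ := by rw [commutatorElement_def]; group
        rw [this]
        exact Subgroup.commutator_mem_commutator (Subgroup.mem_top _) (Subgroup.mem_top _) }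
  haveI : NeZero ((Monoid.exponent (G ⧸ M) : ℕ) : k) :=
    ⟨hk _ (Group.exponent_dvd_nat_card.trans (dvd_of_eq rfl))⟩
  let e : {f : G →* kˣ // M ≤ f.ker} ≃ ((G ⧸ M) →* kˣ) :=
    { toFun := fun f => QuotientGroup.lift M f.1 f.2
      invFun := fun g => ⟨g.comp (QuotientGroup.mk' M), fun x hx => by
        rw [MonoidHom.mem_ker, MonoidHom.comp_apply, QuotientGroup.mk'_apply, (QuotientGroup.eq_one_iff x).2 hx, map_one]⟩
      left_inv := fun f => Subtype.ext (MonoidHom.ext fun x => rfl)
      right_inv := fun g => MonoidHom.ext fun x => by obtain ⟨x, rfl⟩ := QuotientGroup.mk_surjective x; rfl }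
  have hcard : Nat.card ((G ⧸ M) →* kˣ) = M.index := CommGroup.card_monoidHom_of_hasEnoughRootsOfUnity (G ⧸ M) k
  refine ⟨(Nat.card_congr e).trans hcard, ?_⟩
  exact Nat.finite_of_card_ne_zero (by rw [(Nat.card_congr e).trans hcard]; exact hidx)


/-- For the group of k-points of a non-degenerate theta group with constant K, let k be an algebraically
closed field and Γ a group given with an injective homomorphism ι from kˣ onto the centre of Γ such
that K = Γ/ι(kˣ) is finite and commutative (all commutators lie in ι(kˣ)) of order prime to the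
characteristic exponent of k — the group of k-points of a non-degenerate theta group 1 → G_m → G → K
→ 1 with rank(K) prime to char(k). Subgroups of K correspond to subgroups H of Γ containing ι(kˣ);
such an H is totally isotropic for the commutator pairing exactly when it is commutative, and its
orthogonal corresponds to the centralizer of H. For a subgroup H ⊇ ι(kˣ) the following are
equivalent: (i) H is commutative and maximal among commutative subgroups of Γ; (ii) H is commutative
and [H : ι(kˣ)]² = [Γ : ι(kˣ)]; (iii) H is its own centralizer. (The published lemma is for an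
arbitrary non-degenerate theta group scheme, where (iii) ⇔ (ii) ⇒ (i) always and (i) ⇒ (iii) needs k
algebraically closed; this row is the case of the group of k-points with K constant.) -/
theorem result
    (k : Type u) [Field k] [IsAlgClosed k]
    (Γ : Type u) [Group Γ] (ι : kˣ →* Γ) (hι : Function.Injective ι)
    (hcent : ι.range = Subgroup.center Γ) (hcomm : commutator Γ ≤ ι.range)
    [Finite (Γ ⧸ ι.range)] (hcop : (Nat.card (Γ ⧸ ι.range)).Coprime (ringExpChar k))
    (H : Subgroup Γ) (hH : ι.range ≤ H) :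
    List.TFAE [
      IsMulCommutative H ∧ ∀ H' : Subgroup Γ, IsMulCommutative H' → H ≤ H' → H' = H,
      IsMulCommutative H ∧ (ι.range.relIndex H) ^ 2 = ι.range.index,
      H = Subgroup.centralizer (H : Set Γ)] := by
  classical
  set Z := ι.range with hZ
  have hN : Z.index ≠ 0 := Nat.card_pos.ne'
  have hk : ∀ m, m ∣ Z.index → (m : k) ≠ 0 := fun m hm => cast_ne_zero_of_dvd k hN hcop hm
  have hmemZ : ∀ c g : Γ, ⁅c, g⁆ ∈ Z := fun c g => hcomm (Subgroup.commutator_mem_commutator (Subgroup.mem_top _) (Subgroup.mem_top _))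
  choose E hE using hmemZ
  have hcen : ∀ (u : kˣ) (g : Γ), g * ι u = ι u * g := fun u g =>
    Subgroup.mem_center_iff.1 (hcent ▸ (⟨u, rfl⟩ : ι u ∈ ι.range)) g
  have hE2 : ∀ c g g', E c (g * g') = E c g * E c g' := fun c g g' => hι (by
    rw [map_mul, hE, hE c g, hE]
    calc ⁅c, g * g'⁆ = ⁅c, g⁆ * (g * ⁅c, g'⁆ * g⁻¹) := by simp only [commutatorElement_def]; group
      _ = ⁅c, g⁆ * ⁅c, g'⁆ := by rw [← hE c g', hcen, mul_assoc (ι _), mul_inv_cancel, mul_one])
  have hE1 : ∀ c c' g, E (c * c') g = E c g * E c' g := fun c c' g => hι (by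
    rw [map_mul, hE, hE c g, hE]
    calc ⁅c * c', g⁆ = (c * ⁅c', g⁆ * c⁻¹) * ⁅c, g⁆ := by simp only [commutatorElement_def]; group
      _ = ⁅c', g⁆ * ⁅c, g⁆ := by rw [← hE c' g, hcen, mul_assoc (ι _), mul_inv_cancel, mul_one]
      _ = ⁅c, g⁆ * ⁅c', g⁆ := by rw [← hE c' g, ← hE c g, ← map_mul, ← map_mul, mul_comm])
  have hE0 : ∀ c g, E c g = 1 ↔ g * c = c * g := fun c g => by
    rw [← hι.eq_iff, hE, map_one, commutatorElement_eq_one_iff_mul_comm, eq_comm]
  let ψ : Γ →* (Γ →* kˣ) := MonoidHom.mk' (fun c => MonoidHom.mk' (E c) (hE2 c)) (fun c c' => MonoidHom.ext (hE1 c c'))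
  have hZc : ∀ z ∈ Z, ∀ g : Γ, g * z = z * g := fun z hz g => Subgroup.mem_center_iff.1 (hcent ▸ hz) g
  set C := Subgroup.centralizer (H : Set Γ) with hC
  have hZC : Z ≤ C := fun z hz => Subgroup.mem_centralizer_iff.2 fun h _ => hZc z hz h
  haveI hHn : H.Normal := ⟨fun n hn g => by
    have := H.mul_mem (hcomm.trans hH (Subgroup.commutator_mem_commutator (Subgroup.mem_top g) (Subgroup.mem_top n))) hn
    simpa [commutatorElement_def] using this⟩
  have hNH : Z.relIndex H * H.index = Z.index := Subgroup.relIndex_mul_index hH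
  have hNC : Z.relIndex C * C.index = Z.index := Subgroup.relIndex_mul_index hZC
  obtain ⟨hcardH, hfinH⟩ := card_chars k H (hcomm.trans hH) (fun h => hN (by rw [← hNH, h, mul_zero]))
    (fun m hm => hk m (hm.trans ⟨_, by rw [← hNH, mul_comm]⟩))
  have hb : Z.relIndex C ≤ H.index := by
    let Φ : C →* (Γ →* kˣ) := ψ.comp C.subtype
    have hker : Φ.ker = Z.subgroupOf C := by
      ext ⟨c, hc⟩
      rw [MonoidHom.mem_ker, Subgroup.mem_subgroupOf, show Z = Subgroup.center Γ from hcent, Subgroup.mem_center_iff]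
      exact ⟨fun h g => (hE0 c g).1 (DFunLike.congr_fun h g), fun h => MonoidHom.ext fun g => (hE0 c g).2 (h g)⟩
    rw [show Z.relIndex C = Nat.card Φ.range by rw [← Subgroup.index_ker, hker]; rfl, ← hcardH]
    refine Nat.card_le_card_of_injective
      (fun f => (⟨f.1, fun x hx => by
        obtain ⟨⟨c, hc⟩, hf⟩ := f.2
        rw [← hf]
        exact (hE0 c x).2 (Subgroup.mem_centralizer_iff.1 hc x hx)⟩ : {f : Γ →* kˣ // H ≤ f.ker})) ?_
    intro f g hfg
    exact Subtype.ext (congrArg (fun z : {f : Γ →* kˣ // H ≤ f.ker} => z.1) hfg)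
  have ha : C.index ≤ Z.relIndex H := by
    haveI : (Z.subgroupOf H).Normal := ⟨fun n hn g => by
      rw [Subgroup.mem_subgroupOf] at hn ⊢
      rw [Subgroup.coe_mul, Subgroup.coe_mul, Subgroup.coe_inv, hZc _ hn, mul_assoc, mul_inv_cancel, mul_one]
      exact hn⟩
    obtain ⟨hcard, hfin⟩ := card_chars k (Z.subgroupOf H)
      (fun x hx => by
        rw [Subgroup.mem_subgroupOf]
        exact hcomm (Subgroup.commutator_mono le_top le_top
          ((Subgroup.map_commutator ⊤ ⊤ H.subtype) ▸ Subgroup.mem_map_of_mem H.subtype hx)))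
      (fun h => hN (by rw [← hNH, show Z.relIndex H = 0 from h, zero_mul]))
      (fun m hm => hk m (hm.trans ⟨_, hNH.symm⟩))
    let Φ : Γ →* (H →* kˣ) := MonoidHom.mk' (fun g => (ψ g).comp H.subtype)
      (fun g g' => MonoidHom.ext fun h => hE1 g g' h)
    have hker : Φ.ker = C := by
      ext g
      rw [MonoidHom.mem_ker, hC, Subgroup.mem_centralizer_iff]
      exact ⟨fun h x hx => (hE0 g x).1 (DFunLike.congr_fun h ⟨x, hx⟩), fun h => MonoidHom.ext fun x => (hE0 g x).2 (h x x.2)⟩
    rw [← hker, Subgroup.index_ker, show Z.relIndex H = (Z.subgroupOf H).index from rfl, ← hcard]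
    refine Nat.card_le_card_of_injective
      (fun f => (⟨f.1, fun x hx => by
        obtain ⟨g, hg⟩ := f.2
        rw [← hg]
        exact (hE0 g x).2 (hZc _ (Subgroup.mem_subgroupOf.1 hx) g).symm⟩ : {f : H →* kˣ // Z.subgroupOf H ≤ f.ker})) ?_
    intro f g hfg
    exact Subtype.ext (congrArg (fun z : {f : H →* kˣ // Z.subgroupOf H ≤ f.ker} => z.1) hfg)
  have hkey : Z.relIndex H * Z.relIndex C = Z.index := by
    refine le_antisymm ?_ ?_
    · rw [← hNH]; exact Nat.mul_le_mul_left _ hb
    · rw [← hNC, mul_comm (Z.relIndex C)]; exact Nat.mul_le_mul_right _ ha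
  have hcm : IsMulCommutative H → H ≤ C := fun hH' x hx => Subgroup.mem_centralizer_iff.2 fun y hy =>
    congrArg Subtype.val (hH'.is_comm.comm (⟨y, hy⟩ : H) ⟨x, hx⟩)
  have hcm' : H ≤ C → IsMulCommutative H := fun h =>
    ⟨⟨fun x y => Subtype.ext ((Subgroup.mem_centralizer_iff.1 (h y.2)) x x.2)⟩⟩
  tfae_have 3 → 2 := fun h => by
    refine ⟨hcm' h.le, ?_⟩
    rw [pow_two]
    conv_lhs => arg 2; rw [h]
    exact hkey
  tfae_have 2 → 3 := fun ⟨hc, hsq⟩ => by
    refine le_antisymm (hcm hc) ?_
    have hpos : Z.relIndex H ≠ 0 := fun h0 => hN (by rw [← hsq, h0]; rfl)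
    have h1 : Z.relIndex C = Z.relIndex H := by
      rw [← hsq, pow_two] at hkey
      exact Nat.eq_of_mul_eq_mul_left (Nat.pos_of_ne_zero hpos) hkey
    have h2 := Subgroup.relIndex_mul_relIndex Z H C hH (hcm hc)
    rw [h1] at h2
    have h3 : H.relIndex C = 1 := Nat.eq_of_mul_eq_mul_left (Nat.pos_of_ne_zero hpos) (h2.trans (mul_one _).symm)
    exact Subgroup.relIndex_eq_one.1 h3
  tfae_have 3 → 1 := fun h => by
    refine ⟨hcm' h.le, fun H' hH' hle => le_antisymm (fun x hx => ?_) hle⟩
    rw [h]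
    exact Subgroup.mem_centralizer_iff.2 fun y hy => congrArg Subtype.val (hH'.is_comm.comm (⟨y, hle hy⟩ : H') ⟨x, hx⟩)
  tfae_have 1 → 3 := fun ⟨hc, hmax⟩ => by
    refine le_antisymm (hcm hc) fun c hcC => ?_
    let H' := Subgroup.closure ((H : Set Γ) ∪ {c})
    have hle : H ≤ H' := fun x hx => Subgroup.subset_closure (Or.inl hx)
    have hc' : IsMulCommutative H' := Subgroup.isMulCommutative_closure (by
      rintro x (hx | hx) y (hy | hy)
      · exact (Subgroup.mem_centralizer_iff.1 (hcm hc hy) x hx)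
      · rw [Set.mem_singleton_iff.1 hy]; exact Subgroup.mem_centralizer_iff.1 hcC x hx
      · rw [Set.mem_singleton_iff.1 hx]; exact (Subgroup.mem_centralizer_iff.1 hcC y hy).symm
      · rw [Set.mem_singleton_iff.1 hx, Set.mem_singleton_iff.1 hy])
    rw [← hmax H' hc' hle]
    exact Subgroup.subset_closure (Or.inr rfl)
  tfae_finish

end Groth.Agent.S17512
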