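import Groth.Statements.S17513
import Groth.Agent.AVDeg.MatEnd

set_option autoImplicit false
universe u
open CategoryTheory CategoryTheory.Limits MonoidalCategory CartesianMonoidalCategory MonObj GrpObj AlgebraicGeometry
open AbVar

namespace Groth.Agent.S17513

/-- Let X be an abelian variety over a field k (a proper, geometrically integral, commutative k-group
scheme) whose underlying space has Krull dimension g, let r be a natural number and α an r × r
matrix with integer entries. Write X^r for the r-fold product of X over k and [α]_X : X^r → X^r for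
the homomorphism (x_1, …, x_r) ↦ (Σ_j α_{1j} x_j, …, Σ_j α_{rj} x_j), i.e. the map whose i-th
component is the product, in the commutative group of maps X^r → X, of the powers pr_j^{α_{ij}}. If
det α ≠ 0 then [α]_X is finite and flat of constant degree |det α|^{2g} = det(α)^{2g}. (The
published statement covers det α = 0 too, with the convention that a non-finite homomorphism has
degree 0; that case says only that [α]_X is not finite and is not part of this row.) -/
theorem result
    (k : Type u) [Field k] (X : Over (Spec (CommRingCat.of k))) [GrpObj X] [IsCommMonObj X]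
    [IsProper X.hom] [GeometricallyIntegral X.hom]
    (g : ℕ) (hg : topologicalKrullDim ↥X.left = g)
    (r : ℕ) (α : Matrix (Fin r) (Fin r) ℤ) (hα : α.det ≠ 0)
    (φ : (∏ᶜ fun _ : Fin r => X) ⟶ (∏ᶜ fun _ : Fin r => X))
    (hφ : φ = Pi.lift (fun i => ∏ j : Fin r, (Pi.π (fun _ : Fin r => X) j) ^ (α i j))) :
    IsFinite φ.left ∧ Flat φ.left ∧
      ∀ y : ↥(∏ᶜ fun _ : Fin r => X).left, Scheme.Hom.finrank φ.left y = α.det.natAbs ^ (2 * g) := by
  obtain ⟨D⟩ := AgIsog.nonempty_prodAV (fun _ : Fin r => X)
  letI := D.grp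
  haveI := D.proper
  haveI := D.geomInt
  haveI := D.pr_hom
  haveI := D.inj_hom
  haveI : IsCommMonObj D.P := isCommMonObj_of_isProper_of_geometricallyIntegral D.P
  obtain ⟨hM, hfin, hflat, hrk⟩ := AVDeg.matEnd_props D g hg α hα
  let π := Pi.π (fun _ : Fin r => X)
  let v : (∏ᶜ fun _ : Fin r => X) ⟶ D.P := ∏ t, π t ≫ D.inj t
  have hv : ∀ t, v ≫ D.pr t = π t := fun t => by
    rw [AVDeg.prod_comp, Finset.prod_eq_single t (fun s _ hs => ?_) (fun h => absurd (Finset.mem_univ t) h)]
    · rw [Category.assoc, D.self, Category.comp_id]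
    · rw [Category.assoc, D.other t s (Ne.symm hs), MonObj.comp_one]
  have hvu : v ≫ Pi.lift D.pr = 𝟙 _ := Limits.Pi.hom_ext _ _ fun t => by
    rw [Category.assoc, Pi.lift_π, hv, Category.id_comp]
  have huv : Pi.lift D.pr ≫ v = 𝟙 D.P := by
    rw [AVDeg.comp_prod, ← D.total]
    exact Finset.prod_congr rfl fun t _ => by rw [← Category.assoc, Pi.lift_π]
  haveI : IsIso v := ⟨Pi.lift D.pr, hvu, huv⟩
  have hmat : ∀ t, AVDeg.matEnd D α ≫ D.pr t = ∏ j, D.pr j ^ α t j := fun t => by
    show (∏ i, (∏ j, D.pr j ^ α i j) ≫ D.inj i) ≫ D.pr t = _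
    rw [AVDeg.prod_comp, Finset.prod_eq_single t (fun s _ hs => ?_) (fun h => absurd (Finset.mem_univ t) h)]
    · rw [Category.assoc, D.self, Category.comp_id]
    · rw [Category.assoc, D.other t s (Ne.symm hs), MonObj.comp_one]
  have hsq : φ ≫ v = v ≫ AVDeg.matEnd D α := by
    have hu : φ = v ≫ AVDeg.matEnd D α ≫ Pi.lift D.pr := by
      rw [hφ]
      refine Limits.Pi.hom_ext _ _ fun t => ?_
      rw [Pi.lift_π, Category.assoc, Category.assoc, Pi.lift_π, hmat, AVDeg.comp_prod]
      exact Finset.prod_congr rfl fun j _ => by rw [GrpObj.comp_zpow, hv]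
    rw [hu, Category.assoc, Category.assoc, huv, Category.comp_id]
  haveI : IsIso v.left := inferInstanceAs (IsIso ((Over.forget _).map v))
  have hpb : IsPullback v.left φ.left (AVDeg.matEnd D α).left v.left :=
    IsPullback.of_horiz_isIso ⟨by rw [← Over.comp_left, ← Over.comp_left, hsq]⟩
  refine ⟨MorphismProperty.of_isPullback hpb hfin, MorphismProperty.of_isPullback hpb hflat, fun y => ?_⟩
  haveI := hfin
  haveI := hflat
  exact (Scheme.Hom.finrank_of_isPullback _ _ _ _ hpb y).trans (hrk _)

end Groth.Agent.S17513
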