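import Groth.Statements.S17515
import Groth.Agent.AVEuler.Symmetric
import Groth.Agent.AgBC.PoincareBC
import Groth.Agent.AVEuler.Transpose

set_option autoImplicit false
universe u
open CategoryTheory CategoryTheory.Limits MonoidalCategory CartesianMonoidalCategory MonObj GrpObj AlgebraicGeometry
open AbVar

namespace Groth.Agent.S17515

attribute [local instance] W7Cube.law AVDeg.overInst

/-- A symmetric homomorphism to the dual comes from a line bundle after passing to an algebraically
closed field. Let X be an abelian variety over a field k (a proper, geometrically integral,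
commutative k-group scheme) and (X^t, φ) a given dual abelian variety for the fppf topology, X^t
itself an abelian variety, with Poincaré class ξ on X ×_k X^t; suppose moreover that (X, φ') is
given as the dual of X^t in such a way that the swap of ξ to X^t ×_k X is its Poincaré class (this
identifies X with its double dual, the biduality map becoming the identity). Let λ : X → X^t be a
homomorphism which is symmetric: λ is its own transpose with respect to φ and φ'. Then for every
algebraically closed field Ω and every k-point t : Spec Ω → Spec k there is an invertible module L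
on the base change X_Ω such that the base change λ_Ω : X_Ω → X^t_Ω is the homomorphism φ_L attached
to L through the base-changed dual data (there is an invertible module N on X_Ω × X_Ω with N ⊗
pr_1^*L ⊗ pr_2^*L ≅ m^*L whose class is sent to λ_Ω). (The published item also gives a finite
separable extension of k over which such an L exists; that refinement is not part of this
statement.) -/
theorem result
    (k : Type u) [Field k] (X Xt : Over (Spec (CommRingCat.of k)))
    [GrpObj X] [IsCommMonObj X] [IsProper X.hom] [GeometricallyIntegral X.hom]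
    [GrpObj Xt] [IsCommMonObj Xt] [IsProper Xt.hom] [GeometricallyIntegral Xt.hom]
    (φ : AgPol.DualMap X Xt) (hφ : AbDual.IsDualAV Scheme.fppfPrecoverage X Xt φ)
    (φ' : AgPol.DualMap Xt X) (hφ' : AbDual.IsDualAV Scheme.fppfPrecoverage Xt X φ')
    (ξ : PicF.Cl (PicF.XT X.hom Xt)) (hξ : AbDual.IsPoincareCl X Xt φ ξ)
    (hξ' : AbDual.IsPoincareCl Xt X φ' (PicF.pullCl (pullbackSymmetry Xt.hom X.hom).hom ξ))
    (lam : X ⟶ Xt) [IsMonHom lam] (hsymm : AbDual.IsTranspose lam φ φ' lam)
    (Ω : Type u) [Field Ω] [IsAlgClosed Ω] (t : Spec (CommRingCat.of Ω) ⟶ Spec (CommRingCat.of k)) :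
    ∃ L : (Red.bc t X).left.Modules, PicF.IsInvertible L ∧
      AgPol.IsLambda (Red.bc t X) (Red.bc t Xt) (AgPol.bcDual t X Xt φ) L ((Over.pullback t).map lam) := by
  haveI := AVEuler.smooth_av X
  haveI := AVEuler.connected_av X
  obtain ⟨Q, hQ⟩ := AgSymm.exists_poincare hξ
  obtain ⟨QB, hQB⟩ := AgSymm.exists_poincare hξ'
  haveI := AVEuler.smooth_av Xt
  haveI := AVEuler.connected_av Xt
  have hsym : ∀ {V : Over (Spec (CommRingCat.of k))} (a b : V ⟶ X),
      AbPrim.val Q.x a (b ≫ lam) = AbPrim.val Q.x b (a ≫ lam) := fun {V} a b => by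
    rw [← AVEuler.val_transpose hφ Q QB hsymm a b]
    refine Subtype.ext ?_
    change PicF.pullCl (lift (a ≫ lam) b).left QB.x.1 = PicF.pullCl (lift b (a ≫ lam)).left Q.x.1
    rw [hQB, hQ, ← PicLoc.pullCl_comp]
    congr 1
    refine Limits.pullback.hom_ext ?_ ?_
    · exact (Category.assoc _ _ _).trans ((congrArg (_ ≫ ·) (Limits.pullbackSymmetry_hom_comp_fst _ _)).trans
        (by change (lift (a ≫ lam) b).left ≫ (snd Xt X).left = (lift b (a ≫ lam)).left ≫ (fst X Xt).left; rw [← Over.comp_left, ← Over.comp_left, lift_fst, lift_snd]))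
    · exact (Category.assoc _ _ _).trans ((congrArg (_ ≫ ·) (Limits.pullbackSymmetry_hom_comp_snd _ _)).trans
        (by change (lift (a ≫ lam) b).left ≫ (fst Xt X).left = (lift b (a ≫ lam)).left ≫ (snd X Xt).left; rw [← Over.comp_left, ← Over.comp_left, lift_fst, lift_snd]))
  let Y := Red.bc t X
  let Yt := Red.bc t Xt
  haveI : IsProper Y.hom := inferInstanceAs (IsProper (Limits.pullback.snd X.hom t))
  haveI : GeometricallyIntegral Y.hom := inferInstanceAs (GeometricallyIntegral (Limits.pullback.snd X.hom t))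
  haveI : IsProper Yt.hom := inferInstanceAs (IsProper (Limits.pullback.snd Xt.hom t))
  haveI : GeometricallyIntegral Yt.hom := inferInstanceAs (GeometricallyIntegral (Limits.pullback.snd Xt.hom t))
  haveI := AVEuler.smooth_av Y
  haveI := AVEuler.connected_av Y
  haveI := AVEuler.smooth_av Yt
  haveI := AVEuler.connected_av Yt
  haveI : IsCommMonObj Y := isCommMonObj_of_isProper_of_geometricallyIntegral Y
  haveI : IsCommMonObj Yt := isCommMonObj_of_isProper_of_geometricallyIntegral Yt
  have hD := AgBC.isDualAV_bcDual t hφ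
  let Q' := AgBC.poincareBC t hφ Q
  let l : Y ⟶ Yt := (Over.pullback t).map lam
  have hl : ∀ {V : Over (Spec (CommRingCat.of Ω))} (f : V ⟶ Y),
      AgBC.toDn t (f ≫ l) = AgBC.toDn t f ≫ lam := fun {V} f => by
    apply Over.OverMorphism.ext
    rw [AgBC.toDn_left, Over.comp_left, Over.comp_left, AgBC.toDn_left]
    exact congrArg (f.left ≫ ·) (Limits.pullback.lift_fst _ _ _)
  have hs : ∀ {V : Over (Spec (CommRingCat.of Ω))} (f s : V ⟶ Y),
      AbPrim.val Q'.x f (s ≫ l) = AbPrim.val Q'.x s (f ≫ l) := fun {V} f s => by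
    change AbPrim.val (W7Cube.pull (AgBC.xtPr t X Xt) Q.x) f _ = AbPrim.val (W7Cube.pull (AgBC.xtPr t X Xt) Q.x) s _
    rw [AgBC.val_pull_xtPr, AgBC.val_pull_xtPr, hl, hl]
    exact hsym _ _
  obtain ⟨c, hc⟩ := AVEuler.exists_lam_of_symm hD Q' l hs
  obtain ⟨L, hL, rfl⟩ := PicGrp.exists_eq_cls c
  obtain ⟨N, hN, hNc⟩ := PicGrp.exists_eq_cls (AVMukai.lam (PicGrp.cls L hL) (fst Y Y) (snd Y Y))
  refine ⟨L, hL, N, hN, ?_, ?_⟩
  · refine (PicGrp.cl_eq_cl_iff _ _).1 ?_
    have h1 : PicGrp.cls (Y := (Y ⊗ Y).left) N hN * W7Cube.pc (PicGrp.cls L hL) (fst Y Y) *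
        W7Cube.pc (PicGrp.cls L hL) (snd Y Y) = W7Cube.pc (PicGrp.cls L hL) μ[Y] := by
      rw [← hNc, AVMukai.lam, ← MonObj.mul_eq_mul Y]
      apply Additive.ofMul.injective
      simp only [ofMul_mul, ofMul_inv]
      abel
    rw [W7Cube.pc, W7Cube.pc, W7Cube.pc, W7Cube.pull_cls, W7Cube.pull_cls, W7Cube.pull_cls] at h1
    have h2 := congrArg Subtype.val h1
    rw [PicGrp.mul_val, PicGrp.cls_mul_cls_val] at h2
    exact h2
  · have hx : Q'.cls l = AVMukai.lam (PicGrp.cls L hL) (fst Y Y) (snd Y Y) := hc (fst Y Y) (snd Y Y)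
    have := Q'.phi_cls hD l
    rw [hx, hNc] at this
    exact this

end Groth.Agent.S17515
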