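import Groth.Statements.S17516
import Groth.Agent.AVEuler.BCPolar
import Groth.Agent.AVPoincare.Exists

set_option autoImplicit false
universe u
open CategoryTheory CategoryTheory.Limits MonoidalCategory CartesianMonoidalCategory MonObj GrpObj AlgebraicGeometry
open AbVar

set_option maxHeartbeats 1000000

namespace Groth.Agent.S17516

attribute [local instance] W7Cube.law AVDeg.overInst

/-- Let X and Y be abelian varieties over a field k (proper, geometrically integral, commutative k-group
schemes) with given dual abelian varieties (X^t, φ_X) and (Y^t, φ_Y) for the fppf topology, let f :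
X → Y be an isogeny — a homomorphism which is finite, flat and surjective — of constant degree d,
with transpose f^t : Y^t → X^t, and let λ : Y → Y^t be a polarization of Y (a homomorphism whose
base change to every algebraically closed field is the homomorphism φ_M attached to some ample
invertible module M) which is finite and flat of constant degree e. Then f^*λ := f^t ∘ λ ∘ f : X →
X^t is a polarization of X, and it is finite and flat of constant degree d² · e = deg(f)² · deg(λ). -/
theorem result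
    (k : Type u) [Field k] (X Xt Y Yt : Over (Spec (CommRingCat.of k)))
    [GrpObj X] [IsCommMonObj X] [IsProper X.hom] [GeometricallyIntegral X.hom] [GrpObj Xt] [IsCommMonObj Xt] [IsProper Xt.hom] [GeometricallyIntegral Xt.hom]
    [GrpObj Y] [IsCommMonObj Y] [IsProper Y.hom] [GeometricallyIntegral Y.hom] [GrpObj Yt] [IsCommMonObj Yt] [IsProper Yt.hom] [GeometricallyIntegral Yt.hom]
    (φX : AgPol.DualMap X Xt) (hX : AbDual.IsDualAV Scheme.fppfPrecoverage X Xt φX)
    (φY : AgPol.DualMap Y Yt) (hY : AbDual.IsDualAV Scheme.fppfPrecoverage Y Yt φY)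
    (f : X ⟶ Y) [IsMonHom f] [IsFinite f.left] [Flat f.left] [Surjective f.left]
    (d : ℕ) (hd : ∀ y : ↥Y.left, Scheme.Hom.finrank f.left y = d)
    (ft : Yt ⟶ Xt) (hft : AbDual.IsTranspose f φX φY ft)
    (lam : Y ⟶ Yt) (hlam : AgPol.IsPolarization Y Yt φY lam)
    [IsFinite lam.left] [Flat lam.left] (e : ℕ) (he : ∀ y : ↥Yt.left, Scheme.Hom.finrank lam.left y = e) :
    AgPol.IsPolarization X Xt φX (f ≫ lam ≫ ft) ∧ IsFinite (f ≫ lam ≫ ft).left ∧ Flat (f ≫ lam ≫ ft).left ∧
      ∀ x : ↥Xt.left, Scheme.Hom.finrank (f ≫ lam ≫ ft).left x = d ^ 2 * e := by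
  haveI := AVEuler.smooth_av X
  haveI := AVEuler.connected_av X
  haveI := AVEuler.smooth_av Xt
  haveI := AVEuler.connected_av Xt
  haveI := AVEuler.smooth_av Y
  haveI := AVEuler.connected_av Y
  haveI := AVEuler.smooth_av Yt
  haveI := AVEuler.connected_av Yt
  obtain ⟨PA, hPA, hξA⟩ := AVPoincare.exists_isPoincareCl hX
  obtain ⟨QX, -⟩ := AgSymm.exists_poincare hξA
  obtain ⟨PB, hPB, hξB⟩ := AVPoincare.exists_isPoincareCl hY
  obtain ⟨QY, -⟩ := AgSymm.exists_poincare hξB
  haveI := AVEuler.isMonHom_transpose hX hY QX QY hft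
  obtain ⟨hff, hfl, hfs, hfd⟩ := AVEuler.transpose_isogeny hX hY QX QY hft d hd
  haveI := hff; haveI := hfl; haveI := hfs
  haveI := hlam.1
  haveI hFf : IsFinite (f ≫ lam ≫ ft).left := inferInstanceAs (IsFinite (f.left ≫ lam.left ≫ ft.left))
  haveI hFl : Flat (f ≫ lam ≫ ft).left := inferInstanceAs (Flat (f.left ≫ lam.left ≫ ft.left))
  refine ⟨⟨inferInstance, fun Ω _ _ t => ?_⟩, hFf, hFl, fun x => ?_⟩
  · obtain ⟨L, hL, hΛ⟩ := hlam.2 Ω t
    haveI : IsAffineHom t := isAffineHom_of_isAffine t
    haveI : IsAffineHom (Limits.pullback.fst X.hom t) := MorphismProperty.of_isPullback (P := @IsAffineHom) (IsPullback.of_hasPullback X.hom t).flip inferInstance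
    haveI : IsAffineHom (Limits.pullback.fst Y.hom t) := MorphismProperty.of_isPullback (P := @IsAffineHom) (IsPullback.of_hasPullback Y.hom t).flip inferInstance
    haveI : IsAffineHom (((Over.pullback t).map f).left ≫ Limits.pullback.fst Y.hom t) := by
      rw [show ((Over.pullback t).map f).left ≫ Limits.pullback.fst Y.hom t = Limits.pullback.fst X.hom t ≫ f.left from congrArg (fun w => w.left) (AVEuler.mapDown_pr t f)]
      exact inferInstanceAs (IsAffineHom (Limits.pullback.fst X.hom t ≫ f.left))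
    haveI : IsAffineHom ((Over.pullback t).map f).left := IsAffineHom.of_comp _ (Limits.pullback.fst Y.hom t)
    exact ⟨_, TMul.isAmple_pullback_of_isAffineHom _ hL, AVEuler.isLambda_pullback t hY f ft hft lam hL.1 hΛ⟩
  · obtain ⟨n, hn⟩ : ∃ n : ℕ, topologicalKrullDim X.left = (n : WithBot ℕ∞) := by
      haveI : Nonempty X.left := ⟨η[X].left (IsLocalRing.closedPoint k)⟩
      exact AVDeg.exists_dim X
    haveI := AVDeg.isIntegral_av X
    haveI := AVDeg.isIntegral_av Y
    haveI := AVDeg.isIntegral_av Yt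
    haveI := AVDeg.isIntegral_av Xt
    have hnY : topologicalKrullDim Y.left = (n : WithBot ℕ∞) := (GrpField.dim_eq_of_isFinite f).symm.trans hn
    obtain ⟨m, hm⟩ : ∃ m : ℕ, topologicalKrullDim Yt.left = (m : WithBot ℕ∞) := by
      haveI : Nonempty Yt.left := ⟨η[Yt].left (IsLocalRing.closedPoint k)⟩
      exact AVDeg.exists_dim Yt
    haveI : IsLocallyNoetherian Yt.left := LocallyOfFiniteType.isLocallyNoetherian Yt.hom
    haveI : IsLocallyNoetherian Y.left := LocallyOfFiniteType.isLocallyNoetherian Y.hom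
    haveI := RPushQC.hasInjectiveResolutions (Y ⊗ Yt).left
    obtain ⟨P, hP, hPx⟩ := PicGrp.exists_eq_cls QY.x
    have hnYt := AVMukai.dim_eq hY QY hP hPx n hnY
    have hnXt : topologicalKrullDim Xt.left = (n : WithBot ℕ∞) := (GrpField.dim_eq_of_isFinite ft).symm.trans hnYt
    obtain ⟨c, hc⟩ := AVEuler.exists_χc_ne_zero (A := Xt)
    have h1 := AVEuler.χc_pc hn hnXt (f ≫ lam ≫ ft) hFf x c
    have h2 : W7Cube.pc c (f ≫ lam ≫ ft) = W7Cube.pc (W7Cube.pc (W7Cube.pc c ft) lam) f := by
      simp only [W7Cube.pc, W7Cube.pull_pull, Over.comp_left]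
    rw [h2, AVEuler.χc_pc hn hnY f ‹_› (η[Y].left (IsLocalRing.closedPoint k)), hd,
      AVEuler.χc_pc hnY hnYt lam ‹_› (η[Yt].left (IsLocalRing.closedPoint k)), he,
      AVEuler.χc_pc hnYt hnXt ft ‹_› x, hfd] at h1
    have h3 : ((d ^ 2 * e : ℕ) : ℤ) = ((f ≫ lam ≫ ft).left.finrank x : ℤ) :=
      mul_right_cancel₀ hc (by rw [← h1]; push_cast; ring)
    exact_mod_cast h3.symm

end Groth.Agent.S17516
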