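import Groth.Statements.S17517
import Mathlib

set_option autoImplicit false
set_option linter.unusedSectionVars false
universe u
open GIT

namespace Groth.Agent.S17517

/-- Let `E` be a finite-dimensional real inner product space and `L` a full lattice in `E` (a discrete
subgroup spanning `E`) on which the inner product is integer valued; let `F` and `G` be nonempty
finite sets of real linear functionals on `E` taking integer values on `L`, with `f_min v = min_{f ∈
F} f v` and `g_min v = min_{g ∈ G} g v`. If some vector `v` has `f_min v ≥ 0` and `g_min v > 0`,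
then on the set `C_F` of nonzero `v` with `f_min v ≥ 0` the function `v ↦ g_min v / ‖v‖` attains a
greatest value `M`, and there is exactly one lattice vector `v₀ ∈ C_F` with `g_min v₀ / ‖v₀‖ = M` of
which every lattice vector `v ∈ C_F` with `g_min v / ‖v‖ = M` is an integer multiple. -/
theorem result
    (E : Type u) [NormedAddCommGroup E] [InnerProductSpace ℝ E] [FiniteDimensional ℝ E]
    (L : Submodule ℤ E) [DiscreteTopology L] [IsZLattice ℝ L]
    (hint : ∀ x ∈ L, ∀ y ∈ L, ∃ n : ℤ, inner ℝ x y = (n : ℝ))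
    (F G : Finset (Module.Dual ℝ E)) (hF : F.Nonempty) (hG : G.Nonempty)
    (hFi : ∀ f ∈ F, ∀ x ∈ L, ∃ n : ℤ, f x = (n : ℝ)) (hGi : ∀ g ∈ G, ∀ x ∈ L, ∃ n : ℤ, g x = (n : ℝ))
    (hpos : ∃ v : E, 0 ≤ F.inf' hF (fun f => f v) ∧ 0 < G.inf' hG (fun g => g v)) :
    ∃ M : ℝ, IsGreatest ((fun v => G.inf' hG (fun g => g v) / ‖v‖) ''
        {v : E | v ≠ 0 ∧ 0 ≤ F.inf' hF (fun f => f v)}) M ∧
      ∃! v₀ : E, v₀ ∈ L ∧ v₀ ≠ 0 ∧ 0 ≤ F.inf' hF (fun f => f v₀) ∧
        G.inf' hG (fun g => g v₀) / ‖v₀‖ = M ∧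
        ∀ v ∈ L, v ≠ 0 → 0 ≤ F.inf' hF (fun f => f v) → G.inf' hG (fun g => g v) / ‖v‖ = M →
          ∃ n : ℤ, v = n • v₀ := by
  classical
  set fm : E → ℝ := fun v => F.inf' hF (fun f => f v) with hfm
  set gm : E → ℝ := fun v => G.inf' hG (fun g => g v) with hgm
  have hfc : ∀ v, 0 ≤ fm v ↔ ∀ f ∈ F, 0 ≤ f v := fun v => Finset.le_inf'_iff hF _
  have hgc : ∀ v r, r ≤ gm v ↔ ∀ g ∈ G, r ≤ g v := fun v r => Finset.le_inf'_iff hG _
  have hgcont : Continuous gm :=
    Continuous.finset_inf'_apply hG fun g _ => g.continuous_of_finiteDimensional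
  have hfcont : Continuous fm :=
    Continuous.finset_inf'_apply hF fun g _ => g.continuous_of_finiteDimensional
  have hhom : ∀ (v : E) (r : ℝ), 0 ≤ r → r * gm v ≤ gm (r • v) := fun v r hr => by
    rw [hgc]
    intro g hg
    rw [map_smul, smul_eq_mul]
    exact mul_le_mul_of_nonneg_left (Finset.inf'_le _ hg) hr
  have hhom' : ∀ (v : E) (r : ℝ), 0 < r → gm (r • v) = r * gm v := fun v r hr => by
    refine le_antisymm ?_ (hhom v r hr.le)
    have h := hhom (r • v) r⁻¹ (inv_nonneg.mpr hr.le)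
    rw [inv_smul_smul₀ hr.ne', inv_mul_le_iff₀ hr] at h
    exact h
  have hfs : ∀ (v : E) (r : ℝ), 0 ≤ r → 0 ≤ fm v → 0 ≤ fm (r • v) := fun v r hr hv => by
    rw [hfc] at hv ⊢
    intro f hf
    rw [map_smul, smul_eq_mul]
    exact mul_nonneg hr (hv f hf)
  obtain ⟨p, hp1, hp2⟩ := hpos
  have hp0 : p ≠ 0 := by
    rintro rfl
    obtain ⟨g, hg⟩ := hG
    exact absurd (hp2.trans_le (Finset.inf'_le (fun g : Module.Dual ℝ E => g (0 : E)) hg)) (by simp)
  obtain ⟨u, ⟨hu1, hu2⟩, hmax⟩ := ((isCompact_sphere (0 : E) 1).inter_right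
    (isClosed_le continuous_const hfcont)).exists_isMaxOn
    ⟨‖p‖⁻¹ • p, by simp [norm_smul, hp0], hfs _ _ (inv_nonneg.mpr (norm_nonneg p)) hp1⟩ hgcont.continuousOn
  have hun : ‖u‖ = 1 := by simpa using hu1
  set M := gm u with hM
  have hle : ∀ v, v ≠ 0 → 0 ≤ fm v → gm v / ‖v‖ ≤ M := fun v hv hvf => by
    have hn : 0 < ‖v‖ := norm_pos_iff.mpr hv
    have h := hmax (a := ‖v‖⁻¹ • v) ⟨by simp [norm_smul, hv], hfs _ _ (inv_nonneg.mpr hn.le) hvf⟩
    rw [Set.mem_setOf_eq, hhom' _ _ (inv_pos.mpr hn)] at h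
    rwa [div_eq_inv_mul]
  have hMpos : 0 < M := (div_pos hp2 (norm_pos_iff.mpr hp0)).trans_le (hle p hp0 hp1)
  -- the minimal vector
  obtain ⟨vs, hvs⟩ : ∃ x : E, x = M⁻¹ • u := ⟨_, rfl⟩
  have hvsn : ‖vs‖ = M⁻¹ := by rw [hvs, norm_smul, hun, mul_one, Real.norm_eq_abs, abs_of_pos (inv_pos.mpr hMpos)]
  have hvsg : gm vs = 1 := by rw [hvs, hhom' _ _ (inv_pos.mpr hMpos), ← hM, inv_mul_cancel₀ hMpos.ne']
  have hvsf : 0 ≤ fm vs := hvs ▸ hfs _ _ (inv_nonneg.mpr hMpos.le) hu2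
  have hvs0 : vs ≠ 0 := by
    intro h; rw [h, norm_zero] at hvsn; exact (inv_pos.mpr hMpos).ne hvsn
  have hmin : ∀ v, 0 ≤ fm v → 1 ≤ gm v → ‖vs‖ ≤ ‖v‖ := fun v hvf hvg => by
    have hv : v ≠ 0 := by
      rintro rfl
      obtain ⟨g, hg⟩ := hG
      exact absurd ((hgc 0 1).mp hvg g hg) (by simp)
    have h := hle v hv hvf
    rw [div_le_iff₀ (norm_pos_iff.mpr hv)] at h
    rw [hvsn, inv_le_iff_one_le_mul₀ hMpos]
    linarith
  have hray : ∀ v, v ≠ 0 → 0 ≤ fm v → gm v / ‖v‖ = M → 0 < gm v ∧ v = gm v • vs := by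
    intro v hv hvf hvM
    have hn : 0 < ‖v‖ := norm_pos_iff.mpr hv
    have hgv : gm v = M * ‖v‖ := by rw [← hvM, div_mul_cancel₀ _ hn.ne']
    have hg0 : 0 < gm v := hgv ▸ mul_pos hMpos hn
    refine ⟨hg0, ?_⟩
    set w := (gm v)⁻¹ • v with hw
    have hwn : ‖w‖ = M⁻¹ := by
      rw [hw, norm_smul, Real.norm_eq_abs, abs_of_pos (inv_pos.mpr hg0), hgv, mul_inv, mul_assoc,
        inv_mul_cancel₀ hn.ne', mul_one]
    have hwf : 0 ≤ fm w := hfs _ _ (inv_nonneg.mpr hg0.le) hvf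
    have hwg : 1 ≤ gm w := (by rw [hw, hhom' _ _ (inv_pos.mpr hg0), inv_mul_cancel₀ hg0.ne'] : gm w = 1).ge
    have hm := hmin ((2 : ℝ)⁻¹ • (w + vs)) (hfs _ _ (by norm_num) (by
        rw [hfc] at hwf hvsf ⊢
        intro f hf; rw [map_add]; exact add_nonneg (hwf f hf) (hvsf f hf)))
      ((hgc _ 1).mpr fun g hg => by
        rw [map_smul, map_add, smul_eq_mul]
        have h1 := (hgc w 1).mp hwg g hg
        have h2 := (hgc vs 1).mp hvsg.ge g hg
        linarith)
    rw [norm_smul, Real.norm_eq_abs, abs_of_pos (by norm_num : (0 : ℝ) < 2⁻¹), hvsn] at hm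
    have hpar := parallelogram_law_with_norm ℝ w vs
    rw [hwn, hvsn] at hpar
    have hsq : (2 * M⁻¹) * (2 * M⁻¹) ≤ ‖w + vs‖ * ‖w + vs‖ :=
      mul_self_le_mul_self (mul_nonneg zero_le_two (inv_nonneg.mpr hMpos.le)) (by linarith)
    have : ‖w - vs‖ * ‖w - vs‖ ≤ 0 := by linarith
    have hwv : w = vs := sub_eq_zero.mp (norm_eq_zero.mp (mul_self_eq_zero.mp
      (le_antisymm this (mul_self_nonneg _))))
    rw [← hwv, hw, smul_inv_smul₀ hg0.ne']
  -- rationality of `vs`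
  let J := {f // f ∈ F ∧ f vs = 0} ⊕ {g // g ∈ G ∧ g vs = 1}
  haveI : Finite {f // f ∈ F ∧ f vs = 0} := Finite.of_injective (fun f => (⟨f.1, f.2.1⟩ : F)) (fun a b h => Subtype.ext (congrArg (fun x : F => x.1) h))
  haveI : Finite {g // g ∈ G ∧ g vs = 1} := Finite.of_injective (fun f => (⟨f.1, f.2.1⟩ : G)) (fun a b h => Subtype.ext (congrArg (fun x : G => x.1) h))
  haveI : Finite J := inferInstanceAs (Finite (_ ⊕ _))
  haveI := Fintype.ofFinite J
  let c : J → Module.Dual ℝ E := Sum.elim (fun f => f.1) (fun g => g.1)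
  have hperp : ∀ d, (∀ j, c j d = 0) → inner ℝ vs d = 0 := by
    intro d hd
    by_contra ha
    set a := inner ℝ vs d with hadef
    have hev : ∀ᶠ t in nhds (0 : ℝ), 0 ≤ fm (vs + t • d) ∧ 1 ≤ gm (vs + t • d) := by
      refine Filter.Eventually.and ?_ ?_
      · simp only [hfc]
        rw [Finset.eventually_all]
        intro f hf
        by_cases h0 : f vs = 0
        · refine Filter.Eventually.of_forall fun t => ?_
          rw [map_add, map_smul, h0, show f d = 0 from hd (Sum.inl ⟨f, hf, h0⟩), smul_zero, add_zero]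
        · have hpos : 0 < f vs := lt_of_le_of_ne ((hfc vs).mp hvsf f hf) (Ne.symm h0)
          have hc : Continuous fun t : ℝ => f vs + t * f d := by fun_prop
          filter_upwards [(hc.tendsto 0).eventually (lt_mem_nhds (show (0:ℝ) < f vs + 0 * f d by simpa using hpos))] with t ht
          rw [map_add, map_smul, smul_eq_mul]; exact ht.le
      · simp only [hgc]
        rw [Finset.eventually_all]
        intro g hg
        by_cases h0 : g vs = 1
        · refine Filter.Eventually.of_forall fun t => ?_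
          rw [map_add, map_smul, h0, show g d = 0 from hd (Sum.inr ⟨g, hg, h0⟩), smul_zero, add_zero]
        · have hpos : 1 < g vs := lt_of_le_of_ne ((hgc vs 1).mp hvsg.ge g hg) (Ne.symm h0)
          have hc : Continuous fun t : ℝ => g vs + t * g d := by fun_prop
          filter_upwards [(hc.tendsto 0).eventually (lt_mem_nhds (show (1:ℝ) < g vs + 0 * g d by simpa using hpos))] with t ht
          rw [map_add, map_smul, smul_eq_mul]; exact ht.le
    have hc : Continuous fun s : ℝ => -(s * a) := by fun_prop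
    have h1 : ∀ᶠ s in nhds (0 : ℝ), 0 ≤ fm (vs + (-(s * a)) • d) ∧ 1 ≤ gm (vs + (-(s * a)) • d) :=
      (hc.tendsto' 0 0 (by simp)).eventually hev
    have hc2 : Continuous fun s : ℝ => s * ‖d‖ * ‖d‖ := by fun_prop
    have h2 : ∀ᶠ s in nhds (0 : ℝ), s * ‖d‖ * ‖d‖ < 2 :=
      (hc2.tendsto' 0 0 (by simp)).eventually (gt_mem_nhds two_pos)
    have h0 : ∀ᶠ s in nhdsWithin (0 : ℝ) (Set.Ioi 0), s ∈ Set.Ioi (0 : ℝ) := self_mem_nhdsWithin
    obtain ⟨s, hs0, ⟨hs1, hs1'⟩, hs2⟩ :=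
      (h0.and ((h1.and h2).filter_mono nhdsWithin_le_nhds)).exists
    have hn := hmin _ hs1 hs1'
    have hsq := mul_self_le_mul_self (norm_nonneg vs) hn
    rw [norm_add_mul_self_real, inner_smul_right, norm_smul, Real.norm_eq_abs, ← hadef,
      show |-(s * a)| * ‖d‖ * (|-(s * a)| * ‖d‖) = (|-(s * a)| * |-(s * a)|) * ‖d‖ * ‖d‖ by ring,
      abs_mul_abs_self] at hsq
    have ha2 : 0 < a * a := mul_self_pos.mpr ha
    nlinarith [mul_pos (Set.mem_Ioi.mp hs0) ha2]
  obtain ⟨lam, hlam⟩ : ∃ lam : J → ℝ, ∀ d, inner ℝ vs d = ∑ j, lam j * c j d := by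
    have h := mem_span_of_iInf_ker_le_ker (L := c) (K := (innerₛₗ ℝ vs : E →ₗ[ℝ] ℝ)) fun d hd => by
      simp only [Submodule.mem_iInf, LinearMap.mem_ker] at hd
      exact hperp d hd
    obtain ⟨lam, hlam⟩ := (Submodule.mem_span_range_iff_exists_fun ℝ).mp h
    refine ⟨lam, fun d => ?_⟩
    have := LinearMap.congr_fun hlam d
    simp only [LinearMap.sum_apply, LinearMap.smul_apply, smul_eq_mul] at this
    exact this.symm
  haveI := ZLattice.module_finite ℝ L
  haveI := ZLattice.module_free ℝ L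
  let bL := Module.Free.chooseBasis ℤ L
  let b := bL.ofZLatticeBasis ℝ L
  have hbL : ∀ i, b i ∈ L := fun i => by rw [Module.Basis.ofZLatticeBasis_apply]; exact (bL i).2
  obtain ⟨π, hπ⟩ := LinearMap.exists_leftInverse_of_injective (Algebra.linearMap ℚ ℝ)
    (LinearMap.ker_eq_bot.mpr (algebraMap ℚ ℝ).injective)
  have hπq : ∀ q : ℚ, π (q : ℝ) = q := fun q => by simpa using LinearMap.congr_fun hπ q
  have hπn : ∀ (n : ℤ) (x : ℝ), π (x * (n : ℝ)) = π x * (n : ℚ) := fun n x => by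
    rw [mul_comm, ← zsmul_eq_mul, map_zsmul, zsmul_eq_mul, mul_comm]
  choose Gr hGr using fun i k => hint (b i) (hbL i) (b k) (hbL k)
  have hcI : ∀ (j : J) i, ∃ n : ℤ, c j (b i) = n := by
    rintro (⟨f, hf, -⟩ | ⟨g, hg, -⟩) i
    · exact hFi f hf _ (hbL i)
    · exact hGi g hg _ (hbL i)
  choose N hN using hcI
  have hrhs : ∀ j : J, ∃ n : ℤ, c j vs = n := by
    rintro (⟨f, hf, h0⟩ | ⟨g, hg, h1⟩)
    · exact ⟨0, by simpa [c] using h0⟩
    · exact ⟨1, by simpa [c] using h1⟩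
  choose R hR using hrhs
  set q : Module.Free.ChooseBasisIndex ℤ L → ℚ := fun i => π (b.repr vs i) with hq
  set w : E := ∑ i, (q i : ℝ) • b i with hw
  have hcw : ∀ j, c j w = c j vs := by
    intro j
    have h1 : c j vs = ∑ i, b.repr vs i * (N j i : ℝ) := by
      conv_lhs => rw [← b.sum_repr vs]
      simp only [map_sum, map_smul, smul_eq_mul, hN]
    have h2 := congrArg π ((hR j).symm.trans h1)
    rw [map_sum, ← Rat.cast_intCast, hπq] at h2
    simp only [hπn] at h2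
    rw [hR j, hw, map_sum]
    simp only [map_smul, smul_eq_mul, hN]
    rw [← Rat.cast_intCast (R j), h2]
    push_cast
    rfl
  have hiw : ∀ d, inner ℝ w d = ∑ j, (π (lam j) : ℝ) * c j d := by
    intro d
    suffices h : (innerₛₗ ℝ w : E →ₗ[ℝ] ℝ) = ∑ j, (π (lam j) : ℝ) • c j by
      simpa using LinearMap.congr_fun h d
    refine b.ext fun k => ?_
    have h1 : ∑ i, b.repr vs i * (Gr i k : ℝ) = ∑ j, lam j * (N j k : ℝ) := by
      have := hlam (b k)
      conv_lhs at this => rw [← b.sum_repr vs]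
      simp only [sum_inner, inner_smul_left, hGr, hN, RCLike.conj_to_real] at this
      exact this
    have h2 := congrArg π h1
    simp only [map_sum, hπn] at h2
    simp only [innerₛₗ_apply_apply, LinearMap.sum_apply, LinearMap.smul_apply, smul_eq_mul, hN, hw, sum_inner,
      inner_smul_left, hGr, RCLike.conj_to_real]
    exact_mod_cast congrArg (fun x : ℚ => (x : ℝ)) h2
  have hwvs : w = vs := by
    rw [← sub_eq_zero, ← inner_self_eq_zero (𝕜 := ℝ), inner_sub_left, hiw, hlam, ← Finset.sum_sub_distrib]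
    refine Finset.sum_eq_zero fun j _ => ?_
    rw [map_sub, hcw, sub_self, mul_zero, mul_zero, sub_zero]
  -- a positive multiple in the lattice
  have hrepr : ∀ i, b.repr vs i = (q i : ℝ) := fun i => by
    conv_lhs => rw [← hwvs, hw]
    rw [map_sum, Finset.sum_apply']
    simp [Finsupp.single_apply]
  obtain ⟨i₀, hi₀⟩ : ∃ i, b.repr vs i ≠ 0 := by
    by_contra h
    push Not at h
    exact hvs0 (b.repr.injective (Finsupp.ext fun i => by simpa using h i))
  have hint' : ∀ x ∈ L, ∀ i, ∃ n : ℤ, b.repr x i = n := fun x hx i =>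
    ⟨bL.repr ⟨x, hx⟩ i, Module.Basis.ofZLatticeBasis_repr_apply ℝ L bL ⟨x, hx⟩ i⟩
  let den : ℕ := ∏ i, (q i).den
  have hden : 0 < den := Finset.prod_pos fun i _ => (q i).den_pos
  have hdenL : (den : ℝ) • vs ∈ L := by
    rw [← hwvs, hw, Finset.smul_sum]
    refine sum_mem fun i _ => ?_
    obtain ⟨m, hm⟩ := Finset.dvd_prod_of_mem (fun i => (q i).den) (Finset.mem_univ i)
    have hcast : ((den : ℝ) * (q i : ℝ)) = (((m : ℤ) * (q i).num : ℤ) : ℝ) := by
      have h : ((den : ℚ) * q i) = (((m : ℤ) * (q i).num : ℤ) : ℚ) := by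
        rw [show den = (q i).den * m from hm]
        push_cast
        rw [← Rat.mul_den_eq_num]
        ring
      exact_mod_cast congrArg (fun x : ℚ => (x : ℝ)) h
    rw [smul_smul, hcast, Int.cast_smul_eq_zsmul]
    exact L.smul_mem _ (hbL i)
  -- the primitive one
  have hPL : ∃ k : ℕ, ∃ t : ℝ, 0 < t ∧ t • vs ∈ L ∧ |t * b.repr vs i₀| = (k : ℝ) := by
    obtain ⟨n, hn⟩ := hint' _ hdenL i₀
    refine ⟨n.natAbs, den, Nat.cast_pos.mpr hden, hdenL, ?_⟩
    rw [show (den : ℝ) * b.repr vs i₀ = (n : ℝ) by rw [← hn, map_smul, Finsupp.smul_apply, smul_eq_mul],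
      Nat.cast_natAbs, Int.cast_abs]
  obtain ⟨t, ht0, htL, htk⟩ := Nat.find_spec hPL
  have hgen : ∀ s : ℝ, s • vs ∈ L → ∃ m : ℤ, s = m * t := by
    intro s hs
    refine ⟨⌊s / t⌋, ?_⟩
    set r := s - ⌊s / t⌋ * t with hr
    have hr0 : 0 ≤ r := by
      have := Int.floor_le (s / t)
      rw [le_div_iff₀ ht0] at this
      linarith
    have hr1 : r < t := by
      have := Int.lt_floor_add_one (s / t)
      rw [div_lt_iff₀ ht0] at this
      linarith
    by_contra hne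
    have hrpos : 0 < r := lt_of_le_of_ne hr0 fun h => hne (by linarith)
    have hrL : r • vs ∈ L := by
      rw [hr, sub_smul, mul_smul, Int.cast_smul_eq_zsmul]
      exact sub_mem hs (L.smul_mem _ htL)
    obtain ⟨n, hn⟩ := hint' _ hrL i₀
    rw [map_smul, Finsupp.smul_apply, smul_eq_mul] at hn
    have hlt : (n.natAbs : ℝ) < (Nat.find hPL : ℝ) := by
      rw [← htk, Nat.cast_natAbs, Int.cast_abs, ← hn, abs_mul, abs_mul, abs_of_pos hrpos, abs_of_pos ht0]
      exact mul_lt_mul_of_pos_right hr1 (abs_pos.mpr hi₀)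
    exact Nat.find_min hPL (Nat.cast_lt.mp hlt) ⟨r, hrpos, hrL, by rw [hn, Nat.cast_natAbs, Int.cast_abs]⟩
  refine ⟨M, ⟨⟨u, ⟨fun h => by rw [h, norm_zero] at hun; exact zero_ne_one hun, hu2⟩, by
    show gm u / ‖u‖ = M; rw [hun, div_one]⟩, ?_⟩, t • vs, ⟨htL, smul_ne_zero ht0.ne' hvs0,
    hfs _ _ ht0.le hvsf, ?_, ?_⟩, ?_⟩
  · rintro _ ⟨v, ⟨hv, hvf⟩, rfl⟩
    exact hle v hv hvf
  · show gm _ / _ = M
    rw [hhom' _ _ ht0, hvsg, norm_smul, hvsn, Real.norm_eq_abs, abs_of_pos ht0, mul_one]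
    field_simp
  · intro v hvL hv hvf hvM
    obtain ⟨-, hveq⟩ := hray v hv hvf hvM
    obtain ⟨m, hm⟩ := hgen _ (hveq ▸ hvL)
    exact ⟨m, by rw [hveq, hm, mul_smul, Int.cast_smul_eq_zsmul]⟩
  · rintro v ⟨hvL, hv, hvf, hvM, hvgen⟩
    obtain ⟨hg0, hveq⟩ := hray v hv hvf hvM
    obtain ⟨m, hm⟩ := hgen _ (hveq ▸ hvL)
    obtain ⟨n, hn⟩ := hvgen (t • vs) htL (smul_ne_zero ht0.ne' hvs0) (hfs _ _ ht0.le hvsf) (by
      show gm _ / _ = M
      rw [hhom' _ _ ht0, hvsg, norm_smul, hvsn, Real.norm_eq_abs, abs_of_pos ht0, mul_one]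
      field_simp)
    have hmn : t = (n : ℝ) * ((m : ℝ) * t) := by
      rw [hveq, hm, ← Int.cast_smul_eq_zsmul ℝ, smul_smul] at hn
      exact smul_left_injective ℝ hvs0 hn
    have h1 : ((n * m : ℤ) : ℝ) = 1 := by
      push_cast
      exact mul_right_cancel₀ ht0.ne' (by rw [one_mul, mul_assoc]; exact hmn.symm)
    have hmpos : 0 < m := by
      have := hm ▸ hg0
      have := pos_of_mul_pos_left this ht0.le
      exact_mod_cast this
    have hm1 : m = 1 := Int.eq_one_of_dvd_one hmpos.le ⟨n, by rw [mul_comm]; exact_mod_cast h1.symm⟩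
    rw [hveq, hm, hm1, Int.cast_one, one_mul]

end Groth.Agent.S17517
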