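import Groth.Statements.S17518
import Groth.Agent.FTDesc.Proper
import Groth.Agent.FlatBlowUp.Refine
import Groth.Agent.SubtrLib.ValLift
import Groth.Agent.S5938

set_option autoImplicit false
set_option backward.isDefEq.respectTransparency false
set_option backward.isDefEq.respectTransparency.types false
universe u
open CategoryTheory AlgebraicGeometry
open HTop

namespace Groth.Agent.S17518

/-- Let `f : X' ⟶ X` be a universally submersive morphism of Noetherian schemes (every base change of
`f` is a quotient map of topological spaces) and `g : X ⟶ Y` a morphism to a Noetherian scheme. If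
`f ≫ g` is locally of finite type, then `g` is locally of finite type. (Both morphisms are then of
finite type, their sources being Noetherian.) -/
theorem result
    {X' X Y : Scheme.{u}} [IsNoetherian X'] [IsNoetherian X] [IsNoetherian Y]
    (f : X' ⟶ X) (hf : SGA1.UnivSubmersive f) (g : X ⟶ Y)
    [LocallyOfFiniteType (f ≫ g)] : LocallyOfFiniteType g := by
  rw [HasRingHomProperty.iff_appLE (P := @LocallyOfFiniteType)]
  rintro ⟨V, hV⟩ ⟨U, hU⟩ hle
  simp only at hle ⊢
  haveI : IsNoetherianRing Γ(X, U) := IsLocallyNoetherian.component_noetherian ⟨U, hU⟩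
  haveI : IsNoetherianRing Γ(Y, V) := IsLocallyNoetherian.component_noetherian ⟨V, hV⟩
  letI := (g.appLE V U hle).hom.toAlgebra
  haveI : IsNoetherian (Spec Γ(X, U)) := inferInstance
  haveI : IsAffine U := hU
  let f'' := (f ∣_ U) ≫ hU.isoSpec.hom
  have hf'' : SGA1.UnivSubmersive f'' := by
    haveI : SGA1.UnivSubmersive.{u}.IsStableUnderBaseChange := MorphismProperty.universally_isStableUnderBaseChange _
    exact MorphismProperty.RespectsIso.postcomp _ _ _ (MorphismProperty.of_isPullback (isPullback_morphismRestrict f U).flip hf)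
  let e := Spec.map (CommRingCat.ofHom (algebraMap Γ(Y, V) Γ(X, U)))
  have he : e ≫ hV.fromSpec = hU.fromSpec ≫ g := IsAffineOpen.SpecMap_appLE_fromSpec g hV hU hle
  haveI : LocallyOfFiniteType ((f'' ≫ e) ≫ hV.fromSpec) := by
    rw [Category.assoc, he]
    simp only [f'', Category.assoc, hU.isoSpec_hom_fromSpec_assoc]
    rw [morphismRestrict_ι_assoc]
    infer_instance
  haveI : LocallyOfFiniteType (f'' ≫ e) := locallyOfFiniteType_of_comp _ hV.fromSpec
  haveI : LocallyOfFiniteType f'' := locallyOfFiniteType_of_comp _ e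
  haveI : LocallyOfFinitePresentation f'' := Groth.Agent.AbsApprox.lfp_of_lft_noetherian f''
  haveI : CompactSpace ↥(f ⁻¹ᵁ U) := isCompact_iff_compactSpace.1 (TopologicalSpace.NoetherianSpace.isCompact _)
  haveI : IsLocallyNoetherian ↑(f ⁻¹ᵁ U) := inferInstance
  haveI : QuasiSeparatedSpace ↥(f ⁻¹ᵁ U).toScheme := inferInstance
  haveI : QuasiCompact f'' := QuasiCompact.of_comp f'' (Limits.terminal.from _)
  haveI : QuasiSeparated f'' := inferInstance
  have hs := Groth.Agent.SubtrLib.univSSubtrusive_of_univSubmersive f'' hf''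
  obtain ⟨Z, q, X'', r, hq, hqs, -, hr, -, hfl, hsur, hlfp, -, -⟩ :=
    Groth.Agent.FlatBlowUp.exists_refinement_of_noetherian f'' hs
  haveI := hq
  haveI := hqs
  haveI := hr
  haveI := hfl
  haveI := hsur
  haveI := hlfp
  haveI : LocallyOfFiniteType ((r ≫ Limits.pullback.snd f'' q) ≫ q ≫ e) := by
    rw [Category.assoc, ← Limits.pullback.condition_assoc]
    infer_instance
  haveI : LocallyOfFiniteType (q ≫ e) := Groth.Agent.S5938.result (r ≫ Limits.pullback.snd f'' q) (q ≫ e)
  exact RingHom.finiteType_algebraMap.2 (Groth.Agent.FTDesc.finiteType_of_isProper q)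

end Groth.Agent.S17518
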