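import Groth.Statements.S1752
import Groth.Agent.DCohShriek.DualModule
import Groth.Agent.FibVan.Main
import Groth.Agent.DQPush.Basic
-- import your own Groth.Agent.* helpers here

set_option autoImplicit false
set_option backward.isDefEq.respectTransparency false
set_option backward.isDefEq.respectTransparency.types false
set_option maxHeartbeats 1000000
universe u
open CategoryTheory AlgebraicGeometry
open Dual

open CategoryTheory.Limits
attribute [local instance] HasDerivedCategory.standard

namespace Groth.Agent.S1752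

/-- For X proper over a field k with dim X = d, there exist a coherent O_X-module ω (the dualizing
module) and a k-linear map t : H^d(X, ω) → k such that for every quasi-coherent O_X-module F and
every k-linear form ψ on H^d(X, F) there is exactly one map φ : F → ω with ψ = t ∘ H^d(φ). In other
words ω represents F ↦ Hom_k(H^d(X, F), k). -/
theorem result (k : Type u) [Field k] (X : Scheme.{u}) [X.Over (Spec (CommRingCat.of k))] [IsProper (X ↘ Spec (CommRingCat.of k))] (d : ℕ) (hd : topologicalKrullDim X = d) : ∃ (ω : X.Modules) (t : Coh.HH X ω d →ₗ[k] k), Coh.IsCoh ω ∧ ∀ (F : X.Modules), Coh.IsQCoh F → ∀ ψ : Coh.HH X F d →ₗ[k] k, ∃! φ : F ⟶ ω, ∀ x : Coh.HH X F d, ψ x = t (Sheaf.H.map ((SheafOfModules.toSheaf X.ringCatSheaf).map φ) d x) := by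
  let f := X ↘ Spec (CommRingCat.of k)
  haveI : DCoh.HasRpush f := Groth.Agent.DerPush.hasRpush_sch f
  haveI := Groth.Agent.DCohShriek.isNoetherian_of_proper f
  haveI : QuasiCompact f := quasiCompact_of_compactSpace f
  haveI : QuasiSeparated f := inferInstance
  have hf : DCoh.RpushPreservesQCoh f := fun E hE => Groth.Agent.DQPush.isQCohD_rpush f hE
  haveI : (DCoh.RpushQ f hf).IsLeftAdjoint := Groth.Agent.DCohShriek.isLeftAdjoint_rpushQ f hf
  let a := (DCoh.RpushQ f hf).rightAdjoint
  let adj : DCoh.RpushQ f hf ⊣ a := Adjunction.ofIsLeftAdjoint _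
  let ω : Dual.D k := Groth.Agent.DCohShriek.unitD k
  let W := (Groth.Agent.DCohShriek.tildeQ k).obj ω
  have hW : ∀ i, Coh.IsCoh (DCoh.HD W.obj i) := by
    intro i
    refine Groth.Agent.DCohShriek.isCoh_iso (Groth.Agent.DQCoh.hdTildeIso (R := CommRingCat.of k) ω i).symm
      ⟨Groth.Agent.QC.isQCoh_tilde (R := CommRingCat.of k) _, ?_⟩
    refine (Groth.Agent.H4Easy.isFT_tilde_iff (CommRingCat.of k) _).2 ?_
    by_cases hi : i = 0
    · subst hi
      exact Module.Finite.equiv (R := k) (M := k) (((DerivedCategory.singleFunctorCompHomologyFunctorIso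
        (ModuleCat.{u} k) 0).app (ModuleCat.of k k)).symm.toLinearEquiv)
    · haveI : Subsingleton ((DerivedCategory.homologyFunctor (ModuleCat.{u} k) i).obj ω) :=
        ModuleCat.subsingleton_of_isZero (by
          rcases lt_or_gt_of_ne hi with h | h
          · exact DerivedCategory.isZero_of_isGE ω 0 i h
          · exact DerivedCategory.isZero_of_isLE ω 0 i h)
      exact Module.Finite.of_finite
  have hW0 : ∀ i, i < (0 : ℤ) → IsZero (DCoh.HD W.obj i) := fun i hi =>
    ((tilde.functor (CommRingCat.of k)).map_isZero (DerivedCategory.isZero_of_isGE ω 0 i hi)).of_iso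
      (Groth.Agent.DQCoh.hdTildeIso (R := CommRingCat.of k) ω i)
  have hdim : topologicalKrullDim ↥(f.fiber (IsLocalRing.closedPoint k)) ≤ d := by
    have hu : f ⁻¹' {IsLocalRing.closedPoint k} = Set.univ :=
      Set.eq_univ_of_forall fun x => Subsingleton.elim (α := PrimeSpectrum k) _ _
    rw [IsHomeomorph.topologicalKrullDim_eq _ (f.fiberHomeo (IsLocalRing.closedPoint k)).isHomeomorph,
      IsHomeomorph.topologicalKrullDim_eq _ ((Homeomorph.setCongr hu).trans (Homeomorph.Set.univ X)).isHomeomorph]
    exact hd.le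
  have hvan : ∀ (F : X.Modules), Coh.IsQCoh F → ∀ p : ℕ, d < p → Subsingleton (Coh.HH X F p) := fun F hF p hp => by
    haveI : F.IsQuasicoherent := hF
    exact Groth.Agent.FibVan.subsingleton_hh d hdim F p hp
  let e : Dual.HD k ω 0 ≃ₗ[k] k :=
    ((DerivedCategory.singleFunctorCompHomologyFunctorIso (ModuleCat.{u} k) 0).app (ModuleCat.of k k)).toLinearEquiv
  have hcoh := Groth.Agent.DCohShriek.coh_adjoint f adj W hW 0 hW0 (-(d : ℤ))
  obtain ⟨t, ht⟩ := Groth.Agent.DCohShriek.exists_trace adj d hvan ω hcoh.1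
  refine ⟨_, e.toLinearMap.comp t, hcoh, fun F hF ψ => ?_⟩
  obtain ⟨φ, hφ, huniq⟩ := ht F hF (e.symm.toLinearMap.comp ψ)
  exact ⟨φ, fun x => (e.apply_symm_apply (ψ x)).symm.trans (congrArg e (hφ x)),
    fun φ' hφ' => huniq φ' fun x => (congrArg e.symm (hφ' x)).trans (e.symm_apply_apply _)⟩

end Groth.Agent.S1752
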