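import Groth.Statements.S17520
import Groth.Agent.RelGen.UnitBCUp
import Groth.Agent.RelGen.UnitLocal
import Groth.Agent.RelGen.CohBase

set_option autoImplicit false
set_option backward.isDefEq.respectTransparency false
set_option backward.isDefEq.respectTransparency.types false
universe u
open CategoryTheory AlgebraicGeometry
open StMod

namespace Groth.Agent.S17520

/-- Let `S` be a quasi-separated scheme, `𝒳` an algebraic stack over `(Sch/S)` for the fppf topology,
`M` and `M'` algebraic spaces over `S` that are quasi-separated over `S`, `g : M' ⟶ M` a morphism of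
algebraic spaces over `S`, `π : 𝒳 ⟶ M` a quasi-compact and quasi-separated morphism over `S`, and
`π' : 𝒳 ×_M M' ⟶ M'` its base change (first projection of the 2-fibre product), the 2-fibre product
being assumed algebraic. If `π` is a good moduli space then so is `π'`, and `π'` is again
quasi-compact and quasi-separated. Here a good moduli space is a morphism to an algebraic space
along which pushforward takes surjections of quasi-coherent modules to maps surjective on sections
over every affine scheme etale over the target, and for which the canonical map from the functions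
on any scheme etale over the target to the sections of the pushforward of the structure sheaf is
bijective; cohomologically affine means the first of these two conditions. (The published statement
asks the algebraic spaces to be quasi-separated; the row takes them quasi-separated over a
quasi-separated base scheme `S`.) -/
theorem result
    (S : Scheme.{u}) [QuasiSeparatedSpace S]
    (𝒳 : AlgSt.Cat S) (h𝒳 : AlgSt.IsAlgStack Scheme.fppfPrecoverage 𝒳)
    (M M' : AlgSp.Space S) (hM : AlgSp.IsQuasiSeparatedSp M.obj) (hM' : AlgSp.IsQuasiSeparatedSp M'.obj)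
    (g : M'.obj ⟶ M.obj) (π : 𝒳 ⥤ᵇ AlgSt.ofSp M.obj)
    (hqc : AlgSt.IsQuasiCompactMor Scheme.fppfPrecoverage π) (hqs : AlgSt.IsQuasiSeparatedMor π)
    (h𝒳' : AlgSt.IsAlgStack Scheme.fppfPrecoverage (FibCat.fp (AlgSt.ofSpMap g) π))
    (h : StMod.IsGoodModuli π) :
    StMod.IsGoodModuli (FibCat.fpFst (AlgSt.ofSpMap g) π) ∧
      AlgSt.IsQuasiCompactMor Scheme.fppfPrecoverage (FibCat.fpFst (AlgSt.ofSpMap g) π) ∧
      AlgSt.IsQuasiSeparatedMor (FibCat.fpFst (AlgSt.ofSpMap g) π) := by
  have hMs := Groth.Agent.AlgStLib.isAlgStack_ofSp M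
  have hMs' := Groth.Agent.AlgStLib.isAlgStack_ofSp M'
  have hqc' := Groth.Agent.AlgStLib.isQuasiCompactMor_fpFst h𝒳 hMs hMs' (AlgSt.ofSpMap g) hqc
  have hqs' : AlgSt.IsQuasiSeparatedMor (FibCat.fpFst (AlgSt.ofSpMap g) π) :=
    Groth.Agent.AlgStLib.repWith_diag_fpFst π (AlgSt.ofSpMap g) hqs
  refine ⟨⟨Groth.Agent.RelGen.isCohAffine_fpFst h𝒳 g π hqc hqs
      (fun E hE => Groth.Agent.RelGen.goodChartObj_of_qsSp hM E hE) h.1,
    Groth.Agent.RelGen.unitIsIso_of_affine _ h𝒳'.isStack.1 fun E hE => ?_⟩, hqc', hqs'⟩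
  haveI : IsAffine (StMod.sch (AlgSt.ofSp M'.obj) (StMod.etaOf E)) := hE
  refine Groth.Agent.RelGen.unitBij_of_hits
    (Groth.Agent.RelGen.fibData_of_qcqs h𝒳' hMs' _ hqc' hqs') fun t => ?_
  obtain ⟨E₀, O, f, k, hE₀, hO, hf, ht, hOf, hOk⟩ := Groth.Agent.RelGen.exists_chart_below g E t
  let c : StMod.etaOf O ⟶ StMod.etaOf E := Groth.Agent.RelGen.eltHom f (by
    rw [Groth.Agent.RelGen.toYon_etaOf, Groth.Agent.RelGen.toYon_etaOf, hOf])
  let ψ : (AlgSt.ofSpMap g).obj (StMod.etaOf O) ⟶ StMod.etaOf E₀ := Groth.Agent.RelGen.eltHom k (by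
    rw [Groth.Agent.RelGen.toYon_etaOf, Groth.Agent.RelGen.toYon_ofSpMap, Groth.Agent.RelGen.toYon_etaOf, hOk])
  haveI : IsAffine (StMod.sch (AlgSt.ofSp M.obj) (StMod.etaOf E₀)) := hE₀
  haveI : IsAffine (StMod.sch (AlgSt.ofSp M.obj) ((AlgSt.ofSpMap g).obj (StMod.etaOf O))) := hO
  exact ⟨StMod.etaOf O, c, hO, hf, ht, Groth.Agent.RelGen.unitBij_fpFst hMs.isStack.1 hMs'.isStack.1
    (Groth.Agent.RelGen.unitBij_affine h𝒳 hMs (Groth.Agent.RelGen.fibData_of_qcqs h𝒳 hMs π hqc hqs) ψ
      (Groth.Agent.RelGen.gExact_fib_of_isCohAffine h𝒳 π h.1 E₀ hE₀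
        (Groth.Agent.RelGen.goodChartObj_of_qsSp hM E₀ hE₀)) (h.2 E₀))⟩

end Groth.Agent.S17520
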