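import Groth.Statements.S17521
import Groth.Agent.RelGen.UnitDesc
import Groth.Agent.RelGen.UnitLocal
import Groth.Agent.RelGen.CohBase

set_option autoImplicit false
set_option backward.isDefEq.respectTransparency false
set_option backward.isDefEq.respectTransparency.types false
universe u
open CategoryTheory AlgebraicGeometry
open StMod

namespace Groth.Agent.S17521

/-- Let `S` be a quasi-separated scheme, `𝒳` an algebraic stack over `(Sch/S)` for the fppf topology,
`M` and `M'` algebraic spaces over `S` that are quasi-separated over `S`, `g : M' ⟶ M` a morphism of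
algebraic spaces over `S`, `π : 𝒳 ⟶ M` a quasi-compact and quasi-separated morphism over `S`, and
`π' : 𝒳 ×_M M' ⟶ M'` its base change (first projection of the 2-fibre product), the 2-fibre product
being assumed algebraic. Suppose `g` is faithfully flat: flat (on etale charts) and surjective on
points. If `π'` is a good moduli space, then `π` is a good moduli space. Here a good moduli space is
a morphism to an algebraic space along which pushforward takes surjections of quasi-coherent modules
to maps surjective on sections over every affine scheme etale over the target, and for which the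
canonical map from the functions on any scheme etale over the target to the sections of the
pushforward of the structure sheaf is bijective; cohomologically affine means the first of these two
conditions. (The published statement asks the algebraic spaces to be quasi-separated; the row takes
them quasi-separated over a quasi-separated base scheme `S`. Quasi-compactness and
quasi-separatedness of `π` are assumed here rather than concluded: along a flat surjective `g` that
is not quasi-compact these two properties do not descend, while exactness of pushforward and the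
bijectivity on functions do.) -/
theorem result
    (S : Scheme.{u}) [QuasiSeparatedSpace S]
    (𝒳 : AlgSt.Cat S) (h𝒳 : AlgSt.IsAlgStack Scheme.fppfPrecoverage 𝒳)
    (M M' : AlgSp.Space S) (hM : AlgSp.IsQuasiSeparatedSp M.obj) (hM' : AlgSp.IsQuasiSeparatedSp M'.obj)
    (g : M'.obj ⟶ M.obj) (hgf : AlgSp.LocP @Flat g) (hgs : AlgSp.IsSurjectiveMor g)
    (π : 𝒳 ⥤ᵇ AlgSt.ofSp M.obj)
    (hqc : AlgSt.IsQuasiCompactMor Scheme.fppfPrecoverage π) (hqs : AlgSt.IsQuasiSeparatedMor π)
    (h𝒳' : AlgSt.IsAlgStack Scheme.fppfPrecoverage (FibCat.fp (AlgSt.ofSpMap g) π))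
    (hqc' : AlgSt.IsQuasiCompactMor Scheme.fppfPrecoverage (FibCat.fpFst (AlgSt.ofSpMap g) π))
    (hqs' : AlgSt.IsQuasiSeparatedMor (FibCat.fpFst (AlgSt.ofSpMap g) π))
    (h' : StMod.IsGoodModuli (FibCat.fpFst (AlgSt.ofSpMap g) π)) :
    StMod.IsGoodModuli π := by
  refine ⟨Groth.Agent.RelGen.isCohAffine_of_bc h𝒳 g hgf hgs π hqc hqs h'.1,
    Groth.Agent.RelGen.unitIsIso_of_affine π h𝒳.isStack.1 fun E hE => ?_⟩
  have hMs := Groth.Agent.AlgStLib.isAlgStack_ofSp M
  haveI : IsAffine (StMod.sch (AlgSt.ofSp M.obj) (StMod.etaOf E)) := hE
  refine Groth.Agent.RelGen.unitBij_of_hits (Groth.Agent.RelGen.fibData_of_qcqs h𝒳 hMs π hqc hqs) fun t => ?_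
  obtain ⟨E', k, hE', hfl, ht, hcomm⟩ := Groth.Agent.RelGen.exists_chart_hit g hgf hgs E t
  let φ : (AlgSt.ofSpMap g).obj (StMod.etaOf E') ⟶ StMod.etaOf E := Groth.Agent.RelGen.eltHom k (by
    rw [Groth.Agent.RelGen.toYon_etaOf, Groth.Agent.RelGen.toYon_ofSpMap, Groth.Agent.RelGen.toYon_etaOf, hcomm])
  exact ⟨_, φ, hE', hfl, ht, Groth.Agent.RelGen.unitBij_of_bc hMs.isStack.1
    (Groth.Agent.AlgStLib.isAlgStack_ofSp M').isStack.1 (h'.2 E')⟩

end Groth.Agent.S17521
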