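import Groth.Statements.S1753
import Groth.Agent.Lich.Compact

set_option autoImplicit false
universe u
open CategoryTheory AlgebraicGeometry
open Dual

set_option backward.isDefEq.respectTransparency false
set_option backward.isDefEq.respectTransparency.types false

open Groth.Agent

namespace Groth.Agent.S1753

/-- Let U be a variety over a field k (integral, separated and of finite type over k) and F a coherent
O_U-module with H^d(U, F) ≠ 0. Then dim U ≥ d, and if dim U = d then U is proper over k. -/
theorem result (k : Type u) [Field k] (U : Scheme.{u}) (f : U ⟶ Spec (CommRingCat.of k)) [IsIntegral U] [IsSeparated f] [LocallyOfFiniteType f] [QuasiCompact f] (F : U.Modules) (hF : Coh.IsCoh F) (d : ℕ) (h : Nontrivial (Coh.HH U F d)) : (d : WithBot ℕ∞) ≤ topologicalKrullDim U ∧ (topologicalKrullDim U = d → IsProper f) := by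
  classical
  obtain ⟨n, hn⟩ : ∃ n : ℕ, topologicalKrullDim U = n :=
    ⟨_, Rigid.topologicalKrullDim_eq_pdim f⟩
  haveI : IsLocallyNoetherian U := LocallyOfFiniteType.isLocallyNoetherian f
  haveI : CompactSpace U := QuasiCompact.compactSpace_of_compactSpace f
  haveI : IsNoetherian U := {}
  haveI : TopologicalSpace.NoetherianSpace U := inferInstance
  have hdn : d ≤ n := by
    by_contra h
    exact not_subsingleton _ (S0458.result (X := U.toPresheafedSpace.carrier) n hn.le (Coh.toAb F) d (not_le.1 h))
  refine ⟨by rw [hn]; exact_mod_cast hdn, fun hd => ?_⟩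
  by_contra hp
  exact not_subsingleton _ (Lich.subsingleton_hh_of_not_isProper U f F hF d hd hp)

end Groth.Agent.S1753
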