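import Groth.Statements.S17533
import Groth.Agent.AffQuot.Main
import Groth.Agent.GrpAct.GeomQuot
import Groth.Agent.GITCat.Basic
import Groth.Agent.QuotShLib.Fppf

set_option autoImplicit false
universe u
open CategoryTheory MonoidalCategory CartesianMonoidalCategory AlgebraicGeometry
open scoped MonObj GrpObj Hom
open HopfRep

namespace Groth.Agent.S17533

/-- In the case where `H` acts on `U = G` by translations, let `k` be an algebraically closed field,
`AG` a commutative Hopf algebra of finite type over `k` (`G = Spec AG` an affine algebraic group),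
`AH` a commutative Hopf algebra of finite type which is linearly reductive (every finite-dimensional
comodule semisimple) and `ψ : AG → AH` a surjective bialgebra map, so that `H = Spec AH → G` is a
closed subgroup (assumed a homomorphism of group schemes), and let `q : G ⟶ Q` present the
`k`-scheme `Q` as the fppf quotient `G/H` (`q` surjective, flat and locally of finite presentation,
and the square with the projection and the multiplication `G × H → G` cartesian). Then `Q` is
affine. (The published statement is that the algebraic-space quotient of an affine scheme by a free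
action of a linearly reductive group is affine; this row is its case of `H` acting on `G` by
translations, with the quotient given as a scheme.) -/
theorem result
    (k : Type u) [Field k] [IsAlgClosed k]
    (AG AH : Type u) [CommRing AG] [HopfAlgebra k AG] [Algebra.FiniteType k AG]
    [CommRing AH] [HopfAlgebra k AH] [Algebra.FiniteType k AH]
    (hH : HopfRep.IsLinearlyReductive k AH)
    (ψ : AG →ₐc[k] AH) (hψ : Function.Surjective ψ)
    [IsMonHom (CoactBr.pt (ψ : AG →ₐ[k] AH))]
    (Q : Over (Spec (CommRingCat.of k))) (q : CoactBr.sp k AG ⟶ Q)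
    (hq : RedSub.IsQuotient (CoactBr.pt (ψ : AG →ₐ[k] AH)) q) :
    IsAffine Q.left := by
  obtain ⟨hs, hf, hlfp, hpb⟩ := hq
  let i : (CoactBr.sp k AH) ⟶ (CoactBr.sp k AG) := CoactBr.pt (ψ : AG →ₐ[k] AH)
  haveI : IsMonHom i := ‹_›
  let act : (CoactBr.sp k AH) ⊗ (CoactBr.sp k AG) ⟶ (CoactBr.sp k AG) := snd (CoactBr.sp k AH) (CoactBr.sp k AG) * (fst (CoactBr.sp k AH) (CoactBr.sp k AG) ≫ i)⁻¹
  have hact : ∀ {T : Over (Spec (CommRingCat.of k))} (h : T ⟶ (CoactBr.sp k AH)) (g : T ⟶ (CoactBr.sp k AG)),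
      lift h g ≫ act = g * (h ≫ i)⁻¹ := fun h g => by
    simp only [act, MonObj.comp_mul, GrpObj.comp_inv, lift_snd, lift_fst_assoc]
  let a : AlgGrp.Action (CoactBr.sp k AH) (CoactBr.sp k AG) :=
    { act := act
      one_act := by
        rw [← cancel_epi (λ_ (CoactBr.sp k AG)).inv, Iso.inv_hom_id, ← Category.assoc]
        have : (λ_ (CoactBr.sp k AG)).inv ≫ η[(CoactBr.sp k AH)] ▷ (CoactBr.sp k AG) = lift (1 : (CoactBr.sp k AG) ⟶ (CoactBr.sp k AH)) (𝟙 (CoactBr.sp k AG)) := by
          refine CartesianMonoidalCategory.hom_ext _ _ ?_ ?_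
          · simp only [Category.assoc, whiskerRight_fst, lift_fst, Hom.one_def, leftUnitor_inv_fst_assoc]
          · simp only [Category.assoc, whiskerRight_snd, lift_snd, leftUnitor_inv_snd]
        rw [this, hact, MonObj.one_comp, inv_one, _root_.mul_one]
      mul_act := by
        have e1 : μ[(CoactBr.sp k AH)] ▷ (CoactBr.sp k AG) = lift ((fst _ (CoactBr.sp k AG) ≫ fst (CoactBr.sp k AH) (CoactBr.sp k AH)) * (fst _ (CoactBr.sp k AG) ≫ snd (CoactBr.sp k AH) (CoactBr.sp k AH))) (snd _ (CoactBr.sp k AG)) := by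
          refine CartesianMonoidalCategory.hom_ext _ _ ?_ ?_
          · simp only [whiskerRight_fst, lift_fst]
            rw [Hom.mul_def, ← comp_lift, lift_fst_snd, Category.comp_id]
          · simp
        have e2 : (α_ (CoactBr.sp k AH) (CoactBr.sp k AH) (CoactBr.sp k AG)).hom = lift (fst _ _ ≫ fst (CoactBr.sp k AH) (CoactBr.sp k AH)) (lift (fst _ _ ≫ snd (CoactBr.sp k AH) (CoactBr.sp k AH)) (snd _ (CoactBr.sp k AG))) := by
          refine CartesianMonoidalCategory.hom_ext _ _ ?_ ?_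
          · simp
          · refine CartesianMonoidalCategory.hom_ext _ _ ?_ ?_ <;> simp
        rw [e1, e2, hact, lift_whiskerLeft_assoc, hact, hact, MonObj.mul_comp, _root_.mul_inv_rev,
          _root_.mul_assoc] }
  let θ : (CoactBr.sp k AH) ⊗ (CoactBr.sp k AG) ⟶ (CoactBr.sp k AG) ⊗ (CoactBr.sp k AH) := lift act (fst (CoactBr.sp k AH) (CoactBr.sp k AG))
  have hθ : ∀ {T : Over (Spec (CommRingCat.of k))} (f : T ⟶ (CoactBr.sp k AH) ⊗ (CoactBr.sp k AG)), f ≫ θ = lift (f ≫ act) (f ≫ fst (CoactBr.sp k AH) (CoactBr.sp k AG)) :=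
    fun f => comp_lift _ _ _
  let θ' : (CoactBr.sp k AG) ⊗ (CoactBr.sp k AH) ⟶ (CoactBr.sp k AH) ⊗ (CoactBr.sp k AG) := lift (snd (CoactBr.sp k AG) (CoactBr.sp k AH)) (fst (CoactBr.sp k AG) (CoactBr.sp k AH) * (snd (CoactBr.sp k AG) (CoactBr.sp k AH) ≫ i))
  have h1 : θ ≫ θ' = 𝟙 _ := by
    refine CartesianMonoidalCategory.hom_ext _ _ ?_ ?_
    · simp [θ, θ']
    · simp only [θ, θ', Category.assoc, lift_snd, MonObj.comp_mul, lift_fst, lift_snd_assoc, Category.id_comp, act,
        inv_mul_cancel_right]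
  have h2 : θ' ≫ θ = 𝟙 _ := by
    refine CartesianMonoidalCategory.hom_ext _ _ ?_ ?_
    · simp only [θ, Category.assoc, lift_fst, Category.id_comp]
      rw [hact, mul_inv_cancel_right]
    · simp [θ, θ']
  haveI : IsIso θ := ⟨θ', h1, h2⟩
  have hμ : θ ≫ ((CoactBr.sp k AG) ◁ i) ≫ μ[(CoactBr.sp k AG)] = snd (CoactBr.sp k AH) (CoactBr.sp k AG) := by
    rw [← Category.assoc, show θ ≫ (CoactBr.sp k AG) ◁ i = lift act (fst (CoactBr.sp k AH) (CoactBr.sp k AG) ≫ i) from lift_whiskerLeft _ _ _, ← Hom.mul_def]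
    exact inv_mul_cancel_right _ _
  have hsq : IsPullback a.act (snd (CoactBr.sp k AH) (CoactBr.sp k AG)) q q :=
    hpb.of_iso (asIso θ).symm (Iso.refl _) (Iso.refl _) (Iso.refl _)
      (by simp only [Iso.refl_hom, Category.comp_id, Iso.symm_hom, asIso_inv]
          rw [IsIso.eq_inv_comp]; exact lift_fst _ _)
      (by simp only [Iso.refl_hom, Category.comp_id, Iso.symm_hom, asIso_inv]
          rw [IsIso.eq_inv_comp]; exact hμ)
      (by simp) (by simp)
  have hkp : IsKernelPair q a.act (snd (CoactBr.sp k AH) (CoactBr.sp k AG)) := hsq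
  have hgq := Groth.Agent.GeomQuot.isGeomQuot_of_isQuotient a (Groth.Agent.QuotShLib.isQuotient_fppf hkp)
  have hcat : GIT.IsCatQuot a q := Groth.Agent.GITCat.isCatQuot_of_isGeomQuot a hgq
  haveI : IsAffine (CoactBr.sp k AG).left := inferInstanceAs (IsAffine (Spec (CommRingCat.of AG)))
  haveI : IsMonHom (Iso.refl (CoactBr.sp k AH)).hom := inferInstanceAs (IsMonHom (𝟙 (CoactBr.sp k AH)))
  obtain ⟨Y, φ, hY, hφ, -, -⟩ := Groth.Agent.AffQuot.exists_affine_quotient a (Iso.refl (CoactBr.sp k AH)) hH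
  have hφc := Groth.Agent.AffQuot.isCatQuot_of_goodAct hφ
  obtain ⟨χ, hχ, -⟩ := hcat.2 Y φ hφc.1
  obtain ⟨χ', hχ', -⟩ := hφc.2 Q q hcat.1
  have e1 : χ ≫ χ' = 𝟙 Q := (hcat.2 Q q hcat.1).unique
    (show q ≫ χ ≫ χ' = q by rw [← Category.assoc, hχ, hχ']) (Category.comp_id _)
  have e2 : χ' ≫ χ = 𝟙 Y := (hφc.2 Y φ hφc.1).unique
    (show φ ≫ χ' ≫ χ = φ by rw [← Category.assoc, hχ', hχ]) (Category.comp_id _)
  haveI : IsIso χ := ⟨χ', e1, e2⟩
  haveI : IsIso χ.left := inferInstanceAs (IsIso ((Over.forget _).map χ))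
  haveI := hY
  exact IsAffine.of_isIso χ.left

end Groth.Agent.S17533
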