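import Groth.Statements.S17537
import Mathlib.RingTheory.AdicCompletion.Basic

set_option autoImplicit false
universe u v
open CAlg

namespace Groth.Agent.S17537

/-- For a commutative ring A, an ideal I and an A-module M, the I-adic completion M^ of M is itself
I-adically complete if and only if, for every n, every element of M^ is congruent modulo I^n M^ to
the image of an element of M (the maps M/I^n M → M^/I^n M^ are surjective). -/
theorem result {A : Type u} [CommRing A] (I : Ideal A)
    (M : Type v) [AddCommGroup M] [Module A M] :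
    IsAdicComplete I (AdicCompletion I M) ↔
      ∀ (n : ℕ) (x : AdicCompletion I M), ∃ y : M,
        x - AdicCompletion.of I M y ∈ (I ^ n • ⊤ : Submodule A (AdicCompletion I M)) := by
  have hev : ∀ (n : ℕ) (z : AdicCompletion I M), z ∈ (I ^ n • ⊤ : Submodule A (AdicCompletion I M)) → z.val n = 0 := by
    intro n z hz
    have h : AdicCompletion.eval I M n z ∈ Submodule.map (AdicCompletion.eval I M n) (I ^ n • ⊤) := ⟨z, hz, rfl⟩
    rw [Submodule.map_smul''] at h
    have hzero : (I ^ n • Submodule.map (AdicCompletion.eval I M n) ⊤) ≤ ⊥ := by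
      refine Submodule.smul_le.mpr fun r hr w _ => ?_
      obtain ⟨w, rfl⟩ := Submodule.mkQ_surjective _ w
      rw [Submodule.mem_bot, ← map_smul, Submodule.mkQ_apply, Submodule.Quotient.mk_eq_zero]
      exact Submodule.smul_mem_smul hr Submodule.mem_top
    exact (Submodule.mem_bot A).mp (hzero h)
  have hof : ∀ (n : ℕ) (y : M), y ∈ (I ^ n • ⊤ : Submodule A M) → AdicCompletion.of I M y ∈ (I ^ n • ⊤ : Submodule A (AdicCompletion I M)) := by
    intro n y hy
    have h : AdicCompletion.of I M y ∈ Submodule.map (AdicCompletion.of I M) (I ^ n • ⊤) := ⟨y, hy, rfl⟩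
    rw [Submodule.map_smul''] at h
    exact Submodule.smul_mono le_rfl le_top h
  constructor
  · intro hc n x
    choose m hm using fun k => Submodule.mkQ_surjective _ (x.val k)
    obtain ⟨L, hL⟩ := hc.toIsPrecomplete.prec' (fun k => AdicCompletion.of I M (m k)) fun {a b} hab => by
      rw [SModEq.sub_mem, ← map_sub]
      refine hof a _ ?_
      have h := x.2 hab
      change AdicCompletion.transitionMap I M hab (x.val b) = x.val a at h
      rw [← hm a, ← hm b] at h
      exact (Submodule.Quotient.eq _).mp h.symm
    have hLx : L = x := AdicCompletion.ext fun k => by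
      have h := hev k _ (SModEq.sub_mem.mp (hL k))
      rw [AdicCompletion.val_sub_apply, sub_eq_zero] at h
      rw [← h, ← hm k]; rfl
    refine ⟨m n, ?_⟩
    rw [← hLx, ← neg_sub]
    exact neg_mem (SModEq.sub_mem.mp (hL n))
  · intro h
    have hker : ∀ (n : ℕ) (z : AdicCompletion I M), z.val n = 0 → z ∈ (I ^ n • ⊤ : Submodule A (AdicCompletion I M)) := by
      intro n z hz
      obtain ⟨y, hy⟩ := h n z
      have h' := hev n _ hy
      rw [AdicCompletion.val_sub_apply, hz, zero_sub, neg_eq_zero] at h'
      have hy' : y ∈ (I ^ n • ⊤ : Submodule A M) := (Submodule.Quotient.mk_eq_zero _).mp h'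
      simpa using add_mem hy (hof n y hy')
    refine { toIsHausdorff := ⟨fun x hx => AdicCompletion.ext fun n => ?_⟩, toIsPrecomplete := ⟨fun f hf => ?_⟩ }
    · exact hev n x (SModEq.zero.mp (hx n))
    · have hc : ∀ {a b : ℕ} (hab : a ≤ b), (f b).val a = (f a).val a := fun {a b} hab => by
        have h' := hev a _ (SModEq.sub_mem.mp (hf hab))
        rw [AdicCompletion.val_sub_apply, sub_eq_zero] at h'
        exact h'.symm
      refine ⟨⟨fun n => (f n).val n, fun {a b} hab => ((f b).2 hab).trans (hc hab)⟩, fun n => SModEq.sub_mem.mpr (hker n _ ?_)⟩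
      rw [AdicCompletion.val_sub_apply]
      exact sub_self _

end Groth.Agent.S17537
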