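import Groth.Statements.S17538
import Mathlib.RingTheory.AdicCompletion.Basic

set_option autoImplicit false
universe u v
open CAlg

namespace Groth.Agent.S17538

/-- For a commutative ring A, an ideal I and an A-module M, the canonical map from the I-adic completion
M^ to the I-adic completion of M^ admits an A-linear retraction (it is a split injection). (That M^
is I-adically separated is standard.) -/
theorem result {A : Type u} [CommRing A] (I : Ideal A)
    (M : Type v) [AddCommGroup M] [Module A M] :
    ∃ ψ : AdicCompletion I (AdicCompletion I M) →ₗ[A] AdicCompletion I M,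
      ψ ∘ₗ AdicCompletion.of I (AdicCompletion I M) = LinearMap.id := by
  classical
  let red : ∀ n, (AdicCompletion I M ⧸ (I ^ n • ⊤ : Submodule A (AdicCompletion I M))) →ₗ[A] M ⧸ (I ^ n • ⊤ : Submodule A M) := fun n =>
    Submodule.liftQ _ (AdicCompletion.eval I M n) (by
      refine Submodule.smul_le.2 fun r hr x _ => ?_
      rw [LinearMap.mem_ker, map_smul]
      obtain ⟨y, hy⟩ := Submodule.Quotient.mk_surjective _ (AdicCompletion.eval I M n x)
      rw [← hy, ← Submodule.Quotient.mk_smul, Submodule.Quotient.mk_eq_zero]
      exact Submodule.smul_mem_smul hr Submodule.mem_top)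
  let ψ : AdicCompletion I (AdicCompletion I M) →ₗ[A] AdicCompletion I M :=
    { toFun := fun z => ⟨fun n => red n (AdicCompletion.eval I (AdicCompletion I M) n z), fun {m n} hmn => by
        obtain ⟨y, hy⟩ := Submodule.Quotient.mk_surjective _ (z.val n)
        show AdicCompletion.transitionMap I M hmn (red n (z.val n)) = red m (z.val m)
        have h1 := AdicCompletion.transitionMap_comp_eval_apply I (AdicCompletion I M) hmn z
        rw [← h1, ← hy]
        exact AdicCompletion.transitionMap_comp_eval_apply I M hmn y⟩
      map_add' := fun a b => AdicCompletion.ext fun n => (congrArg (red n) (map_add (AdicCompletion.eval I (AdicCompletion I M) n) a b)).trans (map_add (red n) _ _)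
      map_smul' := fun r a => AdicCompletion.ext fun n => (congrArg (red n) (map_smul (AdicCompletion.eval I (AdicCompletion I M) n) r a)).trans (map_smul (red n) _ _) }
  refine ⟨ψ, LinearMap.ext fun x => AdicCompletion.ext fun n => ?_⟩
  show red n (AdicCompletion.eval I (AdicCompletion I M) n (AdicCompletion.of I (AdicCompletion I M) x)) = x.val n
  rw [AdicCompletion.eval_of]
  rfl

end Groth.Agent.S17538
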