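import Groth.Statements.S1754
import Groth.Agent.H1Fin.Main

set_option autoImplicit false
universe u
open LocCoh

namespace Groth.Agent.S1754

/-- Let A be a Noetherian domain and I a nonzero ideal. Suppose that for every prime q containing I and
every associated prime P of the completion B of the local ring A_q, the quotient B/P has dimension
at least 2. Then the local cohomology module H^1_I(A) is a finite A-module. (This is the affine
form, with coherence of j_*O_U for U = Spec A ∖ V(I) expressed as finiteness of H^1_I(A).) -/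
theorem result (A : Type u) [CommRing A] [IsDomain A] [IsNoetherianRing A] (I : Ideal A) (hI : I ≠ ⊥) (h : ∀ (q : PrimeSpectrum A), I ≤ q.asIdeal → ∀ P ∈ associatedPrimes (AdicCompletion (IsLocalRing.maximalIdeal (Localization.AtPrime q.asIdeal)) (Localization.AtPrime q.asIdeal)) (AdicCompletion (IsLocalRing.maximalIdeal (Localization.AtPrime q.asIdeal)) (Localization.AtPrime q.asIdeal)), (2 : WithBot ℕ∞) ≤ ringKrullDim (AdicCompletion (IsLocalRing.maximalIdeal (Localization.AtPrime q.asIdeal)) (Localization.AtPrime q.asIdeal) ⧸ P)) : Module.Finite A (LocCoh.H I 1 A) := by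
  refine Groth.Agent.H1Fin.finite_H1 I A fun p _ hp hIp q _ hq => Groth.Agent.H1Fin.cplAss2_of_quot p q ?_
  have hp0 : p = ⊥ := by
    obtain ⟨-, z, hz⟩ := isAssociatedPrime_iff.1 (AssociatedPrimes.mem_iff.1 hp)
    have hne : z ≠ 0 := fun e => by
      refine (inferInstance : p.IsPrime).ne_top ((Ideal.eq_top_iff_one _).2 ?_)
      rw [hz, Submodule.mem_colon_singleton, e, smul_zero]
      exact Submodule.zero_mem _
    ext a
    rw [hz, Submodule.mem_colon_singleton, Submodule.mem_bot, Ideal.mem_bot, smul_eq_mul, mul_eq_zero,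
      or_iff_left hne]
  subst hp0
  exact (h ⟨q.comap (Ideal.Quotient.mk ⊥), inferInstance⟩ (Ideal.map_le_iff_le_comap.1 hq) :
    Groth.Agent.H1Fin.CplAss2 (Localization.AtPrime (q.comap (Ideal.Quotient.mk ⊥)))
      (IsLocalRing.maximalIdeal _)) |> fun hc =>
    haveI : IsNoetherianRing (Localization.AtPrime (q.comap (Ideal.Quotient.mk ⊥))) :=
      IsLocalization.isNoetherianRing (q.comap (Ideal.Quotient.mk ⊥)).primeCompl _ inferInstance
    Groth.Agent.H1Fin.CplAss2.quot_bot Ideal.map_bot hc

end Groth.Agent.S1754
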