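import Groth.Statements.S17540
import Groth.Agent.DecayLib.Basic

set_option autoImplicit false
universe u v w
open W4c5adicflatcompl
open CAlg Groth.Agent

namespace Groth.Agent.S17540

/-- Let A be I-adically complete, M an I-adically complete A-module and m : Z → M a family. The images
of the m z generate M/IM (the span of the family together with IM is all of M) if and only if the
family I-adically generates M: every x in M is the I-adically convergent sum of g z • m z for some
I-adically decaying function g : Z → A. -/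
theorem result {A : Type u} [CommRing A] (I : Ideal A) [IsAdicComplete I A]
    (M : Type v) [AddCommGroup M] [Module A M] [IsAdicComplete I M] (Z : Type w) (m : Z → M) :
    Submodule.span A (Set.range m) ⊔ I • ⊤ = ⊤ ↔
      ∀ x : M, ∃ g : Z → A, g ∈ decaying I Z A ∧
        ∀ n : ℕ, ∃ S : Finset Z,
          (∀ z, z ∉ S → g z • m z ∈ (I ^ n • ⊤ : Submodule A M)) ∧
          x - (∑ z ∈ S, g z • m z) ∈ (I ^ n • ⊤ : Submodule A M) := by
  classical
  constructor
  · intro hgen x
    let lc := Finsupp.linearCombination A m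
    have hstep : ∀ (k : ℕ) (r : M), r ∈ (I ^ k • ⊤ : Submodule A M) → ∃ c : Z →₀ A,
        (∀ z, c z ∈ I ^ k) ∧ r - lc c ∈ (I ^ (k + 1) • ⊤ : Submodule A M) := by
      intro k r hr
      have h1 : (I ^ k • ⊤ : Submodule A M) ≤ I ^ k • Submodule.span A (Set.range m) ⊔ I ^ (k + 1) • ⊤ := by
        rw [pow_succ, Submodule.mul_smul, ← Submodule.smul_sup, hgen]
      obtain ⟨a, ha, b, hb, hab⟩ := Submodule.mem_sup.1 (h1 hr)
      have h2 : a ∈ Submodule.map lc (I ^ k • ⊤) := by
        rw [Submodule.map_smul'', Submodule.map_top, Finsupp.range_linearCombination]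
        exact ha
      obtain ⟨c, hc, rfl⟩ := h2
      refine ⟨c, fun z => ?_, ?_⟩
      · have h3 := (DecayLib.finsupp_mem_smul_top_iff I k c).1 hc z
        rwa [Ideal.smul_eq_mul, Ideal.mul_top] at h3
      · rw [← hab, add_sub_cancel_left]
        exact hb
    let G : ∀ k : ℕ, {c : Z →₀ A // x - lc c ∈ (I ^ k • ⊤ : Submodule A M)} := fun k =>
      Nat.rec ⟨0, by simp⟩ (fun k G => ⟨G.1 + (hstep k _ G.2).choose, by
        rw [map_add, ← sub_sub]
        exact (hstep k _ G.2).choose_spec.2⟩) k
    have hdiff : ∀ k z, (G (k + 1)).1 z - (G k).1 z ∈ I ^ k := fun k z => by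
      show ((G k).1 + (hstep k _ (G k).2).choose) z - (G k).1 z ∈ I ^ k
      rw [Finsupp.add_apply, add_sub_cancel_left]
      exact (hstep k _ (G k).2).choose_spec.1 z
    have hcauchy : ∀ z {a b : ℕ}, a ≤ b → (G a).1 z - (G b).1 z ∈ I ^ a := by
      intro z a b hab
      induction b, hab using Nat.le_induction with
      | base => simp
      | succ b hb ih =>
        rw [← sub_add_sub_cancel ((G a).1 z) ((G b).1 z) ((G (b + 1)).1 z)]
        refine add_mem ih (Ideal.pow_le_pow_right hb ?_)
        rw [← neg_sub]
        exact neg_mem (hdiff b z)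
    choose g hg using fun z => IsPrecomplete.prec (I := I) (M := A) inferInstance (f := fun k => (G k).1 z)
      fun {a b} hab => by
        rw [SModEq.sub_mem, Ideal.smul_eq_mul, Ideal.mul_top]
        exact hcauchy z hab
    have hgk : ∀ k z, (G k).1 z - g z ∈ I ^ k := fun k z => by
      have h := hg z k
      rwa [SModEq.sub_mem, Ideal.smul_eq_mul, Ideal.mul_top] at h
    have hout : ∀ n z, z ∉ (G n).1.support → g z ∈ I ^ n := fun n z hz => by
      have h := hgk n z
      rwa [Finsupp.notMem_support_iff.1 hz, zero_sub, neg_mem_iff] at h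
    refine ⟨g, fun n => (G n).1.support.finite_toSet.subset fun z hz => ?_, fun n => ⟨(G n).1.support, ?_, ?_⟩⟩
    · by_contra h
      exact hz (by rw [Ideal.smul_eq_mul, Ideal.mul_top]; exact hout n z h)
    · exact fun z hz => Submodule.smul_mem_smul (hout n z hz) Submodule.mem_top
    · have e : x - (∑ z ∈ (G n).1.support, g z • m z) =
          (x - lc (G n).1) + ∑ z ∈ (G n).1.support, ((G n).1 z - g z) • m z := by
        simp only [lc, Finsupp.linearCombination_apply, Finsupp.sum, sub_smul, Finset.sum_sub_distrib]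
        abel
      rw [e]
      exact Submodule.add_mem _ (G n).2
        (Submodule.sum_mem _ fun z _ => Submodule.smul_mem_smul (hgk n z) Submodule.mem_top)
  · intro h
    rw [eq_top_iff]
    rintro x -
    obtain ⟨g, -, hS⟩ := h x
    obtain ⟨S, -, hx⟩ := hS 1
    rw [← sub_add_cancel x (∑ z ∈ S, g z • m z)]
    refine Submodule.add_mem _ (Submodule.mem_sup_right (by rwa [pow_one] at hx)) (Submodule.mem_sup_left ?_)
    exact Submodule.sum_mem _ fun z _ => Submodule.smul_mem _ _ (Submodule.subset_span ⟨z, rfl⟩)

end Groth.Agent.S17540
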