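import Groth.Statements.S17544
import Groth.Agent.DecayLib.Basic

set_option autoImplicit false
universe u v w
open W4c5adicflatcompl
open CAlg Groth.Agent

namespace Groth.Agent.S17544

/-- For a Noetherian ring A which is I-adically complete, a set Z and n ≥ 0, reduction modulo I^n maps
the decaying functions Z → A onto the finitely supported functions Z → A/I^n, and its kernel, the
decaying functions with all values in I^n, equals I^n times the module of decaying functions; so
(A/I^n) ⊗ F_dec(Z, A) → F_fin(Z, A/I^n) is bijective. -/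
theorem result {A : Type u} [CommRing A] [IsNoetherianRing A]
    (I : Ideal A) [IsAdicComplete I A] (Z : Type v) (n : ℕ) :
    (∀ g : Z →₀ A ⧸ I ^ n, ∃ f : decaying I Z A,
        ∀ z, Ideal.Quotient.mk (I ^ n) ((f : Z → A) z) = g z) ∧
      ∀ f : decaying I Z A,
        f ∈ (I ^ n • ⊤ : Submodule A (decaying I Z A)) ↔ ∀ z, (f : Z → A) z ∈ I ^ n := by
  classical
  have hI : I.FG := IsNoetherian.noetherian I
  haveI := DecayLib.isPrecomplete_of_fg (M := A) I hI
  haveI := DecayLib.isPrecomplete_of_fg (M := Z →₀ A) I hI
  refine ⟨fun g => ?_, fun f => ⟨fun hf z => ?_, fun hf => ?_⟩⟩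
  · choose r hr using fun z => Ideal.Quotient.mk_surjective (g z)
    refine ⟨⟨fun z => if g z = 0 then 0 else r z, fun k => g.support.finite_toSet.subset fun z hz => ?_⟩,
      fun z => ?_⟩
    · rw [Finset.mem_coe, Finsupp.mem_support_iff]
      intro h0
      exact hz (by simp only [if_pos h0]; exact Submodule.zero_mem _)
    · show Ideal.Quotient.mk (I ^ n) (if g z = 0 then 0 else r z) = g z
      split
      · next h => rw [map_zero, h]
      · exact hr z
  · have h := DecayLib.apply_mem_smul_top I hf z
    rwa [Ideal.smul_eq_mul, Ideal.mul_top] at h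
  · let e := (DecayLib.completionEquiv I Z A).trans (DecayLib.congr I Z (AdicCompletion.ofLinearEquiv I A).symm)
    obtain ⟨x, rfl⟩ := e.surjective f
    rw [DecayLib.mem_smul_top_congr e, DecayLib.mem_pow_smul_top_iff_val]
    obtain ⟨w, hw⟩ := Submodule.Quotient.mk_surjective _ (x.val n)
    rw [← hw, Submodule.Quotient.mk_eq_zero, DecayLib.finsupp_mem_smul_top_iff]
    intro a
    have h0 : AdicCompletion.of I A (((e x : decaying I Z A) : Z → A) a) = DecayLib.coord I Z A x a := by
      show AdicCompletion.of I A ((AdicCompletion.ofLinearEquiv I A).symm (DecayLib.coord I Z A x a)) = _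
      exact AdicCompletion.of_ofLinearEquiv_symm I _
    have h1 := congrArg (fun y : AdicCompletion I A => y.val n) h0
    simp only [DecayLib.coord_val I x a n w hw, AdicCompletion.of_apply, Submodule.mkQ_apply] at h1
    have h2 : ((e x : decaying I Z A) : Z → A) a ∈ (I ^ n • ⊤ : Submodule A A) := by
      rw [Ideal.smul_eq_mul, Ideal.mul_top]; exact hf a
    rw [(Submodule.Quotient.mk_eq_zero _).2 h2] at h1
    exact (Submodule.Quotient.mk_eq_zero _).1 h1.symm

end Groth.Agent.S17544
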