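import Groth.Statements.S17546
import Groth.Agent.DecayLib.Basic

set_option autoImplicit false
universe u v w
open W4c5adicflatcompl
open CAlg Groth.Agent

namespace Groth.Agent.S17546

/-- For a Noetherian ring A which is I-adically complete and any set Z, the A-module of I-adically
decaying functions Z → A is I-adically complete. -/
theorem result {A : Type u} [CommRing A] [IsNoetherianRing A]
    (I : Ideal A) [IsAdicComplete I A] (Z : Type v) :
    IsAdicComplete I (decaying I Z A) := by
  have hI : I.FG := IsNoetherian.noetherian I
  haveI := DecayLib.isPrecomplete_of_fg (M := A) I hI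
  haveI : IsAdicComplete I (AdicCompletion I (Z →₀ A)) := AdicCompletion.isAdicComplete hI
  exact DecayLib.isAdicComplete_of_linearEquiv I
    ((DecayLib.completionEquiv I Z A).trans (DecayLib.congr I Z (AdicCompletion.ofLinearEquiv I A).symm))

end Groth.Agent.S17546
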