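import Groth.Statements.S4515
import Groth.Agent.MLMod.ProjLift
import Groth.Agent.LocalCrit.Basic
import Mathlib.RingTheory.AdicCompletion.Functoriality

set_option autoImplicit false
universe u
open EGA41 Groth.Agent TensorProduct

namespace Groth.Agent.S4515

/-- Let A be a ring, J an ideal of A, and M, N two A-modules which are Hausdorff for the J-adic
topology; suppose moreover that N is J-adically complete and M is flat. Let u : N → M be A-linear.
If the induced map N/JN → M/JM is bijective (surjectivity and injectivity written out below), then u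
is bijective. -/
theorem result {A : Type u} [CommRing A] (J : Ideal A)
    {M N : Type u} [AddCommGroup M] [Module A M] [AddCommGroup N] [Module A N]
    [IsHausdorff J M] [IsAdicComplete J N] [Module.Flat A M] (u : N →ₗ[A] M)
    (hsurj : ∀ m : M, ∃ n : N, m - u n ∈ (J • ⊤ : Submodule A M))
    (hinj : ∀ n : N, u n ∈ (J • ⊤ : Submodule A M) → n ∈ (J • ⊤ : Submodule A N)) :
    Function.Bijective u := by
  have key : ∀ k n, n ∈ (J ^ k • ⊤ : Submodule A N) → u n = 0 → n ∈ (J ^ (k + 1) • ⊤ : Submodule A N) := by
    intro k n hn hun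
    obtain ⟨z, rfl⟩ := LocalCrit.exists_mulMap_eq hn
    have h0 : u.lTensor (J ^ k : Ideal A) z = 0 := by
      apply LocalCrit.mulMap_injective (N := M) (J ^ k)
      rw [LocalCrit.mulMap_lTensor, hun, map_zero]
    let ub : (N ⧸ (J • ⊤ : Submodule A N)) →ₗ[A] (M ⧸ (J • ⊤ : Submodule A M)) :=
      Submodule.mapQ _ _ u (MLMod.map_mem_smul_top J u)
    have hub : Function.Bijective ub := by
      constructor
      · rw [injective_iff_map_eq_zero]
        intro a ha
        obtain ⟨a, rfl⟩ := Submodule.Quotient.mk_surjective _ a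
        rw [Submodule.mapQ_apply, Submodule.Quotient.mk_eq_zero] at ha
        exact (Submodule.Quotient.mk_eq_zero _).2 (hinj a ha)
      · intro b
        obtain ⟨b, rfl⟩ := Submodule.Quotient.mk_surjective _ b
        obtain ⟨a, ha⟩ := hsurj b
        exact ⟨Submodule.Quotient.mk a, ((Submodule.Quotient.eq _).2 ha).symm⟩
    have h1 : (J • ⊤ : Submodule A N).mkQ.lTensor (J ^ k : Ideal A) z = 0 := by
      apply (LinearEquiv.lTensor (J ^ k : Ideal A) (LinearEquiv.ofBijective ub hub)).injective
      rw [map_zero]
      show ub.lTensor _ ((J • ⊤ : Submodule A N).mkQ.lTensor _ z) = 0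
      rw [← LinearMap.lTensor_comp_apply, Submodule.mapQ_mkQ, LinearMap.lTensor_comp_apply, h0, map_zero]
    obtain ⟨w, rfl⟩ := ((lTensor_exact (J ^ k : Ideal A) (LinearMap.exact_subtype_mkQ (J • ⊤ : Submodule A N))
      (Submodule.mkQ_surjective _)) z).1 h1
    rw [LocalCrit.mulMap_lTensor]
    have h2 := Submodule.mem_map_of_mem (f := (J • ⊤ : Submodule A N).subtype) (LocalCrit.mulMap_mem (J ^ k) w)
    rw [Submodule.map_smul'', Submodule.map_top, Submodule.range_subtype, ← Submodule.mul_smul, ← pow_succ] at h2
    exact h2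
  refine ⟨?_, ?_⟩
  · rw [injective_iff_map_eq_zero]
    intro n hn
    refine IsHausdorff.haus (I := J) inferInstance n fun k => ?_
    rw [SModEq.zero]
    induction k with
    | zero => simp
    | succ k ih => exact key k n ih hn
  · refine surjective_of_mkQ_comp_surjective (I := J) fun b => ?_
    obtain ⟨b, rfl⟩ := Submodule.Quotient.mk_surjective _ b
    obtain ⟨a, ha⟩ := hsurj b
    exact ⟨a, ((Submodule.Quotient.eq _).2 ha).symm⟩

end Groth.Agent.S4515
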