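import Groth.Statements.S17552
import Groth.Agent.DecayLib.Flat
import Groth.Agent.S4515

set_option autoImplicit false
universe u
open W4c5adicflatcompl
open CAlg Groth.Agent

namespace Groth.Agent.S17552

/-- For a complete Noetherian local ring A (maximal ideal m, m-adic completion Â), an A-module M is
isomorphic to the module of m-adically decaying functions Z → Â for some set Z (m-adically free)
exactly when M is flat and m-adically complete. M and Z live in the universe of A. -/
theorem result {A : Type u} [CommRing A] [IsNoetherianRing A] [IsLocalRing A]
    [IsAdicComplete (IsLocalRing.maximalIdeal A) A]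
    (M : Type u) [AddCommGroup M] [Module A M] :
    IsAdicFree (IsLocalRing.maximalIdeal A) M ↔
      Module.Flat A M ∧ IsAdicComplete (IsLocalRing.maximalIdeal A) M := by
  classical
  set I := IsLocalRing.maximalIdeal A
  constructor
  · rintro ⟨Z, ⟨e⟩⟩
    haveI := DecayLib.flat_decaying_completion I Z
    haveI := DecayLib.isAdicComplete_free I Z
    exact ⟨Module.Flat.of_linearEquiv e, DecayLib.isAdicComplete_of_linearEquiv I e.symm⟩
  · rintro ⟨hflat, hc⟩
    letI : Field (A ⧸ I) := Ideal.Quotient.field I
    let Z := Module.Free.ChooseBasisIndex (A ⧸ I) (M ⧸ (I • ⊤ : Submodule A M))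
    let b := Module.Free.chooseBasis (A ⧸ I) (M ⧸ (I • ⊤ : Submodule A M))
    choose m hm using fun z => Submodule.Quotient.mk_surjective _ (b z)
    obtain ⟨φ, hφ⟩ := DecayLib.exists_lift I m
    haveI := DecayLib.isAdicComplete_free I Z
    have hlc : ∀ w : Z →₀ A, φ (DecayLib.freeEquiv I Z (AdicCompletion.of I _ w)) = Finsupp.linearCombination A m w := by
      intro w
      induction w using Finsupp.induction_linear with
      | zero => simp
      | add a c ha hc => simp only [map_add, ha, hc]
      | single z c =>
        rw [← Finsupp.smul_single_one, map_smul, map_smul, map_smul, map_smul, DecayLib.freeEquiv_of_single,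
          hφ, Finsupp.linearCombination_single, one_smul]
    have hmk : ∀ w : Z →₀ A, (Submodule.Quotient.mk (Finsupp.linearCombination A m w) : M ⧸ (I • ⊤ : Submodule A M)) =
        Finsupp.linearCombination (A ⧸ I) b (w.mapRange (Ideal.Quotient.mk I) (map_zero _)) := by
      intro w
      induction w using Finsupp.induction_linear with
      | zero => simp
      | add a c ha hc =>
        rw [map_add, Submodule.Quotient.mk_add, ha, hc, ← map_add]
        congr 1
        ext z
        simp
      | single z c =>
        rw [Finsupp.linearCombination_single, Submodule.Quotient.mk_smul, hm, Finsupp.mapRange_single,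
          Finsupp.linearCombination_single, ← Ideal.Quotient.algebraMap_eq, algebraMap_smul]
    have hbij : Function.Bijective φ := by
      refine S4515.result I φ (fun x => ?_) (fun n hn => ?_)
      · let c := b.repr (Submodule.Quotient.mk x)
        choose r hr using fun z => Ideal.Quotient.mk_surjective (c z)
        let w : Z →₀ A := Finsupp.onFinset c.support (fun z => if c z = 0 then 0 else r z) (fun z hz => by
          simp only [ne_eq, ite_eq_left_iff, not_forall] at hz
          exact Finsupp.mem_support_iff.2 hz.1)
        refine ⟨DecayLib.freeEquiv I Z (AdicCompletion.of I _ w), ?_⟩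
        rw [hlc, ← Submodule.Quotient.eq, hmk]
        have : w.mapRange (Ideal.Quotient.mk I) (map_zero _) = c := by
          ext z
          simp only [w, Finsupp.mapRange_apply, Finsupp.onFinset_apply]
          split
          · next h => rw [map_zero, h]
          · exact hr z
        rw [this]
        exact (b.linearCombination_repr _).symm
      · obtain ⟨y, rfl⟩ := (DecayLib.freeEquiv I Z).surjective n
        obtain ⟨w, hw⟩ := Submodule.Quotient.mk_surjective _ (y.val 1)
        have hy : y - AdicCompletion.of I _ w ∈ (I • ⊤ : Submodule A (AdicCompletion I (Z →₀ A))) := by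
          have h := (DecayLib.mem_pow_smul_top_iff_val I 1 (y - AdicCompletion.of I _ w)).2 (by
            rw [AdicCompletion.val_sub_apply, ← hw, sub_eq_zero]; rfl)
          rwa [Submodule.pow_one] at h
        have h1 := (DecayLib.mem_smul_top_congr ((DecayLib.freeEquiv I Z)) I _).2 hy
        rw [map_sub] at h1
        have h2 := Submodule.mem_map_of_mem (f := φ) h1
        rw [Submodule.map_smul'', map_sub, hlc] at h2
        have h3 : Finsupp.linearCombination A m w ∈ (I • ⊤ : Submodule A M) := by
          have h4 := sub_mem hn (Submodule.smul_mono le_rfl le_top h2)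
          rwa [sub_sub_cancel] at h4
        rw [← Submodule.Quotient.mk_eq_zero, hmk] at h3
        have h5 := linearIndependent_iff.1 b.linearIndependent _ h3
        have h6 : w ∈ (I • ⊤ : Submodule A (Z →₀ A)) := by
          have h := (DecayLib.finsupp_mem_smul_top_iff I 1 w).2 (fun z => by
            rw [Submodule.pow_one, Ideal.smul_eq_mul, Ideal.mul_top, ← Ideal.Quotient.eq_zero_iff_mem]
            simpa using DFunLike.congr_fun h5 z)
          rwa [Submodule.pow_one] at h
        have h7 := Submodule.mem_map_of_mem
          (f := (DecayLib.freeEquiv I Z).toLinearMap ∘ₗ AdicCompletion.of I (Z →₀ A)) h6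
        rw [Submodule.map_smul''] at h7
        have h8 := Submodule.smul_mono le_rfl le_top h7
        rw [LinearMap.comp_apply, LinearEquiv.coe_coe] at h8
        rw [← sub_add_cancel (DecayLib.freeEquiv I Z y) (DecayLib.freeEquiv I Z (AdicCompletion.of I _ w))]
        exact Submodule.add_mem _ h1 h8
    exact ⟨Z, ⟨(LinearEquiv.ofBijective φ hbij).symm⟩⟩

end Groth.Agent.S17552
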