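import Groth.Statements.S17555
import Groth.Agent.RootSys.NoRoot
-- import your own Groth.Agent.* helpers here

set_option autoImplicit false
universe u v
open CategoryTheory MonoidalCategory CartesianMonoidalCategory MonObj GrpObj AlgebraicGeometry
open LieWt

set_option backward.isDefEq.respectTransparency false

namespace Groth.Agent.S17555

/-- Let k be a field, G a reductive k-group scheme (affine, smooth, with connected reductive geometric
fibre) which is not solvable, and i : T ⟶ G a maximal torus which is split. Then the set of roots of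
(G, T) is non-empty: there is a homomorphism α from T to the multiplicative group, different from
the trivial character, whose weight space for the adjoint action of T on the Lie algebra of G over k
is not reduced to zero. -/
theorem result (k : Type u) [Field k]
    (G T : Over (Spec (CommRingCat.of k))) [GrpObj G] [GrpObj T] (hG : Red.IsReductive G) (hns : ¬ Red.IsSolvableGrp G)
    (i : T ⟶ G) (hT : Red.IsMaximalTorus i) (M : Type) [AddCommGroup M] (hM : Red.IsSplitTorusWith M T) :
    ∃ α : T ⟶ Red.Gm (Spec (CommRingCat.of k)), LieWt.IsRoot i α := by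
  obtain ⟨i1, i2, i3⟩ := RootSys.red_inst hG
  obtain ⟨E⟩ := hM
  haveI := RootSys.isMonHom_split hT.1 E
  by_contra hno
  haveI := hT.1
  haveI := RootSys.isIso_of_no_wt i hG hT E fun d w hw hw1 => by_contra fun hd =>
    hno ⟨_, (RootSys.isRoot_iff i E _).2 ⟨d, hd, rfl, w, hw, hw1⟩⟩
  refine hns ⟨1, fun X => ?_⟩
  rw [derivedSeries_succ, derivedSeries_zero, Subgroup.commutator_eq_bot_iff_le_centralizer]
  intro a _
  refine Subgroup.mem_centralizer_iff.2 fun b _ => ?_
  have e : ∀ c : X ⟶ G, (c ≫ inv i) ≫ i = c := fun c => by rw [Category.assoc, IsIso.inv_hom_id, Category.comp_id]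
  calc b * a = ((b ≫ inv i) * (a ≫ inv i)) ≫ i := by rw [MonObj.mul_comp, e, e]
    _ = ((a ≫ inv i) * (b ≫ inv i)) ≫ i := by rw [RedR1.mul_comm_torus hT.2.2.1]
    _ = a * b := by rw [MonObj.mul_comp, e, e]

end Groth.Agent.S17555
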