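import Groth.Statements.S17556
import Groth.Agent.RootSys.FieldGen
-- import your own Groth.Agent.* helpers here

set_option autoImplicit false
universe u v
open CategoryTheory MonoidalCategory CartesianMonoidalCategory MonObj GrpObj AlgebraicGeometry
open LieWt

set_option backward.isDefEq.respectTransparency false

namespace Groth.Agent.S17556

/-- Let k be a field, G a reductive k-group scheme (affine, smooth, with connected reductive geometric
fibre), i : T ⟶ G a maximal torus which is split and α a root of (G, T): a homomorphism from T to
the multiplicative group, other than the trivial character, with non-zero weight space on the Lie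
algebra of G over k. Then the inverse character α⁻¹, written −a in additive notation, is also a root
of (G, T). (A connected reductive group having a root is not solvable, so non-solvability is not
assumed separately here.) -/
theorem result (k : Type u) [Field k]
    (G T : Over (Spec (CommRingCat.of k))) [GrpObj G] [GrpObj T] (hG : Red.IsReductive G)
    (i : T ⟶ G) (hT : Red.IsMaximalTorus i) (M : Type) [AddCommGroup M] (hM : Red.IsSplitTorusWith M T)
    (α : T ⟶ Red.Gm (Spec (CommRingCat.of k))) (hα : LieWt.IsRoot i α) :
    LieWt.IsRoot i α⁻¹ := by
  obtain ⟨i1, i2, i3⟩ := RootSys.red_inst hG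
  obtain ⟨E⟩ := hM
  haveI := RootSys.isMonHom_split hT.1 E
  obtain ⟨a, ha, rfl, v, hv, hv1⟩ := (RootSys.isRoot_iff i E α).1 hα
  obtain ⟨⟨w, hw, hw1⟩, -⟩ := RootSys.field_rank_one hG i hT E hv ha hv1
  refine (RootSys.isRoot_iff i E _).2 ⟨-a, neg_ne_zero.2 ha, ?_, w, hw, hw1⟩
  rw [RootSys.chi_neg', GrpObj.comp_inv]

end Groth.Agent.S17556
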