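import Groth.Statements.S17557
import Groth.Agent.RootSys.FieldGen
-- import your own Groth.Agent.* helpers here

set_option autoImplicit false
universe u v
open CategoryTheory MonoidalCategory CartesianMonoidalCategory MonObj GrpObj AlgebraicGeometry
open LieWt

set_option backward.isDefEq.respectTransparency false

namespace Groth.Agent.S17557

/-- Let k be a field, G a reductive k-group scheme (affine, smooth, with connected reductive geometric
fibre), i : T ⟶ G a maximal torus which is split, L a Lie algebra over k identified with the Lie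
algebra of G over k by a model m, and α a root of (G, T) (a homomorphism to the multiplicative group
other than the trivial character, with non-zero weight space). Then the weight space of α in L is
one-dimensional over k. (A connected reductive group having a root is not solvable, so
non-solvability is not assumed separately here.) -/
theorem result (k : Type u) [Field k]
    (G T : Over (Spec (CommRingCat.of k))) [GrpObj G] [GrpObj T] (hG : Red.IsReductive G)
    (i : T ⟶ G) (hT : Red.IsMaximalTorus i) (M : Type) [AddCommGroup M] (hM : Red.IsSplitTorusWith M T)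
    (L : Type v) [LieRing L] [LieAlgebra k L]
    (m : LieS.Model G k (Spec.map (CommRingCat.ofHom (algebraMap k k))) L)
    (α : T ⟶ Red.Gm (Spec (CommRingCat.of k))) (hα : LieWt.IsRoot i α) :
    Module.finrank k ↥(LieWt.modelWeightSpOf m i α) = 1 := by
  obtain ⟨i1, i2, i3⟩ := RootSys.red_inst hG
  obtain ⟨E⟩ := hM
  haveI := RootSys.isMonHom_split hT.1 E
  obtain ⟨a, ha, rfl, v, hv, hv1⟩ := (RootSys.isRoot_iff i E α).1 hα
  haveI : Module.Free ℤ M := by
    obtain ⟨r, ⟨eM⟩⟩ := DynPar.exists_lattice (S := Spec (CommRingCat.of k)) hT.2.2.1 ⟨E⟩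
    exact Module.Free.of_equiv eM.symm.toIntLinearEquiv
  obtain ⟨y, hy⟩ := m.e.surjective v
  obtain ⟨x, rfl⟩ : ∃ x, Multiplicative.ofAdd x = y := ⟨y.toAdd, rfl⟩
  have hx : x ∈ LieWt.modelWeightSpOf m i (E.hom.hom.hom ≫ Red.chi _ a) := by
    show m.e (Multiplicative.ofAdd x) ∈ LieWt.weightSpOf i _ k
    rw [hy]; exact (RootSys.mem_weightSpOf_split i E a v).2 hv
  refine finrank_eq_one_iff'.2 ⟨⟨x, hx⟩, fun h => hv1 ?_, fun ⟨z, hz⟩ => ?_⟩
  · rw [← hy, show x = 0 from congrArg Subtype.val h, ofAdd_zero, map_one]
  · by_cases h1 : m.e (Multiplicative.ofAdd z) = 1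
    · refine ⟨0, Subtype.ext ?_⟩
      show (0 : k) • x = z
      rw [show z = 0 from congrArg Multiplicative.toAdd ((m.e.map_eq_one_iff).1 h1), zero_smul]
    · have hz' := (RootSys.mem_weightSpOf_split i E a _).1 hz
      rcases (RootSys.field_rank_one hG i hT E hv ha hv1).2 a _ hz' h1 ha ⟨1, 1, one_ne_zero, rfl⟩ with
        ⟨-, r, hr⟩ | h
      · refine ⟨r, Subtype.ext (Multiplicative.ofAdd.injective (m.e.injective ?_))⟩
        show m.e (Multiplicative.ofAdd (r • x)) = _
        rw [m.e_smul, hy, hr]
      · have h2 : (2 : ℤ) • a = 0 := by rw [two_zsmul]; nth_rw 1 [h]; rw [neg_add_cancel]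
        exact absurd ((smul_eq_zero.1 h2).resolve_left two_ne_zero) ha

end Groth.Agent.S17557
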