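import Groth.Statements.S17558
import Groth.Agent.RootSys.FieldGen
-- import your own Groth.Agent.* helpers here

set_option autoImplicit false
universe u v
open CategoryTheory MonoidalCategory CartesianMonoidalCategory MonObj GrpObj AlgebraicGeometry
open LieWt

set_option backward.isDefEq.respectTransparency false

namespace Groth.Agent.S17558

/-- Let k be a field, G a reductive k-group scheme (affine, smooth, with connected reductive geometric
fibre), i : T ⟶ G a maximal torus which is split, and α, β two roots of (G, T) (homomorphisms to the
multiplicative group other than the trivial character, with non-zero weight spaces on the Lie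
algebra of G over k). If β is a rational multiple of α in the character group, that is α ^ m = β ^ n
for some non-zero integers m and n (characters written multiplicatively), then β = α or β = α⁻¹: the
only rational multiples of a root which are roots are the root and its negative. (A connected
reductive group having a root is not solvable, so non-solvability is not assumed separately here.) -/
theorem result (k : Type u) [Field k]
    (G T : Over (Spec (CommRingCat.of k))) [GrpObj G] [GrpObj T] (hG : Red.IsReductive G)
    (i : T ⟶ G) (hT : Red.IsMaximalTorus i) (M : Type) [AddCommGroup M] (hM : Red.IsSplitTorusWith M T)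
    (α β : T ⟶ Red.Gm (Spec (CommRingCat.of k))) (hα : LieWt.IsRoot i α) (hβ : LieWt.IsRoot i β)
    (m n : ℤ) (hm : m ≠ 0) (hn : n ≠ 0) (hmn : α ^ m = β ^ n) :
    β = α ∨ β = α⁻¹ := by
  obtain ⟨i1, i2, i3⟩ := RootSys.red_inst hG
  obtain ⟨E⟩ := hM
  haveI := RootSys.isMonHom_split hT.1 E
  obtain ⟨a, ha, rfl, v, hv, hv1⟩ := (RootSys.isRoot_iff i E α).1 hα
  obtain ⟨b, hb, rfl, w, hw, hw1⟩ := (RootSys.isRoot_iff i E β).1 hβ
  have h2 : E.inv.hom.hom ≫ E.hom.hom.hom = 𝟙 _ := congrArg (fun z => z.hom.hom) E.inv_hom_id
  rw [← RootSys.comp_zpow', ← RootSys.comp_zpow', RootSys.chi_zpow, RootSys.chi_zpow] at hmn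
  have hab : m • a = n • b := RootSys.chi_injective (k := k) M (by
    have := congr(E.inv.hom.hom ≫ $hmn)
    rwa [reassoc_of% h2, reassoc_of% h2] at this)
  rcases (RootSys.field_rank_one hG i hT E hv ha hv1).2 b w hw hw1 hb ⟨m, n, hn, hab.symm⟩ with ⟨rfl, -⟩ | rfl
  · exact Or.inl rfl
  · exact Or.inr (by rw [RootSys.chi_neg', GrpObj.comp_inv])

end Groth.Agent.S17558
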