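import Groth.Statements.S17559
import Groth.Agent.RootSys.TwoBorel
import Groth.Agent.S17555
-- import your own Groth.Agent.* helpers here

set_option autoImplicit false
universe u v
open CategoryTheory MonoidalCategory CartesianMonoidalCategory MonObj GrpObj AlgebraicGeometry
open LieWt

set_option backward.isDefEq.respectTransparency false

namespace Groth.Agent.S17559

/-- Let k be an algebraically closed field, H a reductive k-group scheme (affine, smooth, with connected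
reductive geometric fibre) which is not solvable, and i : S ⟶ H a maximal torus (maximal among the
subtori of H) such that any two roots of (H, S), that is non-trivial characters of S whose weight
spaces for the adjoint action of S on the Lie algebra of H over k are non-zero, are rational
multiples of each other in the character group. Then S lies in exactly two Borel subgroups of H:
Borel subgroups b₁ : B₁ ⟶ H and b₂ : B₂ ⟶ H through which i factors, with B₁ not contained in B₂,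
such that every Borel subgroup of H through which i factors is contained in B₁ or in B₂; and B₁, B₂
generate H: every closed subgroup scheme of H containing B₁ and B₂ is all of H. (The set of roots is
allowed to be empty in the hypothesis.) -/
theorem result (k : Type u) [Field k] [IsAlgClosed k]
    (H S : Over (Spec (CommRingCat.of k))) [GrpObj H] [GrpObj S] (hH : Red.IsReductive H) (hns : ¬ Red.IsSolvableGrp H)
    (i : S ⟶ H) (hS : AGF.IsMaxTorus i)
    (hprop : ∀ α β : S ⟶ Red.Gm (Spec (CommRingCat.of k)), LieWt.IsRoot i α → LieWt.IsRoot i β →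
      ∃ m n : ℤ, m ≠ 0 ∧ n ≠ 0 ∧ α ^ m = β ^ n) :
    ∃ (B₁ B₂ : Over (Spec (CommRingCat.of k))) (_ : GrpObj B₁) (_ : GrpObj B₂) (b₁ : B₁ ⟶ H) (b₂ : B₂ ⟶ H)
      (t₁ : S ⟶ B₁) (t₂ : S ⟶ B₂),
      Red.IsBorelOver k b₁ ∧ Red.IsBorelOver k b₂ ∧ t₁ ≫ b₁ = i ∧ t₂ ≫ b₂ = i ∧
      (¬ ∃ e : B₁ ⟶ B₂, e ≫ b₂ = b₁) ∧
      (∀ (B : Over (Spec (CommRingCat.of k))) [GrpObj B] (b : B ⟶ H) (t : S ⟶ B), Red.IsBorelOver k b → t ≫ b = i →
        (∃ e : B ⟶ B₁, e ≫ b₁ = b) ∨ (∃ e : B ⟶ B₂, e ≫ b₂ = b)) ∧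
      (∀ (C : Over (Spec (CommRingCat.of k))) [GrpObj C] (c : C ⟶ H) [IsMonHom c], IsClosedImmersion c.left →
        (∃ f₁ : B₁ ⟶ C, f₁ ≫ c = b₁) → (∃ f₂ : B₂ ⟶ C, f₂ ≫ c = b₂) → IsIso c) := by
  obtain ⟨i1, i2, i3⟩ := RootSys.red_inst hH
  have hT := Chev.Borel.isMaximalTorus_of_isMaxTorus i hS
  obtain ⟨r, ⟨E⟩⟩ := Chev.Borel.split_of_isTorus hS.2.2.1
  haveI := RootSys.isMonHom_split hS.1 E
  obtain ⟨α, hα⟩ := S17555.result k H S hH hns i hT (Fin r → ℤ) ⟨E⟩
  obtain ⟨d₀, hd₀, rfl, v₀, hv₀, hv₀1⟩ := (RootSys.isRoot_iff i E α).1 hα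
  let E' : Red.DS (Spec (CommRingCat.of k)) (Fin r → ℤ) ≅ S := (Grp.forget _).mapIso E.symm
  haveI : IsMonHom E'.hom := E.inv.hom.isMonHom_hom
  have hj : AGF.IsMaxTorus (E.inv.hom.hom ≫ i) := RootSys.isMaxTorus_comp_iso hS E'
  have h1 : E.hom.hom.hom ≫ E.inv.hom.hom = 𝟙 S := congrArg (fun z => z.hom.hom) E.hom_inv_id
  have h2 : E.inv.hom.hom ≫ E.hom.hom.hom = 𝟙 _ := congrArg (fun z => z.hom.hom) E.inv_hom_id
  have hprop' : ∀ (e : Fin r → ℤ) (w : LieS.Lie H k (RootSys.fk k)), RootSys.IsWt (E.inv.hom.hom ≫ i) w e → w ≠ 1 →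
      e ≠ 0 → ∃ a b : ℤ, b ≠ 0 ∧ b • e = a • d₀ := fun e w hw hw1 he => by
    obtain ⟨m, n, -, hn, hmn⟩ := hprop _ _ hα ((RootSys.isRoot_iff i E _).2 ⟨e, he, rfl, w, hw, hw1⟩)
    rw [← RootSys.comp_zpow', ← RootSys.comp_zpow', RootSys.chi_zpow, RootSys.chi_zpow] at hmn
    refine ⟨m, n, hn, (RootSys.chi_injective (k := k) _ ?_).symm⟩
    have := congr(E.inv.hom.hom ≫ $hmn)
    rwa [reassoc_of% h2, reassoc_of% h2] at this
  have hf : Spec.map (CommRingCat.ofHom (RingHom.id k)) ≫ RootSys.fk k = 𝟙 _ := by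
    rw [RootSys.fk, Algebra.algebraMap_self, CommRingCat.ofHom_id, Spec.map_id, Category.comp_id]
  obtain ⟨B₁, B₂, g₁, g₂, b₁, b₂, t₁, t₂, hB₁, hB₂, ht₁, ht₂, hne, htwo, hgen⟩ :=
    RootSys.two_borel_main (RootSys.isReductiveOver_of_isReductive hH) _ hj (hv₀.pl (RingHom.id k) hf) hd₀
      (fun h => hv₀1 (DynPar.Der.dv_injective (funext fun x => by
        rw [DynPar.Der.dv_one, ← RingHom.id_apply (DynPar.Der.dv v₀ x), ← DynPar.Der.dv_pl _ hf v₀ x, h,
          DynPar.Der.dv_one]))) hprop'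
  refine ⟨B₁, B₂, g₁, g₂, b₁, b₂, E.hom.hom.hom ≫ t₁, E.hom.hom.hom ≫ t₂, hB₁, hB₂, ?_, ?_, hne,
    fun B _ b t hB ht => htwo B b (E.inv.hom.hom ≫ t) hB (by rw [Category.assoc, ht]), hgen⟩
  · rw [Category.assoc, ht₁, reassoc_of% h1]
  · rw [Category.assoc, ht₂, reassoc_of% h1]

end Groth.Agent.S17559
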