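import Groth.Statements.S17560
import Groth.Agent.RootSys.DerivedRoot
import Groth.Agent.RootSys.CentralChar
import Groth.Agent.S3006
import Groth.Agent.LieWeight.Central
import Groth.Agent.GrpField.Kernel
import Groth.Agent.RootIntrinsic.CentreRoots
import Groth.Agent.Chev.TorusBasic
import Groth.Agent.Chev.CharQuot
-- import your own Groth.Agent.* helpers here

set_option autoImplicit false
universe u v
open CategoryTheory MonoidalCategory CartesianMonoidalCategory MonObj GrpObj AlgebraicGeometry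
open LieWt

set_option backward.isDefEq.respectTransparency false

namespace Groth.Agent.S17560

/-- Let k be a field, G a reductive k-group scheme (affine, smooth, with connected reductive geometric
fibre), i : T ⟶ G a maximal torus which is split, α a root of (G, T) (a homomorphism to the
multiplicative group other than the trivial character, with non-zero weight space on the Lie algebra
of G over k), j : T_α ⟶ T the largest subtorus of T killed by α (a subtorus on which α is trivial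
and through which every subtorus of T killed by α factors), z : Z ⟶ G the scheme-theoretic
centralizer of T_α in G, and d : D ⟶ Z the derived group of Z, pinned as the kernel of a
homomorphism from Z to a commutative k-group scheme which is killed by every homomorphism from Z to
a commutative k-group scheme. Then there is a unique homomorphism λ : 𝔾_m ⟶ T whose composite with i
factors through D (so that λ lands in the subtorus S_α = T ∩ D) and whose composite with α is the
character t ↦ t² of 𝔾_m: the coroot α^∨, with ⟨α, α^∨⟩ = 2. (The equivalent description through the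
conjugation action of α^∨ on a parametrised root group, and the description of α^∨ as an isomorphism
onto S_α when D is isomorphic to SL_2 and as an isogeny of degree 2 onto S_α when D is isomorphic to
the quotient of SL_2 by its centre, are not restated.) -/
theorem result (k : Type u) [Field k]
    (G T : Over (Spec (CommRingCat.of k))) [GrpObj G] [GrpObj T] (hG : Red.IsReductive G)
    (i : T ⟶ G) (hT : Red.IsMaximalTorus i) (M : Type) [AddCommGroup M] (hM : Red.IsSplitTorusWith M T)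
    (α : T ⟶ Red.Gm (Spec (CommRingCat.of k))) (hα : LieWt.IsRoot i α)
    (Ta : Over (Spec (CommRingCat.of k))) [GrpObj Ta] (j : Ta ⟶ T) [IsMonHom j] [Mono j] (hTa : Red.IsTorus Ta) (hjα : j ≫ α = 1)
    (hmax : ∀ (T' : Over (Spec (CommRingCat.of k))) [GrpObj T'] (j' : T' ⟶ T) [IsMonHom j'] [Mono j'],
      Red.IsTorus T' → j' ≫ α = 1 → ∃ f : T' ⟶ Ta, f ≫ j = j')
    (Z : Over (Spec (CommRingCat.of k))) [GrpObj Z] (z : Z ⟶ G) (hz : Red.IsCentralizerOf (j ≫ i) z)
    (D : Over (Spec (CommRingCat.of k))) [GrpObj D] (d : D ⟶ Z) [IsMonHom d]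
    (hker : ∃ (C : Over (Spec (CommRingCat.of k))) (_ : GrpObj C) (f₀ : Z ⟶ C), IsMonHom f₀ ∧
      (∀ (X : Over (Spec (CommRingCat.of k))) (a b : X ⟶ C), a * b = b * a) ∧ AlgGrp.IsKernel d f₀)
    (hkill : RedSub.KilledByCommutative d) :
    ∃! lam : Red.Gm (Spec (CommRingCat.of k)) ⟶ T, IsMonHom lam ∧ (∃ c : Red.Gm (Spec (CommRingCat.of k)) ⟶ D, c ≫ d ≫ z = lam ≫ i) ∧
      lam ≫ α = Red.chi (Spec (CommRingCat.of k)) (2 : ℤ) := by
  obtain ⟨i1, i2, i3⟩ := RootSys.red_inst hG
  obtain ⟨E⟩ := hM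
  haveI := RootSys.isMonHom_split hT.1 E
  haveI : IsMonHom i := hT.1
  haveI : Mono i := hT.2.1
  obtain ⟨a, ha, rfl, v₀, hv₀, hv₀1⟩ := (RootSys.isRoot_iff i E α).1 hα
  obtain ⟨r, ⟨eM⟩⟩ := DynPar.exists_lattice (S := Spec (CommRingCat.of k)) hT.2.2.1 ⟨E⟩
  haveI : Module.Free ℤ M := Module.Free.of_equiv eM.symm.toIntLinearEquiv
  haveI : Module.Finite ℤ M := Module.Finite.equiv eM.symm.toIntLinearEquiv
  haveI : IsMonHom E.inv.hom.hom := E.inv.hom.isMonHom_hom
  haveI : IsMonHom E.hom.hom.hom := E.hom.hom.isMonHom_hom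
  have h1 : E.hom.hom.hom ≫ E.inv.hom.hom = 𝟙 T := congrArg (fun z => z.hom.hom) E.hom_inv_id
  have h2 : E.inv.hom.hom ≫ E.hom.hom.hom = 𝟙 _ := congrArg (fun z => z.hom.hom) E.inv_hom_id
  haveI : IsIso E.inv.hom.hom := inferInstanceAs (IsIso ((Grp.forget _).map E.inv))
  let j₀ := E.inv.hom.hom ≫ i
  haveI : Mono j₀ := mono_comp _ _
  -- the centralizer is affine of finite type
  haveI := hz.1; haveI := hz.2.1
  haveI : IsAffine Ta.left := Chev.isAffine_of_isTorus hTa
  haveI : LocallyOfFiniteType Ta.hom := Chev.locallyOfFiniteType_of_isTorus hTa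
  haveI : IsSeparated G.hom := GrpField.isSeparated_hom G
  haveI : Mono (j ≫ i) := mono_comp _ _
  haveI : Subsingleton (Spec (CommRingCat.of k)) := inferInstanceAs (Subsingleton (PrimeSpectrum k))
  haveI : Nonempty (Spec (CommRingCat.of k)) := inferInstanceAs (Nonempty (PrimeSpectrum k))
  haveI : QuasiCompact (j ≫ i).left := inferInstance
  have hq : IsClosedImmersion (j ≫ i).left := GrpField.isClosedImmersion_of_mono (f := j ≫ i)
  haveI : LocallyOfFinitePresentation G.hom := inferInstance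
  obtain ⟨⟨Z', _, z', hz', hzc', -⟩, -⟩ := S3006.result (Spec (CommRingCat.of k)) G Ta (j ≫ i) hq hTa
  haveI := hz'.2.1
  have hzc : IsClosedImmersion z.left := by
    obtain ⟨e, he⟩ := (hz'.2.2 Z z).2 ((hz.2.2 Z z).1 ⟨𝟙 _, Category.id_comp z⟩)
    obtain ⟨e', he'⟩ := (hz.2.2 Z' z').2 ((hz'.2.2 Z' z').1 ⟨𝟙 _, Category.id_comp z'⟩)
    haveI : IsIso e := ⟨e', (cancel_mono z).1 (by rw [Category.assoc, he', he, Category.id_comp]),
      (cancel_mono z').1 (by rw [Category.assoc, he, he', Category.id_comp])⟩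
    haveI : IsIso e.left := inferInstanceAs (IsIso ((Over.forget _).map e))
    rw [← he, Over.comp_left]
    haveI := hzc'
    infer_instance
  haveI := hzc
  haveI : IsAffine Z.left := isAffine_of_isAffineHom z.left
  haveI : LocallyOfFiniteType Z.hom := by rw [← Over.w z]; infer_instance
  -- the torus lies in the centralizer
  have hcommT : ∀ (X : Over (Spec (CommRingCat.of k))) (s t : X ⟶ T), s * t = t * s := fun X s t =>
    RedR1.mul_comm_torus hT.2.2.1 s t
  obtain ⟨i', hi'⟩ := (hz.2.2 T i).2 fun X x h => by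
    rw [← Category.assoc, ← MonObj.mul_comp, ← MonObj.mul_comp, hcommT]
  haveI : IsMonHom i' := HomDiag.isMonHom_of_mul i' fun X s t => (cancel_mono z).1 (by
    simp only [MonObj.mul_comp _ _ z, Category.assoc, hi', MonObj.mul_comp _ _ i])
  let j₁ := E.inv.hom.hom ≫ i'
  have hj₁ : j₁ ≫ z = j₀ := by simp only [j₁, j₀, Category.assoc, hi']
  haveI : Mono j₁ := by
    haveI : Mono (j₁ ≫ z) := by rw [hj₁]; infer_instance
    exact mono_of_mono j₁ z
  -- the coroot
  obtain ⟨e, he⟩ := RootSys.exists_isCorootOf hG hT (E := E) (a := a) ⟨ha, v₀, hv₀, hv₀1⟩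
  have hlift : ∀ (b : M) (w : Red.Ga (Spec (CommRingCat.of k)) ⟶ G),
      Red.IsRootHom j₀ (Red.chi _ b) w → (b = a ∨ b = -a) → ∃ w' : Red.Ga (Spec (CommRingCat.of k)) ⟶ Z, w' ≫ z = w := by
    intro b w hw hb
    refine (hz.2.2 _ w).2 fun X x h => ?_
    have hw' := (RootSys.rootHom_split_iff i E b w).1 hw
    obtain ⟨y, hy, hy'⟩ := hw'.2.2 X (h ≫ j) x
    let s := (h ≫ j) ≫ E.hom.hom.hom
    have hsa : HomDiag.ch s (Multiplicative.ofAdd a) = 1 := by
      rw [← RootIntrinsic.gmFn_chi, show s ≫ Red.chi _ a = h ≫ j ≫ E.hom.hom.hom ≫ Red.chi _ a by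
        simp only [s, Category.assoc], hjα, MonObj.comp_one, RootIntrinsic.gmFn_one_eq]
    have hsb : Red.gmFn ((h ≫ j) ≫ E.hom.hom.hom ≫ Red.chi _ b) = 1 := by
      rw [← Category.assoc, RootIntrinsic.gmFn_chi]
      rcases hb with rfl | rfl
      · exact hsa
      · have h3 : HomDiag.ch s (Multiplicative.ofAdd (-a)) * HomDiag.ch s (Multiplicative.ofAdd a) = 1 := by
          rw [← map_mul, ← ofAdd_add, neg_add_cancel, ofAdd_zero, map_one]
        rwa [hsa, _root_.mul_one] at h3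
    have hyx : y = x := BGaNotS.gaPt_ext (by rw [hy', hsb, _root_.one_mul])
    rw [hyx, Category.assoc, eq_mul_inv_iff_mul_eq] at hy
    exact hy
  obtain ⟨u, v, c, hu, hv, hc, hea, H⟩ := he
  obtain ⟨u', hu'⟩ := hlift a u hu (Or.inl rfl)
  obtain ⟨v', hv'⟩ := hlift (-a) v hv (Or.inr rfl)
  have he' : RootSys.IsCorootOf j₁ a e := ⟨u', v', c, RootSys.rootHom_of_mono hj₁ hu hu' hzc,
    RootSys.rootHom_of_mono hj₁ hv hv' hzc, hc, hea, RootSys.sl2Rel_of_mono hj₁ H hu' hv'⟩
  obtain ⟨C, gC, f₀, hf₀, hC, hK⟩ := hker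
  have hkillL := RootSys.comp_coroot_eq_one he' f₀ hC
  let L : Red.Gm (Spec (CommRingCat.of k)) ⟶ Z := Red.DSmap _ e ≫ j₁
  obtain ⟨cL, hcL⟩ : ∃ cL : Red.Gm (Spec (CommRingCat.of k)) ⟶ D, cL ≫ d = L := by
    refine ⟨hK.lift L (toUnit _) ?_, hK.lift_fst _ _ _⟩
    rw [Category.assoc, hkillL, Hom.one_def]
  haveI : IsMonHom (Red.DSmap (Spec (CommRingCat.of k)) e) := inferInstance
  have hchi : ∀ θ : M →+ ℤ, Red.DSmap (Spec (CommRingCat.of k)) θ ≫ Red.chi _ a = Red.chi _ (θ a) := fun θ => by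
    rw [Red.chi, RootIntrinsic.DSmap_comp_apply]
    exact congrArg (Red.DSmap _) (AddMonoidHom.ext_int (by simp))
  refine ⟨Red.DSmap _ e ≫ E.inv.hom.hom, ⟨inferInstance, ⟨cL, ?_⟩, ?_⟩, ?_⟩
  · rw [← Category.assoc, hcL]
    simp only [L, j₁, Category.assoc, hi']
  · rw [Category.assoc, reassoc_of% h2, hchi, hea]
  haveI : AddGroup.FG M := Module.Finite.iff_addGroup_fg.1 inferInstance
  rintro lam ⟨hlam, ⟨cl, hcl⟩, hlamα⟩
  haveI := hlam
  obtain ⟨θ, hθ⟩ := Chev.CharQuot.exists_DSmap (k := k) (M := ℤ) (N := M) (lam ≫ E.hom.hom.hom)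
  have hlamE : lam = Red.DSmap _ θ ≫ E.inv.hom.hom := by rw [← hθ, Category.assoc, h1, Category.comp_id]
  have hθa : θ a = 2 := by
    rw [hlamE, Category.assoc, reassoc_of% h2, hchi] at hlamα
    exact RootSys.chi_injective (k := k) ℤ hlamα
  have hθD : cl ≫ d = Red.DSmap _ θ ≫ j₁ := (cancel_mono z).1 (by
    rw [Category.assoc, hcl, hlamE]; simp only [j₁, Category.assoc, hi'])
  let f := θ - e
  have hfa : f a = 0 := by rw [AddMonoidHom.sub_apply, hθa, hea, sub_self]
  haveI : IsMonHom (Red.DSmap (Spec (CommRingCat.of k)) f) := inferInstance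
  have hχ : ∀ (χ : Z ⟶ Red.Gm (Spec (CommRingCat.of k))) [IsMonHom χ],
      (Red.DSmap _ f ≫ j₁) ≫ χ = 1 := by
    intro χ _
    have hcm : ∀ (X : Over (Spec (CommRingCat.of k))) (s t : X ⟶ Red.Gm (Spec (CommRingCat.of k))), s * t = t * s :=
      fun X s t => HomDiag.ch_ext fun m => by rw [HomDiag.ch_mul, HomDiag.ch_mul, mul_comm]
    have hd := hkill _ χ hcm
    have hsum : Red.DSmap (Spec (CommRingCat.of k)) f * Red.DSmap _ e = Red.DSmap _ θ := HomDiag.ch_ext fun m => by
      rw [HomDiag.ch_mul, ← Category.id_comp (Red.DSmap _ f), ← Category.id_comp (Red.DSmap _ e),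
        ← Category.id_comp (Red.DSmap _ θ), HomDiag.ch_DSmap, HomDiag.ch_DSmap, HomDiag.ch_DSmap, ← map_mul,
        ← ofAdd_add, ← AddMonoidHom.add_apply, sub_add_cancel]
    have h3 := congrArg (· ≫ j₁ ≫ χ) hsum
    have he1 : Red.DSmap _ e ≫ j₁ ≫ χ = 1 :=
      (Category.assoc _ _ χ).symm.trans ((congrArg (· ≫ χ) hcL.symm).trans
        ((Category.assoc cL d χ).trans ((congrArg (cL ≫ ·) hd).trans (MonObj.comp_one cL))))
    have hθ1 : Red.DSmap _ θ ≫ j₁ ≫ χ = 1 :=
      (Category.assoc _ _ χ).symm.trans ((congrArg (· ≫ χ) hθD.symm).trans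
        ((Category.assoc cl d χ).trans ((congrArg (cl ≫ ·) hd).trans (MonObj.comp_one cl))))
    rw [MonObj.mul_comp, he1, hθ1, _root_.mul_one] at h3
    rw [Category.assoc]; exact h3
  have hcen : ∀ (X : Over (Spec (CommRingCat.of k))) (g : X ⟶ Z) (s : X ⟶ Red.DS (Spec (CommRingCat.of k)) ℤ),
      g * (s ≫ Red.DSmap _ f ≫ j₁) = (s ≫ Red.DSmap _ f ≫ j₁) * g := by
    intro X g s
    by_cases hf : f = 0
    · rw [hf, Chev.CharQuot.DSmap_zero (k := k) (0 : M →+ ℤ) fun _ => rfl, MonObj.one_comp, MonObj.comp_one, _root_.mul_one, _root_.one_mul]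
    obtain ⟨gg, hgg⟩ := Int.subgroup_cyclic f.range
    have hdvd : ∀ m, gg ∣ f m := fun m => by
      have : f m ∈ f.range := ⟨m, rfl⟩
      rw [hgg, AddSubgroup.mem_closure_singleton] at this
      obtain ⟨n, hn⟩ := this
      exact ⟨n, by rw [← hn, smul_eq_mul, mul_comm]⟩
    have hg0 : gg ≠ 0 := fun h => hf (AddMonoidHom.ext fun m => by
      obtain ⟨n, hn⟩ := hdvd m
      rw [hn, h, zero_mul, AddMonoidHom.zero_apply])
    let f₁ : M →+ (Fin 1 → ℤ) := AddMonoidHom.mk' (fun m _ => f m / gg) fun x y => funext fun _ => by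
      rw [map_add, Int.add_ediv_of_dvd_left (hdvd x)]; rfl
    have hsurj : Function.Surjective f₁ := fun w => by
      have : gg ∈ f.range := by rw [hgg]; exact AddSubgroup.subset_closure rfl
      obtain ⟨m, hm⟩ := this
      refine ⟨w 0 • m, funext fun l => ?_⟩
      rw [map_zsmul]
      show w 0 * (f m / gg) = w l
      rw [hm, Int.ediv_self hg0, _root_.mul_one, Subsingleton.elim l 0]
    haveI := LieWeight.mono_DSmap (S := Spec (CommRingCat.of k)) f₁ hsurj
    haveI : Mono (Red.DSmap (Spec (CommRingCat.of k)) f₁ ≫ E.inv.hom.hom) := mono_comp _ _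
    obtain ⟨q, hq⟩ := hmax _ (Red.DSmap _ f₁ ≫ E.inv.hom.hom) (Chev.CharQuot.isTorus_DS 1) (by
      rw [Category.assoc, reassoc_of% h2, Red.chi, RootIntrinsic.DSmap_comp_apply]
      refine Chev.CharQuot.DSmap_zero (k := k) _ fun n => funext fun _ => ?_
      show f ((zmultiplesHom M a) n) / gg = 0
      rw [zmultiplesHom_apply, map_zsmul, hfa, smul_zero, Int.zero_ediv])
    let θg : (Fin 1 → ℤ) →+ ℤ := (gg • AddMonoidHom.id ℤ).comp (Pi.evalAddMonoidHom _ 0)
    have hfg : Red.DSmap (Spec (CommRingCat.of k)) f = Red.DSmap _ θg ≫ Red.DSmap _ f₁ := by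
      rw [RootIntrinsic.DSmap_comp_apply]
      refine congrArg (Red.DSmap _) (AddMonoidHom.ext fun m => ?_)
      show f m = gg • (f m / gg)
      rw [smul_eq_mul, Int.mul_ediv_cancel' (hdvd m)]
    have hs : (s ≫ Red.DSmap _ f ≫ j₁) ≫ z = ((s ≫ Red.DSmap _ θg) ≫ q) ≫ j ≫ i := by
      rw [hfg]
      simp only [Category.assoc, hj₁, j₀]
      rw [← Category.assoc (Red.DSmap _ f₁), ← hq, Category.assoc]
    refine (cancel_mono z).1 ?_
    rw [MonObj.mul_comp, MonObj.mul_comp, hs]
    have h := (hz.2.2 X (g ≫ z)).1 ⟨g, rfl⟩ X (𝟙 X) ((s ≫ Red.DSmap _ θg) ≫ q)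
    rwa [Category.id_comp] at h
  have hone := RootSys.central_eq_one (Red.DSmap _ f ≫ j₁) hcen hχ
  have hf0 : f = 0 := RootIntrinsic.DSmap_injective (k := k) (by
    rw [Chev.CharQuot.DSmap_zero (k := k) (0 : M →+ ℤ) fun _ => rfl]
    exact (cancel_mono j₁).1 (hone.trans (MonObj.one_comp _).symm))
  rw [hlamE, sub_eq_zero.1 hf0]

end Groth.Agent.S17560
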