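import Groth.Statements.S17566
import Groth.Agent.RootSys.RootGroup
-- import your own Groth.Agent.* helpers here

set_option autoImplicit false
universe u v
open CategoryTheory MonoidalCategory CartesianMonoidalCategory MonObj GrpObj AlgebraicGeometry
open LieWt

set_option backward.isDefEq.respectTransparency false

namespace Groth.Agent.S17566

/-- Let k be a field, G a reductive k-group scheme (affine, smooth, with connected reductive geometric
fibre), i : T ⟶ G a maximal torus which is split, α a root of (G, T) (a homomorphism to the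
multiplicative group other than the trivial character, with non-zero weight space on the Lie algebra
of G over k), and u₁ : U₁ ⟶ G, u₂ : U₂ ⟶ G two closed subgroup schemes which are smooth and
connected, normalized by T (conjugates of points of U_j by points of T are points of U_j), and whose
Lie algebras over k, as subgroups of the Lie algebra of G over k, are both equal to the weight space
of α. Then U₁ and U₂ are the same subgroup of G (there is an isomorphism U₁ ≅ U₂ over G), and U₁ is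
isomorphic to the additive group 𝔾_a as a k-group scheme (existence of an isomorphism). The
existence of such a subgroup, the root group U_a, is not restated here. -/
theorem result (k : Type u) [Field k]
    (G T : Over (Spec (CommRingCat.of k))) [GrpObj G] [GrpObj T] (hG : Red.IsReductive G)
    (i : T ⟶ G) (hT : Red.IsMaximalTorus i) (M : Type) [AddCommGroup M] (hM : Red.IsSplitTorusWith M T)
    (α : T ⟶ Red.Gm (Spec (CommRingCat.of k))) (hα : LieWt.IsRoot i α)
    (U₁ U₂ : Over (Spec (CommRingCat.of k))) [GrpObj U₁] [GrpObj U₂] (u₁ : U₁ ⟶ G) (u₂ : U₂ ⟶ G) [IsMonHom u₁] [IsMonHom u₂]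
    (hc₁ : IsClosedImmersion u₁.left) (hc₂ : IsClosedImmersion u₂.left)
    [Smooth U₁.hom] [Smooth U₂.hom] [ConnectedSpace ↥U₁.left] [ConnectedSpace ↥U₂.left]
    (hn₁ : ∀ (X : Over (Spec (CommRingCat.of k))) (t : X ⟶ T) (x : X ⟶ U₁), ∃ x' : X ⟶ U₁,
      (t ≫ i) * (x ≫ u₁) * (t ≫ i)⁻¹ = x' ≫ u₁)
    (hn₂ : ∀ (X : Over (Spec (CommRingCat.of k))) (t : X ⟶ T) (x : X ⟶ U₂), ∃ x' : X ⟶ U₂,
      (t ≫ i) * (x ≫ u₂) * (t ≫ i)⁻¹ = x' ≫ u₂)
    (hl₁ : Subgroup.map (LieS.map k _ u₁) ⊤ = LieWt.weightSpOf i α k)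
    (hl₂ : Subgroup.map (LieS.map k _ u₂) ⊤ = LieWt.weightSpOf i α k) :
    (∃ e : U₁ ≅ U₂, e.hom ≫ u₂ = u₁) ∧ Nonempty (Grp.mk U₁ ≅ Grp.mk (Red.Ga (Spec (CommRingCat.of k)))) := by
  obtain ⟨i1, i2, i3⟩ := RootSys.red_inst hG
  obtain ⟨E⟩ := hM
  haveI := RootSys.isMonHom_split hT.1 E
  obtain ⟨d, hd, rfl, v₀, hv₀, hv₀1⟩ := (RootSys.isRoot_iff i E α).1 hα
  have hv₀m := (RootSys.mem_weightSpOf_split i E d v₀).2 hv₀
  have hdata : ∀ (U : Over (Spec (CommRingCat.of k))) [GrpObj U] (u : U ⟶ G) [IsMonHom u],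
      Subgroup.map (LieS.map k _ u) ⊤ = LieWt.weightSpOf i (E.hom.hom.hom ≫ Red.chi _ d) k →
      (∃ w : LieS.Lie U k (RootSys.fk k), LieS.map k _ u w = v₀) ∧
      ∀ w : LieS.Lie U k (RootSys.fk k), RootSys.IsWt (E.inv.hom.hom ≫ i) (LieS.map k _ u w) d := by
    intro U _ u _ h
    refine ⟨?_, fun w => (RootSys.mem_weightSpOf_split i E d _).1 (h.le ⟨w, trivial, rfl⟩)⟩
    obtain ⟨w, -, hw⟩ := h.ge hv₀m
    exact ⟨w, hw⟩
  obtain ⟨U, _, u, _, hu, -, -, -, -, -, huniq⟩ := RootSys.exists_rootGroup hG i hT E hd hv₀ hv₀1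
  obtain ⟨h11, h12⟩ := hdata U₁ u₁ hl₁
  obtain ⟨h21, h22⟩ := hdata U₂ u₂ hl₂
  obtain ⟨e₁, he₁⟩ := huniq U₁ u₁ hc₁ inferInstance inferInstance hn₁ h11 h12
  obtain ⟨e₂, he₂⟩ := huniq U₂ u₂ hc₂ inferInstance inferInstance hn₂ h21 h22
  refine ⟨⟨e₁ ≪≫ e₂.symm, ?_⟩, ?_⟩
  · rw [Iso.trans_hom, Iso.symm_hom, Category.assoc, ← he₂, Iso.inv_hom_id_assoc, he₁]
  · haveI := hc₁
    haveI : IsAffine U₁.left := isAffine_of_isAffineHom u₁.left
    obtain ⟨⟨e, he, -⟩, -⟩ := RootSys.rootGroup_struct hG i hT E hd u₁ hc₁ hn₁ hv₀ hv₀1 h11 h12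
    haveI := he
    exact ⟨Grp.mkIso' e⟩

end Groth.Agent.S17566
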