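import Groth.Statements.S17572
import Groth.Agent.BivarOps.Basic
import Groth.Agent.CycPB.ChernOp
import Groth.Agent.CycPB.ProjExist
-- import your own Groth.Agent.* helpers here

set_option autoImplicit false
set_option backward.isDefEq.respectTransparency false
set_option backward.isDefEq.respectTransparency.types false
set_option maxHeartbeats 800000
universe u
open CategoryTheory AlgebraicGeometry
open Bivar

namespace Groth.Agent.S17572

theorem chern_rep {X : Scheme.{u}} {δX : X → ℤ} {r : ℕ} (c : (j : ℕ) → Bivar.OpCl (j : ℤ) X δX)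
    (h0 : c 0 = Bivar.OpCl.one X δX) (s : Bivar.OSq X δX) {k : ℤ} (α : AlgebraicCycle s.Y ℤ) (hα : α ∈ Cyc.Zk s.Y s.δ k) :
    ∃ (ζ : Fin (r + 1) → AlgebraicCycle s.Y ℤ) (hζ : ∀ j : Fin (r + 1), ζ j ∈ Cyc.Zk s.Y s.δ (k - ((j : ℕ) : ℤ))),
      ζ 0 = α ∧ ∀ j : Fin (r + 1), (c j).op s k (ChowOps.cl α hα) = ChowOps.cl (ζ j) (hζ j) := by
  choose ζ₀ hζ₀ e₀ using fun j : Fin (r + 1) => Bivar.exists_rep ((c j).op s k (ChowOps.cl α hα))
  refine ⟨Function.update ζ₀ 0 α, fun j => ?_, Function.update_self _ _ _, fun j => ?_⟩
  · by_cases hj : j = 0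
    · subst hj
      rw [Function.update_self]
      simpa using hα
    · rw [Function.update_of_ne hj]
      exact hζ₀ j
  · by_cases hj : j = 0
    · subst hj
      simp only [Function.update_self]
      show (c 0).op s k _ = _
      rw [h0]
      exact Bivar.chCast_cl _ _ _ _ _
    · simp only [Function.update_of_ne hj]
      exact (e₀ j).symm

/-- Fix a finite locally free O_X-module E whose rank is r. Let π : P → X denote the projective bundle
attached to E and put ξ := c_1(O_P(1)); then the c_j(E) ∩ α form the only sequence of classes α_j,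
starting with α_0 = α, such that the alternating sum, taken over indices i from 0 up to r, of the
terms (−1)^i ξ^i ∩ π^*α_{r−i} vanishes in CH_*(P). Consequently two families of operational classes
c, c' : ℕ → A^*(X) which both are Chern classes of E in the sense of the binder Bivar.IsChernClasses
E r (c_0 = 1, c_j = 0 for j > r, and on every test scheme g : Y → X, every projective bundle of g^*E
with induced dimension function and every k-cycle α on Y, all representatives of the c_j ∩ [α]
satisfy that relation up to rational equivalence on P) coincide. Here a pair (X, δ) with Cyc.IsSetup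
plays the role of a scheme locally of finite type over the base (S, δ) (X locally Noetherian with
universally catenary local rings, δ a dimension function), Cyc.DeltaCompat records that a dimension
function is the induced one, and bivariant classes are taken in the operational sense of the
prelude: additive operations on the Chow groups CH_k (k-cycles modulo rational equivalence) of all
test schemes, compatible with proper pushforward, flat pullback and the Gysin maps of zero schemes
of sections of invertible modules in representative form (Bivar.Cl for A^p(X → Y), Bivar.OpCl for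
A^p(X)). -/
theorem result (X : Scheme.{u}) (δX : X → ℤ) (hX : Cyc.IsSetup X δX) (E : X.Modules) (r : ℕ) (hE : FlatMod.IsFinLocFreeOfRank r E) (c c' : (j : ℕ) → Bivar.OpCl (j : ℤ) X δX) (hc : Bivar.IsChernClasses E r c) (hc' : Bivar.IsChernClasses E r c') : c = c' := by
  obtain ⟨-, h0, hgt, hrel⟩ := hc
  obtain ⟨-, h0', hgt', hrel'⟩ := hc'
  funext j
  by_cases hj : r < j
  · rw [hgt j hj, hgt' j hj]
  obtain _ | n := r
  · obtain rfl : j = 0 := by omega
    rw [h0, h0']
  refine Bivar.OpCl.ext (funext fun s => funext fun k => AddMonoidHom.ext fun x => ?_)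
  obtain ⟨α, hα, rfl⟩ := Bivar.exists_rep x
  haveI := s.lft
  have hY : Cyc.IsSetup s.Y s.δ := BivarOps.isSetup_test hX s.g s.compat
  have hEs := CurveRR.Multi.isFinLocFreeOfRank_pullback s.g hE
  obtain ⟨P, p, O, q, hPB, hp, -⟩ := CycPB.exists_projBundle hEs
  haveI := hp
  obtain ⟨δP, hP, hδP⟩ := CycPB.exists_isSetup hY p
  have hB : CycPB.Bundle p s.δ δP ((Scheme.Modules.pullback s.g).obj E) O (n + 1) := ⟨hY, hP, hδP, ⟨q, hPB⟩, hEs⟩
  obtain ⟨ζ, hζ, hζ0, eζ⟩ := chern_rep (r := n + 1) c h0 s α hα
  obtain ⟨ζ', hζ', hζ0', eζ'⟩ := chern_rep (r := n + 1) c' h0' s α hα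
  have hA := CycPB.Rel.of_chern hB (hrel s P p O q hPB δP hδP k α hα ζ hζ0 hζ eζ)
  have hA' := CycPB.Rel.of_chern hB (hrel' s P p O q hPB δP hδP k α hα ζ' hζ0' hζ' eζ')
  let i : Fin (n + 1 + 1) := ⟨j, by omega⟩
  refine (eζ i).trans ((BivarOps.cl_eq (hζ i) (hζ' i) ?_).trans (eζ' i).symm)
  exact CycPB.Rel.unique hB hA hA' (CycPB.RZ.zero.eq (funext fun y => by rw [hζ0, hζ0', sub_self])) i

end Groth.Agent.S17572
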