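import Groth.Statements.S17573
import Groth.Agent.BivarOps.CommC1
-- import your own Groth.Agent.* helpers here

set_option autoImplicit false
set_option backward.isDefEq.respectTransparency false
set_option backward.isDefEq.respectTransparency.types false
set_option maxHeartbeats 1000000
universe u
open CategoryTheory AlgebraicGeometry
open Bivar

namespace Groth.Agent.S17573

/-- Let L be an invertible O_X-module and c_1(L) ∈ A^1(X) its first Chern class. Then c_1(L) is in the
centre of the ring A^*(X) of operational classes: for every operational class d ∈ A^q(X), every test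
scheme g : Y → X locally of finite type (with induced dimension function) and every x ∈ CH_k(Y) one
has c_1(L) ∩ (d ∩ x) = d ∩ (c_1(L) ∩ x) in CH_{k−q−1}(Y). Here c_1(L) is given through the binder
Bivar.IsC1Class (on every test scheme it caps a cycle class to the class of c_1(g^*L) ∩ α computed
with any nowhere-zero rational sections), and the two sides, of weights k − q − 1 and k − 1 − q, are
compared through the transport Bivar.chCast. Here a pair (X, δ) with Cyc.IsSetup plays the role of a
scheme locally of finite type over the base (S, δ) (X locally Noetherian with universally catenary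
local rings, δ a dimension function), Cyc.DeltaCompat records that a dimension function is the
induced one, and bivariant classes are taken in the operational sense of the prelude: additive
operations on the Chow groups CH_k (k-cycles modulo rational equivalence) of all test schemes,
compatible with proper pushforward, flat pullback and the Gysin maps of zero schemes of sections of
invertible modules in representative form (Bivar.Cl for A^p(X → Y), Bivar.OpCl for A^p(X)). -/
theorem result (X : Scheme.{u}) (δX : X → ℤ) (hX : Cyc.IsSetup X δX) (L : X.Modules) (c : Bivar.OpCl 1 X δX) (hc : Bivar.IsC1Class L c) (q : ℤ) (d : Bivar.OpCl q X δX) (s : Bivar.OSq X δX) (k : ℤ) (x : ChowOps.CH s.Y s.δ k) : c.op s (k - q) (d.op s k x) = Bivar.chCast s.Y s.δ (sub_right_comm k 1 q) (d.op s (k - 1) (c.op s k x)) := by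
  obtain ⟨hL, hcl⟩ := hc
  haveI := s.lft
  have hsY : Cyc.IsSetup s.Y s.δ := BivarOps.isSetup_test hX s.g s.compat
  have hM := PicLoc.isInvertible_pullback s.g hL
  obtain ⟨α, hα, rfl⟩ := Bivar.exists_rep x
  obtain ⟨β, hβ, hβe⟩ := Bivar.exists_rep (d.op s k (ChowOps.cl α hα))
  obtain ⟨v, hv⟩ := CycPB.exists_sections hM
  obtain ⟨γ, hγe, hγ⟩ := (show CycPB.Cy s.δ (k - 1 + 1) ⇑α by
    rw [sub_add_cancel]; exact CycPB.Cy.mk hα).cap hsY hM hv
  obtain ⟨ζ, hζe, hζ⟩ := (show CycPB.Cy s.δ (k - 1 - q + 1) ⇑β by
    rw [show k - 1 - q + 1 = k - q by ring]; exact CycPB.Cy.mk hβ).cap hsY hM hv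
  have hζ' : ζ ∈ Cyc.Zk s.Y s.δ (k - q - 1) := (sub_right_comm k 1 q) ▸ hζ
  rw [← hβe, hcl s (k - q) β hβ v hv ζ hζe hζ', hcl s k α hα v hv γ hγe hγ,
    BivarOps.comm_c1_op hX d s hM k α hα v hv γ hγe hγ β hβ hβe.symm v hv ζ hζe hζ, Bivar.chCast_cl]

end Groth.Agent.S17573
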