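import Groth.Statements.S17574
import Groth.Agent.BivarOps.CommC1
-- import your own Groth.Agent.* helpers here

set_option autoImplicit false
set_option backward.isDefEq.respectTransparency false
set_option backward.isDefEq.respectTransparency.types false
set_option maxHeartbeats 1000000
universe u
open CategoryTheory AlgebraicGeometry
open Bivar

namespace Groth.Agent.S17574

/-- Let f : X' → X be locally of finite type, L an invertible O_X-module, and c ∈ A^p(X' → X) a
bivariant class. Then c ∘ c_1(L) = c_1(f^*L) ∘ c in A^{p+1}(X' → X): for every cartesian square (g :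
Y → X, Y' = Y ×_X X', g' : Y' → X') with g locally of finite type and every x ∈ CH_k(Y), c ∩
(c_1(g^*L) ∩ x) = c_1((g')^*f^*L) ∩ (c ∩ x) in CH_{k−1−p}(Y'). Here the first Chern classes of L on
X and of f^*L on X' are given as operational classes cX ∈ A^1(X), cX' ∈ A^1(X') through the binder
Bivar.IsC1Class, evaluated on the test schemes Y → X and Y' → X' of the square (Y' → X' is locally
of finite type as a base change of g), and the two sides, of weights k − p − 1 and k − 1 − p, are
compared through the transport Bivar.chCast. Here a pair (X, δ) with Cyc.IsSetup plays the role of a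
scheme locally of finite type over the base (S, δ) (X locally Noetherian with universally catenary
local rings, δ a dimension function), Cyc.DeltaCompat records that a dimension function is the
induced one, and bivariant classes are taken in the operational sense of the prelude: additive
operations on the Chow groups CH_k (k-cycles modulo rational equivalence) of all test schemes,
compatible with proper pushforward, flat pullback and the Gysin maps of zero schemes of sections of
invertible modules in representative form (Bivar.Cl for A^p(X → Y), Bivar.OpCl for A^p(X)). -/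
theorem result (X X' : Scheme.{u}) (δX : X → ℤ) (δX' : X' → ℤ) (hX : Cyc.IsSetup X δX) (hX' : Cyc.IsSetup X' δX') (f : X' ⟶ X) [LocallyOfFiniteType f] (hδ : Cyc.DeltaCompat f δX' δX) (L : X.Modules) (cX : Bivar.OpCl 1 X δX) (hcX : Bivar.IsC1Class L cX) (cX' : Bivar.OpCl 1 X' δX') (hcX' : Bivar.IsC1Class ((Scheme.Modules.pullback f).obj L) cX') (p : ℤ) (c : Bivar.Cl p f δX' δX) (s : Bivar.Sq f δX' δX) (k : ℤ) (x : ChowOps.CH s.Y' s.δY' k) : c.op s (k - 1) (cX.op ⟨s.Y', s.g, s.lft, s.δY', s.compatY⟩ k x) = Bivar.chCast s.X' s.δX' (sub_right_comm k p 1) (cX'.op ⟨s.X', s.g', MorphismProperty.of_isPullback s.isPullback s.lft, s.δX', s.compatX⟩ (k - p) (c.op s k x)) := by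
  obtain ⟨hL, hcl⟩ := hcX
  obtain ⟨hL', hcl'⟩ := hcX'
  haveI := s.lft
  haveI := BivarOps.lft_g' s
  have hsY := BivarOps.isSetup_sqY hX s
  have hsX := BivarOps.isSetup_sqX hX' s
  have hM := PicLoc.isInvertible_pullback s.g hL
  have hM' := PicLoc.isInvertible_pullback s.g' hL'
  obtain ⟨α, hα, rfl⟩ := Bivar.exists_rep x
  obtain ⟨β, hβ, hβe⟩ := Bivar.exists_rep (c.op s k (ChowOps.cl α hα))
  obtain ⟨v, hv⟩ := CycPB.exists_sections hM
  obtain ⟨v', hv'⟩ := CycPB.exists_sections hM'
  obtain ⟨γ, hγe, hγ⟩ := (show CycPB.Cy s.δY' (k - 1 + 1) ⇑α by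
    rw [sub_add_cancel]; exact CycPB.Cy.mk hα).cap hsY hM hv
  obtain ⟨ζ, hζe, hζ⟩ := (show CycPB.Cy s.δX' (k - 1 - p + 1) ⇑β by
    rw [show k - 1 - p + 1 = k - p by ring]; exact CycPB.Cy.mk hβ).cap hsX hM' hv'
  have hζ' : ζ ∈ Cyc.Zk s.X' s.δX' (k - p - 1) := (sub_right_comm k 1 p) ▸ hζ
  let φ : (Scheme.Modules.pullback s.f').obj ((Scheme.Modules.pullback s.g).obj L) ≅
      (Scheme.Modules.pullback s.g').obj ((Scheme.Modules.pullback f).obj L) :=
    (Scheme.Modules.pullbackComp s.f' s.g).app L ≪≫ BivarOps.pullIso s.isPullback.w.symm L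
  have e1 := hcl ⟨s.Y', s.g, s.lft, s.δY', s.compatY⟩ k α hα v hv γ hγe hγ
  have e2 := hcl' ⟨s.X', s.g', MorphismProperty.of_isPullback s.isPullback s.lft, s.δX', s.compatX⟩ (k - p) β hβ v'
    hv' ζ hζe hζ'
  rw [e1, ← hβe, e2, BivarOps.comm_c1 hX hX' hδ c s hM k α hα v hv γ hγe hγ β hβ hβe.symm hM' φ v' hv' ζ hζe hζ,
    Bivar.chCast_cl]

end Groth.Agent.S17574
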