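import Groth.Statements.S6482
-- import your own Groth.Agent.* helpers here

set_option autoImplicit false
universe u
open CategoryTheory AlgebraicGeometry
open CategoryTheory.Limits
open Cyc

namespace Groth.Agent.S6482

/-- Let f : Y → X be an envelope. Then f_* : Z_k(Y) → Z_k(X) is surjective, hence so is f_* : CH_k(Y) →
CH_k(X). An envelope is a proper, completely decomposed morphism (every point of the target has a
point over it with trivial residue field extension; this prelude's Cyc.IsCompletelyDecomposed). Here
a pair (X, δ) with Cyc.IsSetup plays the role of a scheme locally of finite type over the base (S,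
δ) (X locally Noetherian with universally catenary local rings, δ a dimension function), and
Cyc.DeltaCompat records that the dimension function upstairs is the induced one. -/
theorem result (X Y : Scheme.{u}) (δ : X → ℤ) (δY : Y → ℤ) (hX : Cyc.IsSetup X δ) (hY : Cyc.IsSetup Y δY) (f : Y ⟶ X) [IsProper f] (hcd : Cyc.IsCompletelyDecomposed f) (hδ : Cyc.DeltaCompat f δY δ) (k : ℤ) (α : AlgebraicCycle X ℤ) (hα : α ∈ Cyc.Zk X δ k) : ∃ β : AlgebraicCycle Y ℤ, β ∈ Cyc.Zk Y δY k ∧ AlgebraicCycle.map f δY δ β = α := by

  classical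
  choose σ hσ hsurj using hcd
  let b : Y → ℤ := fun y => if σ (f y) = y then α (f y) else 0
  have hdeg : ∀ x : X, f.residueDegree (σ x) = 1 ∧ δY (σ x) = δ x := by
    intro x
    letI := (f.residueFieldMap (σ x)).hom.toAlgebra
    have hb : Function.Bijective (Algebra.linearMap (X.residueField (f (σ x))) (Y.residueField (σ x))) :=
      ⟨RingHom.injective _, hsurj x⟩
    obtain ⟨n, hn, hn'⟩ := hδ (σ x)
    refine ⟨?_, ?_⟩
    · show Module.finrank (X.residueField (f (σ x))) (Y.residueField (σ x)) = 1
      rw [← (LinearEquiv.ofBijective _ hb).finrank_eq, Module.finrank_self]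
    · haveI : Module.Finite (X.residueField (f (σ x))) (Y.residueField (σ x)) :=
        Module.Finite.equiv (LinearEquiv.ofBijective _ hb)
      have h0 : Algebra.trdeg (X.residueField (f (σ x))) (Y.residueField (σ x)) = 0 := trdeg_eq_zero_iff.2 inferInstance
      have hn0 : n = 0 := by
        have : (n : Cardinal.{u}) = 0 := hn.symm.trans h0
        exact_mod_cast this
      rw [hn', hn0, hσ]
      simp
  have hfin : LocallyFiniteSupport b := by
    intro y
    obtain ⟨t, ht, hfin⟩ := α.supportLocallyFiniteWithinDomain' (f y) trivial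
    obtain ⟨O, hOt, hO, hyO⟩ := mem_nhds_iff.1 ht
    refine ⟨f ⁻¹' O, (hO.preimage f.continuous).mem_nhds hyO, (hfin.image σ).subset ?_⟩
    rintro z ⟨hz, hbz⟩
    have h1 : σ (f z) = z := by by_contra h; exact hbz (if_neg h)
    refine ⟨f z, ⟨hOt hz, fun h0 => hbz ?_⟩, h1⟩
    show (if σ (f z) = z then α (f z) else 0) = 0
    rw [show α (f z) = 0 from h0, ite_self]
  let β : AlgebraicCycle Y ℤ :=
    { toFun := b
      supportWithinDomain' := Set.subset_univ _
      supportLocallyFiniteWithinDomain' := fun y _ => hfin y }
  have hβ : ∀ y, β y = b y := fun y => rfl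
  refine ⟨β, fun y hy => ?_, ?_⟩
  · rw [hβ]
    show (if σ (f y) = y then α (f y) else 0) = 0
    split
    · next h => exact hα _ fun e => hy (by rw [← h, (hdeg (f y)).2, e])
    · rfl
  · ext x
    show ∑ᶠ y ∈ (f ⁻¹' {x} : Set Y), β y * (AlgebraicCycle.mapCoeff f δY δ y : ℤ) = α x
    rw [finsum_mem_eq_sum_of_subset (t := {σ x})]
    · rw [Finset.sum_singleton, hβ]
      show (if σ (f (σ x)) = σ x then α (f (σ x)) else 0) * _ = _
      rw [if_pos (by rw [hσ]), hσ, AlgebraicCycle.mapCoeff]
      rw [if_pos (show δY (σ x) = δ (f (σ x)) by rw [(hdeg x).2, hσ]), (hdeg x).1]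
      simp
    · rintro y ⟨hy, hne⟩
      rw [Finset.coe_singleton, Set.mem_singleton_iff]
      by_contra h
      refine hne ?_
      show (if σ (f y) = y then α (f y) else 0) * _ = 0
      rw [if_neg (by rw [show f y = x from hy]; exact fun e => h e.symm), zero_mul]
    · rw [Finset.coe_singleton]
      rintro _ rfl
      exact hσ x

end Groth.Agent.S6482
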