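import Groth.Statements.S6484
import Mathlib

set_option autoImplicit false
universe u
open CategoryTheory AlgebraicGeometry
open CategoryTheory.Limits
open Cyc

namespace Groth.Agent.S6484

open CategoryTheory CategoryTheory.Limits AlgebraicGeometry

/-- If f : Y → X is completely decomposed (this prelude's Cyc.IsCompletelyDecomposed: over every point
of X lies a point of Y with trivial residue field extension) and g : X' → X is any morphism of
schemes, then the base change Y ×_X X' → X' is completely decomposed. Consequently the base change
of an envelope (a proper completely decomposed morphism) is an envelope, properness being preserved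
by base change. (The published envelope statement takes X′ → X between schemes locally of finite
type over a base; this row allows any g.) -/
theorem result (X X' Y : Scheme.{u}) (f : Y ⟶ X) (g : X' ⟶ X) (hcd : Cyc.IsCompletelyDecomposed f) : Cyc.IsCompletelyDecomposed (pullback.snd f g) := by

  intro x'
  obtain ⟨y, hy, hsurj⟩ := hcd (g x')
  haveI : IsIso (f.residueFieldMap y) :=
    (ConcreteCategory.isIso_iff_bijective _).2 ⟨RingHom.injective _, hsurj⟩
  let h : Spec (X'.residueField x') ⟶ Y :=
    Spec.map (inv (f.residueFieldMap y) ≫ (X.residueFieldCongr hy).hom ≫ g.residueFieldMap x') ≫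
      Y.fromSpecResidueField y
  have hh : h ≫ f = X'.fromSpecResidueField x' ≫ g := by
    show (Spec.map _ ≫ Y.fromSpecResidueField y) ≫ f = _
    rw [Category.assoc, ← Scheme.Hom.SpecMap_residueFieldMap_fromSpecResidueField, ← Spec.map_comp_assoc,
      IsIso.hom_inv_id_assoc, Spec.map_comp_assoc, Scheme.residueFieldCongr_fromSpecResidueField,
      Scheme.Hom.SpecMap_residueFieldMap_fromSpecResidueField]
  let l := pullback.lift h (X'.fromSpecResidueField x') hh
  have hl : l ≫ pullback.snd f g = X'.fromSpecResidueField x' := pullback.lift_snd _ _ _
  let c := IsLocalRing.closedPoint (X'.residueField x')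
  refine ⟨l c, ?_, ?_⟩
  · show (l ≫ pullback.snd f g) c = x'
    rw [hl]
    exact Scheme.fromSpecResidueField_apply x' c
  · have hs : Function.Surjective ((X'.fromSpecResidueField x').residueFieldMap c).hom := by
      intro t
      obtain ⟨t, rfl⟩ := (Spec (X'.residueField x')).residue_surjective c t
      obtain ⟨u, rfl⟩ := (X'.fromSpecResidueField x').stalkMap_surjective c t
      exact ⟨(X'.residue _).hom u, (DFunLike.congr_fun (CommRingCat.hom_ext_iff.mp
        (Scheme.residue_residueFieldMap (X'.fromSpecResidueField x') c)) u)⟩
    have key : ∀ φ : Spec (X'.residueField x') ⟶ X', φ = X'.fromSpecResidueField x' →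
        Function.Surjective (φ.residueFieldMap c).hom := by
      rintro φ rfl
      exact hs
    have h2 := key _ hl
    rw [Scheme.residueFieldMap_comp] at h2
    have h3 : ∀ t, ∃ u, (l.residueFieldMap c).hom (((pullback.snd f g).residueFieldMap (l c)).hom u) = t := h2
    exact fun t => by
      obtain ⟨u, hu⟩ := h3 ((l.residueFieldMap c).hom t)
      exact ⟨u, (l.residueFieldMap c).hom.injective hu⟩

end Groth.Agent.S6484
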