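import Groth.Statements.S17576
import Groth.Agent.BivarOps.ProperPush
import Groth.Agent.CycPB.LinCls
import Groth.Agent.S6482
import Groth.Agent.S6484
-- import your own Groth.Agent.* helpers here

set_option autoImplicit false
set_option backward.isDefEq.respectTransparency false
set_option backward.isDefEq.respectTransparency.types false
set_option maxHeartbeats 800000
universe u
open CategoryTheory CategoryTheory.Limits AlgebraicGeometry
open Bivar

namespace Groth.Agent.S17576

/-- Let f : X → Y be locally of finite type, g : Y' → Y an envelope (a proper, completely decomposed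
morphism: over every point of Y lies a point of Y' with trivial residue field extension) and X' = Y'
×_Y X. Then a bivariant class c ∈ A^p(X → Y) is determined by its restriction res(c) ∈ A^p(X' → Y'):
two classes with the same restriction along the square (g, X') are equal. (The existence part — a
class c' on X' → Y' whose two restrictions to X' ×_X X' → Y' ×_Y Y' agree descends — is not stated
here.) Here a pair (X, δ) with Cyc.IsSetup plays the role of a scheme locally of finite type over
the base (S, δ) (X locally Noetherian with universally catenary local rings, δ a dimension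
function), Cyc.DeltaCompat records that a dimension function is the induced one, and bivariant
classes are taken in the operational sense of the prelude: additive operations on the Chow groups
CH_k (k-cycles modulo rational equivalence) of all test schemes, compatible with proper pushforward,
flat pullback and the Gysin maps of zero schemes of sections of invertible modules in representative
form (Bivar.Cl for A^p(X → Y), Bivar.OpCl for A^p(X)). -/
theorem result (X Y : Scheme.{u}) (δX : X → ℤ) (δY : Y → ℤ) (hX : Cyc.IsSetup X δX) (hY : Cyc.IsSetup Y δY) (f : X ⟶ Y) [LocallyOfFiniteType f] (hδ : Cyc.DeltaCompat f δX δY) (p : ℤ) (s₀ : Bivar.Sq f δX δY) [IsProper s₀.g] (hcd : Cyc.IsCompletelyDecomposed s₀.g) (c₁ c₂ : Bivar.Cl p f δX δY) (heq : c₁.res s₀ = c₂.res s₀) : c₁ = c₂ := by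
  refine Bivar.Cl.ext (funext fun s => funext fun k => AddMonoidHom.ext fun x => ?_)
  obtain ⟨α, hα, rfl⟩ := Bivar.exists_rep x
  haveI := s.lft
  haveI := s₀.lft
  haveI := BivarOps.lft_g' s
  haveI := BivarOps.lft_g' s₀
  have hsY := BivarOps.isSetup_sqY hY s
  haveI : IsProper (pullback.snd s₀.g s.g) := inferInstance
  obtain ⟨δ'', hY'', hd⟩ := CycPB.exists_isSetup hsY (pullback.snd s₀.g s.g)
  have hdY : Cyc.DeltaCompat (pullback.fst s₀.g s.g) δ'' s₀.δY' :=
    BivarOps.deltaCompat_of_comp pullback.condition s₀.compatY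
      (Bivar.deltaCompat_comp (pullback.snd s₀.g s.g) s.g δ'' s.δY' δY hd s.compatY)
  haveI : LocallyOfFiniteType (pullback.fst s₀.g s.g) := inferInstance
  haveI : LocallyOfFiniteType (pullback.snd (pullback.fst s₀.g s.g) s₀.f') := inferInstance
  obtain ⟨δX'', hX'', hdX⟩ := CycPB.exists_isSetup (BivarOps.isSetup_sqX hX s₀)
    (pullback.snd (pullback.fst s₀.g s.g) s₀.f')
  let t0 : Bivar.Sq s₀.f' s₀.δX' s₀.δY' := ⟨pullback s₀.g s.g, pullback (pullback.fst s₀.g s.g) s₀.f',
    pullback.fst s₀.g s.g, pullback.fst (pullback.fst s₀.g s.g) s₀.f', pullback.snd (pullback.fst s₀.g s.g) s₀.f',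
    IsPullback.of_hasPullback _ _, inferInstance, δ'', δX'', hdY, hdX⟩
  let t := s₀.paste t0
  let h : t.Y' ⟶ s.Y' := pullback.snd s₀.g s.g
  have w1 : h ≫ s.g = t.g := pullback.condition.symm
  let h' : t.X' ⟶ s.X' := s.isPullback.lift (t.f' ≫ h) t.g' (by rw [Category.assoc, w1, t.isPullback.w])
  have w2 : h' ≫ s.f' = t.f' ≫ h := s.isPullback.lift_fst _ _ _
  have w3 : h' ≫ s.g' = t.g' := s.isPullback.lift_snd _ _ _
  haveI : IsProper h := inferInstanceAs (IsProper (pullback.snd s₀.g s.g))
  haveI : IsProper h' := MorphismProperty.of_isPullback (BivarOps.isPullback_mor w1 w2 w3) ‹_›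
  obtain ⟨β, hβ, hβα⟩ := S6482.result s.Y' _ s.δY' δ'' hsY hY'' (pullback.snd s₀.g s.g)
    (S6484.result _ _ _ s₀.g s.g hcd) hd k α hα
  obtain ⟨b₁, hb₁, e₁, e₁'⟩ := c₁.push s t h h' w1 w2 w3 k β hβ
  obtain ⟨b₂, hb₂, e₂, e₂'⟩ := c₂.push s t h h' w1 w2 w3 k β hβ
  have he : c₁.op t k = c₂.op t k := congrArg (fun c : Bivar.Cl p s₀.f' s₀.δX' s₀.δY' => c.op t0 k) heq
  have hb : ChowOps.cl b₁ hb₁ = ChowOps.cl b₂ hb₂ := by rw [← e₁, ← e₂, he]
  have hX' := BivarOps.isSetup_sqX hX s
  have hd' : Cyc.DeltaCompat h' t.δX' s.δX' := BivarOps.deltaCompat_of_comp w3 s.compatX t.compatX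
  have hα' : ChowOps.cl α hα = ChowOps.cl (AlgebraicCycle.map h t.δY' s.δY' β)
      (Bivar.cycMap_mem_Zk h t.δY' s.δY' k hβ) := Bivar.cl_congr hβα.symm _ _
  rw [hα', e₁', e₂']
  refine BivarOps.cl_eq _ _ (((BivarOps.rz_of_cl_eq hb₂ hb₁ hb.symm).push h' hX' hX'' hd').eq (funext fun y => ?_))
  exact congrFun (CycPB.pushF_sub' h' s.δX' (CycPB.Cy.mk hb₁) (CycPB.Cy.mk hb₂)) y

end Groth.Agent.S17576
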