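import Groth.Statements.S17580
import Groth.Agent.TMul.Ample

set_option autoImplicit false
open CategoryTheory CategoryTheory.Limits AlgebraicGeometry
open PosLin

open Groth.Agent
namespace Groth.Agent.S17580

/-- Let X be a projective variety over the complex numbers (an integral scheme, proper over ℂ, with an
ample invertible module) and L an invertible O_X-module. For m ≥ 1 let Bs(L^⊗m) ⊆ X be the base
locus of the complete linear series of L^⊗m, the set of points x lying in no open X_s over which a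
global section s : O_X → L^⊗m is an isomorphism, and let B(L) = ⋂_{m ≥ 1} Bs(L^⊗m) be the stable
base locus (an intersection of closed subsets, scheme structures disregarded). Then there is an
integer n₀ > 0 such that B(L) = Bs(L^⊗kn₀) for every k ≥ 1. -/
theorem result (X : Scheme.{0}) [X.Over (Spec (CommRingCat.of ℂ))] [IsIntegral X]
    [IsProper (X ↘ Spec (CommRingCat.of ℂ))] (H : X.Modules) (hH : CohB1.IsAmple H)
    (L : X.Modules) (hL : PicF.IsInvertible L) :
    ∃ n₀ : ℕ, 0 < n₀ ∧ ∀ k : ℕ, 0 < k →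
      {x : X | ∀ m : ℕ, 0 < m → ∀ s : Coh.structureModule X ⟶ CohB1.tensorPow L m, x ∉ CohB1.genLocus (CohB1.tensorPow L m) s} =
        {x : X | ∀ s : Coh.structureModule X ⟶ CohB1.tensorPow L (k * n₀), x ∉ CohB1.genLocus (CohB1.tensorPow L (k * n₀)) s} := by
  classical
  haveI : IsLocallyNoetherian X := LocallyOfFiniteType.isLocallyNoetherian (X ↘ Spec (CommRingCat.of ℂ))
  haveI : CompactSpace X := QuasiCompact.compactSpace_of_compactSpace (X ↘ Spec (CommRingCat.of ℂ))
  haveI : IsNoetherian X := {}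
  let Bs : ℕ → Set X := fun m => {x : X | ∀ s : Coh.structureModule X ⟶ CohB1.tensorPow L m, x ∉ CohB1.genLocus (CohB1.tensorPow L m) s}
  let B : Set X := {x : X | ∀ m : ℕ, 0 < m → ∀ s : Coh.structureModule X ⟶ CohB1.tensorPow L m, x ∉ CohB1.genLocus (CohB1.tensorPow L m) s}
  have hBle : ∀ m, 0 < m → B ⊆ Bs m := fun m hm x hx => hx m hm
  have hdvd : ∀ a b, 0 < b → Bs (a * b) ⊆ Bs a := by
    intro a b hb x hx s hxs
    obtain ⟨b, rfl⟩ : ∃ c, b = c + 1 := ⟨b - 1, by omega⟩
    obtain ⟨e⟩ := TMul.nonempty_powMulIso L a (b + 1)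
    refine hx (SecTwist.powHom s (b + 1) ≫ e.hom) ?_
    rw [TMul.genLocus_comp, TMul.genLocus_powHom (TMul.isInvertible_tensorPow hL a)]
    exact hxs
  let V : ℕ → X.Opens := fun m => ⨆ s : Coh.structureModule X ⟶ CohB1.tensorPow L m, CohB1.genLocus (CohB1.tensorPow L m) s
  have hV : ∀ m (x : X), x ∈ V m ↔ x ∉ Bs m := fun m x => by
    simp only [V, TopologicalSpace.Opens.mem_iSup, Bs, Set.mem_setOf_eq, not_forall, not_not]
  have hc : IsCompact ((⨆ m : {m : ℕ // 0 < m}, V m.1 : X.Opens) : Set X) :=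
    TopologicalSpace.NoetherianSpace.isCompact _
  obtain ⟨t, ht⟩ := hc.elim_finite_subcover (fun m : {m : ℕ // 0 < m} => (V m.1 : Set X)) (fun m => (V m.1).2)
    (by rw [TopologicalSpace.Opens.coe_iSup])
  let N := ∏ m ∈ t, m.1
  have hN : 0 < N := Finset.prod_pos fun m _ => m.2
  have hBN : Bs N = B := by
    refine Set.Subset.antisymm (fun x hx m hm => ?_) (hBle N hN)
    by_contra! hcon
    have h1 : x ∈ ((⨆ m : {m : ℕ // 0 < m}, V m.1 : X.Opens) : Set X) :=
      TopologicalSpace.Opens.mem_iSup.2 ⟨⟨m, hm⟩, (hV m x).2 fun h => by obtain ⟨s, hs⟩ := hcon; exact h s hs⟩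
    obtain ⟨k, hk, hxk⟩ := Set.mem_iUnion₂.1 (ht h1)
    obtain ⟨c, hc⟩ : k.1 ∣ N := Finset.dvd_prod_of_mem _ hk
    refine (hV k.1 x).1 hxk (hdvd k.1 c (Nat.pos_of_ne_zero fun h => ?_) (hc ▸ hx))
    rw [h, mul_zero] at hc
    omega
  refine ⟨N, hN, fun k hk => Set.Subset.antisymm (fun x hx => hBle (k * N) (Nat.mul_pos hk hN) hx) ?_⟩
  intro x hx
  rw [Nat.mul_comm] at hx
  exact hBN.le (hdvd N k hk hx)

end Groth.Agent.S17580
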