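import Groth.Statements.S17582
import Groth.Agent.TMul.Ample

set_option autoImplicit false
open CategoryTheory CategoryTheory.Limits AlgebraicGeometry
open PosLin

open Groth.Agent
namespace Groth.Agent.S17582

/-- Let X be a projective variety over the complex numbers (an integral scheme, proper over ℂ, with an
ample invertible module), L an invertible O_X-module and p ≥ 1. With Bs(M) the base locus of an
O_X-module M (the points lying in no open X_s over which a global section s : O_X → M is an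
isomorphism) and B(L) = ⋂_{m ≥ 1} Bs(L^⊗m) the stable base locus, one has B(L^⊗p) = B(L). -/
theorem result (X : Scheme.{0}) [X.Over (Spec (CommRingCat.of ℂ))] [IsIntegral X]
    [IsProper (X ↘ Spec (CommRingCat.of ℂ))] (H : X.Modules) (hH : CohB1.IsAmple H)
    (L : X.Modules) (hL : PicF.IsInvertible L) (p : ℕ) (hp : 0 < p) :
    {x : X | ∀ m : ℕ, 0 < m → ∀ s : Coh.structureModule X ⟶ CohB1.tensorPow (CohB1.tensorPow L p) m, x ∉ CohB1.genLocus (CohB1.tensorPow (CohB1.tensorPow L p) m) s} = {x : X | ∀ m : ℕ, 0 < m → ∀ s : Coh.structureModule X ⟶ CohB1.tensorPow L m, x ∉ CohB1.genLocus (CohB1.tensorPow L m) s} := by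
  classical
  haveI : IsLocallyNoetherian X := LocallyOfFiniteType.isLocallyNoetherian (X ↘ Spec (CommRingCat.of ℂ))
  haveI : CompactSpace X := QuasiCompact.compactSpace_of_compactSpace (X ↘ Spec (CommRingCat.of ℂ))
  haveI : IsNoetherian X := {}
  let Bs : ℕ → Set X := fun m => {x : X | ∀ s : Coh.structureModule X ⟶ CohB1.tensorPow L m, x ∉ CohB1.genLocus (CohB1.tensorPow L m) s}
  let B : Set X := {x : X | ∀ m : ℕ, 0 < m → ∀ s : Coh.structureModule X ⟶ CohB1.tensorPow L m, x ∉ CohB1.genLocus (CohB1.tensorPow L m) s}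
  have hBle : ∀ m, 0 < m → B ⊆ Bs m := fun m hm x hx => hx m hm
  have hdvd : ∀ a b, 0 < b → Bs (a * b) ⊆ Bs a := by
    intro a b hb x hx s hxs
    obtain ⟨b, rfl⟩ : ∃ c, b = c + 1 := ⟨b - 1, by omega⟩
    obtain ⟨e⟩ := TMul.nonempty_powMulIso L a (b + 1)
    refine hx (SecTwist.powHom s (b + 1) ≫ e.hom) ?_
    rw [TMul.genLocus_comp, TMul.genLocus_powHom (TMul.isInvertible_tensorPow hL a)]
    exact hxs
  let V : ℕ → X.Opens := fun m => ⨆ s : Coh.structureModule X ⟶ CohB1.tensorPow L m, CohB1.genLocus (CohB1.tensorPow L m) s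
  have hV : ∀ m (x : X), x ∈ V m ↔ x ∉ Bs m := fun m x => by
    simp only [V, TopologicalSpace.Opens.mem_iSup, Bs, Set.mem_setOf_eq, not_forall, not_not]
  have hc : IsCompact ((⨆ m : {m : ℕ // 0 < m}, V m.1 : X.Opens) : Set X) :=
    TopologicalSpace.NoetherianSpace.isCompact _
  obtain ⟨t, ht⟩ := hc.elim_finite_subcover (fun m : {m : ℕ // 0 < m} => (V m.1 : Set X)) (fun m => (V m.1).2)
    (by rw [TopologicalSpace.Opens.coe_iSup])
  let N := ∏ m ∈ t, m.1
  have hN : 0 < N := Finset.prod_pos fun m _ => m.2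
  have hBN : Bs N = B := by
    refine Set.Subset.antisymm (fun x hx m hm => ?_) (hBle N hN)
    by_contra! hcon
    have h1 : x ∈ ((⨆ m : {m : ℕ // 0 < m}, V m.1 : X.Opens) : Set X) :=
      TopologicalSpace.Opens.mem_iSup.2 ⟨⟨m, hm⟩, (hV m x).2 fun h => by obtain ⟨s, hs⟩ := hcon; exact h s hs⟩
    obtain ⟨k, hk, hxk⟩ := Set.mem_iUnion₂.1 (ht h1)
    obtain ⟨c, hc⟩ : k.1 ∣ N := Finset.dvd_prod_of_mem _ hk
    refine (hV k.1 x).1 hxk (hdvd k.1 c (Nat.pos_of_ne_zero fun h => ?_) (hc ▸ hx))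
    rw [h, mul_zero] at hc
    omega
  refine Set.Subset.antisymm (fun x hx => hBN.le (hdvd N p hp ?_)) (fun x hx m hm s hs => ?_)
  · rw [Nat.mul_comm]
    intro s hs
    obtain ⟨e⟩ := TMul.nonempty_powMulIso L p N
    refine hx N hN (s ≫ e.inv) ?_
    rw [TMul.genLocus_comp]
    exact hs
  · obtain ⟨e⟩ := TMul.nonempty_powMulIso L p m
    refine hx (p * m) (Nat.mul_pos hp hm) (s ≫ e.hom) ?_
    rw [TMul.genLocus_comp]
    exact hs

end Groth.Agent.S17582
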