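import Groth.Statements.S17586
import Groth.Agent.Nakai.BigApps

set_option autoImplicit false
open CategoryTheory CategoryTheory.Limits AlgebraicGeometry
open PosLin

namespace Groth.Agent.S17586

/-- Let X be a projective variety over the complex numbers (an integral scheme, proper over ℂ, with an
ample invertible module) of dimension n, and L an invertible O_X-module (the module of a Cartier
divisor D). The following two characterisations of bigness of D are equivalent: (a) for every ample
invertible O_X-module A there are m > 0 and a monomorphism A → L^⊗m (that is, mD is linearly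
equivalent to A plus an effective divisor); (b) there are a constant C > 0 and m₁ such that dim_ℂ
H^0(X, L^⊗m) ≥ C·m^n for all m ≥ m₁. (In the text both are shown equivalent to D having Iitaka
dimension n; this row states their equivalence with each other.) -/
theorem result (X : Scheme.{0}) [X.Over (Spec (CommRingCat.of ℂ))] [IsIntegral X]
    [IsProper (X ↘ Spec (CommRingCat.of ℂ))] (H : X.Modules) (hH : CohB1.IsAmple H)
    (n : ℕ) (hn : topologicalKrullDim X = n)
    (L : X.Modules) (hL : PicF.IsInvertible L) :
    (∀ A : X.Modules, CohB1.IsAmple A → ∃ (m : ℕ) (φ : A ⟶ CohB1.tensorPow L m), 0 < m ∧ Mono φ) ↔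
      ∃ C : ℝ, 0 < C ∧ ∃ m₁ : ℕ, ∀ m : ℕ, m₁ ≤ m →
        C * (m : ℝ) ^ n ≤ (Module.finrank ℂ (Coh.HH X (CohB1.tensorPow L m) 0) : ℝ) := by
  rw [Groth.Agent.Nakai.kod_iff_mono ℂ hH hL n hn]
  refine ⟨fun h => ?_, fun ⟨C, hC, m₁, hm⟩ => ?_⟩
  · obtain ⟨c, hc, m₁, hm⟩ := h.growth_real ℂ hL n hn
    exact ⟨c, hc, m₁, fun m h => (hm m h).le⟩
  · exact Groth.Agent.Nakai.kod_of_freq_real ℂ hL hH n hn hC (Filter.Eventually.frequently (Filter.eventually_atTop.2 ⟨m₁, hm⟩))

end Groth.Agent.S17586
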