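import Groth.Statements.S17592
import Mathlib
import Groth.Agent.Hensel.PairEnvelopeStage
-- import your own Groth.Agent.* helpers here

set_option autoImplicit false
universe u
open Hensel

namespace Groth.Agent.S17592

/-- Let R → S be an étale ring map and I an ideal of R such that the induced map R/I → S/IS is
bijective. Then a Henselization of the pair (S, IS), regarded as an R-algebra, is a Henselization of
the pair (R, I). -/
theorem result (R : Type u) [CommRing R] (I : Ideal R)
    (S : Type u) [CommRing S] [Algebra R S] [Algebra.Etale R S]
    (hq : Function.Bijective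
      (Ideal.quotientMap (I.map (algebraMap R S)) (algebraMap R S) Ideal.le_comap_map))
    (H : Type u) [CommRing H] [Algebra S H] [Algebra R H] [IsScalarTower R S H]
    (hH : Hens2.IsPairHenselization S (I.map (algebraMap R S)) H) :
    Hens2.IsPairHenselization R I H := by
  refine ⟨?_, fun C _ J f hJ hf => ?_⟩
  · have := hH.1
    rwa [Ideal.map_map, ← IsScalarTower.algebraMap_eq] at this
  letI := f.toAlgebra
  obtain ⟨h, hh, hu⟩ := Groth.Agent.Hensel.existsUnique_nhd_hom (A' := S) hq hJ hf
  obtain ⟨g, hg, hgu⟩ := hH.2 C J h.toRingHom hJ hh
  refine ⟨g, RingHom.ext fun r => ?_, fun g' hg' => hgu g' ?_⟩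
  · rw [RingHom.comp_apply, IsScalarTower.algebraMap_apply R S H, ← RingHom.comp_apply g, hg]
    exact h.commutes r
  · let k : S →ₐ[R] C :=
      { g'.comp (algebraMap S H) with
        commutes' := fun r => by
          change g' (algebraMap S H (algebraMap R S r)) = f r
          rw [← IsScalarTower.algebraMap_apply]
          exact RingHom.congr_fun hg' r }
    have hk : (I.map (algebraMap R S)).map k.toRingHom ≤ J := by
      rw [Ideal.map_map, show k.toRingHom.comp (algebraMap R S) = f from RingHom.ext k.commutes]
      exact hf
    exact congrArg AlgHom.toRingHom (hu k hk)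

end Groth.Agent.S17592
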