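import Groth.Statements.S17595
import Mathlib
import Groth.Agent.Hensel.SpreadNbhd
-- import your own Groth.Agent.* helpers here

set_option autoImplicit false
universe u
open Hensel

namespace Groth.Agent.S17595

/-- Suppose (A, I) is a Henselian pair, and R is an A-algebra of finite presentation for which A → R is
quasi-finite at each prime of R that contains IR. Then there is an étale R-algebra R' such that R/IR
→ R'/IR' is bijective and A → R' is quasi-finite. -/
theorem result (A : Type u) [CommRing A] (I : Ideal A) [HenselianRing A I]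
    (R : Type u) [CommRing R] [Algebra A R] [Algebra.FinitePresentation A R]
    (h : ∀ (p : Ideal R) [p.IsPrime], I.map (algebraMap A R) ≤ p → Algebra.QuasiFiniteAt A p)
    : ∃ (R' : Type u) (_ : CommRing R') (_ : Algebra R R') (_ : Algebra A R') (_ : IsScalarTower A R R'),
      Algebra.Etale R R' ∧
      Function.Bijective (Ideal.quotientMap ((I.map (algebraMap A R)).map (algebraMap R R'))
        (algebraMap R R') Ideal.le_comap_map) ∧ Algebra.QuasiFinite A R' := by
  let U : Set (PrimeSpectrum R) := {q | ∃ g : R, g ∉ q.asIdeal ∧ Algebra.QuasiFinite A (Localization.Away g)}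
  have hU : IsOpen U := by
    refine isOpen_iff_forall_mem_open.2 fun q ⟨g, hgq, hgP⟩ => ?_
    exact ⟨PrimeSpectrum.basicOpen g, fun r hr => ⟨g, hr, hgP⟩, (PrimeSpectrum.basicOpen g).2, hgq⟩
  obtain ⟨g, hg, hgU⟩ := Groth.Agent.Hensel.exists_sub_one_mem_basicOpen_subset (I.map (algebraMap A R)) hU
    fun p hp => by
      haveI := h p.asIdeal hp
      exact Groth.Agent.Hensel.exists_quasiFinite_away p.asIdeal
  haveI : Algebra.FiniteType A (Localization.Away g) := Algebra.FiniteType.trans (S := R) inferInstance inferInstance
  refine ⟨Localization.Away g, inferInstance, inferInstance, inferInstance, inferInstance, inferInstance,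
    Groth.Agent.Hensel.bijective_quotientMap_away _ hg, Groth.Agent.Hensel.quasiFinite_of_forall_quasiFiniteAt fun q => ?_⟩
  let p : PrimeSpectrum R := PrimeSpectrum.comap (algebraMap R (Localization.Away g)) q
  have hgp : g ∉ p.asIdeal := fun hmem => q.isPrime.ne_top
    (q.asIdeal.eq_top_of_isUnit_mem hmem (IsLocalization.Away.algebraMap_isUnit g))
  obtain ⟨g', hg'p, hqf⟩ := hgU p hgp
  haveI : Algebra.QuasiFiniteAt A p.asIdeal := by
    have hu : IsUnit (algebraMap R (Localization.AtPrime p.asIdeal) g') :=
      IsLocalization.map_units (M := p.asIdeal.primeCompl) _ ⟨g', hg'p⟩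
    let f : Localization.Away g' →ₐ[R] Localization.AtPrime p.asIdeal :=
      IsLocalization.Away.liftAlgHom g' (f := Algebra.ofId _ _) hu
    refine Algebra.QuasiFinite.of_forall_exists_mul_mem_range (f.restrictScalars A) fun x => ?_
    obtain ⟨x, ⟨s, hs⟩, rfl⟩ := IsLocalization.exists_mk'_eq p.asIdeal.primeCompl x
    exact ⟨algebraMap _ _ s, by simpa using IsLocalization.map_units _ ⟨s, hs⟩, algebraMap _ _ x, by simp⟩
  exact Algebra.QuasiFiniteAt.of_surjectiveOnStalks p.asIdeal (IsScalarTower.toAlgHom A R (Localization.Away g))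
    (RingHom.surjectiveOnStalks_of_isLocalization (Submonoid.powers g) _) q.asIdeal rfl

end Groth.Agent.S17595
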