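import Groth.Statements.S17597
import Mathlib
import Groth.Agent.Hensel.PairEnvelopeProps
import Groth.Agent.Hensel.System
-- import your own Groth.Agent.* helpers here

set_option autoImplicit false
universe u
open Hensel

namespace Groth.Agent.S17597

/-- Let (A, I) be a Henselian pair and let B be a Henselization of the pair (R, IR) for a finitely
presented A-algebra R (so A → B is Henselian finitely presented). If the induced map A/I → B/IB is
surjective, then A → B is surjective. -/
theorem result (A : Type u) [CommRing A] (I : Ideal A)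
    [HenselianRing A I] (R : Type u) [CommRing R] [Algebra A R] [Algebra.FinitePresentation A R]
    (B : Type u) [CommRing B] [Algebra R B] [Algebra A B] [IsScalarTower A R B]
    (hB : Hens2.IsPairHenselization R (I.map (algebraMap A R)) B)
    (hsurj : Function.Surjective
      (Ideal.quotientMap (I.map (algebraMap A B)) (algebraMap A B) Ideal.le_comap_map)) :
    Function.Surjective (algebraMap A B) := by
  classical
  have hIB : (I.map (algebraMap A R)).map (algebraMap R B) = I.map (algebraMap A B) := by
    rw [Ideal.map_map, ← IsScalarTower.algebraMap_eq]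
  haveI hBI : HenselianRing B (I.map (algebraMap A B)) := hIB ▸ hB.1
  have happ : ∀ r : R, ∃ a : A, r - algebraMap A R a ∈ I.map (algebraMap A R) := fun r => by
    obtain ⟨x, hx⟩ := hsurj (Ideal.Quotient.mk _ (algebraMap R B r))
    obtain ⟨a, rfl⟩ := Ideal.Quotient.mk_surjective x
    rw [Ideal.quotientMap_mk, Ideal.Quotient.eq] at hx
    refine ⟨a, ?_⟩
    have h1 : algebraMap R B (r - algebraMap A R a) ∈
        ((I.map (algebraMap A R)) ^ 1).map (algebraMap R B) := by
      rw [pow_one, hIB, map_sub, ← IsScalarTower.algebraMap_apply, ← neg_sub]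
      exact neg_mem hx
    simpa using Groth.Agent.Hensel.pairHenselization_mem_pow hB h1
  obtain ⟨n, π₀, hπ₀⟩ := Algebra.FiniteType.iff_quotient_mvPolynomial''.1 (inferInstance : Algebra.FiniteType A R)
  choose a ha using fun i : Fin n => happ (π₀ (MvPolynomial.X i))
  let y : Fin n → R := fun i => π₀ (MvPolynomial.X i) - algebraMap A R (a i)
  let π : MvPolynomial (Fin n) A →ₐ[A] R := MvPolynomial.aeval y
  have hπ : Function.Surjective π := by
    intro r
    obtain ⟨p, rfl⟩ := hπ₀ r
    refine ⟨MvPolynomial.aeval (fun i => MvPolynomial.X i + MvPolynomial.C (a i)) p, ?_⟩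
    refine AlgHom.congr_fun (MvPolynomial.algHom_ext (f := π.comp (MvPolynomial.aeval
      (fun i => MvPolynomial.X i + MvPolynomial.C (a i)))) (g := π₀) fun i => ?_) p
    simp [π, y]
  have hc : ∀ i, ∃ c ∈ I.map (MvPolynomial.C : A →+* MvPolynomial (Fin n) A), π c = y i := fun i => by
    have h1 : y i ∈ (I.map (MvPolynomial.C : A →+* MvPolynomial (Fin n) A)).map π.toRingHom := by
      rw [Ideal.map_map, show π.toRingHom.comp MvPolynomial.C = algebraMap A R from RingHom.ext π.commutes]
      exact ha i
    exact (Ideal.mem_map_iff_of_surjective π.toRingHom hπ).1 h1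
  choose c hcI hcy using hc
  let G : Fin n → MvPolynomial (Fin n) A := fun i => MvPolynomial.X i - c i
  let q : MvPolynomial (Fin n) A →+* A ⧸ I := (Ideal.Quotient.mk I).comp (MvPolynomial.eval 0)
  have hq : ∀ p ∈ I.map (MvPolynomial.C : A →+* MvPolynomial (Fin n) A), q p = 0 := fun p hp => by
    have h1 : I.map (MvPolynomial.C : A →+* MvPolynomial (Fin n) A) ≤ RingHom.ker q :=
      Ideal.map_le_iff_le_comap.2 fun r hr => by
        rw [Ideal.mem_comap, RingHom.mem_ker]
        simpa [q] using Ideal.Quotient.eq_zero_iff_mem.2 hr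
    exact h1 hp
  have hqd : ∀ p ∈ I.map (MvPolynomial.C : A →+* MvPolynomial (Fin n) A), ∀ j, q (MvPolynomial.pderiv j p) = 0 := by
    intro p hp j
    induction hp using Submodule.span_induction with
    | mem p hp => obtain ⟨r, -, rfl⟩ := hp; simp
    | zero => simp
    | add p p' _ _ h h' => rw [map_add, map_add, h, h', add_zero]
    | smul b p hp' h =>
      rw [smul_eq_mul, Derivation.leibniz, smul_eq_mul, smul_eq_mul, map_add, map_mul, map_mul, h, hq p hp',
        mul_zero, zero_mul, add_zero]
  have h0 : ∀ i, MvPolynomial.eval 0 (G i) ∈ I := fun i => by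
    rw [← Ideal.Quotient.eq_zero_iff_mem]
    change q (MvPolynomial.X i - c i) = 0
    rw [map_sub, hq _ (hcI i)]
    simp [q]
  have hdet : IsUnit (Ideal.Quotient.mk I (MvPolynomial.eval 0 (Groth.Agent.Hensel.jacDet G))) := by
    change IsUnit (q (Matrix.det _))
    rw [RingHom.map_det]
    have h1 : q.mapMatrix (Matrix.of fun i j => MvPolynomial.pderiv i (G j)) = 1 := by
      ext i j
      change q (MvPolynomial.pderiv i (MvPolynomial.X j - c j)) = _
      rw [map_sub, map_sub, hqd _ (hcI j), sub_zero, MvPolynomial.pderiv_X]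
      rcases eq_or_ne i j with rfl | h
      · simp
      · simp [Pi.single_eq_of_ne h.symm, Matrix.one_apply_ne h]
    rw [h1, Matrix.det_one]
    exact isUnit_one
  obtain ⟨τ, ⟨hτ, hτI⟩, -⟩ := Groth.Agent.Hensel.existsUnique_root_system G 0 h0 hdet
  have hev : ∀ (x : Fin n → A) (p : MvPolynomial (Fin n) A),
      MvPolynomial.eval (algebraMap A B ∘ x) (MvPolynomial.map (algebraMap A B) p) =
        algebraMap A B (MvPolynomial.eval x p) := fun x p => MvPolynomial.map_eval _ _ p |>.symm
  let yB : Fin n → B := fun i => algebraMap R B (y i)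
  have hyG : ∀ i, MvPolynomial.eval yB (MvPolynomial.map (algebraMap A B) (G i)) = 0 := fun i => by
    rw [MvPolynomial.eval_map, ← MvPolynomial.aeval_def,
      show MvPolynomial.aeval yB (G i) = algebraMap R B (π (G i)) from
        (MvPolynomial.comp_aeval_apply (f := y) (IsScalarTower.toAlgHom A R B) (G i)).symm,
      show π (G i) = π (MvPolynomial.X i) - π (c i) from map_sub π _ _, hcy i,
      show π (MvPolynomial.X i) = y i from MvPolynomial.aeval_X y i, sub_self, map_zero]
  have hdetB : IsUnit (Ideal.Quotient.mk (I.map (algebraMap A B)) (MvPolynomial.eval (algebraMap A B ∘ (0 : Fin n → A))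
      (Groth.Agent.Hensel.jacDet fun i => MvPolynomial.map (algebraMap A B) (G i)))) := by
    have h1 : Groth.Agent.Hensel.jacDet (fun i => MvPolynomial.map (algebraMap A B) (G i)) =
        MvPolynomial.map (algebraMap A B) (Groth.Agent.Hensel.jacDet G) := by
      rw [Groth.Agent.Hensel.jacDet, Groth.Agent.Hensel.jacDet, RingHom.map_det]
      congr 1
      ext i j
      simp [MvPolynomial.pderiv_map]
    rw [h1, hev, ← Ideal.quotientMap_mk (H := Ideal.le_comap_map)]
    exact hdet.map _
  obtain ⟨b₀, -, hb₀⟩ := Groth.Agent.Hensel.existsUnique_root_system (A := B) (I := I.map (algebraMap A B))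
    (fun i => MvPolynomial.map (algebraMap A B) (G i)) (algebraMap A B ∘ (0 : Fin n → A))
    (fun i => by rw [hev]; exact Ideal.mem_map_of_mem _ (h0 i)) hdetB
  have hyτ : yB = algebraMap A B ∘ τ := (hb₀ yB ⟨hyG, fun i => by
      simp only [Function.comp_apply, Pi.zero_apply, map_zero, sub_zero]
      rw [← hIB]; exact Ideal.mem_map_of_mem _ (ha i)⟩).trans
    (hb₀ (algebraMap A B ∘ τ) ⟨fun i => by rw [hev, hτ i, map_zero], fun i => by
      rw [Function.comp_apply, Function.comp_apply, ← map_sub]
      exact Ideal.mem_map_of_mem _ (hτI i)⟩).symm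
  let T : Subalgebra A B := (Algebra.ofId A B).range
  haveI : Algebra.IsIntegral A T := ⟨fun x => by
    obtain ⟨x, hx⟩ := x
    obtain ⟨r, rfl⟩ := hx
    exact isIntegral_algebraMap (R := A) (A := T) (x := r)⟩
  have hT : HenselianRing T (I.map (algebraMap A T)) := Groth.Agent.Hensel.henselianRing_integral A I T
  have hR : ∀ r : R, algebraMap R B r ∈ T := fun r => by
    obtain ⟨p, rfl⟩ := hπ r
    refine ⟨MvPolynomial.aeval τ p, ?_⟩
    refine AlgHom.congr_fun (MvPolynomial.algHom_ext (f := (Algebra.ofId A B).comp (MvPolynomial.aeval τ))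
      (g := (IsScalarTower.toAlgHom A R B).comp π) fun i => ?_) p
    simpa [π, yB] using (congrFun hyτ i).symm
  let fT : R →ₐ[A] T := AlgHom.codRestrict (IsScalarTower.toAlgHom A R B) T hR
  obtain ⟨g, hg, -⟩ := hB.2 T (I.map (algebraMap A T)) fT.toRingHom hT (le_of_eq (by
    rw [Ideal.map_map]; exact congrArg (Ideal.map · I) (RingHom.ext fT.commutes)))
  have hid : T.val.toRingHom.comp g = RingHom.id B :=
    (hB.2 B _ (algebraMap R B) hB.1 le_rfl).unique (by
      rw [RingHom.comp_assoc, hg]; exact RingHom.ext fun r => rfl) (RingHom.id_comp _)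
  intro b
  obtain ⟨r, hr⟩ := (g b).2
  exact ⟨r, hr.trans (RingHom.congr_fun hid b)⟩

end Groth.Agent.S17597
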