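import Groth.Statements.S17598
import Mathlib
import Groth.Agent.Hensel.HfpSurj
import Groth.Agent.Hensel.SpreadModel
-- import your own Groth.Agent.* helpers here

set_option autoImplicit false
universe u
open Hensel

namespace Groth.Agent.S17598

/-- Let (A, I) be a Henselian pair and let B be a Henselization of the pair (R₀, IR₀) for a finitely
presented A-algebra R₀ (so A → B is a Henselian finitely presented map of Henselian pairs). Assume
that A/I^r → B/I^rB is étale for every r ≥ 1 (for Henselian finitely presented maps this is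
equivalent to the h-formally étale lifting property). Then there exist an étale A-algebra R, a
Henselization H of the pair (R, IR) and a surjective A-algebra map H → B whose kernel is a finitely
generated ideal contained in I^n H for every n. -/
theorem result (A : Type u) [CommRing A] (I : Ideal A)
    [HenselianRing A I] (R₀ : Type u) [CommRing R₀] [Algebra A R₀] [Algebra.FinitePresentation A R₀]
    (B : Type u) [CommRing B] [Algebra R₀ B] [Algebra A B] [IsScalarTower A R₀ B]
    (hB : Hens2.IsPairHenselization R₀ (I.map (algebraMap A R₀)) B)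
    (het : ∀ r : ℕ, 1 ≤ r → Algebra.Etale (A ⧸ I ^ r) (B ⧸ (I ^ r).map (algebraMap A B))) :
    ∃ (R : Type u) (_ : CommRing R) (_ : Algebra A R) (H : Type u) (_ : CommRing H) (_ : Algebra R H)
      (_ : Algebra A H) (_ : IsScalarTower A R H),
      Algebra.Etale A R ∧ Hens2.IsPairHenselization R (I.map (algebraMap A R)) H ∧
      ∃ φ : H →ₐ[A] B, Function.Surjective φ ∧ (RingHom.ker φ).FG ∧
        ∀ n : ℕ, RingHom.ker φ ≤ (I ^ n).map (algebraMap A H) := by
  have het' : ∀ r : ℕ, 1 ≤ r → Algebra.Smooth (A ⧸ I ^ r) (B ⧸ (I ^ r).map (algebraMap A B)) := fun r hr => by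
    haveI := het r hr
    infer_instance
  obtain ⟨R, _, _, hR, ⟨e⟩, τ, hs, hi⟩ := Groth.Agent.Hensel.exists_smooth_model hB (het' 1 le_rfl)
  haveI := het 1 le_rfl
  haveI : Algebra.Etale (A ⧸ I ^ 1) (R ⧸ (I ^ 1).map (algebraMap A R)) := Algebra.Etale.of_equiv e.symm
  obtain ⟨g, hg, hgU⟩ := Groth.Agent.Hensel.exists_sub_one_mem_basicOpen_subset (I.map (algebraMap A R))
    (Algebra.isOpen_etaleLocus (R := A) (A := R)) fun p hp => by
      have hp' : (I ^ 1).map (algebraMap A R) ≤ p.asIdeal := by rw [pow_one]; exact hp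
      rw [Algebra.etaleLocus_eq_unramfiedLocus_inter_smoothLocus, Algebra.smoothLocus_eq_univ, Set.inter_univ]
      exact Groth.Agent.Hensel.isUnramifiedAt_of_quotient (I ^ 1) p.asIdeal hp'
  haveI : Algebra.Etale A (Localization.Away g) :=
    Algebra.basicOpen_subset_etaleLocus_iff_etale.1 fun p hp => hgU p hp
  have hgu : IsUnit (τ g) := by
    have hJ : (I.map (algebraMap A R₀)).map (algebraMap R₀ B) = I.map (algebraMap A B) := by
      rw [Ideal.map_map, ← IsScalarTower.algebraMap_eq]
    have hmem := Ideal.mem_map_of_mem τ.toRingHom hg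
    rw [Ideal.map_map, show τ.toRingHom.comp (algebraMap A R) = algebraMap A B from RingHom.ext τ.commutes, ← hJ,
      map_sub, map_one] at hmem
    have h1 := Ideal.mem_jacobson_bot.1 (hB.1.jac hmem) 1
    rw [mul_one, sub_add_cancel] at h1
    exact h1
  let τ' : Localization.Away g →ₐ[A] B := IsLocalization.Away.liftAlgHom g (f := τ) hgu
  have hτ' : ∀ x, τ' (algebraMap R (Localization.Away g) x) = τ x := fun x => IsLocalization.Away.lift_eq g hgu x
  have hs' : ∀ b, ∃ x, b - τ' x ∈ I.map (algebraMap A B) := fun b =>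
    (hs b).elim fun x hx => ⟨algebraMap R _ x, by rw [hτ']; exact hx⟩
  have hi' : ∀ x, τ' x ∈ I.map (algebraMap A B) → x ∈ I.map (algebraMap A (Localization.Away g)) := fun z hz => by
    obtain ⟨x, ⟨_, m, rfl⟩, rfl⟩ := IsLocalization.exists_mk'_eq (Submonoid.powers g) z
    have hu : IsUnit (algebraMap R (Localization.Away g) (g ^ m)) := by
      rw [map_pow]
      exact (IsLocalization.Away.algebraMap_isUnit g).pow m
    refine (Ideal.mul_unit_mem_iff_mem _ hu).1 ?_
    rw [IsLocalization.mk'_spec, IsScalarTower.algebraMap_eq A R (Localization.Away g), ← Ideal.map_map]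
    refine Ideal.mem_map_of_mem _ (hi x ?_)
    rw [← hτ', ← IsLocalization.mk'_spec (Localization.Away g) x (⟨g ^ m, m, rfl⟩ : Submonoid.powers g), map_mul]
    exact Ideal.mul_mem_right _ _ hz
  obtain ⟨H, i₁, i₂, i₃, i₄, hH, φ, h1, h2, h3⟩ :=
    Groth.Agent.Hensel.exists_surjection_of_model hB het' (Localization.Away g) τ' hs' hi'
  exact ⟨Localization.Away g, inferInstance, inferInstance, H, i₁, i₂, i₃, i₄, inferInstance, hH, φ, h1, h2, h3⟩

end Groth.Agent.S17598
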