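import Groth.Statements.S17600
import Mathlib
import Groth.Agent.Hensel.SpreadModel
-- import your own Groth.Agent.* helpers here

set_option autoImplicit false
universe u
open Hensel

namespace Groth.Agent.S17600

/-- Let (A, I) be a Henselian pair and let B be a Henselization of the pair (R₀, IR₀) for a finitely
presented A-algebra R₀ (so A → B is Henselian finitely presented). If B is flat over A and A/I^r →
B/I^rB is étale for every r ≥ 1 (the h-formally étale property, in its equivalent form for Henselian
finitely presented maps), then A → B is h-étale: there is an étale A-algebra R, with an R-algebra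
structure on B compatible with that of A, such that B is a Henselization of the pair (R, IR). -/
theorem result (A : Type u) [CommRing A] (I : Ideal A)
    [HenselianRing A I] (R₀ : Type u) [CommRing R₀] [Algebra A R₀] [Algebra.FinitePresentation A R₀]
    (B : Type u) [CommRing B] [Algebra R₀ B] [Algebra A B] [IsScalarTower A R₀ B]
    (hB : Hens2.IsPairHenselization R₀ (I.map (algebraMap A R₀)) B) [Module.Flat A B]
    (het : ∀ r : ℕ, 1 ≤ r → Algebra.Etale (A ⧸ I ^ r) (B ⧸ (I ^ r).map (algebraMap A B))) :
    ∃ (R : Type u) (_ : CommRing R) (_ : Algebra A R) (_ : Algebra R B) (_ : IsScalarTower A R B),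
      Algebra.Etale A R ∧ Hens2.IsPairHenselization R (I.map (algebraMap A R)) B := by
  obtain ⟨S, _, _, _, _, _, _, hS⟩ := Groth.Agent.Hensel.exists_flat_model hB
  obtain ⟨e⟩ := Groth.Agent.Hensel.exists_quotient_equiv_one (I := I) hS
  haveI := het 1 le_rfl
  haveI : Algebra.Etale (A ⧸ I ^ 1) (S ⧸ (I ^ 1).map (algebraMap A S)) := Algebra.Etale.of_equiv e
  have hU : IsOpen (Algebra.etaleLocus A S) := Algebra.isOpen_etaleLocus
  obtain ⟨g, hg, hgU⟩ := Groth.Agent.Hensel.exists_sub_one_mem_basicOpen_subset (I.map (algebraMap A S)) hU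
    fun p hp => by
      have hp' : (I ^ 1).map (algebraMap A S) ≤ p.asIdeal := by rw [pow_one]; exact hp
      rw [Algebra.etaleLocus_eq_unramfiedLocus_inter_smoothLocus]
      exact ⟨Groth.Agent.Hensel.isUnramifiedAt_of_quotient (I ^ 1) p.asIdeal hp',
        Groth.Agent.Hensel.isSmoothAt_of_quotient (I ^ 1) p.asIdeal hp'⟩
  obtain ⟨algB, hT, hH⟩ := Groth.Agent.Hensel.exists_model_of_nhd hS (Localization.Away g)
    (Groth.Agent.Hensel.bijective_quotientMap_away _ hg)
  exact ⟨Localization.Away g, inferInstance, inferInstance, algB, hT,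
    Algebra.basicOpen_subset_etaleLocus_iff_etale.1 fun p hp => hgU p hp, hH⟩

end Groth.Agent.S17600
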