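import Groth.Statements.S17604
import Mathlib
import Groth.Agent.Hensel.PairEnvelopeProps
-- import your own Groth.Agent.* helpers here

set_option autoImplicit false
universe u
open Hensel

namespace Groth.Agent.S17604

/-- Let (A, I) be a Henselian pair, R and R' étale A-algebras, and B, B' Henselizations of the pairs (R,
IR), (R', IR') with their induced A-algebra structures (so B and B' are h-étale over A). Then
reduction modulo I is a bijection from A-algebra maps B → B' to A-algebra maps B/IB → B'/IB': two
A-algebra maps B → B' that agree modulo IB' are equal, and every A-algebra map B/IB → B'/IB' is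
induced by an A-algebra map B → B'. -/
theorem result (A : Type u) [CommRing A]
    (I : Ideal A) [HenselianRing A I]
    (R : Type u) [CommRing R] [Algebra A R] [Algebra.Etale A R]
    (B : Type u) [CommRing B] [Algebra R B] [Algebra A B] [IsScalarTower A R B]
    (hB : Hens2.IsPairHenselization R (I.map (algebraMap A R)) B)
    (R' : Type u) [CommRing R'] [Algebra A R'] [Algebra.Etale A R']
    (B' : Type u) [CommRing B'] [Algebra R' B'] [Algebra A B'] [IsScalarTower A R' B']
    (hB' : Hens2.IsPairHenselization R' (I.map (algebraMap A R')) B') :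
    (∀ φ ψ : B →ₐ[A] B', (∀ b : B, φ b - ψ b ∈ I.map (algebraMap A B')) → φ = ψ) ∧
    ∀ χ : (B ⧸ I.map (algebraMap A B)) →ₐ[A] (B' ⧸ I.map (algebraMap A B')),
      ∃ φ : B →ₐ[A] B', ∀ b : B,
        Ideal.Quotient.mk (I.map (algebraMap A B')) (φ b) = χ (Ideal.Quotient.mk (I.map (algebraMap A B)) b) := by
  have hmap : ∀ (D : Type u) [CommRing D] [Algebra A D] [Algebra R' D] [IsScalarTower A R' D],
      (I.map (algebraMap A R')).map (algebraMap R' D) = I.map (algebraMap A D) := fun D _ _ _ _ => by
    rw [Ideal.map_map, ← IsScalarTower.algebraMap_eq]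
  have hJ : HenselianRing B' (I.map (algebraMap A B')) := hmap B' ▸ hB'.1
  have hle : ∀ (D : Type u) [CommRing D] [Algebra A D] (f : R →ₐ[A] D),
      (I.map (algebraMap A R)).map f.toRingHom ≤ I.map (algebraMap A D) := fun D _ _ f => by
    rw [Ideal.map_map]
    refine (congrArg (Ideal.map · I) (RingHom.ext f.commutes)).le
  refine ⟨fun φ ψ h => ?_, fun χ => ?_⟩
  · have h1 : φ.comp (IsScalarTower.toAlgHom A R B) = ψ.comp (IsScalarTower.toAlgHom A R B) :=
      Groth.Agent.Hensel.algHom_eq_of_unramified (J := I.map (algebraMap A B')) hJ.jac _ _ fun x => h _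
    refine AlgHom.coe_ringHom_injective ((hB.2 B' (I.map (algebraMap A B')) (φ.comp (IsScalarTower.toAlgHom A R B)).toRingHom
      hJ (hle _ _)).unique rfl ?_)
    exact (congrArg AlgHom.toRingHom h1).symm
  · let π : B' →ₐ[A] B' ⧸ I.map (algebraMap A B') := Ideal.Quotient.mkₐ A _
    have hK : HenselianRing B' (RingHom.ker π.toRingHom) := by
      rw [show RingHom.ker π.toRingHom = I.map (algebraMap A B') from Ideal.mk_ker]; exact hJ
    let σ : B →ₐ[A] B' ⧸ I.map (algebraMap A B') := χ.comp (Ideal.Quotient.mkₐ A _)
    obtain ⟨f, hf, -⟩ := Groth.Agent.Hensel.existsUnique_algHom_of_quotient π Ideal.Quotient.mk_surjective hK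
      (σ.comp (IsScalarTower.toAlgHom A R B))
    obtain ⟨g, hg, -⟩ := hB.2 B' (I.map (algebraMap A B')) f.toRingHom hJ (hle _ f)
    have hgA : ∀ a, g (algebraMap A B a) = algebraMap A B' a := fun a => by
      rw [IsScalarTower.algebraMap_apply A R B, ← RingHom.comp_apply g, hg]
      exact f.commutes a
    refine ⟨{ g with commutes' := hgA }, fun b => ?_⟩
    have h2 : π.toRingHom.comp g = σ.toRingHom :=
      (hB.2 (B' ⧸ I.map (algebraMap A B')) ⊥ (σ.comp (IsScalarTower.toAlgHom A R B)).toRingHom
        Groth.Agent.Hensel.henselianRing_bot (by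
          refine (hle _ _).trans (le_of_eq ?_)
          rw [← Ideal.Quotient.mk_comp_algebraMap, ← Ideal.map_map, Ideal.map_quotient_self])).unique (by
          rw [RingHom.comp_assoc, hg, ← hf]
          rfl) rfl
    exact RingHom.congr_fun h2 b

end Groth.Agent.S17604
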