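import Groth.Statements.S17605
import Mathlib
import Groth.Agent.Hensel.PairEnvelopeStage
-- import your own Groth.Agent.* helpers here

set_option autoImplicit false
universe u
open Hensel

namespace Groth.Agent.S17605

/-- Let A be a ring with an ideal I and let f₁, f₂ be elements of A such that D(f₂) ∩ V(I) ⊆ D(f₁) ∩
V(I) in Spec A. If H₁ is a Henselization of the pair (A_{f₁}, IA_{f₁}) and H₂ a Henselization of the
pair (A_{f₂}, IA_{f₂}), with their induced A-algebra structures, then there is exactly one A-algebra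
map H₁ → H₂. -/
theorem result (A : Type u) [CommRing A]
    (I : Ideal A) (f₁ f₂ : A)
    (h : (PrimeSpectrum.basicOpen f₂ : Set (PrimeSpectrum A)) ∩ PrimeSpectrum.zeroLocus (I : Set A) ⊆
      (PrimeSpectrum.basicOpen f₁ : Set (PrimeSpectrum A)) ∩ PrimeSpectrum.zeroLocus (I : Set A))
    (H₁ : Type u) [CommRing H₁] [Algebra (Localization.Away f₁) H₁] [Algebra A H₁]
    [IsScalarTower A (Localization.Away f₁) H₁]
    (hH₁ : Hens2.IsPairHenselization (Localization.Away f₁)
      (I.map (algebraMap A (Localization.Away f₁))) H₁)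
    (H₂ : Type u) [CommRing H₂] [Algebra (Localization.Away f₂) H₂] [Algebra A H₂]
    [IsScalarTower A (Localization.Away f₂) H₂]
    (hH₂ : Hens2.IsPairHenselization (Localization.Away f₂)
      (I.map (algebraMap A (Localization.Away f₂))) H₂) :
    Nonempty (H₁ →ₐ[A] H₂) ∧ Subsingleton (H₁ →ₐ[A] H₂) := by
  have hJ₂ := hH₂.1
  have hu : IsUnit (algebraMap A H₂ f₁) := by
    by_contra hne
    obtain ⟨m, hm, hfm⟩ := Ideal.exists_le_maximal (Ideal.span {algebraMap A H₂ f₁})
      (by rwa [Ne, Ideal.span_singleton_eq_top])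
    have h2 : f₂ ∉ m.comap (algebraMap A H₂) := fun h2 => by
      refine hm.ne_top (m.eq_top_of_isUnit_mem h2 ?_)
      rw [IsScalarTower.algebraMap_apply A (Localization.Away f₂) H₂]
      exact (IsLocalization.Away.algebraMap_isUnit f₂).map _
    have hI : I ≤ m.comap (algebraMap A H₂) := by
      refine Ideal.map_le_iff_le_comap.1 ?_
      rw [IsScalarTower.algebraMap_eq A (Localization.Away f₂) H₂, ← Ideal.map_map]
      exact hJ₂.jac.trans (sInf_le ⟨bot_le, hm⟩)
    have h1 := (h (a := ⟨m.comap (algebraMap A H₂), Ideal.comap_isPrime _ _⟩) ⟨h2, hI⟩).1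
    exact h1 (Ideal.mem_comap.2 (hfm (Ideal.mem_span_singleton_self _)))
  let f : Localization.Away f₁ →ₐ[A] H₂ := IsLocalization.Away.liftAlgHom f₁ (f := Algebra.ofId A H₂) hu
  obtain ⟨g, hg, hgu⟩ := hH₁.2 H₂ ((I.map (algebraMap A (Localization.Away f₂))).map (algebraMap (Localization.Away f₂) H₂))
    f.toRingHom hJ₂ (le_of_eq (by
      rw [Ideal.map_map, Ideal.map_map, ← IsScalarTower.algebraMap_eq]
      exact congrArg (Ideal.map · I) (RingHom.ext f.commutes)))
  refine ⟨⟨{ g with commutes' := fun a => ?_ }⟩, ⟨fun φ ψ => ?_⟩⟩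
  · change g (algebraMap A H₁ a) = _
    rw [IsScalarTower.algebraMap_apply A (Localization.Away f₁) H₁, ← RingHom.comp_apply g, hg]
    exact f.commutes a
  · have hk : ∀ φ : H₁ →ₐ[A] H₂, φ.toRingHom = g := fun φ => hgu _ (congrArg AlgHom.toRingHom
      (show φ.comp (IsScalarTower.toAlgHom A (Localization.Away f₁) H₁) = f from
        IsLocalization.algHom_ext (Submonoid.powers f₁) (Subsingleton.elim _ _)))
    exact AlgHom.coe_ringHom_injective ((hk φ).trans (hk ψ).symm)

end Groth.Agent.S17605
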