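import Groth.Statements.S17607
import Mathlib
import Groth.Agent.Hensel.PairNbhd
-- import your own Groth.Agent.* helpers here

set_option autoImplicit false
universe u
open Hensel
open scoped TensorProduct

namespace Groth.Agent.S17607

/-- Let (A, I) and (B, IB) be Henselian pairs with B an A-algebra. Then the following are equivalent:
(i) A → B is Henselian finitely presented, i.e. there are n, a Henselization P of the pair
(A[X₁,…,Xₙ], I·A[X₁,…,Xₙ]) (a Henselized polynomial ring) and a surjective A-algebra map P → B with
finitely generated kernel; (ii) there are a finitely presented A-algebra R and an R-algebra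
structure on B compatible with that of A for which B is a Henselization of the pair (R, IR). -/
theorem result (A : Type u) [CommRing A] (I : Ideal A)
    [HenselianRing A I] (B : Type u) [CommRing B] [Algebra A B]
    [HenselianRing B (I.map (algebraMap A B))] :
    (∃ (n : ℕ) (P : Type u) (_ : CommRing P) (_ : Algebra (MvPolynomial (Fin n) A) P) (_ : Algebra A P)
        (_ : IsScalarTower A (MvPolynomial (Fin n) A) P),
        Hens2.IsPairHenselization (MvPolynomial (Fin n) A)
          (I.map (algebraMap A (MvPolynomial (Fin n) A))) P ∧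
        ∃ φ : P →ₐ[A] B, Function.Surjective φ ∧ (RingHom.ker φ).FG) ↔
    ∃ (R : Type u) (_ : CommRing R) (_ : Algebra A R) (_ : Algebra R B) (_ : IsScalarTower A R B),
      Algebra.FinitePresentation A R ∧ Hens2.IsPairHenselization R (I.map (algebraMap A R)) B := by
  classical
  constructor
  · rintro ⟨n, P, _, _, _, _, hP, φ, hφ, s, hs⟩
    obtain ⟨A', _, _, _, hbij, ψ, hψ⟩ := Groth.Agent.Hensel.exists_nhd_finite hP s
    letI algA'P : Algebra A' P := ψ.toRingHom.toAlgebra
    haveI : IsScalarTower (MvPolynomial (Fin n) A) A' P := IsScalarTower.of_algebraMap_eq fun r => (ψ.commutes r).symm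
    letI algA' : Algebra A A' :=
      ((algebraMap (MvPolynomial (Fin n) A) A').comp (algebraMap A (MvPolynomial (Fin n) A))).toAlgebra
    haveI : IsScalarTower A (MvPolynomial (Fin n) A) A' := IsScalarTower.of_algebraMap_eq' rfl
    haveI : IsScalarTower A A' P := IsScalarTower.of_algebraMap_eq fun r => by
      rw [IsScalarTower.algebraMap_apply A (MvPolynomial (Fin n) A) P]
      exact (ψ.commutes _).symm
    choose y hy using fun z : s => hψ z.2
    let J : Ideal A' := Ideal.span (Set.range y)
    have hJP : J.map (algebraMap A' P) = RingHom.ker φ := by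
      rw [← hs, Ideal.map_span]
      refine congrArg Ideal.span ?_
      ext z
      constructor
      · rintro ⟨_, ⟨w, rfl⟩, rfl⟩
        have : algebraMap A' P (y w) = w.1 := hy w
        rw [this]
        exact w.2
      · exact fun hz => ⟨y ⟨z, hz⟩, ⟨_, rfl⟩, hy ⟨z, hz⟩⟩
    have hP' := Groth.Agent.Hensel.isPairHenselization_quotient
      (Groth.Agent.Hensel.isPairHenselization_of_nhd hP A' hbij) J
    haveI : Algebra.FinitePresentation (MvPolynomial (Fin n) A) A' := inferInstance
    haveI : Algebra.FinitePresentation A A' := Algebra.FinitePresentation.trans A (MvPolynomial (Fin n) A) A'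
    haveI : Algebra.FinitePresentation A (A' ⧸ J) :=
      Algebra.FinitePresentation.quotient (Submodule.fg_span (Set.finite_range y))
    let f₀ : A' →ₐ[A] B := φ.comp (IsScalarTower.toAlgHom A A' P)
    let f₁ : A' ⧸ J →ₐ[A] B := Ideal.Quotient.liftₐ J f₀ fun a ha =>
      RingHom.mem_ker.1 (hJP ▸ Ideal.mem_map_of_mem (algebraMap A' P) ha : algebraMap A' P a ∈ RingHom.ker φ)
    letI algB : Algebra (A' ⧸ J) B := f₁.toRingHom.toAlgebra
    haveI : IsScalarTower A (A' ⧸ J) B := IsScalarTower.of_algebraMap_eq fun r => (f₁.commutes r).symm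
    let E : P ⧸ J.map (algebraMap A' P) →ₐ[A' ⧸ J] B :=
      { Ideal.Quotient.lift (J.map (algebraMap A' P)) φ.toRingHom fun a ha => RingHom.mem_ker.1 (hJP ▸ ha) with
        commutes' := fun r => by
          obtain ⟨r, rfl⟩ := Ideal.Quotient.mk_surjective r
          rfl }
    have hE : Function.Bijective E := by
      refine ⟨(injective_iff_map_eq_zero E).2 fun z hz => ?_, fun b => ?_⟩
      · obtain ⟨z, rfl⟩ := Ideal.Quotient.mk_surjective z
        rw [Ideal.Quotient.eq_zero_iff_mem, hJP]
        exact RingHom.mem_ker.2 hz
      · obtain ⟨z, rfl⟩ := hφ b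
        exact ⟨Ideal.Quotient.mk _ z, rfl⟩
    refine ⟨A' ⧸ J, inferInstance, inferInstance, algB, inferInstance, inferInstance, ?_⟩
    have hmap : (((I.map (algebraMap A (MvPolynomial (Fin n) A))).map (algebraMap (MvPolynomial (Fin n) A) A')).map
        (Ideal.Quotient.mk J)) = I.map (algebraMap A (A' ⧸ J)) := by
      rw [Ideal.map_map, Ideal.map_map]
      rfl
    rw [hmap] at hP'
    refine Groth.Agent.Hensel.isPairHenselization_of_equiv (AlgEquiv.ofBijective E hE) hP' ?_
    rw [Ideal.map_map, ← IsScalarTower.algebraMap_eq]
    infer_instance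
  · rintro ⟨R, _, _, _, _, hR, hB⟩
    obtain ⟨n, π, hπ, hπker⟩ := Algebra.FinitePresentation.out (R := A) (A := R)
    let Po := MvPolynomial (Fin n) A
    let P := Groth.Agent.Hensel.PairEnv Po (I.map (algebraMap A Po))
    letI : Algebra A P := ((algebraMap Po P).comp (algebraMap A Po)).toAlgebra
    haveI : IsScalarTower A Po P := IsScalarTower.of_algebraMap_eq' rfl
    have hP : Hens2.IsPairHenselization Po (I.map (algebraMap A Po)) P :=
      Groth.Agent.Hensel.isPairHenselization_pairEnv _ _
    let J : Ideal Po := RingHom.ker π.toRingHom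
    let e : Po ⧸ J ≃+* R := RingHom.quotientKerEquivOfSurjective (f := π.toRingHom) hπ
    letI : Algebra (Po ⧸ J) B := ((algebraMap R B).comp e.toRingHom).toAlgebra
    have hB' : Hens2.IsPairHenselization (Po ⧸ J) ((I.map (algebraMap A Po)).map (Ideal.Quotient.mk J)) B := by
      refine Groth.Agent.Hensel.isPairHenselization_of_base_equiv e ?_ (fun x => rfl) hB
      rw [Ideal.map_map, Ideal.map_map]
      exact congrArg (Ideal.map · I) (RingHom.ext fun r => π.commutes r)
    obtain ⟨E⟩ := Groth.Agent.Hensel.algEquiv_of_isPairHenselization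
      (Groth.Agent.Hensel.isPairHenselization_quotient hP J) hB'
    let φ : P →ₐ[A] B :=
      { E.toRingEquiv.toRingHom.comp (Ideal.Quotient.mk (J.map (algebraMap Po P))) with
        commutes' := fun r => by
          change E (algebraMap (Po ⧸ J) _ (Ideal.Quotient.mk J (algebraMap A Po r))) = algebraMap A B r
          rw [E.commutes, IsScalarTower.algebraMap_apply A R B]
          change algebraMap R B (π (algebraMap A Po r)) = _
          rw [π.commutes] }
    refine ⟨n, P, inferInstance, inferInstance, inferInstance, inferInstance, hP, φ,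
      E.surjective.comp Ideal.Quotient.mk_surjective, ?_⟩
    have hker : RingHom.ker φ = J.map (algebraMap Po P) := by
      ext z
      rw [RingHom.mem_ker]
      exact (map_eq_zero_iff E E.injective).trans Ideal.Quotient.eq_zero_iff_mem
    rw [hker]
    exact hπker.map _

end Groth.Agent.S17607
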