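import Groth.Statements.S17608
import Mathlib
import Groth.Agent.Hensel.PairNbhd
-- import your own Groth.Agent.* helpers here

set_option autoImplicit false
universe u
open Hensel
open scoped TensorProduct

namespace Groth.Agent.S17608

/-- Let (A, I) be a Henselian pair, let B be a Henselization of the pair (R, IR) for a finitely
presented A-algebra R, and let C be a Henselization of the pair (S, IS) for a finitely presented
B-algebra S, all algebra structures being compatible (so A → B and B → C are Henselian finitely
presented maps of Henselian pairs). Then the composite A → C is Henselian finitely presented: there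
are a finitely presented A-algebra T and a T-algebra structure on C compatible with that of A for
which C is a Henselization of the pair (T, IT). -/
theorem result (A : Type u) [CommRing A] (I : Ideal A) [HenselianRing A I]
    (R : Type u) [CommRing R] [Algebra A R] [Algebra.FinitePresentation A R]
    (B : Type u) [CommRing B] [Algebra R B] [Algebra A B] [IsScalarTower A R B]
    (hB : Hens2.IsPairHenselization R (I.map (algebraMap A R)) B)
    (S : Type u) [CommRing S] [Algebra B S] [Algebra A S] [IsScalarTower A B S] [Algebra.FinitePresentation B S]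
    (C : Type u) [CommRing C] [Algebra S C] [Algebra B C] [Algebra A C] [IsScalarTower B S C]
    [IsScalarTower A B C]
    (hC : Hens2.IsPairHenselization S (I.map (algebraMap A S)) C) :
    ∃ (T : Type u) (_ : CommRing T) (_ : Algebra A T) (_ : Algebra T C) (_ : IsScalarTower A T C),
      Algebra.FinitePresentation A T ∧ Hens2.IsPairHenselization T (I.map (algebraMap A T)) C := by
  classical
  obtain ⟨m, πS, hπS, s, hs⟩ := Algebra.FinitePresentation.out (R := B) (A := S)
  obtain ⟨A', _, _, _, hbij, ψ, hψ⟩ := Groth.Agent.Hensel.exists_nhd_finite hB (s.biUnion fun p => p.coeffs)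
  letI algA'B : Algebra A' B := ψ.toRingHom.toAlgebra
  haveI : IsScalarTower R A' B := IsScalarTower.of_algebraMap_eq fun r => (ψ.commutes r).symm
  letI algA' : Algebra A A' := ((algebraMap R A').comp (algebraMap A R)).toAlgebra
  haveI : IsScalarTower A R A' := IsScalarTower.of_algebraMap_eq' rfl
  haveI : IsScalarTower A A' B := IsScalarTower.of_algebraMap_eq fun r => by
    rw [IsScalarTower.algebraMap_apply A R B]
    exact (ψ.commutes _).symm
  haveI : Algebra.FinitePresentation A A' := Algebra.FinitePresentation.trans A R A'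
  have hlift : ∀ p : s, ∃ p' : MvPolynomial (Fin m) A', MvPolynomial.map (algebraMap A' B) p' = p.1 := fun p =>
    MvPolynomial.mem_range_map_iff_coeffs_subset.2 fun c hc => hψ (Finset.mem_biUnion.2 ⟨p.1, p.2, hc⟩)
  choose q hq using hlift
  let J : Ideal (MvPolynomial (Fin m) A') := Ideal.span (Set.range q)
  haveI : Algebra.FinitePresentation A (MvPolynomial (Fin m) A') :=
    Algebra.FinitePresentation.trans A A' (MvPolynomial (Fin m) A')
  let T := MvPolynomial (Fin m) A' ⧸ J
  haveI : Algebra.FinitePresentation A T :=
    Algebra.FinitePresentation.quotient (Submodule.fg_span (Set.finite_range q))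
  let u : MvPolynomial (Fin m) A' →+* S := πS.toRingHom.comp (MvPolynomial.map (algebraMap A' B))
  have hu : ∀ a ∈ J, u a = 0 := by
    intro a ha
    refine (Ideal.span_le (I := RingHom.ker u)).2 ?_ ha
    rintro _ ⟨p, rfl⟩
    rw [SetLike.mem_coe, RingHom.mem_ker, RingHom.comp_apply, hq]
    exact RingHom.mem_ker.1 (hs ▸ Ideal.subset_span p.2)
  letI algTC : Algebra T C := ((algebraMap S C).comp (Ideal.Quotient.lift J u hu)).toAlgebra
  have hTC : ∀ p, algebraMap T C (Ideal.Quotient.mk J p) = algebraMap S C (u p) := fun p => rfl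
  have huC : ∀ a : A', u (MvPolynomial.C a) = algebraMap B S (algebraMap A' B a) := fun a => by
    change πS (MvPolynomial.map (algebraMap A' B) (MvPolynomial.C a)) = _
    rw [MvPolynomial.map_C]
    exact πS.commutes _
  have hSB : ∀ b, algebraMap S C (algebraMap B S b) = algebraMap B C b := fun b =>
    (IsScalarTower.algebraMap_apply B S C b).symm
  haveI : IsScalarTower A T C := IsScalarTower.of_algebraMap_eq (R := A) (S := T) (A := C) fun r => by
    rw [IsScalarTower.algebraMap_apply A A' T, IsScalarTower.algebraMap_apply A B C,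
      IsScalarTower.algebraMap_apply A A' B, ← hSB, ← huC, ← hTC]
    rfl
  have hIC : (I.map (algebraMap A S)).map (algebraMap S C) = I.map (algebraMap A C) := by
    rw [Ideal.map_map]
    refine congrArg (Ideal.map · I) (RingHom.ext fun r => ?_)
    rw [RingHom.comp_apply, IsScalarTower.algebraMap_apply A B S, hSB, ← IsScalarTower.algebraMap_apply]
  refine ⟨T, inferInstance, inferInstance, algTC, inferInstance, inferInstance, ?_, fun D _ K f hK hf => ?_⟩
  · rw [Ideal.map_map, ← IsScalarTower.algebraMap_eq, ← hIC]
    exact hC.1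
  have hBn : Hens2.IsPairHenselization A' ((I.map (algebraMap A R)).map (algebraMap R A')) B :=
    Groth.Agent.Hensel.isPairHenselization_of_nhd hB A' hbij
  let fA' : A' →+* D := f.comp ((Ideal.Quotient.mk J).comp MvPolynomial.C)
  have hfA' : ((I.map (algebraMap A R)).map (algebraMap R A')).map fA' ≤ K := by
    refine le_trans (le_of_eq ?_) hf
    rw [Ideal.map_map, Ideal.map_map, Ideal.map_map]
    rfl
  obtain ⟨gB, hgB, hgBu⟩ := hBn.2 D K fA' hK hfA'
  let w : MvPolynomial (Fin m) B →+* D :=
    MvPolynomial.eval₂Hom gB fun i => f (Ideal.Quotient.mk J (MvPolynomial.X i))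
  have hw : ∀ p, w (MvPolynomial.map (algebraMap A' B) p) = f (Ideal.Quotient.mk J p) := fun p => by
    refine RingHom.congr_fun (MvPolynomial.ringHom_ext (f := w.comp (MvPolynomial.map (algebraMap A' B)))
      (g := f.comp (Ideal.Quotient.mk J)) (fun a => ?_) fun i => ?_) p
    · simp only [RingHom.comp_apply, MvPolynomial.map_C, w, MvPolynomial.eval₂Hom_C]
      exact RingHom.congr_fun hgB a
    · simp only [RingHom.comp_apply, MvPolynomial.map_X, w, MvPolynomial.eval₂Hom_X']
  have hwker : RingHom.ker πS.toRingHom ≤ RingHom.ker w := by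
    rw [← hs, Ideal.span_le]
    intro p hp
    rw [SetLike.mem_coe, RingHom.mem_ker, show p = MvPolynomial.map (algebraMap A' B) (q ⟨p, hp⟩) from (hq ⟨p, hp⟩).symm, hw,
      Ideal.Quotient.eq_zero_iff_mem.2 (show q ⟨p, hp⟩ ∈ J from Ideal.subset_span ⟨_, rfl⟩), map_zero]
  let h : S →+* D := RingHom.liftOfSurjective πS.toRingHom hπS ⟨w, hwker⟩
  have hh : ∀ p, h (πS p) = w p := fun p => RingHom.liftOfRightInverse_comp_apply _ _ _ ⟨w, hwker⟩ p
  have hhu : ∀ p, h (u p) = f (Ideal.Quotient.mk J p) := fun p => (hh _).trans (hw p)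
  obtain ⟨G, hG, hGu⟩ := hC.2 D K h hK (by
    rw [Ideal.map_map]
    refine le_trans (le_of_eq ?_) hf
    rw [Ideal.map_map]
    refine congrArg (Ideal.map · I) (RingHom.ext fun r => ?_)
    rw [RingHom.comp_apply, IsScalarTower.algebraMap_apply A B S, IsScalarTower.algebraMap_apply A A' B,
      ← huC, hhu]
    rfl)
  refine ⟨G, Ideal.Quotient.ringHom_ext (RingHom.ext fun p => ?_), fun G' hG' => hGu G' ?_⟩
  · change G (algebraMap S C (u p)) = f (Ideal.Quotient.mk J p)
    rw [← RingHom.comp_apply G, hG, hhu]
  · have hG'u : ∀ p, G' (algebraMap S C (u p)) = f (Ideal.Quotient.mk J p) := fun p =>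
      RingHom.congr_fun hG' (Ideal.Quotient.mk J p)
    have hB' : G'.comp (algebraMap B C) = gB := hgBu _ (RingHom.ext fun a => by
      rw [RingHom.comp_apply, RingHom.comp_apply, ← hSB, ← huC]
      exact hG'u _)
    refine RingHom.ext fun z => ?_
    obtain ⟨p, rfl⟩ := hπS z
    rw [hh]
    refine RingHom.congr_fun (MvPolynomial.ringHom_ext (f := (G'.comp (algebraMap S C)).comp πS.toRingHom) (g := w)
      (fun b => ?_) fun i => ?_) p
    · rw [RingHom.comp_apply, RingHom.comp_apply, ← MvPolynomial.algebraMap_eq]
      change G' (algebraMap S C (πS (algebraMap B _ b))) = w (MvPolynomial.C b)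
      rw [πS.commutes, hSB, ← RingHom.comp_apply G', hB']
      exact (MvPolynomial.eval₂Hom_C _ _ b).symm
    · have h1 := hG'u (MvPolynomial.X i)
      simp only [u, RingHom.comp_apply, MvPolynomial.map_X] at h1
      exact h1.trans (MvPolynomial.eval₂Hom_X' gB (fun i => f (Ideal.Quotient.mk J (MvPolynomial.X i))) i).symm

end Groth.Agent.S17608
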