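import Groth.Statements.S17609
import Mathlib
import Groth.Agent.Hensel.PairNbhd
-- import your own Groth.Agent.* helpers here

set_option autoImplicit false
universe u
open Hensel
open scoped TensorProduct

namespace Groth.Agent.S17609

/-- Let (A, I) be a Henselian pair and let B, C be Henselizations of the pairs (R, IR), (S, IS) for
finitely presented A-algebras R and S, with their induced A-algebra structures (so A → B and A → C
are Henselian finitely presented). Then every A-algebra map B → C (encoded as a B-algebra structure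
on C compatible with that of A) is Henselian finitely presented: there are a finitely presented
B-algebra T and a T-algebra structure on C compatible with that of B for which C is a Henselization
of the pair (T, IBT). -/
theorem result (A : Type u) [CommRing A] (I : Ideal A) [HenselianRing A I]
    (R : Type u) [CommRing R] [Algebra A R] [Algebra.FinitePresentation A R]
    (B : Type u) [CommRing B] [Algebra R B] [Algebra A B] [IsScalarTower A R B]
    (hB : Hens2.IsPairHenselization R (I.map (algebraMap A R)) B)
    (S : Type u) [CommRing S] [Algebra A S] [Algebra.FinitePresentation A S]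
    (C : Type u) [CommRing C] [Algebra S C] [Algebra A C] [IsScalarTower A S C]
    (hC : Hens2.IsPairHenselization S (I.map (algebraMap A S)) C)
    [Algebra B C] [IsScalarTower A B C] :
    ∃ (T : Type u) (_ : CommRing T) (_ : Algebra B T) (_ : Algebra T C) (_ : IsScalarTower B T C),
      Algebra.FinitePresentation B T ∧
      Hens2.IsPairHenselization T ((I.map (algebraMap A B)).map (algebraMap B T)) C := by
  classical
  obtain ⟨n, π, hπ, -⟩ := Algebra.FinitePresentation.out (R := A) (A := R)
  let c : Fin n → C := fun i => algebraMap B C (algebraMap R B (π (MvPolynomial.X i)))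
  obtain ⟨S', _, _, _, hbij, ψ, hψ⟩ := Groth.Agent.Hensel.exists_nhd_finite hC (Finset.univ.image c)
  letI algS'C : Algebra S' C := ψ.toRingHom.toAlgebra
  haveI : IsScalarTower S S' C := IsScalarTower.of_algebraMap_eq fun r => (ψ.commutes r).symm
  letI algS' : Algebra A S' := ((algebraMap S S').comp (algebraMap A S)).toAlgebra
  haveI : IsScalarTower A S S' := IsScalarTower.of_algebraMap_eq' rfl
  haveI : IsScalarTower A S' C := IsScalarTower.of_algebraMap_eq fun r => by
    rw [IsScalarTower.algebraMap_apply A S C]
    exact (ψ.commutes _).symm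
  haveI : Algebra.FinitePresentation A S' := Algebra.FinitePresentation.trans A S S'
  choose s hs using fun i => hψ (Finset.mem_image_of_mem c (Finset.mem_univ i))
  let rel : Fin n → B ⊗[A] S' := fun i =>
    algebraMap R B (π (MvPolynomial.X i)) ⊗ₜ[A] (1 : S') - (1 : B) ⊗ₜ[A] s i
  let J : Ideal (B ⊗[A] S') := Ideal.span (Set.range rel)
  let μ : B ⊗[A] S' →ₐ[A] C :=
    Algebra.TensorProduct.productMap (IsScalarTower.toAlgHom A B C) (IsScalarTower.toAlgHom A S' C)
  have hμl : ∀ b, μ (b ⊗ₜ[A] (1 : S')) = algebraMap B C b := fun b => by simp [μ]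
  have hμr : ∀ x, μ ((1 : B) ⊗ₜ[A] x) = algebraMap S' C x := fun x => by simp [μ]
  have hμ : ∀ a ∈ J, μ.toRingHom a = 0 := by
    intro a ha
    refine (Ideal.span_le (I := RingHom.ker μ.toRingHom)).2 ?_ ha
    rintro _ ⟨i, rfl⟩
    rw [SetLike.mem_coe, RingHom.mem_ker]
    change μ (rel i) = 0
    rw [map_sub, hμl, hμr, sub_eq_zero]
    exact (hs i).symm
  let T := (B ⊗[A] S') ⧸ J
  haveI : Algebra.FinitePresentation B T :=
    Algebra.FinitePresentation.quotient (Submodule.fg_span (Set.finite_range rel))
  letI algTC : Algebra T C := (Ideal.Quotient.lift J μ.toRingHom hμ).toAlgebra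
  haveI : IsScalarTower B T C := IsScalarTower.of_algebraMap_eq (R := B) (S := T) (A := C) fun b => (hμl b).symm
  have hIA : ((I.map (algebraMap A B)).map (algebraMap B T)).map (algebraMap T C) = I.map (algebraMap A C) := by
    rw [Ideal.map_map, Ideal.map_map, ← IsScalarTower.algebraMap_eq, ← IsScalarTower.algebraMap_eq]
  refine ⟨T, inferInstance, inferInstance, algTC, inferInstance, inferInstance, ?_, fun D _ K f hK hf => ?_⟩
  · rw [hIA, IsScalarTower.algebraMap_eq A S C, ← Ideal.map_map]
    exact hC.1
  have hCn : Hens2.IsPairHenselization S' ((I.map (algebraMap A S)).map (algebraMap S S')) C :=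
    Groth.Agent.Hensel.isPairHenselization_of_nhd hC S' hbij
  let fB : B →+* D := f.comp (algebraMap B T)
  let fS : S' →+* D :=
    f.comp ((Ideal.Quotient.mk J).comp (Algebra.TensorProduct.includeRight : S' →ₐ[A] B ⊗[A] S').toRingHom)
  have hA : ∀ r, fS (algebraMap A S' r) = fB (algebraMap A B r) := fun r => by
    change f (Ideal.Quotient.mk J ((Algebra.TensorProduct.includeRight : S' →ₐ[A] B ⊗[A] S') (algebraMap A S' r))) =
      f (Ideal.Quotient.mk J (algebraMap B (B ⊗[A] S') (algebraMap A B r)))
    rw [AlgHom.commutes, ← IsScalarTower.algebraMap_apply]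
  have hfI : I.map (fB.comp (algebraMap A B)) ≤ K := by
    refine le_trans (le_of_eq ?_) hf
    rw [Ideal.map_map, Ideal.map_map]
  obtain ⟨G, hG, hGu⟩ := hCn.2 D K fS hK (by
    refine le_trans (le_of_eq ?_) hfI
    rw [Ideal.map_map, Ideal.map_map]
    exact congrArg (Ideal.map · I) (RingHom.ext hA))
  have hGA : ∀ r, G (algebraMap A C r) = fB (algebraMap A B r) := fun r => by
    rw [IsScalarTower.algebraMap_apply A S' C, ← RingHom.comp_apply G, hG]
    exact hA r
  have hGs : ∀ x, G (algebraMap S' C x) = f (Ideal.Quotient.mk J ((1 : B) ⊗ₜ[A] x)) := fun x =>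
    RingHom.congr_fun hG x
  have hGB : G.comp (algebraMap B C) = fB := by
    refine (hB.2 D K (fB.comp (algebraMap R B)) hK (by
      refine le_trans (le_of_eq ?_) hfI
      rw [Ideal.map_map, RingHom.comp_assoc, ← IsScalarTower.algebraMap_eq])).unique ?_ rfl
    refine RingHom.ext fun r => ?_
    obtain ⟨p, rfl⟩ := hπ r
    change G (algebraMap B C (algebraMap R B (π p))) = fB (algebraMap R B (π p))
    induction p using MvPolynomial.induction_on with
    | C a =>
      rw [← MvPolynomial.algebraMap_eq, π.commutes, ← IsScalarTower.algebraMap_apply A R B,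
        ← IsScalarTower.algebraMap_apply A B C, hGA]
    | add p q hp hq => simp only [map_add, hp, hq]
    | mul_X p i hp =>
      simp only [map_mul, hp]
      congr 1
      rw [show algebraMap B C (algebraMap R B (π (MvPolynomial.X i))) = algebraMap S' C (s i) from (hs i).symm, hGs]
      change _ = f (Ideal.Quotient.mk J (algebraMap R B (π (MvPolynomial.X i)) ⊗ₜ[A] (1 : S')))
      exact congrArg f (Ideal.Quotient.eq.2 (by
        rw [← neg_sub]; exact J.neg_mem (Ideal.subset_span ⟨i, rfl⟩)))
  refine ⟨G, Ideal.Quotient.ringHom_ext (RingHom.ext fun x => ?_), fun G' hG' => hGu G' (RingHom.ext fun x => ?_)⟩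
  · change G (μ x) = f (Ideal.Quotient.mk J x)
    induction x using TensorProduct.induction_on with
    | zero => simp only [map_zero]
    | add a b ha hb => simp only [map_add, ha, hb]
    | tmul b x =>
      rw [show b ⊗ₜ[A] x = (b ⊗ₜ[A] (1 : S')) * ((1 : B) ⊗ₜ[A] x) by simp]
      simp only [map_mul, hμl, hμr, hGs]
      rw [← RingHom.comp_apply G, hGB]
      rfl
  · have h1 := RingHom.congr_fun hG' (Ideal.Quotient.mk J ((1 : B) ⊗ₜ[A] x))
    change G' (μ ((1 : B) ⊗ₜ[A] x)) = _ at h1
    rw [hμr] at h1
    exact h1

end Groth.Agent.S17609
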