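import Groth.Statements.S17613
import Mathlib
import Groth.Agent.Hensel.DirectLimit
-- import your own Groth.Agent.* helpers here

set_option autoImplicit false
universe u
open Hensel

namespace Groth.Agent.S17613

/-- Let (A, I) be a Henselian pair and let B be a Henselization of the pair (R₀, IR₀) for a finitely
presented A-algebra R₀ (so A → B is Henselian finitely presented). Let (R_a) be a directed system of
A-algebras with A-compatible transition maps such that each (R_a, IR_a) is a Henselian pair, and let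
L be its direct limit with the induced A-algebra structure. Then the canonical map from the colimit
of the Hom_A(B, R_a) to Hom_A(B, L) is bijective: every A-algebra map B → L factors through some
R_a, and two A-algebra maps B → R_a whose composites with R_a → L agree become equal after passing
to some R_b. (Index set in the universe of the rings.) -/
theorem result (A : Type u) [CommRing A] (I : Ideal A)
    [HenselianRing A I] (R₀ : Type u) [CommRing R₀] [Algebra A R₀] [Algebra.FinitePresentation A R₀]
    (B : Type u) [CommRing B] [Algebra R₀ B] [Algebra A B] [IsScalarTower A R₀ B]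
    (hB : Hens2.IsPairHenselization R₀ (I.map (algebraMap A R₀)) B)
    {κ : Type u} [Preorder κ] [IsDirectedOrder κ] [Nonempty κ]
    (Ra : κ → Type u) [∀ a, CommRing (Ra a)] [∀ a, Algebra A (Ra a)]
    [∀ a, HenselianRing (Ra a) (I.map (algebraMap A (Ra a)))]
    (t : ∀ a b : κ, a ≤ b → (Ra a →+* Ra b)) [DirectedSystem Ra (fun a b h => t a b h)]
    (ht : ∀ (a b : κ) (h : a ≤ b), (t a b h).comp (algebraMap A (Ra a)) = algebraMap A (Ra b))
    [Algebra A (DirectLimit Ra t)]
    (halg : ∀ (a : κ) (x : A), algebraMap A (DirectLimit Ra t) x =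
      DirectLimit.Ring.of Ra t a (algebraMap A (Ra a) x)) :
    (∀ χ : B →ₐ[A] DirectLimit Ra t, ∃ (a : κ) (φ : B →ₐ[A] Ra a),
        ∀ x : B, DirectLimit.Ring.of Ra t a (φ x) = χ x) ∧
    ∀ (a : κ) (φ ψ : B →ₐ[A] Ra a),
      (∀ x : B, DirectLimit.Ring.of Ra t a (φ x) = DirectLimit.Ring.of Ra t a (ψ x)) →
      ∃ (b : κ) (h : a ≤ b), ∀ x : B, t a b h (φ x) = t a b h (ψ x) := by
  classical
  let L := DirectLimit Ra t
  let of := DirectLimit.Ring.of Ra t
  have hof : ∀ a b (h : a ≤ b) x, of b (t a b h x) = of a x := fun a b h x => DirectLimit.Ring.of_f h x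
  have htA : ∀ a b (h : a ≤ b) x, t a b h (algebraMap A (Ra a) x) = algebraMap A (Ra b) x := fun a b h x =>
    RingHom.congr_fun (ht a b h) x
  have htt : ∀ a b c (h : a ≤ b) (h' : b ≤ c) x, t b c h' (t a b h x) = t a c (h.trans h') x := fun a b c h h' x =>
    DirectedSystem.map_map (f := fun i j h => t i j h) h h' x
  have hrep : ∀ z : L, ∃ a x, of a x = z := fun z => by
    obtain ⟨⟨a, x⟩, rfl⟩ := Quotient.exists_rep z
    exact ⟨a, x, rfl⟩
  have hex : ∀ a (x y : Ra a), of a x = of a y → ∃ b, ∃ h : a ≤ b, t a b h x = t a b h y := fun a x y h => by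
    obtain ⟨b, h1, h2, e⟩ := Quotient.exact h
    exact ⟨b, h1, e⟩
  -- the limit is a henselian pair
  let f' := fun a b (h : a ≤ b) => (t a b h : Ra a → Ra b)
  let I' : ∀ a, Ideal (Ra a) := fun a => I.map (algebraMap A (Ra a))
  have hL : HenselianRing (Ring.DirectLimit Ra f') (⨆ a, (I' a).map (Ring.DirectLimit.of Ra f' a)) :=
    Groth.Agent.Hensel.henselianRing_directLimit Ra t I' (fun a b h => by
      simp only [I', Ideal.map_map, ht]; exact le_rfl) fun a => inferInstance
  let ε : Ring.DirectLimit Ra f' ≃+* L := Ring.DirectLimit.ringEquiv Ra t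
  have hε : ∀ a x, ε.symm (of a x) = Ring.DirectLimit.of Ra f' a x := fun a x => by
    rw [RingEquiv.symm_apply_eq]; exact (Ring.DirectLimit.ringEquiv_of Ra t).symm
  have hεI : I.map (ε.symm.toRingHom.comp (algebraMap A L)) ≤ ⨆ a, (I' a).map (Ring.DirectLimit.of Ra f' a) := by
    rw [Ideal.map_le_iff_le_comap]
    intro x hx
    let a := Classical.arbitrary κ
    rw [Ideal.mem_comap]
    change ε.symm (algebraMap A L x) ∈ _
    rw [halg a, hε]
    exact Ideal.mem_iSup_of_mem a (Ideal.mem_map_of_mem _ (Ideal.mem_map_of_mem _ hx))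
  -- uniqueness
  have huniq : ∀ (C : Type u) [CommRing C] (J : Ideal C) (g g' : B →+* C), HenselianRing C J →
      (I.map (algebraMap A R₀)).map (g.comp (algebraMap R₀ B)) ≤ J →
      g.comp (algebraMap R₀ B) = g'.comp (algebraMap R₀ B) → g = g' := fun C _ J g g' hC hJ h =>
    (hB.2 C J _ hC hJ).unique rfl h.symm
  obtain ⟨n, π, hπ, s, hs⟩ := Algebra.FinitePresentation.out (R := A) (A := R₀)
  constructor
  · intro χ
    let χ₀ : R₀ →ₐ[A] L := χ.comp (IsScalarTower.toAlgHom A R₀ B)
    choose a y hy using fun m : Fin n => hrep (χ₀ (π (MvPolynomial.X m)))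
    obtain ⟨b, hb⟩ := Finite.exists_le a
    let φ₁ : MvPolynomial (Fin n) A →ₐ[A] Ra b := MvPolynomial.aeval fun m => t (a m) b (hb m) (y m)
    have hφ₁ : ∀ p, of b (φ₁ p) = χ₀ (π p) := fun p => by
      induction p using MvPolynomial.induction_on with
      | C r =>
        rw [show MvPolynomial.C r = algebraMap A (MvPolynomial (Fin n) A) r from rfl, AlgHom.commutes,
          AlgHom.commutes, AlgHom.commutes]
        exact (halg b r).symm
      | add p q hp hq => rw [map_add, map_add, map_add, map_add, hp, hq]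
      | mul_X p m hp =>
        rw [map_mul, map_mul, map_mul, map_mul, hp]
        congr 1
        simp only [φ₁, MvPolynomial.aeval_X]
        rw [hof, hy]
    have hkill : ∀ p : s, ∃ c, ∃ h : b ≤ c, t b c h (φ₁ p.1) = 0 := fun p => by
      have h0 : π p.1 = 0 := RingHom.mem_ker.1 (hs ▸ Ideal.subset_span p.2)
      obtain ⟨c, h, e⟩ := hex b (φ₁ p.1) 0 (by rw [hφ₁, h0, map_zero, map_zero])
      exact ⟨c, h, by rw [e, map_zero]⟩
    choose c hbc hc using hkill
    obtain ⟨d, hd⟩ := Finite.exists_le (fun o : Option s => o.elim b c)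
    have hbd : b ≤ d := hd none
    let φ₂ : MvPolynomial (Fin n) A →ₐ[A] Ra d :=
      { (t b d hbd).comp φ₁.toRingHom with
        commutes' := fun r => by
          change t b d hbd (φ₁ (algebraMap A _ r)) = _
          rw [AlgHom.commutes, htA] }
    have hker : RingHom.ker π ≤ RingHom.ker φ₂ := by
      change RingHom.ker π.toRingHom ≤ _
      rw [← hs, Ideal.span_le]
      intro p hp
      rw [SetLike.mem_coe, RingHom.mem_ker]
      change t b d hbd (φ₁ p) = 0
      rw [← htt b (c ⟨p, hp⟩) d (hbc _) (hd (some ⟨p, hp⟩)), hc ⟨p, hp⟩, map_zero]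
    let ψ₀ : R₀ →+* Ra d := RingHom.liftOfSurjective π.toRingHom hπ ⟨φ₂.toRingHom, hker⟩
    have hψ₀ : ∀ p, ψ₀ (π p) = φ₂ p := fun p =>
      RingHom.liftOfRightInverse_comp_apply _ _ _ ⟨φ₂.toRingHom, hker⟩ p
    have hψA : ψ₀.comp (algebraMap A R₀) = algebraMap A (Ra d) := RingHom.ext fun r => by
      rw [RingHom.comp_apply, ← π.commutes r, hψ₀, AlgHom.commutes]
    obtain ⟨g, hg, -⟩ := hB.2 (Ra d) (I' d) ψ₀ inferInstance (by rw [Ideal.map_map, hψA])
    have hgA : ∀ r, g (algebraMap A B r) = algebraMap A (Ra d) r := fun r => by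
      rw [IsScalarTower.algebraMap_apply A R₀ B, ← RingHom.comp_apply g, hg, ← RingHom.comp_apply, hψA]
    refine ⟨d, { g with commutes' := hgA }, fun x => ?_⟩
    have h0 : (of d).comp (g.comp (algebraMap R₀ B)) = χ.toRingHom.comp (algebraMap R₀ B) := by
      rw [hg]
      refine RingHom.ext fun r => ?_
      obtain ⟨p, rfl⟩ := hπ r
      change of d (ψ₀ (π p)) = χ₀ (π p)
      rw [hψ₀, ← hφ₁]
      exact hof b d hbd (φ₁ p)
    have h1 := huniq (Ring.DirectLimit Ra f') _ (ε.symm.toRingHom.comp ((of d).comp g))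
      (ε.symm.toRingHom.comp χ.toRingHom) hL (by
        rw [Ideal.map_map]
        refine le_trans (le_of_eq (congrArg (Ideal.map · I) (RingHom.ext fun r => ?_))) hεI
        change ε.symm (of d (g (algebraMap R₀ B (algebraMap A R₀ r)))) = ε.symm (algebraMap A L r)
        rw [← IsScalarTower.algebraMap_apply, hgA, halg d]) (by
        rw [RingHom.comp_assoc, RingHom.comp_assoc, RingHom.comp_assoc, h0])
    exact ε.symm.injective (RingHom.congr_fun h1 x)
  · intro a φ ψ hφψ
    choose b hab he using fun m : Fin n => hex a _ _ (hφψ (algebraMap R₀ B (π (MvPolynomial.X m))))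
    obtain ⟨c, hc⟩ := Finite.exists_le (fun o : Option (Fin n) => o.elim a b)
    have hac : a ≤ c := hc none
    refine ⟨c, hac, fun x => RingHom.congr_fun (huniq (Ra c) (I' c) ((t a c hac).comp φ.toRingHom)
      ((t a c hac).comp ψ.toRingHom) inferInstance ?_ ?_) x⟩
    · rw [Ideal.map_map]
      refine le_of_eq (congrArg (Ideal.map · I) (RingHom.ext fun r => ?_))
      change t a c hac (φ (algebraMap R₀ B (algebraMap A R₀ r))) = _
      rw [← IsScalarTower.algebraMap_apply, AlgHom.commutes, htA]
    · refine RingHom.ext fun r => ?_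
      obtain ⟨p, rfl⟩ := hπ r
      change t a c hac (φ (algebraMap R₀ B (π p))) = t a c hac (ψ (algebraMap R₀ B (π p)))
      induction p using MvPolynomial.induction_on with
      | C r =>
        rw [show MvPolynomial.C r = algebraMap A (MvPolynomial (Fin n) A) r from rfl, AlgHom.commutes,
          ← IsScalarTower.algebraMap_apply, AlgHom.commutes, AlgHom.commutes]
      | add p q hp hq => simp only [map_add, hp, hq]
      | mul_X p m hp =>
        simp only [map_mul, hp]
        congr 1
        rw [← htt a (b m) c (hab m) (hc (some m)) (φ _), he m, htt]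

end Groth.Agent.S17613
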