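import Groth.Statements.S17617
import Mathlib
import Groth.Agent.Hensel.PairEnvelopeProps
-- import your own Groth.Agent.* helpers here

set_option autoImplicit false
universe u
open Hensel
open scoped TensorProduct

namespace Groth.Agent.S17617

/-- Let (A, I) be a Henselian pair and let M' → M → M'' be A-linear maps with zero composite. Then M' →
M → M'' is exact if and only if for every prime ideal p of A containing I and every Henselization H
of the pair (A_p, IA_p), the sequence H ⊗_A M' → H ⊗_A M → H ⊗_A M'' is exact. (The modules H ⊗_A M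
are the stalks at p of the sheaf associated to M on the affine Henselian scheme of (A, I), and
exactness of a sequence of such sheaves is exactness at every stalk, so this is the statement that
the sequence of modules is exact exactly when the associated sequence of sheaves is.) -/
theorem result (A : Type u) [CommRing A]
    (I : Ideal A) [HenselianRing A I]
    (M' M M'' : Type u) [AddCommGroup M'] [Module A M'] [AddCommGroup M] [Module A M]
    [AddCommGroup M''] [Module A M''] (f : M' →ₗ[A] M) (g : M →ₗ[A] M'') (hfg : g.comp f = 0) :
    Function.Exact f g ↔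
    ∀ (p : Ideal A) [p.IsPrime], I ≤ p →
      ∀ (H : Type u) [CommRing H] [Algebra (Localization.AtPrime p) H] [Algebra A H]
        [IsScalarTower A (Localization.AtPrime p) H],
        Hens2.IsPairHenselization (Localization.AtPrime p)
          (I.map (algebraMap A (Localization.AtPrime p))) H →
        Function.Exact (f.baseChange H) (g.baseChange H) := by
  refine ⟨fun h p _ _ H _ _ _ _ hH => ?_, fun h x => ⟨fun hx => ?_, fun ⟨y, hy⟩ => hy ▸ LinearMap.congr_fun hfg y⟩⟩
  · haveI : Module.Flat (Localization.AtPrime p) H := Groth.Agent.Hensel.pairHenselization_flat hH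
    haveI : Module.Flat A (Localization.AtPrime p) := IsLocalization.flat _ p.primeCompl
    haveI : Module.Flat A H := Module.Flat.trans A (Localization.AtPrime p) H
    exact Module.Flat.lTensor_exact H h
  let Q := M ⧸ LinearMap.range f
  let q : M →ₗ[A] Q := (LinearMap.range f).mkQ
  suffices hq : q x = 0 from LinearMap.mem_range.1 ((Submodule.Quotient.mk_eq_zero _).1 hq)
  let T : Ideal A := LinearMap.ker (LinearMap.toSpanSingleton A Q (q x))
  have hT : T = ⊤ := by
    by_contra hne
    obtain ⟨m, hm, hTm⟩ := Ideal.exists_le_maximal T hne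
    haveI := hm
    have hIm : I ≤ m := HenselianRing.jac.trans (sInf_le ⟨bot_le, hm⟩)
    set Am := Localization.AtPrime m
    let H := Groth.Agent.Hensel.PairEnv Am (I.map (algebraMap A Am))
    letI : Algebra A H := ((algebraMap Am H).comp (algebraMap A Am)).toAlgebra
    haveI : IsScalarTower A Am H := IsScalarTower.of_algebraMap_eq' rfl
    have hH : Hens2.IsPairHenselization Am (I.map (algebraMap A Am)) H :=
      Groth.Agent.Hensel.isPairHenselization_pairEnv _ _
    have hex := h m hIm H hH
    obtain ⟨z, hz⟩ := (hex ((1 : H) ⊗ₜ[A] x)).1 (by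
      rw [LinearMap.baseChange_tmul, hx, TensorProduct.tmul_zero])
    have h0 : (1 : H) ⊗ₜ[A] q x = 0 := by
      have h1 : (q.baseChange H) ((1 : H) ⊗ₜ[A] x) = 0 := by
        rw [← hz, ← LinearMap.comp_apply, ← LinearMap.baseChange_comp,
          show q.comp f = 0 from LinearMap.range_mkQ_comp f, LinearMap.baseChange_zero, LinearMap.zero_apply]
      rwa [LinearMap.baseChange_tmul] at h1
    haveI : Module.FaithfullyFlat Am H :=
      Groth.Agent.Hensel.pairHenselization_faithfullyFlat hH (by
        rw [IsLocalRing.jacobson_eq_maximalIdeal (⊥ : Ideal Am) bot_ne_top,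
          ← Localization.AtPrime.map_eq_maximalIdeal]
        exact Ideal.map_mono hIm)
    have h1 : (1 : Am) ⊗ₜ[A] q x = 0 := by
      refine Module.FaithfullyFlat.tensorProduct_mk_injective (A := Am) (B := H) (Am ⊗[A] Q) ?_
      refine (TensorProduct.AlgebraTensorModule.cancelBaseChange A Am Am H Q).injective ?_
      change TensorProduct.AlgebraTensorModule.cancelBaseChange A Am Am H Q ((1 : H) ⊗ₜ ((1 : Am) ⊗ₜ[A] q x)) =
        TensorProduct.AlgebraTensorModule.cancelBaseChange A Am Am H Q ((1 : H) ⊗ₜ[Am] (0 : Am ⊗[A] Q))
      rw [TensorProduct.AlgebraTensorModule.cancelBaseChange_tmul, one_smul, h0, TensorProduct.tmul_zero, map_zero]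
    obtain ⟨s, hs⟩ := (IsLocalizedModule.eq_zero_iff m.primeCompl (TensorProduct.mk A Am Q 1)).1 h1
    exact s.2 (hTm (show (s : A) • q x = 0 from hs))
  have h1 : (1 : A) ∈ T := hT ▸ Submodule.mem_top
  simpa [T] using h1

end Groth.Agent.S17617
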