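import Groth.Statements.S17620
import Groth.Agent.Hensel.Ops
import Mathlib.RingTheory.TensorProduct.Basic
import Mathlib.FieldTheory.IsSepClosed
import Mathlib
-- import your own Groth.Agent.* helpers here

set_option autoImplicit false
universe u
open Hensel
open scoped TensorProduct

namespace Groth.Agent.S17620

/-- Let R be a local ring and J an ideal of R contained in the maximal ideal, let H be a Henselization
of the pair (R, J) which is a local ring with local structure map R → H, and let S be a strict
Henselization of the local ring H. Then S, with its composite R-algebra structure, is a strict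
Henselization of the local ring R. (This is the identification of the strict Henselization of the
local ring of a scheme at a point with that of the local ring of its Henselization along a closed
subscheme through the point.) -/
theorem result
    (R : Type u) [CommRing R] [IsLocalRing R] (J : Ideal R) (hJ : J ≤ IsLocalRing.maximalIdeal R)
    (H : Type u) [CommRing H] [IsLocalRing H] [Algebra R H] [IsLocalHom (algebraMap R H)]
    (hH : Hens2.IsPairHenselization R J H)
    (S : Type u) [CommRing S] [IsLocalRing S] [Algebra H S] [IsLocalHom (algebraMap H S)]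
    [Hensel.IsStrictHenselization H S]
    [Algebra R S] [IsScalarTower R H S] [IsLocalHom (algebraMap R S)] :
    Hensel.IsStrictHenselization R S := by
  classical
  haveI hSH : HenselianLocalRing S := Hensel.IsStrictHenselization.henselian (R := H)
  have hRS : ∀ r, algebraMap R S r = algebraMap H S (algebraMap R H r) := IsScalarTower.algebraMap_apply R H S
  -- maps out of `H` killing `J` are determined on `R`
  have key : ∀ (D : Type u) [CommRing D] (f₁ f₂ : H →+* D), f₁.comp (algebraMap R H) = f₂.comp (algebraMap R H) →
      (∀ j ∈ J, f₁ (algebraMap R H j) = 0) → f₁ = f₂ := fun D _ f₁ f₂ h h0 => by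
    refine (hH.2 D ⊥ (f₁.comp (algebraMap R H)) Groth.Agent.Hensel.henselianRing_bot ?_).unique rfl h.symm
    exact Ideal.map_le_iff_le_comap.2 fun j hj => Ideal.mem_comap.2 ((Ideal.mem_bot).2 (h0 j hj))
  have hJ0 : ∀ j ∈ J, IsLocalRing.residue R j = 0 := fun j hj => (IsLocalRing.residue_eq_zero_iff j).2 (hJ hj)
  have hmap : ∀ r, IsLocalRing.residue H (algebraMap R H r) =
      algebraMap (IsLocalRing.ResidueField R) (IsLocalRing.ResidueField H) (IsLocalRing.residue R r) := fun r => rfl
  have hsurj : Function.Surjective (algebraMap (IsLocalRing.ResidueField R) (IsLocalRing.ResidueField H)) := by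
    intro x
    obtain ⟨y, rfl⟩ := IsLocalRing.residue_surjective x
    have h := key (IsLocalRing.ResidueField H ⊗[IsLocalRing.ResidueField R] IsLocalRing.ResidueField H)
      ((Algebra.TensorProduct.includeLeft :
          _ →ₐ[IsLocalRing.ResidueField R] _).toRingHom.comp (IsLocalRing.residue H))
      ((Algebra.TensorProduct.includeRight :
          _ →ₐ[IsLocalRing.ResidueField R] _).toRingHom.comp (IsLocalRing.residue H))
      (RingHom.ext fun r => by
        change (Algebra.TensorProduct.includeLeft : _ →ₐ[IsLocalRing.ResidueField R] _)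
            (IsLocalRing.residue H (algebraMap R H r)) =
          (Algebra.TensorProduct.includeRight : _ →ₐ[IsLocalRing.ResidueField R] _)
            (IsLocalRing.residue H (algebraMap R H r))
        rw [hmap, AlgHom.commutes, AlgHom.commutes])
      (fun j hj => by
        change (Algebra.TensorProduct.includeLeft : _ →ₐ[IsLocalRing.ResidueField R] _)
            (IsLocalRing.residue H (algebraMap R H j)) = 0
        rw [hmap, hJ0 j hj, map_zero, map_zero])
    have h' : IsLocalRing.residue H y ⊗ₜ[IsLocalRing.ResidueField R] (1 : IsLocalRing.ResidueField H) =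
        (1 : IsLocalRing.ResidueField H) ⊗ₜ[IsLocalRing.ResidueField R] IsLocalRing.residue H y :=
      RingHom.congr_fun h y
    obtain ⟨φ, hφ⟩ := (Algebra.linearMap (IsLocalRing.ResidueField R)
      (IsLocalRing.ResidueField H)).exists_leftInverse_of_injective
      (LinearMap.ker_eq_bot.2 (FaithfulSMul.algebraMap_injective _ _))
    have h1 : φ 1 = 1 := by simpa using LinearMap.congr_fun hφ 1
    have h2 := congrArg (fun z => TensorProduct.lid (IsLocalRing.ResidueField R) _ (φ.rTensor _ z)) h'
    simp [h1, Algebra.smul_def] at h2
    exact ⟨φ (IsLocalRing.residue H y), h2⟩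
  haveI hsep : Algebra.IsSeparable (IsLocalRing.ResidueField R) (IsLocalRing.ResidueField H) :=
    ⟨fun x => by obtain ⟨a, rfl⟩ := hsurj x; exact isSeparable_algebraMap a⟩
  haveI : IsScalarTower (IsLocalRing.ResidueField R) (IsLocalRing.ResidueField H) (IsLocalRing.ResidueField S) :=
    IsScalarTower.of_algebraMap_eq fun x => by
      obtain ⟨r, rfl⟩ := IsLocalRing.residue_surjective x
      change IsLocalRing.residue S (algebraMap R S r) = IsLocalRing.residue S (algebraMap H S (algebraMap R H r))
      rw [hRS]
  haveI hcl := Hensel.IsStrictHenselization.isSepClosure (R := H) (S := S)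
  refine ⟨hSH, ⟨hcl.sep_closed, ?_⟩, fun T _ _ f _ τ hτ => ?_⟩
  · haveI := hcl.separable
    exact Algebra.IsSeparable.trans (IsLocalRing.ResidueField R) (IsLocalRing.ResidueField H)
      (IsLocalRing.ResidueField S)
  have hfJ : J.map f ≤ IsLocalRing.maximalIdeal T :=
    Ideal.map_le_iff_le_comap.2 fun j hj => Ideal.mem_comap.2 (map_nonunit f j (hJ hj))
  obtain ⟨g₀, hg₀, hu₀⟩ := hH.2 T (J.map f) f (Groth.Agent.Hensel.henselianRing_mono hfJ) le_rfl
  let τH : IsLocalRing.ResidueField H →+* IsLocalRing.ResidueField T :=
    τ.comp (IsLocalRing.ResidueField.map (algebraMap H S))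
  have hτf : ∀ r, τH (IsLocalRing.residue H (algebraMap R H r)) = IsLocalRing.residue T (f r) := fun r => by
    refine Eq.trans ?_ (RingHom.congr_fun hτ (IsLocalRing.residue R r))
    change τ (IsLocalRing.residue S (algebraMap H S (algebraMap R H r))) =
      τ (IsLocalRing.residue S (algebraMap R S r))
    rw [hRS]
  have hres : (IsLocalRing.residue T).comp g₀ = τH.comp (IsLocalRing.residue H) := by
    refine key _ _ _ (RingHom.ext fun r => ?_) fun j hj => ?_
    · change IsLocalRing.residue T (g₀ (algebraMap R H r)) = τH (IsLocalRing.residue H (algebraMap R H r))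
      rw [hτf, ← hg₀, RingHom.comp_apply]
    · change IsLocalRing.residue T (g₀ (algebraMap R H j)) = 0
      rw [← RingHom.comp_apply g₀, hg₀, IsLocalRing.residue_eq_zero_iff]
      exact hfJ (Ideal.mem_map_of_mem f hj)
  haveI hloc : IsLocalHom g₀ := ⟨fun x hx => by
    by_contra hne
    have h := RingHom.congr_fun hres x
    rw [RingHom.comp_apply, RingHom.comp_apply, (IsLocalRing.residue_eq_zero_iff x).2 hne, map_zero] at h
    exact (hx.map (IsLocalRing.residue T)).ne_zero h⟩
  obtain ⟨g, ⟨hg, hgr⟩, hgu⟩ := Hensel.IsStrictHenselization.universal (R := H) (S := S) T g₀ τ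
    (RingHom.ext fun z => by
      obtain ⟨y, rfl⟩ := IsLocalRing.residue_surjective z
      exact (RingHom.congr_fun hres y).symm)
  refine ⟨g, ⟨?_, hgr⟩, fun g' hg' => hgu g' ⟨hu₀ _ ?_, hg'.2⟩⟩
  · refine RingHom.ext fun r => ?_
    rw [RingHom.comp_apply, hRS, ← RingHom.comp_apply g, hg, ← RingHom.comp_apply g₀, hg₀]
  · refine RingHom.ext fun r => ?_
    change g' (algebraMap H S (algebraMap R H r)) = f r
    rw [← hRS]
    exact RingHom.congr_fun hg'.1 r

end Groth.Agent.S17620
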