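import Groth.Statements.S17626
import Groth.Agent.Nakai.BigVanish

set_option autoImplicit false
universe u
open CategoryTheory CategoryTheory.Limits AlgebraicGeometry
open Variety

namespace Groth.Agent.S17626

/-- Let X be an integral scheme, proper over an algebraically closed field k of characteristic zero and
admitting an ample invertible module, of dimension n ≥ 1 (stated in the source over the complex
numbers), and L an invertible O_X-module which is big, in the sense that its volume ĥ^0(X, L) =
limsup_m dim_k H^0(X, L^{⊗m}) · n!/m^n is positive. Then ĥ^n(X, L) = 0. (The published statement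
allows n = 0, where it fails: X is then a point, every L is big and ĥ^0(X, L) = 1; the printed
argument uses that L and its inverse cannot both be big, which needs n ≥ 1.) -/
theorem result (k : Type u) [Field k] [IsAlgClosed k] [CharZero k] (X : Scheme.{u})
    [X.Over (Spec (CommRingCat.of k))] [AlgebraicGeometry.IsIntegral X]
    [IsProper (X ↘ Spec (CommRingCat.of k))] (hproj : ∃ A : X.Modules, CohB1.IsAmple A)
    (n : ℕ) (hn : topologicalKrullDim X = n) (hn1 : 1 ≤ n)
    (L : X.Modules) (hL : PicF.IsInvertible L) (hbig : 0 < W4c5asymptcohfn.hhat k X n 0 L) :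
    W4c5asymptcohfn.hhat k X n n L = 0 := by
  obtain ⟨A, hA⟩ := hproj
  obtain ⟨e, rfl⟩ : ∃ e, n = e + 1 := ⟨n - 1, by omega⟩
  set f : ℕ → ℝ := fun m : ℕ =>
    (Module.finrank k (Coh.HH X (CohB1.tensorPow L m) 0) : ℝ) * (Nat.factorial (e + 1) : ℝ) / (m : ℝ) ^ (e + 1)
  have hb : 0 < Filter.limsup f Filter.atTop := hbig
  obtain ⟨c, hc0, hc⟩ := exists_between hb
  have hco : Filter.atTop.IsCoboundedUnder (· ≤ ·) f :=
    Filter.isCoboundedUnder_le_of_le Filter.atTop (x := 0) fun m => by positivity
  have hK : Groth.Agent.Nakai.Kod k L := by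
    have hfac : (0 : ℝ) < (Nat.factorial (e + 1) : ℝ) := by exact_mod_cast Nat.factorial_pos _
    refine Groth.Agent.Nakai.kod_of_freq_real k hL hA (e + 1) hn (c := c / (Nat.factorial (e + 1) : ℝ))
      (div_pos hc0 hfac) (((Filter.frequently_lt_of_lt_limsup hco hc).and_eventually
        (Filter.eventually_ge_atTop 1)).mono fun m ⟨hm, hm1⟩ => ?_)
    have hm0 : (0 : ℝ) < (m : ℝ) ^ (e + 1) := pow_pos (by exact_mod_cast hm1) _
    rw [div_mul_eq_mul_div, div_le_iff₀ hfac]
    exact ((lt_div_iff₀ hm0).1 hm).le
  obtain ⟨n₀, h0⟩ := hK.top_vanish k hL hn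
  unfold W4c5asymptcohfn.hhat
  refine (Filter.limsup_congr (v := fun _ => (0 : ℝ)) ?_).trans (Filter.limsup_const 0)
  refine Filter.eventually_atTop.2 ⟨n₀, fun m hm => ?_⟩
  haveI := h0 m hm
  simp [Module.finrank_zero_of_subsingleton]

end Groth.Agent.S17626
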