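import Groth.Statements.S17630
import Groth.Agent.CohFinite.Proper
import Groth.Agent.CohFinite.Linear
import Groth.Agent.QC.Coherent
import Groth.Agent.QC.Closure

set_option autoImplicit false
universe u
open CategoryTheory CategoryTheory.Limits AlgebraicGeometry
open Coherent

set_option backward.isDefEq.respectTransparency false
open CategoryTheory CategoryTheory.Limits AlgebraicGeometry
namespace Groth.Agent.S17630

theorem le_left {k : Type u} [Field k] {X : Scheme.{u}} [X.Over (Spec (CommRingCat.of k))]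
    [IsProper (X ↘ Spec (CommRingCat.of k))] {S : ShortComplex X.Modules} (hS : S.ShortExact)
    (hc1 : Coh.IsCoh S.X₁) (hc : Coh.IsCoh S.X₂) (hc' : Coh.IsCoh S.X₃) (q : ℕ) :
    Module.finrank k (Coh.HH X S.X₁ (q + 1)) ≤
      Module.finrank k (Coh.HH X S.X₂ (q + 1)) + Module.finrank k (Coh.HH X S.X₃ q) := by
  haveI := CohFinite.finite_proper (A := k) X S.X₂ hc (q + 1)
  haveI := CohFinite.finite_proper (A := k) X S.X₃ hc' q
  let f := CohFinite.hhMap k S.f (q + 1)
  have hk : LinearMap.ker f = LinearMap.range (CohFinite.hhδ k hS q) := by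
    ext x
    exact CohFinite.map_f_eq_zero_iff (CohFinite.shortExact_toAb hS) q x
  haveI := CohFinite.finite_proper (A := k) X S.X₁ hc1 (q + 1)
  rw [← LinearMap.finrank_range_add_finrank_ker f, hk]
  exact add_le_add (Submodule.finrank_le _) (LinearMap.finrank_range_le _)

theorem le_left_zero {k : Type u} [Field k] {X : Scheme.{u}} [X.Over (Spec (CommRingCat.of k))]
    [IsProper (X ↘ Spec (CommRingCat.of k))] {S : ShortComplex X.Modules} (hS : S.ShortExact)
    (hc : Coh.IsCoh S.X₂) :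
    Module.finrank k (Coh.HH X S.X₁ 0) ≤ Module.finrank k (Coh.HH X S.X₂ 0) := by
  haveI := CohFinite.finite_proper (A := k) X S.X₂ hc 0
  exact LinearMap.finrank_le_finrank_of_injective (f := CohFinite.hhMap k S.f 0)
    (CohFinite.map_f_injective (CohFinite.shortExact_toAb hS))

theorem le_mid {k : Type u} [Field k] {X : Scheme.{u}} [X.Over (Spec (CommRingCat.of k))]
    [IsProper (X ↘ Spec (CommRingCat.of k))] {S : ShortComplex X.Modules} (hS : S.ShortExact)
    (hc1 : Coh.IsCoh S.X₁) (hc : Coh.IsCoh S.X₂) (hc' : Coh.IsCoh S.X₃) (q : ℕ) :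
    Module.finrank k (Coh.HH X S.X₂ q) ≤
      Module.finrank k (Coh.HH X S.X₁ q) + Module.finrank k (Coh.HH X S.X₃ q) := by
  haveI := CohFinite.finite_proper (A := k) X S.X₁ hc1 q
  haveI := CohFinite.finite_proper (A := k) X S.X₂ hc q
  haveI := CohFinite.finite_proper (A := k) X S.X₃ hc' q
  let g := CohFinite.hhMap k S.g q
  have hk : LinearMap.ker g = LinearMap.range (CohFinite.hhMap k S.f q) := by
    ext x
    exact CohFinite.map_g_eq_zero_iff (CohFinite.shortExact_toAb hS) q x
  rw [← LinearMap.finrank_range_add_finrank_ker g, hk, add_comm]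
  exact add_le_add (LinearMap.finrank_range_le _) (Submodule.finrank_le _)


/-- Let X be a scheme proper over a field k and 0 → C_0 → C_1 → C_2 → ⋯ an exact sequence of coherent
O_X-modules: the composite of consecutive maps is zero, the sequence is exact at every C_j with j ≥
1, and C_0 → C_1 is a monomorphism (the source numbers the sequence from C_{−1}; its argument and
its application use that the first map is injective). Then for every i ≥ 0, |dim_k H^i(X, C_0) −
dim_k H^i(X, C_1)| ≤ Σ_{j=1}^{i+1} dim_k H^{i+1−j}(X, C_{j+1}) + Σ_{j=1}^{i} dim_k H^{i−j}(X,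
C_{j+1}). (The published bound is 2 · Σ_{j=1}^{i+1} dim_k H^{i+1−j}(X, C_{j+1}); the argument given
yields the two sums here, and the published form fails for the sequence 0 → O(−3) → O(−1) → O_Z → 0
on the projective line, Z a subscheme of length 2, with i = 1: the left side is 2 and the published
right side is 0.) -/
theorem result (k : Type u) [Field k] (X : Scheme.{u})
    [X.Over (Spec (CommRingCat.of k))] [IsProper (X ↘ Spec (CommRingCat.of k))]
    (C : ℕ → X.Modules) (hC : ∀ j, Coh.IsCoh (C j)) (d : ∀ j, C j ⟶ C (j + 1))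
    (hd : ∀ j, d j ≫ d (j + 1) = 0) [Mono (d 0)]
    (hex : ∀ j, (ShortComplex.mk (d j) (d (j + 1)) (hd j)).Exact) (i : ℕ) :
    |(Module.finrank k (Coh.HH X (C 0) i) : ℤ) - (Module.finrank k (Coh.HH X (C 1) i) : ℤ)| ≤
      (Finset.Icc 1 (i + 1)).sum (fun j => ((Module.finrank k (Coh.HH X (C (j + 1)) (i + 1 - j))) : ℤ)) +
        (Finset.Icc 1 i).sum (fun j => ((Module.finrank k (Coh.HH X (C (j + 1)) (i - j))) : ℤ)) := by
  haveI : IsLocallyNoetherian X := LocallyOfFiniteType.isLocallyNoetherian (X ↘ Spec (CommRingCat.of k))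
  let K : ℕ → X.Modules := fun j => kernel (d j)
  let p : ∀ j, C j ⟶ K (j + 1) := fun j => kernel.lift (d (j + 1)) (d j) (hd j)
  have hp : ∀ j, Epi (p j) := fun j => (hex j).epi_kernelLift
  have hK : ∀ j, Coh.IsCoh (K j) := fun j =>
    QC.isCoh_of_mono (kernel.ι (d j)) (hC j) (QC.isQCoh_kernel (hC j).1 (hC (j + 1)).1 (d j))
  have hS : ∀ j, (ShortComplex.mk (kernel.ι (d j)) (p j) (by
      rw [← cancel_mono (kernel.ι (d (j + 1))), Category.assoc, kernel.lift_ι, kernel.condition,
        zero_comp])).ShortExact := fun j => by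
    haveI := hp j
    refine { exact := ShortComplex.exact_of_f_is_kernel _ (KernelFork.IsLimit.ofι' _ _ fun {W} g hg => ?_) }
    exact ⟨kernel.lift (d j) g ((congrArg (g ≫ ·) (kernel.lift_ι (d (j + 1)) (d j) (hd j)).symm).trans
        ((Category.assoc _ _ _).symm.trans ((congrArg (· ≫ kernel.ι (d (j + 1))) hg).trans zero_comp))),
      kernel.lift_ι _ _ _⟩
  have hS0 : (ShortComplex.mk (d 0) (p 1) (by
      rw [← cancel_mono (kernel.ι (d 2)), Category.assoc, kernel.lift_ι, hd, zero_comp])).ShortExact := by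
    haveI := hp 1
    refine { exact := ShortComplex.exact_of_f_is_kernel _ (KernelFork.IsLimit.ofι' _ _ fun {W} g hg => ?_) }
    have h0 : g ≫ d 1 = 0 :=
      (congrArg (g ≫ ·) (kernel.lift_ι (d 2) (d 1) (hd 1)).symm).trans
        ((Category.assoc _ _ _).symm.trans ((congrArg (· ≫ kernel.ι (d 2)) hg).trans zero_comp))
    exact ⟨(hex 0).lift g h0, (hex 0).lift_f g h0⟩
  let a : ℕ → ℕ → ℕ := fun j q => Module.finrank k (Coh.HH X (C j) q)
  let b : ℕ → ℕ → ℕ := fun j q => Module.finrank k (Coh.HH X (K j) q)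
  have hb : ∀ m j, b j m ≤ ∑ t ∈ Finset.range (m + 1), a (j + t) (m - t) := by
    intro m
    induction m with
    | zero => intro j; simpa [a, b] using le_left_zero (k := k) (hS j) (hC j)
    | succ m ih =>
      intro j
      refine (le_left (k := k) (hS j) (hK j) (hC j) (hK (j + 1)) m).trans ?_
      rw [Finset.sum_range_succ' _ (m + 1), add_comm (Finset.sum _ _)]
      refine add_le_add le_rfl ((ih (j + 1)).trans (le_of_eq (Finset.sum_congr rfl fun t _ => ?_)))
      rw [Nat.add_sub_add_right, Nat.add_comm t 1, ← Nat.add_assoc]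
  have hIcc : ∀ (m : ℕ), ((Finset.range (m + 1)).sum fun t => (a (2 + t) (m - t) : ℤ)) =
      (Finset.Icc 1 (m + 1)).sum fun j => (a (j + 1) (m + 1 - j) : ℤ) := fun m => by
    rw [← Finset.Ico_add_one_right_eq_Icc, Finset.sum_Ico_eq_sum_range]
    refine Finset.sum_congr (by simp) fun t _ => ?_
    rw [show 1 + t + 1 = 2 + t by omega, show m + 1 - (1 + t) = m - t by omega]
  rcases i with _ | i
  · have h1 : a 0 0 ≤ a 1 0 := le_left_zero (k := k) hS0 (hC 1)
    have h2 : a 1 0 ≤ a 0 0 + b 2 0 := le_mid (k := k) hS0 (hC 0) (hC 1) (hK 2) 0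
    have h3 := hb 0 2
    have e := hIcc 0
    simp only [Finset.range_one, Finset.sum_singleton, Nat.sub_zero, Nat.zero_add, Nat.add_zero] at h3 e
    change |(a 0 0 : ℤ) - (a 1 0 : ℤ)| ≤ (Finset.Icc 1 (0 + 1)).sum (fun j => (a (j + 1) (0 + 1 - j) : ℤ)) +
      (Finset.Icc 1 0).sum (fun j => (a (j + 1) (0 - j) : ℤ))
    rw [abs_le]
    simp
    omega
  · have h1 : a 0 (i + 1) ≤ a 1 (i + 1) + b 2 i := le_left (k := k) hS0 (hC 0) (hC 1) (hK 2) i
    have h2 : a 1 (i + 1) ≤ a 0 (i + 1) + b 2 (i + 1) := le_mid (k := k) hS0 (hC 0) (hC 1) (hK 2) (i + 1)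
    have h3 : (b 2 i : ℤ) ≤ (Finset.Icc 1 (i + 1)).sum fun j => (a (j + 1) (i + 1 - j) : ℤ) := by
      rw [← hIcc]; exact_mod_cast hb i 2
    have h4 : (b 2 (i + 1) : ℤ) ≤ (Finset.Icc 1 (i + 1 + 1)).sum fun j => (a (j + 1) (i + 1 + 1 - j) : ℤ) := by
      rw [← hIcc]; exact_mod_cast hb (i + 1) 2
    have n3 : (0 : ℤ) ≤ (b 2 i : ℤ) := Int.natCast_nonneg _
    have n4 : (0 : ℤ) ≤ (b 2 (i + 1) : ℤ) := Int.natCast_nonneg _
    change |(a 0 (i + 1) : ℤ) - (a 1 (i + 1) : ℤ)| ≤
      (Finset.Icc 1 (i + 1 + 1)).sum (fun j => (a (j + 1) (i + 1 + 1 - j) : ℤ)) +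
        (Finset.Icc 1 (i + 1)).sum (fun j => (a (j + 1) (i + 1 - j) : ℤ))
    rw [abs_le]
    omega

end Groth.Agent.S17630
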