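import Groth.Statements.S17631
import Groth.Agent.CohBound.Main
import Groth.Agent.HQProj.Basic
import Groth.Agent.HilbFib.ProjBase
import Groth.Agent.S2359

set_option autoImplicit false
universe u
open CategoryTheory CategoryTheory.Limits AlgebraicGeometry
open Coherent

set_option backward.isDefEq.respectTransparency false
set_option backward.isDefEq.respectTransparency.types false

namespace Groth.Agent.S17631

/-- Let T be a Noetherian scheme and f : 𝒳 → T a projective morphism, given here as a closed immersion 𝒳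
→ P^r_T followed by the projection, let F be a coherent O_𝒳-module and L an invertible O_𝒳-module.
Then there is a constant C, depending only on f, F and L, such that for every point t of T, with 𝒳_t
the fibre and e its dimension, every m ≥ 1 and every i ≥ 0, dim_{k(t)} H^i(𝒳_t, (F ⊗ L^{⊗m})|_{𝒳_t})
≤ C · m^e. -/
theorem result (T XX : Scheme.{u}) [IsNoetherian T]
    (f : XX ⟶ T) (r : ℕ) (ι : XX ⟶ CohB1.ProjSpaceOver r T) [IsClosedImmersion ι]
    (hι : ι ≫ CohB1.ProjSpaceOver.toBase r T = f)
    (F : XX.Modules) (hF : Coh.IsCoh F) (L : XX.Modules) (hL : PicF.IsInvertible L) :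
    ∃ C : ℝ, ∀ (t : T) (e : ℕ), topologicalKrullDim ↥(f.fiber t) = e →
      ∀ (m : ℕ), 1 ≤ m → ∀ i : ℕ,
        (CohIII.fiberRank f (CohB1.tensorMod F (CohB1.tensorPow L m)) i t : ℝ) ≤ C * (m : ℝ) ^ e := by
  have hp : IsProper (CohB1.ProjSpaceOver.toBase r T) := Groth.Agent.HQProj.isProper_toBase r T
  have hf : IsProper f := hι ▸ inferInstance
  have hamp : RelAmple.IsRelAmple f ((Scheme.Modules.pullback ι).obj (Twist.twistOver r T 1)) :=
    hι ▸ Groth.Agent.S2359.result (CohB1.ProjSpaceOver.toBase r T) ι ι.isEmbedding _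
      (Groth.Agent.HilbFib.isRelAmple_twistOver r T)
  obtain ⟨C, hC⟩ := Groth.Agent.CohBound.good_univ hamp hF hL
  exact ⟨(C : ℝ), fun t e he m hm i => by exact_mod_cast hC t trivial e he m hm i⟩

end Groth.Agent.S17631
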