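import Groth.Statements.S17635
import Mathlib

set_option autoImplicit false
open Finset
open Variety

namespace Groth.Agent.S17635

/-- Let r and n be natural numbers and f : ℚ^r → ℝ a nonnegative function which is homogeneous of degree
n for positive rational scalars, f(q · v) = q^n · f(v) for q > 0; give ℚ^r the maximum norm ‖v‖ =
max_j |v_j| of its standard basis. Suppose that for every standard basis vector e_i there is a
constant C_i with |f(v − b · e_i) − f(v)| ≤ C_i · Σ_{q=1}^{n} ‖v‖^{n−q} · b^q for all v ∈ ℚ^r and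
all integers b ≥ 1. Then there is a constant C > 0 such that |f(v) − f(w)| ≤ C · Σ_{q=1}^{n}
max(‖v‖, ‖w‖)^{n−q} · ‖v − w‖^q for all v, w ∈ ℚ^r. (The source allows any norm on an r-dimensional
rational vector space with a chosen basis and argues with the maximum norm of that basis, which is
the case stated here.) -/
theorem result (r n : ℕ) (f : (Fin r → ℚ) → ℝ)
    (hf0 : ∀ v, 0 ≤ f v)
    (hhom : ∀ (q : ℚ) (v : Fin r → ℚ), 0 < q → f (q • v) = (q : ℝ) ^ n * f v)
    (hdir : ∀ i : Fin r, ∃ Ci : ℝ, ∀ (v : Fin r → ℚ) (b : ℕ), 1 ≤ b →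
      |f (v - (b : ℚ) • Pi.single i 1) - f v| ≤
        Ci * (Finset.Icc 1 n).sum (fun q => ‖(fun j => ((v j : ℚ) : ℝ))‖ ^ (n - q) * (b : ℝ) ^ q)) :
    ∃ C : ℝ, 0 < C ∧ ∀ v w : Fin r → ℚ,
      |f v - f w| ≤ C * (Finset.Icc 1 n).sum (fun q =>
        (max ‖(fun j => ((v j : ℚ) : ℝ))‖ ‖(fun j => ((w j : ℚ) : ℝ))‖) ^ (n - q) *
          ‖(fun j => ((v j - w j : ℚ) : ℝ))‖ ^ q) := by
  classical
  choose Ci hCi using hdir
  let N : (Fin r → ℚ) → ℝ := fun v => ‖(fun j => ((v j : ℚ) : ℝ))‖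
  let S : ℝ → ℝ → ℝ := fun M t => (Finset.Icc 1 n).sum (fun q => M ^ (n - q) * t ^ q)
  have hS0 : ∀ M t, 0 ≤ M → 0 ≤ t → 0 ≤ S M t := fun M t hM ht =>
    Finset.sum_nonneg fun q _ => mul_nonneg (pow_nonneg hM _) (pow_nonneg ht _)
  have hSmono : ∀ M M' t t', 0 ≤ M → M ≤ M' → 0 ≤ t → t ≤ t' → S M t ≤ S M' t' := fun M M' t t' hM hMM ht htt =>
    Finset.sum_le_sum fun q _ =>
      mul_le_mul (pow_le_pow_left₀ hM hMM _) (pow_le_pow_left₀ ht htt _) (pow_nonneg ht _)
        (pow_nonneg (hM.trans hMM) _)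
  -- a positive rational step in one direction
  have hpos : ∀ (i : Fin r) (v : Fin r → ℚ) (b : ℚ), 0 < b →
      |f (v - b • Pi.single i 1) - f v| ≤ Ci i * S (N v) (b : ℝ) := by
    intro i v b hb
    obtain ⟨a, ha⟩ : ∃ a : ℕ, (a : ℤ) = b.num := ⟨b.num.toNat, Int.toNat_of_nonneg (Rat.num_pos.2 hb).le⟩
    have ha1 : 1 ≤ a := by have := Rat.num_pos.2 hb; omega
    have hd : (0 : ℚ) < b.den := by exact_mod_cast b.pos
    have hdb : (b.den : ℚ) * b = a := by
      rw [mul_comm, Rat.mul_den_eq_num]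
      exact_mod_cast ha.symm
    have h := hCi i ((b.den : ℚ) • v) a ha1
    have hsc : (b.den : ℚ) • v - (a : ℚ) • Pi.single i 1 = (b.den : ℚ) • (v - b • Pi.single i 1) := by
      rw [smul_sub, smul_smul, hdb]
    rw [hsc, hhom _ _ hd, hhom _ _ hd, ← mul_sub, abs_mul] at h
    have hdR : (0 : ℝ) < ((b.den : ℚ) : ℝ) := by exact_mod_cast hd
    rw [abs_of_pos (pow_pos hdR n)] at h
    have hN : N ((b.den : ℚ) • v) = ((b.den : ℚ) : ℝ) * N v := by
      show ‖(fun j => ((((b.den : ℚ) • v) j : ℚ) : ℝ))‖ = _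
      rw [show (fun j => ((((b.den : ℚ) • v) j : ℚ) : ℝ)) = ((b.den : ℚ) : ℝ) • fun j => ((v j : ℚ) : ℝ) from
        funext fun j => by simp, norm_smul, Real.norm_of_nonneg hdR.le]
    have hbR : ((a : ℕ) : ℝ) = ((b.den : ℚ) : ℝ) * (b : ℝ) := by rw [← Rat.cast_mul, hdb, Rat.cast_natCast]
    have hsum : (Finset.Icc 1 n).sum (fun q => N ((b.den : ℚ) • v) ^ (n - q) * (a : ℝ) ^ q) =
        ((b.den : ℚ) : ℝ) ^ n * S (N v) (b : ℝ) := by
      rw [Finset.mul_sum]
      refine Finset.sum_congr rfl fun q hq => ?_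
      rw [hN, hbR, mul_pow, mul_pow,
        show ((b.den : ℚ) : ℝ) ^ n = ((b.den : ℚ) : ℝ) ^ (n - q) * ((b.den : ℚ) : ℝ) ^ q by
          rw [← pow_add, Nat.sub_add_cancel (Finset.mem_Icc.1 hq).2]]
      ring
    change _ ≤ Ci i * (Finset.Icc 1 n).sum (fun q => N ((b.den : ℚ) • v) ^ (n - q) * (a : ℝ) ^ q) at h
    rw [hsum, mul_left_comm] at h
    exact le_of_mul_le_mul_left h (pow_pos hdR n)
  -- a step in one direction of either sign
  have hstep : ∀ (i : Fin r) (v w : Fin r → ℚ), (∀ j, j ≠ i → v j = w j) → ∀ M D : ℝ, N v ≤ M → N w ≤ M →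
      |((v i - w i : ℚ) : ℝ)| ≤ D → |f v - f w| ≤ max (Ci i) 0 * S M D := by
    intro i v w hvw M D hv hw hD
    have hM : 0 ≤ M := le_trans (norm_nonneg _) hv
    have hD0 : 0 ≤ D := le_trans (abs_nonneg _) hD
    have key : ∀ v w : Fin r → ℚ, (∀ j, j ≠ i → v j = w j) → w i < v i → N v ≤ M →
        |((v i - w i : ℚ) : ℝ)| ≤ D → |f v - f w| ≤ max (Ci i) 0 * S M D := by
      intro v w hvw hlt hv hD
      have hw' : w = v - (v i - w i) • Pi.single i 1 := by
        funext j
        rcases eq_or_ne j i with rfl | hj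
        · simp
        · simp [hvw j hj, hj]
      have h := hpos i v (v i - w i) (sub_pos.2 hlt)
      rw [← hw', abs_sub_comm] at h
      refine h.trans ((mul_le_mul_of_nonneg_right (le_max_left _ 0) (hS0 _ _ (norm_nonneg _) ?_)).trans
        (mul_le_mul_of_nonneg_left (hSmono _ _ _ _ (norm_nonneg _) hv ?_ ((le_abs_self _).trans hD))
          (le_max_right _ _)))
      all_goals exact_mod_cast (sub_pos.2 hlt).le
    rcases lt_trichotomy (w i) (v i) with hlt | heq | hlt
    · exact key v w hvw hlt hv hD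
    · have : v = w := funext fun j => by
        rcases eq_or_ne j i with rfl | hj
        exacts [heq.symm, hvw j hj]
      rw [this, sub_self, abs_zero]
      exact mul_nonneg (le_max_right _ _) (hS0 _ _ hM hD0)
    · rw [abs_sub_comm]
      refine key w v (fun j hj => (hvw j hj).symm) hlt hw ?_
      rw [← neg_sub, Rat.cast_neg, abs_neg]; exact hD
  refine ⟨∑ i, max (Ci i) 0 + 1,
    lt_of_lt_of_le zero_lt_one (le_add_of_nonneg_left (Finset.sum_nonneg fun i _ => le_max_right _ _)),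
    fun v w => ?_⟩
  let u : ℕ → Fin r → ℚ := fun k j => if (j : ℕ) < k then w j else v j
  have hu : ∀ k, N (u k) ≤ max (N v) (N w) := by
    intro k
    refine (pi_norm_le_iff_of_nonneg (le_max_of_le_left (norm_nonneg _))).2 fun j => ?_
    simp only [u]
    split_ifs
    · exact le_max_of_le_right (norm_le_pi_norm (fun j => ((w j : ℚ) : ℝ)) j)
    · exact le_max_of_le_left (norm_le_pi_norm (fun j => ((v j : ℚ) : ℝ)) j)
  have hind : ∀ k ≤ r, |f v - f (u k)| ≤
      (∑ i ∈ Finset.univ.filter (fun i : Fin r => (i : ℕ) < k), max (Ci i) 0) *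
        S (max (N v) (N w)) (N (fun j => v j - w j)) := by
    intro k hk
    induction k with
    | zero => simp [u]
    | succ k ih =>
      have hkr : k < r := hk
      have hset : Finset.univ.filter (fun i : Fin r => (i : ℕ) < k + 1) =
          insert ⟨k, hkr⟩ (Finset.univ.filter (fun i : Fin r => (i : ℕ) < k)) := by
        ext i; simp [Fin.ext_iff]; omega
      rw [hset, Finset.sum_insert (by simp), add_mul]
      have h1 : |f (u k) - f (u (k + 1))| ≤ max (Ci ⟨k, hkr⟩) 0 *
          S (max (N v) (N w)) (N (fun j => v j - w j)) := by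
        refine hstep ⟨k, hkr⟩ _ _ (fun j hj => ?_) _ _ (hu _) (hu _) ?_
        · have hjk : (j : ℕ) ≠ k := fun h => hj (Fin.ext h)
          simp only [u]
          split_ifs <;> first | rfl | omega
        · simp only [u, lt_irrefl, if_false, Nat.lt_succ_self, if_true]
          exact norm_le_pi_norm (fun j => (((v j - w j : ℚ)) : ℝ)) ⟨k, hkr⟩
      calc |f v - f (u (k + 1))| ≤ |f v - f (u k)| + |f (u k) - f (u (k + 1))| := abs_sub_le _ _ _
        _ ≤ _ := by linarith [ih (Nat.le_of_succ_le hk)]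
  have hur : u r = w := funext fun j => if_pos j.2
  have h := hind r le_rfl
  rw [hur, Finset.filter_true_of_mem (fun i _ => i.2)] at h
  refine h.trans (mul_le_mul_of_nonneg_right (by linarith) ?_)
  exact hS0 _ _ (le_max_of_le_left (norm_nonneg _)) (norm_nonneg _)

end Groth.Agent.S17635
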