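import Groth.Statements.S17638
import Groth.Agent.AsympCoh.Zariski

set_option autoImplicit false
universe u
open CategoryTheory CategoryTheory.Limits AlgebraicGeometry
open Surf

set_option backward.isDefEq.respectTransparency false
set_option backward.isDefEq.respectTransparency.types false

namespace Groth.Agent.S17638

/-- Let X be an integral scheme, smooth and proper over an uncountable algebraically closed field k of
characteristic zero and admitting an ample invertible module, of dimension 2 (a smooth projective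
surface; stated in the source over the complex numbers), and L an invertible O_X-module. Suppose a ≥
1 and L^{⊗a} ≅ L_P ⊗ L_N is a Zariski decomposition: L_P is invertible and nef (degree ≥ 0 on every
integral closed curve of X); L_N ≅ ⊗_j O(N_j)^{⊗ b_j} for finitely many integral closed curves N_1,
…, N_s ⊆ X and integers b_j ≥ 1, where O(N_j) is an inverse of the ideal sheaf of N_j; the
intersection matrix (N_j · N_l) is negative definite; and (L_P · N_j) = deg(L_P|_{N_j}) = 0 for
every j. Then, with M_P and M_N inverses of L_P and L_N and intersection numbers on X computed as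
alternating sums of Euler characteristics, ĥ^0(X, L) = (L_P · L_P)/a², ĥ^1(X, L) = −(L_N · L_N)/a²
and ĥ^2(X, L) = 0, where ĥ^i(X, L) = limsup_m dim_k H^i(X, L^{⊗m}) · 2!/m². (The source states this
for any pseudo-effective real divisor class D = P_D + N_D; for an integral D a positive multiple aD
has an integral decomposition as here.) -/
theorem result (k : Type u) [Field k] [IsAlgClosed k] [CharZero k]
    [Uncountable k] (X : Scheme.{u}) [X.Over (Spec (CommRingCat.of k))] [AlgebraicGeometry.IsIntegral X]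
    [IsProper (X ↘ Spec (CommRingCat.of k))] [Smooth (X ↘ Spec (CommRingCat.of k))]
    (hproj : ∃ A : X.Modules, CohB1.IsAmple A) (hX2 : topologicalKrullDim X = 2)
    (L LP LN MP MN : X.Modules) (hL : PicF.IsInvertible L) (hLP : PicF.IsInvertible LP)
    (hLN : PicF.IsInvertible LN) (hMP : ClSub.IsInverseOf LP MP) (hMN : ClSub.IsInverseOf LN MN)
    (a : ℕ) (ha : 1 ≤ a) (hdec : Nonempty (CohB1.tensorPow L a ≅ CohB1.tensorMod LP LN))
    (hnef : ∀ (Y : Scheme.{u}) (i : Y ⟶ X) [IsClosedImmersion i], AlgebraicGeometry.IsIntegral Y →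
      topologicalKrullDim Y = 1 →
        0 ≤ Pic13.curveDeg k (i ≫ (X ↘ Spec (CommRingCat.of k))) ((Scheme.Modules.pullback i).obj LP))
    (s : ℕ) (N : Fin s → X.IdealSheafData)
    (hN : ∀ j, AlgebraicGeometry.IsIntegral (N j).subscheme ∧ topologicalKrullDim (N j).subscheme = 1)
    (O : Fin s → X.Modules) (hO : ∀ j, ClSub.IsInverseOf (ClSub.idealMod (N j)) (O j))
    (b : Fin s → ℕ) (hb : ∀ j, 1 ≤ b j) (hLNeq : Nonempty (LN ≅ FGA.multiTwist O b))
    (hneg : (-(Matrix.of fun j l : Fin s =>
      FGA.intNum k X 2 ![ClSub.idealMod (N j), ClSub.idealMod (N l)] (Coh.structureModule X))).PosDef)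
    (horth : ∀ j, Pic13.curveDeg k ((N j).subschemeι ≫ (X ↘ Spec (CommRingCat.of k)))
      ((Scheme.Modules.pullback (N j).subschemeι).obj LP) = 0) :
    W4c5asymptcohfn.hhat k X 2 0 L =
        (FGA.intNum k X 2 ![MP, MP] (Coh.structureModule X) : ℝ) / (a : ℝ) ^ 2 ∧
      W4c5asymptcohfn.hhat k X 2 1 L =
        -(FGA.intNum k X 2 ![MN, MN] (Coh.structureModule X) : ℝ) / (a : ℝ) ^ 2 ∧
      W4c5asymptcohfn.hhat k X 2 2 L = 0 := by
  obtain ⟨A, hA⟩ := hproj
  have hle : topologicalKrullDim X ≤ ((2 : ℕ) : WithBot ℕ∞) := hX2.le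
  have hs : ∀ j, topologicalKrullDim ((N j).support : Set X) = 1 := fun j => by
    rw [← (hN j).2, IsHomeomorph.topologicalKrullDim_eq _
      (N j).subschemeι.isClosedEmbedding.isEmbedding.toHomeomorph.isHomeomorph, (N j).range_subschemeι]
  have hI : ∀ j, PicF.IsInvertible (ClSub.idealMod (N j)) := fun j => by
    haveI := (hN j).1
    exact Groth.Agent.Nakai.inv_of_curve k hX2 (N j) (hs j)
  have hO' : ∀ j, PicF.IsInvertible (O j) := fun j => Groth.Agent.Intersect.isInvertible_inverse (hI j) (hO j)
  refine Groth.Agent.AsympCoh.Zariski.main k hX2 hA hL hLP hLN hMP hMN a ha hdec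
    ((Groth.Agent.Nakai.nef_iff_curveDeg k hLP).2 hnef) N hN O hO b ?_ ?_ ?_
  · obtain ⟨e⟩ := hLNeq
    exact ((PicGrp.cl_eq_cl_iff _ _).2 ⟨e⟩).trans (Groth.Agent.AsympCoh.Zariski.cl_multiTwist O b)
  · intro c hc
    have hx : (fun j => (c j : ℤ)) ≠ 0 := fun h => hc (funext fun j => by simpa using congrFun h j)
    have h := hneg.dotProduct_mulVec_pos hx
    simp only [dotProduct, Matrix.mulVec, Matrix.neg_apply, Matrix.of_apply, star_trivial] at h
    have h' : (0 : ℚ) < ∑ i, (c i : ℚ) * ∑ j, -((FGA.intNum k X 2 ![ClSub.idealMod (N i), ClSub.idealMod (N j)]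
        (Coh.structureModule X) : ℤ) : ℚ) * c j := by exact_mod_cast h
    simp only [Finset.mul_sum] at h'
    rw [← neg_pos, ← Finset.sum_neg_distrib]
    refine lt_of_lt_of_eq h' (Finset.sum_congr rfl fun i _ => ?_)
    rw [← Finset.sum_neg_distrib]
    refine Finset.sum_congr rfl fun j _ => ?_
    rw [Groth.Agent.Nakai.intNum_eq_inter k hle, Groth.Agent.Nakai.inter_inv k hle (hI i) (hO i) (hO' j),
      Groth.Agent.Nakai.inter_inv_right k hle (hI j) (hO j) (hI i)]
    ring
  · intro j
    haveI := (hN j).1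
    have h := Groth.Agent.Nakai.inter_idealMod k hX2 (N j) (hs j) hLP
    have h' := horth j
    rw [Groth.Agent.Nakai.curveDeg_eq k (N j).subschemeι (hN j).2.le hLP,
      Scheme.IdealSheafData.ker_subschemeι] at h'
    rw [Groth.Agent.Nakai.inter_inv_right k hle (hI j) (hO j) hLP, h, Groth.Agent.Nakai.degOn, neg_neg]
    exact_mod_cast h'

end Groth.Agent.S17638
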