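import Groth.Statements.S17639
import Groth.Agent.DCohGammaZ.Open

set_option autoImplicit false
set_option backward.isDefEq.respectTransparency false
set_option backward.isDefEq.respectTransparency.types false
universe u
open CategoryTheory CategoryTheory.Limits AlgebraicGeometry
attribute [local instance] HasDerivedCategory.standard
open Dual3

namespace Groth.Agent.S17639

open Pretriangulated Groth.Agent.DQCoh Groth.Agent.PerfGen Groth.Agent.DCohGammaZ

/-- Let f : X ⟶ Y be a separated morphism of finite type of Noetherian schemes, factored as f = f̄ ∘ j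
with j : X ⟶ X̄ an open immersion and f̄ : X̄ ⟶ Y proper. Let Z ⊆ Y be a closed subset with open
complement U, and Z' ⊆ X a closed subset which is proper over Y and contained in f⁻¹(Z); such a Z'
has closed image in X̄, and it is given here as Z' = j⁻¹(X̄ ∖ W) for an open W ⊆ X̄ with X̄ ∖ W ⊆
j(X) and f⁻¹(U) ⊆ j⁻¹(W). Let Rf̄_* and Rj_* exist and preserve complexes with quasi-coherent
cohomology, let a be a right adjoint of Rf̄_* on D_qc with its adjunction (whose counit is the trace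
map of f̄), let an adjunction j^* ⊣ Rj_* be given, put f^!G = (a G)|_X, and let θ : RΓ_{Z'}(j^* aG)
⟶ j^*RΓ_{j(Z')}(aG) be the comparison morphism compatible with the two maps to j^*(aG), the unit
RΓ_{j(Z')}(aG) ⟶ Rj_* j^* RΓ_{j(Z')}(aG) being an isomorphism. Then for every F in D(O_X) with
quasi-coherent cohomology sheaves, bounded above and supported on Z', and every G in D_qc(O_Y),
bounded below with cohomology supported on Z, the map sending φ : F ⟶ RΓ_{Z'}(f^!G) to the composite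
Rf̄_* Rj_* F ⟶ Rf̄_* Rj_* RΓ_{Z'}(f^!G) ⟶ Rf̄_* Rj_* j^* RΓ_{j(Z')}(aG) ⟶ Rf̄_* RΓ_{j(Z')}(aG) ⟶
Rf̄_*(aG) ⟶ G (Rf̄_*Rj_* of φ and θ, inverse of the unit, the canonical map out of RΓ, the trace) is
a bijection from Hom(F, RΓ_{Z'} f^!G) onto Hom(Rf_* F, G), with Rf_* computed as Rf̄_* ∘ Rj_*: the
functor Rf_* is left adjoint to RΓ_{Z'} f^! on these objects. (Throughout, RΓ with support is the
total right derived functor of the sheaf of sections supported in the closed subset. The published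
statement derives instead the functor of sections killed by some power of a defining ideal; on
complexes with quasi-coherent cohomology sheaves over a Noetherian scheme the two derived functors
agree.) -/
theorem result {X Y : Scheme.{u}} [IsNoetherian X] [IsNoetherian Y]
    (f : X ⟶ Y) [IsSeparated f] [LocallyOfFiniteType f] (c : DEt.Compactification f)
    (U : Y.Opens) (W : c.Xbar.Opens) (hW : (W : Set c.Xbar)ᶜ ⊆ Set.range c.j.base) (hZ : f ⁻¹ᵁ U ≤ c.j ⁻¹ᵁ W)
    [DCoh.HasRpush c.fbar] [DCoh.HasRpush c.j] (hfbar : DCoh.RpushPreservesQCoh c.fbar) (hj : DCoh.RpushPreservesQCoh c.j)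
    (a : DCoh.DQCoh Y ⥤ DCoh.DQCoh c.Xbar) (adj : DCoh.RpushQ c.fbar hfbar ⊣ a)
    (adjj : DCoh.restrictD c.j ⊣ DCoh.Rpush c.j)
    [CxOX.HasRgammaZ W.ι] [CxOX.HasRgammaZ (c.j ⁻¹ᵁ W).ι]
    (G : DCoh.DQCoh Y) (n : ℤ) (hGn : DerivedCategory.IsGE G.obj n) (hGZ : CxOX.IsSuppD U.ι G.obj)
    (θ : (CxOX.RgammaZ (c.j ⁻¹ᵁ W).ι).obj ((Dual3.shriekC c a).obj G) ⟶
      (DCoh.restrictD c.j).obj ((CxOX.RgammaZ W.ι).obj (a.obj G).obj))
    (hθ : θ ≫ (DCoh.restrictD c.j).map ((CxOX.RgammaZToId W.ι).app (a.obj G).obj) =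
      (CxOX.RgammaZToId (c.j ⁻¹ᵁ W).ι).app ((Dual3.shriekC c a).obj G))
    [IsIso (adjj.unit.app ((CxOX.RgammaZ W.ι).obj (a.obj G).obj))]
    (F : DCoh.D X) (hF : DCoh.IsQCohD F) (m : ℤ) (hFm : DerivedCategory.IsLE F m)
    (hFZ : CxOX.IsSuppD (c.j ⁻¹ᵁ W).ι F) :
    Function.Bijective (fun φ : F ⟶ (CxOX.RgammaZ (c.j ⁻¹ᵁ W).ι).obj ((Dual3.shriekC c a).obj G) =>
      (DCoh.Rpush c.fbar).map ((DCoh.Rpush c.j).map (φ ≫ θ) ≫
          inv (adjj.unit.app ((CxOX.RgammaZ W.ι).obj (a.obj G).obj)) ≫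
          (CxOX.RgammaZToId W.ι).app (a.obj G).obj) ≫
        (adj.counit.app G).hom) := by
  haveI : ∀ M : DCoh.D X, IsIso (adjj.counit.app M) := fun M => by
    rw [← Adjunction.rightAdjointUniq_hom_app_counit adjj (adjR c.j) M]
    exact @IsIso.comp_isIso _ _ _ _ _ _ _ inferInstance (isIso_counit_app_adjR c.j M)
  haveI : IsIso adjj.counit := NatIso.isIso_of_isIso_app _
  haveI := isIso_comparison c.j W (a.obj G).obj θ hθ
  let P : DCoh.DQCoh c.Xbar := ⟨(DCoh.Rpush c.j).obj F, hj F hF⟩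
  have hA : IsZero ((RD W.ι).obj P.obj) := by
    refine (isZero_RD_iff W.ι _).2 ?_
    rw [Scheme.Opens.range_ι]
    refine suppD_rpush c.j W.2.isClosed_compl ?_
    have h : SuppD (Set.range (c.j ⁻¹ᵁ W).ι.base)ᶜ F := hFZ
    rw [Scheme.Opens.range_ι] at h
    exact h
  let η := adjj.unit.app ((CxOX.RgammaZ W.ι).obj (a.obj G).obj)
  let ff := adjj.fullyFaithfulROfIsIsoCounit
  have key : ∀ φ : F ⟶ (CxOX.RgammaZ (c.j ⁻¹ᵁ W).ι).obj ((Dual3.shriekC c a).obj G),
      (DCoh.Rpush c.fbar).map ((DCoh.Rpush c.j).map (φ ≫ θ) ≫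
          inv η ≫ (CxOX.RgammaZToId W.ι).app (a.obj G).obj) ≫ (adj.counit.app G).hom =
      ((adj.homEquiv P G).symm (ObjectProperty.homMk ((DCoh.Rpush c.j).map (φ ≫ θ) ≫
          inv η ≫ (CxOX.RgammaZToId W.ι).app (a.obj G).obj))).hom := fun φ => by
    rw [Adjunction.homEquiv_counit]
    rfl
  refine ⟨fun φ₁ φ₂ h => ?_, fun g => ?_⟩
  · have h' := (key φ₁).symm.trans (h.trans (key φ₂))
    have h2 := congrArg InducedCategory.Hom.hom ((adj.homEquiv P G).symm.injective (InducedCategory.hom_ext h'))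
    simp only [ObjectProperty.homMk_hom] at h2
    rw [← cancel_mono θ]
    refine ff.map_injective ?_
    rw [← cancel_mono (inv η)]
    refine lift_unique W.ι hA _ _ ?_
    simpa only [Category.assoc] using h2
  · obtain ⟨α, hα⟩ := exists_lift W.ι hA ((adj.homEquiv P G) (ObjectProperty.homMk g)).hom
    refine ⟨ff.preimage (α ≫ η) ≫ inv θ, (key _).trans ?_⟩
    have h1 : (DCoh.Rpush c.j).map ((ff.preimage (α ≫ η) ≫ inv θ) ≫ θ) ≫
        inv η ≫ (CxOX.RgammaZToId W.ι).app (a.obj G).obj =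
        ((adj.homEquiv P G) (ObjectProperty.homMk g)).hom := by
      simp only [Category.assoc, IsIso.inv_hom_id, Category.comp_id, Functor.FullyFaithful.map_preimage,
        IsIso.hom_inv_id_assoc, hα]
    rw [h1]
    exact congrArg InducedCategory.Hom.hom ((adj.homEquiv P G).symm_apply_apply (ObjectProperty.homMk g))

end Groth.Agent.S17639
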