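import Groth.Statements.S17642
import Groth.Agent.SmCompact.Basic

set_option autoImplicit false
universe u
open CategoryTheory AlgebraicGeometry
open DerSch

namespace Groth.Agent.S17642

/-- Consider Noetherian schemes X and Y together with a morphism f : X ⟶ Y that is locally of finite
type. Given affine open subsets U ⊆ X and V ⊆ Y such that f(U) ⊆ V, the restriction of f to U can be
written as a composite U ⟶ W ⟶ P ⟶ Y in which the first map U ⟶ W is an open immersion, the middle
map W ⟶ P is a closed immersion, and the last map P ⟶ Y is both smooth and proper. In the published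
section every morphism is taken to be separated as a standing convention; since the printed proof
never uses this, no separatedness hypothesis appears here. -/
theorem result {X Y : Scheme.{u}}
    [IsNoetherian X] [IsNoetherian Y] (f : X ⟶ Y) [LocallyOfFiniteType f]
    (U : X.Opens) (hU : IsAffineOpen U) (V : Y.Opens) (hV : IsAffineOpen V) (hUV : U ≤ f ⁻¹ᵁ V) :
    ∃ (W P : Scheme.{u}) (g : (U : Scheme.{u}) ⟶ W) (h : W ⟶ P) (k : P ⟶ Y),
      IsOpenImmersion g ∧ IsClosedImmersion h ∧ Smooth k ∧ IsProper k ∧ g ≫ h ≫ k = U.ι ≫ f := by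
  have hft : (f.appLE V U hUV).hom.FiniteType :=
    HasRingHomProperty.appLE (P := @LocallyOfFiniteType) f inferInstance ⟨V, hV⟩ ⟨U, hU⟩ hUV
  algebraize [(f.appLE V U hUV).hom]
  obtain ⟨n, σ, hσ⟩ := Algebra.FiniteType.iff_quotient_mvPolynomial''.1 (show Algebra.FiniteType Γ(Y, V) Γ(X, U) from hft)
  obtain ⟨P, k, o, hk, hk', ho, ew⟩ := SmCompact.exists_ambient Γ(Y, V) hV.fromSpec n
  let j : (U : Scheme.{u}) ⟶ P := hU.isoSpec.hom ≫ Spec.map (CommRingCat.ofHom σ.toRingHom) ≫ o
  haveI : IsClosedImmersion (Spec.map (CommRingCat.ofHom σ.toRingHom)) :=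
    IsClosedImmersion.spec_of_surjective _ hσ
  have hjk : j ≫ k = U.ι ≫ f := by
    simp only [j, Category.assoc]
    rw [ew, ← Category.assoc (Spec.map (CommRingCat.ofHom σ.toRingHom)), ← Spec.map_comp]
    have e : CommRingCat.ofHom (MvPolynomial.C (σ := Fin n)) ≫ CommRingCat.ofHom σ.toRingHom =
        f.appLE V U hUV := CommRingCat.hom_ext (RingHom.ext fun a => σ.commutes a)
    rw [e, IsAffineOpen.SpecMap_appLE_fromSpec f hV hU hUV, ← IsAffineOpen.isoSpec_inv_ι hU]
    simp
  haveI : IsImmersion j := inferInstance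
  haveI : QuasiCompact (j ≫ k) := by rw [hjk]; infer_instance
  haveI : QuasiCompact j := QuasiCompact.of_comp j k
  exact ⟨j.image, P, j.toImage, j.imageι, k, inferInstance, inferInstance, hk, hk', by
    rw [← Category.assoc, Scheme.Hom.toImage_imageι, hjk]⟩

end Groth.Agent.S17642
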