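import Groth.Prelude.Def_DerSch
import Mathlib.AlgebraicGeometry.Noetherian
import Mathlib.AlgebraicGeometry.Morphisms.Smooth
import Mathlib.AlgebraicGeometry.Morphisms.ClosedImmersion
import Mathlib.AlgebraicGeometry.Morphisms.FiniteType
import Groth.Agent.KSixLib.ChartTorDim

set_option backward.isDefEq.respectTransparency false
set_option backward.isDefEq.respectTransparency.types false
-- import your own Groth.Agent.* helpers here

set_option autoImplicit false
universe u
open CategoryTheory AlgebraicGeometry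
attribute [local instance] HasDerivedCategory.standard
open DerSch

namespace Groth.Agent.S17643

/-- Let f : X ⟶ Y be a morphism of finite type between Noetherian schemes which is of finite
Tor-dimension (the structure sheaf of X, placed in degree 0, has finite tor amplitude stalkwise over
the local rings of Y), U ⊆ X an affine open subset and V ⊆ Y an affine open subset with f(U) ⊆ V.
Then the restriction of f to U factors as U ⟶ W ⟶ Y with U ⟶ W a closed immersion of finite
Tor-dimension and W ⟶ Y smooth. The published section's standing conventions also take all morphisms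
separated; the printed argument does not use this, so separatedness is not assumed here. -/
theorem result {X Y : Scheme.{u}}
    [IsNoetherian X] [IsNoetherian Y] (f : X ⟶ Y) [LocallyOfFiniteType f] (hf : DerSch.HasFiniteTorDim f)
    (U : X.Opens) (hU : IsAffineOpen U) (V : Y.Opens) (hV : IsAffineOpen V) (hUV : U ≤ f ⁻¹ᵁ V) :
    ∃ (W : Scheme.{u}) (g : (U : Scheme.{u}) ⟶ W) (h : W ⟶ Y),
      IsClosedImmersion g ∧ DerSch.HasFiniteTorDim g ∧ Smooth h ∧ g ≫ h = U.ι ≫ f := by
  obtain ⟨n, φ, hφ⟩ := Groth.Agent.RelPCS.exists_chart (f := f) hU hV hUV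
  haveI := Groth.Agent.RelPCS.closedImm_sp hφ.1
  let k := Groth.Agent.RelPCS.sp (MvPolynomial.C : Γ(Y, V) →+* MvPolynomial (Fin n) Γ(Y, V)) ≫ hV.fromSpec
  let g : (U : Scheme.{u}) ⟶ Spec (CommRingCat.of (MvPolynomial (Fin n) Γ(Y, V))) := hU.isoSpec.hom ≫ Groth.Agent.RelPCS.sp φ
  have hw : g ≫ k = U.ι ≫ f := by
    show (hU.isoSpec.hom ≫ Groth.Agent.RelPCS.sp φ) ≫ Groth.Agent.RelPCS.sp _ ≫ hV.fromSpec = _
    have e : Groth.Agent.RelPCS.sp φ ≫ Groth.Agent.RelPCS.sp MvPolynomial.C = Spec.map (f.appLE V U hUV) := by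
      rw [← Groth.Agent.RelPCS.sp_comp, hφ.2]
      rfl
    rw [Category.assoc, ← Category.assoc (Groth.Agent.RelPCS.sp φ), e, IsAffineOpen.SpecMap_appLE_fromSpec f hV hU hUV,
      ← Category.assoc, IsAffineOpen.isoSpec_hom_fromSpec]
  haveI : IsClosedImmersion g := MorphismProperty.comp_mem _ _ _ inferInstance inferInstance
  haveI : Smooth (Groth.Agent.RelPCS.sp (MvPolynomial.C : Γ(Y, V) →+* MvPolynomial (Fin n) Γ(Y, V))) :=
    (HasRingHomProperty.Spec_iff (P := @Smooth)).2 (RingHom.smooth_algebraMap.2 (⟨inferInstance, inferInstance⟩ : Algebra.Smooth Γ(Y, V) (MvPolynomial (Fin n) Γ(Y, V))))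
  haveI : Smooth k := inferInstance
  refine ⟨_, g, k, inferInstance, ?_, inferInstance, hw⟩
  obtain ⟨a, b, hab⟩ := hf
  have hu : DerSch.HasTorAmplitude U.ι 0 0 (DerSch.unitCx (U : Scheme.{u})) :=
    (Groth.Agent.KSixLib.torAmp_single_zero_iff U.ι _).2 ((Groth.Agent.KSixLib.isFlatOver_unit_iff U.ι).2 inferInstance)
  refine ⟨-(((-a).toNat + n : ℕ) : ℤ), 0, fun z => ?_⟩
  refine Groth.Agent.KSixLib.torDimAt_chart hV g z ?_
  have h0 : DerSch.HasTorAmplitudeAt f (-((-a).toNat : ℤ)) 0 (DerSch.unitCx X) (U.ι.base z) :=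
    Groth.Agent.DRingKP.amp_widen (by lia) le_rfl (Groth.Agent.DRingKP.amp_shrink (b' := 0) (hab (U.ι.base z)) fun j hj =>
      (ShortComplex.isZero_homology_of_isZero_X₂ _ ((Groth.Agent.DQCoh.stA f (U.ι.base z)).map_isZero
        (HomologicalComplex.isZero_single_obj_X _ _ _ _ (by lia)))).of_iso
        ((DerivedCategory.homologyFunctorFactors _ j).app _))
  have h1 := Groth.Agent.KSixLib.torAmpAt_comp U.ι f (n := (-a).toNat) (a := 0) (b := 0) h0 (hu z)
  have key : ∀ (g' : (U : Scheme.{u}) ⟶ Y), g' = U.ι ≫ f → DerSch.HasTorAmplitudeAt g' (-((-a).toNat : ℤ)) 0 (DerSch.unitCx _) z := fun g' e => by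
    subst e
    simpa using h1
  exact key _ hw

end Groth.Agent.S17643
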