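import Groth.Statements.S17649
import Mathlib
import Groth.Agent.QCGen.RestrictLoc

set_option autoImplicit false
set_option backward.isDefEq.respectTransparency false
universe u
open CategoryTheory CategoryTheory.Limits AlgebraicGeometry
open QCohCat

namespace Groth.Agent.S17649

/-- Suppose the scheme X is quasi-compact and quasi-separated, and take two quasi-compact opens U, V ⊆
X. Given a quasi-compact open W, denote by S_W the class of quasi-coherent O_X-modules that restrict
to zero on W. Then S_{U ∩ V} is the smallest localizing subcategory of Qcoh(X) that contains both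
S_U and S_V; concretely (this is the inclusion that is not formal): any quasi-coherent O_X-module F
satisfying F|_{U ∩ V} = 0 arises as an extension of a quasi-coherent module that is zero on V by a
quasi-coherent submodule that is zero on U — one can find a monomorphism A ⟶ F where A is
quasi-coherent, A|_U = 0 and (F/A)|_V = 0. -/
theorem result {X : Scheme.{u}}
    [CompactSpace X] [QuasiSeparatedSpace X] (U V : X.Opens) [QuasiCompact U.ι] [QuasiCompact V.ι]
    (F : X.Modules) (hF : Coh.IsQCoh F) (h : IsZero ((Scheme.Modules.restrictFunctor (U ⊓ V).ι).obj F)) :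
    ∃ (A : X.Modules) (i : A ⟶ F), Mono i ∧ Coh.IsQCoh A ∧
      IsZero ((Scheme.Modules.restrictFunctor U.ι).obj A) ∧
      IsZero ((Scheme.Modules.restrictFunctor V.ι).obj (cokernel i)) := by
  haveI : F.IsQuasicoherent := hF
  haveI : QuasiSeparated U.ι := inferInstance
  let η := Groth.Agent.Devissage.unitE U F
  let A := kernel η
  have hq : Coh.IsQCoh ((Scheme.Modules.pushforward U.ι).obj (F.restrict U.ι)) :=
    @Groth.Agent.QC.isQCoh_pushforward _ _ _ (Groth.Agent.QC.isQCoh_restrict U.ι hF) U.ι _ _
  refine ⟨A, kernel.ι η, inferInstance, Groth.Agent.QC.isQCoh_kernel hF hq η, ?_, ?_⟩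
  · exact (Groth.Agent.QCGen.isZero_restrict_iff_support A U).2 (Groth.Agent.Devissage.support_kernel_unitE U F)
  · let R := Scheme.Modules.restrictFunctor V.ι
    haveI : Mono (R.map (kernel.ι η)) := inferInstance
    have hepi : Epi (R.map (kernel.ι η)) := by
      have h0 : R.map η = 0 := by
        apply Scheme.Modules.hom_ext
        intro O
        ext s
        refine (Groth.Agent.Devissage.unitE_eq_zero_iff U F _).2 fun x hx hxU => ?_
        have hs := (Groth.Agent.QCGen.isZero_restrict_iff_support F (U ⊓ V)).1 h
        obtain ⟨y, -, rfl⟩ := hx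
        exact Groth.Agent.Devissage.germ_eq_zero_of_notMem (N := F) _ s fun hy => hs hy ⟨hxU, y.2⟩
      have : IsIso (R.map (kernel.ι η)) := by
        have hk : IsIso (kernel.ι (R.map η)) := by
          exact ⟨⟨kernel.lift _ (𝟙 _) (by rw [h0, comp_zero]), by
            rw [← cancel_mono (kernel.ι (R.map η)), Category.assoc, kernel.lift_ι, Category.comp_id, Category.id_comp],
            kernel.lift_ι _ _ _⟩⟩
        rw [show R.map (kernel.ι η) = (PreservesKernel.iso R η).hom ≫ kernel.ι (R.map η) by simp]
        infer_instance
      infer_instance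
    exact (PreservesCokernel.iso R (kernel.ι η)).isZero_iff.2 (isZero_cokernel_of_epi _)

end Groth.Agent.S17649
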