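import Groth.Statements.S17650
import Groth.Agent.NodalRed.Basic
import Groth.Agent.CurveRR.GGVanish
import Groth.Agent.DualGeneric.SubI
import Groth.Agent.LocFree.Props
-- import your own Groth.Agent.* helpers here

set_option autoImplicit false
set_option backward.isDefEq.respectTransparency false
set_option backward.isDefEq.respectTransparency.types false
set_option maxHeartbeats 1000000
universe u
open CategoryTheory CategoryTheory.Limits AlgebraicGeometry TopologicalSpace
open Curves

namespace Groth.Agent.S17650

/-- Let k be an algebraically closed field and B a connected scheme, proper over k, of dimension one,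
with at-worst-nodal singularities and with H^1(B, O_B) = 0 (a connected proper prestable curve of
arithmetic genus zero). If E is a finite locally free O_B-module generated by its global sections,
then H^1(B, E) = 0. (The source works over the complex numbers; the statement and its proof are
unchanged over any algebraically closed field.) -/
theorem result (k : Type u) [Field k] [IsAlgClosed k]
    (B : Scheme.{u}) [B.Over (Spec (CommRingCat.of k))] [IsProper (B ↘ Spec (CommRingCat.of k))]
    [ConnectedSpace ↥B] (hdim : topologicalKrullDim ↥B = 1) (hnod : Curv2.AtWorstNodal k B)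
    (hg : Subsingleton (Coh.HH B (Coh.structureModule B) 1))
    (E : B.Modules) (hE : FlatMod.IsFinLocFree E) (hgg : Curv2.IsGloballyGenerated E) :
    Subsingleton (Coh.HH B E 1) := by
  classical
  haveI := CurveRR.isNoetherian_of_proper k B
  haveI : JacobsonSpace B := LocallyOfFiniteType.jacobsonSpace (B ↘ Spec (CommRingCat.of k))
  haveI : ∀ x : B, _root_.IsReduced (B.presheaf.stalk x) := NodalRed.isReduced_stalk k B hnod
  haveI : AlgebraicGeometry.IsReduced B := isReduced_of_isReduced_stalk B
  have hEc : Coh.IsCoh E := ⟨LocFree.isQCoh_of_isFinLocFree hE, LocFree.isFT_of_isFinLocFree hE⟩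
  obtain ⟨ω, tr, hω, ht⟩ := DCohShriek.exists_coh_isRDual k (X := B) 1 hdim.le
  refine CurveRR.subsingleton_hh_of_hom ht hEc.1 fun φ => CurveRR.eq_zero_of_gg hgg φ fun s => ?_
  exact CurveRR.hom_eq_zero_of_subsingleton ht (Groth.Agent.QC.isQCoh_unit B) hg _

end Groth.Agent.S17650
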