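import Groth.Statements.S17651
import Groth.Agent.NodalRed.Basic
import Groth.Agent.CurveRR.GGVanish
import Groth.Agent.DualGeneric.SubI
import Groth.Agent.LocFree.Props
-- import your own Groth.Agent.* helpers here

set_option autoImplicit false
set_option backward.isDefEq.respectTransparency false
set_option backward.isDefEq.respectTransparency.types false
set_option maxHeartbeats 1000000
universe u
open CategoryTheory CategoryTheory.Limits AlgebraicGeometry TopologicalSpace
open Curves

namespace Groth.Agent.S17651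

/-- Let k be an algebraically closed field and B a connected scheme, proper over k, of dimension one,
with at-worst-nodal singularities and with H^1(B, O_B) = 0. Let E be a finite locally free
O_B-module generated by its global sections and p a closed point of B, with I_p the ideal sheaf of
functions vanishing at p. Then H^1(B, E ⊗ I_p) = 0; since E is locally free, E ⊗ I_p is the
submodule I_p E of sections vanishing at p. (The source works over the complex numbers; the
statement and its proof are unchanged over any algebraically closed field.) -/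
theorem result (k : Type u) [Field k] [IsAlgClosed k]
    (B : Scheme.{u}) [B.Over (Spec (CommRingCat.of k))] [IsProper (B ↘ Spec (CommRingCat.of k))]
    [ConnectedSpace ↥B] (hdim : topologicalKrullDim ↥B = 1) (hnod : Curv2.AtWorstNodal k B)
    (hg : Subsingleton (Coh.HH B (Coh.structureModule B) 1))
    (E : B.Modules) (hE : FlatMod.IsFinLocFree E) (hgg : Curv2.IsGloballyGenerated E)
    (p : ↥B) (hp : IsClosed ({p} : Set ↥B)) :
    Subsingleton (Coh.HH B (CohB1.tensorMod E
      (ClSub.idealMod (Scheme.IdealSheafData.vanishingIdeal (⟨{p}, hp⟩ : Closeds ↥B)))) 1) := by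
  classical
  haveI := CurveRR.isNoetherian_of_proper k B
  haveI : JacobsonSpace B := LocallyOfFiniteType.jacobsonSpace (B ↘ Spec (CommRingCat.of k))
  haveI : ∀ x : B, _root_.IsReduced (B.presheaf.stalk x) := NodalRed.isReduced_stalk k B hnod
  haveI : AlgebraicGeometry.IsReduced B := isReduced_of_isReduced_stalk B
  have hEc : Coh.IsCoh E := ⟨LocFree.isQCoh_of_isFinLocFree hE, LocFree.isFT_of_isFinLocFree hE⟩
  obtain ⟨ω, tr, hω, ht⟩ := DCohShriek.exists_coh_isRDual k (X := B) 1 hdim.le
  let I := Scheme.IdealSheafData.vanishingIdeal (⟨{p}, hp⟩ : TopologicalSpace.Closeds B)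
  have hI := (CurveRR.isCoh_idealMod I).1
  have e0 : CurveRR.h k (Coh.structureModule B) 0 = 1 := DualGeneric.h0_structure_connected k
  have hI1 : Subsingleton (Coh.HH B (ClSub.idealMod I) 1) := by
    have he := CurveRR.euler_ideal_tensor (k := k) (TMul.isInvertible_structureModule (X := B)) I (CurveRR.point_dim hp)
    rw [CurveRR.euler_eq_of_iso (TMul.commIso _ _ ≪≫ TMul.leftUnitIso (ClSub.idealMod I)), CurveRR.h0_quotMod_point hp,
      CurveRR.euler_eq hdim.le, CurveRR.euler_eq hdim.le, e0, CurveRR.h_eq_zero hg] at he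
    haveI := CohFinite.finite_proper k B _ hI 1
    suffices h00 : CurveRR.h k (ClSub.idealMod I) 0 = 0 from
      Module.finrank_zero_iff.1 (show CurveRR.h k (ClSub.idealMod I) 1 = 0 by omega)
    haveI : Subsingleton Γ(ClSub.idealMod I, ⊤) := subsingleton_of_forall_eq 0 fun u => by
      refine Groth.Agent.QC.app_injective_of_mono (ClSub.idealModι I) ⊤ ?_
      rw [map_zero]
      letI := CurveRR.secMod k (Coh.structureModule B) ⊤
      have hone : (1 : Γ(B, ⊤)) ≠ 0 := fun h1 => by
        have hm : p ∈ B.basicOpen (1 : Γ(B, ⊤)) := by rw [B.basicOpen_of_isUnit isUnit_one]; trivial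
        rw [h1, Scheme.basicOpen_zero] at hm
        exact hm
      obtain ⟨c, hc⟩ := exists_smul_eq_of_finrank_eq_one
        (show Module.finrank k Γ(Coh.structureModule B, ⊤) = 1 from (CurveRR.finrank_sec _).trans e0) hone
        (show Γ(Coh.structureModule B, ⊤) from (ClSub.idealModι I).app ⊤ u)
      change HMul.hMul (α := Γ(B, ⊤)) (β := Γ(B, ⊤)) (CurveRR.cst k B ⊤ c) 1 = _ at hc
      rw [mul_one] at hc
      have hq : (DualGeneric.Sub.q (⟨{p}, hp⟩ : TopologicalSpace.Closeds B)).app ⊤ ((ClSub.idealModι I).app ⊤ u) = 0 :=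
        DualGeneric.Sub.kernel_app (ClSub.toSubscheme I) u
      rw [show (ClSub.idealModι I).app ⊤ u = CurveRR.cst k B ⊤ c from hc.symm] at hq ⊢
      rcases eq_or_ne c 0 with rfl | hne
      · exact map_zero _
      · exfalso
        refine (DualGeneric.Sub.q_eq_zero_iff _ _).1 hq p rfl ?_
        rw [B.basicOpen_of_isUnit (hne.isUnit.map (CurveRR.cst k B ⊤))]
        trivial
    exact CurveRR.h_eq_zero (CurveRR.secH0 (k := k) (ClSub.idealMod I)).symm.toEquiv.subsingleton
  have hT := CurveRR.isCoh_tensor' hEc hI
  refine CurveRR.subsingleton_hh_of_hom ht hT.1 fun φ => W7Gen.tensor_hom_ext φ 0 fun W e a => ?_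
  obtain ⟨l, s, hs⟩ := CurveRR.exists_finite_sections hEc hgg
  haveI := hs
  refine Groth.Agent.QC.section_eq_of_locally fun x hx => ?_
  obtain ⟨V, hVW, b, hxV, hb⟩ := DualGeneric.Sub.exists_lift_epi
    (biproduct.desc (f := fun _ : Fin l => Coh.structureModule B) fun i => TMul.homOf (s i)) e hx
  refine ⟨V, hVW, hxV, ?_⟩
  rw [show (0 : CohB1.tensorMod E (ClSub.idealMod I) ⟶ ω).app W (TMul.tm e a) = 0 from rfl, map_zero,
    Groth.Agent.QC.app_res, TMul.res_tm, ← hb]
  generalize Groth.Agent.QC.res (ClSub.idealMod I) hVW a = a'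
  let σ : Fin l → (ClSub.idealMod I ⟶ ω) := fun i => (TMul.leftUnitIso (ClSub.idealMod I)).inv ≫ CohFinite.tmap (TMul.homOf (s i)) (ClSub.idealMod I) ≫ φ
  have hσ : ∀ i, CohFinite.tmap (TMul.homOf (s i)) (ClSub.idealMod I) ≫ φ = 0 := fun i => by
    have h0 := CurveRR.hom_eq_zero_of_subsingleton ht hI.1 hI1 (σ i)
    exact (cancel_epi (TMul.leftUnitIso (ClSub.idealMod I)).inv).1 (h0.trans comp_zero.symm)
  have htot := congrArg (fun g => Scheme.Modules.Hom.app g V b) (biproduct.total (f := fun _ : Fin l => Coh.structureModule B))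
  have hdesc : CohFinite.tmap (biproduct.desc (f := fun _ : Fin l => Coh.structureModule B) fun i => TMul.homOf (s i)) (ClSub.idealMod I) ≫ φ = 0 := by
    have h1 : biproduct.desc (f := fun _ : Fin l => Coh.structureModule B) (fun i => TMul.homOf (s i)) =
        ∑ i, biproduct.π (fun _ : Fin l => Coh.structureModule B) i ≫ TMul.homOf (s i) := biproduct.desc_eq
    rw [h1, CohFinite.tmap_sum, Preadditive.sum_comp]
    refine Finset.sum_eq_zero fun i _ => ?_
    rw [CohFinite.tmap_comp, Category.assoc, hσ i, comp_zero]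
  rw [← CohFinite.tmap_tm (φ := biproduct.desc (f := fun _ : Fin l => Coh.structureModule B) fun i => TMul.homOf (s i))]
  exact congrArg (fun g => Scheme.Modules.Hom.app g V (TMul.tm b a')) hdesc

end Groth.Agent.S17651
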