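import Groth.Statements.S17652
import Groth.Agent.SmoothStrat.CompSemi
import Groth.Agent.S1338
import Groth.Agent.S2402
import Groth.Agent.ConsEngine.Core

set_option autoImplicit false
universe u
open CategoryTheory CategoryTheory.Limits AlgebraicGeometry TopologicalSpace
open FlatMor

namespace Groth.Agent.S17652

/-- Let k be a field, X and Y schemes of finite type over k and f : X → Y a k-morphism which is flat and
proper and whose fibres over the closed points of Y are geometrically reduced. For y in Y let N(y)
be the number of irreducible components of the geometric fibre of f at y (the base change of the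
fibre to an algebraic closure of the residue field κ(y)). Then N is upper semicontinuous on Y: every
point y has a neighbourhood on which N ≤ N(y). -/
theorem result (k : Type u) [Field k]
    (X Y : Scheme.{u}) [X.Over (Spec (CommRingCat.of k))] [Y.Over (Spec (CommRingCat.of k))]
    [LocallyOfFiniteType (X ↘ Spec (CommRingCat.of k))] [CompactSpace ↥X]
    [LocallyOfFiniteType (Y ↘ Spec (CommRingCat.of k))] [CompactSpace ↥Y]
    (f : X ⟶ Y) (hf : f ≫ (Y ↘ Spec (CommRingCat.of k)) = X ↘ Spec (CommRingCat.of k))
    [Flat f] [IsProper f]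
    (hred : ∀ y : ↥Y, IsClosed ({y} : Set ↥Y) → GeometricallyReduced (f.fiberToSpecResidueField y)) :
    UpperSemicontinuous (fun y : ↥Y =>
      Nat.card ↥(irreducibleComponents (↥(pullback f
        (Spec.map (CommRingCat.ofHom (algebraMap (Y.residueField y) (AlgebraicClosure (Y.residueField y)))) ≫
          Y.fromSpecResidueField y)) : Type u))) := by
  classical
  let pY := Y ↘ Spec (CommRingCat.of k)
  haveI : IsLocallyNoetherian Y := LocallyOfFiniteType.isLocallyNoetherian pY
  haveI : IsNoetherian Y := { __ := (inferInstance : IsLocallyNoetherian Y) }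
  haveI : IsLocallyNoetherian X := LocallyOfFiniteType.isLocallyNoetherian f
  haveI : JacobsonSpace ↥Y := LocallyOfFiniteType.jacobsonSpace pY
  haveI : LocallyOfFinitePresentation f := Groth.Agent.ConsEngine.lfp_of_lft f
  have hall : ∀ y : ↥Y, GeometricallyReduced (f.fiberToSpecResidueField y) := by
    intro y
    obtain ⟨O, hyO, hO⟩ := Groth.Agent.GeomRedSpread.exists_open_geometricallyReduced_iff f y
    obtain ⟨z, ⟨hzO, hzy⟩, hzc⟩ := nonempty_inter_closedPoints (Z := (O : Set ↥Y) ∩ closure {y})
      ⟨y, hyO, subset_closure rfl⟩ (O.2.isLocallyClosed.inter isClosed_closure.isLocallyClosed)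
    exact (hO z hzO (specializes_iff_mem_closure.2 hzy)).1 (hred z hzc)
  let N : ↥Y → ℕ := fun y => (MoreMor.nGeomIrredComp f y).toNat
  have hfin : ∀ y : ↥Y, MoreMor.nGeomIrredComp f y ≠ ⊤ := fun y => by
    let v := Spec.map (CommRingCat.ofHom (algebraMap (Y.residueField y) (AlgebraicClosure (Y.residueField y)))) ≫
      Y.fromSpecResidueField y
    rw [(Groth.Agent.GeomFib.nGeom_eq f v y (by
      rw [Scheme.Hom.comp_apply]; exact Y.fromSpecResidueField_apply y _)).1]
    haveI : IsLocallyNoetherian (pullback f v) := LocallyOfFiniteType.isLocallyNoetherian (pullback.snd f v)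
    haveI : CompactSpace ↥(pullback f v) := QuasiCompact.compactSpace_of_compactSpace (pullback.snd f v)
    haveI : IsNoetherian (pullback f v) := { __ := (inferInstance : IsLocallyNoetherian (pullback f v)) }
    exact Set.encard_ne_top_iff.2 TopologicalSpace.NoetherianSpace.finite_irreducibleComponents
  have heq : ∀ y : ↥Y, Nat.card ↥(irreducibleComponents (↥(pullback f
        (Spec.map (CommRingCat.ofHom (algebraMap (Y.residueField y) (AlgebraicClosure (Y.residueField y)))) ≫
          Y.fromSpecResidueField y)) : Type u)) = N y := fun y => by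
    let v := Spec.map (CommRingCat.ofHom (algebraMap (Y.residueField y) (AlgebraicClosure (Y.residueField y)))) ≫
      Y.fromSpecResidueField y
    have h := (Groth.Agent.GeomFib.nGeom_eq f v y (by
      rw [Scheme.Hom.comp_apply]; exact Y.fromSpecResidueField_apply y _)).1
    exact (Nat.card_coe_set_eq (irreducibleComponents ↥(pullback f v))).trans (congrArg ENat.toNat h.symm)
  simp only [heq]
  have hlev : ∀ t : ℕ, Topology.IsConstructible (N ⁻¹' {t}) := fun t => by
    have : N ⁻¹' {t} = {y | MoreMor.nGeomIrredComp f y = (t : ℕ∞)} := by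
      ext y
      show (MoreMor.nGeomIrredComp f y).toNat = t ↔ _
      exact ⟨fun h => h ▸ (ENat.coe_toNat (hfin y)).symm, fun h => (congrArg ENat.toNat (show MoreMor.nGeomIrredComp f y = (t : ℕ∞) from h)).trans (ENat.toNat_coe t)⟩
    rw [this]
    exact (Groth.Agent.S1338.result f t).isConstructible
  have hrange : (Set.range N).Finite := by
    suffices h : ∀ C : TopologicalSpace.Closeds ↥Y, (N '' (C : Set ↥Y)).Finite by
      rw [← Set.image_univ]; exact h ⊤
    intro C
    induction C using WellFoundedLT.induction with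
    | ind C ih =>
      obtain ⟨S, hSf, hSc, hSi, hCS⟩ := TopologicalSpace.NoetherianSpace.exists_finite_set_isClosed_irreducible C.2
      rw [show (C : Set ↥Y) = ⋃₀ S from hCS, Set.image_sUnion]
      refine Set.Finite.sUnion (hSf.image _) ?_
      rintro _ ⟨Z, hZ, rfl⟩
      obtain ⟨y, hy⟩ : ∃ y, IsGenericPoint y Z := ⟨_, (hSi Z hZ).isGenericPoint_genericPoint (hSc Z hZ)⟩
      obtain ⟨O, hyO, hO⟩ := Groth.Agent.GeomFib.exists_open_nGeom f y
      let D : TopologicalSpace.Closeds ↥Y := ⟨Z ∩ (O : Set ↥Y)ᶜ, (hSc Z hZ).inter O.2.isClosed_compl⟩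
      have hsub : Z ⊆ (C : Set ↥Y) := fun w hw => hCS.ge ⟨Z, hZ, hw⟩
      have hD : D < C := lt_of_le_not_ge (fun w hw => hsub hw.1) fun h =>
        (h (hsub hy.mem)).2 hyO
      refine ((ih D hD).insert (N y)).subset ?_
      rintro _ ⟨w, hw, rfl⟩
      by_cases hwO : w ∈ O
      · exact Or.inl (congrArg ENat.toNat (hO w hwO (hy.specializes hw)).1)
      · exact Or.inr ⟨w, ⟨hw, hwO⟩, rfl⟩
  refine (Groth.Agent.S2402.result N ⟨hlev, hrange⟩).2 fun y y' h => ENat.toNat_le_toNat ?_ (hfin y)
  exact Groth.Agent.SmoothStrat.nGeomIrredComp_le_of_specializes f h (hall y)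

end Groth.Agent.S17652
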