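import Groth.Statements.S17653
import Groth.Agent.FlatDim.DimSets
import Groth.Agent.DimFormula.Dims
import Groth.Agent.Unibranch.ComponentTransfer

set_option autoImplicit false
set_option linter.style.haveILetI false
set_option backward.isDefEq.respectTransparency false
open Groth.Agent Topology
universe u
open CategoryTheory CategoryTheory.Limits AlgebraicGeometry TopologicalSpace
open Variety

namespace Groth.Agent.S17653

/-- Suppose X and Y are locally Noetherian schemes of the same pure dimension d (every irreducible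
component of X and every irreducible component of Y has topological Krull dimension d), and π : X →
Y is a proper morphism between them. If there is a point x of X which is isolated in its fibre
π⁻¹(π(x)), i.e. some open neighbourhood of x meets that fibre only in x, then the image of π, with
the subspace topology, has the same dimension as Y. -/
theorem result
    (X Y : Scheme.{u}) [IsLocallyNoetherian X] [IsLocallyNoetherian Y] (π : X ⟶ Y) [IsProper π]
    (d : WithBot ℕ∞) (hX : ∀ Z ∈ irreducibleComponents ↥X, topologicalKrullDim ↥Z = d)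
    (hY : ∀ Z ∈ irreducibleComponents ↥Y, topologicalKrullDim ↥Z = d)
    (x : ↥X) (hx : ∃ U : X.Opens, x ∈ U ∧ ∀ x' ∈ U, π x' = π x → x' = x) :
    topologicalKrullDim ↥(Set.range (fun z : ↥X => π z)) = topologicalKrullDim ↥Y := by
  haveI : QuasiSober ↥(Set.range (fun z : ↥X => π z)) :=
    π.isClosedMap.isClosed_range.isClosedEmbedding_subtypeVal.quasiSober
  obtain ⟨ξ, hξ, hξx⟩ := Unibranch.exists_isMaxPt_specializes x
  have hZ := hX _ hξ.mem_irreducibleComponents
  obtain ⟨U, hxU, hU⟩ := hx
  obtain ⟨e, he1, he2, -⟩ := Unibranch.exists_dim_closure_eq π ξ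
  obtain ⟨δ, h1, h2, -⟩ := Unibranch.exists_dim_closure_eq π x
  have hfib : FlatMor.fibreDimAt π x ≤ ((0 : ℕ) : WithBot ℕ∞) :=
    (Unibranch.fibreDimAt_le_iff π x).2 ⟨U, hxU, fun n c hc hcc => by
      by_contra hn
      exact (hcc ⟨0, by omega⟩).2 ((hU _ (hc _).1 (hc _).2).trans (hU _ (hc _).1 (hc _).2).symm)⟩
  have hδ : δ = 0 := Nat.le_zero.1 (Nat.cast_le.1 ((FlatDim.le_fibreDimAt π specializes_rfl rfl h2).trans hfib))
  have hxm : FlatDim.IsFibMax π x := fun y hy hfy => hU y (hy.mem_open U.2 hxU) hfy
  have he : e = 0 := Nat.le_zero.1 (hδ ▸ FlatDim.le_of_isFibMax π hxm hξx he2 h1)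
  haveI : Nonempty ↥Y := ⟨π x⟩
  have hdY : topologicalKrullDim ↥Y ≤ d := by
    have h : ∀ Z ∈ irreducibleComponents (Y : Type u), ∃ Z' : Set ↥X, topologicalKrullDim ↥Z = topologicalKrullDim ↥Z' :=
      fun Z hZY => ⟨closure {ξ}, (hY Z hZY).trans hZ.symm⟩
    refine Unibranch.le_of_forall_natCast_le fun k hk => ?_
    obtain ⟨c, hc⟩ := Unibranch.exists_chain_of_le_topologicalKrullDim hk
    have hC : IsClosed (irreducibleComponent (c 0)) := isClosed_irreducibleComponent
    rw [← hY _ (irreducibleComponent_mem_irreducibleComponents (c 0))]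
    haveI : QuasiSober (irreducibleComponent (c 0)) := hC.isClosedEmbedding_subtypeVal.quasiSober
    exact Unibranch.natCast_le_topologicalKrullDim
      (fun i => (⟨c i, (Unibranch.specializes_of_chain c hc i).mem_closed hC mem_irreducibleComponent⟩ : irreducibleComponent (c 0)))
      fun i => ⟨(subtype_specializes_iff _ _).mpr (hc i).1, fun h => (hc i).2 (congrArg Subtype.val h)⟩
  refine le_antisymm (IsInducing.subtypeVal.topologicalKrullDim_le) (hdY.trans ?_)
  rw [← hZ]
  refine Unibranch.le_of_forall_natCast_le fun l hl => ?_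
  haveI : QuasiSober ↥(closure ({ξ} : Set ↥X)) := isClosed_closure.isClosedEmbedding_subtypeVal.quasiSober
  obtain ⟨c, hc⟩ := Unibranch.exists_chain_of_le_topologicalKrullDim hl
  let c' : Fin (l + 1) → X := fun i => (c i).1
  have hc' : Unibranch.IsChain' c' := fun i =>
    ⟨(hc i).1.map continuous_subtype_val, fun h => (hc i).2 (Subtype.ext h)⟩
  have hξc : ξ ⤳ c' 0 := specializes_iff_mem_closure.2 (c 0).2
  have hξl : ξ ⤳ c' (Fin.last l) := hξc.trans (Unibranch.specializes_of_chain c' hc' _)
  obtain ⟨m, hm1, g, hg, hg0, -⟩ := DimFormula.exists_genLE_hasGen (hξl.map π.continuous)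
  have h := DimFormula.dimension_inequality π hξl (a := l) ⟨c', hc', hξc, rfl⟩ hm1 (d := 0)
    ⟨fun _ => c' (Fin.last l), fun _ => ⟨subset_closure rfl, rfl⟩, fun i => i.elim0⟩ he1
  have hgR : ∀ i, g i ∈ Set.range (fun z : ↥X => π z) := fun i =>
    (hg0.trans (Unibranch.specializes_of_chain g hg i)).mem_closed π.isClosedMap.isClosed_range ⟨ξ, rfl⟩
  exact le_trans (Nat.cast_le.2 (by omega : l ≤ m)) (Unibranch.natCast_le_topologicalKrullDim
    (fun i => (⟨g i, hgR i⟩ : ↥(Set.range (fun z : ↥X => π z))))
    fun i => ⟨(subtype_specializes_iff _ _).mpr (hg i).1, fun h => (hg i).2 (congrArg Subtype.val h)⟩)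

end Groth.Agent.S17653
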