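import Groth.Statements.S17658
import Mathlib

set_option autoImplicit false
universe u
open Surf

namespace Groth.Agent.S17658


open MvPolynomial

/-- The monomials of bidegree `(a, b)` of the Cox ring of `F₁`. -/
def mons (k : Type u) [Field k] (a b : ℕ) : Set (MvPolynomial (Fin 4) k) :=
  {f | ∃ e : Fin 4 →₀ ℕ, e 2 + e 3 = a ∧ e 0 + e 1 = b + e 2 ∧ f = MvPolynomial.monomial e 1}

lemma mem_span_mons {k : Type u} [Field k] (a b : ℕ) (f : MvPolynomial (Fin 4) k) :
    f ∈ Submodule.span k (mons k a b) ↔
      ∀ e ∈ f.support, e 2 + e 3 = a ∧ e 0 + e 1 = b + e 2 := by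
  have h : mons k a b = (fun e => monomial e (1 : k)) ''
      {e : Fin 4 →₀ ℕ | e 2 + e 3 = a ∧ e 0 + e 1 = b + e 2} := by
    ext g
    constructor
    · rintro ⟨e, h1, h2, rfl⟩
      exact ⟨e, ⟨h1, h2⟩, rfl⟩
    · rintro ⟨e, ⟨h1, h2⟩, rfl⟩
      exact ⟨e, h1, h2, rfl⟩
  rw [h, ← MvPolynomial.restrictSupport_eq_span, MvPolynomial.mem_restrictSupport_iff]
  exact Iff.rfl

lemma mul_mem_span_mons {k : Type u} [Field k] {a b a' b' : ℕ} {f g : MvPolynomial (Fin 4) k}
    (hf : f ∈ Submodule.span k (mons k a b)) (hg : g ∈ Submodule.span k (mons k a' b')) :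
    f * g ∈ Submodule.span k (mons k (a + a') (b + b')) := by
  rw [mem_span_mons] at hf hg ⊢
  intro e he
  obtain ⟨x, hx, y, hy, rfl⟩ := Finset.mem_add.1 (MvPolynomial.support_mul f g he)
  obtain ⟨h1, h2⟩ := hf x hx
  obtain ⟨h3, h4⟩ := hg y hy
  simp only [Finsupp.add_apply]
  omega

lemma exists_leading {k : Type u} [Field k] (mo : MonomialOrder (Fin 4)) (a b c : ℕ)
    (W : Submodule k (MvPolynomial (Fin 4) k))
    (h₁ : ∀ i j : ℕ, i ≤ a → j * (c + 1) < b + i → ∃ w ∈ W, w ≠ 0 ∧ mo.degree w =
      Finsupp.single 0 (b + i - j * (c + 1)) + Finsupp.single 1 (j * (c + 1)) +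
        Finsupp.single 2 i + Finsupp.single 3 (a - i))
    (h₂ : ∀ i : ℕ, i ≤ a → ∃ w ∈ W, w ≠ 0 ∧ mo.degree w =
      Finsupp.single 1 (b + i) + Finsupp.single 2 i + Finsupp.single 3 (a - i))
    (e : Fin 4 →₀ ℕ) (he1 : e 2 + e 3 = a) (he2 : e 0 + e 1 = (b + c) + e 2) :
    ∃ w ∈ W, w ≠ 0 ∧ ∃ t : Fin 4 →₀ ℕ, t 2 + t 3 = 0 ∧ t 0 + t 1 = c + t 2 ∧
      mo.degree w + t = e := by
  have hdiv : e 1 / (c + 1) * (c + 1) + e 1 % (c + 1) = e 1 := by
    rw [mul_comm]; exact Nat.div_add_mod _ _
  have hmod : e 1 % (c + 1) ≤ c := Nat.le_of_lt_succ (Nat.mod_lt _ (Nat.succ_pos c))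
  by_cases hj : e 1 / (c + 1) * (c + 1) < b + e 2
  · obtain ⟨w, hw, hw0, hdeg⟩ := h₁ (e 2) (e 1 / (c + 1)) (by omega) hj
    generalize e 1 / (c + 1) * (c + 1) = m at hdiv hj hdeg
    refine ⟨w, hw, hw0, Finsupp.single 0 (e 0 + m - (b + e 2)) + Finsupp.single 1 (e 1 - m),
      ?_, ?_, ?_⟩
    · simp
    · simp [Finsupp.single_apply]
      omega
    · rw [hdeg]
      ext x
      fin_cases x <;> simp [Finsupp.single_apply] <;> omega
  · obtain ⟨w, hw, hw0, hdeg⟩ := h₂ (e 2) (by omega)
    refine ⟨w, hw, hw0, Finsupp.single 0 (e 0) + Finsupp.single 1 (e 1 - (b + e 2)),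
      ?_, ?_, ?_⟩
    · simp
    · simp [Finsupp.single_apply]
      omega
    · rw [hdeg]
      ext x
      fin_cases x <;> simp [Finsupp.single_apply] <;> omega

/-- In the polynomial ring k[T₀,T₁,U,V] over a field k, bigraded by deg T₀ = deg T₁ = (0,1), deg U =
(1,−1), deg V = (1,0) (the Cox ring of the Hirzebruch surface F₁; its piece of bidegree (a,b) is the
space of sections of O(a(E+F)+bF)), let S_(a,b) denote the k-span of the monomials of bidegree
(a,b), so that S_(0,c) is the space of forms of degree c in T₀, T₁. A subspace W ⊆ S_(a,b) is called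
c-generating when W·S_(0,c) = S_(a,b+c). Fix a monomial order and natural numbers a, b, c, and let
W₀(a,b,c) be the set of monomials U^i V^(a−i) T₀^(b+i−j(c+1)) T₁^(j(c+1)) with 0 ≤ i ≤ a, j ≥ 0 and
j(c+1) < b+i, together with the monomials U^i V^(a−i) T₁^(b+i) with 0 ≤ i ≤ a. If every monomial of
W₀(a,b,c) is the leading monomial of some nonzero element of W, then W is c-generating. (The source
fixes the graded lexicographic order with U > V > T₀ > T₁ and works over the complex numbers; its
argument uses only that leading monomials are multiplicative and that W₀(a,b,c)·S_(0,c) contains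
every monomial of S_(a,b+c), so any monomial order and any field are allowed here. The printed index
j runs from 1; with that range the statement fails already for a = 0, b = c = 1 and W spanned by T₁,
and the range from 0 used here is the one matching the accompanying dimension count.) Variables are
indexed T₀ = 0, T₁ = 1, U = 2, V = 3. -/
theorem result (k : Type u) [Field k]
    (mo : MonomialOrder (Fin 4)) (a b c : ℕ) (W : Submodule k (MvPolynomial (Fin 4) k))
    (hW : W ≤ Submodule.span k {f : MvPolynomial (Fin 4) k | ∃ e : Fin 4 →₀ ℕ, e 2 + e 3 = a ∧ e 0 + e 1 = b + e 2 ∧ f = MvPolynomial.monomial e 1})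
    (h₁ : ∀ i j : ℕ, i ≤ a → j * (c + 1) < b + i → ∃ w ∈ W, w ≠ 0 ∧
      mo.degree w = Finsupp.single 0 (b + i - j * (c + 1)) + Finsupp.single 1 (j * (c + 1)) +
        Finsupp.single 2 i + Finsupp.single 3 (a - i))
    (h₂ : ∀ i : ℕ, i ≤ a → ∃ w ∈ W, w ≠ 0 ∧
      mo.degree w = Finsupp.single 1 (b + i) + Finsupp.single 2 i + Finsupp.single 3 (a - i)) :
    W * Submodule.span k {f : MvPolynomial (Fin 4) k | ∃ e : Fin 4 →₀ ℕ, e 2 + e 3 = 0 ∧ e 0 + e 1 = c + e 2 ∧ f = MvPolynomial.monomial e 1} =
      Submodule.span k {f : MvPolynomial (Fin 4) k | ∃ e : Fin 4 →₀ ℕ, e 2 + e 3 = a ∧ e 0 + e 1 = (b + c) + e 2 ∧ f = MvPolynomial.monomial e 1} := by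
  show W * Submodule.span k (mons k 0 c) = Submodule.span k (mons k a (b + c))
  have hW' : W ≤ Submodule.span k (mons k a b) := hW
  refine le_antisymm (Submodule.mul_le.2 (fun f hf g hg => ?_)) ?_
  · simpa using mul_mem_span_mons (hW' hf) hg
  · have key : ∀ s : mo.syn, ∀ f ∈ Submodule.span k (mons k a (b + c)),
        mo.toSyn (mo.degree f) = s → f ∈ W * Submodule.span k (mons k 0 c) := by
      intro s
      induction s using WellFoundedLT.induction with
      | ind s ih =>
        intro f hf hs
        by_cases hf0 : f = 0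
        · subst hf0; exact zero_mem _
        have hmem : mo.degree f ∈ f.support := mo.degree_mem_support hf0
        obtain ⟨he1, he2⟩ := (mem_span_mons a (b + c) f).1 hf _ hmem
        obtain ⟨w, hw, hw0, t, ht1, ht2, ht⟩ := exists_leading mo a b c W h₁ h₂ _ he1 he2
        have hlc : mo.leadingCoeff w ≠ 0 := mo.leadingCoeff_ne_zero_iff.2 hw0
        let g : MvPolynomial (Fin 4) k :=
          w * MvPolynomial.monomial t (mo.leadingCoeff f / mo.leadingCoeff w)
        have hg : g ∈ W * Submodule.span k (mons k 0 c) := by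
          refine Submodule.mul_mem_mul hw ((mem_span_mons 0 c _).2 (fun e he => ?_))
          rw [Finset.mem_singleton.1 (MvPolynomial.support_monomial_subset he)]
          exact ⟨ht1, ht2⟩
        have hc : mo.leadingCoeff f / mo.leadingCoeff w ≠ 0 :=
          div_ne_zero (mo.leadingCoeff_ne_zero_iff.2 hf0) hlc
        have hgdeg : mo.degree g = mo.degree f := by
          show mo.degree (w * _) = _
          rw [mo.degree_mul hw0 (by simpa using hc)]
          classical
          rw [mo.degree_monomial, if_neg hc, ht]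
        have hgsp : g ∈ Submodule.span k (mons k a (b + c)) := by
          refine (Submodule.mul_le.2 (fun x hx y hy => ?_)) hg
          simpa using mul_mem_span_mons (hW' hx) hy
        have hcoef : (f - g).coeff (mo.degree f) = 0 := by
          have h3 : g.coeff (mo.degree f) = mo.leadingCoeff f := by
            show (w * _).coeff _ = _
            rw [← ht, MvPolynomial.coeff_mul_monomial]
            exact mul_div_cancel₀ _ hlc
          rw [MvPolynomial.coeff_sub, h3]
          exact sub_self _
        rw [← sub_add_cancel f g]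
        refine add_mem ?_ hg
        by_cases h0 : f - g = 0
        · rw [h0]; exact zero_mem _
        refine ih _ ?_ (f - g) (sub_mem hf hgsp) rfl
        rw [← hs]
        refine lt_of_le_of_ne ?_ ?_
        · have h4 := mo.degree_sub_le (f := f) (g := g)
          rwa [hgdeg, max_self] at h4
        · intro h
          have h5 : mo.degree (f - g) = mo.degree f := mo.toSyn.injective h
          have h6 := mo.degree_mem_support h0
          rw [h5, MvPolynomial.mem_support_iff] at h6
          exact h6 hcoef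
    intro f hf
    exact key _ f hf rfl

end Groth.Agent.S17658
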