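import Groth.Statements.S17660
import Groth.Agent.EulerExpand.Kill
import Groth.Agent.EulerMult.Basic
import Groth.Agent.Castel.Surface
import Groth.Agent.KFlat.ClosedImm
import Groth.Agent.QuotProj.Model
import Groth.Agent.QC.IdealMod
import Groth.Agent.PtBlow.LineSign
import Groth.Agent.FreeLite.Basic
import Groth.Agent.CIPicGlobal.Main

set_option backward.isDefEq.respectTransparency false
set_option backward.isDefEq.respectTransparency.types false
set_option synthInstance.maxHeartbeats 400000
set_option maxHeartbeats 1000000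
set_option linter.style.haveILetI false

set_option autoImplicit false
universe u
open CategoryTheory CategoryTheory.Limits AlgebraicGeometry
open Ribbon

namespace Groth.Agent.S17660

/-- Let C be a proper scheme over a field k and I ⊂ O_C a quasi-coherent ideal with I² = 0 whose closed
subscheme D ⊂ C is isomorphic over k to the projective line, and suppose that I, regarded as an
O_D-module, is isomorphic to O_{P^1}(-g-1) (so C is a ribbon of arithmetic genus g on P^1 with
conormal bundle I). If L is an invertible O_C-module whose restriction to D is isomorphic to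
O_{P^1}(n), then the degree χ(C, L) - χ(C, O_C) of L equals 2n. (Stated over an arbitrary ground
field; the source works with rational ribbons over an algebraically closed field, and also
identifies I·L with O_{P^1}(n-g-1), which is not asserted here.) -/
theorem result (k : Type u) [Field k] (C : Scheme.{u}) [C.Over (Spec (CommRingCat.of k))]
    [IsProper (C ↘ (Spec (CommRingCat.of k)))]
    (I : C.IdealSheafData) (hI : I ^ 2 = ⊥)
    (e : I.subscheme ≅ CohB1.ProjSpace 1 k)
    (he : e.hom ≫ CohB1.ProjSpace.toSpec 1 k = I.subschemeι ≫ (C ↘ (Spec (CommRingCat.of k))))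
    (g : ℕ)
    (hconormal : Nonempty ((Scheme.Modules.pullback I.subschemeι).obj (ClSub.idealMod I) ≅
      (Scheme.Modules.pullback e.hom).obj (Twist.twistProjSpace 1 k (-((g : ℤ) + 1)))))
    (L : C.Modules) (hL : PicF.IsInvertible L) (n : ℤ)
    (hLD : Nonempty ((Scheme.Modules.pullback I.subschemeι).obj L ≅
      (Scheme.Modules.pullback e.hom).obj (Twist.twistProjSpace 1 k n))) :
    Curv2.deg k C L 1 = 2 * n := by
  obtain ⟨ec⟩ := hconormal
  obtain ⟨el⟩ := hLD
  haveI : IsNoetherian C := Groth.Agent.CurveRR.isNoetherian_of_proper k C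
  let P₁ := CohB1.ProjSpace 1 k
  letI : I.subscheme.Over (Spec (CommRingCat.of k)) := ⟨I.subschemeι ≫ (C ↘ Spec (CommRingCat.of k))⟩
  haveI : IsProper (P₁ ↘ Spec (CommRingCat.of k)) := ProjMor.isProper_toSpec 1 k
  haveI : CompactSpace P₁ := QuasiCompact.compactSpace_of_compactSpace (P₁ ↘ Spec (CommRingCat.of k))
  haveI : P₁.IsSeparated := ⟨by
    rw [show terminal.from P₁ = (P₁ ↘ Spec (CommRingCat.of k)) ≫ terminal.from _ from terminal.hom_ext _ _]
    infer_instance⟩
  haveI : IsLocallyNoetherian I.subscheme := LocallyOfFiniteType.isLocallyNoetherian I.subschemeι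
  haveI : IsLocallyNoetherian P₁ := LocallyOfFiniteType.isLocallyNoetherian (P₁ ↘ Spec (CommRingCat.of k))
  let F := Scheme.Modules.pullback e.hom
  have hpull : ∀ a : ℤ, Curv2.euler k I.subscheme (F.obj (Twist.twistProjSpace 1 k a)) = a + 1 := fun a =>
    (Groth.Agent.QuotProj.euler_pullback_iso e he _
      (Groth.Agent.CurveRR.isCoh_of_inv (Groth.Agent.CIPicGlobal.isInvertible_twist (n := 1) (k := k) a)).1).trans
      (Groth.Agent.Castel.euler_twist_line k a)
  obtain ⟨ot⟩ := Groth.Agent.Horrocks.Om_zero (k := k) (d := 1)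
  obtain ⟨t⟩ := Groth.Agent.PtBlow.Line.tensor_twist (k := k) (-((g : ℤ) + 1)) n (n - g - 1) (by ring)
  obtain ⟨pt⟩ := TMul.nonempty_pullTensorIso e.hom (Twist.twistProjSpace 1 k (-((g : ℤ) + 1))) (Twist.twistProjSpace 1 k n)
  have hI₀ : Coh.IsCoh (ClSub.idealMod I) := (Groth.Agent.CurveRR.isCoh_idealMod I).1
  have hQ₀ : Coh.IsCoh (ClSub.quotMod I) := (Groth.Agent.CurveRR.isCoh_idealMod I).2
  have hLc : Coh.IsCoh L := Groth.Agent.CurveRR.isCoh_of_inv hL
  have hkill : Groth.Agent.EulerExpand.Kills I (ClSub.idealMod I) := fun U a ha s => by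
    refine (Groth.Agent.QC.mono_iff_app_injective (ClSub.idealModι I)).1 inferInstance U.1 ?_
    have hb := (Groth.Agent.QC.mem_range_idealModι_affine I U _).1 ⟨s, rfl⟩
    rw [Scheme.Modules.Hom.app_smul, map_zero]
    have hz : a * (show Γ(C, U.1) from (ClSub.idealModι I).app U.1 s) ∈ (I ^ 2).ideal U := by
      rw [Scheme.IdealSheafData.ideal_pow, Pi.pow_apply, pow_two]
      exact Ideal.mul_mem_mul ha hb
    rw [hI, Scheme.IdealSheafData.ideal_bot] at hz
    exact hz
  haveI := Groth.Agent.EulerExpand.isIso_unit hkill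
  let uI : ClSub.idealMod I ≅ (Scheme.Modules.pushforward I.subschemeι).obj
      ((Scheme.Modules.pullback I.subschemeι).obj (ClSub.idealMod I)) :=
    asIso ((Scheme.Modules.pullbackPushforwardAdjunction I.subschemeι).unit.app (ClSub.idealMod I))
  have push : ∀ G : I.subscheme.Modules, Coh.IsQCoh G →
      Curv2.euler k C ((Scheme.Modules.pushforward I.subschemeι).obj G) = Curv2.euler k I.subscheme G :=
    fun G hG => Groth.Agent.EulerMult.euler_push_affine I.subschemeι rfl G hG
  have hinvD : ∀ {M : I.subscheme.Modules} {a : ℤ} (_ : M ≅ F.obj (Twist.twistProjSpace 1 k a)),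
      Curv2.euler k I.subscheme M = a + 1 := fun i =>
    (Groth.Agent.CurveRR.euler_eq_of_iso i).trans (hpull _)
  have hqcD : ∀ {M : I.subscheme.Modules} {a : ℤ} (_ : M ≅ F.obj (Twist.twistProjSpace 1 k a)),
      Coh.IsQCoh M := fun {M a} i =>
    (Groth.Agent.CohFinite.isCoh_of_iso i.symm (Groth.Agent.CurveRR.isCoh_of_inv
      (PicLoc.isInvertible_pullback e.hom (Groth.Agent.CIPicGlobal.isInvertible_twist (n := 1) (k := k) a)))).1
  let iO : Coh.structureModule I.subscheme ≅ F.obj (Twist.twistProjSpace 1 k 0) :=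
    (Groth.Agent.FreeLite.pullUnitIso e.hom).symm ≪≫ F.mapIso ot.symm
  let iIL : CohB1.tensorMod ((Scheme.Modules.pullback I.subschemeι).obj (ClSub.idealMod I))
      ((Scheme.Modules.pullback I.subschemeι).obj L) ≅ F.obj (Twist.twistProjSpace 1 k (n - g - 1)) :=
    PicGrp.tensorModIso ec el ≪≫ pt ≪≫ F.mapIso t
  let iOL : CohB1.tensorMod (Coh.structureModule I.subscheme)
      ((Scheme.Modules.pullback I.subschemeι).obj L) ≅ F.obj (Twist.twistProjSpace 1 k n) :=
    TMul.leftUnitIso _ ≪≫ el
  have hS := Groth.Agent.CurveRR.ideal_shortExact I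
  have h0 := Groth.Agent.CurveRR.euler_add (k := k) hS hI₀ Groth.Agent.RefStalk.isCoh_structureModule hQ₀
  have h1 := Groth.Agent.CurveRR.euler_add (k := k) (Groth.Agent.CohFinite.shortExact_tmap hL hS)
    (Groth.Agent.CurveRR.isCoh_tensor' hI₀ hLc)
    (Groth.Agent.CurveRR.isCoh_tensor' Groth.Agent.RefStalk.isCoh_structureModule hLc)
    (Groth.Agent.CurveRR.isCoh_tensor' hQ₀ hLc)
  have eI : Curv2.euler k C (ClSub.idealMod I) = -(g : ℤ) := by
    rw [Groth.Agent.CurveRR.euler_eq_of_iso uI, push _ (hqcD ec), hinvD ec]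
    ring
  have eQ : Curv2.euler k C (ClSub.quotMod I) = 1 := by
    rw [show Curv2.euler k C (ClSub.quotMod I) = _ from push _ (hqcD iO), hinvD iO]
    ring
  have eIL : Curv2.euler k C (CohB1.tensorMod (ClSub.idealMod I) L) = n - g := by
    exact ((Groth.Agent.CurveRR.euler_eq_of_iso (PicGrp.tensorModIso uI (Iso.refl L) ≪≫
      Groth.Agent.KFlat.projFormulaIso I.subschemeι _ L)).trans (push _ (hqcD iIL))).trans
      ((hinvD iIL).trans (by ring))
  have eQL : Curv2.euler k C (CohB1.tensorMod (ClSub.quotMod I) L) = n + 1 := by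
    let w : CohB1.tensorMod (ClSub.quotMod I) L ≅ (Scheme.Modules.pushforward I.subschemeι).obj
        (CohB1.tensorMod (Coh.structureModule I.subscheme) ((Scheme.Modules.pullback I.subschemeι).obj L)) :=
      Groth.Agent.KFlat.projFormulaIso I.subschemeι (Coh.structureModule I.subscheme) L
    exact ((Groth.Agent.CurveRR.euler_eq_of_iso w).trans (push _ (hqcD iOL))).trans (hinvD iOL)
  have e1 : Curv2.euler k C L = (n - g) + (n + 1) := by
    rw [← Groth.Agent.CurveRR.euler_eq_of_iso (k := k) (TMul.leftUnitIso L), ← eIL, ← eQL]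
    exact h1
  have e0 : Curv2.euler k C (Coh.structureModule C) = -(g : ℤ) + 1 := by
    rw [← eI, ← eQ]
    exact h0
  rw [Curv2.deg, e1, e0]
  push_cast
  ring

end Groth.Agent.S17660
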