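import Groth.Statements.S17661
import Groth.Agent.NilAffine.Main
-- import your own Groth.Agent.* helpers here

set_option autoImplicit false
universe u
open CategoryTheory CategoryTheory.Limits AlgebraicGeometry
open Ribbon

namespace Groth.Agent.S17661

/-- Let k be a field, C a scheme locally of finite type over k and I ⊂ O_C a quasi-coherent ideal with
I² = 0, with closed subscheme D ⊂ C; suppose D is affine, connected and smooth over k and that I,
regarded as an O_D-module, is invertible (so C is a ribbon on the smooth affine scheme D, and D is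
the reduced scheme underlying C). Then the ribbon is split: the inclusion D → C admits a retraction
C → D over k. -/
theorem result (k : Type u) [Field k] (C : Scheme.{u}) [C.Over (Spec (CommRingCat.of k))]
    [LocallyOfFiniteType (C ↘ (Spec (CommRingCat.of k)))]
    (I : C.IdealSheafData) (hI : I ^ 2 = ⊥) [IsAffine I.subscheme] [ConnectedSpace I.subscheme]
    [Smooth (I.subschemeι ≫ (C ↘ (Spec (CommRingCat.of k))))]
    (hconormal : PicF.IsInvertible ((Scheme.Modules.pullback I.subschemeι).obj (ClSub.idealMod I))) :
    ∃ r : C ⟶ I.subscheme, I.subschemeι ≫ r = 𝟙 I.subscheme ∧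
      r ≫ I.subschemeι ≫ (C ↘ (Spec (CommRingCat.of k))) = C ↘ (Spec (CommRingCat.of k)) := by
  set s := C ↘ (Spec (CommRingCat.of k)) with hs
  haveI : Surjective I.subschemeι := by
    constructor
    rw [← Set.range_eq_univ, Scheme.IdealSheafData.range_subschemeι,
      ← Scheme.IdealSheafData.support_pow I 2 two_ne_zero, hI, Scheme.IdealSheafData.support_bot]
    rfl
  haveI : IsAffine C := Groth.Agent.NilAffine.isAffine_of_surjective I.subschemeι
  let U : C.affineOpens := ⟨⊤, isAffineOpen_top C⟩
  let A := Γ(C, ⊤)
  let B := Γ(I.subscheme, ⊤)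
  let R := Γ(Spec (CommRingCat.of k), ⊤)
  letI : Algebra R A := s.appTop.hom.toAlgebra
  letI : Algebra R B := (I.subschemeι ≫ s).appTop.hom.toAlgebra
  let π : A →ₐ[R] B := { I.subschemeι.appTop.hom with commutes' := fun _ => rfl }
  have hπ : Function.Surjective π := I.subschemeι_app_surjective U
  have hker : RingHom.ker π.toRingHom = I.ideal U := I.ker_subschemeι_app U
  have hnil : IsNilpotent (RingHom.ker π.toRingHom) := ⟨2, by
    rw [hker, ← Pi.pow_apply, ← Scheme.IdealSheafData.ideal_pow, hI]
    simp⟩
  haveI : Algebra.FormallySmooth R B :=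
    RingHom.FormallySmooth.toAlgebra ((HasRingHomProperty.appTop (P := @Smooth) _
      (inferInstance : Smooth (I.subschemeι ≫ s))).formallySmooth)
  let g : B →ₐ[R] A := Algebra.FormallySmooth.liftOfSurjective (AlgHom.id R B) π hπ hnil
  let g' : B ⟶ A := CommRingCat.ofHom g.toRingHom
  have hg : g' ≫ I.subschemeι.appTop = 𝟙 _ := by
    ext x
    exact AlgHom.congr_fun (Algebra.FormallySmooth.comp_liftOfSurjective (AlgHom.id R B) π hπ hnil) x
  have hgR : (I.subschemeι ≫ s).appTop ≫ g' = s.appTop := by
    ext x
    exact g.commutes x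
  refine ⟨C.toSpecΓ ≫ Spec.map g' ≫ I.subscheme.isoSpec.inv, ?_, ?_⟩
  · rw [Scheme.toSpecΓ_naturality_assoc, ← Spec.map_comp_assoc, hg, Spec.map_id, Category.id_comp,
      Scheme.toSpecΓ_isoSpec_inv]
  · rw [← cancel_mono (Spec (CommRingCat.of k)).toSpecΓ]
    simp only [Category.assoc]
    rw [← Category.assoc I.subschemeι s, Scheme.toSpecΓ_naturality, Scheme.isoSpec_inv_toSpecΓ_assoc,
      ← Spec.map_comp, Scheme.toSpecΓ_naturality, hgR]

end Groth.Agent.S17661
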