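import Groth.Statements.S17662
import Mathlib.LinearAlgebra.Matrix.NonsingularInverse
import Groth.Agent.CompGroup.CauchyBinet

set_option autoImplicit false
set_option linter.style.haveILetI false

universe u
open CIDisc

namespace Groth.Agent.S17662

open Matrix Finset

lemma cauchyBinet {R : Type u} [CommRing R] {e r n : ℕ} (A : Matrix (Fin e) (Fin r) R)
    (M : Matrix (Fin r) (Fin n) R) (t : Fin e → Fin n) :
    ((A * M).submatrix id t).det = ∑ s : {s : Finset (Fin r) // s.card = e},
      (A.submatrix id (s.1.orderEmbOfFin s.2)).det * (M.submatrix (s.1.orderEmbOfFin s.2) t).det := by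
  classical
  have h0 : (A * M).submatrix id t = A * M.submatrix id t := by
    ext i j; simp [Matrix.mul_apply]
  rw [h0, CompGroup.det_mul_expand]
  let φ : ({s : Finset (Fin r) // s.card = e} × Equiv.Perm (Fin e)) → (Fin e → Fin r) :=
    fun q i => q.1.1.orderEmbOfFin q.1.2 (q.2 i)
  have hφ : Function.Injective φ := by
    rintro ⟨⟨s, hs⟩, σ⟩ ⟨⟨s', hs'⟩, σ'⟩ h
    have him : ∀ q, univ.image (φ q) = q.1.1 := fun q => by
      refine Eq.trans ?_ (Finset.image_orderEmbOfFin_univ q.1.1 q.1.2)
      ext x
      simp only [φ, mem_image, mem_univ, true_and]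
      exact ⟨fun ⟨i, hi⟩ => ⟨_, hi⟩, fun ⟨i, hi⟩ => ⟨q.2.symm i, by simpa using hi⟩⟩
    have e1 : s = s' := by
      have := him ⟨⟨s, hs⟩, σ⟩
      rw [h, him] at this
      exact this.symm
    subst e1
    congr 1
    ext i
    exact congrArg Fin.val ((s.orderEmbOfFin hs).injective (congrFun h i))
  symm
  trans ∑ q, (A.submatrix id (φ q)).det * ∏ i, (M.submatrix id t) (φ q i) i
  · rw [Fintype.sum_prod_type]
    refine Finset.sum_congr rfl fun s _ => ?_
    rw [Matrix.det_apply' (M.submatrix _ t), Finset.mul_sum]
    refine Finset.sum_congr rfl fun σ _ => ?_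
    have : A.submatrix id (φ (s, σ)) = (A.submatrix id (s.1.orderEmbOfFin s.2)).submatrix id σ := by
      ext i j; rfl
    rw [this, Matrix.det_permute']
    simp only [φ, Matrix.submatrix_apply, id]
    ring
  · refine Fintype.sum_of_injective φ hφ _ _ (fun p hp => ?_) (fun q => rfl)
    by_cases hinj : Function.Injective p
    · exfalso
      apply hp
      let s : {s : Finset (Fin r) // s.card = e} := ⟨univ.image p, by
        rw [Finset.card_image_of_injective _ hinj, Finset.card_univ, Fintype.card_fin]⟩
      let σ₀ : Fin e → Fin e := fun i =>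
        (s.1.orderIsoOfFin s.2).symm ⟨p i, Finset.mem_image_of_mem p (Finset.mem_univ i)⟩
      have hσ : Function.Injective σ₀ := fun i j h => hinj (congrArg Subtype.val ((s.1.orderIsoOfFin s.2).symm.injective h))
      refine ⟨(s, Equiv.ofBijective σ₀ (Finite.injective_iff_bijective.mp hσ)), ?_⟩
      funext i
      simp only [φ, Equiv.ofBijective_apply, σ₀]
      rw [← Finset.coe_orderIsoOfFin_apply, OrderIso.apply_symm_apply]
    · simp only [Function.Injective, not_forall] at hinj
      obtain ⟨i, j, hij, hne⟩ := hinj
      rw [Matrix.det_zero_of_column_eq hne (fun l => by simp [hij]), zero_mul]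


/-- Let R be a commutative ring, M an r × n matrix over R and e ≥ 0; for each e-element set L of row
indices let A_L be an e × r matrix over R, and form the square matrix, indexed by the e-element sets
of row indices, whose (L, L') entry is the e × e minor of A_L on the columns L'. If the determinant
of that square matrix is a unit, then the sum over L of the ideals generated by the e × e minors of
the products A_L · M is the ideal generated by all e × e minors of M. (In the source R is the
coordinate ring of an affine scheme X of codimension e cut out by f_1, …, f_r in affine n-space, M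
is the image of the Jacobian matrix of the f_j, the A_L have entries in the ground field and cut out
complete intersections Z_L = V(A_L · f), so that the two sides are Σ_L Jac(Z_L) and Jac(X); the
source states the equality for general A_L and establishes it under the present invertibility
condition, which it shows to be generic.) -/
theorem result {R : Type u} [CommRing R] (e r n : ℕ)
    (M : Matrix (Fin r) (Fin n) R)
    (A : {s : Finset (Fin r) // s.card = e} → Matrix (Fin e) (Fin r) R)
    (hA : IsUnit (Matrix.det (Matrix.of fun i j : {s : Finset (Fin r) // s.card = e} =>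
      ((A i).submatrix id (j.1.orderEmbOfFin j.2)).det))) :
    (⨆ i, Ideal.span (Set.range fun t : {s : Finset (Fin n) // s.card = e} =>
        ((A i * M).submatrix id (t.1.orderEmbOfFin t.2)).det)) =
      Ideal.span (Set.range fun p : {s : Finset (Fin r) // s.card = e} × {s : Finset (Fin n) // s.card = e} =>
        (M.submatrix (p.1.1.orderEmbOfFin p.1.2) (p.2.1.orderEmbOfFin p.2.2)).det) := by
  classical
  refine le_antisymm (iSup_le fun i => Ideal.span_le.mpr ?_) (Ideal.span_le.mpr ?_)
  · rintro _ ⟨t, rfl⟩
    rw [SetLike.mem_coe]
    beta_reduce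
    rw [cauchyBinet]
    exact Ideal.sum_mem _ fun s _ => Ideal.mul_mem_left _ _ (Ideal.subset_span ⟨(s, t), rfl⟩)
  · rintro _ ⟨⟨s, t⟩, rfl⟩
    let C : Matrix {s : Finset (Fin r) // s.card = e} {s : Finset (Fin r) // s.card = e} R :=
      Matrix.of fun i j => ((A i).submatrix id (j.1.orderEmbOfFin j.2)).det
    let v : {s : Finset (Fin r) // s.card = e} → R :=
      fun j => (M.submatrix (j.1.orderEmbOfFin j.2) (t.1.orderEmbOfFin t.2)).det
    have hv : v = C⁻¹.mulVec (C.mulVec v) := by
      rw [Matrix.mulVec_mulVec, Matrix.nonsing_inv_mul C hA, Matrix.one_mulVec]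
    rw [SetLike.mem_coe]
    change v s ∈ _
    rw [hv, Matrix.mulVec, dotProduct]
    refine Ideal.sum_mem _ fun i _ => Ideal.mul_mem_left _ _ ?_
    refine Ideal.mem_iSup_of_mem i (Ideal.subset_span ⟨t, ?_⟩)
    beta_reduce
    rw [cauchyBinet]
    rfl

end Groth.Agent.S17662
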