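import Groth.Statements.S17663
import Groth.Agent.SplitRibbon.Basic

set_option autoImplicit false
set_option backward.isDefEq.respectTransparency false
universe u
open CategoryTheory CategoryTheory.Limits AlgebraicGeometry
open Ribbon

namespace Groth.Agent.S17663

/-- Let D be a reduced connected scheme of finite type over a field k and 𝓛 an invertible O_D-module.
Then some split ribbon on D has conormal bundle 𝓛: there are a k-scheme C locally of finite type
together with a quasi-coherent ideal I ⊂ O_C with I² = 0, a k-isomorphism from the closed subscheme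
V(I) to D, a retraction C → V(I) over k of the inclusion, and an isomorphism of O_D-modules between
I (regarded as a module on V(I) ≅ D) and 𝓛. -/
theorem result (k : Type u) [Field k] (D : Scheme.{u}) [D.Over (Spec (CommRingCat.of k))]
    [LocallyOfFiniteType (D ↘ (Spec (CommRingCat.of k)))] [QuasiCompact (D ↘ (Spec (CommRingCat.of k)))]
    [AlgebraicGeometry.IsReduced D] [ConnectedSpace D]
    (𝓛 : D.Modules) (h𝓛 : PicF.IsInvertible 𝓛) :
    ∃ (C : Scheme.{u}) (sC : C ⟶ (Spec (CommRingCat.of k))) (I : C.IdealSheafData) (φ : I.subscheme ≅ D) (r : C ⟶ I.subscheme),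
      LocallyOfFiniteType sC ∧ I ^ 2 = ⊥ ∧ φ.hom ≫ (D ↘ (Spec (CommRingCat.of k))) = I.subschemeι ≫ sC ∧ I.subschemeι ≫ r = 𝟙 I.subscheme ∧
        r ≫ I.subschemeι ≫ sC = sC ∧
        Nonempty ((Scheme.Modules.pullback (φ.inv ≫ I.subschemeι)).obj (ClSub.idealMod I) ≅ 𝓛) := by
  obtain ⟨C, r, s, hfin, hs, hcl, hI2, ⟨e⟩⟩ := Groth.Agent.SplitRibbon.exists_split D 𝓛
    (TMul.isQCoh_of_isInvertible h𝓛) (TMul.isFT_of_isInvertible h𝓛)
  haveI := hfin
  haveI := hcl
  let φ : s.ker.subscheme ≅ D := (asIso s.toImage).symm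
  have hφ : s.ker.subschemeι ≫ r = φ.hom := by
    rw [← cancel_epi φ.inv, φ.inv_hom_id]
    exact (Category.assoc _ _ _).symm.trans (by rw [show φ.inv ≫ s.ker.subschemeι = s from s.toImage_imageι, hs])
  have h1 : s.ker.subschemeι ≫ (r ≫ φ.inv) = 𝟙 _ := by rw [← Category.assoc, hφ, φ.hom_inv_id]
  refine ⟨C, r ≫ (D ↘ (Spec (CommRingCat.of k))), s.ker, φ, r ≫ φ.inv, inferInstance, hI2, ?_, h1, ?_, ?_⟩
  · rw [← Category.assoc, hφ]
  · rw [Category.assoc, ← Category.assoc s.ker.subschemeι, hφ, Iso.inv_hom_id_assoc]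
  · exact ⟨(Scheme.Modules.pullbackCongr (show φ.inv ≫ s.ker.subschemeι = s from s.toImage_imageι)).app _ ≪≫ e⟩

end Groth.Agent.S17663
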