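import Groth.Statements.S17667
import Groth.Agent.ExpSeq.Seq
import Groth.Agent.EulerExpand.Kill
import Groth.Agent.EulerMult.Basic
import Groth.Agent.Castel.Surface
import Groth.Agent.QuotProj.Model
import Groth.Agent.QC.IdealMod
import Groth.Agent.PtBlow.LineSign
import Groth.Agent.FreeLite.Basic
import Groth.Agent.CIPicGlobal.Main
import Groth.Agent.PicPn.Main
import Groth.Agent.PicFam.Pn
import Groth.Agent.W7Cube.Pic

set_option backward.isDefEq.respectTransparency false
set_option backward.isDefEq.respectTransparency.types false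
set_option synthInstance.maxHeartbeats 400000
set_option maxHeartbeats 1600000
set_option linter.style.haveILetI false

set_option autoImplicit false
universe u
open CategoryTheory CategoryTheory.Limits AlgebraicGeometry
open Ribbon

namespace Groth.Agent.S17667

/-- Let C be a ribbon of arithmetic genus g on the projective line over a field k — a proper k-scheme
with a quasi-coherent ideal I ⊂ O_C, I² = 0, whose closed subscheme D is k-isomorphic to P^1 and
such that I, as an O_D-module, is isomorphic to O_{P^1}(-g-1) — and take the group law on Pic C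
given by the tensor product. Then H^1(C, I) = H^1(P^1, O(-g-1)) is a k-vector space of dimension g
and Pic C ≅ H^1(C, I) × ℤ as abelian groups, by an isomorphism whose ℤ-component on the class of an
invertible O_C-module L is the degree χ(L|_D) - χ(O_D) of the restriction of L to D. (Existence of
such an isomorphism; the source derives it from the units sequence 0 → I → O_C^× → O_D^× → 1. Stated
over an arbitrary field.) -/
theorem result (k : Type u) [Field k] (C : Scheme.{u}) [C.Over (Spec (CommRingCat.of k))]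
    [IsProper (C ↘ (Spec (CommRingCat.of k)))]
    (I : C.IdealSheafData) (hI : I ^ 2 = ⊥)
    (e : I.subscheme ≅ CohB1.ProjSpace 1 k)
    (he : e.hom ≫ CohB1.ProjSpace.toSpec 1 k = I.subschemeι ≫ (C ↘ (Spec (CommRingCat.of k))))
    (g : ℕ)
    (hconormal : Nonempty ((Scheme.Modules.pullback I.subschemeι).obj (ClSub.idealMod I) ≅
      (Scheme.Modules.pullback e.hom).obj (Twist.twistProjSpace 1 k (-((g : ℤ) + 1)))))
    [PicGrp.Law C] :
    Module.finrank k (Coh.HH C (ClSub.idealMod I) 1) = g ∧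
    ∃ φ : Additive (PicLoc.PicSet C) ≃+ Coh.HH C (ClSub.idealMod I) 1 × ℤ,
      ∀ (L : C.Modules) (hL : PicF.IsInvertible L),
        (φ (Additive.ofMul (PicGrp.cls L hL))).2 =
          @Curv2.deg k _ I.subscheme ⟨I.subschemeι ≫ (C ↘ (Spec (CommRingCat.of k)))⟩
            ((Scheme.Modules.pullback I.subschemeι).obj L) 1 := by
  classical
  obtain ⟨ec⟩ := hconormal
  haveI : IsNoetherian C := Groth.Agent.CurveRR.isNoetherian_of_proper k C
  let P₁ := CohB1.ProjSpace 1 k
  let D := I.subscheme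
  let ι : D ⟶ C := I.subschemeι
  let pC : C ⟶ Spec (CommRingCat.of k) := C ↘ Spec (CommRingCat.of k)
  letI : D.Over (Spec (CommRingCat.of k)) := ⟨ι ≫ pC⟩
  haveI : IsProper (D ↘ Spec (CommRingCat.of k)) := inferInstanceAs (IsProper (ι ≫ pC))
  haveI : IsProper (P₁ ↘ Spec (CommRingCat.of k)) := ProjMor.isProper_toSpec 1 k
  haveI : CompactSpace P₁ := QuasiCompact.compactSpace_of_compactSpace (P₁ ↘ Spec (CommRingCat.of k))
  haveI : P₁.IsSeparated := ⟨by
    rw [show terminal.from P₁ = (P₁ ↘ Spec (CommRingCat.of k)) ≫ terminal.from _ from terminal.hom_ext _ _]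
    infer_instance⟩
  have hI2 : I * I = ⊥ := by rwa [← pow_two]
  let T := Groth.Agent.ExpSeq.thickOfIdeal I hI2
  let T₀ : P₁.Modules := Twist.twistProjSpace 1 k (-((g : ℤ) + 1))
  have hT₀ : Coh.IsCoh T₀ := Groth.Agent.CurveRR.isCoh_of_inv (Groth.Agent.CIPicGlobal.isInvertible_twist (n := 1) (k := k) _)
  -- cohomology of the ideal
  let j : P₁ ⟶ C := e.inv ≫ ι
  have hj : j ≫ pC = (P₁ ↘ Spec (CommRingCat.of k)) := by
    show (e.inv ≫ I.subschemeι) ≫ pC = CohB1.ProjSpace.toSpec 1 k
    rw [Category.assoc, ← he, Iso.inv_hom_id_assoc]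
  have hjker : j.ker = I := by rw [Scheme.Hom.ker_comp_of_isIso, I.ker_subschemeι]
  have hkill : Groth.Agent.EulerExpand.Kills I (ClSub.idealMod I) := fun U a ha s => by
    refine (Groth.Agent.QC.mono_iff_app_injective (ClSub.idealModι I)).1 inferInstance U.1 ?_
    have hb := (Groth.Agent.QC.mem_range_idealModι_affine I U _).1 ⟨s, rfl⟩
    rw [Scheme.Modules.Hom.app_smul, map_zero]
    have hz : a * (show Γ(C, U.1) from (ClSub.idealModι I).app U.1 s) ∈ (I ^ 2).ideal U := by
      rw [Scheme.IdealSheafData.ideal_pow, Pi.pow_apply, pow_two]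
      exact Ideal.mul_mem_mul ha hb
    rw [hI, Scheme.IdealSheafData.ideal_bot] at hz
    exact hz
  haveI : IsIso ((Scheme.Modules.pullbackPushforwardAdjunction j).unit.app (ClSub.idealMod I)) :=
    (Groth.Agent.SupportLib.isIso_unit_iff j _).2 fun U a ha => hkill U a (by rwa [hjker] at ha)
  let jI : (Scheme.Modules.pullback j).obj (ClSub.idealMod I) ≅ T₀ :=
    ((Scheme.Modules.pullbackComp e.inv ι).app _).symm ≪≫ (Scheme.Modules.pullback e.inv).mapIso ec ≪≫
      (Scheme.Modules.pullbackComp e.inv e.hom).app _ ≪≫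
      (Scheme.Modules.pullbackCongr e.inv_hom_id).app _ ≪≫ (Scheme.Modules.pullbackId P₁).app _
  let uI : ClSub.idealMod I ≅ (Scheme.Modules.pushforward j).obj T₀ :=
    asIso ((Scheme.Modules.pullbackPushforwardAdjunction j).unit.app (ClSub.idealMod I)) ≪≫
      (Scheme.Modules.pushforward j).mapIso jI
  have hrank : Module.finrank k (Coh.HH C (ClSub.idealMod I) 1) = g := by
    haveI : T₀.IsQuasicoherent := hT₀.1
    obtain ⟨l⟩ := Groth.Agent.CohFinite.hh_push_linear k j hj T₀ (Groth.Agent.CohQC.directAcyclic_of_isAffineHom j T₀) 1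
    have h1 : Groth.Agent.CurveRR.h k (ClSub.idealMod I) 1 = Groth.Agent.CurveRR.h k T₀ 1 :=
      (Groth.Agent.CurveRR.h_eq_of_iso uI 1).trans l.finrank_eq.symm
    have h2 : Groth.Agent.CurveRR.h k T₀ 0 = 0 := by
      haveI := Groth.Agent.ProjCech.twist_vanish (R := k) 1 (-((g : ℤ) + 1)) 0 (by omega) (by omega)
      exact Module.finrank_zero_of_subsingleton
    have h3 := Groth.Agent.Castel.euler_twist_line k (-((g : ℤ) + 1))
    rw [Groth.Agent.CurveRR.euler_eq (Groth.Agent.S10829.result k 1).le, h2] at h3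
    show Groth.Agent.CurveRR.h k (ClSub.idealMod I) 1 = g
    rw [h1]
    have h4 : ((Groth.Agent.CurveRR.h k T₀ 1 : ℕ) : ℤ) = g := by
      simp only [T₀, Nat.cast_zero] at h3 ⊢
      linarith
    exact_mod_cast h4
  refine ⟨hrank, ?_⟩
  -- the Picard group of the line
  letI : PicGrp.Law D := Groth.Agent.W7Cube.law D
  let F := Scheme.Modules.pullback e.hom
  have hinv : ∀ a : ℤ, PicF.IsInvertible (F.obj (Twist.twistProjSpace 1 k a)) := fun a =>
    PicLoc.isInvertible_pullback e.hom (Groth.Agent.CIPicGlobal.isInvertible_twist (n := 1) (k := k) a)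
  let τ : ℤ →+ Additive (PicLoc.PicSet D) := AddMonoidHom.mk' (fun a => Additive.ofMul (PicGrp.cls _ (hinv a)))
    (fun a b => by
      obtain ⟨t⟩ := Groth.Agent.PtBlow.Line.tensor_twist (k := k) a b (a + b) rfl
      obtain ⟨pt⟩ := TMul.nonempty_pullTensorIso e.hom (Twist.twistProjSpace 1 k a) (Twist.twistProjSpace 1 k b)
      refine Additive.toMul.injective (Subtype.ext ?_)
      show PicF.cl _ = (PicGrp.cls _ (hinv a) * PicGrp.cls _ (hinv b)).1
      rw [PicGrp.cls_mul_cls_val]
      exact (PicGrp.cl_eq_cl_iff _ _).2 ⟨F.mapIso t.symm ≪≫ pt.symm⟩)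
  have hdeg : ∀ a : ℤ, Curv2.deg k D (F.obj (Twist.twistProjSpace 1 k a)) 1 = a := fun a => by
    have hpull : ∀ (M : P₁.Modules), PicF.IsInvertible M →
        Curv2.euler k D (F.obj M) = Curv2.euler k P₁ M := fun M hM =>
      Groth.Agent.QuotProj.euler_pullback_iso e he _ (Groth.Agent.CurveRR.isCoh_of_inv hM).1
    have h0 : Curv2.euler k D (Coh.structureModule D) = Curv2.euler k P₁ (Coh.structureModule P₁) := by
      rw [← hpull _ (PicLoc.isInvertible_structureModule P₁)]
      exact Groth.Agent.CurveRR.euler_eq_of_iso (Groth.Agent.FreeLite.pullUnitIso e.hom).symm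
    rw [Curv2.deg, h0, hpull _ (Groth.Agent.CIPicGlobal.isInvertible_twist (n := 1) (k := k) a)]
    exact Groth.Agent.Castel.deg_twist_line k a
  have degIso : ∀ {M N : D.Modules}, (M ≅ N) → Curv2.deg k D M 1 = Curv2.deg k D N 1 := fun i => by
    rw [Curv2.deg, Curv2.deg, Groth.Agent.CurveRR.euler_eq_of_iso i]
  have τdeg : ∀ (a : ℤ) (M : D.Modules) (hM : PicF.IsInvertible M),
      τ a = Additive.ofMul (PicGrp.cls M hM) → Curv2.deg k D M 1 = a := fun a M hM h => by
    obtain ⟨i⟩ := (PicGrp.cls_eq_cls_iff (hinv a) hM).1 (Additive.ofMul.injective h)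
    exact (degIso i.symm).trans (hdeg a)
  have τbij : Function.Bijective τ := by
    constructor
    · intro a b h
      rw [← hdeg b]
      exact (τdeg a _ (hinv b) h).symm
    · intro c
      obtain ⟨M, hM, hc⟩ := PicGrp.exists_eq_cls c.toMul
      obtain ⟨a, ⟨i⟩⟩ := Groth.Agent.PicPn.exists_iso_any (k := k) (n := 1) _ (PicLoc.isInvertible_pullback e.inv hM)
      refine ⟨a, Additive.toMul.injective ?_⟩
      rw [hc]
      exact (PicGrp.cls_eq_cls_iff (hinv a) hM).2 ⟨F.mapIso i.symm ≪≫ (Scheme.Modules.pullbackComp e.hom e.inv).app M ≪≫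
        (Scheme.Modules.pullbackCongr e.hom_inv_id).app M ≪≫ (Scheme.Modules.pullbackId D).app M⟩
  let Ψ : ℤ ≃+ Additive (PicLoc.PicSet D) := AddEquiv.ofBijective τ τbij
  -- the exact sequence
  have hm : PicGrp.PullMul ι := Groth.Agent.W7Cube.pullMul ι
  obtain ⟨ε, δ₀, α, δ₁, -, -, hδ₀, hα, hP, hδ₁⟩ := T.exists_exact hm
  have hunit : Function.Surjective (Units.map ι.appTop.hom.toMonoidHom) := by
    intro v
    have hsurj : Function.Surjective ι.appTop.hom := fun x => by
      obtain ⟨y, hy⟩ := (Groth.Agent.PicFam.bijective_toSpec 1 k).2 (e.inv.appTop x)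
      refine ⟨pC.appTop ((Scheme.ΓSpecIso (CommRingCat.of k)).inv y), ?_⟩
      have h1 : e.inv.appTop (ι.appTop (pC.appTop ((Scheme.ΓSpecIso (CommRingCat.of k)).inv y))) = e.inv.appTop x := by
        rw [← CommRingCat.comp_apply, ← CommRingCat.comp_apply, ← Scheme.Hom.comp_appTop, ← Scheme.Hom.comp_appTop]
        rw [show (e.inv ≫ ι) ≫ pC = CohB1.ProjSpace.toSpec 1 k from hj]
        exact hy
      exact (ConcreteCategory.bijective_of_isIso e.inv.appTop).1 h1
    obtain ⟨a, ha⟩ := hsurj v.1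
    obtain ⟨b, hb⟩ := hsurj v⁻¹.1
    have hu : IsUnit a := T.isUnit_of_app (U := ⊤) ⟨b, by
      show ι.appTop (a * b) = 1
      rw [map_mul, ha, hb, Units.mul_inv]⟩
    exact ⟨hu.unit, Units.ext ha⟩
  have hα0 : Function.Injective α := by
    rw [← MonoidHom.ker_eq_bot_iff, hα, eq_bot_iff]
    rintro _ ⟨v, rfl⟩
    exact MonoidHom.mem_ker.1 (hδ₀ ▸ hunit v)
  haveI hH2 : Subsingleton (CohTop.H (Coh.toAb (ClSub.idealMod I)) 2) := by
    refine Groth.Agent.CurveRR.subsingleton_of_two_le (k := k) ?_ (ClSub.idealMod I) 2 le_rfl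
    rw [← IsHomeomorph.topologicalKrullDim_eq _ (Groth.Agent.ExpSeq.isHomeomorph_subschemeι hI2),
      IsHomeomorph.topologicalKrullDim_eq _ e.hom.homeomorph.isHomeomorph]
    exact (Groth.Agent.S10829.result k 1).le
  have hsurjP : Function.Surjective (PicGrp.pullHom ι hm) := fun c => by
    have : c ∈ δ₁.ker := MonoidHom.mem_ker.2 (Subsingleton.elim (α := CohTop.H (Coh.toAb (ClSub.idealMod I)) 2) _ _)
    rw [hδ₁] at this
    exact this
  let q : Additive (PicLoc.PicSet C) →+ ℤ :=
    Ψ.symm.toAddMonoidHom.comp (MonoidHom.toAdditive (PicGrp.pullHom ι hm))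
  let a : CohTop.H (Coh.toAb (ClSub.idealMod I)) 1 →+ Additive (PicLoc.PicSet C) :=
    AddMonoidHom.mk' (fun x => Additive.ofMul (α (Multiplicative.ofAdd x))) (fun x y => map_mul α _ _)
  have hainj : Function.Injective a := fun x y h => Multiplicative.ofAdd.injective (hα0 (Additive.ofMul.injective h))
  have hqsurj : Function.Surjective q := fun n => by
    obtain ⟨c, hc⟩ := hsurjP (Ψ n).toMul
    exact ⟨Additive.ofMul c, Ψ.symm_apply_eq.2 (Additive.toMul.injective hc)⟩
  have hker : ∀ c, q c = 0 ↔ ∃ x, a x = c := fun c => by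
    rw [show q c = Ψ.symm (Additive.ofMul (PicGrp.pullHom ι hm c.toMul)) from rfl, AddEquiv.map_eq_zero_iff,
      ofMul_eq_zero, ← MonoidHom.mem_ker, hP, MonoidHom.mem_range]
    exact ⟨fun ⟨x, hx⟩ => ⟨x.toAdd, congrArg Additive.ofMul hx⟩, fun ⟨x, hx⟩ => ⟨_, Additive.ofMul.injective hx⟩⟩
  obtain ⟨c₁, hc₁⟩ := hqsurj 1
  have hqs : ∀ n : ℤ, q (n • c₁) = n := fun n => by rw [map_zsmul, hc₁, smul_eq_mul, mul_one]
  let ψ : CohTop.H (Coh.toAb (ClSub.idealMod I)) 1 × ℤ →+ Additive (PicLoc.PicSet C) :=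
    AddMonoidHom.coprod a (zmultiplesHom _ c₁)
  have hqψ : ∀ x, q (ψ x) = x.2 := fun x => by
    show q (a x.1 + x.2 • c₁) = x.2
    rw [map_add, hqs, (hker _).2 ⟨x.1, rfl⟩, zero_add]
  have hψ : Function.Bijective ψ := by
    constructor
    · intro x y h
      have h2 : x.2 = y.2 := by rw [← hqψ x, ← hqψ y, h]
      refine Prod.ext (hainj ?_) h2
      have h3 : a x.1 + x.2 • c₁ = a y.1 + y.2 • c₁ := h
      rwa [h2, add_left_inj] at h3
    · intro c
      obtain ⟨x, hx⟩ := (hker (c - q c • c₁)).1 (by rw [map_sub, hqs, sub_self])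
      exact ⟨(x, q c), by show a x + q c • c₁ = c; rw [hx, sub_add_cancel]⟩
  let E := AddEquiv.ofBijective ψ hψ
  refine ⟨E.symm, fun L hL => ?_⟩
  have h1 : (E.symm (Additive.ofMul (PicGrp.cls L hL))).2 = q (Additive.ofMul (PicGrp.cls L hL)) := by
    conv_rhs => rw [← E.apply_symm_apply (Additive.ofMul (PicGrp.cls L hL))]
    exact (hqψ _).symm
  refine h1.trans (τdeg _ _ (PicLoc.isInvertible_pullback ι hL) ?_).symm
  refine (Ψ.apply_symm_apply _).trans ?_
  exact congrArg Additive.ofMul (PicGrp.pullHom_cls ι hm L hL)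

end Groth.Agent.S17667
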