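import Groth.Statements.S17675
import Groth.Agent.BivarOps.GraphDecomp
import Groth.Agent.BivarOps.PushHom
-- import your own Groth.Agent.* helpers here

set_option autoImplicit false
set_option backward.isDefEq.respectTransparency false
set_option backward.isDefEq.respectTransparency.types false
universe u
open CategoryTheory CategoryTheory.Limits AlgebraicGeometry
open Bivar

namespace Groth.Agent.S17675

/-- Together with the observation preceding it: let k be a field, X proper over k, Y locally of finite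
type over k, P = X ×_k Y with its projections q₁, q₂, and let X, Y, P carry the dimension functions
induced from the base point (dimension of the closure of a point). Let f : Y → X be a k-morphism
with graph γ : Y → P, let c be an operational class of degree p on X (an element of the operational
Chow group A^p(X): compatible operations on the Chow groups of all schemes locally of finite type
over X, not a cycle class), and let z be an m-cycle on Y. Suppose that in the Chow group CH_m(P) the
class of the pushforward γ_* z is a finite combination Σ_i n_i [u_i × v_i] of classes of exterior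
products, u_i an a_i-cycle on X and v_i an (m − a_i)-cycle on Y; here the exterior product u × v is
the m-cycle on P whose coefficient at a point z over (x, y) with dim z = dim x + dim y is u(x) v(y)
times the length of O_{P,z}/(m_x, m_y), and 0 at other points. Let β_i be any (a_i − p)-cycle on X
whose class is c ∩ [u_i]. Then c ∩ [z], with c acting on Y through f, is the class in CH_{m−p}(Y) of
the cycle Σ_i n_i deg(β_i) v_i; the degree of β_i is zero unless a_i = p. (The published statement
takes k algebraically closed, X complete with finitely many orbits of a connected solvable group, Y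
= X, f the identity and γ the diagonal, and decomposes the push-forward along the diagonal of the
class of an invariant subvariety into products of classes of invariant subvarieties; in the printed
argument f is any morphism, any such decomposition is allowed, and k only needs to be a field. The
printed schemes are separated and of finite type over k; here Y may be any scheme locally of finite
type over k, a wider class of test schemes.) -/
theorem result
    {k : Type u} [Field k] {X Y P : Scheme.{u}}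
    (pX : X ⟶ Spec (.of k)) (pY : Y ⟶ Spec (.of k)) [IsProper pX] [LocallyOfFiniteType pY]
    (q₁ : P ⟶ X) (q₂ : P ⟶ Y) (hP : IsPullback q₁ q₂ pX pY)
    (δX : X → ℤ) (δY : Y → ℤ) (δP : P → ℤ)
    (hX : Cyc.IsSetup X δX) (hY : Cyc.IsSetup Y δY) (hPδ : Cyc.IsSetup P δP)
    (hδX : Cyc.DeltaCompat pX δX (fun _ => 0)) (hδY : Cyc.DeltaCompat pY δY (fun _ => 0))
    (hδP : Cyc.DeltaCompat q₁ δP δX)
    (f : Y ⟶ X) (hf : f ≫ pX = pY) (hfl : LocallyOfFiniteType f) (hfδ : Cyc.DeltaCompat f δY δX)
    (γ : Y ⟶ P) [IsClosedImmersion γ] (hγ₁ : γ ≫ q₁ = f) (hγ₂ : γ ≫ q₂ = 𝟙 Y)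
    {p m : ℤ} (c : Bivar.OpCl p X δX) (z : AlgebraicCycle Y ℤ) (hz : z ∈ Cyc.Zk Y δY m)
    {ι : Type} [Fintype ι] (n : ι → ℤ) (a : ι → ℤ)
    (u : ι → AlgebraicCycle X ℤ) (hu : ∀ i, u i ∈ Cyc.Zk X δX (a i))
    (v : ι → AlgebraicCycle Y ℤ) (hv : ∀ i, v i ∈ Cyc.Zk Y δY (m - a i))
    (ζ : ι → AlgebraicCycle P ℤ) (hζm : ∀ i, ζ i ∈ Cyc.Zk P δP m)
    (hζ : ∀ (i : ι) (t : P), ζ i t =
          if δP t = δX (q₁ t) + δY (q₂ t) then
            u i (q₁ t) * v i (q₂ t) *
              ((Module.length (P.presheaf.stalk t) (P.presheaf.stalk t ⧸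
                (Ideal.map (q₁.stalkMap t).hom (IsLocalRing.maximalIdeal (X.presheaf.stalk (q₁ t))) ⊔
                  Ideal.map (q₂.stalkMap t).hom (IsLocalRing.maximalIdeal (Y.presheaf.stalk (q₂ t)))))).toNat : ℤ)
          else 0)
    (hdec : ChowOps.cl (AlgebraicCycle.map γ δY δP z) (Bivar.cycMap_mem_Zk γ δY δP m hz) =
      ∑ i, n i • ChowOps.cl (ζ i) (hζm i))
    (β : ι → AlgebraicCycle X ℤ) (hβ : ∀ i, β i ∈ Cyc.Zk X δX (a i - p))
    (hcβ : ∀ i, c.cap (a i) (ChowOps.cl (u i) (hu i)) = ChowOps.cl (β i) (hβ i))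
    (H : (∑ i, (n i * ChowOps.deg pX δX (β i)) • v i) ∈ Cyc.Zk Y δY (m - p)) :
    c.op ⟨Y, f, hfl, δY, hfδ⟩ m (ChowOps.cl z hz) =
      ChowOps.cl (∑ i, (n i * ChowOps.deg pX δX (β i)) • v i) H := by
  haveI := hfl
  haveI : LocallyOfFiniteType q₁ := MorphismProperty.of_isPullback hP.flip ‹LocallyOfFiniteType pY›
  let C : BivarOps.KProd pX δX := ⟨Y, P, pY, q₁, q₂, ‹_›, hP, δY, δP, hδY, hδP, hY, hPδ⟩
  haveI : IsProper q₂ := C.proper₂
  have cq : Cyc.DeltaCompat q₂ δP δY := C.compat₂ hδX
  have cγ : Cyc.DeltaCompat γ δY δP := BivarOps.deltaCompat_of_comp hγ₁ hδP hfδ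
  let sY : Bivar.OSq X δX := ⟨Y, f, hfl, δY, hfδ⟩
  let ψ := (BivarOps.pushHom hPδ hY q₂ cq (m - p)).comp (c.op C.oP m)
  have h1 : ψ (ChowOps.cl (AlgebraicCycle.map γ δY δP z) (Bivar.cycMap_mem_Zk γ δY δP m hz)) =
      c.op sY m (ChowOps.cl z hz) := by
    obtain ⟨B, hB, e0, e1⟩ := c.push C.oP sY γ hγ₁ m z hz
    rw [e0]
    show BivarOps.pushHom hPδ hY q₂ cq (m - p) (c.op C.oP m _) = _
    rw [e1]
    refine BivarOps.pushHom_cl hPδ hY q₂ cq _ _ B hB (CycPB.RZ.zero.eq (funext fun y => (sub_eq_zero.2 ?_).symm))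
    refine (congrFun (BivarOps.pushF_pushF hY hPδ hY γ q₂ cγ cq B hB) y).trans ?_
    refine (congrFun (BivarOps.pushF_hom_eq hγ₂ δY δY ⇑B) y).trans ?_
    exact CycPB.pushF_closed (𝟙 Y) δY ⇑B y
  have hD : ∀ i, (ChowOps.deg pX δX (β i)) • v i ∈ Cyc.Zk Y δY (m - p) := fun i => by
    obtain ⟨A, hA, hAk⟩ := BivarOps.cy_deg_smul (l := m - a i) pX hX (CycPB.Cy.mk (hβ i)) (CycPB.Cy.mk (hv i))
    rw [show a i + (m - a i) - p = m - p by ring] at hAk
    have : A = (ChowOps.deg pX δX (β i)) • v i := DFunLike.ext' (hA.trans (funext fun y => (smul_eq_mul _ _).symm))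
    exact this ▸ hAk
  have h2 : ∀ i, ψ (ChowOps.cl (ζ i) (hζm i)) = ChowOps.cl _ (hD i) := fun i => by
    obtain ⟨B, hB, e⟩ := Bivar.exists_rep (c.op C.oP m (ChowOps.cl (ζ i) (hζm i)))
    show BivarOps.pushHom hPδ hY q₂ cq (m - p) (c.op C.oP m _) = _
    rw [← e]
    refine BivarOps.pushHom_cl hPδ hY q₂ cq _ _ _ _ ?_
    have hb : BivarOps.ORel c C.oP (a i + (m - a i)) (C.ext ⇑(u i) ⇑(v i)) ⇑B := by
      rw [show a i + (m - a i) = m by ring]
      exact ⟨ζ i, hζm i, B, hB, funext (hζ i), rfl, e.symm⟩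
    have h := BivarOps.cap_ext hX hδX c (u i) (β i) (hu i) (hβ i)
      (BivarOps.ORel.of_cl (q := Bivar.OSq.self X δX) (hcβ i)) C (v i) (hv i) hb
    rw [show a i + (m - a i) - p = m - p by ring] at h
    exact h
  show c.op sY m (ChowOps.cl z hz) = _
  rw [← h1, hdec, map_sum]
  simp only [map_zsmul, h2]
  refine (?_ : _ = ChowOps.clHom Y δY (m - p) ⟨_, H⟩)
  have e : (⟨_, H⟩ : ↥(ChowOps.zk Y δY (m - p))) = ∑ i, n i • ⟨_, hD i⟩ := Subtype.ext (by
    simp only [AddSubgroup.val_finsetSum, AddSubgroupClass.coe_zsmul, mul_smul])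
  rw [e, map_sum]
  simp only [map_zsmul]
  rfl

end Groth.Agent.S17675
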