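import Groth.Statements.S17677
import Mathlib

set_option autoImplicit false
universe u
open Hoch
open scoped TensorProduct

namespace Groth.Agent.S17677

section
open scoped TensorProduct

variable (k : Type u) [CommRing k] (M : Type u) [AddCommMonoid M]

/-- The coefficient at zero. -/
noncomputable def coef0 : AddMonoidAlgebra k M →ₗ[k] k :=
  Finsupp.lapply 0 ∘ₗ (AddMonoidAlgebra.coeffLinearEquiv k).toLinearMap

lemma redComul_coef (a : AddMonoidAlgebra k M) :
    ((TensorProduct.rid k _).toLinearMap ∘ₗ (coef0 k M).lTensor (AddMonoidAlgebra k M))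
      (Hoch.redComul k (AddMonoidAlgebra k M) a) = -a := by
  induction a using AddMonoidAlgebra.induction_linear with
  | zero => simp
  | add x y hx hy => rw [map_add, map_add, hx, hy, neg_add]
  | single m r =>
    by_cases hm : m = 0
    · subst hm
      simp [Hoch.redComul_apply, coef0, AddMonoidAlgebra.comul_single, AddMonoidAlgebra.one_def,
        AddMonoidAlgebra.smul_single]
    · simp [Hoch.redComul_apply, coef0, AddMonoidAlgebra.comul_single, AddMonoidAlgebra.one_def,
        AddMonoidAlgebra.smul_single, hm]

end

/-- Let k be a commutative ring, M a commutative monoid and V a right comodule over the monoid bialgebra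
k[M] (a quasi-coherent module with an action of the diagonalizable monoid scheme Spec k[M]). Then
every 1-cocycle of the Hochschild complex of V is a 1-coboundary, i.e. the first Hochschild
cohomology module of the diagonalizable monoid with coefficients in V is zero. (The source works
over an algebraic space with M finitely generated and cancellative, hypotheses it uses only to
identify modules under the monoid with comodules; the cocycle computation, which is the affine
statement given here, uses neither.) -/
theorem result (k : Type u) [CommRing k] (M : Type u)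
    [AddCommMonoid M] (V : Type u) [AddCommGroup V] [Module k V]
    [HopfRep.Comod k (AddMonoidAlgebra k M) V] :
    Hoch.cocycles k (AddMonoidAlgebra k M) V 1 ≤ Hoch.coboundaries k (AddMonoidAlgebra k M) V 1 := by
  intro c hc
  let E : AddMonoidAlgebra k M →ₗ[k] k := coef0 k M
  let Φ : ∀ (W : Type u) [AddCommGroup W] [Module k W], W ⊗[k] AddMonoidAlgebra k M →ₗ[k] W := fun W _ _ ↦
    (TensorProduct.rid k W).toLinearMap ∘ₗ E.lTensor W
  have h := congrArg (Φ (V ⊗[k] AddMonoidAlgebra k M)) (LinearMap.mem_ker.mp hc)
  rw [map_zero] at h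
  refine ⟨-(Φ V c), ?_⟩
  rw [map_neg, neg_eq_iff_add_eq_zero, ← h]
  have key : Φ (V ⊗[k] AddMonoidAlgebra k M) ∘ₗ Hoch.d k (AddMonoidAlgebra k M) V 1 =
      Hoch.d k (AddMonoidAlgebra k M) V 0 ∘ₗ Φ V + LinearMap.id := by
    rw [Hoch.d_succ]
    refine TensorProduct.ext' fun v a ↦ ?_
    have hE : ((TensorProduct.rid k _).toLinearMap ∘ₗ E.lTensor (AddMonoidAlgebra k M))
        (Hoch.redComul k (AddMonoidAlgebra k M) a) = -a := redComul_coef k M a
    have hnat : ∀ z : AddMonoidAlgebra k M ⊗[k] AddMonoidAlgebra k M,
        Φ (V ⊗[k] AddMonoidAlgebra k M) ((TensorProduct.assoc k V _ _).symm (v ⊗ₜ z)) =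
          v ⊗ₜ (((TensorProduct.rid k _).toLinearMap ∘ₗ E.lTensor (AddMonoidAlgebra k M)) z) := fun z ↦ by
      induction z with
      | zero => simp
      | tmul x y => simp [Φ, TensorProduct.tmul_smul]
      | add x y hx hy => simp only [TensorProduct.tmul_add, map_add, hx, hy]
    have h1 : Φ (V ⊗[k] AddMonoidAlgebra k M) (Hoch.tail k (AddMonoidAlgebra k M) V (v ⊗ₜ a)) = -(v ⊗ₜ a) := by
      rw [Hoch.tail_tmul, hnat, ← Hoch.redComul_apply, hE, TensorProduct.tmul_neg]
    simp only [LinearMap.comp_apply, LinearMap.add_apply, LinearMap.id_apply, zero_add, pow_one,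
      LinearMap.rTensor_tmul, map_add]
    erw [LinearMap.smul_apply, map_smul, h1]
    simp [Φ]
  exact (LinearMap.congr_fun key c).symm

end Groth.Agent.S17677
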