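import Groth.Statements.S17679
import Mathlib

set_option autoImplicit false
open DiagMon

namespace Groth.Agent.S17679

/-- For n ≥ 1 the minimal number of generators of ℤ^n as an additive monoid is n + 1: some n + 1
elements generate ℤ^n as a monoid, and every finite set generating ℤ^n as a monoid has at least n +
1 elements. (For n = 0 the empty set generates the zero monoid, so the count n + 1 is stated for n ≥
1 only.) -/
theorem result (n : ℕ) (hn : 1 ≤ n) :
    (∃ s : Finset (Fin n → ℤ), s.card = n + 1 ∧ AddSubmonoid.closure (s : Set (Fin n → ℤ)) = ⊤) ∧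
    ∀ s : Finset (Fin n → ℤ), AddSubmonoid.closure (s : Set (Fin n → ℤ)) = ⊤ → n + 1 ≤ s.card := by
  classical
  let v : Fin (n + 1) → (Fin n → ℤ) := Fin.snoc (fun i => Pi.single i 1) (fun _ => -1)
  have hv : Function.Injective v := by
    rw [Fin.snoc_injective_iff]
    refine ⟨fun i j h => ?_, ?_⟩
    · by_contra hne
      have := congrFun h i
      simp [hne] at this
    · rintro ⟨i, h⟩
      have := congrFun h i
      simp at this
  refine ⟨⟨Finset.univ.image v, by rw [Finset.card_image_of_injective _ hv]; simp, ?_⟩, fun s hs => ?_⟩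
  · rw [eq_top_iff]
    intro x _
    have hm : ∀ i, v i ∈ AddSubmonoid.closure ((Finset.univ.image v : Finset _) : Set (Fin n → ℤ)) :=
      fun i => AddSubmonoid.subset_closure (Finset.mem_image_of_mem _ (Finset.mem_univ i))
    let m : ℕ := ∑ i, (x i).natAbs
    have hx : x = (∑ i : Fin n, (x i + m).toNat • v i.castSucc) + m • v (Fin.last n) := by
      ext j
      have hj : ((x j).natAbs : ℤ) ≤ m := by
        exact_mod_cast Finset.single_le_sum (f := fun i => (x i).natAbs) (fun _ _ => Nat.zero_le _) (Finset.mem_univ j)
      have h0 : 0 ≤ x j + m := by omega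
      simp [v, Finset.sum_apply, Pi.single_apply, max_eq_left h0]
    rw [hx]
    exact add_mem (sum_mem fun i _ => nsmul_mem (hm _) _) (nsmul_mem (hm _) _)
  · by_contra hlt
    have hspan : Submodule.span ℤ (s : Set (Fin n → ℤ)) = ⊤ := by
      rw [eq_top_iff]
      intro x _
      exact (AddSubmonoid.closure_le (S := (Submodule.span ℤ (s : Set (Fin n → ℤ))).toAddSubmonoid)).2
        Submodule.subset_span (hs ▸ AddSubmonoid.mem_top x)
    have hr := finrank_span_le_card (R := ℤ) (s : Set (Fin n → ℤ))
    rw [hspan, finrank_top, Module.finrank_fin_fun, Finset.toFinset_coe] at hr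
    have hcard : Fintype.card (s : Set (Fin n → ℤ)) = Module.finrank ℤ (Fin n → ℤ) := by
      simp only [Module.finrank_fin_fun, SetLike.coe_sort_coe, Fintype.card_coe]; omega
    have hli : LinearIndependent ℤ (fun y : ↥(s : Set (Fin n → ℤ)) => (y : Fin n → ℤ)) :=
      linearIndependent_of_top_le_span_of_card_eq_finrank (by rw [Subtype.range_coe]; exact hspan.ge) hcard
    let b := Module.Basis.mk hli (by rw [Subtype.range_coe]; exact hspan.ge)
    have hpos : ∀ x ∈ AddSubmonoid.closure (s : Set (Fin n → ℤ)), ∀ i, 0 ≤ b.repr x i := by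
      intro x hx
      induction hx using AddSubmonoid.closure_induction with
      | mem y hy =>
        intro i
        rw [show y = b ⟨y, hy⟩ by simp [b], Module.Basis.repr_self, Finsupp.single_apply]
        split <;> simp
      | zero => simp
      | add y z _ _ hy hz => intro i; rw [map_add, Finsupp.add_apply]; exact add_nonneg (hy i) (hz i)
    obtain ⟨y, hy⟩ : s.Nonempty := Finset.card_pos.1 (by omega)
    have := hpos (-(b ⟨y, hy⟩)) (hs ▸ AddSubmonoid.mem_top _) ⟨y, hy⟩
    rw [map_neg, Finsupp.neg_apply, Module.Basis.repr_self, Finsupp.single_eq_same] at this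
    omega

end Groth.Agent.S17679
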