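import Groth.Statements.S17681
import Groth.Agent.GrpField.Fibres
import Groth.Agent.GrpAct.Basic
import Mathlib.AlgebraicGeometry.Morphisms.Etale

set_option autoImplicit false
universe u
open CategoryTheory MonoidalCategory CartesianMonoidalCategory MonObj GrpObj AlgebraicGeometry
open AlgGrp

namespace Groth.Agent.S17681

/-- Let S be a scheme, G a flat S-group scheme of finite presentation with connected fibres, X and Y
S-schemes locally of finite presentation with actions of G, and f : X → Y an étale G-equivariant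
S-morphism; assume that S is locally Noetherian or that X and Y are quasi-separated over S. Then f
reflects fixed points: a T-point x of X whose image in Y is fixed by G after every base change T' →
T is itself fixed by G after every base change, so that the fixed-point subfunctor of X is the
preimage of that of Y. (The source allows X and Y to be algebraic spaces over S; this row is the
case of schemes.) -/
theorem result (S : Scheme.{u})
    (G : Over S) [GrpObj G] [Flat G.hom] [LocallyOfFinitePresentation G.hom] [QuasiCompact G.hom]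
    [QuasiSeparated G.hom] (hconn : ∀ s : S, ConnectedSpace (G.hom.fiber s))
    (X Y : Over S) [LocallyOfFinitePresentation X.hom] [LocallyOfFinitePresentation Y.hom]
    (hS : IsLocallyNoetherian S ∨ (QuasiSeparated X.hom ∧ QuasiSeparated Y.hom))
    (a : AlgGrp.Action G X) (b : AlgGrp.Action G Y) (f : X ⟶ Y) [Etale f.left]
    (hf : a.act ≫ f = (G ◁ f) ≫ b.act) (T : Over S) (x : T ⟶ X)
    (hx : ∀ (T' : Over S) (t : T' ⟶ T) (g : T' ⟶ G), lift g (t ≫ x ≫ f) ≫ b.act = t ≫ x ≫ f)
    (T' : Over S) (t : T' ⟶ T) (g : T' ⟶ G) : lift g (t ≫ x) ≫ a.act = t ≫ x := by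

  haveI : GeometricallyIrreducible G.hom :=
    Groth.Agent.GrpField.geometricallyIrreducible_of_connected_fibres G fun s => by
      haveI := hconn s
      rw [← G.hom.range_fiberι s, ← Set.image_univ]
      exact isConnected_univ.image _ (G.hom.fiberι s).continuous.continuousOn
  let P := G ⊗ T'
  let y : T' ⟶ X := t ≫ x
  obtain ⟨u₁, hu₁⟩ : ∃ u : P ⟶ X, u = lift (fst G T') (snd G T' ≫ y) ≫ a.act := ⟨_, rfl⟩
  obtain ⟨v₁, hv₁⟩ : ∃ u : P ⟶ X, u = snd G T' ≫ y := ⟨_, rfl⟩
  have huv : u₁ ≫ f = v₁ ≫ f := by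
    rw [hu₁, hv₁, Category.assoc, hf, ← Category.assoc, lift_whiskerLeft]
    have := hx P (snd G T' ≫ t) (fst G T')
    simpa [y, Category.assoc] using this
  haveI : FormallyUnramified f.left := inferInstance
  haveI : LocallyOfFiniteType f.left := inferInstance
  let d : P.left ⟶ Limits.pullback f.left f.left := Limits.pullback.lift u₁.left v₁.left (by
    rw [← Over.comp_left, ← Over.comp_left, huv])
  let E := Limits.pullback d (Limits.pullback.diagonal f.left)
  let e : E ⟶ P.left := Limits.pullback.fst _ _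
  haveI : IsOpenImmersion e := inferInstanceAs (IsOpenImmersion (Limits.pullback.fst d (Limits.pullback.diagonal f.left)))
  have he : e ≫ u₁.left = e ≫ v₁.left := by
    have h := Limits.pullback.condition (f := d) (g := Limits.pullback.diagonal f.left)
    have h1 := congrArg (· ≫ Limits.pullback.fst f.left f.left) h
    have h2 := congrArg (· ≫ Limits.pullback.snd f.left f.left) h
    simp only [Category.assoc, d, Limits.pullback.lift_fst, Limits.pullback.lift_snd,
      Limits.pullback.diagonal_fst, Limits.pullback.diagonal_snd, Category.comp_id] at h1 h2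
    exact h1.trans h2.symm
  have hmem : ∀ {W : Over S} (c : W ⟶ P), (∀ w, c.left w ∈ Set.range e) → c ≫ u₁ = c ≫ v₁ := by
    intro W c hc
    refine Over.OverMorphism.ext ?_
    rw [Over.comp_left, Over.comp_left, ← IsOpenImmersion.lift_fac e c.left (Set.range_subset_iff.2 hc),
      Category.assoc, Category.assoc, he]
  have hmem' : ∀ {W : Over S} (c : W ⟶ P), c ≫ u₁ = c ≫ v₁ → ∀ w, c.left w ∈ Set.range e := by
    intro W c hc w
    have hd : c.left ≫ d = (c ≫ u₁).left ≫ Limits.pullback.diagonal f.left := by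
      apply Limits.pullback.hom_ext
      · simp only [Category.assoc, d, Limits.pullback.diagonal_fst, Category.comp_id]
        erw [Limits.pullback.lift_fst]
        rw [Over.comp_left]
      · simp only [Category.assoc, d, Limits.pullback.lift_snd, Limits.pullback.diagonal_snd, Category.comp_id]
        rw [← Over.comp_left, hc]
    exact ⟨Limits.pullback.lift c.left (c ≫ u₁).left hd w, by
      rw [← Scheme.Hom.comp_apply, Limits.pullback.lift_fst]⟩
  have hpt : ∀ {W : Over S} (h : W ⟶ G) (τ : W ⟶ T'),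
      (lift h τ ≫ u₁ = lift h τ ≫ v₁ ↔ lift h (τ ≫ y) ≫ a.act = τ ≫ y) := by
    intro W h τ
    rw [hu₁, hv₁, lift_snd_assoc, ← Category.assoc, comp_lift, lift_fst, lift_snd_assoc]
  have hall : ∀ p : P.left, p ∈ Set.range e := by
    intro p
    let W : Over S := Over.mk (P.left.fromSpecResidueField p ≫ P.hom)
    let π : W ⟶ P := Over.homMk (P.left.fromSpecResidueField p)
    let γ : W ⟶ G := π ≫ fst G T'
    let τ : W ⟶ T' := π ≫ snd G T'
    haveI : IrreducibleSpace (G ⊗ W).left :=
      GeometricallyIrreducible.geometrically_irreducibleSpace (f := G.hom)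
        (P.left.fromSpecResidueField p ≫ P.hom) _ _ (IsPullback.of_hasPullback G.hom W.hom)
    let q₁ : G ⊗ W ⟶ P := lift (fst G W) (snd G W ≫ τ)
    let i : G ⊗ W ≅ G ⊗ W := Groth.Agent.GrpField.trI γ
    let q₂ : G ⊗ W ⟶ P := i.hom ≫ q₁
    have hone : ∀ w, (lift (1 : W ⟶ G) τ).left w ∈ Set.range e :=
      hmem' _ ((hpt 1 τ).2 (Groth.Agent.GrpAct.one_smul' a _))
    let w₀ : W.left := IsLocalRing.closedPoint (P.left.residueField p)
    have hne₁ : ((q₁.left ⁻¹' Set.range e) : Set (G ⊗ W).left).Nonempty := by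
      refine ⟨(lift (1 : W ⟶ G) (𝟙 W)).left w₀, ?_⟩
      rw [Set.mem_preimage, ← Scheme.Hom.comp_apply, ← Over.comp_left]
      simpa [q₁] using hone w₀
    have hne₂ : ((q₂.left ⁻¹' Set.range e) : Set (G ⊗ W).left).Nonempty := by
      obtain ⟨z, hz⟩ := hne₁
      refine ⟨i.inv.left z, ?_⟩
      rwa [Set.mem_preimage, ← Scheme.Hom.comp_apply, ← Over.comp_left, Iso.inv_hom_id_assoc]
    have ho : IsOpen (Set.range e) := e.isOpenEmbedding.isOpen_range
    obtain ⟨z, hz₁, hz₂⟩ := nonempty_preirreducible_inter (ho.preimage q₁.left.continuous)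
      (ho.preimage q₂.left.continuous) hne₁ hne₂
    let W₂ : Over S := Over.mk ((G ⊗ W).left.fromSpecResidueField z ≫ (G ⊗ W).hom)
    let c : W₂ ⟶ G ⊗ W := Over.homMk ((G ⊗ W).left.fromSpecResidueField z)
    have hcz : ∀ w, c.left w = z := fun w => Scheme.fromSpecResidueField_apply z w
    let h₁ : W₂ ⟶ G := c ≫ fst G W
    let h₂ : W₂ ⟶ G := c ≫ i.hom ≫ fst G W
    let σ : W₂ ⟶ W := c ≫ snd G W
    have hγ : h₁ * h₂ = σ ≫ γ := by
      simp [h₁, h₂, σ, i, Groth.Agent.GrpField.trI, MonObj.comp_mul, GrpObj.comp_inv]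
    have hc₁ : c ≫ q₁ = lift h₁ (σ ≫ τ) := by simp [q₁, h₁, σ]
    have hc₂ : c ≫ q₂ = lift h₂ (σ ≫ τ) := by
      apply CartesianMonoidalCategory.hom_ext <;>
        simp [q₂, q₁, h₂, σ, i, Groth.Agent.GrpField.trI]
    have e₁ := (hpt h₁ (σ ≫ τ)).1 (by
      rw [← hc₁]
      refine hmem _ fun w => ?_
      rw [Over.comp_left, Scheme.Hom.comp_apply, hcz]
      exact hz₁)
    have e₂ := (hpt h₂ (σ ≫ τ)).1 (by
      rw [← hc₂]
      refine hmem _ fun w => ?_
      rw [Over.comp_left, Scheme.Hom.comp_apply, hcz]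
      exact hz₂)
    have e₃ : lift (σ ≫ γ) ((σ ≫ τ) ≫ y) ≫ a.act = (σ ≫ τ) ≫ y := by
      rw [← hγ, Groth.Agent.GrpAct.mul_smul, e₂, e₁]
    have e₄ : lift (σ ≫ γ) (σ ≫ τ) = σ ≫ π := by
      apply CartesianMonoidalCategory.hom_ext <;> simp [γ, τ]
    have h5 := hmem' (σ ≫ π) (e₄ ▸ (hpt (σ ≫ γ) (σ ≫ τ)).2 e₃)
    obtain ⟨w₂⟩ : Nonempty W₂.left := inferInstanceAs (Nonempty (PrimeSpectrum _))
    have h6 := h5 w₂
    rw [Over.comp_left, Scheme.Hom.comp_apply] at h6
    rwa [show π.left (σ.left w₂) = p from Scheme.fromSpecResidueField_apply p _] at h6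
  have hfin := hmem (lift g (𝟙 T')) (fun w => hall _)
  have := (hpt g (𝟙 T')).1 hfin
  simpa [y] using this


end Groth.Agent.S17681
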