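import Groth.Statements.S17682
import Mathlib.RingTheory.GradedAlgebra.Basic
import Mathlib.Algebra.DirectSum.Algebra
-- import your own Groth.Agent.* helpers here

set_option autoImplicit false
set_option linter.style.haveILetI false
set_option linter.unusedSimpArgs false
universe u v w u'
open DiagMon

namespace Groth.Agent.S17682

/-- Let R be a commutative ring, A a commutative R-algebra graded by a commutative monoid M, N a
submonoid of M and R' a commutative R-algebra. For every R-algebra homomorphism F : A → R' vanishing
on the homogeneous elements of degree outside N there is a unique R-algebra homomorphism f : A →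
R'[M] which is graded (a homogeneous element of degree m goes to a multiple of X^m), vanishes on
homogeneous elements of degree outside N, and composes with the augmentation X^m ↦ 1 to F. In the
dictionary where an M-grading of A is an action of the diagonalizable monoid scheme Spec R[M] on
Spec A and graded maps A → R'[M] supported on N are equivariant maps from the monoid scheme of N
over R', this says that the attractor of Spec A for the magnet N is represented by the closed
subscheme of Spec A defined by the homogeneous elements of degree outside N. -/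
theorem result (R : Type u) [CommRing R]
    (A : Type v) [CommRing A] [Algebra R A] (M : Type w) [AddCommMonoid M] [DecidableEq M]
    (𝒜 : M → Submodule R A) [GradedAlgebra 𝒜] (N : AddSubmonoid M) (R' : Type u') [CommRing R']
    [Algebra R R'] (F : A →ₐ[R] R') (hF : ∀ m, m ∉ N → ∀ a ∈ 𝒜 m, F a = 0) :
    ∃! f : A →ₐ[R] AddMonoidAlgebra R' M,
      (∀ m, ∀ a ∈ 𝒜 m, f a =
          AddMonoidAlgebra.single m (Bialgebra.counitAlgHom R' (AddMonoidAlgebra R' M) (f a))) ∧
      (∀ m, m ∉ N → ∀ a ∈ 𝒜 m, f a = 0) ∧
      ∀ a, Bialgebra.counitAlgHom R' (AddMonoidAlgebra R' M) (f a) = F a := by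
  classical
  let g : ∀ i, ↥(𝒜 i) →ₗ[R] AddMonoidAlgebra R' M := fun i =>
    { toFun := fun a => AddMonoidAlgebra.single i (F a.1)
      map_add' := fun x y => by rw [Submodule.coe_add, map_add, AddMonoidAlgebra.single_add]
      map_smul' := fun c x => by
        rw [RingHom.id_apply, Submodule.coe_smul, map_smul, AddMonoidAlgebra.smul_single] }
  let f : A →ₐ[R] AddMonoidAlgebra R' M :=
    (DirectSum.toAlgebra R (fun i => ↥(𝒜 i)) g
      (by
        change AddMonoidAlgebra.single (0 : M) (F (1 : A)) = 1
        rw [map_one, AddMonoidAlgebra.one_def])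
      (fun {i j} ai aj => by
        change AddMonoidAlgebra.single (i + j) (F (ai.1 * aj.1)) = _
        rw [map_mul]
        exact (AddMonoidAlgebra.single_mul_single i j _ _).symm)).comp
      (DirectSum.decomposeAlgEquiv 𝒜).toAlgHom
  have hf : ∀ m, ∀ a ∈ 𝒜 m, f a = AddMonoidAlgebra.single m (F a) := by
    intro m a ha
    simp only [f, AlgHom.comp_apply]
    change DFunLike.coe _ (DirectSum.decompose 𝒜 a) = _
    rw [DirectSum.decompose_of_mem 𝒜 ha]
    exact DirectSum.toAddMonoid_of (fun i => (g i).toAddMonoidHom) m ⟨a, ha⟩
  have hc : ∀ (m : M) (r : R'), Bialgebra.counitAlgHom R' (AddMonoidAlgebra R' M)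
      (AddMonoidAlgebra.single m r) = r := by
    intro m r
    change Coalgebra.counit (AddMonoidAlgebra.single m r) = r
    rw [AddMonoidAlgebra.counit_single]
    rfl
  refine ⟨f, ⟨fun m a ha => by rw [hf m a ha, hc], fun m hm a ha => by
    rw [hf m a ha, hF m hm a ha, AddMonoidAlgebra.single_zero], fun a => ?_⟩, ?_⟩
  · induction a using DirectSum.Decomposition.inductionOn 𝒜 with
    | zero => rw [map_zero, map_zero, map_zero]
    | homogeneous a => rw [hf _ _ a.2, hc]
    | add a b ha hb => rw [map_add, map_add, map_add, ha, hb]
  · rintro f' ⟨h1, -, h3⟩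
    refine AlgHom.ext fun a => ?_
    induction a using DirectSum.Decomposition.inductionOn 𝒜 with
    | zero => rw [map_zero, map_zero]
    | homogeneous a => rw [h1 _ _ a.2, h3, hf _ _ a.2]
    | add a b ha hb => rw [map_add, map_add, ha, hb]

end Groth.Agent.S17682
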