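import Groth.Statements.S17683
import Mathlib

set_option autoImplicit false
universe u
open DiagMon

namespace Groth.Agent.S17683

/-- Let N be a commutative monoid and F a submonoid of N. The additive projection ℤ[N] → ℤ[F] of monoid
algebras keeping the monomials with exponent in F and killing the others is multiplicative, i.e. F
is a face of N, if and only if for all x, y in N the sum x + y lies in F exactly when both x and y
do. -/
theorem result {N : Type u} [AddCommMonoid N] (F : AddSubmonoid N) :
    (∀ a b : AddMonoidAlgebra ℤ N,
        AddMonoidAlgebra.comapDomain ((↑) : F → N) Subtype.val_injective (a * b) =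
          AddMonoidAlgebra.comapDomain ((↑) : F → N) Subtype.val_injective a *
            AddMonoidAlgebra.comapDomain ((↑) : F → N) Subtype.val_injective b) ↔
      ∀ x y : N, x + y ∈ F ↔ (x ∈ F ∧ y ∈ F) := by
  classical
  have hz : ∀ (x : N) (r : ℤ), x ∉ F → AddMonoidAlgebra.comapDomain ((↑) : F → N) Subtype.val_injective (AddMonoidAlgebra.single x r) = 0 := by
    intro x r hx
    ext m
    simp only [AddMonoidAlgebra.coeff_comapDomain, Finsupp.comapDomain_apply, AddMonoidAlgebra.coeff_single]
    rw [Finsupp.single_apply, if_neg (fun h : x = m.1 ↦ hx (h ▸ m.2))]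
    rfl
  have hs : ∀ (x : F) (r : ℤ), AddMonoidAlgebra.comapDomain ((↑) : F → N) Subtype.val_injective (AddMonoidAlgebra.single (x : N) r) = AddMonoidAlgebra.single x r :=
    fun x r ↦ AddMonoidAlgebra.comapDomain_single_map _ _ _ _
  constructor
  · intro h x y
    refine ⟨fun hxy ↦ ?_, fun hh ↦ add_mem hh.1 hh.2⟩
    by_contra hc
    have := h (AddMonoidAlgebra.single x 1) (AddMonoidAlgebra.single y 1)
    rw [AddMonoidAlgebra.single_mul_single, one_mul] at this
    have h1 := hs ⟨x + y, hxy⟩ 1
    rw [this] at h1
    rcases not_and_or.mp hc with hx | hy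
    · rw [hz x 1 hx, zero_mul, eq_comm, AddMonoidAlgebra.single_eq_zero] at h1
      exact one_ne_zero h1
    · rw [hz y 1 hy, mul_zero, eq_comm, AddMonoidAlgebra.single_eq_zero] at h1
      exact one_ne_zero h1
  · intro h a b
    induction a using AddMonoidAlgebra.induction_linear with
    | zero => simp
    | add a a' ha ha' => simp [add_mul, ha, ha']
    | single x r =>
      induction b using AddMonoidAlgebra.induction_linear with
      | zero => simp
      | add b b' hb hb' => simp [mul_add, hb, hb']
      | single y s =>
        rw [AddMonoidAlgebra.single_mul_single]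
        by_cases hx : x ∈ F
        · by_cases hy : y ∈ F
          · have e1 := hs ⟨x, hx⟩ r
            have e2 := hs ⟨y, hy⟩ s
            have e3 := hs (⟨x, hx⟩ + ⟨y, hy⟩) (r * s)
            rw [AddSubmonoid.coe_add] at e3
            rw [e3, e1, e2, AddMonoidAlgebra.single_mul_single]
          · rw [hz y s hy, mul_zero, hz _ _ (fun hxy ↦ hy ((h x y).mp hxy).2)]
        · rw [hz x r hx, zero_mul, hz _ _ (fun hxy ↦ hx ((h x y).mp hxy).1)]

end Groth.Agent.S17683
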