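import Groth.Statements.S17684
import Mathlib

set_option autoImplicit false
universe u
open DiagMon

namespace Groth.Agent.S17684

/-- Let N ⊆ L ⊆ L' be submonoids of a commutative monoid M and suppose L is a face of L', that is, for
x, y in L' the sum x + y lies in L exactly when x and y do. Then the set difference of L' by the
difference of L and N is the underlying set of a submonoid N' of M containing N, and N is a face of
N'. (The published statement also identifies the monoid scheme of N' over any base with a push-out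
of schemes; that clause is not stated here.) -/
theorem result (M : Type u) [AddCommMonoid M] (N L L' : AddSubmonoid M)
    (hNL : N ≤ L) (hLL' : L ≤ L') (hface : ∀ x ∈ L', ∀ y ∈ L', x + y ∈ L ↔ (x ∈ L ∧ y ∈ L)) :
    ∃ N' : AddSubmonoid M, (N' : Set M) = (L' : Set M) \ ((L : Set M) \ (N : Set M)) ∧ N ≤ N' ∧
      ∀ x ∈ N', ∀ y ∈ N', x + y ∈ N ↔ (x ∈ N ∧ y ∈ N) := by
  have mem : ∀ z, z ∈ (L' : Set M) \ ((L : Set M) \ (N : Set M)) ↔ z ∈ L' ∧ (z ∈ L → z ∈ N) := by
    intro z; simp [Set.mem_diff]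
  refine ⟨{ carrier := (L' : Set M) \ ((L : Set M) \ (N : Set M)), zero_mem' := ?_, add_mem' := ?_ },
    rfl, ?_, ?_⟩
  · intro x y hx hy
    rw [mem] at hx hy ⊢
    refine ⟨add_mem hx.1 hy.1, fun h => ?_⟩
    obtain ⟨h1, h2⟩ := (hface x hx.1 y hy.1).mp h
    exact add_mem (hx.2 h1) (hy.2 h2)
  · rw [mem]; exact ⟨zero_mem _, fun _ => zero_mem _⟩
  · intro x hx
    show x ∈ (L' : Set M) \ _
    rw [mem]; exact ⟨hLL' (hNL hx), fun _ => hx⟩
  · intro x hx y hy
    replace hx := (mem x).mp hx
    replace hy := (mem y).mp hy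
    refine ⟨fun h => ?_, fun h => add_mem h.1 h.2⟩
    obtain ⟨h1, h2⟩ := (hface x hx.1 y hy.1).mp (hNL h)
    exact ⟨hx.2 h1, hy.2 h2⟩

end Groth.Agent.S17684
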