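import Groth.Statements.S17685
import Groth.Agent.ClosedRep.Over
import Groth.Agent.ClosedRep.FinLocFree

set_option autoImplicit false
universe u
open CategoryTheory MonoidalCategory CartesianMonoidalCategory MonObj GrpObj AlgebraicGeometry
open AlgGrp

namespace Groth.Agent.S17685

/-- Let S be a scheme, F an S-scheme that is finite locally free over S (finite, flat and locally of
finite presentation) with a section e of F over S which is a surjective closed immersion (an
infinitesimal pointed S-scheme), and X an S-scheme with an action of the pointed scheme F, i.e. an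
S-morphism F ×_S X → X through which e acts as the identity. Then the subfunctor of F-fixed points
of X, whose T-points are the T-points x of X with g · x_{T'} = x_{T'} for every S-scheme T' over T
and every T'-point g of F, is represented by a closed subscheme of X. (The source allows F and X to
be algebraic spaces over S; this row is the case of schemes.) -/
theorem result (S : Scheme.{u})
    (F X : Over S) (e : 𝟙_ (Over S) ⟶ F) (act : F ⊗ X ⟶ X) (he : (e ▷ X) ≫ act = (λ_ X).hom)
    [IsFinite F.hom] [Flat F.hom] [LocallyOfFinitePresentation F.hom]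
    [IsClosedImmersion e.left] [Surjective e.left] :
    ∃ (Z : Scheme.{u}) (i : Z ⟶ X.left), IsClosedImmersion i ∧
      ∀ (T : Over S) (x : T ⟶ X), (∃ y : T.left ⟶ Z, y ≫ i = x.left) ↔
        ∀ (T' : Over S) (t : T' ⟶ T) (g : T' ⟶ F), lift g (t ≫ x) ≫ act = t ≫ x := by
  let jj := (Limits.equalizer.ι act (snd F X)).left
  have hpre : IsPreimmersion jj := by
    have h : IsPullback (Limits.equalizer.ι act (snd F X))
        (Limits.equalizer.ι act (snd F X) ≫ act) (lift act (snd F X)) (lift (𝟙 X) (𝟙 X)) :=
      ⟨⟨by ext <;> simp [← Limits.equalizer.condition]⟩, ⟨Limits.PullbackCone.IsLimit.mk _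
        (fun s ↦ Limits.equalizer.lift s.fst (by
          have h1 := congr($(s.condition) ≫ fst X X)
          have h2 := congr($(s.condition) ≫ snd X X)
          simp at h1 h2
          rw [h1, h2]))
        (fun s ↦ Limits.equalizer.lift_ι _ _)
        (fun s ↦ by
          have h1 := congr($(s.condition) ≫ fst X X)
          simp at h1
          rw [Limits.equalizer.lift_ι_assoc, h1])
        (fun s m hm _ ↦ Limits.equalizer.hom_ext (hm.trans (Limits.equalizer.lift_ι _ _).symm))⟩⟩
    have : IsPreimmersion (Limits.pullback.diagonal X.hom) := inferInstance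
    exact MorphismProperty.of_isPullback (h.map (Over.forget _)).flip
      (show IsPreimmersion (lift (𝟙 X) (𝟙 X)).left from this)
  have hsurj : Surjective jj := by
    have he' : (e ▷ X) ≫ act = (e ▷ X) ≫ snd F X := by
      rw [he, whiskerRight_snd]; rfl
    let l := Limits.equalizer.lift (e ▷ X) he'
    have : Surjective (e ▷ X).left := by
      refine ⟨Set.range_eq_univ.mp ?_⟩
      rw [Over.whiskerRight_left, Scheme.Pullback.range_map,
        Set.range_eq_univ.mpr e.left.surjective, Set.range_eq_univ.mpr (Scheme.Hom.surjective (𝟙 X.left))]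
      simp
    rw [← Limits.equalizer.lift_ι (e ▷ X) he', Over.comp_left] at this
    exact Surjective.of_comp l.left jj
  have : IsClosedImmersion jj :=
    IsClosedImmersion.of_isPreimmersion jj (by rw [Set.range_eq_univ.mpr jj.surjective]; exact isClosed_univ)
  have : IsClosedImmersion (Limits.equalizer.ι act (snd F X)).left := this
  obtain ⟨Z, i, hi, hZ⟩ := Groth.Agent.ClosedRep.exists_closed_eqLocus act (snd F X)
    (Groth.Agent.ClosedRep.isLocFree_of_finLocFree F.hom)
  refine ⟨Z.left, i.left, hi, fun T x ↦ ?_⟩
  have h1 : (∀ (T' : Over S) (t : T' ⟶ T) (g : T' ⟶ F), lift g (t ≫ x) ≫ act = t ≫ x) ↔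
      ∃ z, z ≫ i = x := by
    rw [hZ, Groth.Agent.ClosedRep.forall_lift_iff]
    simp only [lift_snd]
  rw [h1]
  constructor
  · rintro ⟨y, hy⟩
    exact ⟨Over.homMk y (by rw [← Over.w i, reassoc_of% hy, Over.w x]), Over.OverMorphism.ext hy⟩
  · rintro ⟨z, rfl⟩
    exact ⟨z.left, rfl⟩

end Groth.Agent.S17685
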