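import Groth.Statements.S17687
import Mathlib

set_option autoImplicit false
universe u v w
open DiagMon

namespace Groth.Agent.S17687

/-- Let R be a commutative ring and A a commutative R-algebra of finite type graded by a commutative
monoid M. Then the set of ideals J_N, N running over all submonoids of M, where J_N is generated by
the homogeneous elements of degree not in N (the ideal of the attractor of Spec A for the magnet N),
is finite: Spec A has finitely many attractors and hence finitely many pure magnets. (The source
assumes Spec A of finite presentation over the base; its proof uses only a finite set of homogeneous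
algebra generators, so finite type is assumed here.) -/
theorem result (R : Type u) [CommRing R] (A : Type v) [CommRing A]
    [Algebra R A] [Algebra.FiniteType R A] (M : Type w) [AddCommMonoid M] [DecidableEq M]
    (𝒜 : M → Submodule R A) [GradedAlgebra 𝒜] :
    (Set.range fun N : AddSubmonoid M => Ideal.span {a : A | ∃ m : M, m ∉ N ∧ a ∈ 𝒜 m}).Finite := by
  classical
  obtain ⟨s, hs⟩ := (inferInstance : Algebra.FiniteType R A).out
  let G : Finset (M × A) := s.biUnion fun a ↦ (DFinsupp.support (DirectSum.decompose 𝒜 a)).image
    fun m ↦ (m, (DirectSum.decompose 𝒜 a m : A))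
  let val : G → A := fun q ↦ q.1.2
  let deg : G → M := fun q ↦ q.1.1
  have hmem : ∀ q : G, val q ∈ 𝒜 (deg q) := fun q ↦ by
    obtain ⟨a, -, hq⟩ := Finset.mem_biUnion.mp q.2
    obtain ⟨m, -, hm⟩ := Finset.mem_image.mp hq
    show q.1.2 ∈ 𝒜 q.1.1
    rw [← hm]; exact (DirectSum.decompose 𝒜 a m).2
  have hgen : Algebra.adjoin R (Set.range val) = ⊤ := by
    rw [eq_top_iff, ← hs, Algebra.adjoin_le_iff]
    intro a ha
    show a ∈ Algebra.adjoin R (Set.range val)
    rw [← DirectSum.sum_support_decompose 𝒜 a]
    refine Subalgebra.sum_mem _ fun m hm ↦ Algebra.subset_adjoin ⟨⟨(m, _), ?_⟩, rfl⟩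
    exact Finset.mem_biUnion.mpr ⟨a, ha, Finset.mem_image.mpr ⟨m, hm, rfl⟩⟩
  have key : ∀ N : AddSubmonoid M, Ideal.span {a : A | ∃ m : M, m ∉ N ∧ a ∈ 𝒜 m} =
      Ideal.span (val '' {q | deg q ∉ N}) := by
    intro N
    refine le_antisymm (Ideal.span_le.mpr ?_) (Ideal.span_mono ?_)
    · rintro a ⟨m, hm, ha⟩
      have : ∀ x : A, ∀ m, m ∉ N → (DirectSum.decompose 𝒜 x m : A) ∈ Ideal.span (val '' {q | deg q ∉ N}) := by
        intro x
        have hx : x ∈ Subalgebra.toSubmodule (Algebra.adjoin R (Set.range val)) := by rw [hgen]; trivial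
        rw [Algebra.adjoin_eq_span] at hx
        induction hx using Submodule.span_induction with
        | mem y hy =>
          intro m hm
          obtain ⟨i, hyi, hyI⟩ : ∃ i, y ∈ 𝒜 i ∧ (i ∉ N → y ∈ Ideal.span (val '' {q | deg q ∉ N})) := by
            induction hy using Submonoid.closure_induction with
            | mem z hz =>
              obtain ⟨q, rfl⟩ := hz
              exact ⟨deg q, hmem q, fun h ↦ Ideal.subset_span ⟨q, h, rfl⟩⟩
            | one => exact ⟨0, SetLike.GradedOne.one_mem, fun h ↦ (h N.zero_mem).elim⟩
            | mul y z _ _ hy hz =>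
              obtain ⟨i, hi, hi'⟩ := hy
              obtain ⟨j, hj, hj'⟩ := hz
              refine ⟨i + j, SetLike.GradedMul.mul_mem hi hj, fun h ↦ ?_⟩
              by_cases hiN : i ∈ N
              · exact Ideal.mul_mem_left _ _ (hj' fun hjN ↦ h (N.add_mem hiN hjN))
              · exact Ideal.mul_mem_right _ _ (hi' hiN)
          by_cases hmi : m = i
          · subst hmi
            rw [DirectSum.decompose_of_mem_same 𝒜 hyi]
            exact hyI hm
          · rw [DirectSum.decompose_of_mem_ne 𝒜 hyi (Ne.symm hmi)]
            exact Ideal.zero_mem _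
        | zero => intro m _; simp
        | add y z _ _ hy hz =>
          intro m hm
          rw [DirectSum.decompose_add, DirectSum.add_apply, AddMemClass.coe_add]
          exact Ideal.add_mem _ (hy m hm) (hz m hm)
        | smul c y _ hy =>
          intro m hm
          have e : (DirectSum.decompose 𝒜 (c • y) m : A) = c • (DirectSum.decompose 𝒜 y m : A) := by
            rw [← DirectSum.decomposeLinearEquiv_apply, map_smul]; rfl
          rw [e, Algebra.smul_def]
          exact Ideal.mul_mem_left _ _ (hy m hm)
      have h2 := this a m hm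
      rwa [DirectSum.decompose_of_mem_same 𝒜 ha] at h2
    · rintro _ ⟨q, hq, rfl⟩
      exact ⟨deg q, hq, hmem q⟩
  refine (Set.finite_range fun t : Finset G ↦ Ideal.span (val '' (t : Set G))).subset ?_
  rintro _ ⟨N, rfl⟩
  refine ⟨Finset.univ.filter fun q ↦ deg q ∉ N, ?_⟩
  show Ideal.span _ = Ideal.span _
  rw [key N]; simp

end Groth.Agent.S17687
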