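import Groth.Statements.S17688
import Groth.Agent.GrpField.AffImage
-- import your own Groth.Agent.* helpers here

set_option autoImplicit false
set_option backward.isDefEq.respectTransparency false
set_option backward.isDefEq.respectTransparency.types false
universe u
open CategoryTheory CategoryTheory.Limits AlgebraicGeometry MonObj
open Neron

namespace Groth.Agent.S17688

/-- Let R be a discrete valuation ring whose fraction field K has characteristic p > 0, and let U be a
flat, separated, commutative group scheme over Spec R whose generic fibre U_K is annihilated by a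
power p^N of p (in the group of endomorphisms of U_K as a K-scheme, the p^N-th power of the identity
is the unit). Then for every prime ℓ invertible in R the ℓ-th power map of U (the ℓ-th power of the
identity in the group of R-morphisms U → U) is an isomorphism. -/
theorem result
    (R : Type u) [CommRing R] [IsDomain R] [IsDiscreteValuationRing R]
    (p : ℕ) (hp : p.Prime) [CharP (FractionRing R) p]
    (U : Over (Spec (CommRingCat.of R))) [GrpObj U] [IsCommMonObj U] [Flat U.hom] [IsSeparated U.hom]
    (N : ℕ) (hN : (𝟙 (Red.bc (Neron.genPt R) U) : Red.bc (Neron.genPt R) U ⟶ Red.bc (Neron.genPt R) U) ^ (p ^ N) = 1)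
    (ℓ : ℕ) (hℓ : ℓ.Prime) (hℓu : IsUnit (ℓ : R)) :
    IsIso ((𝟙 U : U ⟶ U) ^ ℓ) := by
  let j := Neron.genPt R
  haveI : IsDominant j :=
    ⟨(PrimeSpectrum.denseRange_comap_iff_ker_le_nilRadical _).2 (by rw [CommRingCat.hom_ofHom, (RingHom.injective_iff_ker_eq_bot _).1 (IsFractionRing.injective R (FractionRing R))]; exact bot_le)⟩
  haveI : IsSchemeTheoreticallyDominant j := IsSchemeTheoreticallyDominant.of_isDominant j
  haveI : IsSchemeTheoreticallyDominant (pullback.fst U.hom j) := inferInstance
  haveI : U.left.IsSeparated := Scheme.IsSeparated.mk (by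
    rw [← terminal.comp_from U.hom]; infer_instance)
  have hmap : ∀ n : ℕ, (Over.pullback j).map ((𝟙 U : U ⟶ U) ^ n) = (𝟙 (Red.bc j U) : Red.bc j U ⟶ _) ^ n := by
    intro n
    induction n with
    | zero => rw [pow_zero, pow_zero]; exact Functor.map_one _
    | succ m hm => rw [pow_succ, pow_succ, Functor.map_mul, hm, CategoryTheory.Functor.map_id]
  have hpow : (𝟙 U : U ⟶ U) ^ (p ^ N) = 1 := by
    apply Over.OverMorphism.ext
    refine Groth.Agent.GrpField.AffImage.ext_of_schDom (pullback.fst U.hom j) (Scheme.Hom.ker_eq_bot _) _ _ ?_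
    have h1 : (Over.pullback j).map ((𝟙 U : U ⟶ U) ^ (p ^ N)) = (Over.pullback j).map (1 : U ⟶ U) := by
      rw [hmap, Functor.map_one]; exact hN
    have h2 := congrArg (fun t => t.left ≫ pullback.fst U.hom j) h1
    simp only [Over.pullback_map_left, pullback.lift_fst] at h2
    exact h2
  have hcop : Nat.Coprime ℓ (p ^ N) := by
    refine Nat.Coprime.pow_right N ((Nat.coprime_primes hℓ hp).2 ?_)
    rintro rfl
    have h0 : (ℓ : R) = 0 := IsFractionRing.injective R (FractionRing R) (by
      rw [map_natCast, map_zero, CharP.cast_eq_zero])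
    exact not_isUnit_zero (h0 ▸ hℓu)
  have key : ∀ x : U ⟶ U, x ^ (p ^ N) = 1 → ∀ m, m % (p ^ N) = 1 % (p ^ N) → x ^ m = x := by
    intro x hx m hm
    rw [pow_eq_pow_mod m hx, hm, ← pow_eq_pow_mod 1 hx, pow_one]
  obtain ⟨a, -, ha'⟩ := Nat.exists_mul_mod_eq_of_coprime 1 hcop (pow_pos hp.pos N).ne'
  refine ⟨(𝟙 U : U ⟶ U) ^ a, ?_, ?_⟩
  · rw [MonObj.comp_pow, Category.comp_id, ← pow_mul]
    exact key _ hpow _ (by first | exact ha' | (rw [Nat.mul_comm]; exact ha'))
  · rw [MonObj.comp_pow, Category.comp_id, ← pow_mul, Nat.mul_comm]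
    exact key _ hpow _ (by first | exact ha' | (rw [Nat.mul_comm]; exact ha'))

end Groth.Agent.S17688
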