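import Groth.Statements.S17689
import Groth.Agent.EtaPt.UnivHomeo
import Mathlib.AlgebraicGeometry.Pullbacks
import Mathlib.RingTheory.Kaehler.Basic

set_option autoImplicit false
universe u
open CategoryTheory AlgebraicGeometry
open Neron

open Groth.Agent CategoryTheory AlgebraicGeometry
open scoped TensorProduct
set_option backward.isDefEq.respectTransparency false
namespace Groth.Agent.S17689

/-- Let R ⊆ S be a finite extension of discrete valuation rings (the structure map R → S is injective
and S is a finite R-module) such that the induced extension K ⊆ L of fraction fields is purely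
inseparable. Then the morphism Spec S → Spec R is a universal homeomorphism: every base change of it
is a homeomorphism on underlying spaces. (No excellence hypothesis is needed here.) -/
theorem result
    (R S K L : Type u) [CommRing R] [IsDomain R] [IsDiscreteValuationRing R]
    [CommRing S] [IsDomain S] [IsDiscreteValuationRing S] [Algebra R S] [Module.Finite R S] [FaithfulSMul R S]
    [Field K] [Field L] [Algebra R K] [IsFractionRing R K] [Algebra S L] [IsFractionRing S L]
    [Algebra K L] [Algebra R L] [IsScalarTower R S L] [IsScalarTower R K L] [IsPurelyInseparable K L] :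
    FlatMor.IsUnivHomeo (Spec.map (CommRingCat.ofHom (algebraMap R S))) := by
  classical
  obtain ⟨q, hq⟩ := ExpChar.exists K
  haveI := hq
  haveI : ExpChar R q := RingHom.expChar _ (IsFractionRing.injective R K) q
  let T := S ⊗[R] S
  let μ : T →ₐ[R] S := Algebra.TensorProduct.lmul' R
  haveI : ExpChar T q := expChar_of_injective_ringHom (f := algebraMap R T) (fun a b h => by
    have := congrArg μ h
    rw [μ.commutes, μ.commutes] at this
    exact FaithfulSMul.algebraMap_injective R S this) q
  have hpow : ∀ x : S, ∃ (n : ℕ) (r : R), algebraMap R S r = x ^ q ^ n := fun x => by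
    obtain ⟨n, k, hk⟩ := IsPurelyInseparable.pow_mem K q (algebraMap S L x)
    have hint : IsIntegral R k := by
      rw [← isIntegral_algebraMap_iff (A := K) (B := L) (algebraMap K L).injective, hk, ← map_pow]
      exact (Algebra.IsIntegral.isIntegral (R := R) (x ^ q ^ n)).map (IsScalarTower.toAlgHom R S L)
    obtain ⟨r, rfl⟩ := IsIntegrallyClosed.isIntegral_iff.mp hint
    refine ⟨n, r, IsFractionRing.injective S L ?_⟩
    rw [map_pow, ← hk, ← IsScalarTower.algebraMap_apply, ← IsScalarTower.algebraMap_apply]
  have hker : RingHom.ker μ.toRingHom ≤ nilradical T := by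
    show KaehlerDifferential.ideal R S ≤ _
    rw [← KaehlerDifferential.span_range_eq_ideal, Ideal.span_le]
    rintro _ ⟨x, rfl⟩
    obtain ⟨n, r, hr⟩ := hpow x
    refine ⟨q ^ n, ?_⟩
    rw [sub_pow_expChar_pow, Algebra.TensorProduct.tmul_pow, Algebra.TensorProduct.tmul_pow, one_pow,
      ← hr, Algebra.algebraMap_eq_smul_one, TensorProduct.tmul_smul, TensorProduct.smul_tmul', sub_self]
    exact rfl
  have hμ : Function.Surjective μ.toRingHom := fun s => ⟨s ⊗ₜ 1, (Algebra.TensorProduct.lmul'_apply_tmul (R := R) s 1).trans (mul_one s)⟩
  let f := Spec.map (CommRingCat.ofHom (algebraMap R S))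
  haveI : Algebra.IsIntegral R S := inferInstance
  haveI : IsIntegralHom f := IsIntegralHom.SpecMap_iff.mpr (algebraMap_isIntegral_iff.mpr inferInstance)
  haveI : Surjective f := ⟨fun P => Algebra.IsIntegral.comap_surjective (R := R) (S := S) P⟩
  haveI : Surjective (Spec.map (CommRingCat.ofHom μ.toRingHom)) := ⟨fun P => by
    have : P ∈ Set.range (PrimeSpectrum.comap μ.toRingHom) := by
      rw [range_comap_of_surjective _ _ hμ, PrimeSpectrum.mem_zeroLocus]
      exact hker.trans (nilradical_le_prime P.asIdeal)
    exact this⟩
  haveI : UniversallyInjective f := by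
    rw [UniversallyInjective.iff_diagonal, diagonal_SpecMap R S]
    exact inferInstanceAs (Surjective (Spec.map (CommRingCat.ofHom μ.toRingHom) ≫ _))
  exact EtaPtLib.isUnivHomeo_of_isIntegralHom f

end Groth.Agent.S17689
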