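import Groth.Statements.S17690
import Groth.Agent.S2654
import Groth.Agent.Nagata.Local
import Mathlib

set_option autoImplicit false
universe u
open Neron

namespace Groth.Agent.S17690

/-- Let R be an excellent discrete valuation ring (Noetherian, universally catenary, G-ring, J-2) with
fraction field K, and let L be a finite purely inseparable field extension of K. Then the integral
closure S of R in L is a discrete valuation ring, and S is a finite R-module. -/
theorem result
    (R K L : Type u) [CommRing R] [IsDomain R] [IsDiscreteValuationRing R] (hR : EGA4.IsExcellent R)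
    [Field K] [Algebra R K] [IsFractionRing R K] [Field L] [Algebra K L] [FiniteDimensional K L]
    [IsPurelyInseparable K L] [Algebra R L] [IsScalarTower R K L] :
    IsDiscreteValuationRing ↥(integralClosure R L) ∧ Module.Finite R ↥(integralClosure R L) := by
  have hN2 := Groth.Agent.Nagata.isN2_of_isNagata
    (Groth.Agent.S2654.result R ⟨hR.1, hR.2.2.1, hR.2.2.2⟩)
  haveI hfin : Module.Finite R (integralClosure R L) := Groth.Agent.Nagata.finite_closure_of_frac hN2 K L
  refine ⟨?_, hfin⟩
  let S := integralClosure R L
  haveI : IsNoetherianRing S := IsNoetherianRing.of_finite R S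
  haveI : FaithfulSMul R L := (faithfulSMul_iff_algebraMap_injective _ _).mpr (by
    rw [IsScalarTower.algebraMap_eq R K L]
    exact (algebraMap K L).injective.comp (IsFractionRing.injective R K))
  haveI : IsIntegrallyClosed S := integralClosure.isIntegrallyClosedOfFiniteExtension K
  haveI : Ring.DimensionLEOne S := inferInstanceAs (Ring.DimensionLEOne (integralClosure R L))
  haveI : IsDedekindDomain S := {}
  obtain ⟨q, hq⟩ := ExpChar.exists K
  haveI := hq
  have hpow : ∀ x : S, ∃ (n : ℕ) (r : R), x ^ q ^ n = algebraMap R S r := fun x => by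
    obtain ⟨n, y, hy⟩ := IsPurelyInseparable.pow_mem K q (x : L)
    have hyi : IsIntegral R y := (isIntegral_algHom_iff (IsScalarTower.toAlgHom R K L) (algebraMap K L).injective).1
      (show IsIntegral R (algebraMap K L y) by rw [hy]; exact (x.2 : IsIntegral R (x : L)).pow _)
    obtain ⟨r, rfl⟩ := IsIntegrallyClosed.algebraMap_eq_of_integral hyi
    exact ⟨n, r, Subtype.ext (hy.symm.trans (IsScalarTower.algebraMap_apply R K L r).symm)⟩
  have hle : ∀ P Q : Ideal S, P.IsMaximal → Q.IsMaximal → P ≤ Q := fun P Q hP hQ x hx => by
    obtain ⟨n, r, hr⟩ := hpow x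
    refine hQ.isPrime.mem_of_pow_mem (q ^ n) ?_
    rw [hr]
    have hP' := Ideal.isMaximal_comap_of_isIntegral_of_isMaximal (R := R) P
    have hQ' := Ideal.isMaximal_comap_of_isIntegral_of_isMaximal (R := R) Q
    have hmem : r ∈ P.comap (algebraMap R S) :=
      Ideal.mem_comap.2 (hr ▸ P.pow_mem_of_mem hx _ (pow_pos (expChar_pos K q) n))
    rw [IsLocalRing.eq_maximalIdeal hP', ← IsLocalRing.eq_maximalIdeal hQ'] at hmem
    exact hmem
  obtain ⟨M, hM⟩ := Ideal.exists_maximal S
  haveI : IsLocalRing S := IsLocalRing.of_unique_max_ideal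
    ⟨M, hM, fun P hP => le_antisymm (hle P M hP hM) (hle M P hM hP)⟩
  have hne : ¬ IsField S := fun h => by
    refine IsDiscreteValuationRing.not_isField R ?_
    exact isField_of_isIntegral_of_isField (FaithfulSMul.algebraMap_injective R S) h
  exact (List.TFAE.out (IsDiscreteValuationRing.TFAE S hne) 0 2).2 ‹IsDedekindDomain S›

end Groth.Agent.S17690
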