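import Groth.Statements.S17692
import Groth.Agent.HomRep.MorGlue

set_option autoImplicit false
universe u
open CategoryTheory CategoryTheory.Limits AlgebraicGeometry
open WeilRes

namespace Groth.Agent.S17692

/-- Suppose f : S' → S is a finite, locally free morphism of schemes (i.e. finite, flat and locally of
finite presentation) that is also a universal homeomorphism, and let X' be an arbitrary scheme over
S' (no condition on finite sets of points lying in a common affine open). Then the Weil restriction
of X' along f is representable by an S-scheme: there exist an S-scheme R and an S'-morphism q from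
the base change R ×_S S' to X' such that, for every S-scheme T, sending an S-morphism g : T → R to
(g ×_S S') followed by q is a bijection onto the S'-morphisms T ×_S S' → X'. (The published
statement writes X' as a scheme over S; the proof treats an S'-scheme, as here.) -/
theorem result
    {S S' : Scheme.{u}} (f : S' ⟶ S) [IsFinite f] [Flat f] [LocallyOfFinitePresentation f]
    (hf : FlatMor.IsUnivHomeo f) (X' : Over S') :
    ∃ (R : Over S) (q : Red.bc f R ⟶ X'), WeilRes.IsWeilRes f X' R q := by
  haveI : IsAffineHom (Over.mk f).hom := inferInstanceAs (IsAffineHom f)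
  haveI : IsFinite (Over.mk f).hom := inferInstanceAs (IsFinite f)
  haveI : Flat (Over.mk f).hom := inferInstanceAs (Flat f)
  haveI : LocallyOfFinitePresentation (Over.mk f).hom := inferInstanceAs (LocallyOfFinitePresentation f)
  obtain ⟨A, -, ⟨rA⟩⟩ := Groth.Agent.HomRep.morS_representable f f
  obtain ⟨H, ⟨rH⟩⟩ := Groth.Agent.HomRep.morS_isRepresentable (g := f) (f := X'.hom ≫ f) fun T x p => by
    have hinj : Function.Injective (pullback.fst x.t f) := by
      exact (hf _ _ _ (IsPullback.of_hasPullback x.t f)).injective
    rcases (pullback.fst x.t f ⁻¹' {p}).eq_empty_or_nonempty with he | ⟨z₀, hz₀⟩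
    · obtain ⟨U, hU, -⟩ := exists_isAffineOpen_mem_and_subset (x := x.t p) (U := (⊤ : S.Opens)) trivial
      exact ⟨⊥, isAffineOpen_bot X'.left, fun z hz => (Set.eq_empty_iff_forall_notMem.1 he z hz).elim⟩
    · obtain ⟨U, hU, hzU, -⟩ := exists_isAffineOpen_mem_and_subset (x := x.φ z₀) (U := (⊤ : X'.left.Opens)) trivial
      exact ⟨U, hU, fun z hz => (hinj (hz.trans hz₀.symm)) ▸ hzU⟩
  let u : (Over.map f).obj ((Over.pullback f).obj H) ⟶ Over.mk (X'.hom ≫ f) := rH.homEquiv (𝟙 H)
  let post : Over.mk (X'.hom ≫ f) ⟶ Over.mk f := Over.homMk X'.hom rfl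
  let str : ∀ T : Over S, (Over.map f).obj ((Over.pullback f).obj T) ⟶ Over.mk f := fun T =>
    Over.homMk (pullback.snd T.hom f) rfl
  let α : H ⟶ A := rA.homEquiv.symm (u ≫ post)
  let β : H ⟶ A := rA.homEquiv.symm (str H)
  have hA : ∀ {T : Over S} (v : T ⟶ H) (c : (Over.map f).obj ((Over.pullback f).obj H) ⟶ Over.mk f),
      rA.homEquiv (v ≫ rA.homEquiv.symm c) = (Over.map f).map ((Over.pullback f).map v) ≫ c := fun v c => by
    rw [rA.homEquiv_comp]
    exact congrArg ((Flatn.morS f f).map v.op) (Equiv.apply_symm_apply _ c)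
  have hH : ∀ {T : Over S} (v : T ⟶ H), rH.homEquiv v = (Over.map f).map ((Over.pullback f).map v) ≫ u := fun v => by
    rw [rH.homEquiv_eq v]
    rfl
  have hcrit : ∀ {T : Over S} (v : T ⟶ H), v ≫ α = v ≫ β ↔ (rH.homEquiv v).left ≫ X'.hom = pullback.snd T.hom f := by
    intro T v
    rw [← rA.homEquiv.apply_eq_iff_eq, hA, hA, hH]
    constructor
    · intro h
      have := congrArg CommaMorphism.left h
      simp [post, str] at this ⊢
      exact this.trans (pullback.lift_snd _ _ _)
    · intro h
      apply Over.OverMorphism.ext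
      simp [post, str] at h ⊢
      exact h.trans (pullback.lift_snd _ _ _).symm
  let R := equalizer α β
  let ι := equalizer.ι α β
  let q : Red.bc f R ⟶ X' := Over.homMk (rH.homEquiv ι).left ((hcrit ι).1 (equalizer.condition α β))
  refine ⟨R, q, fun T => ⟨fun v w h => ?_, fun b => ?_⟩⟩
  · apply equalizer.hom_ext
    apply rH.homEquiv.injective
    rw [rH.homEquiv_comp, rH.homEquiv_comp]
    apply Over.OverMorphism.ext
    have h' := congrArg CommaMorphism.left h
    exact h' 
  · let b' : (Over.map f).obj ((Over.pullback f).obj T) ⟶ Over.mk (X'.hom ≫ f) :=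
      Over.homMk b.left (by
        show b.left ≫ X'.hom ≫ f = pullback.snd T.hom f ≫ f
        rw [← Category.assoc, Over.w b]
        rfl)
    have hb : rH.homEquiv (rH.homEquiv.symm b') = b' := rH.homEquiv.apply_symm_apply b'
    let v : T ⟶ H := rH.homEquiv.symm b'
    have hv : v ≫ α = v ≫ β := (hcrit v).2 (by
      rw [hb]
      exact Over.w b)
    refine ⟨equalizer.lift v hv, ?_⟩
    apply Over.OverMorphism.ext
    show ((Over.pullback f).map (equalizer.lift v hv)).left ≫ (rH.homEquiv ι).left = b.left
    have h := rH.homEquiv_comp (equalizer.lift v hv) ι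
    rw [equalizer.lift_ι, hb] at h
    exact (congrArg CommaMorphism.left h).symm

end Groth.Agent.S17692
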