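import Groth.Statements.S19795
import Groth.Agent.MTExt.StalkHom
import Groth.Agent.MTCentre.Main
import Groth.Agent.Chev.CentralMT
import Groth.Agent.MTImage.ToriConj
import Groth.Agent.MTBridge.MonoTori
import Groth.Agent.S15607

set_option backward.isDefEq.respectTransparency false
set_option backward.isDefEq.respectTransparency.types false
set_option linter.style.haveILetI false
set_option maxHeartbeats 1000000
set_option synthInstance.maxHeartbeats 400000

set_option autoImplicit false
open CategoryTheory MonoidalCategory CartesianMonoidalCategory MonObj GrpObj AlgebraicGeometry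
universe u
open SGA3x

namespace Groth.Agent.S19795

open CategoryTheory.Limits
open scoped CategoryTheory.Obj

/-- The multiplicative group is a torus. -/
theorem isTorus_Gm (S : Scheme.{u}) : Red.IsTorus (Red.Gm S) := by
  refine ⟨S, 𝟙 S, inferInstance, inferInstance, fun V hV => ⟨V, hV.isCompact, Set.image_id _⟩,
    fun _ => ⟨⊤, trivial, 1, ?_⟩⟩
  let U : Scheme.{u} := (⊤ : S.Opens)
  let f : Red.DS U (Fin 1 → ℤ) ⟶ Red.Gm U := Red.DSmap _ (AddMonoidHom.mk' (fun a _ => a) (fun _ _ => rfl))
  let f' : Red.Gm U ⟶ Red.DS U (Fin 1 → ℤ) := Red.DSmap _ (Pi.evalAddMonoidHom (fun _ => ℤ) 0)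
  haveI : IsMonHom f' := Chev.isMonHom_of_map_mul f' fun {_} a b => HomDiag.ch_ext fun m => by
    rw [HomDiag.ch_DSmap, HomDiag.ch_mul, HomDiag.ch_mul, HomDiag.ch_DSmap, HomDiag.ch_DSmap]
  let ei : Red.Gm U ≅ Red.DS U (Fin 1 → ℤ) :=
    { hom := f'
      inv := f
      hom_inv_id := by
        apply HomDiag.ch_ext; intro m
        rw [← Category.id_comp (f' ≫ f), ← Category.assoc, HomDiag.ch_DSmap, HomDiag.ch_DSmap]
        rfl
      inv_hom_id := by
        apply HomDiag.ch_ext; intro m
        rw [← Category.id_comp (f ≫ f'), ← Category.assoc, HomDiag.ch_DSmap, HomDiag.ch_DSmap]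
        refine congrArg (fun a => HomDiag.ch (𝟙 _) (Multiplicative.ofAdd a)) (funext fun i => ?_)
        exact congrArg m.toAdd (Subsingleton.elim 0 i) }
  haveI : IsMonHom ei.hom := ‹IsMonHom f'›
  exact ⟨MTBridge.bcDS _ _ ≪≫ Grp.mkIso' ei⟩

/-- Let S be an integral, normal, locally Noetherian scheme with function field K, f : Spec K ⟶ S the
inclusion of the generic point, and T an S-torus. Then X_*(T)(S) = X_*(T)(K): every homomorphism of
K-groups (𝔾_{m,S}) ×_S Spec K ⟶ T ×_S Spec K is the base change along f of exactly one homomorphism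
of S-groups 𝔾_{m,S} ⟶ T. (The published statement assumes S connected, normal and locally
Noetherian, which makes S integral.) -/
theorem result {S : Scheme.{u}} [IsIntegral S]
    [IsLocallyNoetherian S] (hnorm : ∀ x : ↥S, IsDomain (S.presheaf.stalk x) ∧ IsIntegrallyClosed (S.presheaf.stalk x))
    {T : Over S} [GrpObj T] (hT : Red.IsTorus T)
    (lamK : Red.bc (S.fromSpecStalk (genericPoint S)) (Red.Gm S) ⟶ Red.bc (S.fromSpecStalk (genericPoint S)) T)
    [IsMonHom lamK] :
    ∃! lam : Red.Gm S ⟶ T, IsMonHom lam ∧ (Over.pullback (S.fromSpecStalk (genericPoint S))).map lam = lamK := by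
  haveI : Smooth (Red.Gm S).hom := MTImage.smooth_torus (isTorus_Gm S)
  haveI : GeometricallyIrreducible (Red.Gm S).hom :=
    MTBridge.geometricallyIrreducible_of_connectedSpace fun t =>
      Chev.connectedSpace_of_isTorus (k := S.residueField t)
        (Chev.Borel.isTorus_bc_scheme (Red.Gm S) (S.fromSpecResidueField t) (isTorus_Gm S))
  haveI : IsLocallyNoetherian (Red.Gm S).left := LocallyOfFiniteType.isLocallyNoetherian (Red.Gm S).hom
  have hTm := MTBridge.isMultTypeFT_of_isTorus T hT
  exact MTExt.existsUnique_hom_stalk (fun s => (hnorm s).2) hTm lamK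

end Groth.Agent.S19795
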