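import Groth.Statements.S17703
-- import your own Groth.Agent.* helpers here
import Groth.Agent.GRingCpl.Dedekind
import Groth.Agent.Catenary.CM
import Groth.Agent.RegLocus.J2
import Groth.Agent.FlatDepth.RegHom
import Groth.Agent.GeomProp.Apps
import Groth.Agent.Easy3.Excellent

set_option autoImplicit false
universe u
open Neron

namespace Groth.Agent.S17703

/-- Let R be a discrete valuation ring with fraction field K, R̂ its completion and K̂ = Frac R̂. Then R
is excellent (Noetherian, universally catenary, G-ring and J-2) if and only if K̂ is geometrically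
reduced over K, i.e. K ⊆ K̂ is separable; here K̂ is written as the generic formal fibre κ(0) ⊗_R R̂
of R, which is R̂ with the uniformizer inverted. -/
theorem result
    (R : Type u) [CommRing R] [IsDomain R] [IsDiscreteValuationRing R] :
    EGA4.IsExcellent R ↔
      Algebra.IsGeometricallyReduced (⊥ : Ideal R).ResidueField (EGA4.formalFibre R (⊥ : Ideal R)) := by
  constructor
  · intro h
    haveI : IsLocalization.AtPrime R (IsLocalRing.maximalIdeal R) :=
      IsLocalization.self fun x hx => IsLocalRing.notMem_maximalIdeal.mp hx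
    have h1 : CAlg.IsRegularHom R (EGA4.Cpl R) :=
      Easy3.isRegularHom_completion_of_ringEquiv
        (IsLocalization.algEquiv (IsLocalRing.maximalIdeal R).primeCompl (Localization.AtPrime (IsLocalRing.maximalIdeal R)) R).toRingEquiv
        (h.2.2.1.2 (IsLocalRing.maximalIdeal R))
    exact FlatDepth.geomReduced_of_geomNormal ((FlatDepth.isNormalHom_of_isRegularHom h1).2 ⊥)
  · intro h
    haveI := GRingCpl.isFractionRing_residueField_bot R
    haveI : IsNoetherianRing (EGA4.Cpl R) := AdicBasics.isNoetherianRing_completion R
    obtain ⟨π, hπ⟩ := IsDiscreteValuationRing.exists_irreducible R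
    have hm : IsLocalRing.maximalIdeal (EGA4.Cpl R) = Ideal.span {algebraMap R (EGA4.Cpl R) π} := by
      have h1 := (congrArg (Ideal.map (algebraMap R (EGA4.Cpl R))) hπ.maximalIdeal_eq).trans
        (Ideal.map_span _ _)
      rw [Set.image_singleton] at h1
      exact (AdicCompletion.maximalIdeal_eq_map (R := R)).trans h1
    let F := EGA4.formalFibre R (⊥ : Ideal R)
    haveI : Nontrivial F := by
      haveI : Module.FaithfullyFlat R (EGA4.Cpl R) := Module.FaithfullyFlat.of_flat_of_isLocalHom
      exact inferInstanceAs (Nontrivial (TensorProduct R (⊥ : Ideal R).ResidueField (EGA4.Cpl R)))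
    have hπF : IsUnit (algebraMap R F π) := by
      rw [IsScalarTower.algebraMap_apply R (⊥ : Ideal R).ResidueField F]
      exact (IsUnit.mk0 _ fun h0 => hπ.ne_zero (IsFractionRing.injective R (⊥ : Ideal R).ResidueField
        (h0.trans (map_zero _).symm))).map _
    letI : Algebra (EGA4.Cpl R) F := (Algebra.TensorProduct.includeRight (R := R) (A := (⊥ : Ideal R).ResidueField) (B := EGA4.Cpl R)).toRingHom.toAlgebra
    have hprime : ∀ (Q : Ideal F), Q.IsPrime → Q = ⊥ := by
      intro Q hQ
      have hπQ : algebraMap R (EGA4.Cpl R) π ∉ Q.comap (algebraMap (EGA4.Cpl R) F) := fun hq => by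
        refine hQ.ne_top (Ideal.eq_top_of_isUnit_mem _ ?_ hπF)
        have h2 : algebraMap (EGA4.Cpl R) F (algebraMap R (EGA4.Cpl R) π) ∈ Q := hq
        rwa [show algebraMap (EGA4.Cpl R) F (algebraMap R (EGA4.Cpl R) π) = algebraMap R F π from
          (Algebra.TensorProduct.includeRight (R := R) (A := (⊥ : Ideal R).ResidueField) (B := EGA4.Cpl R)).commutes π] at h2
      have h0 : ∀ x ∈ Q.comap (algebraMap (EGA4.Cpl R) F), x = 0 := by
        intro x hx
        refine GRingCpl.eq_zero_of_forall_mem_pow (IsLocalRing.maximalIdeal (EGA4.Cpl R)) le_rfl x fun k => ?_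
        suffices hk : ∀ (k : ℕ) (y), y ∈ Q.comap (algebraMap (EGA4.Cpl R) F) →
            y ∈ IsLocalRing.maximalIdeal (EGA4.Cpl R) ^ k from hk k x hx
        intro k
        induction k with
        | zero => intro y _; rw [pow_zero, Ideal.one_eq_top]; exact Submodule.mem_top
        | succ k ih =>
          intro y hy
          have hym : y ∈ IsLocalRing.maximalIdeal (EGA4.Cpl R) :=
            IsLocalRing.le_maximalIdeal (Ideal.IsPrime.ne_top inferInstance) hy
          rw [hm, Ideal.mem_span_singleton'] at hym
          obtain ⟨r, rfl⟩ := hym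
          have hr := ((inferInstance : (Q.comap (algebraMap (EGA4.Cpl R) F)).IsPrime).mem_or_mem hy).resolve_right hπQ
          rw [pow_succ]
          exact Ideal.mul_mem_mul (ih r hr) (hm ▸ Ideal.mem_span_singleton_self _)
      haveI : IsLocalization (Algebra.algebraMapSubmonoid (EGA4.Cpl R) (nonZeroDivisors R))
          (TensorProduct R (EGA4.Cpl R) (⊥ : Ideal R).ResidueField) := inferInstance
      let c := (Algebra.TensorProduct.comm R (EGA4.Cpl R) (⊥ : Ideal R).ResidueField).toRingEquiv
      refine eq_bot_iff.mpr fun z hz => ?_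
      obtain ⟨a, s, has⟩ := IsLocalization.exists_mk'_eq (Algebra.algebraMapSubmonoid (EGA4.Cpl R) (nonZeroDivisors R)) (c.symm z)
      have h1 : c.symm z * algebraMap (EGA4.Cpl R) _ s = algebraMap (EGA4.Cpl R) _ a := by
        rw [← has]; exact IsLocalization.mk'_spec _ a s
      have h2 : algebraMap (EGA4.Cpl R) F a ∈ Q := by
        have h3 := congrArg c h1
        rw [map_mul, c.apply_symm_apply] at h3
        have h4 : c (algebraMap (EGA4.Cpl R) (TensorProduct R (EGA4.Cpl R) (⊥ : Ideal R).ResidueField) a) =
            algebraMap (EGA4.Cpl R) F a := rfl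
        rw [← h4, ← h3]
        exact Q.mul_mem_right _ hz
      rw [Ideal.mem_bot]
      apply c.symm.injective
      rw [← has, h0 a h2, IsLocalization.mk'_zero, map_zero]
    have hF : IsField F := by
      obtain ⟨M, hM⟩ := Ideal.exists_maximal F
      have hbot : (⊥ : Ideal F).IsMaximal := hprime M hM.isPrime ▸ hM
      by_contra hnf
      exact (Ring.ne_bot_of_isMaximal_of_not_isField hbot hnf) rfl
    letI := hF.toField
    have hgen : CAlg.IsGeometricallyRegular (⊥ : Ideal R).ResidueField F := fun k' _ _ hk' => by
      haveI := hk'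
      exact GeomProp.regular_of_geomReduced_field (⊥ : Ideal R).ResidueField F k'
    have h1 := GRingCpl.isRegularHom_cpl_of_dimLEOne R hgen
    haveI : IsLocalization.AtPrime R (IsLocalRing.maximalIdeal R) :=
      IsLocalization.self fun x hx => IsLocalRing.notMem_maximalIdeal.mp hx
    have hG : CAlg.IsGRing R := GRingCpl.isGRing_of_maximal fun m _ => by
      obtain rfl : m = IsLocalRing.maximalIdeal R := IsLocalRing.eq_maximalIdeal inferInstance
      exact Easy3.isRegularHom_completion_of_ringEquiv
        (IsLocalization.algEquiv (IsLocalRing.maximalIdeal R).primeCompl (Localization.AtPrime (IsLocalRing.maximalIdeal R)) R).toRingEquiv.symm h1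
    haveI := FlatDepth.isCM_of_isRegularRing R
    haveI : Ring.KrullDimLE 1 R := inferInstance
    exact ⟨inferInstance, Catenary.isUniversallyCatenary_of_cm R, hG, RegLocus.isJ2_of_semilocal_dim_le_one R
      (Set.Finite.subset (Set.finite_singleton (IsLocalRing.maximalIdeal R)) fun I hI => IsLocalRing.eq_maximalIdeal hI)
      (Ring.krullDimLE_iff.mp inferInstance)⟩

end Groth.Agent.S17703
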