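import Groth.Statements.S1771
import Groth.Agent.H1Fin.Cat

set_option autoImplicit false
universe u
open LocCoh

namespace Groth.Agent.S1771

/-- Let A be a Noetherian ring which is Nagata and universally catenary, I an ideal of A and M a finite
A-module. Suppose that for every associated prime p of M not containing I and every prime q
containing both p and I, the longest chain of primes from p to q has length at least 2. Then the
local cohomology module H^1_I(M) is a finite A-module. The published statement asserts that the
pushforward of a coherent sheaf from the open complement of V(I) is coherent; this is its affine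
form, stated as finiteness of H^1_I(M). -/
theorem result (A : Type u) [CommRing A] [IsNoetherianRing A] (hN : CAlg.IsNagata A) (hU : CAlg.IsUniversallyCatenary A) (I : Ideal A) (M : Type u) [AddCommGroup M] [Module A M] [Module.Finite A M] (h : ∀ (p q : PrimeSpectrum A) (hpq : p ≤ q), p.asIdeal ∈ associatedPrimes A M → ¬ I ≤ p.asIdeal → I ≤ q.asIdeal → (2 : ℕ∞) ≤ Order.height (⟨q, hpq⟩ : Set.Ici p)) : Module.Finite A (LocCoh.H I 1 M) := by
  refine Groth.Agent.H1Fin.finite_H1 I M fun p _ hp hIp q _ hq => ?_
  let Q : PrimeSpectrum A := ⟨q.comap (Ideal.Quotient.mk p), inferInstance⟩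
  have hIQ : I ≤ Q.asIdeal := Ideal.map_le_iff_le_comap.1 hq
  have hpQ : (⟨p, inferInstance⟩ : PrimeSpectrum A) ≤ Q := fun x hx => by
    show Ideal.Quotient.mk p x ∈ q
    rw [Ideal.Quotient.eq_zero_iff_mem.2 hx]; exact q.zero_mem
  refine Groth.Agent.H1Fin.cplAss2_of_catenary p q hU Q rfl hpQ (h _ Q hpQ hp hIp hIQ) ?_
  intro hloc
  haveI := Groth.Agent.H1Fin.pL_isPrime p q
  exact Groth.Agent.H1Fin.minimal_of_nagata p q hN

end Groth.Agent.S1771
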