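import Groth.Statements.S17714
import Groth.Agent.MBailly.General

set_option autoImplicit false
open MoretBailly

namespace Groth.Agent.S17714

/-- Let n ≥ 2 and d ≥ 1 be natural numbers with n congruent to 0 or 1 modulo 4, and s an integer with 2s
> n + d + 1. Write B(x) = x/(1 - e^(-x)) for the exponential generating series of the Bernoulli
numbers (B'_1 = 1/2). Then for all sufficiently large natural numbers p the coefficient of x^n in
B(-dx)^(-1) B(-dpx) B(x)^(n+1) e^((dp-d-n-1+s)x) is strictly negative. (The published statement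
asserts this for every n ≥ 2 not congruent to 2 modulo 4. For n congruent to 3 modulo 4 the
coefficient is a polynomial in p of degree n - 1 with leading coefficient (2s-d-n-1) B'_(n-1)
d^(n-1)/(2 (n-1)!) > 0, so it is eventually positive: for n = 3, d = 1, s = 3 it equals (p^2 -
1)/24. The residues 0 and 1 are exactly the ones the leading-term argument gives.) -/
theorem result (n d : ℕ) (s : ℤ) (hn : 2 ≤ n)
    (hmod : n % 4 = 0 ∨ n % 4 = 1) (hd : 1 ≤ d) (hs : (n : ℤ) + d + 1 < 2 * s) :
    ∃ P : ℕ, ∀ p : ℕ, P ≤ p →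
      PowerSeries.coeff n ((PowerSeries.rescale (-(d : ℚ)) (bernoulli'PowerSeries ℚ))⁻¹ * PowerSeries.rescale (-((d : ℚ) * p)) (bernoulli'PowerSeries ℚ) * bernoulli'PowerSeries ℚ ^ (n + 1) * PowerSeries.rescale ((d : ℚ) * p - d - n - 1 + s) (PowerSeries.exp ℚ)) < 0 := by
  obtain ⟨m, rfl⟩ : ∃ m, n = m + 2 := ⟨n - 2, by omega⟩
  refine Groth.Agent.MBailly.eventually_coeff_neg m d s hd ?_
  rcases hmod with h | h
  · left
    have hs' := Groth.Agent.MBailly.bernoulli'_sign (k := (m + 2) / 2) (by omega)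
    rw [(show Odd ((m + 2) / 2 + 1) from ⟨(m + 2) / 4, by omega⟩).neg_one_pow,
      show 2 * ((m + 2) / 2) = m + 2 by omega] at hs'
    linarith
  · right
    refine ⟨bernoulli'_eq_zero_of_odd ⟨(m + 1) / 2, by omega⟩ (by omega), ?_⟩
    have hs' := Groth.Agent.MBailly.bernoulli'_sign (k := (m + 1) / 2) (by omega)
    rw [(show Odd ((m + 1) / 2 + 1) from ⟨(m + 1) / 4, by omega⟩).neg_one_pow,
      show 2 * ((m + 1) / 2) = m + 1 by omega] at hs'
    have hs2 : ((m + 2 : ℕ) : ℚ) + d + 1 < 2 * (s : ℚ) := by exact_mod_cast hs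
    exact mul_neg_of_pos_of_neg (by linarith) (by linarith)

end Groth.Agent.S17714
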