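import Groth.Statements.S17720
import Mathlib.RingTheory.MvPowerSeries.Inverse
import Mathlib.RingTheory.LocalRing.MaximalIdeal.Basic
import Mathlib.RingTheory.LocalRing.ResidueField.Basic
import Mathlib.Tactic.LinearCombination

set_option autoImplicit false
universe u
open CAlg

namespace Groth.Agent.S17720

open MvPowerSeries IsLocalRing

section
variable {A : Type u} [CommRing A]

theorem coeff_single_mul (i : Fin 2) (f g : MvPowerSeries (Fin 2) A) :
    coeff (Finsupp.single i 1) (f * g) =
      constantCoeff f * coeff (Finsupp.single i 1) g + coeff (Finsupp.single i 1) f * constantCoeff g := by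
  classical
  rw [coeff_mul, Finsupp.antidiagonal_single, Finset.sum_map]
  have h1 : Finset.antidiagonal 1 = ({(0, 1), (1, 0)} : Finset (ℕ × ℕ)) := by decide
  rw [h1, Finset.sum_pair (by decide)]
  simp [MvPowerSeries.coeff_zero_eq_constantCoeff]

theorem exists_decomp (f : MvPowerSeries (Fin 2) A) :
    ∃ g₀ g₁ : MvPowerSeries (Fin 2) A, f = C (constantCoeff f) + (X 0 * g₀ + X 1 * g₁) := by
  classical
  let f' : MvPowerSeries (Fin 2) A := fun n => if n 0 = 0 then coeff n f else 0
  have hf' : ∀ n, coeff n f' = if n 0 = 0 then coeff n f else 0 := fun n => rfl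
  obtain ⟨g₀, hg₀⟩ : X 0 ∣ f - f' := X_dvd_iff.2 fun n hn => by rw [map_sub, hf', if_pos hn, sub_self]
  obtain ⟨g₁, hg₁⟩ : X 1 ∣ f' - C (constantCoeff f) := X_dvd_iff.2 fun n hn => by
    rw [map_sub, hf', coeff_C]
    by_cases h0 : n 0 = 0
    · have : n = 0 := Finsupp.ext fun i => by fin_cases i <;> assumption
      subst this; simp
    · rw [if_neg h0, if_neg (fun h => h0 (by simp [h])), sub_zero]
  exact ⟨g₀, g₁, by linear_combination hg₀ + hg₁⟩

theorem lin_XY_sub_C (i : Fin 2) (b : A) :
    coeff (Finsupp.single i 1) (X 0 * X 1 - C b : MvPowerSeries (Fin 2) A) = 0 := by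
  rw [map_sub, coeff_single_mul, coeff_C]; simp

theorem const_XY_sub_C (b : A) : constantCoeff (X 0 * X 1 - C b : MvPowerSeries (Fin 2) A) = -b := by
  simp

theorem mem_span (A : Type u) [CommRing A] [IsLocalRing A] (α β : A) (hα : α ∈ maximalIdeal A) (hβ : β ∈ maximalIdeal A)
    (φ : (MvPowerSeries (Fin 2) A ⧸ Ideal.span {(X 0 * X 1 - C α : MvPowerSeries (Fin 2) A)}) ≃ₐ[A] (MvPowerSeries (Fin 2) A ⧸ Ideal.span {(X 0 * X 1 - C β : MvPowerSeries (Fin 2) A)})) :
    α ∈ Ideal.span {β} := by
  let I := Ideal.span {(X 0 * X 1 - C α : MvPowerSeries (Fin 2) A)}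
  let J := Ideal.span {(X 0 * X 1 - C β : MvPowerSeries (Fin 2) A)}
  choose x hx using fun i : Fin 2 => Ideal.Quotient.mk_surjective (φ (Ideal.Quotient.mk I (X i)))
  let e : Fin 2 → Fin 2 →₀ ℕ := fun i => Finsupp.single i 1
  have hker : ∀ w : MvPowerSeries (Fin 2) A, Ideal.Quotient.mk J w = 0 →
      ∃ h : MvPowerSeries (Fin 2) A, constantCoeff w = -β * constantCoeff h ∧
        ∀ i, coeff (e i) w = -β * coeff (e i) h := fun w hw => by
    obtain ⟨h, rfl⟩ := Ideal.mem_span_singleton.1 (Ideal.Quotient.eq_zero_iff_mem.1 hw)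
    refine ⟨h, by rw [map_mul, const_XY_sub_C], fun i => ?_⟩
    rw [coeff_single_mul, lin_XY_sub_C, const_XY_sub_C]; ring
  have hC : ∀ a : A, φ (Ideal.Quotient.mk I (C a)) = Ideal.Quotient.mk J (C a) := fun a => φ.commutes a
  -- the constant terms are in the maximal ideal
  have hm : ∀ i, constantCoeff (x i) ∈ maximalIdeal A := fun i => fun hu => by
    have h1 : IsUnit (Ideal.Quotient.mk J (x i)) := (isUnit_iff_constantCoeff.2 hu).map _
    rw [hx] at h1
    have h2 := h1.map φ.symm
    rw [φ.symm_apply_apply] at h2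
    obtain ⟨g, hg⟩ := h2.exists_right_inv
    obtain ⟨g, rfl⟩ := Ideal.Quotient.mk_surjective g
    rw [← map_mul, ← map_one (Ideal.Quotient.mk I)] at hg
    obtain ⟨h, hh⟩ := Ideal.mem_span_singleton.1 (Ideal.Quotient.eq.1 hg)
    have := congrArg constantCoeff hh
    simp at this
    exact hα (IsUnit.of_mul_eq_one _ this.symm)
  -- the relation between the images of the coordinates
  obtain ⟨h, hc, hl⟩ := hker (x 0 * x 1 - C α) (by
    rw [map_sub, map_mul, hx, hx, ← map_mul φ, ← map_mul, ← hC, ← map_sub, ← map_sub,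
      Ideal.Quotient.eq_zero_iff_mem.2 (Ideal.mem_span_singleton_self _), map_zero])
  have hlin : ∀ i, constantCoeff (x 0) * coeff (e i) (x 1) + coeff (e i) (x 0) * constantCoeff (x 1) =
      -β * coeff (e i) h := fun i => by
    rw [← hl i, map_sub, coeff_single_mul, coeff_C, if_neg (by simp [e]), sub_zero]
  -- the linear parts form an invertible matrix
  have hinv : ∀ j : Fin 2, ∃ p q : A, ∀ i, (if i = j then (1 : A) else 0) -
      (p * coeff (e i) (x 0) + q * coeff (e i) (x 1)) ∈ maximalIdeal A := fun j => by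
    obtain ⟨U, hU⟩ := Ideal.Quotient.mk_surjective (φ.symm (Ideal.Quotient.mk J (X j)))
    obtain ⟨g₀, g₁, hg⟩ := exists_decomp U
    obtain ⟨G₀, hG₀⟩ := Ideal.Quotient.mk_surjective (φ (Ideal.Quotient.mk I g₀))
    obtain ⟨G₁, hG₁⟩ := Ideal.Quotient.mk_surjective (φ (Ideal.Quotient.mk I g₁))
    obtain ⟨k, -, hk⟩ := hker (X j - (C (constantCoeff U) + (x 0 * G₀ + x 1 * G₁))) (by
      rw [map_sub, map_add, map_add, map_mul, map_mul, hx, hx, hG₀, hG₁, ← hC, ← map_mul φ, ← map_mul φ, ← map_mul,
        ← map_mul, ← map_add φ, ← map_add φ, ← map_add, ← map_add, ← hg, hU, φ.apply_symm_apply, sub_self])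
    refine ⟨constantCoeff G₀, constantCoeff G₁, fun i => ?_⟩
    have h1 := hk i
    rw [map_sub, map_add, map_add, coeff_single_mul, coeff_single_mul, coeff_C, if_neg (by simp [e]), zero_add,
      coeff_index_single_X] at h1
    rw [show (if i = j then (1 : A) else 0) - (constantCoeff G₀ * coeff (e i) (x 0) + constantCoeff G₁ * coeff (e i) (x 1)) =
      constantCoeff (x 0) * coeff (e i) G₀ + constantCoeff (x 1) * coeff (e i) G₁ - β * coeff (e i) k by
        linear_combination h1]
    exact sub_mem (add_mem (Ideal.mul_mem_right _ _ (hm 0)) (Ideal.mul_mem_right _ _ (hm 1))) (Ideal.mul_mem_right _ _ hβ)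
  obtain ⟨p₀, q₀, h₀⟩ := hinv 0
  obtain ⟨p₁, q₁, h₁⟩ := hinv 1
  have hdet : IsUnit (coeff (e 0) (x 0) * coeff (e 1) (x 1) - coeff (e 1) (x 0) * coeff (e 0) (x 1)) := by
    rw [← notMem_maximalIdeal, ← IsLocalRing.residue_eq_zero_iff]
    intro hd
    have r00 := (IsLocalRing.residue_eq_zero_iff _).2 (h₀ 0)
    have r01 := (IsLocalRing.residue_eq_zero_iff _).2 (h₀ 1)
    have r10 := (IsLocalRing.residue_eq_zero_iff _).2 (h₁ 0)
    have r11 := (IsLocalRing.residue_eq_zero_iff _).2 (h₁ 1)
    rw [map_sub, map_mul, map_mul] at hd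
    simp [map_add] at r00 r01 r10 r11
    apply one_ne_zero (α := ResidueField A)
    linear_combination (residue A p₀ * residue A q₁ - residue A q₀ * residue A p₁) * hd + r00 +
      (residue A p₀ * residue A (coeff (e 0) (x 0)) + residue A q₀ * residue A (coeff (e 0) (x 1))) * r11 -
      (residue A p₁ * residue A (coeff (e 0) (x 0)) + residue A q₁ * residue A (coeff (e 0) (x 1))) * r01
  let D := coeff (e 0) (x 0) * coeff (e 1) (x 1) - coeff (e 1) (x 0) * coeff (e 0) (x 1)
  have hx0 : D * constantCoeff (x 0) ∈ Ideal.span {β} := Ideal.mem_span_singleton'.2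
    ⟨coeff (e 1) (x 0) * coeff (e 0) h - coeff (e 0) (x 0) * coeff (e 1) h, by
      linear_combination coeff (e 1) (x 0) * hlin 0 - coeff (e 0) (x 0) * hlin 1⟩
  have hx1 := (Ideal.span {β}).mul_mem_left (constantCoeff (x 1)) ((Ideal.unit_mul_mem_iff_mem _ hdet).1 hx0)
  rw [map_sub, map_mul, constantCoeff_C] at hc
  rw [show α = constantCoeff (x 1) * constantCoeff (x 0) + constantCoeff h * β by linear_combination -hc]
  exact add_mem hx1 (Ideal.mul_mem_left _ _ (Ideal.mem_span_singleton_self β))

end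

open MvPowerSeries IsLocalRing in
/-- Let A be a Noetherian local ring and α, β two elements of its maximal ideal. If the quotient of the
power series ring in two variables over A by xy − α is isomorphic, as an A-algebra, to the quotient
by xy − β, then αA = βA. (The published statement allows any local ring A; it is taken Noetherian
here, the case in which an algebra isomorphism between these complete local rings is continuous for
their adic topologies.) -/
theorem result
    (A : Type u) [CommRing A] [IsLocalRing A] [IsNoetherianRing A]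
    (α β : A) (hα : α ∈ maximalIdeal A) (hβ : β ∈ maximalIdeal A)
    (φ : (MvPowerSeries (Fin 2) A ⧸ Ideal.span {(X 0 * X 1 - C α : MvPowerSeries (Fin 2) A)}) ≃ₐ[A] (MvPowerSeries (Fin 2) A ⧸ Ideal.span {(X 0 * X 1 - C β : MvPowerSeries (Fin 2) A)})) :
    Ideal.span {α} = Ideal.span {β} := by
  exact le_antisymm ((Ideal.span_singleton_le_iff_mem _).2 (mem_span A α β hα hβ φ))
    ((Ideal.span_singleton_le_iff_mem _).2 (mem_span A β α hβ hα φ.symm))

end Groth.Agent.S17720
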