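import Groth.Statements.S17721
import Mathlib.RingTheory.Prime
import Mathlib.RingTheory.PowerSeries.Inverse
import Mathlib.RingTheory.LocalRing.ResidueField.Basic
import Mathlib.Tactic

set_option autoImplicit false
universe u
open CAlg

namespace Groth.Agent.S17721

open Polynomial IsLocalRing in
/-- Let R be a complete discrete valuation ring with fraction field K, and f a polynomial over R with
non-zero constant term a₀ such that a₀ does not divide some coefficient of f of positive degree
(equivalently, the Newton polygon of f has a side of negative slope). Let b be the power series over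
K with b · f = a₀, the expansion of the geometric series in 1 − f/a₀. Then the valuations of the
coefficients b_j are not bounded below: for every non-zero c in R there is an index j with c · b_j
outside R. -/
theorem result
    (R : Type u) [CommRing R] [IsDomain R] [IsDiscreteValuationRing R]
    [IsAdicComplete (maximalIdeal R) R]
    (K : Type u) [Field K] [Algebra R K] [IsFractionRing R K]
    (f : R[X]) (h0 : f.coeff 0 ≠ 0) (hslope : ∃ i : ℕ, 0 < i ∧ ¬ (f.coeff 0 ∣ f.coeff i))
    (b : PowerSeries K)
    (hb : b * ((f.map (algebraMap R K) : K[X]) : PowerSeries K) = PowerSeries.C (algebraMap R K (f.coeff 0))) :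
    ∀ c : R, c ≠ 0 → ∃ j : ℕ, algebraMap R K c * PowerSeries.coeff j b ∉ (algebraMap R K).range := by
  intro c hc
  by_contra hcon
  push Not at hcon
  choose B hB using hcon
  obtain ⟨ϖ, hϖ⟩ := IsDiscreteValuationRing.exists_irreducible R
  have key : (f : PowerSeries R) * PowerSeries.mk B = PowerSeries.C (c * f.coeff 0) := by
    apply PowerSeries.map_injective (algebraMap R K) (IsFractionRing.injective R K)
    have h1 : PowerSeries.map (algebraMap R K) (PowerSeries.mk B) =
        PowerSeries.C (algebraMap R K c) * b := by
      ext j
      simp [hB j]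
    have h2 : PowerSeries.map (algebraMap R K) (f : PowerSeries R) =
        ((f.map (algebraMap R K) : Polynomial K) : PowerSeries K) := by
      ext j
      simp
    rw [map_mul, h1, h2, PowerSeries.map_C, map_mul, map_mul, ← hb]
    ring
  have hdvd : ∀ x : PowerSeries R, PowerSeries.C ϖ ∣ x ↔
      PowerSeries.map (IsLocalRing.residue R) x = 0 := by
    intro x
    constructor
    · rintro ⟨y, rfl⟩
      rw [map_mul, PowerSeries.map_C, (IsLocalRing.residue_eq_zero_iff ϖ).mpr ((IsLocalRing.mem_maximalIdeal _).mpr hϖ.not_isUnit),
        map_zero, zero_mul]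
    · intro hx
      have : ∀ j, ϖ ∣ PowerSeries.coeff j x := fun j => by
        have h3 := congrArg (PowerSeries.coeff j) hx
        rw [PowerSeries.coeff_map, map_zero, IsLocalRing.residue_eq_zero_iff, hϖ.maximalIdeal_eq] at h3
        exact Ideal.mem_span_singleton.mp h3
      choose y hy using this
      exact ⟨PowerSeries.mk y, by ext j; simp [← hy j]⟩
  have hP : Prime (PowerSeries.C ϖ : PowerSeries R) := by
    refine ⟨fun h => hϖ.ne_zero ?_, fun h => ?_, fun x y hxy => ?_⟩
    · simpa using congrArg PowerSeries.constantCoeff h
    · exact hϖ.not_isUnit (by simpa using h.map (PowerSeries.constantCoeff (R := R)))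
    · rw [hdvd, map_mul, mul_eq_zero] at hxy
      rwa [hdvd, hdvd]
  obtain ⟨s, w, hw⟩ := IsDiscreteValuationRing.eq_unit_mul_pow_irreducible (mul_ne_zero hc h0) hϖ
  rw [hw, map_mul, map_pow] at key
  obtain ⟨i, j, u, v, -, huv, hfu, -⟩ := mul_eq_mul_prime_pow hP key
  have hu : IsUnit (PowerSeries.constantCoeff u) := by
    refine IsUnit.map _ (isUnit_of_mul_isUnit_left (y := v) ?_)
    rw [← huv]
    exact w.isUnit.map _
  obtain ⟨k, -, hk⟩ := hslope
  have hcoef : ∀ l, f.coeff l = PowerSeries.coeff l u * ϖ ^ i := fun l => by
    rw [← Polynomial.coeff_coe, hfu, ← map_pow, PowerSeries.coeff_mul_C]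
  refine hk ?_
  rw [hcoef, hcoef, PowerSeries.coeff_zero_eq_constantCoeff_apply]
  exact mul_dvd_mul hu.dvd dvd_rfl

end Groth.Agent.S17721
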