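import Groth.Statements.S17722
import Mathlib.RingTheory.Flat.FaithfullyFlat.Algebra

set_option autoImplicit false
universe u
open CAlg

namespace Groth.Agent.S17722

/-- Let R → R' be a faithfully flat ring map between Noetherian integrally closed local domains, and p
an ideal of R. If the ideal pR' generated by the image of p is principal, then p is principal. (The
second assertion of the published lemma, descent of unique factorization, is not part of this row.) -/
theorem result
    (R R' : Type u) [CommRing R] [CommRing R'] [IsDomain R] [IsDomain R']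
    [IsNoetherianRing R] [IsNoetherianRing R'] [IsLocalRing R] [IsLocalRing R']
    [IsIntegrallyClosed R] [IsIntegrallyClosed R']
    [Algebra R R'] [Module.FaithfullyFlat R R']
    (p : Ideal R) (hp : (p.map (algebraMap R R')).IsPrincipal) :
    p.IsPrincipal := by
  obtain ⟨⟨a, ha⟩⟩ := hp
  by_cases ha0 : a = 0
  · have hp0 : p = ⊥ := by
      apply le_bot_iff.1
      intro x hx
      have h1 : algebraMap R R' x ∈ p.map (algebraMap R R') := Ideal.mem_map_of_mem _ hx
      rw [ha, ha0, Submodule.span_singleton_eq_bot.2 rfl, Submodule.mem_bot] at h1
      exact (Submodule.mem_bot R).2 (FaithfulSMul.algebraMap_injective R R' (by rw [h1, map_zero]))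
    rw [hp0]
    infer_instance
  · have hex : ∃ x ∈ p, ∃ s : R', IsUnit s ∧ algebraMap R R' x = s * a := by
      by_contra hne
      push Not at hne
      have hle : p.map (algebraMap R R') ≤ IsLocalRing.maximalIdeal R' * Ideal.span {a} := by
        rw [Ideal.map_le_iff_le_comap]
        intro x hx
        have h1 : algebraMap R R' x ∈ p.map (algebraMap R R') := Ideal.mem_map_of_mem _ hx
        rw [ha] at h1
        obtain ⟨s, hs⟩ := Ideal.mem_span_singleton'.1 h1
        rw [Ideal.mem_comap, ← hs]
        refine Ideal.mul_mem_mul ?_ (Ideal.mem_span_singleton_self a)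
        rw [IsLocalRing.mem_maximalIdeal]
        exact fun hu => hne x hx s hu hs.symm
      have h2 : a ∈ IsLocalRing.maximalIdeal R' * Ideal.span {a} := by
        apply hle
        rw [ha]
        exact Submodule.mem_span_singleton_self a
      obtain ⟨m, hm, hma⟩ := Ideal.mem_mul_span_singleton.1 h2
      have h3 : (m - 1) * a = 0 := by rw [sub_mul, one_mul, hma, sub_self]
      rcases mul_eq_zero.1 h3 with h | h
      · rw [sub_eq_zero] at h
        rw [h] at hm
        exact (IsLocalRing.maximalIdeal R').ne_top_iff_one.1
          (IsLocalRing.maximalIdeal.isMaximal R').ne_top hm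
      · exact ha0 h
    obtain ⟨x, hxp, s, hs, hxs⟩ := hex
    refine ⟨⟨x, ?_⟩⟩
    have h4 : p.map (algebraMap R R') = (Ideal.span {x}).map (algebraMap R R') := by
      rw [ha, Ideal.map_span, Set.image_singleton, hxs,
        Ideal.span_singleton_mul_left_unit hs]
    have h5 := congrArg (Ideal.comap (algebraMap R R')) h4
    rwa [Ideal.comap_map_eq_self_of_faithfullyFlat,
      Ideal.comap_map_eq_self_of_faithfullyFlat] at h5

end Groth.Agent.S17722
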