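import Groth.Statements.S17725
import Mathlib

set_option autoImplicit false
universe u
open SpecSp

namespace Groth.Agent.S17725

open AlgebraicGeometry in
/-- In a connected Noetherian scheme any two points p, q are linked by a finite chain of points p = x₁,
…, xₙ = q such that for each i one of x_i, x_{i+1} is a specialization of the other; equivalently, p
and q are related by the equivalence relation generated by the specialization relation. -/
theorem result
    (X : Scheme.{u}) [IsNoetherian X] [ConnectedSpace X] (p q : X) :
    Relation.EqvGen (fun x y : X => x ⤳ y) p q := by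
  let R : X → X → Prop := Relation.EqvGen fun x y : X => x ⤳ y
  have hR : Equivalence R := Relation.EqvGen.is_equivalence _
  have hmem : ∀ Z ∈ irreducibleComponents (X : Type u), ∀ x ∈ Z, ∀ y ∈ Z, R x y := by
    intro Z hZ x hx y hy
    have hg := hZ.1.isGenericPoint_genericPoint (isClosed_of_mem_irreducibleComponents Z hZ)
    exact hR.trans (hR.symm (Relation.EqvGen.rel _ _ (hg.specializes hx))) (Relation.EqvGen.rel _ _ (hg.specializes hy))
  let S : Set X := {x | R p x}
  have hsat : ∀ T : Set X, (∀ x y, R x y → x ∈ T → y ∈ T) → IsClosed T := by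
    intro T hT
    have : T = ⋃ Z ∈ {Z ∈ irreducibleComponents (X : Type u) | (Z ∩ T).Nonempty}, Z := by
      ext x
      refine ⟨fun hx => Set.mem_iUnion₂.2 ⟨_, ⟨irreducibleComponent_mem_irreducibleComponents x,
        x, mem_irreducibleComponent, hx⟩, mem_irreducibleComponent⟩, fun hx => ?_⟩
      obtain ⟨Z, ⟨hZ, z, hzZ, hzT⟩, hxZ⟩ := Set.mem_iUnion₂.1 hx
      exact hT z x (hmem Z hZ z hzZ x hxZ) hzT
    rw [this]
    exact Set.Finite.isClosed_biUnion (TopologicalSpace.NoetherianSpace.finite_irreducibleComponents.subset fun Z hZ => hZ.1)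
      fun Z hZ => isClosed_of_mem_irreducibleComponents Z hZ.1
  have hS : IsClopen S := ⟨hsat S fun x y h hx => hR.trans hx h,
    isClosed_compl_iff.1 (hsat Sᶜ fun x y h hx hy => hx (hR.trans hy (hR.symm h)))⟩
  have hu := hS.eq_univ ⟨p, hR.refl p⟩
  exact hu.ge (Set.mem_univ q)

end Groth.Agent.S17725
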