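import Groth.Statements.S17726
import Mathlib.RingTheory.Ideal.Span
import Mathlib.Algebra.GroupWithZero.NonZeroDivisors

set_option autoImplicit false
universe u
open CAlg

namespace Groth.Agent.S17726

/-- Let f and g be non-zero-divisors of a commutative ring A, not both units; think of them as local
equations, at a point of the union of the supports, of two effective Cartier divisors E and D. If
the ideals generated by g^{m₁} and f^{n₁} coincide, and likewise for g^{m₂} and f^{n₂}, then m₁ n₂ =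
m₂ n₁. So all pairs (m, n) with m D = n E locally at the point are proportional, and the saturation
of the monoid they form is generated by a single element. -/
theorem result
    (A : Type u) [CommRing A] (f g : A)
    (hf : f ∈ nonZeroDivisors A) (hg : g ∈ nonZeroDivisors A) (hfg : ¬ (IsUnit f ∧ IsUnit g))
    (m₁ n₁ m₂ n₂ : ℕ)
    (h₁ : Ideal.span {g ^ m₁} = Ideal.span {f ^ n₁})
    (h₂ : Ideal.span {g ^ m₂} = Ideal.span {f ^ n₂}) :
    m₁ * n₂ = m₂ * n₁ := by
  have hassoc : ∀ a b : A, a ∈ nonZeroDivisors A → Ideal.span {a} = Ideal.span {b} → Associated a b := by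
    intro a b ha hab
    obtain ⟨c, hc⟩ := Ideal.mem_span_singleton'.1 (hab ▸ Ideal.mem_span_singleton_self a)
    obtain ⟨e, he⟩ := Ideal.mem_span_singleton'.1 (hab.symm ▸ Ideal.mem_span_singleton_self b)
    have h1 : a * (c * e - 1) = 0 := by rw [mul_sub, mul_one, mul_left_comm, mul_comm a e, he, hc, sub_self]
    have h2 : e * c = 1 := by rw [mul_comm]; exact sub_eq_zero.1 ((mem_nonZeroDivisors_iff.1 ha).1 _ h1)
    exact ⟨(IsUnit.of_mul_eq_one c h2).unit, by rw [IsUnit.unit_spec, mul_comm, he]⟩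
  replace h₁ := hassoc _ _ (pow_mem hg m₁) h₁
  replace h₂ := hassoc _ _ (pow_mem hg m₂) h₂
  have key : ∀ a b : ℕ, Associated (f ^ a) (f ^ b) → a < b → IsUnit f := by
    intro a b hab hlt
    obtain ⟨u, hu⟩ := hab.symm
    have h1 : f ^ a * (f ^ (b - a) * (u : A)) = f ^ a * 1 := by
      rw [← mul_assoc, ← pow_add, Nat.add_sub_cancel' hlt.le, hu, mul_one]
    have h2 := (mem_nonZeroDivisors_iff.1 (pow_mem hf a)).1 _ (show f ^ a * (f ^ (b - a) * (u : A) - 1) = 0 by rw [mul_sub, h1, sub_self])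
    exact (isUnit_pow_iff (Nat.sub_ne_zero_of_lt hlt)).1 (IsUnit.of_mul_eq_one _ (sub_eq_zero.1 h2))
  have h : Associated (f ^ (m₂ * n₁)) (f ^ (m₁ * n₂)) := by
    have e1 : Associated ((g ^ m₁) ^ m₂) ((f ^ n₁) ^ m₂) := h₁.pow_pow
    have e2 : Associated ((g ^ m₂) ^ m₁) ((f ^ n₂) ^ m₁) := h₂.pow_pow
    rw [← pow_mul, ← pow_mul, mul_comm n₁] at e1
    rw [← pow_mul, ← pow_mul, mul_comm n₂, mul_comm m₂ m₁] at e2
    exact e1.symm.trans e2
  by_contra hne
  have hfu : IsUnit f := (Nat.lt_or_gt_of_ne hne).elim (key _ _ h.symm) (key _ _ h)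
  have hg' : ∀ m n, Associated (g ^ m) (f ^ n) → m ≠ 0 → IsUnit g := fun m n ha hm =>
    (isUnit_pow_iff hm).1 (ha.symm.isUnit (hfu.pow n))
  rcases Nat.eq_zero_or_pos m₁ with h0 | h0
  · rcases Nat.eq_zero_or_pos m₂ with h0' | h0'
    · exact hne (by rw [h0, h0']; simp)
    · exact hfg ⟨hfu, hg' _ _ h₂ (by omega)⟩
  · exact hfg ⟨hfu, hg' _ _ h₁ (by omega)⟩

end Groth.Agent.S17726
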