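import Groth.Statements.S17727
import Mathlib
import Groth.Agent.S13106

set_option autoImplicit false
universe u
open Neron

namespace Groth.Agent.S17727

open CategoryTheory AlgebraicGeometry in
/-- Let f : E → S be a morphism of schemes and U ⊆ S a schematically dense open subscheme such that f
restricts to an isomorphism over U and the preimage of U is schematically dense in E. Then for every
section σ of f and every point s of S there is an open neighbourhood W of σ(s) in E on which f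
restricts to an open immersion. (The published statements conclude that the section lands in the
étale locus of f, in one published form for an algebraic space E, in another for f locally of finite
type over a Noetherian base; the affine-local argument gives the sharper conclusion recorded here,
for schemes.) -/
theorem result
    {E S : Scheme.{u}} (f : E ⟶ S) (U : S.Opens) (hU : CInt.IsSchematicallyDense U)
    (hiso : IsIso (morphismRestrict f U)) (hdense : CInt.IsSchematicallyDense (f ⁻¹ᵁ U))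
    (σ : S ⟶ E) (hσ : σ ≫ f = 𝟙 S) (s : S) :
    ∃ W : E.Opens, σ.base s ∈ W ∧ IsOpenImmersion (W.ι ≫ f) := by
  haveI := hiso
  obtain ⟨_, ⟨W0, hW0, rfl⟩, hsW0, -⟩ :=
    S.isBasis_affineOpens.exists_subset_of_mem_open (Set.mem_univ s) isOpen_univ
  have hσpt : ∀ x, f.base (σ.base x) = x := fun x => by
    rw [← Scheme.Hom.comp_apply, hσ]; rfl
  obtain ⟨_, ⟨V, hV, rfl⟩, hσV, hVW : V ≤ f ⁻¹ᵁ W0⟩ :=
    E.isBasis_affineOpens.exists_subset_of_mem_open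
      (show σ.base s ∈ f ⁻¹ᵁ W0 by show f.base (σ.base s) ∈ W0; rw [hσpt]; exact hsW0) (f ⁻¹ᵁ W0).2
  let D : S.Opens := W0 ⊓ σ ⁻¹ᵁ V
  let W : E.Opens := V ⊓ f ⁻¹ᵁ D
  have hsW : σ.base s ∈ W := ⟨hσV, by show f.base (σ.base s) ∈ D; rw [hσpt]; exact ⟨hsW0, hσV⟩⟩
  let g : (W : Scheme) ⟶ (D : Scheme) := f.resLE D W inf_le_right
  have hDW : D ≤ σ ⁻¹ᵁ W := fun x hx => ⟨hx.2, by show f.base (σ.base x) ∈ D; rw [hσpt]; exact hx⟩
  let τ : (D : Scheme) ⟶ (W : Scheme) := σ.resLE W D hDW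
  have hτg : τ ≫ g = 𝟙 _ := by
    rw [← cancel_mono D.ι, Category.assoc, Scheme.Hom.resLE_comp_ι, ← Category.assoc,
      Scheme.Hom.resLE_comp_ι, Category.assoc, hσ, Category.comp_id, Category.id_comp]
  haveI : IsAffine V := hV
  haveI : IsSeparated (W.ι ≫ f) := by
    rw [show W.ι ≫ f = E.homOfLE (inf_le_left : W ≤ V) ≫ f.resLE W0 V hVW ≫ Scheme.Opens.ι W0 by
      rw [Scheme.Hom.resLE_comp_ι, Scheme.homOfLE_ι_assoc]]
    haveI : IsAffine W0 := hW0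
    infer_instance
  have hagree : ∀ (O : (W : Scheme).Opens), O = W.ι ⁻¹ᵁ (f ⁻¹ᵁ U) →
      O.ι ≫ g ≫ τ = O.ι := by
    rintro O rfl
    rw [← cancel_mono W.ι, Category.assoc, Category.assoc, Scheme.Hom.resLE_comp_ι, ← Category.assoc g,
      Scheme.Hom.resLE_comp_ι, Category.assoc]
    set O := W.ι ⁻¹ᵁ (f ⁻¹ᵁ U)
    have hO : O ≤ W.ι ⁻¹ᵁ (f ⁻¹ᵁ U) := le_rfl
    let j : (O : Scheme) ⟶ ((f ⁻¹ᵁ U) : Scheme) := W.ι.resLE (f ⁻¹ᵁ U) O hO
    have hj : j ≫ (f ⁻¹ᵁ U).ι = O.ι ≫ W.ι := Scheme.Hom.resLE_comp_ι _ hO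
    rw [← reassoc_of% hj, ← hj]
    congr 1
    have hU2 : U ≤ σ ⁻¹ᵁ (f ⁻¹ᵁ U) := fun x hx => by show f.base (σ.base x) ∈ U; rw [hσpt]; exact hx
    have h2 : σ.resLE (f ⁻¹ᵁ U) U hU2 = inv (f ∣_ U) := by
      refine IsIso.eq_inv_of_inv_hom_id ?_
      rw [← cancel_mono U.ι, Category.assoc, morphismRestrict_ι, ← Category.assoc,
        Scheme.Hom.resLE_comp_ι, Category.assoc, hσ, Category.comp_id, Category.id_comp]
    rw [← morphismRestrict_ι_assoc, ← Scheme.Hom.resLE_comp_ι σ hU2, h2, IsIso.hom_inv_id_assoc]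
  have hdenseW : CInt.IsSchematicallyDense (W.ι ⁻¹ᵁ (f ⁻¹ᵁ U)) := by
    intro V'
    have h := hdense (W.ι ''ᵁ V')
    intro a b hab
    refine (ConcreteCategory.bijective_of_isIso (W.ι.appIso V').inv).1 (h ?_)
    have heq : W.ι ''ᵁ (V' ⊓ W.ι ⁻¹ᵁ (f ⁻¹ᵁ U)) = W.ι ''ᵁ V' ⊓ f ⁻¹ᵁ U := by
      ext x
      constructor
      · rintro ⟨y, ⟨hy1, hy2⟩, rfl⟩
        exact ⟨⟨y, hy1, rfl⟩, hy2⟩
      · rintro ⟨⟨y, hy, rfl⟩, hx⟩
        exact ⟨y, ⟨hy, hx⟩, rfl⟩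
    have key := congrArg (E.presheaf.map (eqToHom heq.symm).op).hom
      (congrArg (W.ι.appIso (V' ⊓ W.ι ⁻¹ᵁ (f ⁻¹ᵁ U))).inv hab)
    simp only [← CommRingCat.comp_apply, ← ConcreteCategory.comp_apply] at key ⊢
    rw [Scheme.Hom.appIso_inv_naturality, Category.assoc, ← Functor.map_comp] at key
    exact key
  haveI : IsIso ((W.ι ⁻¹ᵁ (f ⁻¹ᵁ U)).ι ∣_ (W.ι ⁻¹ᵁ (f ⁻¹ᵁ U))) := by
    refine isIso_of_isOpenImmersion_of_opensRange_eq_top _ ?_
    rw [← TopologicalSpace.Opens.coe_inj, TopologicalSpace.Opens.coe_top, Scheme.Hom.coe_opensRange,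
      Set.eq_univ_iff_forall]
    intro x
    refine ⟨⟨x, x.2⟩, ?_⟩
    apply (W.ι ⁻¹ᵁ (f ⁻¹ᵁ U)).ι.isOpenEmbedding.injective
    exact congrArg (fun k : (((W.ι ⁻¹ᵁ (f ⁻¹ᵁ U)).ι ⁻¹ᵁ (W.ι ⁻¹ᵁ (f ⁻¹ᵁ U)) : TopologicalSpace.Opens _) : Scheme) ⟶ _ =>
      k.base ⟨x, x.2⟩)
      (morphismRestrict_ι (W.ι ⁻¹ᵁ (f ⁻¹ᵁ U)).ι (W.ι ⁻¹ᵁ (f ⁻¹ᵁ U)))
  have hgτ : g ≫ τ = 𝟙 _ := by
    refine Groth.Agent.S13106.result (T := S) (W.ι ⁻¹ᵁ (f ⁻¹ᵁ U)).ι (W.ι ⁻¹ᵁ (f ⁻¹ᵁ U)) hdenseW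
      (W.ι ≫ f) _ _ ?_ ?_
    · rw [Category.id_comp, Category.assoc, Scheme.Hom.resLE_comp_ι_assoc, hσ, Category.comp_id,
        Scheme.Hom.resLE_comp_ι]
    · rw [hagree _ rfl, Category.comp_id]
  refine ⟨W, hsW, ?_⟩
  haveI : IsIso g := ⟨τ, hgτ, hτg⟩
  rw [show W.ι ≫ f = g ≫ D.ι from (Scheme.Hom.resLE_comp_ι f inf_le_right).symm]
  infer_instance

end Groth.Agent.S17727
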