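import Groth.Statements.S17728
import Groth.Agent.S0386
import Groth.Agent.SectExtU.Dense
import Mathlib.AlgebraicGeometry.Morphisms.FlatMono
-- import your own Groth.Agent.* helpers here

set_option autoImplicit false
universe u
open Neron

open CategoryTheory CategoryTheory.Limits AlgebraicGeometry
set_option linter.style.haveILetI false
set_option backward.isDefEq.respectTransparency false

namespace Groth.Agent.S17728

/-- a separated flat morphism which is a monomorphism on a schematically dense preimage is a monomorphism -/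
lemma mono_of_flat_dense {X Y : Scheme.{u}} (f : X ⟶ Y) [IsSeparated f] [Flat f] (U : Y.Opens)
    [QuasiCompact (f ⁻¹ᵁ U).ι] [IsSchemeTheoreticallyDominant (f ⁻¹ᵁ U).ι] [Mono ((f ⁻¹ᵁ U).ι ≫ f)] : Mono f := by
  let p := pullback.fst f f
  let D := p ⁻¹ᵁ (f ⁻¹ᵁ U)
  have : IsSchemeTheoreticallyDominant D.ι :=
    IsSchemeTheoreticallyDominant.of_isPullback (isPullback_morphismRestrict p (f ⁻¹ᵁ U))
  let a : D.toScheme ⟶ X := D.ι ≫ pullback.fst f f
  let b : D.toScheme ⟶ X := D.ι ≫ pullback.snd f f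
  have e : a ≫ f = b ≫ f := by simp [a, b, pullback.condition]
  have ha : ∀ z, a z ∈ f ⁻¹ᵁ U := fun z => z.2
  have hb : ∀ z, b z ∈ f ⁻¹ᵁ U := fun z => by
    show f (b z) ∈ U
    rw [← Scheme.Hom.comp_apply, ← e, Scheme.Hom.comp_apply]
    exact ha z
  have hab : a = b := by
    have hr : ∀ c : D.toScheme ⟶ X, (∀ z, c z ∈ f ⁻¹ᵁ U) → Set.range c ⊆ Set.range (f ⁻¹ᵁ U).ι := fun c hc => by
      rw [Scheme.Opens.range_ι]
      rintro _ ⟨z, rfl⟩
      exact hc z
    rw [← IsOpenImmersion.lift_fac (f ⁻¹ᵁ U).ι a (hr a ha), ← IsOpenImmersion.lift_fac (f ⁻¹ᵁ U).ι b (hr b hb)]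
    congr 1
    rw [← cancel_mono ((f ⁻¹ᵁ U).ι ≫ f), IsOpenImmersion.lift_fac_assoc, IsOpenImmersion.lift_fac_assoc, e]
  have hl : a ≫ pullback.diagonal f = D.ι := by
    apply pullback.hom_ext
    · simp [a]
    · rw [Category.assoc, pullback.diagonal_snd, Category.comp_id, hab]
  have hker : (pullback.diagonal f).ker = ⊥ := by
    refine le_bot_iff.1 (le_trans (Scheme.Hom.le_ker_comp a _) ?_)
    rw [hl, D.ι.ker_eq_bot]
  have : IsIso (pullback.diagonal f) := IsClosedImmersion.isIso_iff_ker_eq_bot.2 hker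
  exact (pullback.isIso_diagonal_iff f).1 this

open CategoryTheory AlgebraicGeometry in
/-- Let S be a Noetherian scheme, U ⊆ S a dense open subscheme and f : X → S a morphism locally of
finite type which restricts to an isomorphism over U and for which the preimage of U is
schematically dense in X. For a point x of X the following are equivalent: f is étale on some open
neighbourhood of x; f is flat at x, that is, the local ring of X at x is flat over the local ring of
S at f(x); some open neighbourhood V of f(x) carries a section σ of f over V passing through x. -/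
theorem result
    {X S : Scheme.{u}} [IsNoetherian S] (f : X ⟶ S) [LocallyOfFiniteType f]
    (U : S.Opens) (hU : Dense (U : Set S))
    (hiso : IsIso (morphismRestrict f U)) (hdense : CInt.IsSchematicallyDense (f ⁻¹ᵁ U))
    (x : X) :
    List.TFAE [
      ∃ W : X.Opens, x ∈ W ∧ Etale (W.ι ≫ f),
      (f.stalkMap x).hom.Flat,
      ∃ (V : S.Opens) (hV : f.base x ∈ V) (σ : (V : Scheme.{u}) ⟶ X),
        σ ≫ f = V.ι ∧ σ.base ⟨f.base x, hV⟩ = x] := by
  haveI := hiso
  haveI : IsLocallyNoetherian X := LocallyOfFiniteType.isLocallyNoetherian f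
  haveI : LocallyOfFinitePresentation f := inferInstance
  haveI hqc : QuasiCompact (f ⁻¹ᵁ U).ι := inferInstance
  haveI : IsSchemeTheoreticallyDominant (f ⁻¹ᵁ U).ι := ⟨SectExtU.ker_ι_eq_bot hdense⟩
  haveI : Mono ((f ⁻¹ᵁ U).ι ≫ f) := by rw [← morphismRestrict_ι]; infer_instance
  have hmono : ∀ {T : Scheme.{u}} (a b : T ⟶ X), a ≫ f = b ≫ f → (∀ z, a z ∈ f ⁻¹ᵁ U) → a = b := by
    intro T a b e ha
    have hb : ∀ z, b z ∈ f ⁻¹ᵁ U := fun z => by
      show f (b z) ∈ U
      rw [← Scheme.Hom.comp_apply, ← e, Scheme.Hom.comp_apply]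
      exact ha z
    have hr : ∀ c : T ⟶ X, (∀ z, c z ∈ f ⁻¹ᵁ U) → Set.range c ⊆ Set.range (f ⁻¹ᵁ U).ι := fun c hc => by
      rw [Scheme.Opens.range_ι]
      rintro _ ⟨z, rfl⟩
      exact hc z
    rw [← IsOpenImmersion.lift_fac (f ⁻¹ᵁ U).ι a (hr a ha), ← IsOpenImmersion.lift_fac (f ⁻¹ᵁ U).ι b (hr b hb)]
    congr 1
    rw [← cancel_mono ((f ⁻¹ᵁ U).ι ≫ f), IsOpenImmersion.lift_fac_assoc, IsOpenImmersion.lift_fac_assoc, e]
  have hdom : ∀ W : X.Opens, IsSchemeTheoreticallyDominant (W.ι ⁻¹ᵁ (f ⁻¹ᵁ U)).ι := fun W =>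
    IsSchemeTheoreticallyDominant.of_isPullback (isPullback_morphismRestrict W.ι (f ⁻¹ᵁ U))
  tfae_have 1 → 2 := by
    rintro ⟨W, hxW, hW⟩
    haveI := hW
    have h := Flat.stalkMap (W.ι ≫ f) ⟨x, hxW⟩
    rw [Scheme.Hom.stalkMap_comp] at h
    exact ((RingHom.Flat.respectsIso.cancel_right_isIso _ (W.ι.stalkMap ⟨x, hxW⟩)).1 h :)
  tfae_have 2 → 3 := by
    intro h
    obtain ⟨W, hW, hxW, hWO⟩ := exists_isAffineOpen_mem_and_subset (X := X) (x := x)
      (U := ⟨_, S0386.result f⟩) h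
    haveI : IsAffine (W : Scheme.{u}) := hW
    haveI : Flat (W.ι ≫ f) := (Flat.iff_flat_stalkMap _).2 fun w => by
      rw [Scheme.Hom.stalkMap_comp]
      exact (RingHom.Flat.respectsIso.cancel_right_isIso _ (W.ι.stalkMap w)).2 (hWO w.2)
    haveI : IsSeparated (W.ι ≫ f) := inferInstance
    haveI : IsSchemeTheoreticallyDominant ((W.ι ≫ f) ⁻¹ᵁ U).ι := hdom W
    haveI : QuasiCompact ((W.ι ≫ f) ⁻¹ᵁ U).ι := inferInstance
    haveI : Mono (((W.ι ≫ f) ⁻¹ᵁ U).ι ≫ W.ι ≫ f) := ⟨fun {T} a b e => by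
      rw [← cancel_mono (((W.ι ≫ f) ⁻¹ᵁ U).ι ≫ W.ι)]
      exact hmono _ _ (by simpa only [Category.assoc] using e) fun z => (a z).2⟩
    haveI : Mono (W.ι ≫ f) := mono_of_flat_dense _ U
    haveI : IsOpenImmersion (W.ι ≫ f) := IsOpenImmersion.of_flat_of_mono _
    let V := (W.ι ≫ f).opensRange
    let e := (W.ι ≫ f).isoOpensRange
    refine ⟨V, ⟨⟨x, hxW⟩, rfl⟩, e.inv ≫ W.ι, ?_, ?_⟩
    · rw [Category.assoc, Scheme.Hom.isoOpensRange_inv_comp]
    · have he : e.inv ⟨f x, ⟨⟨x, hxW⟩, rfl⟩⟩ = ⟨x, hxW⟩ := by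
        apply (W.ι ≫ f).isOpenEmbedding.injective
        rw [← Scheme.Hom.comp_apply e.inv, Scheme.Hom.isoOpensRange_inv_comp]
        rfl
      exact (congrArg W.ι he :)
  tfae_have 3 → 1 := by
    rintro ⟨V, hV, σ, hσ, hσx⟩
    haveI : IsImmersion (σ ≫ f) := by rw [hσ]; infer_instance
    haveI : IsImmersion σ := IsImmersion.of_comp σ f
    let W := σ.coborderRange ⊓ f ⁻¹ᵁ V
    have hrange : ∀ v, σ v ∈ W := fun v =>
      ⟨by
          have h := (σ.liftCoborder v).2
          have e : σ.coborderRange.ι (σ.liftCoborder v) = σ v := by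
            rw [← Scheme.Hom.comp_apply, σ.liftCoborder_ι]
          exact e ▸ h,
        by show f (σ v) ∈ V; rw [← Scheme.Hom.comp_apply, hσ]; exact v.2⟩
    refine ⟨W, hσx ▸ hrange _, ?_⟩
    let l : (V : Scheme.{u}) ⟶ (W : Scheme.{u}) := IsOpenImmersion.lift W.ι σ (by
      rw [Scheme.Opens.range_ι]
      rintro _ ⟨v, rfl⟩
      exact hrange v)
    have hl : l ≫ W.ι = σ := IsOpenImmersion.lift_fac _ _ _
    haveI : IsClosedImmersion l := by
      have : l ≫ X.homOfLE inf_le_left = σ.liftCoborder := by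
        rw [← cancel_mono σ.coborderRange.ι, Category.assoc, Scheme.homOfLE_ι, hl, Scheme.Hom.liftCoborder_ι]
      haveI : IsClosedImmersion (l ≫ X.homOfLE (inf_le_left : W ≤ σ.coborderRange)) := by
        rw [this]; infer_instance
      exact IsClosedImmersion.of_comp l (X.homOfLE (inf_le_left : W ≤ σ.coborderRange))
    let D := W.ι ⁻¹ᵁ (f ⁻¹ᵁ U)
    haveI : IsSchemeTheoreticallyDominant D.ι := hdom W
    let c : (D : Scheme.{u}) ⟶ (V : Scheme.{u}) := IsOpenImmersion.lift V.ι (D.ι ≫ W.ι ≫ f) (by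
      rw [Scheme.Opens.range_ι]
      rintro _ ⟨z, rfl⟩
      show f (W.ι (D.ι z)) ∈ V
      exact (D.ι z).2.2)
    have hc : c ≫ l = D.ι := by
      rw [← cancel_mono W.ι, Category.assoc, hl]
      refine (hmono (D.ι ≫ W.ι) (c ≫ σ) ?_ fun z => z.2).symm
      rw [Category.assoc, Category.assoc, hσ, IsOpenImmersion.lift_fac]
    haveI : IsIso l := IsClosedImmersion.isIso_iff_ker_eq_bot.2 (le_bot_iff.1
      ((Scheme.Hom.le_ker_comp c l).trans (by rw [hc, D.ι.ker_eq_bot])))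
    have : W.ι ≫ f = inv l ≫ V.ι := by
      rw [IsIso.eq_inv_comp, ← Category.assoc, hl, hσ]
    rw [this]
    infer_instance
  tfae_finish

end Groth.Agent.S17728
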