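import Groth.Statements.S17731
import Groth.Agent.NeronBij.Basic

set_option autoImplicit false
set_option backward.isDefEq.respectTransparency false
set_option linter.style.haveILetI false
universe u
open Neron

namespace Groth.Agent.S17731

open CategoryTheory AlgebraicGeometry in
/-- Let S be a scheme, U ⊆ S a schematically dense open subscheme and N → S a smooth S-scheme having
uniqueness in the Néron mapping property with respect to U: for every smooth S-scheme Y, restriction
to U is injective on S-morphisms Y → N. Then for every smooth morphism g : S' → S the base change N
×_S S' → S' has uniqueness in the Néron mapping property with respect to g⁻¹(U): for every smooth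
S'-scheme Y', restriction to g⁻¹(U) is injective on S'-morphisms Y' → N ×_S S'. (The published
statement is for models which are algebraic spaces, tested against smooth algebraic spaces; this row
states the case of a scheme model tested against smooth schemes. The companion assertion that Néron
models are preserved by smooth base change is not restated here.) -/
theorem result
    {S S' : Scheme.{u}} (g : S' ⟶ S) [Smooth g]
    (U : S.Opens) (hU : CInt.IsSchematicallyDense U) (N : Over S) [Smooth N.hom]
    (hN : ∀ Y : Over S, Smooth Y.hom →
      Function.Injective (fun f : Y ⟶ N => (Over.pullback U.ι).map f))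
    (Y' : Over S') [Smooth Y'.hom] :
    Function.Injective (fun f : Y' ⟶ (Over.pullback g).obj N => (Over.pullback (g ⁻¹ᵁ U).ι).map f) := by
  rw [Groth.Agent.NeronBij.injective_iff]
  intro P a b hP g₁ g₂ h₁ h₂ e
  haveI : Smooth (Over.mk (Y'.hom ≫ g)).hom := inferInstanceAs (Smooth (Y'.hom ≫ g))
  have key := (Groth.Agent.NeronBij.injective_iff _ (Over.mk (Y'.hom ≫ g)) N).mp (hN _ this) P a _
    (Groth.Agent.NeronBij.isPullback_comp g U Y' hP) (g₁ ≫ Limits.pullback.fst N.hom g) (g₂ ≫ Limits.pullback.fst N.hom g)
    (by rw [Category.assoc, Limits.pullback.condition, reassoc_of% (show g₁ ≫ Limits.pullback.snd N.hom g = Y'.hom from h₁)]; rfl)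
    (by rw [Category.assoc, Limits.pullback.condition, reassoc_of% (show g₂ ≫ Limits.pullback.snd N.hom g = Y'.hom from h₂)]; rfl) (by rw [← Category.assoc, e, Category.assoc])
  exact Limits.pullback.hom_ext key (h₁.trans h₂.symm)

end Groth.Agent.S17731
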