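import Groth.Statements.S17732
-- import your own Groth.Agent.* helpers here

set_option autoImplicit false
universe u
open CDiv

namespace Groth.Agent.S17732

section Aux

open AlgebraicGeometry CategoryTheory

variable {X : Scheme.{u}}

theorem eq_of_le {I J : X.IdealSheafData} {U W : X.affineOpens} (h : (W : X.Opens) ≤ U) {m n : ℕ}
    (he : I.ideal U ^ m = J.ideal U ^ n) : I.ideal W ^ m = J.ideal W ^ n := by
  rw [← I.map_ideal h, ← J.map_ideal h, ← Ideal.map_pow, ← Ideal.map_pow, he]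

/-- At a support point of a locally principal ideal, exponents are determined. -/
theorem exp_eq {D : X.IdealSheafData}
    (hD : ∀ x : X, ∃ U : X.affineOpens, x ∈ (U : X.Opens) ∧ ∃ g : Γ(X, U), g ∈ nonZeroDivisors Γ(X, U) ∧ D.ideal U = Ideal.span {g})
    {x : X} (hx : x ∈ D.support) {U : X.affineOpens} (hxU : x ∈ (U : X.Opens)) {a b : ℕ}
    (he : D.ideal U ^ a = D.ideal U ^ b) : a = b := by
  obtain ⟨V, hxV, g, hg, hgV⟩ := hD x
  obtain ⟨f, hfle, hxf⟩ := V.2.exists_basicOpen_le (V := (U : X.Opens)) ⟨x, hxU⟩ hxV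
  let W : X.affineOpens := ⟨X.basicOpen f, V.2.basicOpen f⟩
  have he' : D.ideal W ^ a = D.ideal W ^ b := eq_of_le (I := D) (J := D) (U := U) (W := W) hfle he
  have hle : (W : X.Opens) ≤ V := X.basicOpen_le f
  let ρ := (X.presheaf.map (homOfLE hle).op).hom
  have hW : D.ideal W = Ideal.span {ρ g} := by
    rw [← D.map_ideal hle, hgV, Ideal.map_span, Set.image_singleton]
    rfl
  have hreg : ρ g ∈ nonZeroDivisors Γ(X, W) := by
    haveI := V.2.isLocalization_basicOpen f
    exact IsLocalization.map_nonZeroDivisors_le (Submonoid.powers f) Γ(X, X.basicOpen f)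
      (Submonoid.mem_map.mpr ⟨g, hg, rfl⟩)
  have hxW : x ∈ X.zeroLocus (U := W.1) (D.ideal W) := (D.mem_support_iff_of_mem (U := W) hxf).mp hx
  have hnu : ¬ IsUnit (ρ g) := fun hu => by
    have h1 := (X.mem_zeroLocus_iff _ x).mp hxW (ρ g) (by rw [hW]; exact Ideal.mem_span_singleton_self _)
    rw [X.basicOpen_of_isUnit hu] at h1
    exact h1 hxf
  rw [hW, Ideal.span_singleton_pow, Ideal.span_singleton_pow] at he'
  by_contra hab
  wlog hlt : a < b generalizing a b
  · exact this he.symm he'.symm (Ne.symm hab) (lt_of_le_of_ne (not_lt.mp hlt) (Ne.symm hab))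
  obtain ⟨c, hc⟩ := Ideal.mem_span_singleton'.mp (he'.le (Ideal.mem_span_singleton_self (ρ g ^ a)))
  obtain ⟨d, rfl⟩ := Nat.exists_eq_add_of_lt hlt
  have h1 : (c * ρ g ^ (d + 1) - 1) * ρ g ^ a = 0 := by
    linear_combination hc
  have h2 := (mem_nonZeroDivisors_iff_right.mp (pow_mem hreg a)) _ h1
  exact hnu ((isUnit_pow_iff (Nat.succ_ne_zero d)).mp (.of_mul_eq_one c ((mul_comm _ c).trans (sub_eq_zero.mp h2))))

theorem exists_top_nhd {D : X.IdealSheafData} {x : X} (hx : x ∉ D.support) (U : X.affineOpens)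
    (hxU : x ∈ (U : X.Opens)) :
    ∃ W : X.affineOpens, x ∈ (W : X.Opens) ∧ (W : X.Opens) ≤ U ∧ D.ideal W = ⊤ := by
  rw [D.mem_support_iff_of_mem hxU, X.mem_zeroLocus_iff] at hx
  push Not at hx
  obtain ⟨a, ha, hxa⟩ := hx
  refine ⟨⟨X.basicOpen a, U.2.basicOpen a⟩, hxa, X.basicOpen_le a, ?_⟩
  rw [← D.map_ideal (U := ⟨X.basicOpen a, U.2.basicOpen a⟩) (X.basicOpen_le a)]
  exact Ideal.eq_top_of_isUnit_mem _ (Ideal.mem_map_of_mem _ ha)
    (AlgebraicGeometry.RingedSpace.isUnit_res_basicOpen X.toRingedSpace a)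

end Aux


open AlgebraicGeometry in
/-- Let X be a Noetherian scheme and D, E effective Cartier divisors on X, encoded by their ideal
sheaves, each locally generated on an affine open by a single non-zero-divisor. Assume that the
union of the supports of D and E is connected (or empty) and that every point of X has an affine
open neighbourhood on which the m-th power of the ideal of D equals the n-th power of the ideal of E
for some (m, n) ≠ (0, 0). Then there is a pair (m, n) ≠ (0, 0) for which this equality holds on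
every affine open of X, that is, m D = n E globally. -/
theorem result
    (X : Scheme.{u}) [IsNoetherian X] (D E : X.IdealSheafData)
    (hD : (∀ x : X, ∃ U : X.affineOpens, x ∈ (U : X.Opens) ∧ ∃ g : Γ(X, U), g ∈ nonZeroDivisors Γ(X, U) ∧ D.ideal U = Ideal.span {g}))
    (hE : (∀ x : X, ∃ U : X.affineOpens, x ∈ (U : X.Opens) ∧ ∃ g : Γ(X, U), g ∈ nonZeroDivisors Γ(X, U) ∧ E.ideal U = Ideal.span {g}))
    (hconn : IsPreconnected ((D.support : Set X) ∪ (E.support : Set X)))
    (hloc : ∀ x : X, ∃ U : X.affineOpens, x ∈ (U : X.Opens) ∧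
      ∃ m n : ℕ, (m, n) ≠ (0, 0) ∧ D.ideal U ^ m = E.ideal U ^ n) :
    ∃ m n : ℕ, (m, n) ≠ (0, 0) ∧ ∀ U : X.affineOpens, D.ideal U ^ m = E.ideal U ^ n := by
  classical
  choose U hxU m n hne heq using hloc
  by_cases hS : ((D.support : Set X) ∪ (E.support : Set X)) = ∅
  · rw [Set.union_empty_iff] at hS
    have hDt : D = ⊤ := (D.support_eq_bot_iff).mp (SetLike.coe_injective (by simpa using hS.1))
    refine ⟨1, 0, by simp, fun V => ?_⟩
    simp [hDt]
  obtain ⟨x₀, hx₀⟩ := Set.nonempty_iff_ne_empty.mpr hS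
  set S := (D.support : Set X) ∪ (E.support : Set X) with hSdef
  set m₀ := m x₀
  set n₀ := n x₀
  have prop : ∀ x ∈ S, ∀ x', x ∈ (U x' : X.Opens) → m x * n x' = m x' * n x := by
    intro x hx x' hx'
    obtain ⟨f, hfle, hxf⟩ := (U x).2.exists_basicOpen_le (V := (U x' : X.Opens)) ⟨x, hx'⟩ (hxU x)
    let W : X.affineOpens := ⟨X.basicOpen f, (U x).2.basicOpen f⟩
    have e₁ := eq_of_le (U := U x) (W := W) (X.basicOpen_le f) (heq x)
    have e₂ := eq_of_le (U := U x') (W := W) hfle (heq x')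
    rcases hx with hx | hx
    · refine exp_eq hD hx (U := W) hxf ?_
      rw [pow_mul, pow_mul, e₁, e₂, ← pow_mul, ← pow_mul, mul_comm]
    · have h' : n x * m x' = n x' * m x := exp_eq hE hx (U := W) hxf (by
        rw [pow_mul, pow_mul, ← e₁, ← e₂, ← pow_mul, ← pow_mul, mul_comm])
      linarith
  have trans : ∀ a b c, m a * n b = m b * n a → m b * n c = m c * n b → m a * n c = m c * n a := by
    intro a b c h1 h2
    have hb : ¬ (m b = 0 ∧ n b = 0) := fun h => hne b (Prod.ext h.1 h.2)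
    rcases Nat.eq_zero_or_pos (m b) with hm | hm
    · have hn : 0 < n b := Nat.pos_of_ne_zero fun h => hb ⟨hm, h⟩
      rw [hm, zero_mul] at h1 h2
      have ha : m a = 0 := (Nat.mul_eq_zero.mp h1).resolve_right hn.ne'
      have hc : m c = 0 := (Nat.mul_eq_zero.mp h2.symm).resolve_right hn.ne'
      simp [ha, hc]
    · apply Nat.eq_of_mul_eq_mul_left hm
      calc m b * (m a * n c) = m a * (m b * n c) := by ring
        _ = m a * (m c * n b) := by rw [h2]
        _ = m c * (m a * n b) := by ring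
        _ = m c * (m b * n a) := by rw [h1]
        _ = m b * (m c * n a) := by ring
  have good : ∀ x ∈ S, m₀ * n x = m x * n₀ := by
    by_contra hbad
    push Not at hbad
    obtain ⟨y, hy, hy'⟩ := hbad
    let u : Set X := ⋃ x ∈ {x | x ∈ S ∧ m₀ * n x = m x * n₀}, ((U x : X.Opens) : Set X)
    let v : Set X := ⋃ x ∈ {x | x ∈ S ∧ ¬ m₀ * n x = m x * n₀}, ((U x : X.Opens) : Set X)
    obtain ⟨z, hzS, hzu, hzv⟩ := hconn u v (isOpen_biUnion fun x _ => (U x : X.Opens).2)
      (isOpen_biUnion fun x _ => (U x : X.Opens).2)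
      (fun x hx => by
        by_cases h : m₀ * n x = m x * n₀
        · exact Or.inl (Set.mem_biUnion (show x ∈ {x | x ∈ S ∧ m₀ * n x = m x * n₀} from ⟨hx, h⟩) (hxU x))
        · exact Or.inr (Set.mem_biUnion (show x ∈ {x | x ∈ S ∧ ¬ m₀ * n x = m x * n₀} from ⟨hx, h⟩) (hxU x)))
      ⟨x₀, hx₀, Set.mem_biUnion (show x₀ ∈ {x | x ∈ S ∧ m₀ * n x = m x * n₀} from ⟨hx₀, rfl⟩) (hxU x₀)⟩
      ⟨y, hy, Set.mem_biUnion (show y ∈ {x | x ∈ S ∧ ¬ m₀ * n x = m x * n₀} from ⟨hy, hy'⟩) (hxU y)⟩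
    obtain ⟨a, ⟨-, ha⟩, hza⟩ := Set.mem_iUnion₂.mp hzu
    obtain ⟨b, ⟨-, hb⟩, hzb⟩ := Set.mem_iUnion₂.mp hzv
    exact hb (trans x₀ a b ha (trans a z b (prop z hzS a hza).symm (prop z hzS b hzb)))
  have hloc' : ∀ x : X, ∃ (W : X.affineOpens) (N : ℕ), x ∈ (W : X.Opens) ∧ 0 < N ∧
      D.ideal W ^ (N * m₀) = E.ideal W ^ (N * n₀) := by
    intro x
    by_cases hx : x ∈ S
    · refine ⟨U x, m x + n x, hxU x, Nat.pos_of_ne_zero fun h => hne x (Prod.ext (by show m x = 0; omega) (by show n x = 0; omega)), ?_⟩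
      have h := good x hx
      have h1 : (m x + n x) * m₀ = m x * (m₀ + n₀) := by nlinarith
      have h2 : (m x + n x) * n₀ = n x * (m₀ + n₀) := by nlinarith
      rw [h1, h2, pow_mul, pow_mul, heq x]
    · rw [hSdef, Set.mem_union, not_or] at hx
      obtain ⟨W₁, hx₁, -, hD₁⟩ := exists_top_nhd hx.1 (U x) (hxU x)
      obtain ⟨W₂, hx₂, hle, hE₂⟩ := exists_top_nhd hx.2 W₁ hx₁
      have hD₂ : D.ideal W₂ = ⊤ := by rw [← D.map_ideal hle, hD₁, Ideal.map_top]
      exact ⟨W₂, 1, hx₂, one_pos, by rw [hD₂, hE₂]; simp [← Ideal.one_eq_top]⟩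
  choose W N hxW hN hWeq using hloc'
  obtain ⟨t, ht⟩ := isCompact_univ.elim_finite_subcover (fun x => ((W x : X.Opens) : Set X))
    (fun x => (W x : X.Opens).2) (fun x _ => Set.mem_iUnion.mpr ⟨x, hxW x⟩)
  let L := ∏ x ∈ t, N x
  have hL : 0 < L := Finset.prod_pos fun x _ => hN x
  refine ⟨L * m₀, L * n₀, ?_, ?_⟩
  · intro h
    simp only [Prod.mk.injEq, Nat.mul_eq_zero, hL.ne', false_or] at h
    exact hne x₀ (Prod.ext h.1 h.2)
  have hglob : D ^ (L * m₀) = E ^ (L * n₀) := by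
    refine Scheme.IdealSheafData.ext_of_iSup_eq_top (fun x : t => W x.1) ?_ fun x => ?_
    · refine top_le_iff.mp fun x _ => ?_
      obtain ⟨i, hi, hxi⟩ := Set.mem_iUnion₂.mp (ht (Set.mem_univ x))
      exact TopologicalSpace.Opens.mem_iSup.mpr ⟨⟨i, hi⟩, hxi⟩
    · obtain ⟨c, hc⟩ := Finset.dvd_prod_of_mem N x.2
      simp only [Scheme.IdealSheafData.ideal_pow, Pi.pow_apply]
      rw [show L * m₀ = N x.1 * m₀ * c by rw [show L = N x.1 * c from hc]; ring,
        show L * n₀ = N x.1 * n₀ * c by rw [show L = N x.1 * c from hc]; ring, pow_mul, hWeq, ← pow_mul]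
  intro V
  simpa using congrArg (fun I : X.IdealSheafData => I.ideal V) hglob

end Groth.Agent.S17732
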