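import Groth.Statements.S17733
import Groth.Agent.CartierPullEq.Basic

set_option autoImplicit false
universe u
open CDiv

namespace Groth.Agent.S17733

open CategoryTheory AlgebraicGeometry in
/-- Let S be a locally Noetherian normal scheme (every local ring an integrally closed domain), f : S' →
S a proper morphism whose scheme-theoretic image is S (its kernel ideal sheaf is zero), and U ⊆ S a
schematically dense open subscheme such that f⁻¹(U) is also schematically dense in S'. Suppose D and
E are effective Cartier divisors of S, encoded by ideal sheaves each locally generated on an affine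
open by one non-zero-divisor, with supports disjoint from U. If the pulled-back ideal sheaves of D
and E along f coincide, then D = E. -/
theorem result
    {S S' : Scheme.{u}} [IsLocallyNoetherian S]
    (hnorm : ∀ x : S, IsDomain (S.presheaf.stalk x) ∧ IsIntegrallyClosed (S.presheaf.stalk x))
    (f : S' ⟶ S) [IsProper f] (hdom : f.ker = ⊥)
    (U : S.Opens) (hU : CInt.IsSchematicallyDense U) (hU' : CInt.IsSchematicallyDense (f ⁻¹ᵁ U))
    (D E : S.IdealSheafData)
    (hD : (∀ x : S, ∃ U : S.affineOpens, x ∈ (U : S.Opens) ∧ ∃ g : Γ(S, U), g ∈ nonZeroDivisors Γ(S, U) ∧ D.ideal U = Ideal.span {g}))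
    (hE : (∀ x : S, ∃ U : S.affineOpens, x ∈ (U : S.Opens) ∧ ∃ g : Γ(S, U), g ∈ nonZeroDivisors Γ(S, U) ∧ E.ideal U = Ideal.span {g}))
    (hDU : (D.support : Set S) ⊆ (U : Set S)ᶜ) (hEU : (E.support : Set S) ⊆ (U : Set S)ᶜ)
    (h : D.comap f = E.comap f) : D = E := by
  have hsurj : Function.Surjective f.base := by
    have h1 : closure (Set.range f.base) = Set.univ := by
      have h0 : (f.ker.support : Set S) = closure (Set.range f.base) := f.support_ker
      rw [← h0, hdom, Scheme.IdealSheafData.support_bot]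
      rfl
    rw [f.isClosedMap.isClosed_range.closure_eq] at h1
    exact Set.range_eq_univ.1 h1
  have key : ∀ x : S, ∃ V : S.affineOpens, x ∈ (V : S.Opens) ∧ D.ideal V = E.ideal V := by
    intro x
    obtain ⟨V₁, hx₁, g, hg, hgD⟩ := hD x
    obtain ⟨V₂, hx₂, g', hg', hgE⟩ := hE x
    obtain ⟨a, b, hab, hxa⟩ := exists_basicOpen_le_affine_inter V₁.2 V₂.2 x ⟨hx₁, hx₂⟩
    let V : S.affineOpens := ⟨S.basicOpen a, V₁.2.basicOpen a⟩
    have hV₁ : V ≤ V₁ := S.basicOpen_le a
    have hV₂ : V ≤ V₂ := hab.trans_le (S.basicOpen_le b)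
    have h1 : D.ideal V = Ideal.span {S.presheaf.map (homOfLE hV₁).op g} := by
      rw [← D.map_ideal hV₁, hgD, Ideal.map_span, Set.image_singleton]
    have h2 : E.ideal V = Ideal.span {S.presheaf.map (homOfLE hV₂).op g'} := by
      rw [← E.map_ideal hV₂, hgE, Ideal.map_span, Set.image_singleton]
    have hn1 : S.presheaf.map (homOfLE hV₁).op g ∈ nonZeroDivisors Γ(S, V) :=
      CartierPullEq.map_mem_nonZeroDivisors V₁ a hV₁ hg
    have hn2 : S.presheaf.map (homOfLE hV₂).op g' ∈ nonZeroDivisors Γ(S, V) := by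
      have := CartierPullEq.map_mem_nonZeroDivisors V₂ b (S.basicOpen_le b) hg'
      exact CartierPullEq.mem_nonZeroDivisors_congr (S.basicOpen_le b) hV₂ hab this
    refine ⟨V, hxa, le_antisymm ?_ ?_⟩
    · rw [h1, h2, Ideal.span_singleton_le_span_singleton]
      exact CartierPullEq.le_of_comap_eq f U hU' hsurj hnorm hEU hDU h.symm V h2 h1 hn2
    · rw [h1, h2, Ideal.span_singleton_le_span_singleton]
      exact CartierPullEq.le_of_comap_eq f U hU' hsurj hnorm hDU hEU h V h1 h2 hn1
  choose V hV hVeq using key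
  exact Scheme.IdealSheafData.ext_of_iSup_eq_top V
    (eq_top_iff.2 fun x _ => TopologicalSpace.Opens.mem_iSup.2 ⟨x, hV x⟩) hVeq

end Groth.Agent.S17733
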