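import Groth.Statements.S17734
import Groth.Agent.W7Hull.NearLimit
import Groth.Agent.W7Hull.InvNear
import Groth.Agent.ModDesc.Descent
import Groth.Agent.ModDesc.LocFreeDesc
import Groth.Agent.ParaFLib.Ext
import Groth.Agent.ZeroSch.Basic
import Groth.Agent.CurveRR.Curve

set_option autoImplicit false
universe u
open PicF

set_option backward.isDefEq.respectTransparency false
set_option backward.isDefEq.respectTransparency.types false

namespace Groth.Agent.S17734

open CategoryTheory AlgebraicGeometry Limits in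
/-- Let f : X → S be a proper morphism of finite presentation, s a point of S, and L an invertible
module on the base change X^s of X to the spectrum of the local ring of S at s. Then there are an
open neighbourhood V of s in S and an invertible module L' on the open subscheme f⁻¹(V) = X ×_S V
such that the pullback of L' along the canonical morphism X^s → f⁻¹(V) (the unique one compatible
with the projection X^s → X) is isomorphic to L. -/
theorem result
    {X S : Scheme.{u}} (f : X ⟶ S) [IsProper f] [LocallyOfFinitePresentation f] (s : S)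
    (L : (pullback f (S.fromSpecStalk s)).Modules) (hL : PicF.IsInvertible L) :
    ∃ (V : S.Opens) (_ : s ∈ V) (L' : (↑(f ⁻¹ᵁ V) : Scheme.{u}).Modules), PicF.IsInvertible L' ∧
      ∀ (ι : pullback f (S.fromSpecStalk s) ⟶ ↑(f ⁻¹ᵁ V)),
        ι ≫ (f ⁻¹ᵁ V).ι = pullback.fst f (S.fromSpecStalk s) →
        Nonempty ((Scheme.Modules.pullback ι).obj L' ≅ L) := by
  let V₀ : Groth.Agent.W7Hull.NearLimit.Idx s := Classical.arbitrary _
  let D := Groth.Agent.W7Hull.NearLimit.diag f s
  let c := Groth.Agent.W7Hull.NearLimit.cone f s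
  haveI : ∀ V : Groth.Agent.W7Hull.NearLimit.Idx s, CompactSpace ↑(D.obj V) := fun V =>
    isCompact_iff_compactSpace.1 (f.isCompact_preimage V.2.1.isCompact)
  haveI : QuasiSeparatedSpace ↑(D.obj V₀) := by
    haveI : IsAffine (V₀.1 : Scheme.{u}) := V₀.2.1
    exact quasiSeparatedSpace_of_quasiSeparated (f ∣_ V₀.1)
  haveI : Coh.IsQCoh (X := c.pt) L := TMul.isQCoh_of_isInvertible hL
  have hc := Groth.Agent.W7Hull.NearLimit.isLimit f s
  obtain ⟨V₁, _, G, hGq, hGf, ⟨e⟩⟩ := Groth.Agent.ModDesc.exists_descend (D := D) (c := c) hc (F := L)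
    (Groth.Agent.W7Hull.isFP_of_isInvertible hL) (i₀ := V₀)
  haveI := hGq
  have hr : FlatMod.IsFinLocFreeOfRank 1 ((Scheme.Modules.pullback (c.π.app V₁)).obj G) :=
    Groth.Agent.CurveRR.isFinLocFreeOfRank_one (Groth.Agent.ParaFLib.isInvertible_of_iso e.symm hL)
  obtain ⟨V, φ, hV⟩ := Groth.Agent.ModDesc.exists_isFinLocFreeOfRank_stage D c hc hGf hr
  refine ⟨V.1, V.2.2, (Scheme.Modules.pullback (D.map φ)).obj G,
    ZeroSch.isInvertible_of_rankOne hV, fun ι hι => ?_⟩
  obtain rfl : ι = c.π.app V :=
    (cancel_mono (f ⁻¹ᵁ V.1).ι).1 (hι.trans (Groth.Agent.W7Hull.NearLimit.cone_fac f s V).symm)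
  exact ⟨(Groth.Agent.ModDesc.trIso (c.π.app V) (D.map φ) (c.w φ)).app G ≪≫ e⟩

end Groth.Agent.S17734
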