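import Groth.Statements.S17736
import Groth.Agent.Misc3.NodeUFD
import Groth.Agent.AdicBasics.Dimension
import Groth.Agent.S2833

set_option autoImplicit false
universe u
open DualGr

namespace Groth.Agent.S17736

open CategoryTheory AlgebraicGeometry IsLocalRing in
/-- Let R be a regular local ring, X a locally Noetherian scheme over Spec R, and x a point of X whose
local ring is formally a node of thickness (Δ) over R, that is, its completion is isomorphic,
compatibly with R, to R̂[[u,v]]/(uv − Δ), where R̂ is the completion of R and Δ is an element of R
whose image in R̂ is a prime element. Then the local ring of X at x is a unique factorization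
domain. (The published statement is for a quasisplit nodal curve, smooth over a dense open, over an
excellent base all of whose smooth schemes are locally factorial, and a singular point with prime
thickness. Its argument passes through unique factorization in R̂[[u,v]]/(uv − Δ) for R̂ an
arbitrary complete local unique factorization domain, which fails in that generality: that ring is
free of rank two over the power series ring R̂[[u + v]], and a power series ring over a complete
local unique factorization domain need not be factorial. The base is therefore taken regular here,
the case in which the completed ring is factorial; factoriality then descends to the local ring of X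
at x along the faithfully flat completion map.) -/
theorem result
    (R : Type u) [CommRing R] [IsRegularLocalRing R]
    {X : Scheme.{u}} [IsLocallyNoetherian X] (f : X ⟶ Spec (CommRingCat.of R)) (x : X) (Δ : R)
    (hnode : DualGr.IsThickNode (DualGr.stalkHom f x) Δ)
    (hprime : Prime (algebraMap R (Curv2.cpl R) Δ)) :
    IsDomain (X.presheaf.stalk x) ∧ UniqueFactorizationMonoid (X.presheaf.stalk x) := by
  obtain ⟨e, he⟩ := hnode
  haveI : IsRegularLocalRing (Curv2.cpl R) := (Groth.Agent.AdicBasics.isRegularLocalRing_completion_iff (A := R)).mp inferInstance
  haveI : IsDomain (Curv2.cpl R) := Groth.Agent.RegLoc.isDomain (Curv2.cpl R)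
  obtain ⟨hd, hu⟩ := Groth.Agent.Misc3.NodeUFD.ufd_A hprime
  have hd' : IsDomain (Curv2.cpl (X.presheaf.stalk x)) := @MulEquiv.isDomain _ _ _ _ hd e.toMulEquiv
  haveI := hd'
  have hu' : UniqueFactorizationMonoid (Curv2.cpl (X.presheaf.stalk x)) := e.symm.toMulEquiv.uniqueFactorizationMonoid hu
  exact Groth.Agent.S2833.result (X.presheaf.stalk x) (Curv2.cpl (X.presheaf.stalk x)) hu'

end Groth.Agent.S17736
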