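import Groth.Statements.S17739
import Groth.Agent.QsPn.Delta

set_option autoImplicit false
open QsChow

namespace Groth.Agent.S17739

/-- For an integer n ≥ 2 put s := n / 2 + 1 (integer part) and, for 2 ≤ j ≤ s, let k_j be the integer
part of the base-2 logarithm of (2n - 1)/(2j - 3); let P := F_2[ε_1, …, ε_s]/(ε_1^n, ε_2^(2^k_2), …,
ε_s^(2^k_s)) over the field F_2 with two elements, and let τ be the F_2-algebra involution of P with
τ(ε_1) = ε_1 and τ(ε_j) = ε_j + ε_1^(2j-3) for 2 ≤ j ≤ s (it exists since (2j-3)·2^k_j ≥ n, and is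
unique). Then the image of the map y ↦ y + τ(y) on P equals the set of products ε_1 · z with z
running over the τ-fixed subalgebra of P. (The printed statement is the same assertion after passing
to the quotients by ε_1^m for 1 ≤ m ≤ n, which follows at once; n ≥ 2 is assumed so that ε_2
exists.) -/
theorem result (n : ℕ) (hn : 2 ≤ n)
    (τ : QsChow.P n →ₐ[ZMod 2] QsChow.P n) (hτ1 : τ (QsChow.eps n 1) = QsChow.eps n 1)
    (hτ : ∀ j : ℕ, 2 ≤ j → j ≤ QsChow.numVars n →
      τ (QsChow.eps n j) = QsChow.eps n j + QsChow.eps n 1 ^ (2 * j - 3)) :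
    Set.range (fun y : QsChow.P n => y + τ y) =
      (fun z : QsChow.P n => QsChow.eps n 1 * z) '' (AlgHom.equalizer τ (AlgHom.id (ZMod 2) (QsChow.P n)) : Set (QsChow.P n)) := by
  open Groth.Agent.QsPn in
  have step : ∀ (d : Box n) (q a : ℕ),
      QsChow.eps n 1 * vec n d q a = vec n d (q + 1) a := fun d q a => by
    simp only [vec, low, gE, pow_succ]; ring
  open Groth.Agent.QsPn in
  refine Set.ext fun v => ⟨?_, ?_⟩
  · rintro ⟨y, rfl⟩
    change y + τ y ∈ _
    rw [← delta_apply]
    have hy : y ∈ Submodule.span (ZMod 2) (Set.range (basis hn)) := by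
      rw [(basis hn).span_eq]; trivial
    induction hy using Submodule.span_induction with
    | mem y hy =>
      obtain ⟨d, rfl⟩ := hy
      rw [basis_apply, fam_eq, delta_apply, tau_vec hn hτ1 hτ, ← add_assoc, Char2.add_self, zero_add]
      split_ifs with h
      · refine ⟨vec n d (q0 hn d) (a1 hn d - 1), ?_, step _ _ _⟩
        change τ _ = _
        rw [tau_vec hn hτ1 hτ, if_neg (by omega), add_zero]
        rfl
      · exact ⟨0, zero_mem _, mul_zero _⟩
    | zero => rw [map_zero]; exact ⟨0, zero_mem _, mul_zero _⟩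
    | add a b _ _ ha hb =>
      obtain ⟨za, ta, ea⟩ := ha
      obtain ⟨zb, tb, eb⟩ := hb
      exact ⟨za + zb, add_mem ta tb, by rw [map_add, ← ea, ← eb]; exact mul_add _ _ _⟩
    | smul c a _ ha =>
      obtain ⟨za, ta, ea⟩ := ha
      exact ⟨c • za, Subalgebra.smul_mem _ ta c, by rw [map_smul, ← ea]; exact mul_smul_comm _ _ _⟩
  · rintro ⟨z, hz, rfl⟩
    have hz' := fixed_mem hn hτ1 hτ z hz
    clear hz
    induction hz' using Submodule.span_induction with
    | mem z hz =>
      obtain ⟨d, hd, rfl⟩ := hz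
      change ∃ y, _ = QsChow.eps n 1 * basis hn d
      rw [basis_apply, fam_eq, step]
      by_cases h : a1 hn d % 2 = 0
      · refine ⟨vec n d (q0 hn d) (a1 hn d + 1), ?_⟩
        change _ + τ _ = _
        rw [tau_vec hn hτ1 hτ, if_pos (by omega), ← add_assoc, Char2.add_self, zero_add, Nat.add_sub_cancel]
      · refine ⟨0, ?_⟩
        rw [vec_eq_zero hn d _ (le_of_eq (hd.resolve_left h).symm)]
        simp
    | zero => exact ⟨0, by simp⟩
    | add a b _ _ ha hb =>
      obtain ⟨ya, ea⟩ := ha
      obtain ⟨yb, eb⟩ := hb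
      refine ⟨ya + yb, ?_⟩
      simp only [map_add] at ea eb ⊢
      rw [mul_add, ← ea, ← eb]; ring
    | smul c a _ ha =>
      obtain ⟨ya, ea⟩ := ha
      refine ⟨c • ya, ?_⟩
      simp only at ea ⊢
      rw [map_smul, ← smul_add, ea, mul_smul_comm]

end Groth.Agent.S17739
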