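import Groth.Statements.S17745
import Groth.Agent.Weighting.LengthWeight

set_option autoImplicit false
universe u
open CategoryTheory AlgebraicGeometry
open QsChow

namespace Groth.Agent.S17745

/-- For a field extension K of k (separable algebraic) and a k-scheme X with weight function δ, call
norm subgroup of CH_j(X) the subgroup generated by the classes of the push-forwards to X of j-cycles
on the base changes X_F, over the intermediate fields F of K over k that are finite over k and
different from k (the quotient by it is the degree-j part of the conormed Chow group of X relative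
to K over k). Let F be an intermediate field of K over k, finite over k and different from k, and
let X be a smooth variety over F (a scheme with a smooth, separated and quasi-compact morphism g to
Spec F), regarded as a k-scheme by composing g with Spec F → Spec k. Then for every weight function
δ on X (a dimension function induced from weight 0 on Spec k) and every integer j the norm subgroup
of CH_j(X) relative to K over k is the whole Chow group: all conormed Chow groups of X vanish. (The
source's F is tacitly different from k; for F = k the assertion fails, e.g. with K = k.) -/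
theorem result
    (k : Type u) [Field k] (K : Type u) [Field K] [Algebra k K] [Algebra.IsSeparable k K]
    (F : IntermediateField k K) [FiniteDimensional k F] (hF : F ≠ ⊥)
    (X : Scheme.{u}) [X.Over (Spec (CommRingCat.of k))] (g : X ⟶ Spec (CommRingCat.of F))
    (hg : g ≫ Spec.map (CommRingCat.ofHom (algebraMap k F)) = X ↘ Spec (CommRingCat.of k))
    (hsm : Smooth g) [IsSeparated g] [QuasiCompact g]
    (δ : X → ℤ) (hδ : Cyc.IsSetup X δ)
    (hcompat : Cyc.DeltaCompat (X ↘ Spec (CommRingCat.of k)) δ (fun _ => 0)) (j : ℤ) :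
    QsChow.normSubgroup k K X δ j = ⊤ := by
  classical
  let σ : X ⟶ Curv2.bc k X F := Limits.pullback.lift (𝟙 X) g (by rw [Category.id_comp, hg])
  have hσ : σ ≫ Curv2.bcFst k X F = 𝟙 X := Limits.pullback.lift_fst _ _ _
  haveI : QuasiCompact (σ ≫ Curv2.bcFst k X F) := by rw [hσ]; infer_instance
  haveI : QuasiCompact σ := QuasiCompact.of_comp σ (Curv2.bcFst k X F)
  have hpt : ∀ x, Curv2.bcFst k X F (σ x) = x := fun x => by
    rw [← Scheme.Hom.comp_apply, hσ]; rfl
  have hdeg : ∀ x, (Curv2.bcFst k X F).residueDegree (σ x) = 1 ∧ σ.residueDegree x = 1 := fun x => by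
    have h := Groth.Agent.Weighting.residueDegree_comp σ (Curv2.bcFst k X F) x
    rw [hσ, Scheme.Hom.residueDegree_id] at h
    exact Nat.eq_one_of_mul_eq_one_right h.symm |> fun h1 => ⟨h1, Nat.eq_one_of_mul_eq_one_left h.symm⟩
  rw [eq_top_iff]
  intro c _
  obtain ⟨⟨α, hα⟩, rfl⟩ := QuotientAddGroup.mk'_surjective _ c
  let δ' : Curv2.bc k X F → ℤ := δ ∘ ⇑(Curv2.bcFst k X F).base
  have hδ' : ∀ x, δ' (σ x) = δ x := fun x => congrArg δ (hpt x)
  let β := AlgebraicCycle.map σ δ δ' α
  have hβv : ∀ z, β z ≠ 0 → ∃ x, σ x = z ∧ α x ≠ 0 := fun z hz => by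
    obtain ⟨x, hx, hne⟩ := exists_ne_zero_of_finsum_mem_ne_zero hz
    exact ⟨x, hx, left_ne_zero_of_mul hne⟩
  have hinj : Function.Injective ⇑σ := fun a b h => by rw [← hpt a, ← hpt b, h]
  have hβ : ∀ x, β (σ x) = α x := fun x => by
    show (∑ᶠ y ∈ σ ⁻¹' {σ x}, _) = _
    rw [show σ ⁻¹' {σ x} = ({x} : Set X) by ext y; simp [hinj.eq_iff], finsum_mem_singleton]
    simp [AlgebraicCycle.mapCoeff, (hdeg x).2, δ', hpt]
  have hmap : AlgebraicCycle.map (Curv2.bcFst k X F) δ' δ β = α := by
    refine Function.locallyFinsuppWithin.ext fun x => ?_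
    show (∑ᶠ z ∈ (Curv2.bcFst k X F) ⁻¹' {x}, _) = _
    rw [finsum_eq_single _ (σ x) ?_, finsum_eq_if, if_pos (show σ x ∈ (Curv2.bcFst k X F) ⁻¹' {x} from hpt x), hβ]
    · simp [AlgebraicCycle.mapCoeff, (hdeg x).1, δ', hpt]
    · intro z hzne
      rw [finsum_eq_if]
      split_ifs with hz
      · by_contra h
        obtain ⟨x', rfl, -⟩ := hβv z (left_ne_zero_of_mul h)
        exact hzne (congrArg σ ((hpt x').symm.trans hz))
      · rfl
  refine AddSubgroup.subset_closure ⟨F, inferInstance, hF, β, ?_, ?_, ?_⟩
  · intro z hz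
    by_contra h
    obtain ⟨x, rfl, hx⟩ := hβv z h
    exact hx (hα x (by rw [← hδ' x]; exact hz))
  · exact hmap.symm ▸ hα
  · show ChowOps.clHom X δ j ⟨α, hα⟩ = ChowOps.clHom X δ j ⟨_, _⟩
    exact congrArg _ (Subtype.ext hmap.symm)

end Groth.Agent.S17745
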