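import Groth.Statements.S17746
import Groth.Agent.QsFactor.Basic
import Groth.Agent.S17745
import Groth.Agent.S18353
import Groth.Agent.S4989

set_option autoImplicit false
set_option backward.isDefEq.respectTransparency false
universe u
open CategoryTheory AlgebraicGeometry
open QsChow

namespace Groth.Agent.S17746

/-- For a field extension K of k (separable algebraic) and a k-scheme X with weight function δ, call
norm subgroup of CH_j(X) the subgroup generated by the classes of the push-forwards to X of j-cycles
on the base changes X_F, over the intermediate fields F of K over k that are finite over k and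
different from k (the quotient by it is the degree-j part of the conormed Chow group of X relative
to K over k). Let L be an intermediate field of K over k that is finite Galois over k, and let X be
a smooth variety over k (smooth, separated and quasi-compact structure morphism) that is connected
and whose base change X_L is not connected. Then for every weight function δ on X (a dimension
function induced from weight 0 on Spec k) and every integer j the norm subgroup of CH_j(X) relative
to K over k is the whole Chow group: all conormed Chow groups of X vanish. -/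
theorem result
    (k : Type u) [Field k] (K : Type u) [Field K] [Algebra k K] [Algebra.IsSeparable k K]
    (L : IntermediateField k K) [FiniteDimensional k L] [IsGalois k L]
    (X : Scheme.{u}) [X.Over (Spec (CommRingCat.of k))]
    (hsm : Smooth (X ↘ Spec (CommRingCat.of k))) [IsSeparated (X ↘ Spec (CommRingCat.of k))]
    [QuasiCompact (X ↘ Spec (CommRingCat.of k))]
    [ConnectedSpace X] (hdisc : ¬ ConnectedSpace ↥(Curv2.bc k X L))
    (δ : X → ℤ) (hδ : Cyc.IsSetup X δ)
    (hcompat : Cyc.DeltaCompat (X ↘ Spec (CommRingCat.of k)) δ (fun _ => 0)) (j : ℤ) :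
    QsChow.normSubgroup k K X δ j = ⊤ := by
  have hnS : ∀ s : Spec (CommRingCat.of k), IsIntegrallyClosed ((Spec (CommRingCat.of k)).presheaf.stalk s) :=
    fun s => by
      haveI : s.asIdeal.IsPrime := s.isPrime
      haveI : IsIntegrallyClosed (Localization.AtPrime s.asIdeal) :=
        isIntegrallyClosed_of_isLocalization _ s.asIdeal.primeCompl s.asIdeal.primeCompl_le_nonZeroDivisors
      exact IsIntegrallyClosed.of_equiv (Spec.stalkIso (CommRingCat.of k) s).commRingCatIsoToRingEquiv.symm
  haveI := hsm
  have hN : Pi1.IsNormalScheme X := fun x => by
    have hx : x ∈ (X ↘ Spec (CommRingCat.of k)).smoothLocus := by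
      rw [(X ↘ Spec (CommRingCat.of k)).smoothLocus_eq_top_iff.2 hsm]; trivial
    exact (Groth.Agent.S4989.result _ x hx).2.2 ⟨inferInstance, hnS _⟩
  haveI : IsLocallyNoetherian X := LocallyOfFiniteType.isLocallyNoetherian (X ↘ Spec (CommRingCat.of k))
  haveI : CompactSpace X := QuasiCompact.compactSpace_of_compactSpace (X ↘ Spec (CommRingCat.of k))
  haveI : IsNoetherian X := ⟨⟩
  haveI := Groth.Agent.S18353.isIntegral_of_connected X hN
  have hred : ¬ IrreducibleSpace ↥(Curv2.bc k X L) := fun h => hdisc (haveI := h; inferInstance)
  obtain ⟨F, hF, g, hg⟩ := Groth.Agent.QsFactor.exists_factor k X (fun x => (hN x).2) L hred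
  let F' : IntermediateField k K := F.map L.val
  let e : F ≃ₐ[k] F' := IntermediateField.equivMap F L.val
  haveI : FiniteDimensional k F' := Module.Finite.equiv e.toLinearEquiv
  have hF' : F' ≠ ⊥ := fun h => hF ((IntermediateField.map_injective L.val) (h.trans (IntermediateField.map_bot L.val).symm))
  let g' : X ⟶ Spec (CommRingCat.of F') := g ≫ Spec.map (CommRingCat.ofHom e.symm.toRingEquiv.toRingHom)
  have hg' : g' ≫ Spec.map (CommRingCat.ofHom (algebraMap k F')) = X ↘ Spec (CommRingCat.of k) := by
    rw [Category.assoc, ← Spec.map_comp, ← hg]
    congr 2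
    ext r
    exact congrArg Subtype.val (congrArg Subtype.val (e.symm.commutes r))
  let π := Spec.map (CommRingCat.ofHom (algebraMap k F'))
  haveI : Etale π := (HasRingHomProperty.Spec_iff (P := @Etale)).mpr (RingHom.etale_algebraMap.mpr (show Algebra.Etale k F' from ⟨Algebra.FormallyEtale.of_isSeparable k F', Algebra.FinitePresentation.of_finiteType.mp inferInstance⟩))
  let σ : X ⟶ Limits.pullback (X ↘ Spec (CommRingCat.of k)) π := Limits.pullback.lift (𝟙 X) g' (by rw [Category.id_comp, hg'])
  haveI : Etale σ := by
    haveI : Etale (σ ≫ Limits.pullback.fst (X ↘ Spec (CommRingCat.of k)) π) := by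
      rw [Limits.pullback.lift_fst]; infer_instance
    exact Etale.of_comp σ (Limits.pullback.fst (X ↘ Spec (CommRingCat.of k)) π)
  haveI : Smooth g' := by
    rw [show g' = σ ≫ Limits.pullback.snd (X ↘ Spec (CommRingCat.of k)) π from (Limits.pullback.lift_snd _ _ _).symm]
    infer_instance
  haveI : IsSeparated (g' ≫ π) := by rw [hg']; infer_instance
  haveI : QuasiCompact (g' ≫ π) := by rw [hg']; infer_instance
  haveI : IsSeparated g' := IsSeparated.of_comp g' π
  haveI : QuasiCompact g' := QuasiCompact.of_comp g' π
  exact Groth.Agent.S17745.result k K F' hF' X g' hg' inferInstance δ hδ hcompat j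

end Groth.Agent.S17746
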