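import Groth.Statements.S17753
import Groth.Agent.LocH.Avoid
import Mathlib
-- import your own Groth.Agent.* helpers here

set_option autoImplicit false
universe u
open LocCoh

namespace Groth.Agent.S17753

/-- Let R be a Noetherian local ring of Krull dimension d and I a proper ideal of R. Then there are d
elements f_1, …, f_d of I such that I and the ideal they generate have the same radical, so the
arithmetic rank of I is at most d. (The published statement has no properness hypothesis; for the
unit ideal of a field, d = 0 and no empty family generates the unit ideal up to radical, and the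
published proof uses that the maximal ideal contains I.) -/
theorem result (R : Type u) [CommRing R] [IsNoetherianRing R] [IsLocalRing R] (d : ℕ) (hd : ringKrullDim R = d) (I : Ideal R) (hI : I ≠ ⊤) : ∃ f : Fin d → R, (∀ i, f i ∈ I) ∧ I.radical = (Ideal.span (Set.range f)).radical := by
  obtain ⟨f, hf, h⟩ := LocH.exists_generators I d
  refine ⟨f, hf, le_antisymm ?_ (Ideal.radical_mono (Ideal.span_le.2 fun x hx => by obtain ⟨i, rfl⟩ := hx; exact hf i))⟩
  rw [Ideal.radical_eq_sInf (Ideal.span (Set.range f))]
  refine le_sInf fun p ⟨hle, hp⟩ => hp.radical_le_iff.2 ?_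
  by_cases hh : p.height < d
  · exact (h p hp hh).2 hle
  refine (IsLocalRing.le_maximalIdeal hI).trans (le_of_eq ?_)
  by_contra hne
  have hm : (IsLocalRing.maximalIdeal R).height = (d : ℕ∞) :=
    WithBot.coe_inj.1 (IsLocalRing.maximalIdeal_height_eq_ringKrullDim.trans hd)
  have h1 := Ideal.height_add_one_le_of_lt_of_isPrime (lt_of_le_of_ne (IsLocalRing.le_maximalIdeal hp.ne_top) (Ne.symm hne))
  rw [hm] at h1
  exact hh (lt_of_lt_of_le ((ENat.lt_add_one_iff p.height_ne_top_of_isPrime).2 le_rfl) h1)

end Groth.Agent.S17753
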