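import Groth.Statements.S17754
import Mathlib.RingTheory.AdicCompletion.Basic
import Mathlib.RingTheory.Artinian.Ring
import Mathlib.RingTheory.HopkinsLevitzki
import Mathlib.RingTheory.Filtration
import Mathlib.RingTheory.LocalRing.Quotient

set_option autoImplicit false
universe u
open CAlg

namespace Groth.Agent.S17754

/-- Let R be a complete Noetherian local ring with maximal ideal m, and let I_0 ⊇ I_1 ⊇ I_2 ⊇ ⋯ be a
descending sequence of ideals of R whose intersection is zero. Then for every natural number n there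
is an index s with I_s contained in m^n; that is, the filtration by the I_s is at least as fine as
the m-adic one. -/
theorem result (R : Type u) [CommRing R] [IsNoetherianRing R] [IsLocalRing R] [IsAdicComplete (IsLocalRing.maximalIdeal R) R] (I : ℕ → Ideal R) (hI : Antitone I) (hinf : ⨅ s, I s = ⊥) (n : ℕ) : ∃ s : ℕ, I s ≤ IsLocalRing.maximalIdeal R ^ n := by
  classical
  set m := IsLocalRing.maximalIdeal R with hm
  have hst : ∀ j : ℕ, ∃ N, ∀ M, N ≤ M → I N ⊔ m ^ j = I M ⊔ m ^ j := by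
    intro j
    rcases Nat.eq_zero_or_pos j with rfl | hj
    · exact ⟨0, fun M _ => by rw [pow_zero, Ideal.one_eq_top, sup_top_eq, sup_top_eq]⟩
    have : IsArtinianRing (R ⧸ m ^ j) := by
      rw [isArtinianRing_iff_krullDimLE_zero, Ring.krullDimLE_zero_iff]
      intro P hP
      have h1 : m ≤ P.comap (Ideal.Quotient.mk (m ^ j)) := fun a ha =>
        Ideal.IsPrime.mem_of_pow_mem inferInstance j (Ideal.mem_comap.2 (by rw [Ideal.Quotient.eq_zero_iff_mem.2 (Ideal.pow_mem_pow ha j)]; exact zero_mem _))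
      have h2 : (P.comap (Ideal.Quotient.mk (m ^ j))).IsMaximal :=
        (IsLocalRing.maximalIdeal.isMaximal R).eq_of_le (Ideal.IsPrime.ne_top inferInstance) h1 ▸ IsLocalRing.maximalIdeal.isMaximal R
      have h3 := Ideal.map_eq_top_or_isMaximal_of_surjective (Ideal.Quotient.mk (m ^ j)) Ideal.Quotient.mk_surjective h2
      rw [Ideal.map_comap_of_surjective _ Ideal.Quotient.mk_surjective] at h3
      exact h3.resolve_left hP.ne_top
    obtain ⟨N, hN⟩ := IsArtinian.monotone_stabilizes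
      (⟨fun s => OrderDual.toDual ((I s).map (Ideal.Quotient.mk (m ^ j))), fun a b hab => Ideal.map_mono (hI hab)⟩ : ℕ →o (Ideal (R ⧸ m ^ j))ᵒᵈ)
    refine ⟨N, fun M hM => ?_⟩
    have h1 : (I N).map (Ideal.Quotient.mk (m ^ j)) = (I M).map (Ideal.Quotient.mk (m ^ j)) := hN M hM
    have h2 := congrArg (Ideal.comap (Ideal.Quotient.mk (m ^ j))) h1
    rwa [Ideal.comap_map_of_surjective' _ Ideal.Quotient.mk_surjective, Ideal.comap_map_of_surjective' _ Ideal.Quotient.mk_surjective, Ideal.mk_ker] at h2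
  choose N hN using hst
  let J : ℕ → Ideal R := fun j => I (N j) ⊔ m ^ j
  have hJ : ∀ j s, J j ≤ I s ⊔ m ^ j := fun j s => by
    show I (N j) ⊔ m ^ j ≤ _
    rw [hN j (max (N j) s) (le_max_left _ _)]
    exact sup_le_sup_right (hI (le_max_right _ _)) _
  refine ⟨N n, fun x hx => ?_⟩
  have hlift : ∀ j, ∀ y ∈ J j, ∃ z ∈ J (j + 1), y - z ∈ m ^ j := fun j y hy => by
    obtain ⟨a, ha, b, hb, rfl⟩ := Submodule.mem_sup.1 (hJ j (N (j + 1)) hy)
    exact ⟨a, Submodule.mem_sup_left ha, by simpa using hb⟩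
  choose nxt hnxt hsub using hlift
  let seq : (j : ℕ) → {y : R // y ∈ J (n + j)} := fun j =>
    Nat.rec ⟨x, Submodule.mem_sup_left hx⟩ (fun j y => ⟨nxt (n + j) y.1 y.2, hnxt (n + j) y.1 y.2⟩) j
  have hstep : ∀ j, (seq j).1 - (seq (j + 1)).1 ∈ m ^ (n + j) := fun j => hsub (n + j) _ _
  have hcauchy : ∀ {a b : ℕ}, a ≤ b → (seq a).1 - (seq b).1 ∈ m ^ (n + a) := by
    intro a b hab
    induction hab with
    | refl => simp
    | step hab ih => simpa using add_mem ih (Ideal.pow_le_pow_right (Nat.add_le_add_left hab n) (hstep _))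
  have hc' : ∀ {a b : ℕ}, a ≤ b → (seq a).1 ≡ (seq b).1 [SMOD (m ^ a • ⊤ : Submodule R R)] := fun {a b} hab => by
    rw [SModEq.sub_mem, smul_eq_mul, Ideal.mul_top]
    exact Ideal.pow_le_pow_right (Nat.le_add_left a n) (hcauchy hab)
  obtain ⟨y, hy⟩ := IsPrecomplete.prec' (I := m) (fun j => (seq j).1) hc'
  have hy' : ∀ j, (seq j).1 - y ∈ m ^ j := fun j => by
    have := hy j
    rwa [SModEq.sub_mem, smul_eq_mul, Ideal.mul_top] at this
  have hy0 : y = 0 := by
    rw [← Ideal.mem_bot, ← hinf, Submodule.mem_iInf]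
    intro s
    have h1 : Ideal.Quotient.mk (I s) y ∈ ⨅ j : ℕ, ((m ^ j).map (Ideal.Quotient.mk (I s))) := by
      rw [Submodule.mem_iInf]
      intro j
      obtain ⟨a, ha, b, hb, hab⟩ := Submodule.mem_sup.1 (hJ (n + j) s (seq j).2)
      refine (Ideal.mem_map_iff_of_surjective _ Ideal.Quotient.mk_surjective).2 ⟨b - ((seq j).1 - y), Ideal.sub_mem _ (Ideal.pow_le_pow_right (Nat.le_add_left j n) hb) (hy' j), ?_⟩
      rw [← hab, Ideal.Quotient.eq]
      rw [show b - (a + b - y) - y = -a by ring]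
      exact neg_mem ha
    by_cases htop : I s = ⊤
    · rw [htop]; trivial
    have : Nontrivial (R ⧸ I s) := Ideal.Quotient.nontrivial_iff.2 htop
    have : IsLocalRing (R ⧸ I s) := IsLocalRing.of_surjective' _ Ideal.Quotient.mk_surjective
    simp only [Ideal.map_pow] at h1
    rw [Ideal.iInf_pow_eq_bot_of_isLocalRing _ (fun h => (IsLocalRing.maximalIdeal.isMaximal R).ne_top ?_), Ideal.mem_bot, Ideal.Quotient.eq_zero_iff_mem] at h1
    · exact h1
    · have := congrArg (Ideal.comap (Ideal.Quotient.mk (I s))) h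
      rwa [Ideal.comap_map_of_surjective' _ Ideal.Quotient.mk_surjective, Ideal.mk_ker, Ideal.comap_top, sup_eq_left.2 (IsLocalRing.le_maximalIdeal htop)] at this
  have h2 := hcauchy (Nat.zero_le n)
  have h3 := hy' n
  rw [hy0, sub_zero] at h3
  simpa [seq] using add_mem h2 h3

end Groth.Agent.S17754
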