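import Groth.Statements.S17755
import Groth.Agent.SGA2Fin.GorImage
import Groth.Agent.SGA2Fin.Chain
import Groth.Agent.LocH.AdjDepthChange
import Groth.Agent.InvFin.Depth
-- import your own Groth.Agent.* helpers here

set_option autoImplicit false
universe u
open LocCoh

namespace Groth.Agent.S17755

/-- Let R be a Noetherian local ring with maximal ideal m which is a homomorphic image of a Gorenstein
local ring, and let M be a finitely generated R-module whose support has dimension n. Then the
following are equivalent: (1) M is generalized Cohen–Macaulay, i.e. the local cohomology module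
H^i_m(M) has finite length for every i < n; (2) M is equidimensional, i.e. R ⧸ p has dimension n for
every minimal prime p of the annihilator of M, and for every prime p ≠ m containing the annihilator
of M the localization M_p is a Cohen–Macaulay module over R_p (its depth equals the dimension of its
support). -/
theorem result (R : Type u) [CommRing R] [IsNoetherianRing R] [IsLocalRing R] (R' : Type u) [CommRing R'] [LocCoh.IsGorensteinLocalRing R'] (g : R' →+* R) (hg : Function.Surjective g) (M : Type u) [AddCommGroup M] [Module R M] [Module.Finite R M] (n : ℕ) (hn : Module.supportDim R M = n) : (∀ i : ℕ, i < n → IsFiniteLength R (LocCoh.H (IsLocalRing.maximalIdeal R) i M)) ↔ ((∀ p ∈ (Module.annihilator R M).minimalPrimes, ringKrullDim (R ⧸ p) = n) ∧ ∀ (p : Ideal R) [p.IsPrime], p ≠ IsLocalRing.maximalIdeal R → Module.annihilator R M ≤ p → LocCoh.IsCohenMacaulayModule (Localization.AtPrime p) (LocalizedModule p.primeCompl M)) := by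
  classical
  letI : Algebra R' R := g.toAlgebra
  have := Goren.isGorensteinRing_of_local R'
  obtain ⟨d, hd⟩ := SerreReg.exists_dim_nat R'
  let m := IsLocalRing.maximalIdeal R
  have htwo : (∀ i : ℕ, i < n → IsFiniteLength R (LocCoh.H m i M)) ↔
      ∀ i : ℕ, i < n → m ≤ (Module.annihilator R (LocCoh.H m i M)).radical := by
    constructor
    · intro h i hi
      have := (SGA2Fin.isFiniteLength_H_iff M i).1 (h i hi)
      obtain ⟨k, hk⟩ := @LocH.exists_pow_killed_of_finite R _ _ m i (ModuleCat.of R M) this
      exact fun a ha => ⟨k, Module.mem_annihilator.2 (hk _ (Ideal.pow_mem_pow ha k))⟩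
    · intro h i hi
      rw [SGA2Fin.isFiniteLength_H_iff]
      refine LocH.finite_of_killed m M (n - 1) (fun i' hi' => ?_) i (by omega)
      obtain ⟨k, hk⟩ := Ideal.exists_pow_le_of_le_radical_of_fg (h i' (by omega)) (IsNoetherian.noetherian m)
      exact ⟨k, fun a ha => Module.mem_annihilator.1 (hk ha)⟩
  rw [htwo]
  simp only [SGA2Fin.le_radical_annihilator_iff (S := R') hg M, m]
  have hdim : ∀ (p : Ideal R) [p.IsPrime], ∃ e h' : ℕ, ringKrullDim (R ⧸ p) = e ∧ (p.comap g).height = h' ∧
      e + h' = d := by
    intro p _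
    obtain ⟨e, he⟩ := SGA2Fin.exists_dim_quot p
    obtain ⟨h', hh'⟩ := ENat.ne_top_iff_exists.1 ((p.comap g).height_ne_top (Ideal.IsPrime.ne_top inferInstance))
    have hsum := SGA2Fin.ringKrullDim_quotient_add_height (S := R') hg p
    rw [he, hd, show (p.comap (algebraMap R' R)).height = (h' : ℕ∞) from hh'.symm] at hsum
    refine ⟨e, h', he, hh'.symm, ?_⟩
    have h2 : ((e + h' : ℕ) : WithBot ℕ∞) = ((d : ℕ) : WithBot ℕ∞) := by rw [← hsum]; push_cast; rfl
    exact_mod_cast h2
  have hne : ∀ (p : Ideal R) [p.IsPrime], ¬ IsLocalRing.maximalIdeal R ≤ p ↔ p ≠ IsLocalRing.maximalIdeal R :=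
    fun p _ => ⟨fun h e => h e.ge, fun h hle => h (le_antisymm (IsLocalRing.le_maximalIdeal (Ideal.IsPrime.ne_top inferInstance)) hle)⟩
  have hle_n : ∀ (p : Ideal R), Module.annihilator R M ≤ p → ∀ e : ℕ, ringKrullDim (R ⧸ p) = e → e ≤ n := by
    intro p hp e he
    have h1 : ringKrullDim (R ⧸ p) ≤ Module.supportDim R M := by
      rw [← Module.supportDim_quotient_eq_ringKrullDim]
      exact Order.krullDim_le_of_strictMono (fun a => ⟨a.1, Module.mem_support_iff_of_finite.2
        (hp.trans (by simpa [Ideal.annihilator_quotient] using Module.mem_support_iff_of_finite.1 a.2))⟩) fun a b hab => hab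
    rw [he, hn] at h1
    exact_mod_cast h1
  constructor
  · intro h
    have hdep : ∀ (p : Ideal R) [p.IsPrime], p ≠ IsLocalRing.maximalIdeal R → ∀ e : ℕ, ringKrullDim (R ⧸ p) = e →
        ((n - e : ℕ) : ℕ∞) ≤ LocCoh.depth (Localization.AtPrime p) (LocalizedModule p.primeCompl M) :=
      fun p _ hp e he => (LocH.le_idealDepth_iff _ _ _).2 fun j hj =>
        h (j + e) (by omega) p ((hne p).2 hp) j (by rw [he]; push_cast; rfl)
    refine ⟨fun p hp => ?_, fun p _ hp hann => ?_⟩
    · have := hp.1.1
      obtain ⟨e, h', he, -, -⟩ := hdim p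
      have hle := hle_n p hp.1.2 e he
      rw [he]
      rcases eq_or_ne p (IsLocalRing.maximalIdeal R) with rfl | hpm
      · -- then the support is the closed point
        have hsub : Subsingleton ↥(Module.support R M) := ⟨fun a b => Subtype.ext (PrimeSpectrum.ext (by
          rw [le_antisymm (IsLocalRing.le_maximalIdeal a.1.2.ne_top) (hp.2 ⟨a.1.2, Module.mem_support_iff_of_finite.1 a.2⟩ (IsLocalRing.le_maximalIdeal a.1.2.ne_top)),
            le_antisymm (IsLocalRing.le_maximalIdeal b.1.2.ne_top) (hp.2 ⟨b.1.2, Module.mem_support_iff_of_finite.1 b.2⟩ (IsLocalRing.le_maximalIdeal b.1.2.ne_top))]))⟩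
        have h0 : Module.supportDim R M ≤ 0 := Order.krullDim_nonpos_iff_forall_isMax.2 fun a b _ => (Subsingleton.elim b a).le
        rw [hn] at h0
        have h0' : n ≤ 0 := by exact_mod_cast h0
        exact_mod_cast (by omega : e = n)
      · have h1 := hdep p hpm e he
        rw [LocH.depth_eq_zero_of_associated M
          (Module.associatedPrimes.minimalPrimes_annihilator_subset_associatedPrimes R M hp)] at h1
        have h1' : n - e ≤ 0 := by exact_mod_cast h1
        exact_mod_cast (by omega : e = n)
    · obtain ⟨e, h', he, hh', hsum⟩ := hdim p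
      have hle := hle_n p hann e he
      have hup : Module.supportDim (Localization.AtPrime p) (LocalizedModule p.primeCompl M) ≤ ((n - e : ℕ) : WithBot ℕ∞) := by
        rw [FlatDepth.supportDim_localized_eq]
        refine iSup_le fun l => ?_
        let l' : LTSeries (PrimeSpectrum R) := l.map Subtype.val fun a b hab => hab
        have hb := SGA2Fin.height_add_length_le_comap g hg l'
        obtain ⟨e₀, h₀, he₀, hh₀, hsum₀⟩ := hdim l'.head.asIdeal
        have he₀n := hle_n l'.head.asIdeal (Module.mem_support_iff_of_finite.1 l.head.2.1) e₀ he₀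
        have hlast : (l'.last.asIdeal.comap g).height ≤ (p.comap g).height :=
          Ideal.height_mono (Ideal.comap_mono l.last.2.2)
        have h3 : ((h₀ + l.length : ℕ) : ℕ∞) ≤ (h' : ℕ∞) := by
          rw [Nat.cast_add, ← hh₀, ← hh']
          exact hb.trans hlast
        rw [Nat.cast_le] at h3
        exact_mod_cast (by omega : l.length ≤ n - e)
      have hdown := hdep p hp e he
      have hsupp : Nontrivial (LocalizedModule p.primeCompl M) :=
        Module.mem_support_iff.1 ((Module.mem_support_iff_of_finite (p := (⟨p, ‹_›⟩ : PrimeSpectrum R))).2 hann)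
      have hbot : Module.supportDim (Localization.AtPrime p) (LocalizedModule p.primeCompl M) ≠ ⊥ :=
        (Module.supportDim_ne_bot_iff_nontrivial _ _).2 hsupp
      obtain ⟨s, hs⟩ := WithBot.ne_bot_iff_exists.1 hbot
      rw [← hs] at hup
      have hup' : s ≤ ((n - e : ℕ) : ℕ∞) := WithBot.coe_le_coe.1 hup
      obtain ⟨s', rfl⟩ := ENat.ne_top_iff_exists.1 (ne_top_of_le_ne_top (ENat.coe_ne_top _) hup')
      have h4 := InvFin.depth_le_supportDim _ hs.symm
      unfold LocCoh.IsCohenMacaulayModule
      rw [← hs]
      exact congrArg _ (le_antisymm (hup'.trans hdown) h4)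
  · rintro ⟨heq, hCM⟩ i hi p _ hpm j hj
    obtain ⟨e, h', he, hh', hsum⟩ := hdim p
    rw [he] at hj
    have hje : j + e = i := by
      have h2 : ((j + e : ℕ) : WithBot ℕ∞) = ((i : ℕ) : WithBot ℕ∞) := by rw [← hj]; push_cast; rfl
      exact_mod_cast h2
    by_cases hann : Module.annihilator R M ≤ p
    swap
    · obtain ⟨r, hr, hrp⟩ := SetLike.not_le_iff_exists.1 hann
      have : Subsingleton (LocalizedModule p.primeCompl M) := LocalizedModule.subsingleton_iff.2
        fun v => ⟨r, hrp, Module.mem_annihilator.1 hr v⟩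
      exact LocH.subsingleton_of_subsingleton (ModuleCat.of (Localization.AtPrime p) (LocalizedModule p.primeCompl M)) j
    refine (LocH.le_idealDepth_iff _ _ (n - e)).1 ?_ j (by omega)
    obtain ⟨P, hP, hPp⟩ := Ideal.exists_minimalPrimes_le hann
    have := hP.1.1
    obtain ⟨l, hl, hlen⟩ := SGA2Fin.exists_chain g hg ⟨P, hP.1.1⟩ ⟨p, ‹_›⟩ hPp
    obtain ⟨e₀, h₀, he₀, hh₀, hsum₀⟩ := hdim P
    have he₀n : e₀ = n := by
      have := heq P hP
      rw [he₀] at this
      exact_mod_cast this
    rw [hh', hh₀] at hlen
    have hlen' : h' = h₀ + l.length := by exact_mod_cast hlen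
    have h5 := SGA2Fin.length_le_supportDim_localized M
      ((Module.mem_support_iff_of_finite (p := (⟨P, hP.1.1⟩ : PrimeSpectrum R))).2 hP.1.2) hPp l hl
    have h6 := hCM p ((hne p).1 hpm) hann
    unfold LocCoh.IsCohenMacaulayModule at h6
    rw [h6] at h5
    exact le_trans (Nat.cast_le.2 (by omega : n - e ≤ l.length)) (WithBot.coe_le_coe.1 h5)

end Groth.Agent.S17755
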