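import Groth.Statements.S17756
import Mathlib
import Groth.Agent.InjHull.Duality
-- import your own Groth.Agent.* helpers here

set_option autoImplicit false
universe u
open Matlis

namespace Groth.Agent.S17756

/-- Let R be a Noetherian local ring with maximal ideal m and residue field k, E an injective hull of k,
and M a finitely generated R-module with Matlis dual M^v = Hom_R(M, E). Then the minimal number of
generators of M equals the k-dimension of the socle of M^v, the submodule of elements of M^v killed
by m (stated as its length as an R-module). -/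
theorem result (R : Type u) [CommRing R] [IsNoetherianRing R] [IsLocalRing R] (E : Type u) [AddCommGroup E] [Module R E] (f : IsLocalRing.ResidueField R →ₗ[R] E) (hf : InjHull.IsInjectiveHull f) (M : Type u) [AddCommGroup M] [Module R M] [Module.Finite R M] : ((⊤ : Submodule R M).spanFinrank : ℕ∞) = Module.length R (LocCoh.torsionBy (IsLocalRing.maximalIdeal R) (M →ₗ[R] E)) := by
  let m := IsLocalRing.maximalIdeal R
  let N : Submodule R M := m • ⊤
  let e : LocCoh.torsionBy m (M →ₗ[R] E) ≃ₗ[R] ((M ⧸ N) →ₗ[R] E) :=
    { toFun := fun h => N.liftQ (h : M →ₗ[R] E) (Submodule.smul_le.2 fun r hr x _ => by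
        rw [LinearMap.mem_ker, map_smul]
        exact LinearMap.congr_fun ((Submodule.mem_torsionBySet_iff _ _).1 h.2 ⟨r, hr⟩) x)
      map_add' := fun a b => LinearMap.ext fun z => by
        obtain ⟨z, rfl⟩ := N.mkQ_surjective z
        rfl
      map_smul' := fun c a => LinearMap.ext fun z => by
        obtain ⟨z, rfl⟩ := N.mkQ_surjective z
        rfl
      invFun := fun h => ⟨h ∘ₗ N.mkQ, (Submodule.mem_torsionBySet_iff _ _).2 fun r =>
        LinearMap.ext fun x => by
          show (r : R) • h (N.mkQ x) = 0
          rw [← map_smul, ← map_smul, Submodule.mkQ_apply, (Submodule.Quotient.mk_eq_zero N).2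
            (Submodule.smul_mem_smul r.2 Submodule.mem_top), map_zero]⟩
      left_inv := fun h => Subtype.ext (LinearMap.ext fun x => rfl)
      right_inv := fun h => LinearMap.ext fun z => by
        obtain ⟨z, rfl⟩ := N.mkQ_surjective z
        rfl }
  have hk : ∀ a ∈ m, ∀ x : M ⧸ N, a • x = 0 := fun a ha x => by
    obtain ⟨x, rfl⟩ := N.mkQ_surjective x
    rw [← map_smul, Submodule.mkQ_apply, Submodule.Quotient.mk_eq_zero]
    exact Submodule.smul_mem_smul ha Submodule.mem_top
  have hfl : IsFiniteLength R (M ⧸ N) :=
    Groth.Agent.InjHull.isFiniteLength_of_pow_smul_eq_zero m 1 _ inferInstance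
      fun a ha => hk a (by rwa [pow_one] at ha)
  rw [e.length_eq, Groth.Agent.InjHull.length_dual (m := m) hf hfl
    (fun x => ⟨1, fun a ha => hk a (by rwa [pow_one] at ha) x⟩)]
  let := Ideal.Quotient.field m
  have hlen : Module.length R (M ⧸ N) = Module.length (R ⧸ m) (M ⧸ N) :=
    Module.length_eq_of_surjective Ideal.Quotient.mk_surjective
  rw [hlen, Module.length_eq_finrank, IsLocalRing.spanFinrank_eq_finrank_quotient _ Module.Finite.fg_top]
  refine congrArg Nat.cast (LinearEquiv.finrank_eq ?_)
  refine LinearEquiv.extendScalarsOfSurjective (R := R) (S := R ⧸ m) Ideal.Quotient.mk_surjective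
    (Submodule.Quotient.equiv _ _ (Submodule.topEquiv : (⊤ : Submodule R M) ≃ₗ[R] M) ?_)
  rw [Submodule.map_smul'', Submodule.map_top, LinearEquiv.range]

end Groth.Agent.S17756
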