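import Groth.Statements.S17758
import Groth.Agent.HLVT.Spec
-- import your own Groth.Agent.* helpers here

set_option autoImplicit false
universe u
open LocCoh

namespace Groth.Agent.S17758

/-- Let R be a complete Noetherian local domain of Krull dimension d with maximal ideal m, and I a
proper ideal of R of arithmetic rank at most d − 2: there are elements f_1, …, f_t with t + 2 ≤ d
such that I and (f_1, …, f_t) have the same radical. Then the punctured spectrum of R ⧸ I, viewed as
the set of prime ideals of R that contain I and differ from m, is a nonempty connected subset of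
Spec R. (Connectedness is taken here to include nonemptiness, so the unit ideal, whose punctured
spectrum is empty, is excluded; for a proper I nonemptiness is automatic, since otherwise I would be
m-primary and m would be minimal over an ideal generated by t ≤ d − 2 elements, against Krull's
height bound.) -/
theorem result (R : Type u) [CommRing R] [IsDomain R] [IsNoetherianRing R] [IsLocalRing R] [IsAdicComplete (IsLocalRing.maximalIdeal R) R] (d : ℕ) (hd : ringKrullDim R = d) (t : ℕ) (ht : t + 2 ≤ d) (f : Fin t → R) (I : Ideal R) (hItop : I ≠ ⊤) (hI : I.radical = (Ideal.span (Set.range f)).radical) : IsConnected {x : PrimeSpectrum R | I ≤ x.asIdeal ∧ x.asIdeal ≠ IsLocalRing.maximalIdeal R} := by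
  classical
  haveI : Nontrivial (R ⧸ I) := Ideal.Quotient.nontrivial_iff.2 hItop
  haveI : IsLocalRing (R ⧸ I) := IsLocalRing.of_surjective' _ Ideal.Quotient.mk_surjective
  let π := Ideal.Quotient.mk I
  by_contra hcon
  let s : Finset R := Finset.univ.image f
  have hs : (Ideal.span (s : Set R)).radical = I.radical := by
    rw [hI, Finset.coe_image, Finset.coe_univ, Set.image_univ]
  have hcl : IsClosed ({IsLocalRing.closedPoint (R ⧸ I)} : Set (PrimeSpectrum (R ⧸ I))) :=
    (PrimeSpectrum.isClosed_singleton_iff_isMaximal _).2 (IsLocalRing.maximalIdeal.isMaximal _)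
  have hmax : (IsLocalRing.maximalIdeal (R ⧸ I)).comap π = IsLocalRing.maximalIdeal R :=
    IsLocalRing.eq_maximalIdeal (Ideal.comap_isMaximal_of_surjective π Ideal.Quotient.mk_surjective)
  have himg : PrimeSpectrum.comap π '' ({IsLocalRing.closedPoint (R ⧸ I)}ᶜ : Set (PrimeSpectrum (R ⧸ I))) =
      {x : PrimeSpectrum R | I ≤ x.asIdeal ∧ x.asIdeal ≠ IsLocalRing.maximalIdeal R} := by
    ext x
    constructor
    · rintro ⟨y, hy, rfl⟩
      refine ⟨fun z hz => ?_, fun h => hy ?_⟩
      · show π z ∈ y.asIdeal
        rw [Ideal.Quotient.eq_zero_iff_mem.2 hz]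
        exact Ideal.zero_mem _
      · refine PrimeSpectrum.ext (Ideal.comap_injective_of_surjective π Ideal.Quotient.mk_surjective ?_)
        exact h.trans hmax.symm
    · rintro ⟨hIx, hxm⟩
      obtain ⟨y, rfl⟩ : x ∈ Set.range (PrimeSpectrum.comap π) := by
        rw [range_comap_of_surjective _ _ Ideal.Quotient.mk_surjective, Ideal.mk_ker]
        exact hIx
      exact ⟨y, fun h => hxm (by rw [h]; exact hmax), rfl⟩
  have h := HLVT.min_le_ara I s hs _ hcl
    (fun hc => hcon (himg ▸ hc.image _ (PrimeSpectrum.continuous_comap π).continuousOn)) hItop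
  have h0 : topologicalKrullDim ({IsLocalRing.closedPoint (R ⧸ I)} : Set (PrimeSpectrum (R ⧸ I))) ≤ 0 :=
    topologicalKrullDim_zero_of_discreteTopology _
  have hsub : LocCoh.subdim (PrimeSpectrum R) = d := by
    rw [LocCoh.subdim, irreducibleComponents_eq_singleton]
    simp only [Set.mem_singleton_iff, iInf_iInf_eq_left]
    rw [← hd, ← PrimeSpectrum.topologicalKrullDim_eq_ringKrullDim]
    exact IsHomeomorph.topologicalKrullDim_eq _ (Homeomorph.Set.univ _).isHomeomorph
  have hconn : (d : WithBot ℕ∞) ≤ LocCoh.connDim (PrimeSpectrum R) := le_iInf₂ fun Z ⟨hZ, hZn⟩ => by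
    have : Z = Set.univ := by
      by_contra hne
      refine hZn (IsIrreducible.isConnected ⟨Set.nonempty_compl.2 hne, ?_⟩)
      exact (IrreducibleSpace.isIrreducible_univ _).isPreirreducible.open_subset hZ.isOpen_compl (Set.subset_univ _)
    rw [this, ← hd, ← PrimeSpectrum.topologicalKrullDim_eq_ringKrullDim]
    exact (IsHomeomorph.topologicalKrullDim_eq _ (Homeomorph.Set.univ _).isHomeomorph).ge
  have h1 : (d : WithBot ℕ∞) ≤ min (LocCoh.connDim (PrimeSpectrum R) + 1) (LocCoh.subdim (PrimeSpectrum R)) :=
    le_min (hconn.trans (le_add_of_nonneg_right (by simp))) hsub.ge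
  have h2 : (d : WithBot ℕ∞) ≤ ((s.card + 1 : ℕ) : WithBot ℕ∞) := by
    refine h1.trans (h.trans ((add_le_add (add_le_add h0 le_rfl) le_rfl).trans ?_))
    rw [zero_add]; push_cast; rfl
  have h3 : d ≤ s.card + 1 := by exact_mod_cast h2
  have h4 : s.card ≤ t := Finset.card_image_le.trans (by simp)
  omega

end Groth.Agent.S17758
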