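import Groth.Statements.S17761
import Groth.Agent.LocH.NonVanishing
import Mathlib
-- import your own Groth.Agent.* helpers here

set_option autoImplicit false
universe u
open LocCoh

open CategoryTheory
open scoped Pointwise

namespace Groth.Agent.S17761

/-- Let R be a Noetherian local ring with maximal ideal m and M a finitely generated R-module whose
support has positive dimension n. Then the local cohomology module H^n_m(M) is not a finitely
generated R-module. -/
theorem result (R : Type u) [CommRing R] [IsNoetherianRing R] [IsLocalRing R] (M : Type u) [AddCommGroup M] [Module R M] [Module.Finite R M] (n : ℕ) (hn0 : 0 < n) (hn : Module.supportDim R M = n) : ¬ Module.Finite R (LocCoh.H (IsLocalRing.maximalIdeal R) n M) := by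
  intro hfin
  let m := IsLocalRing.maximalIdeal R
  obtain ⟨q, hq, hqd⟩ := LocH.exists_prime_quotient_dim hn
  have hqd' : ringKrullDim (R ⧸ q.asIdeal) = n := by
    refine le_antisymm ?_ hqd
    rw [← hn, ← Module.supportDim_quotient_eq_ringKrullDim]
    exact Order.krullDim_le_of_strictMono (fun a => ⟨a.1, Module.mem_support_iff_of_finite.2
      ((Module.mem_support_iff_of_finite.1 hq).trans (LocH.mem_support_quotient_iff.1 a.2))⟩) fun a b hab => hab
  obtain ⟨x, hxm, hxq⟩ : ∃ x ∈ m, x ∉ q.asIdeal := by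
    by_contra! hc
    have hqm : q.asIdeal = m := le_antisymm (IsLocalRing.le_maximalIdeal q.isPrime.ne_top) hc
    have : IsField (R ⧸ q.asIdeal) :=
      (Ideal.Quotient.maximal_ideal_iff_isField_quotient _).1 (hqm ▸ IsLocalRing.maximalIdeal.isMaximal R)
    have h0 := ringKrullDim_eq_zero_of_isField this
    rw [hqd'] at h0
    have h2 : n = 0 := by exact_mod_cast h0
    omega
  obtain ⟨φ, hφ⟩ := LocH.exists_hom_ne_zero q hq
  obtain ⟨w, hw⟩ : ∃ w, φ w ≠ 0 := by
    by_contra! hcon
    exact hφ (LinearMap.ext hcon)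
  obtain ⟨c, hc⟩ := Ideal.Quotient.mk_surjective (φ w)
  have hcq : c ∉ q.asIdeal := fun hmem => hw (hc ▸ Ideal.Quotient.eq_zero_iff_mem.2 hmem)
  have hlt : Module.supportDim R ((R ⧸ q.asIdeal) ⧸ LinearMap.range φ) < (n : WithBot ℕ∞) := by
    refine (Module.supportDim_le_of_surjective (R := R) ((c • (⊤ : Submodule R (R ⧸ q.asIdeal))).liftQ
      (LinearMap.range φ).mkQ ?_) ?_).trans_lt (LocH.supportDim_quotient_lt hcq hqd'.le)
    · rintro _ ⟨z, -, rfl⟩
      obtain ⟨r, rfl⟩ := Ideal.Quotient.mk_surjective z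
      refine (Submodule.Quotient.mk_eq_zero _).2 ⟨r • w, ?_⟩
      show φ (r • w) = c • Ideal.Quotient.mk q.asIdeal r
      rw [map_smul, ← hc]
      show Ideal.Quotient.mk _ (r * c) = Ideal.Quotient.mk _ (c * r)
      rw [mul_comm]
    · intro z
      obtain ⟨z', rfl⟩ := Submodule.mkQ_surjective _ z
      exact ⟨Submodule.Quotient.mk z', rfl⟩
  have h3 := LocH.subsingleton_of_supportDim_lt m n _ hlt
  let S : ShortComplex (ModuleCat.{u} R) :=
    ShortComplex.mk (X₁ := ModuleCat.of R (LinearMap.range φ)) (X₂ := ModuleCat.of R (R ⧸ q.asIdeal))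
      (X₃ := ModuleCat.of R ((R ⧸ q.asIdeal) ⧸ LinearMap.range φ))
      (ModuleCat.ofHom (LinearMap.range φ).subtype) (ModuleCat.ofHom (LinearMap.range φ).mkQ) (by
        ext z
        exact (Submodule.Quotient.mk_eq_zero _).2 z.2)
  have hS : S.ShortExact :=
    { exact := by
        rw [ShortComplex.moduleCat_exact_iff]
        intro v hv
        exact ⟨⟨v, (Submodule.Quotient.mk_eq_zero _).1 hv⟩, rfl⟩
      mono_f := (ModuleCat.mono_iff_injective _).2 (LinearMap.range φ).injective_subtype
      epi_g := (ModuleCat.epi_iff_surjective _).2 (Submodule.mkQ_surjective _) }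
  have h1 := LocH.map_surjective_of_surjective (I := m) φ.rangeRestrict φ.surjective_rangeRestrict n
    (by rw [hn]; exact_mod_cast Nat.lt_succ_self n)
  let ψ : LocCoh.H m n M →ₗ[R] LocCoh.H m n (R ⧸ q.asIdeal) :=
    ((localCohomology m n).map S.f).hom ∘ₗ ((localCohomology m n).map (ModuleCat.ofHom φ.rangeRestrict)).hom
  have hψ : Function.Surjective ψ := fun y => by
    obtain ⟨y', rfl⟩ := LocH.exact₂ hS n (x := y) (h3.elim _ _)
    obtain ⟨y'', rfl⟩ := h1 y'
    exact ⟨y'', rfl⟩
  have hfq : Module.Finite R (LocCoh.H m n (R ⧸ q.asIdeal)) := Module.Finite.of_surjective ψ hψ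
  have htop : (⊤ : Submodule R (LocCoh.H m n (R ⧸ q.asIdeal))) ≤ Ideal.span {x} • ⊤ := fun y _ => by
    obtain ⟨z, rfl⟩ := LocH.smul_surjective_of_notMem hxq hqd'.le y
    exact Submodule.smul_mem_smul (Ideal.mem_span_singleton_self x) Submodule.mem_top
  have hbot := Submodule.eq_bot_of_le_smul_of_le_jacobson_bot (Ideal.span {x}) ⊤ Module.Finite.fg_top htop
    (by rw [IsLocalRing.jacobson_eq_maximalIdeal ⊥ bot_ne_top, Ideal.span_singleton_le_iff_mem]; exact hxm)
  exact LocH.nontrivial_quotient_prime n q.asIdeal q.isPrime hqd'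
    ((Submodule.subsingleton_iff R).1 (subsingleton_iff_bot_eq_top.1 hbot.symm))

end Groth.Agent.S17761
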