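import Groth.Statements.S17764
import Mathlib
-- import your own Groth.Agent.* helpers here

set_option autoImplicit false
universe u
open InjHull

namespace Groth.Agent.S17764

/-- Let R be a commutative ring and M an R-module which is torsion-free (no nonzero element of R kills a
nonzero element of M) and divisible (multiplication by every nonzero element of R is surjective on
M). Then M is an injective R-module. (Over a ring with zero divisors the two hypotheses force M =
0.) -/
theorem result (R : Type u) [CommRing R] (M : Type u) [AddCommGroup M] [Module R M] [NoZeroSMulDivisors R M] (hdiv : ∀ r : R, r ≠ 0 → Function.Surjective (fun m : M => r • m)) : Module.Injective R M := by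
  classical
  refine Module.Baer.injective fun I g => ?_
  by_cases h : ∀ x : I, x = 0
  · exact ⟨0, fun x hx => by rw [h ⟨x, hx⟩, map_zero]; rfl⟩
  push Not at h
  obtain ⟨x, hx⟩ := h
  have hx' : (x : R) ≠ 0 := fun e => hx (Subtype.ext e)
  obtain ⟨m, hm⟩ := hdiv (x : R) hx' (g x)
  refine ⟨LinearMap.toSpanSingleton R M m, fun y hy => ?_⟩
  show y • m = _
  have h1 : (x : R) • g ⟨y, hy⟩ = (x : R) • (y • m) := by
    rw [smul_comm (x : R) y m, show (x : R) • m = g x from hm, ← map_smul, ← map_smul]
    exact congrArg g (Subtype.ext (mul_comm (x : R) y))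
  exact (sub_eq_zero.1 ((NoZeroSMulDivisors.eq_zero_or_eq_zero_of_smul_eq_zero
    (show (x : R) • (g ⟨y, hy⟩ - y • m) = 0 by rw [smul_sub, h1, sub_self])).resolve_left hx')).symm

end Groth.Agent.S17764
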