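import Groth.Statements.S17766
import Groth.Agent.CanonIdeal.Choose
import Groth.Agent.CanonIdeal.Rees
import Groth.Agent.ExtCompare.Basic

set_option autoImplicit false
universe u
open CategoryTheory Opposite
open LocCoh

namespace Groth.Agent.S17766

/-- Let B be a regular local ring, p a prime ideal of B of height r, and suppose that A = B ⧸ p is
Cohen–Macaulay. Then the B-module Ext^r_B(A, B) is isomorphic either to A itself or to a proper
ideal I of A which is unmixed of height one, i.e. every associated prime of A ⧸ I has height one in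
A (existence of a B-linear isomorphism in each case). -/
theorem result (B : Type u) [CommRing B] [IsRegularLocalRing B] (p : Ideal B) [p.IsPrime] [LocCoh.IsCohenMacaulayLocalRing (B ⧸ p)] (r : ℕ) (hr : p.height = r) : Nonempty (((Ext B (ModuleCat.{u} B) r).obj (op (ModuleCat.of B (B ⧸ p)))).obj (ModuleCat.of B B) ≃ₗ[B] (B ⧸ p)) ∨ ∃ I : Ideal (B ⧸ p), I ≠ ⊤ ∧ (∀ q ∈ associatedPrimes (B ⧸ p) ((B ⧸ p) ⧸ I), q.height = 1) ∧ Nonempty (((Ext B (ModuleCat.{u} B) r).obj (op (ModuleCat.of B (B ⧸ p)))).obj (ModuleCat.of B B) ≃ₗ[B] I) := by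
  obtain ⟨xs, hreg, hlen, hxp, I, ⟨e⟩, hI⟩ := Groth.Agent.CanonIdeal.exists_ideal p r hr
  obtain ⟨e₁⟩ := Groth.Agent.CanonIdeal.nonempty_ext_linearEquiv_hom (B ⧸ p) xs B hreg (fun a ha v => by
    obtain ⟨b, rfl⟩ := Ideal.Quotient.mk_surjective v
    rw [Algebra.smul_def, Ideal.Quotient.algebraMap_eq, ← map_mul, Ideal.Quotient.eq_zero_iff_mem]
    exact p.mul_mem_right _ (hxp a ha))
  rw [hlen] at e₁
  let e₂ := (Groth.Agent.ExtCompare.extEquiv B (ModuleCat.of B (B ⧸ p)) (ModuleCat.of B B) r).trans (e₁.trans e)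
  by_cases h : I = ⊤
  · let e₃ : I ≃ₗ[B] (B ⧸ p) :=
      ((LinearEquiv.ofEq I ⊤ h).trans Submodule.topEquiv).restrictScalars B
    exact Or.inl ⟨e₂.trans e₃⟩
  · exact Or.inr ⟨I, h, hI, ⟨e₂⟩⟩

end Groth.Agent.S17766
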