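import Groth.Statements.S17767
-- import your own Groth.Agent.* helpers here
import Groth.Agent.GrLCLib.Bridge
import Groth.Agent.GrLCLib.Dim
import Groth.Agent.LocH.Artinian

set_option autoImplicit false
universe u
open GrLC
open Groth.Agent

namespace Groth.Agent.S17767

/-- Let R = ⊕_{n ≥ 0} R_n be a Noetherian positively ℤ-graded ring which is *local, i.e. has a unique
homogeneous maximal ideal m (equivalently R_0 is local), and let M be a finitely generated graded
R-module. Then for every i the homogeneous pieces H^i_m(M)_n of the graded local cohomology with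
support in m, computed from any *injective resolution of M in the graded category, are zero for all
sufficiently large n. -/
theorem result (R : Type u) [CommRing R] [IsNoetherianRing R] (𝒜 : ℤ → AddSubgroup R) [GradedRing 𝒜] (hpos : ∀ n : ℤ, n < 0 → 𝒜 n = ⊥) (m : HomogeneousIdeal 𝒜) (hm : GrLC.IsStarLocal 𝒜 m) (M : Type u) [AddCommGroup M] [Module R M] [Module.Finite R M] (ℳ : ℤ → AddSubgroup M) [DirectSum.Decomposition ℳ] [SetLike.GradedSMul 𝒜 ℳ] (E : GrLC.StarInjRes 𝒜 ℳ) (i : ℕ) : ∃ N : ℤ, ∀ n : ℤ, N ≤ n → E.Hcomp m i n = ⊥ := by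
  haveI hmax := GrLCLib.isMaximal_of_isStarLocal hpos hm
  haveI := LocH.isArtinian_localCohomology m.toIdeal i M
  obtain ⟨e⟩ := GrLCLib.H_equiv_localCohomology E m i
  haveI : IsArtinian R (E.H m i) := isArtinian_of_linearEquiv e.symm
  -- classes of degree at least `n`
  let S : ℕ → Submodule R (E.H m i) := fun n =>
    { carrier := {h | ∃ z, E.toH m i z = h ∧ ∀ g : ℤ, g < n → GrLCLib.pr (E.X i).gr g (z : (E.X i).carrier) = 0}
      zero_mem' := ⟨0, map_zero _, fun g _ => by rw [Submodule.coe_zero, map_zero]⟩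
      add_mem' := by
        rintro _ _ ⟨z, rfl, hz⟩ ⟨w, rfl, hw⟩
        exact ⟨z + w, map_add _ _ _, fun g hg => by rw [Submodule.coe_add, map_add, hz g hg, hw g hg, add_zero]⟩
      smul_mem' := by
        rintro c _ ⟨z, rfl, hz⟩
        refine ⟨c • z, map_smul _ _ _, fun g hg => ?_⟩
        rw [Submodule.coe_smul]
        induction c using DirectSum.Decomposition.inductionOn 𝒜 with
        | zero => rw [zero_smul, map_zero]
        | @homogeneous j p =>
          rw [GrLCLib.pr_smul 𝒜 (E.X i).gr p.2]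
          rcases lt_or_ge j 0 with hj | hj
          · rw [show (p : R) = 0 from (hpos j hj).le p.2, zero_smul]
          · rw [hz _ (by omega), smul_zero]
        | add a b ha hb => rw [add_smul, map_add, ha, hb, add_zero] }
  have hanti : ∀ a b : ℕ, a ≤ b → S b ≤ S a := fun a b hab h ⟨z, h1, h2⟩ => ⟨z, h1, fun g hg => h2 g (by omega)⟩
  obtain ⟨N, hN⟩ := monotone_stabilizes_iff_artinian.2 inferInstance
    (⟨fun n => OrderDual.toDual (S n), fun a b hab => hanti a b hab⟩ : ℕ →o (Submodule R (E.H m i))ᵒᵈ)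
  refine ⟨N, fun n hn => (GrLCLib.hcomp_eq_bot_iff E m i n).2 fun z hz hzc => ?_⟩
  have h1 : E.toH m i ⟨z, hzc⟩ ∈ S N := ⟨⟨z, hzc⟩, rfl, fun g hg => GrLCLib.pr_of_mem_ne _ hz (by omega)⟩
  rw [show S N = S (n.toNat + 1) from congrArg OrderDual.ofDual (hN (n.toNat + 1) (by omega))] at h1
  obtain ⟨w, hw, hwg⟩ := h1
  have h2 : z - (w : (E.X i).carrier) ∈ E.cobdy m i := (Submodule.Quotient.eq ((E.cobdy m i).comap (E.cocyc m i).subtype)).1 hw.symm
  have h3 := GrLCLib.homog_cobdy E m i _ h2 n
  rwa [map_sub, GrLCLib.pr_of_mem _ hz, hwg n (by omega), sub_zero] at h3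

end Groth.Agent.S17767
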