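import Groth.Statements.S17769
-- import your own Groth.Agent.* helpers here
import Groth.Agent.GrLCLib.Dim
import Groth.Agent.GrLCLib.MulRes

set_option autoImplicit false
universe u
open GrLC
open Groth.Agent

namespace Groth.Agent.S17769

/-- Let R = ⊕_{n ≥ 0} R_n be a Noetherian positively ℤ-graded ring which is standard graded (its
irrelevant ideal is generated by R_1), *local with unique homogeneous maximal ideal m,
Cohen–Macaulay, and of Krull dimension d + 1. Let x be a homogeneous element of degree k lying in m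
which is a non-zerodivisor on R, and let N be R ⧸ xR as a graded R-module, presented by a surjective
degree-preserving R-linear map π : R → N with kernel xR. Writing a(·) for the largest degree in
which the top graded local cohomology with support in m is nonzero (computed from *injective
resolutions I of R and F of N), one has a(R ⧸ xR) = a(R) + k, that is, the end of H^d_m(N) equals
the end of H^{d+1}_m(R) plus k. (The published statement does not require x to lie in m; for a
homogeneous unit x of degree 0 one has R ⧸ xR = 0, whose local cohomology vanishes, and the formula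
fails. The proof uses that H^d_m(R ⧸ xR) is the top local cohomology, i.e. that x is not a unit, so
x is taken in m here; for a standard graded ring this excludes only the units of degree 0.) -/
theorem result (R : Type u) [CommRing R] [LocCoh.IsCohenMacaulayRing R] (𝒜 : ℤ → AddSubgroup R) [GradedRing 𝒜] (hpos : ∀ n : ℤ, n < 0 → 𝒜 n = ⊥) (hstd : Ideal.span (⋃ n ∈ Set.Ioi (0 : ℤ), (𝒜 n : Set R)) = Ideal.span ((𝒜 1 : AddSubgroup R) : Set R)) (m : HomogeneousIdeal 𝒜) (hm : GrLC.IsStarLocal 𝒜 m) (d : ℕ) (hd : ringKrullDim R = (d + 1 : ℕ)) (I : GrLC.StarInjRes 𝒜 𝒜) (x : R) (k : ℤ) (hxk : x ∈ 𝒜 k) (hxm : x ∈ m.toIdeal) (hx : IsSMulRegular R x) (N : Type u) [AddCommGroup N] [Module R N] (𝒩 : ℤ → AddSubgroup N) [DirectSum.Decomposition 𝒩] [SetLike.GradedSMul 𝒜 𝒩] (π : R →ₗ[R] N) (hπ : GrLC.IsGrHom 𝒜 𝒩 π) (hπs : Function.Surjective π) (hπk : LinearMap.ker π = Ideal.span {x}) (F : GrLC.StarInjRes 𝒜 𝒩) : GrLC.endDeg (F.Hgr m d) = GrLC.endDeg (I.Hgr m (d + 1)) + ((k : WithTop ℤ) : WithBot (WithTop ℤ)) := by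
  have hd' : m.toIdeal.height = ((d + 1 : ℕ) : ℕ∞) :=
    WithBot.coe_inj.1 ((GrLCLib.ringKrullDim_eq_height hpos hm).symm.trans hd)
  have hvan : ∀ i < d + 1, ∀ e, GrLCLib.Van I m i e := fun i hi e =>
    GrLCLib.van_of_subsingleton I m (GrLCLib.subsingleton_H_of_lt_height (I := m.toIdeal) (GrLCLib.isStarLocal_ne_top hm)
      (by rw [hd']; exact_mod_cast hi)) e
  have h := GrLCLib.endDeg_quot_seq m F 1 (GrLC.GMod.of 𝒜 R 𝒜) I d hvan (fun _ => x) (fun _ => k) (fun _ => hxk)
    (fun _ => GrLCLib.nonneg_or_eq_zero hpos hxk) (fun _ => hxm)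
    ((RingTheory.Sequence.isWeaklyRegular_cons_iff R x []).2 ⟨hx, RingTheory.Sequence.IsWeaklyRegular.nil _ _⟩) π hπ hπs
    (by rw [Set.range_const]; exact hπk.trans (Ideal.mul_top _).symm)
  rw [Fin.sum_univ_one] at h
  exact h

end Groth.Agent.S17769
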