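import Groth.Statements.S17774
import Groth.Agent.S7699
import Groth.Agent.LocH.TopSocle
import Groth.Agent.InjHull.Basic
import Groth.Agent.Goren.Liaison
import Groth.Agent.Goren.Basic
-- import your own Groth.Agent.* helpers here

set_option autoImplicit false
universe u
open CategoryTheory Opposite
open LocCoh

namespace Groth.Agent.S17774

/-- Let (S, n) be a Gorenstein local ring, I an ideal of S of height g such that R = S ⧸ I is a
Cohen–Macaulay local ring, of Krull dimension d, and E an injective hull of the residue field of S.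
Then the canonical module of R is Ext^g_S(R, S), in the following sense: the Matlis dual
Hom_S(Ext^g_S(R, S), E) is isomorphic as an S-module to the top local cohomology H^d_n(R) of R
regarded as an S-module (existence of an S-linear isomorphism; Hom into E over S and local
cohomology with support in n agree with the corresponding notions over R for R-modules). -/
theorem result (S : Type u) [CommRing S] [LocCoh.IsGorensteinLocalRing S] (I : Ideal S) (g : ℕ) (hg : I.height = g) [LocCoh.IsCohenMacaulayLocalRing (S ⧸ I)] (d : ℕ) (hd : ringKrullDim (S ⧸ I) = d) (E : Type u) [AddCommGroup E] [Module S E] (f : IsLocalRing.ResidueField S →ₗ[S] E) (hf : InjHull.IsInjectiveHull f) : Nonempty ((((Ext S (ModuleCat.{u} S) g).obj (op (ModuleCat.of S (S ⧸ I)))).obj (ModuleCat.of S S) →ₗ[S] E) ≃ₗ[S] LocCoh.H (IsLocalRing.maximalIdeal S) d (S ⧸ I)) := by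
  haveI := Goren.isCohenMacaulay S
  obtain ⟨D, hD⟩ := SerreReg.exists_dim_nat S
  obtain ⟨g', hg'⟩ := LocH.WeakDuality.isInjectiveHull_top hD
  obtain ⟨e, -⟩ := InjHull.injectiveHull_unique hf (g := g') hg'
  have hI : I ≠ ⊤ := Ideal.Quotient.nontrivial_iff.1 inferInstance
  obtain ⟨q, hq⟩ := Ideal.nonempty_minimalPrimes hI
  have key : ∀ q' ∈ I.minimalPrimes, ∃ h : ℕ, q'.height = h ∧ d + h = D := by
    intro q' hq'
    haveI := hq'.isPrime
    have h1 := Goren.dim_add_height I hq'
    rw [hd, hD] at h1
    obtain ⟨h, hh⟩ := ENat.ne_top_iff_exists.1 (Ideal.height_ne_top hq'.isPrime.ne_top)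
    rw [← hh] at h1
    exact ⟨h, hh.symm, by exact_mod_cast h1⟩
  obtain ⟨h, hh, hsum⟩ := key q hq
  have hgh : g = h := by
    have h2 : I.height = (h : ℕ∞) := by
      refine le_antisymm ((Ideal.height_mono hq.1.2).trans hh.le) ?_
      rw [Ideal.height_eq_inf_minimalPrimes]
      refine le_iInf₂ fun q' hq' => ?_
      haveI := hq'.isPrime
      obtain ⟨h', hh', hsum'⟩ := key q' hq'
      rw [hh']
      exact_mod_cast (by omega : h ≤ h')
    exact_mod_cast hg.symm.trans h2
  obtain rfl : d = D - g := by omega
  obtain ⟨a⟩ := S7699.result S D hD E f hf S ((LinearMap.ringLmapEquivSelf S S E).trans e) (S ⧸ I) g (by omega)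
  exact ⟨a.symm⟩

end Groth.Agent.S17774
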