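import Groth.Statements.S17775
import Groth.Agent.CechX.KoszulTop
import Groth.Agent.CechX.LocCoh
import Groth.Agent.LocH.TopSocle
import Groth.Agent.InjHull.Basic

set_option autoImplicit false
universe u
open BigOperators
open Goren

namespace Groth.Agent.S17775

/-- Let R be a Gorenstein local ring of Krull dimension d with maximal ideal m and residue field k, and
let x_1, …, x_d be a system of parameters of R, i.e. d elements generating an ideal whose radical is
m. Put t = x_1 ⋯ x_d. Then the R-module R_t ⧸ Σ_i R_{x_1⋯x̂_i⋯x_d}, realised as the quotient of the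
localization R_t by the R-submodule spanned by the fractions x_i^n / t^n (i = 1, …, d, n ≥ 0), is an
injective hull of k: some R-linear map from k into it is an injective hull. -/
theorem result (R : Type u) [CommRing R] [LocCoh.IsGorensteinLocalRing R] (d : ℕ) (hd : ringKrullDim R = d) (x : Fin d → R) (hx : (Ideal.span (Set.range x)).radical = IsLocalRing.maximalIdeal R) : ∃ f : IsLocalRing.ResidueField R →ₗ[R] (Localization.Away (∏ i, x i) ⧸ Submodule.span R {y : Localization.Away (∏ i, x i) | ∃ (i : Fin d) (n : ℕ), y = algebraMap R (Localization.Away (∏ i, x i)) (x i ^ n) * IsLocalization.Away.invSelf (∏ i, x i) ^ n}), InjHull.IsInjectiveHull f := by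
  obtain ⟨g, hg⟩ := Groth.Agent.LocH.WeakDuality.isInjectiveHull_top hd
  let fs := List.ofFn x
  have hlen : fs.length = d := List.length_ofFn
  have hprod : fs.prod = ∏ i, x i := List.prod_ofFn
  haveI : IsLocalization.Away fs.prod (Localization.Away (∏ i, x i)) := by rw [hprod]; infer_instance
  have hspan : (Ideal.span {a | a ∈ fs}).radical = (IsLocalRing.maximalIdeal R).radical := by
    rw [(IsLocalRing.maximalIdeal.isMaximal R).isPrime.radical, ← hx]
    congr 2
    ext a
    simp [fs, List.mem_ofFn, Set.mem_range]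
  obtain ⟨e₁⟩ := Groth.Agent.CechX.nonempty_koszulHLim_top_equiv (L := Localization.Away (∏ i, x i)) fs
  obtain ⟨e₂⟩ := Groth.Agent.CechX.nonempty_koszulHLim_equiv (ModuleCat.of R R) fs fs.length
  have h := Groth.Agent.CechX.nonempty_extCechH_iso fs (ModuleCat.of R R) fs.length
  change Nonempty ((DerCA.extCech (ModuleCat.of R R) fs).homology (fs.length : ℤ) ≅ _) at h
  rw [Groth.Agent.CechX.extCech_eq] at h
  obtain ⟨e₃⟩ := h
  let e₄ := (((localCohomology.isoOfSameRadical hspan fs.length).app (ModuleCat.of R R))).toLinearEquiv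
  let e₅ := (e₄.symm.trans e₃.toLinearEquiv.symm).trans (e₂.symm.trans e₁)
  have hN : Groth.Agent.CechX.topN (L := Localization.Away (∏ i, x i)) fs =
      Submodule.span R {y : Localization.Away (∏ i, x i) | ∃ (i : Fin d) (n : ℕ),
        y = algebraMap R (Localization.Away (∏ i, x i)) (x i ^ n) * IsLocalization.Away.invSelf (∏ i, x i) ^ n} := by
    have hinv : (IsLocalization.Away.invSelf (S := Localization.Away (∏ i, x i)) fs.prod) =
        IsLocalization.Away.invSelf (∏ i, x i) := by
      have h1 := IsLocalization.Away.mul_invSelf (S := Localization.Away (∏ i, x i)) fs.prod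
      have h2 := IsLocalization.Away.mul_invSelf (S := Localization.Away (∏ i, x i)) (∏ i, x i)
      have hp : algebraMap R (Localization.Away (∏ i, x i)) fs.prod = algebraMap R _ (∏ i, x i) := congrArg _ hprod
      rw [hp] at h1
      exact left_inv_eq_right_inv ((mul_comm _ _).trans h1) h2
    unfold Groth.Agent.CechX.topN
    congr 1
    ext y
    simp only [Set.mem_ofPred_eq, hinv]
    constructor
    · rintro ⟨g, hg, n, rfl⟩
      obtain ⟨i, rfl⟩ := List.mem_ofFn.1 hg
      exact ⟨i, n, rfl⟩
    · rintro ⟨i, n, rfl⟩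
      exact ⟨x i, List.mem_ofFn.2 ⟨i, rfl⟩, n, rfl⟩
  obtain ⟨e₆⟩ : Nonempty (LocCoh.H (IsLocalRing.maximalIdeal R) fs.length R ≃ₗ[R]
      (Localization.Away (∏ i, x i) ⧸ Groth.Agent.CechX.topN (L := Localization.Away (∏ i, x i)) fs)) := ⟨e₅⟩
  have g' := hlen.symm ▸ (show ∃ g : IsLocalRing.ResidueField R →ₗ[R] LocCoh.H (IsLocalRing.maximalIdeal R) d R,
    InjHull.IsInjectiveHull g from ⟨g, hg⟩)
  obtain ⟨g₀, hg₀⟩ := g'
  exact ⟨_, Groth.Agent.InjHull.isInjectiveHull_of_linearEquiv hg₀ (e₆.trans (Submodule.quotEquivOfEq _ _ hN))⟩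

end Groth.Agent.S17775
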