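import Groth.Statements.S17779
-- import your own Groth.Agent.* helpers here
import Mathlib

set_option autoImplicit false
open DRR

namespace Groth.Agent.S17779

/-- For natural numbers n and k with k ≤ n + 1, the alternating sum over j = 0, …, n of (−1)^(n−j) C(n,
j) j^k (with the convention 0^0 = 1) equals n! · n(n+1)/2 when k = n + 1, equals n! when k = n, and
vanishes when k < n. (The published statement takes n ≥ 1 and divides through by n!; the case n = 0
holds as well and is included.) -/
theorem result (n k : ℕ) (hk : k ≤ n + 1) :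
    (∑ j ∈ Finset.range (n + 1), (-1 : ℤ) ^ (n - j) * (n.choose j : ℤ) * (j : ℤ) ^ k) =
      (if k = n + 1 then (((n + 1).choose 2 * n.factorial : ℕ) : ℤ)
        else if k = n then (n.factorial : ℤ) else 0) := by
  let T : ℕ → ℕ → ℤ := fun n k =>
    ∑ j ∈ Finset.range (n + 1), (-1 : ℤ) ^ (n - j) * (n.choose j : ℤ) * (j : ℤ) ^ k
  have hT : ∀ n k, T n k = ((fwdDiff (1 : ℤ))^[n] (fun r : ℤ => r ^ k)) 0 := by
    intro n k
    rw [fwdDiff_iter_eq_sum_shift]
    simp [T]
  have hrec : ∀ n k, T (n + 1) (k + 1) = (n + 1) * (T n k + T (n + 1) k) := by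
    intro n k
    have h1 : T (n + 1) (k + 1) =
        (n + 1) * ((fwdDiff (1 : ℤ))^[n] (fun r : ℤ => r ^ k)) 1 := by
      rw [fwdDiff_iter_eq_sum_shift]
      simp only [T]
      rw [Finset.sum_range_succ' _ (n + 1), Finset.mul_sum]
      simp only [Nat.cast_zero, zero_pow (Nat.succ_ne_zero k), mul_zero, add_zero]
      refine Finset.sum_congr rfl fun j _ => ?_
      have h := congrArg (Nat.cast : ℕ → ℤ) (Nat.add_one_mul_choose_eq n j)
      push_cast at h
      rw [show n + 1 - (j + 1) = n - j by omega]
      simp only [Nat.cast_add, Nat.cast_one, nsmul_eq_mul, mul_one, zsmul_eq_mul, Int.cast_mul,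
        Int.cast_pow, Int.cast_neg, Int.cast_one, Int.cast_natCast, Int.cast_id]
      linear_combination (-1 : ℤ) ^ (n - j) * ((j : ℤ) + 1) ^ k * (-h)
    rw [h1, hT n k, hT (n + 1) k, Function.iterate_succ_apply']
    simp only [fwdDiff, zero_add]
    ring
  have hlt : ∀ n k, k < n → T n k = 0 := fun n k h => by
    rw [hT, fwdDiff_iter_pow_eq_zero_of_lt h]; rfl
  have heq : ∀ n, T n n = n.factorial := fun n => by
    rw [hT, fwdDiff_iter_eq_factorial]; rfl
  have hsucc : ∀ n, T n (n + 1) = (((n + 1).choose 2 * n.factorial : ℕ) : ℤ) := by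
    intro n
    induction n with
    | zero => simp [T]
    | succ n ih =>
      rw [hrec, ih, heq, Nat.choose_succ_succ (n + 1) 1, Nat.choose_one_right, Nat.factorial_succ]
      push_cast
      ring
  change T n k = _
  split_ifs with h1 h2
  · subst h1; exact hsucc n
  · subst h2; exact heq _
  · exact hlt n k (by omega)

end Groth.Agent.S17779
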