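import Groth.Statements.S17780
import Mathlib

set_option autoImplicit false
universe u
open DRR

namespace Groth.Agent.S17780

section
open fwdDiff Finset

lemma diff_pow (A : Type u) [CommRing A] (y : A) (n : ℕ) :
    (∀ k < n, (fwdDiff y)^[n] (fun t : A ↦ t ^ k) = 0) ∧
    (∀ x, (fwdDiff y)^[n] (fun t : A ↦ t ^ n) x = (n.factorial : A) * y ^ n) ∧
    (∀ x, (fwdDiff y)^[n] (fun t : A ↦ t ^ (n + 1)) x =
      ((n + 1).factorial : A) * x * y ^ n + ((n.factorial * (n + 1).choose 2 : ℕ) : A) * y ^ (n + 1)) := by
  induction n with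
  | zero => simp
  | succ n ih =>
    obtain ⟨h0, h1, h2⟩ := ih
    have hd : ∀ k x, (fwdDiff y)^[n + 1] (fun t : A ↦ t ^ k) x =
        ∑ i ∈ range k, (k.choose i : A) * y ^ (k - i) * (fwdDiff y)^[n] (fun t : A ↦ t ^ i) x := by
      intro k x
      rw [Function.iterate_succ_apply]
      have e : fwdDiff y (fun t : A ↦ t ^ k) = ∑ i ∈ range k, ((k.choose i : A) * y ^ (k - i)) • (fun t : A ↦ t ^ i) := by
        funext t
        simp only [fwdDiff, add_pow, sum_range_succ, Finset.sum_apply, Pi.smul_apply, smul_eq_mul,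
          Nat.sub_self, pow_zero, Nat.choose_self, Nat.cast_one, mul_one, add_sub_cancel_right]
        exact sum_congr rfl fun i _ ↦ by ring
      rw [e, fwdDiff_iter_finsetSum, Finset.sum_apply]
      exact sum_congr rfl fun i _ ↦ by rw [fwdDiff_iter_const_smul]; rfl
    refine ⟨fun k hk ↦ funext fun x ↦ ?_, fun x ↦ ?_, fun x ↦ ?_⟩
    · rw [hd, Pi.zero_apply]
      exact sum_eq_zero fun i hi ↦ by rw [h0 i (by rw [mem_range] at hi; omega)]; simp
    · rw [hd, sum_range_succ, sum_eq_zero fun i hi ↦ by rw [h0 i (mem_range.mp hi)]; simp, h1]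
      rw [Nat.choose_succ_self_right, Nat.factorial_succ, Nat.add_sub_cancel_left]
      push_cast
      ring
    · rw [hd, sum_range_succ, sum_range_succ, sum_eq_zero fun i hi ↦ by rw [h0 i (mem_range.mp hi)]; simp, h1, h2]
      have e1 : (n + 1 + 1).choose (n + 1) = n + 2 := Nat.choose_succ_self_right _
      have e2 : (n + 1 + 1).choose n = (n + 1 + 1).choose 2 := Nat.choose_symm_of_eq_add (by omega)
      have e3 : (n + 1).factorial * (n + 2).choose 2 =
          n.factorial * (n + 2).choose 2 + (n + 2) * (n.factorial * (n + 1).choose 2) := by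
        have a := Nat.choose_succ_succ (n + 1) 1
        rw [Nat.choose_one_right] at a
        have b : 2 * (n + 1).choose 2 = (n + 1) * n := by
          rw [Nat.choose_two_right, Nat.add_sub_cancel]
          exact Nat.two_mul_div_two_of_even (Nat.even_mul_pred_self (n + 1))
        rw [Nat.factorial_succ]
        change (n + 2).choose 2 = _ at a
        rw [a]
        nlinarith [b, Nat.factorial_pos n]
      rw [e1, e2, Nat.factorial_succ (n + 1), show n + 1 + 1 - n = 2 by omega, show n + 1 + 1 - (n + 1) = 1 by omega]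
      simp only [show n + 1 + 1 = n + 2 from rfl, e3]
      push_cast
      ring

end

/-- For x, y in a commutative ring and a natural number n, (n+1)! · x · y^n equals the sum over j = 0,
…, n of (−1)^(n−j) C(n, j) (x + j y)^(n+1), minus (n · (n+1)!/2) · y^(n+1). (The published identity
is stated in ℚ[x, y] with an overall factor 1/(n+1) and the coefficients C(n, j)(−1)^(n−j)/n!; it is
given here multiplied through by (n+1)!, which makes it an identity with integer coefficients valid
in every commutative ring; n · (n+1)!/2 is an integer.) -/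
theorem result (A : Type u) [CommRing A] (x y : A) (n : ℕ) :
    ((n + 1).factorial : A) * x * y ^ n =
      (∑ j ∈ Finset.range (n + 1), (-1 : A) ^ (n - j) * (n.choose j : A) * (x + (j : A) * y) ^ (n + 1))
        - ((n * (n + 1).factorial / 2 : ℕ) : A) * y ^ (n + 1) := by
  have h := (diff_pow A y n).2.2 x
  rw [fwdDiff_iter_eq_sum_shift] at h
  have hs : ∑ j ∈ Finset.range (n + 1), (-1 : A) ^ (n - j) * (n.choose j : A) * (x + (j : A) * y) ^ (n + 1) =
      ((n + 1).factorial : A) * x * y ^ n + ((n.factorial * (n + 1).choose 2 : ℕ) : A) * y ^ (n + 1) := by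
    rw [← h]
    refine Finset.sum_congr rfl fun j _ ↦ ?_
    simp [zsmul_eq_mul, nsmul_eq_mul]
  have hc : n * (n + 1).factorial / 2 = n.factorial * (n + 1).choose 2 := by
    rw [Nat.choose_two_right, ← Nat.mul_div_assoc _ (Nat.even_mul_pred_self (n + 1)).two_dvd, Nat.factorial_succ]
    congr 1
    simp only [Nat.add_sub_cancel]
    ring
  rw [hs, hc]
  ring

end Groth.Agent.S17780
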