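import Groth.Statements.S17781
import Mathlib

set_option autoImplicit false
open Variety

namespace Groth.Agent.S17781

section
open Finset

theorem not_dvd_choose_pred {p : ℕ} [hp : Fact p.Prime] : ∀ (e d : ℕ), 0 < d → p ^ e ∣ d →
    ¬ p ∣ (d - 1).choose (p ^ e - 1)
  | 0, d, _, _ => by simpa using hp.out.ne_one
  | e + 1, d, hd, he => by
    obtain ⟨q, rfl⟩ := he
    have hp2 := hp.out.two_le
    have hq : 0 < p ^ e * q := by
      rcases Nat.eq_zero_or_pos (p ^ e * q) with h | h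
      · rw [pow_succ'] at hd; rw [mul_assoc, h] at hd; simp at hd
      · exact h
    have h1 : ∀ m : ℕ, 0 < m → (p * m - 1) % p = p - 1 ∧ (p * m - 1) / p = m - 1 := by
      intro m hm
      have e1 : p * m - 1 = (p - 1) + p * (m - 1) := by
        obtain ⟨m, rfl⟩ := Nat.exists_eq_add_of_le hm
        simp [mul_add]; omega
      constructor
      · rw [e1, Nat.add_mul_mod_self_left, Nat.mod_eq_of_lt (by omega)]
      · rw [e1, Nat.add_mul_div_left _ _ (by omega), Nat.div_eq_of_lt (by omega), zero_add]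
    have hL := Choose.choose_modEq_choose_mod_mul_choose_div_nat (p := p) (n := p ^ (e + 1) * q - 1) (k := p ^ (e + 1) - 1)
    rw [pow_succ', mul_assoc, (h1 _ hq).1, (h1 _ hq).2, (h1 (p ^ e) (pow_pos hp.out.pos e)).1,
      (h1 (p ^ e) (pow_pos hp.out.pos e)).2, Nat.choose_self, one_mul] at hL
    intro hdvd
    rw [pow_succ', mul_assoc] at hdvd
    exact not_dvd_choose_pred e (p ^ e * q) hq (dvd_mul_right _ _) (hL.dvd_iff dvd_rfl |>.1 hdvd)

theorem choose_gcd_dvd (d N δ g : ℕ) (hd : 0 < d) (hg : ∀ n ∈ Icc 1 N, g ∣ d.choose n) (hδ : δ ∣ d) (hδN : δ ≤ N) :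
    g ∣ d / δ := by
  obtain ⟨q, rfl⟩ := hδ
  have hδ0 : 0 < δ := Nat.pos_of_mul_pos_right hd
  rw [Nat.mul_div_cancel_left q hδ0]
  rw [Nat.dvd_iff_prime_pow_dvd_dvd]
  intro p j hp hpj
  haveI := Fact.mk hp
  set e := δ.factorization p
  have hle : p ^ e ≤ N := (Nat.le_of_dvd hδ0 (Nat.ordProj_dvd δ p)).trans hδN
  have h1 : p ^ j ∣ (δ * q).choose (p ^ e) :=
    hpj.trans (hg _ (mem_Icc.2 ⟨Nat.one_le_pow _ _ hp.pos, hle⟩))
  have h2 := Nat.add_one_mul_choose_eq (δ * q - 1) (p ^ e - 1)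
  have he1 : p ^ e - 1 + 1 = p ^ e := Nat.succ_pred_eq_of_pos (pow_pos hp.pos e)
  rw [Nat.sub_add_cancel hd, he1] at h2
  have h3 : p ^ (j + e) ∣ δ * q * (δ * q - 1).choose (p ^ e - 1) := by
    rw [h2, pow_add]; exact Nat.mul_dvd_mul h1 dvd_rfl
  have h4 : Nat.Coprime (p ^ (j + e)) ((δ * q - 1).choose (p ^ e - 1)) :=
    ((hp.coprime_iff_not_dvd).2 (not_dvd_choose_pred e _ hd ((Nat.ordProj_dvd δ p).mul_right q))).pow_left _
  have h5 := h4.dvd_of_dvd_mul_right h3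
  obtain ⟨δ', hδ', hco⟩ : ∃ δ', δ = p ^ e * δ' ∧ ¬ p ∣ δ' :=
    ⟨δ / p ^ e, (Nat.ordProj_mul_ordCompl_eq_self δ p).symm, Nat.not_dvd_ordCompl hp hδ0.ne'⟩
  rw [hδ', pow_add, mul_comm (p ^ j), mul_assoc] at h5
  have h6 := (Nat.mul_dvd_mul_iff_left (pow_pos hp.pos e)).1 h5
  exact (((hp.coprime_iff_not_dvd).2 hco).pow_left j).dvd_of_dvd_mul_left h6

theorem gcd_euler (d N : ℕ) (hd : 1 ≤ d) (hN : 1 ≤ N) :
    (Finset.Icc 1 N).gcd (fun n => 1 - (-1 : ℤ) ^ n * ((d - 1).choose n : ℤ)) =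
      ((Finset.Icc 1 N).filter (fun δ => δ ∣ d)).gcd (fun δ => ((d / δ : ℕ) : ℤ)) := by
  set a : ℕ → ℤ := fun n => 1 - (-1 : ℤ) ^ n * ((d - 1).choose n : ℤ)
  have hdiff : ∀ n, a (n + 1) - a n = (-1 : ℤ) ^ n * (d.choose (n + 1) : ℤ) := by
    intro n
    obtain ⟨d', rfl⟩ := Nat.exists_eq_add_of_le' hd
    simp only [a, Nat.add_sub_cancel, Nat.choose_succ_succ', Nat.cast_add, pow_succ]
    ring
  refine dvd_antisymm_of_normalize_eq Finset.normalize_gcd Finset.normalize_gcd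
    (Finset.dvd_gcd fun δ hδ => ?_) (Finset.dvd_gcd fun n hn => ?_)
  · rw [mem_filter, mem_Icc] at hδ
    set G := (Finset.Icc 1 N).gcd a
    rw [← Int.natAbs_dvd]
    refine Int.natCast_dvd_natCast.2 (choose_gcd_dvd d N δ G.natAbs hd (fun n hn => ?_) hδ.2 hδ.1.2)
    rw [← Int.natCast_dvd_natCast, Int.natAbs_dvd]
    rw [mem_Icc] at hn
    obtain ⟨m, rfl⟩ := Nat.exists_eq_add_of_le' hn.1
    have h1 : G ∣ a (m + 1) := Finset.gcd_dvd (mem_Icc.2 hn)
    have h2 : G ∣ a m := by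
      rcases Nat.eq_zero_or_pos m with rfl | hm
      · simp [a]
      · exact Finset.gcd_dvd (mem_Icc.2 ⟨hm, by omega⟩)
    have h3 := (Int.dvd_sub h1 h2)
    rw [hdiff] at h3
    exact (IsUnit.dvd_mul_left ((isUnit_one.neg).pow m)).1 h3
  · set R := ((Finset.Icc 1 N).filter (fun δ => δ ∣ d)).gcd (fun δ => ((d / δ : ℕ) : ℤ))
    rw [mem_Icc] at hn
    have hc : ∀ n, 1 ≤ n → n ≤ N → R ∣ (d.choose n : ℤ) := by
      intro n hn1 hnN
      have hmem : d.gcd n ∈ (Finset.Icc 1 N).filter (fun δ => δ ∣ d) :=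
        mem_filter.2 ⟨mem_Icc.2 ⟨Nat.gcd_pos_of_pos_left n hd, (Nat.gcd_le_right d hn1).trans hnN⟩, Nat.gcd_dvd_left d n⟩
      refine (Finset.gcd_dvd hmem).trans (Int.natCast_dvd_natCast.2 ?_)
      have h2 := Nat.add_one_mul_choose_eq (d - 1) (n - 1)
      rw [Nat.sub_add_cancel hd, Nat.sub_add_cancel hn1] at h2
      set G := d.gcd n
      obtain ⟨u, hu⟩ := Nat.gcd_dvd_left d n
      obtain ⟨v, hv⟩ := Nat.gcd_dvd_right d n
      have hG : 0 < d.gcd n := Nat.gcd_pos_of_pos_left n hd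
      have hco := Nat.coprime_div_gcd_div_gcd (m := d) (n := n) hG
      rw [Nat.div_eq_of_eq_mul_right hG hu, Nat.div_eq_of_eq_mul_right hG hv] at hco
      show d / G ∣ _
      rw [Nat.div_eq_of_eq_mul_right hG hu]
      refine hco.dvd_of_dvd_mul_right ⟨(d - 1).choose (n - 1), ?_⟩
      apply Nat.eq_of_mul_eq_mul_left hG
      calc d.gcd n * (d.choose n * v) = d.choose n * (d.gcd n * v) := by ring
        _ = d.choose n * n := by rw [show d.gcd n * v = n from hv.symm]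
        _ = d * (d - 1).choose (n - 1) := h2.symm
        _ = d.gcd n * u * (d - 1).choose (n - 1) := by rw [show d.gcd n * u = d from hu.symm]
        _ = d.gcd n * (u * (d - 1).choose (n - 1)) := by ring
    have hall : ∀ m, m ≤ N → R ∣ a m := by
      intro m hm
      induction m with
      | zero => simp [a]
      | succ m ih =>
        have := dvd_add (ih (by omega)) ((hc (m + 1) (by omega) hm).mul_left ((-1 : ℤ) ^ m))
        rwa [← hdiff, add_sub_cancel] at this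
    exact hall n hn.2

end


/-- Let d ≥ 1 and N ≥ 1 be integers and let I(d, N) be the greatest common divisor of the quotients d/δ
over the divisors δ of d with 1 ≤ δ ≤ N. Then I(d, N) equals the greatest common divisor of the
integers χ(d, n) = 1 − (−1)^n C(d − 1, n) for 1 ≤ n ≤ N (χ(d, n) is the Euler characteristic of O_H
for a degree-d hypersurface H in projective n-space). Both greatest common divisors are taken in ℤ,
normalised to be non-negative. -/
theorem result (d N : ℕ) (hd : 1 ≤ d) (hN : 1 ≤ N) :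
    (Finset.Icc 1 N).gcd (fun n => 1 - (-1 : ℤ) ^ n * ((d - 1).choose n : ℤ)) =
      ((Finset.Icc 1 N).filter (fun δ => δ ∣ d)).gcd (fun δ => ((d / δ : ℕ) : ℤ)) := by
  exact gcd_euler d N hd hN

end Groth.Agent.S17781
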