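import Groth.Statements.S17789
import Groth.Agent.LefEssSurj.PureQuot

set_option autoImplicit false
universe u
open CategoryTheory CategoryTheory.Limits AlgebraicGeometry
open Pi1

namespace Groth.Agent.S17789

/-- Let A be a Noetherian local ring and I an ideal for which A is I-adically complete and A/I is local;
write X = Spec A, Y = V(I) and U for the punctured spectrum. Suppose that the effective Lefschetz
condition Leff(U, U ∩ Y) holds and that for every open V of X containing U ∩ Y the pair (X, X − V)
is pure (restriction of finite étale covers from any open W of X to W ∩ V is an equivalence). Then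
A/I is pure: the pair formed by Spec(A/I) and its closed point is pure. -/
theorem result (A : Type u) [CommRing A] [IsLocalRing A] [IsNoetherianRing A] (I : Ideal A) [IsAdicComplete I A] [IsLocalRing (A ⧸ I)] (hleff : LefX.LeffCond (↑(FEt.puncturedSpec A) : Scheme.{u}) ((Spec.map (CommRingCat.ofHom (Ideal.Quotient.mk I))).ker.comap (FEt.puncturedSpec A).ι)) (hpure : ∀ V : (Spec (CommRingCat.of A)).Opens, ((Spec.map (CommRingCat.ofHom (Ideal.Quotient.mk I))).ker.support : Set ↥(Spec (CommRingCat.of A))) ∩ (FEt.puncturedSpec A : Set ↥(Spec (CommRingCat.of A))) ⊆ (V : Set ↥(Spec (CommRingCat.of A))) → SGA2.IsPurePair (Spec (CommRingCat.of A)) V) : SGA2.IsPurePair (Spec (CommRingCat.of (A ⧸ I))) (FEt.puncturedSpec (A ⧸ I)) := by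
  exact Groth.Agent.LefEssSurj.isPurePair_quotient A I hleff hpure

end Groth.Agent.S17789
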