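import Groth.Statements.S1779
import Groth.Agent.DualFlat.Apps
import Groth.Agent.AdicFibres.Completion

set_option autoImplicit false
universe u
open CategoryTheory
attribute [local instance] HasDerivedCategory.standard
open Dual

namespace Groth.Agent.S1779

/-- Let A be a Noetherian ring, I an ideal and ω a dualizing complex for A. Assuming the derived base
change functor to the I-adic completion exists, the base change of ω is a dualizing complex for the
I-adic completion of A. -/
theorem result (A : Type u) [CommRing A] [IsNoetherianRing A] (I : Ideal A) [DRing.HasLBaseChange (algebraMap A (AdicCompletion I A))] (ω : Dual.D A) (hω : Dual.IsDualizing A ω) : Dual.IsDualizing (AdicCompletion I A) ((DRing.LBaseChange (algebraMap A (AdicCompletion I A))).obj ω) := by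
  haveI : IsNoetherianRing (AdicCompletion I A) :=
    Groth.Agent.ResExt.isNoetherianRing_adicCompletion I (IsNoetherian.noetherian I)
  refine DualFlat.isDualizing_lBaseChange_unramified (AdicCompletion I A) ω (fun n hn => ?_) hω
  haveI := hn
  exact (AdicFibres.maximal_setup A I n).2.2.symm

end Groth.Agent.S1779
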