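import Groth.Statements.S17790
import Groth.Agent.LefEssSurj.PureQuot
import Groth.Agent.LefConn.FullFaithful

set_option autoImplicit false
set_option backward.isDefEq.respectTransparency false
set_option backward.isDefEq.respectTransparency.types false
set_option maxHeartbeats 1000000
set_option linter.style.haveILetI false

universe u
open CategoryTheory CategoryTheory.Limits AlgebraicGeometry
open Pi1

namespace Groth.Agent.S17790

/-- Let A be a Noetherian local ring and I an ideal for which A is I-adically complete and A/I is local;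
write X = Spec A, Y = V(I) and U for the punctured spectrum. Suppose that A is pure (the pair formed
by X and its closed point is pure) and that the effective Lefschetz condition Leff(U, U ∩ Y) holds.
Then Y minus the closed point, i.e. U ∩ Y, is a connected (nonempty) subset of X. -/
theorem result (A : Type u) [CommRing A] [IsLocalRing A] [IsNoetherianRing A] (I : Ideal A) [IsAdicComplete I A] [IsLocalRing (A ⧸ I)] (hpure : SGA2.IsPurePair (Spec (CommRingCat.of A)) (FEt.puncturedSpec A)) (hleff : LefX.LeffCond (↑(FEt.puncturedSpec A) : Scheme.{u}) ((Spec.map (CommRingCat.ofHom (Ideal.Quotient.mk I))).ker.comap (FEt.puncturedSpec A).ι)) : IsConnected (((Spec.map (CommRingCat.ofHom (Ideal.Quotient.mk I))).ker.support : Set ↥(Spec (CommRingCat.of A))) ∩ (FEt.puncturedSpec A : Set ↥(Spec (CommRingCat.of A)))) := by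
  let P := FEt.puncturedSpec A
  let Q := FEt.puncturedSpec (A ⧸ I)
  haveI := Groth.Agent.LefEssSurj.isEquivalence_ι_of_isPurePair hpure
  obtain ⟨h1, h2⟩ := Groth.Agent.LefEssSurj.full_faithful_punctMap I hleff.1
  haveI := h1; haveI := h2
  let e := Groth.Agent.LefEssSurj.restrictComp (Groth.Agent.LefEssSurj.punctMap I) P.ι _ rfl
  haveI : (FEt.restrict (Groth.Agent.LefEssSurj.punctMap I ≫ P.ι)).Full := Functor.Full.of_iso e.symm
  haveI : (FEt.restrict (Groth.Agent.LefEssSurj.punctMap I ≫ P.ι)).Faithful := Functor.Faithful.of_iso e.symm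
  haveI : ConnectedSpace (Q : Scheme.{u}) :=
    Groth.Agent.LefConn.connectedSpace_of_restrict (Groth.Agent.LefEssSurj.punctMap I ≫ P.ι)
  haveI : IsClosedImmersion (Spec.map (CommRingCat.ofHom (Ideal.Quotient.mk I))) :=
    IsClosedImmersion.spec_of_surjective _ Ideal.Quotient.mk_surjective
  have h := isConnected_range (f := ⇑(Q.ι ≫ Spec.map (CommRingCat.ofHom (Ideal.Quotient.mk I))))
    (Q.ι ≫ Spec.map (CommRingCat.ofHom (Ideal.Quotient.mk I))).continuous
  convert h using 1
  rw [Scheme.Hom.comp_base, TopCat.coe_comp, Set.range_comp, Q.range_ι, Scheme.Hom.support_ker,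
    (Spec.map (CommRingCat.ofHom (Ideal.Quotient.mk I))).isClosedEmbedding.isClosed_range.closure_eq]
  rw [← show Spec.map (CommRingCat.ofHom (Ideal.Quotient.mk I)) ⁻¹ᵁ P = Q from Groth.Agent.LefEssSurj.preimage_quotient I]
  exact (Set.image_preimage_eq_range_inter (f := ⇑(Spec.map (CommRingCat.ofHom (Ideal.Quotient.mk I))))).symm

end Groth.Agent.S17790
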