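import Groth.Statements.S17791
import Groth.Agent.VdimThree.Deviation
-- import your own Groth.Agent.* helpers here

set_option autoImplicit false
universe u
open CategoryTheory CategoryTheory.Limits AlgebraicGeometry
open Pi1

namespace Groth.Agent.S17791

/-- Write A = R/I with R a regular local ring and I generated by a finite set s of elements of the
maximal ideal, let c = dim R − dim A, and call δ = |s| − c the deviation of this presentation (for a
minimal generating set this is the deviation of A). Suppose A is excellent, equidimensional of Krull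
dimension at least 3, and a complete intersection in codimension at most 2 + δ: for every prime Q of
A with height(Q) + c ≤ 2 + |s|, the ideal generated by s in the localization of R at the preimage of
Q is generated by a regular sequence. Then A is pure: for every open V of Spec A, restriction of
finite étale covers from V to V minus the closed point is an equivalence of categories. -/
theorem result (R : Type u) [CommRing R] [IsRegularLocalRing R] (s : Finset R) (hs : ∀ x ∈ s, x ∈ IsLocalRing.maximalIdeal R) [IsLocalRing (R ⧸ Ideal.span (↑s : Set R))] (hexc : EGA4.IsExcellent (R ⧸ Ideal.span (↑s : Set R))) (heq : EGA4.IsEquidim (R ⧸ Ideal.span (↑s : Set R))) (hdim : (3 : WithBot ℕ∞) ≤ ringKrullDim (R ⧸ Ideal.span (↑s : Set R))) (c : ℕ) (hc : ringKrullDim R = ringKrullDim (R ⧸ Ideal.span (↑s : Set R)) + (c : WithBot ℕ∞)) (hci : ∀ (Q : Ideal (R ⧸ Ideal.span (↑s : Set R))) [Q.IsPrime], Q.height + (c : ℕ∞) ≤ ((2 + s.card : ℕ) : ℕ∞) → CInt.IsRegularIdeal ((Ideal.span (↑s : Set R)).map (algebraMap R (Localization.AtPrime (Q.comap (Ideal.Quotient.mk (Ideal.span (↑s : Set R)))))))) : SGA2.IsPurePair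 (Spec (CommRingCat.of (R ⧸ Ideal.span (↑s : Set R)))) (FEt.puncturedSpec (R ⧸ Ideal.span (↑s : Set R))) := by
  let A := R ⧸ Ideal.span (↑s : Set R)
  let Q := IsLocalRing.maximalIdeal A
  have hQ : (3 : ℕ∞) ≤ Q.height := by
    rw [← IsLocalRing.maximalIdeal_height_eq_ringKrullDim] at hdim
    exact WithBot.coe_le_coe.1 hdim
  haveI := (Groth.Agent.VdimThree.isEquivalence_completion_atPrime s c hc hci Q hQ).1
  exact Groth.Agent.VdimThree.isPurePair_congr
    (IsLocalization.atUnits A Q.primeCompl (S := Localization.AtPrime Q)
      (fun x hx => IsLocalRing.notMem_maximalIdeal.1 hx)).toRingEquiv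

end Groth.Agent.S17791
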