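import Groth.Statements.S17797
import Mathlib

set_option autoImplicit false
universe u
open CAlg

namespace Groth.Agent.S17797

/-- Suppose k is a field of characteristic zero and S is a local domain that is an essentially
finite-type k-algebra. Then there are an extension field K of k, a K-algebra A of finite type and a
maximal ideal m of A such that S is isomorphic over k to the localization A_m. -/
theorem result (k : Type u) [Field k] [CharZero k] (S : Type u) [CommRing S] [IsDomain S] [IsLocalRing S] [Algebra k S] [Algebra.EssFiniteType k S] : ∃ (K : Type u) (_ : Field K) (_ : Algebra k K) (A : Type u) (_ : CommRing A) (_ : Algebra K A) (_ : Algebra k A) (_ : IsScalarTower k K A) (_ : Algebra.FiniteType K A) (m : Ideal A) (_ : m.IsMaximal), Nonempty (S ≃ₐ[k] Localization.AtPrime m) := by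
  classical
  let L := IsLocalRing.ResidueField S
  let res : S →ₐ[k] L := IsScalarTower.toAlgHom k S L
  obtain ⟨ι, y, hy⟩ := exists_isTranscendenceBasis' k L
  choose yt hyt using fun i => IsLocalRing.residue_surjective (y i)
  let P := MvPolynomial ι k
  let j : P →ₐ[k] S := MvPolynomial.aeval yt
  have hj : res.comp j = MvPolynomial.aeval y := MvPolynomial.algHom_ext fun i => by
    simp [j, res]
    exact hyt i
  have hju : ∀ m : nonZeroDivisors P, IsUnit (j.toRingHom (m : P)) := fun m => by
    refine IsLocalRing.residue_ne_zero_iff_isUnit _ |>.1 fun e => ?_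
    refine nonZeroDivisors.coe_ne_zero m (hy.1 ?_)
    rw [map_zero, ← hj]
    exact e
  let K := FractionRing P
  let g : K →+* S := IsLocalization.lift hju
  have hg : ∀ m : P, g (algebraMap P K m) = j m := fun m => IsLocalization.lift_eq hju m
  letI : Algebra K S := g.toAlgebra
  haveI : IsScalarTower k K S := IsScalarTower.of_algebraMap_eq fun x => by
    show algebraMap k S x = g (algebraMap k K x)
    rw [IsScalarTower.algebraMap_apply k P K, hg, j.commutes]
  have halg : Algebra.IsAlgebraic K L := ⟨fun z => by
    obtain ⟨q, hq0, hq⟩ := hy.isAlgebraic.isAlgebraic z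
    let ψ : Algebra.adjoin k (Set.range y) →+* K :=
      (algebraMap P K).comp (hy.1.aevalEquiv.symm : _ ≃ₐ[k] P).toRingEquiv.toRingHom
    have hψ : Function.Injective ψ :=
      (IsFractionRing.injective P K).comp hy.1.aevalEquiv.symm.injective
    refine ⟨q.map ψ, (Polynomial.map_ne_zero_iff hψ).2 hq0, ?_⟩
    have hc : (algebraMap K L).comp ψ = algebraMap (Algebra.adjoin k (Set.range y)) L := RingHom.ext fun v => by
      obtain ⟨m, rfl⟩ := hy.1.aevalEquiv.surjective v
      show res (g (algebraMap P K (hy.1.aevalEquiv.symm (hy.1.aevalEquiv m)))) = _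
      rw [AlgEquiv.symm_apply_apply, hg, ← AlgHom.comp_apply, hj]
      exact (hy.1.algebraMap_aevalEquiv m).symm
    rw [Polynomial.aeval_def, Polynomial.eval₂_map, hc]
    exact hq⟩
  let σ : Set S := (Algebra.EssFiniteType.finset k S : Set S)
  let A := Algebra.adjoin K σ
  haveI hft : Algebra.FiniteType K A := by
    constructor
    rw [Subalgebra.fg_top]
    exact ⟨_, rfl⟩
  let m : Ideal A := (IsLocalRing.maximalIdeal S).comap (algebraMap A S)
  have hsub : (IsUnit.submonoid S).comap (algebraMap A S) = m.primeCompl := by
    ext a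
    show IsUnit (algebraMap A S a) ↔ ¬ ¬ IsUnit (algebraMap A S a)
    exact not_not.symm
  haveI hloc : IsLocalization.AtPrime S m := by
    show IsLocalization m.primeCompl S
    rw [← hsub]
    refine (Algebra.essFiniteType_cond_iff K S (Algebra.EssFiniteType.finset k S)).2 fun s => ?_
    obtain ⟨t, ht, htu, hst⟩ :=
      (Algebra.essFiniteType_cond_iff k S (Algebra.EssFiniteType.finset k S)).1
        (Algebra.EssFiniteType.isLocalization k S) s
    have hle : Algebra.adjoin k σ ≤ (Algebra.adjoin K σ).restrictScalars k :=
      Algebra.adjoin_le Algebra.subset_adjoin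
    exact ⟨t, hle ht, htu, hle hst⟩
  have hmax : m.IsMaximal := by
    let φ : A ⧸ m →ₐ[K] L := Ideal.Quotient.liftₐ m
      ((IsScalarTower.toAlgHom K S L).comp A.val) fun a ha => (IsLocalRing.residue_eq_zero_iff _).2 ha
    have hφ : Function.Injective φ := (injective_iff_map_eq_zero φ).2 fun z hz => by
      obtain ⟨a, rfl⟩ := Ideal.Quotient.mk_surjective z
      exact Ideal.Quotient.eq_zero_iff_mem.2 ((IsLocalRing.residue_eq_zero_iff _).1 hz)
    haveI : Algebra.IsAlgebraic K (A ⧸ m) := Algebra.IsAlgebraic.of_injective φ hφ
    haveI : Algebra.IsIntegral K (A ⧸ m) := Algebra.IsAlgebraic.isIntegral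
    haveI : m.IsPrime := Ideal.comap_isPrime _ _
    exact Ideal.Quotient.maximal_of_isField _
      (isField_of_isIntegral_of_isField' (R := K) (S := A ⧸ m) (Field.toIsField K))
  haveI := hmax
  exact ⟨K, inferInstance, inferInstance, A, inferInstance, inferInstance, inferInstance, inferInstance, hft, m,
    hmax, ⟨((IsLocalization.algEquiv m.primeCompl S (Localization.AtPrime m)).restrictScalars k)⟩⟩

end Groth.Agent.S17797
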