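import Groth.Statements.S17803
import Groth.Agent.Easy3.Excellent
import Groth.Agent.RegTrans.Basic
import Groth.Agent.FormalStalk.Completion
import Groth.Agent.FlatDepth.RegHom
import Groth.Agent.GeomProp.NormalColim
import Groth.Agent.S0600
import Groth.Agent.S2670

set_option autoImplicit false
universe u
open EGA4

namespace Groth.Agent.S17803

theorem cplMap_surjective {R S : Type u} [CommRing R] [CommRing S] (e : R →+* S) (he : Function.Surjective e)
    (I : Ideal R) (J : Ideal S) (h : I.map e = J) (hI : I.FG) :
    Function.Surjective (Easy3.cplMap I J e h.le) := by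
  have hJ : J.FG := h ▸ hI.map e
  let φ := Easy3.cplMap I J e h.le
  let I' := I.map (algebraMap R (AdicCompletion I R))
  haveI : IsAdicComplete I (AdicCompletion I R) := AdicCompletion.isAdicComplete hI
  haveI : IsAdicComplete J (AdicCompletion J S) := AdicCompletion.isAdicComplete hJ
  haveI : IsAdicComplete I' (AdicCompletion I R) := (IsAdicComplete.map_algebraMap_iff _ _).2 inferInstance
  haveI : IsAdicComplete (J.map (algebraMap S (AdicCompletion J S))) (AdicCompletion J S) :=
    (IsAdicComplete.map_algebraMap_iff _ _).2 inferInstance
  letI := φ.toAlgebra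
  have hmap : I'.map φ = J.map (algebraMap S (AdicCompletion J S)) := by
    rw [Ideal.map_map, show φ.comp (algebraMap R (AdicCompletion I R)) = (algebraMap S (AdicCompletion J S)).comp e
      from RingHom.ext (Easy3.cplMap_of I J e h.le), ← Ideal.map_map, h]
  haveI : IsHausdorff (I'.map (algebraMap (AdicCompletion I R) (AdicCompletion J S))) (AdicCompletion J S) := by
    rw [RingHom.algebraMap_toAlgebra, hmap]; infer_instance
  haveI : IsHausdorff I' (AdicCompletion J S) :=
    (IsHausdorff.map_algebraMap_iff (S := AdicCompletion J S) (M := AdicCompletion J S)).mp inferInstance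
  refine surjective_of_mkQ_comp_surjective (I := I') (f := Algebra.linearMap (AdicCompletion I R) (AdicCompletion J S))
    fun y => ?_
  obtain ⟨y, rfl⟩ := Submodule.mkQ_surjective _ y
  obtain ⟨s, hs⟩ := Ideal.Quotient.mk_surjective (AdicCompletion.evalₐ J 1 y)
  obtain ⟨r, rfl⟩ := he s
  refine ⟨algebraMap R (AdicCompletion I R) r, ?_⟩
  rw [LinearMap.comp_apply, Submodule.mkQ_apply, Submodule.mkQ_apply, Submodule.Quotient.eq, Algebra.linearMap_apply,
    Ideal.smul_top_eq_map, Submodule.restrictScalars_mem, RingHom.algebraMap_toAlgebra, hmap,
    ← pow_one (Ideal.map _ J), ← FormalStalk.ker_evalₐ J hJ 1, RingHom.mem_ker, AlgHom.toRingHom_eq_coe,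
    RingHom.coe_coe, map_sub, sub_eq_zero, show φ (algebraMap R (AdicCompletion I R) r) =
      algebraMap S (AdicCompletion J S) (e r) from Easy3.cplMap_of I J e h.le r, FormalStalk.evalₐ_algebraMap, hs]

theorem isRegularRing_localization {R L : Type u} [CommRing R] [CommRing L] [Algebra R L] (M : Submonoid R)
    [IsLocalization M L] [IsRegularRing R] : IsRegularRing L := by
  haveI : IsNoetherianRing L := IsLocalization.isNoetherianRing M L inferInstance
  refine isRegularRing_iff.2 fun Q _ => ?_
  haveI := IsLocalization.isLocalization_isLocalization_atPrime_isLocalization M (Localization.AtPrime Q) Q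
  exact IsRegularLocalRing.of_ringEquiv (IsLocalization.algEquiv (Q.comap (algebraMap R L)).primeCompl
    (Localization.AtPrime (Q.comap (algebraMap R L))) (Localization.AtPrime Q)).toRingEquiv

theorem awayMap_surjective {R A : Type u} [CommRing R] [CommRing A] (φ : R →+* A) (hφ : Function.Surjective φ) (g : R) :
    Function.Surjective (Localization.awayMap φ g) := fun z => by
  obtain ⟨a, ⟨_, n, rfl⟩, rfl⟩ := IsLocalization.exists_mk'_eq (Submonoid.powers (φ g)) z
  obtain ⟨r, rfl⟩ := hφ a
  refine ⟨IsLocalization.mk' _ r (⟨g ^ n, n, rfl⟩ : Submonoid.powers g), ?_⟩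
  rw [Localization.awayMap, IsLocalization.Away.map, IsLocalization.map_mk']
  congr 1
  exact Subtype.ext (map_pow φ g n)


/-- Let A be an excellent normal domain which is a quotient of a regular ring, I an ideal of A and f ∈
A. Then the I-adic completion of the localization A_f is a normal ring (its localization at every
prime ideal is an integrally closed domain), and it is a quotient of a regular ring. -/
theorem result (A : Type u) [CommRing A] [IsDomain A] [IsIntegrallyClosed A] (hexc : EGA4.IsExcellent A) (hreg : ∃ (R : Type u) (_ : CommRing R) (_ : IsRegularRing R) (φ : R →+* A), Function.Surjective φ) (I : Ideal A) (f : A) : EGA4.IsNormalRing (AdicCompletion (I.map (algebraMap A (Localization.Away f))) (Localization.Away f)) ∧ ∃ (R' : Type u) (_ : CommRing R') (_ : IsRegularRing R') (ψ : R' →+* AdicCompletion (I.map (algebraMap A (Localization.Away f))) (Localization.Away f)), Function.Surjective ψ := by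
  haveI : IsNoetherianRing A := hexc.1
  haveI : IsNoetherianRing (Localization.Away f) := IsLocalization.isNoetherianRing (Submonoid.powers f) _ inferInstance
  have hG : CAlg.IsGRing (Localization.Away f) :=
    Easy3.isGRing_of_isLocalization (Submonoid.powers f) _ hexc.2.2.1
  refine ⟨?_, ?_⟩
  · haveI := ResExt.isNoetherianRing_adicCompletion (I.map (algebraMap A (Localization.Away f)))
      (IsNoetherian.noetherian _)
    intro p hp
    have h := Groth.Agent.S2670.result (Localization.Away f) _
      (FlatDepth.isNormalHom_of_isRegularHom (Groth.Agent.S0600.result _ hG (I.map (algebraMap A (Localization.Away f)))))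
      (Localization.Away f) (GeomProp.isNormalRing_of_isLocalization (Submonoid.powers f) (GeomProp.isNormalRing_of_domain A))
    let e := (Algebra.TensorProduct.rid (Localization.Away f) (Localization.Away f)
      (AdicCompletion (I.map (algebraMap A (Localization.Away f))) (Localization.Away f))).toRingEquiv
    letI := e.toRingHom.toAlgebra
    haveI := Easy3.isLocalization_bot_of_bijective (R := _ ) (S := AdicCompletion (I.map (algebraMap A (Localization.Away f))) (Localization.Away f)) e.bijective
    exact GeomProp.isNormalRing_of_isLocalization ⊥ h p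
  · obtain ⟨R, _, _, φ, hφ⟩ := hreg
    obtain ⟨g, rfl⟩ := hφ f
    haveI : IsRegularRing (Localization.Away g) := isRegularRing_localization (Submonoid.powers g)
    let ψ : Localization.Away g →+* Localization.Away (φ g) := Localization.awayMap φ g
    have hψ : Function.Surjective ψ := awayMap_surjective φ hφ g
    let J := (I.map (algebraMap A (Localization.Away (φ g)))).comap ψ
    exact ⟨AdicCompletion J (Localization.Away g), inferInstance, RegTrans.isRegularRing_adicCompletion _ J,
      Easy3.cplMap J _ ψ Ideal.map_comap_le,
      cplMap_surjective ψ hψ J _ (Ideal.map_comap_of_surjective ψ hψ _) (IsNoetherian.noetherian J)⟩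

end Groth.Agent.S17803
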