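import Groth.Statements.S17810
import Groth.Agent.PicCurve.AlbCoarse
import Groth.Agent.S14584
-- import your own Groth.Agent.* helpers here

set_option autoImplicit false
set_option backward.isDefEq.respectTransparency false
set_option backward.isDefEq.respectTransparency.types false
set_option linter.style.haveILetI false
set_option maxHeartbeats 1000000
universe u
open CategoryTheory CategoryTheory.Limits AlgebraicGeometry MonoidalCategory CartesianMonoidalCategory MonObj
open JacVar

namespace Groth.Agent.S17810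

/-- The case of a curve with a rational point. Let C be a smooth proper geometrically connected curve of
genus g > 0 over a field k with a k-rational point P, (J, ψ) its Jacobian (a commutative group
scheme over k, coarse moduli scheme on all k-schemes for degree-0 line bundles on C modulo twisting
from the base, group law induced by tensor product), j : C ⟶ J the Abel map with base point P, and F
: C ×_k C ⟶ J the morphism (x, y) ↦ j(x) · j(y)⁻¹, which sends (x, y) to the class of O(x − y) and
does not depend on P. Then for every abelian variety A over k (commutative group scheme, proper,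
smooth and geometrically irreducible over k) and every morphism φ : C ×_k C ⟶ A over k which maps
the diagonal to the zero of A, there is a unique homomorphism of group schemes J ⟶ A whose composite
with F is φ. (Stated when C has a rational point, through which F is written; the published
statement covers every C by descent.) -/
theorem result (k : Type u) [Field k]
    (C : Scheme.{u}) [C.Over (Spec (CommRingCat.of k))]
    [IsProper (C ↘ Spec (CommRingCat.of k))] [Smooth (C ↘ Spec (CommRingCat.of k))] [GeometricallyConnected (C ↘ Spec (CommRingCat.of k))]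
    (hdim : topologicalKrullDim ↥C = 1)
    (hg : 0 < Curv2.genus k C)
    (σ : Spec (CommRingCat.of k) ⟶ C) (hσ : σ ≫ (C ↘ Spec (CommRingCat.of k)) = 𝟙 _)
    (J : Over (Spec (CommRingCat.of k))) [GrpObj J] [IsCommMonObj J]
    (ψ : (ModFun.PicDeg (C ↘ Spec (CommRingCat.of k)) 0).Hom ⊤ J) (hJ : Jac.IsJacobian (C ↘ Spec (CommRingCat.of k)) ⊤ J ψ)
    (j : Over.mk (C ↘ Spec (CommRingCat.of k)) ⟶ J) (hj : Jac.IsAbelJacobiAt (C ↘ Spec (CommRingCat.of k)) σ ψ j)
    (A : Over (Spec (CommRingCat.of k))) [GrpObj A] [IsCommMonObj A]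
    [IsProper A.hom] [Smooth A.hom] [GeometricallyIrreducible A.hom]
    (φ : Over.mk (C ↘ Spec (CommRingCat.of k)) ⊗ Over.mk (C ↘ Spec (CommRingCat.of k)) ⟶ A)
    (hφ : lift (𝟙 (Over.mk (C ↘ Spec (CommRingCat.of k)))) (𝟙 (Over.mk (C ↘ Spec (CommRingCat.of k)))) ≫ φ = toUnit _ ≫ η[A]) :
    ∃! χ : J ⟶ A, IsMonHom χ ∧
      ((fst (Over.mk (C ↘ Spec (CommRingCat.of k))) (Over.mk (C ↘ Spec (CommRingCat.of k))) ≫ j) * (snd (Over.mk (C ↘ Spec (CommRingCat.of k))) (Over.mk (C ↘ Spec (CommRingCat.of k))) ≫ j)⁻¹) ≫ χ = φ := by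
  let f := C ↘ Spec (CommRingCat.of k)
  haveI : GeometricallyIntegral f := Groth.Agent.ClosedRep.GeomIntegral.geometricallyIntegral_of_smooth f
  haveI : IsIntegral C := GeometricallyIntegral.isIntegral_of_subsingleton f
  haveI := Groth.Agent.AlgEquivCurve.smoothOfRelativeDimension_one f hdim
  haveI : GeometricallyReduced A.hom := Groth.Agent.Rigid.geometricallyReduced_of_smooth A.hom
  haveI : GeometricallyIntegral A.hom :=
    GeometricallyIntegral.of_geometricallyReduced_of_geometricallyIrreducible A.hom
  obtain ⟨hj0, huniv⟩ := Groth.Agent.PicCurve.albanese_of_isJacobian f hdim σ hσ hg J ψ hJ j hj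
  let C' : Over (Spec (CommRingCat.of k)) := Over.mk f
  let P : 𝟙_ (Over (Spec (CommRingCat.of k))) ⟶ C' := Groth.Agent.PicCurve.basePt f σ hσ
  let e : C' ⟶ C' ⊗ C' := lift (𝟙 C') (toUnit C' ≫ P)
  have hPP : lift P P ≫ φ = η[A] := by
    rw [show lift P P = P ≫ lift (𝟙 C') (𝟙 C') by rw [comp_lift, Category.comp_id], Category.assoc, hφ, ← Category.assoc,
      toUnit_unique (P ≫ toUnit C') (𝟙 _), Category.id_comp]
  have hbase : P ≫ e ≫ φ = η[A] := by
    rw [← Category.assoc, show P ≫ e = lift P P by
      simp only [e, comp_lift, Category.comp_id, ← Category.assoc, toUnit_unique (P ≫ toUnit C') (𝟙 _), Category.id_comp]]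
    exact hPP
  obtain ⟨χ, ⟨hχ, hjχ⟩, hu⟩ := huniv A (e ≫ φ) hbase
  haveI := hχ
  have hsplit : φ = (fst C' C' ≫ e ≫ φ) * (snd C' C' ≫ e ≫ φ)⁻¹ := by
    haveI : Nonempty ↥A.left := ⟨η[A].left (IsLocalRing.closedPoint k)⟩
    haveI : Subsingleton ↥(Spec (CommRingCat.of k)) := inferInstanceAs (Subsingleton (PrimeSpectrum k))
    haveI : IrreducibleSpace ↥A.left := GeometricallyIrreducible.irreducibleSpace_of_subsingleton A.hom
    haveI : IsProper C'.hom := ‹IsProper f›
    haveI : Smooth C'.hom := ‹Smooth f›
    haveI : GeometricallyIntegral C'.hom := ‹GeometricallyIntegral f›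
    have key := Groth.Agent.S14584.result k C' C' A P P φ
    rw [hPP, ← Hom.one_def, inv_one, _root_.one_mul] at key
    have hswap : (lift (toUnit C' ≫ P) (𝟙 C') ≫ φ) = (e ≫ φ)⁻¹ := by
      have h1 := congrArg (fun q => lift (𝟙 C') (𝟙 C') ≫ q) key
      simp only [MonObj.comp_mul] at h1
      rw [lift_fst_assoc, lift_snd_assoc, Category.id_comp, Category.id_comp, hφ, ← Hom.one_def] at h1
      exact eq_inv_iff_mul_eq_one.2 h1.symm
    rw [hswap, GrpObj.comp_inv, _root_.mul_comm] at key
    exact key
  refine ⟨χ, ⟨hχ, ?_⟩, fun β ⟨hβm, hβ⟩ => hu β ⟨hβm, ?_⟩⟩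
  · refine Eq.trans ?_ hsplit.symm
    rw [MonObj.mul_comp, GrpObj.inv_comp, Category.assoc, Category.assoc, hjχ]
  · haveI := hβm
    rw [← hβ, ← Category.assoc]
    refine congrArg (· ≫ β) ?_
    rw [MonObj.comp_mul, GrpObj.comp_inv, lift_fst_assoc, lift_snd_assoc, Category.id_comp, Category.assoc]
    rw [show P ≫ j = η[J] from hj0, ← Hom.one_def, inv_one, _root_.mul_one]

end Groth.Agent.S17810
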