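import Groth.Statements.S17811
import Groth.Agent.Torelli.Main
-- import your own Groth.Agent.* helpers here

set_option autoImplicit false
set_option backward.isDefEq.respectTransparency false
set_option backward.isDefEq.respectTransparency.types false
set_option maxHeartbeats 1600000
universe u
open CategoryTheory CategoryTheory.Limits AlgebraicGeometry MonoidalCategory CartesianMonoidalCategory MonObj
open JacVar
open scoped Pointwise
open Groth.Agent.W7Cube (pull pull_pull pull_cls)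
open Groth.Agent.PicCurve Groth.Agent.SubGen Groth.Agent.Torelli

attribute [local instance] Groth.Agent.W7Cube.law

namespace Groth.Agent.S17811

/-- Torelli's statement. Let k be an algebraically closed field, C and C' smooth proper connected curves
of the same genus g ≥ 2 over k with k-points P and P', (J, ψ) and (J', ψ') their Jacobians
(commutative group schemes over k which are coarse moduli schemes, on all k-schemes, for degree-0
line bundles modulo twisting from the base, group law induced by tensor product), j : C ⟶ J and j' :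
C' ⟶ J' the Abel maps with base points P and P', and N, N' invertible modules of degree g − 1 on C
and C'. Let Θ ⊂ J and Θ' ⊂ J' be the theta loci of N and N' (closures of the loci of classes ξ with
a nonzero global section of ξ ⊗ N, resp. of ξ ⊗ N'); they are translates of the images of the (g −
1)-st symmetric powers. Suppose β : J ≅ J' is an isomorphism of group schemes over k mapping Θ onto
the translate of Θ' by some k-point; this says that β respects the canonical principal
polarizations. Then there are an isomorphism α : C ≅ C' over k, a k-point c of J' and a sign s ∈ {1,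
−1} such that j' ∘ α = (β ∘ j)^s · c in the group of morphisms C ⟶ J'. (The published statement does
not restrict the genus; this row assumes g ≥ 2.) -/
theorem result (k : Type u) [Field k] [IsAlgClosed k]
    (C : Scheme.{u}) [C.Over (Spec (CommRingCat.of k))]
    [IsProper (C ↘ Spec (CommRingCat.of k))] [Smooth (C ↘ Spec (CommRingCat.of k))] [GeometricallyConnected (C ↘ Spec (CommRingCat.of k))]
    (hdim : topologicalKrullDim ↥C = 1)
    (C' : Scheme.{u}) [C'.Over (Spec (CommRingCat.of k))]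
    [IsProper (C' ↘ Spec (CommRingCat.of k))] [Smooth (C' ↘ Spec (CommRingCat.of k))] [GeometricallyConnected (C' ↘ Spec (CommRingCat.of k))]
    (hdim' : topologicalKrullDim ↥C' = 1)
    (g : ℕ) (hg : Curv2.genus k C = g) (hg' : Curv2.genus k C' = g) (hg2 : 2 ≤ g)
    (σ : Spec (CommRingCat.of k) ⟶ C) (hσ : σ ≫ (C ↘ Spec (CommRingCat.of k)) = 𝟙 _) (σ' : Spec (CommRingCat.of k) ⟶ C') (hσ' : σ' ≫ (C' ↘ Spec (CommRingCat.of k)) = 𝟙 _)
    (J : Over (Spec (CommRingCat.of k))) [GrpObj J] [IsCommMonObj J]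
    (ψ : (ModFun.PicDeg (C ↘ Spec (CommRingCat.of k)) 0).Hom ⊤ J) (hJ : Jac.IsJacobian (C ↘ Spec (CommRingCat.of k)) ⊤ J ψ)
    (J' : Over (Spec (CommRingCat.of k))) [GrpObj J'] [IsCommMonObj J']
    (ψ' : (ModFun.PicDeg (C' ↘ Spec (CommRingCat.of k)) 0).Hom ⊤ J') (hJ' : Jac.IsJacobian (C' ↘ Spec (CommRingCat.of k)) ⊤ J' ψ')
    (j : Over.mk (C ↘ Spec (CommRingCat.of k)) ⟶ J) (hj : Jac.IsAbelJacobiAt (C ↘ Spec (CommRingCat.of k)) σ ψ j)
    (j' : Over.mk (C' ↘ Spec (CommRingCat.of k)) ⟶ J') (hj' : Jac.IsAbelJacobiAt (C' ↘ Spec (CommRingCat.of k)) σ' ψ' j')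
    (N : C.Modules) (hN : PicF.IsInvertible N) (hNdeg : Curv2.deg k C N 1 = (g : ℤ) - 1)
    (N' : C'.Modules) (hN' : PicF.IsInvertible N') (hNdeg' : Curv2.deg k C' N' 1 = (g : ℤ) - 1)
    (β : J ≅ J') [IsMonHom β.hom] (c₀ : 𝟙_ (Over (Spec (CommRingCat.of k))) ⟶ J')
    (hβ : β.hom.left.base '' Jac.thetaLocus (C ↘ Spec (CommRingCat.of k)) 0 ψ N =
      (Jac.transl J' c₀).left.base ⁻¹' Jac.thetaLocus (C' ↘ Spec (CommRingCat.of k)) 0 ψ' N') :
    ∃ (α : C ≅ C') (hα : α.hom ≫ (C' ↘ Spec (CommRingCat.of k)) = (C ↘ Spec (CommRingCat.of k))) (c : 𝟙_ (Over (Spec (CommRingCat.of k))) ⟶ J') (s : ℤ),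
      (s = 1 ∨ s = -1) ∧
      Over.homMk α.hom hα ≫ j' = (j ≫ β.hom) ^ s * (toUnit (Over.mk (C ↘ Spec (CommRingCat.of k))) ≫ c) := by
  haveI := ClosedRep.GeomIntegral.geometricallyIntegral_of_smooth (C ↘ Spec (CommRingCat.of k))
  haveI : IsIntegral C := GeometricallyIntegral.isIntegral_of_subsingleton (C ↘ Spec (CommRingCat.of k))
  haveI := AlgEquivCurve.smoothOfRelativeDimension_one (C ↘ Spec (CommRingCat.of k)) hdim
  haveI := ClosedRep.GeomIntegral.geometricallyIntegral_of_smooth (C' ↘ Spec (CommRingCat.of k))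
  haveI : IsIntegral C' := GeometricallyIntegral.isIntegral_of_subsingleton (C' ↘ Spec (CommRingCat.of k))
  haveI := AlgEquivCurve.smoothOfRelativeDimension_one (C' ↘ Spec (CommRingCat.of k)) hdim'
  let f := C ↘ Spec (CommRingCat.of k)
  let f' := C' ↘ Spec (CommRingCat.of k)
  obtain ⟨ξ, hp, -, -, h1, h0, hc, hmul, hψ⟩ := PicCurve.exists_jacobian_class f hdim σ hσ (by omega) J ψ hJ
  obtain ⟨ξ', hp', -, -, h1', h0', hc', hmul', hψ'⟩ :=
    PicCurve.exists_jacobian_class f' hdim' σ' hσ' (by omega) J' ψ' hJ'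
  haveI := hp
  haveI := hp'
  let D : PicCurve.JacData (⟨σ, hσ⟩ : {τ : Spec (CommRingCat.of k) ⟶ C // τ ≫ f = 𝟙 _}) J j :=
    ⟨ξ, hp, h1, h0, hc, hmul, PicCurve.abel_class f hdim σ hσ J ψ ξ hψ j hj⟩
  let D' : PicCurve.JacData (⟨σ', hσ'⟩ : {τ : Spec (CommRingCat.of k) ⟶ C' // τ ≫ f' = 𝟙 _}) J' j' :=
    ⟨ξ', hp', h1', h0', hc', hmul', PicCurve.abel_class f' hdim' σ' hσ' J' ψ' ξ' hψ' j' hj'⟩
  let D₁ := D.mapIso β
  haveI hcl : IsClosedImmersion j.left := Torelli.isClosedImmersion_abel hdim (by omega) ⟨σ, hσ⟩ ψ hJ j hj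
  haveI hcl' : IsClosedImmersion j'.left := Torelli.isClosedImmersion_abel hdim' (by omega) ⟨σ', hσ'⟩ ψ' hJ' j' hj'
  haveI : IsIso β.hom.left := Iso.isIso_hom ((Over.forget _).mapIso β)
  have hcl₁ : IsClosedImmersion (j ≫ β.hom).left := by rw [Over.comp_left]; infer_instance
  obtain ⟨A, hA⟩ := Torelli.exists_weil hdim D₁ hg (by omega) hcl₁
  obtain ⟨B, hB⟩ := Torelli.exists_weil hdim' D' hg' (by omega) hcl'
  -- the theta loci as translates
  obtain ⟨a, ha⟩ := D.exists_cl hdim (delta k ⟨σ, hσ⟩ hdim ^ (g - 1) * (PicGrp.cls N hN)⁻¹) (by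
    rw [degP_mul k hdim, degP_inv' k hdim, degP_delta_pow k hdim, degP_cls k hN, hNdeg]; omega)
  obtain ⟨a', ha'⟩ := D'.exists_cl hdim' (delta k ⟨σ', hσ'⟩ hdim' ^ (g - 1) * (PicGrp.cls N' hN')⁻¹) (by
    rw [degP_mul k hdim', degP_inv' k hdim', degP_delta_pow k hdim', degP_cls k hN', hNdeg']; omega)
  have hT := PicTheta.thetaLocus_eq hdim D ψ hψ hN (g - 1) a (by
    rw [ha, mul_inv_rev, inv_inv, inv_mul_cancel_right])
  have hT' := PicTheta.thetaLocus_eq hdim' D' ψ' hψ' hN' (g - 1) a' (by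
    rw [ha', mul_inv_rev, inv_inv, inv_mul_cancel_right])
  rw [hT, hT'] at hβ
  set a₁ := a ≫ β.hom with ha₁
  have heq : B.W (g - 1) = (a'⁻¹ * (a₁ * c₀)) • A.W (g - 1) := by
    rw [hA, hB]
    have key : ∀ x, x ∈ a₁ • pts (Set.range (sumMap (j ≫ β.hom) (g - 1)).left.base) ↔
        x * c₀ ∈ a' • pts (Set.range (sumMap j' (g - 1)).left.base) := fun x => by
      rw [← pts_symSet, ← pts_symSet, mem_pts, mem_pts, D₁.mem_symSet hdim, D.mapIso_cl, D.mapIso_cl, ha₁,
        Category.assoc, Iso.hom_inv_id, Category.comp_id, ← D.mem_symSet hdim, ← rp_transl, ← map_rpt]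
      refine Iff.trans ?_ (Set.ext_iff.1 hβ (rpt x))
      constructor
      · intro hx
        refine ⟨_, hx, ?_⟩
        show β.hom.left (rpt (x ≫ β.inv)) = rpt x
        rw [map_rpt, Category.assoc, Iso.inv_hom_id, Category.comp_id]
      · rintro ⟨z, hz, hzx⟩
        rw [← hzx]
        show β.inv.left (β.hom.left z) ∈ _
        rw [← Scheme.Hom.comp_apply, ← Over.comp_left, Iso.hom_inv_id]
        exact hz
    ext y
    rw [mul_smul, Set.mem_smul_set_iff_inv_smul_mem, inv_inv, mul_comm a₁ c₀, mul_smul,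
      Set.mem_smul_set_iff_inv_smul_mem, key, smul_eq_mul, smul_eq_mul,
      mul_comm c₀⁻¹, inv_mul_cancel_right, Set.mem_smul_set_iff_inv_smul_mem, smul_eq_mul, inv_mul_cancel_left]
  obtain ⟨c, hc₁⟩ := Torelli.Weil.eq_smul_of_eq A B Torelli.isClosedFamily hg2 _ heq
  rw [hA, hB] at hc₁
  -- the signed translate
  obtain ⟨s, hs, h, hh, hclh, hpts⟩ : ∃ s : ℤ, (s = 1 ∨ s = -1) ∧ ∃ h,
      h = (j ≫ β.hom) ^ s * (toUnit (Over.mk (C ↘ Spec (CommRingCat.of k))) ≫ c) ∧ IsClosedImmersion h.left ∧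
      pts (Set.range h.left.base) = pts (Set.range (sumMap j' 1).left.base) := by
    haveI : IsIso (Jac.transl J' c).left :=
      ⟨(Jac.transl J' c⁻¹).left, by rw [← Over.comp_left, transl_comp, mul_inv_cancel, transl_one]; rfl,
        by rw [← Over.comp_left, transl_comp, inv_mul_cancel, transl_one]; rfl⟩
    haveI : IsIso ((𝟙 J')⁻¹ : J' ⟶ J').left :=
      ⟨((𝟙 J')⁻¹ : J' ⟶ J').left, by rw [← Over.comp_left, inv_inv_hom]; rfl,
        by rw [← Over.comp_left, inv_inv_hom]; rfl⟩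
    haveI := hcl₁
    have hcomp : ∀ q : Over.mk f ⟶ J', q * (toUnit (Over.mk f) ≫ c) = q ≫ Jac.transl J' c := fun q => by
      rw [Jac.transl, MonObj.comp_mul, Category.comp_id, ← Category.assoc, comp_toUnit]
    obtain ⟨hp1, hp2⟩ := Torelli.pts_range_zpow hdim D₁ c
    rcases hc₁ with h2 | h2
    · refine ⟨1, Or.inl rfl, _, rfl, ?_, ?_⟩
      · rw [zpow_one, hcomp, Over.comp_left]; infer_instance
      · rw [zpow_one, h2]; exact hp1
    · refine ⟨-1, Or.inr rfl, _, rfl, ?_, ?_⟩
      · rw [zpow_neg_one, hcomp, show (j ≫ β.hom)⁻¹ = (j ≫ β.hom) ≫ (𝟙 J')⁻¹ by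
          rw [GrpObj.comp_inv, Category.comp_id], Over.comp_left, Over.comp_left]
        infer_instance
      · rw [zpow_neg_one, h2]; exact hp2
  haveI := hclh
  have hrange : Set.range h.left = Set.range j'.left := eq_of_rpt h.left.isClosedEmbedding.isClosed_range
    j'.left.isClosedEmbedding.isClosed_range fun x => by
      rw [Torelli.mem_range_left j', ← Torelli.mem_range_one hdim' D']
      exact Set.ext_iff.1 hpts x
  haveI : IsReduced (Over.mk (C ↘ Spec (CommRingCat.of k))).left := inferInstanceAs (IsReduced C)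
  haveI : IsReduced (Over.mk (C' ↘ Spec (CommRingCat.of k))).left := inferInstanceAs (IsReduced C')
  obtain ⟨α, hα⟩ := GrpField.SchImg.exists_iso_of_range_eq h.left j'.left hrange
  have hαw : α.hom ≫ (C' ↘ Spec (CommRingCat.of k)) = (C ↘ Spec (CommRingCat.of k)) := by
    rw [show (C' ↘ Spec (CommRingCat.of k)) = j'.left ≫ J'.hom from (Over.w j').symm, ← Category.assoc, hα]
    exact Over.w h
  exact ⟨α, hαw, c, s, hs, (Over.OverMorphism.ext hα).trans hh⟩

end Groth.Agent.S17811
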