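import Groth.Statements.S19877
import Groth.Agent.PicCurve.TorelliUniq
-- import your own Groth.Agent.* helpers here

set_option autoImplicit false
set_option backward.isDefEq.respectTransparency false
set_option backward.isDefEq.respectTransparency.types false
set_option maxHeartbeats 1000000
universe u
open CategoryTheory CategoryTheory.Limits AlgebraicGeometry MonoidalCategory CartesianMonoidalCategory MonObj
open JacVar

attribute [local instance] Groth.Agent.W7Cube.law

namespace Groth.Agent.S19877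

/-- Let k be an algebraically closed field, C and C' smooth proper connected curves of the same genus g
≥ 2 over k with k-points P and P', (J, ψ) and (J', ψ') their Jacobians (commutative group schemes
over k, coarse moduli schemes on all k-schemes for degree-0 line bundles modulo twisting from the
base, group law induced by tensor product), j and j' the Abel maps with base points P and P', and β
: J ≅ J' an isomorphism of group schemes over k. Fix a sign s ∈ {1, −1}. If isomorphisms α₁, α₂ : C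
≅ C' over k and k-points c₁, c₂ of J' satisfy j' ∘ α_i = (β ∘ j)^s · c_i for i = 1, 2 (group of
morphisms C ⟶ J'), then α₁ = α₂ and c₁ = c₂. This holds whether or not C is hyperelliptic; for C not
hyperelliptic the sign is determined as well, which is a separate statement. (The published
statement takes β an isomorphism of the canonically polarized Jacobians; this row allows any
isomorphism of group schemes β.) -/
theorem result (k : Type u) [Field k] [IsAlgClosed k]
    (C : Scheme.{u}) [C.Over (Spec (CommRingCat.of k))]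
    [IsProper (C ↘ Spec (CommRingCat.of k))] [Smooth (C ↘ Spec (CommRingCat.of k))] [GeometricallyConnected (C ↘ Spec (CommRingCat.of k))]
    (hdim : topologicalKrullDim ↥C = 1)
    (C' : Scheme.{u}) [C'.Over (Spec (CommRingCat.of k))]
    [IsProper (C' ↘ Spec (CommRingCat.of k))] [Smooth (C' ↘ Spec (CommRingCat.of k))] [GeometricallyConnected (C' ↘ Spec (CommRingCat.of k))]
    (hdim' : topologicalKrullDim ↥C' = 1)
    (g : ℕ) (hg : Curv2.genus k C = g) (hg' : Curv2.genus k C' = g) (hg2 : 2 ≤ g)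
    (σ : Spec (CommRingCat.of k) ⟶ C) (hσ : σ ≫ (C ↘ Spec (CommRingCat.of k)) = 𝟙 _) (σ' : Spec (CommRingCat.of k) ⟶ C') (hσ' : σ' ≫ (C' ↘ Spec (CommRingCat.of k)) = 𝟙 _)
    (J : Over (Spec (CommRingCat.of k))) [GrpObj J] [IsCommMonObj J]
    (ψ : (ModFun.PicDeg (C ↘ Spec (CommRingCat.of k)) 0).Hom ⊤ J) (hJ : Jac.IsJacobian (C ↘ Spec (CommRingCat.of k)) ⊤ J ψ)
    (J' : Over (Spec (CommRingCat.of k))) [GrpObj J'] [IsCommMonObj J']
    (ψ' : (ModFun.PicDeg (C' ↘ Spec (CommRingCat.of k)) 0).Hom ⊤ J') (hJ' : Jac.IsJacobian (C' ↘ Spec (CommRingCat.of k)) ⊤ J' ψ')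
    (j : Over.mk (C ↘ Spec (CommRingCat.of k)) ⟶ J) (hj : Jac.IsAbelJacobiAt (C ↘ Spec (CommRingCat.of k)) σ ψ j)
    (j' : Over.mk (C' ↘ Spec (CommRingCat.of k)) ⟶ J') (hj' : Jac.IsAbelJacobiAt (C' ↘ Spec (CommRingCat.of k)) σ' ψ' j')
    (β : J ≅ J') [IsMonHom β.hom]
    (α₁ α₂ : C ≅ C') (hα₁ : α₁.hom ≫ (C' ↘ Spec (CommRingCat.of k)) = (C ↘ Spec (CommRingCat.of k))) (hα₂ : α₂.hom ≫ (C' ↘ Spec (CommRingCat.of k)) = (C ↘ Spec (CommRingCat.of k)))
    (c₁ c₂ : 𝟙_ (Over (Spec (CommRingCat.of k))) ⟶ J') (s : ℤ) (hs : s = 1 ∨ s = -1)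
    (h₁ : Over.homMk α₁.hom hα₁ ≫ j' = (j ≫ β.hom) ^ s * (toUnit (Over.mk (C ↘ Spec (CommRingCat.of k))) ≫ c₁))
    (h₂ : Over.homMk α₂.hom hα₂ ≫ j' = (j ≫ β.hom) ^ s * (toUnit (Over.mk (C ↘ Spec (CommRingCat.of k))) ≫ c₂)) :
    α₁ = α₂ ∧ c₁ = c₂ := by
  haveI := ClosedRep.GeomIntegral.geometricallyIntegral_of_smooth (C ↘ Spec (CommRingCat.of k))
  haveI : IsIntegral C := GeometricallyIntegral.isIntegral_of_subsingleton (C ↘ Spec (CommRingCat.of k))
  haveI := ClosedRep.GeomIntegral.geometricallyIntegral_of_smooth (C' ↘ Spec (CommRingCat.of k))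
  haveI : IsIntegral C' := GeometricallyIntegral.isIntegral_of_subsingleton (C' ↘ Spec (CommRingCat.of k))
  haveI := AlgEquivCurve.smoothOfRelativeDimension_one (C' ↘ Spec (CommRingCat.of k)) hdim'
  letI : PicGrp.Law C' := W7Cube.law C'
  obtain ⟨D', -⟩ := PicCurve.exists_jacData (σ := ⟨σ', hσ'⟩) hdim' (by omega) ψ' hJ' hj'
  let RP := {τ : Spec (CommRingCat.of k) ⟶ C' // τ ≫ (C' ↘ Spec (CommRingCat.of k)) = 𝟙 _}
  let im : ∀ (α : C ≅ C'), α.hom ≫ (C' ↘ Spec (CommRingCat.of k)) = (C ↘ Spec (CommRingCat.of k)) →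
      (𝟙_ (Over (Spec (CommRingCat.of k))) ⟶ Over.mk (C ↘ Spec (CommRingCat.of k))) → RP := fun α hα t =>
    ⟨t.left ≫ α.hom, by rw [Category.assoc, hα]; exact Over.w t⟩
  have key : ∀ t, PicCurve.delta k (im α₁ hα₁ t) hdim' =
      PicCurve.delta k (im α₂ hα₂ t) hdim' * (D'.cl c₁ * (D'.cl c₂)⁻¹) := fun t => by
    have e1 := PicCurve.compat_point hdim' D' β.hom α₁ hα₁ c₁ s h₁ t (im α₁ hα₁ t) rfl
    have e2 := PicCurve.compat_point hdim' D' β.hom α₂ hα₂ c₂ s h₂ t (im α₂ hα₂ t) rfl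
    rw [mul_inv_eq_iff_eq_mul] at e1 e2
    rw [e1, e2]
    apply Additive.ofMul.injective; simp only [ofMul_mul, ofMul_inv]; module
  have hK : D'.cl c₁ * (D'.cl c₂)⁻¹ = 1 := PicCurve.eq_one_of_translate k hdim' hg' hg2 _ fun Q => by
    let t : 𝟙_ (Over (Spec (CommRingCat.of k))) ⟶ Over.mk (C ↘ Spec (CommRingCat.of k)) :=
      Over.homMk (Q.1 ≫ α₁.inv) (by
        show (Q.1 ≫ α₁.inv) ≫ (C ↘ Spec (CommRingCat.of k)) = 𝟙 _
        rw [← hα₁, Category.assoc, Iso.inv_hom_id_assoc, Q.2])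
    have hQ : im α₁ hα₁ t = Q := Subtype.ext (by
      show (Q.1 ≫ α₁.inv) ≫ α₁.hom = Q.1
      rw [Category.assoc, Iso.inv_hom_id, Category.comp_id])
    exact ⟨im α₂ hα₂ t, hQ ▸ key t⟩
  refine ⟨?_, D'.cl_injective hdim' (mul_inv_eq_one.1 hK)⟩
  have hpt : ∀ t, im α₁ hα₁ t = im α₂ hα₂ t := fun t =>
    PicCurve.delta_injective k hdim' hg' (by omega) _ _ (by rw [key, hK, _root_.mul_one])
  haveI : LocallyOfFiniteType (α₁.hom ≫ (C' ↘ Spec (CommRingCat.of k))) := by rw [hα₁]; infer_instance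
  refine Iso.ext (ext_of_apply_eq (C' ↘ Spec (CommRingCat.of k)) Set.univ isClosed_univ.isLocallyClosed
    dense_univ (fun x _ hx => ?_) (hα₁.trans hα₂.symm))
  have h := congrArg (fun Q : RP => Q.1 (IsLocalRing.closedPoint k))
    (hpt (Over.homMk (pointOfClosedPoint (C ↘ Spec (CommRingCat.of k)) x hx) (pointOfClosedPoint_comp _ _ _)))
  simpa [im] using h

end Groth.Agent.S19877
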