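import Groth.Statements.S17815
import Groth.Agent.PicCurve.TorelliUniq
import Groth.Agent.S19877
-- import your own Groth.Agent.* helpers here

set_option autoImplicit false
set_option backward.isDefEq.respectTransparency false
set_option backward.isDefEq.respectTransparency.types false
set_option maxHeartbeats 1000000
universe u
open CategoryTheory CategoryTheory.Limits AlgebraicGeometry MonoidalCategory CartesianMonoidalCategory MonObj
open JacVar

attribute [local instance] Groth.Agent.W7Cube.law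

namespace Groth.Agent.S17815

/-- The non-hyperelliptic case. Let k be an algebraically closed field, C and C' smooth proper connected
curves of genus g ≥ 2 over k with k-points P and P', (J, ψ) and (J', ψ') their Jacobians
(commutative group schemes over k, coarse moduli schemes on all k-schemes for degree-0 line bundles
modulo twisting from the base, group law induced by tensor product), j and j' the Abel maps with
base points P and P', and β : J ≅ J' an isomorphism of group schemes over k. Suppose C is not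
hyperelliptic: no invertible module of degree 2 on C has a two-dimensional space of global sections.
Then the isomorphism, the sign and the translation in Torelli's conclusion are uniquely determined
by β, P and P': if isomorphisms α₁, α₂ : C ≅ C' over k, k-points c₁, c₂ of J' and signs s₁, s₂ ∈ {1,
−1} satisfy j' ∘ α_i = (β ∘ j)^{s_i} · c_i for i = 1, 2, then α₁ = α₂, s₁ = s₂ and c₁ = c₂. (The
published statement takes β an isomorphism of the canonically polarized Jacobians; this row allows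
any isomorphism of group schemes β.) -/
theorem result (k : Type u) [Field k] [IsAlgClosed k]
    (C : Scheme.{u}) [C.Over (Spec (CommRingCat.of k))]
    [IsProper (C ↘ Spec (CommRingCat.of k))] [Smooth (C ↘ Spec (CommRingCat.of k))] [GeometricallyConnected (C ↘ Spec (CommRingCat.of k))]
    (hdim : topologicalKrullDim ↥C = 1)
    (C' : Scheme.{u}) [C'.Over (Spec (CommRingCat.of k))]
    [IsProper (C' ↘ Spec (CommRingCat.of k))] [Smooth (C' ↘ Spec (CommRingCat.of k))] [GeometricallyConnected (C' ↘ Spec (CommRingCat.of k))]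
    (hdim' : topologicalKrullDim ↥C' = 1)
    (g : ℕ) (hg : Curv2.genus k C = g) (hg' : Curv2.genus k C' = g) (hg2 : 2 ≤ g)
    (σ : Spec (CommRingCat.of k) ⟶ C) (hσ : σ ≫ (C ↘ Spec (CommRingCat.of k)) = 𝟙 _) (σ' : Spec (CommRingCat.of k) ⟶ C') (hσ' : σ' ≫ (C' ↘ Spec (CommRingCat.of k)) = 𝟙 _)
    (J : Over (Spec (CommRingCat.of k))) [GrpObj J] [IsCommMonObj J]
    (ψ : (ModFun.PicDeg (C ↘ Spec (CommRingCat.of k)) 0).Hom ⊤ J) (hJ : Jac.IsJacobian (C ↘ Spec (CommRingCat.of k)) ⊤ J ψ)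
    (J' : Over (Spec (CommRingCat.of k))) [GrpObj J'] [IsCommMonObj J']
    (ψ' : (ModFun.PicDeg (C' ↘ Spec (CommRingCat.of k)) 0).Hom ⊤ J') (hJ' : Jac.IsJacobian (C' ↘ Spec (CommRingCat.of k)) ⊤ J' ψ')
    (j : Over.mk (C ↘ Spec (CommRingCat.of k)) ⟶ J) (hj : Jac.IsAbelJacobiAt (C ↘ Spec (CommRingCat.of k)) σ ψ j)
    (j' : Over.mk (C' ↘ Spec (CommRingCat.of k)) ⟶ J') (hj' : Jac.IsAbelJacobiAt (C' ↘ Spec (CommRingCat.of k)) σ' ψ' j')
    (β : J ≅ J') [IsMonHom β.hom]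
    (hnh : ¬ ∃ L : C.Modules, PicF.IsInvertible L ∧ Curv2.deg k C L 1 = 2 ∧ Module.finrank k (Coh.HH C L 0) = 2)
    (α₁ α₂ : C ≅ C') (hα₁ : α₁.hom ≫ (C' ↘ Spec (CommRingCat.of k)) = (C ↘ Spec (CommRingCat.of k))) (hα₂ : α₂.hom ≫ (C' ↘ Spec (CommRingCat.of k)) = (C ↘ Spec (CommRingCat.of k)))
    (c₁ c₂ : 𝟙_ (Over (Spec (CommRingCat.of k))) ⟶ J') (s₁ s₂ : ℤ) (hs₁ : s₁ = 1 ∨ s₁ = -1) (hs₂ : s₂ = 1 ∨ s₂ = -1)
    (h₁ : Over.homMk α₁.hom hα₁ ≫ j' = (j ≫ β.hom) ^ s₁ * (toUnit (Over.mk (C ↘ Spec (CommRingCat.of k))) ≫ c₁))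
    (h₂ : Over.homMk α₂.hom hα₂ ≫ j' = (j ≫ β.hom) ^ s₂ * (toUnit (Over.mk (C ↘ Spec (CommRingCat.of k))) ≫ c₂)) :
    α₁ = α₂ ∧ s₁ = s₂ ∧ c₁ = c₂ := by
  haveI := ClosedRep.GeomIntegral.geometricallyIntegral_of_smooth (C ↘ Spec (CommRingCat.of k))
  haveI : IsIntegral C := GeometricallyIntegral.isIntegral_of_subsingleton (C ↘ Spec (CommRingCat.of k))
  haveI := ClosedRep.GeomIntegral.geometricallyIntegral_of_smooth (C' ↘ Spec (CommRingCat.of k))
  haveI : IsIntegral C' := GeometricallyIntegral.isIntegral_of_subsingleton (C' ↘ Spec (CommRingCat.of k))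
  haveI := AlgEquivCurve.smoothOfRelativeDimension_one (C' ↘ Spec (CommRingCat.of k)) hdim'
  by_cases hs : s₁ = s₂
  · subst hs
    obtain ⟨h, h'⟩ := Groth.Agent.S19877.result k C hdim C' hdim' g hg hg' hg2 σ hσ σ' hσ' J ψ hJ J' ψ' hJ' j hj j' hj' β
      α₁ α₂ hα₁ hα₂ c₁ c₂ s₁ hs₁ h₁ h₂
    exact ⟨h, rfl, h'⟩
  exfalso
  letI : PicGrp.Law C' := W7Cube.law C'
  obtain ⟨D', -⟩ := PicCurve.exists_jacData (σ := ⟨σ', hσ'⟩) hdim' (by omega) ψ' hJ' hj'
  have hsum : s₁ + s₂ = 0 := by omega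
  obtain ⟨hdeg, hh⟩ := PicCurve.two_le_hC_of_pairing k hdim' hg' hg2
    (PicCurve.delta k ⟨σ', hσ'⟩ hdim' * PicCurve.delta k ⟨σ', hσ'⟩ hdim' * (D'.cl c₁ * D'.cl c₂)) fun Q => by
    let t : 𝟙_ (Over (Spec (CommRingCat.of k))) ⟶ Over.mk (C ↘ Spec (CommRingCat.of k)) :=
      Over.homMk (Q.1 ≫ α₁.inv) (by
        show (Q.1 ≫ α₁.inv) ≫ (C ↘ Spec (CommRingCat.of k)) = 𝟙 _
        rw [← hα₁, Category.assoc, Iso.inv_hom_id_assoc, Q.2])
    let Q' : {τ : Spec (CommRingCat.of k) ⟶ C' // τ ≫ (C' ↘ Spec (CommRingCat.of k)) = 𝟙 _} :=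
      ⟨t.left ≫ α₂.hom, by rw [Category.assoc, hα₂]; exact Over.w t⟩
    have e1 := PicCurve.compat_point hdim' D' β.hom α₁ hα₁ c₁ s₁ h₁ t Q (by
      show (Q.1 ≫ α₁.inv) ≫ α₁.hom = Q.1
      rw [Category.assoc, Iso.inv_hom_id, Category.comp_id])
    have e2 := PicCurve.compat_point hdim' D' β.hom α₂ hα₂ c₂ s₂ h₂ t Q' rfl
    refine ⟨Q', ?_⟩
    rw [mul_inv_eq_iff_eq_mul] at e1 e2
    rw [e1, e2, eq_neg_of_add_eq_zero_left hsum, zpow_neg]
    generalize D'.cl (t ≫ j ≫ β.hom) ^ s₂ = u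
    apply Additive.ofMul.injective; simp only [ofMul_mul, ofMul_inv]; module
  obtain ⟨M, hM, hMc⟩ := PicGrp.exists_eq_cls
    (PicCurve.delta k ⟨σ', hσ'⟩ hdim' * PicCurve.delta k ⟨σ', hσ'⟩ hdim' * (D'.cl c₁ * D'.cl c₂))
  rw [hMc] at hdeg hh
  have hle : PicCurve.hC k (PicGrp.cls M hM) 0 ≤ 2 := by
    obtain ⟨τ, hτ⟩ := PicCurve.exists_points_of_hC k hdim' (r := 2) _ hdeg (by omega)
    have h := PicCurve.hC_le_succ k hdim' (PicGrp.cls M hM) (τ 1)
    rw [hτ, Fin.prod_univ_two, mul_inv_cancel_right, PicCurve.hC_delta k hdim' hg' (by omega)] at h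
    rw [hτ, Fin.prod_univ_two]
    exact h
  rw [PicCurve.hC_cls] at hh hle
  rw [PicCurve.degP_cls] at hdeg
  haveI := CurveRR.isNoetherian_of_proper k C'
  haveI : C'.IsSeparated := ⟨by
    rw [← terminal.comp_from (C' ↘ Spec (CommRingCat.of k))]; infer_instance⟩
  refine hnh ⟨(Scheme.Modules.pullback α₁.hom).obj M, PicLoc.isInvertible_pullback _ hM, ?_, ?_⟩
  · have hqO : Coh.IsQCoh (Coh.structureModule C') := TMul.isQCoh_of_isInvertible TMul.isInvertible_structureModule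
    rw [Curv2.deg] at hdeg ⊢
    rw [QuotProj.euler_pullback_iso α₁ hα₁ M (TMul.isQCoh_of_isInvertible hM),
      ← CurveRR.euler_eq_of_iso (PicLoc.pullbackStructureIso α₁.hom),
      QuotProj.euler_pullback_iso α₁ hα₁ _ hqO]
    exact hdeg
  · rw [PicCurve.finrank_hh_pullback_iso α₁ hα₁ M (TMul.isQCoh_of_isInvertible hM)]
    exact le_antisymm hle hh

end Groth.Agent.S17815
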