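import Groth.Statements.S17816
import Groth.Agent.PicCurve.DivCorr
-- import your own Groth.Agent.* helpers here

set_option autoImplicit false
set_option backward.isDefEq.respectTransparency false
set_option backward.isDefEq.respectTransparency.types false
set_option linter.style.haveILetI false
set_option maxHeartbeats 1000000
universe u
open CategoryTheory CategoryTheory.Limits AlgebraicGeometry MonoidalCategory CartesianMonoidalCategory MonObj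
open JacVar

namespace Groth.Agent.S17816

open Groth.Agent.PicCurve Groth.Agent.W7Cube
attribute [local instance] Groth.Agent.W7Cube.law

/-- Let k be a field and C₁, C₂ smooth proper geometrically connected curves of positive genus over k
with k-points P₁ and P₂; let (J₁, ψ₁) and (J₂, ψ₂) be their Jacobians (commutative group schemes
over k, coarse moduli schemes on all k-schemes for degree-0 line bundles modulo twisting from the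
base, group law induced by tensor product), j₁ : C₁ ⟶ J₁ the Abel map with base point P₁, and M a
universal degree-0 family on C₂ × J₂ which is trivial along P₂ × J₂ and whose classifying morphism
under ψ₂ is the identity of J₂ (the sheaf M^{P₂}). For a homomorphism χ : J₁ ⟶ J₂ let Φ(χ) be the
class of the pullback of M along 1 × (χ ∘ j₁) : C₂ × C₁ ⟶ C₂ × J₂. Then χ ↦ Φ(χ) is a bijection from
the homomorphisms of group schemes J₁ ⟶ J₂ onto the isomorphism classes of divisorial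
correspondences between (C₂, P₂) and (C₁, P₁), i.e. classes of invertible modules on C₂ ×_k C₁
trivial on P₂ × C₁ and on C₂ × P₁: each Φ(χ) is such a class, Φ is injective on homomorphisms, and
every such class is Φ(χ) for a homomorphism χ. -/
theorem result (k : Type u) [Field k]
    (C₁ : Scheme.{u}) [C₁.Over (Spec (CommRingCat.of k))]
    [IsProper (C₁ ↘ Spec (CommRingCat.of k))] [Smooth (C₁ ↘ Spec (CommRingCat.of k))] [GeometricallyConnected (C₁ ↘ Spec (CommRingCat.of k))]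
    (hdim₁ : topologicalKrullDim ↥C₁ = 1)
    (C₂ : Scheme.{u}) [C₂.Over (Spec (CommRingCat.of k))]
    [IsProper (C₂ ↘ Spec (CommRingCat.of k))] [Smooth (C₂ ↘ Spec (CommRingCat.of k))] [GeometricallyConnected (C₂ ↘ Spec (CommRingCat.of k))]
    (hdim₂ : topologicalKrullDim ↥C₂ = 1)
    (hg₁ : 0 < Curv2.genus k C₁) (hg₂ : 0 < Curv2.genus k C₂)
    (σ₁ : Spec (CommRingCat.of k) ⟶ C₁) (hσ₁ : σ₁ ≫ (C₁ ↘ Spec (CommRingCat.of k)) = 𝟙 _) (σ₂ : Spec (CommRingCat.of k) ⟶ C₂) (hσ₂ : σ₂ ≫ (C₂ ↘ Spec (CommRingCat.of k)) = 𝟙 _)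
    (J₁ : Over (Spec (CommRingCat.of k))) [GrpObj J₁] [IsCommMonObj J₁]
    (ψ₁ : (ModFun.PicDeg (C₁ ↘ Spec (CommRingCat.of k)) 0).Hom ⊤ J₁) (hJ₁ : Jac.IsJacobian (C₁ ↘ Spec (CommRingCat.of k)) ⊤ J₁ ψ₁)
    (J₂ : Over (Spec (CommRingCat.of k))) [GrpObj J₂] [IsCommMonObj J₂]
    (ψ₂ : (ModFun.PicDeg (C₂ ↘ Spec (CommRingCat.of k)) 0).Hom ⊤ J₂) (hJ₂ : Jac.IsJacobian (C₂ ↘ Spec (CommRingCat.of k)) ⊤ J₂ ψ₂)
    (j₁ : Over.mk (C₁ ↘ Spec (CommRingCat.of k)) ⟶ J₁) (hj₁ : Jac.IsAbelJacobiAt (C₁ ↘ Spec (CommRingCat.of k)) σ₁ ψ₁ j₁)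
    (Pu : (PicF.XT (C₂ ↘ Spec (CommRingCat.of k)) J₂).Modules) (hPu : ModFun.IsUnivFamily ⊤ (ModFun.PicDeg (C₂ ↘ Spec (CommRingCat.of k)) 0) J₂ Pu)
    (hPn : Jac.IsNormAlong (C₂ ↘ Spec (CommRingCat.of k)) σ₂ hσ₂ J₂ Pu)
    (hT₂ : (⊤ : ObjectProperty (Over (Spec (CommRingCat.of k)))) J₂) (hPuψ : ψ₂.app J₂ Pu hT₂ hPu.1 = 𝟙 J₂) :
    (∀ χ : J₁ ⟶ J₂, IsMonHom χ →
      (PicF.IsInvertibleCl (PicF.pullCl (PicF.XTmap (C₂ ↘ Spec (CommRingCat.of k)) (j₁ ≫ χ)) (PicF.cl Pu)) ∧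
        PicF.IsTrivialCl (PicF.pullCl (PicF.secT (C₂ ↘ Spec (CommRingCat.of k)) σ₂ hσ₂ (Over.mk (C₁ ↘ Spec (CommRingCat.of k)))) (PicF.pullCl (PicF.XTmap (C₂ ↘ Spec (CommRingCat.of k)) (j₁ ≫ χ)) (PicF.cl Pu))) ∧
        PicF.IsTrivialCl (PicF.pullCl (PicF.XTmap (C₂ ↘ Spec (CommRingCat.of k)) (Over.homMk σ₁ hσ₁ : 𝟙_ (Over (Spec (CommRingCat.of k))) ⟶ Over.mk (C₁ ↘ Spec (CommRingCat.of k)))) (PicF.pullCl (PicF.XTmap (C₂ ↘ Spec (CommRingCat.of k)) (j₁ ≫ χ)) (PicF.cl Pu))))) ∧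
    (∀ χ₁ χ₂ : J₁ ⟶ J₂, IsMonHom χ₁ → IsMonHom χ₂ →
      PicF.pullCl (PicF.XTmap (C₂ ↘ Spec (CommRingCat.of k)) (j₁ ≫ χ₁)) (PicF.cl Pu) = PicF.pullCl (PicF.XTmap (C₂ ↘ Spec (CommRingCat.of k)) (j₁ ≫ χ₂)) (PicF.cl Pu) → χ₁ = χ₂) ∧
    (∀ c : PicF.Cl (PicF.XT (C₂ ↘ Spec (CommRingCat.of k)) (Over.mk (C₁ ↘ Spec (CommRingCat.of k)))),
      (PicF.IsInvertibleCl (c) ∧
        PicF.IsTrivialCl (PicF.pullCl (PicF.secT (C₂ ↘ Spec (CommRingCat.of k)) σ₂ hσ₂ (Over.mk (C₁ ↘ Spec (CommRingCat.of k)))) (c)) ∧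
        PicF.IsTrivialCl (PicF.pullCl (PicF.XTmap (C₂ ↘ Spec (CommRingCat.of k)) (Over.homMk σ₁ hσ₁ : 𝟙_ (Over (Spec (CommRingCat.of k))) ⟶ Over.mk (C₁ ↘ Spec (CommRingCat.of k)))) (c))) →
      ∃ χ : J₁ ⟶ J₂, IsMonHom χ ∧ PicF.pullCl (PicF.XTmap (C₂ ↘ Spec (CommRingCat.of k)) (j₁ ≫ χ)) (PicF.cl Pu) = c) := by
  let f₁ := C₁ ↘ Spec (CommRingCat.of k)
  let f₂ := C₂ ↘ Spec (CommRingCat.of k)
  haveI : GeometricallyIntegral f₁ := Groth.Agent.ClosedRep.GeomIntegral.geometricallyIntegral_of_smooth f₁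
  haveI : IsIntegral C₁ := GeometricallyIntegral.isIntegral_of_subsingleton f₁
  haveI := Groth.Agent.AlgEquivCurve.smoothOfRelativeDimension_one f₁ hdim₁
  haveI : GeometricallyIntegral f₂ := Groth.Agent.ClosedRep.GeomIntegral.geometricallyIntegral_of_smooth f₂
  haveI : IsIntegral C₂ := GeometricallyIntegral.isIntegral_of_subsingleton f₂
  haveI := Groth.Agent.AlgEquivCurve.smoothOfRelativeDimension_one f₂ hdim₂
  obtain ⟨ξ, hp, hs, hi, h1, h0, hc, hmul, hψ⟩ := exists_jacobian_class f₂ hdim₂ σ₂ hσ₂ hg₂ J₂ ψ₂ hJ₂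
  haveI := hp
  haveI := hi
  have hPi : PicF.IsInvertible Pu := ZeroSch.isInvertible_of_rankOne hPu.1.1.2
  have hξ := univ_class_eq f₂ hdim₂ σ₂ hσ₂ J₂ ψ₂ ξ hψ Pu hPu.1 hPi hPn hPuψ
  obtain ⟨hj0, huniv⟩ := albanese_of_isJacobian f₁ hdim₁ σ₁ hσ₁ hg₁ J₁ ψ₁ hJ₁ j₁ hj₁
  let D : Over (Spec (CommRingCat.of k)) := Over.mk f₁
  let P : 𝟙_ (Over (Spec (CommRingCat.of k))) ⟶ D := basePt f₁ σ₁ hσ₁
  have hcl : ∀ v : D ⟶ J₂, (pull (PicF.XTmap f₂ v) ξ).1 = PicF.pullCl (PicF.XTmap f₂ v) (PicF.cl Pu) := fun v => by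
    rw [hξ]; rfl
  have hone : ∀ χ : J₁ ⟶ J₂, IsMonHom χ → P ≫ j₁ ≫ χ = η[J₂] := fun χ hχ => by
    haveI := hχ
    rw [← Category.assoc, hj0, IsMonHom.one_hom]
  refine ⟨fun χ hχ => ?_, fun χ₁ χ₂ h₁ h₂ e => ?_, fun c hcc => ?_⟩
  · rw [← hcl]
    refine ⟨(pull (PicF.XTmap f₂ (j₁ ≫ χ)) ξ).2, ?_, ?_⟩
    · exact congrArg Subtype.val (pull_secT (f := f₂) (j₁ ≫ χ) h1)
    · refine congrArg Subtype.val (show pull (PicF.XTmap f₂ P) (pull (PicF.XTmap f₂ (j₁ ≫ χ)) ξ) = 1 from ?_)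
      rw [pull_pull, Groth.Agent.S12404.XTmap_comp, hone χ hχ, MonObj.one_eq_one J₂]
      exact pull_one_pt f₂ hmul _
  · rw [← hcl, ← hcl] at e
    obtain ⟨u, -, hu⟩ := hc D (pull (PicF.XTmap f₂ (j₁ ≫ χ₂)) ξ) (pull_secT _ h1) (fun t => by rw [degC_pull]; exact h0 _)
    have hj : j₁ ≫ χ₁ = j₁ ≫ χ₂ := (hu _ (Subtype.ext e)).trans (hu _ rfl).symm
    exact (huniv J₂ (j₁ ≫ χ₂) (hone χ₂ h₂)).unique ⟨h₁, hj⟩ ⟨h₂, rfl⟩
  · obtain ⟨⟨L, rfl, hL⟩, hcs, hcp⟩ := hcc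
    haveI : IrreducibleSpace ↥D.left := inferInstanceAs (IrreducibleSpace ↥C₁)
    have hP1 : pull (PicF.XTmap f₂ P) (PicGrp.cls L hL) = 1 := (isTrivialCl_iff (pull (PicF.XTmap f₂ P) (PicGrp.cls L hL))).1 hcp
    obtain ⟨v, hv, -⟩ := hc D (PicGrp.cls L hL) ((isTrivialCl_iff (pull (PicF.secT f₂ σ₂ hσ₂ D) (PicGrp.cls L hL))).1 hcs)
      (zero_of_pointed f₂ hdim₂ D P _ hP1)
    have hv0 : P ≫ v = η[J₂] := by
      obtain ⟨u, -, hu⟩ := hc (𝟙_ _) 1 (map_one _) (fun t => degC_one f₂ (fun z => (dim_fiber_spec f₂ z).trans hdim₂) _ t)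
      refine (hu _ ?_).trans (hu _ ?_).symm <;> dsimp only
      · rw [← Groth.Agent.S12404.XTmap_comp, ← pull_pull, hv, hP1]
      · rw [MonObj.one_eq_one J₂]
        exact pull_one_pt f₂ hmul _
    obtain ⟨χ, ⟨hχ, hjχ⟩, -⟩ := huniv J₂ v hv0
    refine ⟨χ, hχ, ?_⟩
    rw [← hcl, hjχ, hv]
    rfl

end Groth.Agent.S17816
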