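import Groth.Statements.S17818
import Groth.Agent.PicCurve.DivCorr
-- import your own Groth.Agent.* helpers here

set_option autoImplicit false
set_option backward.isDefEq.respectTransparency false
set_option backward.isDefEq.respectTransparency.types false
set_option linter.style.haveILetI false
set_option maxHeartbeats 1000000
universe u
open CategoryTheory CategoryTheory.Limits AlgebraicGeometry MonoidalCategory CartesianMonoidalCategory MonObj
open JacVar

namespace Groth.Agent.S17818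

open Groth.Agent.PicCurve Groth.Agent.W7Cube
attribute [local instance] Groth.Agent.W7Cube.law

/-- Let C be a smooth proper geometrically connected curve of genus g > 0 over a field k with a
k-rational point P, (J, ψ) its Jacobian (a commutative group scheme over k, coarse moduli scheme on
all k-schemes for degree-0 line bundles modulo twisting from the base, group law induced by tensor
product), M the universal family on C × J normalised along P × J whose classifying morphism under ψ
is the identity (the sheaf M^P), j : C ⟶ J the Abel map with base point P, and L^P the module on C ×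
C with L^P ⊗ I_Δ ≅ pr₁^* I_P ⊗ pr₂^* I_P, i.e. O(Δ − C × P − P × C). If N is an invertible module on
C × J, trivial along P × J and along C × 0 (a divisorial correspondence between (C, P) and J), whose
pullback along 1 × j is isomorphic to L^P, then N is isomorphic to M. -/
theorem result (k : Type u) [Field k]
    (C : Scheme.{u}) [C.Over (Spec (CommRingCat.of k))]
    [IsProper (C ↘ Spec (CommRingCat.of k))] [Smooth (C ↘ Spec (CommRingCat.of k))] [GeometricallyConnected (C ↘ Spec (CommRingCat.of k))]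
    (hdim : topologicalKrullDim ↥C = 1)
    (hg : 0 < Curv2.genus k C)
    (σ : Spec (CommRingCat.of k) ⟶ C) (hσ : σ ≫ (C ↘ Spec (CommRingCat.of k)) = 𝟙 _)
    (J : Over (Spec (CommRingCat.of k))) [GrpObj J] [IsCommMonObj J]
    (ψ : (ModFun.PicDeg (C ↘ Spec (CommRingCat.of k)) 0).Hom ⊤ J) (hJ : Jac.IsJacobian (C ↘ Spec (CommRingCat.of k)) ⊤ J ψ)
    (Pu : (PicF.XT (C ↘ Spec (CommRingCat.of k)) J).Modules) (hPu : ModFun.IsUnivFamily ⊤ (ModFun.PicDeg (C ↘ Spec (CommRingCat.of k)) 0) J Pu)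
    (hPn : Jac.IsNormAlong (C ↘ Spec (CommRingCat.of k)) σ hσ J Pu)
    (hT : (⊤ : ObjectProperty (Over (Spec (CommRingCat.of k)))) J) (hPuψ : ψ.app J Pu hT hPu.1 = 𝟙 J)
    (j : Over.mk (C ↘ Spec (CommRingCat.of k)) ⟶ J) (hj : Jac.IsAbelJacobiAt (C ↘ Spec (CommRingCat.of k)) σ ψ j)
    (LP : (PicF.XT (C ↘ Spec (CommRingCat.of k)) (Over.mk (C ↘ Spec (CommRingCat.of k)))).Modules) (hLPi : PicF.IsInvertible LP)
    (hLP : Nonempty (CohB1.tensorMod LP (ClSub.idealMod (pullback.diagonal (C ↘ Spec (CommRingCat.of k))).ker) ≅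
      CohB1.tensorMod ((Scheme.Modules.pullback (pullback.fst (C ↘ Spec (CommRingCat.of k)) (C ↘ Spec (CommRingCat.of k)))).obj (ClSub.idealMod σ.ker))
        ((Scheme.Modules.pullback (pullback.snd (C ↘ Spec (CommRingCat.of k)) (C ↘ Spec (CommRingCat.of k)))).obj (ClSub.idealMod σ.ker))))
    (N : (PicF.XT (C ↘ Spec (CommRingCat.of k)) J).Modules) (hN : PicF.IsInvertible N)
    (hNP : Jac.IsNormAlong (C ↘ Spec (CommRingCat.of k)) σ hσ J N)
    (hN0 : PicF.IsTrivialCl (PicF.pullCl (PicF.XTmap (C ↘ Spec (CommRingCat.of k)) (η[J])) (PicF.cl N)))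
    (hNj : Nonempty ((Scheme.Modules.pullback (PicF.XTmap (C ↘ Spec (CommRingCat.of k)) j)).obj N ≅ LP)) :
    Nonempty (N ≅ Pu) := by
  let f := C ↘ Spec (CommRingCat.of k)
  haveI : GeometricallyIntegral f := Groth.Agent.ClosedRep.GeomIntegral.geometricallyIntegral_of_smooth f
  haveI : IsIntegral C := GeometricallyIntegral.isIntegral_of_subsingleton f
  haveI := Groth.Agent.AlgEquivCurve.smoothOfRelativeDimension_one f hdim
  obtain ⟨ξJ, hp, hs, hi, h1, h0, hc, hmul, hψ⟩ := exists_jacobian_class f hdim σ hσ hg J ψ hJ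
  haveI := hp
  haveI := hs
  haveI := hi
  haveI : Nonempty ↥J.left := ⟨η[J].left (IsLocalRing.closedPoint k)⟩
  haveI : Subsingleton ↥(Spec (CommRingCat.of k)) := inferInstanceAs (Subsingleton (PrimeSpectrum k))
  haveI : IrreducibleSpace ↥J.left := GeometricallyIrreducible.irreducibleSpace_of_subsingleton J.hom
  have hPi : PicF.IsInvertible Pu := ZeroSch.isInvertible_of_rankOne hPu.1.1.2
  have hξ := univ_class_eq f hdim σ hσ J ψ ξJ hψ Pu hPu.1 hPi hPn hPuψ
  have ha := abel_class f hdim σ hσ J ψ ξJ hψ j hj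
  have hN1 : pull (PicF.secT f σ hσ J) (PicGrp.cls N hN) = 1 := (isTrivialCl_iff (pull (PicF.secT f σ hσ J) (PicGrp.cls N hN))).1 hNP
  have hNη : pull (PicF.XTmap f η[J]) (PicGrp.cls N hN) = 1 := (isTrivialCl_iff (pull (PicF.XTmap f η[J]) (PicGrp.cls N hN))).1 hN0
  obtain ⟨v, hv, -⟩ := hc J (PicGrp.cls N hN) hN1 (zero_of_pointed f hdim J η[J] _ hNη)
  -- `v` is pointed
  have hvη : η[J] ≫ v = η[J] := by
    obtain ⟨u, -, hu⟩ := hc (𝟙_ _) 1 (map_one _) (fun t => degC_one f (fun z => (dim_fiber_spec f z).trans hdim) _ t)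
    refine (hu _ ?_).trans (hu _ ?_).symm <;> dsimp only
    · rw [← Groth.Agent.S12404.XTmap_comp, ← pull_pull, hv, hNη]
    · rw [MonObj.one_eq_one J]
      exact pull_one_pt f hmul _
  haveI : QuasiCompact J.hom := inferInstance
  haveI := Groth.Agent.Chev.isMonHom_of_pointed v hvη
  -- and fixes the Abel map
  have hjv : j ≫ v = j := by
    obtain ⟨hLP⟩ := hLP
    obtain ⟨eN⟩ := hNj
    obtain ⟨u, -, hu⟩ := hc (Over.mk f) (pull (PicF.XTmap f j) ξJ) (pull_secT j h1)
      (fun t => by rw [degC_pull]; exact h0 _)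
    refine (hu _ ?_).trans (hu _ rfl).symm
    dsimp only
    rw [← Groth.Agent.S12404.XTmap_comp, ← pull_pull, hv, ha]
    have hh : ((Over.mk f).hom ≫ σ) ≫ f = (Over.mk f).hom := by rw [Category.assoc, hσ, Category.comp_id]
    have hσE : BlowUp.IsEffCartierIdeal σ.ker := effCartier_rat f ⟨‹_›, ‹_›, ‹_›, hdim⟩ σ hσ
    have e0 : HilbD.secGraph f (Over.mk f) ((Over.mk f).hom ≫ σ) hh = σ.ker.comap (pullback.fst f f) := by
      rw [Groth.Agent.HilbOne.secGraph_eq]
      exact ker_sect_const f σ hσ (Over.mk f) hh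
    have hIσ : PicF.IsInvertible (ClSub.idealMod σ.ker) := (Groth.Agent.S8914.result _).2 hσE
    have hIΔ : PicF.IsInvertible (Y := PicF.XT f (Over.mk f))
        (ClSub.idealMod (HilbD.secGraph f (Over.mk f) (𝟙 C) (Category.id_comp f))) :=
      (Groth.Agent.S8914.result _).2 (effCartier_obj f (Over.mk f) (d := 1)
        ⟨_, Groth.Agent.HilbOne.secGraph_mem f (Over.mk f) (𝟙 C) (Category.id_comp f)⟩)
    have hbase : (baseCl f σ hσ (Over.mk f))⁻¹ = pull (pullback.fst f f) (PicGrp.cls _ hIσ) := by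
      rw [show baseCl f σ hσ (Over.mk f) = pull (pullback.fst f f) (divCl σ.ker hσE) from
        (divCl_congr e0 (effCartier_obj f _ (baseDiv f σ hσ _)) _).trans (pull_divCl (pullback.fst f f) hσE
          (e0 ▸ effCartier_obj f (Over.mk f) (baseDiv f σ hσ _))).symm, divCl, map_inv, inv_inv]
    have hL : PicGrp.cls LP hLPi * PicGrp.cls _ hIΔ =
        (baseCl f σ hσ (Over.mk f))⁻¹ * pull (PicF.XTproj f (Over.mk f)) (PicGrp.cls _ hIσ) := by
      rw [hbase, pull_cls, pull_cls]
      exact (PicGrp.cls_eq_cls_iff (TMul.isInvertible_tensorMod hLPi hIΔ)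
        (TMul.isInvertible_tensorMod (PicLoc.isInvertible_pullback _ hIσ) (PicLoc.isInvertible_pullback _ hIσ))).2 ⟨hLP⟩
    have hNL : pull (PicF.XTmap f j) (PicGrp.cls N hN) = PicGrp.cls LP hLPi := by
      rw [pull_cls]
      exact (PicGrp.cls_eq_cls_iff _ hLPi).2 ⟨eN⟩
    have hL' : PicGrp.cls LP hLPi = ptCl f (Over.mk f) (𝟙 C) (Category.id_comp f) * (baseCl f σ hσ (Over.mk f))⁻¹ *
        pull (PicF.XTproj f (Over.mk f)) (PicGrp.cls _ hIσ) := by
      rw [_root_.mul_assoc, ← hL, ptCl, divCl, mul_comm (PicGrp.cls LP hLPi), inv_mul_cancel_left]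
    rw [hNL, ← rigify_of_mem f σ hσ (c := PicGrp.cls LP hLPi) (hNL ▸ pull_secT j hN1), hL', rigify_mul, rigify_base,
      _root_.mul_one, abelCl]
  haveI : IsCommMonObj J := ‹_›
  obtain ⟨hj0, huniv⟩ := albanese_of_isJacobian f hdim σ hσ hg J ψ hJ j hj
  have hvid : v = 𝟙 J := (huniv J j hj0).unique ⟨inferInstance, hjv⟩ ⟨inferInstance, Category.comp_id j⟩
  subst hvid
  rw [XTmap_id, pull_id, hξ] at hv
  exact (PicGrp.cls_eq_cls_iff hN hPi).1 hv.symm

end Groth.Agent.S17818
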