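import Groth.Statements.S17820
import Groth.Agent.PicTheta.ThetaClass
import Groth.Agent.Castel.Ample
-- import your own Groth.Agent.* helpers here

set_option autoImplicit false
set_option backward.isDefEq.respectTransparency false
set_option backward.isDefEq.respectTransparency.types false
set_option maxHeartbeats 1000000
universe u
open CategoryTheory CategoryTheory.Limits AlgebraicGeometry MonoidalCategory CartesianMonoidalCategory MonObj
open JacVar

attribute [local instance] Groth.Agent.W7Cube.law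

namespace Groth.Agent.S17820

/-- Let k be an algebraically closed field, C a smooth proper connected curve of genus g ≥ 1 over k with
a k-point P, (J, ψ) its Jacobian (a commutative group scheme over k, coarse moduli scheme on all
k-schemes for degree-0 line bundles modulo twisting from the base, group law induced by tensor
product) and j : C ⟶ J the Abel map with base point P. Let Θ = W^{g−1} ⊂ J be the image of the (g −
1)-fold product C ×_k ⋯ ×_k C under (x_1, …, x_{g−1}) ↦ j(x_1) ⋯ j(x_{g−1}), Θ⁻ its image under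
inversion, and for an effective divisor D = P_1 + ⋯ + P_g of degree g on C (k-points P_i) let a =
j(P_1) ⋯ j(P_g) be its image in J and Θ⁻_a the translate of Θ⁻ by a. If L(Θ⁻_a) is an invertible
module on J inverse to the ideal of the reduced closed subscheme Θ⁻_a, then its pullback along j is
isomorphic to O_C(D), the invertible module with O_C(D) ⊗ I_{P_1} ⊗ ⋯ ⊗ I_{P_g} ≅ O_C. -/
theorem result (k : Type u) [Field k] [IsAlgClosed k]
    (C : Scheme.{u}) [C.Over (Spec (CommRingCat.of k))]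
    [IsProper (C ↘ Spec (CommRingCat.of k))] [Smooth (C ↘ Spec (CommRingCat.of k))] [GeometricallyConnected (C ↘ Spec (CommRingCat.of k))]
    (hdim : topologicalKrullDim ↥C = 1)
    (g : ℕ) (hg : Curv2.genus k C = g) (hg1 : 1 ≤ g)
    (σ : Spec (CommRingCat.of k) ⟶ C) (hσ : σ ≫ (C ↘ Spec (CommRingCat.of k)) = 𝟙 _)
    (J : Over (Spec (CommRingCat.of k))) [GrpObj J] [IsCommMonObj J]
    (ψ : (ModFun.PicDeg (C ↘ Spec (CommRingCat.of k)) 0).Hom ⊤ J) (hJ : Jac.IsJacobian (C ↘ Spec (CommRingCat.of k)) ⊤ J ψ)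
    (j : Over.mk (C ↘ Spec (CommRingCat.of k)) ⟶ J) (hj : Jac.IsAbelJacobiAt (C ↘ Spec (CommRingCat.of k)) σ ψ j)
    (D : Fin g → (Spec (CommRingCat.of k) ⟶ C)) (hD : ∀ i, D i ≫ (C ↘ Spec (CommRingCat.of k)) = 𝟙 _)
    (MD : C.Modules) (hMD : PicF.IsInvertible MD)
    (hMDD : Nonempty (CohB1.tensorMod MD (FGA.tensorList (List.ofFn fun i : Fin g => ClSub.idealMod (D i).ker)) ≅
      Coh.structureModule C))
    (La : J.left.Modules) (hLa : PicF.IsInvertible La)
    (hLaΘ : ClSub.IsInverseOf La (ClSub.idealMod (Scheme.IdealSheafData.vanishingIdeal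
      ⟨closure ((Jac.transl J ((List.ofFn fun i : Fin g => (Over.homMk (D i) (hD i) : (𝟙_ (Over (Spec (CommRingCat.of k)))) ⟶ Over.mk (C ↘ Spec (CommRingCat.of k))) ≫ j).prod)).left.base '' (((𝟙 J)⁻¹).left.base '' Set.range ((List.ofFn fun i : Fin (g - 1) =>
        (Over.homMk (WidePullback.π (fun (_ : Fin (g - 1)) => (C ↘ Spec (CommRingCat.of k))) i)
          (WidePullback.π_arrow (fun (_ : Fin (g - 1)) => (C ↘ Spec (CommRingCat.of k))) i) : Over.mk (WidePullback.base fun (_ : Fin (g - 1)) => (C ↘ Spec (CommRingCat.of k))) ⟶ Over.mk (C ↘ Spec (CommRingCat.of k))) ≫ j).prod).left.base)), isClosed_closure⟩))) :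
    Nonempty ((Scheme.Modules.pullback j.left).obj La ≅ MD) := by
  haveI := ClosedRep.GeomIntegral.geometricallyIntegral_of_smooth (C ↘ Spec (CommRingCat.of k))
  haveI : IsIntegral C := GeometricallyIntegral.isIntegral_of_subsingleton (C ↘ Spec (CommRingCat.of k))
  haveI := AlgEquivCurve.smoothOfRelativeDimension_one (C ↘ Spec (CommRingCat.of k)) hdim
  obtain ⟨-, -, -, hJgi, -⟩ := PicCurve.exists_jacobian_class (C ↘ Spec (CommRingCat.of k)) hdim σ hσ (by omega) J ψ hJ
  haveI := hJgi
  obtain ⟨DJ, -⟩ := PicCurve.exists_jacData (σ := ⟨σ, hσ⟩) hdim (by omega) ψ hJ hj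
  let τ : Fin g → {τ : Spec (CommRingCat.of k) ⟶ C // τ ≫ (C ↘ Spec (CommRingCat.of k)) = 𝟙 _} := fun i => ⟨D i, hD i⟩
  let pt : Fin g → ((𝟙_ (Over (Spec (CommRingCat.of k)))) ⟶ J) := fun i =>
    (Over.homMk (D i) (hD i) : (𝟙_ (Over (Spec (CommRingCat.of k)))) ⟶ Over.mk (C ↘ Spec (CommRingCat.of k))) ≫ j
  let a : (𝟙_ (Over (Spec (CommRingCat.of k)))) ⟶ J := (List.ofFn pt).prod
  have ha : DJ.cl a * PicCurve.delta k ⟨σ, hσ⟩ hdim ^ g = ∏ i, PicCurve.delta k (τ i) hdim := by
    show DJ.cl (List.ofFn pt).prod * _ = _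
    rw [List.prod_ofFn, map_prod, ← Fin.prod_const, ← Finset.prod_mul_distrib]
    refine Finset.prod_congr rfl fun i _ => ?_
    show DJ.cl ((Over.homMk (D i) (hD i) : (𝟙_ (Over (Spec (CommRingCat.of k)))) ⟶ Over.mk (C ↘ Spec (CommRingCat.of k))) ≫ j) * _ = _
    rw [DJ.cl_abel hdim (τ i), inv_mul_cancel_right]
  obtain ⟨hl, hcls⟩ := PicCurve.exists_cls_list k hdim τ
  have hc : PicGrp.cls MD hMD = ∏ i, PicCurve.delta k (τ i) hdim := by
    have h := (PicGrp.cls_eq_cls_iff (TMul.isInvertible_tensorMod hMD hl) TMul.isInvertible_structureModule).2 hMDD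
    rw [show PicGrp.cls _ (TMul.isInvertible_tensorMod hMD hl) = PicGrp.cls MD hMD * PicGrp.cls _ hl from rfl,
      PicCurve.cls_structure, hcls, mul_inv_eq_one] at h
    exact h
  have hW : IsClosed (Set.range (PicCurve.sumMap j (g - 1)).left.base) :=
    PicCurve.symSet_one (j := j) (g - 1) ▸ DJ.isClosed_symSet (g - 1) 1
  let r := (PicTheta.reflect J a).left
  have hrr : r ≫ r = 𝟙 J.left := congrArg CommaMorphism.left (PicTheta.reflect_reflect a)
  haveI : IsIso r := ⟨r, hrr, hrr⟩
  set Ia := Scheme.IdealSheafData.vanishingIdeal (X := J.left)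
    ⟨r ⁻¹' Set.range (PicCurve.sumMap j (g - 1)).left.base, hW.preimage r.continuous⟩ with hIa
  have hIeq : (Scheme.IdealSheafData.vanishingIdeal (X := J.left) ⟨_, hW⟩).comap r = Ia :=
    PicTheta.vanishingIdeal_comap_iso r hW
  have hLa' : ClSub.IsInverseOf La (ClSub.idealMod Ia) := by
    refine (congrArg (fun Z => ClSub.IsInverseOf La (ClSub.idealMod (Scheme.IdealSheafData.vanishingIdeal Z)))
      (TopologicalSpace.Closeds.ext ?_)).mp hLaΘ
    show closure ((Jac.transl J a).left.base '' (((𝟙 J)⁻¹).left.base '' Set.range (PicCurve.sumMap j (g - 1)).left.base)) = _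
    rw [PicTheta.reflect_image, (hW.preimage r.continuous).closure_eq]
    rfl
  have hIae : BlowUp.IsEffCartierIdeal Ia :=
    (S8914.result Ia).1 (Castel.isInvertible_of_isInverseOf hLa (hLa'.map fun e => TMul.commIso _ _ ≪≫ e))
  have hWe : BlowUp.IsEffCartierIdeal (Scheme.IdealSheafData.vanishingIdeal (X := J.left) ⟨_, hW⟩) := by
    have := BlowUpLib.cartier_comap_flat hIae r
    rwa [← hIeq, ← Scheme.IdealSheafData.comap_comp, hrr, Scheme.IdealSheafData.comap_id] at this
  have key := PicTheta.pull_theta_eq hdim DJ hg hg1 hW hWe a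
  rw [ha, ← hc, Over.comp_left, ← W7Cube.pull_pull, PicCurve.pull_divCl r hWe (by rw [hIeq]; exact hIae),
    PicCurve.divCl_congr hIeq _ hIae, ← PicCurve.cls_eq_divCl hLa hIae hLa', W7Cube.pull_cls] at key
  exact (PicGrp.cls_eq_cls_iff _ _).1 key

end Groth.Agent.S17820
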