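import Groth.Statements.S17821
import Groth.Agent.PicTheta.RiemannMain
-- import your own Groth.Agent.* helpers here

set_option autoImplicit false
set_option backward.isDefEq.respectTransparency false
set_option backward.isDefEq.respectTransparency.types false
set_option maxHeartbeats 1000000
universe u
open CategoryTheory CategoryTheory.Limits AlgebraicGeometry MonoidalCategory CartesianMonoidalCategory MonObj
open JacVar

attribute [local instance] Groth.Agent.W7Cube.law

namespace Groth.Agent.S17821

/-- Let k be an algebraically closed field, C a smooth proper connected curve of genus g ≥ 1 over k with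
a k-point P, (J, ψ) its Jacobian (a commutative group scheme over k, coarse moduli scheme on all
k-schemes for degree-0 line bundles modulo twisting from the base, group law induced by tensor
product) and j : C ⟶ J the Abel map with base point P; let Θ = W^{g−1} ⊂ J be the image of the (g −
1)-fold product of C under (x_i) ↦ Π j(x_i) and Θ⁻ its image under inversion. Let P_1, …, P_g be
distinct k-points of C such that the divisor D = P_1 + ⋯ + P_g satisfies h⁰(O_C(D)) = 1 (O_C(D)
being the invertible module with O_C(D) ⊗ I_{P_1} ⊗ ⋯ ⊗ I_{P_g} ≅ O_C), and let a = j(P_1) ⋯ j(P_g).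
Then j⁻¹(Θ⁻_a) = D as Cartier divisors on C: the pullback along j of the ideal of the reduced closed
subscheme Θ⁻_a of J is the intersection of the ideals of the points P_i. (The published statement is
phrased for a in the largest open subset of J over which the fibres of C^(g) → J are finite and the
divisor mapping to a is a sum of g distinct points; this row states it pointwise, for a divisor D of
g distinct points with h⁰(O_C(D)) = 1.) -/
theorem result (k : Type u) [Field k] [IsAlgClosed k]
    (C : Scheme.{u}) [C.Over (Spec (CommRingCat.of k))]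
    [IsProper (C ↘ Spec (CommRingCat.of k))] [Smooth (C ↘ Spec (CommRingCat.of k))] [GeometricallyConnected (C ↘ Spec (CommRingCat.of k))]
    (hdim : topologicalKrullDim ↥C = 1)
    (g : ℕ) (hg : Curv2.genus k C = g) (hg1 : 1 ≤ g)
    (σ : Spec (CommRingCat.of k) ⟶ C) (hσ : σ ≫ (C ↘ Spec (CommRingCat.of k)) = 𝟙 _)
    (J : Over (Spec (CommRingCat.of k))) [GrpObj J] [IsCommMonObj J]
    (ψ : (ModFun.PicDeg (C ↘ Spec (CommRingCat.of k)) 0).Hom ⊤ J) (hJ : Jac.IsJacobian (C ↘ Spec (CommRingCat.of k)) ⊤ J ψ)
    (j : Over.mk (C ↘ Spec (CommRingCat.of k)) ⟶ J) (hj : Jac.IsAbelJacobiAt (C ↘ Spec (CommRingCat.of k)) σ ψ j)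
    (D : Fin g → (Spec (CommRingCat.of k) ⟶ C)) (hD : ∀ i, D i ≫ (C ↘ Spec (CommRingCat.of k)) = 𝟙 _) (hDinj : ∀ i i', D i = D i' → i = i')
    (MD : C.Modules) (hMD : PicF.IsInvertible MD)
    (hMDD : Nonempty (CohB1.tensorMod MD (FGA.tensorList (List.ofFn fun i : Fin g => ClSub.idealMod (D i).ker)) ≅
      Coh.structureModule C))
    (hMD1 : Module.finrank k (Coh.HH C MD 0) = 1) :
    (Scheme.IdealSheafData.vanishingIdeal ⟨closure ((Jac.transl J ((List.ofFn fun i : Fin g => (Over.homMk (D i) (hD i) : (𝟙_ (Over (Spec (CommRingCat.of k)))) ⟶ Over.mk (C ↘ Spec (CommRingCat.of k))) ≫ j).prod)).left.base '' (((𝟙 J)⁻¹).left.base '' Set.range ((List.ofFn fun i : Fin (g - 1) =>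
        (Over.homMk (WidePullback.π (fun (_ : Fin (g - 1)) => (C ↘ Spec (CommRingCat.of k))) i)
          (WidePullback.π_arrow (fun (_ : Fin (g - 1)) => (C ↘ Spec (CommRingCat.of k))) i) : Over.mk (WidePullback.base fun (_ : Fin (g - 1)) => (C ↘ Spec (CommRingCat.of k))) ⟶ Over.mk (C ↘ Spec (CommRingCat.of k))) ≫ j).prod).left.base)), isClosed_closure⟩).comap j.left =
      ⨅ i : Fin g, (D i).ker := by
  haveI := ClosedRep.GeomIntegral.geometricallyIntegral_of_smooth (C ↘ Spec (CommRingCat.of k))
  haveI : IsIntegral C := GeometricallyIntegral.isIntegral_of_subsingleton (C ↘ Spec (CommRingCat.of k))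
  haveI := AlgEquivCurve.smoothOfRelativeDimension_one (C ↘ Spec (CommRingCat.of k)) hdim
  obtain ⟨DJ, -⟩ := PicCurve.exists_jacData (σ := ⟨σ, hσ⟩) hdim (by omega) ψ hJ hj
  let τ : Fin g → {τ : Spec (CommRingCat.of k) ⟶ C // τ ≫ (C ↘ Spec (CommRingCat.of k)) = 𝟙 _} := fun i => ⟨D i, hD i⟩
  let pt : Fin g → ((𝟙_ (Over (Spec (CommRingCat.of k)))) ⟶ J) := fun i =>
    (Over.homMk (D i) (hD i) : (𝟙_ (Over (Spec (CommRingCat.of k)))) ⟶ Over.mk (C ↘ Spec (CommRingCat.of k))) ≫ j
  let a : (𝟙_ (Over (Spec (CommRingCat.of k)))) ⟶ J := (List.ofFn pt).prod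
  have ha : DJ.cl a * PicCurve.delta k ⟨σ, hσ⟩ hdim ^ g = ∏ i, PicCurve.delta k (τ i) hdim := by
    show DJ.cl (List.ofFn pt).prod * _ = _
    rw [List.prod_ofFn, map_prod, ← Fin.prod_const, ← Finset.prod_mul_distrib]
    refine Finset.prod_congr rfl fun i _ => ?_
    show DJ.cl ((Over.homMk (D i) (hD i) : (𝟙_ (Over (Spec (CommRingCat.of k)))) ⟶ Over.mk (C ↘ Spec (CommRingCat.of k))) ≫ j) * _ = _
    rw [DJ.cl_abel hdim (τ i), inv_mul_cancel_right]
  obtain ⟨hl, hcls⟩ := PicCurve.exists_cls_list k hdim τ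
  have hc : PicGrp.cls MD hMD = ∏ i, PicCurve.delta k (τ i) hdim := by
    have h := (PicGrp.cls_eq_cls_iff (TMul.isInvertible_tensorMod hMD hl) TMul.isInvertible_structureModule).2 hMDD
    rw [show PicGrp.cls _ (TMul.isInvertible_tensorMod hMD hl) = PicGrp.cls MD hMD * PicGrp.cls _ hl from rfl,
      PicCurve.cls_structure, hcls, mul_inv_eq_one] at h
    exact h
  have h0 : PicCurve.hC k (∏ i, PicCurve.delta k (τ i) hdim) 0 = 1 := by
    rw [← hc, PicCurve.hC_cls]; exact hMD1
  have hW : IsClosed (Set.range (PicCurve.sumMap j (g - 1)).left.base) :=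
    PicCurve.symSet_one (j := j) (g - 1) ▸ DJ.isClosed_symSet (g - 1) 1
  have hinj : Function.Injective τ := fun i i' h => hDinj i i' (congrArg Subtype.val h)
  have key := PicTheta.comap_theta_eq hdim DJ hg hg1 a τ hinj ha h0 hW
  rw [show (j ≫ PicTheta.reflect J a).left = j.left ≫ (PicTheta.reflect J a).left from rfl,
    Scheme.IdealSheafData.comap_comp] at key
  haveI : IsIso (PicTheta.reflect J a).left :=
    ⟨(PicTheta.reflect J a).left, congrArg CommaMorphism.left (PicTheta.reflect_reflect a),
      congrArg CommaMorphism.left (PicTheta.reflect_reflect a)⟩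
  rw [PicTheta.vanishingIdeal_comap_iso (PicTheta.reflect J a).left hW] at key
  refine Eq.trans (congrArg (fun I : J.left.IdealSheafData => I.comap j.left) (congrArg
    Scheme.IdealSheafData.vanishingIdeal (TopologicalSpace.Closeds.ext ?_))) key
  show closure ((Jac.transl J a).left.base '' (((𝟙 J)⁻¹).left.base '' Set.range (PicCurve.sumMap j (g - 1)).left.base)) = _
  rw [PicTheta.reflect_image, (hW.preimage (PicTheta.reflect J a).left.continuous).closure_eq]
  rfl

end Groth.Agent.S17821
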