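import Groth.Statements.S17823
import Groth.Agent.PicTheta.Intersect
-- import your own Groth.Agent.* helpers here

set_option autoImplicit false
set_option backward.isDefEq.respectTransparency false
set_option backward.isDefEq.respectTransparency.types false
set_option maxHeartbeats 1000000
universe u
open CategoryTheory CategoryTheory.Limits AlgebraicGeometry MonoidalCategory CartesianMonoidalCategory MonObj
open JacVar
open Groth.Agent.PicCurve Groth.Agent.SubGen

attribute [local instance] Groth.Agent.W7Cube.law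

namespace Groth.Agent.S17823

/-- Let k be an algebraically closed field, C a smooth proper connected curve of genus g ≥ 2 over k with
a k-point P, (J, ψ) its Jacobian (a commutative group scheme over k, coarse moduli scheme on all
k-schemes for degree-0 line bundles modulo twisting from the base, group law induced by tensor
product) and j : C ⟶ J the Abel map with base point P. Write W^r ⊂ J for the image of the r-fold
product C ×_k ⋯ ×_k C under (x_1, …, x_r) ↦ j(x_1) ⋯ j(x_r) (the image of the r-th symmetric power;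
W^0 is the origin), and W^r_a for its translate by a k-point a of J. Let κ be the k-point of J given
by ψ on Ω_{C/k} ⊗ I_P^{⊗(2g−2)}. If a is a k-point of J such that W^1 = j(C) is not contained in
W^{g−1}_a, then there are k-points P_1, …, P_g of C, unique up to reordering, with j(P_1) ⋯ j(P_g) =
a·κ (the unique effective divisor D(a) of degree g whose class maps to a·κ), and W^1 · W^{g−1}_a
regarded as a divisor on C equals D(a): the pullback along j of the ideal of the reduced closed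
subscheme W^{g−1}_a is the product of the ideals of the points P_i. -/
theorem result (k : Type u) [Field k] [IsAlgClosed k]
    (C : Scheme.{u}) [C.Over (Spec (CommRingCat.of k))]
    [IsProper (C ↘ Spec (CommRingCat.of k))] [Smooth (C ↘ Spec (CommRingCat.of k))] [GeometricallyConnected (C ↘ Spec (CommRingCat.of k))]
    (hdim : topologicalKrullDim ↥C = 1)
    (g : ℕ) (hg : Curv2.genus k C = g) (hg2 : 2 ≤ g)
    (σ : Spec (CommRingCat.of k) ⟶ C) (hσ : σ ≫ (C ↘ Spec (CommRingCat.of k)) = 𝟙 _)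
    (J : Over (Spec (CommRingCat.of k))) [GrpObj J] [IsCommMonObj J]
    (ψ : (ModFun.PicDeg (C ↘ Spec (CommRingCat.of k)) 0).Hom ⊤ J) (hJ : Jac.IsJacobian (C ↘ Spec (CommRingCat.of k)) ⊤ J ψ)
    (j : Over.mk (C ↘ Spec (CommRingCat.of k)) ⟶ J) (hj : Jac.IsAbelJacobiAt (C ↘ Spec (CommRingCat.of k)) σ ψ j)
    (Kf : (PicF.XT (C ↘ Spec (CommRingCat.of k)) (𝟙_ (Over (Spec (CommRingCat.of k))))).Modules)
    (hKf : Nonempty (Kf ≅ (Scheme.Modules.pullback (pullback.fst (C ↘ Spec (CommRingCat.of k)) (𝟙_ (Over (Spec (CommRingCat.of k)))).hom)).obj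
      (CohB1.tensorMod (Omega.sheaf (C ↘ Spec (CommRingCat.of k))) (CohB1.tensorPow (ClSub.idealMod σ.ker) (2 * g - 2)))))
    (hT₁ : (⊤ : ObjectProperty (Over (Spec (CommRingCat.of k)))) (𝟙_ (Over (Spec (CommRingCat.of k))))) (hKok : (ModFun.PicDeg (C ↘ Spec (CommRingCat.of k)) 0).ok (𝟙_ (Over (Spec (CommRingCat.of k)))) Kf)
    (κ : (𝟙_ (Over (Spec (CommRingCat.of k)))) ⟶ J) (hκ : ψ.app (𝟙_ (Over (Spec (CommRingCat.of k)))) Kf hT₁ hKok = κ)
    (a : (𝟙_ (Over (Spec (CommRingCat.of k)))) ⟶ J) (ha : ¬ (Set.range ((List.ofFn fun i : Fin 1 =>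
        (Over.homMk (WidePullback.π (fun (_ : Fin 1) => (C ↘ Spec (CommRingCat.of k))) i)
          (WidePullback.π_arrow (fun (_ : Fin 1) => (C ↘ Spec (CommRingCat.of k))) i) : Over.mk (WidePullback.base fun (_ : Fin 1) => (C ↘ Spec (CommRingCat.of k))) ⟶ Over.mk (C ↘ Spec (CommRingCat.of k))) ≫ j).prod).left.base ⊆ ((Jac.transl J a).left.base '' Set.range ((List.ofFn fun i : Fin (g - 1) =>
        (Over.homMk (WidePullback.π (fun (_ : Fin (g - 1)) => (C ↘ Spec (CommRingCat.of k))) i)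
          (WidePullback.π_arrow (fun (_ : Fin (g - 1)) => (C ↘ Spec (CommRingCat.of k))) i) : Over.mk (WidePullback.base fun (_ : Fin (g - 1)) => (C ↘ Spec (CommRingCat.of k))) ⟶ Over.mk (C ↘ Spec (CommRingCat.of k))) ≫ j).prod).left.base))) :
    ∃ (D : Fin g → (Spec (CommRingCat.of k) ⟶ C)) (hD : ∀ i, D i ≫ (C ↘ Spec (CommRingCat.of k)) = 𝟙 _),
      (List.ofFn fun i : Fin g => (Over.homMk (D i) (hD i) : (𝟙_ (Over (Spec (CommRingCat.of k)))) ⟶ Over.mk (C ↘ Spec (CommRingCat.of k))) ≫ j).prod = a * κ ∧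
      (∀ (D' : Fin g → (Spec (CommRingCat.of k) ⟶ C)) (hD' : ∀ i, D' i ≫ (C ↘ Spec (CommRingCat.of k)) = 𝟙 _),
        (List.ofFn fun i : Fin g => (Over.homMk (D' i) (hD' i) : (𝟙_ (Over (Spec (CommRingCat.of k)))) ⟶ Over.mk (C ↘ Spec (CommRingCat.of k))) ≫ j).prod = a * κ → ∃ e : Equiv.Perm (Fin g), ∀ i, D' i = D (e i)) ∧
      (Scheme.IdealSheafData.vanishingIdeal ⟨closure ((Jac.transl J a).left.base '' Set.range ((List.ofFn fun i : Fin (g - 1) =>
        (Over.homMk (WidePullback.π (fun (_ : Fin (g - 1)) => (C ↘ Spec (CommRingCat.of k))) i)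
          (WidePullback.π_arrow (fun (_ : Fin (g - 1)) => (C ↘ Spec (CommRingCat.of k))) i) : Over.mk (WidePullback.base fun (_ : Fin (g - 1)) => (C ↘ Spec (CommRingCat.of k))) ⟶ Over.mk (C ↘ Spec (CommRingCat.of k))) ≫ j).prod).left.base), isClosed_closure⟩).comap j.left =
        ∏ i : Fin g, (D i).ker := by
  haveI := ClosedRep.GeomIntegral.geometricallyIntegral_of_smooth (C ↘ Spec (CommRingCat.of k))
  haveI : IsIntegral C := GeometricallyIntegral.isIntegral_of_subsingleton (C ↘ Spec (CommRingCat.of k))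
  haveI := AlgEquivCurve.smoothOfRelativeDimension_one (C ↘ Spec (CommRingCat.of k)) hdim
  obtain ⟨-, -, hJs, hJgi, -⟩ := PicCurve.exists_jacobian_class (C ↘ Spec (CommRingCat.of k)) hdim σ hσ (by omega) J ψ hJ
  haveI := hJs
  haveI := hJgi
  obtain ⟨DJ, hDJ⟩ := PicCurve.exists_jacData (σ := ⟨σ, hσ⟩) hdim (by omega) ψ hJ hj
  haveI := DJ.proper
  have hi : PicF.IsInvertible Kf := ZeroSch.isInvertible_of_rankOne hKok.1.2
  have hκc : DJ.cl κ = canonCl k hdim * (delta k ⟨σ, hσ⟩ hdim ^ (2 * g - 2))⁻¹ :=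
    hκ ▸ (hDJ Kf hKok hi).trans (PicCurve.pull_toPt_kappa (σ := ⟨σ, hσ⟩) hdim Kf hi hKf)
  let δ₀ := delta k ⟨σ, hσ⟩ hdim
  -- a point of the curve off the translate of the theta divisor
  obtain ⟨x, hx1, hxa⟩ : ∃ x : (𝟙_ (Over (Spec (CommRingCat.of k)))) ⟶ J,
      rpt x ∈ Set.range (sumMap j 1).left.base ∧ rpt x ∉ symSet j (g - 1) a := by
    by_contra hall
    push Not at hall
    exact ha (subset_of_rpt (symSet_one (j := j) 1 ▸ DJ.isClosed_symSet 1 1) (DJ.isClosed_symSet (g - 1) a) hall)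
  rw [DJ.mem_range hdim, pow_one] at hx1
  rw [DJ.mem_symSet hdim] at hxa
  set c := DJ.cl (a * κ) * δ₀ ^ g with hc
  have hdeg : degP k c = g := DJ.deg_shift_one hdim g (a * κ)
  have hc1 : hC k c 1 = 0 := by
    by_contra h
    rw [hC_one k hdim] at h
    refine hxa ((one_le_hC_mul k hdim _ _ (r := 1) ?_ (Nat.one_le_iff_ne_zero.2 h) hx1).trans_eq
      (congrArg (fun e => hC k e 0) ?_))
    · rw [degP_mul k hdim, DJ.deg_cl hdim, degP_delta k hdim]; rfl
    · rw [hc, map_mul, hκc, show 2 * g - 2 = (g - 1) + (g - 1) by omega,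
        show δ₀ ^ g = δ₀ ^ (g - 1) * δ₀ by rw [← pow_succ]; congr 1; omega, pow_add]
      apply Additive.ofMul.injective; simp only [ofMul_mul, ofMul_inv, δ₀]; module
  have hc0 : hC k c 0 = 1 := by
    have h := hC_sub k hdim hg c
    rw [hdeg, hc1] at h
    omega
  obtain ⟨τ, hτ⟩ := exists_points_of_hC k hdim c hdeg hc0.ge
  have hcl : ∀ (D : Fin g → (Spec (CommRingCat.of k) ⟶ C)) (hD : ∀ i, D i ≫ (C ↘ Spec (CommRingCat.of k)) = 𝟙 _),
      DJ.cl ((List.ofFn fun i : Fin g => (Over.homMk (D i) (hD i) : (𝟙_ (Over (Spec (CommRingCat.of k)))) ⟶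
        Over.mk (C ↘ Spec (CommRingCat.of k))) ≫ j).prod) * δ₀ ^ g = ∏ i, delta k ⟨D i, hD i⟩ hdim := fun D hD => by
    rw [List.prod_ofFn, map_prod, ← Fin.prod_const, ← Finset.prod_mul_distrib]
    refine Finset.prod_congr rfl fun i _ => ?_
    rw [DJ.cl_abel hdim ⟨D i, hD i⟩, inv_mul_cancel_right]
  refine ⟨fun i => (τ i).1, fun i => (τ i).2, DJ.cl_injective hdim (mul_right_cancel ((hcl _ _).trans hτ.symm)),
    fun D' hD' hD'e => ?_, ?_⟩
  · have h' : ∏ i, delta k (τ i) hdim = ∏ i, delta k ⟨D' i, hD' i⟩ hdim := by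
      rw [← hτ, ← hcl D' hD', hD'e]
    obtain ⟨e, he⟩ := PicTheta.exists_perm_of_hC_eq_one hdim hg le_rfl τ (fun i => ⟨D' i, hD' i⟩) h' (hτ ▸ hc0)
    exact ⟨e, fun i => congrArg Subtype.val (he i)⟩
  -- the divisor cut out by the translate
  have hW : IsClosed (Set.range (PicCurve.sumMap j (g - 1)).left.base) :=
    PicCurve.symSet_one (j := j) (g - 1) ▸ DJ.isClosed_symSet (g - 1) 1
  have hWe := PicTheta.isEffCartier_theta hdim DJ hg (by omega) hW
  let r := (PicTheta.reflect J (a * κ)).left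
  haveI : IsIso r := ⟨r, congrArg CommaMorphism.left (PicTheta.reflect_reflect (a * κ)),
    congrArg CommaMorphism.left (PicTheta.reflect_reflect (a * κ))⟩
  have hset := PicTheta.symSet_eq_preimage hdim DJ hg (by omega) κ a hκc
  have hideal : Scheme.IdealSheafData.vanishingIdeal (X := J.left)
      ⟨closure (symSet j (g - 1) a), isClosed_closure⟩ =
      (Scheme.IdealSheafData.vanishingIdeal (X := J.left) ⟨_, hW⟩).comap r := by
    rw [PicTheta.vanishingIdeal_comap_iso r hW]
    refine congrArg _ (TopologicalSpace.Closeds.ext ?_)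
    show closure (symSet j (g - 1) a) = _
    rw [(DJ.isClosed_symSet (g - 1) a).closure_eq, hset]
    rfl
  show (Scheme.IdealSheafData.vanishingIdeal (X := J.left)
    ⟨closure (symSet j (g - 1) a), isClosed_closure⟩).comap j.left = _
  rw [hideal, ← Scheme.IdealSheafData.comap_comp]
  let m : C ⟶ J.left := j.left ≫ r
  have hpull : BlowUp.IsEffCartierIdeal
      ((Scheme.IdealSheafData.vanishingIdeal (X := J.left) ⟨_, hW⟩).comap m) := by
    refine S8862.result (X := C) m _ hWe fun ξ hξ hmem => ha ?_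
    have hgen : ξ = genericPoint C := (hξ _ ((genericPoint_spec C).specializes trivial)).symm
    subst hgen
    have hjξ : j.left (genericPoint C) ∈ symSet j (g - 1) a := by
      rw [hset]
      exact hmem
    have hall : Set.range j.left ⊆ symSet j (g - 1) a := by
      rintro _ ⟨p, rfl⟩
      exact (((genericPoint_spec C).specializes trivial).map j.left.continuous).mem_closed
        (DJ.isClosed_symSet (g - 1) a) hjξ
    refine subset_trans ?_ hall
    show Set.range (sumMap j 1).left.base ⊆ _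
    rintro _ ⟨q, rfl⟩
    refine ⟨(WidePullback.π (fun (_ : Fin 1) => (C ↘ Spec (CommRingCat.of k))) 0) q, ?_⟩
    show _ = (sumMap j 1).left q
    simp only [sumMap, List.ofFn_succ, List.ofFn_zero, List.prod_cons, List.prod_nil]
    rw [_root_.mul_one]
    rfl
  obtain ⟨n, rfl⟩ : ∃ n, g = n + 1 := ⟨g - 1, by omega⟩
  have hC : Curve.IsSmoothProperCurve k C (C ↘ Spec (CommRingCat.of k)) := ⟨‹_›, ‹_›, ‹_›, hdim⟩
  have hE : ∀ i, BlowUp.IsEffCartierIdeal (τ i).1.ker := fun i =>
    effCartier_rat (C ↘ Spec (CommRingCat.of k)) hC (τ i).1 (τ i).2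
  have hP : divCl _ (cartier_prod_succ _ hE) = c := by
    rw [divCl_prod _ hE, hτ]
    rfl
  have hI : divCl _ hpull = c := by
    rw [← PicCurve.pull_divCl m hWe hpull]
    exact PicTheta.pull_theta_eq hdim DJ hg (by omega) hW hWe (a * κ)
  exact PicTheta.eq_of_divCl_eq (C := C) hpull (cartier_prod_succ _ hE) (hI.trans hP.symm) (by rw [hI]; exact hc0)

end Groth.Agent.S17823
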