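import Groth.Statements.S17825
import Mathlib.AlgebraicGeometry.Morphisms.Separated
import Mathlib.CategoryTheory.Yoneda
-- import your own Groth.Agent.* helpers here

set_option autoImplicit false
set_option linter.style.haveILetI false
set_option linter.unusedSimpArgs false
universe u
open CategoryTheory CategoryTheory.Limits AlgebraicGeometry
open JacVar Opposite

namespace Groth.Agent.S17825

/-- Let S be a scheme, Y an S-scheme separated over S, F a presheaf of sets on the category of
S-schemes, f : h_Y ⟶ F a morphism from the functor of points of Y, and s : F ⟶ h_Y a section of f (s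
followed by f is the identity). Then F is represented by a closed subscheme of Y: there are an
S-scheme Z, a morphism i : Z ⟶ Y over S which is a closed immersion, and an isomorphism F ≅ h_Z
whose composite with h_i : h_Z ⟶ h_Y is s. (The published lemma treats the case where Y is the r-th
symmetric power of a curve, F the functor of degree-r invertible families modulo twisting and f the
divisor-class map.) -/
theorem result {S : Scheme.{u}} (Y : Over S) [IsSeparated Y.hom]
    (F : (Over S)ᵒᵖ ⥤ Type u) (f : yoneda.obj Y ⟶ F) (s : F ⟶ yoneda.obj Y) (hsf : s ≫ f = 𝟙 F) :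
    ∃ (Z : Over S) (i : Z ⟶ Y), IsClosedImmersion i.left ∧
      ∃ e : F ≅ yoneda.obj Z, e.hom ≫ yoneda.map i = s := by
  let e : Y ⟶ Y := (f ≫ s).app (op Y) (𝟙 Y)
  have hnat : ∀ {T : Over S} (z : T ⟶ Y), s.app (op T) (f.app (op T) z) = z ≫ e := by
    intro T z
    have h := NatTrans.naturality_apply (f ≫ s) z.op (𝟙 Y)
    simpa [e] using h
  have hid : ∀ {T : Over S} (x : F.obj (op T)), f.app (op T) (s.app (op T) x) = x := by
    intro T x
    have h := congrArg (fun t : F ⟶ F => t.app (op T) x) hsf
    simpa using h
  haveI : IsSeparated Y.hom := inferInstance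
  refine ⟨equalizer e (𝟙 Y), equalizer.ι e (𝟙 Y), isClosedImmersion_equalizer_ι_left e (𝟙 Y), ?_⟩
  have hfix : ∀ {T : Over S} (x : F.obj (op T)),
      (s.app (op T) x : T ⟶ Y) ≫ e = (s.app (op T) x : T ⟶ Y) ≫ 𝟙 Y := by
    intro T x
    rw [← hnat, hid, Category.comp_id]
  refine ⟨NatIso.ofComponents (fun T => Equiv.toIso
    { toFun := fun x => equalizer.lift (s.app T x : T.unop ⟶ Y) (hfix x)
      invFun := fun z => f.app T ((z : T.unop ⟶ equalizer e (𝟙 Y)) ≫ equalizer.ι e (𝟙 Y))
      left_inv := fun x => by
        simp only [equalizer.lift_ι]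
        exact hid x
      right_inv := fun z => by
        apply equalizer.hom_ext
        simp only [equalizer.lift_ι]
        exact (hnat _).trans (by rw [Category.assoc, equalizer.condition, Category.comp_id]) }) ?_, ?_⟩
  · intro A B g
    ext x
    apply equalizer.hom_ext
    simp [NatTrans.naturality_apply]
  · ext A x
    simp

end Groth.Agent.S17825
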