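import Groth.Statements.S17826
import Groth.Agent.PicTheta.BarLambda
-- import your own Groth.Agent.* helpers here

set_option autoImplicit false
set_option backward.isDefEq.respectTransparency false
set_option backward.isDefEq.respectTransparency.types false
set_option maxHeartbeats 1600000
set_option synthInstance.maxHeartbeats 200000
universe u
open CategoryTheory CategoryTheory.Limits AlgebraicGeometry MonoidalCategory CartesianMonoidalCategory MonObj
open JacVar
open Groth.Agent.W7Cube (pull pull_pull pull_cls)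

attribute [local instance] Groth.Agent.W7Cube.law

namespace Groth.Agent.S17826

/-- Let C be a smooth proper geometrically connected curve of genus g > 0 over a field k with a
k-rational point P, (J, ψ) its Jacobian (a commutative group scheme over k, coarse moduli scheme on
all k-schemes for degree-0 line bundles modulo twisting from the base, group law induced by tensor
product) with universal family M on C × J normalised along P × J and classified by the identity of
J, and j : C ⟶ J the Abel map with base point P. Let N be an invertible module of degree g − 1 on C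
and Θ_J the theta line bundle on J (an invertible module inverse to the ideal of the closure of the
locus of classes ξ with a nonzero section of ξ ⊗ N — a translate of W^{g−1}, which has the same
associated homomorphism). Let (Jt, φ) be an fppf dual of J with normalised Poincaré module 𝒫 on J ×
Jt, lam : J ⟶ Jt the homomorphism attached to Θ_J through φ, and fd : Jt ⟶ J a homomorphism such
that (1 × fd)^* M and (j × 1)^* 𝒫 have the same class on C × Jt. Then lam followed by fd is the
inversion of J and fd followed by lam is the inversion of Jt: −fd is inverse to lam, so lam is an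
isomorphism. -/
theorem result (k : Type u) [Field k]
    (C : Scheme.{u}) [C.Over (Spec (CommRingCat.of k))]
    [IsProper (C ↘ Spec (CommRingCat.of k))] [Smooth (C ↘ Spec (CommRingCat.of k))] [GeometricallyConnected (C ↘ Spec (CommRingCat.of k))]
    (hdim : topologicalKrullDim ↥C = 1)
    (g : ℕ) (hg : Curv2.genus k C = g) (hg1 : 1 ≤ g)
    (σ : Spec (CommRingCat.of k) ⟶ C) (hσ : σ ≫ (C ↘ Spec (CommRingCat.of k)) = 𝟙 _)
    (J : Over (Spec (CommRingCat.of k))) [GrpObj J] [IsCommMonObj J]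
    (ψ : (ModFun.PicDeg (C ↘ Spec (CommRingCat.of k)) 0).Hom ⊤ J) (hJ : Jac.IsJacobian (C ↘ Spec (CommRingCat.of k)) ⊤ J ψ)
    (Pu : (PicF.XT (C ↘ Spec (CommRingCat.of k)) J).Modules) (hPu : ModFun.IsUnivFamily ⊤ (ModFun.PicDeg (C ↘ Spec (CommRingCat.of k)) 0) J Pu)
    (hPn : Jac.IsNormAlong (C ↘ Spec (CommRingCat.of k)) σ hσ J Pu)
    (hT : (⊤ : ObjectProperty (Over (Spec (CommRingCat.of k)))) J) (hPuψ : ψ.app J Pu hT hPu.1 = 𝟙 J)
    (j : Over.mk (C ↘ Spec (CommRingCat.of k)) ⟶ J) (hj : Jac.IsAbelJacobiAt (C ↘ Spec (CommRingCat.of k)) σ ψ j)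
    (N : C.Modules) (hN : PicF.IsInvertible N) (hNdeg : Curv2.deg k C N 1 = (g : ℤ) - 1)
    (ΘJ : J.left.Modules) (hΘJ : Jac.IsThetaLB (C ↘ Spec (CommRingCat.of k)) 0 ψ N ΘJ)
    (Jt : Over (Spec (CommRingCat.of k))) [GrpObj Jt] [IsCommMonObj Jt]
    (φ : AgPol.DualMap J Jt) (hJt : AbDual.IsDualAV Scheme.fppfPrecoverage J Jt φ)
    (P : (PicF.XT J.hom Jt).Modules) (hP : PicF.IsInvertible P) (hPP : AbDual.IsPoincareCl J Jt φ (PicF.cl P))
    (lam : J ⟶ Jt) (hlam : AgPol.IsLambda J Jt φ ΘJ lam)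
    (fd : Jt ⟶ J) [IsMonHom fd]
    (hfd : PicF.cl ((Scheme.Modules.pullback (PicF.XTmap (C ↘ Spec (CommRingCat.of k)) fd)).obj Pu) =
      PicF.cl ((Scheme.Modules.pullback (AbDual.bcMap j Jt)).obj P)) :
    lam ≫ fd = (𝟙 J)⁻¹ ∧ fd ≫ lam = (𝟙 Jt)⁻¹ := by
  haveI := ClosedRep.GeomIntegral.geometricallyIntegral_of_smooth (C ↘ Spec (CommRingCat.of k))
  haveI : IsIntegral C := GeometricallyIntegral.isIntegral_of_subsingleton (C ↘ Spec (CommRingCat.of k))
  haveI := AlgEquivCurve.smoothOfRelativeDimension_one (C ↘ Spec (CommRingCat.of k)) hdim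
  let f := C ↘ Spec (CommRingCat.of k)
  obtain ⟨ξ, hp, hs, hgi, h1, h0, hc, hmul, hψ⟩ :=
    PicCurve.exists_jacobian_class f hdim σ hσ (by omega) J ψ hJ
  haveI := hp
  haveI := hs
  haveI := hgi
  haveI : GeometricallyConnected J.hom := W7See.geometricallyConnected_of_geometricallyIntegral J.hom
  let D : PicCurve.JacData (⟨σ, hσ⟩ : {τ : Spec (CommRingCat.of k) ⟶ C // τ ≫ f = 𝟙 _}) J j :=
    ⟨ξ, hp, h1, h0, hc, hmul, PicCurve.abel_class f hdim σ hσ J ψ ξ hψ j hj⟩
  have hPi : PicF.IsInvertible Pu := ZeroSch.isInvertible_of_rankOne hPu.1.1.2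
  have hξ := PicCurve.univ_class_eq f hdim σ hσ J ψ ξ hψ Pu hPu.1 hPi hPn hPuψ
  set L := PicGrp.cls ΘJ hΘJ.1 with hLdef
  have key : pull (AbDual.bcMap j J) (PicTheta.lamCl L) = pull (PicF.XTmap f ((𝟙 J)⁻¹)) ξ :=
    PicTheta.Bar.pull_bcMap_lamCl_theta D hdim hg hg1 ψ hψ hN hNdeg hΘJ
  have hL1 : pull η[J].left L = 1 := PicCurve.picSet_field_eq_one (k := k) _
  obtain ⟨Q, hQ⟩ := AgSymm.exists_poincare hPP
  have hQc : Q.x = PicGrp.cls P hP := Subtype.ext hQ
  have hlamc := PicTheta.Bar.lam_eq_lamHom hΘJ.1 hlam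
  haveI : IsMonHom lam := hlamc ▸ GraphLocus.isMonHom_lamHom hL1 Q hJt
  have hlx : pull (PicF.XTmap J.hom lam) Q.x = PicTheta.lamCl L := by
    rw [← AgSymm.Poincare.cls_eq, hlamc, GraphLocus.cls_lamHom hL1 Q hJt, PicTheta.Bar.lamCls_eq_lamCl]
  have hfd' : pull (PicF.XTmap f fd) ξ = pull (AbDual.bcMap j Jt) Q.x := by
    rw [hξ, hQc]
    exact Subtype.ext hfd
  have hcomm : PicF.XTmap f lam ≫ AbDual.bcMap j Jt = AbDual.bcMap j J ≫ PicF.XTmap J.hom lam := by
    refine pullback.hom_ext ?_ ?_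
    · rw [Category.assoc, Category.assoc, AbelMap.XTmap_fst, PicTheta.Bar.bcMap_fst, PicTheta.Bar.bcMap_fst]
      exact (Category.assoc _ _ _).symm.trans (congrArg (· ≫ j.left) (AbelMap.XTmap_fst f lam))
    · rw [Category.assoc, Category.assoc, PicTheta.Bar.bcMap_snd,
        show PicF.XTmap J.hom lam ≫ pullback.snd J.hom Jt.hom = pullback.snd J.hom J.hom ≫ lam.left from
          PicCurve.XTmap_proj J.hom lam, ← Category.assoc (AbDual.bcMap j J), PicTheta.Bar.bcMap_snd]
      exact PicCurve.XTmap_proj f lam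
  have hlf : pull (PicF.XTmap f (lam ≫ fd)) ξ = pull (PicF.XTmap f ((𝟙 J)⁻¹)) ξ := by
    rw [← S12404.XTmap_comp, ← pull_pull, hfd', ← key, ← hlx]
    refine (pull_pull _ _ _).trans ?_
    rw [hcomm]
    exact (pull_pull _ _ _).symm
  obtain ⟨u, -, hu⟩ := hc J (pull (PicF.XTmap f ((𝟙 J)⁻¹)) ξ) (PicCurve.pull_secT _ h1)
    (fun t => (PicCurve.degC_pull f _ ξ t).trans (h0 _))
  have h : lam ≫ fd = (𝟙 J)⁻¹ := (hu _ hlf).trans (hu _ rfl).symm
  refine ⟨h, ?_⟩
  let p : Spec (CommRingCat.of (AlgebraicClosure k)) ⟶ Spec (CommRingCat.of k) :=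
    Spec.map (CommRingCat.ofHom (algebraMap k (AlgebraicClosure k)))
  haveI : Surjective p := ⟨fun _ => ⟨IsLocalRing.closedPoint _, Subsingleton.elim _ _⟩⟩
  haveI : Smooth (Red.bc p J).hom := MorphismProperty.pullback_snd (P := @Smooth) _ _ hs
  haveI : GeometricallyIntegral (Red.bc p J).hom := MorphismProperty.pullback_snd (P := @GeometricallyIntegral) _ _ hgi
  exact PicTheta.Bar.comp_eq_inv_of_comp_eq_inv p
    (PicTheta.dim_eq_genus (PicTheta.Bar.dim_CK p hdim) (PicTheta.Bar.jacK p D)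
      ((CurveOmega.genus_bar k C).trans hg) hg1) hJt lam fd h

end Groth.Agent.S17826
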