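import Groth.Statements.S17827
import Groth.Agent.PicTheta.Poincare
-- import your own Groth.Agent.* helpers here

set_option autoImplicit false
set_option backward.isDefEq.respectTransparency false
set_option backward.isDefEq.respectTransparency.types false
set_option maxHeartbeats 1000000
universe u
open CategoryTheory CategoryTheory.Limits AlgebraicGeometry MonoidalCategory CartesianMonoidalCategory MonObj
open JacVar
open Groth.Agent.W7Cube (pull pull_pull pull_cls)

attribute [local instance] Groth.Agent.W7Cube.law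

namespace Groth.Agent.S17827

/-- Let k be an algebraically closed field, C a smooth proper connected curve of genus g ≥ 1 over k with
a k-point P, (J, ψ) its Jacobian (a commutative group scheme over k, coarse moduli scheme on all
k-schemes for degree-0 line bundles modulo twisting from the base, group law induced by tensor
product) with universal family M on C × J normalised along P × J and classified by the identity of
J, and j : C ⟶ J the Abel map with base point P. Let Θ = W^{g−1} ⊂ J be the image of the (g −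
1)-fold product of C under (x_i) ↦ Π j(x_i), Θ⁻ its image under inversion, L(Θ⁻) an invertible
module on J inverse to the ideal of the reduced closed subscheme Θ⁻, and Λ an invertible module on J
× J with Λ ⊗ pr₁^* L(Θ⁻) ⊗ pr₂^* L(Θ⁻) ≅ m^* L(Θ⁻), m the group law (the sheaf m^*L(Θ⁻) ⊗
pr₁^*L(Θ⁻)⁻¹ ⊗ pr₂^*L(Θ⁻)⁻¹). Then the pullback of Λ along j × (−1) : C × J ⟶ J × J is isomorphic to
M. -/
theorem result (k : Type u) [Field k] [IsAlgClosed k]
    (C : Scheme.{u}) [C.Over (Spec (CommRingCat.of k))]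
    [IsProper (C ↘ Spec (CommRingCat.of k))] [Smooth (C ↘ Spec (CommRingCat.of k))] [GeometricallyConnected (C ↘ Spec (CommRingCat.of k))]
    (hdim : topologicalKrullDim ↥C = 1)
    (g : ℕ) (hg : Curv2.genus k C = g) (hg1 : 1 ≤ g)
    (σ : Spec (CommRingCat.of k) ⟶ C) (hσ : σ ≫ (C ↘ Spec (CommRingCat.of k)) = 𝟙 _)
    (J : Over (Spec (CommRingCat.of k))) [GrpObj J] [IsCommMonObj J]
    (ψ : (ModFun.PicDeg (C ↘ Spec (CommRingCat.of k)) 0).Hom ⊤ J) (hJ : Jac.IsJacobian (C ↘ Spec (CommRingCat.of k)) ⊤ J ψ)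
    (j : Over.mk (C ↘ Spec (CommRingCat.of k)) ⟶ J) (hj : Jac.IsAbelJacobiAt (C ↘ Spec (CommRingCat.of k)) σ ψ j)
    (Pu : (PicF.XT (C ↘ Spec (CommRingCat.of k)) J).Modules) (hPu : ModFun.IsUnivFamily ⊤ (ModFun.PicDeg (C ↘ Spec (CommRingCat.of k)) 0) J Pu)
    (hPn : Jac.IsNormAlong (C ↘ Spec (CommRingCat.of k)) σ hσ J Pu)
    (hT : (⊤ : ObjectProperty (Over (Spec (CommRingCat.of k)))) J) (hPuψ : ψ.app J Pu hT hPu.1 = 𝟙 J)
    (LΘm : J.left.Modules) (hLΘm : PicF.IsInvertible LΘm)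
    (hLΘmI : ClSub.IsInverseOf LΘm (ClSub.idealMod (Scheme.IdealSheafData.vanishingIdeal
      ⟨closure (((𝟙 J)⁻¹).left.base '' Set.range ((List.ofFn fun i : Fin (g - 1) =>
        (Over.homMk (WidePullback.π (fun (_ : Fin (g - 1)) => (C ↘ Spec (CommRingCat.of k))) i)
          (WidePullback.π_arrow (fun (_ : Fin (g - 1)) => (C ↘ Spec (CommRingCat.of k))) i) : Over.mk (WidePullback.base fun (_ : Fin (g - 1)) => (C ↘ Spec (CommRingCat.of k))) ⟶ Over.mk (C ↘ Spec (CommRingCat.of k))) ≫ j).prod).left.base), isClosed_closure⟩)))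
    (Λ : (PicF.XT J.hom J).Modules) (hΛ : PicF.IsInvertible Λ)
    (hΛL : AgPol.IsLambdaSheaf (μ[J].left : PicF.XT J.hom J ⟶ J.left) (fst J J).left (snd J J).left LΘm Λ) :
    Nonempty ((Scheme.Modules.pullback (PicF.XTmap (C ↘ Spec (CommRingCat.of k)) ((𝟙 J)⁻¹) ≫ AbDual.bcMap j J)).obj Λ ≅ Pu) := by
  haveI := ClosedRep.GeomIntegral.geometricallyIntegral_of_smooth (C ↘ Spec (CommRingCat.of k))
  haveI : IsIntegral C := GeometricallyIntegral.isIntegral_of_subsingleton (C ↘ Spec (CommRingCat.of k))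
  haveI := AlgEquivCurve.smoothOfRelativeDimension_one (C ↘ Spec (CommRingCat.of k)) hdim
  let f := C ↘ Spec (CommRingCat.of k)
  obtain ⟨ξ, hp, hs, hgi, h1, h0, hc, hmul, hψ⟩ :=
    PicCurve.exists_jacobian_class f hdim σ hσ (by omega) J ψ hJ
  haveI := hs
  haveI := hgi
  let DJ : PicCurve.JacData (⟨σ, hσ⟩ : {τ : Spec (CommRingCat.of k) ⟶ C // τ ≫ f = 𝟙 _}) J j :=
    ⟨ξ, hp, h1, h0, hc, hmul, PicCurve.abel_class f hdim σ hσ J ψ ξ hψ j hj⟩
  have hPi : PicF.IsInvertible Pu := ZeroSch.isInvertible_of_rankOne hPu.1.1.2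
  have hξ := PicCurve.univ_class_eq f hdim σ hσ J ψ ξ hψ Pu hPu.1 hPi hPn hPuψ
  have hW : IsClosed (Set.range (PicCurve.sumMap j (g - 1)).left.base) :=
    PicCurve.symSet_one (j := j) (g - 1) ▸ DJ.isClosed_symSet (g - 1) 1
  have hWe := PicTheta.isEffCartier_theta hdim DJ hg hg1 hW
  let i : J.left ⟶ J.left := ((𝟙 J)⁻¹).left
  have hii : i ≫ i = 𝟙 J.left := congrArg CommaMorphism.left PicCurve.inv_inv_hom
  haveI : IsIso i := ⟨i, hii, hii⟩
  set Ia := Scheme.IdealSheafData.vanishingIdeal (X := J.left)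
    ⟨i ⁻¹' Set.range (PicCurve.sumMap j (g - 1)).left.base, hW.preimage i.continuous⟩ with hIa
  have hIeq : (Scheme.IdealSheafData.vanishingIdeal (X := J.left) ⟨_, hW⟩).comap i = Ia :=
    PicTheta.vanishingIdeal_comap_iso i hW
  have hIae : BlowUp.IsEffCartierIdeal Ia := hIeq ▸ BlowUpLib.cartier_comap_flat hWe i
  have hL' : ClSub.IsInverseOf LΘm (ClSub.idealMod Ia) := by
    refine (congrArg (fun Z => ClSub.IsInverseOf LΘm (ClSub.idealMod (Scheme.IdealSheafData.vanishingIdeal Z)))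
      (TopologicalSpace.Closeds.ext ?_)).mp hLΘmI
    show closure (((𝟙 J)⁻¹).left.base '' Set.range (PicCurve.sumMap j (g - 1)).left.base) = _
    rw [(PicCurve.isClosed_inv_image hW).closure_eq]
    ext z
    exact ⟨fun ⟨y, hy, hyz⟩ => by
        show i z ∈ Set.range (PicCurve.sumMap j (g - 1)).left.base
        rw [← hyz]
        show i (i y) ∈ Set.range (PicCurve.sumMap j (g - 1)).left.base
        rw [← Scheme.Hom.comp_apply, hii]
        exact hy,
      fun hz => ⟨i z, hz, by show i (i z) = z; rw [← Scheme.Hom.comp_apply, hii]; rfl⟩⟩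
  have hL : PicGrp.cls LΘm hLΘm = pull i (PicCurve.divCl _ hWe) := by
    rw [PicCurve.cls_eq_divCl hLΘm hIae hL', PicCurve.pull_divCl i hWe (by rw [hIeq]; exact hIae)]
    exact PicCurve.divCl_congr hIeq.symm _ _
  have hΛc : PicGrp.cls Λ hΛ = PicTheta.lamCl (PicGrp.cls LΘm hLΘm) := by
    let pp : PicF.XT J.hom J ⟶ J.left := pullback.fst J.hom J.hom
    let qq : PicF.XT J.hom J ⟶ J.left := pullback.snd J.hom J.hom
    have hi1 := PicLoc.isInvertible_pullback pp hLΘm
    have hi2 := PicLoc.isInvertible_pullback qq hLΘm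
    have h := (PicGrp.cls_eq_cls_iff (TMul.isInvertible_tensorMod (TMul.isInvertible_tensorMod hΛ hi1) hi2)
      (PicLoc.isInvertible_pullback (PicTheta.muL J) hLΘm)).2 hΛL
    rw [show PicGrp.cls _ (TMul.isInvertible_tensorMod (TMul.isInvertible_tensorMod hΛ hi1) hi2) =
      PicGrp.cls Λ hΛ * PicGrp.cls _ hi1 * PicGrp.cls _ hi2 from rfl, ← pull_cls pp LΘm hLΘm,
      ← pull_cls qq LΘm hLΘm, ← pull_cls (PicTheta.muL J) LΘm hLΘm] at h
    rw [PicTheta.lamCl, ← h]
    show PicGrp.cls Λ hΛ = PicGrp.cls Λ hΛ * pull pp _ * pull qq _ * (pull pp _)⁻¹ * (pull qq _)⁻¹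
    rw [mul_right_comm _ (pull qq (PicGrp.cls LΘm hLΘm)), mul_inv_cancel_right, mul_inv_cancel_right]
  have key := PicTheta.pull_lamCl_eq hdim DJ (PicGrp.cls LΘm hLΘm) fun d => by
    rw [hL]
    exact PicTheta.pull_transl_inv_theta hdim DJ hg hg1 hW hWe d
  rw [← hΛc, pull_cls, show DJ.ξ = ξ from rfl, hξ] at key
  exact (PicGrp.cls_eq_cls_iff _ _).1 key

end Groth.Agent.S17827
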