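import Groth.Statements.S17828
import Groth.Agent.Torelli.Descent
-- import your own Groth.Agent.* helpers here

set_option autoImplicit false
set_option backward.isDefEq.respectTransparency false
set_option backward.isDefEq.respectTransparency.types false
set_option maxHeartbeats 3200000
set_option synthInstance.maxHeartbeats 200000
universe u
open CategoryTheory CategoryTheory.Limits AlgebraicGeometry MonoidalCategory CartesianMonoidalCategory MonObj
open JacVar
open scoped Pointwise
open Groth.Agent.W7Cube (pull pull_pull pull_cls)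
open Groth.Agent.PicCurve Groth.Agent.SubGen Groth.Agent.Torelli Groth.Agent.PicTheta.Bar

attribute [local instance] Groth.Agent.W7Cube.law

namespace Groth.Agent.S17828

/-- The case of curves with rational points. Let k be a perfect field, C and C' smooth proper
geometrically connected curves of the same genus g ≥ 2 over k with k-rational points P and P', (J,
ψ) and (J', ψ') their Jacobians (commutative group schemes over k, coarse moduli schemes on all
k-schemes for degree-0 line bundles modulo twisting from the base, group law induced by tensor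
product), N and N' invertible modules of degree g − 1 on C and C', and Θ ⊂ J, Θ' ⊂ J' the theta loci
of N and N' (closures of the loci of classes ξ with a nonzero global section of ξ ⊗ N, resp. ξ ⊗
N'). If β : J ≅ J' is an isomorphism of group schemes over k mapping Θ onto the translate of Θ' by a
k-rational point of J' — for curves with rational points this is an isomorphism of the canonically
polarized Jacobians over k — then C and C' are isomorphic over k. (The published corollary does not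
assume rational points on C and C'; it is stated here for curves having them, through which the
theta divisors are defined over k.) -/
theorem result (k : Type u) [Field k] [PerfectField k]
    (C : Scheme.{u}) [C.Over (Spec (CommRingCat.of k))]
    [IsProper (C ↘ Spec (CommRingCat.of k))] [Smooth (C ↘ Spec (CommRingCat.of k))] [GeometricallyConnected (C ↘ Spec (CommRingCat.of k))]
    (hdim : topologicalKrullDim ↥C = 1)
    (C' : Scheme.{u}) [C'.Over (Spec (CommRingCat.of k))]
    [IsProper (C' ↘ Spec (CommRingCat.of k))] [Smooth (C' ↘ Spec (CommRingCat.of k))] [GeometricallyConnected (C' ↘ Spec (CommRingCat.of k))]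
    (hdim' : topologicalKrullDim ↥C' = 1)
    (g : ℕ) (hg : Curv2.genus k C = g) (hg' : Curv2.genus k C' = g) (hg2 : 2 ≤ g)
    (σ : Spec (CommRingCat.of k) ⟶ C) (hσ : σ ≫ (C ↘ Spec (CommRingCat.of k)) = 𝟙 _) (σ' : Spec (CommRingCat.of k) ⟶ C') (hσ' : σ' ≫ (C' ↘ Spec (CommRingCat.of k)) = 𝟙 _)
    (J : Over (Spec (CommRingCat.of k))) [GrpObj J] [IsCommMonObj J]
    (ψ : (ModFun.PicDeg (C ↘ Spec (CommRingCat.of k)) 0).Hom ⊤ J) (hJ : Jac.IsJacobian (C ↘ Spec (CommRingCat.of k)) ⊤ J ψ)
    (J' : Over (Spec (CommRingCat.of k))) [GrpObj J'] [IsCommMonObj J']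
    (ψ' : (ModFun.PicDeg (C' ↘ Spec (CommRingCat.of k)) 0).Hom ⊤ J') (hJ' : Jac.IsJacobian (C' ↘ Spec (CommRingCat.of k)) ⊤ J' ψ')
    (N : C.Modules) (hN : PicF.IsInvertible N) (hNdeg : Curv2.deg k C N 1 = (g : ℤ) - 1)
    (N' : C'.Modules) (hN' : PicF.IsInvertible N') (hNdeg' : Curv2.deg k C' N' 1 = (g : ℤ) - 1)
    (β : J ≅ J') [IsMonHom β.hom] (c₀ : 𝟙_ (Over (Spec (CommRingCat.of k))) ⟶ J')
    (hβ : β.hom.left.base '' Jac.thetaLocus (C ↘ Spec (CommRingCat.of k)) 0 ψ N =
      (Jac.transl J' c₀).left.base ⁻¹' Jac.thetaLocus (C' ↘ Spec (CommRingCat.of k)) 0 ψ' N') :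
    ∃ α : C ≅ C', α.hom ≫ (C' ↘ Spec (CommRingCat.of k)) = (C ↘ Spec (CommRingCat.of k)) := by
  haveI := ClosedRep.GeomIntegral.geometricallyIntegral_of_smooth (C ↘ Spec (CommRingCat.of k))
  haveI : IsIntegral C := GeometricallyIntegral.isIntegral_of_subsingleton (C ↘ Spec (CommRingCat.of k))
  haveI := AlgEquivCurve.smoothOfRelativeDimension_one (C ↘ Spec (CommRingCat.of k)) hdim
  haveI := ClosedRep.GeomIntegral.geometricallyIntegral_of_smooth (C' ↘ Spec (CommRingCat.of k))
  haveI : IsIntegral C' := GeometricallyIntegral.isIntegral_of_subsingleton (C' ↘ Spec (CommRingCat.of k))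
  haveI := AlgEquivCurve.smoothOfRelativeDimension_one (C' ↘ Spec (CommRingCat.of k)) hdim'
  let f := C ↘ Spec (CommRingCat.of k)
  let f' := C' ↘ Spec (CommRingCat.of k)
  obtain ⟨ξ, hp, hs, hgi, h1, h0, hc, hmul, hψ⟩ := PicCurve.exists_jacobian_class f hdim σ hσ (by omega) J ψ hJ
  obtain ⟨ξ', hp', hs', hgi', h1', h0', hc', hmul', hψ'⟩ :=
    PicCurve.exists_jacobian_class f' hdim' σ' hσ' (by omega) J' ψ' hJ'
  haveI := hp
  haveI := hs
  haveI := hgi
  haveI := hp'
  haveI := hs'
  haveI := hgi'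
  obtain ⟨j, hj⟩ := Torelli.exists_abel hdim ⟨σ, hσ⟩ hc
  obtain ⟨j', hj'⟩ := Torelli.exists_abel hdim' ⟨σ', hσ'⟩ hc'
  let D : PicCurve.JacData (⟨σ, hσ⟩ : {τ : Spec (CommRingCat.of k) ⟶ C // τ ≫ f = 𝟙 _}) J j :=
    ⟨ξ, hp, h1, h0, hc, hmul, hj⟩
  let D' : PicCurve.JacData (⟨σ', hσ'⟩ : {τ : Spec (CommRingCat.of k) ⟶ C' // τ ≫ f' = 𝟙 _}) J' j' :=
    ⟨ξ', hp', h1', h0', hc', hmul', hj'⟩
  let D₁ := D.mapIso β
  set j₁ := j ≫ β.hom with hj₁
  haveI hcl' : IsClosedImmersion j'.left := Torelli.isClosedImmersion_jacData hdim' (by omega) D'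
  haveI hcl₁ : IsClosedImmersion j₁.left := Torelli.isClosedImmersion_jacData hdim (by omega) D₁
  -- over the algebraic closure
  let p := Torelli.pBar k
  let P' := Red.bc p J'
  haveI : Smooth P'.hom := MorphismProperty.pullback_snd (P := @Smooth) _ _ hs'
  haveI : GeometricallyIntegral P'.hom := MorphismProperty.pullback_snd (P := @GeometricallyIntegral) _ _ hgi'
  let DK := jacK p D₁
  let DK' := jacK p D'
  have hgK : Curv2.genus (AlgebraicClosure k) (CK C p) = g := (CurveOmega.genus_bar k C).trans hg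
  have hgK' : Curv2.genus (AlgebraicClosure k) (CK C' p) = g := (CurveOmega.genus_bar k C').trans hg'
  have hdK := dim_CK p hdim
  have hdK' := dim_CK p hdim'
  haveI := isProper_CK (C := C) p
  haveI := isProper_CK (C := C') p
  haveI := smooth1_CK (C := C) p
  haveI := smooth1_CK (C := C') p
  haveI := smooth_CK (C := C) p
  haveI := smooth_CK (C := C') p
  haveI := geomConn_CK (C := C) p
  haveI := geomConn_CK (C := C') p
  haveI := geomIrr_CK (C := C) p
  haveI := geomIrr_CK (C := C') p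
  haveI := isIntegral_CK (C := C) p
  haveI := isIntegral_CK (C := C') p
  obtain ⟨A, hA⟩ := Torelli.exists_weil hdK DK hgK (by omega)
    (Torelli.isClosedImmersion_jacData hdK (by omega) DK)
  obtain ⟨B, hB⟩ := Torelli.exists_weil hdK' DK' hgK' (by omega)
    (Torelli.isClosedImmersion_jacData hdK' (by omega) DK')
  -- the theta loci
  obtain ⟨a, ha⟩ := exists_shift D hdim hN (g - 1) (by rw [hNdeg]; omega)
  obtain ⟨a', ha'⟩ := exists_shift D' hdim' hN' (g - 1) (by rw [hNdeg']; omega)
  rw [thetaLocus_eq_range D hdim (g - 1) a ha ψ hψ hN rfl,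
    thetaLocus_eq_range D' hdim' (g - 1) a' ha' ψ' hψ' hN' rfl] at hβ
  have hrange : Set.range (qMap j₁ (g - 1) (a ≫ β.hom)).left =
      Set.range (qMap j' (g - 1) (a' * c₀⁻¹)).left := by
    rw [← Torelli.qMap_comp, Over.comp_left, show (⇑((qMap j (g - 1) a).left ≫ β.hom.left)) =
      β.hom.left ∘ (qMap j (g - 1) a).left from rfl, Set.range_comp]
    refine hβ.trans ?_
    have e : qMap j' (g - 1) (a' * c₀⁻¹) = qMap j' (g - 1) a' ≫ Jac.transl J' c₀⁻¹ := by
      rw [qMap, qMap, Category.assoc, Torelli.transl_comp']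
    have e1 : Jac.transl J' c₀⁻¹ ≫ Jac.transl J' c₀ = 𝟙 J' := by
      rw [Torelli.transl_comp', inv_mul_cancel, Torelli.transl_one']
    have e2 : Jac.transl J' c₀ ≫ Jac.transl J' c₀⁻¹ = 𝟙 J' := by
      rw [Torelli.transl_comp', mul_inv_cancel, Torelli.transl_one']
    ext z
    constructor
    · rintro ⟨w, hw⟩
      refine ⟨w, ?_⟩
      rw [e, Over.comp_left, Scheme.Hom.comp_apply]
      refine (congrArg _ hw).trans ?_
      show (Jac.transl J' c₀⁻¹).left ((Jac.transl J' c₀).left z) = z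
      rw [← Scheme.Hom.comp_apply, ← Over.comp_left, e2]
      rfl
    · rintro ⟨w, rfl⟩
      refine ⟨w, ?_⟩
      show _ = (Jac.transl J' c₀).left _
      rw [e]
      show (qMap j' (g - 1) a').left w = ((qMap j' (g - 1) a' ≫ Jac.transl J' c₀⁻¹) ≫ Jac.transl J' c₀).left w
      rw [Category.assoc, e1, Category.comp_id]
  have heq : B.W (g - 1) = ((ptK p (a' * c₀⁻¹))⁻¹ * ptK p (a ≫ β.hom)) • A.W (g - 1) := by
    rw [hA, hB, mul_smul, eq_inv_smul_iff, Torelli.smul_pts_eq, Torelli.smul_pts_eq, hrange]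
  obtain ⟨cK, hcK⟩ := Torelli.Weil.eq_smul_of_eq A B Torelli.isClosedFamily hg2 _ heq
  -- the sets of points with values in the closure
  let S : Set (Over.mk p ⟶ J') :=
    {v | v.left (IsLocalRing.closedPoint (AlgebraicClosure k) : (Over.mk p).left) ∈ Set.range j₁.left}
  let S' : Set (Over.mk p ⟶ J') :=
    {v | v.left (IsLocalRing.closedPoint (AlgebraicClosure k) : (Over.mk p).left) ∈ Set.range j'.left}
  let cV := Torelli.toV p cK
  obtain ⟨s, hs1, hS⟩ : ∃ s : ℤ, (s = 1 ∨ s = -1) ∧ ∀ v, v ∈ S' ↔ (v * cV⁻¹) ^ s ∈ S := by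
    have hmem : ∀ v, (v ∈ S' ↔ xOf p v ∈ B.W 1) ∧ (v ∈ S ↔ xOf p v ∈ A.W 1) := fun v => by
      rw [hA, hB]
      exact ⟨(Torelli.xOf_mem_range_one p j' v).symm, (Torelli.xOf_mem_range_one p j₁ v).symm⟩
    have hcv : ∀ v, xOf p (v * cV⁻¹) = xOf p v * cK⁻¹ := fun v => by
      show (Torelli.ptEquiv p).symm _ = _
      rw [map_mul, map_inv]
      exact congrArg (fun q => _ * q⁻¹) (Torelli.xOf_toV p cK)
    rcases hcK with h | h
    · refine ⟨1, Or.inl rfl, fun v => ?_⟩
      rw [zpow_one, (hmem v).1, (hmem _).2, hcv, h, Set.mem_smul_set_iff_inv_smul_mem, smul_eq_mul, mul_comm]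
    · refine ⟨-1, Or.inr rfl, fun v => ?_⟩
      rw [zpow_neg_one, (hmem v).1, (hmem _).2, show xOf p (v * cV⁻¹)⁻¹ = (xOf p (v * cV⁻¹))⁻¹ from
        map_inv (Torelli.ptEquiv p).symm _, hcv, h, Set.mem_smul_set_iff_inv_smul_mem, smul_eq_mul, Set.mem_inv,
        mul_comm]
  have hss : ∀ w : Over.mk p ⟶ J', (w ^ s) ^ s = w := fun w => by
    rcases hs1 with rfl | rfl <;> simp
  -- the translation is invariant
  have hfix : ∀ τ, Torelli.galHom τ ≫ cV = cV := fun τ => by
    let gam : (Over.mk p ⟶ J') →* (Over.mk p ⟶ J') :=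
      MonoidHom.mk' (fun v => Torelli.galHom τ ≫ v) (MonObj.comp_mul _)
    have hgamS : ∀ v, (gam v ∈ S ↔ v ∈ S) ∧ (gam v ∈ S' ↔ v ∈ S') := fun v => by
      show (_ ∈ _ ↔ _ ∈ _) ∧ (_ ∈ _ ↔ _ ∈ _)
      exact ⟨iff_of_eq (congrArg (· ∈ Set.range j₁.left) (Torelli.gal_pt τ v)),
        iff_of_eq (congrArg (· ∈ Set.range j'.left) (Torelli.gal_pt τ v))⟩
    have hsurj : ∀ u, ∃ v, gam v = u := fun u => ⟨Torelli.galHom τ.symm ≫ u, by
      show Torelli.galHom τ ≫ Torelli.galHom τ.symm ≫ u = u
      rw [← Category.assoc, show Torelli.galHom τ ≫ Torelli.galHom τ.symm = 𝟙 _ from Over.OverMorphism.ext (by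
        show Spec.map _ ≫ Spec.map _ = 𝟙 _
        rw [← Spec.map_comp, ← Spec.map_id]
        congr 1
        ext x
        exact τ.apply_symm_apply x), Category.id_comp]⟩
    have key : ∀ y, y ∈ S ↔ (gam cV * cV⁻¹) ^ s * y ∈ S := fun y => by
      obtain ⟨v, hv⟩ := hsurj (gam cV * y ^ s)
      have h1 : (gam cV * y ^ s) ∈ S' ↔ y ∈ S := by
        rw [← hv, (hgamS v).2, hS, ← (hgamS _).1, map_zpow, map_mul, map_inv, hv, mul_right_comm, mul_inv_cancel,
          _root_.one_mul, hss]
      rw [← h1, hS, mul_right_comm, mul_zpow, hss]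
    have hd : xOf p ((gam cV * cV⁻¹) ^ s) = 1 := by
      set d := xOf p ((gam cV * cV⁻¹) ^ s) with hddef
      have hsub : symSet (abelB f p j₁) 1 d ⊆ symSet (abelB f p j₁) (1 + 0) 1 := by
        refine subset_of_rpt (DK.isClosed_symSet _ _) (DK.isClosed_symSet _ _) fun x hx => ?_
        rw [← mem_pts, Torelli.pts_symSet, Set.mem_smul_set_iff_inv_smul_mem, smul_eq_mul] at hx
        rw [← mem_pts, Torelli.pts_symSet, one_smul]
        have h2 := (Torelli.xOf_mem_range_one p j₁ (Torelli.toV p (d⁻¹ * x))).1 (by rwa [Torelli.xOf_toV])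
        have h3 := (key (Torelli.toV p (d⁻¹ * x))).1 h2
        have h4 := (Torelli.xOf_mem_range_one p j₁ _).2 h3
        rwa [Torelli.xOf_mul, Torelli.xOf_toV, ← hddef, mul_inv_cancel_left] at h4
      have h5 := (DK.symSet_subset_iff hdK hgK 1 0 (by omega) d 1).1 hsub
      rw [← mem_pts, Torelli.pts_symSet, one_smul, ← hA, A.zero] at h5
      exact h5
    have h6 : (gam cV * cV⁻¹) ^ s = 1 := by
      rw [← Torelli.toV_xOf p ((gam cV * cV⁻¹) ^ s), hd]
      exact map_one (Torelli.ptEquiv p)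
    have h7 := hss (gam cV * cV⁻¹)
    rw [h6, one_zpow, eq_comm, mul_inv_eq_one] at h7
    exact h7
  obtain ⟨c, hc₂⟩ := Torelli.exists_descend cV hfix
  -- the signed translate over the field
  let r : J' ⟶ J' := (𝟙 J') ^ s * (toUnit J' ≫ c)
  let r' : J' ⟶ J' := (𝟙 J' * (toUnit J' ≫ c⁻¹)) ^ s
  have hunit : ∀ {T U : Over (Spec (CommRingCat.of k))} (q : T ⟶ U), q ≫ toUnit U = toUnit T := fun q =>
    toUnit_unique _ _
  have hr : ∀ {T : Over (Spec (CommRingCat.of k))} (q : T ⟶ J'), q ≫ r = q ^ s * (toUnit T ≫ c) := fun q => by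
    rw [MonObj.comp_mul, GrpObj.comp_zpow, Category.comp_id, ← Category.assoc, hunit]
  have hr' : ∀ {T : Over (Spec (CommRingCat.of k))} (q : T ⟶ J'), q ≫ r' = (q * (toUnit T ≫ c)⁻¹) ^ s := fun q => by
    rw [GrpObj.comp_zpow, MonObj.comp_mul, Category.comp_id, ← Category.assoc, hunit, GrpObj.comp_inv]
  have hss' : ∀ w : J' ⟶ J', (w ^ s) ^ s = w := fun w => by
    rcases hs1 with rfl | rfl <;> simp
  have hrr : r ≫ r' = 𝟙 J' := by
    rw [hr', show r * (toUnit J' ≫ c)⁻¹ = (𝟙 J') ^ s from mul_inv_cancel_right _ _, hss']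
  have hrr' : r' ≫ r = 𝟙 J' := by
    rw [hr, hss', GrpObj.comp_inv, inv_mul_cancel_right]
  haveI : IsIso r.left := ⟨r'.left, congrArg CommaMorphism.left hrr, congrArg CommaMorphism.left hrr'⟩
  let h := j₁ ≫ r
  haveI : IsClosedImmersion h.left := by rw [Over.comp_left]; infer_instance
  have hv : ∀ v : Over.mk p ⟶ J', v.left (IsLocalRing.closedPoint (AlgebraicClosure k) : (Over.mk p).left) ∈
      Set.range h.left ↔ v ∈ S' := fun v => by
    rw [hS, ← hc₂, ← hr']
    show _ ↔ r'.left (v.left (IsLocalRing.closedPoint (AlgebraicClosure k) : (Over.mk p).left)) ∈ Set.range j₁.left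
    constructor
    · rintro ⟨w, hw⟩
      refine ⟨w, ?_⟩
      rw [← hw]
      show j₁.left w = r'.left ((j₁ ≫ r).left w)
      rw [← Scheme.Hom.comp_apply, ← Over.comp_left, Category.assoc, hrr, Category.comp_id]
    · rintro ⟨w, hw⟩
      refine ⟨w, ?_⟩
      show (j₁ ≫ r).left w = _
      rw [Over.comp_left, Scheme.Hom.comp_apply, hw, ← Scheme.Hom.comp_apply r'.left, ← Over.comp_left, hrr']
      rfl
  haveI : Surjective p := ⟨fun _ => ⟨IsLocalRing.closedPoint _, Subsingleton.elim _ _⟩⟩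
  haveI : Surjective (pullback.fst J'.hom p) := MorphismProperty.pullback_fst (P := @Surjective) _ _ ‹_›
  have hranges : Set.range h.left = Set.range j'.left := by
    refine (pullback.fst J'.hom p).surjective.preimage_injective ?_
    refine eq_of_rpt (Y := P') (h.left.isClosedEmbedding.isClosed_range.preimage (pullback.fst J'.hom p).continuous)
      (j'.left.isClosedEmbedding.isClosed_range.preimage (pullback.fst J'.hom p).continuous) fun x => ?_
    rw [← Torelli.xOf_toV p x]
    exact ((Torelli.mem_pts_preimage p (Z := Set.range h.left) _).trans (hv _)).trans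
      (Torelli.mem_pts_preimage p (Z := Set.range j'.left) _).symm
  haveI : IsReduced (Over.mk f).left := inferInstanceAs (IsReduced C)
  haveI : IsReduced (Over.mk f').left := inferInstanceAs (IsReduced C')
  obtain ⟨α, hα⟩ := GrpField.SchImg.exists_iso_of_range_eq h.left j'.left hranges
  refine ⟨α, ?_⟩
  rw [show (C' ↘ Spec (CommRingCat.of k)) = j'.left ≫ J'.hom from (Over.w j').symm, ← Category.assoc, hα]
  exact Over.w h

end Groth.Agent.S17828
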