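import Groth.Statements.S17833
import Mathlib
import Groth.Agent.PtsDense.Basic

set_option autoImplicit false
universe u
open CategoryTheory MonoidalCategory CartesianMonoidalCategory MonObj GrpObj AlgebraicGeometry
open AlgGrp

namespace Groth.Agent.S17833

theorem exists_pt {S : Scheme.{u}} {T A : Over S} [IsIso T.hom] (y : T ⟶ A) :
    ∃ a : 𝟙_ (Over S) ⟶ A, toUnit T ≫ a = y :=
  ⟨Over.homMk (inv T.hom ≫ y.left) (by simp), by ext; simp⟩

theorem inv_mul_cancel_left_aux {M : Type*} [Group M] (b : M) : b⁻¹ * b = 1 := inv_mul_cancel b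

/-- A morphism from a connected proper scheme to an affine scheme over a field has one-point image. -/
theorem range_subsingleton {k : Type u} [Field k] {X Y : Scheme.{u}} (f : X ⟶ Spec (CommRingCat.of k)) [IsProper f]
    [ConnectedSpace X] (e : X ⟶ Y) [IsProper e] (g : Y ⟶ Spec (CommRingCat.of k)) [IsAffine Y] [LocallyOfFiniteType g]
    (h : e ≫ g = f) : (Set.range e).Subsingleton := by
  let Z := e.image
  haveI : IsAffine Z := isAffine_of_isAffineHom e.imageι
  haveI : Surjective e.toImage := ⟨Set.range_eq_univ.mp (by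
    have h1 : IsClosed (Set.range e.toImage) := by
      haveI : IsProper (e.toImage ≫ e.imageι) := by rw [e.toImage_imageι]; infer_instance
      haveI : IsProper e.toImage := IsProper.of_comp e.toImage e.imageι
      exact e.toImage.isClosedMap.isClosed_range
    exact h1.closure_eq.symm.trans e.toImage.denseRange.closure_eq)⟩
  haveI : UniversallyClosed (e.toImage ≫ e.imageι ≫ g) := by
    rw [← Category.assoc, e.toImage_imageι, h]; infer_instance
  haveI : UniversallyClosed (e.imageι ≫ g) := UniversallyClosed.of_comp_surjective e.toImage _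
  haveI : IsSeparated (e.imageι ≫ g) := inferInstance
  haveI : IsProper (e.imageι ≫ g) := ⟨⟩
  haveI : IsFinite (e.imageι ≫ g) := IsFinite.iff_isProper_and_isAffineHom.mpr ⟨inferInstance, inferInstance⟩
  haveI : Finite Z := by
    rw [← Set.finite_univ_iff]
    exact ((e.imageι ≫ g).finite_preimage_singleton (IsLocalRing.closedPoint k)).subset
      (fun z _ => Subsingleton.elim (α := PrimeSpectrum k) _ _)
  haveI : JacobsonSpace Z := LocallyOfFiniteType.jacobsonSpace (e.imageι ≫ g)
  haveI : ConnectedSpace Z := e.toImage.surjective.connectedSpace e.toImage.continuous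
  haveI : Subsingleton Z := PreconnectedSpace.trivial_of_discrete
  rintro _ ⟨a, rfl⟩ _ ⟨b, rfl⟩
  rw [← e.toImage_imageι]
  show e.imageι (e.toImage a) = e.imageι (e.toImage b)
  rw [Subsingleton.elim (e.toImage a) (e.toImage b)]

/-- Over an algebraically closed field k, let G be a connected smooth k-group scheme of finite type (in
the terminology of the notes, a smooth connected algebraic group), and H an affine normal subgroup
scheme of G such that the quotient G/H is an abelian variety: here j : H → G is the kernel of a flat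
surjective homomorphism q : G → Q of k-group schemes with Q proper over k, and H is affine. Then an
automorphism u of the algebraic group G which fixes H pointwise (j ∘ u = j) and induces the identity
of Q (q ∘ u = q) is the identity. Equivalently, the map from the group of automorphisms of G fixing
H pointwise to the automorphism group of G/H is injective. -/
theorem result (k : Type u) [Field k] [IsAlgClosed k]
    (G H Q : Over (Spec (CommRingCat.of k))) [GrpObj G] [GrpObj H] [GrpObj Q]
    [Smooth G.hom] [QuasiCompact G.hom] [ConnectedSpace ↥G.left]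
    [IsAffine H.left] [IsProper Q.hom]
    (j : H ⟶ G) [IsMonHom j] (q : G ⟶ Q) [IsMonHom q] [Flat q.left] [Surjective q.left]
    (hker : AlgGrp.IsKernel j q)
    (u : G ≅ G) [IsMonHom u.hom] (hH : j ≫ u.hom = j) (hQ : u.hom ≫ q = q) :
    u.hom = 𝟙 G := by
  haveI : IsSeparated Q.hom := inferInstance
  haveI : LocallyOfFiniteType G.hom := inferInstance
  haveI : Mono j := by
    constructor
    intro Z a b hab
    exact hker.hom_ext hab (toUnit_unique _ _)
  have hP : CategoryTheory.IsPullback j.left H.hom q.left η[Q].left := by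
    have := hker.map (Over.forget _)
    simpa using this
  haveI : IsClosedImmersion η[Q].left :=
    isClosedImmersion_of_comp_eq_id (Y := Spec (CommRingCat.of k)) Q.hom η[Q].left (by simp)
  haveI : IsClosedImmersion j.left := MorphismProperty.of_isPullback hP.flip (inferInstance : IsClosedImmersion η[Q].left)
  haveI : LocallyOfFiniteType H.hom := by rw [← Over.w j]; infer_instance
  haveI : QuasiCompact q.left := by
    haveI : QuasiCompact (q.left ≫ Q.hom) := by rw [Over.w]; infer_instance
    exact QuasiCompact.of_comp q.left Q.hom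
  obtain ⟨d0, hd0⟩ : ∃ d0 : G ⟶ H, d0 ≫ j = u.hom * (𝟙 G)⁻¹ := by
    refine ⟨hker.lift (u.hom * (𝟙 G)⁻¹) (toUnit G) ?_, hker.lift_fst _ _ _⟩
    rw [MonObj.mul_comp, GrpObj.inv_comp, hQ, Category.id_comp]
    exact mul_inv_cancel _
  have hinv : ∀ (T : Over (Spec (CommRingCat.of k))) (a b : T ⟶ G), a ≫ q = b ≫ q → a ≫ d0 = b ≫ d0 := by
    intro T a b hab
    have h1 : (a⁻¹ * b) ≫ q = 1 := by
      rw [MonObj.mul_comp, GrpObj.inv_comp, hab]
      exact inv_mul_cancel _
    obtain ⟨m, hm⟩ : ∃ m : T ⟶ H, m ≫ j = a⁻¹ * b :=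
      ⟨hker.lift _ (toUnit T) h1, hker.lift_fst _ _ _⟩
    have h2 : (a⁻¹ * b) ≫ u.hom = a⁻¹ * b := by
      rw [← hm, Category.assoc, hH]
    rw [MonObj.mul_comp, GrpObj.inv_comp] at h2
    rw [← cancel_mono j, Category.assoc, Category.assoc, hd0, MonObj.comp_mul, MonObj.comp_mul, GrpObj.comp_inv,
      GrpObj.comp_inv, Category.comp_id, Category.comp_id, mul_inv_eq_iff_eq_mul]
    rw [inv_mul_eq_iff_eq_mul] at h2
    rw [h2]
    group
  have hker2 : ∀ {Z : Scheme.{u}} (g₁ g₂ : Z ⟶ G.left), g₁ ≫ q.left = g₂ ≫ q.left → g₁ ≫ d0.left = g₂ ≫ d0.left := by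
    intro Z g₁ g₂ hg
    have hw : g₂ ≫ G.hom = g₁ ≫ G.hom := by
      rw [← Over.w q, ← Category.assoc, ← hg, Category.assoc]
    let a : Over.mk (g₁ ≫ G.hom) ⟶ G := Over.homMk g₁ rfl
    let b : Over.mk (g₁ ≫ G.hom) ⟶ G := Over.homMk g₂ hw
    exact congrArg CommaMorphism.left (hinv _ a b (Over.OverMorphism.ext hg))
  let e : Q.left ⟶ H.left := EffectiveEpi.desc q.left d0.left hker2
  have he : q.left ≫ e = d0.left := EffectiveEpi.fac q.left d0.left hker2
  have heh : e ≫ H.hom = Q.hom := by
    rw [← cancel_epi q.left, ← Category.assoc, he, Over.w, Over.w]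
  haveI : ConnectedSpace ↥Q.left := q.left.surjective.connectedSpace q.left.continuous
  haveI : IsProper e := by
    haveI : IsProper (e ≫ H.hom) := by rw [heh]; infer_instance
    exact IsProper.of_comp e H.hom
  have hsub : (Set.range e).Subsingleton := range_subsingleton Q.hom e H.hom heh
  have hu : u.hom * (𝟙 G)⁻¹ = 1 := by
    refine Groth.Agent.PtsDense.hom_eq_of_points k k (X := G) (G := G) _ _ fun x => ?_
    have hS : (Over.mk (Spec.map (CommRingCat.ofHom (algebraMap k k))) : Over (Spec (CommRingCat.of k))).hom = 𝟙 _ := Spec.map_id _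
    haveI hiso : IsIso (Over.mk (Spec.map (CommRingCat.ofHom (algebraMap k k))) : Over (Spec (CommRingCat.of k))).hom := by
      rw [hS]; infer_instance
    obtain ⟨a, rfl⟩ := exists_pt x
    rw [Category.assoc, Category.assoc]
    congr 1
    have h1 : a ≫ d0 = η[G] ≫ d0 := by
      refine Over.OverMorphism.ext ?_
      rw [Over.comp_left, Over.comp_left, ← he, ← Category.assoc, ← Category.assoc]
      refine ext_of_apply_closedPoint_eq (h := H.hom) ?_ ?_ (hsub ⟨_, rfl⟩ ⟨_, rfl⟩)
      · rw [Category.assoc, Category.assoc, heh, Over.w q]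
        exact Over.w a
      · rw [Category.assoc, Category.assoc, heh, Over.w q]
        exact Over.w η[G]
    rw [← hd0, ← Category.assoc, h1, Category.assoc, hd0, MonObj.comp_mul, GrpObj.comp_inv, Category.comp_id,
      IsMonHom.one_hom (f := u.hom), MonObj.comp_one]
    exact (mul_inv_cancel _).trans rfl
  exact mul_inv_eq_one.mp hu

end Groth.Agent.S17833
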