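import Groth.Statements.S17839
import Groth.Agent.Catenary.Formula
import Groth.Agent.Catenary.CM
import Groth.Agent.DimFormula.Equidim
import Groth.Agent.DimFormula.ResTrdeg

set_option autoImplicit false
universe u
open CategoryTheory AlgebraicGeometry
open Cyc

namespace Groth.Agent.S17839

open Groth.Agent Groth.Agent.DimFormula Groth.Agent.Unibranch Groth.Agent.EquidimPt in
theorem genLE_add {Y : Scheme.{u}} [IsLocallyNoetherian Y] {a b : Y} (hab : a ⤳ b)
    (hb : LocCoh.IsCohenMacaulayLocalRing (Y.presheaf.stalk b)) {A B c : ℕ}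
    (hA : ringKrullDim (Y.presheaf.stalk a) = (A : WithBot ℕ∞)) (hB : ringKrullDim (Y.presheaf.stalk b) = (B : WithBot ℕ∞))
    (hc : GenLE a b c) (hc' : HasGen a b c) : B = c + A := by
  obtain ⟨P, rfl⟩ := exists_fromSpecStalk_eq hab
  obtain ⟨hAle, ζ, -, -, hge⟩ := (ringKrullDim_stalk_eq_iff _).mp hA
  obtain ⟨hBle, -⟩ := (ringKrullDim_stalk_eq_iff b).mp hB
  refine le_antisymm ?_ ?_
  · have h := Groth.Agent.Catenary.height_add_dim P.asIdeal
    have h1 : ringKrullDim (Y.presheaf.stalk b ⧸ P.asIdeal) ≤ (c : WithBot ℕ∞) := by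
      refine iSup_le fun l => ?_
      obtain ⟨n, hn, hn'⟩ := (natCast_le_ringKrullDim_quotient_iff b P (k := l.length)).mp
        (Order.LTSeries.length_le_krullDim l)
      exact_mod_cast hn.trans (hc.le_of_hasGen hn')
    have h2 : P.asIdeal.height ≤ (A : ℕ∞) := by
      rw [P.height_eq_orderHeight]
      refine Order.height_le fun l hl => ?_
      have hsp := fromSpecStalk_le_iff (X := Y) b
      exact_mod_cast hAle l.length (fun i => Y.fromSpecStalk b (l i))
        (fun i => ⟨(hsp _ _).mp (l.step i).le, fun e =>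
          (show l i.castSucc < l i.succ from l.step i).ne ((Y.fromSpecStalk b).isEmbedding.injective e)⟩)
        (congrArg (Y.fromSpecStalk b) hl)
    have h3 := (h.symm.le.trans (add_le_add h1 (WithBot.coe_le_coe.mpr h2)))
    rw [hB] at h3
    exact_mod_cast h3
  · obtain ⟨n, hn, g, hg, -, hgl⟩ := hge.trans hc'
    have := hBle n g hg hgl
    omega

/-- Let S be a locally Noetherian scheme all of whose local rings are regular and universally catenary,
and δS : S → ℤ the function with δS(s) = −dim O_{S,s}. Let f : X ⟶ S be locally of finite type and δ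
: X → ℤ the induced function, δ(x) = δS(f x) + trdeg_{κ(f x)} κ(x) — the S-dimension: for X
irreducible with generic point ξ, δ(ξ) is the transcendence degree of the function field of X over
κ(f ξ) minus dim O_{S, f ξ}. Then δ is a dimension function on X: it drops strictly along every
nontrivial specialization and by exactly one along immediate ones; equivalently, for irreducible
closed subsets V ⊆ W of X with generic points v and w, codim(V, W) = δ(w) − δ(v). (The published
statement fixes S Noetherian, excellent, regular and separated and X separated of finite type over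
S; its proof uses only the hypotheses listed.) -/
theorem result {X S : Scheme.{u}} (f : X ⟶ S)
    [LocallyOfFiniteType f] [IsLocallyNoetherian S]
    (hreg : ∀ s : S, IsRegularLocalRing (S.presheaf.stalk s))
    (huc : ∀ s : S, CAlg.IsUniversallyCatenary (S.presheaf.stalk s))
    (δS : S → ℤ) (hδS : ∀ s : S, ringKrullDim (S.presheaf.stalk s) = ((-δS s).toNat : WithBot ℕ∞) ∧ δS s ≤ 0)
    (δ : X → ℤ) (hδ : Cyc.DeltaCompat f δ δS) :
    Cyc.IsDimFun X δ := by
  haveI : IsLocallyNoetherian X := LocallyOfFiniteType.isLocallyNoetherian f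
  intro x y hxy hne
  obtain ⟨ex, hex, hexle, hexge⟩ := Groth.Agent.DimFormula.exists_trdeg_eq f x
  obtain ⟨dy, hdy, hdyle, hdyge⟩ := Groth.Agent.DimFormula.exists_trdeg_eq f y
  obtain ⟨a, hale, hage⟩ := Groth.Agent.DimFormula.exists_genLE_hasGen hxy
  obtain ⟨c, hcle, hcge⟩ := Groth.Agent.DimFormula.exists_genLE_hasGen (hxy.map f.continuous)
  obtain ⟨nx, hnx, hδx⟩ := hδ x
  obtain ⟨ny, hny, hδy⟩ := hδ y
  have hnx' : nx = ex := by exact_mod_cast hnx.symm.trans hex
  have hny' : ny = dy := by exact_mod_cast hny.symm.trans hdy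
  haveI := hreg (f y)
  have hC := genLE_add (hxy.map f.continuous)
    (Groth.Agent.CMFlat.isCohenMacaulayLocalRing_of_isRegularLocalRing _)
    (hδS (f x)).1 (hδS (f y)).1 hcle hcge
  have h1 := Groth.Agent.DimFormula.dimension_inequality f hxy hage hcle hdyge hexle
  have h2 := Groth.Agent.Catenary.dimension_formula f hxy (huc (f y)) hale hcge hdyle hexge
  have hx0 := (hδS (f x)).2
  have hy0 := (hδS (f y)).2
  have ha1 : 1 ≤ a := hale.le_of_hasGen ⟨![x, y], fun i => by fin_cases i; exact ⟨hxy, hne⟩, specializes_rfl, rfl⟩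
  refine ⟨by rw [hδx, hδy]; omega, fun him => ?_⟩
  have ha : a ≤ 1 := by
    by_contra hcon
    obtain ⟨g, hg, hg0, hgl⟩ := hage.anti (k := 2) (by omega)
    have e2 : g 1 ⤳ y := (hg 1).1.trans (specializes_of_eq hgl)
    rcases him (g 1) (hg0.trans (hg 0).1) e2 with h | h
    · exact (hg 0).2 ((((hg 0).1.trans (specializes_of_eq h)).antisymm hg0).eq.trans h.symm)
    · exact (hg 1).2 (h.trans hgl.symm)
  rw [hδx, hδy]
  omega

end Groth.Agent.S17839
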