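import Groth.Statements.S17843


set_option autoImplicit false
universe u v
open CAlg

namespace Groth.Agent.S17843

/-- In the case of an affine scheme of finite presentation, let B be a finitely presented R-algebra, r ∈
R, and x : B → R[1/r][T] an R-algebra homomorphism whose value at T = 0, a homomorphism B → R[1/r],
is induced by a homomorphism x̃₀ : B → R. Then for every large enough n, the homomorphism x(rⁿT) : B
→ R[1/r][T] is induced by a homomorphism x̃ : B → R[T] whose value at T = 0 is x̃₀. The published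
statement is for algebraic spaces locally of finite presentation over R; this row takes an affine
scheme of finite presentation. -/
theorem result
    (R : Type u) (B : Type v) [CommRing R] [CommRing B] [Algebra R B]
    [Algebra.FinitePresentation R B] (r : R)
    (x : B →ₐ[R] Polynomial (Localization.Away r))
    (x₀ : B →ₐ[R] R)
    (hx₀ : (algebraMap R (Localization.Away r)).comp x₀.toRingHom =
      (Polynomial.evalRingHom 0).comp x.toRingHom) :
    ∃ N : ℕ, ∀ n : ℕ, N ≤ n →
      ∃ y : B →ₐ[R] Polynomial R,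
        (Polynomial.evalRingHom 0).comp y.toRingHom = x₀.toRingHom ∧
        (Polynomial.mapRingHom (algebraMap R (Localization.Away r))).comp y.toRingHom =
          (Polynomial.aeval (Polynomial.C (algebraMap R (Localization.Away r) (r ^ n)) * Polynomial.X) :
              Polynomial (Localization.Away r) →ₐ[Localization.Away r] Polynomial (Localization.Away r)).toRingHom.comp
            x.toRingHom := by
  classical
  obtain ⟨g, f, hf, hker⟩ := Algebra.FinitePresentation.out (R := R) (A := B)
  obtain ⟨F, hF⟩ := hker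
  let ρ : R →+* Localization.Away r := algebraMap R _
  -- lifts of the scaled images of the generators
  have hlift : ∀ p : Polynomial (Localization.Away r), ∀ a : R, ρ a = p.coeff 0 → ∃ N : ℕ,
      ∃ q : Polynomial R, q.coeff 0 = a ∧
        q.map ρ = p.comp (Polynomial.C (ρ (r ^ N)) * Polynomial.X) := by
    intro p a ha
    have hc : ∀ j, ∃ N, ∀ M, N ≤ M → ∃ c, ρ c = p.coeff j * ρ (r ^ M) := fun j => by
      obtain ⟨N, c, hc⟩ := IsLocalization.Away.surj r (p.coeff j)
      exact ⟨N, fun M hM => ⟨c * r ^ (M - N), by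
        rw [map_mul, ← hc, mul_assoc, ← map_pow, ← map_mul, ← pow_add, Nat.add_sub_cancel' hM]⟩⟩
    choose N hN using hc
    refine ⟨(Finset.range (p.natDegree + 1)).sup N, ?_⟩
    set M := (Finset.range (p.natDegree + 1)).sup N
    have hco : ∀ j, j ≠ 0 → ∃ c, ρ c = p.coeff j * ρ (r ^ M) ^ j ∧ (p.natDegree < j → c = 0) := fun j hj => by
      by_cases hjd : p.natDegree < j
      · exact ⟨0, by rw [map_zero, Polynomial.coeff_eq_zero_of_natDegree_lt hjd, zero_mul], fun _ => rfl⟩
      · obtain ⟨c, hc⟩ := hN j (M * j) ((Finset.le_sup (Finset.mem_range.2 (by omega))).trans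
          (Nat.le_mul_of_pos_right M (Nat.pos_of_ne_zero hj)))
        exact ⟨c, by rw [hc, ← map_pow ρ, ← pow_mul], fun h => absurd h hjd⟩
    let c : ℕ → R := fun j => if hj : j = 0 then a else (hco j hj).choose
    refine ⟨∑ j ∈ Finset.range (p.natDegree + 1), Polynomial.monomial j (c j), ?_, ?_⟩
    · simp [Polynomial.coeff_monomial, c]
    · ext j
      rw [Polynomial.coeff_map, Polynomial.comp_C_mul_X_coeff, Polynomial.finsetSum_coeff]
      simp only [Polynomial.coeff_monomial, Finset.sum_ite_eq', Finset.mem_range]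
      by_cases hj : j = 0
      · subst hj; simp [c, ha]
      · by_cases hjd : p.natDegree < j
        · rw [if_neg (by omega), map_zero, Polynomial.coeff_eq_zero_of_natDegree_lt hjd, zero_mul]
        · rw [if_pos (by omega)]
          simp only [c, dif_neg hj]
          exact (hco j hj).choose_spec.1
  have h0 : ∀ b, ρ (x₀ b) = (x b).coeff 0 := fun b => by
    rw [Polynomial.coeff_zero_eq_eval_zero]
    exact RingHom.congr_fun hx₀ b
  choose N₀ q hq0 hq using fun i => hlift (x (f (MvPolynomial.X i))) (x₀ (f (MvPolynomial.X i))) (h0 _)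
  set N₁ := Finset.univ.sup N₀ with hN₁
  let sc : R → Polynomial R →ₐ[R] Polynomial R := fun a => Polynomial.aeval (Polynomial.C a * Polynomial.X)
  let scL : R → Polynomial (Localization.Away r) →ₐ[Localization.Away r] Polynomial (Localization.Away r) :=
    fun a => Polynomial.aeval (Polynomial.C (ρ a) * Polynomial.X)
  have hsc : ∀ a p, (sc a p).map ρ = scL a (p.map ρ) := fun a p => by
    simp only [sc, scL, ← Polynomial.comp_eq_aeval, Polynomial.map_comp, Polynomial.map_mul,
      Polynomial.map_C, Polynomial.map_X]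
  have hscc : ∀ a b p, scL a (scL b p) = scL (a * b) p := fun a b p => by
    simp only [scL, ← Polynomial.comp_eq_aeval, Polynomial.comp_assoc, Polynomial.mul_comp,
      Polynomial.C_comp, Polynomial.X_comp, map_mul]
    ring_nf
  have hsc0 : ∀ a p, (sc a p).coeff 0 = p.coeff 0 := fun a p => by
    simp only [sc, ← Polynomial.comp_eq_aeval, Polynomial.comp_C_mul_X_coeff, pow_zero, mul_one]
  let Q : Fin g → Polynomial R := fun i => sc (r ^ (N₁ - N₀ i)) (q i)
  have hQ0 : ∀ i, (Q i).coeff 0 = x₀ (f (MvPolynomial.X i)) := fun i => (hsc0 _ _).trans (hq0 i)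
  have hQ : ∀ i, (Q i).map ρ = scL (r ^ N₁) (x (f (MvPolynomial.X i))) := fun i => by
    rw [hsc, hq i, show (x (f (MvPolynomial.X i))).comp (Polynomial.C (ρ (r ^ N₀ i)) * Polynomial.X) =
        scL (r ^ N₀ i) (x (f (MvPolynomial.X i))) from Polynomial.comp_eq_aeval, hscc,
      ← pow_add, Nat.sub_add_cancel (hN₁ ▸ Finset.le_sup (Finset.mem_univ i))]
  let Ψ : MvPolynomial (Fin g) R →ₐ[R] Polynomial R := MvPolynomial.aeval Q
  have hΨ : ∀ P, (Ψ P).map ρ = scL (r ^ N₁) (x (f P)) := fun P => by
    have e : (Polynomial.mapRingHom ρ).comp Ψ.toRingHom =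
        (scL (r ^ N₁)).toRingHom.comp (x.comp f).toRingHom := MvPolynomial.ringHom_ext
      (fun a => by
        show (Ψ (MvPolynomial.C a)).map ρ = scL (r ^ N₁) (x (f (MvPolynomial.C a)))
        rw [show MvPolynomial.C a = algebraMap R (MvPolynomial (Fin g) R) a from rfl, Ψ.commutes,
          f.commutes, x.commutes, Polynomial.algebraMap_apply, Polynomial.algebraMap_apply,
          Polynomial.map_C]
        simp [scL, ρ])
      (fun i => by
        show (Ψ (MvPolynomial.X i)).map ρ = _
        rw [MvPolynomial.aeval_X, hQ]; rfl)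
    exact RingHom.congr_fun e P
  have hΨ0 : ∀ P, (Ψ P).coeff 0 = x₀ (f P) := fun P => by
    have e : Polynomial.constantCoeff.comp Ψ.toRingHom = (x₀.comp f).toRingHom :=
      MvPolynomial.ringHom_ext
      (fun a => by
        show (Ψ (MvPolynomial.C a)).coeff 0 = x₀ (f (MvPolynomial.C a))
        rw [show MvPolynomial.C a = algebraMap R (MvPolynomial (Fin g) R) a from rfl, Ψ.commutes,
          f.commutes, x₀.commutes, Polynomial.algebraMap_apply, Polynomial.coeff_C_zero])
      (fun i => by
        show (Ψ (MvPolynomial.X i)).coeff 0 = _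
        rw [MvPolynomial.aeval_X, hQ0]; rfl)
    exact RingHom.congr_fun e P
  have hkill : ∀ P ∈ F, ∃ e, ∀ n, e ≤ n → sc (r ^ n) (Ψ P) = 0 := by
    intro P hP
    have hfP : f P = 0 := (hF ▸ Ideal.subset_span hP : P ∈ RingHom.ker f.toRingHom)
    have hz : ∀ j, ∃ e, ∀ n, e ≤ n → r ^ n * (Ψ P).coeff j = 0 := fun j => by
      have hh : ρ ((Ψ P).coeff j) = ρ 0 := by
        rw [← Polynomial.coeff_map, hΨ, hfP]; simp
      obtain ⟨⟨_, e, rfl⟩, he⟩ := (IsLocalization.eq_iff_exists (Submonoid.powers r) _).1 hh
      refine ⟨e, fun n hn => ?_⟩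
      rw [mul_zero] at he
      rw [← Nat.sub_add_cancel hn, pow_add, mul_assoc, he, mul_zero]
    choose e he using hz
    refine ⟨(Finset.range ((Ψ P).natDegree + 1)).sup e, fun n hn => ?_⟩
    ext j
    simp only [sc, ← Polynomial.comp_eq_aeval, Polynomial.comp_C_mul_X_coeff, Polynomial.coeff_zero]
    by_cases hj : j = 0
    · subst hj; rw [hΨ0, hfP, map_zero, zero_mul]
    by_cases hjd : (Ψ P).natDegree < j
    · rw [Polynomial.coeff_eq_zero_of_natDegree_lt hjd, zero_mul]
    · rw [← pow_mul, mul_comm]
      exact he j _ (((Finset.le_sup (Finset.mem_range.2 (by omega))).trans hn).trans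
        (Nat.le_mul_of_pos_right n (Nat.pos_of_ne_zero hj)))
  choose e he using hkill
  set E := F.attach.sup fun P => e P.1 P.2 with hE
  refine ⟨N₁ + E, fun n hn => ?_⟩
  let φ := (sc (r ^ (n - N₁))).comp Ψ
  have hφ : ∀ P ∈ RingHom.ker f, φ P = 0 := fun P hP => by
    have hle : RingHom.ker f ≤ RingHom.ker φ := by
      rw [show RingHom.ker f = Ideal.span (F : Set (MvPolynomial (Fin g) R)) from hF.symm,
        Ideal.span_le]
      intro P hP
      refine he P hP _ ?_
      have h1 := Finset.le_sup (f := fun P : {z // z ∈ F} => e P.1 P.2) (Finset.mem_attach F ⟨P, hP⟩)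
      simp only [← hE] at h1
      omega
    exact hle hP
  let y : B →ₐ[R] Polynomial R :=
    (Ideal.Quotient.liftₐ (RingHom.ker f) φ hφ).comp (Ideal.quotientKerAlgEquivOfSurjective hf).symm.toAlgHom
  have hy : ∀ P, y (f P) = φ P := fun P => by
    show Ideal.Quotient.liftₐ (RingHom.ker f) φ hφ ((Ideal.quotientKerAlgEquivOfSurjective hf).symm (f P)) = _
    rw [show f P = Ideal.quotientKerAlgEquivOfSurjective hf (Ideal.Quotient.mk _ P) from rfl,
      AlgEquiv.symm_apply_apply]
    rfl
  refine ⟨y, RingHom.ext fun b => ?_, RingHom.ext fun b => ?_⟩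
  · obtain ⟨P, rfl⟩ := hf b
    show Polynomial.eval 0 (y (f P)) = x₀ (f P)
    rw [← Polynomial.coeff_zero_eq_eval_zero, hy, ← hΨ0]
    exact hsc0 _ _
  · obtain ⟨P, rfl⟩ := hf b
    show (y (f P)).map ρ = scL (r ^ n) (x (f P))
    rw [hy]
    show (sc (r ^ (n - N₁)) (Ψ P)).map ρ = _
    rw [hsc, hΨ, hscc, ← pow_add, Nat.sub_add_cancel (by omega)]

end Groth.Agent.S17843
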