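import Groth.Statements.S17847
import Groth.Agent.MTExt.CentralIsog

set_option autoImplicit false
open CategoryTheory CategoryTheory.Limits MonoidalCategory CartesianMonoidalCategory MonObj GrpObj AlgebraicGeometry
universe u
open Red

open CategoryTheory.Limits
set_option backward.isDefEq.respectTransparency false
set_option synthInstance.maxHeartbeats 400000
set_option maxHeartbeats 1000000

namespace Groth.Agent.S17847

/-- Suppose G' and G are reductive S-group schemes and f : G' → G is a central isogeny between them,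
meaning a homomorphism that is finite, flat and surjective with central kernel (every point of G'
killed by f commutes with every point of G'). Then the centre of G' is the preimage of the centre of
G: a point x of G' with values in an S-scheme T is central (commutes with all points of G' with
values in T-schemes) if and only if f(x) is central in G in the same sense. -/
theorem result
    {S : Scheme.{u}} {G' G : Over S} [GrpObj G'] [GrpObj G]
    (hG' : Red.IsReductive G') (hG : Red.IsReductive G) (f : G' ⟶ G) [IsMonHom f]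
    (hfin : IsFinite f.left) (hfl : Flat f.left) (hsurj : Surjective f.left)
    (hcen : ∀ (T : Over S) (k y : T ⟶ G'), k ≫ f = 1 → k * y = y * k)
    (T : Over S) (x : T ⟶ G') :
    (∀ (T' : Over S) (p : T' ⟶ T) (y : T' ⟶ G'), (p ≫ x) * y = y * (p ≫ x)) ↔
      (∀ (T' : Over S) (p : T' ⟶ T) (z : T' ⟶ G), (p ≫ x ≫ f) * z = z * (p ≫ x ≫ f)) := by
  obtain ⟨hfl', hfp, hfq⟩ := MTExt.flat_of_surjective hG' hG f hsurj
  haveI := hG'.1; haveI := hG.1; haveI := hG'.2.1; haveI := hG.2.1
  obtain ⟨K, _, i, hi, -, -, hK⟩ := MTKernel.exists_kernel f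
  obtain ⟨K₀, _, e, hm, hK₀, hker, hcl, -⟩ := MTExt.kernel_central_mt hG' hG f hsurj i hK
    fun s X _ k y => hcen X (k ≫ i) y (by
      rw [Category.assoc, (MTKernel.exists_lift_iff hK i).1 ⟨𝟙 _, Category.id_comp _⟩, MonObj.comp_one])
  haveI := hm
  haveI := hcl
  haveI : Mono (e.hom ≫ i) := Over.mono_of_mono_left _
  refine ⟨fun hx T' q z => ?_, fun hx => ?_⟩
  · obtain ⟨T'', c, z', hc, hz'⟩ := Chev.MultRigid.exists_lift_cover f z
    haveI := hc
    rw [← cancel_epi c, MonObj.comp_mul, MonObj.comp_mul, ← hz']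
    have h2 := hx T'' (c ≫ q) z'
    simp only [← Category.assoc] at h2 ⊢
    rw [← MonObj.mul_comp, ← MonObj.mul_comp, h2]
  -- the preimage of the centre
  obtain ⟨Zg, _, jg, hjg, -, hZg⟩ := S5510.result G hG
  haveI := hjg.1; haveI := hjg.2.1
  let P : Over S := Limits.pullback f jg
  let i' : P ⟶ G' := Limits.pullback.fst f jg
  let p : P ⟶ Zg := Limits.pullback.snd f jg
  haveI : Mono i' := inferInstanceAs (Mono (Limits.pullback.fst f jg))
  have hsq : IsPullback i' p f jg := IsPullback.of_hasPullback f jg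
  obtain ⟨hPg, hi'⟩ := MTBridge.exists_grpObj_of_div i'
    ⟨hsq.lift η[G'] η[Zg] (by rw [IsMonHom.one_hom (f := f), IsMonHom.one_hom (f := jg)]), hsq.lift_fst _ _ _⟩
    (fun X a b => ⟨hsq.lift ((a ≫ i')⁻¹ * (b ≫ i')) ((a ≫ p)⁻¹ * (b ≫ p)) (by
      rw [MonObj.mul_comp, MonObj.mul_comp, GrpObj.inv_comp, GrpObj.inv_comp, Category.assoc, Category.assoc,
        Category.assoc, Category.assoc, hsq.w]), hsq.lift_fst _ _ _⟩)
  haveI := hi'
  have hconn : ∀ s : S, _root_.IsConnected (G'.hom.base ⁻¹' {s}) :=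
    MTImage.isConnected_fibre_of_geom fun s => (hG'.2.2 s).2.2.1
  obtain ⟨-, hP⟩ := S16775.result hG'.2.1 hG'.1 hconn (e.hom ≫ i) hK₀
    (fun X g h => by
      have h2 : h ≫ (e.hom ≫ i) ≫ f = 1 := by
        rw [(MTKernel.exists_lift_iff hker (e.hom ≫ i)).1 ⟨𝟙 _, Category.id_comp _⟩, MonObj.comp_one]
      have h3 := hcen X (h ≫ e.hom ≫ i) g (by rw [Category.assoc, h2])
      exact ⟨h, by rw [← h3, mul_inv_cancel_right]⟩)
    f ⟨hsurj, hfl, hfp, Assoc.kernel_isPullback (e.hom ≫ i) f hker⟩ hker jg hZg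
    (fun X z g => by
      have h2 := (hjg.2.2 X (z ≫ jg)).1 ⟨z, rfl⟩ X (𝟙 X) g
      simpa only [Category.id_comp, Category.comp_id] using h2)
    i' p hsq
  obtain ⟨w, hw⟩ := (hjg.2.2 T (x ≫ f)).2 fun T' q z => by
    rw [Category.comp_id]; exact hx T' q z
  intro T' q y
  have h4 := hP T' (q ≫ hsq.lift x w hw.symm) y
  rwa [Category.assoc, hsq.lift_fst] at h4

end Groth.Agent.S17847
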