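import Groth.Statements.S17856
import Groth.Agent.PiPoints.Chart

set_option autoImplicit false
open CategoryTheory AlgebraicGeometry
universe u
open Algz

namespace Groth.Agent.S17856

/-- Let `X` be a quasi-compact quasi-separated scheme and `A i` an arbitrary family of commutative
rings. Sending a morphism from the spectrum of the product ring to `X` to the family of its
composites with the morphisms `Spec (A i) ⟶ Spec (∏ A i)` induced by the projections is a bijection
onto the set of all families of morphisms `Spec (A i) ⟶ X`. (Both quasi-compactness and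
quasi-separatedness of `X` are needed.) -/
theorem result (X : Scheme.{u}) [CompactSpace X] [QuasiSeparatedSpace X]
    {ι : Type u} (A : ι → CommRingCat.{u}) :
    Function.Bijective (fun f : Spec (CommRingCat.of (∀ i, A i)) ⟶ X =>
      fun i : ι => Spec.map (CommRingCat.ofHom (Pi.evalRingHom (fun j => (A j : Type u)) i)) ≫ f) := by
  refine ⟨pointsPi_injective A X, fun f => ?_⟩
  let φ : ∀ i, CommRingCat.of (∀ i, A i) ⟶ A i := fun i =>
    CommRingCat.ofHom (Pi.evalRingHom (fun j => (A j : Type u)) i)
  let e := (Scheme.ΓSpecIso (CommRingCat.of (∀ i, A i)))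
  have key : ∀ i y, (Scheme.ΓSpecIso (A i)).hom ((Spec.map (φ i)).appTop y) = e.hom y i := fun i y => by
    rw [← CommRingCat.comp_apply, Scheme.ΓSpecIso_naturality]
    rfl
  let P : Groth.Agent.PiPoints.Prod' X :=
    { ι := ι
      S := Spec (CommRingCat.of (∀ i, A i))
      T := fun i => Spec (A i)
      s := fun i => Spec.map (φ i)
      f := f
      inj := fun y z h => e.commRingCatIsoToRingEquiv.injective <| funext fun i => by
        change e.hom y i = e.hom z i
        rw [← key, ← key, h i]
      surj := fun v => ⟨e.inv (fun i => (Scheme.ΓSpecIso (A i)).hom (v i)), fun i =>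
        (Scheme.ΓSpecIso (A i)).commRingCatIsoToRingEquiv.injective <| by
          change (Scheme.ΓSpecIso (A i)).hom _ = (Scheme.ΓSpecIso (A i)).hom _
          rw [key, ← CommRingCat.comp_apply e.inv e.hom, Iso.inv_hom_id]
          rfl⟩ }
  have : ∀ i, IsAffine (P.T i) := fun i => inferInstanceAs (IsAffine (Spec (A i)))
  obtain ⟨F, hF⟩ := Groth.Agent.PiPoints.exists_hom_of_qcqs P
  exact ⟨F, funext hF⟩

end Groth.Agent.S17856
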