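import Groth.Statements.S17859
import Mathlib.LinearAlgebra.Contraction


set_option autoImplicit false
set_option linter.style.haveILetI false

open CategoryTheory MonoidalCategory
universe u
open Algz

namespace Groth.Agent.S17859

open CategoryTheory MonoidalCategory TensorProduct in
theorem main (R : Type u) [CommRing R] (M : ModuleCat.{u} R) [Module.Finite R M] [Module.Projective R M] :
    Nonempty (HasRightDual M) := by
  obtain ⟨n, f, g, -, -, hfg⟩ := Module.Finite.exists_comp_eq_id_of_projective R M
  let m : Fin n → M := fun i => f (Pi.single i 1)
  let φ : Fin n → Module.Dual R M := fun i => (LinearMap.proj i).comp g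
  have key : ∀ x : M, ∑ i, φ i x • m i = x := fun x => by
    conv_rhs => rw [← LinearMap.id_apply (R := R) x, ← hfg, LinearMap.comp_apply, pi_eq_sum_univ' (g x)]
    rw [map_sum]
    simp only [map_smul]
    rfl
  have key' : ∀ ψ : Module.Dual R M, ∑ i, ψ (m i) • φ i = ψ := fun ψ => LinearMap.ext fun x => by
    conv_rhs => rw [← key x]
    simp [map_sum, mul_comm]
  let η : (R →ₗ[R] M ⊗[R] Module.Dual R M) := LinearMap.toSpanSingleton R _ (∑ i, m i ⊗ₜ φ i)
  haveI : ExactPairing M (ModuleCat.of R (Module.Dual R M)) :=
    { coevaluation' := ModuleCat.ofHom η
      evaluation' := ModuleCat.ofHom (contractLeft R M)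
      coevaluation_evaluation' := by
        ext : 1
        apply TensorProduct.ext
        apply LinearMap.ext; intro ψ
        apply LinearMap.ext_ring
        show (contractLeft R M).rTensor (Module.Dual R M)
          ((TensorProduct.assoc R _ _ _).symm (ψ ⊗ₜ (η 1))) = (TensorProduct.lid R _).symm ((TensorProduct.rid R _) (ψ ⊗ₜ (1 : R)))
        simp only [η, LinearMap.toSpanSingleton_apply, one_smul, TensorProduct.tmul_sum, map_sum,
          TensorProduct.assoc_symm_tmul, LinearMap.rTensor_tmul, contractLeft_apply, TensorProduct.rid_tmul,
          TensorProduct.lid_symm_apply]
        conv_rhs => rw [← key' ψ, TensorProduct.tmul_sum]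
        refine Finset.sum_congr rfl fun i _ => ?_
        rw [TensorProduct.tmul_smul, TensorProduct.smul_tmul', smul_eq_mul, mul_one]
      evaluation_coevaluation' := by
        ext : 1
        apply TensorProduct.ext
        apply LinearMap.ext_ring
        apply LinearMap.ext; intro x
        show (contractLeft R M).lTensor M
          ((TensorProduct.assoc R _ _ _) ((η 1) ⊗ₜ x)) = (TensorProduct.rid R _).symm ((TensorProduct.lid R _) ((1 : R) ⊗ₜ x))
        simp only [η, LinearMap.toSpanSingleton_apply, one_smul, TensorProduct.sum_tmul, map_sum,
          TensorProduct.assoc_tmul, LinearMap.lTensor_tmul, contractLeft_apply, TensorProduct.lid_tmul,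
          TensorProduct.rid_symm_apply]
        conv_rhs => rw [← key x, TensorProduct.sum_tmul]
        refine Finset.sum_congr rfl fun i _ => ?_
        rw [TensorProduct.smul_tmul, smul_eq_mul, mul_one] }
  exact ⟨⟨ModuleCat.of R (Module.Dual R M)⟩⟩


/-- Over an affine scheme, that is for modules over a commutative ring `R`, a finitely generated
projective `R`-module `M`, viewed as an object of the monoidal category of `R`-modules (tensor
product over `R`), has a right dual. (The published statement is the equivalence, for quasi-coherent
sheaves on a quasi-compact quasi-separated scheme, between being dualizable and being a vector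
bundle; stated here is the affine case of the implication from vector bundle to dualizable. The
converse implication, that a module admitting a dual is finitely generated projective, is stated
separately and is not repeated here.) -/
theorem result (R : Type u) [CommRing R] (M : ModuleCat.{u} R)
    [Module.Finite R M] [Module.Projective R M] : Nonempty (HasRightDual M) := by
  exact Groth.Agent.S17859.main R M

end Groth.Agent.S17859
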