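import Groth.Statements.S17863
import Mathlib

set_option autoImplicit false
open CategoryTheory AlgebraicGeometry
universe u
open Algz

namespace Groth.Agent.S17863

/-- Let `A` be a commutative ring which is `I`-adically complete for an ideal `I` and let `X` be a
quasi-affine scheme. Then the natural map from `X(A)` to compatible systems in the `X(A/I^n)` is
bijective: two morphisms `Spec A ⟶ X` with the same restriction to every `Spec (A/I^n)` are equal,
and every family of morphisms `Spec (A/I^n) ⟶ X` compatible with the transition maps `Spec (A/I^n) ⟶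
Spec (A/I^(n+1))` is the family of restrictions of a morphism `Spec A ⟶ X`. -/
theorem result (A : Type u) [CommRing A] (I : Ideal A) [IsAdicComplete I A]
    (X : Scheme.{u}) [X.IsQuasiAffine] :
    (∀ f g : Spec (CommRingCat.of A) ⟶ X,
      (∀ n : ℕ, Spec.map (CommRingCat.ofHom (Ideal.Quotient.mk (I ^ n))) ≫ f =
        Spec.map (CommRingCat.ofHom (Ideal.Quotient.mk (I ^ n))) ≫ g) → f = g) ∧
    (∀ e : ∀ n : ℕ, Spec (CommRingCat.of (A ⧸ I ^ n)) ⟶ X,
      (∀ n : ℕ, Spec.map (CommRingCat.ofHom (Ideal.Quotient.factorPowSucc I n)) ≫ e (n + 1) = e n) →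
      ∃ f : Spec (CommRingCat.of A) ⟶ X,
        ∀ n : ℕ, Spec.map (CommRingCat.ofHom (Ideal.Quotient.mk (I ^ n))) ≫ f = e n) := by
  let ι := X.toSpecΓ
  constructor
  · intro f g h
    rw [← cancel_mono ι]
    refine Spec.map_preimage (f ≫ ι) ▸ Spec.map_preimage (g ≫ ι) ▸ congrArg Spec.map ?_
    ext a
    refine IsHausdorff.eq_iff_smodEq (I := I).mpr fun n ↦ ?_
    have e := congrArg (fun m ↦ Spec.preimage (m ≫ ι)) (h n)
    simp only [Category.assoc, Spec.preimage_comp, Spec.preimage_map] at e
    have := congr($e a)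
    rw [smul_eq_mul, Ideal.mul_top, SModEq.def]
    exact this
  · intro e he
    let φ : ∀ n, Γ(X, ⊤) ⟶ CommRingCat.of (A ⧸ I ^ n) := fun n ↦ Spec.preimage (e n ≫ ι)
    have hφ : ∀ n, φ (n + 1) ≫ CommRingCat.ofHom (Ideal.Quotient.factorPowSucc I n) = φ n := fun n ↦ by
      apply Spec.map_injective
      simp only [φ, Spec.map_comp, Spec.map_preimage, ← Category.assoc, he]
    have hc : ∀ {m n : ℕ} (hle : m ≤ n),
        (Ideal.Quotient.factorPow I hle).comp (φ n).hom = (φ m).hom := by
      intro m n hle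
      induction hle with
      | refl => ext x; simp
      | @step n hle ih =>
        rw [← ih, ← congrArg CommRingCat.Hom.hom (hφ n)]
        ext x
        simp [Ideal.Quotient.factorPowSucc, Ideal.Quotient.factorPow]
    let E : A ≃+* AdicCompletion I A := RingEquiv.ofBijective (algebraMap A (AdicCompletion I A))
      (AdicCompletion.of_bijective I A)
    let ψ : Γ(X, ⊤) →+* A := E.symm.toRingHom.comp (AdicCompletion.liftRingHom I (fun n ↦ (φ n).hom) hc)
    have hψ : ∀ n, CommRingCat.ofHom ((Ideal.Quotient.mk (I ^ n)).comp ψ) = φ n := fun n ↦ by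
      ext x
      have h1 := AdicCompletion.evalₐ_liftRingHom I (fun n ↦ (φ n).hom) hc n x
      change Ideal.Quotient.mk (I ^ n) (E.symm (AdicCompletion.liftRingHom I (fun n ↦ (φ n).hom) hc x)) = φ n x
      refine Eq.trans ?_ h1
      conv_rhs => rw [← E.apply_symm_apply (AdicCompletion.liftRingHom I (fun n ↦ (φ n).hom) hc x)]
      exact ((AdicCompletion.evalₐ I n).commutes _).symm
    let f0 := Spec.map (CommRingCat.ofHom ψ)
    have hf0 : ∀ n, Spec.map (CommRingCat.ofHom (Ideal.Quotient.mk (I ^ n))) ≫ f0 = e n ≫ ι :=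
      fun n ↦ by
        rw [← Spec.map_comp, ← CommRingCat.ofHom_comp, hψ, Spec.map_preimage]
    have hr : Set.range f0 ⊆ Set.range ι := by
      rintro _ ⟨p, rfl⟩
      obtain ⟨q, hq, hpq⟩ := Ideal.exists_le_maximal (p : PrimeSpectrum A).asIdeal p.2.ne_top
      let q' : Spec (CommRingCat.of A) := ⟨q, hq.isPrime⟩
      have hIq : I ≤ q := (IsAdicComplete.le_jacobson_bot I).trans (sInf_le ⟨bot_le, hq⟩)
      have hsp : p ⤳ q' := (PrimeSpectrum.le_iff_specializes _ _).mp hpq
      obtain ⟨r, hr⟩ : q' ∈ Set.range (Spec.map (CommRingCat.ofHom (Ideal.Quotient.mk (I ^ 1)))) := by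
        show q' ∈ Set.range (PrimeSpectrum.comap (Ideal.Quotient.mk (I ^ 1)))
        rw [range_comap_of_surjective _ _ Ideal.Quotient.mk_surjective, Ideal.mk_ker,
          pow_one]
        exact hIq
      refine (hsp.map f0.continuous).mem_open ι.isOpenEmbedding.isOpen_range ?_
      rw [← hr]
      exact ⟨e 1 r, congr($(hf0 1) r).symm⟩
    refine ⟨IsOpenImmersion.lift ι f0 hr, fun n ↦ ?_⟩
    rw [← cancel_mono ι, Category.assoc, IsOpenImmersion.lift_fac, hf0]

end Groth.Agent.S17863
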