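import Groth.Statements.S17864
import Mathlib

set_option autoImplicit false
universe u
open Algz

namespace Groth.Agent.S17864

/-- The full-faithfulness assertion. Let `A` be a commutative ring which is `I`-adically complete for an
ideal `I`, and `P`, `Q` finitely generated projective `A`-modules. An `A`-linear map `P → Q` is
determined by its reductions modulo the powers `I^n`, and every family of `A`-linear maps `P/I^n P →
Q/I^n Q` compatible with the transition maps is the family of reductions of an `A`-linear map `P →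
Q`. (The companion assertion, that compatible systems of finite projective modules over the rings
`A/I^n` lift to `A`, is not restated here.) -/
theorem result (A : Type u) [CommRing A] (I : Ideal A)
    [IsAdicComplete I A] (P Q : Type u) [AddCommGroup P] [Module A P] [Module.Finite A P]
    [Module.Projective A P] [AddCommGroup Q] [Module A Q] [Module.Finite A Q] [Module.Projective A Q] :
    (∀ f f' : P →ₗ[A] Q, (∀ n : ℕ, f.reduceModIdeal (I ^ n) = f'.reduceModIdeal (I ^ n)) → f = f') ∧
    (∀ g : ∀ n : ℕ, P ⧸ (I ^ n • ⊤ : Submodule A P) →ₗ[A] Q ⧸ (I ^ n • ⊤ : Submodule A Q),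
      (∀ n : ℕ, AdicCompletion.transitionMap I Q (Nat.le_succ n) ∘ₗ g (n + 1) =
        g n ∘ₗ AdicCompletion.transitionMap I P (Nat.le_succ n)) →
      ∃ f : P →ₗ[A] Q, ∀ n : ℕ, f.reduceModIdeal (I ^ n) = g n) := by
  obtain ⟨k, p, s, -, -, hps⟩ := Module.Finite.exists_comp_eq_id_of_projective A Q
  have hcoord : ∀ (n : ℕ) (q : Q) (j : Fin k), q ∈ (I ^ n • ⊤ : Submodule A Q) →
      s q j ∈ (I ^ n • ⊤ : Submodule A A) := fun n q j hq =>
    Submodule.smul_top_le_comap_smul_top (I ^ n) ((LinearMap.proj j).comp s) hq
  have hmem : ∀ (n : ℕ) (v : Fin k → A), (∀ j, v j ∈ (I ^ n • ⊤ : Submodule A A)) →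
      p v ∈ (I ^ n • ⊤ : Submodule A Q) := fun n v hv => by
    rw [pi_eq_sum_univ v, map_sum]
    refine Submodule.sum_mem _ fun j _ => ?_
    rw [map_smul]
    refine Submodule.smul_mem_smul ?_ Submodule.mem_top
    have := hv j
    rwa [smul_eq_mul, Ideal.mul_top] at this
  constructor
  · intro f f' h
    ext x
    have hzero : s (f x - f' x) = 0 := by
      ext j
      refine IsHausdorff.haus (I := I) (M := A) inferInstance _ fun n => ?_
      rw [SModEq.zero]
      refine hcoord n _ j ?_
      rw [← Submodule.Quotient.eq]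
      exact congr($(h n) (Submodule.Quotient.mk x))
    have := congrArg p hzero
    rw [map_zero, ← LinearMap.comp_apply, hps, LinearMap.id_apply] at this
    exact sub_eq_zero.1 this
  · intro g hg
    let φ : ∀ n, Fin k → (P →ₗ[A] A ⧸ (I ^ n • ⊤ : Submodule A A)) := fun n j =>
      (Submodule.mapQ (I ^ n • ⊤ : Submodule A Q) _ ((LinearMap.proj j).comp s)
        (fun q hq => hcoord n q j hq)) ∘ₗ g n ∘ₗ Submodule.mkQ _
    have key : ∀ {m n : ℕ} (hle : m ≤ n) (x : P),
        AdicCompletion.transitionMap I Q hle (g n (Submodule.Quotient.mk x)) = g m (Submodule.Quotient.mk x) := by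
      intro m n hle x
      induction n, hle using Nat.le_induction with
      | base =>
        obtain ⟨y, hy⟩ := Submodule.Quotient.mk_surjective _ (g m (Submodule.Quotient.mk x))
        rw [← hy]
        rfl
      | succ n hmn ih =>
        have h1 : AdicCompletion.transitionMap I Q (Nat.le_succ n) (g (n+1) (Submodule.Quotient.mk x)) = g n (Submodule.Quotient.mk x) :=
          congr($(hg n) (Submodule.Quotient.mk x))
        rw [← ih, ← h1]
        obtain ⟨y, hy⟩ := Submodule.Quotient.mk_surjective _ (g (n+1) (Submodule.Quotient.mk x))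
        rw [← hy]
        rfl
    have hc : ∀ (j : Fin k) {m n : ℕ} (hle : m ≤ n), Submodule.factorPow I A hle ∘ₗ φ n j = φ m j := by
      intro j m n hle
      refine LinearMap.ext fun x => ?_
      obtain ⟨y, hy⟩ := Submodule.Quotient.mk_surjective _ (g n (Submodule.Quotient.mk x))
      simp only [φ, LinearMap.comp_apply, Submodule.mkQ_apply]
      rw [← key hle x, ← hy]
      rfl
    let F : Fin k → (P →ₗ[A] A) := fun j => IsAdicComplete.lift I (fun n => φ n j) (hc j)
    refine ⟨p ∘ₗ LinearMap.pi F, fun n => LinearMap.ext fun z => ?_⟩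
    obtain ⟨x, rfl⟩ := Submodule.Quotient.mk_surjective _ z
    obtain ⟨q, hq⟩ := Submodule.Quotient.mk_surjective _ (g n (Submodule.Quotient.mk x))
    show (Submodule.Quotient.mk ((p ∘ₗ LinearMap.pi F) x) : Q ⧸ (I ^ n • ⊤ : Submodule A Q)) = g n (Submodule.Quotient.mk x)
    rw [← hq, Submodule.Quotient.eq]
    have h1 : p (LinearMap.pi F x - s q) = p (LinearMap.pi F x) - q := by
      rw [map_sub, ← LinearMap.comp_apply p s, hps]
      rfl
    rw [LinearMap.comp_apply, ← h1]
    refine hmem n _ fun j => ?_
    rw [Pi.sub_apply, ← Submodule.Quotient.eq]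
    have := IsAdicComplete.mk_lift (I := I) (hc j) n x
    rw [LinearMap.pi_apply]
    refine this.trans ?_
    simp only [φ, LinearMap.comp_apply, Submodule.mkQ_apply]
    rw [← hq]
    rfl

end Groth.Agent.S17864
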