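import Groth.Statements.S17868
import Groth.Agent.AffCoverBound.Basic
import Groth.Agent.NisCoverLib.Basic

set_option autoImplicit false
open CategoryTheory AlgebraicGeometry
universe u
open Algz

set_option backward.isDefEq.respectTransparency false

namespace Groth.Agent.S17868

/-- In the case of schemes with an affine source. Let `f : U ⟶ Y` be a Nisnevich cover of length at most
`m'` with `U` affine and `Y` quasi-compact quasi-separated. There is a natural number `m` such that
for every commutative ring `B` and every morphism `g : Spec B ⟶ Y` there exist an affine scheme `V`,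
a Nisnevich cover `v : V ⟶ Spec B` of length at most `m`, and a morphism `w : V ⟶ U` over `Y` (that
is, `w ≫ f = v ≫ g`). (The original form allows `U` to be any quasi-compact quasi-separated
algebraic space; `U` is taken affine here, which makes `f` quasi-affine.) -/
theorem result {U Y : Scheme.{u}} [IsAffine U]
    [CompactSpace Y] [QuasiSeparatedSpace Y] (f : U ⟶ Y) (m' : ℕ)
    (hf : W4c5algebraiztannaka.IsNisCoverLen f m') :
    ∃ m : ℕ, ∀ (B : CommRingCat.{u}) (g : Spec B ⟶ Y),
      ∃ (V : Scheme.{u}) (_ : IsAffine V) (v : V ⟶ Spec B) (w : V ⟶ U),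
        W4c5algebraiztannaka.IsNisCoverLen v m ∧ w ≫ f = v ≫ g := by
  obtain ⟨m, hm⟩ := AffCoverBound.exists_uniform_affine_cover f
  refine ⟨m * m', fun B g => ?_⟩
  obtain ⟨V, hV, hcov⟩ := hm B g
  haveI : QuasiCompact f := by
    haveI : QuasiCompact (f ≫ Limits.terminal.from Y) :=
      (HasAffineProperty.iff_of_isAffine (P := @QuasiCompact)).2 (inferInstance : CompactSpace U)
    exact MorphismProperty.of_postcomp (W := @QuasiCompact) (W' := @QuasiSeparated) f
      (Limits.terminal.from Y) (by infer_instance) this
  haveI : QuasiSeparated f := by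
    haveI : QuasiSeparated (f ≫ Limits.terminal.from Y) := inferInstance
    exact QuasiSeparated.of_comp f (Limits.terminal.from Y)
  haveI : QuasiSeparatedSpace ↥(Limits.pullback f g) :=
    quasiSeparatedSpace_of_quasiSeparated (Limits.pullback.snd f g)
  haveI : ∀ k, IsAffine (V k).toScheme := hV
  exact ⟨∐ fun k => (V k).toScheme, inferInstance,
    Limits.Sigma.desc (fun k => (V k).ι) ≫ Limits.pullback.snd f g,
    Limits.Sigma.desc (fun k => (V k).ι) ≫ Limits.pullback.fst f g,
    NisCoverLib.comp _ _ (NisCoverLib.opens V (fun k => (hV k).isCompact) hcov) (NisCoverLib.baseChange g hf),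
    by simp [Limits.pullback.condition]⟩

end Groth.Agent.S17868
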