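import Groth.Statements.S17870
import Groth.Agent.PerfSize.Main

set_option autoImplicit false
open CategoryTheory
universe u
attribute [local instance] HasDerivedCategory.standard
open Algz

namespace Groth.Agent.S17870

/-- There is a function `F : ℕ → ℕ`, independent of the ring, such that for every commutative ring `R`
and every perfect complex over `R`, given as a bounded complex `E` of finitely generated projective
modules: if `E` locally has size at most `N` (after base change to some Nisnevich cover `Spec B ⟶
Spec R` of length at most `N` it becomes isomorphic in `D(B)` to a complex vanishing outside `[-N,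
N]` whose terms are projective quotients of `B^N`), then it globally has size at most `F N` (it is
isomorphic in `D(R)` to such a complex over `R` with bound `F N`). -/
theorem result :
    ∃ F : ℕ → ℕ, ∀ (R : Type u) [CommRing R] (E : DRing.Cx R) (a b : ℤ),
      DRing.VanishesOutside E a b → DRing.TermwiseFiniteProjective E →
      ∀ N : ℕ, W4c5algebraiztannaka.LocSize E N → W4c5algebraiztannaka.GlobSize R (DRing.toD E) (F N) := by
  refine ⟨fun N => max N (Groth.Agent.PerfSize.bound N (2 * N + 1) N), fun R _ E a b hE hEp N hloc => ?_⟩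
  obtain ⟨B, _, φ, hcov, P, ⟨hPv, hPp⟩, ⟨e⟩⟩ := hloc
  have hP : Groth.Agent.PerfSize.Sized P (-(N : ℤ)) (-(N : ℤ) + ((2 * N + 1 : ℕ) : ℤ) - 1) N := by
    refine ⟨⟨fun i hi => hPv i (by omega), fun i => ?_⟩, fun i => (hPp i).2⟩
    obtain ⟨g, hg⟩ := (hPp i).2
    exact ⟨Module.Finite.of_surjective g hg, (hPp i).1⟩
  obtain ⟨Q, ⟨⟨hQv, hQp⟩, hQg⟩, hQe⟩ :=
    Groth.Agent.PerfSize.main φ hcov (2 * N + 1) N E a b ⟨hE, hEp⟩ (-(N : ℤ)) P hP e.symm
  exact ⟨Q, ⟨fun i hi => hQv i (by
      have := le_max_left N (Groth.Agent.PerfSize.bound N (2 * N + 1) N)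
      dsimp only at hi
      omega), fun i => ⟨(hQp i).2, (hQg i).mono (le_max_right _ _)⟩⟩, hQe⟩

end Groth.Agent.S17870
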