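import Groth.Statements.S17871
import Groth.Agent.ProdFP.Sections
import Groth.Agent.FibDepth.Global
import Groth.Agent.LocFree.Props

set_option autoImplicit false
open CategoryTheory AlgebraicGeometry Opposite
universe u
open Algz

namespace Groth.Agent.S17871

/-- Let `X` be a quasi-compact quasi-separated scheme, `A i` a family of commutative rings indexed by an
arbitrary type together with morphisms `f i : Spec (A i) ⟶ X`, and `F` an `O_X`-module locally of
finite presentation (a finitely presented quasi-coherent sheaf). Then the product over `i` of the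
modules of global sections of the pullbacks `(f i)^* F` is a finitely presented module over the
product of the rings of global sections `Γ(Spec (A i), O)` (that is, over `Π i, A i`). The point is
that the index set may be infinite. -/
theorem result (X : Scheme.{u}) [CompactSpace X] [QuasiSeparatedSpace X]
    {ι : Type u} (A : ι → CommRingCat.{u}) (f : ∀ i, Spec (A i) ⟶ X) (F : X.Modules) (hF : CohB1.IsFP F) :
    Module.FinitePresentation (∀ i, Γ(Spec (A i), ⊤))
      (∀ i, Γ((Scheme.Modules.pullback (f i)).obj F, ⊤)) := by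
  haveI hFq : F.IsQuasicoherent := Groth.Agent.FibDepth.isQCoh_of_isFP hF
  obtain ⟨S, -, hScov⟩ : ∃ S : Finset X.affineOpens, True ∧ ∀ x : X, ∃ U ∈ S, x ∈ U.1 := by
    obtain ⟨S, hS⟩ := isCompact_univ.elim_finite_subcover (fun U : X.affineOpens => (U.1 : Set X))
      (fun U => U.1.2) fun x _ => by
        obtain ⟨U, hU, hx⟩ := Groth.Agent.QC.exists_affine_mem x
        exact Set.mem_iUnion.2 ⟨⟨U, hU⟩, hx⟩
    exact ⟨S, trivial, fun x => by simpa using hS (Set.mem_univ x)⟩
  let K := Fin S.card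
  let U : K → X.affineOpens := fun j => (S.equivFin.symm j).1
  have hb : ∀ j, ∃ n m, Groth.Agent.ProdFP.Bdd Γ(X, (U j).1) Γ(F, (U j).1) n m := fun j => by
    haveI := Groth.Agent.LocFree.finitePresentation_sections_of_isFP hFq hF (U j).2
    exact Groth.Agent.ProdFP.exists_bdd
  choose n m hnm using hb
  let N := ∑ j, n j
  let M := ∑ j, m j + ∑ j, n j
  refine Groth.Agent.ProdFP.finitePresentation_pi _ _ (Fintype.card K * N)
    (Fintype.card K * (Fintype.card K * N + M)) fun i => ?_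
  let T := Spec (A i)
  let E := (Scheme.Modules.pullback (f i)).obj F
  haveI : E.IsQuasicoherent := Groth.Agent.QC.isQCoh_pullback (f i) hFq
  let I : K → Ideal Γ(T, ⊤) := fun j =>
    Ideal.span {c : Γ(T, ⊤) | T.basicOpen c ≤ f i ⁻¹ᵁ (U j).1}
  obtain ⟨a, haV, hsp⟩ : ∃ a : K → Γ(T, ⊤), (∀ j, T.basicOpen (a j) ≤ f i ⁻¹ᵁ (U j).1) ∧
      Ideal.span (Set.range a) = ⊤ := by
    have hI : ⨆ j, I j = ⊤ := by
      rw [← Ideal.span_iUnion]
      refine (isAffineOpen_top T).self_le_iSup_basicOpen_iff.1 fun x _ => ?_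
      obtain ⟨V, hVS, hxV⟩ := hScov (f i x)
      have hx : x ∈ f i ⁻¹ᵁ (U (S.equivFin ⟨V, hVS⟩)).1 := by simpa [U] using hxV
      obtain ⟨c, hc, hxc⟩ := (isAffineOpen_top T).exists_basicOpen_le (V := f i ⁻¹ᵁ (U (S.equivFin ⟨V, hVS⟩)).1) ⟨x, hx⟩ trivial
      exact TopologicalSpace.Opens.mem_iSup.2 ⟨⟨c, Set.mem_iUnion.2 ⟨_, hc⟩⟩, hxc⟩
    have h1 : (1 : Γ(T, ⊤)) ∈ ⨆ j, I j := hI ▸ trivial
    obtain ⟨c, hc, hc1⟩ := (Submodule.mem_iSup_iff_exists_finsupp I 1).1 h1
    refine ⟨fun j => c j, fun j => ?_, (Ideal.eq_top_iff_one _).2 ?_⟩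
    · have hle : I j ≤ (Ideal.span {c : Γ(T, ⊤) | T.basicOpen c ≤ f i ⁻¹ᵁ (U j).1}) := le_rfl
      refine Submodule.span_induction (p := fun c _ => T.basicOpen c ≤ f i ⁻¹ᵁ (U j).1) (fun c hc => hc) ?_ ?_ ?_ (hle (hc j))
      · rw [Scheme.basicOpen_zero]; exact bot_le
      · exact fun x y _ _ hx hy => (Scheme.basicOpen_add_le _ x y).trans (sup_le hx hy)
      · exact fun r x _ hx => (T.basicOpen_mul r x).le.trans (inf_le_right.trans hx)
    · rw [← hc1]
      exact Ideal.sum_mem _ fun j _ => Ideal.subset_span ⟨j, rfl⟩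
  letI alg : ∀ j, Algebra Γ(T, ⊤) Γ(T, T.basicOpen (a j)) := fun j =>
    (Groth.Agent.QC.resO T (T.basicOpen_le (a j))).toAlgebra
  haveI : ∀ j, IsLocalization.Away (a j) Γ(T, T.basicOpen (a j)) := fun j =>
    (isAffineOpen_top T).isLocalization_basicOpen (a j)
  letI md : ∀ j, Module Γ(T, ⊤) Γ(E, T.basicOpen (a j)) := fun j => Module.compHom _ (algebraMap Γ(T, ⊤) Γ(T, T.basicOpen (a j)))
  haveI : ∀ j, IsScalarTower Γ(T, ⊤) Γ(T, T.basicOpen (a j)) Γ(E, T.basicOpen (a j)) := fun j =>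
    IsScalarTower.of_algebraMap_smul fun _ _ => rfl
  let φ : ∀ j, Γ(E, ⊤) →ₗ[Γ(T, ⊤)] Γ(E, T.basicOpen (a j)) := fun j =>
    { toFun := Groth.Agent.QC.res E (T.basicOpen_le (a j))
      map_add' := map_add _
      map_smul' := fun r s => Groth.Agent.QC.res_smul E _ r s }
  haveI : ∀ j, IsLocalizedModule (Submonoid.powers (a j)) (φ j) := fun j => by
    have hl : Groth.Agent.QC.IsLoc E ⊤ := Groth.Agent.QC.isLoc_of_isQCoh (isAffineOpen_top T)
    refine ⟨fun x => ?_, fun t => ?_, fun {s s'} hs => ?_⟩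
    · rw [Module.End.isUnit_iff]
      exact (IsLocalization.map_units Γ(T, T.basicOpen (a j)) x).smul_bijective
    · obtain ⟨k, s, hks⟩ := hl.exists_extend (a j) t
      refine ⟨(s, ⟨a j ^ k, k, rfl⟩), ?_⟩
      show Groth.Agent.QC.resO T (T.basicOpen_le (a j)) (a j ^ k) • t = _
      rw [map_pow]
      exact hks.symm
    · obtain ⟨k, hk⟩ := hl.exists_pow_smul_eq_zero (a j) (s - s') (by rw [map_sub, sub_eq_zero]; exact hs)
      exact ⟨⟨a j ^ k, k, rfl⟩, by
        change a j ^ k • s = a j ^ k • s'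
        rwa [← sub_eq_zero, ← smul_sub]⟩
  refine Groth.Agent.ProdFP.Bdd.of_cover a hsp (fun j => Γ(T, T.basicOpen (a j))) (fun j => Γ(E, T.basicOpen (a j))) φ N M
    fun j => ?_
  obtain ⟨p, hp⟩ := Nat.exists_eq_add_of_le (Finset.single_le_sum (f := n) (fun _ _ => Nat.zero_le _) (Finset.mem_univ j))
  obtain ⟨q, hq⟩ := Nat.exists_eq_add_of_le (show m j + p ≤ M from Nat.add_le_add
    (Finset.single_le_sum (f := m) (fun _ _ => Nat.zero_le _) (Finset.mem_univ j)) (by omega))
  have := (Groth.Agent.ProdFP.bdd_pullback (f i) (U j).2 ((isAffineOpen_top T).basicOpen (a j)) (haV j) (hnm j)).pad p q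
  rw [← hp, ← hq] at this
  exact this

end Groth.Agent.S17871
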