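import Groth.Statements.S5151
import Mathlib
import Groth.Agent.LocH.DepthPrimes
-- import your own Groth.Agent.* helpers here

set_option autoImplicit false
universe u
open LocCoh

namespace Groth.Agent.S5151

/-- Let A be a Noetherian ring, I an ideal and M a finite A-module with IM ≠ M. Every weakly M-regular
sequence of elements of I can be extended to a maximal one (one after which no element of I is
M-regular on the quotient), and any maximal weakly M-regular sequence of elements of I has length
equal to the I-depth of M. (The published statement does not assume IM ≠ M; without it the first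
assertion fails: over ℤ with I = (2) and M = ℤ/3 the element 2 is M-regular with M/2M = 0, after
which every element of I is regular on the zero module, so no weakly M-regular sequence of elements
of I is maximal, while the I-depth is infinite. With IM ≠ M every weakly M-regular sequence in I is
M-regular and the I-depth is finite.) -/
theorem result (A : Type u) [CommRing A] [IsNoetherianRing A] (I : Ideal A) (M : Type u) [AddCommGroup M] [Module A M] [Module.Finite A M] (hIM : I • (⊤ : Submodule A M) ≠ ⊤) : (∀ rs : List A, RingTheory.Sequence.IsWeaklyRegular M rs → (∀ r ∈ rs, r ∈ I) → ∃ rs' : List A, rs <+: rs' ∧ RingTheory.Sequence.IsWeaklyRegular M rs' ∧ (∀ r ∈ rs', r ∈ I) ∧ ∀ r ∈ I, ¬ RingTheory.Sequence.IsWeaklyRegular M (rs' ++ [r])) ∧ (∀ rs : List A, RingTheory.Sequence.IsWeaklyRegular M rs → (∀ r ∈ rs, r ∈ I) → (∀ r ∈ I, ¬ RingTheory.Sequence.IsWeaklyRegular M (rs ++ [r])) → (rs.length : ℕ∞) = LocCoh.idealDepth I M) := by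
  obtain ⟨t, ht⟩ := ENat.ne_top_iff_exists.1 (Groth.Agent.LocH.idealDepth_ne_top hIM)
  have hle : ∀ l : List A, RingTheory.Sequence.IsWeaklyRegular M l → (∀ r ∈ l, r ∈ I) → l.length ≤ t := fun l h1 h2 => by
    have : (l.length : ℕ∞) ≤ LocCoh.idealDepth I M := (Groth.Agent.LocH.le_idealDepth_iff _ _ _).2
      fun i hi => Groth.Agent.LocH.subsingleton_of_isWeaklyRegular I l M h1 h2 i hi
    rw [← ht] at this
    exact_mod_cast this
  have hvan := (Groth.Agent.LocH.le_idealDepth_iff I M t).1 ht.le
  refine ⟨fun rs h1 h2 => ?_, fun rs h1 h2 hmax => ?_⟩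
  · obtain ⟨k, hk⟩ := Nat.le.dest (hle rs h1 h2)
    obtain ⟨rs', hlen, hreg, hmem⟩ := Groth.Agent.LocH.exists_isWeaklyRegular_append I k rs M h1 h2 (hk ▸ hvan)
    refine ⟨rs ++ rs', List.prefix_append _ _, hreg, fun r hr => (List.mem_append.1 hr).elim (h2 r) (hmem r), fun r hr h => ?_⟩
    have := hle _ h (by
      intro z hz
      simp only [List.mem_append, List.mem_singleton] at hz
      rcases hz with (hz | hz) | rfl
      exacts [h2 z hz, hmem z hz, hr])
    simp [hlen] at this
    omega
  · rw [← ht, Nat.cast_inj]
    refine le_antisymm (hle rs h1 h2) ?_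
    by_contra hlt
    obtain ⟨rs', hlen, hreg, hmem⟩ := Groth.Agent.LocH.exists_isWeaklyRegular_append I 1 rs M h1 h2 fun i hi => hvan i (by omega)
    obtain ⟨r, rfl⟩ := List.length_eq_one_iff.1 hlen
    exact hmax r (hmem r (by simp)) hreg

end Groth.Agent.S5151
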