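import Groth.Statements.S17873
import Groth.Agent.S5151
import Mathlib

set_option autoImplicit false
universe u
open GRRSing

namespace Groth.Agent.S17873

/-- Let T be a Cohen–Macaulay Noetherian local ring, J a proper ideal of T, j the grade of J (the
J-depth of T, i.e. the supremum of the lengths of T-regular sequences inside J; a natural number
here) and c the minimal number of generators of J (equal to the dimension of J/𝔪J over the residue
field). Then j ≤ c and there is a generating sequence t_1, …, t_c of J such that t_1, …, t_j is a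
T-regular sequence. (The published statement does not exclude J = T; there c = 1 while the grade,
read as the depth of T, can exceed 1, so this row assumes J proper.) -/
theorem result {T : Type u} [CommRing T] [LocCoh.IsCohenMacaulayLocalRing T]
    (J : Ideal T) (hJ : J ≠ ⊤) (j : ℕ) (hj : LocCoh.idealDepth J T = j) :
    j ≤ Submodule.spanFinrank J ∧
      ∃ ts : List T, ts.length = Submodule.spanFinrank J ∧ Ideal.ofList ts = J ∧
        RingTheory.Sequence.IsRegular T (ts.take j) := by
  classical
  have hJm : J • (⊤ : Submodule T T) ≠ ⊤ := by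
    rw [smul_eq_mul, Ideal.mul_top]; exact hJ
  have hmaxlen : ∀ rs : List T, RingTheory.Sequence.IsWeaklyRegular T rs → (∀ r ∈ rs, r ∈ J) →
      rs.length < j → ∃ r ∈ J, RingTheory.Sequence.IsWeaklyRegular T (rs ++ [r]) := by
    intro rs h1 h2 hlt
    by_contra h
    push Not at h
    have := (Groth.Agent.S5151.result T J T hJm).2 rs h1 h2 h
    rw [hj, Nat.cast_inj] at this
    omega
  -- the induction
  suffices key : ∀ k, k ≤ j → ∃ ts us : List T, ts.length = k ∧
      RingTheory.Sequence.IsWeaklyRegular T ts ∧ Ideal.ofList (ts ++ us) = J ∧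
      ts.length + us.length = Submodule.spanFinrank J by
    obtain ⟨ts, us, hk, hreg, hspan, hlen⟩ := key j le_rfl
    refine ⟨by omega, ts ++ us, by simpa using hlen, hspan, ?_⟩
    rw [List.take_left' hk]
    refine ⟨hreg, fun h => hJ (eq_top_iff.2 ?_)⟩
    rw [h, smul_eq_mul, Ideal.mul_top, ← hspan, Ideal.ofList_append]
    exact le_sup_left
  intro k
  induction k with
  | zero =>
    intro _
    obtain ⟨s, hs, hspan⟩ := Submodule.FG.exists_span_finset_card_eq_spanFinrank (IsNoetherian.noetherian J)
    refine ⟨[], s.toList, rfl, RingTheory.Sequence.IsWeaklyRegular.nil T T, ?_, by simpa using hs⟩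
    rw [← hspan, List.nil_append, Ideal.ofList]
    exact congrArg Ideal.span (Set.ext fun x => by simp)
  | succ k ih =>
    intro hk
    obtain ⟨ts, us, hlen, hreg, hspan, hcard⟩ := ih (by omega)
    have htsJ : Ideal.ofList ts ≤ J := hspan ▸ (Ideal.ofList_append ts us).symm ▸ le_sup_left
    have hmem : ∀ r ∈ ts, r ∈ J := fun r hr => htsJ (Ideal.subset_span hr)
    obtain ⟨r, hrJ, hr⟩ := hmaxlen ts hreg hmem (by omega)
    let Q : Submodule T T := Ideal.ofList ts • ⊤
    have hsingle : ∀ x, RingTheory.Sequence.IsWeaklyRegular T (ts ++ [x]) ↔ IsSMulRegular (T ⧸ Q) x :=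
      fun x => by rw [RingTheory.Sequence.isWeaklyRegular_append_iff,
        RingTheory.Sequence.isWeaklyRegular_singleton_iff]; exact ⟨fun h => h.2, fun h => ⟨hreg, h⟩⟩
    let 𝔪 := IsLocalRing.maximalIdeal T
    let B : Ideal T := 𝔪 * J ⊔ Ideal.ofList ts
    have hzd : ∀ x, ¬ IsSMulRegular (T ⧸ Q) x → x ∈ ⋃ p ∈ associatedPrimes T (T ⧸ Q), (p : Set T) := by
      intro x hx
      rw [biUnion_associatedPrimes_eq_zero_divisors]
      rw [isSMulRegular_iff_right_eq_zero_of_smul] at hx
      push Not at hx
      obtain ⟨m, hm1, hm2⟩ := hx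
      exact ⟨m, hm2, hm1⟩
    have hnot : ¬ (J : Set T) ⊆ ↑B ∪ ⋃ p ∈ associatedPrimes T (T ⧸ Q), (p : Set T) := by
      intro hsub
      let s : Finset (Option (Ideal T)) :=
        insert none ((associatedPrimes.finite T (T ⧸ Q)).toFinset.image some)
      let f : Option (Ideal T) → Ideal T := fun o => o.getD B
      obtain ⟨o, ho, hle⟩ := (Ideal.subset_union_prime (s := s) (f := f) none none (fun o ho hne _ => by
        simp only [s, Finset.mem_insert, Finset.mem_image, Set.Finite.mem_toFinset] at ho
        obtain ⟨p, hp, rfl⟩ := ho.resolve_left hne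
        exact hp.isPrime) (I := J)).1 (fun x hx => by
          rcases hsub hx with hxB | hxP
          · exact Set.mem_biUnion (x := none) (Finset.mem_coe.2 (Finset.mem_insert_self _ _)) hxB
          · obtain ⟨p, hp, hxp⟩ := Set.mem_iUnion₂.1 hxP
            exact Set.mem_biUnion (x := some p) (Finset.mem_coe.2 (Finset.mem_insert_of_mem
              (Finset.mem_image_of_mem _ ((Set.Finite.mem_toFinset _).2 hp)))) hxp)
      simp only [s, Finset.mem_insert, Finset.mem_image, Set.Finite.mem_toFinset] at ho
      rcases ho with rfl | ⟨p, hp, rfl⟩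
      · -- Nakayama
        have hle' : J ≤ Ideal.ofList ts := by
          refine Submodule.le_of_le_smul_of_le_jacobson_bot (R := T) (M := T) (I := 𝔪) (N := Ideal.ofList ts)
            (IsNoetherian.noetherian J) (IsLocalRing.maximalIdeal_le_jacobson _) ?_
          rw [smul_eq_mul, sup_comm]
          exact hle
        have hQ : J ≤ Q := hle'.trans (by simp [Q, Ideal.mul_top])
        have hQtop : Q ≠ ⊤ := fun h => hJ (eq_top_iff.2 (h ▸ (by simpa [Q, Ideal.mul_top] using htsJ)))
        obtain ⟨z, hz⟩ : ∃ z : T ⧸ Q, z ≠ 0 :=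
          ⟨Submodule.Quotient.mk 1, fun h => hQtop ((Ideal.eq_top_iff_one Q).2 ((Submodule.Quotient.mk_eq_zero Q).1 h))⟩
        obtain ⟨z', rfl⟩ := Submodule.Quotient.mk_surjective Q z
        refine hz (((hsingle r).1 hr) (?_ : r • (Submodule.Quotient.mk z' : T ⧸ Q) = r • 0))
        rw [smul_zero, ← Submodule.Quotient.mk_smul, Submodule.Quotient.mk_eq_zero, smul_eq_mul]
        exact Ideal.mul_mem_right _ Q (hQ hrJ)
      · have h1 : r ∈ ⋃ q ∈ associatedPrimes T (T ⧸ Q), (q : Set T) := Set.mem_biUnion hp (hle hrJ)
        rw [biUnion_associatedPrimes_eq_zero_divisors] at h1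
        obtain ⟨z, hz, hrz⟩ := h1
        exact hz ((hsingle r).1 hr (hrz.trans (smul_zero r).symm))
    obtain ⟨x, hxJ, hx⟩ := Set.not_subset.1 hnot
    simp only [Set.mem_union, not_or] at hx
    have hxreg : IsSMulRegular (T ⧸ Q) x := by
      by_contra h
      exact hx.2 (hzd x h)
    -- exchange
    have hx' : x ∈ Ideal.ofList ts ⊔ Ideal.ofList us := by
      rw [← Ideal.ofList_append, hspan]; exact hxJ
    obtain ⟨a, ha, b, hb, rfl⟩ := Submodule.mem_sup.1 hx'
    have hb' : b ∉ 𝔪 * J := fun h => hx.1 (Submodule.mem_sup.2 ⟨b, h, a, ha, add_comm _ _⟩)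
    have husJ : Ideal.ofList us ≤ J := hspan ▸ (Ideal.ofList_append ts us).symm ▸ le_sup_right
    obtain ⟨u, hu, c, hc, b', hb'', hbeq⟩ : ∃ u ∈ us, ∃ c : T, IsUnit c ∧
        ∃ b' ∈ Ideal.ofList (us.erase u), b = c * u + b' := by
      obtain ⟨coef, hcoef⟩ : ∃ coef : T → T, b = ∑ v ∈ us.toFinset, coef v * v := by
        have hb1 : b ∈ Submodule.span T ((us.toFinset : Finset T) : Set T) := by
          rw [Ideal.ofList] at hb
          simpa [List.coe_toFinset] using hb
        obtain ⟨g, -, hg⟩ := Submodule.mem_span_finset.1 hb1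
        exact ⟨g, hg.symm⟩
      obtain ⟨u, hu, hcu⟩ : ∃ u ∈ us.toFinset, IsUnit (coef u) := by
        by_contra h
        push Not at h
        refine hb' (hcoef ▸ Ideal.sum_mem _ fun v hv => ?_)
        exact Ideal.mul_mem_mul (h v hv) (husJ (Ideal.subset_span (List.mem_toFinset.1 hv)))
      refine ⟨u, List.mem_toFinset.1 hu, coef u, hcu, ∑ v ∈ us.toFinset.erase u, coef v * v, ?_, ?_⟩
      · refine Ideal.sum_mem _ fun v hv => Ideal.mul_mem_left _ _ (Ideal.subset_span ?_)
        rw [Finset.mem_erase, List.mem_toFinset] at hv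
        exact (List.mem_erase_of_ne hv.1).2 hv.2
      · rw [Finset.add_sum_erase _ (fun v => coef v * v) hu, hcoef]
    refine ⟨ts ++ [a + b], us.erase u, by simp [hlen], (hsingle _).2 hxreg, ?_, ?_⟩
    · rw [← hspan, List.append_assoc, Ideal.ofList_append, Ideal.ofList_append ts us,
        List.singleton_append, Ideal.ofList_cons]
      have herase : Ideal.ofList us = Ideal.span {u} ⊔ Ideal.ofList (us.erase u) := by
        rw [← Ideal.ofList_cons]
        exact congrArg Ideal.span (Set.ext fun v => (List.perm_cons_erase hu).mem_iff)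
      rw [herase]
      set E := Ideal.ofList (us.erase u)
      refine le_antisymm (sup_le le_sup_left (sup_le ?_ (le_sup_right.trans le_sup_right)))
        (sup_le le_sup_left (sup_le ?_ (le_sup_right.trans le_sup_right)))
      · rw [Ideal.span_le, Set.singleton_subset_iff]
        refine Submodule.mem_sup.2 ⟨a, ha, b, ?_, rfl⟩
        rw [← herase]
        exact hb
      · rw [Ideal.span_le, Set.singleton_subset_iff]
        obtain ⟨c, rfl⟩ := hc
        have hu_eq : u = (↑c⁻¹ : T) * ((a + b) - a - b') := by
          rw [hbeq]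
          linear_combination (-u) * c.inv_mul
        rw [hu_eq]
        refine Ideal.mul_mem_left _ _ (sub_mem (sub_mem ?_ ?_) ?_)
        · exact Submodule.mem_sup_right (Submodule.mem_sup_left (Ideal.mem_span_singleton_self _))
        · exact Submodule.mem_sup_left ha
        · exact Submodule.mem_sup_right (Submodule.mem_sup_right hb'')
    · rw [List.length_append, List.length_singleton, List.length_erase_of_mem hu]
      have := List.length_pos_of_mem hu
      omega

end Groth.Agent.S17873
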