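import Groth.Statements.S17875
import Mathlib.Data.Nat.Choose.Sum
import Mathlib.Tactic.FieldSimp
-- import your own Groth.Agent.* helpers here

set_option autoImplicit false
universe u
open Polynomial
open GRRSing

namespace Groth.Agent.S17875

/-- Let R be a commutative ℚ-algebra, r an element of R and δ a natural number with (r - 1) ^ (δ + 1) =
0. Write s(k, j) for the signed Stirling numbers of the first kind, the coefficients of x (x - 1) ⋯
(x - k + 1) = Σ_j s(k, j) x ^ j. Then (i) for every natural number n, r ^ n = Σ_{k ≤ δ} [n (n - 1) ⋯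
(n - k + 1) / k!] (r - 1) ^ k; and (ii) in the polynomial ring R[x], Σ_{k ≤ δ} [x (x - 1) ⋯ (x - k +
1) / k!] (r - 1) ^ k = Σ_{j ≤ δ} [Σ_{k ≤ δ} Σ_{u ≤ k} (-1) ^ (k - u) s(k, j) / (u! (k - u)!) · r ^
u] x ^ j. -/
theorem result {R : Type u} [CommRing R] [Algebra ℚ R]
    (r : R) (δ : ℕ) (hr : (r - 1) ^ (δ + 1) = 0) :
    (∀ n : ℕ, r ^ n = ∑ k ∈ Finset.range (δ + 1), ((descPochhammer ℚ k).eval (n : ℚ) / (k.factorial : ℚ)) • (r - 1) ^ k) ∧
    (∑ k ∈ Finset.range (δ + 1), ((k.factorial : ℚ)⁻¹ • (descPochhammer R k * Polynomial.C ((r - 1) ^ k))) =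
      ∑ j ∈ Finset.range (δ + 1), Polynomial.C (∑ k ∈ Finset.range (δ + 1), ∑ u ∈ Finset.range (k + 1),
        (((-1 : ℚ) ^ (k - u) * (((descPochhammer ℤ k).coeff j : ℤ) : ℚ)) / ((u.factorial * (k - u).factorial : ℕ) : ℚ)) • r ^ u) * Polynomial.X ^ j) := by
  constructor
  · intro n
    have e : ∀ k, ((descPochhammer ℚ k).eval (n : ℚ) / (k.factorial : ℚ)) • (r - 1) ^ k
        = (r - 1) ^ k * (n.choose k : R) := fun k => by
      rw [descPochhammer_eval_eq_descFactorial, Nat.descFactorial_eq_factorial_mul_choose, Nat.cast_mul,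
        mul_div_cancel_left₀ _ (Nat.cast_ne_zero.2 k.factorial_ne_zero), Nat.cast_smul_eq_nsmul,
        nsmul_eq_mul, mul_comm]
    simp only [e]
    have key : ∀ k, δ + 1 ≤ k → (r - 1) ^ k = 0 := fun k hk => pow_eq_zero_of_le hk hr
    calc r ^ n = ∑ k ∈ Finset.range (n + 1), (r - 1) ^ k * (n.choose k : R) := by
          conv_lhs => rw [show r = (r - 1) + 1 by ring, add_pow]
          simp
      _ = ∑ k ∈ Finset.range (n + 1 + (δ + 1)), (r - 1) ^ k * (n.choose k : R) := by
          refine Finset.sum_subset (Finset.range_mono (by omega)) fun k _ hk => ?_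
          rw [Finset.mem_range] at hk
          rw [Nat.choose_eq_zero_of_lt (by omega), Nat.cast_zero, mul_zero]
      _ = _ := by
          refine (Finset.sum_subset (Finset.range_mono (by omega)) fun k _ hk => ?_).symm
          rw [Finset.mem_range] at hk
          rw [key k (by omega), zero_mul]
  · ext j
    simp only [Polynomial.finsetSum_coeff, Polynomial.coeff_smul, Polynomial.coeff_mul_C,
      Polynomial.coeff_C_mul_X_pow, Finset.sum_ite_eq, Finset.mem_range]
    have hd : ∀ k, (descPochhammer R k).coeff j = (((descPochhammer ℤ k).coeff j : ℤ) : R) := fun k => by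
      rw [← descPochhammer_map (Int.castRingHom R) k, Polynomial.coeff_map, eq_intCast]
    have hk : ∀ k, ((k.factorial : ℚ)⁻¹ • ((descPochhammer R k).coeff j * (r - 1) ^ k) : R) =
        ∑ u ∈ Finset.range (k + 1), (((-1 : ℚ) ^ (k - u) * (((descPochhammer ℤ k).coeff j : ℤ) : ℚ)) /
          ((u.factorial * (k - u).factorial : ℕ) : ℚ)) • r ^ u := by
      intro k
      rw [hd, sub_eq_add_neg, add_pow, Finset.mul_sum, Finset.smul_sum]
      refine Finset.sum_congr rfl fun u hu => ?_
      rw [Finset.mem_range] at hu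
      have hch : ((k.choose u : ℚ)) / (k.factorial : ℚ) = 1 / ((u.factorial * (k - u).factorial : ℕ) : ℚ) := by
        rw [div_eq_div_iff (Nat.cast_ne_zero.2 k.factorial_ne_zero)
          (by exact_mod_cast Nat.mul_ne_zero u.factorial_ne_zero (k - u).factorial_ne_zero), one_mul,
          ← Nat.cast_mul, ← Nat.choose_mul_factorial_mul_factorial (show u ≤ k by omega), mul_assoc]
      simp only [Algebra.smul_def]
      rw [← map_intCast (algebraMap ℚ R), ← map_natCast (algebraMap ℚ R),
        show ((-1 : R)) = algebraMap ℚ R (-1) by simp, ← map_pow (algebraMap ℚ R)]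
      have : ∀ a b c d : ℚ, a * b * c * d = (a * d) * (b * c) := fun a b c d => by ring
      rw [show ∀ (x y z w v : R), x * (y * (z * w * v)) = (x * y * w * v) * z from fun x y z w v => by ring,
        ← map_mul, ← map_mul, ← map_mul]
      congr 2
      rw [div_eq_mul_one_div ((-1 : ℚ) ^ (k - u) * _), ← hch]
      field_simp
    by_cases hj : j < δ + 1
    · rw [if_pos hj]
      exact Finset.sum_congr rfl fun k _ => hk k
    · rw [if_neg hj]
      refine Finset.sum_eq_zero fun k hkk => ?_
      rw [Finset.mem_range] at hkk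
      rw [Polynomial.coeff_eq_zero_of_natDegree_lt, zero_mul, smul_zero]
      rw [← descPochhammer_map (Int.castRingHom R) k]
      refine lt_of_le_of_lt Polynomial.natDegree_map_le ?_
      rw [descPochhammer_natDegree]
      omega

end Groth.Agent.S17875
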