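import Groth.Statements.S17876
import Groth.Agent.K0Virt.Nilp

set_option autoImplicit false
universe u
open CategoryTheory CategoryTheory.Limits AlgebraicGeometry
attribute [local instance] HasDerivedCategory.standard
open GRRSing

namespace Groth.Agent.S17876

/-- Let W be a Noetherian scheme and V a finite locally free O_W-module of constant rank r. Tensoring
with V is exact and preserves coherence (carried here as hypotheses), so it induces an endomorphism
[V] ⊗ (−) of K_0(Coh W), the Grothendieck group of coherent O_W-modules. Then [V] ⊗ (−) − r · id is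
a nilpotent endomorphism of K_0(Coh W): some iterate of it vanishes identically. (Equivalently:
rk(V) − V is nilpotent in the quotient of K^0(W) by the annihilator of K_0(W).) -/
theorem result {W : Scheme.{u}} [IsNoetherian W] (r : ℕ) (V : W.Modules)
    (hV : FlatMod.IsFinLocFreeOfRank r V)
    [((DCoh.tensorBi (X := W)).obj V).Additive] [PreservesFiniteLimits ((DCoh.tensorBi (X := W)).obj V)]
    [PreservesFiniteColimits ((DCoh.tensorBi (X := W)).obj V)]
    (hVc : ∀ M : W.Modules, Coh.IsCoh M → Coh.IsCoh (((DCoh.tensorBi (X := W)).obj V).obj M)) :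
    ∃ n : ℕ, ∀ y : SGA6.Kcoh W,
      (⇑(SGA6.mapSub ((DCoh.tensorBi (X := W)).obj V) (fun M : W.Modules => Coh.IsCoh M) (fun M : W.Modules => Coh.IsCoh M) hVc -
        r • AddMonoidHom.id (SGA6.Kcoh W)))^[n] y = 0 := by
  have hE : FlatMod.IsFinLocFree V := fun x => by
    obtain ⟨U, hx, e⟩ := hV x
    exact ⟨U, r, hx, e⟩
  obtain ⟨n, hn⟩ := Groth.Agent.K0Virt.exists_iterate_virt_eq_zero r hE hV
  refine ⟨n, fun y => ?_⟩
  have h : (SGA6.mapSub ((DCoh.tensorBi (X := W)).obj V) (fun M : W.Modules => Coh.IsCoh M)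
      (fun M : W.Modules => Coh.IsCoh M) hVc : SGA6.Kcoh W →+ SGA6.Kcoh W) = Groth.Agent.K0Hom.tenC V hE :=
    Groth.Agent.K0Filt.hom_ext_cl _ fun M hM => by
      rw [Groth.Agent.K0Filt.mapSub_cl _ _ _ _ hM]
      exact (Groth.Agent.K0Hom.tenC_cl V hE hM).symm
  rw [h]
  exact hn y

end Groth.Agent.S17876
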