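import Groth.Statements.S17878
import Mathlib
-- import your own Groth.Agent.* helpers here

set_option autoImplicit false
universe u
open Filter Topology
open GRRSing

namespace Groth.Agent.S17878

open Polynomial in
/-- `S j y = ∑ n ^ j y ^ n`. -/
noncomputable def S (j : ℕ) (y : ℝ) : ℂ := ∑' n : ℕ, (y : ℂ) ^ n * (n : ℂ) ^ j

lemma euler_rec (E : ℕ → ℚ)
    (hE : PowerSeries.mk (fun j => E j / (j.factorial : ℚ)) * (PowerSeries.exp ℚ + 1) = 2) (j : ℕ) :
    (∑ i ∈ Finset.range (j + 1), (j.choose i : ℚ) * E i) + E j = if j = 0 then 2 else 0 := by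
  have h := congrArg (PowerSeries.coeff j) hE
  rw [mul_add, mul_one, map_add, PowerSeries.coeff_mul, Finset.Nat.sum_antidiagonal_eq_sum_range_succ_mk,
    PowerSeries.coeff_mk] at h
  have hfac : (j.factorial : ℚ) ≠ 0 := by exact_mod_cast j.factorial_ne_zero
  have h2 : PowerSeries.coeff j (2 : PowerSeries ℚ) = if j = 0 then 2 else 0 := by
    rw [show (2 : PowerSeries ℚ) = PowerSeries.C 2 from (map_ofNat _ 2).symm, PowerSeries.coeff_C]
  rw [h2] at h
  calc _ = (j.factorial : ℚ) * ((∑ i ∈ Finset.range (j + 1),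
        PowerSeries.coeff i (PowerSeries.mk fun j => E j / (j.factorial : ℚ)) *
          PowerSeries.coeff (j - i) (PowerSeries.exp ℚ)) + E j / j.factorial) := by
        rw [mul_add, Finset.mul_sum, mul_div_cancel₀ _ hfac]
        congr 1
        refine Finset.sum_congr rfl fun i hi => ?_
        rw [PowerSeries.coeff_mk, PowerSeries.coeff_exp,
          Nat.cast_choose ℚ (Finset.mem_range_succ_iff.mp hi)]
        simp [div_eq_mul_inv]
        ring
    _ = _ := by rw [h]; split <;> simp_all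

lemma S_rec (j : ℕ) {y : ℝ} (hy : ‖(y : ℂ)‖ < 1) :
    S j y = (0 : ℂ) ^ j + (y : ℂ) * ∑ i ∈ Finset.range (j + 1), (j.choose i : ℂ) * S i y := by
  have hs : ∀ i, Summable fun n : ℕ => (y : ℂ) ^ n * (n : ℂ) ^ i := fun i =>
    (summable_pow_mul_geometric_of_norm_lt_one i hy).congr fun n => mul_comm _ _
  rw [S, (hs j).tsum_eq_zero_add, Finset.mul_sum]
  congr 1
  · simp
  refine ((hasSum_sum (f := fun i (n : ℕ) => (y : ℂ) * ((j.choose i : ℂ) * ((y : ℂ) ^ n * (n : ℂ) ^ i)))
    fun i _ => ((hs i).hasSum.mul_left _).mul_left _).congr_fun fun n => ?_).tsum_eq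
  push_cast
  rw [add_pow, Finset.mul_sum]
  refine Finset.sum_congr rfl fun i _ => ?_
  ring

lemma tendsto_S (E : ℕ → ℚ)
    (hE : PowerSeries.mk (fun j => E j / (j.factorial : ℚ)) * (PowerSeries.exp ℚ + 1) = 2) (j : ℕ) :
    Tendsto (S j) (𝓝[Set.Ioo (-1 : ℝ) 1] (-1 : ℝ)) (𝓝 ((2 : ℂ)⁻¹ * (E j : ℂ))) := by
  induction j using Nat.strong_induction_on with
  | _ j ih =>
    have hc : Tendsto (fun y : ℝ => (y : ℂ)) (𝓝[Set.Ioo (-1 : ℝ) 1] (-1 : ℝ)) (𝓝 (-1)) := by
      simpa using (Complex.continuous_ofReal.tendsto (-1 : ℝ)).mono_left nhdsWithin_le_nhds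
    have key : Tendsto (fun y : ℝ => ((0 : ℂ) ^ j +
        (y : ℂ) * ∑ i ∈ Finset.range j, (j.choose i : ℂ) * S i y) / (1 - (y : ℂ)))
        (𝓝[Set.Ioo (-1 : ℝ) 1] (-1 : ℝ))
        (𝓝 (((0 : ℂ) ^ j + (-1) * ∑ i ∈ Finset.range j, (j.choose i : ℂ) * ((2 : ℂ)⁻¹ * (E i : ℂ))) /
          (1 - (-1)))) :=
      (tendsto_const_nhds.add (hc.mul (tendsto_finsetSum _ fun i hi =>
        tendsto_const_nhds.mul (ih i (Finset.mem_range.mp hi))))).div (tendsto_const_nhds.sub hc)
        (by norm_num)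
    have heq : ((0 : ℂ) ^ j + (-1) * ∑ i ∈ Finset.range j, (j.choose i : ℂ) * ((2 : ℂ)⁻¹ * (E i : ℂ))) /
          (1 - (-1)) = (2 : ℂ)⁻¹ * (E j : ℂ) := by
      have h := euler_rec E hE j
      rw [Finset.sum_range_succ, Nat.choose_self] at h
      have h' := congrArg (fun q : ℚ => (q : ℂ)) h
      push_cast at h'
      have hsum : ∑ i ∈ Finset.range j, (j.choose i : ℂ) * ((2 : ℂ)⁻¹ * (E i : ℂ)) =
          (2 : ℂ)⁻¹ * ∑ i ∈ Finset.range j, (j.choose i : ℂ) * (E i : ℂ) := by
        rw [Finset.mul_sum]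
        exact Finset.sum_congr rfl fun i _ => by ring
      rw [hsum]
      rcases eq_or_ne j 0 with rfl | hj
      · simp at h' ⊢
        linear_combination (-1 / 4 : ℂ) * h'
      · rw [zero_pow hj]
        rw [if_neg hj] at h'
        push_cast at h'
        linear_combination (-1 / 4 : ℂ) * h'
    rw [heq] at key
    refine key.congr' (eventually_nhdsWithin_of_forall fun y hy => ?_)
    have hy' : ‖(y : ℂ)‖ < 1 := by
      rw [Complex.norm_real, Real.norm_eq_abs, abs_lt]; exact hy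
    have h1 : (1 : ℂ) - (y : ℂ) ≠ 0 := by
      intro h
      rw [sub_eq_zero] at h
      rw [← h, norm_one] at hy'
      exact lt_irrefl _ hy'
    have hr := S_rec j hy'
    rw [Finset.sum_range_succ, Nat.choose_self, Nat.cast_one, one_mul] at hr
    rw [div_eq_iff h1]
    linear_combination -hr


/-- Let T be a nonzero commutative normed ℂ-algebra such that the map ℂ → T/nilradical(T) is surjective,
let P = Σ_j d_j x ^ j be a polynomial over T and put h_k = P(k). Let E_0, E_1, … be the rational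
numbers with 2/(e^t + 1) = Σ_j E_j t ^ j / j! (so E_0 = 1, E_1 = -1/2). Then for every complex y
with |y| < 1 the series Σ_k h_k y ^ k converges in T, and as y → -1 along real y in (-1, 1) its sum
tends to (1/2) Σ_j E_j d_j. (The published statement allows any norm topology on T as a complex
vector space; this row takes T a normed ℂ-algebra.) -/
theorem result {T : Type u} [NormedCommRing T] [NormedAlgebra ℂ T] [Nontrivial T]
    (hT : Function.Surjective (algebraMap ℂ (T ⧸ nilradical T)))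
    (E : ℕ → ℚ) (hE : PowerSeries.mk (fun j => E j / (j.factorial : ℚ)) * (PowerSeries.exp ℚ + 1) = 2)
    (P : Polynomial T) :
    (∀ y : ℂ, ‖y‖ < 1 → Summable (fun k : ℕ => y ^ k • P.eval (k : T))) ∧
    Tendsto (fun y : ℝ => ∑' k : ℕ, ((y : ℂ) ^ k) • P.eval (k : T)) (𝓝[Set.Ioo (-1 : ℝ) 1] (-1 : ℝ))
      (𝓝 ((2 : ℂ)⁻¹ • ∑ j ∈ Finset.range (P.natDegree + 1), ((E j : ℚ) : ℂ) • P.coeff j)) := by
  have hS : ∀ (j : ℕ) (y : ℂ), ‖y‖ < 1 → Summable fun n : ℕ => y ^ n * (n : ℂ) ^ j := fun j y hy =>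
    (summable_pow_mul_geometric_of_norm_lt_one j hy).congr fun n => mul_comm _ _
  have hterm : ∀ (y : ℂ) (n : ℕ), y ^ n • P.eval (n : T) =
      ∑ j ∈ Finset.range (P.natDegree + 1), (y ^ n * (n : ℂ) ^ j) • P.coeff j := by
    intro y n
    rw [Polynomial.eval_eq_sum_range, Finset.smul_sum]
    refine Finset.sum_congr rfl fun j _ => ?_
    rw [mul_smul, mul_comm (P.coeff j), Algebra.smul_def ((n : ℂ) ^ j), map_pow, map_natCast]
  refine ⟨fun y hy => ?_, ?_⟩
  · simp only [hterm]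
    exact summable_sum fun j _ => (hS j y hy).smul_const _
  have hval : ∀ y : ℝ, y ∈ Set.Ioo (-1 : ℝ) 1 → ∑' n : ℕ, ((y : ℂ) ^ n) • P.eval (n : T) =
      ∑ j ∈ Finset.range (P.natDegree + 1), S j y • P.coeff j := by
    intro y hy
    have hy' : ‖(y : ℂ)‖ < 1 := by
      rw [Complex.norm_real, Real.norm_eq_abs, abs_lt]; exact hy
    refine HasSum.tsum_eq ?_
    simp only [hterm]
    exact hasSum_sum fun j _ => ((hS j _ hy').hasSum).smul_const _
  rw [Finset.smul_sum]
  refine (tendsto_finsetSum _ fun j _ => ?_).congr' (eventually_nhdsWithin_of_forall fun y hy => (hval y hy).symm)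
  rw [← mul_smul]
  exact (tendsto_S E hE j).smul_const _

end Groth.Agent.S17878
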