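import Groth.Statements.S17880
import Groth.Agent.AbsApprox.OverLim
import Groth.Agent.LimMore.SepScheme
import Mathlib.CategoryTheory.Limits.Constructions.Over.Connected

set_option backward.isDefEq.respectTransparency false

set_option autoImplicit false
universe u
open CategoryTheory AlgebraicGeometry
open Lim

namespace Groth.Agent.S17880

/-- Let f : Y → X be a morphism of schemes with X and Y quasi-compact and quasi-separated. Then f is the
composite of an affine morphism Y → Z and a morphism Z → X of finite presentation (locally of finite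
presentation, quasi-compact and quasi-separated); if f is separated, Z → X can in addition be chosen
separated. Both assertions are packaged in one existential. -/
theorem result {X Y : Scheme.{u}} (f : Y ⟶ X)
    [CompactSpace X] [QuasiSeparatedSpace X] [CompactSpace Y] [QuasiSeparatedSpace Y] :
    ∃ (Z : Scheme.{u}) (g : Y ⟶ Z) (h : Z ⟶ X), IsAffineHom g ∧ LocallyOfFinitePresentation h ∧
      QuasiCompact h ∧ QuasiSeparated h ∧ (IsSeparated f → IsSeparated h) ∧ g ≫ h = f := by
  classical
  obtain ⟨J, _, _, _, D, c, hl, e, h1, h2, h3⟩ := Groth.Agent.AbsApprox.exists_limit_over f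
  haveI : IsCofiltered Jᵒᵖ := isCofiltered_op_of_isFiltered _
  haveI : IsConnected Jᵒᵖ := IsCofiltered.isConnected _
  let E := D ⋙ Over.forget X
  haveI : ∀ {i j : Jᵒᵖ} (a : i ⟶ j), IsAffineHom (E.map a) := fun a => h2 _ _ a
  haveI : ∀ i, CompactSpace (E.obj i) := fun i => (h1 i).2.2.2.1
  haveI : ∀ i, QuasiSeparatedSpace (E.obj i) := fun i => (h1 i).2.2.2.2
  have hE : Limits.IsLimit ((Over.forget X).mapCone c) := Limits.isLimitOfPreserves (Over.forget X) hl
  have key : ∃ i, IsSeparated f → IsSeparated (D.obj i).hom := by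
    by_cases hf : IsSeparated f
    · let i₀ : Jᵒᵖ := Opposite.op (Classical.arbitrary J)
      haveI : IsSeparated (((Over.forget X).mapCone c).π.app i₀ ≫ (D.obj i₀).hom) := by
        show IsSeparated ((c.π.app i₀).left ≫ (D.obj i₀).hom)
        rw [Over.w (c.π.app i₀)]
        have : c.pt.hom = e.hom.left ≫ f := (Over.w e.hom).symm
        refine this ▸ ?_
        infer_instance
      obtain ⟨i, hi⟩ := Groth.Agent.LimMore.exists_isSeparated_over E (fun i => (D.obj i).hom) (fun a => Over.w (D.map a)) _ hE i₀
      exact ⟨i, fun _ => hi i (𝟙 _)⟩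
    · exact ⟨Opposite.op (Classical.arbitrary J), fun h => absurd h hf⟩
  obtain ⟨i, hi⟩ := key
  haveI : IsAffineHom (c.π.app i).left := h3 i
  refine ⟨(D.obj i).left, e.inv.left ≫ (c.π.app i).left, (D.obj i).hom, inferInstance, (h1 i).1, (h1 i).2.1, (h1 i).2.2.1,
    hi, ?_⟩
  rw [Category.assoc, Over.w (c.π.app i)]
  exact Over.w e.inv

end Groth.Agent.S17880
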