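import Groth.Statements.S17881
import Mathlib.RingTheory.Coprime.Basic
import Mathlib.RingTheory.LocalRing.Basic
import Mathlib.Algebra.Ring.Subring.Basic

set_option autoImplicit false
universe u
open CAlg

namespace Groth.Agent.S17881

/-- Let O be a subring of a nontrivial commutative ring A. The following are equivalent: (i) A is a
local ring, every non-unit of A belongs to O, and for every unit u of A one of u, u⁻¹ belongs to O —
equivalently O is the preimage in the local ring A of a valuation ring of the residue field of A,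
which makes O a semi-valuation ring with semi-fraction ring A; (ii) for all f, g in A generating the
unit ideal, either f ∈ gO or g ∈ fO. (A is taken nontrivial: over the zero ring (ii) holds and (i)
fails.) -/
theorem result (A : Type u) [CommRing A] [Nontrivial A]
    (O : Subring A) :
    (IsLocalRing A ∧ (∀ a : A, ¬ IsUnit a → a ∈ O) ∧ (∀ u : Aˣ, (u : A) ∈ O ∨ ((u⁻¹ : Aˣ) : A) ∈ O)) ↔
      ∀ f g : A, IsCoprime f g → (∃ o ∈ O, f = g * o) ∨ (∃ o ∈ O, g = f * o) := by
  constructor
  · rintro ⟨hloc, hnu, hu⟩ f g hfg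
    have main : ∀ f g : A, IsUnit g → (∃ o ∈ O, f = g * o) ∨ (∃ o ∈ O, g = f * o) := by
      intro f g hg
      obtain ⟨v, rfl⟩ := hg
      by_cases ha : IsUnit ((↑v⁻¹ : A) * f)
      · obtain ⟨w, hw⟩ := ha
        rcases hu w with hw' | hw'
        · exact Or.inl ⟨w, hw', by rw [hw, ← mul_assoc, Units.mul_inv, one_mul]⟩
        · refine Or.inr ⟨_, hw', ?_⟩
          have hf : f = (v : A) * w := by rw [hw, ← mul_assoc, Units.mul_inv, one_mul]
          rw [hf, mul_assoc, Units.mul_inv, mul_one]
      · exact Or.inl ⟨_, hnu _ ha, by rw [← mul_assoc, Units.mul_inv, one_mul]⟩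
    obtain ⟨a, b, hab⟩ := hfg
    rcases IsLocalRing.isUnit_or_isUnit_of_add_one hab with h | h
    · exact (main g f (isUnit_of_mul_isUnit_right h)).symm
    · exact main f g (isUnit_of_mul_isUnit_right h)
  · intro h
    refine ⟨?_, ?_, ?_⟩
    · refine IsLocalRing.of_isUnit_or_isUnit_one_sub_self fun a => ?_
      rcases h a (1 - a) ⟨1, 1, by ring⟩ with ⟨o, -, ho⟩ | ⟨o, -, ho⟩
      · exact Or.inr (.of_mul_eq_one (o + 1) (by rw [mul_add, ← ho, mul_one, add_sub_cancel]))
      · exact Or.inl (.of_mul_eq_one (o + 1) (by rw [mul_add, ← ho, mul_one, sub_add_cancel]))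
    · intro a ha
      rcases h a 1 isCoprime_one_right with ⟨o, ho, hao⟩ | ⟨o, -, hao⟩
      · rwa [hao, one_mul]
      · exact absurd (.of_mul_eq_one o hao.symm) ha
    · intro u
      rcases h u 1 isCoprime_one_right with ⟨o, ho, hao⟩ | ⟨o, ho, hao⟩
      · left; rwa [hao, one_mul]
      · right
        have : ((u⁻¹ : Aˣ) : A) = o := by
          rw [← mul_one ((u⁻¹ : Aˣ) : A), hao, ← mul_assoc, Units.inv_mul, one_mul]
        rwa [this]

end Groth.Agent.S17881
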