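import Groth.Statements.S17882
import Mathlib.LinearAlgebra.Matrix.Adjugate
import Mathlib.LinearAlgebra.Matrix.NonsingularInverse
import Mathlib.LinearAlgebra.LinearIndependent.Defs

set_option autoImplicit false
universe u
open CAlg

namespace Groth.Agent.S17882

/-- Let B be a commutative ring, r ≥ 1, N a finitely generated submodule of B^r, and n_1, …, n_r ∈ N.
Suppose the determinant of the matrix with rows n_1, …, n_r is a nonzerodivisor of B and that the
determinant of every matrix whose rows lie in N is a multiple of it (the image of the top exterior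
power of N in that of B^r ≅ B is the principal ideal generated by n_1 ∧ ⋯ ∧ n_r, a nonzerodivisor).
Then n_1, …, n_r are linearly independent over B and span N: N is free of rank r with this basis. -/
theorem result (B : Type u) [CommRing B] (r : ℕ) (hr : 0 < r)
    (N : Submodule B (Fin r → B)) (hN : N.FG) (n : Fin r → (Fin r → B)) (hn : ∀ i, n i ∈ N)
    (hgen : ∀ m : Fin r → (Fin r → B), (∀ i, m i ∈ N) →
      Matrix.det (Matrix.of m) ∈ Ideal.span {Matrix.det (Matrix.of n)})
    (hnzd : Matrix.det (Matrix.of n) ∈ nonZeroDivisors B) :
    LinearIndependent B n ∧ Submodule.span B (Set.range n) = N := by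
  classical
  let M := Matrix.of n
  refine ⟨?_, le_antisymm (Submodule.span_le.2 (by rintro _ ⟨i, rfl⟩; exact hn i)) fun v hv => ?_⟩
  · rw [Fintype.linearIndependent_iff]
    intro c hc i
    have h1 : Matrix.vecMul c M = 0 := by
      rw [← hc]
      funext j
      simp [M, Matrix.vecMul, dotProduct, Finset.sum_apply]
    have h2 := congrArg (fun w => Matrix.vecMul w M.adjugate) h1
    simp only [Matrix.vecMul_vecMul, Matrix.mul_adjugate, Matrix.zero_vecMul, Matrix.vecMul_smul, Matrix.vecMul_one] at h2
    exact (mem_nonZeroDivisors_iff.1 hnzd).1 (c i) (congrFun h2 i)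
  · have hc : ∀ i, ∃ b, b * M.det = (M.updateRow i v).det := fun i => by
      refine Ideal.mem_span_singleton'.1 ?_
      exact hgen (fun j => if j = i then v else n j) (fun j => by split_ifs <;> [exact hv; exact hn j]) |> fun h => by
        convert h using 2
        ext j k
        by_cases hji : j = i <;> simp [M, Matrix.updateRow_apply, hji]
    choose b hb using hc
    have hcr := Matrix.mulVec_cramer M.transpose v
    rw [Matrix.det_transpose] at hcr
    have h1 : v = ∑ i, b i • n i := by
      funext k
      have h2 := congrFun hcr k
      simp only [Matrix.mulVec, dotProduct, Matrix.cramer_transpose_apply, Matrix.transpose_apply, Pi.smul_apply, smul_eq_mul, ← hb] at h2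
      refine sub_eq_zero.1 ((mem_nonZeroDivisors_iff.1 hnzd).1 _ ?_)
      rw [mul_sub, sub_eq_zero, ← h2, Finset.sum_apply, Finset.mul_sum]
      exact Finset.sum_congr rfl fun i _ => by simp [M]; ring
    rw [h1]
    exact Submodule.sum_mem _ fun i _ => Submodule.smul_mem _ _ (Submodule.subset_span ⟨i, rfl⟩)

end Groth.Agent.S17882
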