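import Groth.Statements.S17885
import Groth.Agent.AbsApprox.OverLim
import Groth.Agent.LimMore.AffScheme
import Mathlib.CategoryTheory.Limits.Constructions.Over.Connected

set_option backward.isDefEq.respectTransparency false

set_option autoImplicit false
universe u
open CategoryTheory AlgebraicGeometry
open Lim

namespace Groth.Agent.S17885

/-- Let f : Y → X be a morphism of schemes with X and Y quasi-compact and quasi-separated. Then f is
affine if and only if the X-scheme Y is a limit, in the category of schemes over X, of a filtered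
inverse system of X-schemes that are affine and of finite presentation over X. -/
theorem result {X Y : Scheme.{u}} (f : Y ⟶ X)
    [CompactSpace X] [QuasiSeparatedSpace X] [CompactSpace Y] [QuasiSeparatedSpace Y] :
    IsAffineHom f ↔
      ∃ (I : Type u) (_ : SmallCategory I) (_ : IsFiltered I) (D : Iᵒᵖ ⥤ Over X)
        (c : Limits.Cone D) (_ : Limits.IsLimit c),
        (∀ i, IsAffineHom (D.obj i).hom ∧ LocallyOfFinitePresentation (D.obj i).hom) ∧
        Nonempty (c.pt ≅ Over.mk f) := by
  classical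
  refine ⟨fun hf => ?_, fun h => ?_⟩
  · obtain ⟨J, _, _, _, D, c, hl, e, h1, h2, h3⟩ := Groth.Agent.AbsApprox.exists_limit_over f
    haveI : IsCofiltered Jᵒᵖ := isCofiltered_op_of_isFiltered _
    haveI : IsConnected Jᵒᵖ := IsCofiltered.isConnected _
    let E := D ⋙ Over.forget X
    haveI : ∀ {i j : Jᵒᵖ} (a : i ⟶ j), IsAffineHom (E.map a) := fun a => h2 _ _ a
    haveI : ∀ i, CompactSpace (E.obj i) := fun i => (h1 i).2.2.2.1
    haveI : ∀ i, QuasiSeparatedSpace (E.obj i) := fun i => (h1 i).2.2.2.2
    have hE : Limits.IsLimit ((Over.forget X).mapCone c) := Limits.isLimitOfPreserves (Over.forget X) hl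
    let i₀ : Jᵒᵖ := Opposite.op (Classical.arbitrary J)
    haveI : IsAffineHom (((Over.forget X).mapCone c).π.app i₀ ≫ (D.obj i₀).hom) := by
      show IsAffineHom ((c.π.app i₀).left ≫ (D.obj i₀).hom)
      rw [Over.w (c.π.app i₀)]
      have : c.pt.hom = e.hom.left ≫ f := (Over.w e.hom).symm
      refine this ▸ ?_
      infer_instance
    obtain ⟨i₁, hi₁⟩ := Groth.Agent.LimMore.exists_isAffineHom_over E (fun i => (D.obj i).hom) (fun a => Over.w (D.map a)) _ hE i₀
    let I := {j : J // i₁.unop ≤ j}
    haveI : Nonempty I := ⟨⟨i₁.unop, le_rfl⟩⟩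
    haveI : IsDirected I (fun a b => a ≤ b) := ⟨fun a b => by
      obtain ⟨z, hz, hz'⟩ := exists_ge_ge a.1 b.1
      exact ⟨⟨z, a.2.trans hz⟩, hz, hz'⟩⟩
    let F : I →o J := ⟨Subtype.val, fun _ _ h => h⟩
    haveI : F.monotone.functor.op.Initial := Groth.Agent.AbsApprox.final_of_cofinal F fun j => by
      obtain ⟨z, hz, hz'⟩ := exists_ge_ge j i₁.unop
      exact ⟨⟨z, hz'⟩, hz⟩
    exact ⟨I, inferInstance, inferInstance, F.monotone.functor.op ⋙ D, c.whisker F.monotone.functor.op,
      (Functor.Initial.isLimitWhiskerEquiv F.monotone.functor.op c).symm hl,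
      fun i => ⟨hi₁ _ (homOfLE i.unop.2).op, (h1 _).1⟩, ⟨e⟩⟩
  · obtain ⟨I, _, _, D, c, hl, h1, ⟨e⟩⟩ := h
    haveI : IsCofiltered Iᵒᵖ := isCofiltered_op_of_isFiltered _
    haveI : IsConnected Iᵒᵖ := IsCofiltered.isConnected _
    let E := D ⋙ Over.forget X
    haveI : ∀ {i j : Iᵒᵖ} (a : i ⟶ j), IsAffineHom (E.map a) := fun {i j} a => by
      haveI := (h1 i).1
      haveI := (h1 j).1
      haveI : IsAffineHom ((D.map a).left ≫ (D.obj j).hom) := by rw [Over.w (D.map a)]; infer_instance
      exact IsAffineHom.of_comp (D.map a).left (D.obj j).hom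
    have hE : Limits.IsLimit ((Over.forget X).mapCone c) := Limits.isLimitOfPreserves (Over.forget X) hl
    obtain ⟨i⟩ := (IsCofiltered.nonempty : Nonempty Iᵒᵖ)
    haveI : IsAffineHom (c.π.app i).left := isAffineHom_π_app E ((Over.forget X).mapCone c) hE i
    haveI := (h1 i).1
    have h2 : f = e.inv.left ≫ (c.π.app i).left ≫ (D.obj i).hom := by
      rw [Over.w (c.π.app i)]
      exact (Over.w e.inv).symm
    rw [h2]
    infer_instance

end Groth.Agent.S17885
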