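import Groth.Statements.S17887
import Groth.Agent.Nagata.Graph
import Groth.Agent.ModPairFrac.Prod
-- import your own Groth.Agent.* helpers here

set_option autoImplicit false
universe u
open CategoryTheory AlgebraicGeometry
open BlowUp

namespace Groth.Agent.S17887

/-- Let X be a Noetherian scheme, U ⊆ X an open subscheme that is schematically dense in X, I a
quasi-coherent ideal sheaf on X whose support does not meet U, and π : X' → X a blowing-up of X
along I. Then π⁻¹(U) is schematically dense in X'. -/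
theorem result {X X' : Scheme.{u}} [IsNoetherian X]
    (U : X.Opens) [IsSchemeTheoreticallyDominant U.ι] (𝓘 : X.IdealSheafData)
    (hU : Disjoint (𝓘.support : Set X) (U : Set X)) (π : X' ⟶ X) (hπ : BlowUp.IsBlowUp π 𝓘) :
    IsSchemeTheoreticallyDominant (π ⁻¹ᵁ U).ι := by
  let O : X.Opens := 𝓘.support.compl
  have hUO : U ≤ O := fun x hx h => Set.disjoint_left.1 hU h hx
  haveI : IsIso (π ∣_ O) := Groth.Agent.BlowUpLib.isIso_restrict hπ
  haveI : CompactSpace U.toScheme := isCompact_iff_compactSpace.1 (TopologicalSpace.NoetherianSpace.isCompact _)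
  haveI : QuasiCompact U.ι := quasiCompact_of_compactSpace _
  haveI : IsSchemeTheoreticallyDominant (X.homOfLE hUO ≫ O.ι) := by rw [Scheme.homOfLE_ι]; infer_instance
  haveI : QuasiCompact (X.homOfLE hUO ≫ O.ι) := by rw [Scheme.homOfLE_ι]; infer_instance
  haveI : IsSchemeTheoreticallyDominant (X.homOfLE hUO) :=
    Groth.Agent.Nagata.schemDom_of_comp_openImmersion _ O.ι
  have hle : π ⁻¹ᵁ U ≤ π ⁻¹ᵁ O := fun x hx => hUO hx
  have e : X'.homOfLE hle ≫ π ∣_ O = π ∣_ U ≫ X.homOfLE hUO := by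
    rw [← cancel_mono O.ι, Category.assoc, Category.assoc, morphismRestrict_ι, Scheme.homOfLE_ι, morphismRestrict_ι,
      Scheme.homOfLE_ι_assoc]
  haveI : IsIso (π ∣_ U) := by
    haveI : IsOpenImmersion (π ∣_ U ≫ X.homOfLE hUO) := e ▸ inferInstance
    haveI : IsOpenImmersion (π ∣_ U) := IsOpenImmersion.of_comp _ (X.homOfLE hUO)
    refine (isIso_iff_isOpenImmersion_and_surjective _).2 ⟨inferInstance, ⟨fun v => ?_⟩⟩
    obtain ⟨z, hz⟩ := (π ∣_ O).surjective ⟨v.1, hUO v.2⟩
    rw [morphismRestrict_base] at hz ⊢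
    have hz' : π z.1 = v.1 := congrArg Subtype.val hz
    exact ⟨⟨z.1, show π z.1 ∈ U from hz' ▸ v.2⟩, Subtype.ext hz'⟩
  have e' : X'.homOfLE hle = π ∣_ U ≫ X.homOfLE hUO ≫ inv (π ∣_ O) := by
    rw [← Category.assoc, ← e, Category.assoc, IsIso.hom_inv_id, Category.comp_id]
  haveI : IsSchemeTheoreticallyDominant (X'.homOfLE hle) := by rw [e']; infer_instance
  have hO : π ⁻¹ᵁ O = ModPair.interior (𝓘.comap π) := by
    ext x
    show (π x ∉ (𝓘.support : Set X)) ↔ x ∉ ((𝓘.comap π).support : Set X')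
    rw [Scheme.IdealSheafData.support_comap]
    rfl
  haveI : IsSchemeTheoreticallyDominant (π ⁻¹ᵁ O).ι := by
    rw [hO]
    exact ⟨Groth.Agent.ModPairFrac.ker_ι_interior hπ.1⟩
  rw [← Scheme.homOfLE_ι X' hle]
  infer_instance

end Groth.Agent.S17887
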