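import Groth.Statements.S17888
import Groth.Agent.Nagata.Bundles
-- import your own Groth.Agent.* helpers here

set_option autoImplicit false
universe u
open CategoryTheory AlgebraicGeometry
open FlatMor

namespace Groth.Agent.S17888

/-- S is a Noetherian scheme and f : X → S is separated and of finite type; X is covered by two open
subschemes X₁ and X₂, both containing an open subscheme U that is schematically dense in X; and E₁
on X₁, E₂ on X₂ are finite locally free modules that become isomorphic after restricting to U. Then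
there exist a proper morphism π : X' → X which restricts to an isomorphism over U and under which
the preimage of U is schematically dense in X', and a finite locally free module E' on X' whose
restriction to π⁻¹(U) is isomorphic to the pullback of E₁|_U along π⁻¹(U) → U. -/
theorem result {S X : Scheme.{u}} (f : X ⟶ S)
    [IsNoetherian S] [IsSeparated f] [QuasiCompact f] [LocallyOfFiniteType f]
    (U X₁ X₂ : X.Opens) (hU₁ : U ≤ X₁) (hU₂ : U ≤ X₂) (hX : X₁ ⊔ X₂ = ⊤)
    [IsSchemeTheoreticallyDominant U.ι]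
    (E₁ : (↑X₁ : Scheme.{u}).Modules) (E₂ : (↑X₂ : Scheme.{u}).Modules)
    (hE₁ : FlatMod.IsFinLocFree E₁) (hE₂ : FlatMod.IsFinLocFree E₂)
    (φ : (Scheme.Modules.pullback (X.homOfLE hU₁)).obj E₁ ≅ (Scheme.Modules.pullback (X.homOfLE hU₂)).obj E₂) :
    ∃ (X' : Scheme.{u}) (π : X' ⟶ X) (E' : X'.Modules), IsProper π ∧ IsIso (π ∣_ U) ∧
      IsSchemeTheoreticallyDominant (π ⁻¹ᵁ U).ι ∧ FlatMod.IsFinLocFree E' ∧
      Nonempty ((Scheme.Modules.pullback (π ⁻¹ᵁ U).ι).obj E' ≅
        (Scheme.Modules.pullback (π ∣_ U ≫ X.homOfLE hU₁)).obj E₁) := by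
  haveI := LocallyOfFiniteType.isLocallyNoetherian f
  haveI : CompactSpace X := QuasiCompact.compactSpace_of_compactSpace f
  haveI : IsNoetherian X := {}
  haveI : CompactSpace U.toScheme := isCompact_iff_compactSpace.1 (TopologicalSpace.NoetherianSpace.isCompact _)
  haveI : QuasiCompact U.ι := quasiCompact_of_compactSpace _
  obtain ⟨Y, j, p, _, _, _, _, hjp, hext⟩ := Groth.Agent.Nagata.exists_good U.ι
    (fun _ : Unit => (Scheme.Modules.pullback (X.homOfLE hU₁)).obj E₁) (fun _ => DerPerf.isFinLocFree_pullback _ hE₁)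
  obtain ⟨E', hE', ⟨e⟩⟩ := hext ()
  haveI : IsIso (⊤ : U.toScheme.Opens).ι := by rw [← Scheme.topIso_hom]; infer_instance
  have hd : DenseRange j.base := j.denseRange
  have hpre := Groth.Agent.Nagata.preimage_eq_of_dense j hd U.ι p ⊤ (by simp) (⊤ : U.toScheme.Opens).ι (by rw [hjp])
  rw [Scheme.Opens.opensRange_ι, Scheme.Hom.image_top_eq_opensRange] at hpre
  let l := IsOpenImmersion.lift (p ⁻¹ᵁ U).ι j (by rw [Scheme.Opens.range_ι, hpre]; rfl)
  have hl : l ≫ (p ⁻¹ᵁ U).ι = j := IsOpenImmersion.lift_fac _ _ _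
  haveI : IsOpenImmersion (l ≫ (p ⁻¹ᵁ U).ι) := hl ▸ inferInstance
  haveI : IsOpenImmersion l := IsOpenImmersion.of_comp l (p ⁻¹ᵁ U).ι
  haveI : IsIso l := (isIso_iff_isOpenImmersion_and_surjective _).2 ⟨inferInstance, ⟨fun v => by
    obtain ⟨x, hx⟩ := (hpre.le v.2 : v.1 ∈ j.opensRange)
    refine ⟨x, (p ⁻¹ᵁ U).ι.isOpenEmbedding.injective ?_⟩
    rw [← Scheme.Hom.comp_apply, hl]
    exact hx⟩⟩
  have hlp : p ∣_ U = inv l := by
    rw [← cancel_epi l, IsIso.hom_inv_id, ← cancel_mono U.ι, Category.assoc, morphismRestrict_ι, reassoc_of% hl, hjp,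
      Category.id_comp]
  have hV : (p ⁻¹ᵁ U).ι = inv l ≫ j := by rw [IsIso.eq_inv_comp, hl]
  refine ⟨Y, p, E', inferInstance, hlp ▸ inferInstance, ?_, hE', ⟨?_⟩⟩
  · rw [hV]
    infer_instance
  · exact (Scheme.Modules.pullbackCongr hV).app E' ≪≫ (Scheme.Modules.pullbackComp (inv l) j).symm.app E' ≪≫
      (Scheme.Modules.pullback (inv l)).mapIso e ≪≫ (Scheme.Modules.pullbackComp (inv l) (X.homOfLE hU₁)).app E₁ ≪≫
      (Scheme.Modules.pullbackCongr (show inv l ≫ X.homOfLE hU₁ = p ∣_ U ≫ X.homOfLE hU₁ by rw [hlp])).app E₁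

end Groth.Agent.S17888
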