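import Groth.Statements.S17890
import Groth.Agent.Nagata.Graph
-- import your own Groth.Agent.* helpers here

set_option autoImplicit false
universe u
open CategoryTheory AlgebraicGeometry
open FlatMor

namespace Groth.Agent.S17890

/-- Let S be a Noetherian scheme, X₁ and X₂ separated S-schemes of finite type, and j₁ : U → X₁, j₂ : U
→ X₂ open immersions over S with schematically dense images. Suppose X₁ quasi-dominates X₂ and X₂
quasi-dominates X₁ compatibly with U: there are schematically dense opens W₁ ⊆ X₁ and W₂ ⊆ X₂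
through which j₁, j₂ factor, and S-morphisms φ : W₁ → X₂, ψ : W₂ → X₁ restricting to j₂ and j₁ on U,
whose graphs are closed subsets of X₁ ×_S X₂ and X₂ ×_S X₁. Then there exist a separated S-scheme Y
of finite type and open immersions i₁ : X₁ → Y, i₂ : X₂ → Y over S with j₁ ≫ i₁ = j₂ ≫ i₂, such that
U → Y has schematically dense image. -/
theorem result {S X₁ X₂ U : Scheme.{u}} [IsNoetherian S]
    (p₁ : X₁ ⟶ S) (p₂ : X₂ ⟶ S) [IsSeparated p₁] [QuasiCompact p₁] [LocallyOfFiniteType p₁]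
    [IsSeparated p₂] [QuasiCompact p₂] [LocallyOfFiniteType p₂]
    (j₁ : U ⟶ X₁) (j₂ : U ⟶ X₂) [IsOpenImmersion j₁] [IsOpenImmersion j₂]
    [IsSchemeTheoreticallyDominant j₁] [IsSchemeTheoreticallyDominant j₂] (hj : j₁ ≫ p₁ = j₂ ≫ p₂)
    (W₁ : X₁.Opens) [IsSchemeTheoreticallyDominant W₁.ι] (φ : (↑W₁ : Scheme.{u}) ⟶ X₂)
    (hφ : W₁.ι ≫ p₁ = φ ≫ p₂)
    (hφc : IsClosed (Set.range (fun w => (Limits.pullback.lift W₁.ι φ hφ) w)))
    (k₁ : U ⟶ ↑W₁) (hk₁ : k₁ ≫ W₁.ι = j₁) (hk₁' : k₁ ≫ φ = j₂)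
    (W₂ : X₂.Opens) [IsSchemeTheoreticallyDominant W₂.ι] (ψ : (↑W₂ : Scheme.{u}) ⟶ X₁)
    (hψ : W₂.ι ≫ p₂ = ψ ≫ p₁)
    (hψc : IsClosed (Set.range (fun w => (Limits.pullback.lift W₂.ι ψ hψ) w)))
    (k₂ : U ⟶ ↑W₂) (hk₂ : k₂ ≫ W₂.ι = j₂) (hk₂' : k₂ ≫ ψ = j₁) :
    ∃ (Y : Scheme.{u}) (q : Y ⟶ S) (i₁ : X₁ ⟶ Y) (i₂ : X₂ ⟶ Y), IsSeparated q ∧ QuasiCompact q ∧
      LocallyOfFiniteType q ∧ IsOpenImmersion i₁ ∧ IsOpenImmersion i₂ ∧ i₁ ≫ q = p₁ ∧ i₂ ≫ q = p₂ ∧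
      j₁ ≫ i₁ = j₂ ≫ i₂ ∧ QuasiCompact (j₁ ≫ i₁) ∧ IsSchemeTheoreticallyDominant (j₁ ≫ i₁) := by
  haveI : IsLocallyNoetherian X₁ := LocallyOfFiniteType.isLocallyNoetherian p₁
  haveI : IsLocallyNoetherian X₂ := LocallyOfFiniteType.isLocallyNoetherian p₂
  haveI : CompactSpace X₁ := QuasiCompact.compactSpace_of_compactSpace p₁
  haveI : CompactSpace X₂ := QuasiCompact.compactSpace_of_compactSpace p₂
  haveI : IsNoetherian X₁ := {}
  haveI : IsNoetherian X₂ := {}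
  haveI : CompactSpace U := by
    have h := TopologicalSpace.NoetherianSpace.isCompact (Set.range j₁)
    exact ⟨(j₁.isOpenEmbedding.isEmbedding.isCompact_iff).2 (by rwa [Set.image_univ])⟩
  let V₁ : W₁.toScheme.Opens := φ ⁻¹ᵁ W₂
  let V₂ : W₂.toScheme.Opens := ψ ⁻¹ᵁ W₁
  let a₁ : V₁.toScheme ⟶ X₁ := V₁.ι ≫ W₁.ι
  let τ : V₁.toScheme ⟶ W₂.toScheme := φ ∣_ W₂
  let σ : V₂.toScheme ⟶ W₁.toScheme := ψ ∣_ W₁
  have hτ : τ ≫ W₂.ι = V₁.ι ≫ φ := morphismRestrict_ι φ W₂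
  have hσ : σ ≫ W₁.ι = V₂.ι ≫ ψ := morphismRestrict_ι ψ W₁
  let u₁ : U ⟶ V₁.toScheme := IsOpenImmersion.lift V₁.ι k₁ (by
    rw [Scheme.Opens.range_ι]
    rintro _ ⟨x, rfl⟩
    show φ (k₁ x) ∈ W₂
    rw [← Scheme.Hom.comp_apply, hk₁', ← hk₂, Scheme.Hom.comp_apply]
    exact (k₂ x).2)
  have hu₁ : u₁ ≫ V₁.ι = k₁ := IsOpenImmersion.lift_fac _ _ _
  let u₂ : U ⟶ V₂.toScheme := IsOpenImmersion.lift V₂.ι k₂ (by
    rw [Scheme.Opens.range_ι]
    rintro _ ⟨x, rfl⟩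
    show ψ (k₂ x) ∈ W₁
    rw [← Scheme.Hom.comp_apply, hk₂', ← hk₁, Scheme.Hom.comp_apply]
    exact (k₁ x).2)
  have hu₂ : u₂ ≫ V₂.ι = k₂ := IsOpenImmersion.lift_fac _ _ _
  haveI : QuasiCompact j₁ := quasiCompact_of_compactSpace j₁
  haveI : QuasiCompact j₂ := quasiCompact_of_compactSpace j₂
  have e₁ : u₁ ≫ a₁ = j₁ := by rw [← Category.assoc, hu₁, hk₁]
  haveI : IsSchemeTheoreticallyDominant (u₁ ≫ a₁) := e₁ ▸ inferInstance
  haveI : QuasiCompact (u₁ ≫ a₁) := e₁ ▸ inferInstance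
  haveI : IsSchemeTheoreticallyDominant u₁ := Groth.Agent.Nagata.schemDom_of_comp_openImmersion u₁ a₁
  have e₂ : u₂ ≫ V₂.ι ≫ W₂.ι = j₂ := by rw [← Category.assoc, hu₂, hk₂]
  haveI : IsSchemeTheoreticallyDominant (u₂ ≫ V₂.ι ≫ W₂.ι) := e₂ ▸ inferInstance
  haveI : QuasiCompact (u₂ ≫ V₂.ι ≫ W₂.ι) := e₂ ▸ inferInstance
  haveI : IsSchemeTheoreticallyDominant u₂ := Groth.Agent.Nagata.schemDom_of_comp_openImmersion u₂ (V₂.ι ≫ W₂.ι)
  have hk : u₁ ≫ τ = k₂ := by rw [← cancel_mono W₂.ι, Category.assoc, hτ, reassoc_of% hu₁, hk₁', hk₂]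
  have hk' : u₂ ≫ σ = k₁ := by rw [← cancel_mono W₁.ι, Category.assoc, hσ, reassoc_of% hu₂, hk₂', hk₁]
  have hτψ : τ ≫ ψ = a₁ := by
    refine Groth.Agent.Nagata.ext_of_schemDom p₁ u₁ _ _ ?_ ?_
    · rw [Category.assoc, ← hψ, reassoc_of% hτ, ← hφ, Category.assoc]
    · rw [reassoc_of% hk, hk₂', e₁]
  have hσφ : σ ≫ φ = V₂.ι ≫ W₂.ι := by
    refine Groth.Agent.Nagata.ext_of_schemDom p₂ u₂ _ _ ?_ ?_
    · rw [Category.assoc, ← hφ, reassoc_of% hσ, ← hψ, Category.assoc]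
    · rw [reassoc_of% hk', hk₁', e₂]
  let τ' : V₁.toScheme ⟶ V₂.toScheme := IsOpenImmersion.lift V₂.ι τ (by
    rw [Scheme.Opens.range_ι]
    rintro _ ⟨x, rfl⟩
    show ψ (τ x) ∈ W₁
    rw [← Scheme.Hom.comp_apply, hτψ]
    exact (V₁.ι x).2)
  let σ' : V₂.toScheme ⟶ V₁.toScheme := IsOpenImmersion.lift V₁.ι σ (by
    rw [Scheme.Opens.range_ι]
    rintro _ ⟨x, rfl⟩
    show φ (σ x) ∈ W₂
    rw [← Scheme.Hom.comp_apply, hσφ]
    exact (V₂.ι x).2)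
  have hτ' : τ' ≫ V₂.ι = τ := IsOpenImmersion.lift_fac _ _ _
  have hσ' : σ' ≫ V₁.ι = σ := IsOpenImmersion.lift_fac _ _ _
  haveI : IsIso τ' := ⟨σ', by
    rw [← cancel_mono V₁.ι, ← cancel_mono W₁.ι]
    simp only [Category.assoc, Category.id_comp]
    rw [reassoc_of% hσ', hσ, reassoc_of% hτ', hτψ], by
    rw [← cancel_mono V₂.ι, ← cancel_mono W₂.ι]
    simp only [Category.assoc, Category.id_comp]
    rw [reassoc_of% hτ', hτ, reassoc_of% hσ', hσφ]⟩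
  haveI : IsOpenImmersion τ := hτ' ▸ inferInstance
  let a₂ : V₁.toScheme ⟶ X₂ := τ ≫ W₂.ι
  have h : a₁ ≫ p₁ = a₂ ≫ p₂ := by
    show (V₁.ι ≫ W₁.ι) ≫ p₁ = (τ ≫ W₂.ι) ≫ p₂
    rw [hτ, Category.assoc, Category.assoc, hφ]
  haveI : IsOpenImmersion a₁ := inferInstance
  haveI : IsOpenImmersion a₂ := inferInstance
  let gφ := Limits.pullback.lift W₁.ι φ hφ
  let gψ := Limits.pullback.lift ψ W₂.ι hψ.symm
  have hgψ : IsClosed (Set.range gψ) := by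
    have e : gψ = Limits.pullback.lift W₂.ι ψ hψ ≫ (Limits.pullbackSymmetry p₂ p₁).hom := by
      apply Limits.pullback.hom_ext <;> simp [gψ, Limits.pullback.lift_fst, Limits.pullback.lift_snd, Limits.pullbackSymmetry_hom_comp_fst, Limits.pullbackSymmetry_hom_comp_snd, Category.assoc]
    rw [e, Scheme.Hom.comp_base, TopCat.coe_comp, Set.range_comp]
    exact (Limits.pullbackSymmetry p₂ p₁).hom.isClosedMap _ hψc
  have hl₁ : Limits.pullback.lift a₁ a₂ h = V₁.ι ≫ gφ := by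
    apply Limits.pullback.hom_ext <;> simp [gφ, a₁, a₂, hτ, Limits.pullback.lift_fst, Limits.pullback.lift_snd, Limits.pullbackSymmetry_hom_comp_fst, Limits.pullbackSymmetry_hom_comp_snd, Category.assoc]
  have hl₂ : Limits.pullback.lift a₁ a₂ h = τ ≫ gψ := by
    apply Limits.pullback.hom_ext <;> simp [gψ, a₂, hτψ, Limits.pullback.lift_fst, Limits.pullback.lift_snd, Limits.pullbackSymmetry_hom_comp_fst, Limits.pullbackSymmetry_hom_comp_snd, Category.assoc]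
  have hcl : IsClosed (Set.range (Limits.pullback.lift a₁ a₂ h)) := by
    have e : Set.range (Limits.pullback.lift a₁ a₂ h) = Set.range gφ ∩ Set.range gψ := by
      apply Set.Subset.antisymm
      · rintro _ ⟨v, rfl⟩
        exact ⟨⟨V₁.ι v, by rw [hl₁]; rfl⟩, ⟨τ v, by rw [hl₂]; rfl⟩⟩
      · rintro z ⟨⟨w, rfl⟩, w', hw'⟩
        have hw : φ w ∈ W₂ := by
          have e' : φ w = W₂.ι w' := by
            have e₀ := congrArg (Limits.pullback.snd p₁ p₂) hw'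
            simp only [gφ, gψ, ← Scheme.Hom.comp_apply, Limits.pullback.lift_snd] at e₀
            exact e₀.symm
          rw [e']
          exact w'.2
        exact ⟨⟨w, hw⟩, by rw [hl₁]; rfl⟩
    rw [e]
    exact hφc.inter hgψ
  haveI : IsSeparated (Limits.pushout.desc p₁ p₂ h) :=
    Groth.Agent.RZExt.isSeparated_pushout_desc a₁ a₂ p₁ p₂ h hcl
  obtain ⟨hlft, hqc⟩ := Groth.Agent.RZExt.finite_type_pushout_desc a₁ a₂ p₁ p₂ h
  haveI := Groth.Agent.LimModel.isOpenImmersion_inl a₁ a₂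
  haveI := Groth.Agent.LimModel.isOpenImmersion_inr a₁ a₂
  let i₁ := Limits.pushout.inl a₁ a₂
  let i₂ := Limits.pushout.inr a₁ a₂
  let q := Limits.pushout.desc p₁ p₂ h
  haveI : QuasiSeparatedSpace ↥(Limits.pushout a₁ a₂) := quasiSeparatedSpace_of_quasiSeparated q
  haveI : QuasiCompact (j₁ ≫ i₁) := quasiCompact_of_compactSpace _
  have hij : j₁ ≫ i₁ = j₂ ≫ i₂ := by
    have e₂' : u₁ ≫ a₂ = j₂ := by rw [← Category.assoc, hk, hk₂]
    show j₁ ≫ Limits.pushout.inl a₁ a₂ = j₂ ≫ Limits.pushout.inr a₁ a₂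
    rw [← e₁, ← e₂']
    exact (Category.assoc u₁ a₁ _).trans
      ((congrArg (fun t => u₁ ≫ t) Limits.pushout.condition).trans (Category.assoc u₁ a₂ _).symm)
  refine ⟨Limits.pushout a₁ a₂, q, i₁, i₂, inferInstance, hqc, hlft, inferInstance, inferInstance,
    Limits.pushout.inl_desc _ _ _, Limits.pushout.inr_desc _ _ _, hij, inferInstance, ?_⟩
  refine Groth.Agent.Nagata.schemDom_of_cover (j₁ ≫ i₁) (fun b : Bool => cond b i₁.opensRange i₂.opensRange)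
    (fun y => ?_) ?_
  · rcases (Groth.Agent.LimModel.inl_range_sup_inr_range a₁ a₂).ge (Set.mem_univ y) with ⟨x, hx⟩ | ⟨x, hx⟩
    · exact ⟨true, x, hx⟩
    · exact ⟨false, x, hx⟩
  have key : ∀ {X : Scheme.{u}} (i : X ⟶ Limits.pushout a₁ a₂) [IsOpenImmersion i] (j : U ⟶ X)
      [IsSchemeTheoreticallyDominant j] [QuasiCompact j], j ≫ i = j₁ ≫ i₁ →
      IsSchemeTheoreticallyDominant ((j₁ ≫ i₁) ∣_ i.opensRange) := by
    intro X i _ j _ _ hji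
    let m : U ⟶ i.opensRange.toScheme := j ≫ i.isoOpensRange.hom
    have hm : m ≫ i.opensRange.ι = j₁ ≫ i₁ := by rw [Category.assoc, Scheme.Hom.isoOpensRange_hom_ι, hji]
    have htop : ∀ x, x ∈ (j₁ ≫ i₁) ⁻¹ᵁ i.opensRange := fun x => by
      show (j₁ ≫ i₁) x ∈ i.opensRange
      rw [← hji, Scheme.Hom.comp_apply]
      exact ⟨_, rfl⟩
    haveI : IsIso ((j₁ ≫ i₁) ⁻¹ᵁ i.opensRange).ι :=
      (isIso_iff_isOpenImmersion_and_surjective _).2 ⟨inferInstance, ⟨fun x => ⟨⟨x, htop x⟩, rfl⟩⟩⟩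
    have e : (j₁ ≫ i₁) ∣_ i.opensRange = ((j₁ ≫ i₁) ⁻¹ᵁ i.opensRange).ι ≫ m := by
      rw [← cancel_mono i.opensRange.ι, morphismRestrict_ι, Category.assoc, hm]
    rw [e]
    infer_instance
  intro b
  cases b
  · exact key i₂ j₂ hij.symm
  · exact key i₁ j₁ rfl

end Groth.Agent.S17890
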