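import Groth.Statements.S17893
import Groth.Agent.YBlowUp.Main
-- import your own Groth.Agent.* helpers here

set_option autoImplicit false
universe u
open CategoryTheory AlgebraicGeometry
open FlatMor

namespace Groth.Agent.S17893

/-- Here f : Y → X is an affine morphism with X and Y quasi-compact and quasi-separated; a
Y-modification of X is a factorization f = fᵢ ≫ gᵢ with fᵢ : Y → Xᵢ schematically dominant and gᵢ :
Xᵢ → X proper, and it is a Y-blow-up of X when Xᵢ carries a gᵢ-ample module L with a section ε : O →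
L whose pullback along fᵢ is an isomorphism (a Y-trivialization). Every Y-modification (X', f', g')
of X is dominated by a Y-blow-up: there exist a Y-blow-up (X₁, f₁, g₁) of X and a morphism d : X₁ →
X' with f₁ ≫ d = f' and d ≫ g' = g₁. -/
theorem result {X Y : Scheme.{u}} (f : Y ⟶ X)
    [CompactSpace X] [QuasiSeparatedSpace X] [CompactSpace Y] [QuasiSeparatedSpace Y] [IsAffineHom f]
    {X' : Scheme.{u}} (f' : Y ⟶ X') (g' : X' ⟶ X) [IsSchemeTheoreticallyDominant f'] [IsProper g']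
    (hf' : f' ≫ g' = f) :
    ∃ (X₁ : Scheme.{u}) (f₁ : Y ⟶ X₁) (g₁ : X₁ ⟶ X) (d : X₁ ⟶ X'),
      (IsSchemeTheoreticallyDominant f₁ ∧ IsProper g₁ ∧ f₁ ≫ g₁ = f ∧
        ∃ (L : X₁.Modules) (ε : Coh.structureModule X₁ ⟶ L),
          RelAmple.IsRelAmple g₁ L ∧ IsIso ((Scheme.Modules.pullback f₁).map ε)) ∧ f₁ ≫ d = f' ∧ d ≫ g' = g₁ := by
  obtain ⟨X₁, f₁, g₁, d, hd, hp, hfg, hL, h1, h2⟩ := Groth.Agent.YBlowUp.exists_dominating f f' g' hf'
  exact ⟨X₁, f₁, g₁, d, ⟨hd, hp, hfg, hL⟩, h1, h2⟩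

end Groth.Agent.S17893
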