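import Groth.Statements.S17896
import Groth.Agent.Nagata.Bundles
import Groth.Agent.Nagata.Graph
-- import your own Groth.Agent.* helpers here

set_option autoImplicit false
universe u
open CategoryTheory AlgebraicGeometry
open FlatMor

namespace Groth.Agent.S17896

/-- Let S be a Noetherian scheme, X₁ and X₂ separated S-schemes of finite type and j₁ : U → X₁, j₂ : U →
X₂ open immersions over S with schematically dense images, and let E be an O_U-module extending to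
finite locally free modules E₁ on X₁ and E₂ on X₂ (pullbacks along jᵢ isomorphic to E). Then there
exist a separated S-scheme X of finite type, an open immersion k : U → X over S with schematically
dense image, a finite locally free module E' on X whose pullback along k is isomorphic to E, and for
i = 1, 2 a proper quasi-domination of X over Xᵢ compatible with U: a schematically dense open Wᵢ ⊆ X
through which k factors and a proper S-morphism φᵢ : Wᵢ → Xᵢ restricting to jᵢ on U, whose graph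
morphism Wᵢ → X ×_S Xᵢ has closed image. -/
theorem result {S X₁ X₂ U : Scheme.{u}}
    [IsNoetherian S] (p₁ : X₁ ⟶ S) (p₂ : X₂ ⟶ S)
    [IsSeparated p₁] [QuasiCompact p₁] [LocallyOfFiniteType p₁]
    [IsSeparated p₂] [QuasiCompact p₂] [LocallyOfFiniteType p₂]
    (j₁ : U ⟶ X₁) (j₂ : U ⟶ X₂) [IsOpenImmersion j₁] [IsOpenImmersion j₂]
    [IsSchemeTheoreticallyDominant j₁] [IsSchemeTheoreticallyDominant j₂] (hj : j₁ ≫ p₁ = j₂ ≫ p₂)
    (E : U.Modules) (E₁ : X₁.Modules) (E₂ : X₂.Modules)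
    (hE₁ : FlatMod.IsFinLocFree E₁) (hE₂ : FlatMod.IsFinLocFree E₂)
    (e₁ : (Scheme.Modules.pullback j₁).obj E₁ ≅ E) (e₂ : (Scheme.Modules.pullback j₂).obj E₂ ≅ E) :
    ∃ (X : Scheme.{u}) (p : X ⟶ S) (k : U ⟶ X) (E' : X.Modules),
      IsSeparated p ∧ QuasiCompact p ∧ LocallyOfFiniteType p ∧ IsOpenImmersion k ∧ QuasiCompact k ∧
      IsSchemeTheoreticallyDominant k ∧ k ≫ p = j₁ ≫ p₁ ∧ FlatMod.IsFinLocFree E' ∧
      Nonempty ((Scheme.Modules.pullback k).obj E' ≅ E) ∧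
      (∃ (W₁ : X.Opens) (φ₁ : (↑W₁ : Scheme.{u}) ⟶ X₁) (hφ₁ : W₁.ι ≫ p = φ₁ ≫ p₁) (l₁ : U ⟶ ↑W₁),
        IsSchemeTheoreticallyDominant W₁.ι ∧ IsProper φ₁ ∧ l₁ ≫ W₁.ι = k ∧ l₁ ≫ φ₁ = j₁ ∧
        IsClosed (Set.range (fun w => (Limits.pullback.lift W₁.ι φ₁ hφ₁) w))) ∧
      (∃ (W₂ : X.Opens) (φ₂ : (↑W₂ : Scheme.{u}) ⟶ X₂) (hφ₂ : W₂.ι ≫ p = φ₂ ≫ p₂) (l₂ : U ⟶ ↑W₂),
        IsSchemeTheoreticallyDominant W₂.ι ∧ IsProper φ₂ ∧ l₂ ≫ W₂.ι = k ∧ l₂ ≫ φ₂ = j₂ ∧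
        IsClosed (Set.range (fun w => (Limits.pullback.lift W₂.ι φ₂ hφ₂) w))) := by
  haveI : IsLocallyNoetherian X₁ := LocallyOfFiniteType.isLocallyNoetherian p₁
  haveI : CompactSpace X₁ := QuasiCompact.compactSpace_of_compactSpace p₁
  haveI : IsNoetherian X₁ := {}
  haveI : CompactSpace U := by
    have h := TopologicalSpace.NoetherianSpace.isCompact (Set.range j₁)
    exact ⟨(j₁.isOpenEmbedding.isEmbedding.isCompact_iff).2 (by rwa [Set.image_univ])⟩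
  haveI : QuasiCompact j₁ := quasiCompact_of_compactSpace j₁
  let f := j₁ ≫ p₁
  have hE : FlatMod.IsFinLocFree E :=
    fun x => by
    obtain ⟨V, n, hV, ⟨a⟩⟩ := DerPerf.isFinLocFree_pullback j₁ hE₁ x
    exact ⟨V, n, hV, ⟨((Scheme.Modules.restrictFunctor V.ι).mapIso e₁).symm ≪≫ a⟩⟩
  obtain ⟨P₁, c₁, q₁, _, _, _, h₁⟩ := Groth.Agent.S0384.result p₁
  obtain ⟨P₂, c₂, q₂, _, _, _, h₂⟩ := Groth.Agent.S0384.result p₂
  obtain ⟨Y, j, q, b₁, b₂, _, _, _, _, _, hjq, hb₁, hb₂, hjb₁, hjb₂⟩ :=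
    Groth.Agent.Nagata.exists_over_two f q₁ q₂ (j₁ ≫ c₁) (j₂ ≫ c₂) (by rw [Category.assoc, h₁])
      (by rw [Category.assoc, h₂, ← hj])
  haveI : IsLocallyNoetherian Y := LocallyOfFiniteType.isLocallyNoetherian q
  haveI : CompactSpace Y := QuasiCompact.compactSpace_of_compactSpace q
  haveI : IsNoetherian Y := {}
  obtain ⟨Y', j', π, _, _, _, _, hjπ, hext⟩ := Groth.Agent.Nagata.exists_good j (fun _ : Unit => E) (fun _ => hE)
  obtain ⟨E', hE', ⟨eE⟩⟩ := hext ()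
  haveI : IsProper (b₁ ≫ q₁) := hb₁ ▸ inferInstance
  haveI : IsProper (b₂ ≫ q₂) := hb₂ ▸ inferInstance
  haveI : IsProper b₁ := IsProper.of_comp (f := b₁) (g := q₁)
  haveI : IsProper b₂ := IsProper.of_comp (f := b₂) (g := q₂)
  haveI : CompactSpace Y' := QuasiCompact.compactSpace_of_compactSpace π
  haveI : IsLocallyNoetherian Y' := LocallyOfFiniteType.isLocallyNoetherian π
  haveI : IsNoetherian Y' := {}
  let W : Y'.Opens := (π ≫ b₁) ⁻¹ᵁ c₁.opensRange ⊔ (π ≫ b₂) ⁻¹ᵁ c₂.opensRange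
  have hk : Set.range j' ⊆ Set.range W.ι := by
    rw [Scheme.Opens.range_ι]
    rintro _ ⟨x, rfl⟩
    refine TopologicalSpace.Opens.mem_sup.2 (Or.inl ⟨j₁ x, ?_⟩)
    rw [← Scheme.Hom.comp_apply, ← hjb₁, ← hjπ, Category.assoc, Scheme.Hom.comp_apply]
  let k : U ⟶ W.toScheme := IsOpenImmersion.lift W.ι j' hk
  have hkι : k ≫ W.ι = j' := IsOpenImmersion.lift_fac _ _ _
  haveI : IsOpenImmersion (k ≫ W.ι) := hkι ▸ inferInstance
  haveI : IsOpenImmersion k := IsOpenImmersion.of_comp k W.ι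
  haveI : CompactSpace W.toScheme := isCompact_iff_compactSpace.1 (TopologicalSpace.NoetherianSpace.isCompact _)
  haveI : QuasiCompact W.ι := quasiCompact_of_compactSpace _
  haveI : QuasiCompact (k ≫ W.ι) := hkι ▸ inferInstance
  haveI : IsSchemeTheoreticallyDominant (k ≫ W.ι) := hkι ▸ inferInstance
  haveI : QuasiCompact k := QuasiCompact.of_comp k W.ι
  haveI : IsSchemeTheoreticallyDominant k := Groth.Agent.Nagata.schemDom_of_comp_openImmersion k W.ι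
  let p : W.toScheme ⟶ S := W.ι ≫ π ≫ q
  have hkp : k ≫ p = j₁ ≫ p₁ := by rw [← Category.assoc, hkι, ← Category.assoc, hjπ, hjq]
  refine ⟨W.toScheme, p, k, (Scheme.Modules.pullback W.ι).obj E', inferInstance, inferInstance, inferInstance,
    inferInstance, inferInstance, inferInstance, hkp, DerPerf.isFinLocFree_pullback _ hE',
    ⟨(Scheme.Modules.pullbackComp k W.ι).app E' ≪≫ (Scheme.Modules.pullbackCongr hkι).app E' ≪≫ eE⟩, ?_⟩
  have key : ∀ {X P : Scheme.{u}} (pX : X ⟶ S) [IsSeparated pX] (c : X ⟶ P) [IsOpenImmersion c] (t : P ⟶ S),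
      c ≫ t = pX → ∀ (b : Y' ⟶ P) [IsProper b], b ≫ t = π ≫ q → ∀ (jX : U ⟶ X), jX ≫ c = j' ≫ b →
      b ⁻¹ᵁ c.opensRange ≤ W →
      ∃ (W₁ : W.toScheme.Opens) (φ : W₁.toScheme ⟶ X) (hφ : W₁.ι ≫ p = φ ≫ pX) (l : U ⟶ W₁.toScheme),
        IsSchemeTheoreticallyDominant W₁.ι ∧ IsProper φ ∧ l ≫ W₁.ι = k ∧ l ≫ φ = jX ∧
        IsClosed (Set.range (fun w => (Limits.pullback.lift W₁.ι φ hφ) w)) := by
    intro X P pX _ c _ t hct b _ hbt jX hjX hle
    let W₀ : Y'.Opens := b ⁻¹ᵁ c.opensRange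
    let W₁ : W.toScheme.Opens := W.ι ⁻¹ᵁ W₀
    let r : W₁.toScheme ⟶ W₀.toScheme := W.ι ∣_ W₀
    haveI : IsIso r := by
      refine (isIso_iff_isOpenImmersion_and_surjective _).2 ⟨inferInstance, ⟨fun v => ⟨⟨⟨v.1, hle v.2⟩, v.2⟩, ?_⟩⟩⟩
      rw [morphismRestrict_base]
      rfl
    let φ : W₁.toScheme ⟶ X := r ≫ (b ∣_ c.opensRange) ≫ c.isoOpensRange.inv
    have hφc : φ ≫ c = W₁.ι ≫ W.ι ≫ b := by
      simp only [φ, Category.assoc, Scheme.Hom.isoOpensRange_inv_comp, morphismRestrict_ι]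
      exact morphismRestrict_ι_assoc W.ι W₀ b
    have hφ : W₁.ι ≫ p = φ ≫ pX := by
      rw [← hct, reassoc_of% hφc, hbt]
    have hl : Set.range k ⊆ Set.range W₁.ι := by
      rw [Scheme.Opens.range_ι]
      rintro _ ⟨x, rfl⟩
      show b (W.ι (k x)) ∈ c.opensRange
      refine ⟨jX x, ?_⟩
      rw [← Scheme.Hom.comp_apply, hjX, ← hkι, Category.assoc, Scheme.Hom.comp_apply, Scheme.Hom.comp_apply]
    let l : U ⟶ W₁.toScheme := IsOpenImmersion.lift W₁.ι k hl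
    have hlk : l ≫ W₁.ι = k := IsOpenImmersion.lift_fac _ _ _
    haveI : IsSchemeTheoreticallyDominant (l ≫ W₁.ι) := hlk ▸ inferInstance
    refine ⟨W₁, φ, hφ, l, Groth.Agent.Nagata.schemDom_of_comp l W₁.ι, inferInstance, hlk, ?_,
      Groth.Agent.Nagata.isClosed_range_lift p pX W₁.ι φ hφ⟩
    rw [← cancel_mono c, Category.assoc, hφc, reassoc_of% hlk, reassoc_of% hkι, hjX]
  exact ⟨key p₁ c₁ q₁ h₁ (π ≫ b₁) (by rw [Category.assoc, hb₁]) j₁ (by rw [reassoc_of% hjπ, hjb₁]) le_sup_left,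
    key p₂ c₂ q₂ h₂ (π ≫ b₂) (by rw [Category.assoc, hb₂]) j₂ (by rw [reassoc_of% hjπ, hjb₂]) le_sup_right⟩

end Groth.Agent.S17896
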