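import Groth.Statements.S17898
import Groth.Agent.ValComp.Basic

set_option linter.style.haveILetI false
set_option backward.isDefEq.respectTransparency false

set_option autoImplicit false
universe u
open CategoryTheory AlgebraicGeometry
open ValCrit

namespace Groth.Agent.S17898

/-- Let f : Y → X be a morphism of schemes (not assumed separated), K a field with valuation rings R ⊆
R' (inclusion ι), i : Spec K → Y and φ : Spec R → X a commutative square over f, and g : Spec R' → Y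
a lift of Spec R' → Spec R → X restricting to i on Spec K. Let K̃ be the residue field of R', R̃ ⊆
K̃ the image of R (a valuation ring of K̃) with the surjection σ : R → R̃. Then every h̃ : Spec R̃ →
Y whose restriction to Spec K̃ is Spec K̃ → Spec R' → Y (via g) and which lies over Spec R̃ → Spec R
→ X is induced by a unique h : Spec R → Y compatible with the whole diagram: h restricts to i on
Spec K, lies over φ, restricts to g along Spec R' → Spec R and to h̃ along Spec R̃ → Spec R. (ι, R̃,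
σ are given as data pinned by their defining equations.) -/
theorem result {X Y : Scheme.{u}} (f : Y ⟶ X)
    (K : Type u) [Field K] (R R' : ValuationSubring K) (hRR' : R ≤ R')
    (ι : ↥R →+* ↥R') (hι : ∀ x : ↥R, ((ι x : ↥R') : K) = (x : K))
    (i : Spec (CommRingCat.of K) ⟶ Y) (φ : Spec (CommRingCat.of ↥R) ⟶ X)
    (w : Spec.map (CommRingCat.ofHom R.subtype) ≫ φ = i ≫ f)
    (g : Spec (CommRingCat.of ↥R') ⟶ Y) (hg₁ : Spec.map (CommRingCat.ofHom R'.subtype) ≫ g = i)
    (hg₂ : g ≫ f = Spec.map (CommRingCat.ofHom ι) ≫ φ)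
    (Rt : ValuationSubring (IsLocalRing.ResidueField ↥R')) (σ : ↥R →+* ↥Rt) (hσs : Function.Surjective σ)
    (hσ : ∀ x : ↥R, ((σ x : ↥Rt) : IsLocalRing.ResidueField ↥R') = IsLocalRing.residue ↥R' (ι x))
    (ht : Spec (CommRingCat.of ↥Rt) ⟶ Y)
    (hht₁ : Spec.map (CommRingCat.ofHom Rt.subtype) ≫ ht =
      Spec.map (CommRingCat.ofHom (IsLocalRing.residue ↥R')) ≫ g)
    (hht₂ : ht ≫ f = Spec.map (CommRingCat.ofHom σ) ≫ φ) :
    ∃! h : Spec (CommRingCat.of ↥R) ⟶ Y, Spec.map (CommRingCat.ofHom R.subtype) ≫ h = i ∧ h ≫ f = φ ∧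
      Spec.map (CommRingCat.ofHom ι) ≫ h = g ∧ Spec.map (CommRingCat.ofHom σ) ≫ h = ht := by
  have hm : ∀ (x : ↥R') (hx : (x : K) ∉ R), IsUnit x := by
    intro x hx
    have hxi := (R.mem_or_inv_mem (x : K)).resolve_left hx
    exact isUnit_iff_exists_inv.mpr ⟨⟨_, hRR' hxi⟩, Subtype.ext
      (mul_inv_cancel₀ fun h0 => hx (h0 ▸ R.zero_mem))⟩
  have hR : R = Groth.Agent.DvrDom.composite R' Rt := by
    ext x
    constructor
    · intro hx
      have h1 : IsLocalRing.residue ↥R' (ι ⟨x, hx⟩) ∈ Rt := hσ ⟨x, hx⟩ ▸ (σ ⟨x, hx⟩).2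
      have h2 : ι ⟨x, hx⟩ = ⟨x, hRR' hx⟩ := Subtype.ext (hι _)
      exact ⟨hRR' hx, h2 ▸ h1⟩
    · rintro ⟨hx, hx'⟩
      obtain ⟨a, ha⟩ := hσs ⟨_, hx'⟩
      have h3 : IsLocalRing.residue ↥R' (⟨x, hx⟩ - ι a) = 0 := by
        rw [map_sub, ← hσ, ha, sub_self]
      have h4 : x - (a : K) ∈ R := by
        by_contra h5
        refine (IsLocalRing.mem_maximalIdeal _).mp ((IsLocalRing.residue_eq_zero_iff _).mp h3)
          (hm _ ?_)
        show x - (ι a : K) ∉ R
        rwa [hι]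
      simpa using add_mem h4 a.2
  subst hR
  obtain rfl : ι = Groth.Agent.ValComp.incl R' Rt := RingHom.ext fun x => Subtype.ext (hι x)
  obtain rfl : σ = Groth.Agent.DvrDom.compositeRes R' Rt :=
    RingHom.ext fun x => Subtype.ext ((hσ x).trans
      (Groth.Agent.DvrDom.compositeRes_apply R' Rt x).symm)
  obtain ⟨p, hp, hp'⟩ := Groth.Agent.ValComp.exists_glue R' Rt g ht hht₁
  have hgen : Spec.map (CommRingCat.ofHom (Groth.Agent.DvrDom.composite R' Rt).subtype) ≫ p = i := by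
    rw [← hg₁, ← hp, ← Spec.map_comp_assoc]
    rfl
  have hc : ∀ {T : Scheme.{u}} (q₁ q₂ : Spec (CommRingCat.of ↥(Groth.Agent.DvrDom.composite R' Rt)) ⟶ T),
      Spec.map (CommRingCat.ofHom (Groth.Agent.DvrDom.compositeRes R' Rt)) ≫ q₁ =
        Spec.map (CommRingCat.ofHom (Groth.Agent.DvrDom.compositeRes R' Rt)) ≫ q₂ →
      Spec.map (CommRingCat.ofHom (Groth.Agent.DvrDom.composite R' Rt).subtype) ≫ q₁ =
        Spec.map (CommRingCat.ofHom (Groth.Agent.DvrDom.composite R' Rt).subtype) ≫ q₂ → q₁ = q₂ := by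
    intro T q₁ q₂ e e'
    refine Groth.Agent.DvrDom.ext_of_closedPoint _ _ _ ?_ e'
    rw [← Groth.Agent.ValComp.map_closedPoint (Groth.Agent.DvrDom.compositeRes R' Rt),
      ← Scheme.Hom.comp_apply, ← Scheme.Hom.comp_apply, e]
  refine ⟨p, ⟨hgen, hc _ _ ?_ ?_, hp, hp'⟩, fun q hq => hc _ _ ?_ ?_⟩
  · rw [reassoc_of% hp', hht₂]
  · rw [reassoc_of% hgen, w]
  · exact hq.2.2.2.trans hp'.symm
  · exact hq.1.trans hgen.symm

end Groth.Agent.S17898
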