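import Groth.Statements.S17899
import Groth.Agent.ValFP.SemiVal
-- import your own Groth.Agent.* helpers here

set_option autoImplicit false
universe u
open TensorProduct
open CAlg

namespace Groth.Agent.S17899

/-- Let A be a local ring with residue field K, R a valuation ring of K and O ⊆ A the preimage of R
under A → K (so O is a semi-valuation ring with semi-fraction ring A, S = Spec O is glued from U =
Spec A and T = Spec R). Let C be an O-algebra of finite type which is U-admissible (C → A ⊗_O C
injective) and such that A ⊗_O C is flat and of finite presentation over A. Then C is flat and of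
finite presentation over O. (The published assertion is more general: the base may be any
quasi-compact quasi-separated U-admissible scheme over Spec O, and the scheme over it any
quasi-compact quasi-separated admissible scheme. This row is the case of an affine scheme over Spec
O itself, the case in which the published proof carries out its argument.) -/
theorem result
    (A : Type u) [CommRing A] [IsLocalRing A] (R : ValuationSubring (IsLocalRing.ResidueField A))
    (O : Subring A) (hO : O = R.toSubring.comap (IsLocalRing.residue A))
    (C : Type u) [CommRing C] [Algebra ↥O C] [Algebra.FiniteType ↥O C]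
    (hadm : Function.Injective (Algebra.TensorProduct.includeRight : C →ₐ[↥O] A ⊗[↥O] C))
    (hflat : Module.Flat A (A ⊗[↥O] C)) (hfp : Algebra.FinitePresentation A (A ⊗[↥O] C)) :
    Module.Flat ↥O C ∧ Algebra.FinitePresentation ↥O C := by
  subst hO
  let O := R.toSubring.comap (IsLocalRing.residue A)
  let P : Ideal O := (IsLocalRing.maximalIdeal A).comap (algebraMap O A)
  haveI : P.IsPrime := Ideal.comap_isPrime _ _
  have hmem : ∀ a : A, IsLocalRing.residue A a ∈ R → a ∈ O := fun _ h => h
  haveI := hflat
  haveI := hfp
  refine Groth.Agent.ValFP.flat_and_finitePresentation P Subtype.val_injective (fun x hx a => ?_) (fun a => ?_)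
    (fun o ho => IsLocalRing.notMem_maximalIdeal.mp ho) hadm
  · have h : x.1 * a ∈ IsLocalRing.maximalIdeal A := Ideal.mul_mem_right a _ hx
    exact ⟨⟨x.1 * a, hmem _ (by rw [(IsLocalRing.residue_eq_zero_iff _).mpr h]; exact R.zero_mem)⟩, h, rfl⟩
  · rcases R.mem_or_inv_mem (IsLocalRing.residue A a) with h | h
    · exact Or.inl ⟨⟨a, hmem _ h⟩, rfl⟩
    by_cases ha : IsUnit a
    · obtain ⟨u, rfl⟩ := ha
      refine Or.inr ⟨⟨((u⁻¹ : Aˣ) : A), hmem _ ?_⟩, u.mul_inv⟩
      rw [map_units_inv]
      exact h
    · refine Or.inl ⟨⟨a, hmem _ ?_⟩, rfl⟩
      rw [(IsLocalRing.residue_eq_zero_iff _).mpr ((IsLocalRing.mem_maximalIdeal a).mpr ha)]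
      exact R.zero_mem

end Groth.Agent.S17899
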