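import Groth.Statements.S17900
import Groth.Agent.EtMilLib.Glue

set_option autoImplicit false
universe u
open TensorProduct
open Pinch Groth.Agent
open scoped TensorProduct

namespace Groth.Agent.S17900

/-- Let R be a commutative ring and let B' → B → A, B' → A' → A be a commutative square of R-algebras
which is a fibre square (B' = B ×_A A') with A' → A surjective. If B, A' and A are flat over R then
B' is flat over R. -/
theorem result (R B' B A' A : Type u) [CommRing R] [CommRing B'] [CommRing B] [CommRing A'] [CommRing A]
    [Algebra B' B] [Algebra B' A'] [Algebra B A] [Algebra A' A] [Algebra B' A]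
    [IsScalarTower B' B A] [IsScalarTower B' A' A]
    [Algebra R B'] [Algebra R B] [Algebra R A'] [Algebra R A]
    [IsScalarTower R B' B] [IsScalarTower R B' A'] [IsScalarTower R B' A] [IsScalarTower R B A] [IsScalarTower R A' A]
    (hsq : EtMil.IsFibreSquare B' B A' A)
    [Module.Flat R B] [Module.Flat R A'] [Module.Flat R A] :
    Module.Flat R B' := by
  let u : B' →ₗ[R] B × A' := (IsScalarTower.toAlgHom R B' B).toLinearMap.prod (IsScalarTower.toAlgHom R B' A').toLinearMap
  let d : B × A' →ₗ[R] A := (IsScalarTower.toAlgHom R B A).toLinearMap.coprod (-(IsScalarTower.toAlgHom R A' A).toLinearMap)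
  have hu : Function.Injective u := fun x y h => EtMilLib.ext hsq (congrArg Prod.fst h) (congrArg Prod.snd h)
  have hd : Function.Surjective d := fun a => by
    obtain ⟨a', rfl⟩ := hsq.1 a
    exact ⟨(0, -a'), by simp [d]⟩
  have hex : Function.Exact u d := fun z => by
    refine ⟨fun hz => ?_, ?_⟩
    · obtain ⟨b', ⟨h1, h2⟩, -⟩ := hsq.2 z.1 z.2 (sub_eq_zero.1 (by rw [sub_eq_add_neg]; exact hz))
      exact ⟨b', Prod.ext h1 h2⟩
    · rintro ⟨b', rfl⟩
      show algebraMap B A (algebraMap B' B b') + -algebraMap A' A (algebraMap B' A' b') = 0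
      rw [EtMilLib.comm (B := B) (A' := A') (A := A), add_neg_cancel]
  rw [Module.Flat.iff_lTensor_preserves_injective_linearMap]
  intro X Y _ _ _ _ f hf
  have hpure := LinearMap.lTensor_injective_of_exact_of_flat (M := B') d hd u hu hex
  refine Function.Injective.of_comp (f := u.rTensor Y) ?_
  rw [← LinearMap.coe_comp, LinearMap.rTensor_comp_lTensor, ← LinearMap.lTensor_comp_rTensor, LinearMap.coe_comp]
  have hprod : Function.Injective (f.lTensor (B × A')) := fun a b h => by
    have hnat : ∀ w, TensorProduct.prodLeft R R B A' Y (f.lTensor (B × A') w) =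
        (f.lTensor B (TensorProduct.prodLeft R R B A' X w).1, f.lTensor A' (TensorProduct.prodLeft R R B A' X w).2) := fun w => by
      induction w using TensorProduct.induction_on with
      | zero => rw [map_zero, map_zero, map_zero, Prod.fst_zero, Prod.snd_zero, map_zero, map_zero]; rfl
      | tmul z m => obtain ⟨z₁, z₂⟩ := z; simp
      | add a b ha hb => simp [map_add, ha, hb]
    have h' := congrArg (TensorProduct.prodLeft R R B A' Y) h
    rw [hnat, hnat] at h'
    exact (TensorProduct.prodLeft R R B A' X).injective (Prod.ext
      (Module.Flat.lTensor_preserves_injective_linearMap f hf (congrArg Prod.fst h'))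
      (Module.Flat.lTensor_preserves_injective_linearMap f hf (congrArg Prod.snd h')))
  exact hprod.comp
    ((LinearMap.lTensor_inj_iff_rTensor_inj X u).1 (hpure X))

end Groth.Agent.S17900
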