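import Groth.Statements.S17901
import Groth.Agent.EtMilLib.Glue

set_option autoImplicit false
universe u
open TensorProduct
open Pinch Groth.Agent
open scoped TensorProduct

namespace Groth.Agent.S17901

/-- Let R be a commutative ring and let B' → B → A, B' → A' → A be a fibre square of R-algebras (B' = B
×_A A') with A' → A surjective, where B, A' and A are flat over R. Then for every commutative
R-algebra R' the square obtained by applying R' ⊗_R − is again a fibre square: R' ⊗_R A' → R' ⊗_R A
is surjective and every pair of elements of R' ⊗_R B and R' ⊗_R A' with the same image in R' ⊗_R A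
is the image of a unique element of R' ⊗_R B'. (The published lemma concludes that the base-changed
square of spectra is co-cartesian in ringed spaces; this row states the ring form, surjective edge
and fibre product, which its proof establishes before translating it to ringed spaces.) -/
theorem result (R B' B A' A : Type u) [CommRing R] [CommRing B'] [CommRing B] [CommRing A'] [CommRing A]
    [Algebra B' B] [Algebra B' A'] [Algebra B A] [Algebra A' A] [Algebra B' A]
    [IsScalarTower B' B A] [IsScalarTower B' A' A]
    [Algebra R B'] [Algebra R B] [Algebra R A'] [Algebra R A]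
    [IsScalarTower R B' B] [IsScalarTower R B' A'] [IsScalarTower R B' A] [IsScalarTower R B A] [IsScalarTower R A' A]
    (hsq : EtMil.IsFibreSquare B' B A' A)
    [Module.Flat R B] [Module.Flat R A'] [Module.Flat R A]
    (R' : Type u) [CommRing R'] [Algebra R R'] :
    Function.Surjective (Algebra.TensorProduct.map (AlgHom.id R R') (IsScalarTower.toAlgHom R A' A)) ∧
    ∀ (x : R' ⊗[R] B) (y : R' ⊗[R] A'),
      Algebra.TensorProduct.map (AlgHom.id R R') (IsScalarTower.toAlgHom R B A) x =
        Algebra.TensorProduct.map (AlgHom.id R R') (IsScalarTower.toAlgHom R A' A) y →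
      ∃! z : R' ⊗[R] B',
        Algebra.TensorProduct.map (AlgHom.id R R') (IsScalarTower.toAlgHom R B' B) z = x ∧
        Algebra.TensorProduct.map (AlgHom.id R R') (IsScalarTower.toAlgHom R B' A') z = y := by
  refine ⟨LinearMap.lTensor_surjective R' hsq.1, fun x y hxy => ?_⟩
  let u : B' →ₗ[R] B × A' := (IsScalarTower.toAlgHom R B' B).toLinearMap.prod (IsScalarTower.toAlgHom R B' A').toLinearMap
  let d : B × A' →ₗ[R] A := (IsScalarTower.toAlgHom R B A).toLinearMap.coprod (-(IsScalarTower.toAlgHom R A' A).toLinearMap)
  have hu : Function.Injective u := fun x y h => EtMilLib.ext hsq (congrArg Prod.fst h) (congrArg Prod.snd h)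
  have hd : Function.Surjective d := fun a => by
    obtain ⟨a', rfl⟩ := hsq.1 a
    exact ⟨(0, -a'), by simp [d]⟩
  have hex : Function.Exact u d := fun z => by
    refine ⟨fun hz => ?_, ?_⟩
    · obtain ⟨b', ⟨h1, h2⟩, -⟩ := hsq.2 z.1 z.2 (sub_eq_zero.1 (by rw [sub_eq_add_neg]; exact hz))
      exact ⟨b', Prod.ext h1 h2⟩
    · rintro ⟨b', rfl⟩
      show algebraMap B A (algebraMap B' B b') + -algebraMap A' A (algebraMap B' A' b') = 0
      rw [EtMilLib.comm (B := B) (A' := A') (A := A), add_neg_cancel]
  have hinj := LinearMap.lTensor_injective_of_exact_of_flat (M := B') d hd u hu hex R'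
  let e := TensorProduct.prodRight R R R' B A'
  have hfst : ∀ w : R' ⊗[R] B', e (u.lTensor R' w) =
      (Algebra.TensorProduct.map (AlgHom.id R R') (IsScalarTower.toAlgHom R B' B) w,
        Algebra.TensorProduct.map (AlgHom.id R R') (IsScalarTower.toAlgHom R B' A') w) := fun w => by
    induction w using TensorProduct.induction_on with
    | zero => rw [map_zero, map_zero, map_zero, map_zero]; rfl
    | tmul r b => simp [e, u]
    | add a b ha hb => simp [map_add, ha, hb]
  have hdx : d.lTensor R' (e.symm (x, y)) = 0 := by
    have hde : ∀ w : R' ⊗[R] (B × A'), d.lTensor R' w = Algebra.TensorProduct.map (AlgHom.id R R') (IsScalarTower.toAlgHom R B A) (e w).1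
        - Algebra.TensorProduct.map (AlgHom.id R R') (IsScalarTower.toAlgHom R A' A) (e w).2 := fun w => by
      induction w using TensorProduct.induction_on with
      | zero => simp
      | tmul r b => simp [e, d, sub_eq_add_neg, TensorProduct.tmul_add, TensorProduct.tmul_neg]
      | add a b ha hb => rw [map_add, ha, hb, map_add, Prod.fst_add, Prod.snd_add, map_add, map_add]; abel
    rw [hde, e.apply_symm_apply, sub_eq_zero]
    exact hxy
  obtain ⟨z, hz⟩ := (lTensor_exact R' hex hd _).1 hdx
  have hzz := hfst z
  rw [hz, e.apply_symm_apply] at hzz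
  refine ⟨z, ⟨(congrArg Prod.fst hzz).symm, (congrArg Prod.snd hzz).symm⟩, fun w ⟨hw1, hw2⟩ => hinj (e.injective ?_)⟩
  rw [hfst, hz, e.apply_symm_apply, hw1, hw2]

end Groth.Agent.S17901
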