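import Groth.Statements.S17902
import Mathlib.RingTheory.Spectrum.Prime.FreeLocus
import Mathlib.RingTheory.Spectrum.Prime.Module
import Mathlib.RingTheory.Nakayama
import Mathlib.LinearAlgebra.Dimension.OrzechProperty

set_option autoImplicit false
universe u
open CAlg

namespace Groth.Agent.S17902

/-- Let A be a commutative ring, M a finitely generated projective A-module, n a natural number and P a
finite set of prime ideals of A such that for every p in P there is g outside p with M_g free of
rank n over A_g. Then there exist n elements of M and an open subset U of Spec A containing P such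
that for every prime q in U the images of these elements in M_q form a basis of M_q over A_q. (The
published conclusion is that the associated sheaf is free of rank n on some open neighbourhood of P;
the form given here, with n global elements of M, is what its proof produces.) -/
theorem result (A : Type u) [CommRing A] (M : Type u) [AddCommGroup M] [Module A M]
    [Module.Finite A M] [Module.Projective A M] (n : ℕ) (P : Finset (PrimeSpectrum A))
    (hP : ∀ p ∈ P, ∃ g : A, g ∉ p.asIdeal ∧
      Nonempty (Module.Basis (Fin n) (Localization.Away g) (LocalizedModule (Submonoid.powers g) M))) :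
    ∃ (s : Fin n → M) (U : Set (PrimeSpectrum A)), IsOpen U ∧ (∀ p ∈ P, p ∈ U) ∧
      ∀ q ∈ U,
        LinearIndependent (Localization.AtPrime q.asIdeal)
            (fun j => LocalizedModule.mkLinearMap q.asIdeal.primeCompl M (s j)) ∧
          Submodule.span (Localization.AtPrime q.asIdeal)
            (Set.range fun j => LocalizedModule.mkLinearMap q.asIdeal.primeCompl M (s j)) = ⊤ := by
  classical
  have : Module.FinitePresentation A M := Module.finitePresentation_of_projective A M
  have hgen : ∀ p ∈ P, ∃ m : Fin n → M,
      (∀ x : M, ∃ r : A, r ∉ p.asIdeal ∧ r • x ∈ Submodule.span A (Set.range m)) ∧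
        Module.rankAtStalk (R := A) M p = n := by
    intro p hp
    obtain ⟨g, hg, ⟨b⟩⟩ := hP p hp
    let L := Localization.Away g
    let ι := LocalizedModule.mkLinearMap (Submonoid.powers g) M
    choose mt hmt using fun j => IsLocalizedModule.surj (Submonoid.powers g) ι (b j)
    refine ⟨fun j => (mt j).1, fun x => ?_, ?_⟩
    · have hb : ∀ j, b j ∈ (Submodule.span A (Set.range fun i => (mt i).1)).localized' L
          (Submonoid.powers g) ι := fun j =>
        ⟨(mt j).1, Submodule.subset_span ⟨j, rfl⟩, (mt j).2, (IsLocalizedModule.mk'_eq_iff).2 (hmt j).symm⟩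
      have hx : ι x ∈ (Submodule.span A (Set.range fun i => (mt i).1)).localized' L (Submonoid.powers g) ι :=
        (Submodule.span_le.2 (Set.range_subset_iff.2 hb)) (b.mem_span (ι x))
      obtain ⟨y, hy, t, ht⟩ := hx
      rw [IsLocalizedModule.mk'_eq_iff, Submonoid.smul_def, ← map_smul] at ht
      obtain ⟨c, hc⟩ := (IsLocalizedModule.eq_iff_exists (Submonoid.powers g) ι).1 ht
      refine ⟨(c : A) * t, fun h => ?_, ?_⟩
      · rcases p.2.mem_or_mem h with h | h
        · obtain ⟨k, hk⟩ := c.2
          exact hg (p.2.mem_of_pow_mem k (by rw [← hk] at h; exact h))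
        · obtain ⟨k, hk⟩ := t.2
          exact hg (p.2.mem_of_pow_mem k (by rw [← hk] at h; exact h))
      · rw [mul_smul, ← Submonoid.smul_def c, ← hc]
        exact Submodule.smul_mem _ _ hy
    · obtain ⟨p', hp'⟩ : p ∈ Set.range (PrimeSpectrum.comap (algebraMap A L)) := by
        rw [PrimeSpectrum.localization_away_comap_range L g]
        exact hg
      have : Nontrivial L := p'.nontrivial
      have : Module.Free L (LocalizedModule (Submonoid.powers g) M) := Module.Free.of_basis b
      rw [← hp', ← Module.rankAtStalk_isBaseChange (LocalizedModule.isBaseChange (Submonoid.powers g) M) p',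
        Module.rankAtStalk_eq_finrank_of_free, Pi.natCast_apply, Module.finrank_eq_card_basis b,
        Fintype.card_fin]
      rfl
  choose m hm hrk using hgen
  let P' : Finset (PrimeSpectrum A) := P.filter fun p => ∀ q ∈ P, p ≤ q → q = p
  have hdist : ∀ p ∈ P', ∀ q ∈ P', q ≠ p → ∃ a ∈ q.asIdeal, a ∉ p.asIdeal := fun p hp q hq hne => by
    by_contra hc
    push Not at hc
    exact hne ((Finset.mem_filter.1 hq).2 p (Finset.mem_filter.1 hp).1 hc).symm
  choose a ha ha' using hdist
  let e : P' → A := fun p => ∏ q ∈ (Finset.univ.erase p).attach,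
    a p.1 p.2 q.1.1 q.1.2 fun h => (Finset.mem_erase.1 q.2).1 (Subtype.ext h)
  have he : ∀ p : P', e p ∉ p.1.asIdeal := fun p h => by
    obtain ⟨q, -, hq⟩ := p.1.2.prod_mem_iff.1 h
    exact ha' _ _ _ _ _ hq
  have he' : ∀ p q : P', q ≠ p → e p ∈ q.1.asIdeal := fun p q h =>
    q.1.2.prod_mem_iff.2 ⟨⟨q, Finset.mem_erase.2 ⟨h, Finset.mem_univ _⟩⟩, Finset.mem_attach _ _, ha _ _ _ _ _⟩
  let s : Fin n → M := fun j => ∑ p : P', e p • m p.1 (Finset.mem_filter.1 p.2).1 j
  let N := Submodule.span A (Set.range s)
  let U := (Module.support A (M ⧸ N))ᶜ ∩ {q | Module.rankAtStalk (R := A) M q = n}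
  have hU : IsOpen U :=
    (Module.isClosed_support (R := A) (M := M ⧸ N)).isOpen_compl.inter
      (Module.isLocallyConstant_rankAtStalk.isOpen_fiber n)
  have hP' : ∀ p : P', p.1 ∈ U := by
    intro p
    refine ⟨?_, hrk _ (Finset.mem_filter.1 p.2).1⟩
    show ¬ p.1 ∈ Module.support A (M ⧸ N)
    rw [Module.notMem_support_iff]
    let T := p.1.asIdeal.primeCompl
    let R := Localization.AtPrime p.1.asIdeal
    let Q := LocalizedModule T (M ⧸ N)
    have hle : (⊤ : Submodule R Q) ≤ IsLocalRing.maximalIdeal R • ⊤ := by
      rintro z -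
      obtain ⟨⟨x, t⟩, hz⟩ := IsLocalizedModule.surj T (LocalizedModule.mkLinearMap T (M ⧸ N)) z
      obtain ⟨x, rfl⟩ := Submodule.Quotient.mk_surjective N x
      obtain ⟨r, hr, hrx⟩ := hm p.1 (Finset.mem_filter.1 p.2).1 x
      have key : ∀ y ∈ Submodule.span A (Set.range (m p.1 (Finset.mem_filter.1 p.2).1)),
          LocalizedModule.mkLinearMap T (M ⧸ N) (e p • Submodule.Quotient.mk y) ∈
            IsLocalRing.maximalIdeal R • (⊤ : Submodule R Q) := by
        intro y hy
        induction hy using Submodule.span_induction with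
        | zero => simp
        | add y z _ _ h₁ h₂ => rw [Submodule.Quotient.mk_add, smul_add, map_add]; exact add_mem h₁ h₂
        | smul c y _ h =>
          rw [Submodule.Quotient.mk_smul, smul_comm, map_smul, ← IsScalarTower.algebraMap_smul R c]
          exact Submodule.smul_mem _ _ h
        | mem y hy =>
          obtain ⟨j, rfl⟩ := hy
          have h0 : Submodule.Quotient.mk (p := N) (s j) = 0 :=
            (Submodule.Quotient.mk_eq_zero N).2 (Submodule.subset_span ⟨j, rfl⟩)
          simp only [s] at h0
          rw [← Finset.add_sum_erase _ _ (Finset.mem_univ p), Submodule.Quotient.mk_add,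
            Submodule.Quotient.mk_smul, add_eq_zero_iff_eq_neg] at h0
          rw [h0, map_neg]
          refine neg_mem ?_
          rw [show Submodule.Quotient.mk (p := N) (∑ q ∈ Finset.univ.erase p, e q •
              m q.1 (Finset.mem_filter.1 q.2).1 j) = N.mkQ _ from rfl, map_sum, map_sum]
          refine Submodule.sum_mem _ fun q hq => ?_
          rw [map_smul, map_smul, ← IsScalarTower.algebraMap_smul R (e q)]
          refine Submodule.smul_mem_smul ?_ Submodule.mem_top
          exact (IsLocalization.AtPrime.to_map_mem_maximal_iff R p.1.asIdeal _).2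
            (he' q p (Finset.mem_erase.1 hq).1.symm)
      have hu : IsUnit (algebraMap A R (e p * r * t)) :=
        IsLocalization.map_units R (⟨e p * r * t, mul_mem (mul_mem (he p) hr) t.2⟩ : T)
      rw [← Submodule.smul_mem_iff_of_isUnit _ hu, IsScalarTower.algebraMap_smul, mul_smul,
        ← Submonoid.smul_def, hz, ← map_smul, ← Submodule.Quotient.mk_smul, mul_smul, Submodule.Quotient.mk_smul]
      exact key _ hrx
    have := Submodule.eq_bot_of_le_smul_of_le_jacobson_bot (IsLocalRing.maximalIdeal R) (⊤ : Submodule R Q)
      Module.Finite.fg_top hle (IsLocalRing.maximalIdeal_le_jacobson _)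
    exact subsingleton_of_forall_eq 0 fun z => (Submodule.mem_bot R).1 (this ▸ Submodule.mem_top)
  refine ⟨s, U, hU, fun p hp => ?_, fun q hq => ?_⟩
  · obtain ⟨p', hle, hmax⟩ := P.exists_le_maximal hp
    refine ((PrimeSpectrum.le_iff_specializes p p').1 hle).mem_open hU
      (hP' ⟨p', Finset.mem_filter.2 ⟨hmax.prop, fun q hq h => (le_antisymm h (hmax.2 hq h)).symm⟩⟩)
  · have hspan : Submodule.span (Localization.AtPrime q.asIdeal)
        (Set.range fun j => LocalizedModule.mkLinearMap q.asIdeal.primeCompl M (s j)) = ⊤ := by
      refine eq_top_iff.2 fun z _ => ?_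
      obtain ⟨⟨x, t⟩, hz⟩ := IsLocalizedModule.surj q.asIdeal.primeCompl
        (LocalizedModule.mkLinearMap q.asIdeal.primeCompl M) z
      obtain ⟨r, hr, hrx⟩ := (Module.notMem_support_iff'.1 hq.1) (Submodule.Quotient.mk x)
      rw [← Submodule.Quotient.mk_smul, Submodule.Quotient.mk_eq_zero] at hrx
      have hu : IsUnit (algebraMap A (Localization.AtPrime q.asIdeal) (r * t)) :=
        IsLocalization.map_units _ (⟨r * t, mul_mem hr t.2⟩ : q.asIdeal.primeCompl)
      rw [← Submodule.smul_mem_iff_of_isUnit _ hu, IsScalarTower.algebraMap_smul, mul_smul,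
        ← Submonoid.smul_def, hz, ← map_smul]
      have := Submodule.apply_mem_span_image_of_mem_span (LocalizedModule.mkLinearMap q.asIdeal.primeCompl M) hrx
      rw [← Set.range_comp] at this
      exact Submodule.span_le_restrictScalars A (Localization.AtPrime q.asIdeal) _ this
    exact ⟨linearIndependent_of_top_le_span_of_card_eq_finrank hspan.ge (by rw [Fintype.card_fin]; exact hq.2.symm),
      hspan⟩

end Groth.Agent.S17902
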