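import Groth.Statements.S17905
import Groth.Agent.Pinch.Props
import Groth.Agent.Pinch.BaseChange
import Mathlib.AlgebraicGeometry.Morphisms.Flat

set_option autoImplicit false
universe u
open CategoryTheory AlgebraicGeometry
open Pinch

open CategoryTheory Limits AlgebraicGeometry Groth.Agent
set_option backward.isDefEq.respectTransparency false
namespace Groth.Agent.S17905

/-- Sections are detected after a faithfully flat morphism. -/
theorem injective_app {A B : Scheme.{u}} (f : A ⟶ B) [Flat f] [Surjective f] (U : B.Opens) :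
    Function.Injective (f.app U).hom := by
  intro s t hst
  refine TopCat.Presheaf.section_ext B.sheaf U s t fun y hy => ?_
  obtain ⟨x, rfl⟩ := f.surjective y
  have hfl := Flat.stalkMap f x
  have hinj : Function.Injective (f.stalkMap x).hom := by
    algebraize [(f.stalkMap x).hom]
    haveI : IsLocalHom (algebraMap (B.presheaf.stalk (f x)) (A.presheaf.stalk x)) :=
      inferInstanceAs (IsLocalHom (f.stalkMap x).hom)
    haveI := Module.FaithfullyFlat.of_flat_of_isLocalHom (A := B.presheaf.stalk (f x)) (B := A.presheaf.stalk x)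
    exact FaithfulSMul.algebraMap_injective (B.presheaf.stalk (f x)) (A.presheaf.stalk x)
  refine hinj ?_
  show (B.presheaf.germ U (f x) hy ≫ f.stalkMap x) s = (B.presheaf.germ U (f x) hy ≫ f.stalkMap x) t
  rw [Scheme.Hom.germ_stalkMap]
  exact congrArg (fun z => A.presheaf.germ (f ⁻¹ᵁ U) x hy z) hst


/-- Let S be a scheme and Z → X, Z → Z', X → X', Z' → X' a commutative square of S-schemes which is a
pushout square in the category of ringed spaces, with Z → X and Z' → X' closed immersions, X → X'
affine, Z → Z' finite, flat and surjective, and X, Z, Z' flat over S. Suppose that for every T → S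
the map O_T → (f_T)_* O_{X_T} induced by the base change f_T : X_T → T of X → S is an isomorphism.
Then for every T → S the map O_T → (f'_T)_* O_{X'_T} induced by the base change of X' → S is an
isomorphism. (The published lemma is stated for the pinching of a finite surjective Z → Z' whose
fibres lie in affine opens of X, with X → S admitting a section; this row assumes X → X' only affine
and drops the affine-fibre and section conditions, which the printed proof does not use.) -/
theorem result {S X Z Z' X' : Scheme.{u}}
    (fX : X ⟶ S) (fZ' : Z' ⟶ S) (fX' : X' ⟶ S) (ι : Z ⟶ X) (q : Z ⟶ Z') (π : X ⟶ X') (ι' : Z' ⟶ X')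
    [IsClosedImmersion ι] [IsClosedImmersion ι'] [IsFinite q] [Flat q] [Surjective q] [IsAffineHom π]
    (hq : q ≫ fZ' = ι ≫ fX) (hπ : π ≫ fX' = fX) (hι' : ι' ≫ fX' = fZ')
    (hpo : IsPushout ((Scheme.forgetToLocallyRingedSpace ⋙ LocallyRingedSpace.forgetToSheafedSpace).map ι) ((Scheme.forgetToLocallyRingedSpace ⋙ LocallyRingedSpace.forgetToSheafedSpace).map q)
      ((Scheme.forgetToLocallyRingedSpace ⋙ LocallyRingedSpace.forgetToSheafedSpace).map π) ((Scheme.forgetToLocallyRingedSpace ⋙ LocallyRingedSpace.forgetToSheafedSpace).map ι'))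
    [Flat fX] [Flat (ι ≫ fX)] [Flat fZ']
    (hX : ∀ (T : Scheme.{u}) (g : T ⟶ S) (U : T.Opens), IsIso ((Limits.pullback.snd fX g).app U))
    (T : Scheme.{u}) (g : T ⟶ S) (U : T.Opens) :
    IsIso ((Limits.pullback.snd fX' g).app U) := by
  have hp : Pinch.IsPinch ι q π ι' := hpo
  have w := Pinch.w_of_isPinch hp
  have hc : Pinch.HasCharts ι q := Pinch.hasCharts_of_affine w
  haveI : Flat (ι ≫ π ≫ fX') := by rw [hπ]; infer_instance
  let pP := pullback.fst fX' g
  let hT : pullback ι (pullback.fst π pP) ⟶ pullback ι' pP :=
    pullback.lift (pullback.fst _ _ ≫ q) (pullback.snd _ _ ≫ pullback.snd π pP) (by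
      rw [Category.assoc, ← w, pullback.condition_assoc, pullback.condition, Category.assoc])
  have h := Pinch.isPinch_baseChange_flat_corner hc hp fX' g (IsPullback.of_hasPullback fX' g)
    (IsPullback.of_hasPullback π pP) (IsPullback.of_hasPullback ι' pP)
    (IsPullback.of_hasPullback ι (pullback.fst π pP)) (hT := hT) (pullback.lift_fst _ _ _) (pullback.lift_snd _ _ _)
  have hq : IsPullback hT (pullback.fst _ _) (pullback.fst ι' pP) q := by
    have e1 : hT ≫ pullback.fst ι' pP = pullback.fst _ _ ≫ q := pullback.lift_fst _ _ _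
    have outer : IsPullback (pullback.snd ι (pullback.fst π pP) ≫ pullback.snd π pP) (pullback.fst _ _) pP (q ≫ ι') := by
      rw [← w]
      exact ((IsPullback.of_hasPullback ι (pullback.fst π pP)).flip).paste_horiz (IsPullback.of_hasPullback π pP).flip
    have outer' : IsPullback (hT ≫ pullback.snd ι' pP) (pullback.fst ι (pullback.fst π pP)) pP (q ≫ ι') := by
      rwa [pullback.lift_snd]
    exact IsPullback.of_right outer' e1 (IsPullback.of_hasPullback ι' pP).flip
  haveI : Flat hT := MorphismProperty.of_isPullback hq.flip ‹Flat q›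
  haveI : Surjective hT := MorphismProperty.of_isPullback hq.flip ‹Surjective q›
  let qT := pullback.snd π pP
  let sX := qT ≫ pullback.snd fX' g
  have hXX : IsPullback (pullback.fst π pP) sX fX g := by
    rw [← hπ]
    exact (IsPullback.of_hasPullback π pP).paste_vert (IsPullback.of_hasPullback fX' g)
  have hiso : IsIso (sX.app U) := by
    have e : sX = hXX.isoPullback.hom ≫ pullback.snd fX g := (hXX.isoPullback_hom_snd).symm
    haveI := hX T g U
    rw [Scheme.Hom.congr_app e, Scheme.Hom.comp_app]
    infer_instance
  have hinj : Function.Injective (qT.app (pullback.snd fX' g ⁻¹ᵁ U)).hom := by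
    intro r r' hr
    refine (Pinch.secAt_of_isPinch h _).1 r r' hr (injective_app hT _ ?_)
    have c1 := Pinch.compat_app (Pinch.w_of_isPinch h) (pullback.snd fX' g ⁻¹ᵁ U) r
    have c2 := Pinch.compat_app (Pinch.w_of_isPinch h) (pullback.snd fX' g ⁻¹ᵁ U) r'
    unfold Pinch.Compat at c1 c2
    erw [hr] at c1
    exact (ConcreteCategory.bijective_of_isIso (C := CommRingCat) _).injective (c1.symm.trans c2)
  rw [Scheme.Hom.comp_app] at hiso
  have hb := ConcreteCategory.bijective_of_isIso ((pullback.snd fX' g).app U ≫ qT.app _)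
  refine (ConcreteCategory.isIso_iff_bijective _).2 ⟨fun s t e => hb.1 ?_, fun r => ?_⟩
  · exact congrArg (fun z => (qT.app _).hom z) e
  · obtain ⟨s, hs⟩ := hb.2 (qT.app _ r)
    exact ⟨s, hinj hs⟩

end Groth.Agent.S17905
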