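import Groth.Statements.S17914
import Mathlib

set_option autoImplicit false
universe u
open scoped TensorProduct
open PolLaw

namespace Groth.Agent.S17914

/-- Two laws agreeing on all ring test algebras are equal. -/
theorem ext_of_ring {A : Type u} [CommRing A] {M N : Type u} [AddCommGroup M] [Module A M] [AddCommGroup N] [Module A N]
    (F G : M →ₚₗ[A] N)
    (h : ∀ (S : Type u) [CommRing S] [Algebra A S] (x : S ⊗[A] M), F.toFun' S x = G.toFun' S x) : F = G := by
  ext S _ _ x
  let e := Algebra.TensorProduct.lid A S
  have h1 := congrFun (F.isCompat' e.toAlgHom) (e.symm.toAlgHom.toLinearMap.rTensor M x)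
  have h2 := congrFun (G.isCompat' e.toAlgHom) (e.symm.toAlgHom.toLinearMap.rTensor M x)
  have hx : e.toAlgHom.toLinearMap.rTensor M (e.symm.toAlgHom.toLinearMap.rTensor M x) = x := by
    rw [← LinearMap.comp_apply, ← LinearMap.rTensor_comp,
      show e.toAlgHom.toLinearMap ∘ₗ e.symm.toAlgHom.toLinearMap = LinearMap.id from
        LinearMap.ext fun s => e.apply_symm_apply s, LinearMap.rTensor_id, LinearMap.id_apply]
  simp only [Function.comp_apply, hx] at h1 h2
  rw [← h1, ← h2, h]

/-- Affine-free form, stated through universal properties. Let R → R' be a commutative algebra that is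
free of rank d as an R-module, Q a commutative R-algebra, and Q' a commutative ring under Q and R'
which is their pushout over R and is free of rank d over Q. Let (C, γ) be the degree-d divided power
algebra of R' over R with its universal multiplicative law (hypothesis: every multiplicative law of
degree d out of R' factors uniquely through γ) and π : C → R the R-algebra map with π ∘ γ = the norm
law of R' over R; let (C', γ', π') be the analogous data for Q' over Q. Let θ : C → C' be an
R-algebra homomorphism compatible with the two universal laws over every commutative Q-algebra P: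
γ'_P applied to the image of z ∈ P ⊗_R R' in P ⊗_Q Q' equals (p ⊗ c ↦ p ⊗ θ c) applied to γ_P(z) (so
θ is the base-change homomorphism of divided power algebras). Then π' (θ c) is the image in Q of π c
for every c ∈ C: the algebra map attached to the norm commutes with base change. (The published
lemma is for a finite locally free extension of constant rank and states the commutativity of each
of three squares; this row assumes R' free over R and states the commutativity of the composite.) -/
theorem result {R R' Q Q' : Type u} [CommRing R] [CommRing R'] [Algebra R R']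
    [CommRing Q] [Algebra R Q] [CommRing Q'] [Algebra R Q'] [Algebra Q Q'] [Algebra R' Q']
    [IsScalarTower R Q Q'] [IsScalarTower R R' Q'] [Algebra.IsPushout R R' Q Q']
    [Module.Free R R'] [Module.Finite R R'] [Module.Free Q Q'] [Module.Finite Q Q']
    (d : ℕ) (hd : Module.finrank R R' = d) (hd' : Module.finrank Q Q' = d)
    {C : Type u} [CommRing C] [Algebra R C] (γ : PolLaw.MulLaw R R' C d) (hγ : PolLaw.IsGammaD γ)
    (π : C →ₐ[R] R) (hπ : PolLaw.MulLaw.postcomp π γ = PolLaw.normLaw R R' d hd)
    {C' : Type u} [CommRing C'] [Algebra R C'] [Algebra Q C'] [IsScalarTower R Q C']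
    (γ' : PolLaw.MulLaw Q Q' C' d) (hγ' : PolLaw.IsGammaD γ')
    (π' : C' →ₐ[Q] Q) (hπ' : PolLaw.MulLaw.postcomp π' γ' = PolLaw.normLaw Q Q' d hd')
    (θ : C →ₐ[R] C')
    (hθ : ∀ (P : Type u) [CommRing P] [Algebra R P] [Algebra Q P] [IsScalarTower R Q P] (z : P ⊗[R] R'),
      γ'.law.toFun' P (PolLaw.bcAlong (IsScalarTower.toAlgHom R R' Q').toLinearMap P z) =
        PolLaw.bcAlong θ.toLinearMap P (γ.law.toFun' P z)) :
    ∀ c : C, π' (θ c) = algebraMap R Q (π c) := by
  suffices heq : (π'.restrictScalars R).comp θ = (Algebra.ofId R Q).comp π from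
    fun c => AlgHom.congr_fun heq c
  refine (hγ Q (PolLaw.MulLaw.postcomp ((Algebra.ofId R Q).comp π) γ)).unique ?_ rfl
  refine ext_of_ring _ _ fun S _ _ x => ?_
  letI : Algebra Q (S ⊗[R] Q) := Algebra.TensorProduct.rightAlgebra
  let P := S ⊗[R] Q
  let ι : S →ₐ[R] P := Algebra.TensorProduct.includeLeft
  set y := γ.law.toFun' S x
  -- the value over `S` of the left hand side, seen in `P`
  have hl : ∀ y : S ⊗[R] C, TensorProduct.rid Q P
      (π'.toLinearMap.lTensor P (PolLaw.bcAlong θ.toLinearMap P (ι.toLinearMap.rTensor C y))) =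
      ((π'.restrictScalars R).comp θ).toLinearMap.lTensor S y := by
    intro y
    induction y with
    | zero => simp
    | add a b ha hb => simp only [map_add, ha, hb]
    | tmul s c =>
      simp [PolLaw.bcAlong, ι, P, Algebra.smul_def, Algebra.TensorProduct.right_algebraMap_apply,
        Algebra.TensorProduct.tmul_mul_tmul]
  let Ψ : (P ⊗[R] R') ≃ₐ[P] P ⊗[Q] Q' :=
    haveI : Algebra.IsPushout R Q R' Q' := Algebra.IsPushout.symm inferInstance
    (Algebra.TensorProduct.cancelBaseChange R Q P P R').symm.trans
      (Algebra.TensorProduct.congr AlgEquiv.refl (Algebra.IsPushout.equiv R Q R' Q'))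
  have hΨ : ∀ z, PolLaw.bcAlong (IsScalarTower.toAlgHom R R' Q').toLinearMap P z = Ψ z := by
    intro z
    induction z with
    | zero => simp
    | add a b ha hb => simp only [map_add, ha, hb]
    | tmul p r => simp [PolLaw.bcAlong, Ψ, Algebra.IsPushout.equiv_tmul]
  have hR : ∀ (S : Type u) [CommRing S] [Algebra R S] (x : S ⊗[R] R'),
      π.toLinearMap.lTensor S (γ.law.toFun' S x) = Algebra.norm S x ⊗ₜ[R] (1 : R) := fun S _ _ x => by
    rw [← PolLaw.normLaw_apply R R' d hd S x]
    exact congrArg (fun L : PolLaw.MulLaw R R' R d => L.law.toFun' S x) hπ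
  have hQ : ∀ z, π'.toLinearMap.lTensor P (γ'.law.toFun' P z) = Algebra.norm P z ⊗ₜ[Q] (1 : Q) := fun z => by
    rw [← PolLaw.normLaw_apply Q Q' d hd' P z]
    exact congrArg (fun L : PolLaw.MulLaw Q Q' Q d => L.law.toFun' P z) hπ'
  have hnat : Algebra.norm P (ι.toLinearMap.rTensor R' x) = ι (Algebra.norm S x) := by
    rw [PolLaw.rTensor_algHom_apply, ← PolLaw.detAct_self, ← PolLaw.detAct_self, PolLaw.detAct_map]
  show ((π'.restrictScalars R).comp θ).toLinearMap.lTensor S y =
    ((Algebra.ofId R Q).comp π).toLinearMap.lTensor S y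
  rw [← hl y, show ι.toLinearMap.rTensor C y = γ.law.toFun' P (ι.toLinearMap.rTensor R' x) from
    congrFun (γ.law.isCompat' ι) x, ← hθ, hQ, hΨ, Algebra.norm_eq_of_algEquiv, hnat, TensorProduct.rid_tmul, one_smul,
    AlgHom.comp_toLinearMap, LinearMap.lTensor_comp, LinearMap.comp_apply, hR S x, LinearMap.lTensor_tmul]
  simp [ι]
  rfl

end Groth.Agent.S17914
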