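import Groth.Statements.S17909
import Mathlib
import Groth.Agent.S17914

set_option autoImplicit false
universe u
open scoped TensorProduct
open PolLaw

set_option backward.isDefEq.respectTransparency false
namespace Groth.Agent.S17909

section Law

variable {A : Type u} [CommRing A] {X Y : Type u} [AddCommGroup X] [Module A X] [AddCommGroup Y] [Module A Y]

theorem rTensor_comp' (W : Type u) [AddCommGroup W] [Module A W] {S S' S'' : Type u} [CommSemiring S] [Algebra A S]
    [CommSemiring S'] [Algebra A S'] [CommSemiring S''] [Algebra A S''] (φ : S →ₐ[A] S') (ψ : S' →ₐ[A] S'') (x : S ⊗[A] W) :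
    ψ.toLinearMap.rTensor W (φ.toLinearMap.rTensor W x) = (ψ.comp φ).toLinearMap.rTensor W x := by
  rw [AlgHom.comp_toLinearMap, LinearMap.rTensor_comp, LinearMap.comp_apply]

/-- A natural family of maps on ring test algebras extends to a polynomial law. -/
noncomputable def ofRing (F : ∀ (S : Type u) [CommRing S] [Algebra A S], S ⊗[A] X → S ⊗[A] Y)
    (hF : ∀ (S : Type u) [CommRing S] [Algebra A S] (S' : Type u) [CommRing S'] [Algebra A S'] (φ : S →ₐ[A] S') (x : S ⊗[A] X),
      φ.toLinearMap.rTensor Y (F S x) = F S' (φ.toLinearMap.rTensor X x)) : X →ₚₗ[A] Y where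
  toFun' S _ _ x :=
    (Algebra.TensorProduct.lid A S).toAlgHom.toLinearMap.rTensor Y
      (F (A ⊗[A] S) ((Algebra.TensorProduct.lid A S).symm.toAlgHom.toLinearMap.rTensor X x))
  isCompat' {S} _ _ {S'} _ _ φ := by
    funext x
    let ψ : A ⊗[A] S →ₐ[A] A ⊗[A] S' := Algebra.TensorProduct.map (AlgHom.id A A) φ
    have e1 : φ.comp (Algebra.TensorProduct.lid A S).toAlgHom = (Algebra.TensorProduct.lid A S').toAlgHom.comp ψ := by
      ext s; simp [ψ]
    have e2 : (Algebra.TensorProduct.lid A S').symm.toAlgHom.comp φ =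
        ψ.comp (Algebra.TensorProduct.lid A S).symm.toAlgHom := by
      ext s; simp [ψ]
    simp only [Function.comp_apply]
    rw [rTensor_comp', rTensor_comp' X φ, e1, e2, ← rTensor_comp', hF, rTensor_comp']

theorem ofRing_apply (F : ∀ (S : Type u) [CommRing S] [Algebra A S], S ⊗[A] X → S ⊗[A] Y) (hF)
    (S : Type u) [CommRing S] [Algebra A S] (x : S ⊗[A] X) : (ofRing F hF).toFun' S x = F S x := by
  show (Algebra.TensorProduct.lid A S).toAlgHom.toLinearMap.rTensor Y _ = _
  rw [hF, rTensor_comp', show (Algebra.TensorProduct.lid A S).toAlgHom.comp (Algebra.TensorProduct.lid A S).symm.toAlgHom =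
    AlgHom.id A S from AlgHom.ext fun s => (Algebra.TensorProduct.lid A S).apply_symm_apply s, AlgHom.toLinearMap_id,
    LinearMap.rTensor_id, LinearMap.id_apply]

theorem ext_postcomp {Z : Type u} [AddCommGroup Z] [Module A Z] (g h : Y →ₗ[A] Z) (F : X →ₚₗ[A] Y)
    (H : ∀ (S : Type u) [CommRing S] [Algebra A S] (x : S ⊗[A] X), g.lTensor S (F.toFun' S x) = h.lTensor S (F.toFun' S x)) :
    PolLaw.postcomp g F = PolLaw.postcomp h F :=
  S17914.ext_of_ring _ _ H

theorem isNormic_postcomp {B : Type u} [CommRing B] [Algebra A B] [Module B X] [IsScalarTower A B X]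
    {Z : Type u} [AddCommGroup Z] [Module A Z] (g : Y →ₗ[A] Z) {F : X →ₚₗ[A] Y} (hF : IsNormic B F) :
    IsNormic B (PolLaw.postcomp g F) := by
  intro S _ _ x m
  show g.lTensor S (F.toFun' S _) = Algebra.norm S x • g.lTensor S (F.toFun' S m)
  show (g.baseChange S) _ = _ • (g.baseChange S) _
  rw [hF S x m, map_smul]

end Law

section BC

variable {R Q : Type u} [CommRing R] [CommRing Q] [Algebra R Q]
  {X : Type u} [AddCommGroup X] [Module R X] {Y : Type u} [AddCommGroup Y] [Module R Y] [Module Q Y] [IsScalarTower R Q Y]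
  {P : Type u} [CommRing P] [Algebra R P] [Algebra Q P] [IsScalarTower R Q P]

theorem bc_tmul (g : X →ₗ[R] Y) (p : P) (x : X) : bcAlong (Q := Q) g P (p ⊗ₜ[R] x) = p ⊗ₜ[Q] g x := by
  simp [bcAlong]

theorem bc_smul (g : X →ₗ[R] Y) (p : P) (z : P ⊗[R] X) : bcAlong (Q := Q) g P (p • z) = p • bcAlong (Q := Q) g P z := by
  induction z with
  | zero => simp
  | add a b ha hb => simp only [smul_add, map_add, ha, hb]
  | tmul a x => simp [TensorProduct.smul_tmul', bc_tmul]

theorem bc_rTensor {P' : Type u} [CommRing P'] [Algebra R P'] [Algebra Q P'] [IsScalarTower R Q P']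
    (g : X →ₗ[R] Y) (ψ : P →ₐ[Q] P') (z : P ⊗[R] X) :
    bcAlong (Q := Q) g P' ((ψ.restrictScalars R).toLinearMap.rTensor X z) = ψ.toLinearMap.rTensor Y (bcAlong (Q := Q) g P z) := by
  induction z with
  | zero => simp
  | add a b ha hb => simp only [map_add, ha, hb]
  | tmul a x => simp [bc_tmul]

theorem bc_comp {Z : Type u} [AddCommGroup Z] [Module R Z] [Module Q Z] [IsScalarTower R Q Z]
    (g : X →ₗ[R] Y) (v : Y →ₗ[Q] Z) (z : P ⊗[R] X) :
    bcAlong (Q := Q) ((v.restrictScalars R) ∘ₗ g) P z = v.lTensor P (bcAlong (Q := Q) g P z) := by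
  induction z with
  | zero => simp
  | add a b ha hb => simp only [map_add, ha, hb]
  | tmul a x => simp [bc_tmul]

theorem bc_bijective {g : X →ₗ[R] Y} (hg : IsBaseChange Q g) : Function.Bijective (bcAlong (Q := Q) g P) := by
  have : g.liftBaseChange Q = hg.equiv.toLinearMap := by
    ext x; simp [IsBaseChange.equiv_tmul]
  rw [bcAlong, this, LinearMap.coe_comp, show (hg.equiv.toLinearMap.lTensor P : _ → _) = hg.equiv.lTensor P from rfl]
  exact (LinearEquiv.bijective _).comp (LinearEquiv.bijective _)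

variable (S : Type u) [CommRing S] [Algebra R S]

attribute [local instance] Algebra.TensorProduct.rightAlgebra

/-- `(S ⊗ Q) ⊗_Q Y = S ⊗ Y`. -/
noncomputable def cn : (S ⊗[R] Q) ⊗[Q] Y ≃ₗ[S] S ⊗[R] Y :=
  Algebra.IsPushout.cancelBaseChange R S Q (S ⊗[R] Q) Y

theorem cn_symm_lTensor (h : X →ₗ[R] Y) (z : S ⊗[R] X) :
    (cn (Q := Q) S).symm (h.lTensor S z) =
      bcAlong (Q := Q) h (S ⊗[R] Q) ((Algebra.TensorProduct.includeLeft : S →ₐ[R] S ⊗[R] Q).toLinearMap.rTensor X z) := by
  induction z with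
  | zero => simp
  | add a b ha hb => simp only [map_add, ha, hb]
  | tmul a x =>
    rw [LinearMap.lTensor_tmul, cn, Algebra.IsPushout.cancelBaseChange_symm_tmul, LinearMap.rTensor_tmul, bc_tmul]
    rfl

theorem bc_act {R' Q' : Type u} [CommRing R'] [Algebra R R'] [CommRing Q'] [Algebra R Q'] [Algebra Q Q'] [Algebra R' Q']
    [IsScalarTower R Q Q'] [IsScalarTower R R' Q'] [Module R' X] [IsScalarTower R R' X]
    [Module Q' Y] [IsScalarTower Q Q' Y] [Module R' Y] [IsScalarTower R R' Y] [IsScalarTower R' Q' Y]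
    (f : X →ₗ[R'] Y) (y : P ⊗[R] R') (z : P ⊗[R] X) :
    bcAlong (Q := Q) (f.restrictScalars R) P (actEnd X P y z) =
      actEnd Y P (bcAlong (Q := Q) (IsScalarTower.toAlgHom R R' Q').toLinearMap P y) (bcAlong (Q := Q) (f.restrictScalars R) P z) := by
  induction y with
  | zero => simp
  | add a b ha hb => simp only [map_add, LinearMap.add_apply, ha, hb]
  | tmul s b =>
    induction z with
    | zero => simp
    | add a b ha hb => simp only [map_add, ha, hb]
    | tmul t x => simp [bc_tmul, actEnd_tmul_tmul]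

theorem norm_bc {R' Q' : Type u} [CommRing R'] [Algebra R R'] [CommRing Q'] [Algebra R Q'] [Algebra Q Q'] [Algebra R' Q']
    [IsScalarTower R Q Q'] [IsScalarTower R R' Q'] [Algebra.IsPushout R R' Q Q'] (y : P ⊗[R] R') :
    Algebra.norm P (bcAlong (Q := Q) (IsScalarTower.toAlgHom R R' Q').toLinearMap P y) = Algebra.norm P y := by
  let Ψ : (P ⊗[R] R') ≃ₐ[P] P ⊗[Q] Q' :=
    haveI : Algebra.IsPushout R Q R' Q' := Algebra.IsPushout.symm inferInstance
    (Algebra.TensorProduct.cancelBaseChange R Q P P R').symm.trans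
      (Algebra.TensorProduct.congr AlgEquiv.refl (Algebra.IsPushout.equiv R Q R' Q'))
  have hΨ : ∀ z, bcAlong (Q := Q) (IsScalarTower.toAlgHom R R' Q').toLinearMap P z = Ψ z := by
    intro z
    induction z with
    | zero => simp
    | add a b ha hb => simp only [map_add, ha, hb]
    | tmul p r => simp [bc_tmul, Ψ, Algebra.IsPushout.equiv_tmul]
  rw [hΨ, Algebra.norm_eq_of_algEquiv]

end BC


/-- Affine-free form, stated through the universal property of the norm module. Let R → R' be a
commutative algebra, free of finite rank as an R-module; let Q be a commutative R-algebra and Q' a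
commutative ring under both Q and R' which is their pushout over R; let M' be an R'-module and f :
M' → M'' an R'-linear map into a Q'-module that exhibits M'' as Q' ⊗_{R'} M'. Let (N, ν) be a
universal normic pair for M' over R (ν a polynomial law M' → N over R with ν(x · m) = norm(x) · ν(m)
over every commutative test ring, through which every normic law factors by a unique linear map) and
(N'', ν'') a universal normic pair for M'' over Q. Then there is an R-linear map u : N → N'' which
is compatible with the two laws over every commutative Q-algebra P, in the sense ν''_P (p ⊗ f m) =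
(p ⊗ u)(ν_P (p ⊗ m)), and whose Q-linear extension Q ⊗_R N → N'' is an isomorphism (N'' is the base
change of N along R → Q via u). (The published statements are for the norm modules constructed from
divided powers, for a finite locally free extension of constant rank; here the extension is free
over an affine base and the norm modules enter through their universal property.) -/
theorem result {R R' Q Q' : Type u} [CommRing R] [CommRing R'] [Algebra R R']
    [CommRing Q] [Algebra R Q] [CommRing Q'] [Algebra R Q'] [Algebra Q Q'] [Algebra R' Q']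
    [IsScalarTower R Q Q'] [IsScalarTower R R' Q'] [Algebra.IsPushout R R' Q Q']
    [Module.Free R R'] [Module.Finite R R']
    {M' : Type u} [AddCommGroup M'] [Module R M'] [Module R' M'] [IsScalarTower R R' M']
    {M'' : Type u} [AddCommGroup M''] [Module R M''] [Module R' M''] [Module Q M''] [Module Q' M'']
    [IsScalarTower R R' M''] [IsScalarTower R Q M''] [IsScalarTower R' Q' M''] [IsScalarTower Q Q' M'']
    (f : M' →ₗ[R'] M'') (hf : IsBaseChange Q' f)
    {N : Type u} [AddCommGroup N] [Module R N] (ν : M' →ₚₗ[R] N) (hν : PolLaw.IsUnivNormic R' ν)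
    {N'' : Type u} [AddCommGroup N''] [Module R N''] [Module Q N''] [IsScalarTower R Q N'']
    (ν'' : M'' →ₚₗ[Q] N'') (hν'' : PolLaw.IsUnivNormic Q' ν'') :
    ∃ u : N →ₗ[R] N'',
      (∀ (P : Type u) [CommRing P] [Algebra R P] [Algebra Q P] [IsScalarTower R Q P] (m : P ⊗[R] M'),
          ν''.toFun' P (PolLaw.bcAlong (f.restrictScalars R) P m) = PolLaw.bcAlong u P (ν.toFun' P m)) ∧
      IsBaseChange Q u := by
  classical
  haveI : Algebra.IsPushout R Q R' Q' := Algebra.IsPushout.symm inferInstance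
  have hfR : IsBaseChange Q (f.restrictScalars R) := by
    refine IsBaseChange.of_equiv ((Algebra.IsPushout.cancelBaseChange R Q R' Q' M').symm ≪≫ₗ hf.equiv.restrictScalars Q)
      fun m => ?_
    simp [Algebra.IsPushout.cancelBaseChange_symm_tmul, IsBaseChange.equiv_tmul]
  have hpo : IsBaseChange Q (IsScalarTower.toAlgHom R R' Q').toLinearMap := Algebra.IsPushout.out
  letI alg : ∀ S : Type u, [CommRing S] → [Algebra R S] → Algebra Q (S ⊗[R] Q) := fun S _ _ => Algebra.TensorProduct.rightAlgebra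
  let ι : ∀ (S : Type u) [CommRing S] [Algebra R S], S →ₐ[R] S ⊗[R] Q := fun S _ _ => Algebra.TensorProduct.includeLeft
  let fR : M' →ₗ[R] M'' := f.restrictScalars R
  -- the law over `R`
  let F₁ : ∀ (S : Type u) [CommRing S] [Algebra R S], S ⊗[R] M' → S ⊗[R] N'' := fun S _ _ x =>
    cn (Q := Q) S (ν''.toFun' (S ⊗[R] Q) (bcAlong (Q := Q) fR (S ⊗[R] Q) ((ι S).toLinearMap.rTensor M' x)))
  have hF₁ : ∀ (S : Type u) [CommRing S] [Algebra R S] (S' : Type u) [CommRing S'] [Algebra R S'] (φ : S →ₐ[R] S')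
      (x : S ⊗[R] M'), φ.toLinearMap.rTensor N'' (F₁ S x) = F₁ S' (φ.toLinearMap.rTensor M' x) := by
    intro S _ _ S' _ _ φ x
    let ψ : S ⊗[R] Q →ₐ[Q] S' ⊗[R] Q :=
      { Algebra.TensorProduct.map φ (AlgHom.id R Q) with
        commutes' := fun q => by simp [Algebra.TensorProduct.right_algebraMap_apply] }
    have hψ : (ψ.restrictScalars R).comp (ι S) = (ι S').comp φ := by
      ext s; simp [ψ, ι]
    have hk : ∀ y, (cn (Q := Q) S').symm (φ.toLinearMap.rTensor N'' y) = ψ.toLinearMap.rTensor N'' ((cn (Q := Q) S).symm y) := by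
      intro y
      induction y with
      | zero => simp
      | add a b ha hb => simp only [map_add, ha, hb]
      | tmul s n =>
        rw [LinearMap.rTensor_tmul, cn, cn, Algebra.IsPushout.cancelBaseChange_symm_tmul,
          Algebra.IsPushout.cancelBaseChange_symm_tmul, LinearMap.rTensor_tmul]
        simp [ψ]
    apply (cn (Q := Q) S').symm.injective
    simp only [F₁]
    rw [hk, LinearEquiv.symm_apply_apply, LinearEquiv.symm_apply_apply, rTensor_comp' M' φ, ← hψ, ← rTensor_comp',
      bc_rTensor]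
    exact congrFun (ν''.isCompat' ψ) _
  have hN₁ : IsNormic R' (ofRing F₁ hF₁) := by
    intro S _ _ x m
    rw [ofRing_apply, ofRing_apply]
    simp only [F₁, fR]
    rw [rTensor_actEnd, bc_act (Q' := Q') f, hν''.1, norm_bc (Q' := Q'), ← detAct_self, detAct_map, detAct_self]
    exact (congrArg (cn (Q := Q) S) (algebraMap_smul (S ⊗[R] Q) (Algebra.norm S x) _)).trans (map_smul _ _ _)
  obtain ⟨u, hu, -⟩ := hν.2 N'' _ hN₁
  have hu' : ∀ (S : Type u) [CommRing S] [Algebra R S] (x : S ⊗[R] M'),
      bcAlong (Q := Q) u (S ⊗[R] Q) ((ι S).toLinearMap.rTensor N (ν.toFun' S x)) =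
        ν''.toFun' (S ⊗[R] Q) (bcAlong (Q := Q) fR (S ⊗[R] Q) ((ι S).toLinearMap.rTensor M' x)) := by
    intro S _ _ x
    rw [← cn_symm_lTensor, LinearEquiv.symm_apply_eq]
    exact (congrArg (fun L : M' →ₚₗ[R] N'' => L.toFun' S x) hu).trans (ofRing_apply F₁ hF₁ S x)
  have compat : ∀ (P : Type u) [CommRing P] [Algebra R P] [Algebra Q P] [IsScalarTower R Q P] (m : P ⊗[R] M'),
      ν''.toFun' P (bcAlong (Q := Q) fR P m) = bcAlong (Q := Q) u P (ν.toFun' P m) := by
    intro P _ _ _ _ m
    let μ : P ⊗[R] Q →ₐ[Q] P :=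
      { Algebra.TensorProduct.lift (AlgHom.id R P) (IsScalarTower.toAlgHom R Q P) (fun _ _ => Commute.all _ _) with
        commutes' := fun q => by simp [Algebra.TensorProduct.right_algebraMap_apply] }
    have hμ : (μ.restrictScalars R).comp (ι P) = AlgHom.id R P := by
      ext p; simp [μ, ι]
    have e : ∀ {W : Type u} [AddCommGroup W] [Module R W] (z : P ⊗[R] W),
        (μ.restrictScalars R).toLinearMap.rTensor W ((ι P).toLinearMap.rTensor W z) = z := fun z => by
      rw [rTensor_comp', hμ, AlgHom.toLinearMap_id, LinearMap.rTensor_id, LinearMap.id_apply]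
    conv_lhs => rw [← e m, bc_rTensor]
    refine (congrFun (ν''.isCompat' μ) _).symm.trans ?_
    rw [Function.comp_apply, ← hu', ← bc_rTensor, e]
  refine ⟨u, compat, ?_⟩
  -- the law over `Q`
  let g₀ : N →ₗ[R] Q ⊗[R] N := TensorProduct.mk R Q N 1
  let F₂ : ∀ (P : Type u) [CommRing P] [Algebra Q P], P ⊗[Q] M'' → P ⊗[Q] (Q ⊗[R] N) := fun P _ _ z =>
    letI : Algebra R P := Algebra.compHom P (algebraMap R Q)
    haveI : IsScalarTower R Q P := IsScalarTower.of_algebraMap_eq fun _ => rfl
    bcAlong (Q := Q) g₀ P (ν.toFun' P ((Equiv.ofBijective _ (bc_bijective (P := P) hfR)).symm z))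
  have hF₂e : ∀ (P : Type u) [CommRing P] [iR : Algebra R P] [Algebra Q P] [IsScalarTower R Q P] (m : P ⊗[R] M'),
      F₂ P (bcAlong (Q := Q) fR P m) = bcAlong (Q := Q) g₀ P (ν.toFun' P m) := by
    intro P _ iR _ _ m
    obtain rfl : iR = Algebra.compHom P (algebraMap R Q) :=
      Algebra.algebra_ext _ _ fun r => IsScalarTower.algebraMap_apply R Q P r
    letI : Algebra R P := Algebra.compHom P (algebraMap R Q)
    simp only [F₂]
    exact congrArg (fun t => bcAlong (Q := Q) g₀ P (ν.toFun' P t)) ((Equiv.ofBijective _ (bc_bijective (P := P) hfR)).symm_apply_apply m)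
  have hF₂ : ∀ (P : Type u) [CommRing P] [Algebra Q P] (P' : Type u) [CommRing P'] [Algebra Q P'] (φ : P →ₐ[Q] P')
      (z : P ⊗[Q] M''), φ.toLinearMap.rTensor (Q ⊗[R] N) (F₂ P z) = F₂ P' (φ.toLinearMap.rTensor M'' z) := by
    intro P _ _ P' _ _ φ z
    letI : Algebra R P := Algebra.compHom P (algebraMap R Q)
    haveI : IsScalarTower R Q P := IsScalarTower.of_algebraMap_eq fun _ => rfl
    letI : Algebra R P' := Algebra.compHom P' (algebraMap R Q)
    haveI : IsScalarTower R Q P' := IsScalarTower.of_algebraMap_eq fun _ => rfl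
    obtain ⟨m, rfl⟩ := (bc_bijective (P := P) hfR).2 z
    rw [hF₂e, ← bc_rTensor g₀ φ, ← bc_rTensor (Q := Q) fR φ, hF₂e]
    exact congrArg _ (congrFun (ν.isCompat' (φ.restrictScalars R)) m)
  have hN₂ : IsNormic Q' (ofRing F₂ hF₂) := by
    intro P _ _ y z
    letI : Algebra R P := Algebra.compHom P (algebraMap R Q)
    haveI : IsScalarTower R Q P := IsScalarTower.of_algebraMap_eq fun _ => rfl
    obtain ⟨m, rfl⟩ := (bc_bijective (P := P) hfR).2 z
    obtain ⟨y, rfl⟩ := (bc_bijective (P := P) hpo).2 y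
    rw [ofRing_apply, ofRing_apply, ← bc_act (Q' := Q') f, hF₂e, hF₂e, hν.1, bc_smul, norm_bc (Q' := Q')]
  obtain ⟨v, hv, -⟩ := hν''.2 _ _ hN₂
  have hv' : ∀ (P : Type u) [CommRing P] [Algebra R P] [Algebra Q P] [IsScalarTower R Q P] (m : P ⊗[R] M'),
      v.lTensor P (ν''.toFun' P (bcAlong (Q := Q) fR P m)) = bcAlong (Q := Q) g₀ P (ν.toFun' P m) := fun P _ _ _ _ m =>
    ((congrArg (fun L : M'' →ₚₗ[Q] Q ⊗[R] N => L.toFun' P (bcAlong (Q := Q) fR P m)) hv).trans
      (ofRing_apply F₂ hF₂ P _)).trans (hF₂e P m)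
  let w : Q ⊗[R] N →ₗ[Q] N'' := u.liftBaseChange Q
  have hwg : (w.restrictScalars R) ∘ₗ g₀ = u := by ext n; simp [w, g₀]
  have hwv : w ∘ₗ v = LinearMap.id := by
    refine (hν''.2 N'' ν'' hν''.1).unique ?_ ?_
    · refine S17914.ext_of_ring _ _ fun P _ _ z => ?_
      letI : Algebra R P := Algebra.compHom P (algebraMap R Q)
      haveI : IsScalarTower R Q P := IsScalarTower.of_algebraMap_eq fun _ => rfl
      obtain ⟨m, rfl⟩ := (bc_bijective (P := P) hfR).2 z
      show (w ∘ₗ v).lTensor P _ = _
      rw [LinearMap.lTensor_comp, LinearMap.comp_apply, hv', ← bc_comp, hwg]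
      exact (compat P m).symm
    · refine S17914.ext_of_ring _ _ fun P _ _ z => ?_
      show LinearMap.id.lTensor P _ = _
      rw [LinearMap.lTensor_id, LinearMap.id_apply]
  have hvu : (v.restrictScalars R) ∘ₗ u = g₀ := by
    refine (hν.2 _ (PolLaw.postcomp g₀ ν) (isNormic_postcomp g₀ hν.1)).unique ?_ rfl
    refine ext_postcomp _ _ _ fun S _ _ x => (cn (Q := Q) S).symm.injective ?_
    rw [cn_symm_lTensor, cn_symm_lTensor, bc_comp, hu', hv']
    exact congrArg (bcAlong (Q := Q) g₀ _) (congrFun (ν.isCompat' (ι S)) x).symm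
  have hvw : v ∘ₗ w = LinearMap.id := by
    apply TensorProduct.AlgebraTensorModule.ext
    intro q n
    have h := LinearMap.congr_fun hvu n
    simp only [LinearMap.comp_apply, LinearMap.restrictScalars_apply] at h
    simp [w, h, g₀, TensorProduct.smul_tmul']
  exact IsBaseChange.of_equiv (LinearEquiv.ofLinear w v hwv hvw) fun n => by simp [w]

end Groth.Agent.S17909
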