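import Groth.Statements.S17913
import Groth.Agent.GerbLib.Equiv

set_option autoImplicit false
universe u
open CategoryTheory AlgebraicGeometry
open CategoryTheory CategoryTheory.Limits AlgebraicGeometry
open Gerb
set_option backward.isDefEq.respectTransparency false

namespace Groth.Agent.S17913

/-- Let S be a scheme, 𝒳 and 𝒴 gerbes over the big fppf site of schemes over S, φ : 𝒳 → 𝒴 and ψ : 𝒴 → 𝒳
functors over Sch_S, and x an object of 𝒳 over S itself such that φ is surjective on automorphism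
groups along x: for every object x' of 𝒳 admitting a morphism to x (every pullback of x), every
automorphism of φ(x') over the identity is φ(α) for some automorphism α of x' over the identity. Let
g : ψ(φ(x)) → x be an isomorphism lying over the identity such that conjugation by g after ψ ∘ φ is
the identity of the automorphism sheaf of x: whenever c : x' → x is a morphism of 𝒳 and g' :
ψ(φ(x')) → x' is the morphism over the identity with ψ(φ(c)) ≫ g = g' ≫ c, every automorphism α of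
x' over the identity satisfies ψ(φ(α)) ≫ g' = g' ≫ α. Then φ ∘ ψ is isomorphic to the identity on
every fibre of 𝒴: there are isomorphisms σ_z : φ(ψ(z)) → z for all objects z of 𝒴, lying over
identities and natural in morphisms lying over identities, so that φ and ψ are mutually
quasi-inverse on every fibre. (The published corollary does not assume that φ is surjective on
automorphism groups; its proof uses that φ is full, and without that hypothesis the conclusion fails
— take for 𝒳 the base category over itself, for 𝒴 the gerbe of torsors under the group of order two,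
for φ the trivial torsor and for ψ the structure functor. The published corollary also concludes
that ψ ∘ φ is isomorphic to the identity on every fibre of 𝒳; that part follows from the hypotheses
on g alone and is stated separately.) -/
theorem result (S : Scheme.{u}) (𝒳 𝒴 : AlgSt.Cat S)
    (h𝒳 : Gerb.IsGerbe (QuotSh.J Scheme.fppfPrecoverage S) 𝒳)
    (h𝒴 : Gerb.IsGerbe (QuotSh.J Scheme.fppfPrecoverage S) 𝒴)
    (φ : 𝒳 ⥤ᵇ 𝒴) (ψ : 𝒴 ⥤ᵇ 𝒳) (x : 𝒳.obj) (hx : 𝒳.p.obj x = Over.mk (𝟙 S))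
    (hφ : ∀ (x' : 𝒳.obj) (c : x' ⟶ x), Function.Surjective (Gerb.autMap φ x'))
    (g : ψ.obj (φ.obj x) ⟶ x) [IsIso g] (hg : 𝒳.p.IsHomLift (𝟙 (𝒳.p.obj x)) g)
    (hconj : ∀ (x' : 𝒳.obj) (c : x' ⟶ x) (g' : ψ.obj (φ.obj x') ⟶ x'), 𝒳.p.IsHomLift (𝟙 (𝒳.p.obj x')) g' →
      ψ.map (φ.map c) ≫ g = g' ≫ c → ∀ α : Gerb.AutO x', ψ.map (φ.map α.hom.1) ≫ g' = g' ≫ α.hom.1) :
    ∃ σ : ∀ z : 𝒴.obj, φ.obj (ψ.obj z) ⟶ z,
      (∀ z, IsIso (σ z) ∧ 𝒴.p.IsHomLift (𝟙 (𝒴.p.obj z)) (σ z)) ∧
      (∀ (z z' : 𝒴.obj) (f : z ⟶ z'), 𝒴.p.IsHomLift (𝟙 (𝒴.p.obj z)) f →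
        φ.map (ψ.map f) ≫ σ z' = σ z ≫ f) := by
  have hgX := h𝒳.1.1
  have hgY := h𝒴.1.1
  have hg' : 𝒳.p.map g = eqToHom ((ψ.w_obj (φ.obj x)).trans (φ.w_obj x)) :=
    (IsHomLift.fac' 𝒳.p (𝟙 (𝒳.p.obj x)) g).trans (by simp)
  have hx' : 𝒴.p.obj (φ.obj x) = Over.mk (𝟙 S) := (φ.w_obj x).trans hx
  have hsub : ∀ (U : Over S) (a b : U ⟶ 𝒳.p.obj x), a = b := fun U a b =>
    (Over.mkIdTerminal.ofIso (eqToIso hx.symm)).hom_ext a b
  have key := fun hcj => Groth.Agent.GerbLib.exists_natural_iso_id h𝒴 (BasedFunctor.comp ψ φ)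
    (x := φ.obj x) (fun U => hx' ▸ ⟨Over.homMk U.hom (Category.comp_id _)⟩)
    (fun U a b => (Over.mkIdTerminal.ofIso (eqToIso hx'.symm)).hom_ext a b)
    (φ.map g) (by
      show 𝒴.p.map (φ.map g) = _
      rw [Groth.Agent.FibCatRep.map_map, hg']
      simp) hcj
  suffices hcj : _ by
    obtain ⟨ρ, h₁, h₂⟩ := key hcj
    exact ⟨ρ, fun z => ⟨(h₁ z).1, IsHomLift.of_fac' 𝒴.p _ _
      ((φ.w_obj _).trans (ψ.w_obj z)) rfl (by simp [(h₁ z).2])⟩, fun z z' f _ => h₂ z z' f⟩
  intro y c g' hgy hc β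
  -- move `y` to the image of a pullback of `x`
  obtain ⟨x', c₀, hx₀, hc₀⟩ := Groth.Agent.FibCatRep.exists_lift hgX (x := x)
    (𝒴.p.map c ≫ eqToHom (φ.w_obj x))
  obtain ⟨k, ⟨hk, hkc⟩, -⟩ := Groth.Agent.FibCatRep.existsUnique_cart hgY c (φ.map c₀)
    (eqToHom ((φ.w_obj x').trans hx₀)) (by rw [Groth.Agent.FibCatRep.map_map, hc₀]; simp)
  haveI : IsIso (𝒴.p.map k) := by rw [hk]; infer_instance
  haveI : IsIso k := Groth.Agent.FibCatRep.isIso_of_map hgY k
  obtain ⟨b, hb, -⟩ := Groth.Agent.GerbLib.Band.existsUnique_conj hgY k β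
  obtain ⟨α, rfl⟩ := hφ x' c₀ b
  obtain ⟨gx, ⟨hgx, hgxc⟩, -⟩ := Groth.Agent.FibCatRep.existsUnique_cart hgX c₀ (ψ.map (φ.map c₀) ≫ g)
    (eqToHom ((ψ.w_obj (φ.obj x')).trans (φ.w_obj x'))) (hsub _ _ _)
  have hα := hconj x' c₀ gx (IsHomLift.of_fac' 𝒳.p _ _ ((ψ.w_obj _).trans (φ.w_obj x')) rfl
    (by simp [hgx])) hgxc.symm α
  have hk' : φ.map (ψ.map k) ≫ g' = φ.map gx ≫ k := by
    refine Groth.Agent.FibCatRep.cancel hgY c ?_ ?_
    · have hgy' : 𝒴.p.map g' = eqToHom ((φ.w_obj _).trans (ψ.w_obj y)) := hgy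
      rw [Functor.map_comp, Functor.map_comp, Groth.Agent.FibCatRep.map_map,
        Groth.Agent.FibCatRep.map_map, Groth.Agent.FibCatRep.map_map, hk, hgy', hgx]
      simp
    · have hc' : φ.map (ψ.map c) ≫ φ.map g = g' ≫ c := hc
      rw [Category.assoc, Category.assoc, hkc, ← hc', ← Functor.map_comp, ← Functor.map_comp,
        ← Functor.map_comp, ← Category.assoc, ← Functor.map_comp, hkc, hgxc]
  show φ.map (ψ.map β.hom.1) ≫ g' = g' ≫ β.hom.1
  have hb' : φ.map α.hom.1 ≫ k = k ≫ β.hom.1 := hb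
  rw [← cancel_epi (φ.map (ψ.map k)), ← Category.assoc, ← Functor.map_comp, ← Functor.map_comp, ← hb',
    Functor.map_comp, Functor.map_comp, Category.assoc, hk', ← Category.assoc, ← Functor.map_comp, hα,
    Functor.map_comp, Category.assoc, hb', ← Category.assoc, ← hk', Category.assoc]

end Groth.Agent.S17913
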