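import Groth.Statements.S17917
import Groth.Agent.RefK0.InvTwist

set_option autoImplicit false
set_option backward.isDefEq.respectTransparency false
set_option linter.style.haveILetI false
set_option maxHeartbeats 1000000
universe u
open CategoryTheory CategoryTheory.Limits AlgebraicGeometry
open RefCh

namespace Groth.Agent.S17917

/-- Let k be an algebraically closed field, X an integral normal scheme of dimension s + 2 admitting a
closed immersion into some P^N_k over k, and L_1, …, L_s invertible O_X-modules with inverses M_1,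
…, M_s. Let ℒ_1 be a coherent reflexive O_X-module of rank one (ℒ_1 = O_X(D_1) for a Weil divisor
D_1, with dual ℒ_1^∨ = O_X(-D_1)) and ℒ_2 an invertible O_X-module (a Cartier divisor D_2) with
inverse 𝓜_2. With q(ℱ) the limit of 2 χ(c_1(L_1) ⋯ c_1(L_s) · [ℱ^[m]]) / m^2 (reflexive powers,
FGA.intNum in the M_i), assumed to exist for ℒ_1, ℒ_2 and the reflexive hull ℒ_1 ⊗̂ ℒ_2 of ℒ_1 ⊗
ℒ_2, one has (q(ℒ_1 ⊗̂ ℒ_2) - q(ℒ_1) - q(ℒ_2)) / 2 = χ(c_1(ℒ_2) c_1(L_1) ⋯ c_1(L_s) · ([O_X] -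
[ℒ_1^∨])), the right side written as the difference of the alternating sums FGA.intNum in (𝓜_2, M_1,
…, M_s) of O_X and of ℒ_1^∨; that is, D_1 · D_2 · L_1 ⋯ L_s equals the usual intersection number of
the Cartier divisor D_2 and the L_i with the cycle of D_1. (The published text normalises D^2 · L_1
⋯ L_s as twice the limit of χ(c_1(L_1) ⋯ c_1(L_s) · ([O_X] - [O_X(-mD)])) / m^2, the negative of the
number used here, and with that sign the identity fails for two lines on the projective plane, where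
it would read -1 = 1.) -/
theorem result (k : Type u) [Field k] [IsAlgClosed k] (X : Scheme.{u}) [X.Over (Spec (CommRingCat.of k))]
    [AlgebraicGeometry.IsIntegral X] (hnorm : Pi1.IsNormalScheme X) (s : ℕ) (hdim : topologicalKrullDim X = (s + 2 : ℕ))
    (hproj : ∃ (N : ℕ) (ι : X ⟶ CohB1.ProjSpace N k), IsClosedImmersion ι ∧ ι ≫ CohB1.ProjSpace.toSpec N k = X ↘ Spec (CommRingCat.of k))
    (L M : Fin s → X.Modules) (hL : ∀ i, PicF.IsInvertible (L i))
    (hLM : ∀ i, Nonempty (CohB1.tensorMod (L i) (M i) ≅ Coh.structureModule X))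
    (ℒ₁ ℒ₂ 𝓜₂ : X.Modules) (h₁ : RefHull.IsRef1 ℒ₁) (h₂ : PicF.IsInvertible ℒ₂)
    (h₂' : Nonempty (CohB1.tensorMod ℒ₂ 𝓜₂ ≅ Coh.structureModule X))
    (q₁ q₂ q₁₂ : ℝ)
    (hq₁ : Filter.Tendsto (fun m : ℕ => (2 : ℝ) * (FGA.intNum k X (s + 2) M (RefPow.refPow ℒ₁ m) : ℝ) / ((m : ℝ) ^ 2)) Filter.atTop (nhds q₁))
    (hq₂ : Filter.Tendsto (fun m : ℕ => (2 : ℝ) * (FGA.intNum k X (s + 2) M (RefPow.refPow ℒ₂ m) : ℝ) / ((m : ℝ) ^ 2)) Filter.atTop (nhds q₂))
    (hq₁₂ : Filter.Tendsto (fun m : ℕ => (2 : ℝ) * (FGA.intNum k X (s + 2) M (RefPow.refPow (RefPow.refTensor ℒ₁ ℒ₂) m) : ℝ) / ((m : ℝ) ^ 2)) Filter.atTop (nhds q₁₂)) :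
    (q₁₂ - q₁ - q₂) / 2 =
      ((FGA.intNum k X (s + 2) (Fin.cons 𝓜₂ M) (Coh.structureModule X) -
        FGA.intNum k X (s + 2) (Fin.cons 𝓜₂ M) (RefHull.dual ℒ₁) : ℤ) : ℝ) := by
  obtain ⟨N, ι, hι, hιs⟩ := hproj
  haveI := hι
  haveI := ProjMor.isProper_toSpec N k
  haveI : IsProper (X ↘ Spec (CommRingCat.of k)) := hιs ▸ inferInstance
  haveI : IsLocallyNoetherian X := LocallyOfFiniteType.isLocallyNoetherian (X ↘ Spec (CommRingCat.of k))
  obtain ⟨δ, hδ, hn⟩ := Groth.Agent.RefK0.exists_delta k hdim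
  have htop : ∀ F : X.Modules, Coh.IsCoh F → Cyc.CohLe δ ((s + 2 : ℕ) : ℤ) F :=
    fun F hF => Groth.Agent.RefK0.cohLe_top hδ.2.2 hn hF
  obtain ⟨f, hf⟩ := Groth.Agent.RefK0.exists_eulerHom (δ := δ) (n := ((s + 2 : ℕ) : ℤ)) k (s + 2) hdim.le
  have hM : ∀ i, PicF.IsInvertible (M i) := fun i => Groth.Agent.Intersect.isInvertible_inverse (hL i) (hLM i)
  have hB' : PicF.IsInvertible 𝓜₂ := Groth.Agent.Intersect.isInvertible_inverse h₂ h₂'
  have hcons : ∀ i, PicF.IsInvertible ((Fin.cons 𝓜₂ M : Fin (s + 1) → X.Modules) i) := fun i => Fin.cases hB' hM i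
  have hO : Coh.IsCoh (Coh.structureModule X) := Groth.Agent.RefStalk.isCoh_structureModule
  let cl := KZero.clSub (Cyc.CohLe δ ((s + 2 : ℕ) : ℤ))
  let A := Groth.Agent.RefK0.alt (δ := δ) (n := ((s + 2 : ℕ) : ℤ)) hM Finset.univ
  have hzero : ∀ c, c ∈ Groth.Agent.RefK0.Fil δ ((s + 2 : ℕ) : ℤ) (((s + 2 : ℕ) : ℤ) - 3) → A c = 0 := fun c hc => by
    have h := Groth.Agent.RefK0.alt_mem hM hδ Finset.univ (by omega) hc
    rw [Finset.card_univ, Fintype.card_fin, Groth.Agent.RefK0.fil_eq_bot (fun x => by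
      have := Groth.Agent.RefK0.delta_nonneg hδ.2.2 hdim.le hn x
      omega), AddSubgroup.mem_bot] at h
    exact h
  let x₁ := cl ℒ₁ - cl (Coh.structureModule X)
  let e : ℤ := f (A (Groth.Agent.RefK0.dd h₂ x₁))
  have hsub : ∀ G : X.Modules, RefHull.IsRef1 G → cl G - cl (Coh.structureModule X) ∈
      Groth.Agent.RefK0.Fil δ ((s + 2 : ℕ) : ℤ) (((s + 2 : ℕ) : ℤ) - 1) := fun G hG =>
    Groth.Agent.RefK0.mk_mem_fil.1 ((QuotientAddGroup.mk_sub _ _ _).trans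
      (sub_eq_zero.2 (Groth.Agent.RefK0.sub_mem_fil hδ hn hO hG.1 ((Groth.Agent.RefK0.nonempty_genericStalk hG.2.2).map fun e =>
        (Groth.Agent.RefK0.nonempty_stalk TMul.isInvertible_structureModule _).some.symm.trans e)).symm))
  have hI : ∀ G : X.Modules, Coh.IsCoh G → FGA.intNum k X (s + 2) M G = f (A (cl G)) :=
    fun G hG => Groth.Agent.RefK0.intNum_eq k hf htop hM hG
  have hR2 := Groth.Agent.RefDiv.isRef1_of_isInvertible h₂
  have hR12 : RefHull.IsRef1 (RefPow.refTensor ℒ₁ ℒ₂) :=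
    Groth.Agent.RefDiv.isRef1_tensor (Groth.Agent.RefDiv.lat_of_isRef1 h₁) (Groth.Agent.RefDiv.lat_of_isRef1 hR2)
  have hmain : ∀ m : ℕ, FGA.intNum k X (s + 2) M (RefPow.refPow (RefPow.refTensor ℒ₁ ℒ₂) m) -
      FGA.intNum k X (s + 2) M (RefPow.refPow ℒ₁ m) - FGA.intNum k X (s + 2) M (RefPow.refPow ℒ₂ m) +
        f (A (cl (Coh.structureModule X))) = (m : ℤ) * m * e := fun m => by
    obtain ⟨hm1, hr⟩ := Groth.Agent.RefK0.refPow_rel hnorm hδ hn h₁ m
    obtain ⟨e12, e2⟩ := Groth.Agent.RefK0.cl_refPow_refTensor_inv hnorm htop h₁ h₂ m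
    rw [hI _ (Groth.Agent.RefK0.refPow_rel hnorm hδ hn hR12 m).1.1, hI _ hm1.1,
      hI _ (Groth.Agent.RefK0.refPow_rel hnorm hδ hn hR2 m).1.1]
    simp only [cl]
    rw [e12, e2]
    have h1 := hzero _ (by
      have h := Groth.Agent.RefK0.iter_tw_first hδ h₂ (by omega) (hsub _ hm1) m
      rwa [show ((s + 2 : ℕ) : ℤ) - 1 - 2 = ((s + 2 : ℕ) : ℤ) - 3 by ring] at h)
    have h2 := hzero _ (by
      have h := Groth.Agent.RefK0.dd_mem h₂ hδ (by omega) hr
      rwa [show ((s + 2 : ℕ) : ℤ) - 2 - 1 = ((s + 2 : ℕ) : ℤ) - 3 by ring] at h)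
    replace h1 := congrArg f h1
    replace h2 := congrArg f h2
    simp only [A, cl, iterate_map_sub, Groth.Agent.RefK0.alt_sub, Groth.Agent.RefK0.alt_zsmul, map_sub, map_zsmul,
      map_zero, smul_eq_mul] at h1 h2
    simp only [A, cl, e, x₁, Groth.Agent.RefK0.alt_sub, map_sub]
    linear_combination h1 + (m : ℤ) * h2
  have hrhs : FGA.intNum k X (s + 2) (Fin.cons 𝓜₂ M) (Coh.structureModule X) -
      FGA.intNum k X (s + 2) (Fin.cons 𝓜₂ M) (RefHull.dual ℒ₁) = e := by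
    have hd := Groth.Agent.RefDiv.isRef1_dual (Groth.Agent.RefDiv.lat_of_isRef1 h₁)
    rw [Groth.Agent.RefK0.intNum_eq k hf htop hcons hO, Groth.Agent.RefK0.intNum_eq k hf htop hcons hd.1,
      Groth.Agent.RefK0.alt_cons hM hB', Groth.Agent.RefK0.alt_cons hM hB', Groth.Agent.RefK0.dd_alt,
      Groth.Agent.RefK0.dd_alt]
    have hz := Groth.Agent.RefK0.mk_mem_fil.1 (((QuotientAddGroup.mk_sub _ _ _).trans (congrArg₂ (· - ·)
      (QuotientAddGroup.mk_add _ _ _) (QuotientAddGroup.mk_add _ _ _))).trans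
        (sub_eq_zero.2 (Groth.Agent.RefK0.q_refTensor hnorm hδ hn h₁ hd)))
    rw [Groth.Agent.RefK0.cl_iso (Groth.Agent.RefK0.nonempty_refTensor_dual hnorm h₁).some] at hz
    have h1 := hzero _ (by
      have h := Groth.Agent.RefK0.dd_mem hB' hδ (by omega) hz
      rwa [show ((s + 2 : ℕ) : ℤ) - 2 - 1 = ((s + 2 : ℕ) : ℤ) - 3 by ring] at h)
    have h2 := hzero _ (by
      have h := Groth.Agent.RefK0.dd_mem hB' hδ (by omega) (Groth.Agent.RefK0.dd_mem h₂ hδ (by omega) (hsub _ h₁))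
      rwa [show ((s + 2 : ℕ) : ℤ) - 1 - 1 - 1 = ((s + 2 : ℕ) : ℤ) - 3 by ring] at h)
    have h3 := congrArg (fun y => f (A y)) (Groth.Agent.RefK0.dd_inverse h₂ hB'
      (TMul.commIso 𝓜₂ ℒ₂ ≪≫ h₂'.some) x₁)
    replace h1 := congrArg f h1
    replace h2 := congrArg f h2
    simp only [A, cl, x₁, map_sub, map_add, map_neg, Groth.Agent.RefK0.alt_sub, Groth.Agent.RefK0.alt_add,
      Groth.Agent.RefK0.alt_neg, map_zero] at h1 h2 h3
    simp only [A, cl, e, x₁, map_sub, map_neg, Groth.Agent.RefK0.alt_sub]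
    linear_combination -h1 + h2 - h3
  have hlim : Filter.Tendsto (fun m : ℕ => ((2 : ℝ) * (e : ℝ)) - (2 * (f (A (cl (Coh.structureModule X))) : ℝ)) *
      ((m : ℝ)⁻¹ * (m : ℝ)⁻¹)) Filter.atTop (nhds (2 * (e : ℝ))) := by
    have h0 := tendsto_inv_atTop_nhds_zero_nat (𝕜 := ℝ)
    simpa using (tendsto_const_nhds (x := (2 * (e : ℝ)))).sub
      ((h0.mul h0).const_mul (2 * (f (A (cl (Coh.structureModule X))) : ℝ)))
  have hlim2 := (hq₁₂.sub hq₁).sub hq₂
  have hq : q₁₂ - q₁ - q₂ = 2 * (e : ℝ) := by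
    refine tendsto_nhds_unique hlim2 (hlim.congr' ?_)
    filter_upwards [Filter.eventually_gt_atTop 0] with m hm
    have hm0 : (m : ℝ) ≠ 0 := by exact_mod_cast hm.ne'
    have h : (_ : ℝ) = _ := congrArg (fun z : ℤ => (z : ℝ)) (hmain m)
    push_cast at h
    field_simp
    linear_combination -h
  rw [hrhs, hq]
  ring

end Groth.Agent.S17917
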