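import Groth.Statements.S17918
import Groth.Agent.RefK0.Euler

set_option autoImplicit false
set_option backward.isDefEq.respectTransparency false
set_option linter.style.haveILetI false
universe u
open CategoryTheory CategoryTheory.Limits AlgebraicGeometry
open RefCh

namespace Groth.Agent.S17918

/-- Let k be an algebraically closed field, X an integral normal scheme of dimension s + 3 admitting a
closed immersion into some P^N_k over k, L_1, …, L_s, A and B invertible O_X-modules with inverses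
M_1, …, M_s, A' and B' (so that A' ⊗ B' is an inverse of A ⊗ B), and ℒ a coherent reflexive
O_X-module of rank one (ℒ = O_X(D)). Suppose 2 χ(c_1(A) c_1(L_1) ⋯ c_1(L_s) · [ℒ^[m]]) / m^2 → a, 2
χ(c_1(B) c_1(L_1) ⋯ c_1(L_s) · [ℒ^[m]]) / m^2 → b and 2 χ(c_1(A ⊗ B) c_1(L_1) ⋯ c_1(L_s) · [ℒ^[m]])
/ m^2 → c as m → ∞, the Euler characteristics being the alternating sums FGA.intNum in (A', M_1, …,
M_s), (B', M_1, …, M_s) and (A' ⊗ B', M_1, …, M_s) of the reflexive powers ℒ^[m]. Then c = a + b: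
the self-intersection number D^2 · L_0 · L_1 ⋯ L_s is additive in the invertible module L_0. -/
theorem result (k : Type u) [Field k] [IsAlgClosed k] (X : Scheme.{u}) [X.Over (Spec (CommRingCat.of k))]
    [AlgebraicGeometry.IsIntegral X] (hnorm : Pi1.IsNormalScheme X) (s : ℕ) (hdim : topologicalKrullDim X = (s + 3 : ℕ))
    (hproj : ∃ (N : ℕ) (ι : X ⟶ CohB1.ProjSpace N k), IsClosedImmersion ι ∧ ι ≫ CohB1.ProjSpace.toSpec N k = X ↘ Spec (CommRingCat.of k))
    (L M : Fin s → X.Modules) (hL : ∀ i, PicF.IsInvertible (L i))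
    (hLM : ∀ i, Nonempty (CohB1.tensorMod (L i) (M i) ≅ Coh.structureModule X))
    (A A' B B' : X.Modules) (hA : PicF.IsInvertible A) (hB : PicF.IsInvertible B)
    (hAA' : Nonempty (CohB1.tensorMod A A' ≅ Coh.structureModule X))
    (hBB' : Nonempty (CohB1.tensorMod B B' ≅ Coh.structureModule X))
    (ℒ : X.Modules) (hℒ : RefHull.IsRef1 ℒ) (a b c : ℝ)
    (ha : Filter.Tendsto (fun m : ℕ => (2 : ℝ) * (FGA.intNum k X (s + 3) (Fin.cons A' M) (RefPow.refPow ℒ m) : ℝ) / ((m : ℝ) ^ 2)) Filter.atTop (nhds a))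
    (hb : Filter.Tendsto (fun m : ℕ => (2 : ℝ) * (FGA.intNum k X (s + 3) (Fin.cons B' M) (RefPow.refPow ℒ m) : ℝ) / ((m : ℝ) ^ 2)) Filter.atTop (nhds b))
    (hc : Filter.Tendsto (fun m : ℕ => (2 : ℝ) * (FGA.intNum k X (s + 3) (Fin.cons (CohB1.tensorMod A' B') M) (RefPow.refPow ℒ m) : ℝ) / ((m : ℝ) ^ 2)) Filter.atTop (nhds c)) :
    c = a + b := by
  obtain ⟨N, ι, hι, hιs⟩ := hproj
  haveI := hι
  haveI := ProjMor.isProper_toSpec N k
  haveI : IsProper (X ↘ Spec (CommRingCat.of k)) := hιs ▸ inferInstance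
  haveI : IsLocallyNoetherian X := LocallyOfFiniteType.isLocallyNoetherian (X ↘ Spec (CommRingCat.of k))
  obtain ⟨δ, hδ, hn⟩ := Groth.Agent.RefK0.exists_delta k hdim
  have htop : ∀ F : X.Modules, Coh.IsCoh F → Cyc.CohLe δ ((s + 3 : ℕ) : ℤ) F :=
    fun F hF => Groth.Agent.RefK0.cohLe_top hδ.2.2 hn hF
  obtain ⟨f, hf⟩ := Groth.Agent.RefK0.exists_eulerHom (δ := δ) (n := ((s + 3 : ℕ) : ℤ)) k (s + 3) hdim.le
  have hM : ∀ i, PicF.IsInvertible (M i) := fun i => Groth.Agent.Intersect.isInvertible_inverse (hL i) (hLM i)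
  have hA' : PicF.IsInvertible A' := Groth.Agent.Intersect.isInvertible_inverse hA hAA'
  have hB' : PicF.IsInvertible B' := Groth.Agent.Intersect.isInvertible_inverse hB hBB'
  have hAB : PicF.IsInvertible (CohB1.tensorMod A' B') := TMul.isInvertible_tensorMod hA' hB'
  have hcons : ∀ {P : X.Modules}, PicF.IsInvertible P →
      ∀ i, PicF.IsInvertible ((Fin.cons P M : Fin (s + 1) → X.Modules) i) := fun hP i => Fin.cases hP hM i
  let cl := KZero.clSub (Cyc.CohLe δ ((s + 3 : ℕ) : ℤ))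
  let e : KZero.K0sub (Cyc.CohLe δ ((s + 3 : ℕ) : ℤ)) → ℤ := fun c =>
    - f (Groth.Agent.RefK0.dd hA' (Groth.Agent.RefK0.dd hB' (Groth.Agent.RefK0.alt hM Finset.univ c)))
  have hlin : ∀ m : ℕ, e (cl (RefPow.refPow ℒ m)) =
      e (cl (Coh.structureModule X)) + (m : ℤ) * e (cl ℒ - cl (Coh.structureModule X)) := fun m => by
    obtain ⟨-, h⟩ := Groth.Agent.RefK0.refPow_rel hnorm hδ hn hℒ m
    have h1 := Groth.Agent.RefK0.dd_mem hA' hδ (by omega) (Groth.Agent.RefK0.dd_mem hB' hδ (by omega)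
      (Groth.Agent.RefK0.alt_mem hM hδ Finset.univ (by omega) h))
    rw [Finset.card_univ, Fintype.card_fin, Groth.Agent.RefK0.fil_eq_bot (fun x => by
      have := Groth.Agent.RefK0.delta_nonneg hδ.2.2 hdim.le hn x
      omega), AddSubgroup.mem_bot] at h1
    have h2 := congrArg f h1
    simp only [Groth.Agent.RefK0.alt_sub, Groth.Agent.RefK0.alt_zsmul, map_sub, map_zsmul, map_zero, smul_eq_mul] at h2
    simp only [e, cl, Groth.Agent.RefK0.alt_sub, map_sub]
    linear_combination -h2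
  have hkey : ∀ m : ℕ, FGA.intNum k X (s + 3) (Fin.cons (CohB1.tensorMod A' B') M) (RefPow.refPow ℒ m) =
      FGA.intNum k X (s + 3) (Fin.cons A' M) (RefPow.refPow ℒ m) +
        FGA.intNum k X (s + 3) (Fin.cons B' M) (RefPow.refPow ℒ m) + e (cl (RefPow.refPow ℒ m)) := fun m => by
    have hm := (Groth.Agent.RefK0.refPow_rel hnorm hδ hn hℒ m).1.1
    rw [Groth.Agent.RefK0.intNum_eq k hf htop (hcons hAB) hm, Groth.Agent.RefK0.intNum_eq k hf htop (hcons hA') hm,
      Groth.Agent.RefK0.intNum_eq k hf htop (hcons hB') hm, Groth.Agent.RefK0.alt_cons hM hAB,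
      Groth.Agent.RefK0.alt_cons hM hA', Groth.Agent.RefK0.alt_cons hM hB', Groth.Agent.RefK0.dd_tensor hA' hB',
      map_neg, map_neg, map_neg, map_add, map_add]
    simp only [e, cl]
    ring
  have hlim : Filter.Tendsto (fun m : ℕ => (2 : ℝ) * (e (cl (RefPow.refPow ℒ m)) : ℝ) / ((m : ℝ) ^ 2))
      Filter.atTop (nhds 0) := by
    have h1 : Filter.Tendsto (fun m : ℕ => (2 * (e (cl (Coh.structureModule X)) : ℝ)) * ((m : ℝ)⁻¹ * (m : ℝ)⁻¹) +
        (2 * (e (cl ℒ - cl (Coh.structureModule X)) : ℝ)) * (m : ℝ)⁻¹) Filter.atTop (nhds 0) := by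
      have h0 := tendsto_inv_atTop_nhds_zero_nat (𝕜 := ℝ)
      simpa using ((h0.mul h0).const_mul (2 * (e (cl (Coh.structureModule X)) : ℝ))).add
        (h0.const_mul (2 * (e (cl ℒ - cl (Coh.structureModule X)) : ℝ)))
    refine h1.congr fun m => ?_
    rw [hlin]
    push_cast
    rcases Nat.eq_zero_or_pos m with rfl | hm
    · simp
    · have : (m : ℝ) ≠ 0 := by exact_mod_cast hm.ne'
      field_simp
  have h := (ha.add hb).add hlim
  rw [add_zero] at h
  refine tendsto_nhds_unique hc (h.congr fun m => ?_)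
  rw [hkey m]
  push_cast
  ring

end Groth.Agent.S17918
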