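import Groth.Statements.S17926
import Groth.Agent.RefK0.Apps

set_option autoImplicit false
set_option backward.isDefEq.respectTransparency false
universe u
open CategoryTheory CategoryTheory.Limits AlgebraicGeometry
open RefCh

namespace Groth.Agent.S17926

/-- Let k be an algebraically closed field, X an integral normal scheme of dimension n = s + 2 admitting
a closed immersion into some P^N_k over k, δ a dimension function on X (Cyc.IsSetup) with δ(generic
point) = n, L_1, …, L_{n-1} invertible O_X-modules with inverses M_1, …, M_{n-1}, and ℒ a coherent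
reflexive O_X-module of rank one (ℒ = O_X(-D) for a Weil divisor D, [O_D] = [O_X] - [ℒ]). With
c_1(L) · [F] = [F] - [L^{-1} ⊗ F] on K_0(Coh(X)), the class c_1(L_1) ⋯ c_1(L_{n-1}) · [O_D] = Σ_{I ⊆
{1, …, n-1}} (-1)^{|I|} ([M_I ⊗ O_X] - [M_I ⊗ ℒ]), where M_I = ⊗_{i ∈ I} M_i (FGA.tensorList of the
sorted I), lies in K_0(X), the subgroup generated by the classes of coherent modules with
zero-dimensional support: its image in K_0(Coh(X)) / K_0(X) (Cyc.toK0CohQuot δ n 0) vanishes. -/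
theorem result (k : Type u) [Field k] [IsAlgClosed k] (X : Scheme.{u}) [X.Over (Spec (CommRingCat.of k))]
    [AlgebraicGeometry.IsIntegral X] (hnorm : Pi1.IsNormalScheme X) (s : ℕ) (hdim : topologicalKrullDim X = (s + 2 : ℕ))
    (hproj : ∃ (N : ℕ) (ι : X ⟶ CohB1.ProjSpace N k), IsClosedImmersion ι ∧ ι ≫ CohB1.ProjSpace.toSpec N k = X ↘ Spec (CommRingCat.of k))
    (δ : X → ℤ) (hδ : Cyc.IsSetup X δ) (hδη : δ (genericPoint X) = (s + 2 : ℕ))
    (L M : Fin (s + 1) → X.Modules) (hL : ∀ i, PicF.IsInvertible (L i))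
    (hLM : ∀ i, Nonempty (CohB1.tensorMod (L i) (M i) ≅ Coh.structureModule X))
    (ℒ : X.Modules) (hℒ : RefHull.IsRef1 ℒ) :
    (∑ I : Finset (Fin (s + 1)), ((-1 : ℤ) ^ I.card) •
      (Cyc.toK0CohQuot δ (s + 2 : ℕ) 0 (CohB1.tensorMod (FGA.tensorList ((I.sort (· ≤ ·)).map M)) (Coh.structureModule X)) -
        Cyc.toK0CohQuot δ (s + 2 : ℕ) 0 (CohB1.tensorMod (FGA.tensorList ((I.sort (· ≤ ·)).map M)) ℒ))) = 0 := by
  haveI := hδ.1
  have hn : δ (genericPoint X) = ((s + 2 : ℕ) : ℤ) := hδη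
  have htop : ∀ F : X.Modules, Coh.IsCoh F → Cyc.CohLe δ ((s + 2 : ℕ) : ℤ) F :=
    fun F hF => Groth.Agent.RefK0.cohLe_top hδ.2.2 hn hF
  have hO : Coh.IsCoh (Coh.structureModule X) := Groth.Agent.RefStalk.isCoh_structureModule
  have hgen := (Groth.Agent.RefK0.nonempty_genericStalk hℒ.2.2).map fun e =>
    (Groth.Agent.RefK0.nonempty_stalk TMul.isInvertible_structureModule _).some.symm.trans e
  have hx := Groth.Agent.RefK0.mk_mem_fil.1 ((QuotientAddGroup.mk_sub _ _ _).trans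
    (sub_eq_zero.2 (Groth.Agent.RefK0.sub_mem_fil hδ hn hO hℒ.1 hgen)))
  have hM : ∀ i, PicF.IsInvertible (M i) := fun i => Groth.Agent.Intersect.isInvertible_inverse (hL i) (hLM i)
  have h := Groth.Agent.RefK0.alt_mem hM hδ Finset.univ (by omega) hx
  rw [Finset.card_univ, Fintype.card_fin, show ((s + 2 : ℕ) : ℤ) - 1 - ((s + 1 : ℕ) : ℤ) = 0 from by push_cast; ring] at h
  rw [← Groth.Agent.RefK0.sum_eq_alt hM htop hO hℒ.1] at h
  refine Eq.trans ?_ (Groth.Agent.RefK0.mk_mem_fil.2 h)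
  let q : KZero.K0sub (Cyc.CohLe δ ((s + 2 : ℕ) : ℤ)) →+ Cyc.K0CohQuot δ ((s + 2 : ℕ) : ℤ) 0 := QuotientAddGroup.mk' _
  refine Eq.trans ?_ (map_sum q _ _).symm
  refine Finset.sum_congr rfl fun I _ => ?_
  rw [map_zsmul, map_sub]
  rfl

end Groth.Agent.S17926
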