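import Groth.Statements.S17929
import Groth.Agent.RefK0.Apps

set_option autoImplicit false
set_option backward.isDefEq.respectTransparency false
universe u
open CategoryTheory CategoryTheory.Limits AlgebraicGeometry
open RefCh

namespace Groth.Agent.S17929

/-- Let k be an algebraically closed field, X an integral normal scheme of dimension n = s + 2 admitting
a closed immersion into some P^N_k over k, δ a dimension function on X (Cyc.IsSetup) with δ(generic
point) = n, L_1, …, L_s, A and B invertible O_X-modules with inverses M_1, …, M_s, A' and B' (so A'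
⊗ B' is an inverse of A ⊗ B), and ℒ a coherent reflexive O_X-module of rank one (ℒ = O_X(-D)). For a
family (N_0, …, N_s) of modules put S_N(ℒ) = Σ_{I ⊆ {0, …, s}} (-1)^{|I|} ([N_I ⊗ O_X] - [N_I ⊗ ℒ])
in K(X) = K_0(Coh(X)) (classes KZero.clSub of coherent modules), N_I = ⊗_{i∈I} N_i, so that S_{(A',
M_1, …, M_s)}(O_X(-D)) = c_1(A) c_1(L_1) ⋯ c_1(L_s) · [O_D]. Then S_{(A' ⊗ B', M)}(ℒ) = S_{(A',
M)}(ℒ) + S_{(B', M)}(ℒ): the K(X)-valued symbol c_1(L_0) c_1(L_1) ⋯ c_1(L_s) · [O_D] is additive,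
hence ℤ-linear, in the invertible module L_0. -/
theorem result (k : Type u) [Field k] [IsAlgClosed k] (X : Scheme.{u}) [X.Over (Spec (CommRingCat.of k))]
    [AlgebraicGeometry.IsIntegral X] (hnorm : Pi1.IsNormalScheme X) (s : ℕ) (hdim : topologicalKrullDim X = (s + 2 : ℕ))
    (hproj : ∃ (N : ℕ) (ι : X ⟶ CohB1.ProjSpace N k), IsClosedImmersion ι ∧ ι ≫ CohB1.ProjSpace.toSpec N k = X ↘ Spec (CommRingCat.of k))
    (δ : X → ℤ) (hδ : Cyc.IsSetup X δ) (hδη : δ (genericPoint X) = (s + 2 : ℕ))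
    (L M : Fin s → X.Modules) (hL : ∀ i, PicF.IsInvertible (L i))
    (hLM : ∀ i, Nonempty (CohB1.tensorMod (L i) (M i) ≅ Coh.structureModule X))
    (A A' B B' : X.Modules) (hA : PicF.IsInvertible A) (hB : PicF.IsInvertible B)
    (hAA' : Nonempty (CohB1.tensorMod A A' ≅ Coh.structureModule X))
    (hBB' : Nonempty (CohB1.tensorMod B B' ≅ Coh.structureModule X))
    (ℒ : X.Modules) (hℒ : RefHull.IsRef1 ℒ) :
    (∑ I : Finset (Fin (s + 1)), ((-1 : ℤ) ^ I.card) •
        (KZero.clSub (Cyc.CohLe δ (s + 2 : ℕ)) (CohB1.tensorMod (FGA.tensorList ((I.sort (· ≤ ·)).map (Fin.cons (CohB1.tensorMod A' B') M))) (Coh.structureModule X)) -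
          KZero.clSub (Cyc.CohLe δ (s + 2 : ℕ)) (CohB1.tensorMod (FGA.tensorList ((I.sort (· ≤ ·)).map (Fin.cons (CohB1.tensorMod A' B') M))) ℒ))) =
      (∑ I : Finset (Fin (s + 1)), ((-1 : ℤ) ^ I.card) •
        (KZero.clSub (Cyc.CohLe δ (s + 2 : ℕ)) (CohB1.tensorMod (FGA.tensorList ((I.sort (· ≤ ·)).map (Fin.cons A' M))) (Coh.structureModule X)) -
          KZero.clSub (Cyc.CohLe δ (s + 2 : ℕ)) (CohB1.tensorMod (FGA.tensorList ((I.sort (· ≤ ·)).map (Fin.cons A' M))) ℒ))) +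
      (∑ I : Finset (Fin (s + 1)), ((-1 : ℤ) ^ I.card) •
        (KZero.clSub (Cyc.CohLe δ (s + 2 : ℕ)) (CohB1.tensorMod (FGA.tensorList ((I.sort (· ≤ ·)).map (Fin.cons B' M))) (Coh.structureModule X)) -
          KZero.clSub (Cyc.CohLe δ (s + 2 : ℕ)) (CohB1.tensorMod (FGA.tensorList ((I.sort (· ≤ ·)).map (Fin.cons B' M))) ℒ))) := by
  haveI := hδ.1
  have hn : δ (genericPoint X) = ((s + 2 : ℕ) : ℤ) := hδη
  have htop : ∀ F : X.Modules, Coh.IsCoh F → Cyc.CohLe δ ((s + 2 : ℕ) : ℤ) F :=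
    fun F hF => Groth.Agent.RefK0.cohLe_top hδ.2.2 hn hF
  have hO : Coh.IsCoh (Coh.structureModule X) := Groth.Agent.RefStalk.isCoh_structureModule
  have hgen := (Groth.Agent.RefK0.nonempty_genericStalk hℒ.2.2).map fun e =>
    (Groth.Agent.RefK0.nonempty_stalk TMul.isInvertible_structureModule _).some.symm.trans e
  have hx := Groth.Agent.RefK0.mk_mem_fil.1 ((QuotientAddGroup.mk_sub _ _ _).trans
    (sub_eq_zero.2 (Groth.Agent.RefK0.sub_mem_fil hδ hn hO hℒ.1 hgen)))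
  have hM : ∀ i, PicF.IsInvertible (M i) := fun i => Groth.Agent.Intersect.isInvertible_inverse (hL i) (hLM i)
  have hA' : PicF.IsInvertible A' := Groth.Agent.Intersect.isInvertible_inverse hA hAA'
  have hB' : PicF.IsInvertible B' := Groth.Agent.Intersect.isInvertible_inverse hB hBB'
  have hAB : PicF.IsInvertible (CohB1.tensorMod A' B') := TMul.isInvertible_tensorMod hA' hB'
  have hc : ∀ {P : X.Modules}, PicF.IsInvertible P →
      ∀ i, PicF.IsInvertible ((Fin.cons P M : Fin (s + 1) → X.Modules) i) := fun hP i => Fin.cases hP hM i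
  rw [Groth.Agent.RefK0.sum_eq_alt (hc hAB) htop hO hℒ.1, Groth.Agent.RefK0.sum_eq_alt (hc hA') htop hO hℒ.1,
    Groth.Agent.RefK0.sum_eq_alt (hc hB') htop hO hℒ.1, Groth.Agent.RefK0.alt_cons hM hAB,
    Groth.Agent.RefK0.alt_cons hM hA', Groth.Agent.RefK0.alt_cons hM hB', Groth.Agent.RefK0.dd_tensor hA' hB']
  have hy := Groth.Agent.RefK0.alt_mem hM hδ Finset.univ (by omega) hx
  rw [Finset.card_univ, Fintype.card_fin] at hy
  have h2 := Groth.Agent.RefK0.dd_mem hA' hδ (by omega) (Groth.Agent.RefK0.dd_mem hB' hδ (by omega) hy)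
  rw [Groth.Agent.RefK0.fil_eq_bot (fun x => by
    have := Groth.Agent.RefK0.delta_nonneg hδ.2.2 hdim.le hn x
    omega), AddSubgroup.mem_bot] at h2
  rw [h2, add_zero, neg_add]

end Groth.Agent.S17929
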