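import Groth.Statements.S17934
import Mathlib.LinearAlgebra.FreeModule.PID
import Mathlib.RingTheory.Finiteness.Ideal
import Mathlib.RingTheory.AdjoinRoot
-- import your own Groth.Agent.* helpers here

set_option autoImplicit false
universe u
open MultCrv

namespace Groth.Agent.S17934

/-- Let R be a discrete valuation ring, n ≥ 1, A = R[X]/(X^n) with z the class of X, and M a finitely
generated A-module that is torsion-free as an R-module. Then for 1 ≤ i ≤ n the graded piece
M^(i)/M^(i-1) of the second canonical filtration (M^(i) the elements killed by z^i) is a free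
R-module. (Statement at a closed point of the sheaf statement on a primitive multiple curve of
multiplicity n, whose local rings are of the form R[X]/(X^n) with R the local ring of the reduced
smooth curve; stated for every discrete valuation ring R.) -/
theorem result (R : Type u) [CommRing R] [IsDomain R] [IsDiscreteValuationRing R] (n : ℕ) (hn : 1 ≤ n) (M : Type u) [AddCommGroup M] [Module (MultCrv.Rn R n) M] [Module R M] [IsScalarTower R (MultCrv.Rn R n) M] [Module.Finite (MultCrv.Rn R n) M] [Module.IsTorsionFree R M] (i : ℕ) (hi : 1 ≤ i) (hin : i ≤ n) : Module.Free R (MultCrv.G2 R n M i) := by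
  haveI : Module.Finite R (MultCrv.Rn R n) :=
    (Polynomial.monic_X_pow (R := R) n).finite_adjoinRoot
  haveI : Module.Finite R M := Module.Finite.trans (MultCrv.Rn R n) M
  haveI : IsNoetherian R M := isNoetherian_of_isNoetherianRing_of_finite R M
  let f : MultCrv.G2 R n M i →ₗ[MultCrv.Rn R n] M :=
    Submodule.liftQ _ ((MultCrv.z R n ^ (i - 1) • (LinearMap.id : M →ₗ[MultCrv.Rn R n] M)).comp
      (MultCrv.filt2 R n M i).subtype) (fun u hu => hu)
  have hf : Function.Injective f := by
    rw [← LinearMap.ker_eq_bot]
    exact Submodule.ker_liftQ_eq_bot _ _ _ (fun u hu => hu)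
  let g : MultCrv.G2 R n M i →ₗ[R] M := f.restrictScalars R
  haveI : Module.Finite R (MultCrv.G2 R n M i) := Module.Finite.of_injective g hf
  haveI : Module.IsTorsionFree R (MultCrv.G2 R n M i) :=
    hf.moduleIsTorsionFree f fun r x => LinearMap.map_smul_of_tower f r x
  exact Module.free_of_finite_type_torsion_free'

end Groth.Agent.S17934
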