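import Groth.Statements.S1794
import Groth.Agent.Shriek.UniqApps
import Groth.Agent.Shriek.RelDual
import Groth.Agent.Shriek.BCShr

set_option autoImplicit false
universe u
open CategoryTheory
open scoped TensorProduct
attribute [local instance] HasDerivedCategory.standard
open Dual2

namespace Groth.Agent.S1794

/-- Let R → A be a ring map which is flat and of finite presentation. (1) There exists a relative
dualizing complex K (relative dualizing: R-perfect with RHom_{A⊗_R A}(A, K ⊗^L_A (A ⊗_R A)) ≅ A, the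
base change taken along the left coprojection under its existence hypothesis and RHom_{A⊗_R A}(A, −)
given as a right adjoint Rμ of restriction along the multiplication map). (2) For any ring map R →
R', with A' = R' ⊗_R A and assuming the derived base change D(A) → D(A') exists, the base change of
such a K is a relative dualizing complex for R' → A' (for any choice of the corresponding right
adjoint over A' ⊗_{R'} A'). -/
theorem result (R A : Type u) [CommRing R] [CommRing A] [Algebra R A] [Module.Flat R A] [Algebra.FinitePresentation R A] [DRing.HasLBaseChange (Algebra.TensorProduct.includeLeftRingHom : A →+* TensorProduct R A A)] (Rμ : Dual.D (TensorProduct R A A) ⥤ Dual.D A) (adjμ : DRing.restrictD (Algebra.TensorProduct.lmul' R (S := A)).toRingHom ⊣ Rμ) : (∃ K : Dual.D A, Dual2.IsRelDualizing R A Rμ K) ∧ ∀ (K : Dual.D A), Dual2.IsRelDualizing R A Rμ K → ∀ (R' : Type u) [CommRing R'] [Algebra R R'] [DRing.HasLBaseChange (Algebra.TensorProduct.includeRight : A →ₐ[R] R' ⊗[R] A).toRingHom] [DRing.HasLBaseChange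 (Algebra.TensorProduct.includeLeftRingHom : R' ⊗[R] A →+* TensorProduct R' (R' ⊗[R] A) (R' ⊗[R] A))] (Rμ' : Dual.D (TensorProduct R' (R' ⊗[R] A) (R' ⊗[R] A)) ⥤ Dual.D (R' ⊗[R] A)), (DRing.restrictD (Algebra.TensorProduct.lmul' R' (S := R' ⊗[R] A)).toRingHom ⊣ Rμ') → Dual2.IsRelDualizing R' (R' ⊗[R] A) Rμ' ((DRing.LBaseChange (Algebra.TensorProduct.includeRight : A →ₐ[R] R' ⊗[R] A).toRingHom).obj K) := by
  obtain ⟨n, ψ, W, hψ, hW⟩ := Groth.Agent.Shriek.exists_shr_self R A
  refine ⟨⟨W, hW.isRelDualizing hψ Rμ adjμ⟩, fun K hK R' _ _ _ _ Rμ' adjμ' => ?_⟩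
  obtain ⟨C, hC, ⟨eC⟩⟩ := Groth.Agent.DTenLib.exists_kFlat_rep K
  have h1 := Groth.Agent.Shriek.Shr.baseChange_self (R' := R') hψ hC
    (Groth.Agent.Shriek.RA.of_iso (Groth.Agent.Shriek.shr_of_isRelDualizing hψ Rμ adjμ hK) eC.symm (Iso.refl _))
  let χ := (Algebra.TensorProduct.includeRight : A →ₐ[R] R' ⊗[R] A).toRingHom
  have h2 : Groth.Agent.Shriek.Shr (Groth.Agent.Shriek.bcPres (R' := R') ψ) ((DRing.LBaseChange χ).obj K)
      (Dual.inD R' R') :=
    Groth.Agent.Shriek.RA.of_iso h1 ((Groth.Agent.Shriek.lbcKFlatIso χ hC).symm ≪≫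
      (DRing.LBaseChange χ).mapIso eC) (Iso.refl _)
  exact h2.isRelDualizing (Groth.Agent.Shriek.bcPres_surjective hψ) Rμ' adjμ'

end Groth.Agent.S1794
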