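import Groth.Statements.S17947
import Groth.Agent.HensSchLib.Main

set_option autoImplicit false
set_option backward.isDefEq.respectTransparency false
universe u
open CategoryTheory AlgebraicGeometry Opposite
open HensSch

namespace Groth.Agent.S17947

/-- Let `ι : Xh ⟶ X` be the Henselization of a scheme `X` along a closed subset `Y`. For every Henselian
scheme `Z` (a locally ringed space covered by affine Henselian spectra of Henselian pairs) and every
morphism of locally ringed spaces `g : Z ⟶ X` whose image lies in `Y`, there is exactly one morphism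
`Z ⟶ Xh` whose composite with `ι` is `g` (the Henselization is final among such `Z`). -/
theorem result (X : Scheme.{u}) (Y : Set X)
    (Xh : LocallyRingedSpace.{u}) (ι : Xh ⟶ X.toLocallyRingedSpace)
    (hh : HensSch.IsHenselizationAlong X Y Xh ι)
    (Z : LocallyRingedSpace.{u}) (hZ : HensSch.IsHensScheme Z) (g : Z ⟶ X.toLocallyRingedSpace)
    (hg : Set.range g.base ⊆ Y) : ∃! g' : Z ⟶ Xh, g' ≫ ι = g := by
  obtain ⟨hcl, hemb, hrange, hch⟩ := hh
  refine HensSchLib.existsUnique_lift hemb ?_ (by rw [hrange]; exact hcl) g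
    (by rw [hrange]; exact hg) (HensSchLib.henselian_sections hZ)
  intro U y hy
  obtain ⟨A, _, j, hj, ⟨p, hp⟩, V, v, hv, π, hvr, hsq, hV⟩ :=
    hch (ι.base y) (hrange ▸ ⟨y, rfl⟩)
  obtain ⟨_, ⟨f, rfl⟩, hf, hfU⟩ :=
    PrimeSpectrum.isTopologicalBasis_basic_opens.exists_subset_of_mem_open (a := p)
      (show p ∈ ((j ⁻¹ᵁ U : TopologicalSpace.Opens _) : Set _) from by
        change j.base p ∈ U
        rw [hp]; exact hy)
      (j ⁻¹ᵁ U).2
  refine ⟨j ''ᵁ PrimeSpectrum.basicOpen f,
    HensSchLib.good_of_chart hrange j v π hvr hsq hV f, ?_, ?_⟩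
  · exact ⟨p, hf, hp⟩
  · rintro _ ⟨q, hq, rfl⟩
    exact hfU hq

end Groth.Agent.S17947
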