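import Groth.Statements.S17948
import Groth.Agent.HensSph.Acyc

set_option autoImplicit false
universe u
open CategoryTheory AlgebraicGeometry Opposite
open HensSch

namespace Groth.Agent.S17948

/-- Let `(A, I)` be a Henselian pair with `A` of prime characteristic `p`, let `(Z, π)` be its affine
Henselian spectrum with its map to `Spec A` (so `Z` is the Henselization of `Spec A` along `V(I)`),
and let `F` be a quasi-coherent module on `Spec A`. Then the sheaf cohomology `H^j(Z, π^* F)` of the
pulled-back module vanishes for every `j > 0`. -/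
theorem result (A : Type u) [CommRing A] (I : Ideal A)
    [HenselianRing A I] (p : ℕ) [Fact p.Prime] [CharP A p]
    (Z : LocallyRingedSpace.{u}) (π : Z ⟶ HensSch.specLRS A) (hZ : HensSch.IsSph A I Z π)
    (F : (Spec (CommRingCat.of A)).Modules) [F.IsQuasicoherent] (j : ℕ) (hj : 0 < j) :
    Subsingleton (ModSite.HC Z.sheaf ((HensSch.pullMod π).obj F) j) := by
  haveI hF : CategoryTheory.IsIso (Scheme.Modules.fromTildeΓ (R := CommRingCat.of A) F) :=
    Scheme.Modules.isIso_fromTildeΓ_of_isQuasicoherent (R := CommRingCat.of A) F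
  obtain ⟨n, rfl⟩ := Nat.exists_eq_succ_of_ne_zero hj.ne'
  have h := Groth.Agent.HensSph.subsingleton_HC hZ p ((moduleSpecΓFunctor (R := CommRingCat.of A)).obj F) n
  let f : ModSite.toAb ((HensSch.pullMod π).obj (tilde ((moduleSpecΓFunctor (R := CommRingCat.of A)).obj F))) ≅ ModSite.toAb ((HensSch.pullMod π).obj F) :=
    (SheafOfModules.toSheaf (ModSite.ringSh Z.sheaf)).mapIso ((HensSch.pullMod π).mapIso (@asIso _ _ _ _ (Scheme.Modules.fromTildeΓ (R := CommRingCat.of A) F) hF))
  refine subsingleton_of_forall_eq 0 fun x => ?_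
  have e : CategoryTheory.Sheaf.H.map f.hom (n + 1) (CategoryTheory.Sheaf.H.map f.inv (n + 1) x) = x := by
    rw [← CategoryTheory.Sheaf.H.map_comp_apply, f.inv_hom_id, CategoryTheory.Sheaf.H.map_id_apply]
  rw [← e, @Subsingleton.elim _ h (CategoryTheory.Sheaf.H.map f.inv (n + 1) x) 0]
  exact map_zero _

end Groth.Agent.S17948
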