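import Groth.Statements.S17949
import Groth.Agent.HensSchLib.Sph

set_option autoImplicit false
set_option backward.isDefEq.respectTransparency false
universe u
open CategoryTheory AlgebraicGeometry Opposite
open HensSch TopologicalSpace
open Groth.Agent.HensSchLib

namespace Groth.Agent.S17949

/-- Let `X` be a Henselian scheme and let `U = Sph(A, I)`, `V = Sph(B, J)` be affine Henselian opens of
`X` (open immersions `iU`, `iV` of the affine Henselian spectra of Henselian pairs). Then every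
point of `U ∩ V` lies in an open subset of `X` which is at the same time the image of a
distinguished open `D(f) ∩ V(I)` of `U` and the image of a distinguished open `D(g) ∩ V(J)` of `V`. -/
theorem result (X : LocallyRingedSpace.{u}) (hX : HensSch.IsHensScheme X)
    (U V : LocallyRingedSpace.{u}) (iU : U ⟶ X) [LocallyRingedSpace.IsOpenImmersion iU]
    (iV : V ⟶ X) [LocallyRingedSpace.IsOpenImmersion iV]
    (A : Type u) [CommRing A] (I : Ideal A) [HenselianRing A I] (πU : U ⟶ HensSch.specLRS A)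
    (hU : HensSch.IsSph A I U πU)
    (B : Type u) [CommRing B] (J : Ideal B) [HenselianRing B J] (πV : V ⟶ HensSch.specLRS B)
    (hV : HensSch.IsSph B J V πV)
    (x : X) (hxU : x ∈ Set.range iU.base) (hxV : x ∈ Set.range iV.base) :
    ∃ (f : A) (g : B), x ∈ iU.base '' (HensSch.dOpen πU f : Set U) ∧
      iU.base '' (HensSch.dOpen πU f : Set U) = iV.base '' (HensSch.dOpen πV g : Set V) := by
  obtain ⟨u, hu⟩ := hxU
  obtain ⟨v, hv⟩ := hxV
  have hUo : Topology.IsOpenEmbedding iU.base :=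
    (inferInstance : LocallyRingedSpace.IsOpenImmersion iU).base_open
  have hVo : Topology.IsOpenEmbedding iV.base :=
    (inferInstance : LocallyRingedSpace.IsOpenImmersion iV).base_open
  let R : Opens X.toTopCat := ⟨Set.range iV.base, hVo.isOpen_range⟩
  obtain ⟨_, ⟨f₀, rfl⟩, huf, hfR⟩ := Opens.isBasis_iff_nbhd.mp (isBasis_dOpen hU)
    (U := (Opens.map iU.base).obj R) (x := u)
    (show iU.base u ∈ Set.range iV.base from hu ▸ ⟨v, hv⟩)
  let T : Opens X.toTopCat := ⟨iU.base '' (dOpen πU f₀ : Set U), hUo.isOpenMap _ (dOpen πU f₀).2⟩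
  obtain ⟨_, ⟨g, rfl⟩, hvg, hgT⟩ := Opens.isBasis_iff_nbhd.mp (isBasis_dOpen hV)
    (U := (Opens.map iV.base).obj T) (x := v) (show iV.base v ∈ T from hv ▸ hu ▸ ⟨u, huf, rfl⟩)
  have hTR : ∀ ⦃y : X⦄, y ∈ T → y ∈ Set.range iV.base := by
    rintro _ ⟨w, hw, rfl⟩
    exact hfR hw
  set N := (Opens.map iV.base).obj T
  have : IsIso (iV.c.app (op T)) := by
    refine PresheafedSpace.IsOpenImmersion.c_iso' iV.toShHom.hom N ?_
    ext1
    exact (Set.image_preimage_eq_of_subset hTR).symm
  let sN := (V.presheaf.map (homOfLE (le_top : N ≤ (Opens.map πV.base).obj ⊤)).op).hom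
    (secMap πV ⊤ g)
  let sX := (inv (iV.c.app (op T))).hom sN
  have hsX : (iV.c.app (op T)).hom sX = sN := by
    change ((inv (iV.c.app (op T))) ≫ iV.c.app (op T)).hom sN = sN
    rw [IsIso.inv_hom_id]; rfl
  have hWT : dOpen πU f₀ ≤ (Opens.map iU.base).obj T := fun w hw => ⟨w, hw, rfl⟩
  set b := (appLE iU T (dOpen πU f₀) hWT).hom sX
  obtain ⟨a, n, han⟩ := exists_mul_pow_sub_mem hU f₀ b
  have hvan : b * secMap πU (PrimeSpectrum.basicOpen f₀) f₀ ^ n -
      secMap πU (PrimeSpectrum.basicOpen f₀) a ∈ vanish (dOpen πU f₀) := by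
    rw [vanish_eq_radical hU f₀]
    exact Ideal.le_radical han
  have hiff : ∀ w : U, w ∈ dOpen πU (a * f₀) ↔ iU.base w ∈ iV.base '' (dOpen πV g : Set V) := by
    intro w
    have hsN : ∀ v' : V, v' ∈ V.toRingedSpace.basicOpen sN ↔
        v' ∈ N ∧ v' ∈ dOpen πV g := fun v' => by
      have e := RingedSpace.basicOpen_res (X := V.toRingedSpace)
        (homOfLE (le_top : N ≤ (Opens.map πV.base).obj ⊤)).op (secMap πV ⊤ g)
      refine (iff_of_eq (congrArg (fun Q : Opens V.toTopCat => v' ∈ Q) e)).trans ?_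
      exact and_congr_right fun _ => ((basicOpen_secMap ⊤ g v').trans (and_iff_right trivial))
    have h1 : w ∈ U.toRingedSpace.basicOpen b ↔
        w ∈ dOpen πU f₀ ∧ iU.base w ∈ iV.base '' (dOpen πV g : Set V) := by
      rw [basicOpen_appLE]
      refine and_congr_right fun hw => ?_
      obtain ⟨v', hv'⟩ := hfR hw
      have h2 : v' ∈ V.toRingedSpace.basicOpen ((iV.c.app (op T)).hom sX) ↔
          iV.base v' ∈ X.toRingedSpace.basicOpen sX :=
        iff_of_eq (congrArg (fun Q : Opens V.toTopCat => v' ∈ Q)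
          (LocallyRingedSpace.preimage_basicOpen iV sX)).symm
      rw [hsX, hsN] at h2
      rw [← hv', ← h2, hVo.injective.mem_set_image]
      exact and_iff_right_of_imp fun h => hgT h
    have hmem : ∀ c : A, w ∈ dOpen πU c ↔ c ∉ (πU.base w).asIdeal := fun c => Iff.rfl
    rw [hmem]
    by_cases hw : w ∈ dOpen πU f₀
    · have hf0 : f₀ ∉ (πU.base w).asIdeal := (hmem f₀).mp hw
      have h3 := basicOpen_eq_of_sub_mem hvan w
      have h4 : w ∈ U.toRingedSpace.basicOpen (b * secMap πU (PrimeSpectrum.basicOpen f₀) f₀ ^ n) ↔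
          w ∈ U.toRingedSpace.basicOpen b := by
        rw [RingedSpace.mem_basicOpen _ _ _ hw, RingedSpace.mem_basicOpen _ _ _ hw]
        erw [map_mul, map_pow, IsUnit.mul_iff]
        exact and_iff_left (((RingedSpace.mem_basicOpen U.toRingedSpace _ w hw).mp
          ((basicOpen_secMap _ f₀ w).mpr ⟨hw, hf0⟩)).pow n)
      rw [h4, h1, basicOpen_secMap] at h3
      constructor
      · intro h
        exact (h3.mpr ⟨hw, fun h' => h ((πU.base w).asIdeal.mul_mem_right f₀ h')⟩).2
      · intro h h'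
        rcases (πU.base w).2.mem_or_mem h' with h' | h'
        · exact (h3.mp ⟨hw, h⟩).2 h'
        · exact hf0 h'
    · refine iff_of_false (fun h => hw fun h' => h ((πU.base w).asIdeal.mul_mem_left a h')) ?_
      rintro ⟨v', hv', hv''⟩
      obtain ⟨w', hw', hw''⟩ := hgT hv'
      exact hw (hUo.injective (hw''.trans hv'') ▸ hw')
  refine ⟨a * f₀, g, ⟨u, (hiff u).mpr ⟨v, hvg, hv.trans hu.symm⟩, hu⟩, ?_⟩
  ext y
  constructor
  · rintro ⟨w, hw, rfl⟩
    exact (hiff w).mp hw
  · rintro ⟨v', hv', rfl⟩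
    obtain ⟨w', -, hw'⟩ := hgT hv'
    exact ⟨w', (hiff w').mpr ⟨v', hv', hw'.symm⟩, hw'⟩

end Groth.Agent.S17949
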