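import Groth.Statements.S17953
import Groth.Agent.HensSchLib.Mods

set_option autoImplicit false
set_option linter.style.haveILetI false
set_option backward.isDefEq.respectTransparency false
set_option backward.isDefEq.respectTransparency.types false
universe u
open CategoryTheory AlgebraicGeometry Opposite
open HensSch

namespace Groth.Agent.S17953

/-- Let `ι : Xh ⟶ X` be the Henselization of a quasi-compact scheme `X` along a closed subset `Y`
containing every closed point of `X`. Then `F ↦ F^h = ι^* F` is faithful on quasi-coherent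
`O_X`-modules. (The published statement has no condition on `X` or `Y`; for `X = Spec (k × k)`, `Y`
one of the two points and `F` the quasi-coherent module supported at the other point, `F^h = 0`
while `F` has nonzero endomorphisms, so faithfulness fails. The published argument, faithful
flatness of the local rings of `Xh` over those of `X` at points of `Y`, gives faithfulness exactly
when every point of `X` specializes to a point of `Y`, which the two hypotheses here ensure.) -/
theorem result (X : Scheme.{u}) [CompactSpace X] (Y : Set X)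
    (hY : ∀ x : X, IsClosed ({x} : Set X) → x ∈ Y)
    (Xh : LocallyRingedSpace.{u}) (ι : Xh ⟶ X.toLocallyRingedSpace)
    (hh : HensSch.IsHenselizationAlong X Y Xh ι)
    (F G : X.Modules) [F.IsQuasicoherent] [G.IsQuasicoherent] :
    Function.Injective ((HensSch.pullMod ι).map : (F ⟶ G) → ((HensSch.pullMod ι).obj F ⟶ (HensSch.pullMod ι).obj G)) := by
  have hfl := Groth.Agent.HensSchLib.flat_stalkMap_henselization hh
  haveI : Limits.PreservesFiniteLimits (HensSch.pullMod ι) :=
    Groth.Agent.HensSchLib.preservesFiniteLimits_pullMod ι hfl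
  haveI : (HensSch.pullMod ι).Additive := Functor.additive_of_preserves_binary_products _
  intro φ ψ he
  rw [← sub_eq_zero]
  set χ : F ⟶ G := φ - ψ
  have hχ : (HensSch.pullMod ι).map χ = 0 := by
    change (HensSch.pullMod ι).map (φ - ψ) = 0
    rw [Functor.map_sub, he, sub_self]
  apply Scheme.Modules.hom_ext
  intro U
  ext t
  refine TopCat.Sheaf.eq_of_locally_eq' ⟨G.presheaf, G.isSheaf⟩
    (fun V : {V : X.Opens // V ≤ U ∧ ∀ h : V ≤ U,
      (G.presheaf.map (homOfLE h).op).hom (χ.app U t) = 0} => V.1) U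
    (fun V => homOfLE V.2.1) ?_ _ _ fun V => ?_
  swap
  · exact (V.2.2 V.2.1).trans (map_zero _).symm
  intro z hz
  obtain ⟨x, hxcl, hx⟩ :=
    (isClosed_closure : IsClosed (closure ({z} : Set X))).exists_closed_singleton
      ⟨z, subset_closure rfl⟩
  have hzx : z ⤳ x := specializes_iff_mem_closure.mpr hxcl
  obtain ⟨_, ⟨V : X.Opens, hV : IsAffineOpen V, rfl⟩, hxV, -⟩ :=
    X.isBasis_affineOpens.exists_subset_of_mem_open (Set.mem_univ x) isOpen_univ
  have hzV : z ∈ V := hzx.mem_open V.2 hxV
  obtain ⟨f, hfU, hzf⟩ := hV.exists_basicOpen_le (V := U ⊓ V) ⟨z, hz, hzV⟩ hzV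
  obtain ⟨n, m, hm⟩ := (Groth.Agent.QC.isLoc_of_isQCoh (M := F) hV).exists_extend f
    (Groth.Agent.QC.res F (hfU.trans inf_le_left) t)
  obtain ⟨y, rfl⟩ : x ∈ Set.range ι.base := hh.2.2.1 ▸ hY x hx
  have hst := Groth.Agent.HensSchLib.germ_map_eq_zero_of_pullMod ι hfl y χ hχ
  have hgerm : (G.presheaf.germ V (ι.base y) hxV).hom (χ.app V m) = 0 := by
    have e := congrArg (fun k => (ModuleCat.Hom.hom k)
      (Groth.Agent.KFlat.pgerm F.val (ι.base y) V hxV m)) hst
    exact (Groth.Agent.RSStalk.pstMap_germ (O := X.toLocallyRingedSpace.sheaf)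
      χ.val (ι.base y) hxV m).symm.trans e
  obtain ⟨W, hxW, i₁, i₂, hW⟩ :=
    TopCat.Presheaf.germ_eq G.presheaf (ι.base y) hxV hxV _ 0 (hgerm.trans (map_zero _).symm)
  rw [map_zero] at hW
  refine TopologicalSpace.Opens.mem_iSup.mpr
    ⟨⟨X.basicOpen f ⊓ W, inf_le_left.trans (hfU.trans inf_le_left), fun h => ?_⟩,
      hzf, hzx.mem_open W.2 hxW⟩
  set D := X.basicOpen f ⊓ W
  have h1 : χ.app D (Groth.Agent.QC.res F (inf_le_left.trans (X.basicOpen_le f)) m) = 0 := by
    have hn := ConcreteCategory.congr_hom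
      (χ.mapPresheaf.naturality (homOfLE (inf_le_left.trans (X.basicOpen_le f) : D ≤ V)).op) m
    refine hn.trans ?_
    change (G.presheaf.map _).hom (χ.app V m) = 0
    have : G.presheaf.map (homOfLE (inf_le_left.trans (X.basicOpen_le f) : D ≤ V)).op =
        G.presheaf.map i₁.op ≫ G.presheaf.map (homOfLE (inf_le_right : D ≤ W)).op :=
      (congrArg G.presheaf.map (Subsingleton.elim _ _)).trans (G.presheaf.map_comp _ _)
    rw [this]
    exact (congrArg (G.presheaf.map (homOfLE (inf_le_right : D ≤ W)).op).hom hW).trans (map_zero _)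
  have h2 : Groth.Agent.QC.res F (inf_le_left.trans (X.basicOpen_le f)) m =
      (Groth.Agent.QC.resO X (inf_le_left.trans (X.basicOpen_le f) : D ≤ V) f) ^ n •
        Groth.Agent.QC.res F h t := by
    rw [← Groth.Agent.QC.res_res F (inf_le_left : D ≤ X.basicOpen f) (X.basicOpen_le f) m, hm,
      Groth.Agent.QC.res_smul, map_pow, Groth.Agent.QC.res_res]
    congr 2
    exact Groth.Agent.QC.resO_resO (X := X) _ _ f
  rw [h2, Scheme.Modules.Hom.app_smul] at h1
  have hu : IsUnit ((Groth.Agent.QC.resO X (inf_le_left.trans (X.basicOpen_le f) : D ≤ V) f) ^ n) := by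
    refine IsUnit.pow n ?_
    rw [← Groth.Agent.QC.resO_resO (X := X) (inf_le_left : D ≤ X.basicOpen f) (X.basicOpen_le f) f]
    exact (RingedSpace.isUnit_res_basicOpen X.toLocallyRingedSpace.toRingedSpace f).map _
  have h3 : χ.app D (Groth.Agent.QC.res F h t) = 0 := (hu.smul_eq_zero).mp h1
  exact ((ConcreteCategory.congr_hom (χ.mapPresheaf.naturality (homOfLE h).op) t).symm.trans h3)

end Groth.Agent.S17953
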