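import Groth.Statements.S17968
import Mathlib
import Groth.Agent.Hensel.Etale
-- import your own Groth.Agent.* helpers here

set_option autoImplicit false
universe u
open Hensel

namespace Groth.Agent.S17968

/-- Let A be a commutative ring and I an ideal contained in the Jacobson radical of A. Suppose that for
every natural number m and every monic polynomial p over A whose reduction modulo I is the reduction
of (T^2 - T)^m, every idempotent of B/IB is the image of an idempotent of B, where B = A[T]/(p).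
Then (A, I) is a henselian pair. -/
theorem result (A : Type u) [CommRing A]
    (I : Ideal A) (hI : I ≤ Ideal.jacobson ⊥)
    (h : ∀ (m : ℕ) (p : Polynomial A), p.Monic →
      Polynomial.map (Ideal.Quotient.mk I) p =
        Polynomial.map (Ideal.Quotient.mk I) ((Polynomial.X ^ 2 - Polynomial.X) ^ m) →
      Set.SurjOn (Ideal.Quotient.mk (Ideal.map (algebraMap A (AdjoinRoot p)) I))
        {e : AdjoinRoot p | IsIdempotentElem e} {e | IsIdempotentElem e}) :
    HenselianRing A I := by
  classical
  rw [Groth.Agent.Hensel.henselianRing_iff_gRoot]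
  refine ⟨hI, fun P n hP hPm => ?_⟩
  rcases Nat.eq_zero_or_pos n with rfl | hn
  · nontriviality A
    have hI1 : Nontrivial (A ⧸ I) := Ideal.Quotient.nontrivial_iff.2 fun htop => by
      have h1 := Ideal.mem_jacobson_bot.1 (hI (htop ▸ Submodule.mem_top : (-1 : A) ∈ I)) 1
      simp at h1
    have hdeg : P.natDegree = 1 := by
      rw [← hP.natDegree_map (Ideal.Quotient.mk I), hPm, pow_zero, one_mul]
      simpa using Polynomial.natDegree_X_sub_C (1 : A ⧸ I)
    have hPX := hP.eq_X_add_C hdeg
    refine ⟨-P.coeff 0, ?_, ?_⟩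
    · rw [Polynomial.IsRoot, hPX]; simp
    · rw [← Ideal.Quotient.eq_zero_iff_mem]
      have h0 := congrArg (Polynomial.coeff · 0) hPm
      simp at h0
      simp [h0]
  obtain ⟨u, v, huv⟩ : IsCoprime (Polynomial.X ^ n : Polynomial (A ⧸ I)) ((Polynomial.X - 1) ^ n) :=
    (show IsCoprime (Polynomial.X : Polynomial (A ⧸ I)) (Polynomial.X - 1) from ⟨1, -1, by ring⟩).pow
  obtain ⟨ut, rfl⟩ := Polynomial.map_surjective _ Ideal.Quotient.mk_surjective u
  let p : Polynomial A := P * (Polynomial.X - 1) ^ (n - 1)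
  have hmX : (Polynomial.X - 1 : Polynomial A).Monic := Polynomial.monic_X_sub_C (1 : A)
  have hp : p.Monic := hP.mul (hmX.pow _)
  have hpm : p.map (Ideal.Quotient.mk I) = Polynomial.map (Ideal.Quotient.mk I) ((Polynomial.X ^ 2 - Polynomial.X) ^ n) := by
    obtain ⟨k, rfl⟩ := Nat.exists_eq_add_of_le' hn
    simp only [p, Polynomial.map_mul, hPm, Polynomial.map_pow, Polynomial.map_sub, Polynomial.map_X, Polynomial.map_one,
      Nat.add_sub_cancel]
    rw [show (Polynomial.X ^ 2 - Polynomial.X : Polynomial (A ⧸ I)) = Polynomial.X * (Polynomial.X - 1) by ring, mul_pow,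
      pow_succ (Polynomial.X - 1 : Polynomial (A ⧸ I)) k, mul_assoc, mul_comm (Polynomial.X - 1) _]
  -- membership in `I B` through divisibility modulo `I`
  have hmem : ∀ (F Q : Polynomial A), F.map (Ideal.Quotient.mk I) ∣ Q.map (Ideal.Quotient.mk I) →
      AdjoinRoot.mk F Q ∈ I.map (algebraMap A (AdjoinRoot F)) := fun F Q ⟨w, hw⟩ => by
    obtain ⟨wt, rfl⟩ := Polynomial.map_surjective _ Ideal.Quotient.mk_surjective w
    have h1 : Q - F * wt ∈ I.map (Polynomial.C : A →+* Polynomial A) := by
      rw [Ideal.mem_map_C_iff]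
      intro i
      rw [← Ideal.Quotient.eq_zero_iff_mem, ← Polynomial.coeff_map, Polynomial.map_sub, Polynomial.map_mul, hw, sub_self,
        Polynomial.coeff_zero]
    have h2 := Ideal.mem_map_of_mem (AdjoinRoot.mk F) h1
    rw [Ideal.map_map, map_sub, map_mul, AdjoinRoot.mk_self, zero_mul, sub_zero] at h2
    exact h2
  let bP : Polynomial A := ut * Polynomial.X ^ n
  have hbm : bP.map (Ideal.Quotient.mk I) = Polynomial.map (Ideal.Quotient.mk I) ut * Polynomial.X ^ n := by
    simp [bP]
  obtain ⟨ep, hep, hepb⟩ := h n p hp hpm (show IsIdempotentElem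
      (Ideal.Quotient.mk (I.map (algebraMap A (AdjoinRoot p))) (AdjoinRoot.mk p bP)) by
    change _ * _ = _
    rw [← map_mul, ← map_mul, Ideal.Quotient.eq, ← map_sub]
    refine hmem p _ ⟨-(Polynomial.map (Ideal.Quotient.mk I) ut * v), ?_⟩
    rw [hpm, Polynomial.map_sub, Polynomial.map_mul, hbm, Polynomial.map_pow, Polynomial.map_sub, Polynomial.map_pow,
      Polynomial.map_X, show (Polynomial.X ^ 2 - Polynomial.X : Polynomial (A ⧸ I)) = Polynomial.X * (Polynomial.X - 1) by ring,
      mul_pow]
    linear_combination (Polynomial.map (Ideal.Quotient.mk I) ut * Polynomial.X ^ n) * huv)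
  rw [Ideal.Quotient.eq] at hepb
  let B := AdjoinRoot P
  haveI : Module.Finite A B := hP.finite_adjoinRoot
  haveI : Module.Free A B := hP.free_adjoinRoot
  let π : AdjoinRoot p →ₐ[A] B := AdjoinRoot.liftAlgHom p (Algebra.ofId A B) (AdjoinRoot.root P) (by
    change Polynomial.aeval (AdjoinRoot.root P) p = 0
    rw [AdjoinRoot.aeval_eq]
    change AdjoinRoot.mk P (P * _) = 0
    rw [map_mul, AdjoinRoot.mk_self, zero_mul])
  let J : Ideal B := I.map (algebraMap A B)
  let e : B := π ep
  let b : B := AdjoinRoot.mk P bP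
  have he : IsIdempotentElem e := hep.map π
  have heb : e - b ∈ J := by
    have h2 := Ideal.mem_map_of_mem π.toRingHom hepb
    rw [Ideal.map_map, show π.toRingHom.comp (algebraMap A (AdjoinRoot p)) = algebraMap A B from RingHom.ext π.commutes,
      map_sub] at h2
    have hb' : π.toRingHom (AdjoinRoot.mk p bP) = b :=
      (AdjoinRoot.liftAlgHom_mk ..).trans (AdjoinRoot.aeval_eq bP)
    rw [hb'] at h2
    exact h2
  have hσ : ∀ g : Polynomial A, b * AdjoinRoot.mk P g - algebraMap A B (g.eval 1) * b ∈ J := fun g => by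
    rw [AdjoinRoot.algebraMap_eq, ← AdjoinRoot.mk_C, ← map_mul, ← map_mul, ← map_sub]
    refine hmem P _ ?_
    obtain ⟨w, hw⟩ := Polynomial.dvd_iff_isRoot.2 (show (g - Polynomial.C (g.eval 1)).IsRoot 1 by simp [Polynomial.IsRoot])
    refine ⟨Polynomial.map (Ideal.Quotient.mk I) ut * w.map (Ideal.Quotient.mk I), ?_⟩
    rw [show bP * g - Polynomial.C (g.eval 1) * bP = bP * ((Polynomial.X - Polynomial.C 1) * w) by rw [← hw]; ring,
      Polynomial.map_mul, hbm, Polynomial.map_mul, Polynomial.map_sub, Polynomial.map_X, map_one, Polynomial.map_one, hPm]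
    ring
  let F : B →ₗ[A] B := LinearMap.mulLeft A e
  have hle : LinearMap.range F ≤ Submodule.span A {e} := by
    refine Submodule.le_of_le_smul_of_le_jacobson_bot (I := I)
      (LinearMap.range_eq_map F ▸ Module.Finite.fg_top.map F) hI ?_
    rintro _ ⟨y, rfl⟩
    obtain ⟨g, rfl⟩ := AdjoinRoot.mk_surjective y
    refine Submodule.mem_sup.2 ⟨g.eval 1 • e, Submodule.smul_mem _ _ (Submodule.mem_span_singleton_self e),
      F (e * (AdjoinRoot.mk P g - algebraMap A B (g.eval 1))), ?_, ?_⟩
    · have hm : e * (AdjoinRoot.mk P g - algebraMap A B (g.eval 1)) ∈ I • (⊤ : Submodule A B) := by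
        rw [Ideal.smul_top_eq_map, Submodule.restrictScalars_mem]
        rw [show e * (AdjoinRoot.mk P g - algebraMap A B (g.eval 1)) = (e - b) * (AdjoinRoot.mk P g - algebraMap A B (g.eval 1)) +
          (b * AdjoinRoot.mk P g - algebraMap A B (g.eval 1) * b) by ring]
        exact J.add_mem (J.mul_mem_right _ heb) (hσ g)
      have := Submodule.mem_map_of_mem (f := F) hm
      rwa [Submodule.map_smul'', ← LinearMap.range_eq_map] at this
    · change g.eval 1 • e + e * (e * (AdjoinRoot.mk P g - algebraMap A B (g.eval 1))) = e * AdjoinRoot.mk P g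
      rw [← mul_assoc, he.eq, Algebra.smul_def]; ring
  obtain ⟨a, ha⟩ := Submodule.mem_span_singleton.1 (hle ⟨AdjoinRoot.root P, rfl⟩)
  change a • e = e * AdjoinRoot.root P at ha
  let σ0 : B →ₐ[A] A ⧸ I := AdjoinRoot.liftAlgHom P (Algebra.ofId A (A ⧸ I)) 1 (by
    change Polynomial.eval₂ (Ideal.Quotient.mk I) 1 P = 0
    rw [← Polynomial.eval_map, hPm]
    simp)
  have hev : ∀ y ∈ J, σ0 y = 0 := fun y hy => by
    have h3 := Ideal.mem_map_of_mem σ0.toRingHom hy
    rw [Ideal.map_map, show σ0.toRingHom.comp (algebraMap A B) = Ideal.Quotient.mk I from RingHom.ext σ0.commutes,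
      Ideal.map_quotient_self, Ideal.mem_bot] at h3
    exact h3
  have hb1 : σ0 b = 1 := by
    have h4 := congrArg (Polynomial.eval 1) huv
    simp only [Polynomial.eval_add, Polynomial.eval_mul, Polynomial.eval_pow, Polynomial.eval_X, Polynomial.eval_sub,
      Polynomial.eval_one, sub_self, zero_pow hn.ne', mul_zero, add_zero] at h4
    refine (AdjoinRoot.liftAlgHom_mk ..).trans ?_
    change Polynomial.eval₂ (Ideal.Quotient.mk I) 1 bP = 1
    rw [← Polynomial.eval_map, hbm, Polynomial.eval_mul, Polynomial.eval_pow, Polynomial.eval_X]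
    exact h4
  have he1 : σ0 e = 1 := by
    have := hev _ heb
    rwa [map_sub, hb1, sub_eq_zero] at this
  have he' : ∀ x : A, x • e ∈ J → x ∈ I := fun x hx => by
    have h4 := hev _ hx
    rwa [map_smul, he1, Algebra.smul_def, mul_one, Ideal.Quotient.algebraMap_eq, Ideal.Quotient.eq_zero_iff_mem] at h4
  have hinj : ∀ x : A, x • e = 0 → x = 0 := by
    intro x hx
    have hrel : ∑ _i : Fin 1, x • e = 0 := by simpa using hx
    obtain ⟨k, Cm, y, hy, hC⟩ := Module.Flat.isTrivialRelation_of_sum_smul_eq_zero (R := A) (f := fun _ : Fin 1 => x)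
      (x := fun _ => e) hrel
    choose d hd using fun j => Submodule.mem_span_singleton.1 (hle ⟨y j, rfl⟩)
    have hee : (1 - ∑ j, Cm 0 j * d j) • e = 0 := by
      rw [sub_smul, one_smul, sub_eq_zero, Finset.sum_smul]
      conv_lhs => rw [← he.eq]
      nth_rewrite 2 [show e = ∑ j, Cm 0 j • y j from hy 0]
      rw [Finset.mul_sum]
      exact Finset.sum_congr rfl fun j _ => by rw [mul_smul, hd, mul_smul_comm]; rfl
    have hu : IsUnit (∑ j, Cm 0 j * d j) := Groth.Agent.Hensel.isUnit_of_mk hI (by
      rw [← Ideal.Quotient.eq.2 (he' _ (hee ▸ J.zero_mem)), map_one]; exact isUnit_one)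
    refine hu.mul_left_eq_zero.1 ?_
    rw [Finset.mul_sum]
    refine Finset.sum_eq_zero fun j _ => ?_
    have h2 := hC j
    simp only [Fin.sum_univ_one] at h2
    rw [← mul_assoc, h2, zero_mul]
  refine ⟨a, hinj _ ?_, ?_⟩
  · have hpow : ∀ g : Polynomial A, g.eval a • e = e * Polynomial.aeval (AdjoinRoot.root P) g := fun g => by
      induction g using Polynomial.induction_on with
      | C c => rw [Polynomial.eval_C, Polynomial.aeval_C, Algebra.smul_def, mul_comm]
      | add p q hp hq => rw [Polynomial.eval_add, add_smul, hp, hq, map_add, mul_add]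
      | monomial n c hn =>
        rw [pow_succ, ← mul_assoc, Polynomial.eval_mul, Polynomial.eval_X, mul_comm, mul_smul, hn,
          map_mul (Polynomial.aeval (AdjoinRoot.root P)) _ Polynomial.X, Polynomial.aeval_X,
          ← mul_assoc, ← smul_mul_assoc, ha]
        ring
    rw [hpow, AdjoinRoot.aeval_eq, AdjoinRoot.mk_self, mul_zero]
  · refine he' _ ?_
    have h5 := hσ Polynomial.X
    rw [AdjoinRoot.mk_X, Polynomial.eval_X, map_one, one_mul] at h5
    rw [sub_smul, one_smul, ha, show e * AdjoinRoot.root P - e = (e - b) * (AdjoinRoot.root P - 1) +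
      (b * AdjoinRoot.root P - b) by ring]
    exact J.add_mem (J.mul_mem_right _ heb) h5

end Groth.Agent.S17968
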