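import Groth.Statements.S17962
import Mathlib
-- import your own Groth.Agent.* helpers here

set_option autoImplicit false
open CategoryTheory CategoryTheory.Limits AlgebraicGeometry
universe u
open Hensel

namespace Groth.Agent.S17962

/-- Let i : X₀ ⟶ X be a closed immersion such that (X, X₀) is a henselian couple, i.e. for every finite
morphism g : Y ⟶ X every open-closed subset of Y ×_X X₀ is the inverse image under the first
projection of exactly one open-closed subset of Y. Then for every finite morphism h : Y ⟶ X the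
couple (Y, Y ×_X X₀), with the first projection as closed immersion, is again henselian. -/
theorem result {X X₀ : Scheme.{u}}
    (i : X₀ ⟶ X) [IsClosedImmersion i]
    (hX : ∀ (Y : Scheme.{u}) (g : Y ⟶ X), IsFinite g →
      ∀ V : Set ↥(pullback g (i)), IsClopen V →
        ∃! U : Set ↥Y, IsClopen U ∧ (pullback.fst g (i)).base ⁻¹' U = V)
    {Y : Scheme.{u}} (h : Y ⟶ X) [IsFinite h] :
    ∀ (Z : Scheme.{u}) (g : Z ⟶ Y), IsFinite g →
      ∀ V : Set ↥(pullback g (pullback.fst h i)), IsClopen V →
        ∃! U : Set ↥Z, IsClopen U ∧ (pullback.fst g (pullback.fst h i)).base ⁻¹' U = V := by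
  open CategoryTheory.Limits in
    intro Z g hg V hV
    let e := pullbackRightPullbackFstIso h i g
    have he : e.hom ≫ pullback.fst (g ≫ h) i = pullback.fst g (pullback.fst h i) := pullbackRightPullbackFstIso_hom_fst h i g
    obtain ⟨U, ⟨hU, hUV⟩, huniq⟩ := hX Z (g ≫ h) inferInstance (e.inv.base ⁻¹' V) (hV.preimage e.inv.continuous)
    have hei : ∀ p, e.inv.base (e.hom.base p) = p := fun p => by
      rw [← Scheme.Hom.comp_apply, e.hom_inv_id]; rfl
    have hie : ∀ p, e.hom.base (e.inv.base p) = p := fun p => by
      rw [← Scheme.Hom.comp_apply, e.inv_hom_id]; rfl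
    refine ⟨U, ⟨hU, ?_⟩, fun U' hU' => huniq U' ⟨hU'.1, ?_⟩⟩
    · ext p
      rw [← he, Set.mem_preimage, Scheme.Hom.comp_apply, ← Set.mem_preimage, hUV, Set.mem_preimage, hei]
    · rw [← hU'.2]
      ext p
      rw [Set.mem_preimage, Set.mem_preimage, Set.mem_preimage, ← he, Scheme.Hom.comp_apply, hie]

end Groth.Agent.S17962
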