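import Groth.Statements.S17963
import Groth.Agent.ZarConn.PairFP

set_option autoImplicit false
open CategoryTheory CategoryTheory.Limits AlgebraicGeometry
universe u
open Hensel

namespace Groth.Agent.S17963

/-- Let (A, I) be a henselian pair and f : X ⟶ Spec A a proper morphism of finite presentation, and let
X₀ = X ×_{Spec A} Spec (A/I). Then X is nonempty and connected if and only if X₀ is nonempty and
connected. -/
theorem result
    (A : Type u) [CommRing A] (I : Ideal A) [HenselianRing A I] {X : Scheme.{u}}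
    (f : X ⟶ Spec (CommRingCat.of A)) [IsProper f] [LocallyOfFinitePresentation f] :
    ConnectedSpace ↥X ↔ ConnectedSpace ↥(pullback f (Spec.map (CommRingCat.ofHom (Ideal.Quotient.mk I)))) := by
  let ι := pullback.fst f (Spec.map (CommRingCat.ofHom (Ideal.Quotient.mk I)))
  have hrange : Set.range ι = {x : X | I ≤ (f x).asIdeal} := Groth.Agent.ZarConn.range_fst_quotient I f
  haveI : IsClosedImmersion ι := MorphismProperty.pullback_fst _ _ inferInstance
  have hjac : I ≤ Ideal.jacobson ⊥ := HenselianRing.jac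
  rw [connectedSpace_iff_clopen, connectedSpace_iff_clopen]
  refine ⟨fun ⟨hne, h⟩ ↦ ⟨?_, fun C hC ↦ ?_⟩, fun ⟨hne, h⟩ ↦ ⟨hne.map ι, fun W hW ↦ ?_⟩⟩
  · obtain ⟨x, -, hx⟩ := Groth.Agent.ZarConn.exists_mem_over_ideal f hjac Set.univ isClosed_univ Set.univ_nonempty
    obtain ⟨p, -⟩ := hrange.ge hx
    exact ⟨p⟩
  · obtain ⟨W, hW, hC₁, hC₂⟩ := Groth.Agent.ZarConn.exists_clopen_extension_fp I f (ι '' C) (ι '' Cᶜ)
      (ι.isClosedEmbedding.isClosedMap _ hC.1) (ι.isClosedEmbedding.isClosedMap _ hC.compl.1)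
      ((Set.disjoint_image_iff ι.isEmbedding.injective).mpr disjoint_compl_right)
      (fun x ↦ by
        rw [← Set.image_union, Set.union_compl_self, Set.image_univ, hrange]
        exact Iff.rfl)
    rcases h W hW with hW0 | hW1
    · refine Or.inl (Set.eq_empty_of_forall_notMem fun p hp ↦ ?_)
      exact (hW0.le (hC₁ ⟨p, hp, rfl⟩) : ι p ∈ (∅ : Set X))
    · refine Or.inr (Set.eq_univ_of_forall fun p ↦ by_contra fun hp ↦ ?_)
      exact hC₂.notMem_of_mem_left ⟨p, hp, rfl⟩ (hW1.ge (Set.mem_univ _))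
  · rcases h (ι ⁻¹' W) (hW.preimage ι.continuous) with h0 | h1
    · refine Or.inl (Groth.Agent.ZarConn.clopen_eq_of_over_ideal f hjac hW isClopen_empty fun x hx ↦ ?_)
      obtain ⟨p, rfl⟩ := hrange.ge hx
      exact Set.ext_iff.mp h0 p
    · refine Or.inr (Groth.Agent.ZarConn.clopen_eq_of_over_ideal f hjac hW isClopen_univ fun x hx ↦ ?_)
      obtain ⟨p, rfl⟩ := hrange.ge hx
      exact Set.ext_iff.mp h1 p

end Groth.Agent.S17963
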