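import Groth.Statements.S17965
import Groth.Agent.S17959
import Groth.Agent.HensPair.Quot
import Groth.Agent.AltN1.Basic
import Groth.Agent.Hensel.Ops

set_option autoImplicit false
open CategoryTheory CategoryTheory.Limits AlgebraicGeometry
universe u
open Hensel

namespace Groth.Agent.S17965

/-- Let A be a Noetherian ring, I an ideal of A, f : X ⟶ Spec A a proper morphism, i : X₀ = X ×_{Spec A}
Spec (A/I) ⟶ X the first projection, and assume that (X, X₀) is a henselian couple (for every finite
morphism g : Y ⟶ X, every open-closed subset of Y ×_X X₀ is the inverse image under the first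
projection of exactly one open-closed subset of Y). Then (X, X₀) is proper over a henselian pair:
there exist a Noetherian ring A' with an ideal I' such that (A', I') is a henselian pair, a proper
morphism f' : X ⟶ Spec A' and a morphism t : X₀ ⟶ Spec (A'/I') such that the square formed by i, t,
f' and Spec (A'/I') ⟶ Spec A' is cartesian. (The published statement asserts only that X is proper
over some henselian pair; this row also asks the ring of that pair to be Noetherian, which holds for
the henselization of (A, I) that the proof uses.) -/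
theorem result
    (A : Type u) [CommRing A] [IsNoetherianRing A] (I : Ideal A) {X : Scheme.{u}}
    (f : X ⟶ Spec (CommRingCat.of A)) [IsProper f]
    (hX : ∀ (Y : Scheme.{u}) (g : Y ⟶ X), IsFinite g →
      ∀ V : Set ↥(pullback g (pullback.fst f (Spec.map (CommRingCat.ofHom (Ideal.Quotient.mk I))))), IsClopen V →
        ∃! U : Set ↥Y, IsClopen U ∧ (pullback.fst g (pullback.fst f (Spec.map (CommRingCat.ofHom (Ideal.Quotient.mk I))))).base ⁻¹' U = V) :
    ∃ (A' : Type u) (_ : CommRing A') (I' : Ideal A') (_ : HenselianRing A' I') (_ : IsNoetherianRing A')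
      (f' : X ⟶ Spec (CommRingCat.of A')) (_ : IsProper f')
      (t : pullback f (Spec.map (CommRingCat.ofHom (Ideal.Quotient.mk I))) ⟶ Spec (CommRingCat.of (A' ⧸ I'))),
      IsPullback (pullback.fst f (Spec.map (CommRingCat.ofHom (Ideal.Quotient.mk I)))) t f' (Spec.map (CommRingCat.ofHom (Ideal.Quotient.mk I'))) := by
  let q := CommRingCat.ofHom (Ideal.Quotient.mk I)
  haveI : IsClosedImmersion (pullback.fst f (Spec.map q)) :=
    MorphismProperty.pullback_fst _ _ (IsClosedImmersion.spec_of_surjective _ Ideal.Quotient.mk_surjective)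
  haveI : CompactSpace X := QuasiCompact.compactSpace_of_compactSpace f
  haveI : QuasiSeparatedSpace X := quasiSeparatedSpace_of_quasiSeparated f
  haveI hB := Groth.Agent.S17959.result (pullback.fst f (Spec.map q)) hX
  let φ : A →+* Γ(X, ⊤) := ((Scheme.ΓSpecIso (CommRingCat.of A)).inv ≫ f.appTop).hom
  have hf : f = X.toSpecΓ ≫ Spec.map (CommRingCat.ofHom φ) := by
    show f = X.toSpecΓ ≫ Spec.map ((Scheme.ΓSpecIso (CommRingCat.of A)).inv ≫ f.appTop)
    rw [Spec.map_comp, ← Scheme.toSpecΓ_naturality_assoc, toSpecΓ_SpecMap_ΓSpecIso_inv, Category.comp_id]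
  haveI : IsProper (X.toSpecΓ ≫ Spec.map (CommRingCat.ofHom φ)) := hf ▸ ‹IsProper f›
  haveI : IsProper (X.toSpecΓ : X ⟶ Spec (CommRingCat.of Γ(X, ⊤))) :=
    IsProper.of_comp X.toSpecΓ (Spec.map (CommRingCat.ofHom φ))
  have hφ : φ = (Coh.toGlobal f : A →+* Γ(X, ⊤)) := rfl
  letI : Algebra A Γ(X, ⊤) := (Coh.toGlobal f : A →+* Γ(X, ⊤)).toAlgebra
  haveI : Module.Finite A Γ(X, ⊤) := Groth.Agent.AltN1.finite_global f
  haveI hN : IsNoetherianRing Γ(X, ⊤) := IsNoetherianRing.of_finite A Γ(X, ⊤)
  have hle : I.map φ ≤ RingHom.ker (pullback.fst f (Spec.map q)).appTop.hom := by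
    refine Ideal.map_le_iff_le_comap.mpr fun a ha => ?_
    rw [Ideal.mem_comap, RingHom.mem_ker]
    show ((Scheme.ΓSpecIso (CommRingCat.of A)).inv ≫ f.appTop ≫ (pullback.fst f (Spec.map q)).appTop) a = 0
    rw [← Scheme.Hom.comp_appTop, pullback.condition, Scheme.Hom.comp_appTop,
      ← Scheme.ΓSpecIso_inv_naturality_assoc]
    show _ = (0 : Γ(pullback f (Spec.map q), ⊤))
    rw [ConcreteCategory.comp_apply, show q a = 0 from Ideal.Quotient.eq_zero_iff_mem.mpr ha]
    exact map_zero _
  let sq : IsPullback (Spec.map (CommRingCat.ofHom (Ideal.Quotient.mk (I.map φ))))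
      (Spec.map (CommRingCat.ofHom (Ideal.quotientMap (I.map φ) φ Ideal.le_comap_map)))
      (Spec.map (CommRingCat.ofHom φ)) (Spec.map q) :=
    isPullback_SpecMap_of_isPushout _ _ _ _ (Groth.Agent.HensPair.isPushout_quotient φ I)
  let P := IsPullback.of_hasPullback f (Spec.map q)
  let t := sq.lift (pullback.fst f (Spec.map q) ≫ X.toSpecΓ) (pullback.snd f (Spec.map q))
    (by rw [Category.assoc, ← hf, pullback.condition])
  refine ⟨Γ(X, ⊤), inferInstance, I.map φ, Groth.Agent.Hensel.henselianRing_mono hle, hN, X.toSpecΓ,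
    inferInstance, t, ?_⟩
  refine IsPullback.of_bot (v₂₁ := Spec.map (CommRingCat.ofHom (Ideal.quotientMap (I.map φ) φ Ideal.le_comap_map)))
    (v₂₂ := Spec.map (CommRingCat.ofHom φ)) ?_ (sq.lift_fst _ _ _).symm sq
  rw [sq.lift_snd, ← hf]
  exact P

end Groth.Agent.S17965
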