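import Groth.Statements.S17969
import Mathlib.RingTheory.Adjoin.PowerBasis
import Mathlib.RingTheory.Norm.Basic
import Mathlib.RingTheory.Flat.Localization
import Mathlib.RingTheory.Polynomial.GaussLemma
import Mathlib.LinearAlgebra.Charpoly.ToMatrix
import Mathlib.RingTheory.Localization.BaseChange

set_option autoImplicit false
universe u
open scoped TensorProduct
open CAlg

namespace Groth.Agent.S17969

/-- Let A be an integrally closed domain with fraction field K and B a commutative A-algebra which is
finite and torsion-free as an A-module and generated as an A-algebra by a single element x. Let P be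
the characteristic polynomial of multiplication by 1 ⊗ x on the finite free K-module K ⊗_A B. Then P
has coefficients in A, namely P is the image of a monic polynomial over A, and the kernel of the
A-algebra map A[T] → B sending T to x is generated by that polynomial, so that B is A[T]/(P). -/
theorem result
    (A : Type u) [CommRing A] [IsDomain A] [IsIntegrallyClosed A]
    (B : Type u) [CommRing B] [Algebra A B] [Module.Finite A B] [NoZeroSMulDivisors A B]
    (x : B) (hx : Algebra.adjoin A {x} = ⊤) :
    ∃ P : Polynomial A, P.Monic ∧
      Polynomial.map (algebraMap A (FractionRing A)) P =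
        (LinearMap.mulLeft (FractionRing A) ((1 : FractionRing A) ⊗ₜ[A] x)).charpoly ∧
      RingHom.ker (Polynomial.aeval x).toRingHom = Ideal.span {P} := by
  classical
  let K := FractionRing A
  let V := TensorProduct A K B
  let x' : V := (1 : K) ⊗ₜ[A] x
  have hint : IsIntegral K x' := Algebra.IsIntegral.isIntegral x'
  have htop : Algebra.adjoin K {x'} = ⊤ := by
    have h := Algebra.TensorProduct.adjoin_one_tmul_image_eq_top (A := K) _ hx
    simpa [x'] using h
  let pb := PowerBasis.ofAdjoinEqTop hint htop
  have hchar : (LinearMap.mulLeft K x').charpoly = minpoly K x' := by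
    have h := charpoly_leftMulMatrix pb
    rw [PowerBasis.ofAdjoinEqTop_gen] at h
    rw [← LinearMap.charpoly_toMatrix (LinearMap.mulLeft K x') pb.basis, ← h]
    rfl
  obtain ⟨P0, hP0, hP0x⟩ : IsIntegral A x := Algebra.IsIntegral.isIntegral x
  have hι : Function.Injective (Algebra.TensorProduct.includeRight : B →ₐ[A] V) := by
    intro a b hab
    have hM := (TensorProduct.isBaseChange A B K)
    have hL := (isLocalizedModule_iff_isBaseChange (nonZeroDivisors A) K
      (TensorProduct.mk A K B 1)).2 hM
    obtain ⟨c, hc⟩ := (IsLocalizedModule.eq_iff_exists (nonZeroDivisors A)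
      (TensorProduct.mk A K B 1)).1 (show TensorProduct.mk A K B 1 a = TensorProduct.mk A K B 1 b from hab)
    exact smul_right_injective B (nonZeroDivisors.coe_ne_zero c) hc
  have hmap : ∀ f : Polynomial A, Polynomial.aeval x' (f.map (algebraMap A K)) =
      (Algebra.TensorProduct.includeRight : B →ₐ[A] V) (Polynomial.aeval x f) := fun f => by
    rw [Polynomial.aeval_map_algebraMap, ← Polynomial.aeval_algHom_apply]
    rfl
  have hdvd : minpoly K x' ∣ P0.map (algebraMap A K) := minpoly.dvd K x' (by
    rw [hmap, show Polynomial.aeval x P0 = 0 from hP0x, map_zero])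
  obtain ⟨P, hP⟩ := IsIntegrallyClosed.eq_map_mul_C_of_dvd K hP0 hdvd
  rw [(minpoly.monic hint).leadingCoeff, Polynomial.C_1, mul_one] at hP
  have hinj : Function.Injective (algebraMap A K) := IsFractionRing.injective A K
  have hPm : P.Monic := Polynomial.monic_of_injective hinj (hP ▸ minpoly.monic hint)
  refine ⟨P, hPm, hP.trans hchar.symm, le_antisymm (fun f hf => ?_)
    ((Ideal.span_singleton_le_iff_mem _).2 (hι ?_))⟩
  · rw [Ideal.mem_span_singleton]
    refine (Polynomial.map_dvd_map (algebraMap A K) hinj hPm).1 ?_
    rw [hP]
    exact minpoly.dvd K x' (by rw [hmap, show Polynomial.aeval x f = 0 from hf, map_zero])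
  · change (Algebra.TensorProduct.includeRight : B →ₐ[A] V) (Polynomial.aeval x P) = (Algebra.TensorProduct.includeRight : B →ₐ[A] V) 0
    rw [map_zero, ← hmap, hP, minpoly.aeval]

end Groth.Agent.S17969
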