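import Groth.Statements.S1797
import Groth.Agent.S0332
import Groth.Agent.HLVT.Affine
import Groth.Agent.NormalBC.Normal
import Groth.Agent.FlatDepth.Formal
import Groth.Agent.FlatDepth.RegHom
import Groth.Agent.GeomProp.NormalColim
-- import your own Groth.Agent.* helpers here

set_option autoImplicit false
universe u
open LocCoh

namespace Groth.Agent.S1797

open IsLocalRing in
theorem isDomain_cpl (A : Type u) [CommRing A] [IsLocalRing A] [IsNoetherianRing A]
    (hA : CAlg.IsRegularHom A (EGA4.Cpl A)) (hn : EGA4.IsNormalRing A) : IsDomain (EGA4.Cpl A) := by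
  haveI : IsNoetherianRing (EGA4.Cpl A) := AdicBasics.isNoetherianRing_completion A
  have hG : EGA4.HasGeomNormalFormalFibres A := fun p _ k' _ _ hk => by
    haveI := (hA.2 p).2 k' hk
    exact FlatDepth.isNormalRing_of_isRegularRing _
  refine NormalBC.isDomain_of_connected ((FlatDepth.isNormalRing_cpl_iff A hG).1 hn)
    (minimalPrimes.finite_of_isNoetherianRing _) fun e he => ?_
  rcases IsLocalRing.isUnit_or_isUnit_one_sub_self e with h | h
  · exact Or.inr (h.mul_left_cancel (by rw [mul_one]; exact he))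
  · exact Or.inl (h.mul_left_eq_zero.1 (by rw [mul_comm, sub_mul, one_mul, he, sub_self]))


/-- Let A be an excellent normal Noetherian local ring (an integrally closed domain) and I an ideal with
dim V(I) ≥ 1, i.e. dim A/I ≥ 1. Then cd(A, I) < dim A: for every A-module M, H^i_I(M) = 0 whenever i
≥ dim A. Moreover, if dim A = 2 then the open subscheme Spec A ∖ V(I) is affine. -/
theorem result (A : Type u) [CommRing A] [IsDomain A] [IsLocalRing A] [IsNoetherianRing A] [IsIntegrallyClosed A] (hA : EGA4.IsExcellent A) (I : Ideal A) (hI : (1 : WithBot ℕ∞) ≤ ringKrullDim (A ⧸ I)) : (∀ (M : Type u) [AddCommGroup M] [Module A M] (i : ℕ), ringKrullDim A ≤ (i : WithBot ℕ∞) → Subsingleton (LocCoh.H I i M)) ∧ (ringKrullDim A = 2 → AlgebraicGeometry.IsAffine (↑(LocCoh.puncturedOpen A I) : AlgebraicGeometry.Scheme.{u})) := by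
  classical
  let m := IsLocalRing.maximalIdeal A
  let A' := Localization.AtPrime m
  have hbij : Function.Bijective (algebraMap A A') :=
    (IsLocalization.atUnits A m.primeCompl (fun x hx => IsLocalRing.notMem_maximalIdeal.1 hx)).bijective
  haveI : Module.FaithfullyFlat A A' :=
    Module.FaithfullyFlat.of_linearEquiv A A (LinearEquiv.ofBijective (Algebra.linearMap A A') hbij).symm
  let e : A ≃+* A' := RingEquiv.ofBijective _ hbij
  have hn' : EGA4.IsNormalRing A' := FlatDepth.isNormalRing_of_equiv e (GeomProp.isNormalRing_of_domain A)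
  haveI hdom := isDomain_cpl A' (hA.2.2.1.2 m) hn'
  obtain ⟨d, hd⟩ := SerreReg.exists_dim_nat A
  have hd' : ringKrullDim A' = d := (ringKrullDim_eq_of_ringEquiv e).symm.trans hd
  let B := EGA4.Cpl A'
  haveI : IsNoetherianRing B := AdicBasics.isNoetherianRing_completion A'
  have hI1 : 1 ≤ ringKrullDim (B ⧸ (I.map (algebraMap A A')).map (algebraMap A' B)) := by
    haveI : Module.FaithfullyFlat A' B := Module.FaithfullyFlat.of_flat_of_isLocalHom
    rw [ringKrullDim_eq_of_ringEquiv (Ideal.quotientEquiv I (I.map (algebraMap A A')) e rfl), ringKrullDim_quotient,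
      Order.one_le_krullDim_iff] at hI
    obtain ⟨x, y, hxy⟩ := hI
    obtain ⟨Q, hQ⟩ := PrimeSpectrum.comap_surjective_of_faithfullyFlat (A := A') (B := B) x.1
    rw [ringKrullDim_quotient, Order.one_le_krullDim_iff]
    have hQle : (I.map (algebraMap A A')).map (algebraMap A' B) ≤ Q.asIdeal :=
      Ideal.map_le_iff_le_comap.2 (x.2.trans (congrArg PrimeSpectrum.asIdeal hQ).ge)
    refine ⟨⟨Q, hQle⟩, ⟨IsLocalRing.closedPoint B, hQle.trans (IsLocalRing.le_maximalIdeal Q.isPrime.ne_top)⟩, ?_⟩
    refine lt_of_le_of_ne (IsLocalRing.le_maximalIdeal Q.isPrime.ne_top) fun h => ?_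
    have h1 : x.1.asIdeal = IsLocalRing.maximalIdeal A' := by
      rw [← hQ, show Q = IsLocalRing.closedPoint B from congrArg Subtype.val h]
      exact IsLocalRing.maximalIdeal_comap _
    have hlt : x.1.asIdeal < y.1.asIdeal := hxy
    exact hlt.not_ge (h1 ▸ IsLocalRing.le_maximalIdeal y.1.isPrime.ne_top)
  have hvan : ∀ (M : Type u) [AddCommGroup M] [Module A M] (i : ℕ), ringKrullDim A ≤ (i : WithBot ℕ∞) →
      Subsingleton (LocCoh.H I i M) := by
    intro M _ _ i hi
    rw [hd, Nat.cast_le] at hi
    obtain ⟨ε⟩ := CechX.nonempty_H_baseChange (R' := A') I (ModuleCat.of A M) i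
    have := S0332.result A' (I.map (algebraMap A A')) d hd' (fun p hp _ => by
      rw [IsDomain.minimalPrimes_eq_singleton_bot, Set.mem_singleton_iff] at hp
      subst hp
      rw [sup_bot_eq]
      exact hI1) (TensorProduct A A' M) i hi
    exact (Module.FaithfullyFlat.subsingleton_tensorProduct_iff_right A _).1 (ε.toEquiv.trans (Equiv.refl _)).subsingleton
  refine ⟨hvan, fun h2 => ?_⟩
  exact HLVT.isAffineOpen_puncturedOpen I fun M _ _ i hi => hvan M i (by rw [h2]; exact_mod_cast hi)

end Groth.Agent.S1797
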