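import Groth.Statements.S17971
import Groth.Agent.S17959
import Groth.Agent.ZarConn.Couple
import Groth.Agent.Hensel.PairBaseChange

set_option autoImplicit false
open CategoryTheory CategoryTheory.Limits AlgebraicGeometry
universe u
open Hensel

namespace Groth.Agent.S17971

/-- For a commutative ring A and an ideal I, the pair (A, I) is henselian if and only if the couple
(Spec A, Spec (A/I)) is henselian, i.e. if and only if for every finite morphism g : Y ⟶ Spec A
every open-closed subset of Y ×_{Spec A} Spec (A/I) is the inverse image under the first projection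
of exactly one open-closed subset of Y. -/
theorem result (A : Type u) [CommRing A] (I : Ideal A) :
    HenselianRing A I ↔
    ∀ (Y : Scheme.{u}) (g : Y ⟶ Spec (CommRingCat.of A)), IsFinite g →
      ∀ V : Set ↥(pullback g (Spec.map (CommRingCat.ofHom (Ideal.Quotient.mk I)))), IsClopen V →
        ∃! U : Set ↥Y, IsClopen U ∧ (pullback.fst g (Spec.map (CommRingCat.ofHom (Ideal.Quotient.mk I)))).base ⁻¹' U = V := by
  haveI : IsClosedImmersion (Spec.map (CommRingCat.ofHom (Ideal.Quotient.mk I))) :=
    IsClosedImmersion.spec_of_surjective _ Ideal.Quotient.mk_surjective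
  constructor
  · intro h Y g hg V hV
    refine Groth.Agent.ZarConn.existsUnique_clopen_lift I (𝟙 _) _ ?_ g V hV
    ext x
    exact (Set.ext_iff.mp ((range_comap_of_surjective _ _ Ideal.Quotient.mk_surjective).trans
      (by rw [Ideal.mk_ker])) x : x ∈ Set.range (PrimeSpectrum.comap (Ideal.Quotient.mk I)) ↔ x ∈ PrimeSpectrum.zeroLocus I).trans
      (by simp [PrimeSpectrum.mem_zeroLocus])
  · intro h
    let q := CommRingCat.ofHom (Ideal.Quotient.mk I)
    haveI hB := Groth.Agent.S17959.result (Spec.map q) h
    let e : Γ(Spec (CommRingCat.of A), ⊤) ≃+* A :=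
      (Scheme.ΓSpecIso (CommRingCat.of A)).commRingCatIsoToRingEquiv
    have he : (RingHom.ker (Spec.map q).appTop.hom).map e.toRingHom = I := by
      have hnat := Scheme.ΓSpecIso_naturality q
      have hbij := ConcreteCategory.bijective_of_isIso (Scheme.ΓSpecIso (CommRingCat.of (A ⧸ I))).hom
      ext a
      obtain ⟨b, rfl⟩ := e.surjective a
      rw [show e b = e.toRingHom b from rfl,
        Ideal.mem_map_iff_of_surjective e.toRingHom e.surjective]
      have hb : (Scheme.ΓSpecIso (CommRingCat.of (A ⧸ I))).hom ((Spec.map q).appTop b) =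
          Ideal.Quotient.mk I (e b) := congr($hnat b)
      constructor
      · rintro ⟨c, hc, hcb⟩
        obtain rfl : c = b := e.injective hcb
        refine Ideal.Quotient.eq_zero_iff_mem.mp (hb.symm.trans ?_)
        exact (congrArg _ (RingHom.mem_ker.mp hc : (Spec.map q).appTop c = 0)).trans (map_zero _)
      · intro hbI
        refine ⟨b, hbij.1 ?_, rfl⟩
        exact hb.trans ((Ideal.Quotient.eq_zero_iff_mem.mpr hbI).trans (map_zero _).symm)
    rw [← he]
    exact Groth.Agent.Hensel.henselianRing_of_ringEquiv e _

end Groth.Agent.S17971
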