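import Groth.Statements.S17974
import Mathlib
-- import your own Groth.Agent.* helpers here

set_option autoImplicit false
universe u
open Unram

namespace Groth.Agent.S17974

/-- Let A be a commutative ring, B an unramified A-algebra (formally unramified and of finite type), C
an A-algebra, p a prime ideal of C, and u, v : B → C two A-algebra homomorphisms which agree after
composition with C → C/p. Then there is an element f of C not in p such that u and v agree after
composition with the localization map C → C[1/f]. -/
theorem result
    (A : Type u) [CommRing A] (B : Type u) [CommRing B] [Algebra A B]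
    [Algebra.FormallyUnramified A B] [Algebra.FiniteType A B]
    (C : Type u) [CommRing C] [Algebra A C] (p : Ideal C) [p.IsPrime]
    (u v : B →ₐ[A] C)
    (huv : (Ideal.Quotient.mk p).comp u.toRingHom = (Ideal.Quotient.mk p).comp v.toRingHom) :
    ∃ f : C, f ∉ p ∧
      (algebraMap C (Localization.Away f)).comp u.toRingHom =
        (algebraMap C (Localization.Away f)).comp v.toRingHom := by
  have hp : p ≠ ⊤ := Ideal.IsPrime.ne_top ‹_›
  let w : TensorProduct A B B →ₐ[A] C := Algebra.TensorProduct.lift u v fun _ _ => Commute.all _ _
  let c : C := w (Algebra.FormallyUnramified.elem A B)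
  have hw : (Ideal.Quotient.mk p).comp w.toRingHom =
      ((Ideal.Quotient.mk p).comp u.toRingHom).comp (Algebra.TensorProduct.lmul' A : TensorProduct A B B →ₐ[A] B).toRingHom := by
    refine RingHom.ext fun z => ?_
    induction z using TensorProduct.induction_on with
    | zero => simp
    | add x y hx hy => simp only [map_add, hx, hy]
    | tmul a b =>
      have hb : Ideal.Quotient.mk p (v b) = Ideal.Quotient.mk p (u b) := (RingHom.congr_fun huv b).symm
      simp [w, hb]
  have hc : Ideal.Quotient.mk p c = 1 := by
    have := RingHom.congr_fun hw (Algebra.FormallyUnramified.elem A B)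
    simpa [c, Algebra.FormallyUnramified.lmul_elem] using this
  refine ⟨c, fun hcp => hp ((Ideal.eq_top_iff_one p).2 ?_), RingHom.ext fun b => ?_⟩
  · rw [← Ideal.Quotient.eq_zero_iff_mem, map_one, ← hc, Ideal.Quotient.eq_zero_iff_mem]
    exact hcp
  · have h1 := congrArg w (Algebra.FormallyUnramified.one_tmul_sub_tmul_one_mul_elem (R := A) (S := B) b)
    simp only [map_mul, map_sub, map_zero, w, Algebra.TensorProduct.lift_tmul, map_one, one_mul, mul_one] at h1
    have h2 : (v b - u b) * c = 0 := h1
    have h3 := congrArg (algebraMap C (Localization.Away c)) h2
    rw [map_mul, map_zero, IsUnit.mul_left_eq_zero (IsLocalization.Away.algebraMap_isUnit c), map_sub, sub_eq_zero] at h3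
    exact h3.symm

end Groth.Agent.S17974
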