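import Groth.Statements.S17975
import Mathlib.RingTheory.Nakayama
import Mathlib.RingTheory.Polynomial.Basic
import Mathlib.Tactic

set_option autoImplicit false
set_option linter.style.haveILetI false

universe u
open Hensel

namespace Groth.Agent.S17975

/-- Let A be a local ring with maximal ideal m and residue field k, C a commutative A-algebra which is
finitely generated as an A-module, Q₀ a monic polynomial of degree n over k, e an A-algebra
isomorphism from C/mC to k[T]/(Q₀), and x an element of C whose class is sent by e to the class of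
T. Then x generates C as an A-algebra, and x is a root of a monic polynomial Q over A of degree n
whose reduction modulo m equals Q₀. -/
theorem result
    (A : Type u) [CommRing A] [IsLocalRing A] (C : Type u) [CommRing C] [Algebra A C] [Module.Finite A C]
    (Q₀ : Polynomial (IsLocalRing.ResidueField A)) (hQ₀ : Q₀.Monic)
    (e : (C ⧸ Ideal.map (algebraMap A C) (IsLocalRing.maximalIdeal A)) ≃ₐ[A] AdjoinRoot Q₀)
    (x : C) (hx : e (Ideal.Quotient.mk (Ideal.map (algebraMap A C) (IsLocalRing.maximalIdeal A)) x) = AdjoinRoot.root Q₀) :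
    Algebra.adjoin A {x} = ⊤ ∧
      ∃ Q : Polynomial A, Q.Monic ∧ Q.natDegree = Q₀.natDegree ∧
        Polynomial.map (IsLocalRing.residue A) Q = Q₀ ∧ Polynomial.aeval x Q = 0 := by
  let m := IsLocalRing.maximalIdeal A
  let J := Ideal.map (algebraMap A C) m
  let n := Q₀.natDegree
  have hev : ∀ q : Polynomial A, e (Ideal.Quotient.mk J (Polynomial.aeval x q)) =
      AdjoinRoot.mk Q₀ (q.map (IsLocalRing.residue A)) := by
    intro q
    have h1 : e (Ideal.Quotient.mk J (Polynomial.aeval x q)) =
        Polynomial.aeval (AdjoinRoot.root Q₀) q := by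
      rw [← hx]
      exact (Polynomial.aeval_algHom_apply (e.toAlgHom.comp (Ideal.Quotient.mkₐ A J)) x q).symm
    rw [h1, ← Polynomial.aeval_map_algebraMap (IsLocalRing.ResidueField A), AdjoinRoot.aeval_eq,
      IsLocalRing.ResidueField.algebraMap_eq]
  let M : Submodule A C := (Polynomial.degreeLT A n).map (Polynomial.aeval x).toLinearMap
  have hM : M = ⊤ := by
    refine top_le_iff.1 (Submodule.le_of_le_smul_of_le_jacobson_bot (I := m) Module.Finite.fg_top
      (IsLocalRing.maximalIdeal_le_jacobson _) fun c _ => ?_)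
    obtain ⟨p, hp⟩ := AdjoinRoot.mk_surjective (e (Ideal.Quotient.mk J c))
    obtain ⟨q, hq, hqd⟩ := Polynomial.exists_degree_eq_of_mem_lifts
      (Polynomial.map_surjective _ IsLocalRing.residue_surjective (p %ₘ Q₀) : p %ₘ Q₀ ∈
        Polynomial.lifts (IsLocalRing.residue A))
    have hdeg : q.degree < n := by
      rw [hqd]
      exact (Polynomial.degree_modByMonic_lt p hQ₀).trans_le Polynomial.degree_le_natDegree
    have hJ : c - Polynomial.aeval x q ∈ J := by
      rw [← Ideal.Quotient.mk_eq_mk_iff_sub_mem]
      apply e.injective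
      rw [hev, hq, ← hp, AdjoinRoot.mk_eq_mk]
      exact ⟨p /ₘ Q₀, sub_eq_iff_eq_add'.2 (Polynomial.modByMonic_add_div p Q₀).symm⟩
    rw [← sub_add_cancel c (Polynomial.aeval x q), add_comm]
    refine Submodule.add_mem_sup ⟨q, Polynomial.mem_degreeLT.2 hdeg, rfl⟩ ?_
    rw [Ideal.smul_top_eq_map]
    exact hJ
  constructor
  · rw [_root_.eq_top_iff]
    intro c _
    have : c ∈ M := hM ▸ Submodule.mem_top
    obtain ⟨q, -, rfl⟩ := this
    exact Polynomial.aeval_mem_adjoin_singleton A x
  · have : x ^ n ∈ M := hM ▸ Submodule.mem_top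
    obtain ⟨q, hq, hqx⟩ := this
    have hq' : q.degree < n := Polynomial.mem_degreeLT.1 hq
    have hmon : (Polynomial.X ^ n - q).Monic := Polynomial.monic_X_pow_sub hq'
    have hdeg : (Polynomial.X ^ n - q).natDegree = n := by
      refine Polynomial.natDegree_eq_of_degree_eq_some ?_
      rw [Polynomial.degree_sub_eq_left_of_degree_lt (by rwa [Polynomial.degree_X_pow]),
        Polynomial.degree_X_pow]
    have h0 : Polynomial.aeval x (Polynomial.X ^ n - q) = 0 := by
      rw [map_sub, map_pow, Polynomial.aeval_X, sub_eq_zero]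
      exact hqx.symm
    refine ⟨_, hmon, hdeg, ?_, h0⟩
    have := hev (Polynomial.X ^ n - q)
    rw [h0, map_zero, map_zero, eq_comm, AdjoinRoot.mk_eq_zero] at this
    refine (Polynomial.eq_of_monic_of_dvd_of_natDegree_le hQ₀ (hmon.map _) this ?_)
    rw [hmon.natDegree_map, hdeg]

end Groth.Agent.S17975
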