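import Groth.Statements.S17977
import Mathlib.RingTheory.Unramified.LocalStructure
import Mathlib.RingTheory.Etale.Basic
-- import your own Groth.Agent.* helpers here

set_option autoImplicit false
universe u
open EGA4loc

namespace Groth.Agent.S17977

/-- Let A be a local ring, B a local ring which is a local-etale A-algebra, and C a local ring with a
local structure map A → C. Then every A-algebra homomorphism B → C is local. (The source states this
for local ind-etale B, i.e. filtered colimits of local-etale algebras along local maps, and reduces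
at once to the local-etale case stated here.) -/
theorem result (A : Type u) [CommRing A] [IsLocalRing A]
    (B : Type u) [CommRing B] [IsLocalRing B] [Algebra A B] (hB : EGA4loc.IsEssentiallyEtale A B)
    (C : Type u) [CommRing C] [IsLocalRing C] [Algebra A C] [IsLocalHom (algebraMap A C)]
    (φ : B →ₐ[A] C) : IsLocalHom φ.toRingHom := by
  obtain ⟨C', _, _, q, _, het, hq, ⟨e⟩⟩ := hB
  let ι : C' →ₐ[A] B := e.symm.toAlgHom.comp (IsScalarTower.toAlgHom A C' (Localization.AtPrime q))
  let ψ : C' →ₐ[A] C := φ.comp ι
  set p : Ideal C' := (IsLocalRing.maximalIdeal C).comap ψ.toRingHom with hp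
  haveI : p.IsPrime := Ideal.comap_isPrime _ _
  have hpq : p ≤ q := by
    intro x hx
    by_contra hxq
    have h1 : IsUnit (algebraMap C' (Localization.AtPrime q) x) :=
      IsLocalization.map_units (M := q.primeCompl) _ ⟨x, hxq⟩
    have h2 : IsUnit (ψ x) := (h1.map e.symm.toAlgHom).map φ
    exact (IsLocalRing.mem_maximalIdeal _).1 hx h2
  have hu : p.under A = q.under A := by
    rw [Ideal.under, Ideal.under, hq]
    ext a
    simp only [Ideal.mem_comap, hp, AlgHom.toRingHom_eq_coe, RingHom.coe_coe, AlgHom.commutes]
    simp only [IsLocalRing.mem_maximalIdeal, mem_nonunits_iff, isUnit_map_iff]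
  have heq : p = q := Algebra.QuasiFinite.eq_of_le_of_under_eq p q hpq hu
  constructor
  intro b hb
  obtain ⟨⟨x, s⟩, hxs⟩ := IsLocalization.surj q.primeCompl (e b)
  have hxq : x ∉ q := by
    intro hx
    rw [← heq] at hx
    have h3 : φ b * ψ s = ψ x := by
      show φ b * φ (e.symm (algebraMap C' _ (s : C'))) = φ (e.symm (algebraMap C' _ x))
      rw [← hxs, map_mul, e.symm_apply_apply, map_mul]
    have hs : IsUnit (ψ s) :=
      ((IsLocalization.map_units (Localization.AtPrime q) s).map e.symm.toAlgHom).map φ
    exact (IsLocalRing.mem_maximalIdeal _).1 hx (show IsUnit (ψ x) from h3 ▸ hb.mul hs)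
  have h4 : IsUnit (e b * algebraMap C' _ (s : C')) := hxs ▸
    IsLocalization.map_units (M := q.primeCompl) (Localization.AtPrime q) ⟨x, hxq⟩
  have := (isUnit_of_mul_isUnit_left h4).map e.symm
  rwa [e.symm_apply_apply] at this

end Groth.Agent.S17977
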