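import Groth.Statements.S17978
import Mathlib.RingTheory.Unramified.Finite
import Mathlib.RingTheory.Etale.Basic
import Mathlib.RingTheory.TensorProduct.Maps
-- import your own Groth.Agent.* helpers here

set_option autoImplicit false
universe u
open EGA4loc

namespace Groth.Agent.S17978

/-- Let A be a local ring, B a local ring which is a local-etale A-algebra, and C a local ring with a
local structure map A → C. Then two A-algebra homomorphisms B → C which agree after composition with
the residue map of C are equal; in other words an A-algebra map B → C is determined by the map it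
induces on residue fields. (The source states this for local ind-etale B and reduces to the
local-etale case stated here; C is an arbitrary local A-algebra with local structure map.) -/
theorem result (A : Type u) [CommRing A] [IsLocalRing A]
    (B : Type u) [CommRing B] [IsLocalRing B] [Algebra A B] (hB : EGA4loc.IsEssentiallyEtale A B)
    (C : Type u) [CommRing C] [IsLocalRing C] [Algebra A C] [IsLocalHom (algebraMap A C)]
    (u v : B →ₐ[A] C)
    (h : (IsLocalRing.residue C).comp u.toRingHom = (IsLocalRing.residue C).comp v.toRingHom) :
    u = v := by
  obtain ⟨C', _, _, q, _, het, hq, ⟨e⟩⟩ := hB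
  let ι : C' →ₐ[A] B := e.symm.toAlgHom.comp (IsScalarTower.toAlgHom A C' (Localization.AtPrime q))
  obtain ⟨t, ht, ht1⟩ := (Algebra.FormallyUnramified.iff_exists_tensorProduct (R := A) (S := C')).1
    inferInstance
  let π : C →+* IsLocalRing.ResidueField C := IsLocalRing.residue C
  let Φ : TensorProduct A C' C' →ₐ[A] C :=
    Algebra.TensorProduct.productMap (u.comp ι) (v.comp ι)
  have hres : ∀ z, π (Φ z) = π (u (ι (Algebra.TensorProduct.lmul' A z))) := by
    intro z
    induction z using TensorProduct.induction_on with
    | zero => simp
    | tmul a b =>
      simp only [Φ, Algebra.TensorProduct.productMap_apply_tmul, AlgHom.comp_apply,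
        Algebra.TensorProduct.lmul'_apply_tmul, map_mul]
      congr 1
      exact (RingHom.congr_fun h (ι b)).symm
    | add a b ha hb => simp only [map_add, ha, hb]
  have hunit : IsUnit (Φ t) := by
    by_contra hn
    have h0 : π (Φ t) = 0 := IsLocalRing.residue_eq_zero_iff _ |>.2 ((IsLocalRing.mem_maximalIdeal _).2 hn)
    rw [hres, ht1] at h0
    simp at h0
  have key : u.comp ι = v.comp ι := by
    refine AlgHom.ext fun s => ?_
    have := congrArg Φ (ht s)
    rw [map_zero, map_mul, map_sub] at this
    simp only [Φ, Algebra.TensorProduct.productMap_apply_tmul, map_one, one_mul, mul_one] at this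
    exact (sub_eq_zero.1 (hunit.mul_left_eq_zero.1 this)).symm
  have h1 : u.comp e.symm.toAlgHom = v.comp e.symm.toAlgHom :=
    IsLocalization.algHom_ext q.primeCompl key
  refine AlgHom.ext fun b => ?_
  have := AlgHom.congr_fun h1 (e b)
  simpa using this

end Groth.Agent.S17978
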