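import Groth.Statements.S17979
import Mathlib
-- import your own Groth.Agent.* helpers here

set_option autoImplicit false
universe u
open Hensel

namespace Groth.Agent.S17979

/-- Let A be a local ring with residue field k and Q, R polynomials over A with Q monic. If the images
of Q and R in k[T] generate the unit ideal, then Q and R already generate the unit ideal of A[T]. -/
theorem result (A : Type u) [CommRing A] [IsLocalRing A]
    (Q R : Polynomial A) (hQ : Q.Monic)
    (h : IsCoprime (Polynomial.map (IsLocalRing.residue A) Q) (Polynomial.map (IsLocalRing.residue A) R)) :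
    IsCoprime Q R := by
  let m := IsLocalRing.maximalIdeal A
  have : Module.Finite A (AdjoinRoot Q) := hQ.finite_adjoinRoot
  have key : Ideal.span {AdjoinRoot.mk Q R} = ⊤ := by
    have : (⊤ : Submodule A (AdjoinRoot Q)) ≤
        (Ideal.span {AdjoinRoot.mk Q R}).restrictScalars A := by
      refine Submodule.le_of_le_smul_of_le_jacobson_bot Module.Finite.fg_top
        (IsLocalRing.maximalIdeal_le_jacobson _) ?_
      obtain ⟨a, b, hab⟩ := h
      obtain ⟨a', rfl⟩ := Polynomial.map_surjective (IsLocalRing.residue A) Ideal.Quotient.mk_surjective a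
      obtain ⟨b', rfl⟩ := Polynomial.map_surjective (IsLocalRing.residue A) Ideal.Quotient.mk_surjective b
      rw [← Polynomial.map_mul, ← Polynomial.map_mul, ← Polynomial.map_add] at hab
      have h1 : a' * Q + b' * R - 1 ∈ Ideal.map Polynomial.C m := by
        rw [← Ideal.mk_ker (I := m), ← Polynomial.ker_mapRingHom, RingHom.mem_ker,
          Polynomial.coe_mapRingHom, Polynomial.map_sub, Polynomial.map_one, sub_eq_zero]
        exact hab
      intro s _
      obtain ⟨S, rfl⟩ := AdjoinRoot.mk_surjective s
      have hm : AdjoinRoot.mk Q (S * (a' * Q + b' * R - 1)) ∈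
          m • (⊤ : Submodule A (AdjoinRoot Q)) := by
        rw [Ideal.smul_top_eq_map, Submodule.restrictScalars_mem, map_mul]
        refine Ideal.mul_mem_left _ _ ?_
        have := Ideal.mem_map_of_mem (AdjoinRoot.mk Q) h1
        rwa [Ideal.map_map] at this
      have e : AdjoinRoot.mk Q S = AdjoinRoot.mk Q (S * b') * AdjoinRoot.mk Q R
          + -AdjoinRoot.mk Q (S * (a' * Q + b' * R - 1)) := by
        simp only [map_mul, map_sub, map_add, map_one, AdjoinRoot.mk_self]; ring
      rw [e]
      exact Submodule.add_mem_sup (Ideal.mem_span_singleton'.2 ⟨_, rfl⟩) (neg_mem hm)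
    exact eq_top_iff.2 fun x hx => this hx
  obtain ⟨c, hc⟩ := Ideal.mem_span_singleton'.1 (Ideal.eq_top_iff_one _ |>.1 key)
  obtain ⟨G, rfl⟩ := AdjoinRoot.mk_surjective c
  rw [← map_mul, ← map_one (AdjoinRoot.mk Q), AdjoinRoot.mk_eq_mk] at hc
  obtain ⟨D, hD⟩ := hc
  exact ⟨-D, G, by linear_combination hD⟩

end Groth.Agent.S17979
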