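import Groth.Statements.S17980
import Mathlib
-- import your own Groth.Agent.* helpers here

set_option autoImplicit false
universe u
open Hensel

namespace Groth.Agent.S17980

/-- Let A be a local ring with residue field k, and let Q R = U V be two factorizations of one
polynomial over A with Q and U monic, such that Q and U have the same image in k[T], R and V have
the same image in k[T], and the images of Q and R in k[T] generate the unit ideal. Then Q = U and R
= V. -/
theorem result (A : Type u) [CommRing A] [IsLocalRing A]
    (Q R U V : Polynomial A) (hQ : Q.Monic) (hU : U.Monic)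
    (hQU : Polynomial.map (IsLocalRing.residue A) Q = Polynomial.map (IsLocalRing.residue A) U)
    (hRV : Polynomial.map (IsLocalRing.residue A) R = Polynomial.map (IsLocalRing.residue A) V)
    (hcop : IsCoprime (Polynomial.map (IsLocalRing.residue A) Q) (Polynomial.map (IsLocalRing.residue A) R))
    (h : Q * R = U * V) : Q = U ∧ R = V := by
  set D := Q - U with hD
  set E := V - R with hE
  have hDE : D * R = U * E := by rw [hD, hE]; linear_combination h
  have hdeg : Q.degree = U.degree := by
    rw [← hQ.degree_map (IsLocalRing.residue A), ← hU.degree_map (IsLocalRing.residue A), hQU]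
  have hDdeg : D.degree < U.degree :=
    hdeg ▸ Polynomial.degree_sub_lt hdeg hQ.ne_zero (by rw [hQ.leadingCoeff, hU.leadingCoeff])
  obtain ⟨a', b', hab⟩ := hcop
  obtain ⟨a, rfl⟩ := Polynomial.map_surjective _ IsLocalRing.residue_surjective a'
  obtain ⟨b, rfl⟩ := Polynomial.map_surjective _ IsLocalRing.residue_surjective b'
  set e := a * U + b * R - 1 with he
  have hem : ∀ k, e.coeff k ∈ IsLocalRing.maximalIdeal A := fun k => by
    rw [← IsLocalRing.residue_eq_zero_iff, ← Polynomial.coeff_map]
    simp [he, ← hQU, hab]
  let J := Ideal.span (Set.range fun k : Fin (D.natDegree + 1) => D.coeff k)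
  have hJ : ∀ k, D.coeff k ∈ J := fun k => by
    rcases Nat.lt_or_ge k (D.natDegree + 1) with hk | hk
    · exact Ideal.subset_span ⟨⟨k, hk⟩, rfl⟩
    · rw [Polynomial.coeff_eq_zero_of_natDegree_lt (by omega)]; exact zero_mem _
  have hJm : J ≤ IsLocalRing.maximalIdeal A * J := by
    rw [Ideal.span_le]
    rintro _ ⟨k, rfl⟩
    let π := Ideal.Quotient.mk (IsLocalRing.maximalIdeal A * J)
    have hde : (D * e).map π = 0 := Polynomial.ext fun l => by
      rw [Polynomial.coeff_map, Polynomial.coeff_zero, Ideal.Quotient.eq_zero_iff_mem,
        Polynomial.coeff_mul]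
      exact Ideal.sum_mem _ fun x _ => mul_comm (D.coeff x.1) _ ▸ Ideal.mul_mem_mul (hem _) (hJ _)
    have hD' : D.map π = (U * (a * D + b * E)).map π := by
      rw [← add_zero (D.map π), ← hde, ← Polynomial.map_add]
      congr 1
      linear_combination b * hDE
    have h2 : D.map π = 0 := by
      rcases subsingleton_or_nontrivial (A ⧸ IsLocalRing.maximalIdeal A * J) with hs | hs
      · exact Subsingleton.elim _ _
      rw [← (Polynomial.modByMonic_eq_self_iff (hU.map π)).2
        (Polynomial.degree_map_le.trans_lt (hU.degree_map π ▸ hDdeg)), hD', Polynomial.map_mul]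
      exact (Polynomial.modByMonic_eq_zero_iff_dvd (hU.map π)).2 (dvd_mul_right _ _)
    have := congrArg (fun P => P.coeff k) h2
    simpa [π, Ideal.Quotient.eq_zero_iff_mem] using this
  have hJ0 : J = ⊥ := Submodule.eq_bot_of_le_smul_of_le_jacobson_bot (IsLocalRing.maximalIdeal A) J
    (Submodule.fg_span (Set.finite_range _)) hJm
    (IsLocalRing.maximalIdeal_le_jacobson _)
  have hD0 : D = 0 := Polynomial.ext fun k => by simpa [hJ0] using hJ k
  have hE0 : E = 0 := hU.isRegular.left (by simp [← hDE, hD0])
  exact ⟨sub_eq_zero.1 hD0, (sub_eq_zero.1 hE0).symm⟩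

end Groth.Agent.S17980
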