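import Groth.Statements.S17985
import Mathlib
import Groth.Agent.WeilNumLib.Symmetrical
import Groth.Agent.Goren.Ring
import Groth.Agent.SegreDim.Noether

set_option linter.style.haveILetI false

set_option autoImplicit false
universe u
open MvPolynomial
open WeilNum

namespace Groth.Agent.S17985

open Groth.Agent.WeilNumLib
open scoped Pointwise


/-- Let p be a prime, e ≥ 1 and q = p^e. Let (π_i) be a nonempty finite family of pairwise nonconjugate
Weil q-numbers: π_i is an element of a field K_i of characteristic zero, integral over ℤ with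
minimal polynomial P_i, every complex root of P_i has absolute value √q, and P_i ≠ P_j for i ≠ j.
Suppose the total degree Σ_i deg P_i is even, equal to 2D. Let R_w be the minimal central order, the
image of ℤ[F, V] → ∏_i K_i, F ↦ (π_i), V ↦ (q/π_i). Then R_w is free of rank 2D as a ℤ-module, has
Krull dimension 1, and is a Gorenstein ring (Noetherian, with all localizations at primes of finite
injective dimension over themselves). -/
theorem result (p e : ℕ) [Fact p.Prime] (he : 0 < e)
    (ι : Type) [Fintype ι] (K : ι → Type u) [∀ i, Field (K i)] [∀ i, CharZero (K i)] (π : ∀ i, K i)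
    (hint : ∀ i, IsIntegral ℤ (π i))
    (hweil : ∀ i, ∀ z ∈ (minpoly ℤ (π i)).aroots ℂ, ‖z‖ = Real.sqrt ((p : ℝ) ^ e))
    (hinj : ∀ i j, minpoly ℤ (π i) = minpoly ℤ (π j) → i = j)
    [Nonempty ι] (D : ℕ) (hD : ∑ i, (minpoly ℤ (π i)).natDegree = 2 * D) :
    Module.Free ℤ (MvPolynomial.aeval ![fun i => π i, fun i => ((p : K i) ^ e) / π i] :
        MvPolynomial (Fin 2) ℤ →ₐ[ℤ] ((i : ι) → K i)).range ∧
      Module.finrank ℤ (MvPolynomial.aeval ![fun i => π i, fun i => ((p : K i) ^ e) / π i] :
        MvPolynomial (Fin 2) ℤ →ₐ[ℤ] ((i : ι) → K i)).range = 2 * D ∧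
      ringKrullDim (MvPolynomial.aeval ![fun i => π i, fun i => ((p : K i) ^ e) / π i] :
        MvPolynomial (Fin 2) ℤ →ₐ[ℤ] ((i : ι) → K i)).range = 1 ∧
      LocCoh.IsGorensteinRing (MvPolynomial.aeval ![fun i => π i, fun i => ((p : K i) ^ e) / π i] :
        MvPolynomial (Fin 2) ℤ →ₐ[ℤ] ((i : ι) → K i)).range := by
  have hq1 : 1 < p ^ e := Nat.one_lt_pow he.ne' (Fact.out : p.Prime).one_lt
  have hq : 0 < p ^ e := by omega
  have hz : ∀ i, ∀ z ∈ (minpoly ℤ (π i)).aroots ℂ, ‖z‖ = Real.sqrt ((p ^ e : ℕ) : ℝ) := fun i z hz => by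
    rw [hweil i z hz]; push_cast; rfl
  have hne := pi_ne_zero π hint hq hz
  obtain ⟨h, hh⟩ := exists_h π hint hq hz hinj hD
  set Φ : MvPolynomial (Fin 2) ℤ →ₐ[ℤ] ((i : ι) → K i) :=
    MvPolynomial.aeval ![fun i => π i, fun i => ((p : K i) ^ e) / π i] with hΦ
  have hker0 : ∀ g, Φ g = 0 ↔ g ∈ Ideal.span {fv ((p ^ e : ℕ) : ℤ), h} := fun g => by
    rw [← ker_eq π hint hq hz hD h hh hinj hq1, funext_iff]
    exact forall_congr' fun i => by rw [hΦ, apply_toProd, Pi.zero_apply]
  set P := ∏ i, minpoly ℤ (π i) with hPdef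
  have hPm : P.Monic := Polynomial.monic_prod_of_monic _ _ fun i _ => minpoly.monic (hint i)
  have hn : P.natDegree = 2 * D := by
    rw [hPdef, Polynomial.natDegree_prod _ _ fun i _ => minpoly.ne_zero (hint i), hD]
  have hPzero : ∀ i, Polynomial.aeval (π i) P = 0 := fun i => by
    rw [hPdef, map_prod]; exact Finset.prod_eq_zero (Finset.mem_univ i) (minpoly.aeval ℤ (π i))
  have hV : ∀ i, Polynomial.aeval (((p ^ e : ℕ) : K i) / π i) P = 0 := by
    intro i
    refine mul_left_cancel₀ (pow_ne_zero P.natDegree (hne i)) ?_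
    have hs := prod_coeff_symm π hint hz hinj
    rw [← hPdef] at hs
    calc π i ^ P.natDegree * Polynomial.aeval (((p ^ e : ℕ) : K i) / π i) P
        = ∑ j ∈ Finset.range (P.natDegree + 1), ((P.coeff j * ((p ^ e : ℕ) : ℤ) ^ j : ℤ) : K i) * π i ^ (P.natDegree - j) := by
          rw [Polynomial.aeval_eq_sum_range, Finset.mul_sum]
          refine Finset.sum_congr rfl fun j hj => ?_
          rw [zsmul_eq_mul, ← Nat.sub_add_cancel (Finset.mem_range_succ_iff.mp hj), pow_add, Nat.add_sub_cancel, div_pow]
          push_cast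
          field_simp [hne i]
      _ = ∑ j ∈ Finset.range (P.natDegree + 1), (P.coeff 0 : K i) * ((P.coeff (P.natDegree - j) : K i) * π i ^ (P.natDegree - j)) := by
          refine Finset.sum_congr rfl fun j hj => ?_
          rw [hs j (Finset.mem_range_succ_iff.mp hj), Int.cast_mul, mul_assoc]
      _ = π i ^ P.natDegree * 0 := by
          have hr := Finset.sum_range_reflect (fun j => (P.coeff j : K i) * π i ^ j) (P.natDegree + 1)
          simp only [Nat.add_sub_cancel] at hr
          rw [← Finset.mul_sum, mul_zero, hr]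
          have h0 := hPzero i
          rw [Polynomial.aeval_eq_sum_range] at h0
          simp only [zsmul_eq_mul] at h0
          rw [h0, mul_zero]
  haveI hfin : Module.Finite ℤ Φ.range := by
    have hr : Φ.range = Algebra.adjoin ℤ (Set.range (![fun i => π i, fun i => ((p : K i) ^ e) / π i] : Fin 2 → ((i : ι) → K i))) :=
      (Algebra.adjoin_range_eq_range_aeval ℤ _).symm
    have hfg := fg_adjoin_of_finite (R := ℤ)
      (s := Set.range (![fun i => π i, fun i => ((p : K i) ^ e) / π i] : Fin 2 → ((i : ι) → K i))) (Set.finite_range _) (by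
        rintro _ ⟨n, rfl⟩
        refine ⟨P, hPm, funext fun i => ?_⟩
        rw [← Polynomial.aeval_def]
        show Pi.evalAlgHom ℤ K i (Polynomial.aeval _ P) = 0
        rw [← Polynomial.aeval_algHom_apply]
        fin_cases n
        · simpa using hPzero i
        · simpa using hV i)
    rw [hr]
    exact Module.Finite.iff_fg.mpr hfg
  haveI : Module.IsTorsionFree ℤ Φ.range :=
    (Subtype.val_injective : Function.Injective (Φ.range.val)).moduleIsTorsionFree Φ.range.val (fun a b => map_zsmul Φ.range.val a b)
  haveI hfree : Module.Free ℤ Φ.range := Module.free_of_finite_type_torsion_free'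
  let F : Φ.range := Φ.rangeRestrict (X 0)
  have hFi : ∀ (G : Polynomial ℤ) (i : ι), (Polynomial.aeval F G : Φ.range).1 i = Polynomial.aeval (π i) G := by
    intro G i
    rw [← Subalgebra.val_apply, ← Polynomial.aeval_algHom_apply]
    show Pi.evalAlgHom ℤ K i (Polynomial.aeval (Φ (X 0)) G) = _
    rw [← Polynomial.aeval_algHom_apply, show Pi.evalAlgHom ℤ K i (Φ (X 0)) = π i by simp [Φ]]
  have hrank : Module.finrank ℤ Φ.range = 2 * D := by
    refine le_antisymm ?_ ?_
    · have hel : ∀ r : Φ.range, ∃ N, F ^ N * r ∈ Submodule.span ℤ (Set.range fun j : Fin (2 * D) => F ^ (j : ℕ)) := by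
        intro r
        obtain ⟨g, rfl⟩ := Φ.rangeRestrict_surjective r
        obtain ⟨N, G, hG⟩ := exists_reduce ((p ^ e : ℕ) : ℤ) g
        refine ⟨N, ?_⟩
        have h1 : Φ.rangeRestrict (X 0 ^ N * g - Polynomial.aeval (X 0) G) = 0 :=
          Subtype.ext ((hker0 _).mpr (Ideal.span_mono (by simp) hG))
        rw [map_sub, map_mul, map_pow, ← Polynomial.aeval_algHom_apply, sub_eq_zero] at h1
        rw [h1]
        have hred : Polynomial.aeval F G = Polynomial.aeval F (G %ₘ P) := by
          conv_lhs => rw [← Polynomial.modByMonic_add_div G P, map_add, map_mul]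
          rw [show Polynomial.aeval F P = 0 from Subtype.ext (funext fun i => by rw [hFi]; simpa using hPzero i),
            zero_mul, add_zero]
        rw [hred]
        by_cases h0 : G %ₘ P = 0
        · rw [h0, map_zero]; exact zero_mem _
        rw [Polynomial.aeval_eq_sum_range]
        refine Submodule.sum_mem _ fun j hj => Submodule.smul_mem _ _ (Submodule.subset_span ⟨⟨j, ?_⟩, rfl⟩)
        have h1 := Polynomial.natDegree_lt_natDegree h0 (Polynomial.degree_modByMonic_lt G hPm)
        have := Finset.mem_range_succ_iff.mp hj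
        omega
      let b := Module.Free.chooseBasis ℤ Φ.range
      choose N hN using fun l => hel (b l)
      let M := Finset.univ.sup N
      have hpow : ∀ (k : ℕ) (y : Φ.range), y ∈ Submodule.span ℤ (Set.range fun j : Fin (2 * D) => F ^ (j : ℕ)) →
          F ^ k * y ∈ Submodule.span ℤ (Set.range fun j : Fin (2 * D) => F ^ (j : ℕ)) := by
        intro k y hy
        induction hy using Submodule.span_induction with
        | mem y hy =>
          obtain ⟨j, rfl⟩ := hy
          obtain ⟨G, hG⟩ : ∃ G : Polynomial ℤ, F ^ k * F ^ (j : ℕ) = Polynomial.aeval F G :=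
            ⟨Polynomial.X ^ (k + j), by rw [map_pow, Polynomial.aeval_X, pow_add]⟩
          rw [hG, ← Polynomial.modByMonic_add_div G P, map_add, map_mul,
            show Polynomial.aeval F P = 0 from Subtype.ext (funext fun i => by rw [hFi]; simpa using hPzero i),
            zero_mul, add_zero]
          by_cases h0 : G %ₘ P = 0
          · rw [h0, map_zero]; exact zero_mem _
          rw [Polynomial.aeval_eq_sum_range]
          refine Submodule.sum_mem _ fun l hl => Submodule.smul_mem _ _ (Submodule.subset_span ⟨⟨l, ?_⟩, rfl⟩)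
          have h1 := Polynomial.natDegree_lt_natDegree h0 (Polynomial.degree_modByMonic_lt G hPm)
          have := Finset.mem_range_succ_iff.mp hl
          omega
        | zero => rw [mul_zero]; exact zero_mem _
        | add a b _ _ ha hb => rw [mul_add]; exact add_mem ha hb
        | smul c a _ ha => rw [mul_smul_comm]; exact Submodule.smul_mem _ c ha
      let μ : Φ.range →ₗ[ℤ] Φ.range := LinearMap.mulLeft ℤ (F ^ M)
      have hμ : Function.Injective μ := by
        intro a c hac
        refine Subtype.ext (funext fun i => mul_left_cancel₀ (pow_ne_zero M (hne i)) ?_)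
        have := congrFun (congrArg Subtype.val (hac : F ^ M * a = F ^ M * c)) i
        simpa [μ, F, Φ] using this
      have hle : LinearMap.range μ ≤ Submodule.span ℤ (Set.range fun j : Fin (2 * D) => F ^ (j : ℕ)) := by
        rintro _ ⟨r, rfl⟩
        rw [← b.sum_repr r, map_sum]
        refine Submodule.sum_mem _ fun l _ => ?_
        rw [map_smul]
        refine Submodule.smul_mem _ _ ?_
        show F ^ M * b l ∈ _
        rw [show M = (M - N l) + N l from (Nat.sub_add_cancel (Finset.le_sup (f := N) (Finset.mem_univ l))).symm, pow_add, mul_assoc]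
        exact hpow _ _ (hN l)
      rw [← LinearMap.finrank_range_of_inj hμ]
      exact (Submodule.finrank_mono hle).trans ((finrank_range_le_card _).trans (by simp))
    · have hli : LinearIndependent ℤ (fun j : Fin (2 * D) => F ^ (j : ℕ)) := by
        rw [Fintype.linearIndependent_iff]
        intro c hc l
        let G : Polynomial ℤ := ∑ j : Fin (2 * D), Polynomial.C (c j) * Polynomial.X ^ (j : ℕ)
        have hG : Polynomial.aeval F G = 0 := by
          rw [map_sum]
          simpa [Algebra.smul_def] using hc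
        have hdvd := prod_minpoly_dvd π hint hinj G fun i => by rw [← hFi, hG]; rfl
        have hG0 : G = 0 := by
          by_contra h0
          have h1 := Polynomial.natDegree_le_of_dvd hdvd h0
          rw [← hPdef, hn] at h1
          have h2 : G.natDegree ≤ 2 * D - 1 := Polynomial.natDegree_sum_le_of_forall_le _ _ fun j _ =>
            (Polynomial.natDegree_C_mul_X_pow_le _ _).trans (by omega)
          have := l.isLt
          omega
        have := congrArg (fun g => Polynomial.coeff g (l : ℕ)) hG0
        simpa [G, Polynomial.coeff_C_mul_X_pow, Fin.val_inj] using this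
      simpa using hli.fintype_card_le_finrank
  refine ⟨hfree, hrank, ?_, ?_⟩
  · have hinjZ : Function.Injective (algebraMap ℤ Φ.range) := by
      intro a b hab
      obtain ⟨i⟩ := (inferInstance : Nonempty ι)
      have := congrFun (congrArg Subtype.val hab) i
      exact Int.cast_injective (α := K i) this
    let eZ : ULift.{u} ℤ ≃+* ℤ := ULift.ringEquiv
    letI : Algebra (ULift.{u} ℤ) Φ.range := ((algebraMap ℤ Φ.range).comp eZ.toRingHom).toAlgebra
    haveI : Algebra.IsIntegral (ULift.{u} ℤ) Φ.range := ⟨fun x => by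
      obtain ⟨P0, hP0, hx⟩ := (Algebra.IsIntegral.of_finite ℤ Φ.range).isIntegral x
      refine ⟨P0.map eZ.symm.toRingHom, hP0.map _, ?_⟩
      rw [Polynomial.eval₂_map, RingHom.ext_int ((algebraMap (ULift.{u} ℤ) Φ.range).comp eZ.symm.toRingHom) (algebraMap ℤ Φ.range)]
      exact hx⟩
    rw [← Groth.Agent.SegreDim.ringKrullDim_eq_of_injective_integral (A := ULift.{u} ℤ) (hinjZ.comp eZ.injective),
      ringKrullDim_eq_of_ringEquiv eZ]
    exact IsPrincipalIdealRing.ringKrullDim_eq_one ℤ Int.not_isField
  · let eR : MvPolynomial (ULift.{u} (Fin 2)) (ULift.{u} ℤ) ≃+* MvPolynomial (Fin 2) ℤ :=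
      (MvPolynomial.renameEquiv _ Equiv.ulift).toRingEquiv.trans (MvPolynomial.mapEquiv _ ULift.ringEquiv)
    haveI : IsDomain (ULift.{u} ℤ) := ULift.ringEquiv.injective.isDomain
    haveI : IsPrincipalIdealRing (ULift.{u} ℤ) :=
      IsPrincipalIdealRing.of_surjective (ULift.ringEquiv (R := ℤ)).symm.toRingHom (ULift.ringEquiv (R := ℤ)).symm.surjective
    have h0 : LocCoh.IsGorensteinRing (MvPolynomial (ULift.{u} (Fin 2)) (ULift.{u} ℤ)) :=
      Groth.Agent.Goren.isGorensteinRing_mvPolynomial _ (Groth.Agent.Goren.isGorensteinRing_of_regular _ inferInstance) _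
    set f := eR.symm (fv ((p ^ e : ℕ) : ℤ)) with hf
    set g := eR.symm h with hg
    have hreg := (RingTheory.Sequence.isWeaklyRegular_cons_iff _ _ _).mp (isWeaklyRegular π hint hq hz hD h hh)
    have hfreg : IsSMulRegular (MvPolynomial (ULift.{u} (Fin 2)) (ULift.{u} ℤ)) f := by
      intro a b hab
      refine eR.injective (hreg.1 ?_)
      have := congrArg eR hab
      simpa [f] using this
    have h1 := Groth.Agent.Goren.isGorensteinRing_quot _ h0 f hfreg
    have hmem : ∀ w, w ∈ Ideal.span {f} ↔ eR w ∈ fv ((p ^ e : ℕ) : ℤ) • (⊤ : Submodule (MvPolynomial (Fin 2) ℤ) (MvPolynomial (Fin 2) ℤ)) := by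
      intro w
      rw [← Submodule.ideal_span_singleton_smul, smul_eq_mul, Ideal.mul_top, Ideal.mem_span_singleton, Ideal.mem_span_singleton,
        ← map_dvd_iff eR, RingEquiv.apply_symm_apply]
    have hgreg : IsSMulRegular (MvPolynomial (ULift.{u} (Fin 2)) (ULift.{u} ℤ) ⧸ Ideal.span {f}) (Ideal.Quotient.mk (Ideal.span {f}) g) := by
      intro a b hab
      obtain ⟨a, rfl⟩ := Ideal.Quotient.mk_surjective a
      obtain ⟨b, rfl⟩ := Ideal.Quotient.mk_surjective b
      simp only [smul_eq_mul, ← map_mul] at hab
      rw [Ideal.Quotient.eq, hmem, map_sub, map_mul, map_mul, RingEquiv.apply_symm_apply, ← mul_sub] at hab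
      rw [Ideal.Quotient.eq, hmem, map_sub, ← Submodule.Quotient.mk_eq_zero]
      have h2 := ((RingTheory.Sequence.isWeaklyRegular_cons_iff _ _ _).mp hreg.2).1
      refine h2 (show h • _ = h • (0 : QuotSMulTop (fv ((p ^ e : ℕ) : ℤ)) (MvPolynomial (Fin 2) ℤ)) from ?_)
      rw [smul_zero, ← Submodule.Quotient.mk_smul, Submodule.Quotient.mk_eq_zero]
      exact hab
    have h2 := Groth.Agent.Goren.isGorensteinRing_quot _ h1 _ hgreg
    let φ := Φ.rangeRestrict.toRingHom.comp eR.toRingHom
    have hφ : Function.Surjective φ := Φ.rangeRestrict_surjective.comp eR.surjective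
    have hkerφ : Ideal.span {f} ⊔ Ideal.span {g} = RingHom.ker φ := by
      ext x
      rw [← Ideal.span_union, Set.singleton_union, RingHom.mem_ker]
      refine Iff.trans ?_ ((hker0 (eR x)).symm.trans ⟨fun h => Subtype.ext h, fun h => congrArg Subtype.val h⟩)
      rw [show ({f, g} : Set _) = eR.symm '' {fv ((p ^ e : ℕ) : ℤ), h} by simp [Set.image_pair, f, g],
        ← Ideal.map_span, Ideal.map_symm]
      rfl
    exact Groth.Agent.Goren.isGorensteinRing_of_equiv _ _
      (((Ideal.quotEquivOfEq (by rw [Ideal.map_span, Set.image_singleton])).trans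
        (DoubleQuot.quotQuotEquivQuotSup (Ideal.span {f}) (Ideal.span {g}))).trans
        ((Ideal.quotEquivOfEq hkerφ).trans (RingHom.quotientKerEquivOfSurjective hφ))) h2


end Groth.Agent.S17985
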