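import Groth.Statements.S17987
import Mathlib
import Groth.Agent.WeilNumLib.Symm

set_option linter.style.haveILetI false

set_option autoImplicit false
universe u
open scoped Classical
open WeilNum

namespace Groth.Agent.S17987

/-- Let p be a prime, e ≥ 1 and q = p^e, and let (π_i) be a finite family of nonreal Weil q-numbers: π_i
lies in a field K_i of characteristic zero, is integral over ℤ with minimal polynomial P_i, every
complex root of P_i has absolute value √q, and no complex root of P_i is real; in particular deg P_i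
= 2d_i is even. Call π_i ordinary when exactly half of the roots of P_i in an algebraic closure of
ℚ_p, counted with multiplicity, are p-adic units (have absolute value 1). Then all π_i are ordinary
if and only if p does not divide ∏_i a_{d_i}, the product of the middle coefficients of the P_i
(this product is the value at F = V = 0 of the symmetric polynomial h_w of the family). -/
theorem result (p e : ℕ) [Fact p.Prime] (he : 0 < e)
    (ι : Type) [Fintype ι] (K : ι → Type u) [∀ i, Field (K i)] [∀ i, CharZero (K i)] (π : ∀ i, K i)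
    (hint : ∀ i, IsIntegral ℤ (π i))
    (hweil : ∀ i, ∀ z ∈ (minpoly ℤ (π i)).aroots ℂ, ‖z‖ = Real.sqrt ((p : ℝ) ^ e))
    (hnr : ∀ i, ∀ z ∈ (minpoly ℤ (π i)).aroots ℂ, z.im ≠ 0) :
    (∀ i, 2 * Multiset.card (((minpoly ℤ (π i)).aroots (PadicAlgCl p)).filter (fun z => ‖z‖ = 1)) = (minpoly ℤ (π i)).natDegree) ↔
      ¬ ((p : ℤ) ∣ ∏ i, (minpoly ℤ (π i)).coeff ((minpoly ℤ (π i)).natDegree / 2)) := by
  have key : ∀ i, 2 * Multiset.card (((minpoly ℤ (π i)).aroots (PadicAlgCl p)).filter (fun z => ‖z‖ = 1)) =
      (minpoly ℤ (π i)).natDegree ↔ ¬ ((p : ℤ) ∣ (minpoly ℤ (π i)).coeff ((minpoly ℤ (π i)).natDegree / 2)) := by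
    intro i
    have hz : ∀ z ∈ (minpoly ℤ (π i)).aroots ℂ, ‖z‖ = Real.sqrt ((p ^ e : ℕ) : ℝ) := fun z hz' => by
      rw [hweil i z hz']; push_cast; rfl
    obtain ⟨⟨d, hd⟩, hsym⟩ :=
      Groth.Agent.WeilNumLib.symm_nonreal (minpoly.monic (hint i)) (minpoly.irreducible (hint i)) hz (hnr i)
    obtain ⟨m, hm, hlow, hmid⟩ := Groth.Agent.WeilNumLib.padic_roots (p := p) (minpoly.monic (hint i))
    have hd2 : (minpoly ℤ (π i)).natDegree / 2 = d := by omega
    rw [hd2] at hsym ⊢
    have hmd : d ≤ m := by
      by_contra hlt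
      refine hmid ?_
      rw [show m = d - (d - m) by omega, hsym (d - m) (by omega)]
      refine Dvd.dvd.mul_right ?_ _
      push_cast
      exact dvd_pow (dvd_pow_self _ he.ne') (by omega)
    constructor
    · intro h
      rw [show d = m by omega]
      exact hmid
    · intro h
      have : ¬ d < m := fun hlt => h (hlow d hlt)
      omega
  rw [(Nat.prime_iff_prime_int.mp (Fact.out : p.Prime)).dvd_finsetProd_iff]
  constructor
  · rintro h ⟨i, -, hi⟩
    exact (key i).mp (h i) hi
  · intro h i
    exact (key i).mpr fun hi => h ⟨i, Finset.mem_univ i, hi⟩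


end Groth.Agent.S17987
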