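import Groth.Statements.S17988
import Mathlib
import Groth.Agent.Goren.MCMDepth

set_option autoImplicit false
universe u
open CAlg CategoryTheory Abelian

namespace Groth.Agent.S17988

theorem injdim_le_one (S : Type u) [CommRing S] [LocCoh.IsGorensteinRing S] (hdim : ringKrullDim S ≤ 1) :
    HasInjectiveDimensionLE (ModuleCat.of S S) 1 := by
  refine (ModuleCat.hasInjectiveDimensionLE_iff_forall_maximalSpectrum 1 (ModuleCat.of S S)).2 fun m => ?_
  obtain ⟨k, hk⟩ := SerreReg.exists_dim_nat (Localization.AtPrime m.1)
  haveI := (‹LocCoh.IsGorensteinRing S›).isGorensteinLocalRing_localization m.1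
  have hk1 : k ≤ 1 := by
    have h1 := (ringKrullDim_le_iff_height_le (1 : WithBot ℕ∞)).1 hdim (Ideal.IsMaximal.isPrime' m.1)
    rw [← IsLocalization.AtPrime.ringKrullDim_eq_height m.1 (Localization.AtPrime m.1), hk] at h1
    exact_mod_cast h1
  have h3 : HasInjectiveDimensionLE (ModuleCat.of (Localization.AtPrime m.1) (Localization.AtPrime m.1)) 1 :=
    Goren.hasInjectiveDimensionLE (Localization.AtPrime m.1) fun i hi =>
      Goren.resVanish_dim (Localization.AtPrime m.1) hk i (by omega)
  exact hasInjectiveDimensionLT_of_iso (Goren.locSelfIso m.1.primeCompl).symm 2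

theorem exists_inj_pi {S : Type u} [CommRing S] [IsNoetherianRing S] {M : Type u} [AddCommGroup M]
    [Module S M] [Module.Finite S M] (h : Function.Injective (Module.Dual.eval S M)) :
    ∃ (n : ℕ) (i : M →ₗ[S] Fin n → S), Function.Injective i := by
  obtain ⟨n, π, hπ⟩ := Module.Finite.exists_fin' S (Module.Dual S M)
  refine ⟨n, LinearMap.pi fun i => π (Pi.single i 1), ?_⟩
  rw [injective_iff_map_eq_zero]
  intro m hm
  refine h ((map_zero (Module.Dual.eval S M)).symm ▸ LinearMap.ext fun φ => ?_)
  obtain ⟨c, rfl⟩ := hπ φ
  rw [pi_eq_sum_univ' c, map_sum, map_sum]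
  refine Finset.sum_eq_zero fun i _ => ?_
  rw [map_smul, map_smul]
  have := congrFun hm i
  simp only [LinearMap.pi_apply, Pi.zero_apply] at this
  rw [Module.Dual.eval_apply, this, smul_zero]

theorem extend_of_inj {S : Type u} [CommRing S] (hS : HasInjectiveDimensionLE (ModuleCat.of S S) 1)
    {F T : Type u} [AddCommGroup F] [Module S F] [AddCommGroup T] [Module S T] {n : ℕ}
    (i : T →ₗ[S] Fin n → S) (hi : Function.Injective i) (π : F →ₗ[S] T) (hπ : Function.Surjective π)
    (φ : Module.Dual S (LinearMap.ker π)) : ∃ g : Module.Dual S F, g.comp (LinearMap.ker π).subtype = φ := by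
  haveI : Projective (ModuleCat.of S (Fin n → S)) := (IsProjective.iff_projective _).1 inferInstance
  have h1 : Subsingleton (Ext (ModuleCat.of S T) (ModuleCat.of S S) 1) :=
    Goren.ext_subsingleton_of_injective i hi
      (subsingleton_of_forall_eq 0 fun e => Ext.eq_zero_of_projective e)
      (HasInjectiveDimensionLT.subsingleton _ 2 2 le_rfl _)
  let Sq : ShortComplex (ModuleCat.{u} S) :=
    ShortComplex.mk (X₁ := ModuleCat.of S (LinearMap.ker π)) (ModuleCat.ofHom (LinearMap.ker π).subtype)
      (ModuleCat.ofHom π) (ModuleCat.hom_ext (LinearMap.ext fun w => w.2))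
  have hSq : Sq.ShortExact :=
    { exact := (ShortComplex.moduleCat_exact_iff _).2 fun (w : F) (hw : π w = 0) => ⟨⟨w, hw⟩, rfl⟩
      mono_f := (ModuleCat.mono_iff_injective _).2 Subtype.val_injective
      epi_g := (ModuleCat.epi_iff_surjective _).2 hπ }
  obtain ⟨x, hx⟩ := Ext.contravariant_sequence_exact₁ hSq (ModuleCat.of S S)
    (Ext.mk₀ (ModuleCat.ofHom φ : ModuleCat.of S (LinearMap.ker π) ⟶ ModuleCat.of S S)) (add_zero 1)
    (@Subsingleton.elim _ h1 _ _)
  obtain ⟨g, rfl⟩ := (Ext.mk₀_bijective _ _).2 x
  rw [Ext.mk₀_comp_mk₀] at hx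
  exact ⟨g.hom, congrArg ModuleCat.Hom.hom ((Ext.mk₀_bijective _ _).1 hx)⟩

theorem eval_pi_surjective {S : Type u} [CommRing S] (n : ℕ) :
    Function.Surjective (Module.Dual.eval S (Fin n → S)) :=
  (Module.bijective_dual_eval S (Fin n → S)).2

theorem dual_eval_surjective {S : Type u} [CommRing S] [IsNoetherianRing S]
    (hS : HasInjectiveDimensionLE (ModuleCat.of S S) 1) {M : Type u} [AddCommGroup M] [Module S M]
    [Module.Finite S M] (h : Function.Injective (Module.Dual.eval S M)) :
    Function.Surjective (Module.Dual.eval S M) := by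
  obtain ⟨n, i, hi⟩ := exists_inj_pi h
  obtain ⟨m, π, hπ⟩ := Module.Finite.exists_fin' S M
  let K := LinearMap.ker π
  let r : Module.Dual S (Fin m → S) →ₗ[S] Module.Dual S K := K.subtype.dualMap
  have hr : Function.Surjective r := fun φ => extend_of_inj hS i hi π hπ φ
  obtain ⟨k, ρ, hρ⟩ := Module.Finite.exists_fin' S K
  let j : Module.Dual S K →ₗ[S] Fin k → S :=
    LinearMap.pi fun a => LinearMap.applyₗ (ρ (Pi.single a 1))
  have hj : Function.Injective j := by
    rw [injective_iff_map_eq_zero]
    intro φ hφ
    refine (LinearMap.cancel_right hρ).1 ((Pi.basisFun S (Fin k)).ext fun a => ?_)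
    simpa [Pi.basisFun_apply, j] using congrFun hφ a
  intro Φ
  have hmem : ∀ φ : Module.Dual S M, φ.comp π ∈ LinearMap.ker r := fun φ => LinearMap.ext fun x => by
    show φ (π x.1) = 0
    rw [show π x.1 = 0 from x.2, map_zero]
  let c : Module.Dual S M →ₗ[S] LinearMap.ker r := π.dualMap.codRestrict _ hmem
  have hc : Function.Bijective c := by
    constructor
    · intro a b hab
      exact (LinearMap.cancel_right hπ).1 (congrArg Subtype.val hab)
    · rintro ⟨χ, hχ⟩
      refine ⟨((LinearMap.ker π).liftQ χ fun w hw => LinearMap.congr_fun hχ ⟨w, hw⟩).comp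
        (π.quotKerEquivOfSurjective hπ).symm.toLinearMap, Subtype.ext (LinearMap.ext fun w => ?_)⟩
      show ((LinearMap.ker π).liftQ χ fun v hv => LinearMap.congr_fun hχ ⟨v, hv⟩) ((π.quotKerEquivOfSurjective hπ).symm (π w)) = χ w
      rw [show (π.quotKerEquivOfSurjective hπ).symm (π w) = Submodule.Quotient.mk w from
        (LinearEquiv.symm_apply_eq _).2 rfl]
      rfl
  let e := LinearEquiv.ofBijective c hc
  obtain ⟨G, hG⟩ := extend_of_inj hS j hj r hr (Φ.comp e.symm.toLinearMap)
  obtain ⟨w, hw⟩ := eval_pi_surjective m G
  refine ⟨π w, LinearMap.ext fun φ => ?_⟩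
  have h2 := LinearMap.congr_fun hG (e φ)
  rw [← hw] at h2
  exact h2.trans (congrArg Φ (e.symm_apply_apply φ))

theorem dim_le_one (Λ : Type u) [CommRing Λ] [IsDomain Λ] [IsPrincipalIdealRing Λ]
    (S : Type u) [CommRing S] [Algebra Λ S] [Module.Finite Λ S] : ringKrullDim S ≤ 1 := by
  refine le_trans ?_ (Ring.krullDimLE_iff.1 (inferInstance : Ring.KrullDimLE 1 Λ))
  exact Order.krullDim_le_of_strictMono (PrimeSpectrum.comap (algebraMap Λ S))
    fun p q hpq => Ideal.IsIntegral.comap_lt_comap (R := Λ) (I := p.asIdeal) hpq

theorem eval_injective_of_free (Λ : Type u) [CommRing Λ] [IsDomain Λ] [IsPrincipalIdealRing Λ]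
    (S : Type u) [CommRing S] [Algebra Λ S] [Module.Finite Λ S] [IsReduced S]
    (M : Type u) [AddCommGroup M] [Module S M] [Module Λ M] [IsScalarTower Λ S M] [Module.Finite S M]
    [Module.Free Λ M] : Function.Injective (Module.Dual.eval S M) := by
  haveI : IsNoetherianRing S := Algebra.FiniteType.isNoetherianRing Λ S
  let T : Submonoid S := Algebra.algebraMapSubmonoid S (nonZeroDivisors Λ)
  have hinj : Function.Injective (LocalizedModule.mkLinearMap T M) := by
    rw [injective_iff_map_eq_zero]
    intro m hm
    obtain ⟨⟨t, l, hl, hlt⟩, ht⟩ := (IsLocalizedModule.eq_zero_iff T (LocalizedModule.mkLinearMap T M)).1 hm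
    have : l • m = 0 := by
      rw [← algebraMap_smul S l m, hlt]; exact ht
    exact (smul_eq_zero.1 this).resolve_left (nonZeroDivisors.ne_zero hl)
  haveI : Ring.KrullDimLE 0 (Localization T) := by
    refine Ring.KrullDimLE.mk₀ fun P hP => ?_
    obtain ⟨N, hN, hPN⟩ := Ideal.exists_le_maximal P hP.ne_top
    suffices P = N by rwa [this]
    have hbot : ∀ J : Ideal (Localization T), J.IsPrime →
        (J.comap (algebraMap S (Localization T))).comap (algebraMap Λ S) = ⊥ := by
      intro J hJ
      refine (Submodule.eq_bot_iff _).2 fun l hl => by_contra fun h0 => hJ.ne_top ?_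
      exact Ideal.eq_top_of_isUnit_mem _ hl (IsLocalization.map_units (Localization T)
        (⟨algebraMap Λ S l, l, mem_nonZeroDivisors_of_ne_zero h0, rfl⟩ : T))
    haveI := hP.comap (algebraMap S (Localization T))
    rcases (Ideal.comap_mono (f := algebraMap S (Localization T)) hPN).eq_or_lt with h | h
    · exact (IsLocalization.map_comap T (Localization T) P).symm.trans ((congrArg _ h).trans (IsLocalization.map_comap T (Localization T) N))
    · exact absurd (Ideal.IsIntegral.comap_lt_comap (R := Λ) h)
        (by rw [hbot P hP, hbot N hN.isPrime]; exact lt_irrefl _)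
  haveI : IsReduced (Localization T) := isReduced_localizationPreserves T (Localization T) inferInstance
  haveI : IsNoetherianRing (Localization T) := IsLocalization.isNoetherianRing T _ inferInstance
  haveI : IsArtinianRing (Localization T) :=
    isArtinianRing_iff_isNoetherianRing_krullDimLE_zero.2 ⟨inferInstance, inferInstance⟩
  haveI : IsSemisimpleRing (Localization T) := IsArtinianRing.isSemisimpleRing_of_isReduced _
  haveI : Module.Projective (Localization T) (LocalizedModule T M) :=
    Module.projective_of_isSemisimpleRing _ _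
  haveI : Module.FinitePresentation S M := Module.finitePresentation_of_finite S M
  rw [injective_iff_map_eq_zero]
  intro m hm
  apply hinj
  rw [map_zero]
  refine (Module.forall_dual_apply_eq_zero_iff (Localization T) _).1 fun φ => ?_
  obtain ⟨h, s, hs⟩ := Module.FinitePresentation.exists_lift_of_isLocalizedModule T
    (Algebra.linearMap S (Localization T)) ((φ.restrictScalars S).comp (LocalizedModule.mkLinearMap T M))
  have h0 : h m = 0 := LinearMap.congr_fun hm h
  have := LinearMap.congr_fun hs m
  rw [LinearMap.comp_apply, h0, map_zero] at this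
  have hu := IsLocalization.map_units (Localization T) s
  refine hu.mul_right_eq_zero.1 ?_
  rw [← Algebra.smul_def]
  exact this.symm

/-- Let Λ be a principal ideal domain and S a commutative Λ-algebra which is finitely generated and free
as a Λ-module and reduced as a ring; let M be a finitely generated S-module. Then M is torsionless
(the canonical map M → M** to the double S-dual is injective) if and only if M is free as a
Λ-module. If in addition S is a Gorenstein ring (it has Krull dimension at most 1, being finite over
Λ), then M is reflexive (M → M** bijective) if and only if M is free as a Λ-module, so that for such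
S torsionless and reflexive finitely generated modules coincide. The published statement is the case
Λ = ℤ, resp. Λ = ℤ_ℓ for a prime ℓ, with S the minimal central order R_w of a finite set of Weil
q-numbers, resp. its ℓ-adic completion R_w ⊗ ℤ_ℓ, under the assumption that R_w is Gorenstein; the
argument given there uses only that S is finite free over Λ, reduced, and (for reflexivity)
Gorenstein of dimension one. -/
theorem result (Λ : Type u) [CommRing Λ] [IsDomain Λ] [IsPrincipalIdealRing Λ]
    (S : Type u) [CommRing S] [Algebra Λ S] [Module.Finite Λ S] [Module.Free Λ S] [IsReduced S]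
    (M : Type u) [AddCommGroup M] [Module S M] [Module Λ M] [IsScalarTower Λ S M] [Module.Finite S M] :
    (Function.Injective (Module.Dual.eval S M) ↔ Module.Free Λ M) ∧
      (LocCoh.IsGorensteinRing S → (Module.IsReflexive S M ↔ Module.Free Λ M)) := by
  haveI : IsNoetherianRing S := Algebra.FiniteType.isNoetherianRing Λ S
  have h1 : Function.Injective (Module.Dual.eval S M) ↔ Module.Free Λ M := by
    refine ⟨fun h => ?_, fun _ => eval_injective_of_free Λ S M⟩
    obtain ⟨n, i, hi⟩ := exists_inj_pi h
    haveI : Module.Finite Λ M := Module.Finite.trans S M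
    haveI : Module.IsTorsionFree Λ M :=
      Function.Injective.moduleIsTorsionFree (i.restrictScalars Λ) hi (map_smul _)
    infer_instance
  refine ⟨h1, fun hG => ⟨fun hR => h1.1 (Module.bijective_dual_eval S M).1, fun hF => ?_⟩⟩
  haveI := hG
  exact ⟨h1.2 hF, dual_eval_surjective (injdim_le_one S (dim_le_one Λ S)) (h1.2 hF)⟩

end Groth.Agent.S17988
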