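import Groth.Statements.S18002
import Groth.Agent.AVTate.MinOrdData

set_option autoImplicit false
universe u
open CategoryTheory MonoidalCategory CartesianMonoidalCategory MonObj GrpObj AlgebraicGeometry MvPolynomial
open AbVar

namespace Groth.Agent.S18002

/-- (b) ⇒ (a): the implication towards freeness of the Tate modules at the primes ℓ ≠ p; let p be a
prime and k a field with p elements; let (π_j) be a finite family of pairwise nonconjugate nonreal
Weil p-numbers (π_j in a field K_j of characteristic zero, integral over ℤ with minimal polynomial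
P_j, all complex roots of P_j of absolute value √p and none real, P_i ≠ P_j for i ≠ j) and R_w ⊆ ∏_j
K_j the minimal central order, the image of ℤ[F, V] → ∏_j K_j, F ↦ (π_j), V ↦ (p/π_j). Let A be an
abelian variety over k (a proper, geometrically integral commutative group scheme over k, with
p-Frobenius π_A) together with a ring isomorphism ρ : R_w ≅ End(A) with ρ(F) = π_A, so that the
endomorphism ring of A is the minimal central order. Let Ω be an algebraic closure of k, ℓ a prime
invertible in k, and T_ℓ(A) the ℓ-adic Tate module of Ω-valued points with its action of End(A).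
Then T_ℓ(A) is free of rank one over End(A) ⊗ ℤ_ℓ: there is an element x of T_ℓ(A) such that for
every ℤ-basis s_1, …, s_n of End(A) the family T_ℓ(s_i)(x) is a ℤ_ℓ-basis of T_ℓ(A) (linearly
independent and spanning). The published statement is an equivalence, for A isogenous to the product
of the simple abelian varieties attached to the π_j, between End(A) = R_w and freeness of rank one
of the Tate modules at all primes including the Dieudonné module at p; only the implication towards
the primes ℓ ≠ p is stated here. -/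
theorem result (p : ℕ) [Fact p.Prime] (k : Type u) [Field k] [Finite k] (hk : Nat.card k = p)
    (J : Type) [Fintype J] (K : J → Type) [∀ j, Field (K j)] [∀ j, CharZero (K j)] (ϖ : ∀ j, K j)
    (hint : ∀ j, IsIntegral ℤ (ϖ j))
    (hweil : ∀ j, ∀ z ∈ (minpoly ℤ (ϖ j)).aroots ℂ, ‖z‖ = Real.sqrt p)
    (hnr : ∀ j, ∀ z ∈ (minpoly ℤ (ϖ j)).aroots ℂ, z.im ≠ 0)
    (hinj : ∀ i j, minpoly ℤ (ϖ i) = minpoly ℤ (ϖ j) → i = j)
    (A : Over (Spec (CommRingCat.of k))) [GrpObj A] [IsCommMonObj A] [IsProper A.hom] [GeometricallyIntegral A.hom]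
    (πA : A ⟶ A) [IsMonHom πA] (hπAb : πA.left.base = 𝟙 _) (hπAle : ∀ U : A.left.Opens, U ≤ πA.left ⁻¹ᵁ U)
    (hπAapp : ∀ (U : A.left.Opens) (s : Γ(A.left, U)), (πA.left.appLE U U (hπAle U)).hom s = s ^ p)
    (ρ : (MvPolynomial.aeval ![fun j => ϖ j, fun j => (p : K j) / ϖ j] : MvPolynomial (Fin 2) ℤ →ₐ[ℤ] ((j : J) → K j)).range ≃+* EndAV.End A)
    (hρ : ρ ⟨(MvPolynomial.aeval ![fun j => ϖ j, fun j => (p : K j) / ϖ j] : MvPolynomial (Fin 2) ℤ →ₐ[ℤ] ((j : J) → K j)) (X 0), AlgHom.mem_range_self _ _⟩ = EndAV.End.of πA)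
    (Ω : Type u) [Field Ω] [Algebra k Ω] [IsAlgClosure k Ω] (l : ℕ) [Fact l.Prime] (hl : (l : k) ≠ 0) :
    ∃ x : AbDual.TateMod A l (SGA7.pt Ω), ∀ (n : ℕ) (b : Module.Basis (Fin n) ℤ (EndAV.End A)),
      LinearIndependent ℤ_[l] (fun i => EndAV.End.tateRep l (SGA7.pt Ω) (b i) x) ∧
        Submodule.span ℤ_[l] (Set.range fun i => EndAV.End.tateRep l (SGA7.pt Ω) (b i) x) = ⊤ := by
  haveI : IsAlgClosed Ω := IsAlgClosure.isAlgClosed k
  obtain ⟨hf, hr⟩ := Groth.Agent.AVTate.tate_finite_free (X := A) Ω (l := l) hl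
  haveI := hf
  haveI := hr
  exact Groth.Agent.AVTate.exists_generator_end Ω πA hπAb hπAle (fun U s => by rw [hk]; exact hπAapp U s)
    (Groth.Agent.AVTate.isMinimal_of_equiv πA hint hinj hk (Groth.Agent.AVTate.ne_zero_of_weil hint (Fact.out : p.Prime).pos hweil) ρ hρ) hl

end Groth.Agent.S18002
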