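import Groth.Statements.S18003
import Mathlib
import Groth.Agent.WeilNumLib.Order

set_option linter.style.haveILetI false

set_option autoImplicit false
universe u
open MvPolynomial
open WeilNum

namespace Groth.Agent.S18003

open Groth.Agent.WeilNumLib


/-- Let p be a prime, e ≥ 1 and q = p^e; let (π_i) be a finite family of pairwise nonconjugate Weil
q-numbers (π_i in a field K_i of characteristic zero, integral over ℤ with minimal polynomial P_i,
all complex roots of P_i of absolute value √q, P_i ≠ P_j for i ≠ j) of even total degree Σ_i deg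
P_i, P_w = ∏_i P_i, and R_w ⊆ ∏_i K_i the minimal central order, the image of ℤ[F, V] → ∏_i K_i, F ↦
(π_i), V ↦ (q/π_i). Let T be a finitely generated free ℤ-module and F_T an endomorphism of T. Then
there exists an R_w-module structure on the additive group T in which the class of F acts as F_T if
and only if P_w(F_T) = 0 (equivalently: F_T is semisimple after tensoring with ℚ, with eigenvalues
among the conjugates of the π_i) and there is an endomorphism V_T of T with F_T ∘ V_T = q. When it
exists the structure is determined by F_T (the class of V acts as V_T = q·F_T⁻¹), and reflexive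
R_w-modules are exactly the ℤ-free finitely generated ones, so this identifies the objects of
Refl(R_w) with such pairs (T, F_T); the uniqueness remark is not part of the formal statement. -/
theorem result (p e : ℕ) [Fact p.Prime] (he : 0 < e)
    (ι : Type) [Fintype ι] (K : ι → Type u) [∀ i, Field (K i)] [∀ i, CharZero (K i)] (π : ∀ i, K i)
    (hint : ∀ i, IsIntegral ℤ (π i))
    (hweil : ∀ i, ∀ z ∈ (minpoly ℤ (π i)).aroots ℂ, ‖z‖ = Real.sqrt ((p : ℝ) ^ e))
    (hinj : ∀ i j, minpoly ℤ (π i) = minpoly ℤ (π j) → i = j)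
    (D : ℕ) (hD : ∑ i, (minpoly ℤ (π i)).natDegree = 2 * D)
    (T : Type) [AddCommGroup T] [Module.Finite ℤ T] [Module.Free ℤ T] (FT : T →ₗ[ℤ] T) :
    (∃ _ : Module (MvPolynomial.aeval ![fun i => π i, fun i => ((p : K i) ^ e) / π i] :
        MvPolynomial (Fin 2) ℤ →ₐ[ℤ] ((i : ι) → K i)).range T,
        ∀ t : T, (⟨(MvPolynomial.aeval ![fun i => π i, fun i => ((p : K i) ^ e) / π i] :
        MvPolynomial (Fin 2) ℤ →ₐ[ℤ] ((i : ι) → K i)) (X 0), AlgHom.mem_range_self _ _⟩ : (MvPolynomial.aeval ![fun i => π i, fun i => ((p : K i) ^ e) / π i] :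
        MvPolynomial (Fin 2) ℤ →ₐ[ℤ] ((i : ι) → K i)).range) • t = FT t) ↔
      (Polynomial.aeval FT (∏ i, minpoly ℤ (π i)) = 0 ∧
        ∃ VT : T →ₗ[ℤ] T, FT ∘ₗ VT = ((p : ℤ) ^ e) • LinearMap.id) := by
  have hq1 : 1 < p ^ e := Nat.one_lt_pow he.ne' (Fact.out : p.Prime).one_lt
  have hz : ∀ i, ∀ z ∈ (minpoly ℤ (π i)).aroots ℂ, ‖z‖ = Real.sqrt ((p ^ e : ℕ) : ℝ) := fun i z hz => by
    rw [hweil i z hz]; push_cast; rfl
  have hne := pi_ne_zero π hint (show 0 < p ^ e by omega) hz
  set Φ : MvPolynomial (Fin 2) ℤ →ₐ[ℤ] ((i : ι) → K i) :=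
    MvPolynomial.aeval ![fun i => π i, fun i => ((p : K i) ^ e) / π i] with hΦ
  constructor
  · rintro ⟨inst, hF⟩
    letI := inst
    let F : Φ.range := ⟨Φ (X 0), AlgHom.mem_range_self _ _⟩
    let V : Φ.range := ⟨Φ (X 1), AlgHom.mem_range_self _ _⟩
    have hint' : ∀ (n : ℤ) (t : T), ((n : Φ.range)) • t = n • t := fun n t => Int.cast_smul_eq_zsmul _ _ _
    have haev : ∀ (P : Polynomial ℤ) (t : T), Polynomial.aeval FT P t = (Polynomial.aeval F P) • t := by
      intro P
      induction P using Polynomial.induction_on' with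
      | add a b ha hb => intro t; rw [map_add, map_add, LinearMap.add_apply, ha, hb, add_smul]
      | monomial n a =>
        induction n generalizing a with
        | zero => intro t; simp [hint']
        | succ n ih =>
          intro t
          rw [← Polynomial.monomial_mul_X, map_mul, map_mul, Polynomial.aeval_X, Polynomial.aeval_X,
            Module.End.mul_apply, ih, mul_smul, hF]
    refine ⟨LinearMap.ext fun t => ?_, (DistribMulAction.toAddMonoidHom T V).toIntLinearMap, LinearMap.ext fun t => ?_⟩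
    · rw [haev]
      have h0 : Polynomial.aeval F (∏ i, minpoly ℤ (π i)) = 0 := by
        refine Subtype.ext (funext fun i => ?_)
        rw [← Subalgebra.val_apply, ← Polynomial.aeval_algHom_apply]
        show Pi.evalAlgHom ℤ K i (Polynomial.aeval (Φ (X 0)) (∏ i, minpoly ℤ (π i))) = 0
        rw [← Polynomial.aeval_algHom_apply, show Pi.evalAlgHom ℤ K i (Φ (X 0)) = π i by simp [Φ], map_prod]
        exact Finset.prod_eq_zero (Finset.mem_univ i) (minpoly.aeval ℤ (π i))
      rw [h0, zero_smul]; rfl
    · show FT (V • t) = ((p : ℤ) ^ e) • t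
      rw [← hF, smul_smul, ← hint']
      congr 1
      refine Subtype.ext (funext fun i => ?_)
      simp [F, V, Φ, mul_div_cancel₀ _ (hne i)]
  · rintro ⟨hP, VT, hVT⟩
    let qz : ℤ := ((p ^ e : ℕ) : ℤ)
    have hq0 : qz ≠ 0 := by
      show ((p ^ e : ℕ) : ℤ) ≠ 0
      exact_mod_cast (show p ^ e ≠ 0 by omega)
    have hVT' : ∀ t, FT (VT t) = qz • t := fun t => by
      have h := LinearMap.congr_fun hVT t
      rw [LinearMap.comp_apply, LinearMap.smul_apply, LinearMap.id_apply] at h
      rw [h, show qz = (p : ℤ) ^ e by push_cast [qz]; rfl]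
    have hdet : LinearMap.det FT ≠ 0 := by
      intro h0
      have h1 := congrArg LinearMap.det hVT
      rw [LinearMap.det_comp, h0, zero_mul, LinearMap.det_smul, LinearMap.det_id, mul_one] at h1
      exact pow_ne_zero _ (pow_ne_zero _ (Int.natCast_ne_zero.mpr (Fact.out : p.Prime).ne_zero)) h1.symm
    have hFinj : Function.Injective FT := by
      rw [← LinearMap.ker_eq_bot]
      refine LinearMap.ker_eq_bot'.mpr fun t ht => ?_
      let b := Module.Free.chooseBasis ℤ T
      classical
      rw [← LinearMap.det_toMatrix b] at hdet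
      have h := Matrix.eq_zero_of_mulVec_eq_zero hdet (v := b.repr t) (by rw [LinearMap.toMatrix_mulVec_repr, ht]; simp)
      exact b.repr.injective (by rw [map_zero]; exact DFunLike.coe_injective h)
    have hTV : ∀ t, VT (FT t) = qz • t := fun t => hFinj (by rw [hVT', map_smul])
    have hcomm : ∀ a ∈ ({FT, VT} : Set (Module.End ℤ T)), ∀ b ∈ ({FT, VT} : Set (Module.End ℤ T)), a * b = b * a := by
      have h : FT * VT = VT * FT := LinearMap.ext fun t => (hVT' t).trans (hTV t).symm
      rintro a (rfl | rfl) b (rfl | rfl) <;> first | rfl | exact h | exact h.symm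
    letI := Algebra.adjoinCommRingOfComm ℤ hcomm
    let Fs : Algebra.adjoin ℤ ({FT, VT} : Set (Module.End ℤ T)) := ⟨FT, Algebra.subset_adjoin (by simp)⟩
    let Vs : Algebra.adjoin ℤ ({FT, VT} : Set (Module.End ℤ T)) := ⟨VT, Algebra.subset_adjoin (by simp)⟩
    let Ψ : MvPolynomial (Fin 2) ℤ →ₐ[ℤ] Module.End ℤ T :=
      (Algebra.adjoin ℤ ({FT, VT} : Set (Module.End ℤ T))).val.comp (MvPolynomial.aeval ![Fs, Vs])
    have hΨF : Ψ (X 0) = FT := by simp [Ψ, Fs]
    have hΨfv : Ψ (fv qz) = 0 := by
      refine LinearMap.ext fun t => ?_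
      simp [fv, Ψ, Fs, Vs, hVT']
    have hker : ∀ g, Φ g = 0 → Ψ g = 0 := by
      intro g hg
      obtain ⟨N, Q, hQ⟩ := exists_reduce_ker π hint (show 0 < p ^ e by omega) hz hinj g (fun i => by
        rw [← apply_toProd π p e g i, ← hΦ, hg]; rfl)
      obtain ⟨c, hc⟩ := Ideal.mem_span_singleton'.mp hQ
      have h1 := congrArg Ψ hc
      rw [map_mul, hΨfv, mul_zero, map_sub, map_mul, map_pow, ← Polynomial.aeval_algHom_apply, hΨF, map_mul, hP,
        zero_mul, sub_zero] at h1
      refine LinearMap.ext fun t => ?_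
      have : Function.Injective ⇑(FT ^ N) := by rw [Module.End.coe_pow]; exact hFinj.iterate N
      exact this (by rw [← Module.End.mul_apply, ← h1]; simp)
    let ρ : Φ.range →+* Module.End ℤ T := (Φ.rangeRestrict.toRingHom).liftOfSurjective Φ.rangeRestrict_surjective
      ⟨Ψ.toRingHom, fun g hg => hker g (congrArg Subtype.val hg)⟩
    refine ⟨Module.compHom T ρ, fun t => ?_⟩
    show ρ (Φ.rangeRestrict.toRingHom (X 0)) t = FT t
    rw [RingHom.liftOfRightInverse_comp_apply]
    exact LinearMap.congr_fun hΨF t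


end Groth.Agent.S18003
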