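import Groth.Statements.S18016
import Mathlib
import Groth.Agent.ColimNilPair.Diag

set_option autoImplicit false
universe u
open CategoryTheory CategoryTheory.Limits
open Lim

namespace Groth.Agent.S18016

/-- In ring form, let R be a commutative ring, f : B → D any map of R-algebras and i : D' → D a
surjective map of R-algebras every element of whose kernel is nilpotent (so Spec D → Spec D' is a
locally nilpotent closed immersion of affine R-schemes and Spec D → Spec B is affine), and let q₁ :
P → B, q₂ : P → D' exhibit P as the fibre product ring B ×_D D' (the pushout of the two affine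
schemes). Then the diagram B → D ← D' is a filtered colimit, in R-algebras, of diagrams B_j → D_j ←
D'_j of R-algebras of finite presentation in which D'_j → D_j is surjective with locally nilpotent
kernel; and the fibre products P_j = B_j ×_{D_j} D'_j form a compatible diagram whose colimit is P.
Moreover: if f is surjective (resp. surjective with locally nilpotent kernel, resp. integral) then
every B_j → D_j can be taken surjective (resp. surjective with locally nilpotent kernel, resp.
integral). (The published statement also covers two further classes, maps that become a closed or a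
locally nilpotent immersion after composing with a locally nilpotent closed immersion; those two
clauses are not stated here.) -/
theorem result {R B D D' P : Type u} [CommRing R] [CommRing B]
    [CommRing D] [CommRing D'] [CommRing P] [Algebra R B] [Algebra R D] [Algebra R D'] [Algebra R P]
    (f : B →ₐ[R] D) (i : D' →ₐ[R] D) (hi : Function.Surjective i)
    (hnil : ∀ x ∈ RingHom.ker i.toRingHom, IsNilpotent x) (q₁ : P →ₐ[R] B) (q₂ : P →ₐ[R] D')
    (hP : IsPullback (CommRingCat.ofHom q₁.toRingHom) (CommRingCat.ofHom q₂.toRingHom)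
      (CommRingCat.ofHom f.toRingHom) (CommRingCat.ofHom i.toRingHom)) :
    ∃ (ι : Type u) (_ : SmallCategory ι) (_ : IsFiltered ι) (DB DD DD' DP : ι ⥤ Under (CommRingCat.of R))
      (φ : DB ⟶ DD) (ψ : DD' ⟶ DD) (π₁ : DP ⟶ DB) (π₂ : DP ⟶ DD')
      (cB : DB ⟶ (Functor.const ι).obj (Under.mk (CommRingCat.ofHom (algebraMap R B))))
      (cD : DD ⟶ (Functor.const ι).obj (Under.mk (CommRingCat.ofHom (algebraMap R D))))
      (cD' : DD' ⟶ (Functor.const ι).obj (Under.mk (CommRingCat.ofHom (algebraMap R D'))))
      (cP : DP ⟶ (Functor.const ι).obj (Under.mk (CommRingCat.ofHom (algebraMap R P)))),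
      Nonempty (IsColimit (Cocone.mk _ cB)) ∧ Nonempty (IsColimit (Cocone.mk _ cD)) ∧
      Nonempty (IsColimit (Cocone.mk _ cD')) ∧ Nonempty (IsColimit (Cocone.mk _ cP)) ∧
      (∀ j, (φ.app j).right ≫ (cD.app j).right = (cB.app j).right ≫ CommRingCat.ofHom f.toRingHom) ∧
      (∀ j, (ψ.app j).right ≫ (cD.app j).right = (cD'.app j).right ≫ CommRingCat.ofHom i.toRingHom) ∧
      (∀ j, (π₁.app j).right ≫ (cB.app j).right = (cP.app j).right ≫ CommRingCat.ofHom q₁.toRingHom) ∧
      (∀ j, (π₂.app j).right ≫ (cD'.app j).right = (cP.app j).right ≫ CommRingCat.ofHom q₂.toRingHom) ∧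
      (∀ j, (DB.obj j).hom.hom.FinitePresentation ∧ (DD.obj j).hom.hom.FinitePresentation ∧
        (DD'.obj j).hom.hom.FinitePresentation) ∧
      (∀ j, Function.Surjective (ψ.app j).right.hom ∧ ∀ x ∈ RingHom.ker (ψ.app j).right.hom, IsNilpotent x) ∧
      (∀ j, IsPullback (π₁.app j).right (π₂.app j).right (φ.app j).right (ψ.app j).right) ∧
      (Function.Surjective f → ∀ j, Function.Surjective (φ.app j).right.hom) ∧
      (Function.Surjective f → (∀ x ∈ RingHom.ker f.toRingHom, IsNilpotent x) →
        ∀ j, Function.Surjective (φ.app j).right.hom ∧ ∀ x ∈ RingHom.ker (φ.app j).right.hom, IsNilpotent x) ∧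
      (f.toRingHom.IsIntegral → ∀ j, (φ.app j).right.hom.IsIntegral) := by
  open Groth.Agent.ColimNilPair in
  have hT := (Types.isPullback_iff _ _ _ _).1 (hP.map (forget CommRingCat.{u}))
  let g : P →ₐ[R] eqzInf f i := (q₁.prod q₂).codRestrict _ fun x =>
    congr_arg (fun r : CommRingCat.of P ⟶ CommRingCat.of D => r.hom x) hP.w
  have hg : Function.Bijective g := ⟨fun x y h => hT.2.1 x y
      ⟨congrArg (fun t : eqzInf f i => t.1.1) h, congrArg (fun t : eqzInf f i => t.1.2) h⟩,
    fun z => by
      obtain ⟨x, h1, h2⟩ := hT.2.2 z.1.1 z.1.2 z.2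
      exact ⟨x, Subtype.ext (Prod.ext h1 h2)⟩⟩
  let e := (AlgEquiv.ofBijective g hg).symm
  refine ⟨Ix f i hi, inferInstance, inferInstance, DB f i hi, DD f i hi, DD' f i hi, DP f i hi, φD f i hi,
    ψD f i hi, π₁ f i hi, π₂ f i hi, cB f i hi, cD f i hi, cD' f i hi, cP f i hi e,
    nonempty_isColimit_cB f i hi, nonempty_isColimit_cD f i hi, nonempty_isColimit_cD' f i hi,
    nonempty_isColimit_cP f i hi e, fun j => ?_, fun j => ?_, fun j => ?_, fun j => ?_, fun j => ?_,
    fun j => ⟨j.1.ψ_surjective, fun x hx => j.2.nilψ hnil x hx⟩, isPullback_π f i hi,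
    fun h j => j.2.surjφ h, fun h hn j => ⟨j.2.surjφ h, fun x hx => j.2.nilφ h hn x hx⟩, fun h j => j.2.intφ h⟩
  · ext a; exact AlgHom.congr_fun j.1.toD_φ a
  · ext a; exact AlgHom.congr_fun j.1.toD_ψ a
  · ext a
    exact (congrArg (fun t : eqzInf f i => t.1.1) ((AlgEquiv.ofBijective g hg).apply_symm_apply (j.1.toP f i hi a))).symm
  · ext a
    exact (congrArg (fun t : eqzInf f i => t.1.2) ((AlgEquiv.ofBijective g hg).apply_symm_apply (j.1.toP f i hi a))).symm
  · exact ⟨RingHom.finitePresentation_algebraMap.2 (ColimIntPair.finitePresentation j.1.RB.finite_toSet),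
      RingHom.finitePresentation_algebraMap.2 (ColimIntPair.finitePresentation j.1.finite_ED),
      RingHom.finitePresentation_algebraMap.2 (ColimIntPair.finitePresentation j.1.RD.finite_toSet)⟩

end Groth.Agent.S18016
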