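import Groth.Statements.S18019
import Mathlib

set_option autoImplicit false
universe u
open ClassStk

namespace Groth.Agent.S18019

open Polynomial in
/-- Let R be an integral domain of characteristic 2 and let a be a nonzero element of R, so that x ↦ x +
a defines an R-algebra involution of the polynomial ring R[x] (an action of the group of order two).
A polynomial f is invariant, f(x + a) = f(x), if and only if f belongs to the R-subalgebra generated
by u = x (x + a); in other words the ring of invariants is the polynomial ring R[u]. -/
theorem result (R : Type u) [CommRing R] [IsDomain R]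
    [CharP R 2] (a : R) (ha : a ≠ 0) (f : Polynomial R) :
    f.comp (X + C a) = f ↔ f ∈ Algebra.adjoin R ({X * (X + C a)} : Set (Polynomial R)) := by
  have hinv : (X * (X + C a)).comp (X + C a) = X * (X + C a) := by
    have h2 : (2 : Polynomial R) = 0 := by exact_mod_cast CharP.cast_eq_zero (Polynomial R) 2
    simp only [mul_comp, X_comp, add_comp, C_comp]
    linear_combination ((X + C a) * C a) * h2
  constructor
  · intro hf
    induction hn : f.natDegree using Nat.strong_induction_on generalizing f with
    | _ n ih =>
      let u : Polynomial R := X * (X + C a)
      have hmon : u.Monic := monic_X.mul (monic_X_add_C a)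
      have hdeg : u.natDegree = 2 := by
        rw [monic_X.natDegree_mul (monic_X_add_C a), natDegree_X, natDegree_X_add_C]
      have hdiv : f %ₘ u + u * (f /ₘ u) = f := modByMonic_add_div f u
      have hr : (f %ₘ u).natDegree ≤ 1 := by
        have := natDegree_modByMonic_lt f hmon (fun h => by rw [h] at hdeg; simp at hdeg)
        omega
      obtain ⟨d, c, hdc⟩ := exists_eq_X_add_C_of_natDegree_le_one hr
      have hcomp : u * ((f /ₘ u).comp (X + C a) - f /ₘ u) + C (d * a) = 0 := by
        have h := hf
        rw [← hdiv, hdc] at h
        simp only [add_comp, mul_comp, C_comp, X_comp] at h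
        have hu : X.comp (X + C a) * (X + C a).comp (X + C a) = X * (X + C a) := by rw [← mul_comp]; exact hinv
        rw [show (u.comp (X + C a)) = u from hinv] at * 
        rw [C_mul]
        linear_combination h
      have hq : (f /ₘ u).comp (X + C a) = f /ₘ u := by
        by_contra hne
        have hne' : (f /ₘ u).comp (X + C a) - f /ₘ u ≠ 0 := sub_ne_zero.2 hne
        have h2 := natDegree_mul hmon.ne_zero hne'
        rw [eq_neg_of_add_eq_zero_left hcomp, natDegree_neg, natDegree_C, hdeg] at h2
        omega
      have hd : d = 0 := by
        rw [hq, sub_self, mul_zero, zero_add, C_eq_zero, mul_eq_zero] at hcomp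
        exact hcomp.resolve_right ha
      rw [← hdiv, hdc, hd, C_0, zero_mul, zero_add]
      refine add_mem (Subalgebra.algebraMap_mem _ c) (mul_mem (Algebra.subset_adjoin rfl) ?_)
      by_cases h0 : f /ₘ u = 0
      · rw [h0]; exact zero_mem _
      · refine ih _ ?_ _ hq rfl
        have hle : 2 ≤ f.natDegree := by
          by_contra hlt
          exact h0 ((divByMonic_eq_zero_iff hmon).2 (lt_of_le_of_lt degree_le_natDegree (by
            rw [degree_eq_natDegree hmon.ne_zero, hdeg]; exact_mod_cast Nat.lt_of_not_le hlt)))
        rw [natDegree_divByMonic f hmon, hdeg, ← hn]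
        omega
  · intro hf
    induction hf using Algebra.adjoin_induction with
    | mem x hx => rw [Set.mem_singleton_iff.1 hx]; exact hinv
    | algebraMap r => simp [Polynomial.algebraMap_eq]
    | add x y _ _ hx hy => rw [add_comp, hx, hy]
    | mul x y _ _ hx hy => rw [mul_comp, hx, hy]

end Groth.Agent.S18019
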