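import Groth.Statements.S18021
import Groth.Agent.InertiaGpd.Spectral
import Mathlib.GroupTheory.SpecificGroups.Cyclic
import Mathlib.Data.ZMod.Basic

set_option autoImplicit false
open Groth.Agent
open W4c5stacksedinertia

namespace Groth.Agent.S18021

open W4c5stacksedinertia in
/-- In the rational vector space K with basis the isomorphism classes of finite groups (the class of a
group standing for its classifying groupoid), the inertia operator is diagonalizable with spectrum
the positive integers: the eigenspaces attached to natural numbers span everything, and a rational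
number is an eigenvalue if and only if it is a positive integer. -/
theorem result :
    (⨆ n : ℕ, Module.End.eigenspace inertia (n : ℚ)) = ⊤ ∧
    ∀ μ : ℚ, Module.End.HasEigenvalue inertia μ ↔ ∃ n : ℕ, 0 < n ∧ μ = (n : ℚ) := by
  classical
  refine ⟨eq_top_iff.2 fun v _ => ?_, fun μ => ⟨fun h => ?_, ?_⟩⟩
  · obtain ⟨n, hn⟩ := InertiaGpd.exists_Kle v
    refine (iSup₂_le (fun k _ => ?_) : (⨆ k ∈ Finset.range (n + 1), Module.End.eigenspace inertia (k : ℚ)) ≤ _) (InertiaGpd.mem_iSup_eigen (n + 1) v (InertiaGpd.inertiaR_eq_zero hn (Nat.lt_succ_self n)))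
    exact le_iSup (fun n : ℕ => Module.End.eigenspace inertia (n : ℚ)) k
  · obtain ⟨v, hv⟩ := h.exists_hasEigenvector
    obtain ⟨n, hn⟩ := InertiaGpd.exists_Kle v
    have h0 := InertiaGpd.inertiaR_eq_zero hn (Nat.lt_succ_self n)
    rw [InertiaGpd.inertiaR_eigen hv.apply_eq_smul, smul_eq_zero, or_iff_left hv.2, Finset.prod_eq_zero_iff] at h0
    obtain ⟨j, -, hj⟩ := h0
    refine ⟨j, Nat.pos_of_ne_zero fun hj0 => hv.2 (InertiaGpd.eigen_zero ?_), sub_eq_zero.1 hj⟩
    rw [hv.apply_eq_smul, sub_eq_zero.1 hj, hj0, Nat.cast_zero, zero_smul]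
  · rintro ⟨n, hn, rfl⟩
    haveI : NeZero n := ⟨hn.ne'⟩
    let G := Multiplicative (ZMod n)
    have hcard : Nat.card G = n := Nat.card_zmod n
    have hw : InertiaGpd.w G ≠ 0 := by
      rw [InertiaGpd.w, cl, Finsupp.smul_single, smul_eq_mul, mul_one, ne_eq, Finsupp.single_eq_zero]
      exact Nat.cast_ne_zero.2 Nat.card_pos.ne'
    have hI : inertia (InertiaGpd.w G) = (n : ℚ) • InertiaGpd.w G := by
      haveI : Fintype (CommTuple G 1) := Fintype.ofFinite _
      show inertiaR 1 _ = _
      rw [InertiaGpd.inertiaR_w, finsum_eq_sum_of_fintype]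
      have hc : ∀ s : CommTuple G 1, InertiaGpd.w (InertiaGpd.cen s) = InertiaGpd.w G := fun s =>
        InertiaGpd.w_congr ((MulEquiv.subgroupCongr (eq_top_iff.2 fun g _ => InertiaGpd.mem_cen.2 fun i => mul_comm _ _)).trans
          Subgroup.topEquiv)
      rw [Finset.sum_congr rfl fun s _ => hc s, Finset.sum_const, Finset.card_univ, ← Nat.card_eq_fintype_card,
        Nat.card_congr (show CommTuple G 1 ≃ G from
          { toFun := fun t => t.1 0
            invFun := fun x => ⟨fun _ => x, fun a b _ => Subsingleton.elim a b, fun a b => Commute.refl x⟩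
            left_inv := fun t => Subtype.ext (funext fun i => by rw [Subsingleton.elim i 0])
            right_inv := fun x => rfl }), hcard, ← Nat.cast_smul_eq_nsmul ℚ]
    exact Module.End.hasEigenvalue_of_hasEigenvector ⟨Module.End.mem_eigenspace_iff.2 hI, hw⟩

end Groth.Agent.S18021
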