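import Groth.Statements.S18026
-- import your own Groth.Agent.* helpers here
import Groth.Agent.TwConst.Henselian

set_option autoImplicit false
universe u
open Hensel

namespace Groth.Agent.S18026

open AlgebraicGeometry CategoryTheory in
/-- Let `A` be a henselian discrete valuation ring and `f : T ⟶ Spec A` an étale surjective morphism of
schemes. Then some open subscheme `U` of `T` is finite over `Spec A` and still maps onto it; in
particular `U → Spec A` is a finite étale cover sitting inside `T` as an open subscheme (étaleness
of the restriction is automatic, and surjectivity records that `U` meets the closed fibre). (The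
published statement asks for an open component of `T` finite étale over `Spec A`; when `T` is not
separated — two copies of `Spec A` glued along the generic point — no open and closed subset of `T`
is finite over `Spec A`, while the published proof constructs an open subscheme, the spectrum of the
local ring of `T` at a point of the closed fibre; so this row asks only for an open subscheme.) -/
theorem result
    (A : Type u) [CommRing A] [IsDomain A] [IsDiscreteValuationRing A] [HenselianLocalRing A]
    (T : Scheme.{u}) (f : T ⟶ Spec (CommRingCat.of A)) [Etale f] [Surjective f] :
    ∃ U : T.Opens, IsFinite (U.ι ≫ f) ∧ Surjective (U.ι ≫ f) := by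
  obtain ⟨x, hx⟩ := f.surjective (IsLocalRing.closedPoint A)
  obtain ⟨V, hV, hxV, -⟩ := exists_isAffineOpen_mem_and_subset (U := ⊤) (x := x) trivial
  haveI : IsAffine V.toScheme := hV
  obtain ⟨ho, -, hfin, -, hsurj⟩ := Groth.Agent.TwConst.main_local (V.ι ≫ f) (⟨x, hxV⟩ : V) hx
  haveI := ho
  let j := V.toScheme.fromSpecStalk (⟨x, hxV⟩ : V) ≫ V.ι
  refine ⟨j.opensRange, ?_, ?_⟩
  · rw [← MorphismProperty.cancel_left_of_respectsIso @IsFinite j.isoOpensRange.hom, Scheme.Hom.isoOpensRange_hom_ι_assoc]
    simpa [j] using hfin
  · rw [← MorphismProperty.cancel_left_of_respectsIso @Surjective j.isoOpensRange.hom, Scheme.Hom.isoOpensRange_hom_ι_assoc]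
    simpa [j] using hsurj

end Groth.Agent.S18026
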