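import Groth.Statements.S18027
import Groth.Agent.Chev.LargestNormal
import Groth.Agent.GrpDim.Neutral

set_option autoImplicit false
universe u
open CategoryTheory MonoidalCategory CartesianMonoidalCategory MonObj GrpObj AlgebraicGeometry CategoryTheory.Limits
open AlgGrp

namespace Groth.Agent.S18027
open Groth.Agent

/-- Let `k` be a field and `u : G ⟶ H` a homomorphism of smooth `k`-group schemes which is a closed
immersion, where `G` and `H` have the same dimension. Then `u` carries the connected component of
the identity of `G` onto the connected component of the identity of `H`; as `u` is a closed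
immersion and `H` is reduced, `u` therefore restricts to an isomorphism between the identity
components. (The second printed assertion, on the groups of components, is not included.) -/
theorem result (k : Type u) [Field k]
    (G H : Over (Spec (CommRingCat.of k))) [GrpObj G] [GrpObj H]
    [Smooth G.hom] [Smooth H.hom] (u : G ⟶ H) [IsMonHom u] [IsClosedImmersion u.left]
    (hdim : topologicalKrullDim ↥G.left = topologicalKrullDim ↥H.left)
    (t : ↥((𝟙_ (Over (Spec (CommRingCat.of k)))).left)) :
    ⇑u.left.base '' connectedComponent (η[G].left.base t) = connectedComponent (η[H].left.base t) := by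
  haveI : IsSeparated G.hom := GrpField.isSeparated_hom G
  haveI : IsSeparated H.hom := GrpField.isSeparated_hom H
  haveI : IsLocallyNoetherian G.left := LocallyOfFiniteType.isLocallyNoetherian G.hom
  haveI := GrpField.isClosedImmersion_eta G
  haveI := GrpField.isClosedImmersion_eta H
  set eG := η[G].left t with heG
  set eH := η[H].left t with heH
  have hue : u.left eG = eH := by
    rw [heG, ← Scheme.Hom.comp_apply, ← Over.comp_left, IsMonHom.one_hom u]
  have hclosed : ∀ (X : Over (Spec (CommRingCat.of k))) (f : 𝟙_ (Over (Spec (CommRingCat.of k))) ⟶ X),
      IsClosedImmersion f.left → IsClosed ({f.left t} : Set X.left) := by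
    intro X f hf
    rw [show ({f.left t} : Set X.left) = f.left '' {t} from Set.image_singleton.symm]
    refine f.left.isClosedEmbedding.isClosedMap _ ?_
    rw [show ({t} : Set _) = Set.univ from
      Set.eq_univ_of_forall fun x => Subsingleton.elim (α := PrimeSpectrum k) x t]
    exact isClosed_univ
  refine Set.Subset.antisymm ?_ ?_
  · rw [← hue]
    exact u.left.continuous.image_connectedComponent_subset eG
  have hH := GrpDim.isIrreducible_connectedComponent H eH
  let ζ := IsIrreducible.genericPoint hH
  have hζ : closure {ζ} = connectedComponent eH := by
    rw [IsIrreducible.genericPoint_closure_eq, isClosed_connectedComponent.closure_eq]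
  obtain ⟨n, hn⟩ := Chev.exists_natDim' G
  have hcG : Order.coheight eG = (n : ℕ∞) := by
    have h1 := GrpField.coheight_eq_topologicalKrullDim G (hclosed G η[G] inferInstance)
    rw [hn] at h1; exact WithBot.coe_injective h1
  have hcH : Order.coheight eH = (n : ℕ∞) := by
    have h1 := GrpField.coheight_eq_topologicalKrullDim H (hclosed H η[H] inferInstance)
    rw [← hdim, hn] at h1; exact WithBot.coe_injective h1
  have hmono : StrictMono (fun x : G.left => u.left x) := fun a b h =>
    ⟨h.le.map u.left.continuous, fun h' => h.not_ge (u.left.isClosedEmbedding.isInducing.specializes_iff.1 h')⟩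
  obtain ⟨s, hs0, hsl⟩ := Order.exists_series_of_coheight_eq_coe eG hcG
  have hlast : u.left s.last ≤ ζ := by
    show ζ ⤳ u.left s.last
    rw [specializes_iff_mem_closure, hζ]
    refine u.left.continuous.image_connectedComponent_subset eG |>.trans (hue ▸ subset_rfl) ⟨s.last, ?_, rfl⟩
    have hsp : s.last ⤳ eG := hs0 ▸ s.head_le_last
    exact ((isPreconnected_singleton (x := s.last)).closure).subset_connectedComponent
      (specializes_iff_mem_closure.1 hsp) (subset_closure rfl)
  have heq : ζ ≤ u.left s.last := by
    by_contra hne
    have hlt : (s.map _ hmono).last < ζ := by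
      rw [LTSeries.last_map]; exact lt_of_le_not_ge hlast hne
    have := Order.length_le_coheight (x := eH) (p := (s.map _ hmono).snoc ζ hlt) (by
      rw [RelSeries.head_snoc, LTSeries.head_map, hs0, hue])
    rw [hcH, RelSeries.snoc_length, LTSeries.map_length, hsl] at this
    have : n + 1 ≤ n := by exact_mod_cast this
    omega
  rw [← hζ]
  refine closure_minimal (Set.singleton_subset_iff.2 ?_)
    (u.left.isClosedEmbedding.isClosedMap _ isClosed_connectedComponent)
  refine ⟨s.last, ?_, (Specializes.antisymm (show u.left s.last ⤳ ζ from heq) hlast).eq⟩
  have hsp : s.last ⤳ eG := hs0 ▸ s.head_le_last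
  exact ((isPreconnected_singleton (x := s.last)).closure).subset_connectedComponent
    (specializes_iff_mem_closure.1 hsp) (subset_closure rfl)


end Groth.Agent.S18027
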