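import Groth.Statements.S18042
import Groth.Agent.CBPts.TwoLines

set_option autoImplicit false
set_option backward.isDefEq.respectTransparency false
set_option backward.isDefEq.respectTransparency.types false
universe u
open AdjLin

namespace Groth.Agent.S18042

/-- Let k be an algebraically closed field of characteristic zero, n ≥ 1, and Z a finite set of points
of projective 3-space over k (points of the projectivization of k⁴, forms in four variables being
evaluated at the chosen representative) with the Cayley–Bacharach property in degree n: every form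
of degree n vanishing at all points of Z but one vanishes at that point as well. If Z has at most 3n
+ 1 points, then either all points of Z lie in one plane (a common 3-dimensional subspace of k⁴), or
they lie on the union of two skew lines (two 2-dimensional subspaces of k⁴ meeting in zero), each
line carrying at least n + 1 points of Z, and Z has at least 2n + 3 points. (The source states this
for an arbitrary zero-dimensional subscheme, with a third alternative, containment in the
first-order thickening of a line; for the reduced subschemes treated here that alternative is a case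
of coplanarity.) -/
theorem result (k : Type u) [Field k] [IsAlgClosed k] [CharZero k]
    (Z : Finset (Projectivization k (Fin 4 → k))) (n : ℕ) (hn : 1 ≤ n)
    (hCB : (∀ z ∈ Z, ∀ p : MvPolynomial (Fin 4) k, p.IsHomogeneous n →
      (∀ z' ∈ Z, z' ≠ z → MvPolynomial.eval z'.rep p = 0) → MvPolynomial.eval z.rep p = 0))
    (hcard : Z.card ≤ 3 * n + 1) :
    (∃ W : Submodule k (Fin 4 → k), Module.finrank k ↥W = 3 ∧ ∀ z ∈ Z, z.submodule ≤ W) ∨
      (∃ W₁ W₂ : Submodule k (Fin 4 → k), Module.finrank k ↥W₁ = 2 ∧ Module.finrank k ↥W₂ = 2 ∧ W₁ ⊓ W₂ = ⊥ ∧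
        (∀ z ∈ Z, z.submodule ≤ W₁ ∨ z.submodule ≤ W₂) ∧
        n + 1 ≤ Set.ncard {z : Projectivization k (Fin 4 → k) | z ∈ Z ∧ z.submodule ≤ W₁} ∧
        n + 1 ≤ Set.ncard {z : Projectivization k (Fin 4 → k) | z ∈ Z ∧ z.submodule ≤ W₂} ∧
        2 * n + 3 ≤ Z.card) := by
  classical
  rcases Groth.Agent.CBPts.coplanar_or_twoLines hn hCB hcard with ⟨W, hW, h⟩ | ⟨L, M, hL, hM, hd, hcov, h1, h2⟩
  · exact Or.inl ⟨W, hW, fun z hz => Groth.Agent.CBPts.rep_mem_iff.1 (h z hz)⟩
  · have hset : ∀ W : Submodule k (Fin 4 → k), {z : Projectivization k (Fin 4 → k) | z ∈ Z ∧ z.submodule ≤ W}.ncard =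
        (Groth.Agent.CBPts.on Z W).card := fun W => by
      rw [← Set.ncard_coe_finset]
      congr 1
      ext w
      simp [Groth.Agent.CBPts.mem_on, Groth.Agent.CBPts.rep_mem_iff]
    refine Or.inr ⟨L, M, hL, hM, hd, fun z hz => (hcov z hz).imp Groth.Agent.CBPts.rep_mem_iff.1
      Groth.Agent.CBPts.rep_mem_iff.1, by rw [hset]; omega, by rw [hset]; omega, ?_⟩
    have hdisj : Disjoint (Groth.Agent.CBPts.on Z L) (Groth.Agent.CBPts.on Z M) := Finset.disjoint_left.2 fun w hw hw' =>
      w.rep_nonzero ((Submodule.mem_bot k).1 (hd ▸ ⟨(Groth.Agent.CBPts.mem_on.1 hw).2, (Groth.Agent.CBPts.mem_on.1 hw').2⟩))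
    have h3 : (Groth.Agent.CBPts.on Z L ∪ Groth.Agent.CBPts.on Z M).card ≤ Z.card :=
      Finset.card_le_card fun w hw => (Finset.mem_union.1 hw).elim (fun h => (Groth.Agent.CBPts.mem_on.1 h).1)
        fun h => (Groth.Agent.CBPts.mem_on.1 h).1
    rw [Finset.card_union_of_disjoint hdisj] at h3
    omega

end Groth.Agent.S18042
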