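import Groth.Statements.S18046
import Groth.Agent.CBSurf.Setup
-- import your own Groth.Agent.* helpers here

set_option autoImplicit false
universe u
open CategoryTheory CategoryTheory.Limits AlgebraicGeometry
open AdjLin

namespace Groth.Agent.S18046

/-- Let k be an algebraically closed field of characteristic zero and X ⊂ P³_k a smooth surface of
degree d, that is, a closed immersion ι : X → P³_k of an irreducible smooth k-scheme of dimension 2
whose hyperplane class H = ι*O(1) has self-intersection (H·H) = d (computed as an alternating sum of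
Euler characteristics from two copies of ι*O(−1)); write O_X(j) = ι*O_{P³}(j) and h⁰(F) for the
k-dimension of H⁰(X, F). Let Z ⊂ X be a zero-dimensional local complete intersection subscheme (a
quasi-coherent ideal I_Z with finite support, generated by two sections on an affine neighbourhood
of every point) with the Cayley–Bacharach property for O_X(n): for every quasi-coherent ideal I'
covering I_Z in the order of ideal sheaves, every global section of O_X(n) whose zero scheme has
ideal ≤ I' has zero scheme with ideal ≤ I_Z. For an integer j put r_Z(j) = h⁰(O_X(j)) − h⁰(O_X(j) ⊗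
I_Z), the rank of the evaluation of forms of degree j on Z. Then for every integer m ≤ n, r_Z(m) +
r_Z(n − m) ≤ χ(O_X/I_Z) + h⁰(O_X(d − 4 − m)), where χ(O_X/I_Z), the Euler characteristic of the
structure sheaf of Z pushed to X, is the length of Z. (The published lemma does not assume that Z is
a local complete intersection; its proof constructs a rank-2 vector bundle from Z by the
Cayley–Bacharach criterion, which needs this, so it is assumed here.) -/
theorem result
    (k : Type u) [Field k] [IsAlgClosed k] [CharZero k]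
    (X : Scheme.{u}) [X.Over (Spec (CommRingCat.of k))] [Smooth (X ↘ (Spec (CommRingCat.of k)))]
    [IrreducibleSpace X] (hdim : topologicalKrullDim X = 2)
    (ι : X ⟶ CohB1.ProjSpace 3 k) [IsClosedImmersion ι]
    (hι : ι ≫ CohB1.ProjSpace.toSpec 3 k = X ↘ (Spec (CommRingCat.of k)))
    (d : ℤ) (hd : FGA.intNum k X 2 ![((Scheme.Modules.pullback ι).obj (Twist.twistProjSpace 3 k (-1))), ((Scheme.Modules.pullback ι).obj (Twist.twistProjSpace 3 k (-1)))] (Coh.structureModule X) = d)
    (IZ : X.IdealSheafData) (hfin : (IZ.support : Set X).Finite)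
    (hlci : ∀ x : X, ∃ V : X.affineOpens, x ∈ (V : X.Opens) ∧
      ∃ a b : Γ(X, V), IZ.ideal V = Ideal.span {a, b})
    (n m : ℤ) (hm : m ≤ n)
    (hCB : ∀ I' : X.IdealSheafData, IZ ⋖ I' →
      ∀ σ : Coh.structureModule X ⟶ ((Scheme.Modules.pullback ι).obj (Twist.twistProjSpace 3 k (n))),
        PicF2.zeroScheme ((Scheme.Modules.pullback ι).obj (Twist.twistProjSpace 3 k (n))) σ ≤ I' → PicF2.zeroScheme ((Scheme.Modules.pullback ι).obj (Twist.twistProjSpace 3 k (n))) σ ≤ IZ) :
    ((Module.finrank k (Coh.HH X ((Scheme.Modules.pullback ι).obj (Twist.twistProjSpace 3 k (m))) 0) : ℤ) - (Module.finrank k (Coh.HH X (CohB1.tensorMod ((Scheme.Modules.pullback ι).obj (Twist.twistProjSpace 3 k (m))) (ClSub.idealMod IZ)) 0) : ℤ)) +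
        ((Module.finrank k (Coh.HH X ((Scheme.Modules.pullback ι).obj (Twist.twistProjSpace 3 k (n - m))) 0) : ℤ) - (Module.finrank k (Coh.HH X (CohB1.tensorMod ((Scheme.Modules.pullback ι).obj (Twist.twistProjSpace 3 k (n - m))) (ClSub.idealMod IZ)) 0) : ℤ)) ≤
      FGA.eulerCharLE k X (ClSub.quotMod IZ) 2 + (Module.finrank k (Coh.HH X ((Scheme.Modules.pullback ι).obj (Twist.twistProjSpace 3 k (d - 4 - m))) 0) : ℤ) := by
  haveI := Groth.Agent.ExtFund.isProper_of_closed ι hι
  haveI := Groth.Agent.CurveRR.isNoetherian_of_proper k X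
  haveI : X.IsSeparated := ⟨by rw [terminal.hom_ext (terminal.from X) ((X ↘ Spec (CommRingCat.of k)) ≫ terminal.from _)]; infer_instance⟩
  have hcl := Groth.Agent.CBSurf.isClosed_singleton_support (k := k) hfin
  have hH := TMul.isAmple_pullback ι ι.isEmbedding.isInducing
    (Groth.Agent.Intersect.isAmple_twistProj_one 3 k)
  let L₁ := (Scheme.Modules.pullback ι).obj (Twist.twistProjSpace 3 k m)
  let L₂ := (Scheme.Modules.pullback ι).obj (Twist.twistProjSpace 3 k (n - m))
  let L := (Scheme.Modules.pullback ι).obj (Twist.twistProjSpace 3 k n)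
  have h₁ : PicF.IsInvertible L₁ := Groth.Agent.SerrePn.isInvertible_Lx ι m
  have h₂ : PicF.IsInvertible L₂ := Groth.Agent.SerrePn.isInvertible_Lx ι (n - m)
  have hL : PicF.IsInvertible L := Groth.Agent.SerrePn.isInvertible_Lx ι n
  obtain ⟨θ⟩ := Groth.Agent.HilbArt.twist_twist k 3 m (n - m) n (by ring)
  let φ : CohB1.tensorMod L₁ L₂ ≅ L :=
    Groth.Agent.KFlat.pullTensorIso ι _ _ ≪≫ (Scheme.Modules.pullback ι).mapIso θ
  obtain ⟨V, e₁, e₂, hS, he₁, he₂⟩ := Groth.Agent.CBSurf.exists_affine_gens hH hfin h₁ h₂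
  let e := φ.hom.app V.1 (TMul.tm e₁ e₂)
  have he : TMul.IsGen e := Groth.Agent.MeroLib.IsGen.map_iso φ.hom (TMul.isGen_tm he₁ he₂)
  haveI : IsNoetherianRing Γ(X, V.1) := IsLocallyNoetherian.component_noetherian V
  letI := Groth.Agent.CBSurf.valg k V.1
  letI : ∀ (G : X.Modules) (U : X.Opens), Module k Γ(G, U) := fun G U => Groth.Agent.CurveRR.secMod k G U
  obtain ⟨hfd, hχ⟩ := Groth.Agent.CBSurf.finite_euler (k := k) hfin hcl hS 2
  obtain ⟨hpf, hmax⟩ := Groth.Agent.CBSurf.primes_spec (IP := IZ) (V := V) hfin hcl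
  have hmain := Groth.Agent.CBSurf.rank_add_rank_le (k := k) (IZ.ideal V) hfd hmax hpf
    (fun p hp hIp => Groth.Agent.CBSurf.socAt_spec hcl hfin
      (fun z hz => Groth.Agent.CBSurf.regular_dim_two (k := k) hdim (hcl z hz)) hlci p hp hIp)
    (LinearMap.range (Groth.Agent.CBSurf.coeff (k := k) IZ he₁))
    (LinearMap.range (Groth.Agent.CBSurf.coeff (k := k) IZ he₂))
    (LinearMap.range (Groth.Agent.CBSurf.coeff (k := k) IZ he))
    (by
      rintro _ ⟨s₁, rfl⟩ _ ⟨s₂, rfl⟩
      exact ⟨_, Groth.Agent.CBSurf.coeff_mul φ he₁ he₂ he rfl s₁ s₂⟩)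
    (fun p z hp hIp hz hzI ⟨s, hs⟩ => Groth.Agent.CBSurf.coeff_ne_socle hS hL he hCB hp hz hzI s hs)
  have hfin' : ∀ F : X.Modules, PicF.IsInvertible F → Module.Finite k (Coh.HH X F 0) ∧
      Module.Finite k (Coh.HH X (CohB1.tensorMod F (ClSub.idealMod IZ)) 0) := fun F hF =>
    have hc : Coh.IsCoh F := Groth.Agent.CurveRR.isCoh_of_rank (Groth.Agent.CurveRR.isFinLocFreeOfRank_one hF)
    ⟨Groth.Agent.CohFinite.finite_proper k X F hc 0, Groth.Agent.CohFinite.finite_proper k X _
      (Groth.Agent.CurveRR.isCoh_tensor' hc (Groth.Agent.CurveRR.isCoh_idealMod IZ).1) 0⟩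
  obtain ⟨a1, a2⟩ := hfin' L₁ h₁
  obtain ⟨b1, b2⟩ := hfin' L₂ h₂
  have h3 := Groth.Agent.CBSurf.h0_sub_le (k := k) hS h₁ he₁
  have h4 := Groth.Agent.CBSurf.h0_sub_le (k := k) hS h₂ he₂
  rw [hχ]
  simp only [L₁, L₂] at h3 h4
  omega

end Groth.Agent.S18046
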