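import Groth.Statements.S18048
import Groth.Agent.CBSurf.Hypersurf
import Groth.Agent.CBSurf.Reduced
import Groth.Agent.ExtFund.SmoothDual
import Groth.Agent.Intersect.Hyper
import Groth.Agent.AbelMap.Section
-- import your own Groth.Agent.* helpers here

set_option backward.isDefEq.respectTransparency false
set_option autoImplicit false
universe u
open CategoryTheory CategoryTheory.Limits AlgebraicGeometry
open AdjLin

namespace Groth.Agent.S18048

/-- Let k be an algebraically closed field of characteristic zero and X ⊂ P³_k a smooth surface of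
degree d, that is, a closed immersion ι : X → P³_k of an irreducible smooth k-scheme of dimension 2
whose hyperplane class H = ι*O(1) has self-intersection (H·H) = d (computed as an alternating sum of
Euler characteristics from two copies of ι*O(−1)); write O_X(j) = ι*O_{P³}(j). Let P ⊂ X be a
zero-dimensional local complete intersection subscheme (a quasi-coherent ideal I_P with finite
support, generated by two sections on an affine neighbourhood of every point) with the
Cayley–Bacharach property for O_X(n): for every quasi-coherent ideal I' covering I_P in the order of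
ideal sheaves, every global section of O_X(n) whose zero scheme has ideal ≤ I' has zero scheme with
ideal ≤ I_P. Then there exist a locally free O_X-module E of rank 2 and morphisms O_X → E → O_X(n +
4 − d) ⊗ I_P forming a short exact sequence 0 → O_X → E → O_X(n + 4 − d) ⊗ I_P → 0. (The published
corollary is stated for P a general divisor in a base-point-free linear system on a smooth curve in
P³, with X a smooth hypersurface containing P; its proof uses only the Cayley–Bacharach property of
P in degree n, equivalent to the one for O_X(n) on X, and that property is assumed here for an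
arbitrary zero-dimensional local complete intersection P ⊂ X.) -/
theorem result
    (k : Type u) [Field k] [IsAlgClosed k] [CharZero k]
    (X : Scheme.{u}) [X.Over (Spec (CommRingCat.of k))] [Smooth (X ↘ (Spec (CommRingCat.of k)))]
    [IrreducibleSpace X] (hdim : topologicalKrullDim X = 2)
    (ι : X ⟶ CohB1.ProjSpace 3 k) [IsClosedImmersion ι]
    (hι : ι ≫ CohB1.ProjSpace.toSpec 3 k = X ↘ (Spec (CommRingCat.of k)))
    (d : ℤ) (hd : FGA.intNum k X 2 ![((Scheme.Modules.pullback ι).obj (Twist.twistProjSpace 3 k (-1))), ((Scheme.Modules.pullback ι).obj (Twist.twistProjSpace 3 k (-1)))] (Coh.structureModule X) = d)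
    (IP : X.IdealSheafData) (hfin : (IP.support : Set X).Finite)
    (hlci : ∀ x : X, ∃ V : X.affineOpens, x ∈ (V : X.Opens) ∧
      ∃ a b : Γ(X, V), IP.ideal V = Ideal.span {a, b})
    (n : ℤ)
    (hCB : ∀ I' : X.IdealSheafData, IP ⋖ I' →
      ∀ σ : Coh.structureModule X ⟶ ((Scheme.Modules.pullback ι).obj (Twist.twistProjSpace 3 k (n))),
        PicF2.zeroScheme ((Scheme.Modules.pullback ι).obj (Twist.twistProjSpace 3 k (n))) σ ≤ I' → PicF2.zeroScheme ((Scheme.Modules.pullback ι).obj (Twist.twistProjSpace 3 k (n))) σ ≤ IP) :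
    ∃ (E : X.Modules) (i : Coh.structureModule X ⟶ E)
      (p : E ⟶ CohB1.tensorMod ((Scheme.Modules.pullback ι).obj (Twist.twistProjSpace 3 k (n + 4 - d))) (ClSub.idealMod IP)) (w : i ≫ p = 0),
      FlatMod.IsFinLocFreeOfRank 2 E ∧ (ShortComplex.mk i p w).ShortExact := by
  haveI : IsProper (X ↘ (Spec (CommRingCat.of k))) := Groth.Agent.ExtFund.isProper_of_closed ι hι
  haveI := Groth.Agent.CurveRR.isNoetherian_of_proper k X
  haveI : AlgebraicGeometry.IsIntegral X := Groth.Agent.CurveRR.Easy.isIntegral_of_smooth (k := k)
  haveI := Groth.Agent.SurfAdj.smooth2 k hdim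
  obtain ⟨ω, hω⟩ := Groth.Agent.ExtFund.exists_topPower (k := k) (X := X)
  obtain ⟨j, ⟨e⟩⟩ := Groth.Agent.CBSurf.exists_ideal_iso ι hι
  obtain rfl : d = -j := hd.symm.trans (Groth.Agent.CBSurf.deg_eq ι hι e hdim)
  obtain ⟨w⟩ := Groth.Agent.CBSurf.omega_iso_of_ideal ι hι e hω
  obtain ⟨t⟩ := Groth.Agent.HodgeCI.nonempty_tw_add ι (-j - 4) (n + 4 - -j) n (by ring)
  have hL := Groth.Agent.HodgeCI.isInvertible_tw ι (n + 4 - -j)
  have hN := Groth.Agent.HodgeCI.isInvertible_tw ι n
  have hO : PicF.IsInvertible (Coh.structureModule X) := PicLoc.isInvertible_structureModule X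
  have hM : PicF.IsInvertible (CohB1.tensorMod (CohB1.tensorMod (Groth.Agent.HodgeCI.tw ι (n + 4 - -j))
      (Coh.structureModule X)) ω) :=
    TMul.isInvertible_tensorMod (TMul.isInvertible_tensorMod hL hO)
      (Groth.Agent.SurfAdj.isInvertible_W k hdim hω)
  refine (Groth.Agent.CBSurf.bundle_iff_cb (k := k) hdim
    (TMul.isAmple_pullback ι ι.isEmbedding.isInducing (Groth.Agent.Intersect.isAmple_twistProj_one 3 k)) hω hO
    (⟨SecTwist.unitorR _⟩ : ClSub.IsInverseOf (Coh.structureModule X) (Coh.structureModule X)) hL
    IP hfin hlci).2 ?_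
  intro I' hI' σ hσ
  let i : CohB1.tensorMod (CohB1.tensorMod (Groth.Agent.HodgeCI.tw ι (n + 4 - -j))
      (Coh.structureModule X)) ω ≅ Groth.Agent.HodgeCI.tw ι n :=
    PicGrp.tensorModIso (SecTwist.unitorR _) w ≪≫ t
  have e' := Groth.Agent.AbelMap.zeroScheme_comp_iso hM hN σ i
  rw [← e'] at hσ ⊢
  exact hCB I' hI' _ hσ

end Groth.Agent.S18048
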