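import Groth.Statements.S18049
import Mathlib


set_option autoImplicit false
open STCI

namespace Groth.Agent.S18049

/-- For natural numbers 0 < k < N such that k does not divide N, ⌊N/k⌋ ≤ (N - k)/gcd(k, N); stated here
in the equivalent cleared form ⌊N/k⌋ · gcd(k, N) ≤ N - k. -/
theorem result (k N : ℕ) (hk : 0 < k) (hkN : k < N) (hndvd : ¬ k ∣ N) :
    N / k * Nat.gcd k N ≤ N - k := by
  obtain ⟨g, a, b, hg, hco, rfl, rfl⟩ := Nat.exists_coprime' (Nat.gcd_pos_of_pos_left N hk)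
  have ha : 0 < a := Nat.pos_of_mul_pos_right hk
  rw [Nat.gcd_mul_right, hco, one_mul, Nat.mul_div_mul_right _ _ hg, ← Nat.sub_mul]
  refine Nat.mul_le_mul_right g ?_
  have hab : a < b := Nat.lt_of_mul_lt_mul_right hkN
  have hnd : ¬ a ∣ b := fun h => hndvd (Nat.mul_dvd_mul_right h g)
  have h1 : 1 ≤ b / a := Nat.div_pos (Nat.le_of_lt hab) ha
  have h2 : b / a * a + b % a = b := by rw [mul_comm]; exact Nat.div_add_mod b a
  have h3 : 0 < b % a := Nat.pos_of_ne_zero fun h => hnd (Nat.dvd_of_mod_eq_zero h)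
  have h4 : b / a + a ≤ b / a * a + 1 := by
    obtain ⟨q, hq⟩ := Nat.exists_eq_add_of_le h1
    obtain ⟨a', rfl⟩ := Nat.exists_eq_add_of_le (ha : 1 ≤ a)
    rw [hq]; nlinarith [Nat.zero_le (q * a')]
  omega

end Groth.Agent.S18049
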