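import Groth.Statements.S18050
-- import your own Groth.Agent.* helpers here
import Mathlib

set_option autoImplicit false
open STCI

namespace Groth.Agent.S18050

open W4c5stcicurvesp3 in
/-- Let k ≤ N be positive integers, let t be the least positive integer with rem_t(N, k) = 0, where
rem_0 = k, rem_1 = N mod k and rem_i is the remainder of rem_{i-2} by rem_{i-1} (iterated Euclidean
remainders), and let d_i be the corresponding iterated quotients (d_1 = ⌊N/k⌋, d_i =
⌊rem_{i-2}/rem_{i-1}⌋). Then d_1 + ⋯ + d_t ≤ N/gcd(k, N); stated in the cleared form (d_1 + ⋯ + d_t)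
· gcd(k, N) ≤ N. -/
theorem result (k N t : ℕ) (hk : 0 < k) (hkN : k ≤ N) (ht : 0 < t)
    (hzero : irem N k t = 0) (hmin : ∀ i, 0 < i → i < t → irem N k i ≠ 0) :
    (∑ i ∈ Finset.Icc 1 t, idiv N k i) * Nat.gcd k N ≤ N := by
  have shiftR : ∀ (a b : ℕ), b ≠ 0 → a % b ≠ 0 → ∀ i, irem a b (i + 1) = irem b (a % b) i := by
    intro a b hb hr i
    induction i using Nat.twoStepInduction with
    | zero => simp [irem]
    | one => simp [irem, hr]
    | more n h1 h2 =>
      rw [show irem a b (n + 2 + 1) = (if irem a b (n + 2) = 0 then 0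
        else irem a b (n + 1) % irem a b (n + 2)) from rfl, h1, show irem a b (n + 2) =
        irem b (a % b) (n + 1) from h2]
      rfl
  have shiftD : ∀ (a b : ℕ), b ≠ 0 → ∀ i, 1 ≤ i → a % b ≠ 0 →
      idiv a b (i + 1) = idiv b (a % b) i := by
    intro a b hb i hi hr
    obtain ⟨i, rfl⟩ := Nat.exists_eq_add_of_le' hi
    rcases i with _ | i
    · simp [idiv, irem, hr]
    · rw [show idiv a b (i + 1 + 1 + 1) = (if irem a b (i + 2) = 0 then 0
        else irem a b (i + 1) / irem a b (i + 2)) from rfl, shiftR a b hb hr, shiftR a b hb hr]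
      rfl
  suffices H : ∀ (t a b : ℕ), 0 < b → 0 < t → irem a b t = 0 →
      (∀ i, 0 < i → i < t → irem a b i ≠ 0) →
      (∑ i ∈ Finset.Icc 1 t, idiv a b i) * Nat.gcd b a ≤ max a b by
    have h := H t N k hk ht hzero hmin
    rcases Nat.lt_or_ge N k with hlt | hge
    · exfalso; omega
    · rwa [max_eq_left hge] at h
  intro t
  induction t with
  | zero => intro a b _ h; exact absurd h (lt_irrefl 0)
  | succ t ih =>
    intro a b hb _ hz hm
    rcases Nat.eq_zero_or_pos t with rfl | htp
    · simp only [zero_add, Finset.Icc_self, Finset.sum_singleton]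
      have : a % b = 0 := hz
      rw [Nat.gcd_eq_left (Nat.dvd_of_mod_eq_zero this)]
      exact (Nat.div_mul_le_self a b).trans (le_max_left _ _)
    · have hr : a % b ≠ 0 := hm 1 one_pos (by omega)
      have h' := ih b (a % b) (Nat.pos_of_ne_zero hr) htp (by rw [← shiftR a b hb.ne' hr]; exact hz)
        (fun i h1 h2 => by rw [← shiftR a b hb.ne' hr]; exact hm (i + 1) (by omega) (by omega))
      have hlt : a % b < b := Nat.mod_lt a hb
      rw [max_eq_left hlt.le, Nat.gcd_comm (a % b) b] at h'
      have hg : Nat.gcd b (a % b) = Nat.gcd b a := by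
        rw [Nat.gcd_comm b (a % b), ← Nat.gcd_rec]
      rw [hg] at h'
      have hsum : ∑ i ∈ Finset.Icc 1 (t + 1), idiv a b i =
          a / b + ∑ i ∈ Finset.Icc 1 t, idiv b (a % b) i := by
        rw [← Finset.add_sum_Ioc_eq_sum_Icc (by omega)]
        congr 1
        refine Finset.sum_nbij' (fun i => i - 1) (fun i => i + 1) ?_ ?_ ?_ ?_ ?_
        · intro i hi; simp only [Finset.mem_Ioc, Finset.mem_Icc] at hi ⊢; omega
        · intro i hi; simp only [Finset.mem_Ioc, Finset.mem_Icc] at hi ⊢; omega
        · intro i hi; simp only [Finset.mem_Ioc] at hi; omega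
        · intro i hi; omega
        · intro i hi
          simp only [Finset.mem_Ioc] at hi
          have := shiftD a b hb.ne' (i - 1) (by omega) hr
          rwa [show i - 1 + 1 = i by omega] at this
      rw [hsum, add_mul]
      have hgr : Nat.gcd b a ≤ a % b := Nat.le_of_dvd (Nat.pos_of_ne_zero hr)
        ((Nat.dvd_mod_iff (Nat.gcd_dvd_left b a)).mpr (Nat.gcd_dvd_right b a))
      have hdm := Nat.div_add_mod a b
      rcases Nat.eq_zero_or_pos (a / b) with hd | hd
      · rw [hd, zero_mul, zero_add]
        exact h'.trans (le_max_right _ _)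
      · refine le_trans ?_ (le_max_left _ _)
        obtain ⟨d, hd'⟩ : ∃ d, a / b = d + 1 := ⟨a / b - 1, by omega⟩
        rw [hd'] at hdm ⊢
        have : d * Nat.gcd b a ≤ d * b :=
          Nat.mul_le_mul_left d (Nat.le_of_dvd hb (Nat.gcd_dvd_left b a))
        nlinarith

end Groth.Agent.S18050
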