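import Groth.Statements.S18051
import Mathlib

set_option autoImplicit false
open STCI

namespace Groth.Agent.S18051

open W4c5stcicurvesp3 in
/-- Let k ≤ N/2 be positive integers and let r_i = rem_i(N, k), d_i = div_i(N, k) be the iterated
Euclidean remainders and quotients of (N, k) (r_0 = k, r_1 = N mod k, r_2 = r_0 mod r_1, d_1 =
⌊N/k⌋, d_2 = ⌊r_0/r_1⌋). If the least positive t with r_t = 0 satisfies t ≥ 3, i.e. r_1 ≠ 0 and r_2
≠ 0, then (r_0 - r_1)/d_1 + (r_1 - r_2)/(d_1 + d_2) + r_2/(d_1 + d_2 + 1) ≤ k²/N (in ℚ). -/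
theorem result (k N : ℕ) (hk : 0 < k) (hkN : 2 * k ≤ N)
    (h1 : irem N k 1 ≠ 0) (h2 : irem N k 2 ≠ 0) :
    ((irem N k 0 : ℚ) - irem N k 1) / (idiv N k 1)
      + ((irem N k 1 : ℚ) - irem N k 2) / ((idiv N k 1 : ℚ) + idiv N k 2)
      + (irem N k 2 : ℚ) / ((idiv N k 1 : ℚ) + idiv N k 2 + 1)
      ≤ (k : ℚ) ^ 2 / N := by
  have hr2 : irem N k 2 = k % (N % k) := by
    simp only [irem] at h1 ⊢; exact if_neg h1
  have hq2 : idiv N k 2 = k / (N % k) := by
    simp only [irem] at h1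
    simp only [idiv, irem]; exact if_neg h1
  rw [show irem N k 0 = k from rfl, show irem N k 1 = N % k from rfl, show idiv N k 1 = N / k from rfl, hr2, hq2]
  rw [hr2] at h2
  rw [show irem N k 1 = N % k from rfl] at h1
  have eN : (N : ℚ) = (N / k : ℕ) * (k : ℚ) + (N % k : ℕ) := by exact_mod_cast (Nat.div_add_mod' N k).symm
  have ek : (k : ℚ) = (k / (N % k) : ℕ) * ((N % k : ℕ) : ℚ) + (k % (N % k) : ℕ) := by exact_mod_cast (Nat.div_add_mod' k (N % k)).symm
  have hq1 : (2 : ℚ) ≤ (N / k : ℕ) := by exact_mod_cast (Nat.le_div_iff_mul_le hk).2 hkN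
  have hp : (1 : ℚ) ≤ (k / (N % k) : ℕ) := by
    exact_mod_cast (Nat.one_le_div_iff (Nat.pos_of_ne_zero h1)).2 (Nat.mod_lt N hk).le
  have ha : ((k % (N % k) : ℕ) : ℚ) ≤ (N % k : ℕ) := by exact_mod_cast (Nat.mod_lt k (Nat.pos_of_ne_zero h1)).le
  have hb : (0 : ℚ) < (k % (N % k) : ℕ) := by exact_mod_cast Nat.pos_of_ne_zero h2
  rw [eN, ek]
  generalize ((N / k : ℕ) : ℚ) = q at *
  generalize ((k / (N % k) : ℕ) : ℚ) = p at *
  generalize ((N % k : ℕ) : ℚ) = a at *
  generalize ((k % (N % k) : ℕ) : ℚ) = b at *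
  clear eN ek h1 h2 hr2 hq2 hkN hk
  have hapos : 0 < a := lt_of_lt_of_le hb ha
  have hqpos : 0 < q := by linarith
  have hppos : 0 < p := by linarith
  have h1q : (0 : ℚ) ≤ q - 1 := by linarith
  rw [← sub_nonneg]
  have e : (p * a + b) ^ 2 / (q * (p * a + b) + a) - ((p * a + b - a) / q + (a - b) / (q + p) + b / (q + p + 1)) =
      (a * (p * a + b) * (p * a + b - a) * (q - 1) / (q * (q * (p * a + b) + a)) - b * (a - b) / ((q + p) * (q + p + 1))) / ((q + p) * a + b) := by
    field_simp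
    ring
  rw [e]
  refine div_nonneg (sub_nonneg.2 ?_) (by positivity)
  calc b * (a - b) / ((q + p) * (q + p + 1)) ≤ a * b / ((q + 1) * (q + 2)) := by
        refine div_le_div₀ (by positivity) (by nlinarith) (by positivity) ?_
        exact mul_le_mul (by linarith) (by linarith) (by linarith) (by linarith)
    _ ≤ a * b * (q - 1) / (q * (q + 1)) := by
        rw [div_le_div_iff₀ (by positivity) (by positivity)]
        nlinarith [mul_nonneg (mul_nonneg (mul_nonneg hapos.le hb.le) (by linarith : (0:ℚ) ≤ q + 1)) (by nlinarith : (0:ℚ) ≤ (q - 1) * (q + 2) - q)]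
    _ ≤ a * (p * a + b - a) * (q - 1) / (q * (q + 1)) := by
        refine div_le_div_of_nonneg_right (mul_le_mul_of_nonneg_right (mul_le_mul_of_nonneg_left ?_ hapos.le) h1q) (by positivity)
        nlinarith
    _ = a * (p * a + b) * (p * a + b - a) * (q - 1) / (q * ((q + 1) * (p * a + b))) := by field_simp
    _ ≤ _ := by
        have hk' : 0 < p * a + b := by positivity
        have hka : 0 ≤ p * a + b - a := by nlinarith
        refine div_le_div_of_nonneg_left (mul_nonneg (mul_nonneg (by positivity) hka) h1q) (by positivity) (mul_le_mul_of_nonneg_left ?_ hqpos.le)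
        nlinarith

end Groth.Agent.S18051
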