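import Groth.Statements.S18052
import Mathlib

set_option autoImplicit false
open STCI

namespace Groth.Agent.S18052

open W4c5stcicurvesp3 in
/-- Let k ≤ N/2 be positive integers, let r_i = rem_i(N, k) and d_i = div_i(N, k) be the iterated
Euclidean remainders and quotients of (N, k) (r_0 = k, r_1 = N mod k, …; d_1 = ⌊N/k⌋, d_i =
⌊r_{i-2}/r_{i-1}⌋), and let t be the least positive integer with r_t = 0. Then the sum over i = 0,
…, t - 1 of (r_i - r_{i+1})/(d_1 + ⋯ + d_{i+1}) is at most k²/N (in ℚ). -/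
theorem result (k N t : ℕ) (hk : 0 < k) (hkN : 2 * k ≤ N) (ht : 0 < t)
    (hzero : irem N k t = 0) (hmin : ∀ i, 0 < i → i < t → irem N k i ≠ 0) :
    ∑ i ∈ Finset.range t, ((irem N k i : ℚ) - irem N k (i + 1)) / (∑ j ∈ Finset.Icc 1 (i + 1), (idiv N k j : ℚ))
      ≤ (k : ℚ) ^ 2 / N := by
  classical
  have shift : ∀ a b : ℕ, a % b ≠ 0 → ∀ i, irem b (a % b) i = irem a b (i + 1) ∧ (0 < i → idiv b (a % b) i = idiv a b (i + 1)) := by
    intro a b hab i
    induction i using Nat.strong_induction_on with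
    | _ i ih =>
      match i with
      | 0 => exact ⟨rfl, fun h => absurd h (lt_irrefl 0)⟩
      | 1 => constructor <;> simp [irem, idiv, hab]
      | j + 2 =>
        obtain ⟨e1, -⟩ := ih (j + 1) (by omega)
        obtain ⟨e2, -⟩ := ih j (by omega)
        constructor
        · rw [irem, e1, e2]; conv_rhs => rw [show j + 2 + 1 = (j + 1) + 2 from rfl, irem]
        · intro _
          rw [idiv, e1, e2]; conv_rhs => rw [show j + 2 + 1 = (j + 1) + 2 from rfl, idiv]
  have key : ∀ t N k Q : ℕ, 0 < k → 1 ≤ Q + N / k → 0 < t → irem N k t = 0 → (∀ i, 0 < i → i < t → irem N k i ≠ 0) →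
      ∑ i ∈ Finset.range t, ((irem N k i : ℚ) - irem N k (i + 1)) / ((Q : ℚ) + ∑ j ∈ Finset.Icc 1 (i + 1), (idiv N k j : ℚ))
        ≤ (k : ℚ) ^ 2 / ((Q : ℚ) * k + N) := by
    intro t
    induction t with
    | zero => intro N k Q _ _ h; exact absurd h (lt_irrefl 0)
    | succ t ih =>
      intro N k Q hk hs _ hz hm
      rw [Finset.sum_range_succ', add_comm]
      simp only [zero_add, Finset.Icc_self, Finset.sum_singleton]
      have hdecomp : (N : ℚ) = (N / k : ℕ) * (k : ℚ) + (N % k : ℕ) := by exact_mod_cast (Nat.div_add_mod' N k).symm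
      set q := N / k with hqdef
      set r := N % k with hrdef
      have hS : (1 : ℚ) ≤ (Q : ℚ) + q := by exact_mod_cast hs
      have hkq : (0 : ℚ) < k := by exact_mod_cast hk
      have hden : (Q : ℚ) * k + N = ((Q : ℚ) + q) * k + r := by rw [hdecomp]; ring
      rw [hden]
      have h0 : ((irem N k 0 : ℚ) - irem N k 1) / ((Q : ℚ) + idiv N k 1) = ((k : ℚ) - r) / ((Q : ℚ) + q) := by
        simp [irem, idiv, ← hqdef, ← hrdef]
      rw [h0]
      rcases Nat.eq_zero_or_pos t with rfl | ht
      · have : r = 0 := by simpa [irem] using hz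
        rw [this, Finset.sum_range_zero, add_zero, Nat.cast_zero, sub_zero, add_zero]
        refine le_of_eq ?_
        field_simp
      · have hr : r ≠ 0 := fun h => hm 1 Nat.one_pos (by omega) (by simpa [irem] using h)
        have hsh := shift N k hr
        have h1 := ih k r (Q + q) (Nat.pos_of_ne_zero hr) (le_trans hs (Nat.le_add_right _ _)) ht (by rw [(hsh t).1]; exact hz) (fun i hi hit => by rw [(hsh i).1]; exact hm (i + 1) (by omega) (by omega))
        have hsum : ∀ i, (∑ j ∈ Finset.Icc 1 (i + 1 + 1), (idiv N k j : ℚ)) = (q : ℚ) + ∑ j ∈ Finset.Icc 1 (i + 1), (idiv k r j : ℚ) := by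
          intro i
          induction i with
          | zero =>
            rw [show Finset.Icc 1 (0 + 1 + 1) = {1, 2} by decide, Finset.sum_pair (by norm_num)]
            simp only [zero_add, Finset.Icc_self, Finset.sum_singleton]
            rw [(hsh 1).2 Nat.one_pos, show idiv N k 1 = q from rfl]
          | succ i ihi =>
            rw [Finset.sum_Icc_succ_top (by omega), ihi, Finset.sum_Icc_succ_top (b := i + 1) (by omega), (hsh (i + 1 + 1)).2 (by omega)]
            ring
        have h2 : ∑ i ∈ Finset.range t, ((irem N k (i + 1) : ℚ) - irem N k (i + 1 + 1)) / ((Q : ℚ) + ∑ j ∈ Finset.Icc 1 (i + 1 + 1), (idiv N k j : ℚ)) ≤ (r : ℚ) ^ 2 / (((Q : ℚ) + q) * r + k) := by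
          refine le_trans (le_of_eq (Finset.sum_congr rfl fun i _ => ?_)) (le_trans h1 (le_of_eq (by push_cast; ring)))
          rw [(hsh i).1, (hsh (i + 1)).1, hsum]
          push_cast
          ring
        refine le_trans (add_le_add_right h2 _) ?_
        have hrk : (r : ℚ) ≤ k := by exact_mod_cast (Nat.mod_lt N hk).le
        have hrpos : (0 : ℚ) < r := by exact_mod_cast Nat.pos_of_ne_zero hr
        rw [← sub_nonneg]
        have e : (k : ℚ) ^ 2 / (((Q : ℚ) + q) * k + r) - (((k : ℚ) - r) / ((Q : ℚ) + q) + (r : ℚ) ^ 2 / (((Q : ℚ) + q) * r + k)) =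
            r * k * (k - r) * ((Q : ℚ) + q - 1) / (((Q : ℚ) + q) * (((Q : ℚ) + q) * k + r) * (((Q : ℚ) + q) * r + k)) := by
          field_simp
          ring
        rw [e]
        exact div_nonneg (mul_nonneg (mul_nonneg (by positivity) (sub_nonneg.2 hrk)) (sub_nonneg.2 hS)) (by positivity)
  have h := key t N k 0 hk (by rw [zero_add, Nat.one_le_div_iff hk]; omega) ht hzero hmin
  simpa using h

end Groth.Agent.S18052
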