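import Groth.Statements.S18053
import Mathlib.Algebra.BigOperators.Ring.Finset
import Mathlib.Algebra.BigOperators.Field
import Mathlib.Analysis.Normed.Group.InfiniteSum

set_option autoImplicit false
open STCI

namespace Groth.Agent.S18053

/-- Let (p_k)_{k ≥ 1} be a sequence of nonnegative integers and n a nonnegative integer such that (i)
p_1 ≤ 9 - (2/5)n, (ii) p_1 ≥ p_2 ≥ p_3 ≥ ⋯, (iii) Σ_k p_k ≤ 19 - n, and (iv) n/4 + Σ_{k ≥ 1}
p_k/(k(k+1)) ≥ 6. Then n = 0 and (p_k) is one of (9, 8, 2), (9, 9), (9, 9, 1) (followed by zeros).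
Here the sequence is indexed from 0 (so p 0 is p_1 and the weight of p k is 1/((k+1)(k+2))), (iii)
is stated for every partial sum, and the series in (iv) is the real sum Σ' over all k. -/
theorem result (p : ℕ → ℕ) (n : ℕ)
    (h1 : (p 0 : ℝ) ≤ 9 - (2 / 5 : ℝ) * n) (h2 : Antitone p)
    (h3 : ∀ m : ℕ, ((∑ k ∈ Finset.range m, p k : ℕ) : ℝ) ≤ 19 - (n : ℝ))
    (h4 : (6 : ℝ) ≤ (n : ℝ) / 4 + ∑' k : ℕ, (p k : ℝ) / (((k : ℝ) + 1) * ((k : ℝ) + 2))) :
    n = 0 ∧ (p = (fun k => if k = 0 then 9 else if k = 1 then 8 else if k = 2 then 2 else 0)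
      ∨ p = (fun k => if k = 0 then 9 else if k = 1 then 9 else 0)
      ∨ p = (fun k => if k = 0 then 9 else if k = 1 then 9 else if k = 2 then 1 else 0)) := by
  have hz : ∀ k, 19 ≤ k → p k = 0 := by
    intro k hk
    by_contra hne
    have h1' : ∀ i ∈ Finset.range (k + 1), 1 ≤ p i := fun i hi =>
      le_trans (by omega) (h2 (Nat.lt_succ_iff.1 (Finset.mem_range.1 hi)))
    have h5 : k + 1 ≤ ∑ i ∈ Finset.range (k + 1), p i := by
      simpa using Finset.card_nsmul_le_sum (Finset.range (k + 1)) p 1 h1'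
    have h6 : ((∑ i ∈ Finset.range (k + 1), p i : ℕ) : ℝ) ≤ 19 := (h3 (k + 1)).trans (by simp)
    have h7 : (∑ i ∈ Finset.range (k + 1), p i) ≤ 19 := by exact_mod_cast h6
    omega
  rw [tsum_eq_sum (s := Finset.range (3 + 16)) (fun k hk => by
    rw [hz k (by simpa using hk)]; simp), Finset.sum_range_add] at h4
  have h3' := h3 (3 + 16)
  rw [Finset.sum_range_add, Nat.cast_add] at h3'
  have hw : ∀ j : ℕ, (p (3 + j) : ℝ) / ((((3 + j : ℕ) : ℝ) + 1) * (((3 + j : ℕ) : ℝ) + 2)) ≤ (p (3 + j) : ℝ) / 20 := by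
    intro j
    refine div_le_div_of_nonneg_left (Nat.cast_nonneg _) (by norm_num) ?_
    push_cast
    nlinarith [(Nat.cast_nonneg j : (0 : ℝ) ≤ j)]
  have h8 := Finset.sum_le_sum (s := Finset.range 16) fun j _ => hw j
  rw [← Finset.sum_div] at h8
  simp only [Finset.sum_range_succ, Finset.sum_range_zero, Nat.cast_zero, zero_add] at h4 h3'
  have key : (303 : ℝ) ≤ 27 * p 0 + 7 * p 1 + 2 * p 2 + 12 * n := by
    simp only [Finset.sum_range_succ, Finset.sum_range_zero, zero_add] at h8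
    push_cast at h4 h3' h8
    norm_num at h4 h3' h8 ⊢
    linarith
  have k1 : 303 ≤ 27 * p 0 + 7 * p 1 + 2 * p 2 + 12 * n := by exact_mod_cast key
  have k2 : 5 * p 0 + 2 * n ≤ 45 := by
    have : (5 : ℝ) * p 0 + 2 * n ≤ 45 := by linarith
    exact_mod_cast this
  have k3 : ∀ m, (∑ k ∈ Finset.range m, p k) + n ≤ 19 := fun m => by
    have := h3 m
    have : ((∑ k ∈ Finset.range m, p k : ℕ) : ℝ) + n ≤ 19 := by linarith
    exact_mod_cast this
  have k4 := k3 3
  simp only [Finset.sum_range_succ, Finset.sum_range_zero, zero_add] at k4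
  have a1 := h2 (show 0 ≤ 1 by norm_num)
  have a2 := h2 (show 1 ≤ 2 by norm_num)
  have tail : ∀ k, 3 ≤ k → p 2 = 0 ∨ p 0 + p 1 + p 2 = 19 → p k = 0 := by
    intro k hk h
    rcases h with h | h
    · have := h2 (show 2 ≤ k by omega); omega
    · have := k3 (k + 1)
      have h9 : ∑ i ∈ ({0, 1, 2, k} : Finset ℕ), p i ≤ ∑ i ∈ Finset.range (k + 1), p i :=
        Finset.sum_le_sum_of_subset (by
          intro i hi
          simp only [Finset.mem_insert, Finset.mem_singleton] at hi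
          simp only [Finset.mem_range]; omega)
      rw [Finset.sum_insert (by simp; omega), Finset.sum_insert (by simp; omega),
        Finset.sum_insert (by simp; omega), Finset.sum_singleton] at h9
      omega
  have hn : n = 0 := by omega
  refine ⟨hn, ?_⟩
  have hcase : p 0 = 9 ∧ ((p 1 = 8 ∧ p 2 = 2) ∨ (p 1 = 9 ∧ p 2 = 0) ∨ (p 1 = 9 ∧ p 2 = 1)) := by omega
  obtain ⟨q0, ⟨q1, q2⟩ | ⟨q1, q2⟩ | ⟨q1, q2⟩⟩ := hcase
  · refine Or.inl (funext fun k => ?_)
    match k with
    | 0 => simpa using q0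
    | 1 => simpa using q1
    | 2 => simpa using q2
    | k + 3 => simpa using tail (k + 3) (by omega) (Or.inr (by omega))
  · refine Or.inr (Or.inl (funext fun k => ?_))
    match k with
    | 0 => simpa using q0
    | 1 => simpa using q1
    | 2 => simpa using q2
    | k + 3 => simpa using tail (k + 3) (by omega) (Or.inl q2)
  · refine Or.inr (Or.inr (funext fun k => ?_))
    match k with
    | 0 => simpa using q0
    | 1 => simpa using q1
    | 2 => simpa using q2
    | k + 3 => simpa using tail (k + 3) (by omega) (Or.inr (by omega))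

end Groth.Agent.S18053
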