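import Groth.Statements.S18054
import Mathlib

set_option autoImplicit false
open STCI

namespace Groth.Agent.S18054

/-- Let s, t, d, g be integers with t ≥ s ≥ 4, d ≥ 1, g ≥ 0 and d dividing st; put n = st/d and assume n
≥ 2; put r = d[n(s - 4) + t] + (2 - 2g)n and assume r ≤ (s/3)(2s² - 6s + 7) - 1. Then d ≤ g + 3.
(The bound is written cleared of the denominator 3; s(2s² - 6s + 7) is always divisible by 3, so
this is the same condition.) -/
theorem result (s t d g n : ℤ) (hs : 4 ≤ s) (hst : s ≤ t) (hd : 1 ≤ d) (hg : 0 ≤ g)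
    (hn : s * t = d * n) (hn2 : 2 ≤ n)
    (hr : 3 * (d * (n * (s - 4) + t) + (2 - 2 * g) * n) ≤ s * (2 * s ^ 2 - 6 * s + 7) - 3) :
    d ≤ g + 3 := by
  by_contra hlt
  push Not at hlt
  have hg' : g ≤ d - 4 := by omega
  have hn0 : 0 < n := by omega
  have key : 3 * (s * t * (s - 6) + (d * t + 10 * n)) ≤ s * (2 * s ^ 2 - 6 * s + 7) - 3 := by
    have e : d * (n * (s - 4) + t) = s * t * (s - 4) + d * t := by rw [hn]; ring
    nlinarith [mul_le_mul_of_nonneg_right hg' hn0.le]
  have hsq : ∀ c : ℤ, 0 ≤ c → c ^ 2 ≤ 40 * s → c * t ≤ d * t + 10 * n := by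
    intro c hc hcs
    have h1 : 0 ≤ d * t + 10 * n := add_nonneg (mul_nonneg (by omega) (by omega)) (by omega)
    have h2 : (c * t) ^ 2 ≤ (d * t + 10 * n) ^ 2 := by
      calc (c * t) ^ 2 = c ^ 2 * t ^ 2 := by ring
        _ ≤ 40 * s * t ^ 2 := mul_le_mul_of_nonneg_right hcs (sq_nonneg t)
        _ = 4 * (d * t) * (10 * n) := by linear_combination 40 * t * hn
        _ ≤ (d * t + 10 * n) ^ 2 := by nlinarith [sq_nonneg (d * t - 10 * n)]
    exact le_of_abs_le (by rw [← abs_of_nonneg h1]; exact (sq_le_sq.1 h2))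
  rcases (show s = 4 ∨ s = 5 ∨ 6 ≤ s by omega) with h | h | h
  · subst h
    rcases eq_or_lt_of_le hst with ht | ht
    · subst ht
      have hn16 : n ≤ 16 := by nlinarith
      interval_cases n <;> omega
    · nlinarith [hsq 12 (by norm_num) (by norm_num)]
  · subst h
    nlinarith [hsq 14 (by norm_num) (by norm_num)]
  · nlinarith [hsq 15 (by norm_num) (by linarith), mul_le_mul_of_nonneg_left hst (show 0 ≤ 3 * s * (s - 6) + 45 by nlinarith), mul_nonneg (show (0:ℤ) ≤ s by omega) (sq_nonneg (s - 6))]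

end Groth.Agent.S18054
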