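import Groth.Statements.S18055
import Mathlib.Tactic.LinearCombination
import Mathlib.Tactic.Linarith
import Mathlib.Tactic.Ring
import Mathlib.Tactic.Positivity
import Mathlib.Tactic.IntervalCases

set_option autoImplicit false
open STCI

namespace Groth.Agent.S18055

/-- Let d ≥ 1, g ≥ 0 and 1 ≤ s ≤ t be integers with d dividing st, put n = st/d and r = d[n(s - 4) + t]
+ (2 - 2g)n, and assume n ≥ 2, r > 0 and (n - 1) divides r. Then s < 2d² and t < 2d⁴. This is the
statement about the degree data (d, g the degree and genus of the curve, s ≤ t the degrees of the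
two surfaces) to which the published proof reduces the degree bound: there the divisibility and
positivity express that r/(n - 1), the common value of the type numbers of the pair, is a positive
integer; the geometric hypotheses themselves are not part of this row. -/
theorem result (d g s t n : ℤ) (hd : 1 ≤ d) (hg : 0 ≤ g) (hs : 1 ≤ s) (hst : s ≤ t)
    (hn : s * t = d * n) (hn2 : 2 ≤ n)
    (hpos : 0 < d * (n * (s - 4) + t) + (2 - 2 * g) * n)
    (hdvd : (n - 1) ∣ d * (n * (s - 4) + t) + (2 - 2 * g) * n) :
    s < 2 * d ^ 2 ∧ t < 2 * d ^ 4 := by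
  obtain ⟨k, hk⟩ := hdvd
  set A := d * (s - 4) + 2 - 2 * g with hA
  have hr : d * (n * (s - 4) + t) + (2 - 2 * g) * n = n * A + d * t := by rw [hA]; ring
  rw [hr] at hpos hk
  have hAub : A ≤ d * s - 4 * d + 2 := by rw [hA]; nlinarith
  have hAlb : -(d * d) < A * s := by
    by_contra h
    push Not at h
    have h1 : s * (n * A + d * t) ≤ 0 := by
      have h2 : n * (A * s) ≤ n * (-(d * d)) := mul_le_mul_of_nonneg_left h (by linarith)
      have h3 : d * (s * t) = d * (d * n) := by rw [hn]
      nlinarith
    nlinarith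
  -- `M (n - 1) = A + d t`
  set M := k - A with hM
  have hkey : M * (n - 1) = A + d * t := by rw [hM]; linarith
  have hdd : d * d ≥ 1 := by nlinarith
  have hts : t * s ≥ 2 * d := by nlinarith
  have hApos : 0 < A + d * t := by
    by_contra h
    push Not at h
    have h1 : (A + d * t) * s ≤ 0 := mul_nonpos_of_nonpos_of_nonneg h (by linarith)
    have h2 : d * (t * s) ≥ d * (2 * d) := mul_le_mul_of_nonneg_left hts (by linarith)
    nlinarith
  have hMpos : 1 ≤ M := by
    by_contra h
    push Not at h
    nlinarith [mul_nonpos_of_nonpos_of_nonneg (show M ≤ 0 by omega) (show (0:ℤ) ≤ n - 1 by omega)]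
  have hmul : M * (s * t - d) = d * A + d * d * t := by rw [hn]; linear_combination d * hkey
  have hbound : s * t - d ≤ d * (d * s - 4 * d + 2) + d * d * t := by
    have : d * A ≤ d * (d * s - 4 * d + 2) := mul_le_mul_of_nonneg_left hAub (by linarith)
    nlinarith
  have hd4 : d * d ≤ d ^ 4 := by nlinarith
  have hs2 : s < 2 * d ^ 2 := by
    by_contra h
    push Not at h
    have h1 : d ^ 2 * d ^ 2 ≤ (s - d ^ 2) * (t - d ^ 2) := mul_le_mul (by linarith) (by linarith) (by positivity) (by nlinarith)
    nlinarith
  refine ⟨hs2, ?_⟩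
  by_contra ht
  push Not at ht
  by_cases hsd : d * d < s
  · have h1 : (1 : ℤ) * (t - d * d) ≤ (s - d * d) * (t - d * d) :=
      mul_le_mul_of_nonneg_right (by linarith) (by nlinarith)
    nlinarith
  push Not at hsd
  set e := M * s - d * d with he
  have hte : t * e = d * A + d * M := by rw [he]; linear_combination hmul
  rcases lt_trichotomy e 0 with h | h | h
  · have h0 : t * e ≤ t * (-1) := mul_le_mul_of_nonneg_left (by linarith) (by linarith)
    have h1 : t ≤ -(d * A + d * M) := by linarith
    have h2 : d * (-(A * s)) < d * (d * d) := mul_lt_mul_of_pos_left (by linarith) (by linarith)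
    have h3 : 0 ≤ d * M * s := mul_nonneg (mul_nonneg (by linarith) (by linarith)) (by linarith)
    have h4 : t * s ≤ -(d * A + d * M) * s := mul_le_mul_of_nonneg_right h1 (by linarith)
    have h6 : t * 1 ≤ t * s := mul_le_mul_of_nonneg_left hs (by linarith)
    have h5 : d * (d * d) ≤ d ^ 4 := by nlinarith only [hd, hdd, mul_nonneg (mul_nonneg (show (0:ℤ) ≤ d by linarith) (mul_self_nonneg d)) (show (0:ℤ) ≤ d - 1 by linarith)]
    nlinarith only [h2, h3, h4, h5, h6, ht, hdd, hd]
  · rw [h, mul_zero] at hte
    have h1 : A + M = 0 := by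
      have : d * (A + M) = 0 := by linarith
      rcases mul_eq_zero.1 this with h' | h'
      · omega
      · exact h'
    have h2 : A * s = -(d * d) := by rw [eq_neg_of_add_eq_zero_left h1]; linarith
    linarith
  · have hMe : M ≤ d * d + e := by
      have : M * 1 ≤ M * s := mul_le_mul_of_nonneg_left hs (by linarith)
      linarith [he]
    have h1 : d * A ≤ d * (d * s - 4 * d + 2) := mul_le_mul_of_nonneg_left hAub (by linarith)
    have h2 : d * d * s ≤ d * d * (d * d) := mul_le_mul_of_nonneg_left hsd (by linarith)
    have h3 : d * M ≤ d * (d * d + e) := mul_le_mul_of_nonneg_left hMe (by linarith)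
    have hd0 : (0:ℤ) ≤ d := by linarith
    have h5 : d * (d * d) ≤ d ^ 4 := by
      nlinarith only [mul_nonneg (mul_nonneg hd0 (mul_self_nonneg d)) (show (0:ℤ) ≤ d - 1 by linarith)]
    have h6 : d * 1 ≤ d * d := mul_le_mul_of_nonneg_left hd hd0
    have htd : 0 ≤ t - d := by nlinarith only [ht, hd4, h6, hd]
    have h4 : (t - d) * 1 ≤ (t - d) * e := mul_le_mul_of_nonneg_left (by linarith) htd
    nlinarith only [h1, h2, h3, h4, h5, h6, hte, ht, hd]

end Groth.Agent.S18055
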