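import Groth.Statements.S18056
import Mathlib
import Groth.Agent.FSField.Basic

set_option autoImplicit false
universe u v
open STCI

namespace Groth.Agent.S18056

/-- Let A → B be a homomorphism of Artinian local rings that is flat and formally smooth, where A has a
subring that is a field. Then A and B have the same length, each as a module over itself. -/
theorem result (A : Type u) (B : Type v) [CommRing A] [CommRing B]
    [IsLocalRing A] [IsLocalRing B] [IsArtinianRing A] [IsArtinianRing B] [Algebra A B]
    [Module.Flat A B] [Algebra.FormallySmooth A B] (hK : ∃ K : Subring A, IsField K) :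
    Module.length A A = Module.length B B := by
  classical
  let mA := IsLocalRing.maximalIdeal A
  haveI : IsLocalHom (algebraMap A B) := ⟨fun a ha => by
    by_contra hna
    have h0 : IsNilpotent a := by
      rw [← mem_nilradical, nilradical_eq_sInf]
      refine Ideal.mem_sInf.mpr fun {p} hp => ?_
      haveI : p.IsPrime := hp
      rw [IsLocalRing.eq_maximalIdeal (IsArtinianRing.isMaximal_of_isPrime p)]
      exact hna
    exact (h0.map (algebraMap A B)).not_isUnit ha⟩
  let C := TensorProduct A (IsLocalRing.ResidueField A) B
  have hmB : mA.map (algebraMap A B) ≠ ⊤ := fun h => by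
    refine (IsLocalRing.maximalIdeal.isMaximal B).ne_top (top_le_iff.mp (h.symm.le.trans ?_))
    rintro _ hy
    refine Ideal.map_le_iff_le_comap.mpr (fun a ha => ?_) hy
    exact fun hu => ha (IsLocalHom.map_nonunit a hu)
  haveI : Nontrivial (B ⧸ mA.map (algebraMap A B)) := Ideal.Quotient.nontrivial_iff.mpr hmB
  let e : (B ⧸ mA.map (algebraMap A B)) ≃+* C :=
    (Algebra.TensorProduct.quotIdealMapEquivTensorQuot B mA).toRingEquiv.trans
      (Algebra.TensorProduct.comm A B (IsLocalRing.ResidueField A)).toRingEquiv
  haveI : IsLocalRing (B ⧸ mA.map (algebraMap A B)) :=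
    IsLocalRing.of_surjective' (Ideal.Quotient.mk _) Ideal.Quotient.mk_surjective
  haveI : IsLocalRing C := e.isLocalRing
  haveI : IsArtinianRing C := e.isArtinianRing
  haveI : Algebra.FormallySmooth (IsLocalRing.ResidueField A) C := inferInstance
  have hC : IsLocalRing.maximalIdeal C = ⊥ := by
    obtain ⟨p, hp⟩ := CharP.exists (IsLocalRing.ResidueField A)
    rcases eq_or_ne p 0 with rfl | hp0
    · haveI : CharZero (IsLocalRing.ResidueField A) := CharP.charP_to_charZero _
      haveI : IsScalarTower ℚ (IsLocalRing.ResidueField A) C := inferInstance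
      haveI := Groth.Agent.FSField.formallySmooth_of_perfectField ℚ (IsLocalRing.ResidueField A)
      haveI : Algebra.FormallySmooth ℚ C := .comp ℚ (IsLocalRing.ResidueField A) C
      exact Groth.Agent.FSField.maximalIdeal_eq_bot ℚ C
    · haveI : Fact p.Prime := ⟨(CharP.char_is_prime_or_zero (IsLocalRing.ResidueField A) p).resolve_right hp0⟩
      letI : Algebra (ZMod p) (IsLocalRing.ResidueField A) := ZMod.algebra _ p
      haveI : IsScalarTower (ZMod p) (IsLocalRing.ResidueField A) C := inferInstance
      haveI := Groth.Agent.FSField.formallySmooth_of_perfectField (ZMod p) (IsLocalRing.ResidueField A)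
      haveI : Algebra.FormallySmooth (ZMod p) C := .comp (ZMod p) (IsLocalRing.ResidueField A) C
      exact Groth.Agent.FSField.maximalIdeal_eq_bot (ZMod p) C
  have hC' : IsField C := IsLocalRing.isField_iff_maximalIdeal_eq.mpr hC
  have hmax : (mA.map (algebraMap A B)).IsMaximal :=
    Ideal.Quotient.maximal_of_isField _ (e.toMulEquiv.isField hC')
  have h1 : Module.length B (B ⧸ mA.map (algebraMap A B)) = 1 := by
    rw [Module.length_eq_one_iff]
    exact isSimpleModule_iff_quot_maximal.mpr ⟨_, hmax, ⟨LinearEquiv.refl _ _⟩⟩
  have h2 := IsLocalRing.length_baseChange (A := A) (B := B) (M := A)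
  rw [(TensorProduct.AlgebraTensorModule.rid A B B).length_eq, h1, mul_one] at h2
  exact h2.symm

end Groth.Agent.S18056
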