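import Groth.Statements.S18057
import Mathlib
import Groth.Agent.S18056
-- import your own Groth.Agent.* helpers here

set_option autoImplicit false
universe u
open STCI

namespace Groth.Agent.S18057
open AlgebraicGeometry CategoryTheory

theorem formallySmooth_appLE {X' X : Scheme.{u}} (f : X' ⟶ X) (hf : MoreMor.IsFormallySmoothHom f)
    {V : X.Opens} (hV : IsAffineOpen V) {U : X'.Opens} (hU : IsAffineOpen U) (e : U ≤ f ⁻¹ᵁ V) :
    letI := (f.appLE V U e).hom.toAlgebra
    Algebra.FormallySmooth Γ(X, V) Γ(X', U) := by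
  letI := (f.appLE V U e).hom.toAlgebra
  refine Algebra.FormallySmooth.of_comp_surjective fun C _ _ I hI g => ?_
  let a : Spec (CommRingCat.of (C ⧸ I)) ⟶ X' := Spec.map (CommRingCat.ofHom g.toRingHom) ≫ hU.fromSpec
  let b : Spec (CommRingCat.of C) ⟶ X := Spec.map (CommRingCat.ofHom (algebraMap Γ(X, V) C)) ≫ hV.fromSpec
  have hg : CommRingCat.ofHom (algebraMap Γ(X, V) C) ≫ CommRingCat.ofHom (Ideal.Quotient.mk I) =
      f.appLE V U e ≫ CommRingCat.ofHom g.toRingHom := by
    ext r; exact (g.commutes r).symm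
  have w : Spec.map (CommRingCat.ofHom (Ideal.Quotient.mk I)) ≫ b = a ≫ f := by
    simp only [a, b, Category.assoc]
    rw [← hV.SpecMap_appLE_fromSpec f hU e, ← Spec.map_comp_assoc, ← Spec.map_comp_assoc, hg]
  obtain ⟨l, h1, h2⟩ := hf C I hI a b w
  have hr : Set.range l ⊆ Set.range hU.fromSpec := by
    rintro _ ⟨p, rfl⟩
    obtain ⟨q, rfl⟩ : p ∈ Set.range (PrimeSpectrum.comap (Ideal.Quotient.mk I)) := by
      rw [range_comap_of_surjective _ _ Ideal.Quotient.mk_surjective, Ideal.mk_ker]
      intro x hx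
      refine p.2.mem_of_pow_mem 2 ?_
      have := Ideal.pow_mem_pow hx 2
      rw [hI, Ideal.mem_bot] at this
      rw [this]; exact zero_mem _
    refine ⟨Spec.map (CommRingCat.ofHom g.toRingHom) q, ?_⟩
    have := congrArg (fun k : _ ⟶ X' => k q) h1
    exact ((Scheme.Hom.comp_apply _ _ _).symm.trans (this.symm.trans (Scheme.Hom.comp_apply _ _ _)))
  obtain ⟨ψ, hψ⟩ := Spec.map_surjective (IsOpenImmersion.lift hU.fromSpec l hr)
  have hψl : Spec.map ψ ≫ hU.fromSpec = l := by rw [hψ]; exact IsOpenImmersion.lift_fac _ _ _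
  have hψA : f.appLE V U e ≫ ψ = CommRingCat.ofHom (algebraMap Γ(X, V) C) := by
    apply Spec.map_injective
    rw [← cancel_mono hV.fromSpec, Spec.map_comp, Category.assoc, hV.SpecMap_appLE_fromSpec f hU e,
      ← Category.assoc, hψl, h2]
  have hψg : ψ ≫ CommRingCat.ofHom (Ideal.Quotient.mk I) = CommRingCat.ofHom g.toRingHom := by
    apply Spec.map_injective
    rw [← cancel_mono hU.fromSpec, Spec.map_comp, Category.assoc, hψl, h1]
  exact ⟨{ ψ.hom with commutes' := fun r => congr($(hψA) r) }, AlgHom.ext fun r => congr($(hψg) r)⟩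

theorem isArtinianRing_stalk {X : Scheme.{u}} [IrreducibleSpace ↥X] [IsNoetherian X] (x : X)
    (hx : x = genericPoint X) : IsArtinianRing (X.presheaf.stalk x) := by
  rw [isArtinianRing_iff_isNoetherianRing_krullDimLE_zero]
  refine ⟨inferInstance, ?_⟩
  haveI : Subsingleton (PrimeSpectrum (X.presheaf.stalk x)) := by
    refine ⟨fun p q => (X.fromSpecStalk x).isEmbedding.injective ?_⟩
    have h : ∀ p : Spec (X.presheaf.stalk x), X.fromSpecStalk x p = x := fun p => by
      have hp : X.fromSpecStalk x p ∈ Set.range (X.fromSpecStalk x) := ⟨p, rfl⟩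
      rw [Scheme.range_fromSpecStalk] at hp
      exact ((show X.fromSpecStalk x p ⤳ x from hp).antisymm ((specializes_of_eq hx).trans (genericPoint_specializes _))).eq
    exact (h p).trans (h q).symm
  exact Ring.KrullDimLE.mk₀ fun P hP => by
    obtain ⟨M, hM, hPM⟩ := Ideal.exists_le_maximal P hP.ne_top
    rw [show P = M from congrArg PrimeSpectrum.asIdeal (Subsingleton.elim (⟨P, hP⟩ : PrimeSpectrum _) ⟨M, hM.isPrime⟩)]
    exact hM

theorem main {X' X : Scheme.{u}} (f : X' ⟶ X)
    [IrreducibleSpace ↥X'] [IrreducibleSpace ↥X] [IsNoetherian X'] [IsNoetherian X] [Flat f]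
    (hf : MoreMor.IsFormallySmoothHom f) (hK : ∃ K : Subring Γ(X, ⊤), IsField K) (x : X')
    (hx : x = genericPoint X') (hfx : f x = genericPoint X) :
    Module.length (X'.presheaf.stalk x) (X'.presheaf.stalk x)
      = Module.length (X.presheaf.stalk (f x)) (X.presheaf.stalk (f x)) := by
  obtain ⟨V, hV, hxV, -⟩ := exists_isAffineOpen_mem_and_subset (U := (⊤ : X.Opens)) (x := f x) trivial
  obtain ⟨U, hU, hxU, e₀⟩ := exists_isAffineOpen_mem_and_subset (U := f ⁻¹ᵁ V) (x := x) hxV
  have e : U ≤ f ⁻¹ᵁ V := e₀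
  haveI := isArtinianRing_stalk x hx
  haveI := isArtinianRing_stalk (f x) hfx
  letI := (f.stalkMap x).hom.toAlgebra
  letI := (f.appLE V U e).hom.toAlgebra
  haveI := formallySmooth_appLE f hf hV hU e
  letI := X.presheaf.algebra_section_stalk ⟨f x, e hxU⟩
  haveI := hV.isLocalization_stalk ⟨f x, e hxU⟩
  letI := X'.presheaf.algebra_section_stalk ⟨x, hxU⟩
  haveI := hU.isLocalization_stalk ⟨x, hxU⟩
  letI : Algebra Γ(X, V) (X'.presheaf.stalk x) :=
    ((algebraMap Γ(X', U) (X'.presheaf.stalk x)).comp (algebraMap Γ(X, V) Γ(X', U))).toAlgebra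
  haveI : IsScalarTower Γ(X, V) Γ(X', U) (X'.presheaf.stalk x) := IsScalarTower.of_algebraMap_eq' rfl
  haveI : IsScalarTower Γ(X, V) (X.presheaf.stalk (f x)) (X'.presheaf.stalk x) := by
    refine IsScalarTower.of_algebraMap_eq fun r => ?_
    show (X'.presheaf.germ U x hxU) (f.appLE V U e r) = f.stalkMap x (X.presheaf.germ V (f x) (e hxU) r)
    rw [Scheme.Hom.germ_stalkMap_apply, Scheme.Hom.appLE]
    exact X'.presheaf.germ_res_apply (homOfLE e) x hxU _
  haveI : Algebra.FormallySmooth Γ(X', U) (X'.presheaf.stalk x) :=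
    Algebra.FormallySmooth.of_isLocalization (hU.primeIdealOf ⟨x, hxU⟩).asIdeal.primeCompl
  haveI : Algebra.FormallySmooth Γ(X, V) (X'.presheaf.stalk x) := .comp _ Γ(X', U) _
  haveI : Algebra.FormallySmooth (X.presheaf.stalk (f x)) (X'.presheaf.stalk x) :=
    Algebra.FormallySmooth.localization_base (hV.primeIdealOf ⟨f x, e hxU⟩).asIdeal.primeCompl
  haveI : Module.Flat (X.presheaf.stalk (f x)) (X'.presheaf.stalk x) := Flat.stalkMap f x
  refine (Groth.Agent.S18056.result (X.presheaf.stalk (f x)) (X'.presheaf.stalk x) ?_).symm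
  obtain ⟨K, hK⟩ := hK
  letI := hK.toField
  let φ : K →+* X.presheaf.stalk (f x) := (X.presheaf.germ ⊤ (f x) trivial).hom.comp K.subtype
  exact ⟨φ.range, (RingEquiv.ofBijective φ.rangeRestrict
    ⟨fun a b h => φ.injective (congrArg Subtype.val h), φ.rangeRestrict_surjective⟩).symm.toMulEquiv.isField hK⟩

end Groth.Agent.S18057

namespace Groth.Agent.S18057

open AlgebraicGeometry CategoryTheory in
/-- For a morphism f : X' → X between irreducible Noetherian schemes that is flat and formally smooth,
with X defined over a field (rendered: the ring of global sections of X contains a subring that is a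
field, which for nonempty X is the same as giving a morphism from X to the spectrum of a field), the
local rings of X' and X at their generic points η', η (Artinian local rings) satisfy length
O_{X',η'} = length O_{X,η}. Formal smoothness is the infinitesimal lifting property against
square-zero thickenings of affine schemes. -/
theorem result {X' X : Scheme.{u}} (f : X' ⟶ X)
    [IrreducibleSpace ↥X'] [IrreducibleSpace ↥X] [IsNoetherian X'] [IsNoetherian X] [Flat f]
    (hf : MoreMor.IsFormallySmoothHom f) (hK : ∃ K : Subring Γ(X, ⊤), IsField K) :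
    Module.length (X'.presheaf.stalk (genericPoint X')) (X'.presheaf.stalk (genericPoint X'))
      = Module.length (X.presheaf.stalk (genericPoint X)) (X.presheaf.stalk (genericPoint X)) := by
  have hfx : f (genericPoint X') = genericPoint X := by
    obtain ⟨y, hy, hfy⟩ := Flat.generalizingMap f (genericPoint_specializes (f (genericPoint X')))
    have hyg : y = genericPoint X' := (hy.antisymm (genericPoint_specializes y)).eq
    rw [← hyg]
    exact hfy
  have := main f hf hK (genericPoint X') rfl hfx
  rw [this, hfx]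

end Groth.Agent.S18057
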