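import Groth.Statements.S18061
import Mathlib
import Groth.Agent.UnipConil.Basic

set_option linter.style.haveILetI false

set_option autoImplicit false
universe u
open scoped TensorProduct
open HopfRep

namespace Groth.Agent.S18061

noncomputable section Pre
open TensorProduct Coalgebra Groth.Agent.UnipConil Groth.Agent.Comod
variable {A : Type u} [CommRing A] (L : Type u) [Field L] [Algebra A L]
variable {H : Type u} [CommRing H] [HopfAlgebra A H]

/-- The map to a base change. -/
abbrev toBC : H →ₗ[A] L ⊗[A] H := TensorProduct.mk A L H 1

theorem pair_toBC (F G : L ⊗[A] H →ₗ[L] L) (c : H) :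
    pair L (L ⊗[A] H) F G (toBC L c) =
      LinearMap.mul' A L (TensorProduct.map ((F.restrictScalars A) ∘ₗ toBC L)
        ((G.restrictScalars A) ∘ₗ toBC L) (comul (R := A) c)) := by
  show LinearMap.mul' L L (TensorProduct.map F G (comul (R := L) ((1 : L) ⊗ₜ[A] c))) = _
  rw [TensorProduct.comul_tmul, CommSemiring.comul_apply]
  generalize comul (R := A) c = t
  induction t using TensorProduct.induction_on with
  | zero => simp
  | tmul x y => simp [toBC]
  | add x y hx hy => simp only [tmul_add, map_add, hx, hy]

end Pre

noncomputable section Main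
open TensorProduct Coalgebra Groth.Agent.UnipConil Groth.Agent.Comod
variable {A : Type u} [CommRing A] [IsDomain A] [IsDiscreteValuationRing A]
  (K : Type u) [Field K] [Algebra A K] [IsFractionRing A K]
  (k : Type u) [Field k] [Algebra A k]
  {H : Type u} [CommRing H] [HopfAlgebra A H] [Module.Flat A H]

/-- The stage of the filtration on the generic fibre, pulled back. -/
def stage (n : ℕ) : Submodule A H :=
  ((filt K (K ⊗[A] H) n).restrictScalars A).comap (toBC K)

/-- The quotient by the stage, in the quotient of the generic fibre. -/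
def stageEmb (n : ℕ) : (H ⧸ stage (A := A) K (H := H) n) →ₗ[A] ((K ⊗[A] H) ⧸ filt K (K ⊗[A] H) n) :=
  (stage (A := A) K (H := H) n).liftQ (((filt K (K ⊗[A] H) n).mkQ.restrictScalars A) ∘ₗ toBC K) (fun x hx => by
    rw [LinearMap.mem_ker]
    exact (Submodule.Quotient.mk_eq_zero _).mpr hx)

theorem stageEmb_injective (n : ℕ) : Function.Injective (stageEmb (A := A) K (H := H) n) := by
  rw [injective_iff_map_eq_zero]
  intro x hx
  obtain ⟨x, rfl⟩ := Submodule.mkQ_surjective _ x
  rw [Submodule.mkQ_apply, Submodule.Quotient.mk_eq_zero]
  show toBC K x ∈ filt K (K ⊗[A] H) n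
  exact (Submodule.Quotient.mk_eq_zero _).mp hx

theorem flat_quotient (n : ℕ) : Module.Flat A (H ⧸ stage (A := A) K (H := H) n) := by
  haveI : Module.IsTorsionFree A ((K ⊗[A] H) ⧸ filt K (K ⊗[A] H) n) := by
    refine Module.IsTorsionFree.mk fun r hr x y hxy => ?_
    have h0 : algebraMap A K r ≠ 0 := fun h =>
      hr.ne_zero (IsFractionRing.injective A K (h.trans (map_zero _).symm))
    have h2 : algebraMap A K r • x = algebraMap A K r • y := by
      rw [algebraMap_smul, algebraMap_smul]; exact hxy
    exact smul_right_injective _ h0 h2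
  haveI : Module.IsTorsionFree A (H ⧸ stage (A := A) K (H := H) n) :=
    (stageEmb_injective (A := A) (H := H) K n).moduleIsTorsionFree _ (fun r x => map_smul (stageEmb (A := A) K (H := H) n) r x)
  infer_instance

theorem stage_zero {h : H} (hh : h ∈ stage (A := A) K (H := H) 0) :
    h = algebraMap A H (counit (R := A) h) := by
  haveI : Module.Flat A H := inferInstance
  have hinj : Function.Injective (toBC K : H →ₗ[A] K ⊗[A] H) :=
    Algebra.TensorProduct.includeRight_injective (IsFractionRing.injective A K)
  apply hinj
  obtain ⟨c, hc⟩ := Submodule.mem_span_singleton.mp (hh : toBC K h ∈ filt K (K ⊗[A] H) 0)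
  have hε : c = algebraMap A K (counit (R := A) h) := by
    have := congrArg (counit (R := K)) hc
    rw [map_smul, Bialgebra.counit_one, smul_eq_mul, mul_one] at this
    rw [this]
    simp [toBC, Algebra.algebraMap_eq_smul_one]
  rw [← hc, hε, Algebra.TensorProduct.one_def, algebraMap_smul]
  simp [toBC, Algebra.algebraMap_eq_smul_one, TensorProduct.tmul_smul]

theorem stage_le : ∀ (n : ℕ) (h : H), h ∈ stage (A := A) K (H := H) n → toBC k h ∈ filt k (k ⊗[A] H) n := by
  intro n
  induction n with
  | zero =>
    intro h hh
    rw [stage_zero K hh, Algebra.algebraMap_eq_smul_one, map_smul, ← algebraMap_smul k]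
    exact Submodule.smul_mem _ _ (Submodule.mem_span_singleton_self _)
  | succ n ih =>
    intro h hh
    refine mem_filt_succ.mpr fun f g hf hg => ?_
    rw [pair_toBC]
    let M := H ⧸ stage (A := A) K (H := H) 0
    let N := H ⧸ stage (A := A) K (H := H) n
    haveI : Module.Flat A M := flat_quotient (A := A) (H := H) K 0
    haveI : Module.Flat A N := flat_quotient (A := A) (H := H) K n
    let V := (K ⊗[A] H) ⧸ filt K (K ⊗[A] H) 0
    let W := (K ⊗[A] H) ⧸ filt K (K ⊗[A] H) n
    haveI : Module.Flat A K := IsLocalization.flat K (nonZeroDivisors A)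
    haveI : Module.Flat A V := Module.Flat.trans A K V
    haveI : Module.Flat A W := Module.Flat.trans A K W
    let F : M →ₗ[A] k := (stage (A := A) K (H := H) 0).liftQ ((f.restrictScalars A) ∘ₗ toBC k) (fun x hx => by
      rw [LinearMap.mem_ker, stage_zero K hx, Algebra.algebraMap_eq_smul_one, map_smul]
      show _ • f (1 : k ⊗[A] H) = 0
      rw [hf, smul_zero])
    let G : N →ₗ[A] k := (stage (A := A) K (H := H) n).liftQ ((g.restrictScalars A) ∘ₗ toBC k) (fun x hx => by
      rw [LinearMap.mem_ker]
      exact hg _ (ih x hx))
    let t : M ⊗[A] N := TensorProduct.map (stage (A := A) K (H := H) 0).mkQ (stage (A := A) K (H := H) n).mkQ (comul (R := A) h)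
    have ht : t = 0 := by
      have hinj : Function.Injective (TensorProduct.map (stageEmb (A := A) K (H := H) 0) (stageEmb (A := A) K (H := H) n)) := by
        rw [← LinearMap.lTensor_comp_rTensor]
        exact (Module.Flat.lTensor_preserves_injective_linearMap _ (stageEmb_injective (A := A) (H := H) K n)).comp
          (Module.Flat.rTensor_preserves_injective_linearMap _ (stageEmb_injective (A := A) (H := H) K 0))
      apply hinj
      rw [map_zero]
      let e : V ⊗[K] W ≃ₗ[K] V ⊗[A] W := IsLocalization.moduleTensorEquiv (nonZeroDivisors A) K V W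
      have key : ∀ z : H ⊗[A] H,
          TensorProduct.map (stageEmb (A := A) K (H := H) 0) (stageEmb (A := A) K (H := H) n)
            (TensorProduct.map (stage (A := A) K (H := H) 0).mkQ (stage (A := A) K (H := H) n).mkQ z) =
          e (TensorProduct.map (filt K (K ⊗[A] H) 0).mkQ (filt K (K ⊗[A] H) n).mkQ
            (AlgebraTensorModule.tensorTensorTensorComm A K A K K K H H
              ((1 : K) ⊗ₜ[K] (1 : K) ⊗ₜ[A] z))) := by
        intro z
        induction z using TensorProduct.induction_on with
        | zero => simp
        | tmul x y =>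
          simp [e, IsLocalization.moduleTensorEquiv, stageEmb, toBC]
          rfl
        | add x y hx hy => simp only [tmul_add, map_add, hx, hy]
      show TensorProduct.map _ _ (TensorProduct.map _ _ (comul (R := A) h)) = 0
      rw [key]
      have hz : TensorProduct.map (filt K (K ⊗[A] H) 0).mkQ (filt K (K ⊗[A] H) n).mkQ
          (comul (R := K) ((1 : K) ⊗ₜ[A] h)) = 0 := by
        refine tensor_eq_zero_of_cR fun ψ => ?_
        rw [← Module.forall_dual_apply_eq_zero_iff K]
        intro φ
        have h1 := mem_filt_succ.mp (hh : toBC K h ∈ filt K (K ⊗[A] H) (n + 1))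
          (φ ∘ₗ (filt K (K ⊗[A] H) 0).mkQ) (ψ ∘ₗ (filt K (K ⊗[A] H) n).mkQ)
          (by
            show φ ((filt K (K ⊗[A] H) 0).mkQ 1) = 0
            rw [Submodule.mkQ_apply, (Submodule.Quotient.mk_eq_zero _).mpr (one_mem_filt 0), map_zero])
          (fun x hx => by
            show ψ ((filt K (K ⊗[A] H) n).mkQ x) = 0
            rw [Submodule.mkQ_apply, (Submodule.Quotient.mk_eq_zero _).mpr hx, map_zero])
        rw [← h1]
        show _ = LinearMap.mul' K K (TensorProduct.map _ _ (comul (R := K) ((1 : K) ⊗ₜ[A] h)))
        generalize comul (R := K) ((1 : K) ⊗ₜ[A] h) = w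
        induction w using TensorProduct.induction_on with
        | zero => simp
        | tmul x y => simp [mul_comm]
        | add x y hx hy => simp only [map_add, hx, hy]
      rw [TensorProduct.comul_tmul, CommSemiring.comul_apply] at hz
      rw [hz, map_zero]
    have : LinearMap.mul' A k (TensorProduct.map ((f.restrictScalars A) ∘ₗ toBC k)
        ((g.restrictScalars A) ∘ₗ toBC k) (comul (R := A) h)) =
        LinearMap.mul' A k (TensorProduct.map F G t) := by
      simp only [t, F, G]
      generalize comul (R := A) h = z
      induction z using TensorProduct.induction_on with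
      | zero => simp
      | tmul x y => simp; rfl
      | add x y hx hy => simp only [map_add, hx, hy]
    rw [this, ht, map_zero, map_zero]

theorem isConil_special (hK : IsConil K (K ⊗[A] H)) (hk : Function.Surjective (algebraMap A k)) :
    IsConil k (k ⊗[A] H) := by
  intro x
  induction x using TensorProduct.induction_on with
  | zero => exact ⟨0, Submodule.zero_mem _⟩
  | tmul c a =>
    obtain ⟨c, rfl⟩ := hk c
    obtain ⟨n, hn⟩ := hK (toBC K a)
    refine ⟨n, ?_⟩
    rw [show algebraMap A k c ⊗ₜ[A] a = toBC k (c • a) by
      simp [toBC, Algebra.algebraMap_eq_smul_one, TensorProduct.tmul_smul, TensorProduct.smul_tmul']]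
    exact stage_le K k n _ (Submodule.smul_mem (stage (A := A) K (H := H) n) c hn)
  | add x y hx hy =>
    obtain ⟨n, hn⟩ := hx
    obtain ⟨m, hm⟩ := hy
    exact ⟨max n m, Submodule.add_mem _ (filt_mono (le_max_left n m) hn) (filt_mono (le_max_right n m) hm)⟩
end Main


/-- A is a discrete valuation ring, K denotes its field of fractions and k its residue field; G = Spec H
is a flat affine A-group scheme of finite presentation, H being a flat, finitely presented
commutative Hopf algebra over A. If the generic fibre G_K is unipotent (every nonzero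
finite-dimensional representation has a nonzero fixed vector), then so is the special fibre G_k. -/
theorem result (A : Type u) [CommRing A] [IsDomain A] [IsDiscreteValuationRing A]
    (K : Type u) [Field K] [Algebra A K] [IsFractionRing A K]
    (H : Type u) [CommRing H] [HopfAlgebra A H] [Module.Flat A H] [Algebra.FinitePresentation A H]
    (hK : HopfRep.IsUnipotent K (K ⊗[A] H)) :
    HopfRep.IsUnipotent (IsLocalRing.ResidueField A) (IsLocalRing.ResidueField A ⊗[A] H) := by
  exact Groth.Agent.UnipConil.isUnipotent_of_conil
    (isConil_special K (IsLocalRing.ResidueField A) (Groth.Agent.UnipConil.isConil_of_unipotent hK)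
      IsLocalRing.residue_surjective)

end Groth.Agent.S18061
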