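import Groth.Statements.S18062
import Groth.Agent.TrigExh.Basic

set_option linter.style.haveILetI false
open Groth.Agent.TrigExh


set_option autoImplicit false
universe u
open scoped TensorProduct
open HopfRep

namespace Groth.Agent.S18062

/-- A is a discrete valuation ring, K denotes its field of fractions and k its residue field, and G =
Spec H a flat affine A-group scheme of finite presentation, H being a flat, finitely presented
commutative Hopf algebra over A. If the generic fibre G_K is trigonalizable (every simple
finite-dimensional representation is one-dimensional), then so is the special fibre G_k. -/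
theorem result (A : Type u) [CommRing A] [IsDomain A] [IsDiscreteValuationRing A]
    (K : Type u) [Field K] [Algebra A K] [IsFractionRing A K]
    (H : Type u) [CommRing H] [HopfAlgebra A H] [Module.Flat A H] [Algebra.FinitePresentation A H]
    (hK : HopfRep.IsTrigonalizable K (K ⊗[A] H)) :
    HopfRep.IsTrigonalizable (IsLocalRing.ResidueField A) (IsLocalRing.ResidueField A ⊗[A] H) := by
  refine isTrigonalizable_of_hasEig _ fun m T hT => ?_
  have hinj : Function.Injective (inc (A := A) (H := H) K) :=
    Algebra.TensorProduct.includeRight_injective (IsFractionRing.injective A K)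
  obtain ⟨w, γ, hw, he⟩ := exists_eigvec hK (isCorep_inc K hT)
  obtain ⟨i₁, hi₁⟩ := Function.ne_iff.mp hw
  obtain ⟨i₀, -, hmax⟩ := Finset.exists_max_image Finset.univ (fun j => ValuationRing.valuation A K (w j))
    Finset.univ_nonempty
  have hi₀ : w i₀ ≠ 0 := fun h => hi₁ (by
    have := hmax i₁ (Finset.mem_univ _)
    simpa [h] using this)
  have hint : ∀ j, ∃ a : A, algebraMap A K a = w j / w i₀ := fun j => by
    refine (ValuationRing.mem_integer_iff A K _).mp ?_
    rw [Valuation.mem_integer_iff, map_div₀, div_le_one₀]
    · exact hmax j (Finset.mem_univ _)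
    · exact zero_lt_iff.mpr ((Valuation.ne_zero_iff _).mpr hi₀)
  choose v hv using hint
  have hv0 : v i₀ = 1 := IsFractionRing.injective A K (by rw [hv, map_one, div_self hi₀])
  have hv' : ∀ i, inc K (algebraMap A H (v i)) =
      algebraMap K (K ⊗[A] H) (w i) * algebraMap K (K ⊗[A] H) (w i₀)⁻¹ := fun i => by
    rw [inc_algebraMap, hv, div_eq_mul_inv, map_mul]
  have key : ∀ i, inc K (∑ j, T i j * algebraMap A H (v j)) = γ * inc K (algebraMap A H (v i)) := fun i => by
    rw [map_sum, hv', ← mul_assoc, ← he i, Finset.sum_mul]
    exact Finset.sum_congr rfl fun j _ => by rw [map_mul, hv', Matrix.map_apply, mul_assoc]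
  refine ⟨v, i₀, ∑ j, T i₀ j * algebraMap A H (v j), hv0, fun i => hinj ?_⟩
  rw [map_mul, key i, key i₀, hv0, map_one, map_one, mul_one]

end Groth.Agent.S18062
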