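import Groth.Statements.S18067
import Groth.Agent.Chev.Divisible

set_option autoImplicit false
universe u
open CategoryTheory MonoidalCategory CartesianMonoidalCategory MonObj GrpObj AlgebraicGeometry CategoryTheory.Limits
open AlgGrp

namespace Groth.Agent.S18067

/-- Let k be a field and G an anti-affine algebraic group over k, i.e. a smooth k-group scheme of finite
type with O(G) = k (hence connected and commutative). Then for every non-zero integer n the n-th
power map G → G, x ↦ x^n, is an isogeny: surjective and finite. -/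
theorem result (k : Type u) [Field k]
    (G : Over (Spec (CommRingCat.of k))) [GrpObj G] [Smooth G.hom] [QuasiCompact G.hom]
    (hG : Function.Bijective ((Scheme.ΓSpecIso (CommRingCat.of k)).inv ≫ G.hom.appTop).hom) (n : ℤ) (hn : n ≠ 0) :
    Surjective ((𝟙 G) ^ n).left ∧ IsFinite ((𝟙 G) ^ n).left := by
  obtain ⟨hc, hcomm⟩ := Groth.Agent.S3293.result k G hG
  haveI := hc; haveI := hcomm
  have hm : 0 < n.natAbs := Int.natAbs_pos.2 hn
  haveI := Groth.Agent.Chev.surjective_pow_of_anti' G hG hm
  haveI := Groth.Agent.Chev.isMonHom_pow G n.natAbs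
  haveI := Groth.Agent.Chev.isFinite_endo G (𝟙 G ^ n.natAbs)
  rcases Int.natAbs_eq n with h | h
  · rw [h, zpow_natCast]; exact ⟨inferInstance, inferInstance⟩
  · have e : (𝟙 G) ^ n = (𝟙 G ^ n.natAbs) ≫ GrpObj.inv (X := G) := by
      rw [h, zpow_neg, zpow_natCast]
      simp only [Int.natAbs_neg, Int.natAbs_natCast]
      rfl
    haveI : IsIso (GrpObj.inv (X := G)).left := inferInstanceAs (IsIso ((Over.forget _).map (GrpObj.inv (X := G))))
    rw [e, Over.comp_left]
    exact ⟨inferInstance, MorphismProperty.comp_mem _ _ _ ‹IsFinite (𝟙 G ^ n.natAbs).left› (inferInstanceAs (IsFinite (GrpObj.inv (X := G)).left))⟩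

end Groth.Agent.S18067
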