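import Groth.Statements.S18068
import Groth.Agent.Chev.AntiAff
import Groth.Agent.GrpField.Isogeny
import Groth.Agent.AlgSpLib.PureMono

set_option autoImplicit false
universe u
open CategoryTheory MonoidalCategory CartesianMonoidalCategory MonObj GrpObj AlgebraicGeometry CategoryTheory.Limits
open AlgGrp

namespace Groth.Agent.S18068
open Groth.Agent

/-- Let k be a field and f : G → H an isogeny (a surjective homomorphism with finite kernel, i.e.
surjective and finite) of connected commutative algebraic groups over k. Then G is anti-affine (O(G)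
= k) if and only if H is anti-affine. -/
theorem result (k : Type u) [Field k]
    (G H : Over (Spec (CommRingCat.of k))) [GrpObj G] [Smooth G.hom] [QuasiCompact G.hom] [ConnectedSpace ↥G.left] [IsCommMonObj G]
    [GrpObj H] [Smooth H.hom] [QuasiCompact H.hom] [ConnectedSpace ↥H.left] [IsCommMonObj H]
    (f : G ⟶ H) [IsMonHom f] [Surjective f.left] [IsFinite f.left] :
    Function.Bijective ((Scheme.ΓSpecIso (CommRingCat.of k)).inv ≫ G.hom.appTop).hom ↔
      Function.Bijective ((Scheme.ΓSpecIso (CommRingCat.of k)).inv ≫ H.hom.appTop).hom := by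
  have hint : ∀ (X : Over (Spec (CommRingCat.of k))) [GrpObj X] [Smooth X.hom] [ConnectedSpace X.left],
      IsIntegral X.left := fun X _ _ _ => by
    haveI := Chev.geometricallyIntegral_of_group (A := X)
    exact GeometricallyIntegral.geometrically_isIntegral (f := X.hom) (K := k) (𝟙 _) (𝟙 _) X.hom
      (IsPullback.of_horiz_isIso ⟨by rw [Category.id_comp, Category.comp_id]⟩)
  haveI := hint G; haveI := hint H
  haveI : Flat f.left := GrpField.flat_of_surjective f
  constructor
  · intro hG
    have hinj : Function.Injective f.left.appTop := AlgSpLib.appTop_injective_of_flat_surjective f.left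
    have e : ∀ a, f.left.appTop (H.hom.appTop ((Scheme.ΓSpecIso (CommRingCat.of k)).inv a)) =
        G.hom.appTop ((Scheme.ΓSpecIso (CommRingCat.of k)).inv a) := fun a => by
      rw [← Over.w f, Scheme.Hom.comp_appTop]; rfl
    refine ⟨fun a b hab => hG.1 ?_, fun y => ?_⟩
    · have := congrArg f.left.appTop hab
      simp only [CommRingCat.hom_comp, RingHom.coe_comp, Function.comp_apply] at this ⊢
      exact (e a).symm.trans (this.trans (e b))
    · obtain ⟨a, ha⟩ := hG.2 (f.left.appTop y)
      exact ⟨a, hinj ((e a).trans ha)⟩
  · intro hH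
    obtain ⟨hQ, D, hD, i, hqm, hqf, hqs, hql, hQl, him, hic, hker, hanti, hDl, hDq⟩ := Chev.exists_anti_kernel G
    letI := hQ
    haveI := hqm; haveI := hqf; haveI := hqs; haveI := hql; haveI := hQl; haveI := him; haveI := hic
    haveI := hDl; haveI := hDq
    haveI := Chev.smooth_of_anti D hanti
    haveI := (S3293.result k D hanti).1
    haveI := hint D
    haveI : IsSeparated H.hom := GrpField.isSeparated_hom H
    haveI : IsSeparated G.hom := GrpField.isSeparated_hom G
    haveI : IsFinite (i ≫ f).left := by rw [Over.comp_left]; infer_instance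
    obtain ⟨C, hC, c, g, hcm, hg, hgc, hcc, hgd, hgq, hgs⟩ := GrpField.SchImg.exists_image (i ≫ f)
    haveI := hcm; haveI := hcc; haveI := hgs
    obtain ⟨R, hR, r, hrm, hrf, hrs, hrk, hrsep, hRsm, hRq, hRc, -⟩ := Chev.exists_quotient_group' c
      (fun T a x => ⟨x, by rw [_root_.mul_comm a, _root_.mul_assoc, mul_inv_cancel, _root_.mul_one]⟩)
    haveI := hrm; haveI := hrs; haveI := hrsep; haveI := hRsm; haveI := hRq
    have hkill : i ≫ f ≫ r = 1 := by
      rw [← Category.assoc, ← hgc, Category.assoc, hrk.w, comp_toUnit_assoc, ← Hom.one_def]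
    haveI : QuasiCompact (AffHull.toHull G).left := by
      haveI : QuasiCompact ((AffHull.toHull G).left ≫ (AffHull.hull G).hom) := by rw [Over.w]; infer_instance
      exact QuasiCompact.of_comp _ (AffHull.hull G).hom
    obtain ⟨d, hd⟩ := AdjRep.exists_desc i (AffHull.toHull G) hker (f ≫ r) hkill
    haveI : IsMonHom (AffHull.toHull G ≫ d) := by rw [hd]; infer_instance
    haveI := Chev.isMonHom_desc (AffHull.toHull G) d
    haveI : Surjective d.left := by
      haveI : Surjective ((AffHull.toHull G).left ≫ d.left) := by
        rw [← Over.comp_left, hd, Over.comp_left]; infer_instance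
      exact Surjective.of_comp (AffHull.toHull G).left d.left
    haveI : QuasiCompact d.left := by
      haveI : QuasiCompact (d.left ≫ R.hom) := by rw [Over.w]; infer_instance
      exact QuasiCompact.of_comp _ R.hom
    haveI : IsReduced R.left := Chev.isReduced_of_smooth' R
    haveI : Flat d.left := GrpField.flat_of_surjective_reduced d
    haveI : IsAffine R.left := (S7983.result k _ R d).1 inferInstance
    have hr : 𝟙 H ≫ r = toUnit H ≫ η[R] := by rw [Category.id_comp, Chev.eq_one_of_anti hH r, Hom.one_def]
    haveI : Surjective c.left := ⟨fun x => ⟨(hrk.lift _ _ hr).left x,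
      congrArg (fun φ => φ.left x) (hrk.lift_fst _ _ hr)⟩⟩
    haveI : Surjective (i ≫ f).left := by rw [← hgc, Over.comp_left]; infer_instance
    haveI : Surjective i.left := GrpField.surjective_of_isFinite i
      ((GrpField.dim_eq_of_isFinite (i ≫ f)).trans (GrpField.dim_eq_of_isFinite f).symm)
    haveI : IsReduced G.left := inferInstance
    haveI := isIso_of_isClosedImmersion_of_surjective i.left
    have e : (Scheme.ΓSpecIso (CommRingCat.of k)).inv ≫ D.hom.appTop =
        ((Scheme.ΓSpecIso (CommRingCat.of k)).inv ≫ G.hom.appTop) ≫ i.left.appTop := by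
      rw [Category.assoc, ← Scheme.Hom.comp_appTop, Over.w]
    have hanti : Function.Bijective ((Scheme.ΓSpecIso (CommRingCat.of k)).inv ≫ D.hom.appTop).hom := hanti
    rw [e, CommRingCat.hom_comp, RingHom.coe_comp] at hanti
    haveI : IsIso i.left.appTop := inferInstanceAs (IsIso (Scheme.Γ.map i.left.op))
    have hi : Function.Bijective i.left.appTop.hom := ConcreteCategory.bijective_of_isIso i.left.appTop
    exact (Function.Bijective.of_comp_iff' hi _).1 hanti


end Groth.Agent.S18068
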