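import Groth.Statements.S18069
import Groth.Agent.AffHull.Basic

set_option autoImplicit false
universe u
open CategoryTheory MonoidalCategory CartesianMonoidalCategory MonObj GrpObj AlgebraicGeometry CategoryTheory.Limits
open AlgGrp

namespace Groth.Agent.S18069

/-- groups of finite type over a field are separated quasi-compact schemes -/
theorem sep_compact {k : Type u} [Field k] (G : Over (Spec (CommRingCat.of k))) [GrpObj G]
    [LocallyOfFiniteType G.hom] [QuasiCompact G.hom] : G.left.IsSeparated ∧ CompactSpace G.left := by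
  have hsep : IsSeparated G.hom := GrpField.isSeparated_hom G
  exact ⟨⟨by rw [Subsingleton.elim (terminal.from G.left) (G.hom ≫ terminal.from _)]; infer_instance⟩,
    QuasiCompact.compactSpace_of_compactSpace G.hom⟩

/-- Let k be a field and G₁, G₂ connected k-group schemes of finite type. Then G₁ × G₂ is anti-affine,
i.e. O(G₁ × G₂) = k, if and only if G₁ and G₂ are both anti-affine. -/
theorem result (k : Type u) [Field k]
    (G₁ G₂ : Over (Spec (CommRingCat.of k))) [GrpObj G₁] [LocallyOfFiniteType G₁.hom] [QuasiCompact G₁.hom] [ConnectedSpace ↥G₁.left]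
    [GrpObj G₂] [LocallyOfFiniteType G₂.hom] [QuasiCompact G₂.hom] [ConnectedSpace ↥G₂.left] :
    Function.Bijective ((Scheme.ΓSpecIso (CommRingCat.of k)).inv ≫ (G₁ ⊗ G₂).hom.appTop).hom ↔
      Function.Bijective ((Scheme.ΓSpecIso (CommRingCat.of k)).inv ≫ G₁.hom.appTop).hom ∧ Function.Bijective ((Scheme.ΓSpecIso (CommRingCat.of k)).inv ≫ G₂.hom.appTop).hom := by
  obtain ⟨h1, h1c⟩ := sep_compact G₁
  obtain ⟨h2, h2c⟩ := sep_compact G₂
  have HP := GammaProd.isPushout_appTop (GammaProd.flat_appTop_field G₂.hom)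
    (IsPullback.of_hasPullback G₁.hom G₂.hom)
  simp only [← ConcreteCategory.isIso_iff_bijective, isIso_comp_left_iff]
  rw [show (G₁ ⊗ G₂).hom = pullback.fst G₁.hom G₂.hom ≫ G₁.hom from rfl, Scheme.Hom.comp_appTop]
  constructor
  · intro hI
    have key : ∀ (A : Over (Spec (CommRingCat.of k))) [GrpObj A] (s : A ⟶ G₁ ⊗ G₂) (r : G₁ ⊗ G₂ ⟶ A),
        s ≫ r = 𝟙 A → IsIso A.hom.appTop := by
      intro A _ s r hs
      have hm : IsSplitMono A.hom.appTop := ⟨⟨η[A].left.appTop, by
        rw [← Scheme.Hom.comp_appTop, Over.w η[A]]; rfl⟩⟩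
      have hI' : IsIso (G₁ ⊗ G₂).hom.appTop := by
        rw [show (G₁ ⊗ G₂).hom = pullback.fst G₁.hom G₂.hom ≫ G₁.hom from rfl, Scheme.Hom.comp_appTop]
        exact hI
      have hsr : r.left.appTop ≫ s.left.appTop = 𝟙 _ := by
        rw [← Scheme.Hom.comp_appTop, ← Over.comp_left, hs, Over.id_left, Scheme.Hom.id_appTop]
      have he : IsSplitEpi A.hom.appTop := ⟨⟨r.left.appTop ≫ inv (G₁ ⊗ G₂).hom.appTop, by
        rw [Category.assoc, show A.hom.appTop = (G₁ ⊗ G₂).hom.appTop ≫ s.left.appTop by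
          rw [← Scheme.Hom.comp_appTop, Over.w s], IsIso.inv_hom_id_assoc, hsr]⟩⟩
      exact isIso_of_mono_of_isSplitEpi _
    exact ⟨key G₁ (lift (𝟙 G₁) (toUnit G₁ ≫ η[G₂])) (fst G₁ G₂) (lift_fst _ _),
      key G₂ (lift (toUnit G₂ ≫ η[G₁]) (𝟙 G₂)) (snd G₁ G₂) (lift_snd _ _)⟩
  · rintro ⟨hI₁, hI₂⟩
    have := HP.isIso_inl_of_isIso hI₂
    infer_instance

end Groth.Agent.S18069
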