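import Groth.Statements.S18070
import Groth.Agent.AffHull.Basic
import Groth.Agent.AlgSpLib.PureMono
import Mathlib.AlgebraicGeometry.Sites.Fpqc

set_option autoImplicit false
universe u
open CategoryTheory MonoidalCategory CartesianMonoidalCategory MonObj GrpObj AlgebraicGeometry CategoryTheory.Limits
open AlgGrp

namespace Groth.Agent.S18070

/-- groups of finite type over a field are separated quasi-compact schemes -/
theorem sep_compact {k : Type u} [Field k] (G : Over (Spec (CommRingCat.of k))) [GrpObj G]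
    [LocallyOfFiniteType G.hom] [QuasiCompact G.hom] : G.left.IsSeparated ∧ CompactSpace G.left := by
  have hsep : IsSeparated G.hom := GrpField.isSeparated_hom G
  exact ⟨⟨by rw [Subsingleton.elim (terminal.from G.left) (G.hom ≫ terminal.from _)]; infer_instance⟩,
    QuasiCompact.compactSpace_of_compactSpace G.hom⟩

theorem injective_appTop {X Y : Scheme.{u}} (f : X ⟶ Y) [Flat f] [Surjective f] :
    Function.Injective f.appTop := AlgSpLib.appTop_injective_of_flat_surjective f

/-- A homomorphism killing the kernel descends along a fppf quotient. -/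
theorem exists_desc {k : Type u} [Field k] {N G Q P : Over (Spec (CommRingCat.of k))} [GrpObj G]
    [GrpObj Q] [GrpObj P] (i : N ⟶ G) (q : G ⟶ Q) [IsMonHom q] [EffectiveEpi q.left]
    (hex : AlgGrp.IsKernel i q) (f : G ⟶ P) [IsMonHom f] (hf : i ≫ f = 1) :
    ∃ d : Q ⟶ P, q ≫ d = f := by
  have key : ∀ {T : Scheme.{u}} (a b : T ⟶ G.left), a ≫ q.left = b ≫ q.left →
      a ≫ f.left = b ≫ f.left := by
    intro T a b h
    have hb : b ≫ G.hom = a ≫ G.hom := by rw [← Over.w q, reassoc_of% h]
    let A : Over.mk (a ≫ G.hom) ⟶ G := Over.homMk a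
    let B : Over.mk (a ≫ G.hom) ⟶ G := Over.homMk b hb
    have hAB : A ≫ q = B ≫ q := Over.OverMorphism.ext h
    have h1 : (A⁻¹ * B) ≫ q = toUnit _ ≫ η[Q] := by
      rw [MonObj.mul_comp, GrpObj.inv_comp, hAB, inv_mul_cancel]
      rfl
    obtain ⟨l, hl, -⟩ := hex.exists_lift (A⁻¹ * B) (toUnit _) h1
    have h2 : (A⁻¹ * B) ≫ f = 1 := by rw [← hl, Category.assoc, hf, MonObj.comp_one]
    rw [MonObj.mul_comp, GrpObj.inv_comp, inv_mul_eq_one] at h2
    exact congr($(h2).left)
  let e := EffectiveEpi.desc q.left f.left key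
  have he : q.left ≫ e = f.left := EffectiveEpi.fac _ _ _
  have hw : e ≫ P.hom = Q.hom := by
    rw [← cancel_epi q.left, reassoc_of% he, Over.w, Over.w]
  exact ⟨Over.homMk e hw, Over.OverMorphism.ext he⟩

/-- Let k be a field and 1 → G₁ → G → G₂ → 1 an exact sequence of k-group schemes of finite type with
G₁, G₂ connected (i : G₁ → G a homomorphism and closed immersion which is the kernel of the flat
surjective homomorphism q : G → G₂). Anti-affineness passes from G to the quotient G₂; in the other
direction, G is anti-affine whenever G₁ and G₂ both are. -/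
theorem result (k : Type u) [Field k]
    (G₁ G G₂ : Over (Spec (CommRingCat.of k))) [GrpObj G₁] [LocallyOfFiniteType G₁.hom] [QuasiCompact G₁.hom] [ConnectedSpace ↥G₁.left]
    [GrpObj G] [LocallyOfFiniteType G.hom] [QuasiCompact G.hom]
    [GrpObj G₂] [LocallyOfFiniteType G₂.hom] [QuasiCompact G₂.hom] [ConnectedSpace ↥G₂.left]
    (i : G₁ ⟶ G) [IsMonHom i] [IsClosedImmersion i.left] (q : G ⟶ G₂) [IsMonHom q] [Surjective q.left] [Flat q.left]
    (hex : AlgGrp.IsKernel i q) :
    (Function.Bijective ((Scheme.ΓSpecIso (CommRingCat.of k)).inv ≫ G.hom.appTop).hom → Function.Bijective ((Scheme.ΓSpecIso (CommRingCat.of k)).inv ≫ G₂.hom.appTop).hom) ∧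
    (Function.Bijective ((Scheme.ΓSpecIso (CommRingCat.of k)).inv ≫ G₁.hom.appTop).hom → Function.Bijective ((Scheme.ΓSpecIso (CommRingCat.of k)).inv ≫ G₂.hom.appTop).hom → Function.Bijective ((Scheme.ΓSpecIso (CommRingCat.of k)).inv ≫ G.hom.appTop).hom) := by
  obtain ⟨h1, h1c⟩ := sep_compact G
  obtain ⟨h2, h2c⟩ := sep_compact G₂
  constructor
  · intro hG
    simp only [← ConcreteCategory.isIso_iff_bijective, isIso_comp_left_iff] at hG ⊢
    have hm : IsSplitMono G₂.hom.appTop := ⟨⟨η[G₂].left.appTop, by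
      rw [← Scheme.Hom.comp_appTop, Over.w η[G₂]]; rfl⟩⟩
    have hmono : Mono q.left.appTop :=
      ConcreteCategory.mono_of_injective _ (injective_appTop q.left)
    have h : G₂.hom.appTop ≫ q.left.appTop = G.hom.appTop := by
      rw [← Scheme.Hom.comp_appTop, Over.w q]
    have : IsIso (G₂.hom.appTop ≫ q.left.appTop) := by rw [h]; exact hG
    have : IsSplitEpi q.left.appTop :=
      ⟨⟨inv (G₂.hom.appTop ≫ q.left.appTop) ≫ G₂.hom.appTop, by
        rw [Category.assoc, IsIso.inv_hom_id]⟩⟩
    have : IsIso q.left.appTop := isIso_of_mono_of_isSplitEpi _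
    exact IsIso.of_isIso_comp_right G₂.hom.appTop q.left.appTop
  · intro hA hB
    obtain ⟨inst, hmon⟩ := AffHull.exists_grpObj G
    let P := AffHull.hull G
    have : QuasiCompact q.left := by
      have : QuasiCompact (q.left ≫ G₂.hom) := by rw [Over.w q]; infer_instance
      exact QuasiCompact.of_comp q.left G₂.hom
    have : EffectiveEpi q.left := inferInstance
    have hi : i ≫ AffHull.toHull G = 1 := by
      rw [AffHull.eq_const_of_affine hA η[G₁] (i ≫ AffHull.toHull G), ← Category.assoc η[G₁],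
        IsMonHom.one_hom, IsMonHom.one_hom]
      rfl
    obtain ⟨d, hd⟩ := exists_desc i q hex (AffHull.toHull G) hi
    have hd0 : η[G₂] ≫ d = η[P] := by
      rw [← IsMonHom.one_hom q, Category.assoc, hd, IsMonHom.one_hom]
    have hc : d = 1 := by
      rw [AffHull.eq_const_of_affine hB η[G₂] d, hd0]
      rfl
    have ht : AffHull.toHull G = 1 := by rw [← hd, hc, MonObj.comp_one]
    simp only [← ConcreteCategory.isIso_iff_bijective, isIso_comp_left_iff]
    have hm : IsSplitMono G.hom.appTop := ⟨⟨η[G].left.appTop, by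
      rw [← Scheme.Hom.comp_appTop, Over.w η[G]]; rfl⟩⟩
    have he : IsSplitEpi G.hom.appTop := ⟨⟨inv (AffHull.toHull G).left.appTop ≫ η[P].left.appTop, by
      rw [Category.assoc, IsIso.inv_comp_eq, Category.comp_id, ← Scheme.Hom.comp_appTop, ht]
      rfl⟩⟩
    exact isIso_of_mono_of_isSplitEpi _

end Groth.Agent.S18070
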