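import Groth.Statements.S18071
import Groth.Agent.GrMax.Containing

set_option autoImplicit false
universe u
open CategoryTheory MonoidalCategory CartesianMonoidalCategory MonObj GrpObj AlgebraicGeometry CategoryTheory.Limits
open AlgGrp

namespace Groth.Agent.S18071

/-- Let F be a field with algebraic closure F̄ and M an affine smooth connected F-group. Then all F-tori
of M are trivial if and only if all F̄-tori of M_{F̄} are trivial; for such M this condition is
equivalent to M being unipotent. -/
theorem result (F : Type u) [Field F]
    (M : Over (Spec (CommRingCat.of F))) [GrpObj M] [Smooth M.hom] [QuasiCompact M.hom] [IsAffine M.left] [ConnectedSpace ↥M.left] :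
    Red.HasNoSubtorus F M ↔ Red.HasNoSubtorus (AlgebraicClosure F) (Red.bc (Spec.map (CommRingCat.ofHom (algebraMap F (AlgebraicClosure F)))) M) := by
  exact GrMax.hasNoSubtorus_bc_iff M

end Groth.Agent.S18071
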