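import Groth.Statements.S18072
import Groth.Agent.SemiCont.IsogBC
import Mathlib

set_option autoImplicit false
universe u
open CategoryTheory MonoidalCategory CartesianMonoidalCategory MonObj GrpObj AlgebraicGeometry CategoryTheory.Limits
open AlgGrp
set_option backward.isDefEq.respectTransparency false
set_option synthInstance.maxHeartbeats 400000
set_option maxHeartbeats 1000000

namespace Groth.Agent.S18072

/-- Let F be a field and f : G → H an isogeny between affine smooth connected F-groups (a surjective
homomorphism with finite kernel, i.e. surjective and finite). Then each of the properties unipotent,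
solvable, nilpotent and commutative holds for G exactly when it holds for H; here unipotence is
expressed as: the base change to an algebraic closure contains no non-trivial subtorus, solvable and
nilpotent through the derived and upper central series of the groups of points. -/
theorem result (F : Type u) [Field F]
    (G H : Over (Spec (CommRingCat.of F))) [GrpObj G] [Smooth G.hom] [QuasiCompact G.hom] [IsAffine G.left] [ConnectedSpace ↥G.left]
    [GrpObj H] [Smooth H.hom] [QuasiCompact H.hom] [IsAffine H.left] [ConnectedSpace ↥H.left]
    (f : G ⟶ H) [IsMonHom f] [Surjective f.left] [IsFinite f.left] :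
    (Red.HasNoSubtorus (AlgebraicClosure F) (Red.bc (Spec.map (CommRingCat.ofHom (algebraMap F (AlgebraicClosure F)))) G) ↔ Red.HasNoSubtorus (AlgebraicClosure F) (Red.bc (Spec.map (CommRingCat.ofHom (algebraMap F (AlgebraicClosure F)))) H)) ∧
    (Red.IsSolvableGrp G ↔ Red.IsSolvableGrp H) ∧ (AGF.IsNilpotentGrp G ↔ AGF.IsNilpotentGrp H) ∧
    (IsCommMonObj G ↔ IsCommMonObj H) := by
  let L := AlgebraicClosure F
  let GK := Red.bc (Groth.Agent.AVDeg.specMap F L) G
  let HK := Red.bc (Groth.Agent.AVDeg.specMap F L) H
  let fL : GK ⟶ HK := (Over.pullback (Groth.Agent.AVDeg.specMap F L)).map f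
  haveI : Surjective fL.left := MorphismProperty.overPullbackMap (P := @Surjective) _ f inferInstance
  haveI : IsFinite fL.left := MorphismProperty.overPullbackMap (P := @IsFinite) _ f inferInstance
  haveI : Smooth GK.hom := Chev.smooth_bcK L
  haveI : Smooth HK.hom := Chev.smooth_bcK L
  haveI : QuasiCompact GK.hom := Chev.quasiCompact_bcK L
  haveI : QuasiCompact HK.hom := Chev.quasiCompact_bcK L
  haveI : ConnectedSpace GK.left := Chev.connectedSpace_bcK L
  haveI : IsAffine GK.left := Chev.isAffine_bcK L
  haveI : IsAffine HK.left := Chev.isAffine_bcK L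
  haveI : IsMonHom fL := inferInstance
  refine ⟨SemiCont.hasNoSubtorus_iff fL, ?_, ?_, ?_⟩
  · rw [SemiCont.isSolvableGrp_iff_rp L G, SemiCont.isSolvableGrp_iff_rp L H]
    exact SemiCont.isSolvable_iff fL
  · rw [SemiCont.isNilpotentGrp_iff_rp L G, SemiCont.isNilpotentGrp_iff_rp L H]
    exact SemiCont.isNilpotent_iff fL
  · rw [SemiCont.isCommMonObj_iff_rp L G, SemiCont.isCommMonObj_iff_rp L H]
    exact SemiCont.comm_iff fL

end Groth.Agent.S18072
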