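import Groth.Statements.S18075
import Groth.Agent.Chev.AntiMinimal
import Groth.Agent.Chev.AffInter
import Groth.Agent.S3293
import Groth.Agent.GrpField.SchImgSmooth

set_option autoImplicit false
universe u
open CategoryTheory MonoidalCategory CartesianMonoidalCategory MonObj GrpObj AlgebraicGeometry CategoryTheory.Limits
open AlgGrp

namespace Groth.Agent.S18075
open Groth.Agent

/-- Let k be a field and G a non-trivial anti-affine k-group scheme of finite type, and let i : N → G be
a connected affine closed subgroup scheme which is the kernel of a flat surjective homomorphism q :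
G → A onto an abelian variety A (for instance N = G_aff and A = G/G_aff, but any such N is allowed).
Then G has no anti-affine closed subgroup scheme other than G and the trivial group if and only if
the abelian variety A is simple (every smooth connected closed subgroup scheme of A is trivial or
equal to A). -/
theorem result (k : Type u) [Field k]
    (G : Over (Spec (CommRingCat.of k))) [GrpObj G] [LocallyOfFiniteType G.hom] [QuasiCompact G.hom] (hG : ¬ Red.IsTrivialGrp G)
    (hGa : Function.Bijective ((Scheme.ΓSpecIso (CommRingCat.of k)).inv ≫ G.hom.appTop).hom)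
    (N A : Over (Spec (CommRingCat.of k))) [GrpObj N] [GrpObj A] (i : N ⟶ G) [IsMonHom i] [IsClosedImmersion i.left]
    [IsAffine N.left] [ConnectedSpace ↥N.left]
    (q : G ⟶ A) [IsMonHom q] [Surjective q.left] [Flat q.left] [IsProper A.hom] [Smooth A.hom] [ConnectedSpace ↥A.left]
    (hq : AlgGrp.IsKernel i q) :
    (∀ (H : Over (Spec (CommRingCat.of k))) [GrpObj H] (h : H ⟶ G) [IsMonHom h] [IsClosedImmersion h.left], ¬ IsIso h → Function.Bijective ((Scheme.ΓSpecIso (CommRingCat.of k)).inv ≫ H.hom.appTop).hom → Red.IsTrivialGrp H) ↔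
    (∀ (B : Over (Spec (CommRingCat.of k))) [GrpObj B] (b : B ⟶ A) [IsMonHom b] [IsClosedImmersion b.left], Smooth B.hom → ConnectedSpace ↥B.left → IsIso b ∨ Red.IsTrivialGrp B) := by
  haveI : ConnectedSpace G.left := (S3293.result k G hGa).1
  haveI : Mono i := GrpField.SchImg.mono_of_isClosedImmersion i
  haveI : IsSeparated A.hom := inferInstance
  constructor
  · intro hmin B _ b _ _ hBs hBc
    haveI := hBs; haveI := hBc
    haveI : IsProper B.hom := by rw [← Over.w b]; infer_instance
    haveI : Mono b := GrpField.SchImg.mono_of_isClosedImmersion b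
    let P : Over (Spec (CommRingCat.of k)) := Over.mk (Limits.pullback.fst q.left b.left ≫ G.hom)
    let a : P ⟶ G := Over.homMk (Limits.pullback.fst q.left b.left) rfl
    let c : P ⟶ B := Over.homMk (Limits.pullback.snd q.left b.left) (by
      show Limits.pullback.snd q.left b.left ≫ B.hom = Limits.pullback.fst q.left b.left ≫ G.hom
      rw [← Over.w b, ← Limits.pullback.condition_assoc, Over.w q])
    have hab : a ≫ q = c ≫ b := Over.OverMorphism.ext Limits.pullback.condition
    haveI : IsClosedImmersion a.left := inferInstanceAs (IsClosedImmersion (Limits.pullback.fst q.left b.left))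
    haveI : Surjective c.left := MorphismProperty.pullback_snd _ _ ‹Surjective q.left›
    have hlift : ∀ {S : Over (Spec (CommRingCat.of k))} (x : S ⟶ G) (y : S ⟶ B), x ≫ q = y ≫ b →
        ∃ w : S ⟶ P, w ≫ a = x ∧ w ≫ c = y := fun {S} x y h =>
      ⟨Over.homMk (Limits.pullback.lift x.left y.left (congrArg (fun φ => φ.left) h)) (by
        show Limits.pullback.lift _ _ _ ≫ Limits.pullback.fst _ _ ≫ G.hom = _
        rw [Limits.pullback.lift_fst_assoc, Over.w]),
        Over.OverMorphism.ext (Limits.pullback.lift_fst _ _ _), Over.OverMorphism.ext (Limits.pullback.lift_snd _ _ _)⟩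
    obtain ⟨hP, hPm⟩ := GrpField.SchImg.exists_grpObj_of_div a
      (by
        obtain ⟨w, hw, -⟩ := hlift η[G] η[B] (by rw [IsMonHom.one_hom, IsMonHom.one_hom])
        exact ⟨w, hw⟩)
      fun S x y => by
        obtain ⟨w, hw, -⟩ := hlift ((x ≫ a)⁻¹ * (y ≫ a)) ((x ≫ c)⁻¹ * (y ≫ c)) (by
          simp only [MonObj.mul_comp, GrpObj.inv_comp, Category.assoc, hab])
        exact ⟨w, hw⟩
    letI : GrpObj P := hP
    haveI := hPm
    haveI : LocallyOfFiniteType P.hom := by rw [← Over.w a]; infer_instance
    haveI : QuasiCompact P.hom := by rw [← Over.w a]; infer_instance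
    haveI : IsMonHom (c ≫ b) := by rw [← hab]; infer_instance
    haveI := Chev.isMonHom_of_comp c b
    obtain ⟨D, hD, d, hdm, hdc, hDa, hds⟩ := Chev.surjective_anti_to_proper c
    haveI := hdm; haveI := hdc; haveI := hds
    haveI : IsClosedImmersion (d ≫ a).left := by rw [Over.comp_left]; infer_instance
    by_cases hi : IsIso (d ≫ a)
    · left
      haveI : Surjective b.left := by
        have e : inv (d ≫ a) ≫ (d ≫ c) ≫ b = q := by
          rw [Category.assoc, ← hab, ← Category.assoc d a q, IsIso.inv_hom_id_assoc]
        haveI hq' : Surjective ((inv (d ≫ a) ≫ (d ≫ c)).left ≫ b.left) := by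
          rw [← Over.comp_left, Category.assoc, e]; infer_instance
        exact Surjective.of_comp (inv (d ≫ a) ≫ (d ≫ c)).left b.left
      haveI : AlgebraicGeometry.IsReduced A.left := SmoothRed.isReduced_of_smooth_scheme A.hom
      haveI : IsIso b.left := isIso_of_isClosedImmersion_of_surjective b.left
      haveI : IsIso ((Over.forget _).map b) := ‹IsIso b.left›
      exact isIso_of_reflects_iso b (Over.forget _)
    · right
      haveI : IsIso D.hom := hmin D (d ≫ a) hi hDa
      haveI : Surjective η[B].left := by
        have e : d ≫ c = toUnit D ≫ η[B] := by rw [Chev.eq_one_of_isIso_hom (d ≫ c), Hom.one_def]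
        haveI : Surjective ((toUnit D).left ≫ η[B].left) := by rw [← Over.comp_left, ← e]; infer_instance
        exact Surjective.of_comp (toUnit D).left η[B].left
      haveI := GrpField.isClosedImmersion_eta B
      haveI : AlgebraicGeometry.IsReduced B.left := SmoothRed.isReduced_of_smooth_scheme B.hom
      haveI : IsIso η[B].left := isIso_of_isClosedImmersion_of_surjective η[B].left
      haveI : IsIso (η[B].left ≫ B.hom) := by
        rw [Over.w η[B]]; exact inferInstanceAs (IsIso (𝟙 (Spec (CommRingCat.of k))))
      exact IsIso.of_isIso_comp_left η[B].left B.hom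
  · intro hsimple H _ h _ _ hh hH
    haveI : LocallyOfFiniteType H.hom := by rw [← Over.w h]; infer_instance
    haveI : QuasiCompact H.hom := by rw [← Over.w h]; infer_instance
    haveI : Smooth H.hom := Chev.smooth_of_anti H hH
    haveI : ConnectedSpace H.left := (S3293.result k H hH).1
    haveI : Mono h := GrpField.SchImg.mono_of_isClosedImmersion h
    haveI : QuasiCompact (h ≫ q).left := by
      haveI : QuasiCompact ((h ≫ q).left ≫ A.hom) := by rw [Over.w]; infer_instance
      exact QuasiCompact.of_comp _ A.hom
    obtain ⟨K, hK, b, g, hbm, hgm, hgb, hbc, hgd, hgq, hgs⟩ := GrpField.SchImg.exists_image (h ≫ q)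
    haveI := hbm; haveI := hgm; haveI := hbc; haveI := hgd; haveI := hgq; haveI := hgs
    haveI : LocallyOfFiniteType K.hom := by rw [← Over.w b]; infer_instance
    haveI := GrpField.SchImg.geometricallyReduced_of_smooth H.hom
    haveI := GrpField.SchImg.geometricallyReduced_of_schDom g
    letI : GrpObj (Over.mk K.hom) := hK
    haveI : Smooth K.hom := smooth_of_grpObj K.hom
    haveI : ConnectedSpace K.left := g.left.surjective.connectedSpace g.left.continuous
    rcases hsimple K b inferInstance inferInstance with hb | hb
    · exfalso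
      haveI : Surjective (h ≫ q).left := by
        haveI : IsIso b.left := (Over.forget _).map_isIso b
        rw [← hgb, Over.comp_left]; infer_instance
      have hn : AlgGrp.IsNormalHom i := fun T x n => by
        have h1 : (x * (n ≫ i) * x⁻¹) ≫ q = toUnit T ≫ η[A] := by
          rw [MonObj.mul_comp, MonObj.mul_comp, GrpObj.inv_comp, Category.assoc, hq.w, comp_toUnit_assoc,
            ← Hom.one_def, _root_.mul_one, mul_inv_cancel]
        exact ⟨hq.lift _ _ h1, (hq.lift_fst _ _ _).symm⟩
      haveI := Chev.surjective_mul_of_surjective_comp i q hq h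
      haveI := Chev.surjective_mul_swap i hn h
      haveI : IsClosedImmersion (𝟙 G : G ⟶ G).left := by rw [Over.id_left]; infer_instance
      obtain ⟨s, hs⟩ := Chev.exists_factor_anti i q hq (𝟙 G) hGa
        (fun M' _ _ _ j' _ _ _ => ⟨j', Category.comp_id _⟩) h inferInstance
      haveI : IsIso (s ≫ h) := by rw [hs]; infer_instance
      exact hh (Chev.isIso_of_isIso_comp s h)
    · haveI : IsIso K.hom := hb
      have hhq : h ≫ q = 1 := by rw [← hgb, Chev.eq_one_of_isIso_hom b, MonObj.comp_one]
      have h1 : h ≫ q = toUnit H ≫ η[A] := by rw [hhq, Hom.one_def]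
      obtain ⟨w, hw⟩ : ∃ w, w ≫ i = h := ⟨hq.lift _ _ h1, hq.lift_fst _ _ _⟩
      haveI : IsMonHom (w ≫ i) := by rw [hw]; infer_instance
      haveI := Chev.isMonHom_of_comp w i
      have hone : h = 1 := by rw [← hw, Chev.eq_one_of_anti hH w, MonObj.one_comp]
      have hid : 𝟙 H = toUnit H ≫ η[H] := by
        rw [← cancel_mono h, Category.id_comp, Category.assoc, IsMonHom.one_hom, ← Hom.one_def, hone]
      refine ⟨⟨η[H].left, ?_, Over.w η[H]⟩⟩
      exact (congrArg (fun φ : H ⟶ H => φ.left) hid).symm


end Groth.Agent.S18075
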