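import Groth.Statements.S1808
import Groth.Agent.DCohShriek.DualModule
import Groth.Agent.DCohShriek.AdjointShift
import Groth.Agent.FibVan.Main
import Groth.Agent.DualCx.Apps
-- import your own Groth.Agent.* helpers here

set_option autoImplicit false
set_option backward.isDefEq.respectTransparency false
set_option backward.isDefEq.respectTransparency.types false
set_option maxHeartbeats 1000000
universe u
open CategoryTheory CategoryTheory.Limits AlgebraicGeometry
attribute [local instance] HasDerivedCategory.standard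
open Dual

open Groth.Agent
attribute [local instance] HasDerivedCategory.standard

namespace Groth.Agent.S1808

/-- Let A be a Noetherian local ring with normalized dualizing complex ω_A^• and ω_A = H^{−dim
A}(ω_A^•); let X be proper over Spec A with Rf_* on D_QCoh assumed to exist and to preserve
quasi-coherence of cohomology, a a right adjoint of it, and W an object of D_QCoh(Spec A) isomorphic
to the derived tilde of ω_A^• (tilde assumed left exact). Put ω_X = H^{−dim X}(a(W)). Let d be the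
dimension of the closed fibre and suppose dim X = d + dim A. Then there is an A-linear map t :
H^d(X, ω_X) → ω_A such that for every coherent O_X-module F and every A-linear ψ : H^d(X, F) → ω_A
there is exactly one φ : F → ω_X with ψ = t ∘ H^d(φ); that is, ω_X represents F ↦ Hom_A(H^d(X, F),
ω_A). -/
theorem result (A : Type u) [CommRing A] [IsLocalRing A] [IsNoetherianRing A] (ω : Dual.D A) (hω : Dual.IsDualizing A ω) (hn : Dual.IsNormalized A ω) (dA : ℕ) (hdA : ringKrullDim A = dA) (X : Scheme.{u}) [X.Over (Spec (CommRingCat.of A))] [IsProper (X ↘ Spec (CommRingCat.of A))] [DCoh.HasRpush (X ↘ Spec (CommRingCat.of A))] (h : ∀ K : DCoh.D X, DCoh.IsQCohD K → DCoh.IsQCohD ((DCoh.Rpush (X ↘ Spec (CommRingCat.of A))).obj K)) (a : DCoh.DQCoh (Spec (CommRingCat.of A)) ⥤ DCoh.DQCoh X) (adj : (ObjectProperty.lift DCoh.IsQCohD (ObjectProperty.ι DCoh.IsQCohD ⋙ DCoh.Rpush (X ↘ Spec (CommRingCat.of A))) (fun K => h K.obj K.property)) ⊣ a) [PreservesFiniteLimits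 (tilde.functor (CommRingCat.of A))] (W : DCoh.DQCoh (Spec (CommRingCat.of A))) (hW : Nonempty (W.obj ≅ (DCoh.tildeD (CommRingCat.of A)).obj ω)) (dX d : ℕ) (hdX : topologicalKrullDim X = dX) (hd : topologicalKrullDim ((X ↘ Spec (CommRingCat.of A)).fiber (IsLocalRing.closedPoint A)) = d) (hdim : dX = d + dA) : ∃ t : Coh.HH X (DCoh.HD (a.obj W).obj (-(dX : ℤ))) d →ₗ[A] Dual.HD A ω (-(dA : ℤ)), ∀ (F : X.Modules), Coh.IsCoh F → ∀ ψ : Coh.HH X F d →ₗ[A] Dual.HD A ω (-(dA : ℤ)), ∃! φ : F ⟶ DCoh.HD (a.obj W).obj (-(dX : ℤ)), ∀ x : Coh.HH X F d, ψ x = t (Sheaf.H.map ((SheafOfModules.toSheaf X.ringCatSheaf).map φ) d x) := by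
  haveI := DCohShriek.isNoetherian_of_proper (X ↘ Spec (CommRingCat.of A))
  obtain ⟨eW⟩ := hW
  have hlow : ω.IsGE (-(dA : ℤ)) := DualCx.isGE_of_low fun i hi => by
    by_contra hc
    rw [not_subsingleton_iff_nontrivial] at hc
    haveI : Nontrivial (DualCx.T ω A i) := (DualCx.homEquiv ω i).toEquiv.nontrivial
    have := (DualCx.mem_bounds (M := A) hω hn dA (by rw [Module.supportDim_self_eq_ringKrullDim, hdA])
      (i := i) inferInstance).1
    omega
  haveI := hlow
  let ω₀ : Dual.D A := ω⟦-(dA : ℤ)⟧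
  haveI : ω₀.IsGE 0 := DerivedCategory.TStructure.t.isGE_shift ω (-(dA : ℤ)) (-(dA : ℤ)) 0 (by omega)
  let e₀ : Dual.HD A ω₀ 0 ≃ₗ[A] Dual.HD A ω (-(dA : ℤ)) :=
    (((DerivedCategory.homologyFunctor (ModuleCat.{u} A) 0).shiftIso (-(dA : ℤ)) 0 (-(dA : ℤ)) (by omega)).app ω).toLinearEquiv
  have hvan : ∀ (F : X.Modules), Coh.IsQCoh F → ∀ p : ℕ, d < p → Subsingleton (Coh.HH X F p) := fun F hF p hp => by
    haveI : F.IsQuasicoherent := hF
    exact FibVan.subsingleton_hh d hd.le F p hp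
  obtain ⟨c⟩ := DCohShriek.nonempty_adjoint_shift (hf := h) adj W ((DCohShriek.tildeQ A).obj ω₀) (-(dA : ℤ))
    ((DCoh.tildeD (CommRingCat.of A)).mapIso (Iso.refl ω₀) ≪≫
      ((DCoh.tildeD (CommRingCat.of A)).commShiftIso (-(dA : ℤ))).app ω ≪≫
      (shiftFunctor (DCoh.D (Spec (CommRingCat.of A))) (-(dA : ℤ))).mapIso eW.symm)
  let eX : DCoh.HD (a.obj ((DCohShriek.tildeQ A).obj ω₀)).obj (-(d : ℤ)) ≅ DCoh.HD (a.obj W).obj (-(dX : ℤ)) :=
    (DerivedCategory.homologyFunctor X.Modules (-(d : ℤ))).mapIso c ≪≫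
      ((DerivedCategory.homologyFunctor X.Modules 0).shiftIso (-(dA : ℤ)) (-(d : ℤ)) (-(dX : ℤ)) (by omega)).app (a.obj W).obj
  have hq : Coh.IsQCoh (DCoh.HD (a.obj ((DCohShriek.tildeQ A).obj ω₀)).obj (-(d : ℤ))) :=
    (a.obj ((DCohShriek.tildeQ A).obj ω₀)).property _
  obtain ⟨t, ht⟩ := DCohShriek.exists_trace (hf := h) adj d hvan ω₀ hq
  refine ⟨e₀.toLinearMap.comp (t.comp (CohFinite.hhMap A eX.inv d)), fun F hF ψ => ?_⟩
  obtain ⟨φ, hφ, huniq⟩ := ht F hF.1 (e₀.symm.toLinearMap.comp ψ)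
  have key : ∀ (φ' : F ⟶ DCoh.HD (a.obj W).obj (-(dX : ℤ))) (x : Coh.HH X F d),
      CohFinite.hhMap A eX.inv d (Sheaf.H.map ((SheafOfModules.toSheaf X.ringCatSheaf).map φ') d x) =
        Sheaf.H.map ((SheafOfModules.toSheaf X.ringCatSheaf).map (φ' ≫ eX.inv)) d x := fun φ' x => by
    rw [Functor.map_comp, Sheaf.H.map_comp_apply]
    rfl
  refine ⟨φ ≫ eX.hom, fun x => ?_, fun φ' hφ' => ?_⟩
  · refine Eq.trans ?_ (congrArg (fun z => e₀ (t z)) (key (φ ≫ eX.hom) x)).symm
    rw [Category.assoc, Iso.hom_inv_id, Category.comp_id]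
    exact (e₀.apply_symm_apply (ψ x)).symm.trans (congrArg e₀ (hφ x))
  · rw [← Iso.comp_inv_eq]
    refine huniq _ fun x => ?_
    refine Eq.trans ?_ (congrArg t (key φ' x))
    exact (congrArg e₀.symm (hφ' x)).trans (e₀.symm_apply_apply _)

end Groth.Agent.S1808
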