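import Groth.Statements.S18082
import Groth.Agent.LimGrp.Normal
import Groth.Agent.NeronGen.Dense
import Mathlib

set_option autoImplicit false
universe u
open CategoryTheory MonoidalCategory CartesianMonoidalCategory MonObj GrpObj AlgebraicGeometry CategoryTheory.Limits
open AlgGrp
set_option backward.isDefEq.respectTransparency false

namespace Groth.Agent.S18082

/-- finite powers of a scheme -/
noncomputable def pw {S : Scheme.{u}} (G : Over S) : ℕ → Over S
  | 0 => 𝟙_ (Over S)
  | n + 1 => G ⊗ pw G n

theorem flat_pw {S : Scheme.{u}} (G : Over S) [Flat G.hom] : ∀ n, Flat (pw G n).hom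
  | 0 => inferInstanceAs (Flat (𝟙 S))
  | n + 1 => by
    haveI := flat_pw G n
    show Flat (G ⊗ pw G n).hom
    rw [Over.tensorObj_hom]
    infer_instance

/-- A functorial subgroup of the points vanishes as soon as it does on the universal tuples. -/
theorem all_eq_bot {S : Scheme.{u}} (F : ∀ (H : Type u) [Group H], Subgroup H)
    (hmap : ∀ {H H' : Type u} [Group H] [Group H'] (φ : H →* H'), ∀ x ∈ F H, φ x ∈ F H')
    (hsurj : ∀ {H H' : Type u} [Group H] [Group H'] (φ : H →* H'), Function.Surjective φ → F H' ≤ (F H).map φ)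
    {G : Over S} [GrpObj G] [Flat G.hom] (h : ∀ (P : Over S) [Flat P.hom] (x : P ⟶ G), x ∈ F (P ⟶ G) → x = 1)
    (T : Over S) : F (T ⟶ G) = ⊥ := by
  classical
  rw [eq_bot_iff]
  intro g hg
  obtain ⟨w, hw, rfl⟩ := hsurj (FreeGroup.lift (id : (T ⟶ G) → (T ⟶ G)))
    (fun x => ⟨FreeGroup.of x, FreeGroup.lift_apply_of⟩) hg
  obtain ⟨L0, rfl⟩ := Quot.exists_rep w
  have huniv : ∀ L : List (T ⟶ G), ∃ (n : ℕ) (t : T ⟶ pw G n) (φ : (T ⟶ G) → (pw G n ⟶ G)),
      ∀ a ∈ L, t ≫ φ a = a := fun L => by
    induction L with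
    | nil => exact ⟨0, toUnit T, fun _ => 1, by simp⟩
    | cons a L ih =>
      obtain ⟨n, t, φ, hφ⟩ := ih
      refine ⟨n + 1, lift a t, fun b => if b = a then fst G (pw G n) else snd G (pw G n) ≫ φ b, fun b hb => ?_⟩
      show lift a t ≫ (if b = a then fst G (pw G n) else snd G (pw G n) ≫ φ b) = b
      split_ifs with h
      · rw [h, lift_fst]
      · rw [lift_snd_assoc]
        exact hφ b ((List.mem_cons.1 hb).resolve_left h)
  obtain ⟨n, t, φ, hφ⟩ := huniv (L0.map Prod.fst)
  haveI := flat_pw G n
  have h1 : FreeGroup.lift φ (FreeGroup.mk L0) = 1 := h _ _ (hmap (FreeGroup.lift φ) _ hw)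
  let pre : (pw G n ⟶ G) →* (T ⟶ G) :=
    { toFun := fun x => t ≫ x, map_one' := MonObj.comp_one t, map_mul' := fun x y => MonObj.comp_mul t x y }
  have e : FreeGroup.lift (id : (T ⟶ G) → (T ⟶ G)) (FreeGroup.mk L0) = pre (FreeGroup.lift φ (FreeGroup.mk L0)) := by
    rw [FreeGroup.lift_mk, FreeGroup.lift_mk, map_list_prod, List.map_map]
    congr 1
    refine List.map_congr_left fun x hx => ?_
    have hx' : pre (φ x.1) = x.1 := hφ x.1 (List.mem_map.2 ⟨x, hx, rfl⟩)
    cases hb : x.2 <;> simp [hb, hx']
  rw [Subgroup.mem_bot]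
  refine e.trans ?_
  rw [h1, map_one]

/-- A is a discrete valuation ring, with K denoting its field of fractions and k its residue field, and
G is an A-group scheme that is flat, separated and of finite presentation. If the generic fibre G_K
is nilpotent then the special fibre G_k is nilpotent; if G_K is solvable then G_k is solvable. (The
published statement does not require G separated over A; gluing copies of Spec A indexed by a finite
non-nilpotent, resp. non-solvable, group along their common generic point gives a flat group scheme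
of finite presentation with trivial generic fibre and that constant group as special fibre, so G is
taken separated here, the case covered by the density argument of the published proof.) -/
theorem result (A : Type u) [CommRing A] [IsDomain A] [IsDiscreteValuationRing A]
    (K : Type u) [Field K] [Algebra A K] [IsFractionRing A K]
    (G : Over (Spec (CommRingCat.of A))) [GrpObj G] [Flat G.hom] [LocallyOfFinitePresentation G.hom] [QuasiCompact G.hom]
    [IsSeparated G.hom] :
    (AGF.IsNilpotentGrp (Red.bc (Spec.map (CommRingCat.ofHom (algebraMap A K))) G) → AGF.IsNilpotentGrp (Red.bc (Spec.map (CommRingCat.ofHom (algebraMap A (IsLocalRing.ResidueField A)))) G)) ∧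
    (Red.IsSolvableGrp (Red.bc (Spec.map (CommRingCat.ofHom (algebraMap A K))) G) → Red.IsSolvableGrp (Red.bc (Spec.map (CommRingCat.ofHom (algebraMap A (IsLocalRing.ResidueField A)))) G)) := by
  classical
  let jK := Spec.map (CommRingCat.ofHom (algebraMap A K))
  let jk := Spec.map (CommRingCat.ofHom (algebraMap A (IsLocalRing.ResidueField A)))
  have key : ∀ (F : ∀ (H : Type u) [Group H], Subgroup H)
      (_ : ∀ {H H' : Type u} [Group H] [Group H'] (φ : H →* H'), ∀ x ∈ F H, φ x ∈ F H')
      (_ : ∀ {H H' : Type u} [Group H] [Group H'] (φ : H →* H'), Function.Surjective φ → F H' ≤ (F H).map φ),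
      (∀ T, F (T ⟶ Red.bc jK G) = ⊥) → ∀ T, F (T ⟶ Red.bc jk G) = ⊥ := by
    intro F hmap hsurj hK T
    rw [eq_bot_iff]
    intro g hg
    rw [Subgroup.mem_bot]
    have h1 := all_eq_bot F hmap hsurj (G := G) (fun P _ h hh => ?_) ((Over.map jk).obj T)
    · have h2 := hmap (LimGrp.bcMulEquiv jk T G).symm.toMonoidHom g hg
      rw [h1, Subgroup.mem_bot] at h2
      exact (LimGrp.bcMulEquiv jk T G).symm.map_eq_one_iff.1 h2
    · refine NeronGen.ext A h 1 ?_
      let σ : Spec (CommRingCat.of (FractionRing A)) ⟶ Spec (CommRingCat.of K) :=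
        Spec.map (CommRingCat.ofHom (FractionRing.algEquiv A K).symm.toAlgHom.toRingHom)
      have hσ : σ ≫ jK = Neron.genPt A := by
        rw [← Spec.map_comp]
        congr 1
        ext x
        exact (FractionRing.algEquiv A K).symm.commutes x
      have hbot : ∀ T', F (T' ⟶ Red.bc (Neron.genPt A) G) = ⊥ := fun T' => by
        let e := ((LimGrp.bcMulEquiv jK ((Over.map σ).obj T') G).symm.trans
          (LimGrp.reMulEquiv hσ T' G)).trans (LimGrp.bcMulEquiv (Neron.genPt A) T' G)
        rw [eq_bot_iff]
        intro z hz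
        have h4 := hmap e.symm.toMonoidHom z hz
        rw [hK, Subgroup.mem_bot] at h4
        exact Subgroup.mem_bot.2 (e.symm.map_eq_one_iff.1 h4)
      let ψ : (P ⟶ G) →* ((Neron.genericFibre A).obj P ⟶ Red.bc (Neron.genPt A) G) :=
        MonoidHom.mk' (fun x => (Over.pullback (Neron.genPt A)).map x)
          (fun x y => Functor.map_mul (Over.pullback (Neron.genPt A)) x y)
      have h5 := hmap ψ h hh
      rw [hbot, Subgroup.mem_bot] at h5
      exact h5.trans ψ.map_one.symm
  constructor
  · rintro ⟨n, hn⟩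
    refine ⟨n, fun T => Subgroup.lowerCentralSeries_eq_bot_iff_upperCentralSeries_eq_top.1 ?_⟩
    refine key (fun H _ => Subgroup.lowerCentralSeries (⊤ : Subgroup H) n) (fun φ x hx => ?_) (fun φ hφ => ?_)
      (fun X => Subgroup.lowerCentralSeries_eq_bot_iff_upperCentralSeries_eq_top.2 (hn X)) T
    · have := Subgroup.map_lowerCentralSeries (S := ⊤) φ n
      have hx' : φ x ∈ (Subgroup.lowerCentralSeries (⊤ : Subgroup _) n).map φ := ⟨x, hx, rfl⟩
      rw [this] at hx'
      exact (Subgroup.lowerCentralSeries_mono n le_top) hx'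
    · rw [Subgroup.map_lowerCentralSeries, Subgroup.map_top_of_surjective φ hφ]
  · rintro ⟨n, hn⟩
    exact ⟨n, key (fun H _ => derivedSeries H n)
      (fun φ x hx => map_derivedSeries_le_derivedSeries φ n ⟨x, hx, rfl⟩)
      (fun φ hφ => (map_derivedSeries_eq hφ n).ge) hn⟩

end Groth.Agent.S18082
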