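import Groth.Statements.S18084
import Groth.Agent.SemiCont.DerivedMain
import Groth.Agent.GrpDim.Translate
import Groth.Agent.GrpDim.Flat
import Groth.Agent.MTImage.RankSemicont
import Mathlib

set_option autoImplicit false
universe u
open CategoryTheory MonoidalCategory CartesianMonoidalCategory MonObj GrpObj AlgebraicGeometry CategoryTheory.Limits
open AlgGrp
set_option backward.isDefEq.respectTransparency false
set_option synthInstance.maxHeartbeats 400000
set_option maxHeartbeats 1000000

namespace Groth.Agent.S18084

/-- Let S be a scheme and G a smooth S-group scheme of finite presentation; for s ∈ S let d_ab(s) be the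
dimension of the abelianization of the geometric fibre of G at s, i.e. the dimension of that fibre
minus the dimension of its derived group (the least dimension of a closed normal subgroup scheme
containing all commutators of points). Then d_ab does not decrease under specialization: for every
natural number n, if s specializes to s' (that is, s' lies in the closure of s) and d_ab(s) ≥ n,
then d_ab(s') ≥ n. (The published statement asserts that d_ab is upper semicontinuous on S, i.e.
that the set of points s with d_ab(s) ≥ n is closed; the published argument reduces to the spectrum
of an integral local ring and establishes that this set is stable under specialization, which is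
what is stated here. Closedness would in addition need the set to be locally constructible, which
the argument does not address.) -/
theorem result (S : Scheme.{u}) (G : Over S) [GrpObj G]
    [Smooth G.hom] [QuasiCompact G.hom] [QuasiSeparated G.hom] (n : ℕ) :
    StableUnderSpecialization {s : ↥S | ∃ (N : Over (Spec (CommRingCat.of (AlgebraicClosure (S.residueField s))))) (_ : GrpObj N)
      (i : N ⟶ Red.geomFibre s G), IsMonHom i ∧ IsClosedImmersion i.left ∧ AlgGrp.IsNormalHom i ∧
      (∀ (T : Over (Spec (CommRingCat.of (AlgebraicClosure (S.residueField s))))) (g h : T ⟶ Red.geomFibre s G),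
        ∃ m : T ⟶ N, g * h * g⁻¹ * h⁻¹ = m ≫ i) ∧
      (n : WithBot ℕ∞) + topologicalKrullDim ↥N.left ≤ topologicalKrullDim ↥(Red.geomFibre s G).left} := by
  rintro s s' hs ⟨N, gN, i, him, hic, -, hcm, hn⟩
  obtain ⟨N', gN', i', hm', hc', hn', hcm', hd⟩ :=
    SemiCont.exists_normal_of_specializes G hs N i (fun x y => hcm _ x y)
  have hdim : topologicalKrullDim ↥(Red.geomFibre s G).left = topologicalKrullDim ↥(Red.geomFibre s' G).left := by
    have hp : ∀ t : S, Red.geomPt t (IsLocalRing.closedPoint _) = t := fun t => by
      show (Spec.map _ ≫ S.fromSpecResidueField t) _ = t
      rw [Scheme.Hom.comp_apply]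
      exact Scheme.fromSpecResidueField_apply t _
    show topologicalKrullDim ↥(Red.bc (Red.geomPt s) G).left = topologicalKrullDim ↥(Red.bc (Red.geomPt s') G).left
    rw [MTImage.dim_bc_point, MTImage.dim_bc_point, hp, hp]
    exact GrpDim.eq_of_specializes (GrpDim.isLocallyConstant_dim G) hs
  exact ⟨N', gN', i', hm', hc', hn', hcm', (add_le_add le_rfl hd).trans (hn.trans hdim.le)⟩

end Groth.Agent.S18084
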