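import Groth.Statements.S1809
import Groth.Agent.DualSch.Chart

set_option autoImplicit false
universe u
open CategoryTheory CategoryTheory.Limits AlgebraicGeometry
attribute [local instance] HasDerivedCategory.standard
open Dual

namespace Groth.Agent.S1809

/-- Let X be a locally Noetherian scheme and ω a dualizing complex on X (affine-locally the derived
tilde of a dualizing complex of the ring; exactness of restriction of module sheaves to opens and of
M ↦ M~ is assumed through instance binders). Then for every point x the local ring O_{X,x} is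
Cohen–Macaulay if and only if exactly one cohomology sheaf of ω has nonzero stalk at x; and the set
of points whose local ring is Cohen–Macaulay is open. -/
theorem result (X : Scheme.{u}) [IsLocallyNoetherian X] [∀ (U : Scheme.{u}) (j : U ⟶ X) [IsOpenImmersion j], PreservesFiniteLimits (Scheme.Modules.restrictFunctor j)] [∀ (R : CommRingCat.{u}), PreservesFiniteLimits (tilde.functor R)] (ω : DCoh.D X) (hω : Dual2.IsDualizingSch X ω) : (∀ x : X, LocCoh.IsCohenMacaulayLocalRing (X.presheaf.stalk x) ↔ ∃! i : ℤ, Nontrivial ((DCoh.HD ω i).presheaf.stalk x)) ∧ IsOpen {x : X | LocCoh.IsCohenMacaulayLocalRing (X.presheaf.stalk x)} := by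
  have key : ∀ x : X, ∃ (A : Type u) (_ : CommRing A) (j : Spec (CommRingCat.of A) ⟶ X) (_ : IsOpenImmersion j)
      (q : PrimeSpectrum A), j q = x := by
    intro x
    obtain ⟨R, l, hl, ⟨q, hq⟩, -⟩ :=
      Scheme.exists_affine_mem_range_and_range_subset (U := (⊤ : X.Opens)) (x := x) trivial
    exact ⟨R, inferInstance, l, hl, q, hq⟩
  refine ⟨fun x => ?_, ?_⟩
  · obtain ⟨A, _, j, _, q, rfl⟩ := key x
    obtain ⟨w, hw, ⟨e⟩⟩ := hω A j
    haveI := hw.isNoetherianRing
    have hV : ∀ i : ℤ, Nontrivial ((DCoh.HD ω i).presheaf.stalk (j q)) ↔ ¬ DualCx.Van w q.asIdeal A i := fun i => by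
      rw [DualSch.nontrivial_HD_stalk_iff j e i q, DualCx.van_iff, not_subsingleton_iff_nontrivial]
      exact ((IsLocalizedModule.mapEquiv q.asIdeal.primeCompl
        (LocalizedModule.mkLinearMap q.asIdeal.primeCompl _) (LocalizedModule.mkLinearMap q.asIdeal.primeCompl _)
        (Localization q.asIdeal.primeCompl) (DualCx.homEquiv w i).symm).toEquiv.nontrivial_congr)
    rw [DualSch.cm_stalk_iff j q, DualCx.isCohenMacaulayLocalRing_iff hw q]
    simp only [hV]
    refine ⟨fun h => ?_, fun h i i' hi hi' => h.unique hi hi'⟩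
    obtain ⟨n, -, -, hn⟩ := DualCx.exists_depth hw (M := A) (q := q)
      (by rw [Module.support_eq_zeroLocus, Module.annihilator_eq_bot.2 inferInstance]
          exact fun x hx => by rw [(Submodule.mem_bot A).1 hx]; exact q.asIdeal.zero_mem)
    exact ⟨_, hn, fun i hi => h i _ hi hn⟩
  · refine DualSch.isOpen_of_charts _ fun A _ j _ => ?_
    obtain ⟨w, hw, -⟩ := hω A j
    haveI := hw.isNoetherianRing
    simp only [DualSch.cm_stalk_iff]
    have := DualCx.isOpen_cm hw A
    simp only [← DualCx.isCohenMacaulayLocalRing_iff hw] at this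
    exact this

end Groth.Agent.S1809
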