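import Groth.Statements.S18097
import Groth.Agent.SemiCont.Main
import Groth.Agent.BPair.Twist
import Groth.Agent.Chev.Descent
import Groth.Agent.DimField.Scheme
import Mathlib

set_option autoImplicit false
universe u
open CategoryTheory MonoidalCategory CartesianMonoidalCategory MonObj GrpObj AlgebraicGeometry CategoryTheory.Limits
open AlgGrp
open CategoryTheory.Limits
set_option backward.isDefEq.respectTransparency false

namespace Groth.Agent.S18097

/-- Let k be an algebraically closed field, F an algebraically closed field extension of k, G an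
algebraic k-group (a k-group scheme of finite type) and d a natural number. Then G_F contains a
smooth connected solvable closed subgroup of dimension at least d if and only if G does; that is,
D'_s(k, G) = D'_s(F, G). -/
theorem result (k : Type u) [Field k] [IsAlgClosed k]
    (F : Type u) [Field F] [IsAlgClosed F] [Algebra k F]
    (G : Over (Spec (CommRingCat.of k))) [GrpObj G] [LocallyOfFiniteType G.hom] [QuasiCompact G.hom] (d : ℕ) :
    (∃ (U : Over (Spec (CommRingCat.of F))) (_ : GrpObj U) (i : U ⟶ Red.bc (Spec.map (CommRingCat.ofHom (algebraMap k F))) G), IsMonHom i ∧ IsClosedImmersion i.left ∧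
        Smooth U.hom ∧ ConnectedSpace ↥U.left ∧ Red.IsSolvableGrp U ∧ (d : WithBot ℕ∞) ≤ topologicalKrullDim ↥U.left) ↔
    (∃ (U : Over (Spec (CommRingCat.of k))) (_ : GrpObj U) (i : U ⟶ G), IsMonHom i ∧ IsClosedImmersion i.left ∧
        Smooth U.hom ∧ ConnectedSpace ↥U.left ∧ Red.IsSolvableGrp U ∧ (d : WithBot ℕ∞) ≤ topologicalKrullDim ↥U.left) := by
  constructor
  · rintro ⟨U, gU, i, him, hic, hUs, hUc, hU, hd⟩
    haveI := SemiCont.irreducibleSpace_of_smooth U
    obtain ⟨V, i', φ, hi, hφ, hφs⟩ := SemiCont.exists_place (algebraMap k F) (RingHom.id k)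
      (by intro x hx; rw [RingHom.mem_ker] at hx ⊢; exact (algebraMap k F).injective (hx.trans (map_zero _).symm))
      (fun y => ⟨Polynomial.X - Polynomial.C y, by simpa using Polynomial.X_sub_C_ne_zero y, by simp⟩)
    letI : Algebra V k := φ.toAlgebra
    obtain ⟨K, gK, j, hjm, hjc, hKs, hKc, hd', hsol, -, -⟩ := SemiCont.exists_subgroup_of_eq G
      (Spec.map (CommRingCat.ofHom i')) hφs
      (by rw [← Spec.map_comp, show CommRingCat.ofHom i' ≫ CommRingCat.ofHom (algebraMap V F) =
        CommRingCat.ofHom (algebraMap k F) from CommRingCat.hom_ext hi])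
      (jΩ := 𝟙 (Spec (CommRingCat.of k)))
      (by rw [← Spec.map_comp, show CommRingCat.ofHom i' ≫ CommRingCat.ofHom (algebraMap V k) =
        𝟙 (CommRingCat.of k) from CommRingCat.hom_ext hφ, Spec.map_id]) i
    haveI := hjm; haveI := hjc
    haveI : IsIso (Chev.bcIdIso G).hom.hom.hom := inferInstance
    haveI : IsIso (Chev.bcIdIso G).hom.hom.hom.left :=
      inferInstanceAs (IsIso ((Over.forget _).map (Chev.bcIdIso G).hom.hom.hom))
    exact ⟨K, gK, j ≫ (Chev.bcIdIso G).hom.hom.hom, inferInstance, by rw [Over.comp_left]; infer_instance,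
      hKs, hKc, hsol (Chev.Borel.isSolvable_rp hU), hd.trans hd'⟩
  · rintro ⟨U, gU, i, him, hic, hUs, hUc, hU, hd⟩
    let w := Spec.map (CommRingCat.ofHom (algebraMap k F))
    haveI : LocallyOfFiniteType U.hom := inferInstance
    refine ⟨Red.bc w U, inferInstance, (Over.pullback w).map i, inferInstance, ?_,
      Chev.smooth_bcK F (X := U), Chev.connectedSpace_bcK F (X := U), BPair.isSolvableGrp_bc w hU, ?_⟩
    · haveI := hic
      exact MorphismProperty.baseChange_map (P := @IsClosedImmersion) w i hic
    · refine hd.trans (le_of_eq ?_)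
      haveI : Subsingleton ↥(Spec (CommRingCat.of k)) := inferInstanceAs (Subsingleton (PrimeSpectrum k))
      haveI : Subsingleton ↥(Spec (CommRingCat.of F)) := inferInstanceAs (Subsingleton (PrimeSpectrum F))
      exact DimField.dim_eq_of_isPullback U.hom (Red.bc w U).hom (pullback.fst U.hom w) w
        (IsPullback.of_hasPullback U.hom w)

end Groth.Agent.S18097
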