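import Groth.Statements.S18100
import Groth.Agent.Chev.GenSubvar

set_option autoImplicit false
universe u
open CategoryTheory MonoidalCategory CartesianMonoidalCategory MonObj GrpObj AlgebraicGeometry CategoryTheory.Limits
open AlgGrp

namespace Groth.Agent.S18100

/-- Let k be a field and G a non-trivial anti-affine k-group scheme of finite type with no anti-affine
closed subgroup scheme other than G and the trivial one. Then G is either an abelian variety (proper
over k), or every complete subvariety of G has dimension zero: any closed subscheme of G that is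
geometrically integral and proper over k has dimension 0. -/
theorem result (k : Type u) [Field k]
    (G : Over (Spec (CommRingCat.of k))) [GrpObj G] [LocallyOfFiniteType G.hom] [QuasiCompact G.hom] (hG : ¬ Red.IsTrivialGrp G)
    (hGa : Function.Bijective ((Scheme.ΓSpecIso (CommRingCat.of k)).inv ≫ G.hom.appTop).hom)
    (hmin : ∀ (H : Over (Spec (CommRingCat.of k))) [GrpObj H] (h : H ⟶ G) [IsMonHom h] [IsClosedImmersion h.left], ¬ IsIso h → Function.Bijective ((Scheme.ΓSpecIso (CommRingCat.of k)).inv ≫ H.hom.appTop).hom → Red.IsTrivialGrp H) :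
    IsProper G.hom ∨
      ∀ (Z : Over (Spec (CommRingCat.of k))) (z : Z ⟶ G) [IsClosedImmersion z.left] [IsProper Z.hom] [GeometricallyIntegral Z.hom],
        topologicalKrullDim ↥Z.left = 0 := by
  obtain ⟨M, hM, i, hi, hic, hMp, hMi, key⟩ := Chev.exists_proper_subgroup G
  haveI := hi; haveI := hic; haveI := hMp; haveI := hMi
  have hMa : Function.Bijective ((Scheme.ΓSpecIso (CommRingCat.of k)).inv ≫ M.hom.appTop).hom := by
    haveI : IsIntegral M.left := GeometricallyIntegral.isIntegral_of_subsingleton M.hom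
    letI := (isField_of_universallyClosed k M.hom).toField
    let ρ : Γ(M.left, ⊤) →+* k := (η[M].left.appTop ≫ (Scheme.ΓSpecIso (CommRingCat.of k)).hom).hom
    have hρ : ∀ c : k, ρ (((Scheme.ΓSpecIso (CommRingCat.of k)).inv ≫ M.hom.appTop).hom c) = c := by
      intro c
      have h := congrArg (fun t => (t.appTop ≫ (Scheme.ΓSpecIso (CommRingCat.of k)).hom).hom
        ((Scheme.ΓSpecIso (CommRingCat.of k)).inv.hom c)) (Over.w η[M])
      exact h.trans (congrArg (fun t => t.hom c) (Scheme.ΓSpecIso (CommRingCat.of k)).inv_hom_id)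
    refine ⟨fun a b h => by rw [← hρ a, ← hρ b, h], fun y => ⟨ρ y, ρ.injective (hρ _)⟩⟩
  by_cases hiso : IsIso i
  · left
    haveI : IsIso (inv i).left := inferInstanceAs (IsIso ((Over.forget _).map (inv i)))
    rw [← Over.w (inv i)]
    infer_instance
  right
  intro Z z _ _ _
  haveI : IsIso M.hom := hmin M i hiso hMa
  haveI : IsProper (Z ⊗ Z).hom := inferInstanceAs (IsProper (pullback.fst Z.hom Z.hom ≫ Z.hom))
  haveI := Chev.geometricallyIntegral_tensor Z Z
  haveI : IsIntegral Z.left := GeometricallyIntegral.isIntegral_of_subsingleton Z.hom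
  obtain ⟨ψ, hψ⟩ := key (Z ⊗ Z) ((fst Z Z ≫ z) / (snd Z Z ≫ z)) (by
    obtain ⟨x⟩ : Nonempty Z.left := inferInstance
    refine ⟨(lift (𝟙 Z) (𝟙 Z)).left x, ?_⟩
    rw [← Scheme.Hom.comp_apply, ← Over.comp_left, div_eq_mul_inv, MonObj.comp_mul, GrpObj.comp_inv,
      lift_fst_assoc, lift_snd_assoc, mul_inv_cancel, Hom.one_def, Over.comp_left, Scheme.Hom.comp_apply]
    exact congrArg _ (Subsingleton.elim (α := PrimeSpectrum k) _ _))
  have hone : ψ = toUnit _ ≫ η[M] := by
    apply Over.OverMorphism.ext
    rw [← cancel_mono M.hom, Over.w, Over.w]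
  have heq : fst Z Z ≫ z = snd Z Z ≫ z := by
    rw [← div_eq_one, ← hψ, hone, Category.assoc, IsMonHom.one_hom, Hom.one_def]
  haveI : Mono z := GrpField.SchImg.mono_of_isClosedImmersion z
  have hfs : fst Z Z = snd Z Z := (cancel_mono z).1 heq
  haveI : Mono Z.hom := ⟨fun {T} a b h => by
    have := congrArg (fun u : Z ⊗ Z ⟶ Z => (lift (Over.homMk a rfl : Over.mk (a ≫ Z.hom) ⟶ Z)
      (Over.homMk b h.symm : Over.mk (a ≫ Z.hom) ⟶ Z) ≫ u).left) hfs
    simp only [lift_fst, lift_snd] at this
    exact this⟩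
  have hs : Subsingleton Z.left := ⟨fun a b => Z.hom.injective (Subsingleton.elim (α := PrimeSpectrum k) _ _)⟩
  haveI : Nonempty (TopologicalSpace.IrreducibleCloseds Z.left) :=
    ⟨⟨Set.univ, IrreducibleSpace.isIrreducible_univ _, isClosed_univ⟩⟩
  haveI : Subsingleton (TopologicalSpace.IrreducibleCloseds Z.left) := ⟨fun a b => SetLike.coe_injective
    ((a.isIrreducible.1.eq_univ).trans b.isIrreducible.1.eq_univ.symm)⟩
  exact Order.krullDim_eq_zero

end Groth.Agent.S18100
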