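import Groth.Statements.S18103
import Groth.Agent.SemiCont.DerivedMain
import Groth.Agent.GrpDim.UnivOpen
import Groth.Agent.SmNeutral.Core
import Groth.Agent.GModLib.ObsSolv
import Groth.Agent.S8425
import Mathlib

set_option autoImplicit false
universe u
open CategoryTheory MonoidalCategory CartesianMonoidalCategory MonObj GrpObj AlgebraicGeometry CategoryTheory.Limits
open AlgGrp
open CategoryTheory.Limits
set_option backward.isDefEq.respectTransparency false
set_option synthInstance.maxHeartbeats 400000
set_option maxHeartbeats 1000000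

namespace Groth.Agent.S18103

/-- The connected open subgroup of a geometric fibre is the fibre of the neutral component. -/
theorem exists_iso_neutral {S : Scheme.{u}} (G : Over S) [GrpObj G] (G₀ : Over S) [GrpObj G₀] (j : G₀ ⟶ G) [IsMonHom j]
    [IsOpenImmersion j.left] (hr : Set.range j.left.base = SGA3x.neutralSet G) (s : S)
    (C : Over (Spec (CommRingCat.of (AlgebraicClosure (S.residueField s))))) [GrpObj C] (c : C ⟶ Red.geomFibre s G)
    [IsMonHom c] [IsOpenImmersion c.left] [IsClosedImmersion c.left] [ConnectedSpace C.left] :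
    ∃ e : Red.geomFibre s G₀ ≅ C, IsMonHom e.hom ∧ e.hom ≫ c = (Over.pullback (Red.geomPt s)).map j := by
  let jb := (Over.pullback (Red.geomPt s)).map j
  let K := AlgebraicClosure (S.residueField s)
  haveI : IsOpenImmersion jb.left :=
    MorphismProperty.baseChange_map (P := @IsOpenImmersion) (Red.geomPt s) j ‹_›
  have hfib : _root_.IsConnected (G₀.hom.base ⁻¹' {s}) := by
    have himg : j.left '' (G₀.hom.base ⁻¹' {s}) = GrpDim.comp0 G s := by
      rw [← GrpDim.neutralSet_inter G s, ← hr]
      ext x
      constructor
      · rintro ⟨y, hy, rfl⟩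
        refine ⟨⟨y, rfl⟩, ?_⟩
        show G.hom (j.left y) = s
        rw [← Scheme.Hom.comp_apply, Over.w j]; exact hy
      · rintro ⟨⟨y, rfl⟩, hx⟩
        refine ⟨y, ?_, rfl⟩
        show G₀.hom y = s
        rw [← Over.w j, Scheme.Hom.comp_apply]; exact hx
    have hc : _root_.IsConnected (j.left '' (G₀.hom.base ⁻¹' {s})) := by
      rw [himg]
      exact isConnected_connectedComponentIn_iff.2 (GrpDim.hom_section G s)
    exact ⟨Set.image_nonempty.1 hc.1, j.left.isEmbedding.isInducing.isPreconnected_image.1 hc.2⟩
  haveI := S8425.connectedSpace_geomFibre G₀ s hfib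
  have hone : ∀ {A B : Over (Spec (CommRingCat.of K))} [GrpObj A] [GrpObj B] (f : A ⟶ B) [IsMonHom f],
      f.left (η[A].left (IsLocalRing.closedPoint K)) = η[B].left (IsLocalRing.closedPoint K) :=
    fun {A B} _ _ f _ => congrArg (fun m : 𝟙_ _ ⟶ B => m.left (IsLocalRing.closedPoint K)) (IsMonHom.one_hom f)
  let e₀ : (Red.geomFibre s G).left := η[Red.geomFibre s G].left (IsLocalRing.closedPoint K)
  have h0C : e₀ ∈ Set.range c.left := ⟨_, hone c⟩
  have hC : Set.range c.left = connectedComponent e₀ :=
    Set.Subset.antisymm ((isConnected_range c.left.continuous).2.subset_connectedComponent h0C)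
      (IsClopen.connectedComponent_subset ⟨c.left.isClosedEmbedding.isClosed_range, c.left.isOpenEmbedding.isOpen_range⟩ h0C)
  have hJ : Set.range jb.left = connectedComponent e₀ := by
    refine Set.Subset.antisymm ((isConnected_range jb.left.continuous).2.subset_connectedComponent ⟨_, hone jb⟩) ?_
    intro x hx
    have hsq : IsPullback (pullback.fst G₀.hom (Red.geomPt s)) jb.left j.left (pullback.fst G.hom (Red.geomPt s)) := by
      refine IsPullback.of_bot ?_ (pullback.lift_fst _ _ _).symm (IsPullback.of_hasPullback G.hom (Red.geomPt s))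
      rw [show jb.left ≫ pullback.snd G.hom (Red.geomPt s) = pullback.snd G₀.hom (Red.geomPt s) from
        pullback.lift_snd _ _ _, Over.w j]
      exact IsPullback.of_hasPullback G₀.hom (Red.geomPt s)
    have hs : Red.geomPt s (IsLocalRing.closedPoint K) = s := Scheme.fromSpecResidueField_apply s _
    have hxs : G.hom (pullback.fst G.hom (Red.geomPt s) x) = s := by
      rw [← Scheme.Hom.comp_apply, pullback.condition, Scheme.Hom.comp_apply]
      haveI : Subsingleton ↥(Spec (CommRingCat.of K)) := inferInstanceAs (Subsingleton (PrimeSpectrum K))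
      rw [Subsingleton.elim (α := ↥(Spec (CommRingCat.of K))) (pullback.snd G.hom (Red.geomPt s) x) (IsLocalRing.closedPoint K)]
      exact hs
    have he : pullback.fst G.hom (Red.geomPt s) e₀ = η[G].left s := by
      refine (GrpDim.bc_section (Red.geomPt s) G _).trans ?_
      rw [hs]
    have hmem : pullback.fst G.hom (Red.geomPt s) x ∈ GrpDim.comp0 G s := by
      refine (isPreconnected_connectedComponent.image _
        (pullback.fst G.hom (Red.geomPt s)).continuous.continuousOn).subset_connectedComponentIn
        ⟨e₀, mem_connectedComponent, he⟩ ?_ ⟨x, hx, rfl⟩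
      rintro _ ⟨z, -, rfl⟩
      show G.hom (pullback.fst G.hom (Red.geomPt s) z) = s
      rw [← Scheme.Hom.comp_apply, pullback.condition, Scheme.Hom.comp_apply]
      haveI : Subsingleton ↥(Spec (CommRingCat.of K)) := inferInstanceAs (Subsingleton (PrimeSpectrum K))
      rw [Subsingleton.elim (α := ↥(Spec (CommRingCat.of K))) (pullback.snd G.hom (Red.geomPt s) z) (IsLocalRing.closedPoint K)]
      exact hs
    rw [← GrpDim.neutralSet_inter G s, ← hr] at hmem
    obtain ⟨y, hy⟩ := hmem.1
    obtain ⟨z, -, hz⟩ := Scheme.exists_preimage_of_isPullback hsq y x hy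
    exact ⟨z, hz⟩
  let d := IsOpenImmersion.isoOfRangeEq jb.left c.left (hJ.trans hC.symm)
  have hd : d.hom ≫ c.left = jb.left := IsOpenImmersion.isoOfRangeEq_hom_fac _ _ _
  let e : Red.geomFibre s G₀ ≅ C := Over.isoMk d (by
    show d.hom ≫ C.hom = _
    rw [← Over.w c, reassoc_of% hd]
    exact Over.w jb)
  have he : e.hom ≫ c = jb := Over.OverMorphism.ext hd
  haveI : Mono c := Over.mono_of_mono_left c
  refine ⟨e, ⟨?_, ?_⟩, he⟩
  · rw [← cancel_mono c, Category.assoc, he, IsMonHom.one_hom c, IsMonHom.one_hom jb]
  · rw [← cancel_mono c, Category.assoc, he, Category.assoc, IsMonHom.mul_hom c, ← Category.assoc, tensorHom_comp_tensorHom, he,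
      IsMonHom.mul_hom jb]


/-- Let S be a scheme and G a smooth S-group scheme of finite presentation; for s ∈ S let d_0(s) be the
dimension of the derived group of the identity component of the geometric fibre of G at s, i.e. the
least dimension of a closed subgroup scheme N of the identity component C (the connected open and
closed subgroup scheme) which is normal in C and contains all commutators of points of C. Then d_0
does not increase under specialization: for every natural number n, if s specializes to s' (that is,
s' lies in the closure of s) and d_0(s) ≤ n, then d_0(s') ≤ n. (The published statement asserts that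
d_0 is lower semicontinuous on S, i.e. that the set of points s with d_0(s) ≤ n is closed; the
published argument reduces to the spectrum of an integral local ring and establishes that this set
is stable under specialization, which is what is stated here. Closedness would in addition need the
set to be locally constructible, which the argument does not address.) -/
theorem result (S : Scheme.{u}) (G : Over S) [GrpObj G]
    [Smooth G.hom] [QuasiCompact G.hom] [QuasiSeparated G.hom] (n : ℕ) :
    StableUnderSpecialization {s : ↥S | ∃ (C : Over (Spec (CommRingCat.of (AlgebraicClosure (S.residueField s))))) (_ : GrpObj C) (c : C ⟶ Red.geomFibre s G)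
      (N : Over (Spec (CommRingCat.of (AlgebraicClosure (S.residueField s))))) (_ : GrpObj N) (i : N ⟶ C),
      IsMonHom c ∧ IsOpenImmersion c.left ∧ IsClosedImmersion c.left ∧ ConnectedSpace ↥C.left ∧
      IsMonHom i ∧ IsClosedImmersion i.left ∧ AlgGrp.IsNormalHom i ∧
      (∀ (T : Over (Spec (CommRingCat.of (AlgebraicClosure (S.residueField s))))) (g h : T ⟶ C), ∃ m : T ⟶ N, g * h * g⁻¹ * h⁻¹ = m ≫ i) ∧
      topologicalKrullDim ↥N.left ≤ (n : WithBot ℕ∞)} := by
  rintro s s' hs ⟨C, gC, c, N, gN, i, hcm', hco, hcc, hCc, him, hic, -, hcm, hn⟩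
  obtain ⟨-, G₀, gG₀, j, hjm, hjo, hr, hsm, -⟩ := SmNeutral.exists_neutralComponent G
  obtain ⟨e, hem, he⟩ := exists_iso_neutral G G₀ j hr s C c
  haveI := hem
  haveI : IsMonHom e.inv := inferInstance
  haveI : IsClosedImmersion (i ≫ e.inv).left := by
    haveI : IsIso e.inv.left := inferInstanceAs (IsIso ((Over.forget _).map e.inv))
    rw [Over.comp_left]; infer_instance
  obtain ⟨N', gN', i', hm', hc', hn', hcm'', hd⟩ := SemiCont.exists_normal_of_specializes G₀ hs N (i ≫ e.inv)
    (fun x y => by
      obtain ⟨m, hm⟩ := hcm _ (x ≫ e.hom) (y ≫ e.hom)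
      refine ⟨m, ?_⟩
      have h1 := congrArg (fun t => t ≫ e.inv) hm
      simp only [MonObj.mul_comp, GrpObj.inv_comp, Category.assoc, Iso.hom_inv_id, Category.comp_id] at h1
      exact h1)
  let jb := (Over.pullback (Red.geomPt s')).map j
  haveI : IsOpenImmersion jb.left :=
    MorphismProperty.baseChange_map (P := @IsOpenImmersion) (Red.geomPt s') j ‹_›
  haveI : Smooth (Red.geomFibre s' G₀).hom :=
    inferInstanceAs (Smooth (pullback.snd G₀.hom (Red.geomPt s')))
  haveI : LocallyOfFiniteType (Red.geomFibre s' G).hom :=
    inferInstanceAs (LocallyOfFiniteType (pullback.snd G.hom (Red.geomPt s')))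
  obtain ⟨C', gC', c', hc'm, hc'o, hc'r, -, hC'c⟩ :=
    haveI : Smooth (Red.geomFibre s' G).hom := inferInstanceAs (Smooth (pullback.snd G.hom (Red.geomPt s')))
    GModLib.exists_open_connected (Red.geomFibre s' G)
  haveI := hc'm; haveI := hc'o; haveI := hC'c
  haveI : IsClosedImmersion c'.left := by
    refine IsClosedImmersion.of_isPreimmersion _ ?_
    rw [hc'r]; exact isClosed_connectedComponent
  obtain ⟨e', he'm, he'⟩ := exists_iso_neutral G G₀ j hr s' C' c'
  haveI := he'm
  haveI : IsClosedImmersion (i' ≫ e'.hom).left := by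
    haveI : IsIso e'.hom.left := inferInstanceAs (IsIso ((Over.forget _).map e'.hom))
    rw [Over.comp_left]; infer_instance
  refine ⟨C', gC', c', N', gN', i' ≫ e'.hom, hc'm, hc'o, inferInstance, hC'c, inferInstance, inferInstance,
    fun T g n => ?_, fun T g h => ?_, hd.trans hn⟩
  · obtain ⟨n', hn''⟩ := hn' T (g ≫ e'.inv) n
    refine ⟨n', ?_⟩
    haveI : IsMonHom e'.inv := inferInstance
    have h1 := congrArg (fun t => t ≫ e'.hom) hn''
    simp only [MonObj.mul_comp, GrpObj.inv_comp, Category.assoc, Iso.inv_hom_id, Category.comp_id] at h1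
    exact h1
  · obtain ⟨m, hm⟩ := hcm'' T (g ≫ e'.inv) (h ≫ e'.inv)
    refine ⟨m, ?_⟩
    have h1 := congrArg (fun t => t ≫ e'.hom) hm
    simp only [MonObj.mul_comp, GrpObj.inv_comp, Category.assoc, Iso.inv_hom_id, Category.comp_id] at h1
    exact h1

end Groth.Agent.S18103
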