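import Groth.Statements.S18110
import Groth.Agent.CartierOp.Global

set_option autoImplicit false
set_option backward.isDefEq.respectTransparency false
set_option linter.style.haveILetI false
universe u
open DeRham

namespace Groth.Agent.S18110

open exteriorPower Groth.Agent.CartierOp in
lemma d_zero {A B : Type u} [CommRing A] [CommRing B] [Algebra A B]
    {d : ∀ q : ℕ, ↥(⋀[B]^q (Ω[B⁄A])) →ₗ[A] ↥(⋀[B]^(q + 1) (Ω[B⁄A]))}
    (hd : DeRham.IsDiff (KaehlerDifferential.D A B) d) (f : B) :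
    d 0 ((zeroEquiv B (Ω[B⁄A])).symm f) = form (KaehlerDifferential.D A B f) := by
  have h1 : (zeroEquiv B (Ω[B⁄A])).symm f = DeRham.gen (KaehlerDifferential.D A B) 0 f ![] := by
    rw [LinearEquiv.symm_apply_eq, DeRham.gen, map_smul, zeroEquiv_ιMulti, smul_eq_mul, mul_one]
  refine (oneEquiv B (Ω[B⁄A])).injective ?_
  rw [h1, hd.1, form, LinearEquiv.apply_symm_apply, oneEquiv_ιMulti, Fin.cons_zero]

open exteriorPower Groth.Agent.CartierOp in
lemma mem_coboundaries {A B : Type u} [CommRing A] [CommRing B] [Algebra A B]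
    {d : ∀ q : ℕ, ↥(⋀[B]^q (Ω[B⁄A])) →ₗ[A] ↥(⋀[B]^(q + 1) (Ω[B⁄A]))}
    (hd : DeRham.IsDiff (KaehlerDifferential.D A B) d) (p : ℕ) (x : ↥(⋀[B]^1 (Ω[B⁄A]))) :
    x ∈ DeRham.coboundaries d 1 ↔ cls p (oneEquiv B (Ω[B⁄A]) x) = 0 := by
  rw [cls_eq_zero]
  constructor
  · rintro ⟨y, rfl⟩
    refine ⟨zeroEquiv B (Ω[B⁄A]) y, ?_⟩
    have h := d_zero hd (zeroEquiv B (Ω[B⁄A]) y)
    rw [LinearEquiv.symm_apply_apply] at h
    rw [h, form, LinearEquiv.apply_symm_apply]
  · rintro ⟨h, hh⟩
    refine ⟨(zeroEquiv B (Ω[B⁄A])).symm h, ?_⟩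
    rw [d_zero hd, hh, form, LinearEquiv.symm_apply_apply]

open exteriorPower Groth.Agent.CartierOp in
/-- The image of the inverse Cartier map consists of closed classes. -/
lemma exists_closed {p : ℕ} [Fact p.Prime] {A B : Type u} [CommRing A] [CommRing B] [Algebra A B]
    [CharP B p] {d : ∀ q : ℕ, ↥(⋀[B]^q (Ω[B⁄A])) →ₗ[A] ↥(⋀[B]^(q + 1) (Ω[B⁄A]))}
    (hd : DeRham.IsDiff (KaehlerDifferential.D A B) d) (θ : Ω[B⁄A]) :
    ∃ ω : ↥(DeRham.cocycles d 1), cls p (oneEquiv B (Ω[B⁄A]) ω.1) = invCartier A B p θ := by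
  obtain ⟨x, rfl⟩ := (oneEquiv B (Ω[B⁄A])).surjective θ
  induction x using DRKaehler.induction with
  | h0 => exact ⟨0, by simp⟩
  | hadd x y hx hy =>
    obtain ⟨u, hu⟩ := hx
    obtain ⟨v, hv⟩ := hy
    exact ⟨u + v, by rw [Submodule.coe_add, map_add, map_add, hu, hv, map_add, map_add]⟩
  | hgen b₀ b =>
    refine ⟨⟨form (b₀ ^ p • (b 0 ^ (p - 1) • KaehlerDifferential.D A B (b 0))),
      d_one_pow_smul hd b₀ (b 0)⟩, ?_⟩
    rw [LinearEquiv.apply_symm_apply, DeRham.gen, LinearEquiv.map_smul, oneEquiv_ιMulti, invCartier_smul_D]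

open exteriorPower in
/-- Let p be a prime, A a perfect ring of characteristic p (its Frobenius is bijective), B a smooth
A-algebra, and d a de Rham differential on the exterior powers of Ω_{B/A} (a degreewise family
obeying the de Rham rule with d ∘ d = 0). Then there is exactly one additive map C from the closed
1-forms (the kernel of d in degree 1) to the 1-forms such that C(f^p ω) = f C(ω) for f in B and ω
closed, C(ω) = 0 if and only if ω is exact, and C(f^{p-1} df) = df for f in B. (The source states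
this for all degrees r at once on a smooth scheme over a perfect base, with two further conditions,
C(1) = 1 in degree 0 and multiplicativity for wedge products of closed forms, which involve other
degrees; this row is the degree-one, affine case, where those two conditions are empty.) -/
theorem result
    (p : ℕ) [Fact p.Prime] (A B : Type u) [CommRing A] [CharP A p] [PerfectRing A p]
    [CommRing B] [Algebra A B] [Algebra.Smooth A B]
    (d : ∀ q : ℕ, ↥(⋀[B]^q (Ω[B⁄A])) →ₗ[A] ↥(⋀[B]^(q + 1) (Ω[B⁄A])))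
    (hd : DeRham.IsDiff (KaehlerDifferential.D A B) d) :
    ∃! C : ↥(DeRham.cocycles d 1) →+ ↥(⋀[B]^1 (Ω[B⁄A])),
      (∀ (f : B) (ω ω' : ↥(DeRham.cocycles d 1)),
          (ω' : ↥(⋀[B]^1 (Ω[B⁄A]))) = f ^ p • (ω : ↥(⋀[B]^1 (Ω[B⁄A]))) → C ω' = f • C ω) ∧
      (∀ ω : ↥(DeRham.cocycles d 1), C ω = 0 ↔ (ω : ↥(⋀[B]^1 (Ω[B⁄A]))) ∈ DeRham.coboundaries d 1) ∧
      (∀ (f : B) (ω : ↥(DeRham.cocycles d 1)),
          (ω : ↥(⋀[B]^1 (Ω[B⁄A]))) = f ^ (p - 1) • d 0 ((exteriorPower.zeroEquiv B (Ω[B⁄A])).symm f) →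
            C ω = d 0 ((exteriorPower.zeroEquiv B (Ω[B⁄A])).symm f)) := by
  open Groth.Agent.CartierOp in
  by_cases hB : Subsingleton B
  · haveI := Module.subsingleton B ↥(⋀[B]^1 (Ω[B⁄A]))
    refine ⟨0, ⟨fun f ω ω' _ => Subsingleton.elim _ _, fun ω => ⟨fun _ => ?_, fun _ => Subsingleton.elim _ _⟩,
      fun f ω _ => Subsingleton.elim _ _⟩, fun C _ => AddMonoidHom.ext fun ω => Subsingleton.elim _ _⟩
    rw [Subsingleton.elim (ω : ↥(⋀[B]^1 (Ω[B⁄A]))) 0]
    exact zero_mem _
  haveI : Nontrivial B := not_subsingleton_iff_nontrivial.1 hB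
  haveI : CharP B p := (CharP.charP_iff_prime_eq_zero (Fact.out : p.Prime)).2
    (by rw [← map_natCast (algebraMap A B), CharP.cast_eq_zero, map_zero])
  have hclosed : ∀ ω : ↥(DeRham.cocycles d 1),
      ∃ θ, invCartier A B p θ = cls p (exteriorPower.oneEquiv B (Ω[B⁄A]) ω.1) := fun ω =>
    exists_invCartier_eq p hd (by
      rw [form, LinearEquiv.symm_apply_apply]
      exact LinearMap.mem_ker.1 ω.2)
  choose θ hθ using hclosed
  have hinj := invCartier_injective A B p
  let C : ↥(DeRham.cocycles d 1) →+ ↥(⋀[B]^1 (Ω[B⁄A])) :=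
    AddMonoidHom.mk' (fun ω => form (θ ω)) fun a b => by
      rw [← map_add]
      congr 1
      refine hinj ?_
      rw [map_add, hθ, hθ, hθ, Submodule.coe_add, map_add, map_add]
  refine ⟨C, ⟨fun f ω ω' h => ?_, fun ω => ?_, fun f ω h => ?_⟩, fun C' ⟨h1, h2, h3⟩ => ?_⟩
  · change form (θ ω') = f • form (θ ω)
    rw [← map_smul]
    congr 1
    refine hinj ?_
    rw [map_smul, hθ, hθ, smul_cls, h, map_smul]
  · change form (θ ω) = 0 ↔ _
    rw [LinearEquiv.map_eq_zero_iff, mem_coboundaries hd p, ← hθ, map_eq_zero_iff _ hinj]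
  · change form (θ ω) = _
    rw [d_zero hd]
    congr 1
    refine hinj ?_
    have e := invCartier_smul_D (A := A) (p := p) (1 : B) f
    rw [one_smul, one_pow, one_smul] at e
    rw [hθ, e, h, d_zero hd, map_smul, LinearEquiv.apply_symm_apply]
  · suffices key : ∀ (a : Ω[B⁄A]) (ω : ↥(DeRham.cocycles d 1)),
        cls p (exteriorPower.oneEquiv B (Ω[B⁄A]) ω.1) = invCartier A B p a → C' ω = form a from
      AddMonoidHom.ext fun ω => key (θ ω) ω (hθ ω).symm
    have hex : ∀ ω ω' : ↥(DeRham.cocycles d 1),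
        cls p (exteriorPower.oneEquiv B (Ω[B⁄A]) ω.1) =
          cls p (exteriorPower.oneEquiv B (Ω[B⁄A]) ω'.1) → C' ω = C' ω' := fun ω ω' h => by
      rw [← sub_eq_zero, ← map_sub, h2, mem_coboundaries hd p, Submodule.coe_sub, map_sub, map_sub, h,
        sub_self]
    intro a
    have ha : a ∈ Submodule.span B (Set.range (KaehlerDifferential.D A B)) := by
      rw [KaehlerDifferential.span_range_derivation]; trivial
    induction ha using Submodule.span_induction with
    | mem z hz =>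
      obtain ⟨f, rfl⟩ := hz
      intro ω hω
      have hc := d_one_pow_smul (p := p) hd 1 f
      rw [one_pow, one_smul] at hc
      have e := invCartier_smul_D (A := A) (p := p) (1 : B) f
      rw [one_smul, one_pow, one_smul] at e
      rw [hex ω ⟨_, hc⟩ (by rw [hω, e, LinearEquiv.apply_symm_apply]),
        h3 f ⟨_, hc⟩ (by rw [d_zero hd]; exact map_smul _ _ _), d_zero hd]
    | zero =>
      intro ω hω
      rw [form, map_zero, h2, mem_coboundaries hd p, hω, map_zero]
    | add u v _ _ hu hv =>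
      intro ω hω
      obtain ⟨ωu, hωu⟩ := exists_closed (p := p) hd u
      rw [← add_sub_cancel ωu ω, map_add, form, map_add, hu ωu hωu, hv (ω - ωu) (by
        rw [Submodule.coe_sub, map_sub, map_sub, hω, hωu, map_add, add_sub_cancel_left])]
    | smul c u _ hu =>
      intro ω hω
      obtain ⟨ωu, hωu⟩ := exists_closed (p := p) hd u
      have hc : c ^ p • ωu.1 ∈ DeRham.cocycles d 1 := by
        refine LinearMap.mem_ker.2 ?_
        rw [Groth.Agent.DRKaehler.commutator d hd.1 1,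
          LinearMap.mem_ker.1 ωu.2, smul_zero, zero_add, D_pow, Groth.Agent.DRKaehler.wedgeLeft,
          map_zero, map_zero, LinearMap.zero_apply]
      rw [hex ω ⟨_, hc⟩ (by rw [hω, map_smul, map_smul, ← hωu, smul_cls]),
        h1 c ωu ⟨_, hc⟩ rfl, hu ωu hωu, form, form, map_smul]

end Groth.Agent.S18110
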