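import Groth.Statements.S18121
import Mathlib

set_option autoImplicit false
universe u
open Pinch

namespace Groth.Agent.S18121

/-- Let B be a commutative ring, b an element of B, B' := B[z]/(z^2 - b) the rank-two B-algebra with z^2
= b, and Ψ : B[u, v] → B'[t] the B-algebra homomorphism with u ↦ z t and v ↦ t. Then the kernel of Ψ
is the principal ideal generated by u^2 - b v^2, and a polynomial of B'[t] lies in the image of Ψ as
soon as its constant coefficient lies in B. Equivalently, B[u, v]/(u^2 - b v^2) is the fibre product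
of B'[t] and B over B' (for t ↦ 0 and the inclusion of B): the pinching of Spec B' × 𝔸¹ along Spec
B' × {0} by the double cover Spec B' → Spec B is the hypersurface u^2 = b v^2 over B; for B = K[w]
and b = w this is the pinch point u^2 = v^2 w. -/
theorem result (B : Type u) [CommRing B] (b : B) :
    letI Ψ : MvPolynomial (Fin 2) B →ₐ[B] Polynomial (AdjoinRoot (Polynomial.X ^ 2 - Polynomial.C b)) :=
      MvPolynomial.aeval
        ![Polynomial.C (AdjoinRoot.root (Polynomial.X ^ 2 - Polynomial.C b)) * Polynomial.X, Polynomial.X]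
    RingHom.ker Ψ.toRingHom =
        Ideal.span {MvPolynomial.X 0 ^ 2 - MvPolynomial.C b * MvPolynomial.X 1 ^ 2} ∧
      ∀ G : Polynomial (AdjoinRoot (Polynomial.X ^ 2 - Polynomial.C b)),
        (∃ c : B, G.coeff 0 = algebraMap B (AdjoinRoot (Polynomial.X ^ 2 - Polynomial.C b)) c) →
          G ∈ Ψ.range := by
  let Ψ : MvPolynomial (Fin 2) B →ₐ[B] Polynomial (AdjoinRoot (Polynomial.X ^ 2 - Polynomial.C b)) :=
    MvPolynomial.aeval
      ![Polynomial.C (AdjoinRoot.root (Polynomial.X ^ 2 - Polynomial.C b)) * Polynomial.X, Polynomial.X]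
  show RingHom.ker Ψ.toRingHom = _ ∧ ∀ G, (∃ c : B, G.coeff 0 = algebraMap B _ c) → G ∈ Ψ.range
  let g : Polynomial B := Polynomial.X ^ 2 - Polynomial.C b
  let z : AdjoinRoot g := AdjoinRoot.root g
  have hz : z * z = algebraMap B (AdjoinRoot g) b := by
    have h := AdjoinRoot.eval₂_root g
    simp only [g, Polynomial.eval₂_sub, Polynomial.eval₂_pow, Polynomial.eval₂_X, Polynomial.eval₂_C, sub_eq_zero] at h
    rw [← pow_two]; exact h
  have hindep : ∀ α β : B, algebraMap B (AdjoinRoot g) α + algebraMap B (AdjoinRoot g) β * z = 0 → α = 0 ∧ β = 0 := by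
    intro α β h
    rcases subsingleton_or_nontrivial B with hB | hB
    · exact ⟨Subsingleton.elim _ _, Subsingleton.elim _ _⟩
    have hdvd : g ∣ Polynomial.C β * Polynomial.X + Polynomial.C α := by
      rw [← AdjoinRoot.mk_eq_zero, map_add, map_mul, AdjoinRoot.mk_X, AdjoinRoot.mk_C, AdjoinRoot.mk_C, add_comm]
      exact h
    by_contra hne
    have hp : Polynomial.C β * Polynomial.X + Polynomial.C α ≠ 0 := fun h0 => hne ⟨by
      simpa using congrArg (Polynomial.coeff · 0) h0, by simpa using congrArg (Polynomial.coeff · 1) h0⟩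
    refine (Polynomial.monic_X_pow_sub_C b two_ne_zero).not_dvd_of_degree_lt hp ?_ hdvd
    rw [Polynomial.degree_X_pow_sub_C (by norm_num : 0 < 2)]
    exact (Polynomial.degree_linear_le).trans_lt (by norm_num)
  have hspan : ∀ w : AdjoinRoot g, ∃ α β : B, algebraMap B (AdjoinRoot g) α + algebraMap B (AdjoinRoot g) β * z = w := by
    intro w
    induction w using AdjoinRoot.induction_on with
    | ih p =>
      induction p using Polynomial.induction_on' with
      | add p q hp hq =>
        obtain ⟨α, β, h⟩ := hp; obtain ⟨α', β', h'⟩ := hq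
        exact ⟨α + α', β + β', by rw [map_add, map_add, map_add, ← h, ← h']; ring⟩
      | monomial k c =>
        have hk : ∀ k : ℕ, ∃ α β : B, algebraMap B (AdjoinRoot g) α + algebraMap B (AdjoinRoot g) β * z = z ^ k := by
          intro k
          induction k with
          | zero => exact ⟨1, 0, by simp⟩
          | succ k ih =>
            obtain ⟨α, β, h⟩ := ih
            exact ⟨b * β, α, by rw [pow_succ, ← h, map_mul, add_mul, mul_assoc, hz]; ring⟩
        obtain ⟨α, β, h⟩ := hk k
        refine ⟨c * α, c * β, ?_⟩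
        rw [← Polynomial.C_mul_X_pow_eq_monomial, map_mul (AdjoinRoot.mk g), map_pow, AdjoinRoot.mk_X, AdjoinRoot.mk_C,
          map_mul, map_mul, mul_assoc, ← mul_add]
        rw [h]; rfl
  let A : Polynomial B →ₐ[B] MvPolynomial (Fin 2) B := Polynomial.aeval (MvPolynomial.X 1)
  let m : Polynomial B →+* Polynomial (AdjoinRoot g) := Polynomial.mapRingHom (algebraMap B (AdjoinRoot g))
  have hA : ∀ a, Ψ (A a) = m a := fun a => by
    induction a using Polynomial.induction_on' with
    | add p q hp hq => rw [map_add, map_add, hp, hq, map_add]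
    | monomial k c =>
      simp [A, m, Ψ, g, Polynomial.aeval_monomial, Polynomial.map_monomial, ← Polynomial.C_mul_X_pow_eq_monomial]
  have hu : Ψ (MvPolynomial.X 0) = Polynomial.C z * Polynomial.X := by simp [Ψ, z, g]
  have hv : Ψ (MvPolynomial.X 1) = Polynomial.X := by simp [Ψ]
  let r : MvPolynomial (Fin 2) B := MvPolynomial.X 0 ^ 2 - MvPolynomial.C b * MvPolynomial.X 1 ^ 2
  have hr : Ψ r = 0 := by
    show Ψ (MvPolynomial.X 0 ^ 2 - MvPolynomial.C b * MvPolynomial.X 1 ^ 2) = 0
    rw [map_sub, map_pow, map_mul, map_pow, hu, hv, ← MvPolynomial.algebraMap_eq, AlgHom.commutes, mul_pow,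
      ← map_pow, pow_two z, hz, sub_eq_zero]
    rfl
  refine ⟨le_antisymm (fun P hP => ?_) ?_, fun G ⟨c, hc⟩ => ?_⟩
  · have key : ∃ a e : Polynomial B, P - (A a + MvPolynomial.X 0 * A e) ∈ Ideal.span {r} := by
      clear hP
      induction P using MvPolynomial.induction_on with
      | C c => exact ⟨Polynomial.C c, 0, by simp [A]⟩
      | add p q hp hq =>
        obtain ⟨a, e, h⟩ := hp; obtain ⟨a', e', h'⟩ := hq
        refine ⟨a + a', e + e', ?_⟩
        have h2 := add_mem h h'
        rw [map_add, map_add]
        ring_nf at h2 ⊢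
        exact h2
      | mul_X p i hp =>
        obtain ⟨a, e, h⟩ := hp
        fin_cases i
        · refine ⟨Polynomial.C b * Polynomial.X ^ 2 * e, a, ?_⟩
          have h2 := add_mem (Ideal.mul_mem_right (MvPolynomial.X 0) _ h)
            (Ideal.mul_mem_left (Ideal.span {r}) (A e) (Ideal.mem_span_singleton_self r))
          have hA2 : A (Polynomial.C b * Polynomial.X ^ 2 * e) = MvPolynomial.C b * MvPolynomial.X 1 ^ 2 * A e := by
            simp [A]
          rw [hA2]
          simp only [r] at h2 ⊢
          convert h2 using 1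
          simp only [Fin.zero_eta]; ring
        · refine ⟨Polynomial.X * a, Polynomial.X * e, ?_⟩
          have h2 := Ideal.mul_mem_right (MvPolynomial.X 1) _ h
          rw [map_mul, map_mul, show A Polynomial.X = MvPolynomial.X 1 by simp [A]]
          convert h2 using 1
          simp only [Fin.mk_one]; ring
    obtain ⟨a, e, h⟩ := key
    obtain ⟨q, hq⟩ := Ideal.mem_span_singleton'.1 h
    have h0 : m a + Polynomial.C z * Polynomial.X * m e = 0 := by
      rw [← hA, ← hA, ← hu, ← map_mul, ← map_add,
        show A a + MvPolynomial.X 0 * A e = P - q * r by rw [hq]; ring, map_sub, map_mul, hr, mul_zero, sub_zero]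
      exact hP
    have ha : ∀ k, a.coeff k = 0 ∧ (∀ j, k = j + 1 → e.coeff j = 0) := by
      intro k
      have h1 := congrArg (Polynomial.coeff · k) h0
      simp only [Polynomial.coeff_zero, m, Polynomial.coe_mapRingHom, Polynomial.coeff_add, mul_assoc,
        Polynomial.coeff_C_mul, Polynomial.coeff_map] at h1
      rcases k with _ | j
      · rw [Polynomial.coeff_X_mul_zero, mul_zero, add_zero] at h1
        exact ⟨(hindep _ 0 (by rw [map_zero, zero_mul, add_zero]; exact h1)).1, fun j hj => absurd hj (by omega)⟩
      · rw [Polynomial.coeff_X_mul, Polynomial.coeff_map, mul_comm] at h1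
        obtain ⟨h2, h3⟩ := hindep _ _ h1
        exact ⟨h2, fun i hi => by rw [← Nat.succ_injective hi]; exact h3⟩
    rw [show a = 0 from Polynomial.ext fun k => (ha k).1,
      show e = 0 from Polynomial.ext fun k => (ha (k + 1)).2 k rfl, map_zero, mul_zero, add_zero, sub_zero] at h
    exact h
  · rw [Ideal.span_le, Set.singleton_subset_iff]
    exact RingHom.mem_ker.2 hr
  · have hmono : ∀ k, Polynomial.monomial k (G.coeff k) ∈ Ψ.range := by
      intro k
      rcases k with _ | j
      · rw [hc]
        exact ⟨MvPolynomial.C c, by simp [Ψ, Polynomial.monomial_zero_left]⟩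
      · obtain ⟨α, β, h⟩ := hspan (G.coeff (j + 1))
        refine ⟨A (Polynomial.monomial (j + 1) α) + MvPolynomial.X 0 * A (Polynomial.monomial j β), ?_⟩
        rw [AlgHom.toRingHom_eq_coe, RingHom.coe_coe, map_add, map_mul, hA, hA, hu, ← h]
        simp only [m, Polynomial.coe_mapRingHom, Polynomial.map_monomial, map_add, ← Polynomial.C_mul_X_pow_eq_monomial,
          map_mul]
        dsimp only [g, z]
        simp only [Polynomial.map_mul, Polynomial.map_C, Polynomial.map_pow, Polynomial.map_X]
        ring
    rw [G.as_sum_support]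
    exact Subalgebra.sum_mem _ fun k _ => hmono k

end Groth.Agent.S18121
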