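import Groth.Statements.S18123
import Mathlib

set_option autoImplicit false
universe u
open Pinch

namespace Groth.Agent.S18123

/-- Let K be a field in which 2 ≠ 0, S = K[x, y], and R ⊆ S the K-subalgebra generated by x^2, x y, y,
the coordinate ring of the pinch point with normalization S, obtained by gluing the plane along the
line y = 0 via x ↦ -x. A K-derivation D of S maps R into R if and only if D(y) is a multiple of y
and D(x) = y s + x p(x^2) for some s in S and some polynomial p in one variable. Every K-derivation
R → S extends uniquely to S, and under this identification the derivations mapping R into R form the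
image of the tangent sheaf of the pinch point in that of its normalization; so this image contains y
times all derivations of S, and modulo those it is spanned by the odd multiples x^(2k+1) ∂/∂x, the
part of the tangent sheaf of the line y = 0 invariant under x ↦ -x. (The text works over an
algebraically closed field of characteristic different from 2; the computation uses only 2 ≠ 0.) -/
theorem result
    (K : Type u) [Field K] [NeZero (2 : K)]
    (D : Derivation K (MvPolynomial (Fin 2) K) (MvPolynomial (Fin 2) K)) :
    letI x : MvPolynomial (Fin 2) K := MvPolynomial.X 0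
    letI y : MvPolynomial (Fin 2) K := MvPolynomial.X 1
    letI R : Subalgebra K (MvPolynomial (Fin 2) K) := Algebra.adjoin K {x ^ 2, x * y, y}
    (∀ r ∈ R, D r ∈ R) ↔
      (D y ∈ Ideal.span {y} ∧
        ∃ (s : MvPolynomial (Fin 2) K) (p : Polynomial K), D x = y * s + x * Polynomial.aeval (x ^ 2) p) := by
  let x : MvPolynomial (Fin 2) K := MvPolynomial.X 0
  let y : MvPolynomial (Fin 2) K := MvPolynomial.X 1
  let R : Subalgebra K (MvPolynomial (Fin 2) K) := Algebra.adjoin K {x ^ 2, x * y, y}
  show (∀ r ∈ R, D r ∈ R) ↔
      (D y ∈ Ideal.span {y} ∧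
        ∃ (s : MvPolynomial (Fin 2) K) (p : Polynomial K), D x = y * s + x * Polynomial.aeval (x ^ 2) p)
  have hx2 : x ^ 2 ∈ R := Algebra.subset_adjoin (by simp)
  have hxy : x * y ∈ R := Algebra.subset_adjoin (by simp)
  have hy : y ∈ R := Algebra.subset_adjoin (by simp)
  have hyS : ∀ s : MvPolynomial (Fin 2) K, y * s ∈ R ∧ x * y * s ∈ R := fun s => by
    induction s using MvPolynomial.induction_on with
    | C c =>
      rw [← MvPolynomial.algebraMap_eq]
      exact ⟨R.mul_mem hy (R.algebraMap_mem c), R.mul_mem hxy (R.algebraMap_mem c)⟩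
    | add p q hp hq => exact ⟨by rw [mul_add]; exact R.add_mem hp.1 hq.1, by rw [mul_add]; exact R.add_mem hp.2 hq.2⟩
    | mul_X p i hp =>
      fin_cases i
      · refine ⟨?_, ?_⟩
        · show y * (p * x) ∈ R
          rw [show y * (p * x) = x * y * p by ring]; exact hp.2
        · show x * y * (p * x) ∈ R
          rw [show x * y * (p * x) = x ^ 2 * (y * p) by ring]; exact R.mul_mem hx2 hp.1
      · refine ⟨?_, ?_⟩
        · show y * (p * y) ∈ R
          rw [show y * (p * y) = y * p * y by ring]; exact R.mul_mem hp.1 hy
        · show x * y * (p * y) ∈ R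
          rw [show x * y * (p * y) = x * y * p * y by ring]; exact R.mul_mem hp.2 hy
  let e : MvPolynomial (Fin 2) K →ₐ[K] Polynomial K := MvPolynomial.aeval ![Polynomial.X, 0]
  let ι : Polynomial K →ₐ[K] MvPolynomial (Fin 2) K := Polynomial.aeval x
  have hex : e x = Polynomial.X := by simp [e, x]
  have hey : e y = 0 := by simp [e, y]
  have hdiv : ∀ f, f - ι (e f) ∈ Ideal.span {y} := fun f => by
    induction f using MvPolynomial.induction_on with
    | C c => rw [← MvPolynomial.algebraMap_eq, AlgHom.commutes, AlgHom.commutes, sub_self]; exact zero_mem _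
    | add p q hp hq => rw [map_add, map_add, add_sub_add_comm]; exact add_mem hp hq
    | mul_X p i hp =>
      fin_cases i
      · show p * x - ι (e (p * x)) ∈ _
        rw [map_mul, hex, map_mul, show ι Polynomial.X = x by simp [ι], ← sub_mul]
        exact Ideal.mul_mem_right _ _ hp
      · show p * y - ι (e (p * y)) ∈ _
        rw [map_mul, hey, mul_zero, map_zero, sub_zero]
        exact Ideal.mul_mem_left _ _ (Ideal.mem_span_singleton_self y)
  have heR : ∀ f ∈ R, ∃ p : Polynomial K, e f = Polynomial.expand K 2 p := fun f hf => by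
    have : R ≤ (Polynomial.expand K 2).range.comap e := Algebra.adjoin_le (by
      rintro _ (rfl | rfl | rfl)
      · exact ⟨Polynomial.X, (Polynomial.expand_X 2).trans (show Polynomial.X ^ 2 = e (x ^ 2) by rw [map_pow, hex])⟩
      · exact ⟨0, show Polynomial.expand K 2 0 = e (x * y) by rw [map_zero, map_mul, hey, mul_zero]⟩
      · exact ⟨0, show Polynomial.expand K 2 0 = e y by rw [map_zero, hey]⟩)
    obtain ⟨p, hp⟩ := this hf
    exact ⟨p, hp.symm⟩
  have hιexp : ∀ p : Polynomial K, ι (Polynomial.expand K 2 p) = Polynomial.aeval (x ^ 2) p := fun p =>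
    Polynomial.expand_aeval 2 p x
  constructor
  · intro H
    obtain ⟨q, hq⟩ := heR _ (H y hy)
    obtain ⟨r₁, hr₁⟩ := heR _ (H _ hxy)
    obtain ⟨r, hr⟩ := heR _ (H _ hx2)
    rw [Derivation.leibniz, smul_eq_mul, smul_eq_mul, map_add, map_mul, map_mul, hex, hey, zero_mul, add_zero, hq]
      at hr₁
    have hq0 : q = 0 := Polynomial.ext fun k => by
      have h := congrArg (Polynomial.coeff · (k * 2 + 1)) hr₁
      simp only [Polynomial.coeff_X_mul, Polynomial.coeff_expand (show 0 < 2 by norm_num)] at h
      rw [if_pos ⟨k, by omega⟩, if_neg (by omega), Nat.mul_div_cancel _ (by norm_num : 0 < 2)] at h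
      rw [Polynomial.coeff_zero]; exact h
    refine ⟨?_, ?_⟩
    · have h := hdiv (D y)
      rwa [hq, hq0, map_zero, map_zero, sub_zero] at h
    · rw [pow_two, Derivation.leibniz, smul_eq_mul, map_add, map_mul, hex, ← two_mul] at hr
      have hr0 : r.coeff 0 = 0 := by
        have h := congrArg (Polynomial.coeff · 0) hr
        simp only [Polynomial.mul_coeff_zero, Polynomial.coeff_X_zero, zero_mul, mul_zero,
          Polynomial.coeff_expand (show 0 < 2 by norm_num), dvd_zero, if_true, Nat.zero_div] at h
        exact h.symm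
      obtain ⟨r', rfl⟩ := Polynomial.X_dvd_iff.2 hr0
      rw [map_mul, Polynomial.expand_X, pow_two, mul_assoc, mul_left_comm] at hr
      replace hr := mul_left_cancel₀ Polynomial.X_ne_zero hr
      obtain ⟨s, hs⟩ := Ideal.mem_span_singleton'.1 (hdiv (D x))
      refine ⟨s, Polynomial.C (2⁻¹ : K) * r', ?_⟩
      have h2 : e (D x) = Polynomial.X * Polynomial.expand K 2 (Polynomial.C (2⁻¹ : K) * r') := by
        rw [map_mul, Polynomial.expand_C, mul_left_comm, ← hr, ← mul_assoc,
          show (2 : Polynomial K) = Polynomial.C 2 from (map_ofNat _ 2).symm, ← Polynomial.C_mul,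
          inv_mul_cancel₀ (NeZero.ne (2 : K)), Polynomial.C_1, one_mul]
      have h3 : D x = s * y + ι (e (D x)) := by rw [hs, sub_add_cancel]
      have h4 : ι Polynomial.X = x := by simp [ι]
      rw [h2, map_mul, h4, hιexp, mul_comm s y] at h3
      exact h3
  · rintro ⟨hDy, s, p, hDx⟩ r hr
    obtain ⟨c, hc⟩ := Ideal.mem_span_singleton'.1 hDy
    induction hr using Algebra.adjoin_induction with
    | mem z hz =>
      rcases hz with rfl | rfl | rfl
      · rw [pow_two, Derivation.leibniz, smul_eq_mul, hDx,
          show x * (y * s + x * Polynomial.aeval (x ^ 2) p) + x * (y * s + x * Polynomial.aeval (x ^ 2) p) =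
            (x * y * s + x * y * s) + (x ^ 2 * Polynomial.aeval (x ^ 2) p + x ^ 2 * Polynomial.aeval (x ^ 2) p) by ring]
        have hp : Polynomial.aeval (x ^ 2) p ∈ R :=
          Algebra.adjoin_mono (show ({x ^ 2} : Set (MvPolynomial (Fin 2) K)) ⊆ {x ^ 2, x * y, y} from Set.singleton_subset_iff.2 (Or.inl rfl)) (Polynomial.aeval_mem_adjoin_singleton K _)
        exact R.add_mem (R.add_mem (hyS s).2 (hyS s).2) (R.add_mem (R.mul_mem hx2 hp) (R.mul_mem hx2 hp))
      · rw [Derivation.leibniz, smul_eq_mul, smul_eq_mul, ← hc, show x * (c * y) + y * D x = y * (x * c + D x) by ring]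
        exact (hyS _).1
      · rw [← hc, mul_comm]; exact (hyS _).1
    | algebraMap c => rw [Derivation.map_algebraMap]; exact R.zero_mem
    | add a b _ _ ha hb => rw [map_add]; exact R.add_mem ha hb
    | mul a b ha' hb' ha hb =>
      rw [Derivation.leibniz, smul_eq_mul, smul_eq_mul]
      exact R.add_mem (R.mul_mem ha' hb) (R.mul_mem hb' ha)

end Groth.Agent.S18123
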