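import Groth.Statements.S18127
import Mathlib.LinearAlgebra.Matrix.Basis
import Mathlib.LinearAlgebra.Projection
import Mathlib.LinearAlgebra.Dimension.Constructions
import Mathlib.Tactic

set_option autoImplicit false
set_option linter.style.haveILetI false

universe u
open LocAlg

namespace Groth.Agent.S18127

/-- Let R be a local ring with maximal ideal m and algebraically closed residue field, and M an n × n
matrix over R whose reduction modulo m has rank at most r. Then the determinant of M lies in m^(n −
r). (The published setting is the local ring of germs of holomorphic functions at a point of a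
complex manifold, where this says that the determinant vanishes to order at least n − r at a point
where the matrix has rank at most r.) -/
theorem result
    {R : Type u} [CommRing R] [IsLocalRing R] [IsAlgClosed (IsLocalRing.ResidueField R)]
    {n : ℕ} (M : Matrix (Fin n) (Fin n) R) (r : ℕ)
    (hr : (M.map (IsLocalRing.residue R)).rank ≤ r) :
    M.det ∈ IsLocalRing.maximalIdeal R ^ (n - r) := by
  classical
  let k := IsLocalRing.ResidueField R
  let ρ := IsLocalRing.residue R
  let Mb := M.map ρ
  let K := LinearMap.ker Mb.mulVecLin
  obtain ⟨W, hW⟩ := Submodule.exists_isCompl K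
  let d := Module.finrank k K
  let d' := Module.finrank k W
  have hn : d + d' = n := by
    rw [Submodule.finrank_add_eq_of_isCompl hW]; simp
  have hd : n - r ≤ d := by
    have h1 := Mb.mulVecLin.finrank_range_add_finrank_ker
    rw [Module.finrank_fin_fun] at h1
    have h2 : Module.finrank k (LinearMap.range Mb.mulVecLin) ≤ r := hr
    change n - r ≤ Module.finrank k K
    change Module.finrank k (LinearMap.range Mb.mulVecLin) + Module.finrank k K = n at h1
    omega
  let b : Module.Basis (Fin d ⊕ Fin d') k (Fin n → k) :=
    ((Module.finBasis k K).prod (Module.finBasis k W)).map (Submodule.prodEquivOfIsCompl K W hW)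
  let σ : Fin n ≃ Fin d ⊕ Fin d' := (finCongr hn.symm).trans finSumFinEquiv.symm
  let B := b.reindex σ.symm
  let Q₀ : Matrix (Fin n) (Fin n) k := Matrix.of fun i j => B j i
  have hQ₀ : Q₀.det ≠ 0 := by
    have : Q₀ = (Pi.basisFun k (Fin n)).toMatrix B := by ext i j; simp [Q₀, Module.Basis.toMatrix]
    rw [this]
    haveI := (Pi.basisFun k (Fin n)).invertibleToMatrix B
    exact (Matrix.isUnit_det_of_invertible _).ne_zero
  choose lift hlift using IsLocalRing.residue_surjective (R := R)
  let Q : Matrix (Fin n) (Fin n) R := Q₀.map lift
  have hQ : Q.map ρ = Q₀ := by ext i j; exact hlift _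
  have hQu : IsUnit Q.det := by
    rw [← IsLocalRing.notMem_maximalIdeal, ← IsLocalRing.residue_eq_zero_iff, RingHom.map_det]
    change (Q.map ρ).det ≠ 0
    rwa [hQ]
  let S : Finset (Fin n) := Finset.univ.filter fun j => (σ j).isLeft
  have hS : S.card = d := by
    have : S = (Finset.univ : Finset (Fin d)).map
        (Function.Embedding.inl.trans σ.symm.toEmbedding) := by
      ext j
      simp only [S, Finset.mem_filter, Finset.mem_univ, true_and, Finset.mem_map,
        Function.Embedding.trans_apply, Equiv.coe_toEmbedding, Sum.isLeft_iff]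
      constructor
      · rintro ⟨a, ha⟩; exact ⟨a, by simp [← ha]⟩
      · rintro ⟨a, rfl⟩; exact ⟨a, by simp⟩
    simp [this]
  have hcol : ∀ i, ∀ j ∈ S, (M * Q) i j ∈ IsLocalRing.maximalIdeal R := by
    intro i j hj
    rw [← IsLocalRing.residue_eq_zero_iff]
    have : ρ ((M * Q) i j) = (Mb * Q₀) i j := by
      rw [← hQ, ← Matrix.map_mul]; rfl
    rw [show IsLocalRing.residue R = ρ from rfl, this]
    obtain ⟨a, ha⟩ := Sum.isLeft_iff.1 (Finset.mem_filter.1 hj).2
    have hB : B j ∈ K := by
      simp only [B, Module.Basis.reindex_apply, Equiv.symm_symm, ha, b, Module.Basis.map_apply,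
        Submodule.coe_prodEquivOfIsCompl', Module.Basis.prod_apply_inl_fst,
        Module.Basis.prod_apply_inl_snd, Submodule.coe_zero, add_zero, SetLike.coe_mem]
    have h3 : Mb.mulVec (B j) = 0 := hB
    exact congrFun h3 i
  have hdet : (M * Q).det ∈ IsLocalRing.maximalIdeal R ^ (n - r) := by
    rw [Matrix.det_apply]
    refine Ideal.sum_mem _ fun π _ => ?_
    rw [Units.smul_def, zsmul_eq_mul]
    refine Ideal.mul_mem_left _ _ ?_
    rw [← Finset.prod_sdiff (Finset.subset_univ S)]
    refine Ideal.mul_mem_left _ _ (Ideal.pow_le_pow_right hd ?_)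
    rw [← hS, ← Finset.prod_const]
    exact Ideal.prod_mem_prod fun j hj => hcol _ j hj
  rw [Matrix.det_mul] at hdet
  exact (Ideal.mul_unit_mem_iff_mem _ hQu).1 hdet

end Groth.Agent.S18127
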