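import Groth.Statements.S18128
import Groth.Agent.BECrit.Main

set_option autoImplicit false
universe u
open CAlg

namespace Groth.Agent.S18128

/-- Local step of Buchsbaum–Eisenbud: let R be a Noetherian local ring with maximal ideal m, and 0 →
R^(n_e) → ⋯ → R^(n_1) → R^(n_0) a complex of finite free modules, the map R^(n_(i+1)) → R^(n_i)
being given by the matrix A i, with 1 ≤ e and e at most the depth of R (there is an R-regular
sequence of length e inside m). If for every prime ideal p ≠ m the complex of matrices over R_p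
obtained by localization is exact at R_p^(n_e), …, R_p^(n_1), then the complex is exact at R^(n_e),
…, R^(n_1). -/
theorem result
    {R : Type u} [CommRing R] [IsLocalRing R] [IsNoetherianRing R]
    (e : ℕ) (he : 1 ≤ e) (n : ℕ → ℕ) (A : (i : ℕ) → Matrix (Fin (n i)) (Fin (n (i + 1))) R)
    (hA : ∀ i, i + 2 ≤ e → A i * A (i + 1) = 0)
    (rs : List R) (hlen : rs.length = e) (hmem : ∀ x ∈ rs, x ∈ IsLocalRing.maximalIdeal R)
    (hreg : RingTheory.Sequence.IsRegular R rs)
    (hloc : ∀ (p : Ideal R) [p.IsPrime], p ≠ IsLocalRing.maximalIdeal R →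
      LinearMap.ker ((A (e - 1)).map (algebraMap R (Localization.AtPrime p))).mulVecLin = ⊥ ∧
        ∀ i, i + 2 ≤ e →
          LinearMap.ker ((A i).map (algebraMap R (Localization.AtPrime p))).mulVecLin =
            LinearMap.range ((A (i + 1)).map (algebraMap R (Localization.AtPrime p))).mulVecLin) :
    LinearMap.ker (A (e - 1)).mulVecLin = ⊥ ∧
      ∀ i, i + 2 ≤ e → LinearMap.ker (A i).mulVecLin = LinearMap.range (A (i + 1)).mulVecLin := by
  refine (BECrit.exactAll_iff e n A he).1 (BECrit.exactAll_of_depth e n A hA e le_rfl ?_ ?_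
    (fun i h1 h2 => absurd h2 (not_lt.2 h1)) ?_)
  · exact fun l hl => LocH.subsingleton_of_isWeaklyRegular _ rs _ hreg.toIsWeaklyRegular hmem l (hlen ▸ hl)
  · intro l hl
    haveI : Module.Free R (BECrit.Cok e n A e) := Module.Free.of_equiv
      (Submodule.quotEquivOfEqBot _ (BECrit.img_of_le e n A le_rfl)).symm
    exact BECrit.subsingleton_cok e n A
      (LocH.subsingleton_of_isWeaklyRegular _ rs _ hreg.toIsWeaklyRegular hmem l (hlen ▸ hl))
  · intro p hp hpm
    haveI := hp
    exact BECrit.locEx_of_exactAll_atPrime e n A p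
      ((BECrit.exactAll_iff e n (BECrit.mapA n A _) he).2 (hloc p hpm))

end Groth.Agent.S18128
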