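import Groth.Statements.S18129
import Groth.Agent.SurfAdj.Sections

set_option autoImplicit false
universe u
open CategoryTheory CategoryTheory.Limits AlgebraicGeometry
open Surf

namespace Groth.Agent.S18129

/-- Let X be a K3 surface over an algebraically closed field k of characteristic zero — an integral
scheme, smooth and proper over k, of dimension two, carrying an ample invertible module, whose
structure sheaf is a second exterior power of its sheaf of differentials (trivial canonical sheaf)
and with H^1(X, O_X) = 0. If L is an invertible O_X-module which is numerically trivial — the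
intersection number (L·M), the alternating sum χ(O_X) − χ(L) − χ(M) + χ(L ⊗ M) of Euler
characteristics, vanishes for every invertible O_X-module M — then L ≅ O_X. Consequently the natural
surjections from Pic(X) to the Néron–Severi group and to the group of numerical equivalence classes
are bijective. -/
theorem result (k : Type u) [Field k] [IsAlgClosed k] [CharZero k]
    (X : Scheme.{u}) [X.Over (Spec (CommRingCat.of k))] [IsIntegral X]
    [Smooth (X ↘ Spec (CommRingCat.of k))] (hdim : topologicalKrullDim X = 2)
    [IsProper (X ↘ Spec (CommRingCat.of k))]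
    (H : X.Modules) (hHa : CohB1.IsAmple H)
    (hK : Canon.IsTopDiff (X ↘ Spec (CommRingCat.of k)) 2 (Coh.structureModule X))
    (hq : Module.finrank k (Coh.HH X (Coh.structureModule X) 1) = 0)
    (L : X.Modules) (hL : PicF.IsInvertible L)
    (hnum : ∀ M : X.Modules, PicF.IsInvertible M →
      FGA.intNum k X 2 ![L, M] (Coh.structureModule X) = 0) :
    Nonempty (L ≅ Coh.structureModule X) := by
  have hO := TMul.isInvertible_structureModule (X := X)
  obtain ⟨L', hL', ⟨e⟩⟩ := Groth.Agent.W7Hull.exists_tensor_inverse hL
  have hRR := Groth.Agent.SurfAdj.riemann_roch k hdim hK hL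
  rw [hnum L hL, hnum _ hO] at hRR
  have hOe := Groth.Agent.SurfAdj.euler_eq3 k hdim (Coh.structureModule X)
  rw [Groth.Agent.ConnDiv.h0_structure, show Groth.Agent.CurveRR.h k (Coh.structureModule X) 1 = 0 from hq] at hOe
  have hLe := Groth.Agent.SurfAdj.euler_eq3 k hdim L
  have d2 := Groth.Agent.SurfAdj.h_eq_dual k hdim hK hL ⟨TMul.commIso _ _ ≪≫ e⟩ 2 le_rfl
  have hLH : Groth.Agent.Nakai.inter k L H = 0 := by
    rw [← Groth.Agent.SurfAdj.intNum_inter k hdim, hnum H hHa.1, Int.cast_zero]
  by_cases h0 : 0 < Groth.Agent.CurveRR.h k L 0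
  · obtain ⟨s, hs⟩ := Groth.Agent.Nakai.exists_section_of_h0 k h0
    haveI := Groth.Agent.SurfAdj.isIso_of_deg_nonpos k hdim hL hHa hLH.le s hs
    exact ⟨(asIso s).symm⟩
  · norm_num at d2
    have h2 : 0 < Groth.Agent.CurveRR.h k (CohB1.tensorMod (Coh.structureModule X) L') 0 := by omega
    rw [Groth.Agent.CurveRR.h_eq_of_iso (TMul.leftUnitIso L') 0] at h2
    obtain ⟨s, hs⟩ := Groth.Agent.Nakai.exists_section_of_h0 k h2
    haveI := Groth.Agent.SurfAdj.isIso_of_deg_nonpos k hdim hL' hHa
      (by rw [Groth.Agent.Nakai.inter_inv k hdim.le hL ⟨e⟩ hHa.1, hLH]; simp) s hs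
    exact ⟨(SecTwist.unitorR L).symm ≪≫ PicGrp.tensorModIso (Iso.refl L) (asIso s) ≪≫ e⟩

end Groth.Agent.S18129
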