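import Groth.Statements.S18130
import Groth.Agent.StabK3.Reduce
import Groth.Agent.StabK3.Ample
import Groth.Agent.StabK3.EndScalar

set_option autoImplicit false
universe u
open CategoryTheory CategoryTheory.Limits AlgebraicGeometry
open Surf

namespace Groth.Agent.S18130

/-- Let X be a K3 surface over an algebraically closed field k of characteristic zero — an integral
scheme, smooth and proper over k, of dimension two, carrying an ample invertible module, whose
structure sheaf is a second exterior power of its sheaf of differentials (trivial canonical sheaf)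
and with H^1(X, O_X) = 0. Let i : C → X be a closed immersion over k with C integral, smooth over k
and of dimension one, whose ideal sheaf I_C is invertible and such that the Picard group of X is
infinite cyclic, generated by the class of I_C (equivalently of O_X(C)). Then for every invertible
O_C-module A the Brill–Noether number is non-negative: h^0(C, A) · h^1(C, A) ≤ g(C), where g(C) =
dim_k H^1(C, O_C). -/
theorem result (k : Type u) [Field k] [IsAlgClosed k] [CharZero k]
    (X : Scheme.{u}) [X.Over (Spec (CommRingCat.of k))] [IsIntegral X]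
    [Smooth (X ↘ Spec (CommRingCat.of k))] (hdim : topologicalKrullDim X = 2)
    [IsProper (X ↘ Spec (CommRingCat.of k))]
    (H : X.Modules) (hHa : CohB1.IsAmple H)
    (hK : Canon.IsTopDiff (X ↘ Spec (CommRingCat.of k)) 2 (Coh.structureModule X))
    (hq : Module.finrank k (Coh.HH X (Coh.structureModule X) 1) = 0)
    [PicGrp.Law X]
    (C : Scheme.{u}) [C.Over (Spec (CommRingCat.of k))] [IsIntegral C]
    [Smooth (C ↘ Spec (CommRingCat.of k))] (hC : topologicalKrullDim C = 1)
    (i : C ⟶ X) [IsClosedImmersion i] (hi : i ≫ (X ↘ Spec (CommRingCat.of k)) = C ↘ Spec (CommRingCat.of k))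
    (hI : PicF.IsInvertible (ClSub.idealMod i.ker))
    (hgen : ∀ c : PicLoc.PicSet X, ∃ n : ℤ, c = PicGrp.cls (ClSub.idealMod i.ker) hI ^ n)
    (hfree : ∀ n : ℤ, PicGrp.cls (ClSub.idealMod i.ker) hI ^ n = 1 → n = 0)
    (A : C.Modules) (hA : PicF.IsInvertible A) :
    Module.finrank k (Coh.HH C A 0) * Module.finrank k (Coh.HH C A 1) ≤ Curv2.genus k C := by
  haveI : IsProper (C ↘ Spec (CommRingCat.of k)) := hi ▸ inferInstanceAs (IsProper (i ≫ (X ↘ Spec (CommRingCat.of k))))
  haveI := CurveRR.isNoetherian_of_proper k C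
  haveI := CurveRR.isNoetherian_of_proper k X
  change CurveRR.h k A 0 * CurveRR.h k A 1 ≤ Curv2.genus k C
  rcases Nat.eq_zero_or_pos (CurveRR.h k A 0) with h0 | h0
  · rw [h0, zero_mul]; exact Nat.zero_le _
  obtain ⟨A', hA', lam, hepi, hlam, hle⟩ := StabK3.exists_generated k hdim hC i hi hA h0
  haveI := hepi
  haveI := StabK3.isIntegral_ker i
  obtain ⟨L, hL, hLI⟩ := StabK3.exists_ample_inverse k hdim i.ker ((StabK3.dim_support_ker i).trans hC) hI hgen hHa
  have hμ := StabK3.isMuStable_lm k hdim i hC hA' lam hL hI hgen hLI hK hlam.injective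
  have hr := StabK3.isReflexive_lm k hdim i hC hA' lam
  have hEnd : CurveRR.h k (RefHull.homSh (kernel lam) (kernel lam)) 0 ≤ 1 :=
    StabK3.h0_endSheaf_le k fun φ => StabLib.Sh.scalar_muStable k hL 2 (by norm_num) (hdim.trans (by norm_cast)) hr hμ φ
  have hFl := StabK3.isFinLocFree_kernel k hdim i hC hA' lam
  haveI := ExtShX.isIso_dualTensorTo hFl (kernel lam)
  have h2 : CurveRR.h k (RefHull.homSh (kernel lam) (kernel lam)) 2 =
      CurveRR.h k (RefHull.homSh (kernel lam) (kernel lam)) 0 := by
    rw [← StabK3.h_endSheaf k hdim hK hq i hC hA' lam hlam 2 le_rfl]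
    exact CurveRR.h_eq_of_iso (TMul.commIso (kernel lam) (RefHull.dual (kernel lam)) ≪≫
      asIso (ExtShX.dualTensorTo (kernel lam) (kernel lam))).symm 2
  have hχ := StabK3.euler_endSheaf k hdim hK hq i hi hC hA' lam
  rw [SurfAdj.euler_eq3 k hdim, h2] at hχ
  have hA0 := StabK3.h0_eq_rank k hdim i hi hA' lam hlam
  rw [CurveRR.euler_eq (k := k) (F := A') hC.le,
    CurveRR.euler_structure (k := k) hC.le ConnDiv.h0_structure, hA0] at hχ
  have hb : ((CurveRR.h k A 0 * CurveRR.h k A' 1 : ℕ) : ℤ) ≤ (Curv2.genus k C : ℤ) := by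
    push_cast
    have h1 : (CurveRR.h k (RefHull.homSh (kernel lam) (kernel lam)) 0 : ℤ) ≤ 1 := by exact_mod_cast hEnd
    have h3 : (0 : ℤ) ≤ CurveRR.h k (RefHull.homSh (kernel lam) (kernel lam)) 1 := Int.natCast_nonneg _
    linarith
  exact (Nat.mul_le_mul_left _ hle).trans (by exact_mod_cast hb)

end Groth.Agent.S18130
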