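import Groth.Statements.S18135
import Groth.Agent.SurfAdj.Sections

set_option autoImplicit false
universe u
open CategoryTheory CategoryTheory.Limits AlgebraicGeometry
open Surf

namespace Groth.Agent.S18135

/-- Torsion-freeness of Pic: let X be a K3 surface over an algebraically closed field k of
characteristic zero — an integral scheme, smooth and proper over k, of dimension two, carrying an
ample invertible module, whose structure sheaf is a second exterior power of its sheaf of
differentials (trivial canonical sheaf) and with H^1(X, O_X) = 0. If L is an invertible O_X-module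
some positive tensor power of which is isomorphic to O_X, then L ≅ O_X; that is, the Picard group of
X has no torsion (the published statement adds that it is free of finite rank, by finite generation
of the Néron–Severi group). -/
theorem result (k : Type u) [Field k] [IsAlgClosed k] [CharZero k]
    (X : Scheme.{u}) [X.Over (Spec (CommRingCat.of k))] [IsIntegral X]
    [Smooth (X ↘ Spec (CommRingCat.of k))] (hdim : topologicalKrullDim X = 2)
    [IsProper (X ↘ Spec (CommRingCat.of k))]
    (H : X.Modules) (hHa : CohB1.IsAmple H)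
    (hK : Canon.IsTopDiff (X ↘ Spec (CommRingCat.of k)) 2 (Coh.structureModule X))
    (hq : Module.finrank k (Coh.HH X (Coh.structureModule X) 1) = 0)
    (L : X.Modules) (hL : PicF.IsInvertible L) (n : ℕ) (hn : 1 ≤ n)
    (htors : Nonempty (CohB1.tensorPow L n ≅ Coh.structureModule X)) :
    Nonempty (L ≅ Coh.structureModule X) := by
  have hz : ∀ M : X.Modules, PicF.IsInvertible M → Groth.Agent.Nakai.inter k L M = 0 := fun M hM => by
    have h := Groth.Agent.Nakai.inter_pow k hdim.le hL hM n
    rw [Groth.Agent.Nakai.inter_iso k (A' := Coh.structureModule X) ((PicGrp.cl_eq_cl_iff _ _).2 htors),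
      Groth.Agent.Nakai.inter_one, zero_eq_mul] at h
    rcases h with h | h
    · exact absurd (Nat.cast_eq_zero.1 h) (by omega)
    · exact h
  have hnum : ∀ M : X.Modules, PicF.IsInvertible M →
      FGA.intNum k X 2 ![L, M] (Coh.structureModule X) = 0 := fun M hM => by
    exact_mod_cast (Groth.Agent.SurfAdj.intNum_inter k hdim (A := L) (B := M)).trans (hz M hM)
  have hO := TMul.isInvertible_structureModule (X := X)
  obtain ⟨L', hL', ⟨e⟩⟩ := Groth.Agent.W7Hull.exists_tensor_inverse hL
  have hRR := Groth.Agent.SurfAdj.riemann_roch k hdim hK hL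
  rw [hnum L hL, hnum _ hO] at hRR
  have hOe := Groth.Agent.SurfAdj.euler_eq3 k hdim (Coh.structureModule X)
  rw [Groth.Agent.ConnDiv.h0_structure, show Groth.Agent.CurveRR.h k (Coh.structureModule X) 1 = 0 from hq] at hOe
  have hLe := Groth.Agent.SurfAdj.euler_eq3 k hdim L
  have d2 := Groth.Agent.SurfAdj.h_eq_dual k hdim hK hL ⟨TMul.commIso _ _ ≪≫ e⟩ 2 le_rfl
  have hLH : Groth.Agent.Nakai.inter k L H = 0 := by
    rw [← Groth.Agent.SurfAdj.intNum_inter k hdim, hnum H hHa.1, Int.cast_zero]
  by_cases h0 : 0 < Groth.Agent.CurveRR.h k L 0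
  · obtain ⟨s, hs⟩ := Groth.Agent.Nakai.exists_section_of_h0 k h0
    haveI := Groth.Agent.SurfAdj.isIso_of_deg_nonpos k hdim hL hHa hLH.le s hs
    exact ⟨(asIso s).symm⟩
  · norm_num at d2
    have h2 : 0 < Groth.Agent.CurveRR.h k (CohB1.tensorMod (Coh.structureModule X) L') 0 := by omega
    rw [Groth.Agent.CurveRR.h_eq_of_iso (TMul.leftUnitIso L') 0] at h2
    obtain ⟨s, hs⟩ := Groth.Agent.Nakai.exists_section_of_h0 k h2
    haveI := Groth.Agent.SurfAdj.isIso_of_deg_nonpos k hdim hL' hHa
      (by rw [Groth.Agent.Nakai.inter_inv k hdim.le hL ⟨e⟩ hHa.1, hLH]; simp) s hs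
    exact ⟨(SecTwist.unitorR L).symm ≪≫ PicGrp.tensorModIso (Iso.refl L) (asIso s) ≪≫ e⟩

end Groth.Agent.S18135
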