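import Groth.Statements.S18136

set_option linter.style.haveILetI false

set_option autoImplicit false
universe u v
open IsLocalRing
open CAlg

namespace Groth.Agent.S18136

/-- Let A be a regular local ring with maximal ideal m and residue field k, written as a directed
colimit of regular local rings A_j with local transition maps (compatible maps ψ_j : A_j → A that
are jointly surjective, an element dying in A dying at some later stage). Let f_1, …, f_c, g_1, …,
g_d ∈ m have linearly independent classes in m/m^2 over k, and put I = (f_1, …, f_c) ⊆ I' = (f_1, …,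
f_c, g_1, …, g_d) (so I is generated by part of a regular system of parameters of A and I'/I by part
of a regular system of parameters of A/I; for a regular local ring the condition on I ⊆ I' is stated
through such a joint family). Then there are an index j_0 and ideals I_j ⊆ I'_j ⊆ A_j for j ≥ j_0
such that: each I_j is generated by c elements and I'_j by these together with d further elements of
the maximal ideal m_j, the c + d classes in m_j/m_j^2 being linearly independent over the residue
field of A_j; the transition maps carry I_i, I'_i onto generators of I_j, I'_j for j_0 ≤ i ≤ j; and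
I_j, I'_j generate I, I' in A. -/
theorem result
    {A : Type u} [CommRing A] [IsRegularLocalRing A]
    {ι : Type v} [Preorder ι] [Nonempty ι] [IsDirected ι (· ≤ ·)]
    (B : ι → Type u) [∀ j, CommRing (B j)] [∀ j, IsRegularLocalRing (B j)]
    (φ : ∀ i j, i ≤ j → (B i →+* B j)) (hφloc : ∀ i j (h : i ≤ j), IsLocalHom (φ i j h))
    (hφ : ∀ i j l (hij : i ≤ j) (hjl : j ≤ l), (φ j l hjl).comp (φ i j hij) = φ i l (hij.trans hjl))
    (ψ : ∀ j, B j →+* A) (hψ : ∀ i j (h : i ≤ j), (ψ j).comp (φ i j h) = ψ i)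
    (hsurj : ∀ a : A, ∃ j, ∃ x : B j, ψ j x = a)
    (hker : ∀ j (x : B j), ψ j x = 0 → ∃ l, ∃ h : j ≤ l, φ j l h x = 0)
    (c d : ℕ) (f : Fin c → maximalIdeal A) (g : Fin d → maximalIdeal A)
    (hind : LinearIndependent (ResidueField A) (⇑(maximalIdeal A).toCotangent ∘ Sum.elim f g)) :
    ∃ j₀ : ι, ∃ (P : ∀ j, j₀ ≤ j → Ideal (B j)) (Q : ∀ j, j₀ ≤ j → Ideal (B j)),
      (∀ j (hj : j₀ ≤ j), ∃ (F : Fin c → maximalIdeal (B j)) (E : Fin d → maximalIdeal (B j)),
        LinearIndependent (ResidueField (B j)) (⇑(maximalIdeal (B j)).toCotangent ∘ Sum.elim F E) ∧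
        P j hj = Ideal.span (Set.range (fun s => (F s : B j))) ∧
        Q j hj = P j hj ⊔ Ideal.span (Set.range (fun t => (E t : B j)))) ∧
      (∀ i j (hi : j₀ ≤ i) (hij : i ≤ j),
        (P i hi).map (φ i j hij) = P j (le_trans hi hij) ∧ (Q i hi).map (φ i j hij) = Q j (le_trans hi hij)) ∧
      (∀ j (hj : j₀ ≤ j),
        (P j hj).map (ψ j) = Ideal.span (Set.range (fun s => (f s : A))) ∧
        (Q j hj).map (ψ j) = Ideal.span (Set.range (fun s => (f s : A))) ⊔ Ideal.span (Set.range (fun t => (g t : A)))) := by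
  classical
  have hloc : ∀ j, IsLocalHom (ψ j) := fun j => ⟨fun x hx => by
    obtain ⟨a, ha⟩ := hx.exists_right_inv
    obtain ⟨l, y, rfl⟩ := hsurj a
    obtain ⟨n, hjn, hln⟩ := exists_ge_ge j l
    have h0 : ψ n (φ j n hjn x * φ l n hln y - 1) = 0 := by
      rw [map_sub, map_mul, map_one, ← RingHom.comp_apply, ← RingHom.comp_apply, hψ, hψ, ha, sub_self]
    obtain ⟨q, hnq, hq⟩ := hker n _ h0
    rw [map_sub, map_mul, map_one, sub_eq_zero, ← RingHom.comp_apply, hφ] at hq
    haveI := hφloc j q (hjn.trans hnq)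
    exact isUnit_of_map_unit (φ j q (hjn.trans hnq)) x (IsUnit.of_mul_eq_one _ hq)⟩
  choose k hk using fun z : Fin c ⊕ Fin d => hsurj (Sum.elim f g z : maximalIdeal A)
  choose x hx using hk
  obtain ⟨j₀, hj₀⟩ := (Finset.univ.image k).exists_le
  have hkj : ∀ z, k z ≤ j₀ := fun z => hj₀ _ (Finset.mem_image_of_mem _ (Finset.mem_univ _))
  let T : ∀ j, j₀ ≤ j → Fin c ⊕ Fin d → B j := fun j hj z => φ (k z) j ((hkj z).trans hj) (x z)
  have hT : ∀ j hj z, ψ j (T j hj z) = ((Sum.elim f g z : maximalIdeal A) : A) := fun j hj z => by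
    simp only [T]
    rw [← RingHom.comp_apply, hψ]
    exact hx z
  have hTm : ∀ j hj z, T j hj z ∈ maximalIdeal (B j) := fun j hj z => by
    haveI := hloc j
    rw [mem_maximalIdeal, mem_nonunits_iff]
    intro hu
    exact (mem_maximalIdeal _).1 (Sum.elim f g z : maximalIdeal A).2 (hT j hj z ▸ hu.map (ψ j))
  have hTφ : ∀ i j hi (hij : i ≤ j) z, φ i j hij (T i hi z) = T j (hi.trans hij) z := fun i j hi hij z => by
    simp only [T]
    rw [← RingHom.comp_apply, hφ]
  refine ⟨j₀, fun j hj => Ideal.span (Set.range fun s => T j hj (Sum.inl s)),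
    fun j hj => Ideal.span (Set.range fun s => T j hj (Sum.inl s)) ⊔ Ideal.span (Set.range fun t => T j hj (Sum.inr t)),
    fun j hj => ⟨fun s => ⟨_, hTm j hj (Sum.inl s)⟩, fun t => ⟨_, hTm j hj (Sum.inr t)⟩, ?_, rfl, rfl⟩, ?_, ?_⟩
  · let v : Fin c ⊕ Fin d → maximalIdeal (B j) := fun z => ⟨T j hj z, hTm j hj z⟩
    have hv : Sum.elim (fun s => (⟨_, hTm j hj (Sum.inl s)⟩ : maximalIdeal (B j)))
        (fun t => ⟨_, hTm j hj (Sum.inr t)⟩) = v := funext fun z => by cases z <;> rfl
    rw [hv, Fintype.linearIndependent_iff]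
    intro a ha z
    choose a' ha' using fun z => residue_surjective (a z)
    have h0 : (maximalIdeal (B j)).toCotangent (∑ z, a' z • v z) = 0 := by
      rw [map_sum, ← ha]
      refine Finset.sum_congr rfl fun z _ => ?_
      rw [map_smul, ← ha']
      exact (IsScalarTower.algebraMap_smul (ResidueField (B j)) (a' z) _).symm
    rw [Ideal.toCotangent_eq_zero] at h0
    haveI := hloc j
    have hm : (maximalIdeal (B j)).map (ψ j) ≤ maximalIdeal A :=
      ((local_hom_TFAE (ψ j)).out 0 2).1 (hloc j)
    have hA : (((∑ z, ψ j (a' z) • (Sum.elim f g z : maximalIdeal A)) : maximalIdeal A) : A) ∈ maximalIdeal A ^ 2 := by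
      have h1 : ψ j ((∑ z, a' z • v z : maximalIdeal (B j)) : B j) ∈ maximalIdeal A ^ 2 :=
        Ideal.pow_right_mono hm 2 (Ideal.map_pow (ψ j) (maximalIdeal (B j)) 2 ▸ Ideal.mem_map_of_mem (ψ j) h0)
      simp only [Submodule.coe_sum, Submodule.coe_smul, smul_eq_mul, map_sum, map_mul, v, hT] at h1 ⊢
      exact h1
    rw [← Ideal.toCotangent_eq_zero, map_sum] at hA
    have h2 := Fintype.linearIndependent_iff.1 hind (fun z => residue A (ψ j (a' z))) (by
      rw [← hA]
      refine Finset.sum_congr rfl fun z _ => ?_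
      rw [map_smul]
      exact IsScalarTower.algebraMap_smul (ResidueField A) (ψ j (a' z)) _) z
    rw [residue_eq_zero_iff, mem_maximalIdeal, mem_nonunits_iff] at h2
    rw [← ha', residue_eq_zero_iff, mem_maximalIdeal, mem_nonunits_iff]
    exact fun hu => h2 (hu.map (ψ j))
  · intro i j hi hij
    simp only [Ideal.map_sup, Ideal.map_span, ← Set.range_comp, Function.comp_def, hTφ, and_self]
  · intro j hj
    simp only [Ideal.map_sup, Ideal.map_span, ← Set.range_comp, Function.comp_def, hT, Sum.elim_inl, Sum.elim_inr, and_self]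

end Groth.Agent.S18136
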