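import Groth.Statements.S18153
import Mathlib.Algebra.MvPolynomial.PDeriv
import Mathlib.LinearAlgebra.Matrix.Determinant.Basic
import Mathlib.Algebra.CharP.Lemmas
import Mathlib.Data.ZMod.Basic
import Mathlib.Algebra.Field.ZMod
import Mathlib.LinearAlgebra.Matrix.ToLinearEquiv
-- import your own Groth.Agent.* helpers here

set_option autoImplicit false
set_option linter.style.haveILetI false
set_option linter.unusedSimpArgs false
universe u w
open FrobAlg

namespace Groth.Agent.S18153

/-- Let R be a commutative ring of prime characteristic p and f_1, …, f_m (m ≥ 1) polynomials over R in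
the variables t_1, …, t_m and a further, possibly empty, family of variables s_a. Then in the m × m
Jacobian determinant det(∂f_i/∂t_j) with respect to the t-variables, the coefficient of the monomial
t_1^{p-1} ⋯ t_m^{p-1} (all s-exponents zero) vanishes. (In the source this is the claim, for formal
power series in n ≥ m variables over the base field, to which the proof of the proposition reduces;
the coefficient in question only involves truncations of the f_i, so the polynomial form over any
ring of characteristic p is the same assertion.) -/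
theorem result
    (p : ℕ) [Fact p.Prime] (R : Type u) [CommRing R] [CharP R p]
    {m : ℕ} (hm : 0 < m) (σ : Type w) (f : Fin m → MvPolynomial (Fin m ⊕ σ) R) :
    MvPolynomial.coeff
        (Finsupp.sumElim (Finsupp.equivFunOnFinite.symm fun _ : Fin m => p - 1) (0 : σ →₀ ℕ))
        (Matrix.of fun i j : Fin m => MvPolynomial.pderiv (Sum.inl j) (f i)).det = 0 := by
  classical
  have hp : p.Prime := Fact.out
  set tgt : Fin m ⊕ σ →₀ ℕ :=
    Finsupp.sumElim (Finsupp.equivFunOnFinite.symm fun _ : Fin m => p - 1) (0 : σ →₀ ℕ) with htgt
  let ones : Fin m ⊕ σ →₀ ℕ := ∑ j : Fin m, Finsupp.single (Sum.inl j) 1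
  let Jf : Matrix (Fin m) (Fin m) (MvPolynomial (Fin m ⊕ σ) R) :=
    Matrix.of fun i j => MvPolynomial.pderiv (Sum.inl j) (f i)
  -- multiply the `j`-th column by `X_j`
  have hmono : MvPolynomial.monomial ones (1 : R) =
      ∏ j : Fin m, MvPolynomial.X (Sum.inl j : Fin m ⊕ σ) := by
    rw [MvPolynomial.monomial_sum_one]
    rfl
  have hX : (Matrix.of fun i j : Fin m => MvPolynomial.X (Sum.inl j) * Jf i j).det =
      MvPolynomial.monomial ones (1 : R) * Jf.det := by
    rw [hmono, Matrix.det_mul_row]
  suffices h : MvPolynomial.coeff (ones + tgt)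
      (Matrix.of fun i j : Fin m => MvPolynomial.X (Sum.inl j) * Jf i j).det = 0 by
    rwa [hX, MvPolynomial.coeff_monomial_mul, one_mul] at h
  -- expand every row along monomials
  have hrow : (Matrix.of fun i j : Fin m => MvPolynomial.X (Sum.inl j) * Jf i j) =
      fun i => ∑ d ∈ (f i).support, fun j => (d (Sum.inl j)) • MvPolynomial.monomial d ((f i).coeff d) := by
    funext i j
    rw [Finset.sum_apply]
    simp only [Matrix.of_apply, Jf]
    conv_lhs => rw [(f i).as_sum, map_sum, Finset.mul_sum]
    exact Finset.sum_congr rfl fun d _ => MvPolynomial.X_mul_pderiv_monomial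
  rw [hrow]
  change MvPolynomial.coeff (ones + tgt) (Matrix.detRowAlternating.toMultilinearMap fun i =>
    ∑ d ∈ (f i).support, fun j => (d (Sum.inl j)) • MvPolynomial.monomial d ((f i).coeff d)) = 0
  rw [MultilinearMap.map_sum_finset, MvPolynomial.coeff_sum]
  refine Finset.sum_eq_zero fun r _ => ?_
  change MvPolynomial.coeff (ones + tgt) (Matrix.det (Matrix.of fun i j : Fin m =>
    (r i (Sum.inl j)) • MvPolynomial.monomial (r i) ((f i).coeff (r i)))) = 0
  let a : Matrix (Fin m) (Fin m) (ZMod p) := Matrix.of fun i j => ((r i (Sum.inl j) : ℕ) : ZMod p)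
  have hdet : Matrix.det (Matrix.of fun i j : Fin m =>
      (r i (Sum.inl j)) • MvPolynomial.monomial (r i) ((f i).coeff (r i))) =
      MvPolynomial.monomial (∑ i, r i)
        ((∏ i, (f i).coeff (r i)) * ZMod.castHom (dvd_refl p) R a.det) := by
    have e : (Matrix.of fun i j : Fin m =>
        (r i (Sum.inl j)) • MvPolynomial.monomial (r i) ((f i).coeff (r i))) =
        Matrix.of fun i j : Fin m => MvPolynomial.monomial (r i) ((f i).coeff (r i)) *
          (a.map ((MvPolynomial.C).comp (ZMod.castHom (dvd_refl p) R))) i j := by
      funext i j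
      simp only [Matrix.of_apply, Matrix.map_apply, a, RingHom.comp_apply, map_natCast]
      rw [nsmul_eq_mul, mul_comm]
    rw [e, Matrix.det_mul_column, ← RingHom.mapMatrix_apply, ← RingHom.map_det,
      RingHom.comp_apply]
    have hprod : ∀ s : Finset (Fin m), ∏ i ∈ s, MvPolynomial.monomial (r i) ((f i).coeff (r i)) =
        MvPolynomial.monomial (∑ i ∈ s, r i) (∏ i ∈ s, (f i).coeff (r i)) := by
      intro s
      induction s using Finset.induction with
      | empty => simp
      | @insert i s hi ih =>
        rw [Finset.prod_insert hi, Finset.sum_insert hi, Finset.prod_insert hi, ih,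
          MvPolynomial.monomial_mul]
    rw [hprod, mul_comm (MvPolynomial.monomial _ _), MvPolynomial.C_mul_monomial, mul_comm]
  rw [hdet, MvPolynomial.coeff_monomial]
  split_ifs with h
  · have hsum : ∀ j, ∑ i, r i (Sum.inl j) = p := by
      intro j
      have := Finsupp.ext_iff.1 h (Sum.inl j)
      simp [htgt, ones, Finsupp.single_apply] at this
      have := hp.one_lt
      omega
    have hdet0 : a.det = 0 := by
      rw [← Matrix.exists_vecMul_eq_zero_iff]
      refine ⟨fun _ => 1, fun h0 => one_ne_zero (congrFun h0 ⟨0, hm⟩), funext fun j => ?_⟩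
      simp only [Matrix.vecMul, dotProduct, one_mul, a, Matrix.of_apply, Pi.zero_apply]
      rw [← Nat.cast_sum, hsum j, ZMod.natCast_self]
    rw [hdet0, map_zero, mul_zero]
  · rfl

end Groth.Agent.S18153
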