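import Groth.Statements.S18154
import Groth.Agent.FrobJac.Basic

set_option autoImplicit false
universe u v
open FrobAlg

namespace Groth.Agent.S18154

/-- Let k be an algebraically closed field of characteristic p, A a smooth k-algebra that is an integral
domain, and t_1, …, t_n ∈ A such that dt_1, …, dt_n is a basis of the module of Kähler differentials
Ω_{A/k}. Let (B, ι, π, Φ) be a flat lifting of A over W_2(k) together with a lift Φ of Frobenius,
T_i ∈ B lifts of the t_i, and F_i ∈ B with Φ(T_i) = T_i^p + p·F_i; put f_i = π(F_i) ∈ A. Then the n
× n matrix over A with entries δ_{ij} t_i^{p-1} + ∂f_i/∂t_j, the partial derivatives being the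
coordinates of df_i in the basis dt_j, has nonzero determinant. This is the matrix of the A-linear
map F_A^*Ω_{A/k} → Ω_{A/k} obtained from dΦ after dividing by p, which is therefore generically
bijective. (The source states generic bijectivity for a smooth variety and reduces it to this
determinant on an affine open with étale coordinates.) -/
theorem result
    (p : ℕ) [Fact p.Prime] (k : Type u) [Field k] [IsAlgClosed k] [CharP k p]
    (A : Type v) [CommRing A] [IsDomain A] [Algebra k A] [Algebra.Smooth k A]
    {n : ℕ} (t : Fin n → A) (b : Module.Basis (Fin n) A (KaehlerDifferential k A))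
    (hb : ∀ i, b i = KaehlerDifferential.D k A (t i))
    (B : Type v) [CommRing B] (ι : FrobAlg.W2 p k →+* B) (π : B →+* A) (Φ : B →+* B)
    (hΦ : FrobAlg.IsFrobLift p k A B ι π Φ)
    (T F : Fin n → B) (hT : ∀ i, π (T i) = t i) (hF : ∀ i, Φ (T i) = T i ^ p + (p : B) * F i) :
    (Matrix.of fun i j : Fin n =>
        (if i = j then t i ^ (p - 1) else 0) +
          b.coord j (KaehlerDifferential.D k A (π (F i)))).det ≠ 0 := by
  haveI : CharP A p := charP_of_injective_algebraMap (algebraMap k A).injective p
  let D : Fin n → Derivation k A A := fun j => (b.coord j).compDer (KaehlerDifferential.D k A)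
  have ev : ∀ i j, D j (t i) = if i = j then (1 : A) else 0 := fun i j => by
    show b.coord j (KaehlerDifferential.D k A (t i)) = _
    rw [← hb i]
    simp [Finsupp.single_apply]
  have hc : FrobJac.Coords D t := ⟨ev, fun d hd => by
    have h0 : d.liftKaehlerDifferential = 0 := b.ext fun i => by
      rw [hb i, Derivation.liftKaehlerDifferential_comp_D, hd i, LinearMap.zero_apply]
    refine Derivation.ext fun x => ?_
    rw [← d.liftKaehlerDifferential_comp_D x, h0]
    simp⟩
  exact hc.det_ne_zero (p := p) fun i => π (F i)

end Groth.Agent.S18154
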