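import Groth.Statements.S18156
import Mathlib.RingTheory.AdicCompletion.Algebra
import Mathlib.RingTheory.Derivation.Basic

set_option autoImplicit false
universe u v
open CAlg

namespace Groth.Agent.S18156

/-- Let k be a field and A a regular local ring that is a k-algebra, with maximal ideal m and m-adic
completion Â. Then every k-derivation D of A into itself extends to a k-derivation D̂ of Â into
itself along the canonical map ρ : A → Â, in the sense that D̂(ρ(a)) = ρ(D(a)) for every a ∈ A. (The
source works throughout over an algebraically closed field of characteristic p; neither assumption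
enters this statement.) -/
theorem result
    (k : Type u) [Field k] (A : Type v) [CommRing A] [Algebra k A] [IsRegularLocalRing A]
    (D : Derivation k A A) :
    ∃ Dhat : Derivation k (AdicCompletion (IsLocalRing.maximalIdeal A) A)
        (AdicCompletion (IsLocalRing.maximalIdeal A) A),
      ∀ a : A, Dhat (algebraMap A (AdicCompletion (IsLocalRing.maximalIdeal A) A) a) =
        algebraMap A (AdicCompletion (IsLocalRing.maximalIdeal A) A) (D a) := by
  classical
  let I := IsLocalRing.maximalIdeal A
  have hD : ∀ n : ℕ, ∀ x ∈ (I ^ (n + 1) • ⊤ : Submodule A A), D x ∈ (I ^ n • ⊤ : Submodule A A) := by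
    simp only [smul_eq_mul, Ideal.mul_top]
    intro n
    induction n with
    | zero => intro x _; simp
    | succ n ih =>
      intro x hx
      rw [pow_succ] at hx
      refine Submodule.mul_induction_on hx (fun a ha b hb => ?_) (fun a b ha hb => by rw [map_add]; exact add_mem ha hb)
      rw [Derivation.leibniz, smul_eq_mul, smul_eq_mul]
      refine add_mem (Ideal.mul_mem_right _ _ ha) ?_
      rw [pow_succ, mul_comm (I ^ n) I]
      exact Submodule.mul_mem_mul hb (ih a ha)
  let δ : ∀ n : ℕ, (A ⧸ (I ^ (n + 1) • ⊤ : Submodule A A)) → (A ⧸ (I ^ n • ⊤ : Submodule A A)) := fun n =>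
    Quotient.lift (fun a => Submodule.Quotient.mk (D a)) (fun a b hab => (Submodule.Quotient.eq _).mpr (by
      rw [← map_sub]; exact hD n _ ((Submodule.quotientRel_def _).mp hab)))
  have hδ : ∀ n a, δ n (Submodule.Quotient.mk a) = Submodule.Quotient.mk (D a) := fun _ _ => rfl
  let F : AdicCompletion I A → AdicCompletion I A := fun x => ⟨fun n => δ n (x.val (n + 1)), fun {m n} hmn => by
    obtain ⟨a, ha⟩ := Submodule.mkQ_surjective _ (x.val (n + 1))
    have hx := x.2 (Nat.succ_le_succ hmn)
    change AdicCompletion.transitionMap I A (Nat.succ_le_succ hmn) (x.val (n + 1)) = x.val (m + 1) at hx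
    rw [← ha] at hx
    show AdicCompletion.transitionMap I A hmn (δ n (x.val (n + 1))) = δ m (x.val (m + 1))
    rw [← ha, ← hx]
    rfl⟩
  have hrep : ∀ (x : AdicCompletion I A) (n : ℕ) (a : A), x.val (n + 1) = Submodule.Quotient.mk a →
      (F x).val n = Submodule.Quotient.mk (D a) ∧ x.val n = Submodule.Quotient.mk a := fun x n a ha => by
    refine ⟨?_, ?_⟩
    · show δ n (x.val (n + 1)) = _; rw [ha, hδ]
    · have := x.2 (Nat.le_succ n)
      change AdicCompletion.transitionMap I A (Nat.le_succ n) (x.val (n + 1)) = x.val n at this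
      rw [← this, ha]; rfl
  let L : AdicCompletion I A →ₗ[k] AdicCompletion I A :=
    { toFun := F
      map_add' := fun x y => AdicCompletion.ext fun n => by
        obtain ⟨a, ha⟩ := Submodule.mkQ_surjective _ (x.val (n + 1))
        obtain ⟨b, hb⟩ := Submodule.mkQ_surjective _ (y.val (n + 1))
        rw [AdicCompletion.val_add_apply, (hrep x n a ha.symm).1, (hrep y n b hb.symm).1,
          (hrep (x + y) n (a + b) (by rw [AdicCompletion.val_add_apply, ← ha, ← hb]; rfl)).1, map_add, Submodule.Quotient.mk_add]
      map_smul' := fun c x => AdicCompletion.ext fun n => by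
        obtain ⟨a, ha⟩ := Submodule.mkQ_surjective _ (x.val (n + 1))
        rw [RingHom.id_apply, AdicCompletion.val_smul_apply, (hrep x n a ha.symm).1,
          (hrep (c • x) n (c • a) (by rw [AdicCompletion.val_smul_apply, ← ha]; rfl)).1, Derivation.map_smul]
        rfl }
  refine ⟨Derivation.mk' L fun x y => AdicCompletion.ext fun n => ?_, fun a => AdicCompletion.ext fun n => ?_⟩
  · obtain ⟨a, ha⟩ := Submodule.mkQ_surjective _ (x.val (n + 1))
    obtain ⟨b, hb⟩ := Submodule.mkQ_surjective _ (y.val (n + 1))
    have hx := hrep x n a ha.symm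
    have hy := hrep y n b hb.symm
    have hxy := hrep (x * y) n (a * b) (by rw [AdicCompletion.val_mul, ← ha, ← hb]; rfl)
    show (F (x * y)).val n = (x • F y + y • F x).val n
    show _ = (x * F y + y * F x).val n; rw [hxy.1, AdicCompletion.val_add_apply, AdicCompletion.val_mul, AdicCompletion.val_mul,
      hx.1, hx.2, hy.1, hy.2, Derivation.leibniz]
    rfl
  · show (F (algebraMap A (AdicCompletion I A) a)).val n = _
    exact (hrep _ n a rfl).1

end Groth.Agent.S18156
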