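import Groth.Statements.S18158
import Groth.Agent.EtInvariance.SchemeCase
import Groth.Agent.W2Lift.Basic

set_option autoImplicit false
universe u
open CategoryTheory CategoryTheory.Limits AlgebraicGeometry
open Lift

namespace Groth.Agent.S18158

/-- Let k be an algebraically closed field of characteristic p and q : Y → X an étale morphism to a
smooth k-scheme X. Suppose X has a W_2-lifting of its Frobenius: a scheme X~ flat over Spec W_2(k),
a morphism i : X → X~ making X the base change of X~ along Spec k → Spec W_2(k) (the residue map),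
and an endomorphism F~ of X~ with i ∘ F_X = F~ ∘ i, F_X the absolute Frobenius. Then Y has one as
well: there are a scheme Y~ flat over Spec W_2(k), a morphism j : Y → Y~ making Y the base change of
Y~ along the same map, and an endomorphism G~ of Y~ with j ∘ F_Y = G~ ∘ j. (The source speaks of an
étale cover Y → X of smooth varieties; its argument uses only that Y is étale over X and that X
lifts, so X is taken smooth over k and Y étale over X, with no integrality, separatedness or
quasi-compactness assumed.) -/
theorem result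
    (p : ℕ) [Fact p.Prime] (k : Type u) [Field k] [IsAlgClosed k] [CharP k p]
    (X Y : Scheme.{u}) (f : X ⟶ Spec (CommRingCat.of k)) [Smooth f]
    (q : Y ⟶ X) [AlgebraicGeometry.Etale q]
    [FrobSch.IsCharP X p] [FrobSch.IsCharP Y p]
    (Xl : Scheme.{u}) (g : Xl ⟶ Spec (CommRingCat.of (FrobAlg.W2 p k))) [Flat g]
    (i : X ⟶ Xl) (hsq : IsPullback i f g (Spec.map (CommRingCat.ofHom (FrobAlg.res p k))))
    (Fl : Xl ⟶ Xl) (hF : i ≫ Fl = FrobSch.frob X p ≫ i) :
    ∃ (Yl : Scheme.{u}) (gY : Yl ⟶ Spec (CommRingCat.of (FrobAlg.W2 p k))) (j : Y ⟶ Yl) (Gl : Yl ⟶ Yl),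
      Flat gY ∧ IsPullback j (q ≫ f) gY (Spec.map (CommRingCat.ofHom (FrobAlg.res p k))) ∧
        j ≫ Gl = FrobSch.frob Y p ≫ j := by
  let σ : CommRingCat.of (FrobAlg.W2 p k) ⟶ CommRingCat.of k := CommRingCat.ofHom (FrobAlg.res p k)
  haveI : IsClosedImmersion (Spec.map σ) :=
    IsClosedImmersion.spec_of_surjective σ (W2Lift.res_surjective p k)
  have hsur : Surjective (Spec.map σ) := by
    refine ⟨fun P => ⟨IsLocalRing.closedPoint k, ?_⟩⟩
    apply PrimeSpectrum.ext
    have hker : RingHom.ker (FrobAlg.res p k) ≤ P.asIdeal := by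
      rw [W2Lift.ker_res, Ideal.span_singleton_le_iff_mem]
      exact P.2.mem_of_pow_mem 2 (by rw [pow_two, W2Lift.p_mul_p]; exact zero_mem _)
    refine le_antisymm ?_ fun x hx => ?_
    · intro x hx
      have : FrobAlg.res p k x ∈ IsLocalRing.maximalIdeal k := hx
      rw [IsLocalRing.maximalIdeal_eq_bot (R := k), Ideal.mem_bot] at this
      exact hker this
    · show FrobAlg.res p k x ∈ IsLocalRing.maximalIdeal k
      rw [IsLocalRing.mem_maximalIdeal, mem_nonunits_iff]
      intro hu
      exact P.2.ne_top (Ideal.eq_top_of_isUnit_mem _ hx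
        (W2Lift.isUnit_of_res_ne_zero p k hu.ne_zero))
  haveI := hsur
  haveI : IsClosedImmersion i := MorphismProperty.of_isPullback hsq.flip inferInstance
  haveI : Surjective i := MorphismProperty.of_isPullback hsq.flip inferInstance
  obtain ⟨W, a, c, ha, sqa⟩ := EtInvariance.exists_descend_scheme i q
  haveI := ha
  haveI : IsClosedImmersion c := MorphismProperty.of_isPullback sqa inferInstance
  haveI : Surjective c := MorphismProperty.of_isPullback sqa inferInstance
  let w : pullback (a ≫ Fl) a ⟶ W := pullback.fst (a ≫ Fl) a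
  haveI : Etale w := MorphismProperty.pullback_fst _ _ ha
  let h : Y ⟶ pullback (a ≫ Fl) a := pullback.lift c (FrobSch.frob Y p ≫ c) (by
    rw [Category.assoc, ← sqa.w, ← Category.assoc c, ← sqa.w, Category.assoc, hF,
      ← Category.assoc, ← Category.assoc, FrobSch.frob_comp p q])
  obtain ⟨φ, ⟨hφ1, hφ2⟩, -⟩ := EtInvariance.existsUnique_extend_scheme c (𝟙 W) w c (𝟙 Y)
    (IsPullback.of_horiz_isIso ⟨by simp⟩) h (by rw [pullback.lift_fst, Category.comp_id])
  refine ⟨W, a ≫ g, c, φ ≫ pullback.snd (a ≫ Fl) a, inferInstance, ?_, ?_⟩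
  · exact sqa.flip.paste_vert hsq
  · rw [← Category.assoc, hφ2, pullback.lift_snd]

end Groth.Agent.S18158
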