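import Groth.Statements.S18163
import Groth.Agent.GGPowMul.SemiAmple
import Groth.Agent.Nakai.UnifReg
import Groth.Agent.GGDesc.Basic
import Groth.Agent.S2325

set_option autoImplicit false
set_option backward.isDefEq.respectTransparency false
set_option linter.style.haveILetI false
universe u
open BSB

open Groth.Agent

attribute [local instance] Nakai.clMonoid

namespace Groth.Agent.S18163

open AlgebraicGeometry CategoryTheory CategoryTheory.Limits in
/-- Let X and X' be proper over a field k, π : X ⟶ X' a k-morphism such that O_{X'} ⟶ π_* O_X is an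
isomorphism, L an invertible O_X-module, M an ample invertible module on X' whose pullback along π
is isomorphic to L^m for some m > 0, and d > 0 such that for all large n the power L^n is globally
generated exactly when d ∣ n (d is the exponent of the semiample module L, and X' with π is the
contraction L determines). Then for e > 0 the power L^e is isomorphic to the pullback of an
invertible module on X' if and only if d ∣ e. -/
theorem result (k : Type u) [Field k] (X X' : Scheme.{u})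
    [X.Over (Spec (CommRingCat.of k))] [X'.Over (Spec (CommRingCat.of k))]
    [IsProper (X ↘ Spec (CommRingCat.of k))] [IsProper (X' ↘ Spec (CommRingCat.of k))]
    (π : X ⟶ X') (hover : π ≫ (X' ↘ Spec (CommRingCat.of k)) = X ↘ Spec (CommRingCat.of k))
    (hπ : ∀ U : X'.Opens, IsIso (π.app U))
    (L : X.Modules) (hL : PicF.IsInvertible L) (M : X'.Modules) (hM : PicF.IsInvertible M) (hMa : CohB1.IsAmple M)
    (m : ℕ) (hm : 0 < m) (e0 : Nonempty ((Scheme.Modules.pullback π).obj M ≅ CohB1.tensorPow L m))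
    (d : ℕ) (hd : 0 < d)
    (hexp : ∃ m0 : ℕ, ∀ n : ℕ, m0 ≤ n → (Curv2.IsGloballyGenerated (CohB1.tensorPow L n) ↔ d ∣ n)) :
    ∀ e : ℕ, 0 < e →
      ((∃ L' : X'.Modules, PicF.IsInvertible L' ∧ Nonempty ((Scheme.Modules.pullback π).obj L' ≅ CohB1.tensorPow L e)) ↔ d ∣ e) := by
  intro e he
  have hover' : IsProper (π ≫ (X' ↘ Spec (CommRingCat.of k))) := by rw [hover]; infer_instance
  haveI : IsProper π := IsProper.of_comp π (X' ↘ Spec (CommRingCat.of k))
  have hb : ∀ U : X'.Opens, Function.Bijective (π.app U) := fun U => by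
    haveI := hπ U
    exact ConcreteCategory.bijective_of_isIso (π.app U)
  haveI : Surjective π := ⟨fun y => by
    by_contra hy
    let U : X'.Opens := ⟨(Set.range π.base)ᶜ, π.isClosedMap.isClosed_range.isOpen_compl⟩
    have hU : π ⁻¹ᵁ U = ⊥ := le_bot_iff.1 fun x hx => hx ⟨x, rfl⟩
    haveI : Subsingleton Γ(X, π ⁻¹ᵁ U) := by rw [hU]; infer_instance
    haveI : Subsingleton Γ(X', U) := (hb U).1.subsingleton
    have hy' : y ∈ U := fun ⟨x, hx⟩ => hy ⟨x, hx⟩
    exact one_ne_zero (α := X'.presheaf.stalk y)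
      (by rw [← map_one (X'.presheaf.germ U y hy').hom, Subsingleton.elim (1 : Γ(X', U)) 0, map_zero])⟩
  haveI : IsNoetherian X' := CurveRR.isNoetherian_of_proper k X'
  haveI : X'.IsSeparated := ⟨by
    rw [Subsingleton.elim (terminal.from X') ((X' ↘ Spec (CommRingCat.of k)) ≫ terminal.from _)]
    infer_instance⟩
  obtain ⟨n₀, hn₀⟩ := hexp
  constructor
  · rintro ⟨L', hL', ⟨eL⟩⟩
    obtain ⟨n₁, hn₁⟩ := Groth.Agent.S2325.result X' M hMa L' (CurveRR.isCoh_of_inv hL')
    have key : ∀ t, n₁ ≤ t → n₀ ≤ t → d ∣ e + m * t := fun t h1 h2 => by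
      have hg := GGDesc.isGloballyGenerated_pullback π (hn₁ t h1)
      obtain ⟨a₁⟩ := TMul.nonempty_pullTensorIso π L' (CohB1.tensorPow M t)
      obtain ⟨a₂⟩ := TMul.nonempty_pullPowIso π M t
      obtain ⟨e0⟩ := e0
      obtain ⟨a₃⟩ := TMul.nonempty_powCongr e0 t
      refine (hn₀ _ ((h2.trans (Nat.le_mul_of_pos_left t hm)).trans (Nat.le_add_left _ _))).1
        (Nakai.isGloballyGenerated_of_cl ?_ hg)
      rw [(PicGrp.cl_eq_cl_iff _ _).2 ⟨a₁.symm⟩, Nakai.cl_tensor, (PicGrp.cl_eq_cl_iff _ _).2 ⟨a₂.symm⟩,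
        (PicGrp.cl_eq_cl_iff _ _).2 ⟨a₃⟩, (PicGrp.cl_eq_cl_iff _ _).2 ⟨eL⟩]
      simp only [Nakai.cl_pow, ← pow_mul, ← pow_add]
    have h1 := key (max n₁ n₀) (le_max_left _ _) (le_max_right _ _)
    have h2 := key (max n₁ n₀ + 1) (Nat.le_succ_of_le (le_max_left _ _)) (Nat.le_succ_of_le (le_max_right _ _))
    rw [Nat.mul_succ, ← Nat.add_assoc] at h2
    have h3 : d ∣ m := (Nat.dvd_add_right h1).1 h2
    exact (Nat.dvd_add_left (h3.mul_right _)).1 h1
  · intro hde
    have hpb : ∀ n, n₀ ≤ n → 0 < n → d ∣ n → ∃ A : X'.Modules, PicF.IsInvertible A ∧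
        PicF.cl ((Scheme.Modules.pullback π).obj A) = PicF.cl L ^ n := fun n hn hn0 hdn => by
      obtain ⟨n', rfl⟩ : ∃ n', n = n' + 1 := ⟨n - 1, by omega⟩
      obtain ⟨N, hN⟩ : ∃ N, N + 1 = (n' + 1) * m :=
        ⟨(n' + 1) * m - 1, Nat.sub_add_cancel (Nat.mul_pos n'.succ_pos hm)⟩
      obtain ⟨a₁⟩ := TMul.nonempty_pullPowIso π M (n' + 1)
      obtain ⟨e0⟩ := e0
      obtain ⟨a₂⟩ : Nonempty (CohB1.tensorPow ((Scheme.Modules.pullback π).obj M) (n' + 1) ≅
          CohB1.tensorPow L (N + 1)) := Nakai.iso_of_cl (by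
        rw [Nakai.cl_pow, (PicGrp.cl_eq_cl_iff _ _).2 ⟨e0⟩, Nakai.cl_pow, ← pow_mul, Nakai.cl_pow, hN, mul_comm])
      have hgen := GGPowMul.exists_gen_over π hb hL ((hn₀ _ hn).2 hdn) ⟨m, hN⟩
        (TMul.isInvertible_tensorPow hM _) (a₁.symm ≪≫ a₂)
      obtain ⟨hA, hc⟩ := W7See.seesaw_formal π hb _ (TMul.isInvertible_tensorPow hL (n' + 1)) hgen
      haveI := hc
      refine ⟨_, hA, ?_⟩
      refine ((PicGrp.cl_eq_cl_iff _ _).2
        ⟨asIso ((Scheme.Modules.pullbackPushforwardAdjunction π).counit.app (CohB1.tensorPow L (n' + 1)))⟩).trans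
        (Nakai.cl_pow _ _)
    have hle : n₀ ≤ e * (n₀ + 1) := le_trans (Nat.le_succ _) (Nat.le_mul_of_pos_left _ he)
    obtain ⟨A₁, hA₁, h1⟩ := hpb (e * (n₀ + 1)) hle (Nat.mul_pos he n₀.succ_pos) (hde.mul_right _)
    obtain ⟨A₂, hA₂, h2⟩ := hpb (e * (n₀ + 1) + e) (hle.trans (Nat.le_add_right _ _)) (by omega)
      (Nat.dvd_add (hde.mul_right _) hde)
    obtain ⟨B, hB, ⟨η⟩⟩ := W7Hull.exists_tensor_inverse hA₁
    refine ⟨CohB1.tensorMod B A₂, TMul.isInvertible_tensorMod hB hA₂, Nakai.iso_of_cl ?_⟩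
    obtain ⟨a₁⟩ := TMul.nonempty_pullTensorIso π B A₂
    obtain ⟨a₂⟩ := TMul.nonempty_pullTensorIso π A₁ B
    have h3 : PicF.cl ((Scheme.Modules.pullback π).obj A₁) * PicF.cl ((Scheme.Modules.pullback π).obj B) = 1 :=
      Nakai.cl_inv ⟨a₂ ≪≫ (Scheme.Modules.pullback π).mapIso η ≪≫ PicLoc.pullbackStructureIso π⟩
    rw [(PicGrp.cl_eq_cl_iff _ _).2 ⟨a₁.symm⟩, Nakai.cl_tensor, h2, Nakai.cl_pow, pow_add, ← mul_assoc, ← h1,
      mul_comm (PicF.cl ((Scheme.Modules.pullback π).obj B)), h3, one_mul]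

end Groth.Agent.S18163
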