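import Groth.Statements.S1817
import Groth.Agent.RGammaI.Derived

set_option autoImplicit false
set_option linter.style.haveILetI false
set_option backward.isDefEq.respectTransparency false
set_option backward.isDefEq.respectTransparency.types false
universe u
open CategoryTheory
attribute [local instance] HasDerivedCategory.standard
open LocCoh

namespace Groth.Agent.S1817

/-- First statement, for a Noetherian ring (where the functor with supports in V(I) is RΓ_I). Let A be a
Noetherian ring and I an ideal, and assume RΓ_I exists as a total right derived functor. Then every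
RΓ_I(K) has I-power torsion cohomology modules, and the resulting functor from D(A) to the full
subcategory of such objects is right adjoint to the inclusion. -/
theorem result (A : Type u) [CommRing A] [IsNoetherianRing A] (I : Ideal A) [DRing.HasRgammaI I] : ∃ h : ∀ K : Dual.D A, (fun L : Dual.D A => ∀ i : ℤ, LocCoh.IsPowerTorsion I (Dual.HD A L i)) ((DRing.RgammaI I).obj K), Nonempty (ObjectProperty.ι (fun L : Dual.D A => ∀ i : ℤ, LocCoh.IsPowerTorsion I (Dual.HD A L i)) ⊣ ObjectProperty.lift (fun L : Dual.D A => ∀ i : ℤ, LocCoh.IsPowerTorsion I (Dual.HD A L i)) (DRing.RgammaI I) h) := by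
  refine ⟨fun K i => RGammaI.isPowerTorsion_HD I K i, ⟨Adjunction.mkOfHomEquiv
    { homEquiv := fun L K =>
        { toFun := fun f =>
            haveI := RGammaI.isIso_ε I (X := L.obj) L.property
            ObjectProperty.homMk (inv ((DRing.RgammaIε I).app L.obj) ≫ (DRing.RgammaI I).map f)
          invFun := fun g => g.hom ≫ (DRing.RgammaIε I).app K
          left_inv := fun f => ?_
          right_inv := fun g => ?_ }
      homEquiv_naturality_left_symm := fun f g => ?_
      homEquiv_naturality_right := fun {L K K'} f g => ?_ }⟩⟩
  · haveI := RGammaI.isIso_ε I (X := L.obj) L.property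
    have h := (DRing.RgammaIε I).naturality f
    simp only [Functor.id_map] at h
    refine (Category.assoc _ _ _).trans ?_
    erw [h]
    exact IsIso.inv_hom_id_assoc _ _
  · haveI := RGammaI.isIso_ε I (X := L.obj) L.property
    haveI := RGammaI.isIso_map_ε I K
    apply ObjectProperty.hom_ext
    refine (IsIso.inv_comp_eq _).2 ?_
    have h := (DRing.RgammaIε I).naturality g.hom
    simp only [Functor.id_map] at h
    refine Eq.trans ?_ h
    rw [Functor.map_comp]
    congr 1
    exact RGammaI.map_ε_eq I K
  · dsimp
    first | rw [Category.assoc] | exact (Category.assoc (C := Dual.D A) _ _ _)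
  · haveI := RGammaI.isIso_ε I (X := L.obj) L.property
    apply ObjectProperty.hom_ext
    change inv ((DRing.RgammaIε I).app L.obj) ≫ (DRing.RgammaI I).map (f ≫ g) =
      (inv ((DRing.RgammaIε I).app L.obj) ≫ (DRing.RgammaI I).map f) ≫ (DRing.RgammaI I).map g
    rw [Functor.map_comp, Category.assoc]

end Groth.Agent.S1817
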