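import Groth.Statements.S18177
import Groth.Agent.FunFld.LimSer.Chain

set_option autoImplicit false
open FunFld

namespace Groth.Agent.S18177

/-- Let `k` be an algebraically closed field of characteristic zero and `K/k` a function field of one
variable (the function field of a smooth projective curve over `k`). A `g^r_d` is a divisor `D` of
degree `d` with a subspace `V ⊆ L(D)` of dimension `r + 1`; for a place `P` and `n ≥ 0`, `V(-nP) = V
∩ L(D - nP)` is the space of members vanishing to order at least `n` at `P`, so `dim V(-nP)` counts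
the vanishing orders `m_0 < ⋯ < m_r` of `V` at `P` that are at least `n`, and the weight of `V` at
`P` is `∑_{n=1}^{d} dim V(-nP) - r(r+1)/2`. Let `(D, V)` be a `g^r_d` with `r ≥ 1` and `P ≠ Q`
places at which the weights are large: `w(V, P) + w(V, Q) ≥ (r+1)(d-r) - (r-1)`, that is `(r+1)d + 1
≤ ∑_{n=1}^{d} dim V(-nP) + ∑_{n=1}^{d} dim V(-nQ) + r`. Then `V` contains members with divisors `m_i
Q + (d - m_i) P` for two different indices `i`, and hence `m(Q - P)` is a principal divisor for some
`1 ≤ m ≤ d`. (In the source `K` is an elliptic tail of a degenerate curve, `P` its node and `Q` the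
limit of the moving ramification point, the weight hypothesis coming from `ρ ≤ 0`; it concludes that
only finitely many `Q` are possible. The torsion assertion holds in any genus and is what is stated
here.) (The source states this for curves over the complex numbers.) -/
theorem result
    (k : Type*) [Field k] [IsAlgClosed k] [CharZero k]
    (K : Type*) [Field K] [Algebra k K] (hK : FunFld.IsFunctionField k K)
    (d r : ℕ) (hr : 1 ≤ r) (D : FunFld.Divisor k K) (hD : D.deg = d)
    (V : Submodule k K) (hV : V ≤ FunFld.L D) (hVr : Module.finrank k ↥V = r + 1)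
    (P Q : FunFld.Place k K) (hPQ : P ≠ Q)
    (hw : (r + 1) * d + 1 ≤
      (∑ n ∈ Finset.range d, Module.finrank k ↥(V ⊓ FunFld.L (D - Finsupp.single P ((n : ℤ) + 1)))) +
        (∑ n ∈ Finset.range d, Module.finrank k ↥(V ⊓ FunFld.L (D - Finsupp.single Q ((n : ℤ) + 1)))) + r) :
    ∃ m : ℕ, 1 ≤ m ∧ m ≤ d ∧ ∃ h : K, h ≠ 0 ∧
      FunFld.div k h = Finsupp.single Q (m : ℤ) - Finsupp.single P (m : ℤ) := by
  open Groth.Agent.FunFld in
  classical
  haveI := finite_of_le hK hV
  let E : ℕ → FunFld.Divisor k K := fun n =>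
    D - Finsupp.single P (n : ℤ) - Finsupp.single Q ((d - n : ℕ) : ℤ)
  let J := (Finset.range (d + 1)).filter fun n => V ⊓ FunFld.L (E n) ≠ ⊥
  have hle : ∀ n ∈ Finset.range (d + 1), av D V P (n : ℤ) + av D V Q ((d - n : ℕ) : ℤ) ≤
      (r + 1) + if n ∈ J then 1 else 0 := by
    intro n hn
    have h := av_add_le hK hV P Q hPQ (n : ℤ) ((d - n : ℕ) : ℤ)
    rw [hVr] at h
    refine h.trans (Nat.add_le_add_left ?_ _)
    split_ifs with hJ
    · haveI := L_finite hK (E n)
      refine (Submodule.finrank_mono (inf_le_right : V ⊓ FunFld.L (E n) ≤ FunFld.L (E n))).trans ?_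
      have hd0 : (E n).deg = 0 := by
        have := Finset.mem_range.1 hn
        simp only [E]
        rw [deg_sub, deg_sub, hD, deg_single, deg_single, deg_eq_one hK, deg_eq_one hK]
        push_cast; omega
      by_contra hgt
      have hne : FunFld.L (E n) ≠ ⊥ := fun e => by rw [e, finrank_bot] at hgt; omega
      obtain ⟨x, hx, hpos⟩ := exists_effective hK hne
      have e0 := (deg_eq_zero_iff hK hpos).1 (by rw [deg_add, hd0, deg_div hK]; rfl)
      have h1 := ell_add_div hK (E n) hx
      rw [e0, ell_zero hK] at h1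
      simp only [FunFld.ell] at h1
      omega
    · simp only [J, Finset.mem_filter, not_and, not_not] at hJ
      simp only [E] at hJ
      rw [hJ hn, finrank_bot]
  have hsum := Finset.sum_le_sum hle
  rw [Finset.sum_add_distrib, Finset.sum_add_distrib, Finset.sum_range_succ' (fun n => av D V P (n : ℤ)),
    Nat.cast_zero, av_zero hK hV, ← Finset.sum_range_reflect (fun n => av D V Q ((d - n : ℕ) : ℤ)) (d + 1),
    Finset.sum_congr rfl (fun n hn => show av D V Q ((d - (d + 1 - 1 - n) : ℕ) : ℤ) = av D V Q (n : ℤ) by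
      have := Finset.mem_range.1 hn
      congr 1; omega),
    Finset.sum_range_succ' (fun n => av D V Q (n : ℤ)), Nat.cast_zero, av_zero hK hV, hVr,
    Finset.sum_const, Finset.card_range, Finset.sum_boole, Finset.filter_mem_eq_inter,
    Finset.inter_eq_right.2 (Finset.filter_subset _ _), smul_eq_mul, Nat.cast_id] at hsum
  simp only [av] at hsum
  push_cast at hsum
  have hJ2 : 1 < J.card := by
    have hJc : ((Finset.range (d + 1)).filter fun n => V ⊓ FunFld.L (E n) ≠ ⊥).card = J.card := rfl
    have h1 : (d + 1) * (r + 1) = (r + 1) * d + (r + 1) := by ring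
    omega
  obtain ⟨a, ha, b, hb, hab⟩ := Finset.one_lt_card.1 hJ2
  obtain ⟨n, n', hn, hn', hlt⟩ : ∃ n n', n ∈ J ∧ n' ∈ J ∧ n < n' := by
    rcases lt_or_gt_of_ne hab with h | h
    · exact ⟨a, b, ha, hb, h⟩
    · exact ⟨b, a, hb, ha, h⟩
  have hmem : ∀ n ∈ J, ∃ f : K, f ≠ 0 ∧ E n + FunFld.div k f = 0 := by
    intro n hn
    obtain ⟨hn1, hn2⟩ := Finset.mem_filter.1 hn
    obtain ⟨f, hf, hf0⟩ := Submodule.exists_mem_ne_zero_of_ne_bot hn2
    have hpos : 0 ≤ E n + FunFld.div k f := fun S => by
      have := hf.2 S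
      rw [le_exp_iff S hf0] at this
      simp only [Finsupp.add_apply, div_apply hK, Finsupp.coe_zero, Pi.zero_apply]; omega
    refine ⟨f, hf0, (deg_eq_zero_iff hK hpos).1 ?_⟩
    have := Finset.mem_range.1 hn1
    simp only [E]
    rw [deg_add, deg_div hK, deg_sub, deg_sub, hD, deg_single, deg_single, deg_eq_one hK, deg_eq_one hK]
    push_cast; omega
  obtain ⟨f, hf0, hf⟩ := hmem n hn
  obtain ⟨g, hg0, hg⟩ := hmem n' hn'
  have hn'd : n' ≤ d := by have := Finset.mem_range.1 (Finset.mem_filter.1 hn').1; omega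
  refine ⟨n' - n, by omega, by omega, f * g⁻¹, mul_ne_zero hf0 (inv_ne_zero hg0), ?_⟩
  rw [div_mul hK hf0 (inv_ne_zero hg0), div_inv hK, eq_neg_of_add_eq_zero_right hf, eq_neg_of_add_eq_zero_right hg]
  refine Finsupp.ext fun S => ?_
  simp only [E, Finsupp.add_apply, Finsupp.neg_apply, Finsupp.sub_apply]
  rcases eq_or_ne S P with rfl | hS
  · rw [Finsupp.single_eq_same, Finsupp.single_eq_same, Finsupp.single_eq_same, Finsupp.single_eq_of_ne hPQ,
      Finsupp.single_eq_of_ne hPQ, Finsupp.single_eq_of_ne hPQ]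
    omega
  rcases eq_or_ne S Q with rfl | hS'
  · rw [Finsupp.single_eq_of_ne hS, Finsupp.single_eq_of_ne hS, Finsupp.single_eq_of_ne hS,
      Finsupp.single_eq_same, Finsupp.single_eq_same, Finsupp.single_eq_same]
    omega
  · simp [Finsupp.single_eq_of_ne hS, Finsupp.single_eq_of_ne hS']

end Groth.Agent.S18177
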