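import Groth.Statements.S18182
import Groth.Agent.S18177
import Groth.Agent.FunFld.Deriv
import Groth.Agent.FunFld.Weierstrass

set_option autoImplicit false
open FunFld

namespace Groth.Agent.S18182

/-- Let `k` be an algebraically closed field of characteristic zero and `K/k` a function field of one
variable (the function field of a smooth projective curve over `k`). A `g^r_d` is a divisor `D` of
degree `d` with a subspace `V ⊆ L(D)` of dimension `r + 1`; for a place `P` and `n ≥ 0`, `V(-nP) = V
∩ L(D - nP)` is the space of members vanishing to order at least `n` at `P`, so `dim V(-nP)` counts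
the vanishing orders `m_0 < ⋯ < m_r` of `V` at `P` that are at least `n`, and the weight of `V` at
`P` is `∑_{n=1}^{d} dim V(-nP) - r(r+1)/2`. Assume `K` has genus one, fix a place `P` and natural
numbers `d` and `r ≥ 1`. Then only finitely many places `Q ≠ P` admit a `g^r_d` `(D, V)` whose
weights at `P` and `Q` are large in the sense `w(V, P) + w(V, Q) ≥ (r+1)(d-r) - (r-1)`, that is
`(r+1)d + 1 ≤ ∑_{n=1}^{d} dim V(-nP) + ∑_{n=1}^{d} dim V(-nQ) + r`. (In the source `K` is an
elliptic tail of a flag curve degenerating a general curve of genus `g`, `P` its node, `Q` the limit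
of a moving ramification point, and the weight hypothesis is what `ρ ≤ 0` gives; the finiteness of
torsion points of bounded order on an elliptic curve is used.) (The source states this for curves
over the complex numbers.) -/
theorem result
    (k : Type*) [Field k] [IsAlgClosed k] [CharZero k]
    (K : Type*) [Field K] [Algebra k K] (hK : FunFld.IsFunctionField k K) (hg1 : FunFld.genus k K = 1)
    (P : FunFld.Place k K) (d r : ℕ) (hr : 1 ≤ r) :
    Set.Finite {Q : FunFld.Place k K | Q ≠ P ∧ ∃ (D : FunFld.Divisor k K) (V : Submodule k K),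
      D.deg = d ∧ V ≤ FunFld.L D ∧ Module.finrank k ↥V = r + 1 ∧
      (r + 1) * d + 1 ≤
        (∑ n ∈ Finset.range d, Module.finrank k ↥(V ⊓ FunFld.L (D - Finsupp.single P ((n : ℤ) + 1)))) +
          (∑ n ∈ Finset.range d, Module.finrank k ↥(V ⊓ FunFld.L (D - Finsupp.single Q ((n : ℤ) + 1)))) + r} := by
  classical
  obtain ⟨x, hx, -⟩ := hK.1
  obtain ⟨D, hDx⟩ := Groth.Agent.FunFld.exists_derivation hK hx
  have hker : ∀ z : K, D z = 0 → z ∈ Set.range (algebraMap k K) := fun z => Groth.Agent.FunFld.derivation_ker hK hDx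
  -- for each `m` only finitely many `Q` have `m (Q - P)` principal
  have hm : ∀ m : ℕ, 1 ≤ m → {Q : FunFld.Place k K | Q ≠ P ∧ ∃ h : K, h ≠ 0 ∧
      FunFld.div k h = Finsupp.single Q (m : ℤ) - Finsupp.single P (m : ℤ)}.Finite := by
    intro m hm
    have hell : FunFld.ell (Finsupp.single P (m : ℤ)) = m :=
      Groth.Agent.FunFld.ell_single_nat hK (Groth.Agent.FunFld.deg_eq_one hK P) hg1 hm
    have := Groth.Agent.FunFld.L_finite hK (Finsupp.single P (m : ℤ))
    obtain ⟨b⟩ : Nonempty (Module.Basis (Fin m) k (FunFld.L (Finsupp.single P (m : ℤ)))) :=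
      ⟨Module.finBasisOfFinrankEq k (FunFld.L (Finsupp.single P (m : ℤ))) hell⟩
    obtain ⟨φ, hφdef⟩ : ∃ φ : Fin m → K, φ = fun i => (b i : K) := ⟨_, rfl⟩
    have hφ : LinearIndependent k φ := by
      rw [hφdef]; exact b.linearIndependent.map' _ (Submodule.ker_subtype _)
    refine ((Groth.Agent.FunFld.finite_unstable hK D hx hDx).union (Groth.Agent.FunFld.finite_support hK
      (Matrix.of fun i j : Fin m => ((D : K →ₗ[k] K) ^ (j : ℕ)) (φ i)).det)).subset ?_
    rintro Q ⟨hQP, h, hh, hdiv⟩
    by_contra hcon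
    simp only [Set.mem_union, Set.mem_setOf_eq, Function.mem_support, not_or, not_not] at hcon
    have hhL : h ∈ FunFld.L (Finsupp.single P (m : ℤ)) := by
      intro R
      rw [Groth.Agent.FunFld.le_exp_iff R hh, ← Groth.Agent.FunFld.div_apply hK, hdiv, Finsupp.sub_apply]
      have : (0 : ℤ) ≤ (Finsupp.single Q (m : ℤ) : FunFld.Divisor k K) R :=
        Finsupp.single_nonneg.2 (Int.natCast_nonneg m) R
      omega
    have hφQ : ∀ i, Q.1 (φ i) ≤ 1 := fun i => by
      rw [hφdef]
      refine ((b i).2 Q).trans_eq ?_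
      rw [Finsupp.single_eq_of_ne hQP, WithZero.exp_zero]
    obtain ⟨c, hc⟩ := (Submodule.mem_span_range_iff_exists_fun k).1
      (b.mem_span (⟨h, hhL⟩ : FunFld.L (Finsupp.single P (m : ℤ))))
    have hsum : ∑ i, c i • φ i = h := by
      have := congrArg Subtype.val hc
      simpa [hφdef] using this
    have hc0 : c ≠ 0 := by
      rintro rfl
      simp at hsum
      exact hh hsum.symm
    have hlt := Groth.Agent.FunFld.wronskian_lt_one hcon.1 φ hφQ c hc0 (by
      rw [hsum, Groth.Agent.FunFld.val_eq_exp Q hh, ← Groth.Agent.FunFld.div_apply hK, hdiv, Finsupp.sub_apply, Finsupp.single_eq_same,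
        Finsupp.single_eq_of_ne hQP, sub_zero])
    rw [Groth.Agent.FunFld.val_eq_exp Q (Groth.Agent.FunFld.wronskian_ne_zero D hker φ hφ), hcon.2, neg_zero, WithZero.exp_zero] at hlt
    exact lt_irrefl _ hlt
  refine ((Set.finite_Icc 1 d).biUnion fun m hm' => hm m hm'.1).subset ?_
  rintro Q ⟨hQP, D', V, hD, hV, hVr, hw⟩
  obtain ⟨m, hm1, hm2, hprin⟩ :=
    Groth.Agent.S18177.result k K hK d r hr D' hD V hV hVr P Q (Ne.symm hQP) hw
  exact Set.mem_iUnion₂.2 ⟨m, ⟨hm1, hm2⟩, hQP, hprin⟩

end Groth.Agent.S18182
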