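import Groth.Statements.S18187
import Groth.Agent.ArtKit.Basic
import Mathlib.RingTheory.Flat.Basic
import Mathlib.LinearAlgebra.FreeModule.Basic
import Mathlib.Tactic.LinearCombination

set_option autoImplicit false
universe u v
open CategoryTheory
open T1Lift

namespace Groth.Agent.S18187

section
variable (k : Type u) [Field k]

theorem αAlg_mk (n : ℕ) (p : Polynomial k) :
    T1Lift.αAlg k n (AdjoinRoot.mk _ p) = AdjoinRoot.mk _ p := by
  rw [← AdjoinRoot.aeval_eq, ← Polynomial.aeval_algHom_apply, T1Lift.αAlg_t, AdjoinRoot.aeval_eq]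

theorem αAlg_surjective (n : ℕ) : Function.Surjective (T1Lift.αAlg k n) := fun a => by
  induction a using AdjoinRoot.induction_on with
  | ih p => exact ⟨_, αAlg_mk k n p⟩

theorem αAlg_ker (n : ℕ) {a : T1Lift.Tr k (n + 1)} (ha : T1Lift.αAlg k n a = 0) :
    ∃ c : k, a = algebraMap k _ c * T1Lift.t k (n + 1) ^ (n + 1) := by
  induction a using AdjoinRoot.induction_on with
  | ih p =>
    rw [αAlg_mk, AdjoinRoot.mk_eq_zero] at ha
    obtain ⟨q, rfl⟩ := ha
    obtain ⟨b, hb⟩ := T1Lift.eq_algebraMap_add_t_mul k (n + 1) (AdjoinRoot.mk _ q)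
    refine ⟨T1Lift.resA k (n + 1) (AdjoinRoot.mk _ q), ?_⟩
    rw [map_mul, map_pow, AdjoinRoot.mk_X]
    conv_lhs => rw [hb]
    rw [mul_add, ← mul_assoc, ← pow_succ, T1Lift.t_pow, zero_mul, add_zero, mul_comm]

theorem t_pow_ne_zero (n : ℕ) : T1Lift.t k n ^ n ≠ 0 := by
  intro h
  rw [T1Lift.t, ← AdjoinRoot.mk_X, ← map_pow, AdjoinRoot.mk_eq_zero] at h
  have := Polynomial.natDegree_le_of_dvd h (pow_ne_zero _ Polynomial.X_ne_zero)
  simp at this

theorem ε_β (n : ℕ) : T1Lift.ε k n ≫ T1Lift.β k n = T1Lift.α k n := by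
  refine ArtFun.Art.hom_ext (AdjoinRoot.algHom_ext ?_)
  show (T1Lift.εAlg k n (T1Lift.t k (n + 1))).fst = T1Lift.αAlg k n (T1Lift.t k (n + 1))
  rw [T1Lift.εAlg_t, T1Lift.αAlg_t]
  simp

theorem ε_ξ (n : ℕ) : T1Lift.ε k (n + 1) ≫ T1Lift.ξ k n = T1Lift.α k (n + 1) ≫ T1Lift.ε k n := by
  refine ArtFun.Art.hom_ext (AdjoinRoot.algHom_ext ?_)
  show T1Lift.dualMap k (T1Lift.αAlg k n) (T1Lift.εAlg k (n + 1) (T1Lift.t k (n + 1 + 1))) =
    T1Lift.εAlg k n (T1Lift.αAlg k (n + 1) (T1Lift.t k (n + 1 + 1)))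
  rw [T1Lift.εAlg_t, T1Lift.αAlg_t, T1Lift.εAlg_t]
  refine TrivSqZeroExt.ext ?_ ?_
  · show T1Lift.αAlg k n _ = _
    simp
  · show T1Lift.αAlg k n _ = _
    simp

end


/-- In the set-valued case, let k be a field of characteristic zero and F a functor on local Artinian
k-algebras with residue field k such that F(k) is one point, F satisfies the Rim–Schlessinger
condition (for every fibre-product square A' ×_A A'' with A'' → A surjective the comparison map F(A'
×_A A'') → F(A') ×_{F(A)} F(A'') is bijective), and F has an obstruction theory with values in a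
k-vector space V which is moreover functorial for every commutative square of surjections whose
kernels are killed by the maximal ideal. Write A_m = k[t]/(t^(m+1)), B_m = A_m[y]/(y²), α : A_(m+1)
→ A_m and ξ : B_(m+1) → B_m for t ↦ t, β : B_m → A_m for y ↦ 0 and ε : A_(m+1) → B_m for t ↦ t + y.
Then an element X ∈ F(A_(n+1)) lifts to F(A_(n+2)) along α if and only if there is Y ∈ F(B_(n+1))
with F(β) Y = X and F(ξ) Y = F(ε) X, i.e. if and only if the element of the first-order tangent set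
T¹(F(α)X / A_n) defined by F(ε) X lies in the image of T¹(X / A_(n+1)). (Stated here for functors
with values in sets; the version for predeformation categories in groupoids satisfying the
Rim–Schlessinger condition specialises to it. The functoriality of the obstruction theory for
arbitrary commutative squares is an explicit hypothesis, pinned through linear maps between the
kernels that agree with the given ring map.) -/
theorem result (k : Type u) [Field k] [CharZero k]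
    (F : ArtFun.Art k k ⥤ Type v) (h0 : ArtFun.H0 F)
    (hRS : ∀ ⦃P A A' A'' : ArtFun.Art k k⦄ (p' : P ⟶ A') (p'' : P ⟶ A'') (f' : A' ⟶ A) (f'' : A'' ⟶ A)
      (h : ArtFun.Art.IsFibreProd p' p'' f' f''), Function.Surjective f'' → Function.Bijective (ArtFun.cmp F h))
    (V : Type u) [AddCommGroup V] [Module k V] (O : ArtFun.ObsTheory F V)
    (hnat : ∀ ⦃A' A C' C : ArtFun.Art k k⦄ (φ : A' ⟶ A) (hφ : ArtFun.Art.IsSemismallExt φ)
      (ψ : C' ⟶ C) (hψ : ArtFun.Art.IsSemismallExt ψ) (g' : A' ⟶ C') (g : A ⟶ C), φ ≫ g = g' ≫ ψ →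
      ∀ (ℓ : ↥(RingHom.ker φ.toAlgHom) →ₗ[k] ↥(RingHom.ker ψ.toAlgHom)),
        (∀ j : ↥(RingHom.ker φ.toAlgHom), ((ℓ j : ↥(RingHom.ker ψ.toAlgHom)) : C') = g' (j : A')) →
        ∀ u : F.obj A, O.obs ψ hψ (F.map g u) = LinearMap.lTensor V ℓ (O.obs φ hφ u))
    (n : ℕ) (X : F.obj (T1Lift.A k (n + 1))) :
    (∃ X' : F.obj (T1Lift.A k (n + 2)), F.map (T1Lift.α k (n + 1)) X' = X) ↔
      ∃ Y : F.obj (T1Lift.B k (n + 1)), F.map (T1Lift.β k (n + 1)) Y = X ∧
        F.map (T1Lift.ξ k n) Y = F.map (T1Lift.ε k n) X := by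
  constructor
  · rintro ⟨X', rfl⟩
    refine ⟨F.map (T1Lift.ε k (n + 1)) X', ?_, ?_⟩
    · rw [← Groth.Agent.ArtKit.map_comp_app, ε_β]
    · rw [← Groth.Agent.ArtKit.map_comp_app, ← Groth.Agent.ArtKit.map_comp_app, ε_ξ]
  rintro ⟨Y, hY1, hY2⟩
  let K : Ideal (T1Lift.B k (n + 1)) :=
    RingHom.ker (T1Lift.β k (n + 1)).toAlgHom ⊓ RingHom.ker (T1Lift.ξ k n).toAlgHom
  have hK : K ≤ IsLocalRing.maximalIdeal (T1Lift.B k (n + 1)) :=
    inf_le_left.trans (Groth.Agent.ArtKit.ker_le_maximalIdeal _)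
  let P := ArtFun.Art.quot (T1Lift.B k (n + 1)) K hK
  let mkP : T1Lift.B k (n + 1) ⟶ P := ArtFun.Art.quotMk (T1Lift.B k (n + 1)) K hK
  let q₁ : P ⟶ T1Lift.A k (n + 1) := ArtFun.Art.quotFactor hK (T1Lift.β k (n + 1)) inf_le_left
  let q₂ : P ⟶ T1Lift.B k n := ArtFun.Art.quotFactor hK (T1Lift.ξ k n) inf_le_right
  have hq₁ : mkP ≫ q₁ = T1Lift.β k (n + 1) := ArtFun.Art.quotMk_quotFactor _ _ _
  have hq₂ : mkP ≫ q₂ = T1Lift.ξ k n := ArtFun.Art.quotMk_quotFactor _ _ _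
  have hfp : ArtFun.Art.IsFibreProd q₁ q₂ (T1Lift.α k n) (T1Lift.β k n) := by
    refine ⟨?_, fun b₁ b₂ e₁ e₂ => ?_, fun a b h => ?_⟩
    · refine ArtFun.Art.hom_ext (AlgHom.ext fun z => ?_)
      obtain ⟨z, rfl⟩ := Ideal.Quotient.mk_surjective z
      rfl
    · obtain ⟨b₁, rfl⟩ := Ideal.Quotient.mk_surjective b₁
      obtain ⟨b₂, rfl⟩ := Ideal.Quotient.mk_surjective b₂
      refine (Ideal.Quotient.eq).2 ⟨?_, ?_⟩
      · show (T1Lift.β k (n + 1)).toAlgHom (b₁ - b₂) = 0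
        rw [map_sub, sub_eq_zero]; exact e₁
      · show (T1Lift.ξ k n).toAlgHom (b₁ - b₂) = 0
        rw [map_sub, sub_eq_zero]; exact e₂
    · let a' : T1Lift.Tr k (n + 1) := a
      let b' : DualNumber (T1Lift.Tr k n) := b
      have h' : T1Lift.αAlg k n a' = TrivSqZeroExt.fst b' := h
      obtain ⟨c, hc⟩ := αAlg_surjective k n (TrivSqZeroExt.snd b')
      let z : DualNumber (T1Lift.Tr k (n + 1)) := TrivSqZeroExt.inl a' + TrivSqZeroExt.inr c
      have hzf : TrivSqZeroExt.fst z = a' := by simp [z]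
      have hzs : TrivSqZeroExt.snd z = c := by simp [z]
      refine ⟨mkP (z : (T1Lift.B k (n + 1)).carrier), hzf, ?_⟩
      show T1Lift.dualMap k (T1Lift.αAlg k n) z = b'
      refine TrivSqZeroExt.ext ?_ ?_
      · show T1Lift.αAlg k n (TrivSqZeroExt.fst z) = _
        rw [hzf, h']
      · show T1Lift.αAlg k n (TrivSqZeroExt.snd z) = _
        rw [hzs, hc]
  obtain ⟨g, hg₁, hg₂⟩ := Groth.Agent.ArtKit.exists_lift hfp (𝟙 (T1Lift.A k (n + 1))) (T1Lift.ε k n)
    (by rw [Category.id_comp, ε_β])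
  have hsq : T1Lift.α k (n + 1) ≫ g = T1Lift.ε k (n + 1) ≫ mkP := by
    refine Groth.Agent.ArtKit.hom_ext_of_isFibreProd hfp ?_ ?_
    · rw [Category.assoc, hg₁, Category.comp_id, Category.assoc, hq₁, ε_β]
    · rw [Category.assoc, hg₂, Category.assoc, hq₂, ε_ξ]
  have hβs : Function.Surjective (T1Lift.β k n) := fun a =>
    ⟨(TrivSqZeroExt.inl (show T1Lift.Tr k n from a) : DualNumber (T1Lift.Tr k n)),
      TrivSqZeroExt.fst_inl (T1Lift.Tr k n) (show T1Lift.Tr k n from a)⟩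
  have hcmp : F.map mkP Y = F.map g X := by
    apply (hRS q₁ q₂ _ _ hfp hβs).1
    refine ArtFun.FibProd.ext ?_ ?_
    · show F.map q₁ (F.map mkP Y) = F.map q₁ (F.map g X)
      rw [← Groth.Agent.ArtKit.map_comp_app, ← Groth.Agent.ArtKit.map_comp_app, hq₁, hg₁,
        Groth.Agent.ArtKit.map_id_app, hY1]
    · show F.map q₂ (F.map mkP Y) = F.map q₂ (F.map g X)
      rw [← Groth.Agent.ArtKit.map_comp_app, ← Groth.Agent.ArtKit.map_comp_app, hq₂, hg₂, hY2]
  have hmax : ∀ z ∈ IsLocalRing.maximalIdeal (T1Lift.B k (n + 1)), ∃ b,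
      TrivSqZeroExt.fst (show DualNumber (T1Lift.Tr k (n + 1)) from z) = T1Lift.t k (n + 1) * b := fun z hz => by
    rw [(T1Lift.B k (n + 1)).mem_maximalIdeal_iff] at hz
    obtain ⟨b, hb⟩ := T1Lift.eq_algebraMap_add_t_mul k (n + 1)
      (TrivSqZeroExt.fst (show DualNumber (T1Lift.Tr k (n + 1)) from z))
    refine ⟨b, hb.trans ?_⟩
    rw [show T1Lift.resA k (n + 1) (TrivSqZeroExt.fst (show DualNumber (T1Lift.Tr k (n + 1)) from z)) = 0 from hz,
      map_zero, zero_add]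
  have hp : ArtFun.Art.IsSemismallExt mkP := by
    refine ⟨ArtFun.Art.quotMk_surjective _ K hK, le_bot_iff.1 (Ideal.mul_le.2 fun z hz w hw => ?_)⟩
    rw [Groth.Agent.ArtKit.ker_quotMk] at hw
    obtain ⟨b, hb⟩ := hmax z hz
    let z' : DualNumber (T1Lift.Tr k (n + 1)) := z
    let w' : DualNumber (T1Lift.Tr k (n + 1)) := w
    have h1 : TrivSqZeroExt.fst w' = 0 := hw.1
    have h2 : T1Lift.αAlg k n (TrivSqZeroExt.snd w') = 0 := congrArg TrivSqZeroExt.snd hw.2
    obtain ⟨c, hc⟩ := αAlg_ker k n h2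
    rw [Ideal.mem_bot]
    show z' * w' = 0
    refine TrivSqZeroExt.ext (by simp [h1]) ?_
    rw [TrivSqZeroExt.snd_mul, h1, op_smul_eq_smul, zero_smul, add_zero, smul_eq_mul, hc, hb]
    show T1Lift.t k (n + 1) * b * (algebraMap k _ c * T1Lift.t k (n + 1) ^ (n + 1)) = 0
    linear_combination (b * algebraMap k _ c) * T1Lift.t_pow k (n + 1)
  have hα : ArtFun.Art.IsSemismallExt (T1Lift.α k (n + 1)) := by
    refine ⟨αAlg_surjective k (n + 1), le_bot_iff.1 (Ideal.mul_le.2 fun z hz w hw => ?_)⟩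
    rw [(T1Lift.A k (n + 1 + 1)).mem_maximalIdeal_iff] at hz
    obtain ⟨b, hb⟩ := T1Lift.eq_algebraMap_add_t_mul k (n + 1 + 1) z
    rw [show T1Lift.resA k (n + 1 + 1) z = 0 from hz, map_zero, zero_add] at hb
    obtain ⟨c, hc⟩ := αAlg_ker k (n + 1) (a := w) hw
    rw [Ideal.mem_bot]
    let w' : T1Lift.Tr k (n + 1 + 1) := w
    let z' : T1Lift.Tr k (n + 1 + 1) := z
    show z' * w' = 0
    rw [show z' = _ from hb, show w' = _ from hc]
    linear_combination (b * algebraMap k _ c) * T1Lift.t_pow k (n + 1 + 1)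
  have hmem : ∀ j : ↥(RingHom.ker (T1Lift.α k (n + 1)).toAlgHom),
      (T1Lift.ε k (n + 1)).toAlgHom (j : T1Lift.A k (n + 1 + 1)) ∈ RingHom.ker mkP.toAlgHom := fun j => by
    rw [RingHom.mem_ker]
    have h := congrArg (fun f : T1Lift.A k (n + 1 + 1) ⟶ P => f.toAlgHom (j : T1Lift.A k (n + 1 + 1))) hsq
    refine h.symm.trans ?_
    show g.toAlgHom ((T1Lift.α k (n + 1)).toAlgHom (j : T1Lift.A k (n + 1 + 1))) = 0
    rw [show (T1Lift.α k (n + 1)).toAlgHom (j : T1Lift.A k (n + 1 + 1)) = 0 from j.2, map_zero]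
  let ℓ : ↥(RingHom.ker (T1Lift.α k (n + 1)).toAlgHom) →ₗ[k] ↥(RingHom.ker mkP.toAlgHom) :=
    { toFun := fun j => ⟨_, hmem j⟩
      map_add' := fun a b => Subtype.ext (map_add _ _ _)
      map_smul' := fun c a => Subtype.ext (map_smul (T1Lift.ε k (n + 1)).toAlgHom c (a : T1Lift.A k (n + 1 + 1))) }
  have hℓ : Function.Injective ℓ := by
    rw [injective_iff_map_eq_zero]
    rintro ⟨j, hj⟩ h0
    obtain ⟨c, hc⟩ := αAlg_ker k (n + 1) (a := j) hj
    have h1 : T1Lift.εAlg k (n + 1) j = 0 := congrArg Subtype.val h0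
    rw [hc, map_mul, AlgHom.commutes, map_pow, T1Lift.εAlg_t] at h1
    have h2 := congrArg TrivSqZeroExt.snd h1
    rw [TrivSqZeroExt.algebraMap_eq_inl', TrivSqZeroExt.snd_mul, TrivSqZeroExt.fst_inl, TrivSqZeroExt.snd_inl,
      smul_zero, add_zero, TrivSqZeroExt.snd_pow] at h2
    simp only [TrivSqZeroExt.fst_add, TrivSqZeroExt.fst_inl, DualNumber.fst_eps, add_zero, TrivSqZeroExt.snd_add,
      TrivSqZeroExt.snd_inl, DualNumber.snd_eps, zero_add, TrivSqZeroExt.snd_zero, smul_eq_mul, mul_one,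
      nsmul_eq_mul] at h2
    rw [show (n + 1 + 1).pred = n + 1 from rfl, ← map_natCast (algebraMap k (T1Lift.Tr k (n + 1))),
      ← mul_assoc, ← map_mul] at h2
    refine Subtype.ext ?_
    show j = 0
    rcases eq_or_ne c 0 with rfl | hc0
    · rw [hc, map_zero, zero_mul]; rfl
    · refine absurd ?_ (t_pow_ne_zero k (n + 1))
      have hne : c * ((n + 1 + 1 : ℕ) : k) ≠ 0 := mul_ne_zero hc0 (Nat.cast_ne_zero.2 (by omega))
      exact ((Ne.isUnit hne).map (algebraMap k (T1Lift.Tr k (n + 1)))).mul_right_eq_zero.1 h2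
  refine (O.obs_eq_zero_iff _ hα X).1 ?_
  have h := hnat (T1Lift.α k (n + 1)) hα mkP hp (T1Lift.ε k (n + 1)) g hsq ℓ (fun j => rfl) X
  rw [(O.obs_eq_zero_iff mkP hp _).2 ⟨Y, hcmp⟩] at h
  exact Module.Flat.lTensor_preserves_injective_linearMap ℓ hℓ (h.symm.trans (map_zero _).symm)

end Groth.Agent.S18187
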