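import Groth.Statements.S1819
import Groth.Agent.RingBidual.Apply
import Groth.Agent.RHomMod.Complete

set_option autoImplicit false
universe u
open CategoryTheory
attribute [local instance] HasDerivedCategory.standard
open Dual

set_option backward.isDefEq.respectTransparency false
set_option backward.isDefEq.respectTransparency.types false

namespace Groth.Agent.S1819

/-- Let A be a Noetherian ring with a dualizing complex ω and K a complex of A-modules all of whose
cohomology modules are finite; assume RHom(K, −) exists. Then every cohomology module of RHom_A(K,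
ω) is finite, and for every complex E representing RHom_A(K, ω) (with RHom(E, −) existing) there is
an isomorphism RHom_A(E, ω) ≅ K in D(A). -/
theorem result (A : Type u) [CommRing A] [IsNoetherianRing A] (ω : Dual.D A) (hω : Dual.IsDualizing A ω) (K : DRing.Cx A) [DRing.HasRHomCx K] (hK : ∀ i : ℤ, Module.Finite A (Dual.HD A (DRing.toD K) i)) : (∀ i : ℤ, Module.Finite A (Dual.HD A ((DRing.RHomCx K).obj ω) i)) ∧ ∀ (E : DRing.Cx A) [DRing.HasRHomCx E], Nonempty (DRing.toD E ≅ (DRing.RHomCx K).obj ω) → Nonempty ((DRing.RHomCx E).obj ω ≅ DRing.toD K) := by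
  obtain ⟨R⟩ := Groth.Agent.DualCx.nonempty_rep hω
  haveI := R.isKInjective
  haveI : R.J.IsStrictlyGE R.a :=
    (CochainComplex.isStrictlyGE_iff _ _).2 fun j hj => R.zero j (Or.inl hj)
  haveI : R.J.IsStrictlyLE R.b :=
    (CochainComplex.isStrictlyLE_iff _ _).2 fun j hj => R.zero j (Or.inr hj)
  obtain ⟨P, c, hP, hc, -⟩ := Groth.Agent.RHomMod.exists_kProj_kFlat_resolution K
  haveI := hP
  haveI := hc
  obtain ⟨eK⟩ := Groth.Agent.RHomMod.nonempty_RHomCx_iso K c R.iso
  haveI := Groth.Agent.RHomMod.quasiIso_preMap c R.J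
  let e₁ : (DRing.RHomCx K).obj ω ≅ DerivedCategory.Q.obj (DRing.homCx K R.J) :=
    eK ≪≫ (CategoryTheory.asIso (DerivedCategory.Q.map (Groth.Agent.RHomMod.preMap c R.J))).symm
  refine ⟨fun i => ?_, fun E _ hE => ?_⟩
  · exact Groth.Agent.RingBidual.finite_hd K R hω hK ((DRing.RHomCx K).obj ω) e₁ i
  · obtain ⟨eE⟩ := hE
    obtain ⟨P', c', hP', hc', -⟩ := Groth.Agent.RHomMod.exists_kProj_kFlat_resolution E
    haveI := hP'
    haveI := hc'
    obtain ⟨eE'⟩ := Groth.Agent.RHomMod.nonempty_RHomCx_iso E c' R.iso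
    obtain ⟨eD⟩ := Groth.Agent.RingBidual.nonempty_iso_DD K R hω hK P'
      (CategoryTheory.asIso (DerivedCategory.Q.map c') ≪≫ eE ≪≫ e₁)
    exact ⟨eE' ≪≫ eD⟩

end Groth.Agent.S1819
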