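import Groth.Statements.S18190
import Mathlib

set_option autoImplicit false
open OrbRR

namespace Groth.Agent.S18190

/-- Let N ≥ 1 and let f : ℤ/Nℤ → ℚ be f(x) = x(x − N)/2 + (N² − 1)/12, where x is read as its
representative with 0 ≤ x < N. The real N × N matrix indexed by ℤ/Nℤ whose (i, j) entry is f(j −
i)/N, a symmetric circulant matrix, is positive semidefinite. -/
theorem result (N : ℕ) [NeZero N] :
    (Matrix.of fun i j : ZMod N =>
        ((((j - i).val : ℝ) * (((j - i).val : ℝ) - (N : ℝ))) / 2 + ((N : ℝ) ^ 2 - 1) / 12) / (N : ℝ)).PosSemidef := by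
  classical
  have hsum : ∀ (p q : ℝ) (n : ℕ), ∑ t ∈ Finset.range n, ((t : ℝ) + p) * ((t : ℝ) + q) =
      (n : ℝ) * ((n : ℝ) - 1) * (2 * (n : ℝ) - 1) / 6 + (p + q) * ((n : ℝ) * ((n : ℝ) - 1) / 2) + (n : ℝ) * (p * q) := by
    intro p q n
    induction n with
    | zero => simp
    | succ n ih => rw [Finset.sum_range_succ, ih]; push_cast; ring
  set m : ℝ := ((N : ℝ) - 1) / 2 with hm
  have hcorr : ∀ d : ZMod N, ∑ t : ZMod N, ((t.val : ℝ) - m) * (((t + d).val : ℝ) - m) =
      (N : ℝ) * ((((d.val : ℝ)) * ((d.val : ℝ) - (N : ℝ))) / 2 + ((N : ℝ) ^ 2 - 1) / 12) := by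
    intro d
    obtain ⟨a, ha⟩ := Nat.exists_eq_add_of_le (ZMod.val_lt d).le
    have hv : ∀ t : ℕ, t < N → ((t : ZMod N)).val = t := fun t ht => ZMod.val_cast_of_lt ht
    have h1 : ∑ t : ZMod N, ((t.val : ℝ) - m) * (((t + d).val : ℝ) - m) =
        ∑ t ∈ Finset.range N, ((t : ℝ) - m) * ((((t : ZMod N) + d).val : ℝ) - m) := by
      refine Finset.sum_nbij' (fun t => t.val) (fun t => (t : ZMod N)) ?_ ?_ ?_ ?_ ?_
      · intro t _; simpa using ZMod.val_lt t
      · intro t _; simp
      · intro t _; simp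
      · intro t ht; exact hv t (by simpa using ht)
      · intro t _; simp
    have hN : (N : ℝ) = (a : ℝ) + (d.val : ℝ) := by
      have := congrArg (fun x : ℕ => (x : ℝ)) ha
      push_cast at this
      linarith
    have ha' : N = a + d.val := by omega
    have hrange : Finset.range N = Finset.range (a + d.val) := by rw [← ha']
    rw [h1, hrange, Finset.sum_range_add]
    have h2 : ∀ t ∈ Finset.range a, ((t : ℝ) - m) * ((((t : ZMod N) + d).val : ℝ) - m) =
        ((t : ℝ) + -m) * ((t : ℝ) + ((d.val : ℝ) - m)) := by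
      intro t ht
      have htN : t + d.val < N := by rw [Finset.mem_range] at ht; omega
      rw [ZMod.val_add_of_lt (by rwa [hv t (by omega)]), hv t (by omega)]
      push_cast; ring
    have h3 : ∀ t ∈ Finset.range d.val, (((a + t : ℕ) : ℝ) - m) * (((((a + t : ℕ) : ZMod N) + d).val : ℝ) - m) =
        ((t : ℝ) + ((a : ℝ) - m)) * ((t : ℝ) + -m) := by
      intro t ht
      have htd : t < d.val := Finset.mem_range.1 ht
      have e : ((((a + t : ℕ) : ZMod N)) + d).val = t := by
        rw [ZMod.val_add, hv (a + t) (by omega), show a + t + d.val = t + N by omega, Nat.add_mod_right,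
          Nat.mod_eq_of_lt (by omega)]
      rw [e]; push_cast; ring
    rw [Finset.sum_congr rfl h2, Finset.sum_congr rfl h3, hsum, hsum, hm, hN]
    ring
  let B : Matrix (ZMod N) (ZMod N) ℝ := Matrix.of fun t i => ((t + i).val : ℝ) - m
  have hEq : (Matrix.of fun i j : ZMod N =>
      ((((j - i).val : ℝ) * (((j - i).val : ℝ) - (N : ℝ))) / 2 + ((N : ℝ) ^ 2 - 1) / 12) / (N : ℝ)) =
      ((N : ℝ) ^ 2)⁻¹ • (B.conjTranspose * B) := by
    ext i j
    have hs : (B.conjTranspose * B) i j = ∑ t : ZMod N, ((t.val : ℝ) - m) * (((t + (j - i)).val : ℝ) - m) := by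
      rw [Matrix.mul_apply]
      refine Fintype.sum_equiv (Equiv.addRight i) _ _ fun t => ?_
      simp [B, Matrix.conjTranspose_apply]
    have hN0 : (N : ℝ) ≠ 0 := Nat.cast_ne_zero.2 (NeZero.ne N)
    rw [Matrix.smul_apply, hs, hcorr, Matrix.of_apply, smul_eq_mul]
    field_simp
  rw [hEq]
  exact (Matrix.posSemidef_conjTranspose_mul_self B).smul (by positivity)

end Groth.Agent.S18190
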