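import Groth.Statements.S18193
import Groth.Agent.LocImmFT.Props
import Groth.Agent.S18195
-- import your own Groth.Agent.* helpers here

set_option autoImplicit false
universe u
open LocImm

namespace Groth.Agent.S18193

open CategoryTheory AlgebraicGeometry in
/-- Let `X, Y₁, Y₂, S` be Noetherian schemes, `f_i : X ⟶ Y_i` separated localizing immersions
(localizing and injective on points) and `π_i : Y_i ⟶ S` separated morphisms of finite type with `f₁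
≫ π₁ = f₂ ≫ π₂`. Then there are a scheme `W`, a localizing immersion `k : X ⟶ W` and open immersions
`g_i : W ⟶ Y_i` compatible over `S` with `k ≫ g_i = f_i`; in particular `W` is of finite type over
`S`. -/
theorem result {X Y₁ Y₂ S : Scheme.{u}} [IsNoetherian X] [IsNoetherian Y₁] [IsNoetherian Y₂] [IsNoetherian S]
    (f₁ : X ⟶ Y₁) (f₂ : X ⟶ Y₂) (π₁ : Y₁ ⟶ S) (π₂ : Y₂ ⟶ S)
    (hf₁ : LocImm.IsLocImmersion f₁) (hf₂ : LocImm.IsLocImmersion f₂) [IsSeparated f₁] [IsSeparated f₂]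
    [IsSeparated π₁] [IsSeparated π₂] [LocallyOfFiniteType π₁] [LocallyOfFiniteType π₂] (h : f₁ ≫ π₁ = f₂ ≫ π₂) :
    ∃ (W : Scheme.{u}) (k : X ⟶ W) (g₁ : W ⟶ Y₁) (g₂ : W ⟶ Y₂), LocImm.IsLocImmersion k ∧ IsOpenImmersion g₁ ∧ IsOpenImmersion g₂ ∧ g₁ ≫ π₁ = g₂ ≫ π₂ ∧ k ≫ g₁ = f₁ ∧ k ≫ g₂ = f₂ := by
  classical
  haveI := Groth.Agent.LocImmB.flat hf₁.1
  let P := Limits.pullback π₁ π₂
  let k₀ : X ⟶ P := Limits.pullback.lift f₁ f₂ h
  haveI : IsLocallyNoetherian P := LocallyOfFiniteType.isLocallyNoetherian (Limits.pullback.fst π₁ π₂)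
  haveI : QuasiCompact π₂ := inferInstance
  haveI : CompactSpace P := QuasiCompact.compactSpace_of_compactSpace (Limits.pullback.fst π₁ π₂)
  haveI : QuasiCompact k₀ := inferInstance
  haveI : IsLocallyNoetherian k₀.image := LocallyOfFiniteType.isLocallyNoetherian k₀.imageι
  haveI : CompactSpace k₀.image := QuasiCompact.compactSpace_of_compactSpace k₀.imageι
  haveI : IsNoetherian k₀.image := ⟨⟩
  let q₁ : k₀.image ⟶ Y₁ := k₀.imageι ≫ Limits.pullback.fst π₁ π₂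
  let q₂ : k₀.image ⟶ Y₂ := k₀.imageι ≫ Limits.pullback.snd π₁ π₂
  have e₁ : k₀.toImage ≫ q₁ = f₁ := by
    simp only [q₁]; rw [Scheme.Hom.toImage_imageι_assoc]; exact Limits.pullback.lift_fst _ _ _
  have e₂ : k₀.toImage ≫ q₂ = f₂ := by
    simp only [q₂]; rw [Scheme.Hom.toImage_imageι_assoc]; exact Limits.pullback.lift_snd _ _ _
  have hk : LocImm.IsLocImmersion k₀.toImage :=
    Groth.Agent.S18195.result k₀.toImage q₁ (e₁.symm ▸ hf₁) fun U =>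
      (TopCat.Presheaf.app_injective_iff_stalkFunctor_map_injective
        (F := k₀.image.sheaf) k₀.toImage.c).1 k₀.stalkFunctor_toImage_injective U
  obtain ⟨U₁, hU₁, hi₁⟩ := Groth.Agent.LocImmFT.exists_open_isOpenImmersion k₀.toImage q₁ hk (e₁.symm ▸ hf₁)
  obtain ⟨U₂, hU₂, hi₂⟩ := Groth.Agent.LocImmFT.exists_open_isOpenImmersion k₀.toImage q₂ hk (e₂.symm ▸ hf₂)
  have hr : Set.range k₀.toImage ⊆ Set.range (U₁ ⊓ U₂).ι := by
    rintro _ ⟨x, rfl⟩; rw [Scheme.Opens.range_ι]; exact ⟨hU₁ ⟨x, rfl⟩, hU₂ ⟨x, rfl⟩⟩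
  refine ⟨(U₁ ⊓ U₂).toScheme, IsOpenImmersion.lift (U₁ ⊓ U₂).ι k₀.toImage hr, (U₁ ⊓ U₂).ι ≫ q₁, (U₁ ⊓ U₂).ι ≫ q₂,
    Groth.Agent.LocImmFT.isLocImmersion_lift _ hk _ hr, ?_, ?_, ?_, ?_, ?_⟩
  · rw [← k₀.image.homOfLE_ι (inf_le_left : U₁ ⊓ U₂ ≤ U₁), Category.assoc]; infer_instance
  · rw [← k₀.image.homOfLE_ι (inf_le_right : U₁ ⊓ U₂ ≤ U₂), Category.assoc]; infer_instance
  · simp [q₁, q₂, Limits.pullback.condition]
  · rw [IsOpenImmersion.lift_fac_assoc, e₁]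
  · rw [IsOpenImmersion.lift_fac_assoc, e₂]

end Groth.Agent.S18193
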