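import Groth.Statements.S18199
import Mathlib

set_option linter.style.haveILetI false
set_option autoImplicit false
universe v
namespace Groth.Agent.S18199
open CategoryTheory AlgebraicGeometry Limits

theorem closure_inter_range {A B C : Scheme.{v}} (τ : A ⟶ B) [IsClosedImmersion τ] (g : B ⟶ C)
    [IsPreimmersion g] (b : B) (hb : g.base b ∈ closure (Set.range (τ ≫ g).base)) :
    b ∈ Set.range τ.base := by
  rw [← τ.isClosedEmbedding.isClosed_range.closure_eq,
    g.isEmbedding.isInducing.closure_eq_preimage_closure_image, ← Set.range_comp]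
  exact hb

/-- If `X` is separated and universally closed over `S`, a dominant flat preimmersion from an open of `X`
to a separated `S`-scheme is an open immersion. -/
theorem isOpenImmersion_of_preimmersion {X S V Y : Scheme.{v}} (f : X ⟶ S) [IsSeparated f]
    [UniversallyClosed f] (ι : V ⟶ X) [IsOpenImmersion ι] (j : V ⟶ Y) [IsPreimmersion j] [Flat j]
    [IsDominant j] (q : Y ⟶ S) [IsSeparated q] (h : j ≫ q = ι ≫ f) : IsOpenImmersion j := by
  let σ : V ⟶ pullback f (j ≫ q) := pullback.lift ι (𝟙 V) (by rw [h, Category.id_comp])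
  haveI : IsClosedImmersion σ := by
    haveI : IsClosedImmersion (σ ≫ pullback.snd f (j ≫ q)) := by
      rw [pullback.lift_snd]; infer_instance
    exact IsClosedImmersion.of_comp σ (pullback.snd f (j ≫ q))
  let τ : V ⟶ pullback (ι ≫ f) q := pullback.lift (𝟙 V) j (by rw [h, Category.id_comp])
  haveI : IsClosedImmersion τ := by
    haveI : IsClosedImmersion (τ ≫ pullback.fst (ι ≫ f) q) := by
      rw [pullback.lift_fst]; infer_instance
    exact IsClosedImmersion.of_comp τ (pullback.fst (ι ≫ f) q)
  let m : pullback f (j ≫ q) ⟶ pullback f q :=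
    pullback.map f (j ≫ q) f q (𝟙 X) j (𝟙 S) (by simp) (by simp)
  have sqm : IsPullback m (pullback.snd f (j ≫ q)) (pullback.snd f q) j := by
    refine IsPullback.of_right ?_ (pullback.lift_snd _ _ _) (IsPullback.of_hasPullback f q)
    rw [pullback.lift_fst, Category.comp_id]
    exact IsPullback.of_hasPullback f (j ≫ q)
  let n : pullback (ι ≫ f) q ⟶ pullback f q :=
    pullback.map (ι ≫ f) q f q ι (𝟙 Y) (𝟙 S) (by simp) (by simp)
  have sqn : IsPullback (pullback.fst (ι ≫ f) q) n ι (pullback.fst f q) := by
    refine IsPullback.of_bot ?_ (pullback.lift_fst _ _ _).symm (IsPullback.of_hasPullback f q).flip.flip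
    rw [pullback.lift_snd, Category.comp_id]
    exact IsPullback.of_hasPullback (ι ≫ f) q
  haveI : IsPreimmersion m :=
    MorphismProperty.of_isPullback (P := @IsPreimmersion) sqm.flip inferInstance
  haveI : IsPreimmersion n :=
    MorphismProperty.of_isPullback (P := @IsPreimmersion) sqn inferInstance
  have hστ : τ ≫ n = σ ≫ m := by
    apply pullback.hom_ext
    · simp only [σ, τ, m, n, Category.assoc, pullback.lift_fst, pullback.lift_fst_assoc, Category.comp_id,
        Category.id_comp, pullback.map]
    · simp only [σ, τ, m, n, Category.assoc, pullback.lift_snd, pullback.lift_snd_assoc, Category.comp_id,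
        Category.id_comp, pullback.map]
  have hg : (σ ≫ m) ≫ pullback.snd f q = j := by
    simp only [σ, m, Category.assoc, pullback.lift_snd, pullback.lift_snd_assoc, Category.id_comp, pullback.map]
  have hf : (σ ≫ m) ≫ pullback.fst f q = ι := by
    simp only [σ, m, Category.assoc, pullback.lift_fst, pullback.lift_fst_assoc, Category.comp_id, pullback.map]
  let C : Set ↥(pullback f q) := closure (Set.range (σ ≫ m).base) \
    (pullback.fst f q).base ⁻¹' Set.range ι.base
  have hC : IsClosed C := isClosed_closure.inter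
    ((ι.isOpenEmbedding.isOpen_range.preimage (pullback.fst f q).continuous).isClosed_compl)
  have hq : IsClosedMap (pullback.snd f q).base := (pullback.snd f q).isClosedMap
  have hrange : Set.range j.base = ((pullback.snd f q).base '' C)ᶜ := by
    apply Set.Subset.antisymm
    · rintro y ⟨v, rfl⟩ ⟨c, ⟨hc, hcV⟩, hcy⟩
      obtain ⟨p, hp1, -⟩ := Scheme.exists_preimage_of_isPullback sqm c v hcy
      subst hp1
      obtain ⟨w, rfl⟩ := closure_inter_range σ m p hc
      exact hcV ⟨w, by rw [← Scheme.Hom.comp_apply, ← Scheme.Hom.comp_apply, ← Category.assoc, hf]⟩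
    · intro y hy
      have hsub : closure (Set.range j.base) ⊆
          (pullback.snd f q).base '' closure (Set.range (σ ≫ m).base) := by
        refine closure_minimal ?_ (hq _ isClosed_closure)
        rintro _ ⟨v, rfl⟩
        exact ⟨(σ ≫ m).base v, subset_closure ⟨v, rfl⟩, by rw [← Scheme.Hom.comp_apply, hg]⟩
      obtain ⟨c, hc, rfl⟩ := hsub (show y ∈ closure (Set.range j.base) by rw [j.denseRange.closure_range]; trivial)
      by_cases hcV : (pullback.fst f q).base c ∈ Set.range ι.base
      · obtain ⟨v, hv⟩ := hcV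
        obtain ⟨p, -, hp2⟩ := Scheme.exists_preimage_of_isPullback sqn v c hv
        subst hp2
        rw [← hστ] at hc
        obtain ⟨w, rfl⟩ := closure_inter_range τ n p hc
        refine ⟨w, ?_⟩
        rw [← Scheme.Hom.comp_apply τ n, hστ, ← Scheme.Hom.comp_apply, hg]
      · exact absurd ⟨c, ⟨hc, hcV⟩, rfl⟩ hy
  have hopen : IsOpen (Set.range j.base) := by
    rw [hrange]; exact (hq _ hC).isOpen_compl
  haveI : ∀ v, IsIso (j.stalkMap v) := fun v => by
    refine (ConcreteCategory.isIso_iff_bijective _).2 ⟨?_, j.stalkMap_surjective v⟩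
    algebraize [(j.stalkMap v).hom]
    have : Module.FaithfullyFlat (Y.presheaf.stalk (j v)) (V.presheaf.stalk v) :=
      @Module.FaithfullyFlat.of_flat_of_isLocalHom _ _ _ _ _ _ _
        (Flat.stalkMap j v) (j.toLRSHom.prop v)
    exact ‹RingHom.FaithfullyFlat _›.injective
  exact IsOpenImmersion.of_isIso_stalkMap j ⟨j.isEmbedding, hopen⟩

theorem locallyOfFiniteType_of_essFiniteType {X S : Scheme.{v}} (f : X ⟶ S) [IsSeparated f]
    [UniversallyClosed f] [EssFT.LocallyEssFiniteType f] : LocallyOfFiniteType f := by
  choose U V hxV e he using EssFT.LocallyEssFiniteType.exists_appLE_essFiniteType (f := f)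
  refine (IsZariskiLocalAtSource.iff_of_iSup_eq_top (P := @LocallyOfFiniteType) (fun x => (V x).1)
    (TopologicalSpace.Opens.ext (Set.eq_univ_of_forall fun x => TopologicalSpace.Opens.mem_iSup.2 ⟨x, hxV x⟩))).2 fun x => ?_
  rw [← MorphismProperty.cancel_left_of_respectsIso @LocallyOfFiniteType (V x).2.isoSpec.inv,
    ← Category.assoc, IsAffineOpen.isoSpec_inv_ι, ← IsAffineOpen.SpecMap_appLE_fromSpec f (U x).2 (V x).2 (e x)]
  algebraize [(f.appLE (U x).1 (V x).1 (e x)).hom]
  haveI : Algebra.EssFiniteType Γ(S, (U x).1) Γ(X, (V x).1) := he x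
  let A := Algebra.EssFiniteType.subalgebra Γ(S, (U x).1) Γ(X, (V x).1)
  let j : Spec Γ(X, (V x).1) ⟶ Spec (.of A) :=
    Spec.map (CommRingCat.ofHom (algebraMap A Γ(X, (V x).1)))
  let p : Spec (.of A) ⟶ Spec Γ(S, (U x).1) :=
    Spec.map (CommRingCat.ofHom (algebraMap Γ(S, (U x).1) A))
  have hjp : Spec.map (f.appLE (U x).1 (V x).1 (e x)) = j ≫ p := by
    rw [← Spec.map_comp]; rfl
  haveI : IsPreimmersion j :=
    IsPreimmersion.of_isLocalization (Algebra.EssFiniteType.submonoid Γ(S, (U x).1) Γ(X, (V x).1))
  haveI : Flat j := by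
    rw [HasRingHomProperty.Spec_iff (P := @Flat)]
    exact RingHom.flat_algebraMap_iff.2
      (IsLocalization.flat _ (Algebra.EssFiniteType.submonoid Γ(S, (U x).1) Γ(X, (V x).1)))
  haveI : IsDominant j := ⟨by
    refine (PrimeSpectrum.denseRange_comap_iff_ker_le_nilRadical _).2 ?_
    exact ((RingHom.injective_iff_ker_eq_bot _).1 Subtype.val_injective).trans_le bot_le⟩
  haveI : LocallyOfFiniteType p := by
    rw [HasRingHomProperty.Spec_iff (P := @LocallyOfFiniteType)]
    exact RingHom.finiteType_algebraMap.2 inferInstance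
  have hq : j ≫ p ≫ (U x).2.fromSpec = (V x).2.fromSpec ≫ f := by
    rw [← Category.assoc, ← hjp]
    exact IsAffineOpen.SpecMap_appLE_fromSpec f (U x).2 (V x).2 (e x)
  haveI := isOpenImmersion_of_preimmersion f (V x).2.fromSpec j (p ≫ (U x).2.fromSpec) hq
  rw [hjp]
  infer_instance

end Groth.Agent.S18199


set_option autoImplicit false
universe u
open LocImm

namespace Groth.Agent.S18199

open CategoryTheory AlgebraicGeometry in
/-- A separated, universally closed morphism of Noetherian schemes that is essentially of finite type is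
proper; thus no new class of proper-like morphisms arises among essentially finite-type ones. -/
theorem result {X S : Scheme.{u}} [IsNoetherian X] [IsNoetherian S] (f : X ⟶ S) [IsSeparated f] [EssFT.EssFiniteType f] [UniversallyClosed f] : IsProper f := by
  haveI := locallyOfFiniteType_of_essFiniteType f
  exact ⟨⟩

end Groth.Agent.S18199
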