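import Groth.Statements.S18208
import Groth.Agent.LocImmB.Basic

set_option autoImplicit false
universe u
open LocImm

namespace Groth.Agent.S18208

open CategoryTheory AlgebraicGeometry in
/-- A morphism `f : X ⟶ Y` of Noetherian schemes is a localizing immersion (localizing and injective on
points) if and only if every point of `f(X)` has an affine open neighbourhood `V` in `Y` whose
preimage `f⁻¹V` is affine with `Γ(Y, V) → Γ(X, f⁻¹V)` a localizing ring map (its target is the
localization of its source at some submonoid). In particular such an `f` is quasi-affine. -/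
theorem result {X Y : Scheme.{u}} [IsNoetherian X] [IsNoetherian Y] (f : X ⟶ Y) :
    LocImm.IsLocImmersion f ↔ ∀ x : X, ∃ V : Y.Opens, f x ∈ V ∧ IsAffineOpen V ∧ IsAffineOpen (f ⁻¹ᵁ V) ∧ LocImm.IsLocHom (f.app V).hom := by
  set_option backward.isDefEq.respectTransparency false in
  constructor
  · intro hf x
    obtain ⟨V, hxV, -, h1, h2, h3⟩ := Groth.Agent.LocImmB.exists_affine_nhd hf x ⊤ trivial
    exact ⟨V, hxV, h1, h2, h3⟩
  · intro h
    choose V hxV hV1 hV2 hloc using h
    refine ⟨fun x => ⟨⟨V x, hV1 x⟩, ⟨f ⁻¹ᵁ V x, hV2 x⟩, hxV x, le_rfl, ?_⟩, fun a b hab => ?_⟩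
    · rw [← Scheme.Hom.app_eq_appLE]; exact hloc x
    · have hb : b ∈ f ⁻¹ᵁ V a := by
        change f b ∈ V a
        rw [show f b = f a from hab.symm]
        exact hxV a
      letI := (f.app (V a)).hom.toAlgebra
      obtain ⟨S, hS⟩ := hloc a
      have hinj : Function.Injective (Spec.map (f.appLE (V a) (f ⁻¹ᵁ V a) le_rfl)) := by
        rw [← Scheme.Hom.app_eq_appLE]
        exact (PrimeSpectrum.localization_comap_isEmbedding Γ(X, f ⁻¹ᵁ V a) S).injective
      obtain ⟨p, hp⟩ : a ∈ Set.range (hV2 a).fromSpec := (hV2 a).range_fromSpec.symm ▸ hxV a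
      obtain ⟨q, hq⟩ : b ∈ Set.range (hV2 a).fromSpec := (hV2 a).range_fromSpec.symm ▸ hb
      have hpq : Spec.map (f.appLE (V a) (f ⁻¹ᵁ V a) le_rfl) p = Spec.map (f.appLE (V a) (f ⁻¹ᵁ V a) le_rfl) q := by
        apply (hV1 a).fromSpec.isOpenEmbedding.injective
        rw [← Scheme.Hom.comp_apply, ← Scheme.Hom.comp_apply,
          (hV1 a).SpecMap_appLE_fromSpec f (hV2 a) le_rfl, Scheme.Hom.comp_apply, Scheme.Hom.comp_apply, hp, hq]
        exact hab
      rw [← hp, ← hq, hinj hpq]

end Groth.Agent.S18208
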