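import Groth.Statements.S18209
import Groth.Agent.LocImmBlow.Apps
-- import your own Groth.Agent.* helpers here

set_option autoImplicit false
set_option backward.isDefEq.respectTransparency false
set_option backward.isDefEq.respectTransparency.types false
universe u
open LocImm

namespace Groth.Agent.S18209

open AlgebraicGeometry CategoryTheory CategoryTheory.Limits Groth.Agent

open CategoryTheory AlgebraicGeometry Limits in
/-- Let `f : X ⟶ Y` and `g : Y ⟶ Z` be separated morphisms of Noetherian schemes, essentially of finite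
type, such that `f` and `f ≫ g` are localizing immersions (localizing and injective on points). Then
there are blow-ups `b : Ỹ ⟶ Y` and `c : Z̃ ⟶ Z` in quasi-coherent (hence coherent) ideals whose
closed subschemes are disjoint from the image of `X`, and a localizing immersion `g' : Ỹ ⟶ Z̃`
lifting `g`, i.e. `g' ≫ c = b ≫ g`. -/
theorem result {X Y Z : Scheme.{u}} [IsNoetherian X] [IsNoetherian Y] [IsNoetherian Z]
    (f : X ⟶ Y) (g : Y ⟶ Z) [IsSeparated f] [IsSeparated g] [EssFT.EssFiniteType f] [EssFT.EssFiniteType g]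
    (hf : LocImm.IsLocImmersion f) (hfg : LocImm.IsLocImmersion (f ≫ g)) :
    ∃ (𝓘 : Y.IdealSheafData) (𝓙 : Z.IdealSheafData) (Yt Zt : Scheme.{u}) (b : Yt ⟶ Y) (c : Zt ⟶ Z) (g' : Yt ⟶ Zt),
      BlowUp.IsBlowUp b 𝓘 ∧ Disjoint (𝓘.support : Set Y) (Set.range (fun x => f x)) ∧
      BlowUp.IsBlowUp c 𝓙 ∧ Disjoint (𝓙.support : Set Z) (Set.range (fun x => g (f x))) ∧
      LocImm.IsLocImmersion g' ∧ g' ≫ c = b ≫ g := by
  obtain ⟨Y₁, i, p, _, hi, _, _, _, hip⟩ := LocImmFT.exists_locImmersion_finiteType g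
  have hf₁ := LocImmFT.isLocImmersion_comp hf hi
  obtain ⟨I, J, Y₁t, Zt, b, c, g', v, hb, hI, hc, hJ, _, hgc, -, -, -, -, -⟩ :=
    LocImmBlow.exists_modification p hf₁ (by rw [Category.assoc, hip]; exact hfg)
  haveI := LocImmBlow.isProper_blowUp hb
  haveI := LocImmBlow.isNoetherian_blowUp hb
  haveI := LocImmB.flat hi.1
  have hfst := BlowUpLib.isBlowUp_flat i hb
  haveI := LocImmBlow.isNoetherian_blowUp hfst
  refine ⟨I.comap i, J, pullback i b, Zt, pullback.fst i b, c, pullback.snd i b ≫ g', hfst, ?_, hc, ?_, ?_, ?_⟩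
  · rw [Scheme.IdealSheafData.support_comap]
    refine Set.disjoint_left.2 ?_
    rintro _ hy ⟨x, rfl⟩
    exact Set.disjoint_left.1 hI hy ⟨x, Scheme.Hom.comp_apply _ _ _⟩
  · refine Set.disjoint_left.2 ?_
    rintro _ hy ⟨x, rfl⟩
    refine Set.disjoint_left.1 hJ hy ⟨x, ?_⟩
    rw [Category.assoc, hip]
    exact Scheme.Hom.comp_apply f g x
  · exact LocImmBlow.isLocImmersion_of_isIso_comp (LocImmB.isLocImmersion_pullback_snd i b hi) g'
  · rw [Category.assoc, hgc, ← pullback.condition_assoc, hip]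

end Groth.Agent.S18209
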