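import Groth.Statements.S18210
import Groth.Agent.LocImmBlow.Apps
-- import your own Groth.Agent.* helpers here

set_option autoImplicit false
set_option backward.isDefEq.respectTransparency false
set_option backward.isDefEq.respectTransparency.types false
universe u
open LocImm

namespace Groth.Agent.S18210

open AlgebraicGeometry CategoryTheory CategoryTheory.Limits Groth.Agent

open CategoryTheory AlgebraicGeometry Limits in
/-- Let `S` be a Noetherian scheme, `U` and `Y_1, …, Y_n` Noetherian schemes separated and essentially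
of finite type over `S`, and `f_i : U ⟶ Y_i` localizing immersions over `S` (localizing and
injective on points). Then there are blow-ups `b_i : Ỹ_i ⟶ Y_i` in quasi-coherent ideals whose
closed subschemes miss `f_i(U)`, a separated `S`-scheme `Z` of finite type, lifts `u_i : U ⟶ Ỹ_i` of
the `f_i`, and localizing immersions `g_i : Ỹ_i ⟶ Z` over `S` with dense image such that all
composites `u_i ≫ g_i` coincide. (The published statement does not require the `Y_i` to be separated
over `S`; its proof factors each `Y_i ⟶ S` through the main factorization result, which needs it,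
and without it the line with a doubled point over a field, with `U` the complement of the doubled
point, is a counterexample, since a scheme admitting a localizing immersion into a separated
`S`-scheme is separated over `S`.) -/
theorem result {S U : Scheme.{u}} [IsNoetherian S] [IsNoetherian U] {n : ℕ}
    (gU : U ⟶ S) (Y : Fin n → Scheme.{u}) [∀ i, IsNoetherian (Y i)] (q : ∀ i, Y i ⟶ S)
    [∀ i, IsSeparated (q i)] [∀ i, EssFT.EssFiniteType (q i)]
    (f : ∀ i, U ⟶ Y i) (hf : ∀ i, LocImm.IsLocImmersion (f i)) (hfq : ∀ i, f i ≫ q i = gU) :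
    ∃ (Z : Scheme.{u}) (r : Z ⟶ S) (_ : IsSeparated r) (_ : LocallyOfFiniteType r) (_ : QuasiCompact r)
      (𝓘 : ∀ i, (Y i).IdealSheafData) (Yt : Fin n → Scheme.{u}) (b : ∀ i, Yt i ⟶ Y i) (u : ∀ i, U ⟶ Yt i) (g : ∀ i, Yt i ⟶ Z),
      (∀ i, BlowUp.IsBlowUp (b i) (𝓘 i) ∧ Disjoint ((𝓘 i).support : Set (Y i)) (Set.range (fun x => f i x)) ∧
        u i ≫ b i = f i ∧ LocImm.IsLocImmersion (g i) ∧ Dense (Set.range (fun x => g i x)) ∧ g i ≫ r = b i ≫ q i) ∧
      (∀ i i', u i ≫ g i = u i' ≫ g i') := by
  rcases n with _ | n
  · refine ⟨S, 𝟙 S, inferInstance, inferInstance, inferInstance, finZeroElim, finZeroElim, finZeroElim, finZeroElim,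
      finZeroElim, fun i => i.elim0, fun i => i.elim0⟩
  choose P ii r hN hii hr hir using fun i => LocImmBlow.exists_proper_factor (q i)
  haveI := hN
  haveI := hr
  obtain ⟨W, ρ, w, _, _, hw, hwd, hwρ, hc⟩ := LocImmBlow.exists_common gU n P r (fun i => f i ≫ ii i)
    (fun i => LocImmFT.isLocImmersion_comp (hf i) (hii i)) (fun i => by rw [Category.assoc, hir, hfq])
  choose c J hcb hJd hwc hcr using hc
  haveI := fun i => LocImmB.flat (hii i).1
  refine ⟨W, ρ, inferInstance, inferInstance, inferInstance, fun i => (J i).comap (ii i), fun i => pullback (ii i) (c i),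
    fun i => pullback.fst (ii i) (c i), fun i => pullback.lift (f i) w (hwc i).symm, fun i => pullback.snd (ii i) (c i),
    fun i => ⟨BlowUpLib.isBlowUp_flat (ii i) (hcb i), ?_, pullback.lift_fst _ _ _,
      LocImmB.isLocImmersion_pullback_snd (ii i) (c i) (hii i), ?_, ?_⟩, fun i i' => ?_⟩
  · rw [Scheme.IdealSheafData.support_comap]
    refine Set.disjoint_left.2 ?_
    rintro _ hy ⟨x, rfl⟩
    exact Set.disjoint_left.1 (hJd i) hy ⟨x, Scheme.Hom.comp_apply _ _ _⟩
  · refine Dense.mono ?_ hwd
    rintro _ ⟨x, rfl⟩
    refine ⟨pullback.lift (f i) w (hwc i).symm x, ?_⟩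
    show pullback.snd (ii i) (c i) (pullback.lift (f i) w (hwc i).symm x) = w x
    rw [← Scheme.Hom.comp_apply, pullback.lift_snd]
  · rw [← hir i, ← hcr i, ← pullback.condition_assoc]
  · simp only [pullback.lift_snd]

end Groth.Agent.S18210
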