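import Groth.Statements.S18211
import Groth.Agent.LocImmBlow.Apps
-- import your own Groth.Agent.* helpers here

set_option autoImplicit false
set_option backward.isDefEq.respectTransparency false
set_option backward.isDefEq.respectTransparency.types false
universe u
open LocImm

namespace Groth.Agent.S18211

open AlgebraicGeometry CategoryTheory CategoryTheory.Limits Groth.Agent

open CategoryTheory AlgebraicGeometry Limits in
/-- Let `π : Y ⟶ S` be a separated morphism of Noetherian schemes, essentially of finite type, and `f :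
U ⟶ Y` a localizing immersion (localizing and injective on points) with dense image such that `U ⟶
S` is essentially quasi-projective: it factors as a localizing immersion `j : U ⟶ P` followed by a
projective morphism `P ⟶ S` (in the sense of the relative homogeneous spectrum of a quasi-coherent
graded algebra generated in degree one with degree-one part of finite type). Then there is a blow-up
`Ỹ ⟶ Y` in a quasi-coherent ideal whose closed subscheme misses `f(U)` such that `Ỹ ⟶ S` is
essentially quasi-projective in the same sense. -/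
theorem result {U Y S P : Scheme.{u}} [IsNoetherian U] [IsNoetherian Y] [IsNoetherian S] [IsNoetherian P]
    (π : Y ⟶ S) [IsSeparated π] [EssFT.EssFiniteType π] (f : U ⟶ Y) (hf : LocImm.IsLocImmersion f)
    (hfd : Dense (Set.range (fun x => f x))) (j : U ⟶ P) (p : P ⟶ S) (hj : LocImm.IsLocImmersion j)
    (hp : RelProj.IsProjective p) (hc : j ≫ p = f ≫ π) :
    ∃ (𝓘 : Y.IdealSheafData) (Yt P' : Scheme.{u}) (b : Yt ⟶ Y) (j' : Yt ⟶ P') (p' : P' ⟶ S),
      BlowUp.IsBlowUp b 𝓘 ∧ Disjoint (𝓘.support : Set Y) (Set.range (fun x => f x)) ∧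
      LocImm.IsLocImmersion j' ∧ RelProj.IsProjective p' ∧ j' ≫ p' = b ≫ π := by
  obtain ⟨Yc, i, q, _, hi, _, hiq⟩ := LocImmBlow.exists_proper_factor π
  haveI := (Groth.Agent.SymAlg.isProper_and_ftData_of_isProjective hp).1
  obtain ⟨I₁, P₁, c₁, e, m, hc₁, hI₁, he, -, hec, hem, hcm⟩ :=
    LocImmBlow.exists_extension p q j hj (f ≫ i) (by rw [Category.assoc, hiq, hc])
  haveI := LocImmBlow.isNoetherian_blowUp hc₁
  haveI := LocImmBlow.isProper_blowUp hc₁
  haveI : IsProper (m ≫ q) := hcm ▸ inferInstance
  haveI : IsProper m := IsProper.of_comp (f := m) (g := q)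
  obtain ⟨I₂, J, P₂, Yct, b, c₂, g', v, hb, -, hc₂, hJ, -, hgc, -, -, -, -, hiso⟩ :=
    LocImmBlow.exists_modification m he (hem ▸ LocImmFT.isLocImmersion_comp hf hi)
  haveI := hiso inferInstance
  haveI := LocImmBlow.isNoetherian_blowUp hb
  haveI := LocImmBlow.isNoetherian_blowUp hc₂
  haveI := LocImmB.flat hi.1
  have hfst := BlowUpLib.isBlowUp_flat i hc₂
  haveI := LocImmBlow.isNoetherian_blowUp hfst
  refine ⟨J.comap i, pullback i c₂, P₂, pullback.fst i c₂, pullback.snd i c₂ ≫ inv g', b ≫ c₁ ≫ p, hfst, ?_,
    LocImmBlow.isLocImmersion_of_isIso_comp (LocImmB.isLocImmersion_pullback_snd i c₂ hi) (inv g'), ?_, ?_⟩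
  · rw [Scheme.IdealSheafData.support_comap]
    refine Set.disjoint_left.2 ?_
    rintro _ hy ⟨x, rfl⟩
    refine Set.disjoint_left.1 hJ hy ⟨x, ?_⟩
    rw [hem]
    exact Scheme.Hom.comp_apply f i x
  · exact LocImmBlow.isProjective_blowUp_comp (LocImmBlow.isProjective_blowUp_comp hp hc₁) hb
  · rw [Category.assoc, ← hiq, ← Category.assoc (pullback.fst i c₂), pullback.condition, hcm, ← reassoc_of% hgc]
    simp

end Groth.Agent.S18211
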