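import Groth.Statements.S18212
import Groth.Agent.LocImmBlow.Apps
-- import your own Groth.Agent.* helpers here

set_option autoImplicit false
set_option backward.isDefEq.respectTransparency false
set_option backward.isDefEq.respectTransparency.types false
universe u
open LocImm

namespace Groth.Agent.S18212

open AlgebraicGeometry CategoryTheory CategoryTheory.Limits Groth.Agent

open CategoryTheory AlgebraicGeometry Limits in
/-- Let `S` be a Noetherian scheme, `a : X ⟶ S` and `b : Y ⟶ S` separated morphisms essentially of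
finite type with `X, Y` Noetherian, `Z` a Noetherian scheme, `j : Z ⟶ X` a localizing immersion
(localizing and injective on points) and `f : Z ⟶ Y` a morphism over `S`. Then there are a blow-up
`c : X̃ ⟶ X` in a quasi-coherent ideal whose closed subscheme misses `j(Z)`, a localizing immersion
`j' : Z' ⟶ X̃` and a morphism `e : Z ⟶ Z'` with `e ≫ j' ≫ c = j` (so `j'` extends the lift of `j` to
`X̃`), and a morphism `f' : Z' ⟶ Y` over `S` extending `f` (`e ≫ f' = f`), such that the morphism
`Z' ⟶ X̃ ×_S Y` induced by `j'` and `f'` is a closed immersion. -/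
theorem result {S X Y Z : Scheme.{u}} [IsNoetherian S] [IsNoetherian X] [IsNoetherian Y] [IsNoetherian Z]
    (a : X ⟶ S) (b : Y ⟶ S) [IsSeparated a] [IsSeparated b] [EssFT.EssFiniteType a] [EssFT.EssFiniteType b]
    (j : Z ⟶ X) (hj : LocImm.IsLocImmersion j) (f : Z ⟶ Y) (hjf : j ≫ a = f ≫ b) :
    ∃ (𝓘 : X.IdealSheafData) (Xt Z' : Scheme.{u}) (c : Xt ⟶ X) (j' : Z' ⟶ Xt) (e : Z ⟶ Z') (f' : Z' ⟶ Y)
      (h : j' ≫ (c ≫ a) = f' ≫ b),
      BlowUp.IsBlowUp c 𝓘 ∧ Disjoint (𝓘.support : Set X) (Set.range (fun x => j x)) ∧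
      LocImm.IsLocImmersion j' ∧ e ≫ j' ≫ c = j ∧ e ≫ f' = f ∧
      IsClosedImmersion (pullback.lift j' f' h) := by
  obtain ⟨P, i, q, _, hi, _, hiq⟩ := LocImmBlow.exists_proper_factor b
  obtain ⟨I, Xt, c, e, f', hc, hI, -, -, hec, hef, hcf⟩ :=
    LocImmBlow.exists_extension a q j hj (f ≫ i) (by rw [Category.assoc, hiq, hjf])
  have h : pullback.snd i f' ≫ c ≫ a = pullback.fst i f' ≫ b := by
    rw [hcf, ← pullback.condition_assoc, hiq]
  refine ⟨I, Xt, pullback i f', c, pullback.snd i f', pullback.lift f e hef.symm, pullback.fst i f', h, hc, hI,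
    LocImmB.isLocImmersion_pullback_snd i f' hi, ?_, pullback.lift_fst _ _ _,
    LocImmBlow.isClosedImmersion_lift i f' q (c ≫ a) b hcf.symm hiq h⟩
  rw [pullback.lift_snd_assoc, hec]

end Groth.Agent.S18212
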