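import Groth.Statements.S18213
import Groth.Agent.LocImmFT.Props
import Groth.Agent.S1386
-- import your own Groth.Agent.* helpers here

set_option autoImplicit false
universe u
open LocImm

namespace Groth.Agent.S18213

open CategoryTheory AlgebraicGeometry in
/-- Let `f : X ⟶ Y` be a separated morphism of Noetherian schemes, essentially of finite type. Then the
set of points `x` for which the composite `Spec O_{X,x} ⟶ X ⟶ Y` is flat is open, and if `f` is flat
it factors as a localizing immersion `i : X ⟶ Z` (localizing and injective on points, `Z`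
Noetherian) followed by a separated flat morphism of finite type `h : Z ⟶ Y`. -/
theorem result {X Y : Scheme.{u}} [IsNoetherian X] [IsNoetherian Y] (f : X ⟶ Y) [IsSeparated f] [EssFT.EssFiniteType f] :
    IsOpen {x : X | Flat (X.fromSpecStalk x ≫ f)} ∧
      (Flat f → ∃ (Z : Scheme.{u}) (i : X ⟶ Z) (h : Z ⟶ Y), IsNoetherian Z ∧ LocImm.IsLocImmersion i ∧ IsSeparated h ∧ LocallyOfFiniteType h ∧ QuasiCompact h ∧ Flat h ∧ i ≫ h = f) := by
  refine (Groth.Agent.LocImmFT.localizable @Flat (fun i f _ _ hi hf => ?_) (fun {X Y} _ _ f _ _ hall => ?_) (fun {X Y} _ _ f _ _ => ?_) f).2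
  · haveI := Groth.Agent.LocImmB.flat hi.1
    haveI := hf
    infer_instance
  · exact (Flat.iff_flat_stalkMap f).2 fun x => (Groth.Agent.LocImmFT.flat_fromSpecStalk_comp_iff f x).1 (hall x)
  · haveI : LocallyOfFinitePresentation (𝟙 X ≫ f) := by
      rw [Category.id_comp]
      exact ⟨fun {U} hU {V} hV e => by
        haveI := IsLocallyNoetherian.component_noetherian ⟨U, hU⟩
        exact RingHom.FinitePresentation.of_finiteType.1 (f.finiteType_appLE hU hV e)⟩
    convert! (Groth.Agent.S1386.result (𝟙 X) f).2 using 1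
    ext x
    have h1 : ((𝟙 X : X ⟶ X).stalkMap x).hom.Flat := Flat.stalkMap _ x
    exact ⟨fun h => ⟨(Groth.Agent.LocImmFT.flat_fromSpecStalk_comp_iff f x).1 h, h1⟩, fun h => (Groth.Agent.LocImmFT.flat_fromSpecStalk_comp_iff f x).2 h.1⟩

end Groth.Agent.S18213
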