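import Groth.Statements.S18229
import Groth.Agent.AVDeg.SubAV
import Groth.Agent.S12003
import Groth.Agent.AgVanish.Invariant
import Groth.Agent.CohQC.QuasiAffine
import Groth.Agent.ClosedRep.GeomIntegral

set_option autoImplicit false
set_option backward.isDefEq.respectTransparency false
set_option backward.isDefEq.respectTransparency.types false
set_option linter.style.haveILetI false
universe u
open CategoryTheory CategoryTheory.Limits MonoidalCategory CartesianMonoidalCategory MonObj GrpObj AlgebraicGeometry
open AbVar

namespace Groth.Agent.S18229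

/-- Let k be an algebraically closed field (any characteristic) and X a simple abelian variety over k: a
proper smooth k-group scheme with geometrically connected fibres whose only geometrically integral
closed k-subgroup schemes are the trivial subgroup and X itself. Let G be an invertible O_X-module
which is effective and non-trivial: H^0(X, G) ≠ 0 and G is not isomorphic to O_X. Then G is ample.
(In other words, when the abelian variety is simple, any line bundle that is effective and not
trivial must be ample.) -/
theorem result (k : Type u) [Field k] [IsAlgClosed k]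
    (X : Over (Spec (CommRingCat.of k))) [GrpObj X] [IsProper X.hom] [Smooth X.hom] [GeometricallyConnected X.hom]
    (hsimple : ∀ (B : Over (Spec (CommRingCat.of k))) [GrpObj B] [GeometricallyIntegral B.hom] (i : B ⟶ X) [IsMonHom i]
      [IsClosedImmersion i.left], Subsingleton ↥B.left ∨ IsIso i)
    (G : X.left.Modules) (hG : PicF.IsInvertible G)
    (hsec : Nontrivial (Coh.HH X.left G 0)) (hne : ¬ Nonempty (G ≅ Coh.structureModule X.left)) :
    CohB1.IsAmple G := by
  letI := W7Cube.law X.left
  haveI : GeometricallyIntegral X.hom := ClosedRep.GeomIntegral.geometricallyIntegral_of_smooth X.hom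
  haveI := isCommMonObj_of_isProper_of_geometricallyIntegral X
  let c := PicGrp.cls G hG
  have hiff : ∀ a : 𝟙_ (Over (Spec (CommRingCat.of k))) ⟶ X,
      W7Cube.pc c (𝟙 X * (toUnit X ≫ a)) = c ↔
        Nonempty ((Scheme.Modules.pullback (𝟙 X * (toUnit X ≫ a)).left).obj G ≅ G) := fun a =>
    AgVanish.pc_cls_eq_iff hG hG _
  have hnotinv : ¬ ∀ a : 𝟙_ (Over (Spec (CommRingCat.of k))) ⟶ X, W7Cube.pc c (𝟙 X * (toUnit X ≫ a)) = c :=
    fun h => not_subsingleton_iff_nontrivial.2 hsec
      (AgVanish.hh_zero_of_invariant hG h (fun h1 => hne ((PicGrp.cls_eq_one_iff hG).1 h1)) 0)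
  let S : Subgroup (𝟙_ (Over (Spec (CommRingCat.of k))) ⟶ X) :=
    { carrier := {a | W7Cube.pc c (𝟙 X * (toUnit X ≫ a)) = c}
      one_mem' := by
        show W7Cube.pc c _ = c
        rw [MonObj.comp_one, _root_.mul_one, W7Cube.pc_id]
      mul_mem' := fun {a b} ha hb => by
        have h := AgVanish.square_point c a b
        rw [Set.mem_setOf_eq] at ha hb ⊢
        rw [ha, hb] at h
        exact mul_right_cancel h
      inv_mem' := fun {a} ha => by
        have h := AVAmple.translate_mul c a a⁻¹
        rw [Set.mem_setOf_eq] at ha ⊢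
        rw [ha] at h
        refine h.trans ?_
        rw [inv_mul_cancel, MonObj.comp_one, _root_.mul_one, W7Cube.pc_id] }
  obtain ⟨G₀, hG₀, j, hj, F, hp, hgi, hci, hF, hdec, hcl⟩ := AVDeg.exists_subAV S
  obtain ⟨T, hT, hTc⟩ := AVAmple.isClosed_invariant c
  have hclT : closure (GrpField.RatClosure.pt '' (S : Set (𝟙_ (Over (Spec (CommRingCat.of k))) ⟶ X))) ⊆ T := closure_minimal (by
    rintro _ ⟨a, ha, rfl⟩
    exact (hTc a).2 ha) hT
  rcases hsimple G₀ j with hsub | hiso
  · have hfin : (S : Set (𝟙_ (Over (Spec (CommRingCat.of k))) ⟶ X)).Finite := by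
      haveI : Subsingleton (𝟙_ (Over (Spec (CommRingCat.of k))) ⟶ G₀) := by
        haveI := hp
        exact (AVAmple.point_injective (A := G₀)).subsingleton
      rcases isEmpty_or_nonempty (𝟙_ (Over (Spec (CommRingCat.of k))) ⟶ G₀) with hem | hne'
      · exact Set.Subsingleton.finite fun a ha => (hem.false (hdec a ha).choose_spec.2.choose).elim
      · obtain ⟨p₀⟩ := hne'
        refine (hF.image fun f => f * (p₀ ≫ j)).subset fun a ha => ?_
        obtain ⟨f, hf, p, rfl⟩ := hdec a ha
        exact ⟨f, hf, by rw [Subsingleton.elim p p₀]⟩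
    obtain ⟨x, hx⟩ := exists_ne (0 : Coh.HH X.left G 0)
    let t : Γ(G, (⊤ : X.left.Opens)) :=
      SiteCoh.hu0 (Coh.toAb G) ⊤ (SiteCoh.huTerminalEquiv _ isTerminalTop (Coh.toAb G) 0 x)
    have ht : t ≠ 0 := fun h => hx
      ((SiteCoh.huTerminalEquiv _ isTerminalTop (Coh.toAb G) 0).injective
        ((SiteCoh.hu0 (Coh.toAb G) (⊤ : X.left.Opens)).injective (h.trans (by rw [map_zero, map_zero]))))
    refine S12003.result k X G hG (CohQC.secHom t) (fun h => ht ?_) (hfin.subset fun a ha => (hiff a).2 ha)
    have := CohQC.secHom_app_one t ⊤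
    rw [h, QC.res_self] at this
    exact this.symm
  · exact (hnotinv fun a => (hTc a).1 (hclT (hcl (by
      haveI := hiso
      exact ⟨(a ≫ inv j).left (IsLocalRing.closedPoint k), by
        rw [← Scheme.Hom.comp_apply, ← Over.comp_left, Category.assoc, IsIso.inv_hom_id, Category.comp_id]⟩)))).elim

end Groth.Agent.S18229
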