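import Groth.Statements.S1823
import Groth.Agent.DualSch.Biduality
import Groth.Agent.DualSch.UniqueTwist

set_option autoImplicit false
universe u
open CategoryTheory CategoryTheory.Limits AlgebraicGeometry
attribute [local instance] HasDerivedCategory.standard
open Dual

set_option backward.isDefEq.respectTransparency false
set_option backward.isDefEq.respectTransparency.types false

namespace Groth.Agent.S1823

/-- Values in D_Coh and biduality, stated objectwise: Let X be a locally Noetherian scheme and K a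
dualizing complex on X (exactness instances for restriction and tilde assumed). Let L be a complex
of O_X-modules with coherent cohomology sheaves, with − ⊗^L L and its right adjoint RSheafHom(L, −)
assumed to exist. Then all cohomology sheaves of RSheafHom(L, K) are coherent, and for every complex
M representing RSheafHom(L, K) (with the same functors assumed for M) there is an isomorphism
RSheafHom(M, K) ≅ L in D(O_X). -/
theorem result (X : Scheme.{u}) [IsLocallyNoetherian X] [∀ (U : Scheme.{u}) (j : U ⟶ X) [IsOpenImmersion j], PreservesFiniteLimits (Scheme.Modules.restrictFunctor j)] [∀ (R : CommRingCat.{u}), PreservesFiniteLimits (tilde.functor R)] (K : DCoh.D X) (hK : Dual2.IsDualizingSch X K) (L : CochainComplex X.Modules ℤ) (hL : ∀ i : ℤ, Coh.IsCoh (DCoh.HD (DCoh.toD X L) i)) [DCoh.HasLTensorCx L] [DCoh.HasRSheafHom L] : (∀ i : ℤ, Coh.IsCoh (DCoh.HD ((DCoh.RSheafHom L).obj K) i)) ∧ ∀ (M : CochainComplex X.Modules ℤ) [DCoh.HasLTensorCx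 M] [DCoh.HasRSheafHom M], Nonempty (DCoh.toD X M ≅ (DCoh.RSheafHom L).obj K) → Nonempty ((DCoh.RSheafHom M).obj K ≅ DCoh.toD X L) := by
  haveI : ∀ (U V : Scheme.{u}) (j : U ⟶ V) [IsOpenImmersion j],
      PreservesFiniteLimits (Scheme.Modules.restrictFunctor j) := fun U V j _ => inferInstance
  haveI : ∀ (Y : Scheme.{u}) (C : CochainComplex Y.Modules ℤ), DCoh.HasLTensorCx C :=
    fun Y C => Groth.Agent.KFlat.hasLTensorCx C
  haveI : ∀ (Y : Scheme.{u}) (C : CochainComplex Y.Modules ℤ), DCoh.HasRSheafHom C :=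
    fun Y C => Groth.Agent.RHomCx.hasRSheafHom C
  obtain ⟨I, hI, ⟨eI⟩⟩ := Groth.Agent.RHomCx.exists_kInjective_rep K
  haveI := hI
  let Q := (DerivedCategory.Q : CochainComplex X.Modules ℤ ⥤ DerivedCategory X.Modules)
  let Cl := (Groth.Agent.KFlat.resF X).obj L
  let q := (Groth.Agent.KFlat.resψ X).app L
  have hC : ∀ k, Coh.IsCoh (Cl.homology k) := fun k =>
    Groth.Agent.K0Coh.isCoh_of_iso (Groth.Agent.DualSch.Bi.hdQ L k ≪≫
      (asIso (HomologicalComplex.homologyMap q k)).symm) (hL k)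
  -- `RHom(D, K)` on representatives
  have hR : ∀ (D : CochainComplex X.Modules ℤ),
      Nonempty ((DCoh.RSheafHom D).obj K ≅ Q.obj ((Groth.Agent.RHomCx.GE D).obj I)) := fun D => by
    let Df := (Groth.Agent.KFlat.resF X).obj D
    let qd := (Groth.Agent.KFlat.resψ X).app D
    obtain ⟨Φ⟩ := Groth.Agent.RHomCx.nonempty_LTensorCx_iso (K := Df) (L := D) qd
    obtain ⟨e₁⟩ := Groth.Agent.RHomCx.nonempty_RHom_iso Df (Groth.Agent.KFlat.isKFlat_resF D) I
    haveI := Groth.Agent.RHomCx.quasiIso_gmap qd I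
    exact ⟨(DCoh.RSheafHom D).mapIso eI.symm ≪≫
      (((DCoh.RSheafHomAdj D).ofNatIsoLeft Φ.symm).rightAdjointUniq (DCoh.RSheafHomAdj Df)).app _ ≪≫ e₁ ≪≫
      (asIso (Q.map ((Groth.Agent.RHomCx.gmap qd).app I))).symm⟩
  -- charts
  have chart : ∀ x : X, ∃ (A : Type u) (_ : CommRing A) (j : Spec (CommRingCat.of A) ⟶ X) (_ : IsOpenImmersion j)
      (ω : Dual.D A), x ∈ j.opensRange ∧ Dual.IsDualizing A ω ∧
        Nonempty ((DCoh.restrictD j).obj (Q.obj I) ≅ (DCoh.tildeD (CommRingCat.of A)).obj ω) := by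
    intro x
    obtain ⟨A, j, hj, hx, -⟩ := Scheme.exists_affine_mem_range_and_range_subset (X := X) (U := ⊤) (x := x) trivial
    obtain ⟨ω, hω, ⟨e⟩⟩ := hK A j
    exact ⟨A, inferInstance, j, hj, ω, hx, hω, ⟨(DCoh.restrictD j).mapIso eI ≪≫ e⟩⟩
  have hbd : IsIso (Q.map (Groth.Agent.RHomCx.bd I Cl)) := by
    refine Groth.Agent.RigidD.isIso_of_cover _ fun x => ?_
    obtain ⟨A, _, j, _, ω, hx, hω, ⟨e⟩⟩ := chart x
    obtain ⟨R⟩ := Groth.Agent.DualCx.nonempty_rep hω
    refine ⟨j.opensRange, hx, ?_⟩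
    have h0 : Groth.Agent.ProjForm.QisOn j.opensRange (Groth.Agent.RHomCx.bd I (Groth.Agent.RHomCx.O₀ X)) := by
      let s := (Groth.Agent.KFlat.resψ X).app I
      refine Groth.Agent.RHomCx.qisOn_bd_zero I (Groth.Agent.KFlat.isKFlat_resF I) s fun y W hy => ?_
      obtain ⟨B, iB, w, hw, M, h1, h2, ⟨e'⟩, h3⟩ := Groth.Agent.DualSch.rigidNear_restrict hK (𝟙 X) y W hy
      exact ⟨B, iB, w, hw, M, h1, h2, ⟨(Groth.Agent.DQCoh.RD w).mapIso (asIso (Q.map s) ≪≫ eI ≪≫
        ((Groth.Agent.PerfGen.rdId X).app K).symm) ≪≫ e'⟩, h3⟩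
    have hg := Groth.Agent.DualSch.Bi.goodAt_coh I hω R e h0 Cl hC
    haveI : QuasiIso ((DCoh.restrictCx j.opensRange).map (Groth.Agent.RHomCx.bd I Cl)) :=
      ⟨fun i => (quasiIsoAt_iff_isIso_homologyMap _ i).2 (hg i)⟩
    exact (NatIso.isIso_map_iff (Scheme.Modules.restrictFunctor j.opensRange.ι).mapDerivedCategoryFactors
      (Groth.Agent.RHomCx.bd I Cl)).2
      (inferInstanceAs (IsIso (DerivedCategory.Q.map ((DCoh.restrictCx j.opensRange).map (Groth.Agent.RHomCx.bd I Cl)))))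
  obtain ⟨eL⟩ := hR L
  haveI := Groth.Agent.RHomCx.quasiIso_gmap q I
  let g := (Groth.Agent.RHomCx.gmap q).app I
  let eLK : (DCoh.RSheafHom L).obj K ≅ Q.obj ((Groth.Agent.RHomCx.GE Cl).obj I) := eL ≪≫ asIso (Q.map g)
  refine ⟨fun i => ?_, fun M _ _ => fun ⟨eM⟩ => ?_⟩
  · refine Groth.Agent.K0Coh.isCoh_of_iso ((Groth.Agent.DualSch.Bi.hdQ _ i).symm ≪≫
      (DerivedCategory.homologyFunctor _ i).mapIso eLK.symm) ?_
    refine Groth.Agent.RHomCx.locClass_coh.isLocal (inferInstanceAs (IsLocallyNoetherian X)) fun x => ?_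
    obtain ⟨A, _, j, _, ω, hx, hω, ⟨e⟩⟩ := chart x
    obtain ⟨R⟩ := Groth.Agent.DualCx.nonempty_rep hω
    obtain ⟨d⟩ := Groth.Agent.DualSch.Bi.nonempty_rC_homology (j := j) ((Groth.Agent.RHomCx.GE Cl).obj I) i
    exact ⟨j.opensRange, hx, Groth.Agent.K0Coh.isCoh_of_iso d
      (Groth.Agent.DualSch.Bi.isCoh_GE_coh I hω R e Cl hC i)⟩
  · let G := (Groth.Agent.RHomCx.GE Cl).obj I
    obtain ⟨Φ⟩ := Groth.Agent.RHomCx.nonempty_LTensorCx_congr (A := M) (B := G) (eM ≪≫ eLK)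
    obtain ⟨eG⟩ := hR G
    exact ⟨(((DCoh.RSheafHomAdj M).ofNatIsoLeft Φ).rightAdjointUniq (DCoh.RSheafHomAdj G)).app K ≪≫ eG ≪≫
      (@asIso _ _ _ _ _ hbd).symm ≪≫ asIso (Q.map q)⟩

end Groth.Agent.S1823
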