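import Groth.Statements.S18234
import Groth.Agent.S18232

set_option autoImplicit false
set_option backward.isDefEq.respectTransparency false
universe u
open CategoryTheory MonoidalCategory CartesianMonoidalCategory AlgebraicGeometry Opposite
open Magnet

namespace Groth.Agent.S18234

/-- Let S be a scheme, M a finitely generated abelian group, N a submonoid of M, X and Y schemes over S
with actions of the diagonalizable group scheme D(M)_S, and f : X → Y a formally unramified
equivariant S-morphism. If the attractors X^N and Y^N are represented by S-schemes Z_X and Z_Y, and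
j : Z_X → Z_Y is the S-morphism that corresponds to f^N under the two representing bijections, then
j is formally unramified. (Stated for schemes; the published statement is for algebraic spaces over
S.) -/
theorem result (S : Scheme.{u}) (M : Type) [AddCommGroup M]
    [AddGroup.FG M] (N : AddSubmonoid M) {X Y : Over S} (aX : Magnet.MonAct (Magnet.AMonS S M) X)
    (aY : Magnet.MonAct (Magnet.AMonS S M) Y) (f : X ⟶ Y) (hf : Magnet.MonAct.IsEquivariant aX aY f)
    [FormallyUnramified f.left] {ZX ZY : Over S} (eX : (Magnet.attr aX N).RepresentableBy ZX) (eY : (Magnet.attr aY N).RepresentableBy ZY)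
    (j : ZX ⟶ ZY) (hj : ∀ (T : Over S) (z : T ⟶ ZX),
      eY.homEquiv (z ≫ j) = (Magnet.MonAct.eqvHom.postcomp (Magnet.subAct S M N) f hf).app (op T) (eX.homEquiv z)) :
    FormallyUnramified j.left := by
  refine FormallyUnramified.of_hom_ext _ fun R R' φ hφ hk g₁ g₂ h12 hcomp => ?_
  let I : Ideal R := RingHom.ker φ.hom
  let str : Spec (CommRingCat.of R) ⟶ S := g₁ ≫ ZX.hom
  have hstr : g₂ ≫ ZX.hom = str := by
    simp only [str]
    rw [← Over.w j, reassoc_of% hcomp]
  let z₁ : Over.mk str ⟶ ZX := Over.homMk g₁ rfl
  let z₂ : Over.mk str ⟶ ZX := Over.homMk g₂ hstr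
  let t : Over.mk (Spec.map (CommRingCat.ofHom (Ideal.Quotient.mk I)) ≫ str) ⟶ Over.mk str :=
    Over.homMk (Spec.map (CommRingCat.ofHom (Ideal.Quotient.mk I))) rfl
  have ht : t ≫ z₁ = t ≫ z₂ := by
    apply Over.OverMorphism.ext
    let e := RingHom.quotientKerEquivOfSurjective hφ
    have hfac : CommRingCat.ofHom (Ideal.Quotient.mk I) = φ ≫ CommRingCat.ofHom e.symm.toRingHom := by
      ext x
      exact (e.symm_apply_apply (Ideal.Quotient.mk I x)).symm
    show Spec.map _ ≫ g₁ = Spec.map _ ≫ g₂
    rw [hfac, Spec.map_comp, Category.assoc, Category.assoc, h12]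
  have hzj : z₁ ≫ j = z₂ ≫ j := Over.OverMorphism.ext hcomp
  have key := S18232.result S M N aX aY f hf R I hk str (eX.homEquiv z₁) (eX.homEquiv z₂)
    (by
      have := congrArg eX.homEquiv ht
      rwa [eX.homEquiv_comp, eX.homEquiv_comp] at this)
    (by rw [← hj, ← hj, hzj])
  exact congrArg CommaMorphism.left (eX.homEquiv.injective key)

end Groth.Agent.S18234
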