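import Groth.Statements.S18237
import Groth.Agent.MagnetAtlas.Range
import Groth.Agent.MagnetAtlas.Degrees

set_option autoImplicit false
universe u
open CategoryTheory MonoidalCategory CartesianMonoidalCategory AlgebraicGeometry Opposite
open Magnet

namespace Groth.Agent.S18237

/-- Let S be a quasi-compact scheme, M a finitely generated abelian group, X a scheme which is
quasi-compact, separated and locally of finite presentation over S with an action of the
diagonalizable group scheme D(M)_S, and N a submonoid of M with subgroup of invertible elements Z =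
N*. Assume X admits an S-affine N*-FPR atlas: an equivariant, étale and surjective g : U → X with U
affine over S such that, for the actions restricted along D(M/Z)_S → D(M)_S, the square of
fixed-point subfunctors U^{D(M/Z)} → X^{D(M/Z)} over U → X is cartesian. Then there is a finitely
generated submonoid N_c of N with the same invertible elements as N such that the canonical map of
attractors X^{N_c} → X^N is an isomorphism of functors. (Stated for schemes, the published statement
being for algebraic spaces. The published statement assumes only M finitely generated and X → S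
quasi-compact and separated; it fails without X locally of finite presentation over S or without S
quasi-compact, so this row assumes both, and it assumes an S-affine N*-FPR atlas, which the
published argument obtains from a general existence result.) -/
theorem result (S : Scheme.{u}) [CompactSpace S] (M : Type)
    [AddCommGroup M] [AddGroup.FG M] {X : Over S} [QuasiCompact X.hom] [IsSeparated X.hom]
    [LocallyOfFinitePresentation X.hom] (a : Magnet.MonAct (Magnet.AMonS S M) X) (N : AddSubmonoid M)
    (Z : AddSubgroup M) (hZ : ∀ m : M, m ∈ Z ↔ (m ∈ N ∧ -m ∈ N)) (U : Over S) [IsAffineHom U.hom]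
    (aU : Magnet.MonAct (Magnet.AMonS S M) U) (g : U ⟶ X) (hg : Magnet.MonAct.IsEquivariant aU a g)
    [Etale g.left] [Surjective g.left]
    (hgZ : Magnet.MonAct.IsEquivariant (aU.restrict (Magnet.AMonS.map S (QuotientAddGroup.mk' Z))) (a.restrict (Magnet.AMonS.map S (QuotientAddGroup.mk' Z))) g)
    (hfpr : IsPullback (Magnet.MonAct.fixedPsh.map g hgZ)
      (Magnet.MonAct.fixedPshι (aU.restrict (Magnet.AMonS.map S (QuotientAddGroup.mk' Z))))
      (Magnet.MonAct.fixedPshι (a.restrict (Magnet.AMonS.map S (QuotientAddGroup.mk' Z)))) (yoneda.map g)) :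
    ∃ (Nc : AddSubmonoid M) (h : Nc ≤ N), Nc.FG ∧ (∀ m : M, (m ∈ Nc ∧ -m ∈ Nc) ↔ (m ∈ N ∧ -m ∈ N)) ∧
      IsIso (Magnet.attrMap a h) := by
  classical
  haveI : LocallyOfFiniteType U.hom := by rw [← Over.w g]; infer_instance
  obtain ⟨D, hD, hDeg⟩ := MagnetAttrRep.exists_degrees aU
  have hM : Module.Finite ℤ M := Module.Finite.iff_addGroup_fg.2 ‹AddGroup.FG M›
  obtain ⟨s, hs⟩ : Z.toAddSubmonoid.FG := by
    rw [← AddSubgroup.fg_iff_addSubmonoid_fg]
    exact (Submodule.fg_iff_addSubgroup_fg (AddSubgroup.toIntSubmodule Z)).1 (IsNoetherian.noetherian _)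
  let Nc : AddSubmonoid M := AddSubmonoid.closure ((D ∩ N) ∪ (s : Set M))
  have hsN : (s : Set M) ⊆ N := fun x hx => ((hZ x).1 (show x ∈ Z.toAddSubmonoid from hs ▸ AddSubmonoid.subset_closure hx)).1
  have h : Nc ≤ N := AddSubmonoid.closure_le.2 (Set.union_subset Set.inter_subset_right hsN)
  have hZc : ∀ m : M, m ∈ Z → m ∈ Nc := fun m hm =>
    AddSubmonoid.closure_mono Set.subset_union_right (show m ∈ AddSubmonoid.closure (s : Set M) by rw [hs]; exact hm)
  refine ⟨Nc, h, (AddSubmonoid.fg_iff _).2 ⟨_, rfl, (hD.inter_of_left _).union s.finite_toSet⟩,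
    fun m => ⟨fun hm => ⟨h hm.1, h hm.2⟩, fun hm => ⟨hZc m ((hZ m).2 hm), hZc (-m) (Z.neg_mem ((hZ m).2 hm))⟩⟩, ?_⟩
  have hZN : MagnetAtlas.unitGroup N = Z := by
    ext m
    refine ⟨fun ⟨hm, y, hy, hmy⟩ => (hZ m).2 ⟨hm, ?_⟩, fun hm => ⟨((hZ m).1 hm).1, -m, ((hZ m).1 hm).2, add_neg_cancel m⟩⟩
    rwa [neg_eq_of_add_eq_zero_right hmy]
  subst hZN
  rw [NatTrans.isIso_iff_isIso_app]
  intro T
  induction T using Opposite.rec with | op T => ?_
  rw [isIso_iff_bijective]
  refine ⟨fun φ φ' e => MagnetAttr.attrToX_injective a Nc T ?_, fun φ => ?_⟩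
  · exact (MagnetAttrRep.attrToX_attrMap a h T φ).symm.trans
      ((congrArg (fun ψ => (Magnet.attrToX a N).app (op T) ψ) e).trans (MagnetAttrRep.attrToX_attrMap a h T φ'))
  · obtain ⟨ψ, hψ⟩ := MagnetAtlas.range_subset hg N Nc hgZ hfpr
      (hDeg N Nc fun x hx => AddSubmonoid.subset_closure (Or.inl hx)) T ⟨φ, rfl⟩
    exact ⟨ψ, MagnetAttr.attrToX_injective a N T ((MagnetAttrRep.attrToX_attrMap a h T ψ).trans hψ)⟩

end Groth.Agent.S18237
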