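import Groth.Statements.S18238
import Mathlib.RingTheory.MvPolynomial.Ideal
import Mathlib.LinearAlgebra.SymmetricAlgebra.Basis
import Mathlib.RingTheory.TensorProduct.MonoidAlgebra
import Mathlib.RingTheory.Smooth.Basic


set_option autoImplicit false
universe u
set_option backward.isDefEq.respectTransparency false
open DiagMon

namespace Groth.Agent.S18238

open MvPolynomial TensorProduct

/-- minimal generators: surjective, sharp, and the generators have no other expression -/
theorem exists_presentation (N : Type) [AddCommMonoid N] [AddMonoid.FG N] [IsCancelAdd N]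
    (hsharp : ∀ n : N, IsAddUnit n → n = 0) :
    ∃ (r : ℕ) (Φ : (Fin r →₀ ℕ) →+ N), Function.Surjective Φ ∧ (∀ ν, Φ ν = 0 → ν = 0) ∧
      ∀ i ν, Φ ν = Φ (Finsupp.single i 1) → ν = Finsupp.single i 1 := by
  classical
  have hex : ∃ r, ∃ g : Fin r → N, AddSubmonoid.closure (Set.range g) = ⊤ := by
    obtain ⟨S, hS⟩ := (AddMonoid.fg_def.1 (inferInstance : AddMonoid.FG N))
    exact ⟨S.card, fun i => (S.equivFin.symm i).1, by
      rw [show Set.range (fun i => (S.equivFin.symm i).1) = (S : Set N) by
        ext x; exact ⟨fun ⟨i, hi⟩ => hi ▸ (S.equivFin.symm i).2, fun hx => ⟨S.equivFin ⟨x, hx⟩, by simp⟩⟩, hS]⟩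
  obtain ⟨r, ⟨g, hg⟩, hmin0⟩ : ∃ r, (∃ g : Fin r → N, AddSubmonoid.closure (Set.range g) = ⊤) ∧
      ∀ k < r, ¬ ∃ g : Fin k → N, AddSubmonoid.closure (Set.range g) = ⊤ :=
    ⟨Nat.find hex, Nat.find_spec hex, fun k hk => Nat.find_min hex hk⟩
  let Φ : (Fin r →₀ ℕ) →+ N := Finsupp.liftAddHom fun i => multiplesHom N (g i)
  have hΦ1 : ∀ i, Φ (Finsupp.single i 1) = g i := fun i => by simp [Φ]
  have hsurj : Function.Surjective Φ := by
    rw [← AddMonoidHom.mrange_eq_top, ← top_le_iff, ← hg, AddSubmonoid.closure_le]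
    rintro _ ⟨i, rfl⟩
    exact ⟨_, hΦ1 i⟩
  have hmin : ∀ (k : ℕ), k < r → ∀ g' : Fin k → N, AddSubmonoid.closure (Set.range g') ≠ ⊤ :=
    fun k hk g' h => hmin0 k hk ⟨g', h⟩
  -- no generator lies in the submonoid spanned by the others
  have hno : ∀ i ν, ν i = 0 → Φ ν ≠ g i := by
    intro i ν hν h
    obtain ⟨k, hk⟩ : ∃ k, r = k + 1 := ⟨r - 1, by have := i.2; omega⟩
    let g' : Fin k → N := fun j => g (Fin.cast hk.symm ((Fin.cast hk i).succAbove j))
    refine hmin k (by omega) g' (top_le_iff.1 ?_)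
    rw [← hg, AddSubmonoid.closure_le]
    have hj : ∀ j, j ≠ i → g j ∈ AddSubmonoid.closure (Set.range g') := fun j hj => by
      obtain ⟨j', hj'⟩ := Fin.exists_succAbove_eq (y := Fin.cast hk i) (x := Fin.cast hk j) (fun e => hj (Fin.cast_injective _ e))
      exact AddSubmonoid.subset_closure ⟨j', by simp [g', hj']⟩
    rintro _ ⟨j, rfl⟩
    by_cases hji : j = i
    · subst hji
      rw [← h, show Φ ν = ν.sum (fun l c => c • g l) by rw [Finsupp.liftAddHom_apply]; rfl]
      refine AddSubmonoid.sum_mem _ fun l hl => ?_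
      exact AddSubmonoid.nsmul_mem _ (hj l fun e => (Finsupp.mem_support_iff.1 hl) (e ▸ hν)) _
    · exact hj j hji
  have hne : ∀ i, g i ≠ 0 := fun i hi => hno i 0 rfl (by rw [map_zero, hi])
  have hz : ∀ ν, Φ ν = 0 → ν = 0 := by
    intro ν hν
    ext l
    by_contra hl
    have hle : Finsupp.single l 1 ≤ ν := Finsupp.single_le_iff.2 (Nat.pos_of_ne_zero hl)
    rw [← add_tsub_cancel_of_le hle, map_add, hΦ1] at hν
    exact hne l (hsharp _ ⟨⟨g l, _, hν, by rw [add_comm]; exact hν⟩, rfl⟩)
  refine ⟨r, Φ, hsurj, hz, fun i ν h => ?_⟩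
  by_cases hi : ν i = 0
  · exact absurd (h.trans (hΦ1 i)) (hno i ν hi)
  · have hle : Finsupp.single i 1 ≤ ν := Finsupp.single_le_iff.2 (Nat.pos_of_ne_zero hi)
    have h1 := h
    rw [← add_tsub_cancel_of_le hle, map_add, add_eq_left] at h1
    rw [← add_tsub_cancel_of_le hle, hz _ h1, add_zero]

theorem sub_mem_pow {σ : Type} {k : Type u} [CommRing k] (θ : MvPolynomial σ k →ₐ[k] MvPolynomial σ k)
    (h : ∀ i, θ (X i) - X i ∈ idealOfVars σ k ^ 2) :
    ∀ (j : ℕ) (p : MvPolynomial σ k), p ∈ idealOfVars σ k ^ j → θ p - p ∈ idealOfVars σ k ^ (j + 1) := by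
  set I := idealOfVars σ k
  have hX : ∀ i, (X i : MvPolynomial σ k) ∈ I := fun i => by
    rw [← pow_one I, mem_pow_idealOfVars_iff']
    intro x hx
    classical
    rw [coeff_X', if_neg]
    rintro rfl
    simp at hx
  have h0 : ∀ p : MvPolynomial σ k, θ p - p ∈ I := by
    intro p
    induction p using MvPolynomial.induction_on with
    | C a => rw [← MvPolynomial.algebraMap_eq, AlgHom.commutes, sub_self]; exact zero_mem _
    | add p q hp hq => rw [map_add, add_sub_add_comm]; exact add_mem hp hq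
    | mul_X p i hp =>
      rw [map_mul, show θ p * θ (X i) - p * X i = (θ p - p) * θ (X i) + p * (θ (X i) - X i) by ring]
      exact add_mem (Ideal.mul_mem_right _ _ hp) (Ideal.mul_mem_left _ _ (Ideal.pow_le_self two_ne_zero (h i)))
  have hI : ∀ a ∈ I, θ a - a ∈ I ^ 2 := by
    intro a ha
    induction ha using Submodule.span_induction with
    | mem x hx => obtain ⟨i, rfl⟩ := hx; exact h i
    | zero => simp
    | add x y _ _ hx hy => rw [map_add, add_sub_add_comm]; exact add_mem hx hy
    | smul c x hxI hx =>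
      rw [smul_eq_mul, map_mul, show θ c * θ x - c * x = θ c * (θ x - x) + (θ c - c) * x by ring, sq]
      exact add_mem (Ideal.mul_mem_left _ _ (sq I ▸ hx)) (Ideal.mul_mem_mul (h0 c) hxI)
  intro j
  induction j with
  | zero => intro p _; simpa using h0 p
  | succ j ih =>
    intro p hp
    rw [pow_succ'] at hp
    refine Submodule.mul_induction_on hp (fun a ha b hb => ?_) (fun x y hx hy => by
      rw [map_add, add_sub_add_comm]; exact add_mem hx hy)
    have hb' : θ b ∈ I ^ j := by
      rw [← sub_add_cancel (θ b) b]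
      exact add_mem (Ideal.pow_le_pow_right (Nat.le_succ j) (ih b hb)) hb
    rw [map_mul, show θ a * θ b - a * b = (θ a - a) * θ b + a * (θ b - b) by ring]
    refine add_mem ?_ ?_
    · rw [show j + 1 + 1 = 2 + j by omega, pow_add]; exact Ideal.mul_mem_mul (hI a ha) hb'
    · rw [pow_succ' I (j + 1)]; exact Ideal.mul_mem_mul ha (ih b hb)

theorem mapDomain_surjective' {R : Type*} [CommRing R] {M N : Type*} {f : M → N} (hf : Function.Surjective f) :
    Function.Surjective (AddMonoidAlgebra.mapDomain (R := R) f) := fun y => by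
  obtain ⟨c, hc⟩ := Finsupp.mapDomain_surjective hf (AddMonoidAlgebra.coeff y)
  exact ⟨AddMonoidAlgebra.ofCoeff c, congrArg AddMonoidAlgebra.ofCoeff hc⟩

theorem injective_of_field (k : Type u) [Field k] (N : Type) [AddCommMonoid N] (r : ℕ)
    (Φ : (Fin r →₀ ℕ) →+ N) (hΦ : Function.Surjective Φ ∧ (∀ ν, Φ ν = 0 → ν = 0) ∧
      ∀ i ν, Φ ν = Φ (Finsupp.single i 1) → ν = Finsupp.single i 1)
    [Algebra.FormallySmooth k (AddMonoidAlgebra k N)] : Function.Injective Φ := by
  classical
  let π : MvPolynomial (Fin r) k →ₐ[k] AddMonoidAlgebra k N := AddMonoidAlgebra.mapDomainAlgHom k k Φ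
  have hπs : Function.Surjective π := mapDomain_surjective' hΦ.1
  let I := idealOfVars (Fin r) k
  have hker : RingHom.ker π ≤ I ^ 2 := by
    intro p hp
    rw [mem_pow_idealOfVars_iff']
    intro x hx
    have hu : ∀ ν, Φ ν = Φ x → ν = x := by
      rcases Nat.eq_zero_or_pos x.degree with h | h
      · rw [Finsupp.degree_eq_zero_iff] at h
        subst h
        intro ν hν
        exact hΦ.2.1 ν (by simpa using hν)
      · have h1 : x.degree = 1 := by omega
        obtain ⟨i, rfl⟩ := Finsupp.range_single_one ▸ (show x ∈ {d : Fin r →₀ ℕ | d.degree = 1} from h1)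
        exact hΦ.2.2 i
    have h0 : AddMonoidAlgebra.coeff (π p) (Φ x) = p.coeff x := by
      change Finsupp.mapDomain Φ (AddMonoidAlgebra.coeff p) (Φ x) = _
      rw [Finsupp.mapDomain, Finsupp.sum_apply, Finsupp.sum, Finset.sum_eq_single x]
      · simp [MvPolynomial.coeff]
      · intro ν _ hν
        rw [Finsupp.single_apply, if_neg (fun e => hν (hu ν e))]
      · intro hx'
        simp [Finsupp.notMem_support_iff.1 hx']
    rw [RingHom.mem_ker] at hp
    rw [← h0, hp]
    rfl
  -- the kernel lies in every power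
  have hall : ∀ p ∈ RingHom.ker π, ∀ m, p ∈ I ^ m := by
    intro p hp m
    let Q := MvPolynomial (Fin r) k ⧸ I ^ m
    let T := (RingHom.ker π).map (Ideal.Quotient.mk (I ^ m))
    have hTnil : IsNilpotent T := ⟨m, by
      refine le_bot_iff.1 ?_
      rw [← Ideal.map_pow]
      exact (Ideal.map_mono ((Ideal.pow_right_mono (hker.trans (Ideal.pow_le_self two_ne_zero)) m))).trans
        (le_of_eq (Ideal.map_quotient_self _))⟩
    let q : MvPolynomial (Fin r) k →ₐ[k] Q ⧸ T := (Ideal.Quotient.mkₐ k T).comp (Ideal.Quotient.mkₐ k (I ^ m))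
    let π' := AlgHom.liftOfSurjective (C := Q ⧸ T) π hπs q (fun a ha =>
      RingHom.mem_ker.2 (show q a = 0 from Ideal.Quotient.eq_zero_iff_mem.2 (Ideal.mem_map_of_mem _ ha)))
    let s : AddMonoidAlgebra k N →ₐ[k] Q := Algebra.FormallySmooth.lift T hTnil π'
    have hs : ∀ a, Ideal.Quotient.mk T (s a) = π' a := fun a =>
      AlgHom.congr_fun (Algebra.FormallySmooth.comp_lift T hTnil π') a
    have hz : ∀ i, ∃ z ∈ I ^ 2, s (π (X i)) = Ideal.Quotient.mk (I ^ m) (X i + z) := by
      intro i
      have h1 : π' (π (X i)) = q (X i) := AlgHom.liftOfSurjective_apply ..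
      rw [← hs] at h1
      have h2 : s (π (X i)) - Ideal.Quotient.mk (I ^ m) (X i) ∈ T := Ideal.Quotient.eq.1 h1
      obtain ⟨z, hz, hz'⟩ := (Ideal.mem_map_iff_of_surjective _ Ideal.Quotient.mk_surjective).1 h2
      exact ⟨z, hker hz, by rw [map_add, hz']; ring⟩
    choose z hz hzs using hz
    let θ : MvPolynomial (Fin r) k →ₐ[k] MvPolynomial (Fin r) k := aeval fun i => X i + z i
    have hθ : ∀ i, θ (X i) - X i ∈ I ^ 2 := fun i => by simpa [θ] using hz i
    have hcomp : (Ideal.Quotient.mkₐ k (I ^ m)).comp θ = s.comp π :=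
      MvPolynomial.algHom_ext fun i => by
        rw [AlgHom.comp_apply, AlgHom.comp_apply, hzs]; simp [θ]
    have hθp : θ p ∈ I ^ m := by
      have := AlgHom.congr_fun hcomp p
      rw [AlgHom.comp_apply, AlgHom.comp_apply, RingHom.mem_ker.1 hp, map_zero] at this
      exact Ideal.Quotient.eq_zero_iff_mem.1 this
    suffices H : ∀ j ≤ m, p ∈ I ^ j from H m le_rfl
    intro j
    induction j with
    | zero => intro _; simp
    | succ j ih =>
      intro hj
      rw [show p = θ p - (θ p - p) by ring]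
      exact sub_mem (Ideal.pow_le_pow_right hj hθp) (sub_mem_pow θ hθ j p (ih (by omega)))
  intro a b hab
  by_contra hne
  let p : MvPolynomial (Fin r) k := monomial a 1 - monomial b 1
  have hp : p ∈ RingHom.ker π := by
    rw [RingHom.mem_ker]
    simp only [p, map_sub, π]
    rw [← MvPolynomial.single_eq_monomial, ← MvPolynomial.single_eq_monomial]
    change AddMonoidAlgebra.mapDomain Φ (AddMonoidAlgebra.single a (1 : k)) -
      AddMonoidAlgebra.mapDomain Φ (AddMonoidAlgebra.single b (1 : k)) = 0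
    rw [AddMonoidAlgebra.mapDomain_single, AddMonoidAlgebra.mapDomain_single]
    rw [hab, sub_self]
  have h1 := (mem_pow_idealOfVars_iff' _ _).1 (hall p hp (a.degree + 1)) a (Nat.lt_succ_self _)
  simp [p, coeff_monomial, Ne.symm hne] at h1

theorem injective_of_smooth (R : Type u) [CommRing R] [Nontrivial R] (N : Type) [AddCommMonoid N] (r : ℕ)
    (Φ : (Fin r →₀ ℕ) →+ N) (hΦ : Function.Surjective Φ ∧ (∀ ν, Φ ν = 0 → ν = 0) ∧
      ∀ i ν, Φ ν = Φ (Finsupp.single i 1) → ν = Finsupp.single i 1)
    [Algebra.Smooth R (AddMonoidAlgebra R N)] : Function.Injective Φ := by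
  obtain ⟨m, hm⟩ := Ideal.exists_maximal R
  haveI := hm
  letI : Field (R ⧸ m) := Ideal.Quotient.field m
  haveI : Algebra.FormallySmooth R (AddMonoidAlgebra R N) := Algebra.Smooth.formallySmooth
  haveI : Algebra.FormallySmooth (R ⧸ m) (AddMonoidAlgebra (R ⧸ m) N) :=
    Algebra.FormallySmooth.of_equiv (AddMonoidAlgebra.scalarTensorEquiv R (R ⧸ m) (M := N))
  exact injective_of_field (R ⧸ m) N r Φ hΦ

/-- Let R be a commutative ring and N a fine and sharp commutative monoid (finitely generated,
cancellative, and 0 its only invertible element). If the diagonalizable monoid scheme A(N)_R = Spec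
R[N] is smooth over Spec R, then it is a vector bundle over Spec R: the monoid algebra R[N] is
isomorphic as an R-algebra to the symmetric algebra of a finitely generated projective R-module
(existence of such a module and isomorphism). (Affine base; the published statement is over an
arbitrary base scheme S.) -/
theorem result (R : Type u) [CommRing R] (N : Type)
    [AddCommMonoid N] [AddMonoid.FG N] [IsCancelAdd N] (hsharp : ∀ n : N, IsAddUnit n → n = 0)
    [Algebra.Smooth R (AddMonoidAlgebra R N)] :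
    ∃ (P : Type u) (_ : AddCommGroup P) (_ : Module R P), Module.Finite R P ∧ Module.Projective R P ∧
      Nonempty (AddMonoidAlgebra R N ≃ₐ[R] SymmetricAlgebra R P) := by
  obtain ⟨r, Φ, hΦ⟩ := Groth.Agent.S18238.exists_presentation N hsharp
  by_cases hR : Nontrivial R
  · have hbij := Groth.Agent.S18238.injective_of_smooth R N r Φ hΦ
    refine ⟨Fin r → R, inferInstance, inferInstance, inferInstance, inferInstance, ⟨?_⟩⟩
    let e : AddMonoidAlgebra R N ≃ₐ[R] MvPolynomial (Fin r) R :=
      (AlgEquiv.ofBijective (AddMonoidAlgebra.mapDomainAlgHom R R Φ)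
        ⟨fun x y hxy => AddMonoidAlgebra.mapDomain_injective hbij hxy,
         fun x => Groth.Agent.S18238.mapDomain_surjective' hΦ.1 x⟩).symm
    exact e.trans (SymmetricAlgebra.equivMvPolynomial (Pi.basisFun R (Fin r))).symm
  · rw [not_nontrivial_iff_subsingleton] at hR
    refine ⟨Fin r → R, inferInstance, inferInstance, inferInstance, inferInstance, ⟨?_⟩⟩
    haveI : Subsingleton (AddMonoidAlgebra R N) := Module.subsingleton R _
    haveI : Subsingleton (SymmetricAlgebra R (Fin r → R)) := Module.subsingleton R _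
    exact (AlgEquiv.ofBijective (SymmetricAlgebra.lift (0 : (Fin r → R) →ₗ[R] AddMonoidAlgebra R N))
      ⟨fun _ _ _ => Subsingleton.elim _ _, fun _ => ⟨0, Subsingleton.elim _ _⟩⟩).symm

end Groth.Agent.S18238
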