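import Groth.Statements.S18248
import Mathlib

set_option autoImplicit false
universe u
open W4c5m1nsnscurves
open Curves

set_option maxHeartbeats 1000000
set_option backward.isDefEq.respectTransparency false
namespace Groth.Agent.S18248

section
open MvPolynomial W4c5m1nsnscurves

/-- the weight-one indices -/
private abbrev W1 (m : ℕ) : Type := Option ((Fin m ⊕ Fin m) ⊕ {q : Fin m × Fin m // q.1 < q.2})

private def w1g {m : ℕ} : W1 m → UGen m
  | none => .a
  | some (Sum.inl (Sum.inl i)) => .ci i
  | some (Sum.inl (Sum.inr i)) => .cbi i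
  | some (Sum.inr q) => .cij q.1.1 q.1.2 (ne_of_lt q.2)

private lemma rel0 {k : Type u} [CommRing k] {m : ℕ} {r : MvPolynomial (UGen m) k} (h : r ∈ URel k m) :
    Ideal.Quotient.mk (Ideal.span (URel k m)) r = 0 :=
  Ideal.Quotient.eq_zero_iff_mem.2 (Ideal.subset_span h)

private lemma lin {k : Type u} [CommRing k] {m : ℕ} (i j : Fin m) (h : i ≠ j) :
    ugen k m (.cij i j h) = ugen k m .a + ugen k m (.ci i) + ugen k m (.cbi i) + ugen k m (.ci j) + ugen k m (.cbi j)
      - ugen k m (.cij j i h.symm) := by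
  have h1 := rel0 (k := k) (Or.inl (Or.inl (Or.inl ⟨⟨(i, j), h⟩, rfl⟩)))
  simp only [map_sub, map_add] at h1
  simp only [ugen]
  linear_combination h1

theorem adjoin_top (m : ℕ) (hm : 2 ≤ m) :
    Algebra.adjoin ℤ ({ugen ℤ m .a} ∪ Set.range (fun i : Fin m => ugen ℤ m (.ci i)) ∪
        Set.range (fun i : Fin m => ugen ℤ m (.cbi i)) ∪
        Set.range (fun q : {q : Fin m × Fin m // q.1 < q.2} => ugen ℤ m (.cij q.1.1 q.1.2 (ne_of_lt q.2)))) = ⊤ := by
  set A := Algebra.adjoin ℤ ({ugen ℤ m .a} ∪ Set.range (fun i : Fin m => ugen ℤ m (.ci i)) ∪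
        Set.range (fun i : Fin m => ugen ℤ m (.cbi i)) ∪
        Set.range (fun q : {q : Fin m × Fin m // q.1 < q.2} => ugen ℤ m (.cij q.1.1 q.1.2 (ne_of_lt q.2)))) with hA
  have ha : ugen ℤ m .a ∈ A := Algebra.subset_adjoin (Or.inl (Or.inl (Or.inl rfl)))
  have hci : ∀ i, ugen ℤ m (.ci i) ∈ A := fun i => Algebra.subset_adjoin (Or.inl (Or.inl (Or.inr ⟨i, rfl⟩)))
  have hcbi : ∀ i, ugen ℤ m (.cbi i) ∈ A := fun i => Algebra.subset_adjoin (Or.inl (Or.inr ⟨i, rfl⟩))
  have hlt : ∀ i j (h : i < j), ugen ℤ m (.cij i j (ne_of_lt h)) ∈ A := fun i j h =>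
    Algebra.subset_adjoin (Or.inr ⟨⟨(i, j), h⟩, rfl⟩)
  have hij : ∀ i j (h : i ≠ j), ugen ℤ m (.cij i j h) ∈ A := by
    intro i j h
    rcases lt_or_gt_of_ne h with h' | h'
    · exact hlt i j h'
    · rw [lin i j h]
      exact sub_mem (add_mem (add_mem (add_mem (add_mem ha (hci i)) (hcbi i)) (hci j)) (hcbi j)) (hlt j i h')
  let i0 : Fin m := ⟨0, by omega⟩
  let i1 : Fin m := ⟨1, by omega⟩
  have h01 : i0 ≠ i1 := by simp [i0, i1, Fin.ext_iff]
  have h2 := rel0 (k := ℤ) (Or.inl (Or.inl (Or.inr ⟨⟨(i0, i1), h01⟩, rfl⟩)))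
  have h3 := rel0 (k := ℤ) (Or.inl (Or.inr ⟨⟨(i0, i1), h01⟩, rfl⟩))
  simp only [map_sub, map_add, map_mul, sub_eq_zero] at h2 h3
  refine top_unique fun x _ => ?_
  obtain ⟨p, rfl⟩ := Ideal.Quotient.mk_surjective x
  induction p using MvPolynomial.induction_on with
  | C z => rw [eq_intCast C z, map_intCast]; exact intCast_mem A z
  | add p q hp hq => rw [map_add]; exact add_mem (hp trivial) (hq trivial)
  | mul_X p g hp =>
    rw [map_mul]
    refine mul_mem (hp trivial) ?_
    show ugen ℤ m g ∈ A
    cases g with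
    | a => exact ha
    | ci i => exact hci i
    | cbi i => exact hcbi i
    | cij i j h => exact hij i j h
    | c =>
      rw [show ugen ℤ m .c = _ from h2.symm]
      exact sub_mem (add_mem (mul_mem (hij _ _ _) (hci _)) (mul_mem (hij _ _ _) (hci _))) (mul_mem (hci _) (hci _))
    | cb =>
      rw [show ugen ℤ m .cb = _ from h3.symm]
      exact sub_mem (add_mem (mul_mem (hij _ _ _) (hcbi _)) (mul_mem (hij _ _ _) (hcbi _))) (mul_mem (hcbi _) (hcbi _))

private lemma card_lt : ∀ m : ℕ, Fintype.card {q : Fin m × Fin m // q.1 < q.2} = m.choose 2 := by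
  intro m
  rw [Fintype.card_subtype, Nat.choose_two_right]
  have h1 : (Finset.univ.filter fun q : Fin m × Fin m => q.1 < q.2).card
      = (Finset.univ.filter fun q : Fin m × Fin m => q.2 < q.1).card :=
    Finset.card_bij (fun q _ => q.swap) (fun q hq => by simpa using hq) (fun _ _ _ _ h => Prod.swap_inj.1 h)
      (fun q hq => ⟨q.swap, by simpa using hq, Prod.swap_swap q⟩)
  have h2 := Finset.card_filter_add_card_filter_not (s := (Finset.univ : Finset (Fin m × Fin m))) (fun q => q.1 = q.2)
  have h3 : (Finset.univ.filter fun q : Fin m × Fin m => ¬ q.1 = q.2)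
      = (Finset.univ.filter fun q : Fin m × Fin m => q.1 < q.2) ∪ (Finset.univ.filter fun q => q.2 < q.1) := by
    ext q
    simp
  have h4 : (Finset.univ.filter fun q : Fin m × Fin m => q.1 = q.2).card = m := by
    refine (Finset.card_bij (fun q _ => q.1) (fun q _ => Finset.mem_univ _) ?_ (fun a _ => ⟨(a, a), by simp, rfl⟩)).trans
      (Finset.card_fin m)
    intro a ha b hb h
    simp only [Finset.mem_filter, Finset.mem_univ, true_and] at ha hb
    exact Prod.ext h (ha ▸ hb ▸ h)
  rw [h3, Finset.card_union_of_disjoint (Finset.disjoint_filter.2 fun q _ h h' => lt_asymm h h'), h4, ← h1,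
    Finset.card_univ, Fintype.card_prod, Fintype.card_fin] at h2
  rw [Nat.mul_sub, mul_one, ← h2]
  omega

theorem cotangent_dim (k : Type u) [Field k] (m : ℕ) (hm : 2 ≤ m) :
    Module.finrank k (uorigin k m).Cotangent = (m + 2) * (m + 1) / 2 := by
  classical
  let D : W1 m → TrivSqZeroExt k (W1 m → k) := fun w => TrivSqZeroExt.inr (Pi.single w 1)
  let v : UGen m → TrivSqZeroExt k (W1 m → k) := fun g => match g with
    | .a => D none
    | .ci i => D (some (Sum.inl (Sum.inl i)))
    | .cbi i => D (some (Sum.inl (Sum.inr i)))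
    | .cij i j h => if h' : i < j then D (some (Sum.inr ⟨(i, j), h'⟩)) else
        D none + D (some (Sum.inl (Sum.inl i))) + D (some (Sum.inl (Sum.inr i))) + D (some (Sum.inl (Sum.inl j)))
          + D (some (Sum.inl (Sum.inr j))) - D (some (Sum.inr ⟨(j, i), lt_of_le_of_ne (not_lt.1 h') h.symm⟩))
    | _ => 0
  have hv0 : ∀ g, (v g).fst = 0 := by
    intro g
    cases g <;> simp [v, D]
    split_ifs <;> simp [D]
  have hmul : ∀ g g', v g * v g' = 0 := fun g g' => by
    refine TrivSqZeroExt.ext ?_ ?_
    · simp [hv0]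
    · simp [hv0]
  let ψ : URing k m →ₐ[k] TrivSqZeroExt k (W1 m → k) := Ideal.Quotient.liftₐ _ (aeval v) (fun p hp => by
    refine RingHom.mem_ker.1 ((Ideal.span_le.2 ?_ : Ideal.span (URel k m) ≤ RingHom.ker (aeval v).toRingHom) hp)
    intro r hr
    simp only [SetLike.mem_coe, RingHom.mem_ker]
    show aeval v r = 0
    rcases hr with ((hr | hr) | hr) | hr <;> obtain ⟨⟨q, hq⟩, rfl⟩ := hr
    · simp only [map_sub, map_add, aeval_X]
      obtain ⟨i, j⟩ := q
      rcases lt_or_gt_of_ne hq with h | h
      · simp only [v, dif_pos h, dif_neg (lt_asymm h)]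
        abel
      · simp only [v, dif_pos h, dif_neg (lt_asymm h)]
        abel
    · simp only [map_sub, map_add, map_mul, aeval_X, hmul]
      simp [v]
    · simp only [map_sub, map_add, map_mul, aeval_X, hmul]
      simp [v]
    · simp only [map_sub, map_add, map_mul, aeval_X, add_mul, hmul]
      simp [v])
  have hψ : ∀ g, ψ (ugen k m g) = v g := fun g => aeval_X _ g
  have hfst : ∀ x ∈ uorigin k m, (ψ x).fst = 0 := fun x hx => by
    induction hx using Submodule.span_induction with
    | mem x hx =>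
      obtain ⟨g, rfl⟩ := hx
      rw [hψ, hv0]
    | zero => simp
    | add a b _ _ ha hb => simp [ha, hb]
    | smul c a _ ha => simp [ha]
  let e : W1 m → (uorigin k m).Cotangent := fun w =>
    (uorigin k m).toCotangent ⟨ugen k m (w1g w), Ideal.subset_span ⟨_, rfl⟩⟩
  have hli : LinearIndependent k e := by
    rw [Fintype.linearIndependent_iff]
    intro c hc w
    let x : ↥(uorigin k m) := ∑ w, algebraMap k (URing k m) (c w) •
      (⟨ugen k m (w1g w), Ideal.subset_span ⟨_, rfl⟩⟩ : ↥(uorigin k m))
    have hx : (uorigin k m).toCotangent x = 0 := by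
      refine Eq.trans ?_ hc
      simp only [x, e, map_sum, map_smul]
      exact Finset.sum_congr rfl fun _ _ => IsScalarTower.algebraMap_smul (URing k m) (M := (uorigin k m).Cotangent) _ _
    rw [Ideal.toCotangent_eq_zero, pow_two] at hx
    have h0 : (ψ (x : URing k m)).snd = 0 := by
      generalize (x : URing k m) = y at hx
      induction hx using Submodule.mul_induction_on' with
      | mem_mul_mem a ha b hb => simp [hfst a ha, hfst b hb]
      | add a _ b _ ha hb => simp [ha, hb]
    have h1 : (ψ (x : URing k m)).snd = c := by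
      have hvw : ∀ w : W1 m, v (w1g w) = D w := by
        intro w
        rcases w with _ | ((i | i) | ⟨q, hq⟩)
        · rfl
        · rfl
        · rfl
        · exact dif_pos hq
      simp only [x, AddSubmonoidClass.coe_finset_sum, SetLike.val_smul, smul_eq_mul, map_sum, map_mul,
        AlgHom.commutes, hψ, hvw, TrivSqZeroExt.algebraMap_eq_inl, D, TrivSqZeroExt.inl_mul_inr,
        TrivSqZeroExt.snd_sum, TrivSqZeroExt.snd_inr]
      exact (pi_eq_sum_univ' c).symm
    exact congrFun (h1.symm.trans h0) w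
  have hsp : ⊤ ≤ Submodule.span k (Set.range e) := by
    set N := Submodule.span k (Set.range e)
    let i0 : Fin m := ⟨0, by omega⟩
    let i1 : Fin m := ⟨1, by omega⟩
    have h01 : i0 ≠ i1 := by simp [i0, i1, Fin.ext_iff]
    have hI : ∀ g, ugen k m g ∈ uorigin k m := fun g => Ideal.subset_span ⟨g, rfl⟩
    have hsq : ∀ g g', ugen k m g * ugen k m g' ∈ (uorigin k m) ^ 2 := fun g g' => by
      rw [pow_two]; exact Ideal.mul_mem_mul (hI g) (hI g')
    have hgen : ∀ g, (uorigin k m).toCotangent ⟨ugen k m g, hI g⟩ ∈ N := by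
      have he : ∀ w, (uorigin k m).toCotangent ⟨ugen k m (w1g w), hI _⟩ ∈ N := fun w => Submodule.subset_span ⟨w, rfl⟩
      intro g
      cases g with
      | a => exact he none
      | ci i => exact he (some (Sum.inl (Sum.inl i)))
      | cbi i => exact he (some (Sum.inl (Sum.inr i)))
      | cij i j h =>
        rcases lt_or_gt_of_ne h with h' | h'
        · exact he (some (Sum.inr ⟨(i, j), h'⟩))
        · have : (⟨ugen k m (.cij i j h), hI _⟩ : ↥(uorigin k m)) = ⟨ugen k m .a, hI _⟩ + ⟨ugen k m (.ci i), hI _⟩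
              + ⟨ugen k m (.cbi i), hI _⟩ + ⟨ugen k m (.ci j), hI _⟩ + ⟨ugen k m (.cbi j), hI _⟩
              - ⟨ugen k m (.cij j i h.symm), hI _⟩ := Subtype.ext (lin i j h)
          rw [this, map_sub, map_add, map_add, map_add, map_add]
          exact sub_mem (add_mem (add_mem (add_mem (add_mem (he none) (he (some (Sum.inl (Sum.inl i)))))
            (he (some (Sum.inl (Sum.inr i))))) (he (some (Sum.inl (Sum.inl j))))) (he (some (Sum.inl (Sum.inr j)))))
            (he (some (Sum.inr ⟨(j, i), h'⟩)))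
      | c =>
        have h2 := rel0 (k := k) (Or.inl (Or.inl (Or.inr ⟨⟨(i0, i1), h01⟩, rfl⟩)))
        simp only [map_sub, map_add, map_mul, sub_eq_zero] at h2
        rw [(Ideal.toCotangent_eq_zero _ _).2 (show ugen k m .c ∈ _ by
          rw [show ugen k m .c = _ from h2.symm]
          exact sub_mem (add_mem (hsq _ _) (hsq _ _)) (hsq _ _))]
        exact zero_mem _
      | cb =>
        have h2 := rel0 (k := k) (Or.inl (Or.inr ⟨⟨(i0, i1), h01⟩, rfl⟩))
        simp only [map_sub, map_add, map_mul, sub_eq_zero] at h2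
        rw [(Ideal.toCotangent_eq_zero _ _).2 (show ugen k m .cb ∈ _ by
          rw [show ugen k m .cb = _ from h2.symm]
          exact sub_mem (add_mem (hsq _ _) (hsq _ _)) (hsq _ _))]
        exact zero_mem _
    have hred : ∀ r : URing k m, r - algebraMap k (URing k m) (ψ r).fst ∈ uorigin k m := by
      intro r
      obtain ⟨p, rfl⟩ := Ideal.Quotient.mk_surjective r
      induction p using MvPolynomial.induction_on with
      | C c =>
        have : ψ (Ideal.Quotient.mk _ (C c)) = algebraMap k _ c := ψ.commutes c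
        rw [this, TrivSqZeroExt.algebraMap_eq_inl, TrivSqZeroExt.fst_inl]
        exact (sub_self (algebraMap k (URing k m) c)).symm ▸ zero_mem (uorigin k m)
      | add p q hp hq =>
        simp only [map_add, TrivSqZeroExt.fst_add, add_sub_add_comm]
        exact add_mem hp hq
      | mul_X p g hp =>
        rw [map_mul, map_mul, TrivSqZeroExt.fst_mul, show Ideal.Quotient.mk _ (X g) = ugen k m g from rfl,
          hψ, hv0, mul_zero, map_zero, sub_zero]
        exact Ideal.mul_mem_left _ _ (hI g)
    intro z hz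
    clear hz
    obtain ⟨⟨x, hx⟩, rfl⟩ := (uorigin k m).toCotangent_surjective z
    induction hx using Submodule.span_induction with
    | mem x hx =>
      obtain ⟨g, rfl⟩ := hx
      exact hgen g
    | zero => exact (congrArg (· ∈ N) (map_zero (uorigin k m).toCotangent)).mpr (zero_mem N)
    | add a b ha hb ha' hb' =>
      rw [show (⟨a + b, _⟩ : ↥(uorigin k m)) = ⟨a, ha⟩ + ⟨b, hb⟩ from rfl, map_add]
      exact add_mem ha' hb'
    | smul r a ha ha' =>
      have hr := hred r
      have : (uorigin k m).toCotangent ⟨r • a, Submodule.smul_mem _ r ha⟩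
          = (ψ r).fst • (uorigin k m).toCotangent ⟨a, ha⟩ := by
        rw [← algebraMap_smul (URing k m), ← map_smul, Ideal.toCotangent_eq, pow_two]
        have h : (r - algebraMap k (URing k m) (ψ r).fst) * a ∈ uorigin k m * uorigin k m := Ideal.mul_mem_mul hr ha
        rw [sub_mul] at h
        exact h
      exact this ▸ Submodule.smul_mem _ _ ha'
  rw [Module.finrank_eq_card_basis (Module.Basis.mk hli hsp), Fintype.card_option, Fintype.card_sum,
    Fintype.card_sum, Fintype.card_fin, card_lt, Nat.choose_two_right]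
  obtain ⟨n, rfl⟩ := Nat.exists_eq_add_of_le hm
  rw [show (2 + n + 2) * (2 + n + 1) = (2 + n) * (2 + n - 1) + 2 * (2 * (2 + n) + 1) by
    rw [show 2 + n - 1 = n + 1 by omega]; ring, Nat.add_mul_div_left _ _ (by norm_num : 0 < 2)]
  omega

end


/-- Let m ≥ 2, so that n = m + 3 ≥ 5 points are marked. For every field k, the Zariski cotangent space
of U_n over k at the origin, that is I/I² for the ideal I of the coordinate ring of U_n over k
generated by the classes of all the generators a, c, c̄, c_i, c̄_i, c_{ij}, has dimension (n − 1)(n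
− 2)/2 = (m + 2)(m + 1)/2 over k; and the weight-one classes a, c_i, c̄_i (all indices i) and c_{ij}
(i < j) generate the coordinate ring of U_n over ℤ as a ℤ-algebra (so they form a minimal generating
set). -/
theorem result (m : ℕ) (hm : 2 ≤ m) :
    (∀ (k : Type u) [Field k], Module.finrank k (uorigin k m).Cotangent = (m + 2) * (m + 1) / 2) ∧
    Algebra.adjoin ℤ ({ugen ℤ m .a} ∪ Set.range (fun i : Fin m => ugen ℤ m (.ci i)) ∪
        Set.range (fun i : Fin m => ugen ℤ m (.cbi i)) ∪
        Set.range (fun q : {q : Fin m × Fin m // q.1 < q.2} => ugen ℤ m (.cij q.1.1 q.1.2 (ne_of_lt q.2)))) = ⊤ := by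
  exact ⟨fun k _ => cotangent_dim k m hm, adjoin_top m hm⟩

end Groth.Agent.S18248
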