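import Groth.Statements.S18250
import Groth.Agent.DualGeneric.PointTwist
import Groth.Agent.RegLoc.Order
-- import your own Groth.Agent.* helpers here

set_option autoImplicit false
set_option backward.isDefEq.respectTransparency false
set_option backward.isDefEq.respectTransparency.types false
set_option maxHeartbeats 1000000
universe u
open AlgebraicGeometry CategoryTheory CategoryTheory.Limits
open Curves

namespace Groth.Agent.S18250

/-- Let k be an algebraically closed field and C a reduced, connected scheme, proper over k and of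
dimension one (a reduced connected projective curve), of arithmetic genus 1, i.e. dim_k H^1(C, O_C)
= 1. Let (ω, tr) be a 1-dualizing pair for C over k (ω a dualizing sheaf with its trace on H^1), let
p be a closed point of C whose local ring is regular (a smooth point), and let L be an invertible
O_C-module inverse to the ideal sheaf of the reduced point p (L = O_C(p)). Then dim_k H^0(C, L) = 1
if and only if H^1(C, L) = 0; and H^1(C, L) = 0 if and only if every nonzero global section s of ω
generates ω near p, i.e. p lies in the open C_s (equivalently, since H^0(C, ω) and the fibre of ω at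
p are one-dimensional, the restriction map from H^0(C, ω) to the fibre of ω at p is an isomorphism). -/
theorem result
    (k : Type u) [Field k] [IsAlgClosed k] (C : Scheme.{u}) [C.Over (Spec (CommRingCat.of k))]
    [IsProper (C ↘ Spec (CommRingCat.of k))] [AlgebraicGeometry.IsReduced C] [ConnectedSpace C]
    (hdim : topologicalKrullDim C = 1) (hg : Curv2.genus k C = 1)
    (ω : C.Modules) (tr : Coh.HH C ω 1 →ₗ[k] k) (hω : Canon.IsRDualOver k C 1 ω tr)
    (p : C) (hp : IsClosed ({p} : Set C)) (hreg : IsRegularLocalRing (C.presheaf.stalk p))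
    (L : C.Modules)
    (hL : ClSub.IsInverseOf L (ClSub.idealMod (Scheme.IdealSheafData.vanishingIdeal ⟨{p}, hp⟩))) :
    (Module.finrank k (Coh.HH C L 0) = 1 ↔ Subsingleton (Coh.HH C L 1)) ∧
      (Subsingleton (Coh.HH C L 1) ↔
        ∀ s : Coh.structureModule C ⟶ ω, s ≠ 0 → p ∈ CohB1.genLocus ω s) := by
  haveI := CurveRR.isNoetherian_of_proper k C
  haveI := hreg
  haveI : IsDomain (C.presheaf.stalk p) := RegLoc.isDomain _
  set I := Scheme.IdealSheafData.vanishingIdeal ⟨{p}, hp⟩ with hIdef
  obtain ⟨θ0⟩ := hL
  have hLi : PicF.IsInvertible L := Groth.Agent.S2122.result _ _ θ0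
  have hI : PicF.IsInvertible (ClSub.idealMod I) := Groth.Agent.S2122.result _ _ (TMul.commIso _ L ≪≫ θ0)
  let θ : CohB1.tensorMod (ClSub.idealMod I) L ≅ Coh.structureModule C := TMul.commIso _ L ≪≫ θ0
  obtain ⟨We, hpe, e, he⟩ := DualGeneric.exists_isGen_omega k hdim hω hp hreg
  have hgen : ∃ η, η ⤳ p ∧ η ≠ p := by
    obtain ⟨Z, hZ, hzZ⟩ := exists_mem_irreducibleComponents_subset_of_isIrreducible _ (isIrreducible_singleton (x := p))
    have hη := hZ.1.isGenericPoint_genericPoint (isClosed_of_mem_irreducibleComponents Z hZ)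
    refine ⟨_, hη.specializes (hzZ rfl), fun h => ?_⟩
    have h1 := DualGeneric.dim_component_eq_one k hdim Z hZ
    have hC1 : Z = {p} := by rw [← hη.def, h, hp.closure_eq]
    rw [hC1] at h1
    exact absurd (h1 ▸ topologicalKrullDim_zero_of_discreteTopology ({p} : Set C)) (by norm_num)
  have h0 : CurveRR.h k (Coh.structureModule C) 0 = 1 := DualGeneric.h0_structure_connected (k := k)
  have hdeg := DualGeneric.deg_inverse_ideal k hdim.le hLi hI ⟨θ0⟩
  rw [CurveRR.h0_quotMod_point hp] at hdeg
  have hg' : CurveRR.h k (Coh.structureModule C) 1 = 1 := hg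
  rw [Curv2.deg, CurveRR.euler_eq hdim.le, CurveRR.euler_eq hdim.le, h0, hg'] at hdeg
  haveI := CohFinite.finite_proper k C L (CurveRR.isCoh_of_inv hLi) 1
  refine ⟨⟨fun h => ?_, fun h => ?_⟩, ⟨fun h s hs => ?_, fun h => ?_⟩⟩
  · have h' : CurveRR.h k L 0 = 1 := h
    exact Module.finrank_zero_iff.1 (show CurveRR.h k L 1 = 0 by omega)
  · have h' : CurveRR.h k L 1 = 0 := Module.finrank_zero_of_subsingleton
    show CurveRR.h k L 0 = 1
    omega
  · by_contra hnp
    obtain ⟨φ, hφ⟩ := DualGeneric.exists_factor θ hLi hgen hpe he s hnp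
    refine hs ?_
    rw [← hφ, CurveRR.hom_eq_zero_of_subsingleton (k := k) hω (TMul.isQCoh_of_isInvertible hLi) h φ, comp_zero]
  · refine CurveRR.subsingleton_hh_of_hom (k := k) hω (TMul.isQCoh_of_isInvertible hLi) fun φ => ?_
    by_contra hφ
    refine DualGeneric.notMem_genLocus_comp θ hLi hgen hpe he φ (h _ fun h0 => hφ ?_)
    exact DualGeneric.eq_zero_of_secOf_comp θ hLi hgen hpe he φ h0

end Groth.Agent.S18250
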