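import Groth.Statements.S18256
import Groth.Prelude.Def_ArtFun3
import Mathlib.RingTheory.Nakayama
import Mathlib.RingTheory.TensorProduct.Finite
import Mathlib.RingTheory.HopkinsLevitzki
import Mathlib.LinearAlgebra.TensorProduct.RightExactness

set_option autoImplicit false
universe u
open ArtFun

namespace Groth.Agent.S18256

open scoped TensorProduct

open CategoryTheory TensorProduct in
/-- Let R be an Artinian local ring with residue field k and M a finitely generated R-module. Suppose
that for every small extension p : A' → A of local Artinian R-algebras with residue field k (p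
surjective, its kernel I a nonzero principal ideal killed by the maximal ideal of A'), the map M ⊗_R
I → M ⊗_R A' induced by the inclusion I ⊆ A' is injective (equivalently, the sequence 0 → M ⊗_R I →
M ⊗_R A' → M ⊗_R A → 0 is exact). Then M is a free R-module. (The printed conclusion reads free over
the residue field; the proof establishes freeness over R, which is what is stated here.) -/
theorem result
    (R : Type u) [CommRing R] [IsArtinianRing R] [IsLocalRing R]
    (k : Type u) [Field k] [Algebra R k] (hk : Function.Surjective (algebraMap R k))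
    (M : Type u) [AddCommGroup M] [Module R M] [Module.Finite R M]
    (h : ∀ (A' A : ArtFun.Art R k) (p : A' ⟶ A), ArtFun.Art.IsSmallExt p →
      Function.Injective
        (LinearMap.lTensor M (((RingHom.ker p.toAlgHom).restrictScalars R).subtype))) :
    Module.Free R M := by
  classical
  have hker : RingHom.ker (algebraMap R k) = IsLocalRing.maximalIdeal R :=
    IsLocalRing.eq_maximalIdeal (RingHom.ker_isMaximal_of_surjective _ hk)
  let C : ArtFun.Art R k := Art.of R (Algebra.ofId R k) hk
  let b := Module.Free.chooseBasis k (k ⊗[R] M)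
  have := Fintype.ofFinite (Module.Free.ChooseBasisIndex k (k ⊗[R] M))
  choose x hx using fun i => TensorProduct.mk_surjective R M k hk (b i)
  choose l hl using id hk
  have hspan : Submodule.span R (Set.range x) = ⊤ := by
    refine top_le_iff.1 (Submodule.le_of_le_smul_of_le_jacobson_bot (I := IsLocalRing.maximalIdeal R)
      Module.Finite.fg_top (IsLocalRing.maximalIdeal_le_jacobson _) fun m _ => ?_)
    obtain ⟨s, hs⟩ : ∃ s : _ →₀ k, Finsupp.linearCombination k b s = (1 : k) ⊗ₜ m := ⟨_, b.linearCombination_repr _⟩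
    let m' : M := ∑ i ∈ s.support, l (s i) • x i
    have he : (TensorProduct.mk R k M 1) (m - m') = 0 := by
      rw [map_sub, map_sum, TensorProduct.mk_apply, ← hs, Finsupp.linearCombination_apply, Finsupp.sum, sub_eq_zero]
      refine Finset.sum_congr rfl fun i _ => ?_
      rw [map_smul, hx, ← algebraMap_smul k (l (s i)), hl]
    let e : (R ⧸ IsLocalRing.maximalIdeal R) ≃ₗ[R] k :=
      (Submodule.quotEquivOfEq _ _ hker.symm).trans
        (Ideal.quotientKerAlgEquivOfSurjective (f := Algebra.ofId R k) fun c => ⟨l c, hl c⟩).toLinearEquiv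
    have he' : (TensorProduct.mk R (R ⧸ IsLocalRing.maximalIdeal R) M 1) (m - m') = 0 := by
      apply (e.rTensor M).injective
      rw [map_zero, ← he]
      show e 1 ⊗ₜ (m - m') = (1 : k) ⊗ₜ[R] (m - m')
      rw [show e 1 = 1 from map_one (Algebra.ofId R k)]
    rw [← LinearMap.mem_ker] at he'
    replace he' := (LinearMap.ker_tensorProductMk (Q := M) (I := IsLocalRing.maximalIdeal R)).le he'
    exact Submodule.mem_sup.2 ⟨m', sum_mem fun i _ => Submodule.smul_mem _ _ (Submodule.subset_span ⟨i, rfl⟩),
      m - m', he', add_sub_cancel m' m⟩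
  have hli0 : ∀ c : Module.Free.ChooseBasisIndex k (k ⊗[R] M) → k, ∑ i, c i ⊗ₜ[R] x i = 0 → ∀ i, c i = 0 := fun c hc => by
    refine Fintype.linearIndependent_iff.1 b.linearIndependent c ?_
    rw [← hc]
    refine Finset.sum_congr rfl fun i _ => ?_
    rw [← hx, TensorProduct.mk_apply, TensorProduct.smul_tmul', smul_eq_mul, mul_one]
  let P : Ideal R → Prop := fun J => J ≤ IsLocalRing.maximalIdeal R ∧
    ∀ c : Module.Free.ChooseBasisIndex k (k ⊗[R] M) → R, ∑ i, c i • x i = 0 → ∀ i, c i ∈ J
  have hPm : P (IsLocalRing.maximalIdeal R) := ⟨le_rfl, fun c hc i => by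
    rw [← hker, RingHom.mem_ker]
    refine hli0 (fun i => algebraMap R k (c i)) ?_ i
    rw [← TensorProduct.tmul_zero M (1 : k), ← hc, TensorProduct.tmul_sum]
    refine Finset.sum_congr rfl fun i _ => ?_
    rw [TensorProduct.tmul_smul, TensorProduct.smul_tmul', Algebra.smul_def, mul_one]⟩
  obtain ⟨J, ⟨hJm, hJ⟩, hmin⟩ := (wellFounded_lt (α := Ideal R)).has_min {J | P J} ⟨_, hPm⟩
  have hJbot : J = ⊥ := by
    by_contra hne
    obtain ⟨s, hs⟩ := (IsNoetherian.noetherian J : J.FG)
    obtain ⟨J', ⟨hJ'J, hJ'⟩, hmax⟩ := set_has_maximal_iff_noetherian.2 (inferInstance : IsNoetherianRing R)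
      {I : Ideal R | I < J ∧ IsLocalRing.maximalIdeal R * J ≤ I}
      ⟨IsLocalRing.maximalIdeal R * J, lt_of_le_of_ne Ideal.mul_le_right (fun e => hne
        (Submodule.eq_bot_of_le_smul_of_le_jacobson_bot (IsLocalRing.maximalIdeal R) J ⟨s, hs⟩ (by
          rw [smul_eq_mul, e]) (IsLocalRing.maximalIdeal_le_jacobson _))), le_rfl⟩
    obtain ⟨t, htJ, htn⟩ := SetLike.exists_of_lt hJ'J
    have hJeq : J = J' ⊔ Ideal.span {t} := by
      refine (le_antisymm (sup_le hJ'J.le ((Ideal.span_singleton_le_iff_mem _).2 htJ)) ?_).symm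
      by_contra hc
      refine hmax (J' ⊔ Ideal.span {t}) ⟨lt_of_le_not_ge (sup_le hJ'J.le ((Ideal.span_singleton_le_iff_mem _).2 htJ)) hc,
        hJ'.trans le_sup_left⟩ (lt_of_le_of_ne le_sup_left fun e => htn (by
          rw [e]; exact Ideal.mem_sup_right (Ideal.mem_span_singleton_self t)))
    have hJ'm : J' ≤ IsLocalRing.maximalIdeal R := hJ'J.le.trans hJm
    let A' : ArtFun.Art R k := Art.quot C J' hJ'm
    let A : ArtFun.Art R k := Art.quot C J hJm
    let π : R →+* A' := Ideal.Quotient.mk J'
    have hπ0 : ∀ a : R, π a = 0 ↔ a ∈ J' := fun a => Ideal.Quotient.eq_zero_iff_mem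
    let p : A' ⟶ A := Art.quotFactor hJ'm (Art.quotMk C J hJm) (fun a ha => RingHom.mem_ker.2 ((Ideal.Quotient.eq_zero_iff_mem (R := R) (I := J)).2 (hJ'J.le ha)))
    have hpapply : ∀ a : R, p (Ideal.Quotient.mk J' a) = Ideal.Quotient.mk J a := fun a => rfl
    have hmem : ∀ y : A', y ∈ RingHom.ker p.toAlgHom → ∃ c : R, y = Ideal.Quotient.mk J' (c * t) := fun y hy => by
      obtain ⟨a, rfl⟩ := Ideal.Quotient.mk_surjective (I := J') y
      have haJ : a ∈ J := Ideal.Quotient.eq_zero_iff_mem.1 (RingHom.mem_ker.1 hy)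
      rw [hJeq] at haJ
      obtain ⟨u, hu, v, hv, rfl⟩ := Submodule.mem_sup.1 haJ
      obtain ⟨c, rfl⟩ := Ideal.mem_span_singleton'.1 hv
      exact ⟨c, Ideal.Quotient.eq.2 (by rwa [add_sub_cancel_right])⟩
    have hcoef : ∀ c : R, c * t ∈ J' → algebraMap R k c = 0 := fun c hc => by
      by_contra hne'
      have hu : IsUnit c := by
        by_contra hu
        exact hne' (RingHom.mem_ker.1 (hker.ge ((IsLocalRing.mem_maximalIdeal c).2 hu)))
      exact htn ((Ideal.unit_mul_mem_iff_mem J' hu).1 hc)
    have hpt : Ideal.Quotient.mk J' t ∈ RingHom.ker p.toAlgHom :=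
      RingHom.mem_ker.2 ((hpapply t).trans (Ideal.Quotient.eq_zero_iff_mem.2 htJ))
    have hsmall : ArtFun.Art.IsSmallExt p := by
      refine ⟨fun y => ?_, fun e => htn ?_, ⟨⟨Ideal.Quotient.mk J' t, le_antisymm (fun y hy => ?_)
        ((Submodule.span_singleton_le_iff_mem _ _).2 hpt)⟩⟩, le_bot_iff.1 (Ideal.mul_le.2 fun u hu v hv => ?_)⟩
      · obtain ⟨a, rfl⟩ := Ideal.Quotient.mk_surjective (I := J) y
        exact ⟨Ideal.Quotient.mk J' a, rfl⟩
      · exact Ideal.Quotient.eq_zero_iff_mem.1 (Ideal.mem_bot.1 (e.le hpt))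
      · obtain ⟨c, rfl⟩ := hmem y hy
        exact Submodule.mem_span_singleton.2 ⟨Ideal.Quotient.mk J' c, (map_mul (Ideal.Quotient.mk J') c t).symm⟩
      · obtain ⟨u, rfl⟩ := Ideal.Quotient.mk_surjective (I := J') u
        obtain ⟨c, rfl⟩ := hmem v hv
        rw [Ideal.mem_bot]
        show π u * π (c * t) = 0
        rw [← map_mul, hπ0]
        refine hJ' (Ideal.mul_mem_mul ?_ (Ideal.mul_mem_left _ c htJ))
        rw [← hker, RingHom.mem_ker]
        exact (Art.mem_maximalIdeal_iff A' _).1 hu
    have hinj := h A' A p hsmall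
    let I' := (RingHom.ker p.toAlgHom).restrictScalars R
    choose cf hcf using fun y : ↥I' => hmem y.1 y.2
    have hwd : ∀ (y : ↥I') (d : R), (y : A') = Ideal.Quotient.mk J' (d * t) → algebraMap R k (cf y) = algebraMap R k d := fun y d e => by
      refine sub_eq_zero.1 ((map_sub _ _ _).symm.trans (hcoef _ ?_))
      rw [sub_mul]
      exact Ideal.Quotient.eq.1 ((hcf y).symm.trans e)
    let φ : ↥I' →ₗ[R] k :=
      { toFun := fun y => algebraMap R k (cf y)
        map_add' := fun y z => by
          rw [← map_add]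
          refine hwd _ _ ?_
          rw [Submodule.coe_add, hcf y, hcf z, add_mul]
          exact (map_add π _ _).symm
        map_smul' := fun r y => by
          rw [RingHom.id_apply, Algebra.smul_def, ← map_mul]
          refine hwd _ _ ?_
          rw [Submodule.coe_smul, hcf y, mul_assoc]
          rfl }
    refine hmin J' ⟨hJ'm, fun c hc i => ?_⟩ hJ'J
    have hcJ := hJ c hc
    choose d hd using fun i => hmem (Ideal.Quotient.mk J' (c i))
      (RingHom.mem_ker.2 ((hpapply _).trans (Ideal.Quotient.eq_zero_iff_mem.2 (hcJ i))))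
    let z : M ⊗[R] ↥I' := ∑ i, x i ⊗ₜ ⟨Ideal.Quotient.mk J' (c i),
      RingHom.mem_ker.2 ((hpapply _).trans (Ideal.Quotient.eq_zero_iff_mem.2 (hcJ i)))⟩
    have hz : z = 0 := hinj (by
      rw [map_zero, map_sum]
      refine Eq.trans ?_ (TensorProduct.zero_tmul M (1 : A'))
      rw [← hc, TensorProduct.sum_tmul]
      refine Finset.sum_congr rfl fun i _ => ?_
      rw [LinearMap.lTensor_tmul, TensorProduct.smul_tmul]
      refine congrArg (x i ⊗ₜ[R] ·) ?_
      show Ideal.Quotient.mk J' (c i) = c i • (1 : A')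
      rw [Algebra.smul_def, mul_one]
      rfl)
    have h2 : ∑ i, algebraMap R k (d i) ⊗ₜ[R] x i = 0 := by
      have h3 := congrArg (fun w => TensorProduct.comm R M k (LinearMap.lTensor M φ w)) hz
      simp only [map_zero] at h3
      refine Eq.trans ?_ h3
      simp only [z, map_sum, LinearMap.lTensor_tmul, TensorProduct.comm_tmul]
      exact Finset.sum_congr rfl fun i _ => congrArg (· ⊗ₜ[R] x i) (hwd _ (d i) (hd i)).symm
    have hdi := hli0 _ h2 i
    rw [show c i = (c i - d i * t) + d i * t from (sub_add_cancel _ _).symm]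
    refine add_mem (Ideal.Quotient.eq.1 (hd i)) (hJ' (Ideal.mul_mem_mul ?_ htJ))
    rw [← hker, RingHom.mem_ker]
    exact hdi
  refine Module.Free.of_basis (Module.Basis.mk (v := x) ?_ hspan.ge)
  rw [Fintype.linearIndependent_iff]
  intro c hc i
  have := hJ c hc i
  rwa [hJbot, Ideal.mem_bot] at this

end Groth.Agent.S18256
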