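import Groth.Statements.S18257
import Groth.Agent.ExpSeq.DeformArt

set_option autoImplicit false
universe u
open UnitsSh

set_option backward.isDefEq.respectTransparency false
set_option backward.isDefEq.respectTransparency.types false
set_option maxHeartbeats 1000000
set_option linter.style.haveILetI false

namespace Groth.Agent.S18257

open CategoryTheory CategoryTheory.Limits AlgebraicGeometry in
/-- In the case of the multiplicative group, for schemes and with Zariski cohomology of the sheaf of
units. Let A be a local ring with maximal ideal m, t a nonzero element of m with m·t = 0, and X' a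
scheme flat over Spec A; let i : X ⟶ X' be the closed subscheme cut out by t (base change to A/(t))
and X₀ the closed fibre (base change to the residue field). If H^{q+1}(X₀, O_{X₀}) = 0, then the map
H^q(X', O_{X'}^×) → H^q(X', i_* O_X^×) induced by the units map of i is surjective. (The published
statement covers any smooth commutative group scheme in place of the multiplicative group, with the
Lie algebra of its closed fibre in place of O_{X₀}, uses étale cohomology, and takes A Artinian;
this row allows any local ring A with t as stated.) -/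
theorem result
    (A : Type u) [CommRing A] [IsLocalRing A]
    (t : A) (ht0 : t ≠ 0) (ht : t ∈ IsLocalRing.maximalIdeal A)
    (hmt : ∀ x ∈ IsLocalRing.maximalIdeal A, x * t = 0)
    (X' : Scheme.{u}) [X'.Over (Spec (CommRingCat.of A))] [Flat (X' ↘ Spec (CommRingCat.of A))]
    (q : ℕ)
    (hvan : Subsingleton (Coh.HH
      (pullback (X' ↘ Spec (CommRingCat.of A)) (Spec.map (CommRingCat.ofHom (IsLocalRing.residue A))))
      (Coh.structureModule _) (q + 1))) :
    Function.Surjective (Sheaf.H.map (UnitsSh.comap
      (pullback.fst (X' ↘ Spec (CommRingCat.of A))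
        (Spec.map (CommRingCat.ofHom (Ideal.Quotient.mk (Ideal.span ({t} : Set A))))))) q) := by
  let p := X' ↘ Spec (CommRingCat.of A)
  let m := IsLocalRing.maximalIdeal A
  let I : Ideal A := Ideal.span {t}
  haveI := ExpSeq.Deform.isClosedImmersion_iq p I
  have hIm : I ≤ m := (Ideal.span_singleton_le_iff_mem _).2 ht
  have hann : m * I = ⊥ := by
    refine eq_bot_iff.2 (Ideal.mul_le.2 fun x hx y hy => ?_)
    obtain ⟨c, rfl⟩ := Ideal.mem_span_singleton'.1 hy
    rw [Ideal.mem_bot, mul_left_comm, hmt x hx, mul_zero]
  have D : ExpSeq.Deform.Small (ExpSeq.Deform.iq p I) (ExpSeq.Deform.iq p m) I m (fun _ : Fin 1 => t) :=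
    ⟨‹Flat p›, inferInstance, ExpSeq.Deform.isClosedImmersion_iq p m,
      fun U => (W7Alg.ker_app_baseChange _ Ideal.Quotient.mk_surjective (IsPullback.of_hasPullback _ _) U).trans (by rw [Ideal.mk_ker]),
      fun U => (W7Alg.ker_app_baseChange _ Ideal.Quotient.mk_surjective (IsPullback.of_hasPullback _ _) U).trans (by rw [Ideal.mk_ker]),
      by rw [Set.range_const], hIm, hann, fun c hc s => by
        rw [Fin.sum_univ_one] at hc
        rw [Subsingleton.elim s 0]
        by_contra hs
        have hu : IsUnit (c 0) := IsLocalRing.notMem_maximalIdeal.1 hs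
        exact ht0 (hu.mul_right_eq_zero.1 hc)⟩
  have hj : IsHomeomorph (ExpSeq.Deform.iq p I).base := by
    refine isHomeomorph_iff_isEmbedding_surjective.2 ⟨(ExpSeq.Deform.iq p I).isClosedEmbedding.isEmbedding, Set.range_eq_univ.1 ?_⟩
    refine (Scheme.Pullback.range_fst _ _).trans (Set.eq_univ_of_forall fun y => ?_)
    change _ ∈ Set.range (PrimeSpectrum.comap (Ideal.Quotient.mk I))
    rw [range_comap_of_surjective _ _ Ideal.Quotient.mk_surjective, Ideal.mk_ker]
    intro a ha
    obtain ⟨c, rfl⟩ := Ideal.mem_span_singleton'.1 ha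
    refine (p y).asIdeal.mul_mem_left c ((p y).2.mem_of_pow_mem 2 ?_)
    rw [pow_two, hmt t ht]
    exact zero_mem _
  have hnil : ∀ (U : X'.Opens), IsAffineOpen U → ∀ z : Γ(X', U), (ExpSeq.Deform.iq p I).app U z = 0 → IsNilpotent z := by
    intro U hU z hz
    have hmem : z ∈ RingHom.ker ((ExpSeq.Deform.iq p I).app U).hom := hz
    rw [W7Alg.ker_app_baseChange _ Ideal.Quotient.mk_surjective (IsPullback.of_hasPullback _ _) ⟨U, hU⟩,
      Ideal.mk_ker] at hmem
    refine ⟨2, ?_⟩
    have h2 := Ideal.mul_mem_mul hmem hmem
    rw [← Ideal.map_mul] at h2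
    rw [pow_two, ← Ideal.mem_bot]
    refine Ideal.map_bot (f := W7Cech.secRing A U) ▸ Ideal.map_mono ?_ h2
    exact (Ideal.mul_mono_left hIm).trans hann.le
  exact ExpSeq.Deform.hmap_surjective (T := X'.toTopCat)
    (ThickPic.kerSeq_shortExact (ExpSeq.Deform.iq p I) hj hnil) q (D.subsingleton_h (q + 1) hvan)

end Groth.Agent.S18257
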