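import Groth.Statements.S18258
import Groth.Agent.ExpSeq.DeformArt
import Groth.Agent.ExpSeq.Square
import Mathlib.Algebra.DualNumber

set_option autoImplicit false
universe u
open UnitsSh

set_option backward.isDefEq.respectTransparency false
set_option backward.isDefEq.respectTransparency.types false
set_option maxHeartbeats 1000000
set_option linter.style.haveILetI false

namespace Groth.Agent.S18258

open CategoryTheory CategoryTheory.Limits CategoryTheory.Abelian AlgebraicGeometry TopologicalSpace Opposite in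
/-- a retraction of a closed immersion splits the restriction of units -/
theorem exists_section {R Y : Scheme.{u}} (i : R ⟶ Y) (ρ : Y ⟶ R) (h : i ≫ ρ = 𝟙 R) (hs : Function.Surjective i.base) :
    ∃ s : (CohTop.push i.base).obj (UnitsSh.unitsAb R) ⟶ UnitsSh.unitsAb Y, s ≫ UnitsSh.comap i = 𝟙 _ := by
  have hle : ∀ U : Y.Opens, U ≤ ρ ⁻¹ᵁ (i ⁻¹ᵁ U) := fun U y hy => by
    obtain ⟨x, rfl⟩ := hs y
    change i.base (ρ.base (i.base x)) ∈ U
    rwa [show ρ.base (i.base x) = x from congrArg (fun g => g.base x) h]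
  have hres : ∀ {U V : Y.Opens} (hVU : V ≤ U),
      R.presheaf.map (homOfLE (i.preimage_mono hVU)).op ≫ ρ.appLE (i ⁻¹ᵁ V) V (hle V) =
        ρ.appLE (i ⁻¹ᵁ U) U (hle U) ≫ Y.presheaf.map (homOfLE hVU).op := fun {U V} hVU =>
    (ρ.map_appLE (hle V) (homOfLE (i.preimage_mono hVU)).op).trans (ρ.appLE_map (hle U) (homOfLE hVU).op).symm
  refine ⟨⟨{ app := fun U => UnitsSh.unitsFunctor.map (ρ.appLE (i ⁻¹ᵁ U.unop) U.unop (hle U.unop))
             naturality := fun U V g => ?_ }⟩, ?_⟩
  · exact ((UnitsSh.unitsFunctor.map_comp _ _).symm.trans (congrArg UnitsSh.unitsFunctor.map (hres g.unop.le))).trans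
      (UnitsSh.unitsFunctor.map_comp _ _)
  · apply Sheaf.hom_ext
    ext U : 2
    refine ((UnitsSh.unitsFunctor.map_comp _ _).symm.trans ?_).trans (UnitsSh.unitsFunctor.map_id _)
    refine congrArg UnitsSh.unitsFunctor.map ?_
    change ρ.appLE (i ⁻¹ᵁ U.unop) U.unop (hle U.unop) ≫ i.app U.unop = 𝟙 Γ(R, i ⁻¹ᵁ U.unop)
    rw [Scheme.Hom.app_eq_appLE, Scheme.Hom.appLE_comp_appLE]
    simp only [h]
    simp [Scheme.Hom.appLE]
    exact R.presheaf.map_id _

open CategoryTheory CategoryTheory.Limits CategoryTheory.Abelian in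
/-- kernel on cohomology of a split epimorphism -/
theorem nonempty_ker_equiv {T : TopCat.{u}} {G C : CohTop.Ab T} (g : G ⟶ C) (s : C ⟶ G) (hs : s ≫ g = 𝟙 C) (q : ℕ) :
    Nonempty ((Sheaf.H.map g q).ker ≃+ CohTop.H (kernel g) q) := by
  haveI : IsSplitEpi g := ⟨⟨⟨s, hs⟩⟩⟩
  let S : ShortComplex (CohTop.Ab T) := ShortComplex.mk (kernel.ι g) g (kernel.condition g)
  have hS : S.ShortExact :=
    haveI : Mono S.f := inferInstanceAs (Mono (kernel.ι g))
    haveI : Epi S.g := inferInstanceAs (Epi g)
    { exact := ShortComplex.exact_of_f_is_kernel _ (kernelIsKernel _) }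
  let r : G ⟶ kernel g := kernel.lift g (𝟙 G - g ≫ s) (by rw [Preadditive.sub_comp, Category.id_comp, Category.assoc, hs, Category.comp_id, sub_self])
  have hr : kernel.ι g ≫ r = 𝟙 _ := by
    rw [← cancel_mono (kernel.ι g), Category.assoc, kernel.lift_ι, Preadditive.comp_sub, Category.comp_id,
      ← Category.assoc, kernel.condition, zero_comp, sub_zero, Category.id_comp]
  let F : CohTop.H (kernel g) q →+ (Sheaf.H.map g q).ker :=
    (Sheaf.H.map (kernel.ι g) q).codRestrict _ fun x =>
      (ExpSeq.Deform.hmap_eq g q _).trans ((congrArg (fun a => Ext.comp a (Ext.mk₀ g) (add_zero q))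
        (ExpSeq.Deform.hmap_eq (kernel.ι g) q x)).trans (ExpSeq.Deform.comp_comp_zero _ g (kernel.condition g) q x))
  refine ⟨(AddEquiv.ofBijective F ⟨fun x y h => ?_, fun z => ?_⟩).symm⟩
  · have h0 : Sheaf.H.map (kernel.ι g) q x = Sheaf.H.map (kernel.ι g) q y := congrArg Subtype.val h
    have h1 := congrArg (Sheaf.H.map r q) h0
    rwa [← ExpSeq.Deform.hmap_comp, ← ExpSeq.Deform.hmap_comp, hr, Sheaf.H.map_id_apply, Sheaf.H.map_id_apply] at h1
  · obtain ⟨x, hx⟩ := Ext.covariant_sequence_exact₂ _ hS z.1 ((ExpSeq.Deform.hmap_eq g q _).symm.trans z.2)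
    exact ⟨x, Subtype.ext ((ExpSeq.Deform.hmap_eq _ q _).trans hx)⟩

attribute [local instance] CategoryTheory.Abelian.hasFiniteBiproducts

open CategoryTheory CategoryTheory.Limits AlgebraicGeometry in
/-- the kernel for a split small thickening by one element -/
theorem nonempty_ker_equiv_small {A : Type u} [CommRing A] {R Y : Scheme.{u}} [Y.Over (Spec (CommRingCat.of A))]
    (i : R ⟶ Y) {I : Ideal A} {a : Fin 1 → A} (D : ExpSeq.Deform.Small i i I I a) (ρ : Y ⟶ R) (h : i ≫ ρ = 𝟙 R)
    (hs : Function.Surjective i.base) (q : ℕ) :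
    Nonempty ((Sheaf.H.map (UnitsSh.comap i) q).ker ≃+ Coh.HH R (Coh.structureModule R) q) := by
  haveI := D.closed
  obtain ⟨s, hs'⟩ := exists_section i ρ h hs
  obtain ⟨e₁⟩ := nonempty_ker_equiv (T := Y.toTopCat) _ s hs' q
  haveI := D.epi_Phi
  haveI := D.mono_Phi
  haveI := isIso_of_mono_of_epi D.Phi
  obtain ⟨e₂⟩ := ExpSeq.h_congr ((biproductUniqueIso (fun _ : Fin 1 => ExpSeq.Deform.GG i)).symm ≪≫ asIso D.Phi) q
  obtain ⟨e₃⟩ := S0459.result (X := R.toTopCat) (Y := Y.toTopCat) i.base i.isClosedEmbedding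
    (Coh.toAb (Coh.structureModule R)) q
  exact ⟨e₁.trans (e₂.symm.trans e₃.symm)⟩


open CategoryTheory CategoryTheory.Limits AlgebraicGeometry in
/-- In the case of the multiplicative group, for schemes and with Zariski cohomology of the sheaf of
units. Let k be a field, X₀ a k-scheme, X' = X₀ ×_k Spec k[ε] (k[ε] the dual numbers) and i : X ⟶ X'
the closed subscheme ε = 0 (base change of X' along k[ε] → k, a copy of X₀). Then for every q the
kernel of the map H^q(X', O_{X'}^×) → H^q(X', i_* O_X^×) induced by the units map of i — the tangent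
space at the origin of the functor A ↦ H^q(X₀ ⊗_k A, O^×) on local Artinian k-algebras — is
isomorphic, as an additive group, to H^q(X, O_X). (Existence of an isomorphism only. The published
statement covers any smooth commutative group scheme in place of the multiplicative group, with the
Lie algebra of its closed fibre in place of the structure sheaf, and uses étale cohomology.) -/
theorem result
    (k : Type u) [Field k] (X₀ : Scheme.{u}) [X₀.Over (Spec (CommRingCat.of k))] (q : ℕ) :
    Nonempty ((Sheaf.H.map (UnitsSh.comap (pullback.fst (pullback.snd (X₀ ↘ Spec (CommRingCat.of k)) (Spec.map (CommRingCat.ofHom (algebraMap k (DualNumber k))))) (Spec.map (CommRingCat.ofHom (TrivSqZeroExt.fstHom k k k).toRingHom)))) q).ker ≃+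
      Coh.HH (pullback (pullback.snd (X₀ ↘ Spec (CommRingCat.of k)) (Spec.map (CommRingCat.ofHom (algebraMap k (DualNumber k))))) (Spec.map (CommRingCat.ofHom (TrivSqZeroExt.fstHom k k k).toRingHom))) (Coh.structureModule (pullback (pullback.snd (X₀ ↘ Spec (CommRingCat.of k)) (Spec.map (CommRingCat.ofHom (algebraMap k (DualNumber k))))) (Spec.map (CommRingCat.ofHom (TrivSqZeroExt.fstHom k k k).toRingHom)))) q) := by
  let φ : CommRingCat.of k ⟶ CommRingCat.of (DualNumber k) := CommRingCat.ofHom (algebraMap k (DualNumber k))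
  let F : DualNumber k →+* k := (TrivSqZeroExt.fstHom k k k).toRingHom
  let π : pullback (X₀ ↘ Spec (CommRingCat.of k)) (Spec.map φ) ⟶ X₀ := pullback.fst _ _
  let p : pullback (X₀ ↘ Spec (CommRingCat.of k)) (Spec.map φ) ⟶ Spec (CommRingCat.of (DualNumber k)) := pullback.snd _ _
  let i : pullback p (Spec.map (CommRingCat.ofHom F)) ⟶ pullback (X₀ ↘ Spec (CommRingCat.of k)) (Spec.map φ) :=
    pullback.fst _ _
  letI : (pullback (X₀ ↘ Spec (CommRingCat.of k)) (Spec.map φ)).Over (Spec (CommRingCat.of (DualNumber k))) := ⟨p⟩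
  have hFs : Function.Surjective F := fun a => ⟨TrivSqZeroExt.inl a, rfl⟩
  haveI : IsClosedImmersion i := by
    haveI : IsClosedImmersion (Spec.map (CommRingCat.ofHom F)) := IsClosedImmersion.spec_of_surjective _ hFs
    exact MorphismProperty.pullback_fst _ _ inferInstance
  have hker : ∀ c : DualNumber k, c ∈ RingHom.ker F ↔ c * DualNumber.eps = 0 := fun c => by
    constructor
    · intro hc
      have h0 : c.fst = 0 := hc
      exact TrivSqZeroExt.ext (by simp [h0]) (by simp [h0])
    · intro hc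
      have h : c.fst = 0 := by simpa using congrArg TrivSqZeroExt.snd hc
      exact h
  have hspan : Ideal.span (Set.range fun _ : Fin 1 => (DualNumber.eps : DualNumber k)) = RingHom.ker F := by
    rw [Set.range_const]
    refine le_antisymm ((Ideal.span_singleton_le_iff_mem _).2 ((hker _).2 DualNumber.eps_mul_eps)) fun c hc => ?_
    refine Ideal.mem_span_singleton'.2 ⟨TrivSqZeroExt.inl c.snd, ?_⟩
    have h0 : c.fst = 0 := hc
    exact TrivSqZeroExt.ext (by simp [h0]) (by simp [h0])
  have hann : RingHom.ker F * RingHom.ker F = ⊥ := by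
    refine eq_bot_iff.2 (Ideal.mul_le.2 fun x hx y hy => ?_)
    obtain ⟨c, rfl⟩ := Ideal.mem_span_singleton'.1 (by rwa [← hspan, Set.range_const] at hy : y ∈ Ideal.span {DualNumber.eps})
    rw [Ideal.mem_bot, mul_left_comm, (hker x).1 hx, mul_zero]
  have hflat : Flat p := by
    haveI : Flat (X₀ ↘ Spec (CommRingCat.of k)) := inferInstance
    exact MorphismProperty.pullback_snd _ _ inferInstance
  have hk : ∀ U : (pullback (X₀ ↘ Spec (CommRingCat.of k)) (Spec.map φ)).affineOpens,
      RingHom.ker (i.app U.1).hom = (RingHom.ker F).map (W7Cech.secRing (DualNumber k) U.1) := fun U =>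
    W7Alg.ker_app_baseChange F hFs (IsPullback.of_hasPullback _ _) U
  have D : ExpSeq.Deform.Small i i (RingHom.ker F) (RingHom.ker F) (fun _ : Fin 1 => (DualNumber.eps : DualNumber k)) :=
    ⟨hflat, inferInstance, inferInstance, hk, hk, hspan, le_rfl, hann, fun c hc s => by
      rw [Fin.sum_univ_one] at hc
      rw [Subsingleton.elim s 0]
      exact (hker _).2 hc⟩
  have hFφ : φ ≫ CommRingCat.ofHom F = 𝟙 _ := CommRingCat.hom_ext (RingHom.ext fun a => rfl)
  haveI : IsIso (i ≫ π) := by
    have sq : IsPullback (i ≫ π) (pullback.snd p (Spec.map (CommRingCat.ofHom F))) (X₀ ↘ Spec (CommRingCat.of k))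
        (Spec.map (CommRingCat.ofHom F) ≫ Spec.map φ) :=
      (IsPullback.of_hasPullback p _).paste_horiz (IsPullback.of_hasPullback _ _)
    rw [← Spec.map_comp, hFφ, Spec.map_id] at sq
    exact sq.isIso_fst_of_isIso
  have hsurj : Function.Surjective i.base := by
    refine Set.range_eq_univ.1 ((Scheme.Pullback.range_fst _ _).trans (Set.eq_univ_of_forall fun y => ?_))
    change _ ∈ Set.range (PrimeSpectrum.comap F)
    rw [range_comap_of_surjective _ _ hFs]
    intro a ha
    refine (p y).2.mem_of_pow_mem 2 ?_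
    have h2 := Ideal.mul_mem_mul ha ha
    rw [hann, Ideal.mem_bot] at h2
    rw [pow_two, h2]
    exact zero_mem _
  exact nonempty_ker_equiv_small i D (π ≫ inv (i ≫ π)) (by rw [← Category.assoc, IsIso.hom_inv_id]) hsurj q

end Groth.Agent.S18258
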