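import Groth.Statements.S18263
import Groth.Agent.GLForms.Lines
-- import your own Groth.Agent.* helpers here

set_option autoImplicit false
universe u
open InvQ

namespace Groth.Agent.S18263

/-- Let k be an algebraically closed field in which m! is non-zero, n ≥ 1 and m ≤ n natural numbers, and
p_1, …, p_m non-zero vectors of k^(n+1), an ordered configuration of m points of projective n-space,
encoded by the product π = ∏_i (Σ_j p_i,j x_j) of its linear forms, on which the special linear
group SL(n+1) acts by substitution; let a be the point of the affine space of degree-m forms in n +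
1 variables whose form is π. Then a is not stable for SL(n+1): a configuration of at most n points
of projective n-space is never stable. (The case n = 0 is excluded: there the group is trivial and
the empty configuration is stable. The published statement allows any characteristic; this row
assumes m! non-zero in k, as the space of forms used here requires.) -/
theorem result (k : Type u) [Field k] [IsAlgClosed k] (n m : ℕ) (hn : 1 ≤ n) (hmn : m ≤ n)
    (hm : (Nat.factorial m : k) ≠ 0) (p : Fin m → Fin (n + 1) → k) (hp : ∀ i, p i ≠ 0)
    (a : CoordGrp.FormIdx (n + 1) m → k)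
    (ha : CoordGrp.formPoly a = ∏ i, ∑ j, MvPolynomial.C (p i j) * MvPolynomial.X j) :
    ¬ @GLin.IsStableVec k _ (CoordGrp.SLn (n + 1) k) _ _ (CoordGrp.FormIdx (n + 1) m)
      (GLin.comodAlong ((CoordGrp.SLn.mkHom (n + 1) k).comp (CoordGrp.Mat.toGLn (n + 1) k)) (CoordGrp.formsCoact k (n + 1) m))
      (GLin.isCoactAlg_comodAlong ((CoordGrp.SLn.mkHom (n + 1) k).comp (CoordGrp.Mat.toGLn (n + 1) k)) (CoordGrp.formsCoact k (n + 1) m) (CoordGrp.formsCoact_isCoactAlg k (n + 1) m)) a := by
  intro hst
  classical
  have hN : Module.finrank k (Fin (n + 1) → k) = n + 1 := by simp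
  rcases Nat.eq_zero_or_pos m with rfl | hm0
  · have hW : (Submodule.span k {(Pi.single 0 1 : Fin (n + 1) → k)}) ≠ ⊥ := by
      rw [Ne, Submodule.span_singleton_eq_bot]
      exact fun h => one_ne_zero (α := k) (by simpa using congrFun h 0)
    have hW' : (Submodule.span k {(Pi.single 0 1 : Fin (n + 1) → k)}) ≠ ⊤ := fun h => by
      have := finrank_span_singleton (K := k) (v := (Pi.single 0 1 : Fin (n + 1) → k))
        (fun h => one_ne_zero (α := k) (by simpa using congrFun h 0))
      rw [h, finrank_top, hN] at this
      omega
    have := GLForms.card_lt_of_isStableVec hm p a ha hst _ hW hW'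
    simp at this
  · let W := Submodule.span k (Set.range p)
    have hW : W ≠ ⊥ := fun h => hp ⟨0, hm0⟩ (by
      have : p ⟨0, hm0⟩ ∈ W := Submodule.subset_span ⟨_, rfl⟩
      rwa [h, Submodule.mem_bot] at this)
    have hle : Module.finrank k W ≤ m := by
      have := finrank_range_le_card (R := k) p
      exact this.trans_eq (Fintype.card_fin m)
    have hW' : W ≠ ⊤ := fun h => by
      rw [h, finrank_top, hN] at hle
      omega
    have := GLForms.card_lt_of_isStableVec hm p a ha hst W hW hW'
    rw [Nat.card_congr (Equiv.subtypeUnivEquiv (p := fun i => p i ∈ W) fun i => Submodule.subset_span ⟨i, rfl⟩), Nat.card_fin] at this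
    have := Nat.lt_of_mul_lt_mul_left this
    omega

end Groth.Agent.S18263
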