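import Groth.Statements.S18264
import Groth.Agent.MinSurf.Main
import Groth.Agent.MinSurf.Basic
import Groth.Agent.ProjMor.ProjSpaceBase

set_option autoImplicit false
universe u
open CategoryTheory CategoryTheory.Limits AlgebraicGeometry
open Surf

set_option backward.isDefEq.respectTransparency false
set_option backward.isDefEq.respectTransparency.types false

namespace Groth.Agent.S18264

/-- Every surface dominates a minimal surface. Let k be an algebraically closed field and X a surface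
over k — an integral scheme of dimension two with all local rings regular, admitting a closed
immersion over k into some projective space P^n_k. Then there are a surface Y over k of the same
kind and a birational k-morphism f : X → Y (f restricts to an isomorphism over a dense open subset
of Y) with Y minimal: every birational k-morphism g : Y → Z to a surface Z of the same kind is an
isomorphism. -/
theorem result (k : Type u) [Field k] [IsAlgClosed k]
    (X : Scheme.{u}) (sX : X ⟶ Spec (CommRingCat.of k)) [AlgebraicGeometry.IsIntegral X]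
    (hdim : topologicalKrullDim X = 2) (hreg : ∀ x : X, IsRegularLocalRing (X.presheaf.stalk x))
    (hproj : (∃ (n : ℕ) (ι : X ⟶ CohB1.ProjSpace n k), IsClosedImmersion ι ∧ ι ≫ CohB1.ProjSpace.toSpec n k = sX)) :
    ∃ (Y : Scheme.{u}) (sY : Y ⟶ Spec (CommRingCat.of k)) (f : X ⟶ Y),
      f ≫ sY = sX ∧ AlgebraicGeometry.IsIntegral Y ∧ topologicalKrullDim Y = 2 ∧
      (∀ y : Y, IsRegularLocalRing (Y.presheaf.stalk y)) ∧ (∃ (n : ℕ) (ι : Y ⟶ CohB1.ProjSpace n k), IsClosedImmersion ι ∧ ι ≫ CohB1.ProjSpace.toSpec n k = sY) ∧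
      (∃ V : Y.Opens, Dense (V : Set Y) ∧ IsIso (f ∣_ V)) ∧
      ∀ (Z : Scheme.{u}) (sZ : Z ⟶ Spec (CommRingCat.of k)), AlgebraicGeometry.IsIntegral Z →
        topologicalKrullDim Z = 2 → (∀ z : Z, IsRegularLocalRing (Z.presheaf.stalk z)) → (∃ (n : ℕ) (ι : Z ⟶ CohB1.ProjSpace n k), IsClosedImmersion ι ∧ ι ≫ CohB1.ProjSpace.toSpec n k = sZ) →
        ∀ g : Y ⟶ Z, g ≫ sZ = sY → (∃ V : Z.Opens, Dense (V : Set Z) ∧ IsIso (g ∣_ V)) → IsIso g := by
  classical
  let Good : ℕ → Prop := fun r => ∃ (Y : Scheme.{u}) (sY : Y ⟶ Spec (CommRingCat.of k)) (hp : IsProper sY) (f : X ⟶ Y),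
    f ≫ sY = sX ∧ AlgebraicGeometry.IsIntegral Y ∧ topologicalKrullDim Y = 2 ∧
      (∀ y : Y, IsRegularLocalRing (Y.presheaf.stalk y)) ∧
      (∃ (n : ℕ) (ι : Y ⟶ CohB1.ProjSpace n k), IsClosedImmersion ι ∧ ι ≫ CohB1.ProjSpace.toSpec n k = sY) ∧
      (∃ V : Y.Opens, Dense (V : Set Y) ∧ IsIso (f ∣_ V)) ∧
      @Groth.Agent.MinSurf.numRank k _ Y ⟨sY⟩ hp = r
  have hprop : ∀ {Y : Scheme.{u}} (sY : Y ⟶ Spec (CommRingCat.of k)),
      (∃ (n : ℕ) (ι : Y ⟶ CohB1.ProjSpace n k), IsClosedImmersion ι ∧ ι ≫ CohB1.ProjSpace.toSpec n k = sY) →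
        IsProper sY := by
    rintro Y sY ⟨n, ι, hι, rfl⟩
    haveI := hι
    haveI := ProjMor.isProper_toSpec n k
    infer_instance
  have hex : ∃ r, Good r := ⟨_, X, sX, hprop sX hproj, 𝟙 X, Category.id_comp _, inferInstance, hdim, hreg, hproj,
    ⟨⊤, by simp, inferInstance⟩, rfl⟩
  obtain ⟨Y, sY, hpY, f, hf, hYi, hYd, hYr, hYp, hfb, hrk⟩ := Nat.find_spec hex
  refine ⟨Y, sY, f, hf, hYi, hYd, hYr, hYp, hfb, ?_⟩
  intro Z sZ hZi hZd hZr hZp g hg hgb
  by_contra hniso
  haveI := hpY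
  haveI := hprop sZ hZp
  haveI : IsProper (g ≫ sZ) := hg ▸ hpY
  haveI : IsProper g := IsProper.of_comp g sZ
  letI : Y.Over (Spec (CommRingCat.of k)) := ⟨sY⟩
  letI : Z.Over (Spec (CommRingCat.of k)) := ⟨sZ⟩
  haveI : IsProper (Y ↘ Spec (CommRingCat.of k)) := hpY
  haveI : IsProper (Z ↘ Spec (CommRingCat.of k)) := hprop sZ hZp
  haveI := hYi
  haveI := hZi
  obtain ⟨H, hH⟩ := Groth.Agent.MinSurf.exists_ample_of_proj sY hYp
  obtain ⟨V, hVd, hV⟩ := hgb
  have hVne : (V : Set Z).Nonempty := hVd.nonempty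
  have hnorm : Pi1.IsNormalScheme Z := Groth.Agent.MinSurf.isNormalScheme_of_regular hZr
  have hlt := Groth.Agent.MinSurf.numRank_lt k g hg hnorm hZd.le hYd.le hH V hVne hV hniso
  refine Nat.find_min hex (hrk ▸ hlt) ⟨Z, sZ, hprop sZ hZp, f ≫ g, by rw [Category.assoc, hg, hf], hZi, hZd, hZr, hZp,
    ?_, rfl⟩
  exact Groth.Agent.MinSurf.birational_comp f g hfb ⟨V, hVd, hV⟩

end Groth.Agent.S18264
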