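import Groth.Statements.S18265
import Mathlib

set_option linter.style.haveILetI false

set_option autoImplicit false
universe u
open InvQ

namespace Groth.Agent.S18265

/-- Let k be an algebraically closed field and n, m natural numbers, and let R be the ring of polynomial
functions of m vectors of k^(n+1) invariant under the special linear group SL(n+1, k) acting on all
the vectors at once and under the rescalings of the individual vectors by units with product 1
(equivalently: invariant and homogeneous of one and the same degree in each vector) — the graded
ring of invariant sections whose Proj is the quotient variety of ordered m-point sets in projective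
n-space. Then R is integrally closed in its field of fractions; hence that quotient variety is
normal. (Only the normality assertion of the source's statement is given here; its dimension,
rationality and singular-locus assertions are not.) -/
theorem result (k : Type u) [Field k] [IsAlgClosed k] (n m : ℕ) :
    IsIntegrallyClosed (W4c5pointsetsdelpezzo.invRing k n m) := by
  let P := W4c5pointsetsdelpezzo.TupleRing k n m
  let R := W4c5pointsetsdelpezzo.invRing k n m
  refine (isIntegrallyClosed_iff (FractionRing R)).mpr fun {z} hz => ?_
  obtain ⟨⟨x, y⟩, hxy⟩ := IsLocalization.surj (nonZeroDivisors R) z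
  have hy : (y : R) ≠ 0 := nonZeroDivisors.ne_zero y.2
  let ψ : FractionRing R →ₐ[R] FractionRing P :=
    IsFractionRing.liftAlgHom (g := Algebra.ofId R (FractionRing P))
      ((IsFractionRing.injective P (FractionRing P)).comp Subtype.val_injective)
  have hint : IsIntegral P (ψ z) := (hz.map ψ).tower_top
  obtain ⟨p, hp⟩ := IsIntegrallyClosed.isIntegral_iff.mp hint
  have hpe : p * ((y : R) : P) = (x : P) := by
    refine IsFractionRing.injective P (FractionRing P) ?_
    rw [map_mul, hp]
    have := congrArg ψ hxy
    rw [map_mul, AlgHom.commutes, AlgHom.commutes] at this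
    exact this
  have hy' : ((y : R) : P) ≠ 0 := fun h => hy (Subtype.ext h)
  have fixed : ∀ f : P →ₐ[k] P, (∀ r : R, f (r : P) = (r : P)) → f p = p := by
    intro f hf
    refine mul_right_cancel₀ hy' ?_
    rw [← hf y, ← map_mul, hpe, hf x, hf y, hpe]
  have hpR : p ∈ R := by
    refine Algebra.mem_inf.mpr ⟨Algebra.mem_iInf.mpr fun g => fixed _ fun r => ?_,
      Algebra.mem_iInf.mpr fun s => fixed _ fun r => ?_⟩
    · exact (Algebra.mem_iInf.mp (Algebra.mem_inf.mp r.2).1 g)
    · exact (Algebra.mem_iInf.mp (Algebra.mem_inf.mp r.2).2 s)
  refine ⟨⟨p, hpR⟩, ?_⟩
  have h2 : algebraMap R (FractionRing R) (⟨p, hpR⟩ * (y : R)) = algebraMap R (FractionRing R) x :=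
    congrArg _ (Subtype.ext hpe)
  rw [map_mul] at h2
  have hy2 : algebraMap R (FractionRing R) (y : R) ≠ 0 :=
    fun h => hy (IsFractionRing.injective R (FractionRing R) (h.trans (map_zero _).symm))
  exact mul_right_cancel₀ hy2 (h2.trans hxy.symm)

end Groth.Agent.S18265
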