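import Groth.Statements.S18266
import Groth.Agent.FlatClosure.Basic
import Groth.Agent.SmLocalST.SmoothField
-- import your own Groth.Agent.* helpers here

set_option autoImplicit false
set_option backward.isDefEq.respectTransparency false
set_option linter.style.haveILetI false
universe u
open CategoryTheory CategoryTheory.Limits AlgebraicGeometry
open FDesc

namespace Groth.Agent.S18266

/-- Let A be a discrete valuation ring, η the generic point of Spec A, and f : X → Spec A a morphism
from an arbitrary scheme X. The scheme-theoretic closure of the generic fibre X_η in X (the flat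
completion) is flat over Spec A, and it is the largest closed subscheme of X flat over Spec A: for
every closed immersion i : Z → X with Z flat over Spec A, the ideal sheaf of the flat completion is
contained in the ideal sheaf of i. -/
theorem result (A : Type u) [CommRing A] [IsDomain A]
    [IsDiscreteValuationRing A] {X : Scheme.{u}} (f : X ⟶ Spec (CommRingCat.of A))
    (η : ↥(Spec (CommRingCat.of A))) (hη : η.asIdeal = ⊥) :
    Flat ((f.fiberι η).imageι ≫ f) ∧
      ∀ (Z : Scheme.{u}) (i : Z ⟶ X), IsClosedImmersion i → Flat (i ≫ f) → (f.fiberι η).ker ≤ i.ker := by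
  obtain rfl : η = genericPoint ↥(Spec (CommRingCat.of A)) := by
    rw [genericPoint_eq_bot_of_affine]
    exact PrimeSpectrum.ext hη
  have hY : ∀ y : (Spec (CommRingCat.of A)), IsRegularLocalRing ((Spec (CommRingCat.of A)).presheaf.stalk y) ∧ ringKrullDim ((Spec (CommRingCat.of A)).presheaf.stalk y) ≤ 1 := by
    intro y
    haveI : IsRegularRing A := inferInstance
    refine ⟨Groth.Agent.SmLocalST.isRegularLocalRing_stalk_spec (CommRingCat.of A) y, ?_⟩
    let p : PrimeSpectrum A := y
    letI : Algebra A ((Spec (CommRingCat.of A)).presheaf.stalk y) := StructureSheaf.stalkAlgebra A y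
    haveI : IsLocalization.AtPrime ((Spec (CommRingCat.of A)).presheaf.stalk y) p.asIdeal := StructureSheaf.IsLocalization.to_stalk _ _
    rw [IsLocalization.AtPrime.ringKrullDim_eq_height p.asIdeal ((Spec (CommRingCat.of A)).presheaf.stalk y)]
    exact (Ideal.height_le_ringKrullDim_of_ne_top p.isPrime.ne_top).trans
      (Ring.krullDimLE_iff.1 inferInstance)
  let ξ := (Spec (CommRingCat.of A)).fromSpecResidueField (genericPoint (Spec (CommRingCat.of A)))
  have hι : IsPullback (f.fiberι (genericPoint (Spec (CommRingCat.of A)))) (f.fiberToSpecResidueField (genericPoint (Spec (CommRingCat.of A)))) f ξ :=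
    IsPullback.of_hasPullback f ξ
  haveI : Flat ξ := Groth.Agent.FlatClosure.flat_fromSpecResidueField_generic (Spec (CommRingCat.of A))
  haveI : IsSchemeTheoreticallyDominant ξ := Groth.Agent.FlatClosure.dominant_fromSpecResidueField_generic (Spec (CommRingCat.of A))
  haveI : QuasiCompact ξ := inferInstance
  haveI : QuasiCompact (f.fiberι (genericPoint (Spec (CommRingCat.of A)))) :=
    MorphismProperty.of_isPullback (P := @QuasiCompact) hι.flip ‹_›
  refine ⟨Groth.Agent.FlatClosure.flat_imageι_comp hY _ f _ hι.w, fun Z i hi hfl => ?_⟩
  have hw : IsPullback (pullback.fst i (f.fiberι (genericPoint (Spec (CommRingCat.of A))))) (pullback.snd i (f.fiberι (genericPoint (Spec (CommRingCat.of A))))) i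
      (f.fiberι (genericPoint (Spec (CommRingCat.of A)))) := IsPullback.of_hasPullback _ _
  have hbig := hw.paste_vert hι
  haveI : IsSchemeTheoreticallyDominant (pullback.fst i (f.fiberι (genericPoint (Spec (CommRingCat.of A))))) :=
    IsSchemeTheoreticallyDominant.of_isPullback hbig.flip
  calc (f.fiberι (genericPoint (Spec (CommRingCat.of A)))).ker
      ≤ (pullback.snd i (f.fiberι (genericPoint (Spec (CommRingCat.of A)))) ≫ f.fiberι (genericPoint (Spec (CommRingCat.of A)))).ker := Scheme.Hom.le_ker_comp _ _
    _ = i.ker := by rw [← hw.w, Scheme.Hom.ker_comp, Scheme.Hom.ker_eq_bot, Scheme.IdealSheafData.map_bot]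

end Groth.Agent.S18266
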