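import Groth.Statements.S18267
import Groth.Agent.W7Cover.Basic
import Groth.Agent.HQProj.Basic
import Groth.Agent.SmLocalST.SmoothField
import Groth.Agent.S9829

set_option autoImplicit false
open CategoryTheory CategoryTheory.Limits AlgebraicGeometry
open ZCorr
set_option backward.isDefEq.respectTransparency false

namespace Groth.Agent.S18267

/-- Over the complex numbers, suppose C is a quasi-projective curve that is smooth and irreducible and X
is a projective variety that is smooth and irreducible; take Z to be an integral closed subscheme of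
C × X of dimension one whose projection to C is surjective (a non-vertical irreducible component of
a correspondence from C to X). Then the projection Z → C is finite and flat. -/
theorem result
    (C X : Scheme.{0}) [C.Over (Spec (CommRingCat.of ℂ))] [X.Over (Spec (CommRingCat.of ℂ))]
    [AlgebraicGeometry.IsIntegral C] [Smooth (C ↘ Spec (CommRingCat.of ℂ))] (hC : RelProj.IsHQuasiProjective (C ↘ Spec (CommRingCat.of ℂ)))
    (hdimC : topologicalKrullDim C = 1)
    [AlgebraicGeometry.IsIntegral X] [Smooth (X ↘ Spec (CommRingCat.of ℂ))] (hX : RelProj.IsHProjective (X ↘ Spec (CommRingCat.of ℂ)))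
    {Z : Scheme.{0}} (i : Z ⟶ pullback (C ↘ Spec (CommRingCat.of ℂ)) (X ↘ Spec (CommRingCat.of ℂ))) [IsClosedImmersion i]
    [AlgebraicGeometry.IsIntegral Z] (hdimZ : topologicalKrullDim Z = 1)
    (hsurj : Function.Surjective ⇑(i ≫ pullback.fst (C ↘ Spec (CommRingCat.of ℂ)) (X ↘ Spec (CommRingCat.of ℂ)))) :
    IsFinite (i ≫ pullback.fst (C ↘ Spec (CommRingCat.of ℂ)) (X ↘ Spec (CommRingCat.of ℂ))) ∧
      Flat (i ≫ pullback.fst (C ↘ Spec (CommRingCat.of ℂ)) (X ↘ Spec (CommRingCat.of ℂ))) := by
  skip
  haveI : IsProper (X ↘ Spec (CommRingCat.of ℂ)) := by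
    obtain ⟨n, j, hj, he⟩ := hX
    haveI := Groth.Agent.HQProj.isProper_toBase n (Spec (CommRingCat.of ℂ))
    rw [← he]; infer_instance
  haveI : IsProper (pullback.fst (C ↘ Spec (CommRingCat.of ℂ)) (X ↘ Spec (CommRingCat.of ℂ))) := MorphismProperty.pullback_fst (C ↘ Spec (CommRingCat.of ℂ)) (X ↘ Spec (CommRingCat.of ℂ)) inferInstance
  obtain ⟨n, j, hj, hqc, he⟩ := hC
  haveI := Groth.Agent.HQProj.isProper_toBase n (Spec (CommRingCat.of ℂ))
  haveI : IsSeparated (C ↘ Spec (CommRingCat.of ℂ)) := by rw [← he]; infer_instance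
  haveI : QuasiCompact (C ↘ Spec (CommRingCat.of ℂ)) := by rw [← he]; infer_instance
  let f : Z ⟶ C := i ≫ pullback.fst (C ↘ Spec (CommRingCat.of ℂ)) (X ↘ Spec (CommRingCat.of ℂ))
  haveI : IsProper f := inferInstanceAs (IsProper (i ≫ pullback.fst (C ↘ Spec (CommRingCat.of ℂ)) (X ↘ Spec (CommRingCat.of ℂ))))
  let p := f ≫ (C ↘ Spec (CommRingCat.of ℂ))
  haveI : LocallyOfFiniteType p := inferInstanceAs (LocallyOfFiniteType (f ≫ (C ↘ Spec (CommRingCat.of ℂ))))
  haveI : QuasiCompact p := inferInstanceAs (QuasiCompact (f ≫ (C ↘ Spec (CommRingCat.of ℂ))))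
  change IsFinite f ∧ Flat f
  change Function.Surjective f at hsurj
  haveI : IsNoetherian C := Groth.Agent.LocImmBlow.isNoetherian_of_ft (C ↘ Spec (CommRingCat.of ℂ))
  haveI : IsNoetherian Z := Groth.Agent.LocImmBlow.isNoetherian_of_ft p
  have hN : ∀ y : C, IsIntegrallyClosed (C.presheaf.stalk y) := fun y => by
    haveI := Groth.Agent.SmLocalST.isRegularLocalRing_stalk_of_smooth_field (C ↘ Spec (CommRingCat.of ℂ)) y
    exact Groth.Agent.S9829.result (C.presheaf.stalk y)
  have hnc : (Set.range f.base).Nontrivial := by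
    rw [hsurj.range_eq]
    by_contra hn
    haveI : Subsingleton C := Set.subsingleton_univ_iff.1 (Set.not_nontrivial_iff.1 hn)
    haveI : Subsingleton (TopologicalSpace.IrreducibleCloseds C) := ⟨fun a b => TopologicalSpace.IrreducibleCloseds.ext
      ((Set.Nonempty.eq_univ a.2.nonempty).trans (Set.Nonempty.eq_univ b.2.nonempty).symm)⟩
    have : topologicalKrullDim C ≤ 0 := Order.krullDim_nonpos_of_subsingleton
    rw [hdimC] at this
    exact absurd this (by decide)
  have e := Groth.Agent.W7Cover.map_genericPoint (C ↘ Spec (CommRingCat.of ℂ)) hdimC.le f hnc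
  refine ⟨?_, Groth.Agent.W7Cover.flat_of_map_genericPoint hdimC.le hN f e⟩
  haveI : LocallyQuasiFinite f := by
    refine LocallyQuasiFinite.of_finite_preimage_singleton _ fun y => ?_
    by_cases hy : y = genericPoint C
    · refine (Set.finite_singleton (genericPoint Z)).subset fun w hw => ?_
      by_contra hne
      have hcl := f.isClosedMap _ (Groth.Agent.W7Cover.isClosed_of_ne_genericPoint p hdimZ.le hne)
      rw [Set.image_singleton, show f w = y from hw, hy] at hcl
      obtain ⟨a, -, b, -, hab⟩ := hnc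
      have h1 : ∀ z : C, z = genericPoint C := fun z => by
        have h := (genericPoint_spec C).specializes (Set.mem_univ z)
        rw [specializes_iff_mem_closure, hcl.closure_eq] at h
        exact h
      exact hab ((h1 a).trans (h1 b).symm)
    · refine Groth.Agent.WeilLib.finite_of_forall_isClosed
        ((Groth.Agent.W7Cover.isClosed_of_ne_genericPoint (C ↘ Spec (CommRingCat.of ℂ)) hdimC.le hy).preimage f.continuous) fun w hw =>
        Groth.Agent.W7Cover.isClosed_of_ne_genericPoint p hdimZ.le fun h => hy ?_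
      rw [← e, ← h]
      exact (Set.mem_singleton_iff.1 hw).symm
  exact IsFinite.of_isProper_of_locallyQuasiFinite f

end Groth.Agent.S18267
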