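import Groth.Statements.S18272
import Groth.Agent.Rosenlicht.Product
import Groth.Agent.GrpField.RatClosure
import Groth.Agent.AVAmple.Translate
import Groth.Agent.AVDeg.EulerDegenerate


set_option autoImplicit false
open CategoryTheory MonoidalCategory CartesianMonoidalCategory MonObj GrpObj AlgebraicGeometry
open AbVar

namespace Groth.Agent.S18272

set_option backward.isDefEq.respectTransparency false
set_option linter.style.haveILetI false

section Gen

variable {k : Type} [Field k] [IsAlgClosed k] {A : Over (Spec (CommRingCat.of k))} [GrpObj A] [IsProper A.hom]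

open Groth.Agent.GrpField.RatClosure (pt)

/-- The rational points in a subset. -/
def ptsIn (Z : Set A.left) : Set (𝟙_ (Over (Spec (CommRingCat.of k))) ⟶ A) := {a | pt a ∈ Z}

theorem closure_pts {Z : Set A.left} (hZ : IsClosed Z) : closure (pt '' ptsIn Z) = Z := by
  haveI : JacobsonSpace A.left := LocallyOfFiniteType.jacobsonSpace A.hom
  refine subset_antisymm (hZ.closure_subset_iff.2 (by rintro _ ⟨a, ha, rfl⟩; exact ha)) ?_
  conv_lhs => rw [← closure_inter_closedPoints hZ]
  refine closure_mono ?_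
  rintro z ⟨hz, hzc⟩
  obtain ⟨a, ha⟩ := Groth.Agent.AVAmple.exists_point (A := A) hzc
  exact ⟨a, by show pt a ∈ Z; rwa [show pt a = z from ha], ha⟩

/-- The set of quotients of an irreducible closed subset by itself. -/
theorem exists_div {Z : Set A.left} (hZ : IsClosed Z) (hi : IsIrreducible Z) :
    ∃ W : Set A.left, IsClosed W ∧ IsIrreducible W ∧
      ∀ c, c ∈ ptsIn W ↔ ∃ a ∈ ptsIn Z, ∃ b ∈ ptsIn Z, c = a * b⁻¹ := by
  let C : TopologicalSpace.Closeds A.left := ⟨Z, hZ⟩
  let I := Scheme.IdealSheafData.vanishingIdeal C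
  let H : Over (Spec (CommRingCat.of k)) := Over.mk (I.subschemeι ≫ A.hom)
  let i : H ⟶ A := Over.homMk I.subschemeι
  have hr : Set.range i.left = Z := by
    change Set.range I.subschemeι = _
    rw [Scheme.IdealSheafData.range_subschemeι, Scheme.IdealSheafData.coe_support_vanishingIdeal]
    rfl
  haveI : IsClosedImmersion i.left := inferInstanceAs (IsClosedImmersion I.subschemeι)
  haveI : IsReduced H.left := Groth.Agent.GrpField.isReduced_vanishingIdeal C
  haveI : IsProper H.hom := inferInstanceAs (IsProper (I.subschemeι ≫ A.hom))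
  haveI : IrreducibleSpace H.left := by
    have h : IsIrreducible (Set.range i.left) := hr.symm ▸ hi
    exact i.left.isClosedEmbedding.isEmbedding.toHomeomorph.irreducibleSpace_iff.2 (Subtype.irreducibleSpace h)
  haveI : IsIntegral H.left := isIntegral_of_irreducibleSpace_of_isReduced _
  haveI := Groth.Agent.Rosenlicht.isIntegral_tensor H H
  haveI : IsProper (H ⊗ H).hom := inferInstanceAs (IsProper (Limits.pullback.fst H.hom H.hom ≫ H.hom))
  let d : H ⊗ H ⟶ A := (fst H H ≫ i) * (snd H H ≫ i)⁻¹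
  haveI : IsProper d.left := by
    haveI : IsProper (d.left ≫ A.hom) := by rw [Over.w]; infer_instance
    exact IsProper.of_comp _ A.hom
  refine ⟨Set.range d.left, d.left.isClosedMap.isClosed_range, ?_, fun c => ⟨?_, ?_⟩⟩
  · rw [← Set.image_univ]
    exact (IrreducibleSpace.isIrreducible_univ _).image _ d.left.continuous.continuousOn
  · intro hc
    haveI : JacobsonSpace (H ⊗ H).left := LocallyOfFiniteType.jacobsonSpace (H ⊗ H).hom
    obtain ⟨z, hz⟩ := hc
    have hcl : IsClosed ({pt c} : Set A.left) :=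
      ((pointEquivClosedPoint A.hom) ⟨c.left, Over.w c⟩).2
    obtain ⟨w, hw, hwc⟩ := nonempty_inter_closedPoints (Z := d.left ⁻¹' {pt c}) ⟨z, hz⟩
      (hcl.preimage d.left.continuous).isLocallyClosed
    let p := (pointEquivClosedPoint (H ⊗ H).hom).symm ⟨w, hwc⟩
    have hp : p.1 (IsLocalRing.closedPoint k) = w :=
      congrArg Subtype.val ((pointEquivClosedPoint (H ⊗ H).hom).apply_symm_apply ⟨w, hwc⟩)
    let q : 𝟙_ (Over (Spec (CommRingCat.of k))) ⟶ H ⊗ H := Over.homMk p.1 p.2
    have hq : q ≫ d = c := by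
      refine Over.OverMorphism.ext (ext_of_apply_closedPoint_eq A.hom (Over.w (q ≫ d)) (Over.w c) ?_)
      show d.left (p.1 (IsLocalRing.closedPoint k)) = pt c
      rw [hp]
      exact hw
    refine ⟨q ≫ fst H H ≫ i, ?_, q ≫ snd H H ≫ i, ?_, ?_⟩
    · show pt _ ∈ Z
      rw [← hr, ← Category.assoc]
      exact ⟨pt (q ≫ fst H H), rfl⟩
    · show pt _ ∈ Z
      rw [← hr, ← Category.assoc]
      exact ⟨pt (q ≫ snd H H), rfl⟩
    · rw [← hq, MonObj.comp_mul, GrpObj.comp_inv]
  · rintro ⟨a, ha, b, hb, rfl⟩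
    have hlift : ∀ t : 𝟙_ (Over (Spec (CommRingCat.of k))) ⟶ A, t ∈ ptsIn Z → ∃ l, l ≫ i = t := by
      intro t ht
      haveI : IsReduced (𝟙_ (Over (Spec (CommRingCat.of k)))).left :=
        inferInstanceAs (IsReduced (Spec (CommRingCat.of k)))
      have hk : i.left.ker ≤ t.left.ker := by
        change I.subschemeι.ker ≤ _
        rw [Scheme.IdealSheafData.ker_subschemeι]
        refine Groth.Agent.RedKer.vanishingIdeal_le_ker t.left C ?_
        rintro _ ⟨z, rfl⟩
        haveI : Subsingleton (𝟙_ (Over (Spec (CommRingCat.of k)))).left :=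
          inferInstanceAs (Subsingleton (PrimeSpectrum k))
        rw [Subsingleton.elim z (IsLocalRing.closedPoint k)]
        exact ht
      refine ⟨Over.homMk (IsClosedImmersion.lift i.left t.left hk) ?_, ?_⟩
      · rw [← Over.w i, IsClosedImmersion.lift_fac_assoc, Over.w]
      · ext1
        exact IsClosedImmersion.lift_fac _ _ _
    obtain ⟨la, rfl⟩ := hlift a ha
    obtain ⟨lb, rfl⟩ := hlift b hb
    refine ⟨(lift la lb).left (IsLocalRing.closedPoint k), ?_⟩
    rw [← Scheme.Hom.comp_apply, ← Over.comp_left]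
    simp only [d, MonObj.comp_mul, GrpObj.comp_inv, lift_fst_assoc, lift_snd_assoc]

end Gen

/-- Let A be an abelian variety over the complex numbers (a proper integral group scheme over Spec of
the complex numbers), G an abstract group and f : A(ℂ) → G a homomorphism from the group of complex
points. If V ⊂ A is an irreducible closed subset containing the neutral element and every complex
point lying in V is in the kernel of f, then there is an abelian subvariety A' ⊂ A (an integral
closed subgroup scheme) containing V and with all its complex points in the kernel of f. -/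
theorem result
    (A : Over (Spec (CommRingCat.of ℂ))) [GrpObj A] [IsProper A.hom] [AlgebraicGeometry.IsIntegral A.left]
    (G : Type) [Group G] (f : (𝟙_ (Over (Spec (CommRingCat.of ℂ))) ⟶ A) →* G)
    (V : Set ↥A.left) (hVcl : IsClosed V) (hVirr : IsIrreducible V)
    (hV1 : Set.range ⇑(η[A]).left ⊆ V)
    (hVker : ∀ a : 𝟙_ (Over (Spec (CommRingCat.of ℂ))) ⟶ A, Set.range ⇑a.left ⊆ V → f a = 1) :
    ∃ (B : Over (Spec (CommRingCat.of ℂ))) (_ : GrpObj B) (incl : B ⟶ A), IsMonHom incl ∧ IsClosedImmersion incl.left ∧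
      AlgebraicGeometry.IsIntegral B.left ∧ V ⊆ Set.range ⇑incl.left ∧
      ∀ b : 𝟙_ (Over (Spec (CommRingCat.of ℂ))) ⟶ B, f (b ≫ incl) = 1 := by
  classical
  obtain ⟨g, hg⟩ : ∃ g : ℕ, topologicalKrullDim A.left = (g : WithBot ℕ∞) := by
    haveI : Nonempty A.left := ⟨η[A].left (IsLocalRing.closedPoint ℂ : ↥(Spec (CommRingCat.of ℂ)))⟩
    exact Groth.Agent.AVDeg.exists_dim A
  let Good : Set A.left → Prop := fun Z => IsClosed Z ∧ IsIrreducible Z ∧ V ⊆ Z ∧ ∀ a ∈ ptsIn Z, f a = 1
  have hsub : ∀ a : 𝟙_ (Over (Spec (CommRingCat.of ℂ))) ⟶ A, a ∈ ptsIn V → Set.range a.left ⊆ V := by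
    rintro a ha _ ⟨z, rfl⟩
    haveI : Subsingleton (𝟙_ (Over (Spec (CommRingCat.of ℂ)))).left :=
      inferInstanceAs (Subsingleton (PrimeSpectrum ℂ))
    rw [Subsingleton.elim z (IsLocalRing.closedPoint ℂ)]
    exact ha
  have hone : η[A] = (1 : 𝟙_ (Over (Spec (CommRingCat.of ℂ))) ⟶ A) := by
    rw [Hom.one_def, toUnit_unique (toUnit (𝟙_ _)) (𝟙 _), Category.id_comp]
  have hgood0 : Good V := ⟨hVcl, hVirr, subset_rfl, fun a ha => hVker a (hsub a ha)⟩
  have hstep : ∀ Z, Good Z → ∃ W, Good W ∧ Z ⊆ W ∧ ∀ a ∈ ptsIn Z, ∀ b ∈ ptsIn Z, a * b⁻¹ ∈ ptsIn W := by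
    rintro Z ⟨hc, hi, hV, hf⟩
    obtain ⟨W, hWc, hWi, hW⟩ := exists_div hc hi
    have h1 : (1 : 𝟙_ (Over (Spec (CommRingCat.of ℂ))) ⟶ A) ∈ ptsIn Z := hV (hV1 (by
      rw [← hone]; exact ⟨_, rfl⟩))
    have hZW : Z ⊆ W := by
      rw [← closure_pts hc]
      refine hWc.closure_subset_iff.2 ?_
      rintro _ ⟨a, ha, rfl⟩
      exact (hW a).2 ⟨a, ha, 1, h1, by rw [inv_one, _root_.mul_one]⟩
    refine ⟨W, ⟨hWc, hWi, hV.trans hZW, fun c hc' => ?_⟩, hZW, fun a ha b hb => (hW _).2 ⟨a, ha, b, hb, rfl⟩⟩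
    obtain ⟨a, ha, b, hb, rfl⟩ := (hW c).1 hc'
    rw [map_mul, map_inv, hf a ha, hf b hb, inv_one, _root_.mul_one]
  -- a good set stable under quotients
  obtain ⟨Z, hZ, hdiv⟩ : ∃ Z, Good Z ∧ ∀ a ∈ ptsIn Z, ∀ b ∈ ptsIn Z, a * b⁻¹ ∈ ptsIn Z := by
    by_contra! hno
    have hchain : ∀ n : ℕ, ∃ p : LTSeries (TopologicalSpace.IrreducibleCloseds A.left), p.length = n ∧
        Good (p.last : Set A.left) := by
      intro n
      induction n with
      | zero => exact ⟨RelSeries.singleton _ ⟨V, hVirr, hVcl⟩, rfl, hgood0⟩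
      | succ n ih =>
        obtain ⟨p, hp, hgood⟩ := ih
        obtain ⟨W, hW, hsubW, hdivW⟩ := hstep _ hgood
        obtain ⟨a, ha, b, hb, hab⟩ := hno _ hgood
        have hlt : p.last < (⟨W, hW.2.1, hW.1⟩ : TopologicalSpace.IrreducibleCloseds A.left) := by
          refine lt_of_le_of_ne hsubW fun h => hab ?_
          have := hdivW a ha b hb
          rwa [show W = (p.last : Set A.left) from
            (congrArg (fun Z : TopologicalSpace.IrreducibleCloseds A.left => (Z : Set A.left)) h).symm] at this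
        exact ⟨p.snoc _ hlt, by simp [hp], by simpa using hW⟩
    obtain ⟨p, hp, -⟩ := hchain (g + 1)
    have h : (p.length : WithBot ℕ∞) ≤ Order.krullDim (TopologicalSpace.IrreducibleCloseds A.left) := Order.LTSeries.length_le_krullDim p
    rw [show Order.krullDim (TopologicalSpace.IrreducibleCloseds A.left) = (g : WithBot ℕ∞) from hg, hp] at h
    have h' : g + 1 ≤ g := by exact_mod_cast h
    omega
  obtain ⟨hc, hi, hV, hf'⟩ := hZ
  have h1 : (1 : 𝟙_ (Over (Spec (CommRingCat.of ℂ))) ⟶ A) ∈ ptsIn Z := hV (hV1 (by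
    rw [← hone]; exact ⟨_, rfl⟩))
  let S : Subgroup (𝟙_ (Over (Spec (CommRingCat.of ℂ))) ⟶ A) :=
    Subgroup.ofDiv (ptsIn Z) ⟨1, h1⟩ hdiv
  obtain ⟨B, hB, i, hmon, hcl, hsm, hrange⟩ := Groth.Agent.GrpField.RatClosure.exists_subgroup_closure S
  rw [show (S : Set _) = ptsIn Z from rfl, closure_pts hc] at hrange
  haveI := hcl
  haveI := hsm
  haveI : IsReduced B.left :=
    haveI := Groth.Agent.Rigid.geometricallyReduced_of_smooth B.hom
    GeometricallyReduced.isReduced_of_flat_of_isLocallyNoetherian B.hom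
  haveI : IrreducibleSpace B.left := by
    have h : IsIrreducible (Set.range i.left) := hrange.symm ▸ hi
    exact i.left.isClosedEmbedding.isEmbedding.toHomeomorph.irreducibleSpace_iff.2 (Subtype.irreducibleSpace h)
  refine ⟨B, hB, i, hmon, hcl, isIntegral_of_irreducibleSpace_of_isReduced _, hrange.symm ▸ hV, fun b => hf' _ ?_⟩
  show _ ∈ Z
  rw [← hrange]
  exact ⟨b.left (IsLocalRing.closedPoint ℂ), rfl⟩

end Groth.Agent.S18272
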