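import Groth.Statements.S18281
import Groth.Agent.S0386
import Groth.Agent.Rigid.DimDrop
import Groth.Agent.LimDesc.DescendQF
import Groth.Agent.HQProj.Basic
-- import your own Groth.Agent.* helpers here

set_option autoImplicit false
open CategoryTheory CategoryTheory.Limits AlgebraicGeometry
open ZCorr

open CategoryTheory CategoryTheory.Limits AlgebraicGeometry
set_option linter.style.haveILetI false
set_option backward.isDefEq.respectTransparency false

namespace Groth.Agent.S18281

universe u

variable {k : Type u} [Field k] {X Y : Scheme.{u}}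
  (p : X ⟶ Spec (CommRingCat.of k)) (q : Y ⟶ Spec (CommRingCat.of k)) [LocallyOfFiniteType p] [LocallyOfFiniteType q]

include p q in
/-- the closure of a point has at least the dimension of the closure of its image -/
lemma pdim_map_le (f : X ⟶ Y) (hf : f ≫ q = p) (x : X) :
    WeilCoh.pdim Y (f x) ≤ WeilCoh.pdim X x := by
  letI := (WeilLib.kStr q (f x)).toAlgebra
  letI := (WeilLib.kStr p x).toAlgebra
  letI := (f.residueFieldMap x).hom.toAlgebra
  haveI : IsScalarTower k (Y.residueField (f x)) (X.residueField x) :=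
    IsScalarTower.of_algebraMap_eq fun a ↦ (RingHom.congr_fun (WeilLib.kStr_comp p f q hf x) a).symm
  have h := trdeg_add_eq k (Y.residueField (f x)) (A := X.residueField x)
  have h1 := (WeilLib.exists_pdim_eq_trd p x).1
  have h2 := (WeilLib.exists_pdim_eq_trd q (f x)).1
  have h3 : (WeilCoh.pdim Y (f x) : Cardinal.{u}) ≤ (WeilCoh.pdim X x : Cardinal.{u}) :=
    h2 ▸ h1 ▸ (le_self_add.trans_eq h)
  exact_mod_cast h3

/-- the flat locus and the finite locus of a proper map of varieties of the same dimension -/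
lemma main [IsIntegral X] [IsIntegral Y] (f : X ⟶ Y) [IsProper f] (hf : f ≫ q = p) (n : ℕ)
    (hX : topologicalKrullDim X = n) (hY : topologicalKrullDim Y = n) :
    (IsOpen {w : Y | ∀ z : X, f z = w → (f.stalkMap z).hom.Flat} ∧
      {w : Y | ∀ z : X, f z = w → (f.stalkMap z).hom.Flat}.Nonempty) ∧
    ∃ U : Y.Opens, (U : Set Y) = {w : Y | (f ⁻¹' {w}).Finite} ∧ (U : Set Y).Nonempty ∧ IsFinite (f ∣_ U) := by
  haveI : IsLocallyNoetherian Y := LocallyOfFiniteType.isLocallyNoetherian q
  haveI : LocallyOfFinitePresentation f := LocallyOfFinitePresentation.iff_locallyOfFiniteType.2 inferInstance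
  have himg : ∀ P : X → Prop, IsOpen {x | P x} → IsOpen {w : Y | ∀ z : X, f z = w → P z} := by
    intro P hP
    have : {w : Y | ∀ z : X, f z = w → P z} = (f '' {x | P x}ᶜ)ᶜ := by
      ext w
      exact ⟨fun h ⟨z, hz, hzw⟩ => hz (h z hzw), fun h z hzw => by_contra fun hz => h ⟨z, hz, hzw⟩⟩
    rw [this]
    exact (f.isClosedMap _ hP.isClosed_compl).isOpen_compl
  have hgen : ∀ z : X, f z = genericPoint Y → z = genericPoint X := by
    intro z hz
    by_contra hne
    have h1 := WeilLib.pdim_lt p (genericPoint_specializes z) hne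
    have h2 := pdim_map_le p q f hf z
    rw [hz] at h2
    rw [Rigid.topologicalKrullDim_eq_pdim p] at hX
    rw [Rigid.topologicalKrullDim_eq_pdim q] at hY
    have e1 : WeilCoh.pdim X (genericPoint X) = n := by exact_mod_cast hX
    have e2 : WeilCoh.pdim Y (genericPoint Y) = n := by exact_mod_cast hY
    omega
  refine ⟨⟨himg _ (Groth.Agent.S0386.result f), genericPoint Y, fun z hz => ?_⟩, ?_⟩
  · have h1 : ∀ y : Y, y = genericPoint Y → IsField (Y.presheaf.stalk y) := by
      rintro _ rfl
      exact Field.toIsField Y.functionField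
    letI := (h1 _ hz).toField
    letI := (f.stalkMap z).hom.toAlgebra
    show Module.Flat (Y.presheaf.stalk (f z)) (X.presheaf.stalk z)
    exact Module.Flat.of_free
  have hqf : ∀ w : Y, (∀ z : X, f z = w → f.QuasiFiniteAt z) ↔ (f ⁻¹' {w}).Finite := by
    intro w
    constructor
    · intro h
      haveI : DiscreteTopology ↥(f.fiber w) := discreteTopology_iff_isOpen_singleton.2 fun z => by
        rw [show ({z} : Set ↥(f.fiber w)) = (f.fiberHomeo w) ⁻¹' {f.fiberHomeo w z} from
          (Set.preimage_image_eq {z} (f.fiberHomeo w).injective).symm.trans (by rw [Set.image_singleton])]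
        refine (f.fiberHomeo w).continuous.isOpen_preimage _ ?_
        rw [← Set.image_singleton, (f.fiberHomeo w).isOpen_image, ← LimDesc.quasiFiniteAt_fiberι_iff]
        exact h _ (by
          have h2 : f.fiberι w z ∈ f ⁻¹' {w} := f.range_fiberι w ▸ Set.mem_range_self z
          exact h2)
      haveI : Finite ↥(f.fiber w) := finite_of_compact_of_discrete
      rw [← f.range_fiberι w]
      exact Set.finite_range _
    · intro h z hz
      subst hz
      haveI : Finite ↥(f ⁻¹' {f z}) := h.to_subtype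
      haveI : Finite ↥(f.fiber (f z)) := Finite.of_equiv _ (f.fiberHomeo (f z)).toEquiv.symm
      rw [Scheme.Hom.quasiFiniteAt_iff_isOpen_singleton_asFiber]
      exact isOpen_discrete _
  let U : Y.Opens := ⟨_, himg f.QuasiFiniteAt f.isOpen_quasiFiniteAt⟩
  have hU : (U : Set Y) = {w : Y | (f ⁻¹' {w}).Finite} := Set.ext hqf
  refine ⟨U, hU, ⟨genericPoint Y, ?_⟩, ?_⟩
  · rw [hU]
    exact (Set.finite_singleton (genericPoint X)).subset fun z hz => hgen z hz
  · haveI : LocallyQuasiFinite (f ∣_ U) := LimDesc.locallyQuasiFinite_of_forall_quasiFiniteAt _ fun z => by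
      have h1 : ((f ⁻¹ᵁ U).ι ≫ f).QuasiFiniteAt z :=
        Scheme.Hom.quasiFiniteAt_comp_iff_of_isOpenImmersion.2 (z.2 _ rfl)
      rw [← morphismRestrict_ι] at h1
      exact Scheme.Hom.quasiFiniteAt_comp_iff.1 h1
    exact IsFinite.of_isProper_of_locallyQuasiFinite _


/-- Over the complex numbers let W be a smooth irreducible quasi-projective variety of dimension n, X a
smooth irreducible projective variety, and Z an integral closed subscheme of X × W of dimension n
(an irreducible component of a correspondence from W to X), with projection π : Z → W. (a) The set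
of points of W over which π is flat (flat at every point of the fibre) is open and nonempty. (b) The
set U of points of W with finite fibre is open and nonempty, and π restricted over U is finite. -/
theorem result
    (W X : Scheme.{0}) [W.Over (Spec (CommRingCat.of ℂ))] [X.Over (Spec (CommRingCat.of ℂ))]
    [AlgebraicGeometry.IsIntegral W] [Smooth (W ↘ Spec (CommRingCat.of ℂ))] (hW : RelProj.IsHQuasiProjective (W ↘ Spec (CommRingCat.of ℂ)))
    (n : ℕ) (hdimW : topologicalKrullDim W = n)
    [AlgebraicGeometry.IsIntegral X] [Smooth (X ↘ Spec (CommRingCat.of ℂ))] (hX : RelProj.IsHProjective (X ↘ Spec (CommRingCat.of ℂ)))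
    {Z : Scheme.{0}} (i : Z ⟶ pullback (X ↘ Spec (CommRingCat.of ℂ)) (W ↘ Spec (CommRingCat.of ℂ))) [IsClosedImmersion i]
    [AlgebraicGeometry.IsIntegral Z] (hdimZ : topologicalKrullDim Z = n) :
    (IsOpen {w : W | ∀ z : Z, (i ≫ pullback.snd (X ↘ Spec (CommRingCat.of ℂ)) (W ↘ Spec (CommRingCat.of ℂ))) z = w →
        ((i ≫ pullback.snd (X ↘ Spec (CommRingCat.of ℂ)) (W ↘ Spec (CommRingCat.of ℂ))).stalkMap z).hom.Flat} ∧
      {w : W | ∀ z : Z, (i ≫ pullback.snd (X ↘ Spec (CommRingCat.of ℂ)) (W ↘ Spec (CommRingCat.of ℂ))) z = w →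
        ((i ≫ pullback.snd (X ↘ Spec (CommRingCat.of ℂ)) (W ↘ Spec (CommRingCat.of ℂ))).stalkMap z).hom.Flat}.Nonempty) ∧
    ∃ U : W.Opens, (U : Set W) = {w : W | ((i ≫ pullback.snd (X ↘ Spec (CommRingCat.of ℂ)) (W ↘ Spec (CommRingCat.of ℂ))) ⁻¹' {w}).Finite} ∧
      (U : Set W).Nonempty ∧ IsFinite ((i ≫ pullback.snd (X ↘ Spec (CommRingCat.of ℂ)) (W ↘ Spec (CommRingCat.of ℂ))) ∣_ U) := by
  obtain ⟨m, j, hj, hjf⟩ := hX
  haveI := hj
  haveI : IsProper (CohB1.ProjSpaceOver.toBase m (Spec (CommRingCat.of ℂ))) := HQProj.isProper_toBase m _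
  haveI : IsProper (X ↘ Spec (CommRingCat.of ℂ)) := by rw [← hjf]; infer_instance
  exact main ((i ≫ pullback.snd _ _) ≫ (W ↘ Spec (CommRingCat.of ℂ))) (W ↘ Spec (CommRingCat.of ℂ))
    (i ≫ pullback.snd _ _) rfl n hdimZ hdimW

end Groth.Agent.S18281
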