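import Groth.Statements.S1829
import Groth.Agent.DualFlat.Apps

set_option autoImplicit false
universe u
open CategoryTheory
attribute [local instance] HasDerivedCategory.standard
open Dual

namespace Groth.Agent.S1829

/-- Let A → B be a faithfully flat local complete intersection homomorphism of Noetherian rings and K an
object of D(A); assume the derived base change functor D(A) → D(B) exists. Then K is a dualizing
complex for A if and only if its base change is a dualizing complex for B. -/
theorem result (A B : Type u) [CommRing A] [CommRing B] [Algebra A B] [IsNoetherianRing A] [IsNoetherianRing B] [Module.FaithfullyFlat A B] (hl : LCI.IsLCI A B) [DRing.HasLBaseChange (algebraMap A B)] (K : Dual.D A) : Dual.IsDualizing A K ↔ Dual.IsDualizing B ((DRing.LBaseChange (algebraMap A B)).obj K) := by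
  have hft : Algebra.FiniteType A B := by
    obtain ⟨-, n, f, hf, -⟩ := id hl
    exact Algebra.FiniteType.of_surjective f hf
  haveI := hft
  exact ⟨fun hK => DualFlat.isDualizing_lBaseChange_finiteType B K
    (DualFlat.gorFibres_of_fibres B fun P _ => Goren.isGorensteinRing_fibre A B hl P.ResidueField) hK,
    DualFlat.isDualizing_of_lBaseChange B K⟩

end Groth.Agent.S1829
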