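import Groth.Statements.S18299
import Groth.Agent.FpqcDescent.IdealGlue
import Mathlib.AlgebraicGeometry.Sites.Fpqc

set_option autoImplicit false
universe u
open CategoryTheory MonoidalCategory CartesianMonoidalCategory MonObj AlgebraicGeometry Opposite
open Magnet CategoryTheory.Limits

namespace Groth.Agent.S18299

section
variable {S : Scheme.{u}} {A : Over S} [MonObj A] {U X : Over S}

/-- A scheme-valued point is fixed. -/
def Fixed (a : Magnet.MonAct A U) {Z : Scheme.{u}} (q : Z ⟶ U.left) : Prop :=
  ∀ (T' : Over S) (t : T' ⟶ Over.mk (q ≫ U.hom)) (g : T' ⟶ A),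
    lift g (t ≫ (Over.homMk q : Over.mk (q ≫ U.hom) ⟶ U)) ≫ a.act = t ≫ Over.homMk q

theorem fixed_iff (a : Magnet.MonAct A U) {T : Over S} (x : T ⟶ U) :
    Fixed a x.left ↔ ∀ (T' : Over S) (t : T' ⟶ T) (g : T' ⟶ A), lift g (t ≫ x) ≫ a.act = t ≫ x := by
  let e : Over.mk (x.left ≫ U.hom) ≅ T := Over.isoMk (Iso.refl _) (by simp)
  have he : e.hom ≫ x = Over.homMk (U := Over.mk (x.left ≫ U.hom)) (V := U) x.left := by ext : 1; simp [e]
  constructor
  · intro h T' t g
    have := h T' (t ≫ e.inv) g
    rwa [← he, Category.assoc, Iso.inv_hom_id_assoc] at this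
  · intro h T' t g
    rw [← he, ← Category.assoc]
    exact h T' _ g

theorem fixed_iff_of_flat_surjective (a : Magnet.MonAct A U) {Z Z' : Scheme.{u}} (p : Z' ⟶ Z) [Flat p]
    [Surjective p] (q : Z ⟶ U.left) : Fixed a (p ≫ q) ↔ Fixed a q := by
  let p' : Over.mk ((p ≫ q) ≫ U.hom) ⟶ Over.mk (q ≫ U.hom) := Over.homMk p (Category.assoc _ _ _).symm
  have hp : p' ≫ Over.homMk q = Over.homMk (p ≫ q) := by ext : 1; rfl
  constructor
  · intro h T' t g
    let T'' : Over S := Over.mk (pullback.fst t.left p ≫ T'.hom)
    let π : T'' ⟶ T' := Over.homMk (pullback.fst t.left p) rfl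
    let t' : T'' ⟶ Over.mk ((p ≫ q) ≫ U.hom) := Over.homMk (pullback.snd t.left p) (by
      show pullback.snd t.left p ≫ (p ≫ q) ≫ U.hom = pullback.fst t.left p ≫ T'.hom
      rw [← Over.w t, Category.assoc p, ← pullback.condition_assoc]
      rfl)
    have hc : t' ≫ p' = π ≫ t := by ext : 1; exact pullback.condition.symm
    have := h T'' t' (π ≫ g)
    rw [← hp, reassoc_of% hc, ← comp_lift, Category.assoc] at this
    haveI hπ : Epi π := by
      haveI : Epi π.left := Flat.epi_of_flat_of_surjective (pullback.fst t.left p)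
      exact Over.epi_of_epi_left π
    exact (cancel_epi π).mp this
  · intro h T' t g
    rw [← hp, ← Category.assoc]
    exact h T' _ g

/-- A fixed scheme-valued point as a point of the fixed-point functor. -/
def toPt (a : Magnet.MonAct A U) {Z : Scheme.{u}} (q : Z ⟶ U.left) (h : Fixed a q) :
    (Magnet.MonAct.fixedPsh a).obj (Opposite.op (Over.mk (q ≫ U.hom))) :=
  ⟨Over.homMk (U := Over.mk (q ≫ U.hom)) (V := U) q, h⟩

/-- The subfunctor of points killing a sheaf of ideals, as a representation of the fixed points. -/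
noncomputable def repr (a : Magnet.MonAct A X) (J : X.left.IdealSheafData)
    (hJ : ∀ (Z : Scheme.{u}) (q : Z ⟶ X.left), Fixed a q ↔ J ≤ q.ker) :
    (Magnet.MonAct.fixedPsh a).RepresentableBy (Over.mk (J.subschemeι ≫ X.hom)) where
  homEquiv {T} :=
    { toFun := fun w => ⟨w ≫ Over.homMk J.subschemeι, (fixed_iff a _).mp ((hJ _ _).mpr (by
        show J ≤ (w.left ≫ J.subschemeι).ker
        exact le_trans (le_of_eq J.ker_subschemeι.symm) (Scheme.Hom.le_ker_comp _ _)))⟩
      invFun := fun x => Over.homMk
        (IsClosedImmersion.lift J.subschemeι x.1.left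
          (le_trans (le_of_eq J.ker_subschemeι) ((hJ _ _).mp ((fixed_iff a x.1).mpr x.2)))) (by
          show _ ≫ J.subschemeι ≫ X.hom = T.hom
          rw [IsClosedImmersion.lift_fac_assoc]
          exact Over.w x.1)
      left_inv := fun w => by
        ext : 1
        rw [← cancel_mono J.subschemeι]
        simp
      right_inv := fun x => by
        apply Subtype.ext
        ext : 1
        simp }
  homEquiv_comp {T T'} t w := Subtype.ext (Category.assoc _ _ _)

end


section

open Opposite

variable {S : Scheme.{u}} {A : Over S} [MonObj A] {U X : Over S}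

theorem main (aX : Magnet.MonAct A X) (aU : Magnet.MonAct A U) (f : U ⟶ X) [Etale f.left] [Surjective f.left]
    (hf : Magnet.MonAct.IsEquivariant aU aX f)
    (hfpr : IsPullback (Magnet.MonAct.fixedPsh.map f hf) (Magnet.MonAct.fixedPshι aU)
      (Magnet.MonAct.fixedPshι aX) (yoneda.map f))
    (hU : ∃ (W' : Over S) (i' : W' ⟶ U) (e' : (Magnet.MonAct.fixedPsh aU).RepresentableBy W'),
      IsClosedImmersion i'.left ∧ ∀ (T : Over S) (w : T ⟶ W'),
        (Magnet.MonAct.fixedPshι aU).app (op T) (e'.homEquiv w) = w ≫ i') :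
    ∃ (W : Over S) (i : W ⟶ X) (e : (Magnet.MonAct.fixedPsh aX).RepresentableBy W),
      IsClosedImmersion i.left ∧ ∀ (T : Over S) (w : T ⟶ W),
        (Magnet.MonAct.fixedPshι aX).app (op T) (e.homEquiv w) = w ≫ i := by
  obtain ⟨W', i', e', hi', he'⟩ := hU
  let I := i'.left.ker
  have hI : ∀ (Z : Scheme.{u}) (q : Z ⟶ U.left), Fixed aU q ↔ I ≤ q.ker := by
    intro Z q
    constructor
    · intro h
      have h' : (Over.homMk q : Over.mk (q ≫ U.hom) ⟶ U) =
          e'.homEquiv.symm (toPt aU q h) ≫
            i' := by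
        rw [← he', Equiv.apply_symm_apply]
        rfl
      show i'.left.ker ≤ q.ker
      rw [show q = (e'.homEquiv.symm (toPt aU q h)).left ≫ i'.left from
          congrArg CommaMorphism.left h']
      exact Scheme.Hom.le_ker_comp _ _
    · intro h
      let w : Over.mk (q ≫ U.hom) ⟶ W' := Over.homMk (IsClosedImmersion.lift i'.left q h) (by
        show _ ≫ W'.hom = q ≫ U.hom
        rw [← Over.w i', IsClosedImmersion.lift_fac_assoc])
      have hw : w ≫ i' = Over.homMk q := by ext : 1; exact IsClosedImmersion.lift_fac _ _ _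
      have := (e'.homEquiv w).2
      rw [show (e'.homEquiv w).1 = w ≫ i' from he' _ w, hw] at this
      exact this
  have hf2 : ∀ (Z : Scheme.{u}) (q : Z ⟶ U.left),
      Fixed aX (q ≫ f.left) ↔ Fixed aU q := by
    intro Z q
    let qo : Over.mk (q ≫ U.hom) ⟶ U := Over.homMk q
    rw [show q ≫ f.left = (qo ≫ f).left from rfl, fixed_iff,
      show Fixed aU q ↔ _ from fixed_iff _ qo]
    constructor
    · intro h
      obtain ⟨z, -, hz⟩ := Types.exists_of_isPullback
        (hfpr.app (op (Over.mk (q ≫ U.hom)))) ⟨qo ≫ f, h⟩ qo rfl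
      rw [← show z.1 = qo from hz]
      exact z.2
    · intro h T' t g
      have he := (Magnet.MonAct.isEquivariant_iff _ _ f).mp hf T' g (t ≫ qo)
      rw [← Category.assoc t, ← he, reassoc_of% (h T' t g)]
      exact (Category.assoc _ _ _).symm
  have hg : Presieve.ofArrows (fun _ : PUnit.{u + 1} => U.left) (fun _ => f.left) ∈
      Scheme.fpqcPrecoverage X.left := by
    rw [Presieve.ofArrows_pUnit]
    exact Scheme.fppfPrecoverage_le_fpqcPrecoverage _ f.left.singleton_mem_fppfPrecoverage
  have hcomp : ∀ {Z : Scheme.{u}} (z : Z ⟶ pullback f.left f.left),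
      I ≤ (z ≫ pullback.fst _ _).ker ↔ I ≤ (z ≫ pullback.snd _ _).ker := by
    intro Z z
    rw [← hI, ← hI, ← hf2, ← hf2, Category.assoc, Category.assoc, pullback.condition]
  have hsymm : I.comap (pullback.fst f.left f.left) = I.comap (pullback.snd f.left f.left) := by
    apply le_antisymm
    · have := (hcomp (I.comap (pullback.snd f.left f.left)).subschemeι).mpr (by
        rw [← Scheme.IdealSheafData.map_ker, Scheme.IdealSheafData.ker_subschemeι,
          Scheme.IdealSheafData.le_map_iff_comap_le])
      rwa [← Scheme.IdealSheafData.map_ker, Scheme.IdealSheafData.ker_subschemeι,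
        Scheme.IdealSheafData.le_map_iff_comap_le] at this
    · have := (hcomp (I.comap (pullback.fst f.left f.left)).subschemeι).mp (by
        rw [← Scheme.IdealSheafData.map_ker, Scheme.IdealSheafData.ker_subschemeι,
          Scheme.IdealSheafData.le_map_iff_comap_le])
      rwa [← Scheme.IdealSheafData.map_ker, Scheme.IdealSheafData.ker_subschemeι,
        Scheme.IdealSheafData.le_map_iff_comap_le] at this
  obtain ⟨J, hJ, -⟩ := Groth.Agent.FpqcDescent.existsUnique_descent hg (fun _ => I) (fun _ _ => hsymm)
  have hX : ∀ (Z : Scheme.{u}) (x : Z ⟶ X.left), Fixed aX x ↔ J ≤ x.ker := by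
    intro Z x
    let p := pullback.fst x f.left
    have h1 : Fixed aX x ↔ J ≤ (p ≫ x).ker := by
      rw [← fixed_iff_of_flat_surjective _ p, pullback.condition, hf2, hI, ← hJ ⟨⟩,
        ← Scheme.IdealSheafData.le_map_iff_comap_le, Scheme.IdealSheafData.map_ker]
    rw [h1]
    refine ⟨fun h => ?_, fun h => h.trans (Scheme.Hom.le_ker_comp _ _)⟩
    have hid : ∀ (V : Scheme.{u}) (r : V ⟶ X.left), J ≤ r.ker ↔ J.comap r ≤ ⊥ := fun V r => by
      rw [← Scheme.IdealSheafData.le_map_iff_comap_le, Scheme.IdealSheafData.map_bot]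
    rw [hid] at h ⊢
    rw [Scheme.IdealSheafData.comap_comp, le_bot_iff] at h
    have hp : Presieve.ofArrows (fun _ : PUnit.{u + 1} => pullback x f.left) (fun _ => p) ∈
        Scheme.fpqcPrecoverage Z := by
      rw [Presieve.ofArrows_pUnit]
      exact Scheme.fppfPrecoverage_le_fpqcPrecoverage _ p.singleton_mem_fppfPrecoverage
    exact le_of_eq ((Groth.Agent.FpqcDescent.existsUnique_descent hp (fun _ => ⊥) (fun _ _ => by simp)).unique
      (fun _ => h) (fun _ => Scheme.IdealSheafData.comap_bot _))
  refine ⟨_, Over.homMk J.subschemeι rfl, repr aX J hX, ?_, fun T w => rfl⟩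
  show IsClosedImmersion J.subschemeι
  infer_instance

end

/-- Let Q be a commutative group, X and U S-schemes with actions of the diagonalizable group scheme
D(Q)_S, and f : U → X an equivariant morphism over S which is étale and surjective and fixed-point
reflecting: the square formed by the fixed-point functors U^{D(Q)} → X^{D(Q)} over U → X is
cartesian (an FPR atlas). If the fixed-point functor of U is represented by a closed subscheme of U
— which holds when U is a disjoint union of D(Q)_S-stable S-affine schemes, by the affine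
representability of attractors — then the fixed-point functor of X is represented by a closed
subscheme of X, compatibly with its inclusion into X. (In the source Q = M/Z for a subgroup Z of a
commutative group M acting through D(M)_S, the fixed points of D(M/Z)_S being the attractor X^Z, and
X may be an algebraic space; here X is a scheme.) -/
theorem result (S : Scheme.{u}) (Q : Type)
    [AddCommGroup Q] (X U : Over S) (aX : AlgGrp.Action (Red.DS S Q) X) (aU : AlgGrp.Action (Red.DS S Q) U)
    (f : U ⟶ X) [Etale f.left] [Surjective f.left]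
    (hf : Magnet.MonAct.IsEquivariant (Magnet.MonAct.ofAction aU) (Magnet.MonAct.ofAction aX) f)
    (hfpr : IsPullback (Magnet.MonAct.fixedPsh.map f hf) (Magnet.MonAct.fixedPshι (Magnet.MonAct.ofAction aU))
      (Magnet.MonAct.fixedPshι (Magnet.MonAct.ofAction aX)) (yoneda.map f))
    (hU : ∃ (W' : Over S) (i' : W' ⟶ U) (e' : (Magnet.MonAct.fixedPsh (Magnet.MonAct.ofAction aU)).RepresentableBy W'),
      IsClosedImmersion i'.left ∧ ∀ (T : Over S) (w : T ⟶ W'),
        (Magnet.MonAct.fixedPshι (Magnet.MonAct.ofAction aU)).app (op T) (e'.homEquiv w) = w ≫ i') :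
    ∃ (W : Over S) (i : W ⟶ X) (e : (Magnet.MonAct.fixedPsh (Magnet.MonAct.ofAction aX)).RepresentableBy W),
      IsClosedImmersion i.left ∧ ∀ (T : Over S) (w : T ⟶ W),
        (Magnet.MonAct.fixedPshι (Magnet.MonAct.ofAction aX)).app (op T) (e.homEquiv w) = w ≫ i := by
  exact main (Magnet.MonAct.ofAction aX) (Magnet.MonAct.ofAction aU) f hf hfpr hU

end Groth.Agent.S18299
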