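import Groth.Statements.S18300
import Mathlib.AlgebraicGeometry.Pullbacks

set_option autoImplicit false
universe u
open CategoryTheory MonoidalCategory CartesianMonoidalCategory MonObj AlgebraicGeometry Opposite
open Magnet
open CategoryTheory.Limits

set_option backward.isDefEq.respectTransparency false
namespace Groth.Agent.S18300

/-- Let X be an S-scheme with an action of the diagonalizable monoid scheme A(M)_S of a commutative
monoid M, N a submonoid of M, and T an S-scheme; X_T = X ×_S T carries the base-changed action of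
A(M)_T. Then X^N ×_S T = (X_T)^N objectwise: for every scheme T'' over T, the value of the attractor
X^N at T'' (regarded over S) is in bijection with the value at T'' of the attractor of X_T, namely
the maps A(N)_T ×_T T'' → X_T equivariant for the base-changed actions; the bijection is pinned by
requiring that, under the identifications of both sides with equivariant morphisms between base
changes to T'', it is conjugation by the canonical isomorphisms (Y ×_S T) ×_T T'' ≅ Y ×_S T'' for Y
= A(N)_S and Y = X. (Naturality in T'' is not part of this statement; X may be an algebraic space in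
the source, here it is a scheme.) -/
theorem result (S : Scheme.{u}) (M : Type) [AddCommMonoid M] (N : AddSubmonoid M)
    (X : Over S) (a : Magnet.MonAct (Magnet.AMonS S M) X) (T : Over S) (T'' : Over T.left) :
    ∃ Φ : (Magnet.attr a N).obj (op ((Over.map T.hom).obj T'')) ≃
        (Magnet.MonAct.eqvHom ((Magnet.subAct S M N).bc T.hom) (a.bc T.hom)).obj (op T''),
      ∀ φ, (Magnet.eqvHomEquivBc T'' ((Magnet.subAct S M N).bc T.hom) (a.bc T.hom) (Φ φ)).1 ≫
          (ActBC.bcCompIso T''.hom T.hom X rfl).hom =
        (ActBC.bcCompIso T''.hom T.hom (Magnet.AMonS S N) rfl).hom ≫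
          (Magnet.eqvHomEquivBc ((Over.map T.hom).obj T'') (Magnet.subAct S M N) a φ).1 := by
  let adj := Over.mapPullbackAdj T.hom
  let B := Magnet.AMonS S N
  let ρ := Magnet.subAct S M N
  let β : (Over.map T.hom).obj (MonoidalCategoryStruct.tensorObj (Red.bc T.hom B) T'') ≅
      MonoidalCategoryStruct.tensorObj B ((Over.map T.hom).obj T'') :=
    Over.isoMk ((Over.forget T''.left).mapIso (ActBC.bcCompIso T''.hom T.hom B rfl)) (by
      show (ActBC.bcCompIso T''.hom T.hom B rfl).hom.left ≫ pullback.fst B.hom (T''.hom ≫ T.hom) ≫ B.hom =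
        (pullback.fst (pullback.snd B.hom T.hom) T''.hom ≫ pullback.snd B.hom T.hom) ≫ T.hom
      rw [ActBC.bcCompIso_hom_left_fst_assoc]
      erw [Category.assoc]
      rw [pullback.condition]
      rfl)
  have hβ : ∀ (W : Over T.left) (y : (Over.map T.hom).obj W ⟶ B) (w : W ⟶ T''),
      (Over.map T.hom).map (CartesianMonoidalCategory.lift (adj.homEquiv W B y) w) ≫ β.hom =
        CartesianMonoidalCategory.lift y ((Over.map T.hom).map w) := by
    intro W y w
    apply Over.OverMorphism.ext
    show (CartesianMonoidalCategory.lift (adj.homEquiv W B y) w).left ≫ (ActBC.bcCompIso T''.hom T.hom B rfl).hom.left = _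
    apply pullback.hom_ext
    · rw [Category.assoc, ActBC.bcCompIso_hom_left_fst, ← Category.assoc]
      erw [show (CartesianMonoidalCategory.lift (adj.homEquiv W B y) w).left ≫ pullback.fst _ _ = (adj.homEquiv W B y).left
        from congrArg CommaMorphism.left (CartesianMonoidalCategory.lift_fst (adj.homEquiv W B y) w)]
      refine Eq.trans ?_ (congrArg CommaMorphism.left (CartesianMonoidalCategory.lift_fst y ((Over.map T.hom).map w))).symm
      simp [adj, Adjunction.homEquiv_unit, Over.mapPullbackAdj]
    · rw [Category.assoc, ActBC.bcCompIso_hom_left_snd]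
      exact (congrArg CommaMorphism.left (CartesianMonoidalCategory.lift_snd (adj.homEquiv W B y) w)).trans
        (congrArg CommaMorphism.left (CartesianMonoidalCategory.lift_snd y ((Over.map T.hom).map w))).symm
  have hΦ : ∀ (φ : MonoidalCategoryStruct.tensorObj B ((Over.map T.hom).obj T'') ⟶ X) (W : Over T.left)
      (y : (Over.map T.hom).obj W ⟶ B) (w : W ⟶ T''),
      CartesianMonoidalCategory.lift (adj.homEquiv W B y) w ≫ adj.homEquiv _ X (β.hom ≫ φ) =
        adj.homEquiv W X (CartesianMonoidalCategory.lift y ((Over.map T.hom).map w) ≫ φ) := by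
    intro φ W y w
    rw [← Adjunction.homEquiv_naturality_left, ← Category.assoc, hβ]
  let Φ₀ : (MonoidalCategoryStruct.tensorObj B ((Over.map T.hom).obj T'') ⟶ X) ≃
      (MonoidalCategoryStruct.tensorObj (Red.bc T.hom B) T'' ⟶ Red.bc T.hom X) :=
    ((Iso.homFromEquiv β).symm).trans (adj.homEquiv _ X)
  have hiff : ∀ φ, MonAct.IsEquivariant (ρ.prod (MonAct.trivial _ _)) a φ ↔
      MonAct.IsEquivariant ((ρ.bc T.hom).prod (MonAct.trivial _ T'')) (a.bc T.hom) (Φ₀ φ) := by
    intro φ
    have e : Φ₀ φ = adj.homEquiv _ X (β.hom ≫ φ) := rfl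
    rw [MonAct.mem_eqvHom_iff, MonAct.mem_eqvHom_iff, e]
    constructor
    · intro h W g' b' w
      obtain ⟨g, rfl⟩ := (adj.homEquiv W _).surjective g'
      obtain ⟨b, rfl⟩ := (adj.homEquiv W _).surjective b'
      rw [MonAct.lift_homEquiv_bc_act, hΦ, hΦ, MonAct.lift_homEquiv_bc_act, h]
    · intro h T' g b t
      let W : Over T.left := Over.mk (t.left ≫ T''.hom)
      let i : (Over.map T.hom).obj W ≅ T' := Over.isoMk (Iso.refl _) (by
        show 𝟙 _ ≫ T'.hom = (t.left ≫ T''.hom) ≫ T.hom
        rw [Category.id_comp, ← Over.w t]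
        exact (Category.assoc _ _ _).symm)
      let w : W ⟶ T'' := Over.homMk t.left rfl
      have hw : (Over.map T.hom).map w = i.hom ≫ t := Over.OverMorphism.ext (Category.id_comp _).symm
      have h1 := h W (adj.homEquiv W _ (i.hom ≫ g)) (adj.homEquiv W _ (i.hom ≫ b)) w
      rw [MonAct.lift_homEquiv_bc_act, hΦ, hΦ, MonAct.lift_homEquiv_bc_act, hw] at h1
      have h2 := (adj.homEquiv W X).injective h1
      refine (cancel_epi i.hom).1 ?_
      rw [comp_lift_assoc, comp_lift_assoc, comp_lift_assoc, comp_lift_assoc]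
      exact h2
  refine ⟨Φ₀.subtypeEquiv hiff, fun φ => ?_⟩
  apply Over.OverMorphism.ext
  show (Magnet.toBc T'' (Φ₀ φ.1)).left ≫ (ActBC.bcCompIso T''.hom T.hom X rfl).hom.left =
    (ActBC.bcCompIso T''.hom T.hom B rfl).hom.left ≫ (Magnet.toBc ((Over.map T.hom).obj T'') φ.1).left
  apply pullback.hom_ext
  · rw [Category.assoc, ActBC.bcCompIso_hom_left_fst, Category.assoc]
    erw [reassoc_of% (Magnet.toBc_left_fst T'' (Φ₀ φ.1)), Magnet.toBc_left_fst ((Over.map T.hom).obj T'') φ.1]
    show (adj.homEquiv _ X (β.hom ≫ φ.1)).left ≫ pullback.fst X.hom T.hom = β.hom.left ≫ φ.1.left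
    simp [adj, Adjunction.homEquiv_unit, Over.mapPullbackAdj]
  · rw [Category.assoc, ActBC.bcCompIso_hom_left_snd, Category.assoc]
    refine (Magnet.toBc_left_snd T'' (Φ₀ φ.1)).trans ?_
    refine Eq.trans ?_ (congrArg (fun z => (ActBC.bcCompIso T''.hom T.hom B rfl).hom.left ≫ z)
      (Magnet.toBc_left_snd ((Over.map T.hom).obj T'') φ.1)).symm
    exact (ActBC.bcCompIso_hom_left_snd _ _ _ _).symm

end Groth.Agent.S18300
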