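import Groth.Statements.S18313
import Groth.Agent.HenselChart.Lift

set_option autoImplicit false
universe u
open CategoryTheory CategoryTheory.Limits AlgebraicGeometry
open AlgSp

namespace Groth.Agent.S18313

/-- Let R be a Henselian local ring, S = Spec R, and X an algebraic space over S which is smooth over S,
in the sense that there are a scheme U over S with smooth structure morphism U → S and a
representable étale, representable surjective morphism h_U → X. Then for every ideal a ≠ R, every
point h_{Spec (R/a)} → X over S is the composite of h_q with a point h_S → X over S, where q : Spec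
(R/a) → S is the closed immersion. The source states this for smooth algebraic stacks over R whose
diagonal has a separated fibre over the closed point (essential surjectivity on R/a-points); the
algebraic-space case is stated here. -/
theorem result (R : Type u) [CommRing R] [HenselianLocalRing R]
    (X : AlgSp.Space (Spec (CommRingCat.of R)))
    (hX : ∃ (U : Over (Spec (CommRingCat.of R))) (c : (AlgSp.yon (Spec (CommRingCat.of R))).obj U ⟶ X.obj),
      Smooth U.hom ∧ AlgSp.RepWith @Etale c ∧ AlgSp.RepWith @Surjective c)
    (a : Ideal R) (ha : a ≠ ⊤)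
    (x₀ : (AlgSp.yon (Spec (CommRingCat.of R))).obj (Over.mk (Spec.map (CommRingCat.ofHom (Ideal.Quotient.mk a)))) ⟶ X.obj) :
    ∃ x : (AlgSp.yon (Spec (CommRingCat.of R))).obj (Over.mk (𝟙 (Spec (CommRingCat.of R)))) ⟶ X.obj,
      (AlgSp.yon (Spec (CommRingCat.of R))).map (Over.homMk (Spec.map (CommRingCat.ofHom (Ideal.Quotient.mk a)))
        (Category.comp_id _) : Over.mk (Spec.map (CommRingCat.ofHom (Ideal.Quotient.mk a))) ⟶ Over.mk (𝟙 _)) ≫ x = x₀ := by
  obtain ⟨U, c, hU, hc, hcs⟩ := hX
  let str : Spec (CommRingCat.of R) ⟶ Spec (CommRingCat.of R) := 𝟙 _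
  let q : Over (Spec (CommRingCat.of R)) := Over.mk (Spec.map (CommRingCat.ofHom (Ideal.Quotient.mk a)) ≫ str)
  let e : q ⟶ Over.mk (Spec.map (CommRingCat.ofHom (Ideal.Quotient.mk a))) :=
    Over.homMk (𝟙 _) ((Category.id_comp _).trans (Category.comp_id _).symm)
  have hT : IsTerminal ((AlgSp.yon (Spec (CommRingCat.of R))).obj (Over.mk str)) :=
    Limits.IsTerminal.isTerminalObj _ _ (Over.mkIdTerminal (X := Spec (CommRingCat.of R)))
  obtain ⟨y, -, hy⟩ := Groth.Agent.HenselChart.exists_lift R str X.property (hT.from _)
    (fun Z p h hp _ => by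
      obtain ⟨W, w₁, w₂, sq, hw₂⟩ := X.property.exists_chart_pullback hc p
      haveI : Etale w₂.left := hw₂
      haveI : Surjective w₂.left := hcs.2 p _ w₂ sq
      haveI : Etale w₁.left := hp.2 c _ w₁ sq.flip
      haveI : Smooth U.hom := hU
      haveI : Smooth (w₂.left ≫ h.left) := by
        rw [show w₂.left ≫ h.left = w₁.left ≫ U.hom from (congrArg (w₂.left ≫ ·)
          ((Category.comp_id h.left).symm.trans (Over.w h))).trans ((Over.w w₂).trans (Over.w w₁).symm)]
        infer_instance
      exact Groth.Agent.AlgSpLib.SrcDesc.smooth w₂.left h.left)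
    a ha ((AlgSp.yon _).map e ≫ x₀) (hT.hom_ext _ _)
  refine ⟨y, ?_⟩
  let e' : Over.mk (Spec.map (CommRingCat.ofHom (Ideal.Quotient.mk a))) ⟶ q :=
    Over.homMk (𝟙 _) ((Category.id_comp _).trans (Category.comp_id _))
  have h1 : e' ≫ e = 𝟙 _ := Over.OverMorphism.ext (Category.id_comp _)
  have := congrArg ((AlgSp.yon _).map e' ≫ ·) hy
  rw [← Category.assoc, ← Category.assoc, ← Functor.map_comp, ← Functor.map_comp, h1,
    CategoryTheory.Functor.map_id, Category.id_comp] at this
  refine Eq.trans ?_ this
  exact congrArg (fun m => (AlgSp.yon _).map m ≫ y) (Over.OverMorphism.ext (Category.id_comp _).symm)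

end Groth.Agent.S18313
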