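import Groth.Statements.S18316
import Groth.Agent.ArtinAtlas.Neutral
import Groth.Agent.AlgStLib.LocQ
import Groth.Agent.S13594
import Groth.Agent.AlgSpLib.Singleton

set_option autoImplicit false
universe u
open CategoryTheory AlgebraicGeometry MonoidalCategory
open AlgSt

namespace Groth.Agent.S18316

/-- Let S be a scheme and G a group algebraic space over S, given as a group object over the terminal
fppf sheaf h_S on schemes over S whose underlying sheaf is an algebraic space, with G → h_S flat and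
locally of finite presentation (étale locally on the source and target). Then the classifying stack
BG over (Sch/S), whose objects over T are the fppf G_T-torsors given as fppf sheaves, is smooth over
S in the chart sense: there are schemes U, V over S, a functor (Sch/U) → BG over (Sch/S) which is
representable by algebraic spaces, smooth and surjective, a smooth (Sch/V) → (Sch/S) and a smooth
S-morphism U → V making the square commute up to isomorphism. -/
theorem result (S : Scheme.{u})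
    (G : Over ((AlgSp.yon S).obj (Over.mk (𝟙 S)))) [GrpObj G] (hG : AlgSp.IsAlgSpace G.left)
    (hf : AlgSp.LocP (@Flat ⊓ @LocallyOfFinitePresentation) G.hom) :
    AlgSt.LocQ (AlgSp.LocP @Smooth) (FibCat.toSelf (AlgSt.SpBG Scheme.fppfPrecoverage G)) := by
  have hA : AlgSt.IsAlgStack Scheme.fppfPrecoverage (AlgSt.SpBG Scheme.fppfPrecoverage G) :=
    Groth.Agent.S13594.result S _ (AlgSp.IsAlgSpace.yon_obj _) G hG hf (𝟙_ _) (AlgSp.IsAlgSpace.yon_obj _) _
  obtain ⟨U, x, hx, hxs⟩ := hA.atlas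
  let Bs : Over S := Over.mk (𝟙 S)
  let e : FibCat.overCat Bs ⥤ᵇ AlgSt.SpBG Scheme.fppfPrecoverage G :=
    BasedFunctor.comp (AlgSt.ofOverCat Bs) (AlgSt.spQuotMap Scheme.fppfPrecoverage G (AlgSt.trivGAction G))
  have tr : ∀ Q : MorphismProperty (AlgSp.Sp S),
      AlgSt.RepByAlgSpWith Q (AlgSt.spQuotMap Scheme.fppfPrecoverage G (AlgSt.trivGAction G)) →
        AlgSt.RepByAlgSpWith Q e := fun Q h =>
    (Groth.Agent.AlgStLib.repWith_iff_of_equiv Q _ e (AlgSt.ofOverCat Bs) (BasedFunctor.id _)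
      (Groth.Agent.AlgStLib.isEquivOver_ofOverCat Bs) Groth.Agent.FibCat2Misc.isEquivOver_id (Iso.refl _)).1 h
  have hfl : AlgSp.LocP @Flat G.hom := fun U V a b h ha hb comm => (hf a b h ha hb comm).1
  have hfp : AlgSp.LocP @LocallyOfFinitePresentation G.hom := fun U V a b h ha hb comm => (hf a b h ha hb comm).2
  haveI : Smooth Bs.hom := inferInstanceAs (Smooth (𝟙 S))
  haveI hU : Smooth U.hom := Groth.Agent.ArtinAtlas.smooth_hom_of_chart hA.isStack.1 hx
    (tr _ (Groth.Agent.ArtinAtlas.repWith_flat_lfp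
      (Groth.Agent.AlgStLib.SpQuot.repWith_spQuotMap_of_group Groth.Agent.AlgStLib.cls_flat.bc
        Groth.Agent.AlgStLib.cls_flat.loc (AlgSp.IsAlgSpace.yon_obj _) hG hfl)
      (Groth.Agent.AlgStLib.SpQuot.repWith_spQuotMap_of_group Groth.Agent.AlgStLib.cls_lfp.bc
        Groth.Agent.AlgStLib.cls_lfp.loc (AlgSp.IsAlgSpace.yon_obj _) hG hfp)))
    (tr _ (Groth.Agent.AlgStLib.SpQuot.repWith_spQuotMap_of_group Groth.Agent.AlgStLib.cls_surjective.bc
      Groth.Agent.AlgStLib.cls_surjective.loc (AlgSp.IsAlgSpace.yon_obj _) hG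
      Groth.Agent.AlgStLib.SpQuot.isSurjectiveMor_hom))
  have ext : ∀ {𝒴 : BasedCategory.{u, u + 1} (Over S)} (F F' : 𝒴 ⥤ᵇ FibCat.selfOver (Over S)), F = F' := by
    intro 𝒴 F F'
    obtain ⟨F, hF⟩ := F
    obtain ⟨F', hF'⟩ := F'
    obtain rfl : F = F' := hF.trans hF'.symm
    rfl
  let h : U ⟶ Bs := Over.homMk U.hom (Category.comp_id _)
  refine ⟨U, Bs, x, FibCat.toSelf (FibCat.overCat Bs), h, eqToIso (ext _ _), hx, hxs, ?_,
    Groth.Agent.AlgSpLib.locP_yon_map Groth.Agent.AlgSpLib.etST_smooth h hU⟩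
  let W : AlgSp.Space S := ⟨(AlgSp.yon S).obj Bs, AlgSp.IsAlgSpace.yon_obj Bs⟩
  refine (Groth.Agent.AlgStLib.repWith_iff_of_equiv (AlgSp.LocP @Smooth) (FibCat.toSelf (FibCat.overCat Bs))
    (AlgSt.ofSpMap (𝟙 W.obj)) (AlgSt.toOverCat Bs) (FibCat.toSelf (AlgSt.ofSch Bs))
    (Groth.Agent.AlgStLib.isEquivOver_toOverCat Bs) Groth.Agent.AlgStLib.isEquivOver_toSelf_base
    (eqToIso (ext _ _))).2 ?_
  have := Groth.Agent.AlgSpLib.locP_yon_map (S := S) Groth.Agent.AlgSpLib.etST_smooth (𝟙 Bs)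
    (Groth.Agent.AlgSpLib.etST_smooth.id_mem _)
  rw [CategoryTheory.Functor.map_id] at this
  exact Groth.Agent.AlgStLib.repWith_ofSpMap Groth.Agent.AlgStLib.bcStable_smooth (𝟙 W : W ⟶ W) this

end Groth.Agent.S18316
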