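import Groth.Statements.S1832
import Groth.Agent.TameCh.Twist

set_option autoImplicit false
universe u v
open Pointwise
open CycAlg

namespace Groth.Agent.S1832

/-- Over a Noetherian local ring, let (M, φ, ψ) be a (2,1)-periodic complex with M finite and cohomology
of finite length, and let x be a ring element with M/xM supported in dimension ≤ 0. Then (M, xφ, ψ)
and (M, φ, xψ) again have finite-length cohomology, and their Herbrand quotients differ from that of
(M, φ, ψ) by the Herbrand quotient of (im φ, 0, x), respectively (im ψ, 0, x). -/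
theorem result {R : Type u} [CommRing R] [IsNoetherianRing R] [IsLocalRing R] {M : Type v} [AddCommGroup M] [Module R M] [Module.Finite R M] (φ ψ : M →ₗ[R] M) (hper : CycAlg.IsPeriodic φ ψ) (hfin : CycAlg.FinCoh R φ ψ) (x : R) (hx : Module.supportDim R (M ⧸ x • (⊤ : Submodule R M)) ≤ 0) : (CycAlg.FinCoh R (x • φ) ψ ∧ CycAlg.herbrand R (x • φ) ψ = CycAlg.herbrand R φ ψ - CycAlg.herbrand R (0 : ↥(LinearMap.range φ) →ₗ[R] ↥(LinearMap.range φ)) (x • LinearMap.id)) ∧ (CycAlg.FinCoh R φ (x • ψ) ∧ CycAlg.herbrand R φ (x • ψ) = CycAlg.herbrand R φ ψ + CycAlg.herbrand R (0 : ↥(LinearMap.range ψ) →ₗ[R] ↥(LinearMap.range ψ)) (x • LinearMap.id)) := by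
  classical
  have hfl : ∀ (N : Type v) [AddCommGroup N] [Module R N] [Module.Finite R N],
      Module.supportDim R N ≤ 0 → Module.length R N < ⊤ := by
    intro N _ _ _ hN
    let J := Module.annihilator R N
    haveI : Ring.KrullDimLE 0 (R ⧸ J) :=
      Ring.krullDimLE_iff.2 (by rw [← Module.supportDim_eq_ringKrullDim_quotient_annihilator]; exact hN)
    haveI : IsArtinianRing (R ⧸ J) := IsNoetherianRing.isArtinianRing_of_krullDimLE_zero
    have htor : Module.IsTorsionBySet R N (J : Set R) := fun m b => Module.mem_annihilator.1 b.2 m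
    letI : Module (R ⧸ J) N := htor.module
    haveI : IsScalarTower R (R ⧸ J) N := Module.IsTorsionBySet.isScalarTower htor
    haveI : Module.Finite (R ⧸ J) N := Module.Finite.of_restrictScalars_finite R (R ⧸ J) N
    haveI hAr : IsArtinian R N :=
      isArtinian_of_surjective_algebraMap (R := R ⧸ J) (S := R) Ideal.Quotient.mk_surjective
    exact lt_top_iff_ne_top.2 (Module.length_ne_top_iff.2
      (isFiniteLength_iff_isNoetherian_isArtinian.2 ⟨inferInstance, hAr⟩))
  have hsub : ∀ (N : Submodule R M), Module.length R (LinearMap.ker (x • (LinearMap.id : N →ₗ[R] N))) < ⊤ ∧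
      Module.length R (N ⧸ x • (⊤ : Submodule R N)) < ⊤ := by
    intro N
    have hle : ∀ (Q : Type v) [AddCommGroup Q] [Module R Q] [Module.Finite R Q],
        Module.annihilator R N ≤ Module.annihilator R Q → x ∈ Module.annihilator R Q → Module.length R Q < ⊤ := by
      intro Q _ _ _ hQ hxQ
      refine hfl Q ((Order.krullDim_le_of_strictMono (fun q : Module.support R Q =>
        (⟨q.1, ?_⟩ : Module.support R (M ⧸ x • (⊤ : Submodule R M)))) fun a b h => h).trans hx)
      have h1 : Module.annihilator R Q ≤ q.1.asIdeal := Module.annihilator_le_of_mem_support q.2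
      rw [← Submodule.ideal_span_singleton_smul, Module.support_quotient]
      refine ⟨?_, (PrimeSpectrum.mem_zeroLocus _ _).2 ((Ideal.span_singleton_le_iff_mem _).2 (h1 hxQ))⟩
      rw [Module.support_eq_zeroLocus]
      exact (LinearMap.annihilator_le_of_injective N.subtype N.subtype_injective).trans (hQ.trans h1)
    refine ⟨hle _ (LinearMap.annihilator_le_of_injective _ (Submodule.subtype_injective _))
        (Module.mem_annihilator.2 fun m => Subtype.ext m.2),
      hle _ (LinearMap.annihilator_le_of_surjective _ (Submodule.mkQ_surjective _)) (Module.mem_annihilator.2 fun m => ?_)⟩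
    obtain ⟨m, rfl⟩ := Submodule.Quotient.mk_surjective _ m
    rw [← Submodule.Quotient.mk_smul, Submodule.Quotient.mk_eq_zero]
    exact Submodule.smul_mem_pointwise_smul m x _ trivial
  have key : ∀ (φ ψ : M →ₗ[R] M), CycAlg.IsPeriodic φ ψ → CycAlg.FinCoh R φ ψ →
      CycAlg.FinCoh R (x • φ) ψ ∧ CycAlg.herbrand R (x • φ) ψ = CycAlg.herbrand R φ ψ -
        CycAlg.herbrand R (0 : ↥(LinearMap.range φ) →ₗ[R] ↥(LinearMap.range φ)) (x • LinearMap.id) := by
    intro φ ψ hp hf
    obtain ⟨e1, e2⟩ := Groth.Agent.TameCh.perH_smul φ ψ hp x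
    obtain ⟨z1, z2⟩ := Groth.Agent.TameCh.herbrand_zero_smul (LinearMap.range φ) x
    obtain ⟨k1, k2⟩ := hsub (LinearMap.range φ)
    refine ⟨⟨by rw [e1]; exact ENat.add_lt_top.2 ⟨hf.1, k1⟩, by rw [e2]; exact ENat.add_lt_top.2 ⟨hf.2, k2⟩⟩, ?_⟩
    rw [CycAlg.herbrand, CycAlg.herbrand, CycAlg.herbrand, e1, e2, z1, z2, ENat.toNat_add hf.1.ne k1.ne,
      ENat.toNat_add hf.2.ne k2.ne]
    push_cast
    ring
  obtain ⟨⟨a1, a2⟩, a3⟩ := key ψ φ ⟨hper.2, hper.1⟩ ⟨hfin.2, hfin.1⟩
  refine ⟨key φ ψ hper hfin, ⟨a2, a1⟩, ?_⟩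
  have hs : ∀ (f g : M →ₗ[R] M), CycAlg.herbrand R f g = - CycAlg.herbrand R g f := fun f g => by
    simp only [CycAlg.herbrand]; ring
  rw [hs φ (x • ψ), a3, hs ψ φ]
  ring

end Groth.Agent.S1832
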