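import Groth.Statements.S18320
import Groth.Agent.Chev.FrobImage

set_option autoImplicit false
universe u
open CategoryTheory AlgebraicGeometry
open AlgGrp

namespace Groth.Agent.S18320
open Groth.Agent CategoryTheory.MonoidalCategory CategoryTheory.CartesianMonoidalCategory CategoryTheory.MonObj

/-- Let K be a field and G a K-group scheme whose structure morphism is locally of finite type. Then G
is an extension of a smooth K-group scheme by a finite connected one: there are a K-group scheme H
with H → Spec K finite and H connected, a K-group scheme Q with Q → Spec K smooth, and homomorphisms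
i : H → G and v : G → Q with i a closed immersion, such that 1 → H → G → Q → 1 is exact for the fppf
topology (i followed by v is trivial, G with H acting through i is a pseudo-torsor over Q, and v
acquires sections over the members of some fppf covering of Q). -/
theorem result (K : Type u) [Field K]
    (G : Over (Spec (CommRingCat.of K))) [GrpObj G] [LocallyOfFiniteType G.hom] :
    ∃ (H Q : Over (Spec (CommRingCat.of K))) (_ : GrpObj H) (_ : GrpObj Q) (i : H ⟶ G) (v : G ⟶ Q),
      IsFinite H.hom ∧ ConnectedSpace H.left ∧ Smooth Q.hom ∧ IsClosedImmersion i.left ∧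
        NonAbH1.IsExactSeq Scheme.fppfPrecoverage i v := by
  obtain ⟨p, hp⟩ := CharP.exists K
  haveI : IsSeparated G.hom := GrpField.isSeparated_hom G
  rcases CharP.char_is_prime_or_zero K p with hpr | rfl
  · haveI := Fact.mk hpr
    obtain ⟨H, Q, hH, hQ, i, v, him, hvm, hic, hk, hf, hc, hs, hfl, hsu⟩ := Chev.exists_smooth_frob_quotient p G
    haveI := him; haveI := hvm; haveI := hic; haveI := hfl; haveI := hsu; haveI := hs
    haveI : Mono i := GrpField.SchImg.mono_of_isClosedImmersion i
    exact ⟨H, Q, hH, hQ, i, v, hf, hc, hs, hic, Chev.isExactSeq_of_isKernel i v hk⟩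
  · haveI : CharZero K := CharP.charP_to_charZero K
    letI : GrpObj (Over.mk G.hom) := ‹GrpObj G›
    haveI : Smooth G.hom := Groth.Agent.Cartier.smooth_of_charZero G.hom
    haveI := GrpField.isClosedImmersion_eta G
    haveI : Mono η[G] := GrpField.SchImg.mono_of_isClosedImmersion η[G]
    refine ⟨𝟙_ _, G, inferInstance, inferInstance, η[G], 𝟙 G, ?_, ?_, inferInstance, inferInstance,
      Chev.isExactSeq_of_isKernel η[G] (𝟙 G) ?_⟩
    · exact inferInstanceAs (IsFinite (𝟙 (Spec (CommRingCat.of K))))
    · exact inferInstanceAs (ConnectedSpace (PrimeSpectrum K))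
    · haveI : IsIso (toUnit (𝟙_ (Over (Spec (CommRingCat.of K))))) := by rw [toUnit_unit]; infer_instance
      refine IsPullback.of_vert_isIso_mono ⟨?_⟩
      rw [toUnit_unit, Category.id_comp, Category.comp_id]

end Groth.Agent.S18320
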