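import Groth.Statements.S18322
import Groth.Agent.BigSiteLib.SmNilMain

set_option autoImplicit false
universe u
open CategoryTheory AlgebraicGeometry
open CGrpSh

namespace Groth.Agent.S18322

/-- Let R be a commutative ring, a an ideal of R which is nilpotent and different from R, and G a
commutative group scheme over Spec R whose structure morphism is smooth. Then for every n ≥ 1 the
restriction map H^n((Spec R)_fppf, G) → H^n((Spec R/a)_fppf, G) is bijective; here the cohomology is
that of the abelian fppf sheaf of points T ↦ G(T) on the big fppf site, restricted along the closed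
immersion Spec (R/a) → Spec R (the restricted sheaf is the sheaf of points of G ×_R R/a). The source
allows G to be a commutative smooth group algebraic space; the group-scheme case is stated here. -/
theorem result (R : Type u) [CommRing R] (a : Ideal R)
    (ha : a ≠ ⊤) (hnil : IsNilpotent a) (G : Over (Spec (CommRingCat.of R))) [GrpObj G] [IsCommMonObj G] [Smooth G.hom]
    (n : ℕ) (hn : 1 ≤ n) :
    Function.Bijective (HRes.pull Scheme.fppfPrecoverage (Spec.map (CommRingCat.ofHom (Ideal.Quotient.mk a)))
      (CGrpSh.pts Scheme.fppfPrecoverage G) n) := by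
  obtain ⟨N, hN⟩ := hnil
  haveI := IsClosedImmersion.spec_of_surjective (CommRingCat.ofHom (Ideal.Quotient.mk a)) Ideal.Quotient.mk_surjective
  have hj : ∀ r, (Spec.map (CommRingCat.ofHom (Ideal.Quotient.mk a))).appTop r = 0 → IsNilpotent r := by
    intro r hr
    have h := congr($(Scheme.ΓSpecIso_naturality (CommRingCat.ofHom (Ideal.Quotient.mk a))) r)
    have hm : (Scheme.ΓSpecIso (CommRingCat.of R)).hom r ∈ a := Ideal.Quotient.eq_zero_iff_mem.mp
      (h.symm.trans ((congrArg (Scheme.ΓSpecIso (CommRingCat.of (R ⧸ a))).hom hr).trans (map_zero _)))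
    refine ⟨N, (Scheme.ΓSpecIso (CommRingCat.of R)).commRingCatIsoToRingEquiv.injective ?_⟩
    rw [map_pow, map_zero]
    have h2 := Ideal.pow_mem_pow hm N
    rw [hN] at h2
    exact h2
  haveI : Surjective (Spec.map (CommRingCat.ofHom (Ideal.Quotient.mk a))) := BigSiteLib.surjective_of_ker_nil _ hj
  obtain ⟨m, rfl⟩ : ∃ m, n = m + 1 := ⟨n - 1, by omega⟩
  exact BigSiteLib.bijective_pull_of_nil _ hj G m

end Groth.Agent.S18322
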