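import Groth.Statements.S18323
import Groth.Agent.BigSiteLib.SmHenMain

set_option autoImplicit false
universe u
open CategoryTheory AlgebraicGeometry
open CGrpSh

namespace Groth.Agent.S18323

/-- Let R be a Henselian local ring, a an ideal of R different from R, and G a commutative group scheme
over Spec R whose structure morphism is smooth. Then for every n ≥ 1 the restriction map H^n((Spec
R)_fppf, G) → H^n((Spec R/a)_fppf, G) is bijective; here the cohomology is that of the abelian fppf
sheaf of points T ↦ G(T) on the big fppf site, restricted along the closed immersion Spec (R/a) →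
Spec R (the restricted sheaf is the sheaf of points of G ×_R R/a). The source allows G to be a
commutative smooth group algebraic space; the group-scheme case is stated here. -/
theorem result (R : Type u) [CommRing R]
    [HenselianLocalRing R] (a : Ideal R) (ha : a ≠ ⊤) (G : Over (Spec (CommRingCat.of R))) [GrpObj G] [IsCommMonObj G]
    [Smooth G.hom] (n : ℕ) (hn : 1 ≤ n) :
    Function.Bijective (HRes.pull Scheme.fppfPrecoverage (Spec.map (CommRingCat.ofHom (Ideal.Quotient.mk a)))
      (CGrpSh.pts Scheme.fppfPrecoverage G) n) := by
  haveI : HenselianLocalRing (CommRingCat.of R) := inferInstanceAs (HenselianLocalRing R)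
  haveI : Nontrivial (CommRingCat.of (R ⧸ a)) := Ideal.Quotient.nontrivial_iff.mpr ha
  obtain ⟨m, rfl⟩ : ∃ m, n = m + 1 := ⟨n - 1, by omega⟩
  exact BigSiteLib.bijective_pull_iso _
    (((Scheme.fppfPrecoverage.toGrothendieck).overMapPullbackId AddCommGrpCat.{u + 1}
      (Spec (CommRingCat.of R))).app _) (m + 1)
    (BigSiteLib.bijective_pull_quotient (R := CommRingCat.of R) (𝟙 _) G
      (CommRingCat.ofHom (Ideal.Quotient.mk a)) Ideal.Quotient.mk_surjective m)

end Groth.Agent.S18323
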