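import Groth.Statements.S18327
import Groth.Agent.BigSiteLib.SqExtQC
import Groth.Agent.BigSiteLib.SqPres

set_option autoImplicit false
universe u
open CategoryTheory CategoryTheory.Limits AlgebraicGeometry
open CGrpSh

namespace Groth.Agent.S18327

/-- Let j : T' → T be a closed immersion of schemes which is a square-zero thickening of its image (the
kernel ideal sheaf I of j satisfies I·I = 0), and let G be a commutative group scheme over T whose
structure morphism is smooth. On the big fppf site of T let N be the kernel of the restriction
morphism from the abelian sheaf of points U ↦ G(U) to U ↦ G(U ×_T T') (the unit of the adjunction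
between restriction to T'-schemes and its right adjoint). Then there is a quasi-coherent module M on
the big fppf site of T (a module over the structure sheaf U ↦ Γ(U, O_U), locally presented by free
modules) together with an isomorphism, natural in the flat T-scheme U, between N(U) and M(U): the
underlying abelian presheaves of N and of M become isomorphic after restriction to the full
subcategory of T-schemes flat over T. The source states this for algebraic spaces T, T', G and flat
T-algebraic spaces U, with a quasi-coherent sheaf on T; schemes and a quasi-coherent big-site module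
are used here, and only the existence of the natural isomorphism is asserted. -/
theorem result {T T' : Scheme.{u}} (j : T' ⟶ T)
    [IsClosedImmersion j] (hj : j.ker * j.ker = ⊥) (G : Over T) [GrpObj G] [IsCommMonObj G] [Smooth G.hom] :
    ∃ (M : BigSite.Mod Scheme.fppfPrecoverage T) (_ : M.IsQuasicoherent),
      Nonempty ((ObjectProperty.ι (fun U : Over T => Flat U.hom)).op ⋙
          (kernel ((BigSite.bigAdj Scheme.fppfPrecoverage j AddCommGrpCat.{u + 1}).unit.app
            (CGrpSh.pts Scheme.fppfPrecoverage G))).obj ≅
        (ObjectProperty.ι (fun U : Over T => Flat U.hom)).op ⋙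
          ((BigSite.toAbMod Scheme.fppfPrecoverage T).obj M).obj) := by
  let N := Groth.Agent.BigSiteLib.SqPres.NMod (G := G) hj
  let Z : ULift.{u + 1} T.affineOpens → Over T := fun V => Over.mk V.down.1.ι
  refine ⟨Groth.Agent.BigSiteLib.SqExt.Ext N,
    Groth.Agent.BigSiteLib.SqExt.isQuasicoherent_Ext N Z (fun V => inferInstanceAs (IsOpenImmersion V.down.1.ι))
      (fun V => ?_) (fun x => ?_), ⟨?_⟩⟩
  · haveI : IsAffine (Z V).left := V.down.2
    haveI : IsOpenImmersion (Z V).hom := inferInstanceAs (IsOpenImmersion V.down.1.ι)
    exact Groth.Agent.BigSiteLib.SqPres.good hj (Z V)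
  · obtain ⟨V, hV, hxV, -⟩ := exists_isAffineOpen_mem_and_subset (X := T) (x := x) (U := ⊤) trivial
    exact ⟨ULift.up ⟨V, hV⟩, ⟨x, hxV⟩, rfl⟩
  · refine Iso.symm (NatIso.ofComponents (fun U => ?_) ?_)
    · have h : IsIso (((BigSite.toAbMod Scheme.fppfPrecoverage T).map
          (Groth.Agent.BigSiteLib.SqExt.eps N)).hom.app (Opposite.op U.unop.obj)) := by
        rw [ConcreteCategory.isIso_iff_bijective]
        exact Groth.Agent.BigSiteLib.SqExt.eps_bijective N U.unop.obj U.unop.property
      exact @asIso _ _ _ _ (((BigSite.toAbMod Scheme.fppfPrecoverage T).map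
          (Groth.Agent.BigSiteLib.SqExt.eps N)).hom.app (Opposite.op U.unop.obj)) h
    · intro U V f
      exact ((BigSite.toAbMod Scheme.fppfPrecoverage T).map (Groth.Agent.BigSiteLib.SqExt.eps N)).hom.naturality _

end Groth.Agent.S18327
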