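import Groth.Statements.S18329
import Groth.Agent.Pi0Sub.Basic

set_option autoImplicit false
universe u
open TensorProduct
open SGA3

namespace Groth.Agent.S18329

open TensorProduct in
theorem slices_map {k A : Type*} [Field k] [CommRing A] [Algebra k A] (D : Submodule k A)
    (w : D ⊗[k] D) (f : A →ₗ[k] k) :
    TensorProduct.rid k A (f.lTensor A (TensorProduct.map D.subtype D.subtype w)) ∈ D ∧
    TensorProduct.rid k A (f.lTensor A (TensorProduct.comm k A A
      (TensorProduct.map D.subtype D.subtype w))) ∈ D := by
  induction w using TensorProduct.induction_on with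
  | zero => simp
  | tmul a b => exact ⟨by simpa using D.smul_mem _ a.2, by simpa using D.smul_mem _ b.2⟩
  | add z w hz hw =>
    simp only [map_add]
    exact ⟨add_mem hz.1 hw.1, add_mem hz.2 hw.2⟩

theorem exists_dual_ne_zero_aux (k : Type*) {A : Type*} [Field k] [AddCommGroup A] [Module k A] {x : A}
    (hx : x ≠ 0) : ∃ f : A →ₗ[k] k, f x ≠ 0 := by
  by_contra h
  push Not at h
  exact hx ((Module.forall_dual_apply_eq_zero_iff k x).1 h)

/-- Let k be an algebraically closed field of prime characteristic p and A a commutative Hopf algebra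
over k, the coordinate ring of an affine k-group G, quotient groups of G being read as
sub-Hopf-algebras of A (subalgebras stable under comultiplication and antipode). Let B₀ be the
subalgebra of elements of A that are separable over k (its spectrum is the group of connected
components π₀(G)) and let C be the largest cocommutative sub-Hopf-algebra of A (its spectrum is the
largest commutative quotient group G_ab). Then B₀ ⊓ C, whose spectrum is π₀(G_ab), is the largest
cocommutative sub-Hopf-algebra of A contained in B₀, whose spectrum is the largest commutative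
quotient of π₀(G): the canonical homomorphism from π₀(G_ab) to (π₀(G))_ab is an isomorphism. (The
abelianization is rendered through its universal property among affine quotient groups, as the
largest cocommutative sub-Hopf-algebra, rather than as the quotient by the derived subgroup.) -/
theorem result (k A : Type u) [Field k] [IsAlgClosed k]
    (p : ℕ) [Fact p.Prime] [CharP k p] [CommRing A] [HopfAlgebra k A]
    (B₀ : Subalgebra k A) (hB₀ : ∀ a : A, a ∈ B₀ ↔ IsSeparable k a)
    (C : Subalgebra k A) (hC : SGA3.IsHopfSubalgebra k A C)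
    (hCc : ∀ c ∈ C, TensorProduct.comm k A A (Coalgebra.comul c) = Coalgebra.comul c)
    (hCmax : ∀ D : Subalgebra k A, SGA3.IsHopfSubalgebra k A D →
      (∀ d ∈ D, TensorProduct.comm k A A (Coalgebra.comul d) = Coalgebra.comul d) → D ≤ C) :
    IsGreatest {D : Subalgebra k A | SGA3.IsHopfSubalgebra k A D ∧
      (∀ d ∈ D, TensorProduct.comm k A A (Coalgebra.comul d) = Coalgebra.comul d) ∧ D ≤ B₀}
      (B₀ ⊓ C) := by
  have hB : ∀ a : A, a ∈ B₀ ↔ a ∈ Pi0Sub.idemSpan k A := by
    intro a
    refine ⟨fun h => Pi0Sub.mem_idemSpan_of_isSeparable ((hB₀ a).1 h), fun h => ?_⟩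
    induction h using Submodule.span_induction with
    | mem x hx => exact (hB₀ x).2 (Pi0Sub.isSeparable_of_idem hx)
    | zero => exact zero_mem _
    | add x y _ _ hx hy => exact add_mem hx hy
    | smul c x _ hx => exact B₀.smul_mem hx c
  have hB' : Subalgebra.toSubmodule B₀ = Pi0Sub.idemSpan k A := Submodule.ext hB
  have hcom : ∀ b ∈ B₀, ∀ f : A →ₗ[k] k,
      TensorProduct.rid k A (f.lTensor A (CoalgebraStruct.comul b)) ∈ B₀ ∧
      TensorProduct.rid k A (f.lTensor A (TensorProduct.comm k A A (CoalgebraStruct.comul b))) ∈ B₀ := by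
    intro b hb
    rw [hB] at hb
    induction hb using Submodule.span_induction with
    | mem x hx =>
      intro f
      have hx' : IsIdempotentElem (Bialgebra.comulAlgHom k A x) :=
        (show IsIdempotentElem x from hx).map _
      obtain ⟨w, hw⟩ := LinearMap.mem_range.1 (Pi0Sub.idem_tensor hx')
      have := slices_map (Pi0Sub.idemSpan k A) w f
      rw [hw] at this
      exact ⟨(hB _).2 this.1, (hB _).2 this.2⟩
    | zero => intro f; simp
    | add x y _ _ hx hy =>
      intro f
      simp only [map_add]
      exact ⟨add_mem (hx f).1 (hy f).1, add_mem (hx f).2 (hy f).2⟩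
    | smul c x _ hx =>
      intro f
      simp only [map_smul]
      exact ⟨B₀.smul_mem (hx f).1 c, B₀.smul_mem (hx f).2 c⟩
  refine ⟨⟨⟨fun b hb => ?_, fun b hb => ?_⟩, fun d hd => hCc d hd.2, inf_le_left⟩,
    fun D hD => le_inf hD.2.2 (hCmax D hD.1 hD.2.1)⟩
  · obtain ⟨w, hw⟩ := LinearMap.mem_range.1 (hC.1 b hb.2)
    refine Pi0Sub.mem_range_map (Subalgebra.toSubmodule (B₀ ⊓ C)) _ Set.univ
      (fun x hx => by_contra fun hne => by
        obtain ⟨f, hf⟩ := exists_dual_ne_zero_aux k hne
        exact hf (hx f (Set.mem_univ _))) ?_ ?_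
    · intro f _
      refine ⟨(hcom b hb.1 f).1, ?_⟩
      have := (slices_map (Subalgebra.toSubmodule C) w f).1
      erw [hw] at this
      exact this
    · intro f _
      refine ⟨(hcom b hb.1 f).2, ?_⟩
      have := (slices_map (Subalgebra.toSubmodule C) w f).2
      erw [hw] at this
      exact this
  · refine ⟨?_, hC.2 b hb.2⟩
    have h1 : b ∈ Pi0Sub.idemSpan k A := (hB b).1 hb.1
    exact (hB _).2 (Pi0Sub.map_mem_idemSpan (HopfAlgebra.antipodeAlgHom k A) h1)

end Groth.Agent.S18329
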