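import Groth.Statements.S1833
import Groth.Agent.TameCh.Master
import Groth.Agent.CycDim.OrdSum

set_option autoImplicit false
universe u v
open Pointwise
open CycAlg

namespace Groth.Agent.S1833

/-- Let R be Noetherian local, M a finite R-module whose support has dimension at most 1, and x an
element with M/xM supported in dimension ≤ 0. Then length(M/xM) = length(ker(x : M → M)) + Σ_q
ord_{R/q}(x) · length_{R_q}(M_q), the sum running over the primes q of the support other than the
maximal ideal (stated in ℕ∞; all terms are finite under the hypotheses). -/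
theorem result (R : Type u) [CommRing R] [IsNoetherianRing R] [IsLocalRing R] (M : Type u) [AddCommGroup M] [Module R M] [Module.Finite R M] (x : R) (h1 : Module.supportDim R M ≤ 1) (h0 : Module.supportDim R (M ⧸ x • (⊤ : Submodule R M)) ≤ 0) : Module.length R (M ⧸ x • (⊤ : Submodule R M)) = Module.length R (LinearMap.ker (LinearMap.lsmul R M x)) + ∑ᶠ (p : PrimeSpectrum R) (_ : p ∈ Module.support R M ∧ p.asIdeal ≠ IsLocalRing.maximalIdeal R), Ring.ord (R ⧸ p.asIdeal) (Ideal.Quotient.mk p.asIdeal x) * Module.length (Localization.AtPrime p.asIdeal) (LocalizedModule p.asIdeal.primeCompl M) := by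
  classical
  haveI : Module.Finite R R := Module.Finite.self R
  let P0 := {p : PrimeSpectrum R | p ∈ Module.support R M ∧ p.asIdeal ≠ IsLocalRing.maximalIdeal R}
  have hcurve : ∀ p ∈ P0, Groth.Agent.TameCh.Curve p ∧ x ∉ p.asIdeal := by
    rintro p ⟨hp, hpm⟩
    have hnm : ¬ p.asIdeal.IsMaximal := fun h => hpm (IsLocalRing.eq_maximalIdeal h)
    refine ⟨⟨hnm, fun q hq hlt => ?_⟩, fun hx => ?_⟩
    · by_contra hqm
      haveI := hq
      have hqM : (⟨q, hq⟩ : PrimeSpectrum R) ∈ Module.support R M :=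
        Module.mem_support_mono hlt.le hp
      have hmM : IsLocalRing.closedPoint R ∈ Module.support R M :=
        Module.mem_support_mono (IsLocalRing.le_maximalIdeal hq.ne_top) hqM
      let l : LTSeries (Module.support R M) :=
        { length := 2
          toFun := ![⟨p, hp⟩, ⟨⟨q, hq⟩, hqM⟩, ⟨IsLocalRing.closedPoint R, hmM⟩]
          step := by
            intro i
            fin_cases i
            · show (⟨p, hp⟩ : Module.support R M) < ⟨⟨q, hq⟩, hqM⟩
              exact hlt
            · show (⟨⟨q, hq⟩, hqM⟩ : Module.support R M) < ⟨IsLocalRing.closedPoint R, hmM⟩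
              exact lt_of_le_of_ne (IsLocalRing.le_maximalIdeal hq.ne_top)
                fun he => hqm ((show q = IsLocalRing.maximalIdeal R from congrArg (fun z : Module.support R M => z.1.asIdeal) he) ▸ IsLocalRing.maximalIdeal.isMaximal R) }
      have h3 := (Order.LTSeries.length_le_krullDim l).trans h1
      norm_cast at h3
    · have hsupp : ∀ {r : PrimeSpectrum R}, r ∈ Module.support R M → x ∈ r.asIdeal →
          r ∈ Module.support R (M ⧸ x • (⊤ : Submodule R M)) := by
        intro r hr hxr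
        rw [← Submodule.ideal_span_singleton_smul, Module.support_quotient]
        exact ⟨hr, (PrimeSpectrum.mem_zeroLocus _ _).2 ((Ideal.span_singleton_le_iff_mem _).2 hxr)⟩
      have hle : p ≤ IsLocalRing.closedPoint R := IsLocalRing.le_maximalIdeal p.2.ne_top
      let l : LTSeries (Module.support R (M ⧸ x • (⊤ : Submodule R M))) :=
        { length := 1
          toFun := ![⟨p, hsupp hp hx⟩, ⟨IsLocalRing.closedPoint R,
            hsupp (Module.mem_support_mono hle hp) (IsLocalRing.le_maximalIdeal p.2.ne_top hx)⟩]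
          step := by
            intro i
            fin_cases i
            show p < IsLocalRing.closedPoint R
            exact lt_of_le_of_ne hle fun he => hpm (congrArg PrimeSpectrum.asIdeal he) }
      have h3 := (Order.LTSeries.length_le_krullDim l).trans h0
      norm_cast at h3
  have hfin : P0.Finite := by
    refine Set.Finite.subset (((Module.annihilator R M).finite_minimalPrimes_of_isNoetherianRing R).preimage
      (f := PrimeSpectrum.asIdeal) (fun a _ b _ hab => PrimeSpectrum.ext hab)) ?_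
    intro p hp
    refine ⟨⟨p.2, Module.annihilator_le_of_mem_support hp.1⟩, fun q hq hle => ?_⟩
    haveI := hq.1
    rcases hle.lt_or_eq with hlt | he
    · have hqs : (⟨q, hq.1⟩ : PrimeSpectrum R) ∈ Module.support R M := by
        rw [Module.support_eq_zeroLocus]; exact hq.2
      have hq0 : (⟨q, hq.1⟩ : PrimeSpectrum R) ∈ P0 :=
        ⟨hqs, fun he : q = _ => hlt.not_ge (he ▸ IsLocalRing.le_maximalIdeal p.2.ne_top)⟩
      exact absurd ((hcurve _ hq0).1.eq_of_le (hcurve p hp).1 hle) fun he => hlt.ne (congrArg PrimeSpectrum.asIdeal he)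
    · exact he.ge
  obtain ⟨⟨hfx, hf0⟩, hlen, hhe⟩ := Groth.Agent.TameCh.he_eq_sum (A := R) hfin.toFinset
    (fun r hr => (hcurve r (hfin.mem_toFinset.1 hr)).1) (f := x) (g := 0)
    (fun r hr => Or.inl (hcurve r (hfin.mem_toFinset.1 hr)).2) M
    (fun q hq => by
      by_cases hm : q.asIdeal = IsLocalRing.maximalIdeal R
      · exact Or.inl (hm ▸ IsLocalRing.maximalIdeal.isMaximal R)
      · exact Or.inr (hfin.mem_toFinset.2 ⟨by rw [Module.support_eq_zeroLocus]; exact hq, hm⟩))
    (by rw [mul_zero]; exact zero_mem _)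
  have hmul : Groth.Agent.TameCh.mulA R x M = LinearMap.lsmul R M x := rfl
  have hmul0 : Groth.Agent.TameCh.mulA R (0 : R) M = 0 := LinearMap.ext fun m => zero_smul R m
  obtain ⟨e1, e2⟩ := Groth.Agent.CycDim.length_perH x M
  rw [hmul, hmul0] at hfx hf0
  rw [Groth.Agent.TameCh.he, CycAlg.herbrand, hmul, hmul0, e1, e2] at hhe
  rw [e1] at hfx
  rw [e2] at hf0
  have hord : ∀ p : PrimeSpectrum R, Ring.ord (R ⧸ p.asIdeal) (Ideal.Quotient.mk p.asIdeal x) =
      Module.length R (R ⧸ (p.asIdeal ⊔ Ideal.span {x})) := fun p => by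
    rw [Ring.ord]
    refine ((Module.length_eq_of_surjective (R := R ⧸ p.asIdeal) (S := R) Ideal.Quotient.mk_surjective).symm).trans ?_
    refine LinearEquiv.length_eq (AlgEquiv.toLinearEquiv ?_)
    exact (Ideal.quotientEquivAlgOfEq R (by rw [Ideal.map_span, Set.image_singleton]; rfl :
      Ideal.span {Ideal.Quotient.mk p.asIdeal x} = (Ideal.span {x}).map (Ideal.Quotient.mkₐ R p.asIdeal))).trans
      (DoubleQuot.quotQuotEquivQuotSupₐ R p.asIdeal (Ideal.span {x}))
  rw [show (∑ᶠ (p : PrimeSpectrum R) (_ : p ∈ Module.support R M ∧ p.asIdeal ≠ IsLocalRing.maximalIdeal R),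
    Ring.ord (R ⧸ p.asIdeal) (Ideal.Quotient.mk p.asIdeal x) *
      Module.length (Localization.AtPrime p.asIdeal) (LocalizedModule p.asIdeal.primeCompl M)) =
    ∑ p ∈ hfin.toFinset, Module.length R (R ⧸ (p.asIdeal ⊔ Ideal.span {x})) * Groth.Agent.TameCh.lenAt p M from
    (finsum_mem_eq_finite_toFinset_sum _ hfin).trans (Finset.sum_congr rfl fun p _ => by rw [hord]; rfl)]
  have hterm : ∀ p ∈ hfin.toFinset, Module.length R (R ⧸ (p.asIdeal ⊔ Ideal.span {x})) * Groth.Agent.TameCh.lenAt p M ≠ ⊤ :=
    fun p hp => WithTop.mul_ne_top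
      (Groth.Agent.TameCh.cf_finite (hcurve p (hfin.mem_toFinset.1 hp)).1 (hcurve p (hfin.mem_toFinset.1 hp)).2).ne
      (hlen p hp).ne
  have hsum : ∑ p ∈ hfin.toFinset, Module.length R (R ⧸ (p.asIdeal ⊔ Ideal.span {x})) * Groth.Agent.TameCh.lenAt p M ≠ ⊤ :=
    (WithTop.sum_ne_top).2 hterm
  rw [← ENat.coe_toNat hf0.ne]
  refine (congrArg _ ?_).trans (ENat.coe_toNat (WithTop.add_ne_top.2 ⟨hfx.ne, hsum⟩))
  rw [ENat.toNat_add hfx.ne hsum, ENat.toNat_sum hterm]
  simp only [ENat.toNat_mul]
  rw [Finset.sum_congr rfl fun r hr => show ((Groth.Agent.TameCh.lenAt r M).toNat : ℤ) * Groth.Agent.TameCh.eps R r x 0 =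
    - (((Module.length R (R ⧸ (r.asIdeal ⊔ Ideal.span {x}))).toNat * (Groth.Agent.TameCh.lenAt r M).toNat : ℕ) : ℤ) by
      rw [Groth.Agent.TameCh.eps_not_mem (hcurve r (hfin.mem_toFinset.1 hr)).2, Groth.Agent.TameCh.cf]
      push_cast
      ring, Finset.sum_neg_distrib, ← Nat.cast_sum] at hhe
  omega

end Groth.Agent.S1833
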