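import Groth.Statements.S18342
import Groth.Agent.HNSplit.Dual
import Groth.Agent.W7Cover.GeomConn

set_option autoImplicit false
universe u
open CategoryTheory CategoryTheory.Limits AlgebraicGeometry
open VBCurve

set_option backward.isDefEq.respectTransparency false
set_option backward.isDefEq.respectTransparency.types false

open Groth.Agent

namespace Groth.Agent.S18342

/-- Let k be an algebraically closed field of characteristic zero and X a smooth proper geometrically
connected curve over k (topological dimension one) of genus g ≥ 2. Let E be a finite locally free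
O_X-module of rank r ≥ 1 and degree 0, and F a finite locally free O_X-module of rank n ≥ 1 and
degree n(g − 1), degrees being χ − rank · χ(O_X). If every morphism E → F is zero, then E is
slope-semistable: deg G · r ≤ 0 for every finite locally free submodule G of E of positive rank. The
published statement concerns quasi-parabolic bundles of rank r with trivial determinant and flags at
a finite set of points, and says that for n ≥ ⌈r²/4⌉ the closed substack of bundles that are not
semistable for a given system of weights is the base locus of the parabolic theta functions of order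
n, these being attached to semistable F; this row is one inclusion of it (a bundle at which the
theta function of some F does not vanish is semistable) for a single bundle with no parabolic
points, for every n ≥ 1 and every F of the stated rank and degree, with degree 0 in place of trivial
determinant, and with the vanishing of Hom(E, F) in place of the vanishing of both Hom(E, F) and
Ext^1(E, F). -/
theorem result (k : Type u) [Field k] [IsAlgClosed k] [CharZero k]
    (X : Scheme.{u}) [X.Over (Spec (CommRingCat.of k))]
    [IsProper (X ↘ Spec (CommRingCat.of k))] [Smooth (X ↘ Spec (CommRingCat.of k))]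
    [GeometricallyConnected (X ↘ Spec (CommRingCat.of k))] (hdim : topologicalKrullDim ↥X = 1)
    (g : ℕ) (hg : Curv2.genus k X = g) (hg2 : 2 ≤ g)
    (E : X.Modules) (r : ℕ) (hr : 0 < r) (hE : FlatMod.IsFinLocFreeOfRank r E)
    (hEdeg : Curv2.deg k X E r = 0)
    (F : X.Modules) (n : ℕ) (hn : 0 < n) (hF : FlatMod.IsFinLocFreeOfRank n F)
    (hFdeg : Curv2.deg k X F n = (n : ℤ) * ((g : ℤ) - 1))
    (hhom : ∀ φ : E ⟶ F, φ = 0) :
    ModFun.IsSlopeSemistable k X E r := by
  haveI := W7Slope.isIntegral_of_geomConn k (X := X) hdim
  haveI := CurveRR.isNoetherian_of_proper k X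
  have hX := W7Slope.regCurve_of_smooth (k := k) (X := X) hdim
  have h0 := W7Cover.h0_of_geometricallyConnected (k := k) (X := X)
  intro G m j hj hm hG
  by_contra hgt
  push Not at hgt
  rw [hEdeg, zero_mul] at hgt
  have hdG : 0 < Curv2.deg k X G m := pos_of_mul_pos_left hgt (Int.natCast_nonneg r)
  obtain ⟨G', Q, i, l, p, w, hS, -, -, hG', hQ, hrq, hle, -, hd⟩ :=
    W7Slope.exists_saturation k hX hE (CurveRR.isCoh_of_rank hG) j
  haveI := hS.mono_f
  haveI := hS.epi_g
  rw [W7Slope.deg_eq hG] at hdG
  have hq : 0 < W7Slope.grk Q := by
    by_contra h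
    push Not at h
    have h1 : W7Slope.grk G = r := by omega
    rw [h1] at hG'
    have h2 := (W7Slope.deg_le_of_mono k hX hG' hE i).1
    rw [hEdeg, W7Slope.deg_eq hG'] at h2
    omega
  have hdQ : Curv2.deg k X Q (W7Slope.grk Q) < 0 := by
    rw [W7Slope.deg_eq hQ]
    rw [hEdeg] at hd
    omega
  obtain ⟨hV, hdV⟩ := HNSplit.rank_deg_homSh k hdim hX hq hF hQ
  have hne : CurveRR.h k (RefHull.homSh Q F) 0 ≠ 0 := by
    have h1 := CurveRR.euler_eq (k := k) hX.dim (RefHull.homSh Q F)
    rw [Curv2.deg, CurveRR.euler_structure hX.dim h0, hg, hFdeg, h1] at hdV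
    push_cast at hdV
    intro h
    rw [h] at hdV
    push_cast at hdV
    nlinarith [mul_pos (show (0 : ℤ) < n by exact_mod_cast hn) (neg_pos.2 hdQ)]
  obtain ⟨s, hs⟩ := CurveRR.exists_section (k := k) hne
  refine hs (W7Hull.curEquiv.symm.injective ?_)
  show W7Hull.uncur s = W7Hull.uncur 0
  have h := hhom (p ≫ (SecTwist.unitorR Q).inv ≫ W7Hull.uncur s)
  rw [HNSplit.uncur_zero, ← cancel_epi (SecTwist.unitorR Q).inv, ← cancel_epi p, h, comp_zero, comp_zero]

end Groth.Agent.S18342
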