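import Groth.Statements.S18343
import Mathlib
import Groth.Agent.GrpField.Descent
import Groth.Agent.FinFibImage.Main
import Groth.Agent.FpqcDescent.IdealGlue

set_option autoImplicit false
universe u
open CategoryTheory CategoryTheory.Limits AlgebraicGeometry
open MultCurve

namespace Groth.Agent.S18343

/-- Suppose C is a ribbon on the reduced scheme D via the closed immersion i : D ⟶ C (meaning the ideal
of D squares to zero and is locally generated by a single section z whose annihilator lies in (z)),
and consider an arbitrary morphism of schemes f : C ⟶ X. The morphism f is a closed immersion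
exactly when two things hold: the composite i ≫ f, i.e. f restricted to D, is a closed immersion,
and pulling back along f the ideal of the scheme-theoretic image of D in X yields the entire ideal
of D in C. This second requirement amounts to surjectivity of the map α_f that sends the pullback of
the conormal sheaf of the image of D in X onto the conormal bundle of D in C. (The statement is
given for arbitrary schemes and any morphism f; the published version assumes all schemes are of
finite type over a field and D is connected, but the proof relies on neither assumption.) -/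
theorem result (D C X : Scheme.{u}) (i : D ⟶ C)
    (hR : MultCurve.IsRibbon i) (f : C ⟶ X) :
    IsClosedImmersion f ↔ (IsClosedImmersion (i ≫ f) ∧ (i ≫ f).ker.comap f = i.ker) := by
  obtain ⟨⟨hi, hsq, -⟩, -⟩ := hR
  haveI := hi
  have hloc : ∀ [IsAffineHom f], ∀ (U : X.affineOpens),
      ((i ≫ f).ker.comap f).ideal ⟨f ⁻¹ᵁ U.1, U.2.preimage f⟩ =
        ((RingHom.ker (i.app (f ⁻¹ᵁ U.1)).hom).comap (f.app U.1).hom).map (f.app U.1).hom := by
    intro _ U
    rw [Groth.Agent.FpqcDescent.ideal_comap_appLE (i ≫ f).ker f U ⟨f ⁻¹ᵁ U.1, U.2.preimage f⟩ le_rfl,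
      Scheme.Hom.appLE_eq_app, Scheme.Hom.ker_apply]
    congr 1
  constructor
  · intro h
    haveI := h
    refine ⟨inferInstance, ?_⟩
    refine Scheme.IdealSheafData.ext_of_iSup_eq_top
      (fun U : X.affineOpens => ⟨f ⁻¹ᵁ U.1, U.2.preimage f⟩) ?_ fun U => ?_
    · apply top_le_iff.mp
      intro x _
      obtain ⟨U, hU, hxU, -⟩ := exists_isAffineOpen_mem_and_subset (X := X) (x := f x) (U := ⊤) trivial
      exact TopologicalSpace.Opens.mem_iSup.mpr ⟨⟨U, hU⟩, hxU⟩
    · rw [hloc U, Ideal.map_comap_of_surjective _ (f.app_surjective U.1 U.2), Scheme.Hom.ker_apply]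
  · rintro ⟨hif, hK⟩
    haveI := hif
    haveI : Surjective i := by
      have h3 : i.ker.support = ⊤ := by
        rw [← Scheme.IdealSheafData.support_pow_succ i.ker 1, hsq, Scheme.IdealSheafData.support_bot]
      refine ⟨fun c => ?_⟩
      have h4 : c ∈ (i.ker.support : Set C) := by rw [h3]; trivial
      rwa [Scheme.Hom.support_ker, i.isClosedEmbedding.isClosed_range.closure_eq] at h4
    haveI : IsSeparated f := Groth.Agent.GrpField.isSeparated_of_comp i f
    haveI : IsIntegralHom f := Groth.Agent.FinFibImage.isIntegralHom_of_surjective_of_finite_fibres i f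
      (fun s => (Set.finite_singleton s).preimage ((i ≫ f).isClosedEmbedding.injective.injOn))
    rw [isClosedImmersion_iff_isAffineHom]
    refine ⟨inferInstance, fun U hU => ?_⟩
    have h1 := hloc ⟨U, hU⟩
    rw [hK, Scheme.Hom.ker_apply] at h1
    have h2 : RingHom.ker (i.app (f ⁻¹ᵁ U)).hom ^ 2 = ⊥ := by
      have h3 : (i.ker ^ 2).ideal ⟨f ⁻¹ᵁ U, hU.preimage f⟩ = (⊥ : C.IdealSheafData).ideal ⟨f ⁻¹ᵁ U, hU.preimage f⟩ := by
        rw [hsq]
      rw [Scheme.IdealSheafData.ideal_pow, Pi.pow_apply, Scheme.Hom.ker_apply] at h3
      exact h3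
    have hring : ∀ {A B E : Type u} [CommRing A] [CommRing B] [CommRing E] (φ : A →+* B) (ψ : B →+* E),
        RingHom.ker ψ ^ 2 = ⊥ → RingHom.ker ψ = ((RingHom.ker ψ).comap φ).map φ →
        Function.Surjective (ψ.comp φ) → Function.Surjective φ := by
      intro A B E _ _ _ φ ψ hsq hgen hs b
      have hJ : ∀ x ∈ RingHom.ker ψ, x ∈ φ.range := by
        intro x hx
        rw [hgen, Ideal.map] at hx
        induction hx using Submodule.span_induction with
        | mem y hy => obtain ⟨a, -, rfl⟩ := hy; exact ⟨a, rfl⟩
        | zero => exact zero_mem _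
        | add y z _ _ hy hz => exact add_mem hy hz
        | smul r y hy' hy =>
          obtain ⟨c, hc⟩ := hs (ψ r)
          have hry : y ∈ RingHom.ker ψ := by rw [hgen, Ideal.map]; exact hy'
          have hr : r - φ c ∈ RingHom.ker ψ := by
            rw [RingHom.mem_ker, map_sub, sub_eq_zero]; exact hc.symm
          have h0 : (r - φ c) * y = 0 := by
            rw [← Ideal.mem_bot, ← hsq, sq]
            exact Ideal.mul_mem_mul hr hry
          rw [smul_eq_mul, show r * y = φ c * y by rw [sub_mul, sub_eq_zero] at h0; exact h0]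
          exact mul_mem ⟨c, rfl⟩ hy
      obtain ⟨c, hc⟩ := hs (ψ b)
      obtain ⟨d, hd⟩ := hJ (b - φ c) (by rw [RingHom.mem_ker, map_sub, sub_eq_zero]; exact hc.symm)
      exact ⟨c + d, by rw [map_add, hd, add_sub_cancel]⟩
    refine hring (f.app U).hom (i.app (f ⁻¹ᵁ U)).hom h2 h1 ?_
    have := (i ≫ f).app_surjective U hU
    rw [Scheme.Hom.comp_app] at this
    exact this

end Groth.Agent.S18343
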