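import Groth.Statements.S18344
import Groth.Agent.Conormal.Maps
import Groth.Agent.TMul.Power
import Groth.Agent.OmegaLib.Smooth

set_option autoImplicit false
set_option linter.style.haveILetI false
set_option backward.isDefEq.respectTransparency false
open Groth.Agent
universe u
open CategoryTheory CategoryTheory.Limits AlgebraicGeometry
open MultCurve

namespace Groth.Agent.S18344

/-- Let C be a scheme and I ⊂ O_C a quasi-coherent ideal with I² = 0, and let D ⊂ C be the closed
subscheme it defines. Then the following are equivalent: (a) every point of C has an affine open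
neighbourhood U on which I(U) is generated by one section z such that every a with a z = 0 lies in
I(U); (b) the conormal sheaf of D in C (the ideal I regarded as an O_D-module, which makes sense
because I² = 0) is an invertible O_D-module. This identifies the line-bundle clause in the
definition of a ribbon with the section-level principal-of-order-two condition. -/
theorem result (C : Scheme.{u}) (I : C.IdealSheafData)
    (hI : I ^ 2 = ⊥) :
    MultCurve.IsPrincipalOfOrder I 2 ↔ PicF.IsInvertible (Omega.conormal I.subschemeι) := by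
  classical
  haveI : QuasiCompact I.subschemeι := inferInstance
  have hker : ∀ U : C.affineOpens, RingHom.ker (I.subschemeι.app U.1).hom = I.ideal U := fun U => by
    have h := congrArg (fun J : C.IdealSheafData => J.ideal U) I.ker_subschemeι
    simp only [Scheme.Hom.ker_apply] at h
    exact h
  have hsq : ∀ U : C.affineOpens, RingHom.ker (I.subschemeι.app U.1).hom ^ 2 = ⊥ := fun U => by
    rw [hker, show I.ideal U ^ 2 = (I ^ 2).ideal U from rfl, hI, Scheme.IdealSheafData.ideal_bot]
    rfl
  have hchart : ∀ U : C.affineOpens, Conormal.IsChart I.subschemeι U.1 := fun U =>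
    ⟨U.2, IsZariskiLocalAtTarget.restrict (P := @IsClosedImmersion) inferInstance U.1⟩
  have hzero : ∀ (U : C.affineOpens) (s : Γ(ClSub.idealMod I.subschemeι.ker, U.1)),
      OmegaSh.conormalSect I.subschemeι U.1 s = 0 ↔ OmegaSh.idealSect I.subschemeι.ker U.1 s = 0 := by
    intro U s
    rw [Conormal.conormalSect_eq_zero_iff _ (hchart U), hsq U]
    exact Iff.rfl
  constructor
  · intro h y
    obtain ⟨U, hyU, z, hz, hann⟩ := h (I.subschemeι y)
    obtain ⟨sz, hsz⟩ := Conormal.exists_idealSect I.subschemeι U.1 z
      ((hker U).ge (hz.ge (Submodule.mem_span_singleton_self z)))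
    let e := OmegaSh.conormalSect I.subschemeι U.1 sz
    have hbij : Function.Bijective fun c : Γ(I.subscheme, I.subschemeι ⁻¹ᵁ U.1) => c • e := by
      constructor
      · intro c c' hcc
        obtain ⟨a, rfl⟩ := (hchart U).surjective c
        obtain ⟨a', rfl⟩ := (hchart U).surjective c'
        have h1 : I.subschemeι.app U.1 a • e = I.subschemeι.app U.1 a' • e := hcc
        rw [← Conormal.conormalSect_smul, ← Conormal.conormalSect_smul, ← sub_eq_zero, ← map_sub,
          ← sub_smul, hzero, Conormal.idealSect_smul, hsz] at h1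
        have h2 : a - a' ∈ RingHom.ker (I.subschemeι.app U.1).hom :=
          (hker U).ge (hann _ (by rwa [pow_one]))
        rw [RingHom.mem_ker, map_sub, sub_eq_zero] at h2
        exact h2
      · intro m
        obtain ⟨s, rfl⟩ := Conormal.conormalSect_surjective _ (hchart U) m
        have hs : OmegaSh.idealSect I.subschemeι.ker U.1 s ∈ I.ideal U :=
          (hker U).le (Conormal.app_idealSect I.subschemeι U.1 s)
        rw [hz, Ideal.mem_span_singleton'] at hs
        obtain ⟨a, ha⟩ := hs
        refine ⟨I.subschemeι.app U.1 a, ?_⟩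
        show I.subschemeι.app U.1 a • e = _
        rw [← Conormal.conormalSect_smul]
        congr 1
        refine Conormal.idealSect_injective _ _ ?_
        rw [Conormal.idealSect_smul, hsz, ha]
    let E : Γ(I.subscheme, I.subschemeι ⁻¹ᵁ U.1) ≃ₗ[Γ(I.subscheme, I.subschemeι ⁻¹ᵁ U.1)]
        Γ(Omega.conormal I.subschemeι, I.subschemeι ⁻¹ᵁ U.1) :=
      LinearEquiv.ofBijective (LinearMap.toSpanSingleton _ _ e) hbij
    haveI : (Omega.conormal I.subschemeι).IsQuasicoherent := Conormal.isQCoh_conormal _
    obtain ⟨ε⟩ := OmegaLib.exists_iso_free_of_basis (hchart U).preimage (n := 1)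
      ((Module.Basis.singleton (ULift.{u} (Fin 1)) _).map E)
    exact ⟨I.subschemeι ⁻¹ᵁ U.1, hyU, ⟨ε ≪≫ coproductUniqueIso _⟩⟩
  · intro h x
    obtain ⟨y, rfl⟩ : x ∈ Set.range I.subschemeι := by
      rw [Scheme.IdealSheafData.range_subschemeι]
      have : (I.support : Set C) = Set.univ := by
        rw [← Scheme.IdealSheafData.support_pow I (n := 2) (by norm_num), hI,
          Scheme.IdealSheafData.support_bot]
        rfl
      rw [this]
      trivial
    obtain ⟨W, e₀, hyW, he₀⟩ := TMul.exists_isGen h y
    obtain ⟨U, hU, hyU, hUW⟩ := Conormal.exists_chart I.subschemeι y W hyW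
    obtain ⟨sz, hsz⟩ := Conormal.conormalSect_surjective _ hU (QC.res (Omega.conormal I.subschemeι) hUW e₀)
    refine ⟨⟨U, hU.affine⟩, hyU, OmegaSh.idealSect I.subschemeι.ker U sz, le_antisymm (fun a ha => ?_) ?_,
      fun a ha => ?_⟩
    · obtain ⟨s, hs⟩ := Conormal.exists_idealSect I.subschemeι U a ((hker ⟨U, hU.affine⟩).ge ha)
      obtain ⟨c, hc⟩ := (he₀ (I.subschemeι ⁻¹ᵁ U) hUW).2 (OmegaSh.conormalSect I.subschemeι U s)
      obtain ⟨b, rfl⟩ := hU.surjective c
      have h1 : OmegaSh.conormalSect I.subschemeι U (s - b • sz) = 0 := by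
        rw [map_sub, Conormal.conormalSect_smul, hsz]
        exact sub_eq_zero.mpr hc.symm
      rw [hzero ⟨U, hU.affine⟩, map_sub, Conormal.idealSect_smul, sub_eq_zero, hs] at h1
      rw [Ideal.mem_span_singleton']
      exact ⟨b, h1.symm⟩
    · rw [Ideal.span_le, Set.singleton_subset_iff]
      exact (hker ⟨U, hU.affine⟩).le (Conormal.app_idealSect I.subschemeι U sz)
    · rw [pow_one] at ha
      have h1 : OmegaSh.conormalSect I.subschemeι U (a • sz) = 0 := by
        rw [hzero ⟨U, hU.affine⟩, Conormal.idealSect_smul, ha]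
      rw [Conormal.conormalSect_smul, hsz] at h1
      have h2 : I.subschemeι.app U a = 0 :=
        (he₀ (I.subschemeι ⁻¹ᵁ U) hUW).1 (h1.trans (zero_smul _ _).symm)
      exact (hker ⟨U, hU.affine⟩).le h2

end Groth.Agent.S18344
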