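import Groth.Statements.S1835
import Mathlib.RingTheory.Ideal.GoingUp
import Mathlib.RingTheory.Ideal.Height
import Mathlib.RingTheory.Ideal.KrullsHeightTheorem
import Mathlib.RingTheory.KrullDimension.Basic

set_option autoImplicit false
universe u
open CycAlg

namespace Groth.Agent.S1835

/-- Let R be a Noetherian local ring of dimension 1, a a nonzerodivisor in the maximal ideal and b a
nonzerodivisor. There is an integer n such that whenever b = a^m c in some finite extension ring R ⊆
R', one has m ≤ n. -/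
theorem result (R : Type u) [CommRing R] [IsNoetherianRing R] [IsLocalRing R] (hR : ringKrullDim R = 1) (a b : R) (ha : a ∈ nonZeroDivisors R) (ham : a ∈ IsLocalRing.maximalIdeal R) (hb : b ∈ nonZeroDivisors R) : ∃ n : ℕ, ∀ (R' : Type u) [CommRing R'] [Algebra R R'], Function.Injective (algebraMap R R') → Module.Finite R R' → ∀ (m : ℕ) (c : R'), algebraMap R R' b = algebraMap R R' a ^ m * c → m ≤ n := by
  classical
  by_cases hbu : IsUnit b
  · refine ⟨0, fun R' _ _ hinj _ m c hbc => ?_⟩
    rcases m.eq_zero_or_pos with h | h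
    · omega
    exfalso
    haveI : Algebra.IsIntegral R R' := Algebra.IsIntegral.of_finite R R'
    have hu : IsUnit (algebraMap R R' a) := by
      have h1 : IsUnit (algebraMap R R' a ^ m * c) := hbc ▸ hbu.map _
      exact (isUnit_pow_iff h.ne').1 (isUnit_of_mul_isUnit_left h1)
    obtain ⟨N, hN, hNm⟩ := Ideal.exists_ideal_over_prime_of_isIntegral (S := R') (IsLocalRing.maximalIdeal R) ⊥
      (by rw [← RingHom.ker_eq_comap_bot, (RingHom.injective_iff_ker_eq_bot _).1 hinj]; exact bot_le)
    exact hNm.1.ne_top (Ideal.eq_top_of_isUnit_mem _ (Ideal.mem_comap.1 (hNm.2.ge ham)) hu)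
  have hrad : a ∈ (Ideal.span {b}).radical := by
    rw [Ideal.radical_eq_sInf, Ideal.mem_sInf]
    rintro q ⟨hbq, hq⟩
    haveI : q.IsPrime := hq
    suffices q = IsLocalRing.maximalIdeal R from this ▸ ham
    by_contra hne
    have h1 : q < IsLocalRing.maximalIdeal R := lt_of_le_of_ne (IsLocalRing.le_maximalIdeal hq.ne_top) hne
    have h2 : q.height = 0 := by
      have h3 := Ideal.height_strict_mono_of_isPrime h1
      rw [← WithBot.coe_lt_coe, IsLocalRing.maximalIdeal_height_eq_ringKrullDim, hR] at h3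
      exact ENat.lt_one_iff_eq_zero.1 (WithBot.coe_lt_coe.1 h3)
    have h4 : q ∈ minimalPrimes R := Ideal.height_eq_zero_iff.1 h2
    exact Set.disjoint_left.1 (Ideal.disjoint_nonZeroDivisors_of_mem_minimalPrimes h4)
      (hbq (Ideal.mem_span_singleton_self b)) hb
  obtain ⟨s, hs⟩ := hrad
  obtain ⟨x, hx⟩ := Ideal.mem_span_singleton'.1 hs
  obtain ⟨p, hp⟩ : (minimalPrimes R).Nonempty := by
    obtain ⟨p, hp, -⟩ := Ideal.exists_minimalPrimes_le (I := (⊥ : Ideal R)) (J := IsLocalRing.maximalIdeal R) bot_le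
    exact ⟨p, hp⟩
  haveI : p.IsPrime := hp.1.1
  refine ⟨s, fun R' _ _ hinj _ m c hbc => ?_⟩
  haveI : Algebra.IsIntegral R R' := Algebra.IsIntegral.of_finite R R'
  have hap : a ∉ p := fun h => Set.disjoint_left.1 (Ideal.disjoint_nonZeroDivisors_of_mem_minimalPrimes hp) h ha
  obtain ⟨p', -, hp', hpp'⟩ := Ideal.exists_ideal_over_prime_of_isIntegral (S := R') p ⊥
    (by rw [← RingHom.ker_eq_comap_bot, (RingHom.injective_iff_ker_eq_bot _).1 hinj]; exact bot_le)
  haveI := hp'
  obtain ⟨N, hN, hN', hNm⟩ := Ideal.exists_ideal_over_prime_of_isIntegral (S := R') (IsLocalRing.maximalIdeal R) p'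
    (hpp'.le.trans (IsLocalRing.le_maximalIdeal (‹p.IsPrime›).ne_top))
  by_contra hm
  push Not at hm
  have haN : algebraMap R R' a ∈ N := Ideal.mem_comap.1 (hNm.ge ham)
  have key : algebraMap R R' a ^ s * (1 - algebraMap R R' a ^ (m - s) * (c * algebraMap R R' x)) = 0 := by
    rw [mul_sub, mul_one, ← mul_assoc (algebraMap R R' a ^ s), ← pow_add, Nat.add_sub_cancel' hm.le, ← mul_assoc, ← hbc,
      ← map_mul, mul_comm b, hx, map_pow, sub_self]
  rcases hp'.mem_or_mem (key ▸ p'.zero_mem) with h | h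
  · exact hap (hpp'.le (Ideal.mem_comap.2 (hp'.mem_of_pow_mem _ h)))
  · refine hN'.ne_top ((Ideal.eq_top_iff_one _).2 ?_)
    simpa using add_mem (hN h) (N.mul_mem_right (c * algebraMap R R' x) (Ideal.pow_mem_of_mem _ haN (m - s) (by omega)))

end Groth.Agent.S1835
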