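import Groth.Statements.S18351
import Groth.Agent.Conormal.Seq
import Groth.Agent.OmegaLib.Exact

set_option autoImplicit false
set_option linter.style.haveILetI false
set_option backward.isDefEq.respectTransparency false
open Groth.Agent
universe w u
open CategoryTheory CategoryTheory.Limits AlgebraicGeometry
open MultCurve

namespace Groth.Agent.S18351

/-- Let k be a field and D a reduced connected scheme locally of finite type over k with a universal
k-derivation d₂ : O_D → Ω₂. Let C and C′ be ribbons on D over k (k-schemes locally of finite type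
with closed immersions i, i′ of D over k making them ribbons), each with its restricted cotangent
sequence presented by a universal k-derivation (d₁, resp. d₁′), the map from the conormal bundle (𝓛,
resp. 𝓛′) induced by it and the map to Ω₂ compatible with d₂, assumed short exact, with classes e_C
∈ Ext¹(Ω₂, 𝓛) and e_{C′} ∈ Ext¹(Ω₂, 𝓛′). Let g : C ⟶ C′ be a morphism over D and over k, and let α :
𝓛′ → 𝓛 be the map of conormal bundles induced by g (pulled back along the identity of D). Then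
e_{C′} composed with α equals e_C: together with the restriction to D of the differential of g, α is
a morphism from the restricted cotangent sequence of C′ to that of C. (This is the form in which the
blow-up morphism X ⟶ C of a ribbon C along an effective Cartier divisor of D relates the two
classes; that such a blow-up X is again a ribbon on D, with conormal bundle 𝓛(δ), is a separate
statement, and the identification of α with multiplication by the section of δ is not asserted here.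
Valid for every morphism of ribbons over D.) -/
theorem result (k : Type u) [Field k] (D : Scheme.{u})
    (pD : D ⟶ Spec (CommRingCat.of k)) [LocallyOfFiniteType pD] [ConnectedSpace D]
    (Ω₂ : D.Modules) (d₂ : OmegaSh.Der pD Ω₂) (hd₂ : OmegaSh.IsUniversal d₂) [HasExt.{w} D.Modules]
    (C : Scheme.{u}) (i : D ⟶ C) (pC : C ⟶ Spec (CommRingCat.of k)) [LocallyOfFiniteType pC]
    (hp : i ≫ pC = pD) (hR : MultCurve.IsRibbon i)
    (Ω₁ : C.Modules) (d₁ : OmegaSh.Der pC Ω₁) (hd₁ : OmegaSh.IsUniversal d₁)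
    (φ : Omega.conormal i ⟶ (Scheme.Modules.pullback i).obj Ω₁) (hφ : OmegaSh.IsConormalDiff i d₁ φ)
    (c : (Scheme.Modules.pullback i).obj Ω₁ ⟶ Ω₂) (hc : OmegaSh.IsDiffCompat i d₁ d₂ c)
    (hw : φ ≫ c = 0) (hS : (ShortComplex.mk φ c hw).ShortExact)
    (C' : Scheme.{u}) (i' : D ⟶ C') (pC' : C' ⟶ Spec (CommRingCat.of k)) [LocallyOfFiniteType pC']
    (hp' : i' ≫ pC' = pD) (hR' : MultCurve.IsRibbon i')
    (Ω₁' : C'.Modules) (d₁' : OmegaSh.Der pC' Ω₁') (hd₁' : OmegaSh.IsUniversal d₁')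
    (φ' : Omega.conormal i' ⟶ (Scheme.Modules.pullback i').obj Ω₁') (hφ' : OmegaSh.IsConormalDiff i' d₁' φ')
    (c' : (Scheme.Modules.pullback i').obj Ω₁' ⟶ Ω₂) (hc' : OmegaSh.IsDiffCompat i' d₁' d₂ c')
    (hw' : φ' ≫ c' = 0) (hS' : (ShortComplex.mk φ' c' hw').ShortExact)
    (g : C ⟶ C') (hgi : i ≫ g = i') (hgk : g ≫ pC' = pC)
    (α : (Scheme.Modules.pullback (𝟙 D)).obj (Omega.conormal i') ⟶ Omega.conormal i)
    (hα : OmegaSh.IsConormalMap i i' g (𝟙 D) α) :
    hS'.extClass.comp (Abelian.Ext.mk₀ ((Scheme.Modules.pullbackId D).inv.app (Omega.conormal i') ≫ α)) (add_zero 1) =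
      hS.extClass := by
  subst hgi
  haveI : IsClosedImmersion i := hR.1.1
  obtain ⟨cg, hcg, -⟩ := OmegaLib.existsUnique_diffCompat (f := pC') (f' := pC) (h := g) (b := 𝟙 _)
    (by rw [Category.comp_id, hgk]) hd₁' d₁
  let β : (Scheme.Modules.pullback (i ≫ g)).obj Ω₁' ⟶ (Scheme.Modules.pullback i).obj Ω₁ :=
    (Scheme.Modules.pullbackComp i g).inv.app Ω₁' ≫ (Scheme.Modules.pullback i).map cg
  have hβ : ∀ (U : C'.Opens) (s : Γ(C', U)),
      β.app (i ⁻¹ᵁ (g ⁻¹ᵁ U)) (OmegaSh.pullSect (i ≫ g) Ω₁' U (d₁'.app U s)) =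
        OmegaSh.pullSect i Ω₁ (g ⁻¹ᵁ U) (d₁.app (g ⁻¹ᵁ U) (g.app U s)) := by
    intro U s
    rw [← hcg U s, ← QC.app_pullSect i cg, ← QC.pullbackComp_hom_pullSect]
    exact congrArg (((Scheme.Modules.pullback i).map cg).app (i ⁻¹ᵁ (g ⁻¹ᵁ U)))
      congr(($((Scheme.Modules.pullbackComp i g).hom_inv_id_app Ω₁')).app (i ⁻¹ᵁ (g ⁻¹ᵁ U)) _)
  have h23 : β ≫ c = c' := by
    refine OmegaLib.pullback_hom_ext hd₁' _ _ fun U s => ?_
    refine (congrArg (c.app (i ⁻¹ᵁ (g ⁻¹ᵁ U))) (hβ U s)).trans ?_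
    refine (hc (g ⁻¹ᵁ U) (g.app U s)).trans ?_
    refine Eq.trans ?_ (hc' U s).symm
    rw [Scheme.Hom.comp_app]
    rfl
  have h12 : φ' ≫ β = ((Scheme.Modules.pullbackId D).inv.app (Omega.conormal (i ≫ g)) ≫ α) ≫ φ := by
    refine Conormal.hom_ext (i ≫ g) _ _ fun U s => ?_
    obtain ⟨t, ht⟩ := Conormal.exists_idealSect_comp g i U s
    refine (congrArg (β.app (i ⁻¹ᵁ (g ⁻¹ᵁ U))) (hφ' U s)).trans ?_
    refine (hβ U _).trans ?_
    refine Eq.trans ?_ (congrArg (φ.app (i ⁻¹ᵁ (g ⁻¹ᵁ U))) (Conormal.second_app hα U s t ht)).symm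
    rw [← ht]
    exact (hφ (g ⁻¹ᵁ U) t).symm
  let S' := ShortComplex.mk φ' c' hw'
  let S := ShortComplex.mk φ c hw
  let m : S' ⟶ S := ShortComplex.homMk
    ((Scheme.Modules.pullbackId D).inv.app (Omega.conormal (i ≫ g)) ≫ α) β (𝟙 _) h12.symm
    (by show β ≫ c = c' ≫ 𝟙 _; rw [h23, Category.comp_id])
  refine (ShortComplex.ShortExact.extClass_naturality hS' hS m).trans ?_
  exact Abelian.Ext.mk₀_id_comp _

end Groth.Agent.S18351
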