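import Groth.Statements.S6312
import Mathlib.RingTheory.Length
import Mathlib.Algebra.Module.LocalizedModule.Basic

set_option autoImplicit false
universe u
open CAlg

namespace Groth.Agent.S6312

/-- Let R be a ring, M an R-module and S ⊆ R a multiplicative subset. Then length_{S⁻¹R}(S⁻¹M) ≤
length_R(M). -/
theorem result {R : Type u} [CommRing R] (S : Submonoid R) (M : Type u) [AddCommGroup M] [Module R M] : Module.length (Localization S) (LocalizedModule S M) ≤ Module.length R M := by
  let φ := LocalizedModule.mkLinearMap S M
  let c : Submodule (Localization S) (LocalizedModule S M) → Submodule R M := fun N => (N.restrictScalars R).comap φ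
  have hc : StrictMono c := by
    have hmono : Monotone c := fun N N' h => Submodule.comap_mono h
    refine hmono.strictMono_of_injective fun N N' h => ?_
    have key : ∀ N : Submodule (Localization S) (LocalizedModule S M), ∀ z, z ∈ N ↔ ∃ m ∈ c N, ∃ s : S, z = LocalizedModule.mk m s := fun N z => by
      induction z using LocalizedModule.induction_on with
      | h m s =>
        refine ⟨fun hz => ⟨m, ?_, s, rfl⟩, ?_⟩
        · have h2 := N.smul_mem (Localization.mk (s : R) 1) hz
          rwa [LocalizedModule.mk_smul_mk, one_mul, ← Submonoid.smul_def, LocalizedModule.mk_cancel] at h2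
        · rintro ⟨m', hm', s', he⟩
          rw [he]
          have h2 := N.smul_mem (Localization.mk 1 s') hm'
          rwa [LocalizedModule.mkLinearMap_apply, LocalizedModule.mk_smul_mk, one_smul, mul_one] at h2
    ext z
    rw [key N, key N', h]
  have h := Order.krullDim_le_of_strictMono c hc
  rw [← Module.coe_length, ← Module.coe_length] at h
  exact WithBot.coe_le_coe.1 h

end Groth.Agent.S6312
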