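import Groth.Statements.S18360
import Groth.Agent.CompLift.Basic

set_option autoImplicit false
set_option linter.style.haveILetI false
universe u
open CategoryTheory CategoryTheory.Limits AlgebraicGeometry
open Alter

namespace Groth.Agent.S18360

/-- Let Y be a Noetherian scheme, i : F ⟶ Y a closed immersion and s : F' ⟶ F a finite surjective
morphism. Then there are a scheme Y' and a finite surjective morphism g : Y' ⟶ Y such that every
irreducible component of F ×_Y Y', with its reduced closed-subscheme structure, is the source of an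
F-morphism to F': for every reduced scheme G and every closed immersion ι : G ⟶ F ×_Y Y' whose image
is an irreducible component, there is φ : G ⟶ F' with φ ≫ s = ι ≫ pr₁. -/
theorem result {Y F F' : Scheme.{u}} [IsNoetherian Y]
    (i : F ⟶ Y) [IsClosedImmersion i] (s : F' ⟶ F) [IsFinite s] [Surjective s] :
    ∃ (Y' : Scheme.{u}) (g : Y' ⟶ Y), IsFinite g ∧ Surjective g ∧
      ∀ (G : Scheme.{u}) (ι : G ⟶ pullback i g) [IsClosedImmersion ι] [AlgebraicGeometry.IsReduced G],
        Set.range ι.base ∈ irreducibleComponents ↥(pullback i g) →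
          ∃ φ : G ⟶ F', φ ≫ s = ι ≫ pullback.fst i g := by
  classical
  obtain ⟨S, hS⟩ := isCompact_univ.elim_finite_subcover (fun U : Y.affineOpens => (U.1 : Set Y)) (fun U => U.1.2)
    (fun y _ => by
      obtain ⟨U, hU, hy, -⟩ := exists_isAffineOpen_mem_and_subset (X := Y) (x := y) (U := ⊤) trivial
      exact Set.mem_iUnion.mpr ⟨⟨U, hU⟩, hy⟩)
  obtain ⟨Y', g, hgf, hgs, hg⟩ := Groth.Agent.CompLift.exists_splits_all (s ≫ i) S
  refine ⟨Y', g, hgf, hgs, fun G ι _ _ hG => ?_⟩
  haveI : Nonempty G := by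
    obtain ⟨_, z, -⟩ := hG.1.nonempty
    exact ⟨z⟩
  haveI : PreirreducibleSpace G := ⟨by
    intro u v hu hv hux hvx
    obtain ⟨u', hu', rfl⟩ := ι.isClosedEmbedding.isInducing.isOpen_iff.mp hu
    obtain ⟨v', hv', rfl⟩ := ι.isClosedEmbedding.isInducing.isOpen_iff.mp hv
    obtain ⟨a, -, ha⟩ := hux
    obtain ⟨b, -, hb⟩ := hvx
    obtain ⟨_, ⟨c, rfl⟩, hc⟩ := hG.1.isPreirreducible u' v' hu' hv' ⟨ι a, ⟨a, rfl⟩, ha⟩ ⟨ι b, ⟨b, rfl⟩, hb⟩
    exact ⟨c, trivial, hc⟩⟩
  haveI : IrreducibleSpace G := ⟨inferInstance⟩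
  haveI : IsIntegral G := isIntegral_of_irreducibleSpace_of_isReduced G
  haveI : IsAffineHom ((ι ≫ pullback.snd i g) ≫ g) := inferInstance
  refine Groth.Agent.CompLift.exists_lift i s S (fun y => ?_) g hg (ι ≫ pullback.fst i g) (ι ≫ pullback.snd i g)
    (by simp [pullback.condition])
  obtain ⟨U, hU, hy⟩ := Set.mem_iUnion₂.mp (hS (Set.mem_univ y))
  exact ⟨U, hU, hy⟩

end Groth.Agent.S18360
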