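import Groth.Statements.S18362
import Groth.Agent.AbsAbh.Main
import Groth.Agent.RegLoc.QuotientRegular

set_option autoImplicit false
universe u
open SGA1t

namespace Groth.Agent.S18362

/-- Let A be a regular local ring which is henselian with separably closed residue field of
characteristic p > 0, and let f be an element of A such that A/(f) is a regular local ring in which
p is nonzero. Write A₁ = A[t]/(t^p - f) and let B be a finite étale algebra over A[1/f]. If there is
a finite étale A₁-algebra C₁ with C₁[1/f] isomorphic to A₁ ⊗_A B as A₁-algebras, then there is a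
finite étale A-algebra C with C[1/f] isomorphic to B as A-algebras. The published statement also
assumes the cover connected and tamely ramified along f = 0; this row assumes neither, tameness
being automatic here because the generic point of the divisor f = 0 has residue characteristic zero. -/
theorem result {A : Type u} [CommRing A]
    [IsRegularLocalRing A] [HenselianLocalRing A] [IsSepClosed (IsLocalRing.ResidueField A)]
    (p : ℕ) [Fact p.Prime] [CharP (IsLocalRing.ResidueField A) p] (f : A)
    (hreg : IsRegularLocalRing (A ⧸ Ideal.span {f})) (hp : (p : A) ∉ Ideal.span {f})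
    (B : Type u) [CommRing B] [Algebra A B] [Algebra (Localization.Away f) B]
    [IsScalarTower A (Localization.Away f) B] [Module.Finite (Localization.Away f) B]
    [Algebra.Etale (Localization.Away f) B]
    (h : ∃ (C₁ : Type u) (_ : CommRing C₁) (_ : Algebra (AdjoinRoot (Polynomial.X ^ p - Polynomial.C f)) C₁),
      Module.Finite (AdjoinRoot (Polynomial.X ^ p - Polynomial.C f)) C₁ ∧
      Algebra.Etale (AdjoinRoot (Polynomial.X ^ p - Polynomial.C f)) C₁ ∧
      Nonempty (Localization.Away (algebraMap (AdjoinRoot (Polynomial.X ^ p - Polynomial.C f)) C₁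
          (AdjoinRoot.of (Polynomial.X ^ p - Polynomial.C f) f))
        ≃ₐ[AdjoinRoot (Polynomial.X ^ p - Polynomial.C f)]
          TensorProduct A (AdjoinRoot (Polynomial.X ^ p - Polynomial.C f)) B)) :
    ∃ (C : Type u) (_ : CommRing C) (_ : Algebra A C), Module.Finite A C ∧ Algebra.Etale A C ∧
      Nonempty (Localization.Away (algebraMap A C f) ≃ₐ[A] B) := by
  classical
  haveI := Groth.Agent.RegLoc.isDomain A
  rcases eq_or_ne f 0 with hf0 | hf0
  · subst hf0
    haveI : Subsingleton (Localization.Away (0 : A)) :=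
      subsingleton_of_zero_eq_one (by
        have h1 := IsLocalization.Away.algebraMap_isUnit (S := Localization.Away (0 : A)) (0 : A)
        rw [map_zero] at h1
        exact isUnit_zero_iff.1 h1)
    haveI : Subsingleton B := (algebraMap (Localization.Away (0 : A)) B).codomain_trivial
    haveI : Subsingleton (Localization.Away (algebraMap A A 0)) :=
      subsingleton_of_zero_eq_one (by
        have h1 := IsLocalization.Away.algebraMap_isUnit (S := Localization.Away (algebraMap A A 0)) (algebraMap A A 0)
        rw [map_zero, map_zero] at h1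
        exact isUnit_zero_iff.1 h1)
    exact ⟨A, inferInstance, inferInstance, inferInstance, inferInstance,
      ⟨{ toFun := fun _ => 0, invFun := fun _ => 0, left_inv := fun _ => Subsingleton.elim _ _,
         right_inv := fun _ => Subsingleton.elim _ _, map_mul' := fun _ _ => Subsingleton.elim _ _,
         map_add' := fun _ _ => Subsingleton.elim _ _, commutes' := fun _ => Subsingleton.elim _ _ }⟩⟩
  haveI : IsLocalRing (A ⧸ Ideal.span {f}) := inferInstance
  have hne : Ideal.span {f} ≠ ⊤ := fun h => by
    haveI : Nontrivial (A ⧸ Ideal.span {f}) := inferInstance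
    exact Ideal.Quotient.nontrivial_iff.1 this h
  have hfm : f ∈ IsLocalRing.maximalIdeal A := IsLocalRing.le_maximalIdeal hne (Ideal.subset_span rfl)
  haveI : IsRegularLocalRing (A ⧸ Ideal.span {f}) := hreg
  haveI : IsRegularRing (A ⧸ Ideal.span {f}) := Groth.Agent.SerreReg.isRegularRing_of_isRegularLocalRing _
  have hsq : f ∉ IsLocalRing.maximalIdeal A ^ 2 := fun h => hf0 (by
    have h1 := Groth.Agent.RegLoc.inf_sq_le_mul_of_regular_quotient (Ideal.span {f}) hne
      ⟨Ideal.subset_span rfl, h⟩
    obtain ⟨a, ha, hfa⟩ := Ideal.mem_mul_span_singleton.1 h1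
    have hu : IsUnit (1 - a) := IsLocalRing.isUnit_one_sub_self_of_mem_nonunits a ha
    exact (hu.mul_right_eq_zero).1 (by rw [sub_mul, one_mul, hfa, sub_self]))
  let t : Fin 1 → A := fun _ => f
  have ht : ∀ i, t i ∈ IsLocalRing.maximalIdeal A := fun _ => hfm
  have hti : Groth.Agent.AbsAbh.CotIndep t ht := linearIndependent_unique_iff.2 fun h0 => hsq ((Ideal.toCotangent_eq_zero _ _).1 h0)
  haveI : (Ideal.span {f}).IsPrime := (hti.prime 0).2
  have hP : (Ideal.span {f}).height = 1 := by
    refine le_antisymm (Ideal.height_le_one_of_isPrincipal_of_mem_minimalPrimes _ _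
      ⟨⟨inferInstance, le_rfl⟩, fun q hq _ => hq.2⟩) (Order.one_le_iff_pos.2 (pos_iff_ne_zero.2 fun h0 => hf0 ?_))
    haveI : (⊥ : Ideal A).IsPrime := Ideal.isPrime_bot
    by_contra hne0
    have h1 := Ideal.height_add_one_le_of_lt_of_isPrime (bot_lt_iff_ne_bot.2 fun h => hne0 (Ideal.span_singleton_eq_bot.1 h) : (⊥ : Ideal A) < Ideal.span {f})
    rw [h0] at h1
    exact absurd h1 (by simp)
  haveI : Algebra.Etale A (Localization.Away f) := Algebra.Etale.of_isLocalizationAway f
  haveI : Algebra.Etale A B := Algebra.Etale.comp A (Localization.Away f) B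
  have hFB : IsUnit (algebraMap A B f) := by
    rw [IsScalarTower.algebraMap_apply A (Localization.Away f) B]
    exact (IsLocalization.Away.algebraMap_isUnit f).map _
  have hint : ∀ b : B, ∃ k : ℕ, IsIntegral A (f ^ k • b) := fun b => by
    obtain ⟨⟨_, k, rfl⟩, hk⟩ := IsIntegral.exists_multiple_integral_of_isLocalization (Submonoid.powers f) b
      (Algebra.IsIntegral.isIntegral (R := Localization.Away f) b)
    exact ⟨k, hk⟩
  have hpA : (p : A) ≠ 0 := fun h0 => hp (h0 ▸ zero_mem _)
  have hpm : (p : A) ∈ IsLocalRing.maximalIdeal A := by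
    rw [← IsLocalRing.residue_eq_zero_iff, map_natCast]; exact CharP.cast_eq_zero _ p
  obtain ⟨C₁, _, _, hfin₁, het₁, ⟨e₁⟩⟩ := h
  let A₁ := AdjoinRoot (Polynomial.X ^ p - Polynomial.C f)
  obtain ⟨S', _, _, _, _, _, _, hsc, hinj, hroot, hrad⟩ :=
    Groth.Agent.AbsAbh.exists_radicial_strict A t ht hti p (fun _ => p) (fun _ => ⟨1, (pow_one p).symm⟩)
  haveI := hsc
  obtain ⟨s, hs⟩ := hroot 0
  let g : A₁ →ₐ[A] S' := AdjoinRoot.liftAlgHom (Polynomial.X ^ p - Polynomial.C f) (Algebra.ofId A S') s (by
    simp only [Polynomial.eval₂_sub, Polynomial.eval₂_X_pow, Polynomial.eval₂_C]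
    exact sub_eq_zero.2 hs)
  letI : Algebra A₁ S' := g.toRingHom.toAlgebra
  haveI : IsScalarTower A A₁ S' := IsScalarTower.of_algebraMap_eq fun a => (g.commutes a).symm
  let Ω := AlgebraicClosure (FractionRing S')
  haveI := hfin₁
  haveI := het₁
  let L₁ := Localization.Away (algebraMap A₁ C₁ (AdjoinRoot.of (Polynomial.X ^ p - Polynomial.C f) f))
  have H1 : ∃ (C : Type u) (_ : CommRing C) (_ : Algebra A₁ C) (_ : Algebra.Etale A₁ C) (_ : Module.Finite A₁ C)
      (j : C →ₐ[A₁] TensorProduct A A₁ B), ∀ b : B, ∃ (k : ℕ) (c : C), j c = (1 : A₁) ⊗ₜ[A] (f ^ k • b) := by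
    refine ⟨C₁, inferInstance, inferInstance, het₁, hfin₁, e₁.toAlgHom.comp (IsScalarTower.toAlgHom A₁ C₁ L₁), fun b => ?_⟩
    obtain ⟨⟨c, _, k, rfl⟩, hc⟩ := IsLocalization.surj
      (Submonoid.powers (algebraMap A₁ C₁ (AdjoinRoot.of (Polynomial.X ^ p - Polynomial.C f) f))) (e₁.symm ((1 : A₁) ⊗ₜ[A] b))
    refine ⟨k, c, ?_⟩
    show e₁ (algebraMap C₁ L₁ c) = _
    rw [← hc, map_mul, AlgEquiv.apply_symm_apply, map_pow, map_pow, ← IsScalarTower.algebraMap_apply A₁ C₁ L₁,
      AlgEquiv.commutes]
    show ((1 : A₁) ⊗ₜ[A] b) * (algebraMap A₁ _ (algebraMap A A₁ f)) ^ k = _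
    rw [← IsScalarTower.algebraMap_apply, ← map_pow, TensorProduct.tmul_smul, Algebra.smul_def, mul_comm]
  have H2 : ∀ (P : Ideal A) [P.IsPrime], P.height = 1 → (p : A) ∈ P → f ∈ P →
      ∀ (S : Type u) [CommRing S] [IsDomain S] [IsDiscreteValuationRing S] [Algebra A S] [IsLocalization.AtPrime S P]
        [Algebra S (FractionRing A)] [IsScalarTower A S (FractionRing A)] [IsFractionRing S (FractionRing A)],
        Groth.Agent.AbsAbh.UnramFactors S (FractionRing A) (TensorProduct A (FractionRing A) B) := by
    intro P _ hP1 hpP hfP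
    exfalso
    refine hp ?_
    have hle : Ideal.span {f} ≤ P := (Ideal.span_singleton_le_iff_mem _).2 hfP
    refine (hle.eq_or_lt.resolve_right fun hlt => ?_).ge hpP
    have h1 := Ideal.height_add_one_le_of_lt_of_isPrime hlt
    rw [hP, hP1] at h1
    exact absurd h1 (by norm_num)
  have hSΩ : Function.Injective (algebraMap A Ω) := by
    intro a b hab
    rw [IsScalarTower.algebraMap_apply A S' Ω, IsScalarTower.algebraMap_apply A S' Ω,
      IsScalarTower.algebraMap_apply S' (FractionRing S') Ω, IsScalarTower.algebraMap_apply S' (FractionRing S') Ω] at hab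
    exact hinj (IsFractionRing.injective S' (FractionRing S') ((algebraMap (FractionRing S') Ω).injective hab))
  have hrat := Groth.Agent.AbsAbh.points_rational p (FractionRing A) B A₁ A S' Ω (FractionRing S') hpA
    ((IsLocalRing.mem_maximalIdeal _).1 hpm) hinj hrad f hFB hint H1 H2
  have hid : Ideal.span {algebraMap A A f} = Ideal.span {f} := rfl
  haveI : (Ideal.span {algebraMap A A f}).IsPrime := hid ▸ inferInstance
  obtain ⟨het, hfin⟩ := Groth.Agent.AbsAbh.etale_integralClosure_regular A (FractionRing A) B f hf0 hFB hint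
    (fun P _ hP1 hfP S _ _ _ _ _ _ _ _ => by
      have hle : Ideal.span {f} ≤ P := (Ideal.span_singleton_le_iff_mem _).2 hfP
      have hPeq : Ideal.span {f} = P := hle.eq_or_lt.resolve_right fun hlt => by
        have h1 := Ideal.height_add_one_le_of_lt_of_isPrime hlt
        rw [hP, hP1] at h1
        exact absurd h1 (by norm_num)
      subst hPeq
      exact Groth.Agent.AbsAbh.unramFactors_of_rational (FractionRing A) B hSΩ hrat p hpm f hf0 hp hP S)
  refine ⟨integralClosure A B, inferInstance, inferInstance, hfin, het, ⟨?_⟩⟩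
  letI : Algebra (integralClosure A B) B := (integralClosure A B).val.toRingHom.toAlgebra
  haveI : IsScalarTower A (integralClosure A B) B := IsScalarTower.of_algebraMap_eq fun _ => rfl
  haveI : IsLocalization.Away (algebraMap A (integralClosure A B) f) B := by
    refine IsLocalization.Away.mk (algebraMap A (integralClosure A B) f) hFB (fun b => ?_) fun c c' hcc => ?_
    · obtain ⟨k, hk⟩ := hint b
      exact ⟨k, ⟨f ^ k • b, hk⟩, by
        show b * (algebraMap A B f) ^ k = f ^ k • b
        rw [Algebra.smul_def, map_pow, mul_comm]⟩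
    · exact ⟨0, by rw [Subtype.ext hcc]⟩
  exact (IsLocalization.algEquiv (Submonoid.powers (algebraMap A (integralClosure A B) f))
    (Localization.Away (algebraMap A (integralClosure A B) f)) B).restrictScalars A

end Groth.Agent.S18362
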