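import Groth.Statements.S18363
import Mathlib

set_option autoImplicit false
universe u
open CategoryTheory
open CAlg

namespace Groth.Agent.S18363

/-- Let R be a Noetherian local ring with maximal ideal m, and P, Q ideals of R such that P + Q contains
a power of m while R/P and R/Q are both reduced of Krull dimension one. Let I and J be nonzero
finitely generated R-modules with P·I = 0 and Q·J = 0, such that every element of R whose class in
R/P is a non-zero-divisor acts injectively on I, and every element whose class in R/Q is a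
non-zero-divisor acts injectively on J. Then the group Ext¹_R(I, J) is nonzero. (This is the stalk
statement behind the existence of a non-split extension of a torsion-free rank-one sheaf on a
subcurve Y by one on a subcurve Z of a reduced projective curve, at a point where Y and Z meet
without sharing a component; in that situation the modules moreover have rank one at the generic
points of their supports and P ∩ Q = 0, two assumptions the argument does not use.) -/
theorem result
    (R : Type u) [CommRing R] [IsNoetherianRing R] [IsLocalRing R]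
    (P Q : Ideal R) (hPQ : ∃ n : ℕ, IsLocalRing.maximalIdeal R ^ n ≤ P ⊔ Q)
    [IsReduced (R ⧸ P)] [IsReduced (R ⧸ Q)]
    (hPdim : ringKrullDim (R ⧸ P) = 1) (hQdim : ringKrullDim (R ⧸ Q) = 1)
    (I J : Type u) [AddCommGroup I] [Module R I] [Module.Finite R I] [Nontrivial I]
    [AddCommGroup J] [Module R J] [Module.Finite R J] [Nontrivial J]
    (hPI : ∀ p ∈ P, ∀ x : I, p • x = 0) (hQJ : ∀ q ∈ Q, ∀ y : J, q • y = 0)
    (hItf : ∀ r : R, Ideal.Quotient.mk P r ∈ nonZeroDivisors (R ⧸ P) → ∀ x : I, r • x = 0 → x = 0)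
    (hJtf : ∀ r : R, Ideal.Quotient.mk Q r ∈ nonZeroDivisors (R ⧸ Q) → ∀ y : J, r • y = 0 → y = 0) :
    Nontrivial (Abelian.Ext (ModuleCat.of R I) (ModuleCat.of R J) 1) := by
  classical
  haveI : Nontrivial (R ⧸ Q) := by
    by_contra h
    rw [not_nontrivial_iff_subsingleton] at h
    rw [ringKrullDim_eq_bot_of_subsingleton] at hQdim
    exact absurd hQdim WithBot.bot_ne_coe
  haveI : IsLocalRing (R ⧸ Q) := IsLocalRing.of_surjective' _ Ideal.Quotient.mk_surjective
  set π := Ideal.Quotient.mk Q with hπ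
  have hm : (IsLocalRing.maximalIdeal R).map π = IsLocalRing.maximalIdeal (R ⧸ Q) := by
    refine IsLocalRing.eq_maximalIdeal ((Ideal.map_eq_top_or_isMaximal_of_surjective π
      Ideal.Quotient.mk_surjective (IsLocalRing.maximalIdeal.isMaximal R)).resolve_left fun h => ?_)
    have hle : Q ≤ IsLocalRing.maximalIdeal R :=
      IsLocalRing.le_maximalIdeal ((Ideal.Quotient.nontrivial_iff).1 inferInstance)
    have := congrArg (Ideal.comap π) h
    rw [Ideal.comap_map_of_surjective π Ideal.Quotient.mk_surjective, Ideal.comap_top, ← RingHom.ker_eq_comap_bot,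
      Ideal.mk_ker, sup_eq_left.2 hle] at this
    exact (IsLocalRing.maximalIdeal.isMaximal R).ne_top this
  -- a good element of `P`
  have hav : ∀ q ∈ minimalPrimes (R ⧸ Q), ¬ P.map π ≤ q := by
    intro q hq hle
    obtain ⟨n, hn⟩ := hPQ
    haveI : q.IsPrime := Ideal.minimalPrimes_isPrime hq
    have h1 : (IsLocalRing.maximalIdeal (R ⧸ Q)) ^ n ≤ q := by
      rw [← hm, ← Ideal.map_pow]
      refine (Ideal.map_mono hn).trans ?_
      rw [Ideal.map_sup, Ideal.map_quotient_self, sup_bot_eq]
      exact hle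
    have h2 : q = IsLocalRing.maximalIdeal (R ⧸ Q) :=
      le_antisymm (IsLocalRing.le_maximalIdeal Ideal.IsPrime.ne_top') (Ideal.IsPrime.le_of_pow_le h1)
    have h3 := IsLocalRing.maximalIdeal_height_eq_ringKrullDim (R := R ⧸ Q)
    rw [hQdim, ← h2, Ideal.height_eq_zero_iff.2 hq] at h3
    norm_num at h3
  obtain ⟨x, hxP, hxQ⟩ : ∃ x ∈ P, π x ∈ nonZeroDivisors (R ⧸ Q) := by
    by_contra hc
    push_neg at hc
    have hsub : ((P.map π : Ideal (R ⧸ Q)) : Set (R ⧸ Q)) ⊆ ⋃ q ∈ (Ideal.finite_minimalPrimes_of_isNoetherianRing (R ⧸ Q) ⊥).toFinset, (q : Set (R ⧸ Q)) := by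
      intro y hy
      obtain ⟨x, hx, rfl⟩ := (Ideal.mem_map_iff_of_surjective π Ideal.Quotient.mk_surjective).1 hy
      have h := hc x hx
      rw [mem_nonZeroDivisors_iff_right] at h
      push_neg at h
      obtain ⟨y, hy1, hy2⟩ := h
      have : π x ∈ ⋃ q ∈ (⊥ : Ideal (R ⧸ Q)).minimalPrimes, (q : Set (R ⧸ Q)) := by
        rw [Ideal.iUnion_minimalPrimes]
        refine ⟨y, fun hr => hy2 (IsReduced.eq_zero y hr), ?_⟩
        rw [mul_comm, hy1]
        exact zero_mem _
      simpa using this
    obtain ⟨q, hq, hle⟩ := (Ideal.subset_union_prime ⊥ ⊥ fun q hq _ _ =>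
      Ideal.minimalPrimes_isPrime (by simpa using hq)).1 hsub
    exact hav q (by simpa [minimalPrimes] using hq) hle
  have hxreg : ∀ y : J, x • y = 0 → y = 0 := hJtf x hxQ
  have hhom : ∀ f : I →ₗ[R] J, f = 0 := fun f => LinearMap.ext fun i => hxreg (f i) (by
    rw [← map_smul, hPI x hxP i, map_zero])
  have hxm : x ∈ IsLocalRing.maximalIdeal R := by
    refine IsLocalRing.le_maximalIdeal (fun h => ?_) hxP
    haveI : Subsingleton (R ⧸ P) := Ideal.Quotient.subsingleton_iff.2 h
    rw [ringKrullDim_eq_bot_of_subsingleton] at hPdim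
    exact absurd hPdim WithBot.bot_ne_coe
  let f : J →ₗ[R] J := LinearMap.lsmul R J x
  let N := J ⧸ LinearMap.range f
  have hfinj : Function.Injective f := (injective_iff_map_eq_zero f).2 hxreg
  -- the quotient
  haveI : Nontrivial N := Submodule.Quotient.nontrivial_iff.2 (by
    intro htop
    have : (⊤ : Submodule R J) ≤ (IsLocalRing.maximalIdeal R) • (⊤ : Submodule R J) := by
      rw [← htop]
      rintro _ ⟨y, rfl⟩
      exact Submodule.smul_mem_smul hxm (by rw [htop]; exact Submodule.mem_top)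
    exact top_ne_bot (Submodule.eq_bot_of_le_smul_of_le_jacobson_bot _ _ Module.Finite.fg_top this
      (IsLocalRing.maximalIdeal_le_jacobson _)))
  obtain ⟨𝔭, h𝔭⟩ := associatedPrimes.nonempty (R := R) (M := N)
  rw [AssociatedPrimes.mem_iff, isAssociatedPrime_iff_exists_injective_linearMap] at h𝔭
  obtain ⟨hprime, φ, hφ⟩ := h𝔭
  haveI := hprime
  have hmem : ∀ r : R, (∀ z : N, r • z = 0) → r ∈ 𝔭 := fun r hr => by
    have : φ (Ideal.Quotient.mk 𝔭 r) = φ 0 := by
      rw [map_zero, ← hr (φ 1), ← map_smul]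
      exact congrArg φ (by rw [Algebra.smul_def, mul_one]; rfl)
    exact Ideal.Quotient.eq_zero_iff_mem.1 (hφ this)
  have h𝔭m : 𝔭 = IsLocalRing.maximalIdeal R := by
    have hQ' : Q ≤ 𝔭 := fun q hq => hmem q fun z => by
      obtain ⟨y, rfl⟩ := Submodule.Quotient.mk_surjective _ z
      rw [← Submodule.Quotient.mk_smul, hQJ q hq y]; rfl
    have hx' : x ∈ 𝔭 := hmem x fun z => by
      obtain ⟨y, rfl⟩ := Submodule.Quotient.mk_surjective _ z
      rw [← Submodule.Quotient.mk_smul, Submodule.Quotient.mk_eq_zero]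
      exact ⟨y, rfl⟩
    haveI : (𝔭.map π).IsPrime := Ideal.map_isPrime_of_surjective Ideal.Quotient.mk_surjective
      (by rw [Ideal.mk_ker]; exact hQ')
    have hne : (𝔭.map π).height ≠ 0 := fun h0 => by
      rw [Ideal.height_eq_zero_iff] at h0
      exact notMem_nonZeroDivisors_of_mem_mem_minimalPrimes (Ideal.mem_map_of_mem π hx') h0 hxQ
    have h2 : 𝔭.map π = IsLocalRing.maximalIdeal (R ⧸ Q) := by
      refine (eq_or_lt_of_le (IsLocalRing.le_maximalIdeal Ideal.IsPrime.ne_top')).resolve_right fun hlt => ?_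
      have h3 := IsLocalRing.maximalIdeal_height_eq_ringKrullDim (R := R ⧸ Q)
      rw [hQdim] at h3
      have h4 := Ideal.height_add_one_le_of_lt_of_isPrime hlt
      rw [WithBot.coe_eq_one.1 h3] at h4
      exact hne (nonpos_iff_eq_zero.1 ((ENat.add_le_add_iff_right ENat.one_ne_top).1 (h4.trans (zero_add 1).ge)))
    rw [← Ideal.comap_map_mk hQ', h2, ← hm, Ideal.comap_map_mk (IsLocalRing.le_maximalIdeal
      ((Ideal.Quotient.nontrivial_iff).1 inferInstance))]
  subst h𝔭m
  -- a nonzero map from `I`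
  letI := Ideal.Quotient.field (IsLocalRing.maximalIdeal R)
  haveI : Nontrivial (I ⧸ (IsLocalRing.maximalIdeal R) • (⊤ : Submodule R I)) :=
    Submodule.Quotient.nontrivial_iff.2 fun htop => top_ne_bot
      (Submodule.eq_bot_of_le_smul_of_le_jacobson_bot _ _ (Module.Finite.fg_top (R := R) (M := I)) htop.ge
        (IsLocalRing.maximalIdeal_le_jacobson _))
  obtain ⟨v, hv⟩ := exists_ne (0 : I ⧸ (IsLocalRing.maximalIdeal R) • (⊤ : Submodule R I))
  obtain ⟨l, hl⟩ : ∃ l : Module.Dual (R ⧸ IsLocalRing.maximalIdeal R)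
      (I ⧸ (IsLocalRing.maximalIdeal R) • (⊤ : Submodule R I)), l v ≠ 0 := by
    by_contra hc
    push_neg at hc
    exact hv ((Module.forall_dual_apply_eq_zero_iff (R ⧸ IsLocalRing.maximalIdeal R) v).1 hc)
  obtain ⟨i, rfl⟩ := Submodule.Quotient.mk_surjective _ v
  let g : I →ₗ[R] N := φ ∘ₗ (l.restrictScalars R) ∘ₗ Submodule.mkQ _
  have hg : g i ≠ 0 := fun h => hl (hφ (h.trans φ.map_zero.symm))
  let S : ShortComplex (ModuleCat.{u} R) := ShortComplex.mk (ModuleCat.ofHom f) (ModuleCat.ofHom (LinearMap.range f).mkQ)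
    (by ext y; exact (Submodule.Quotient.mk_eq_zero _).2 ⟨y, rfl⟩)
  have hS : S.ShortExact := by
    haveI : Mono S.f := (ModuleCat.mono_iff_injective _).2 hfinj
    haveI : Epi S.g := (ModuleCat.epi_iff_surjective _).2 (Submodule.mkQ_surjective _)
    refine { exact := (ShortComplex.moduleCat_exact_iff S).2 fun z hz => ?_ }
    exact (Submodule.Quotient.mk_eq_zero _).1 hz
  by_contra hnt
  rw [not_nontrivial_iff_subsingleton] at hnt
  haveI : Subsingleton (Abelian.Ext (ModuleCat.of R I) S.X₁ 1) := hnt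
  obtain ⟨x₂, hx₂⟩ := Abelian.Ext.covariant_sequence_exact₃ (ModuleCat.of R I) hS
    (Abelian.Ext.mk₀ (ModuleCat.ofHom g : ModuleCat.of R I ⟶ S.X₃)) (zero_add 1) (Subsingleton.elim _ _)
  obtain ⟨h, rfl⟩ := Abelian.Ext.homEquiv₀.symm.surjective x₂
  rw [Abelian.Ext.homEquiv₀_symm_apply, Abelian.Ext.mk₀_comp_mk₀] at hx₂
  have := congrArg (fun z => z i) (congrArg ModuleCat.Hom.hom (Abelian.Ext.homEquiv₀.symm.injective hx₂))
  apply hg
  refine this.symm.trans ?_
  show (LinearMap.range f).mkQ (h.hom i) = 0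
  rw [hhom h.hom]
  exact map_zero _

end Groth.Agent.S18363
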