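import Groth.Statements.S18364
import Mathlib

set_option autoImplicit false
universe u
open CAlg

namespace Groth.Agent.S18364

/-- Let A be a Noetherian ring, π an element of A, and (𝔓_i)_{i ∈ ι} an injective finite family listing
exactly the minimal prime ideals over (π). Let M be a finitely generated A-module and M̄ = M/πM. For
a subset T of ι let K(T) ⊆ M̄ be the submodule of elements whose image in the localisation of M̄ at
𝔓_i is zero for every i ∈ T, and N(T) ⊆ M its preimage in M. Assume K(ι) = 0, i.e. no nonzero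
element of M̄ vanishes at all the minimal primes (every associated prime of M̄ is one of the 𝔓_i).
Then for every subset Y of ι with complement Z one has N(Y) ∩ N(Z) = πM, and the same construction
applied to the module N(Y) instead of M — the preimage in N(Y) of the elements of N(Y)/πN(Y)
vanishing at every 𝔓_i with i ∈ Z — is, as a submodule of M, equal to N(Y) ∩ N(Z). (Geometric
meaning: A is the local ring of a flat family of curves over a discrete valuation ring with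
uniformizer π at a point of the reduced special fibre, M the stalk of a torsion-free rank-one sheaf
I, Y a set of components of the special fibre through the point, and N(Y) the stalk of the kernel
I^Y of I → I(s)_Y; the statement is (I^Y)^Z = I^Y ∩ I^Z = πI. Reducedness of A/πA, flatness and rank
one are not used.) -/
theorem result
    (A : Type u) [CommRing A] [IsNoetherianRing A] (π : A)
    (ι : Type) [Finite ι] (𝔓 : ι → Ideal A) [∀ i, (𝔓 i).IsPrime]
    (h𝔓 : ∀ i, 𝔓 i ∈ (Ideal.span {π}).minimalPrimes) (h𝔓inj : Function.Injective 𝔓)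
    (h𝔓surj : ∀ 𝔔 ∈ (Ideal.span {π}).minimalPrimes, ∃ i, 𝔓 i = 𝔔)
    (M : Type u) [AddCommGroup M] [Module A M] [Module.Finite A M]
    (K : Set ι → Submodule A (M ⧸ Ideal.span {π} • (⊤ : Submodule A M)))
    (hK : ∀ T : Set ι, K T = ⨅ i ∈ T, LinearMap.ker
      (LocalizedModule.mkLinearMap (𝔓 i).primeCompl (M ⧸ Ideal.span {π} • (⊤ : Submodule A M))))
    (htf : K Set.univ = ⊥)
    (N : Set ι → Submodule A M)
    (hN : ∀ T : Set ι, N T = (K T).comap (Submodule.mkQ (Ideal.span {π} • (⊤ : Submodule A M))))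
    (Y : Set ι) :
    N Y ⊓ N Yᶜ = Ideal.span {π} • (⊤ : Submodule A M) ∧
    Submodule.map (N Y).subtype
      ((⨅ i ∈ Yᶜ, LinearMap.ker (LocalizedModule.mkLinearMap (𝔓 i).primeCompl
          (↥(N Y) ⧸ Ideal.span {π} • (⊤ : Submodule A ↥(N Y))))).comap
        (Submodule.mkQ (Ideal.span {π} • (⊤ : Submodule A ↥(N Y)))))
      = N Y ⊓ N Yᶜ := by
  classical
  haveI := Fintype.ofFinite ι
  have hKe : ∀ (T : Set ι) (x), x ∈ K T ↔ ∀ i ∈ T, ∃ s : A, s ∉ 𝔓 i ∧ s • x = 0 := fun T x ↦ by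
    simp only [hK, Submodule.mem_iInf]
    exact forall₂_congr fun i _ ↦ LocalizedModule.mem_ker_mkLinearMap_iff
  have hbot : ∀ T : Set ι, K T ⊓ K Tᶜ = ⊥ := fun T ↦ by
    rw [← htf]
    ext x
    simp only [Submodule.mem_inf, hKe, Set.mem_univ, forall_const, Set.mem_compl_iff]
    exact ⟨fun h i ↦ if hi : i ∈ T then h.1 i hi else h.2 i hi, fun h ↦ ⟨fun i _ ↦ h i, fun i _ ↦ h i⟩⟩
  have h1 : N Y ⊓ N Yᶜ = Ideal.span {π} • (⊤ : Submodule A M) := by
    rw [hN, hN, ← Submodule.comap_inf, hbot, Submodule.comap_bot, Submodule.ker_mkQ]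
  refine ⟨h1, ?_⟩
  rw [h1]
  have hmem : ∀ (T : Set ι) (m : M), m ∈ N T ↔ ∀ i ∈ T, ∃ s : A, s ∉ 𝔓 i ∧ s • m ∈ Ideal.span {π} • (⊤ : Submodule A M) := fun T m ↦ by
    simp only [hN, Submodule.mem_comap, hKe, ← map_smul]
    simp only [Submodule.mkQ_apply, Submodule.Quotient.mk_eq_zero]
  have hπ : Ideal.span {π} • (⊤ : Submodule A M) ≤ N Y := h1 ▸ inf_le_left
  have hsub : ∀ m : N Y, m ∈ Ideal.span {π} • (⊤ : Submodule A (N Y)) → (m : M) ∈ Ideal.span {π} • (N Y) :=
    fun m hm ↦ (Submodule.mem_smul_top_iff _ _ _).mp hm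
  have hsub' : ∀ m : N Y, (m : M) ∈ Ideal.span {π} • (N Y) → m ∈ Ideal.span {π} • (⊤ : Submodule A (N Y)) :=
    fun m hm ↦ (Submodule.mem_smul_top_iff _ _ _).mpr hm
  ext m
  simp only [Submodule.mem_map, Submodule.mem_comap, Submodule.mem_iInf, LinearMap.mem_ker]
  constructor
  · rintro ⟨m, hm, rfl⟩
    rw [← h1]
    refine ⟨m.2, (hmem _ _).mpr fun i hi ↦ ?_⟩
    obtain ⟨s, hs, hs0⟩ := LocalizedModule.mem_ker_mkLinearMap_iff.mp (LinearMap.mem_ker.mpr (hm i hi))
    rw [← map_smul, Submodule.mkQ_apply, Submodule.Quotient.mk_eq_zero] at hs0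
    exact ⟨s, hs, Submodule.smul_mono le_rfl le_top (hsub _ hs0)⟩
  · intro hm
    refine ⟨⟨m, hπ hm⟩, fun i hi ↦ ?_, rfl⟩
    obtain ⟨m', -, rfl⟩ : ∃ m' ∈ (⊤ : Submodule A M), π • m' = m := by
      rw [Submodule.ideal_span_singleton_smul] at hm
      exact (Submodule.mem_smul_pointwise_iff_exists _ _ _).mp hm
    have hj : ∀ j ∈ Y, ∃ s : A, s ∉ 𝔓 i ∧ ∃ t, t ∉ 𝔓 j ∧ t * s ∈ Ideal.span {π} := fun j hj ↦ by
      have hne : ¬ 𝔓 j ≤ 𝔓 i := fun h ↦ hi ((h𝔓inj (le_antisymm h ((h𝔓 i).2 ⟨inferInstance, (h𝔓 j).1.2⟩ h))) ▸ hj)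
      obtain ⟨x, hxj, hxi⟩ := SetLike.not_le_iff_exists.mp hne
      by_contra! hcon
      obtain ⟨q, hq, hIq, hdis⟩ := Ideal.exists_le_prime_disjoint (Ideal.span {π})
        ((𝔓 j).primeCompl ⊔ Submonoid.powers x) (Set.disjoint_left.mpr fun z hz hzS ↦ by
          obtain ⟨t, ht, _, ⟨n, rfl⟩, rfl⟩ := Submonoid.mem_sup.mp hzS
          exact hcon (x ^ n) (fun h ↦ hxi ((inferInstance : (𝔓 i).IsPrime).mem_of_pow_mem n h)) t ht hz)
      have hqj : q ≤ 𝔓 j := fun z hz ↦ by_contra fun hz' ↦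
        Set.disjoint_left.mp hdis hz (Submonoid.mem_sup_left (show z ∈ (𝔓 j).primeCompl from hz'))
      exact Set.disjoint_left.mp hdis ((h𝔓 j).2 ⟨hq, hIq⟩ hqj hxj)
        (Submonoid.mem_sup_right (Submonoid.mem_powers x))
    choose s hs t ht hts using hj
    let S : A := ∏ j : Y, s j j.2
    have hS : S ∉ 𝔓 i := fun h ↦ by
      obtain ⟨j, -, hj⟩ := (Ideal.IsPrime.prod_mem_iff.mp h)
      exact hs j j.2 hj
    have hSN : S • m' ∈ N Y := (hmem _ _).mpr fun j hj ↦ ⟨t j hj, ht j hj, by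
      rw [smul_smul]
      refine Submodule.smul_mem_smul ?_ trivial
      rw [show S = s j hj * ∏ l ∈ Finset.univ.erase (⟨j, hj⟩ : Y), s l l.2 from
        (Finset.mul_prod_erase Finset.univ (fun l : Y ↦ s l l.2) (Finset.mem_univ ⟨j, hj⟩)).symm, ← mul_assoc]
      exact Ideal.mul_mem_right _ _ (hts j hj)⟩
    apply LinearMap.mem_ker.mp
    rw [LocalizedModule.mem_ker_mkLinearMap_iff]
    refine ⟨S, hS, ?_⟩
    rw [← map_smul, Submodule.mkQ_apply, Submodule.Quotient.mk_eq_zero]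
    refine hsub' _ ?_
    rw [SetLike.val_smul, smul_comm]
    exact Submodule.smul_mem_smul (Ideal.mem_span_singleton_self π) hSN

end Groth.Agent.S18364
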