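import Groth.Statements.S18365
import Mathlib

set_option autoImplicit false
universe u
open CAlg

namespace Groth.Agent.S18365

/-- Let A be a Noetherian ring, π an element of A, (𝔓_i)_{i ∈ ι} an injective finite family listing
exactly the minimal prime ideals over (π), and M a finitely generated A-module on which π acts
injectively; put M̄ = M/πM. For T ⊆ ι let K(T) ⊆ M̄ be the submodule of elements whose image in the
localisation of M̄ at 𝔓_i vanishes for every i ∈ T, and N(T) ⊆ M its preimage; assume K(ι) = 0.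
Suppose that M̄ decomposes at Y, i.e. K(Y) + K(Yᶜ) = M̄, and that for a subset Z the module
N(Y)/πN(Y) decomposes at Z, i.e. its submodule of elements vanishing at every 𝔓_i (i ∈ Z) and its
submodule of elements vanishing at every 𝔓_i (i ∉ Z) together span it. Then M̄ decomposes at Z: K(Z)
+ K(Zᶜ) = M̄. (Geometric meaning: for a flat family of curves over a discrete valuation ring with
uniformizer π, I a torsion-free rank-one sheaf flat over the base, Y a subcurve of the special fibre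
X(s) at which I(s) decomposes and I^Y = ker(I → I(s)_Y): if I^Y(s) decomposes at a subcurve Z then
so does I(s); decomposition of a sheaf at Z is the surjectivity of I(s) → I(s)_Z ⊕ I(s)_{Z^c},
checked on stalks. Reducedness of the special fibre and rank one are not used.) -/
theorem result
    (A : Type u) [CommRing A] [IsNoetherianRing A] (π : A)
    (ι : Type) [Finite ι] (𝔓 : ι → Ideal A) [∀ i, (𝔓 i).IsPrime]
    (h𝔓 : ∀ i, 𝔓 i ∈ (Ideal.span {π}).minimalPrimes) (h𝔓inj : Function.Injective 𝔓)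
    (h𝔓surj : ∀ 𝔔 ∈ (Ideal.span {π}).minimalPrimes, ∃ i, 𝔓 i = 𝔔)
    (M : Type u) [AddCommGroup M] [Module A M] [Module.Finite A M]
    (hπ : ∀ m : M, π • m = 0 → m = 0)
    (K : Set ι → Submodule A (M ⧸ Ideal.span {π} • (⊤ : Submodule A M)))
    (hK : ∀ T : Set ι, K T = ⨅ i ∈ T, LinearMap.ker
      (LocalizedModule.mkLinearMap (𝔓 i).primeCompl (M ⧸ Ideal.span {π} • (⊤ : Submodule A M))))
    (htf : K Set.univ = ⊥)
    (N : Set ι → Submodule A M)
    (hN : ∀ T : Set ι, N T = (K T).comap (Submodule.mkQ (Ideal.span {π} • (⊤ : Submodule A M))))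
    (Y Z : Set ι) (hY : K Y ⊔ K Yᶜ = ⊤)
    (K' : Set ι → Submodule A (↥(N Y) ⧸ Ideal.span {π} • (⊤ : Submodule A ↥(N Y))))
    (hK' : ∀ T : Set ι, K' T = ⨅ i ∈ T, LinearMap.ker
      (LocalizedModule.mkLinearMap (𝔓 i).primeCompl (↥(N Y) ⧸ Ideal.span {π} • (⊤ : Submodule A ↥(N Y)))))
    (hZ : K' Z ⊔ K' Zᶜ = ⊤) :
    K Z ⊔ K Zᶜ = ⊤ := by
  have hKe : ∀ (T : Set ι) (x), x ∈ K T ↔ ∀ i ∈ T, ∃ s : A, s ∉ 𝔓 i ∧ s • x = 0 := fun T x ↦ by
    simp only [hK, Submodule.mem_iInf]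
    exact forall₂_congr fun i _ ↦ LocalizedModule.mem_ker_mkLinearMap_iff
  have hKe' : ∀ (T : Set ι) (x), x ∈ K' T ↔ ∀ i ∈ T, ∃ s : A, s ∉ 𝔓 i ∧ s • x = 0 := fun T x ↦ by
    simp only [hK', Submodule.mem_iInf]
    exact forall₂_congr fun i _ ↦ LocalizedModule.mem_ker_mkLinearMap_iff
  set q := Submodule.mkQ (Ideal.span {π} • (⊤ : Submodule A M))
  set q' := Submodule.mkQ (Ideal.span {π} • (⊤ : Submodule A ↥(N Y)))
  have hq : ∀ m : M, q m = 0 ↔ ∃ m', π • m' = m := fun m ↦ by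
    simp only [q, Submodule.mkQ_apply, Submodule.Quotient.mk_eq_zero, Submodule.ideal_span_singleton_smul,
      Submodule.mem_smul_pointwise_iff_exists, Submodule.mem_top, true_and]
  have hq' : ∀ m : N Y, q' m = 0 ↔ ∃ m' : N Y, π • (m' : M) = m := fun m ↦ by
    simp only [q', Submodule.mkQ_apply, Submodule.Quotient.mk_eq_zero, Submodule.ideal_span_singleton_smul,
      Submodule.mem_smul_pointwise_iff_exists, Submodule.mem_top, true_and, Subtype.ext_iff, SetLike.val_smul]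
  have hNY : ∀ m, m ∈ N Y ↔ q m ∈ K Y := fun m ↦ by rw [hN]; rfl
  have hdis : ∀ T : Set ι, ∀ x, x ∈ K T → x ∈ K Tᶜ → x = 0 := fun T x h h' ↦ by
    have : x ∈ K Set.univ := (hKe _ _).mpr fun i _ ↦ by
      by_cases hi : i ∈ T
      · exact (hKe _ _).mp h i hi
      · exact (hKe _ _).mp h' i hi
    rwa [htf, Submodule.mem_bot] at this
  have push : ∀ (T : Set ι) (m : N Y), q' m ∈ K' T → q (m : M) ∈ K T := fun T m h ↦ (hKe _ _).mpr fun i hi ↦ by
    obtain ⟨s, hs, h0⟩ := (hKe' _ _).mp h i hi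
    rw [← map_smul, hq'] at h0
    obtain ⟨m', hm'⟩ := h0
    refine ⟨s, hs, ?_⟩
    rw [← map_smul]
    exact (hq _).mpr ⟨m', by rw [hm']; rfl⟩
  have split : ∀ m : N Y, ∃ a b c : N Y, q' a ∈ K' Z ∧ q' b ∈ K' Zᶜ ∧ (m : M) = a + b + π • (c : M) := fun m ↦ by
    obtain ⟨x, hx, y, hy, hxy⟩ := Submodule.mem_sup.mp (hZ ▸ Submodule.mem_top : q' m ∈ K' Z ⊔ K' Zᶜ)
    obtain ⟨a, rfl⟩ := Submodule.mkQ_surjective _ x
    obtain ⟨b, rfl⟩ := Submodule.mkQ_surjective _ y
    obtain ⟨c, hc⟩ := (hq' (m - (a + b))).mp (by rw [map_sub, map_add, hxy, sub_self])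
    refine ⟨a, b, c, hx, hy, ?_⟩
    rw [hc, AddSubgroupClass.coe_sub, Submodule.coe_add]
    abel
  rw [eq_top_iff, ← hY, sup_le_iff]
  constructor
  · intro x hx
    obtain ⟨m, rfl⟩ := Submodule.mkQ_surjective _ x
    obtain ⟨a, b, c, ha, hb, habc⟩ := split ⟨m, (hNY m).mpr hx⟩
    refine Submodule.mem_sup.mpr ⟨_, push _ a ha, _, push _ b hb, ?_⟩
    rw [show m = (a : M) + b + π • (c : M) from habc, map_add, map_add, (hq _).mpr ⟨_, rfl⟩, add_zero]
  · intro y hy
    obtain ⟨n, rfl⟩ := Submodule.mkQ_surjective _ y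
    have hπn : π • n ∈ N Y := (hNY _).mpr (((hq _).mpr ⟨n, rfl⟩).symm ▸ (K Y).zero_mem)
    obtain ⟨a, b, c, ha, hb, habc⟩ := split ⟨π • n, hπn⟩
    change π • n = (a : M) + b + π • (c : M) at habc
    have hsum : q (a : M) + q b = 0 := by
      rw [← map_add, hq]
      exact ⟨n - c, by rw [smul_sub, habc]; abel⟩
    have ha0 : q (a : M) = 0 := hdis Z _ (push _ a ha) (by rw [eq_neg_of_add_eq_zero_left hsum]; exact neg_mem (push _ b hb))
    obtain ⟨a', ha'⟩ := (hq _).mp ha0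
    obtain ⟨b', hb'⟩ := (hq _).mp (by simpa [ha0] using hsum)
    have hn : n = a' + b' + c := by
      rw [← sub_eq_zero]
      apply hπ
      rw [smul_sub, smul_add, smul_add, ha', hb', habc, sub_self]
    obtain ⟨p, hp, u, hu, hpu⟩ := Submodule.mem_sup.mp (hY ▸ Submodule.mem_top : q a' ∈ K Y ⊔ K Yᶜ)
    obtain ⟨r, hr, v, hv, hrv⟩ := Submodule.mem_sup.mp (hY ▸ Submodule.mem_top : q b' ∈ K Y ⊔ K Yᶜ)
    have e : q n - (u + v) = p + r + q c := by rw [hn, map_add, map_add, ← hpu, ← hrv]; abel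
    have hquv : q n = u + v := sub_eq_zero.mp (hdis Y _
      (e ▸ add_mem (add_mem hp hr) ((hNY _).mp c.2)) (sub_mem hy (add_mem hu hv)))
    have key : ∀ (T : Set ι) (z : N Y) (z' : M) (p u : M ⧸ Ideal.span {π} • (⊤ : Submodule A M)), π • z' = z → q' z ∈ K' T →
        p ∈ K Y → u ∈ K Yᶜ → p + u = q z' → u ∈ K T := fun T z z' p u hz hT hp hu hpu ↦ (hKe _ _).mpr fun i hi ↦ by
      by_cases hiY : i ∈ Y
      · obtain ⟨s, hs, h0⟩ := (hKe' _ _).mp hT i hi
        rw [← map_smul, hq'] at h0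
        obtain ⟨m', hm'⟩ := h0
        rw [SetLike.val_smul, ← hz, smul_comm] at hm'
        have hs' : s • q z' ∈ K Y := by
          rw [← map_smul, ← hNY]
          have : (m' : M) = s • z' := sub_eq_zero.mp (hπ _ (by rw [smul_sub, hm', sub_self]))
          exact this ▸ m'.2
        have hsu : s • u ∈ K Y := by
          rw [← hpu, smul_add] at hs'
          exact ((K Y).add_mem_iff_right ((K Y).smul_mem s hp)).mp hs'
        obtain ⟨t, ht, ht0⟩ := (hKe _ _).mp hsu i hiY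
        exact ⟨t * s, fun h ↦ ((inferInstance : (𝔓 i).IsPrime).mem_or_mem h).elim ht hs, by rw [mul_smul, ht0]⟩
      · exact (hKe _ _).mp hu i hiY
    rw [show (Ideal.span {π} • (⊤ : Submodule A M)).mkQ n = u + v from hquv]
    exact Submodule.add_mem_sup (key Z a a' p u ha' ha hp hu hpu) (key Zᶜ b b' r v hb' hb hr hv hrv)

end Groth.Agent.S18365
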