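import Groth.Statements.S18368
import Groth.Agent.Rigid.Integral

set_option autoImplicit false
universe u
open CategoryTheory CategoryTheory.Limits MonoidalCategory CartesianMonoidalCategory AlgebraicGeometry
open AbVar

namespace Groth.Agent.S18368

/-- Let k be a field, X and Y geometrically integral k-schemes of finite type with X proper, Z a
separated k-scheme and f : X ×_k Y → Z a k-morphism (products in the cartesian monoidal category of
k-schemes). If for some algebraically closed field K over k there are points y₀ : Spec K → Y and z₀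
: Spec K → Z over k such that f restricted to X ×_k Spec K along y₀ is the constant map z₀, then f
factors uniquely through the second projection: there is exactly one g : Y → Z over k with f = pr₂ ≫
g. (The target Z is not assumed to be of finite type over k.) -/
theorem result (k : Type u) [Field k]
    (X Y Z : Over (Spec (CommRingCat.of k)))
    [IsProper X.hom] [GeometricallyIntegral X.hom]
    [LocallyOfFiniteType Y.hom] [QuasiCompact Y.hom] [GeometricallyIntegral Y.hom]
    [IsSeparated Z.hom] (f : X ⊗ Y ⟶ Z)
    (K : Type u) [Field K] [Algebra k K] [IsAlgClosed K]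
    (y₀ : (Over.mk (Spec.map (CommRingCat.ofHom (algebraMap k K))) : Over (Spec (CommRingCat.of k))) ⟶ Y)
    (z₀ : (Over.mk (Spec.map (CommRingCat.ofHom (algebraMap k K))) : Over (Spec (CommRingCat.of k))) ⟶ Z)
    (h : (X ◁ y₀) ≫ f = snd X _ ≫ z₀) :
    ∃! g : Y ⟶ Z, f = snd X Y ≫ g := by

  let p₂ := (snd X Y).left
  haveI : IsProper p₂ := inferInstanceAs (IsProper (pullback.snd X.hom Y.hom))
  haveI : LocallyOfFinitePresentation X.hom := inferInstance
  haveI : Flat X.hom := inferInstance
  haveI : Flat p₂ := inferInstanceAs (Flat (pullback.snd X.hom Y.hom))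
  haveI : LocallyOfFinitePresentation p₂ := inferInstanceAs (LocallyOfFinitePresentation (pullback.snd X.hom Y.hom))
  haveI : GeometricallyIntegral p₂ := inferInstanceAs (GeometricallyIntegral (pullback.snd X.hom Y.hom))
  haveI : Subsingleton (Spec (CommRingCat.of k)) := inferInstanceAs (Subsingleton (PrimeSpectrum k))
  haveI : IrreducibleSpace Y.left :=
    GeometricallyIrreducible.irreducibleSpace Y.hom fun _ _ => isOpen_discrete _
  obtain ⟨t⟩ : Nonempty (Over.mk (Spec.map (CommRingCat.ofHom (algebraMap k K))) : Over (Spec (CommRingCat.of k))).left :=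
    inferInstanceAs (Nonempty (PrimeSpectrum K))
  have hcol : (f.left '' (p₂ ⁻¹' {y₀.left t})).Subsingleton := by
    suffices key : ∀ w, p₂ w = y₀.left t → f.left w = z₀.left t by
      rintro _ ⟨w, hw, rfl⟩ _ ⟨w', hw', rfl⟩
      rw [key w hw, key w' hw']
    intro w hw
    obtain ⟨v, hv, -⟩ := Scheme.Pullback.exists_preimage_pullback (f := p₂) (g := y₀.left) w t hw
    let a := pullback.fst p₂ y₀.left
    let b := pullback.snd p₂ y₀.left
    let V : Over (Spec (CommRingCat.of k)) := Over.mk (a ≫ (X ⊗ Y).hom)
    let av : V ⟶ X ⊗ Y := Over.homMk a rfl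
    let bv : V ⟶ Over.mk (Spec.map (CommRingCat.ofHom (algebraMap k K))) := Over.homMk b (by
      change b ≫ _ = a ≫ (X ⊗ Y).hom
      rw [show (Over.mk (Spec.map (CommRingCat.ofHom (algebraMap k K)))).hom = y₀.left ≫ Y.hom from (Over.w y₀).symm]
      rw [← Category.assoc, show b ≫ y₀.left = a ≫ p₂ from pullback.condition.symm, Category.assoc, Over.w (snd X Y)])
    have e : av = lift (av ≫ fst X Y) bv ≫ (X ◁ y₀) := by
      apply CartesianMonoidalCategory.hom_ext
      · simp
      · rw [Category.assoc, whiskerLeft_snd, lift_snd_assoc]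
        exact Over.OverMorphism.ext pullback.condition
    have e2 : av ≫ f = bv ≫ z₀ := by
      rw [e, Category.assoc, h, lift_snd_assoc]
    have e3 := congrArg (fun m => m.left v) e2
    rw [← hv]
    refine e3.trans ?_
    change z₀.left _ = _
    exact congrArg _ (Subsingleton.elim (α := PrimeSpectrum K) _ _)
  obtain ⟨g, ⟨hg, hfg⟩, -⟩ := Groth.Agent.Rigid.exists_factor_of_connected p₂
    (Groth.Agent.Rigid.goodFibres_of_geometricallyIntegral p₂) Y.hom Z.hom f.left
    (by rw [Over.w f, Over.w (snd X Y)]) (y₀.left t) hcol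
  refine ⟨Over.homMk g hg, Over.OverMorphism.ext hfg, fun g' hg' => ?_⟩
  apply Over.OverMorphism.ext
  have hfg' : f.left = p₂ ≫ g'.left := by rw [hg']; rfl
  change g'.left = g
  rw [← cancel_epi p₂, ← hfg', ← hfg]


end Groth.Agent.S18368
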