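import Groth.Statements.S18369
import Groth.Agent.TMul.GlobGen
import Groth.Agent.TMul.AmpleBasis
import Groth.Agent.W7Cube.Group
import Groth.Agent.S0052
import Groth.Agent.S17806
import Groth.Agent.S0383
import Groth.Agent.FieldPow.Main
import Groth.Agent.GrpField.Isogeny
import Groth.Agent.ClosedRep.GeomIntegral
import Groth.Agent.TMul.Assoc
-- import your own Groth.Agent.* helpers here

set_option autoImplicit false
universe u
open CategoryTheory CategoryTheory.Limits MonoidalCategory CartesianMonoidalCategory MonObj GrpObj AlgebraicGeometry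
open AbVar

set_option backward.isDefEq.respectTransparency false
set_option backward.isDefEq.respectTransparency.types false
set_option linter.style.haveILetI false
set_option maxHeartbeats 1000000

namespace Groth.Agent.S18369

open Groth.Agent.W7Cube
attribute [local instance] Groth.Agent.W7Cube.law


/-- Let k be a field, A an abelian variety over k (a proper smooth k-group scheme with geometrically
connected fibres) with group law m : A × A → A and projections p₁, p₂, L an ample invertible
O_A-module, and N an invertible O_A-module whose class lies in the dual abelian variety, expressed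
as m^*N ≅ p₁^*N ⊗ p₂^*N. Then L ⊗ N is again ample; so ampleness of an invertible module on A
depends only on its class modulo Pic⁰. -/
theorem result (k : Type u) [Field k]
    (A : Over (Spec (CommRingCat.of k))) [GrpObj A] [IsProper A.hom] [Smooth A.hom] [GeometricallyConnected A.hom]
    (L N : A.left.Modules) (hL : CohB1.IsAmple L) (hN : PicF.IsInvertible N)
    (hN0 : Nonempty ((Scheme.Modules.pullback μ[A].left).obj N ≅
      CohB1.tensorMod ((Scheme.Modules.pullback (fst A A).left).obj N) ((Scheme.Modules.pullback (snd A A).left).obj N))) :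
    CohB1.IsAmple (CohB1.tensorMod L N) := by
  
  haveI : GeometricallyIntegral A.hom := ClosedRep.GeomIntegral.geometricallyIntegral_of_smooth A.hom
  haveI : IsIntegral A.left := GeometricallyIntegral.isIntegral_of_subsingleton A.hom
  haveI hcA : IsCommMonObj A := isCommMonObj_of_isProper_of_geometricallyIntegral A
  let c := PicGrp.cls L hL.1
  let d := PicGrp.cls N hN
  have hadd : ∀ {V : Over (Spec (CommRingCat.of k))} (p q : V ⟶ A), pc d (p * q) = pc d p * pc d q := fun {V} p q => by
    have h : pc d μ[A] = pc d (fst A A) * pc d (snd A A) := by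
      rw [pc, pc, pc, pull_cls, pull_cls, pull_cls]
      exact Subtype.ext (((PicGrp.cl_eq_cl_iff _ _).2 hN0).trans (PicGrp.cls_mul_cls_val _ _).symm)
    have h' := congrArg (pull (lift p q).left) h
    rw [map_mul, pull_pc, pull_pc, pull_pc, lift_fst, lift_snd] at h'
    rwa [Hom.mul_def]
  have hdn : ∀ j : ℕ, pc d (𝟙 A ^ (j + 1)) = d ^ (j + 1) := fun j => by
    induction j with
    | zero => rw [zero_add, pow_one, pow_one, pc, Over.id_left, pull_cls]; exact (PicGrp.cls_eq_cls_iff _ _).2 ⟨(Scheme.Modules.pullbackId _).app N⟩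
    | succ j ih =>
      rw [pow_succ (𝟙 A), hadd, ih, pow_succ d (j + 1)]
      congr 1
      rw [pc, Over.id_left, pull_cls]; exact (PicGrp.cls_eq_cls_iff _ _).2 ⟨(Scheme.Modules.pullbackId _).app N⟩
  have : N.IsQuasicoherent := TMul.isQCoh_of_isInvertible hN
  obtain ⟨n₀, hn₀⟩ := TMul.exists_forall_genOn hL (F := N) (TMul.isFT_of_isInvertible hN)
  obtain ⟨m, hm⟩ : ∃ m, m = n₀ + 1 := ⟨_, rfl⟩
  let T := CohB1.tensorMod N (CohB1.tensorPow L m)
  have hT : PicF.IsInvertible T := TMul.isInvertible_tensorMod hN (TMul.isInvertible_tensorPow hL.1 m)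
  have hgen : ∀ x : A.left, ∃ (a : ℕ) (s : Coh.structureModule A.left ⟶ CohB1.tensorPow T (a + 1)),
      x ∈ CohB1.genLocus _ s := fun x => by
    obtain ⟨D, hD, hxD, hg⟩ := hn₀ m (by omega) x
    obtain ⟨t, ht⟩ := TMul.exists_mem_genLocus_of_genOn hT hD hg hxD
    obtain ⟨e⟩ := TMul.nonempty_powOneIso (L := T)
    exact ⟨0, t ≫ e.inv, by rw [TMul.genLocus_comp]; exact ht⟩
  have h1 : CohB1.IsAmple (CohB1.tensorMod L T) := TMul.isAmple_tensorMod hL hT hgen
  let L' := (Scheme.Modules.pullback ((𝟙 A)⁻¹ : A ⟶ A).left).obj L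
  have hinv : ((𝟙 A)⁻¹ : A ⟶ A) ≫ (𝟙 A)⁻¹ = 𝟙 A := by rw [GrpObj.comp_inv, Category.comp_id, _root_.inv_inv]
  haveI : IsIso ((𝟙 A)⁻¹ : A ⟶ A).left := ⟨((𝟙 A)⁻¹ : A ⟶ A).left, by rw [← Over.comp_left, hinv, Over.id_left],
    by rw [← Over.comp_left, hinv, Over.id_left]⟩
  have hL' : CohB1.IsAmple L' := S17806.result k A.hom A.hom _ (Over.w _) L hL.1 hL
  have hL'm : CohB1.IsAmple (CohB1.tensorPow L' m) := TMul.isAmple_tensorPow hL' (by omega)
  have h2 : CohB1.IsAmple (CohB1.tensorMod (CohB1.tensorMod L T) (CohB1.tensorPow L' m)) :=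
    TMul.isAmple_tensorMod h1 hL'm.1 fun x => let ⟨a, s, hs, _⟩ := hL'm.2.2 x; ⟨a, s, hs⟩
  have h3 := TMul.isAmple_tensorPow h2 (n := 2 * m + 1) (by omega)
  have hLN := TMul.isInvertible_tensorMod hL.1 hN
  let f := (𝟙 A ^ (2 * m + 1) : A ⟶ A)
  haveI : IsMonHom f := by rw [show f = 𝟙 A ^ ((2 * m + 1 : ℕ) : ℤ) from (zpow_natCast _ _).symm]; exact FieldPow.isMonHom_pow A _
  haveI : Surjective f.left := S0383.result k A (2 * m + 1) (by omega)
  haveI : IsFinite f.left := (GrpField.isFinite_flat f rfl).1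
  refine (S0052.result k A.hom A.hom f.left (Over.w f) _ hLN).2 ?_
  have hX : ∀ {M M' : A.left.Modules} (hM : PicF.IsInvertible M) (hM' : PicF.IsInvertible M'),
      PicGrp.cls (CohB1.tensorMod M M') (TMul.isInvertible_tensorMod hM hM') = PicGrp.cls M hM * PicGrp.cls M' hM' :=
    fun hM hM' => Subtype.ext (PicGrp.cls_mul_cls_val hM hM').symm
  have hP : ∀ {M : A.left.Modules} (hM : PicF.IsInvertible M) (j : ℕ),
      PicGrp.cls (CohB1.tensorPow M j) (TMul.isInvertible_tensorPow hM j) = PicGrp.cls M hM ^ j :=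
    fun hM j => Subtype.ext (PicGrp.cls_pow_val hM j).symm
  obtain ⟨i⟩ := (PicGrp.cls_eq_cls_iff (TMul.isInvertible_tensorPow h2.1 (2 * m + 1))
    (PicLoc.isInvertible_pullback f.left hLN)).1 (by
      rw [hP h2.1, hX h1.1 hL'm.1, hX hL.1 hT, hX hN (TMul.isInvertible_tensorPow hL.1 m), hP hL.1 m,
        hP hL'.1 m, ← pull_cls f.left (hL := hLN), hX hL.1 hN, map_mul]
      change (c * (d * c ^ m) * pc c (𝟙 A)⁻¹ ^ m) ^ (2 * m + 1) = pc c (𝟙 A ^ (2 * m + 1)) * pc d (𝟙 A ^ (2 * m + 1))
      rw [pc_pow, hdn,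
        show (2 * m + 1) * (2 * m + 1 + 1) / 2 = (2 * m + 1) * (m + 1) by
          rw [show 2 * m + 1 + 1 = 2 * (m + 1) by ring, Nat.mul_left_comm, Nat.mul_div_cancel_left _ two_pos],
        show (2 * m + 1) * (2 * m + 1 - 1) / 2 = (2 * m + 1) * m by
          rw [show 2 * m + 1 - 1 = 2 * m by omega, Nat.mul_left_comm, Nat.mul_div_cancel_left _ two_pos],
        mul_pow, mul_pow, mul_pow, ← pow_mul, ← pow_mul, pow_mul', Nat.mul_succ, pow_add]
      apply Additive.ofMul.injective
      simp only [ofMul_mul, ofMul_pow]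
      rw [show (2 * m + 1) * m = m * (2 * m + 1) by ring]
      simp only [mul_smul, add_smul, ← smul_assoc]
      module)
  exact TMul.isAmple_congr i h3


end Groth.Agent.S18369
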