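import Groth.Statements.S1837
import Groth.Agent.TameCh.Points

set_option autoImplicit false
universe u
open TensorProduct
open CycAlg

namespace Groth.Agent.S1837
open Groth.Agent.TameCh

/-- Let A be Noetherian with pairwise distinct maximal ideals 𝔪₁, …, 𝔪_r, and for each i a ring map φ_i
from A_{𝔪_i} to B_i whose kernel and cokernel are killed by a power of 𝔪_i. Then there is an
A-algebra B whose base change to each A_{𝔪_i} is isomorphic to B_i and whose structure map has
kernel and cokernel killed by a power of 𝔪₁ ∩ … ∩ 𝔪_r; if every φ_i is finite (resp. injective,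
resp. surjective) B can be taken with the same property. -/
theorem result (A : Type u) [CommRing A] [IsNoetherianRing A] (r : ℕ) (m : Fin r → Ideal A) (hm : ∀ i, (m i).IsMaximal) (hinj : Function.Injective m) (B : Fin r → Type u) [∀ i, CommRing (B i)] [∀ i, Algebra (Localization.AtPrime (m i)) (B i)] (hker : ∀ i, ∃ n : ℕ, ∀ x ∈ RingHom.ker (algebraMap (Localization.AtPrime (m i)) (B i)), ∀ y ∈ Ideal.map (algebraMap A (Localization.AtPrime (m i))) (m i) ^ n, y * x = 0) (hcoker : ∀ i, ∃ n : ℕ, ∀ y ∈ Ideal.map (algebraMap A (Localization.AtPrime (m i))) (m i) ^ n, ∀ b : B i, y • b ∈ (algebraMap (Localization.AtPrime (m i)) (B i)).range) : ∃ (C : Type u) (_ : CommRing C) (_ : Algebra A C), (∀ i, Nonempty ((Localization.AtPrime (m i)) ⊗[A] C ≃ₐ[Localization.AtPrime (m i)] B i)) ∧ (∃ n : ℕ, (∀ x ∈ RingHom.ker (algebraMap A C), ∀ y ∈ (⨅ i, m i) ^ n, y * x = 0) ∧ (∀ y ∈ (⨅ i, m i) ^ n, ∀ c : C, y • c ∈ (algebraMap A C).range)) ∧ ((∀ i, (algebraMap (Localization.AtPrime (m i)) (B i)).Finite) → (algebraMap A C).Finite) ∧ ((∀ i, Function.Injective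 (algebraMap (Localization.AtPrime (m i)) (B i))) → Function.Injective (algebraMap A C)) ∧ ((∀ i, Function.Surjective (algebraMap (Localization.AtPrime (m i)) (B i))) → Function.Surjective (algebraMap A C)) := by
  letI : ∀ i, Algebra A (B i) := fun i =>
    ((algebraMap (Localization.AtPrime (m i)) (B i)).comp (algebraMap A (Localization.AtPrime (m i)))).toAlgebra
  haveI : ∀ i, IsScalarTower A (Localization.AtPrime (m i)) (B i) := fun i => IsScalarTower.of_algebraMap_eq' rfl
  haveI : ∀ i, (m i).IsMaximal := hm
  obtain ⟨s, f, hf⟩ := Submodule.fg_iff_exists_fin_generating_family.1 (IsNoetherian.noetherian (⨅ i, m i : Ideal A))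
  refine ⟨Points.C f B, inferInstance, inferInstance, fun i => ?_, ?_, fun h => ?_,
    Points.injective_base f B m hf, fun h z => ?_⟩
  · letI : Algebra (Points.C f B) (B i) := (Points.pr f B i).toRingHom.toAlgebra
    haveI : IsScalarTower A (Points.C f B) (B i) :=
      IsScalarTower.of_algebraMap_eq fun a => ((Points.pr f B i).commutes a).symm
    haveI : IsLocalization (Algebra.algebraMapSubmonoid (Points.C f B) (m i).primeCompl) (B i) :=
      Points.isLocalization_pr f B m hf hinj hker hcoker i
    haveI := (Algebra.isPushout_of_isLocalization (R := A) (T := Points.C f B) (m i).primeCompl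
      (Localization.AtPrime (m i)) (B := B i)).symm
    exact ⟨Algebra.IsPushout.equiv A (Localization.AtPrime (m i)) (Points.C f B) (B i)⟩
  · obtain ⟨n, hn⟩ := Points.ker_bound f B m hf hker
    obtain ⟨n', hn'⟩ := Points.coker_bound f B m hf hinj hker hcoker
    exact ⟨n + n', hn _ (Nat.le_add_right n n'), hn' _ (Nat.le_add_left n' n)⟩
  · exact RingHom.finite_algebraMap.2
      (Points.finite_base f B m hf hinj hker hcoker fun i => RingHom.finite_algebraMap.1 (h i))
  · exact Points.range_of_local f B m hf hinj hker fun i => h i _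

end Groth.Agent.S1837
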