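import Groth.Statements.S18370
import Mathlib

set_option autoImplicit false
universe u
open CategoryTheory CategoryTheory.Limits MonoidalCategory CartesianMonoidalCategory MonObj GrpObj AlgebraicGeometry
open GrpSch

set_option backward.isDefEq.respectTransparency false
namespace Groth.Agent.S18370

/-- Let S be a scheme and G a commutative S-group scheme which is killed by a natural number n, i.e. the
n-th power map of G is the trivial homomorphism, and let n = a·b with a and b coprime. If i_a : G_a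
→ G and i_b : G_b → G are scheme-theoretic kernels of the a-th and b-th power maps of G, then the
morphism G_a ×_S G_b → G sending (x, y) to i_a(x)·i_b(y) is an isomorphism of S-schemes. (The
published statement assumes n ≠ 0; the case n = 0, where {a, b} = {0, 1} and one kernel is all of G
while the other is trivial, is included here.) -/
theorem result {S : Scheme.{u}} (G Ga Gb : Over S)
    [GrpObj G] [IsCommMonObj G] (n a b : ℕ) (hn : n = a * b) (hab : Nat.Coprime a b)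
    (hG : (𝟙 G) ^ n = 1)
    (ia : Ga ⟶ G) (hia : AlgGrp.IsKernel ia ((𝟙 G) ^ a))
    (ib : Gb ⟶ G) (hib : AlgGrp.IsKernel ib ((𝟙 G) ^ b)) :
    IsIso ((fst Ga Gb ≫ ia) * (snd Ga Gb ≫ ib)) := by
  obtain ⟨x, y, hxy⟩ := Nat.Coprime.isCoprime hab
  have cpow : ∀ {T : Over S} (g : T ⟶ G) (k : ℕ), g ≫ (𝟙 G) ^ k = g ^ k := fun g k ↦ by
    induction k with
    | zero => rw [pow_zero, MonObj.comp_one, pow_zero]
    | succ k ih => rw [pow_succ, MonObj.comp_mul, ih, Category.comp_id, pow_succ]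
  have hn' : ∀ {T : Over S} (g : T ⟶ G) (m : ℤ), g ^ (m * (n : ℤ)) = 1 := fun g m ↦ by
    rw [mul_comm, zpow_mul, zpow_natCast, ← cpow g n, hG, MonObj.comp_one, one_zpow]
  have kerA : ∀ {T : Over S} (u : T ⟶ Ga), (u ≫ ia) ^ a = 1 := fun u ↦ by
    rw [← cpow, Category.assoc, hia.w, ← Category.assoc, toUnit_unique (u ≫ toUnit Ga) (toUnit _)]; rfl
  have kerB : ∀ {T : Over S} (u : T ⟶ Gb), (u ≫ ib) ^ b = 1 := fun u ↦ by
    rw [← cpow, Category.assoc, hib.w, ← Category.assoc, toUnit_unique (u ≫ toUnit Gb) (toUnit _)]; rfl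
  set m := (fst Ga Gb ≫ ia) * (snd Ga Gb ≫ ib) with hm
  have hA : ((𝟙 G) ^ (y * (b : ℤ))) ≫ (𝟙 G) ^ a = toUnit G ≫ η[G] := by
    rw [cpow, ← zpow_natCast, ← zpow_mul, show y * (b : ℤ) * (a : ℤ) = y * (n : ℤ) by rw [hn]; push_cast; ring, hn']
    rfl
  have hB : ((𝟙 G) ^ (x * (a : ℤ))) ≫ (𝟙 G) ^ b = toUnit G ≫ η[G] := by
    rw [cpow, ← zpow_natCast, ← zpow_mul, show x * (a : ℤ) * (b : ℤ) = x * (n : ℤ) by rw [hn]; push_cast; ring, hn']
    rfl
  have czpow : ∀ {T : Over S} (g : T ⟶ G) (k : ℤ), g ≫ (𝟙 G) ^ k = g ^ k := fun g k ↦ by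
    have e : ∀ (u v : G ⟶ G), g ≫ (u * v⁻¹) = (g ≫ u) * (g ≫ v)⁻¹ := fun u v ↦ by
      rw [MonObj.comp_mul, GrpObj.comp_inv]
    obtain ⟨p, q, rfl⟩ : ∃ p q : ℕ, k = (p : ℤ) - (q : ℤ) := ⟨k.toNat, (-k).toNat, by omega⟩
    rw [zpow_sub, zpow_natCast, zpow_natCast, e, cpow, cpow, zpow_sub, zpow_natCast, zpow_natCast]
  refine ⟨lift (hia.lift _ _ hA) (hib.lift _ _ hB), ?_, ?_⟩
  · have hfst : (m ≫ (hia.lift _ _ hA)) ≫ ia = fst Ga Gb ≫ ia := by
      rw [Category.assoc, hia.lift_fst, czpow, hm, mul_zpow,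
        show (snd Ga Gb ≫ ib) ^ (y * (b : ℤ)) = 1 by rw [mul_comm, zpow_mul, zpow_natCast, kerB, one_zpow],
        _root_.mul_one, show y * (b : ℤ) = 1 + (-x) * (a : ℤ) by linear_combination hxy, zpow_add, zpow_one,
        show (fst Ga Gb ≫ ia) ^ ((-x) * (a : ℤ)) = 1 by rw [mul_comm, zpow_mul, zpow_natCast, kerA, one_zpow], _root_.mul_one]
    have hsnd : (m ≫ (hib.lift _ _ hB)) ≫ ib = snd Ga Gb ≫ ib := by
      rw [Category.assoc, hib.lift_fst, czpow, hm, mul_zpow,
        show (fst Ga Gb ≫ ia) ^ (x * (a : ℤ)) = 1 by rw [mul_comm, zpow_mul, zpow_natCast, kerA, one_zpow],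
        _root_.one_mul, show x * (a : ℤ) = 1 + (-y) * (b : ℤ) by linear_combination hxy, zpow_add, zpow_one,
        show (snd Ga Gb ≫ ib) ^ ((-y) * (b : ℤ)) = 1 by rw [mul_comm, zpow_mul, zpow_natCast, kerB, one_zpow], _root_.mul_one]
    refine CartesianMonoidalCategory.hom_ext _ _ ?_ ?_
    · rw [Category.assoc, lift_fst, Category.id_comp]
      exact hia.hom_ext hfst (toUnit_unique _ _)
    · rw [Category.assoc, lift_snd, Category.id_comp]
      exact hib.hom_ext hsnd (toUnit_unique _ _)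
  · rw [hm, MonObj.comp_mul, ← Category.assoc, ← Category.assoc, lift_fst, lift_snd, hia.lift_fst, hib.lift_fst,
      ← zpow_add, show y * (b : ℤ) + x * (a : ℤ) = 1 by linear_combination hxy, zpow_one]

end Groth.Agent.S18370
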