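import Groth.Statements.S18372
import Mathlib
import Groth.Agent.AVAmple.Translate

set_option autoImplicit false
set_option backward.isDefEq.respectTransparency false
set_option backward.isDefEq.respectTransparency.types false
universe u
open CategoryTheory CategoryTheory.Limits MonoidalCategory CartesianMonoidalCategory MonObj GrpObj AlgebraicGeometry
open AbVar

namespace Groth.Agent.S18372

/-- Let k be an algebraically closed field, A an abelian variety over k (a proper smooth k-group scheme
with geometrically connected fibres), U an affine open subset of A containing the unit point and D =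
A ∖ U. Then only finitely many k-rational points x of A have a translation t_x : z ↦ z + x (the
product of the identity and the constant map x in the group Hom(A, A)) with t_x⁻¹(D) = D as sets. -/
theorem result (k : Type u) [Field k] [IsAlgClosed k]
    (A : Over (Spec (CommRingCat.of k))) [GrpObj A] [IsProper A.hom] [Smooth A.hom] [GeometricallyConnected A.hom]
    (U : A.left.Opens) (hU : IsAffineOpen U) (he : Set.range η[A].left.base ⊆ (U : Set A.left)) :
    Set.Finite {x : 𝟙_ (Over (Spec (CommRingCat.of k))) ⟶ A |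
      (𝟙 A * (toUnit A ≫ x)).left.base ⁻¹' ((U : Set A.left)ᶜ) = (U : Set A.left)ᶜ} := by
  haveI : GeometricallyIntegral A.hom := ClosedRep.GeomIntegral.geometricallyIntegral_of_smooth A.hom
  haveI : JacobsonSpace A.left := LocallyOfFiniteType.jacobsonSpace A.hom
  let D : Set A.left := (U : Set A.left)ᶜ
  have hD : IsClosed D := U.2.isClosed_compl
  let lp := fun d : 𝟙_ (Over (Spec (CommRingCat.of k))) ⟶ A => (toUnit A ≫ d) * 𝟙 A
  let lm := fun d : 𝟙_ (Over (Spec (CommRingCat.of k))) ⟶ A => (toUnit A ≫ d) * (𝟙 A)⁻¹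
  let S : Set A.left := ⋂ d : {d : 𝟙_ (Over (Spec (CommRingCat.of k))) ⟶ A // d.left (IsLocalRing.closedPoint k) ∈ D},
    (lp d.1).left ⁻¹' D ∩ (lm d.1).left ⁻¹' D
  have hS : IsClosed S := isClosed_iInter fun d =>
    (hD.preimage (lp d.1).left.continuous).inter (hD.preimage (lm d.1).left.continuous)
  have happ : ∀ (f : A ⟶ A) (x : 𝟙_ (Over (Spec (CommRingCat.of k))) ⟶ A),
      f.left (x.left (IsLocalRing.closedPoint k)) = (x ≫ f).left (IsLocalRing.closedPoint k) := fun f x => rfl
  have hlp : ∀ d x, x ≫ lp d = d * x := fun d x => by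
    simp [lp, MonObj.comp_mul, ← Category.assoc, toUnit_unique (toUnit _) (𝟙 _)]
  have hlm : ∀ d x, x ≫ lm d = d * x⁻¹ := fun d x => by
    simp [lm, MonObj.comp_mul, GrpObj.comp_inv, ← Category.assoc, toUnit_unique (toUnit _) (𝟙 _)]
  have he' : η[A].left (IsLocalRing.closedPoint k) ∈ U := he ⟨_, rfl⟩
  have hSU : S ⊆ (U : Set A.left) := by
    intro z hz
    by_contra hzU
    obtain ⟨y, ⟨hyS, hyD⟩, hyc⟩ := nonempty_inter_closedPoints (Z := S ∩ D) ⟨z, hz, hzU⟩
      (hS.inter hD).isLocallyClosed
    obtain ⟨d, hd⟩ := AVAmple.exists_point (A := A) hyc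
    have h1 := (Set.mem_iInter.1 hyS ⟨d, hd ▸ hyD⟩).2
    subst hd
    change (lm d).left (d.left (IsLocalRing.closedPoint k)) ∈ D at h1
    rw [happ, hlm, mul_inv_cancel] at h1
    exact h1 he'
  refine Set.Finite.of_injOn (f := fun a => a.left (IsLocalRing.closedPoint k)) (t := S) (fun x hx => ?_)
    (AVAmple.point_injective (A := A)).injOn (AVAmple.finite_of_subset_affine A S hS U hU hSU)
  refine Set.mem_iInter.2 fun d => ⟨?_, ?_⟩
  · show (lp d.1).left (x.left (IsLocalRing.closedPoint k)) ∈ D
    have h2 : d.1.left (IsLocalRing.closedPoint k) ∈ (𝟙 A * (toUnit A ≫ x)).left.base ⁻¹' D := hx.symm ▸ d.2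
    rw [happ, hlp]
    rw [Set.mem_preimage] at h2
    convert h2 using 1
    show _ = (d.1 ≫ (𝟙 A * (toUnit A ≫ x))).left (IsLocalRing.closedPoint k)
    simp [MonObj.comp_mul, ← Category.assoc, toUnit_unique (toUnit _) (𝟙 _)]
  · show (lm d.1).left (x.left (IsLocalRing.closedPoint k)) ∈ D
    rw [happ, hlm]
    have h2 : (d.1 * x⁻¹).left (IsLocalRing.closedPoint k) ∈ (𝟙 A * (toUnit A ≫ x)).left.base ⁻¹' D := by
      rw [Set.mem_preimage]
      show ((d.1 * x⁻¹) ≫ (𝟙 A * (toUnit A ≫ x))).left (IsLocalRing.closedPoint k) ∈ D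
      have e : (d.1 * x⁻¹) ≫ (𝟙 A * (toUnit A ≫ x)) = d.1 := by
        simp [MonObj.comp_mul, ← Category.assoc, toUnit_unique (toUnit _) (𝟙 _)]
      rw [e]; exact d.2
    exact (Set.ext_iff.1 hx _).1 h2

end Groth.Agent.S18372
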