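import Groth.Statements.S18374
import Mathlib.Tactic.Linarith
import Mathlib.Tactic.Ring

set_option autoImplicit false
set_option backward.isDefEq.respectTransparency false
set_option linter.style.haveILetI false
universe u
open PhiStab

namespace Groth.Agent.S18374

variable {V E : Type u} [Fintype V] [Fintype E] [DecidableEq V] [DecidableEq E] (ends : E → V × V)

open Finset

/-- The edge weight. -/
noncomputable def w (N : Finset E) (S : Finset V) (e : E) : ℝ :=
  (if (ends e).1 ∈ S ∧ (ends e).2 ∈ S then (if e ∈ N then 1 else 0) else 0) +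
    (if ((ends e).1 ∈ S ∧ (ends e).2 ∉ S) ∨ ((ends e).1 ∉ S ∧ (ends e).2 ∈ S) then 1 / 2 else 0)

/-- The defect of a vertex set. -/
noncomputable def delta (φ : V → ℝ) (m : V → ℤ) (N : Finset E) (S : Finset V) : ℝ :=
  ∑ v ∈ S, ((m v : ℝ) - φ v) + ∑ e, w ends N S e

theorem delta_eq (φ : V → ℝ) (m : V → ℤ) (N : Finset E) (S : Finset V) :
    delta ends φ m N S = (degOn ends m N S : ℝ) - ((∑ v ∈ S, φ v) - (LabGraph.cut ends S : ℝ) / 2) := by
  have h1 : ((N ∩ inner ends S).card : ℝ) =
      ∑ e, if (ends e).1 ∈ S ∧ (ends e).2 ∈ S then (if e ∈ N then (1 : ℝ) else 0) else 0 := by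
    simp only [← ite_and]
    rw [Finset.sum_boole]
    congr 2
    ext e
    simp [inner, and_comm, and_assoc]
  have h2 : (LabGraph.cut ends S : ℝ) / 2 =
      ∑ e, if ((ends e).1 ∈ S ∧ (ends e).2 ∉ S) ∨ ((ends e).1 ∉ S ∧ (ends e).2 ∈ S) then (1 : ℝ) / 2 else 0 := by
    rw [← Finset.sum_filter, Finset.sum_const, LabGraph.cut, nsmul_eq_mul]
    ring
  simp only [delta, w, degOn, Finset.sum_add_distrib, ← h1, ← h2, Finset.sum_sub_distrib]
  push_cast
  ring

theorem nonempty_of_isElementary {S : Finset V} (hS : IsElementary ends S) : S.Nonempty ∧ S ≠ Finset.univ := by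
  obtain ⟨⟨v, hv⟩⟩ := hS.1.1
  refine ⟨⟨v, hv⟩, fun h => ?_⟩
  obtain ⟨⟨u, hu⟩⟩ := hS.2.1
  subst h
  simp at hu

/-- No edge joins `T` and `U`. -/
def Apart (T U : Finset V) : Prop :=
  Disjoint T U ∧ ∀ e, ¬ ((ends e).1 ∈ T ∧ (ends e).2 ∈ U) ∧ ¬ ((ends e).1 ∈ U ∧ (ends e).2 ∈ T)

theorem delta_union (φ : V → ℝ) (m : V → ℤ) (N : Finset E) {T U : Finset V} (h : Apart ends T U) :
    delta ends φ m N (T ∪ U) = delta ends φ m N T + delta ends φ m N U := by
  simp only [delta, Finset.sum_union h.1]
  have : ∀ e, w ends N (T ∪ U) e = w ends N T e + w ends N U e := fun e => by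
    obtain ⟨ha, hb⟩ := h.2 e
    have h1 : (ends e).1 ∈ T → (ends e).1 ∉ U := fun hh => Finset.disjoint_left.mp h.1 hh
    have h2 : (ends e).2 ∈ T → (ends e).2 ∉ U := fun hh => Finset.disjoint_left.mp h.1 hh
    simp only [w, Finset.mem_union]
    by_cases a1 : (ends e).1 ∈ T <;> by_cases a2 : (ends e).2 ∈ T <;> by_cases b1 : (ends e).1 ∈ U <;>
      by_cases b2 : (ends e).2 ∈ U <;> simp_all
  simp only [this, Finset.sum_add_distrib]
  ring

theorem delta_compl_union (φ : V → ℝ) (m : V → ℤ) (N : Finset E) (hdeg : (∑ v : V, φ v) = (totDeg m N : ℝ))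
    {T U : Finset V} (h : Apart ends T U) :
    delta ends φ m N (T ∪ U)ᶜ = delta ends φ m N Tᶜ + delta ends φ m N Uᶜ := by
  have ht : ∑ v, ((m v : ℝ) - φ v) + ∑ e : E, (if e ∈ N then (1 : ℝ) else 0) = 0 := by
    rw [Finset.sum_sub_distrib, hdeg, totDeg, Finset.sum_boole, Finset.filter_univ_mem]
    push_cast
    ring
  have hc : ∀ X : Finset V, delta ends φ m N Xᶜ =
      -(∑ v ∈ X, ((m v : ℝ) - φ v)) + ∑ e, (w ends N Xᶜ e - (if e ∈ N then (1 : ℝ) else 0)) := fun X => by
    simp only [delta, Finset.sum_sub_distrib] at ht ⊢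
    linarith [Finset.sum_add_sum_compl X fun v => (m v : ℝ), Finset.sum_add_sum_compl X φ]
  rw [hc, hc, hc, Finset.sum_union h.1]
  have : ∀ e, w ends N (T ∪ U)ᶜ e - (if e ∈ N then (1 : ℝ) else 0) =
      (w ends N Tᶜ e - (if e ∈ N then (1 : ℝ) else 0)) + (w ends N Uᶜ e - (if e ∈ N then (1 : ℝ) else 0)) := fun e => by
    obtain ⟨ha, hb⟩ := h.2 e
    have h1 : (ends e).1 ∈ T → (ends e).1 ∉ U := fun hh => Finset.disjoint_left.mp h.1 hh
    have h2 : (ends e).2 ∈ T → (ends e).2 ∉ U := fun hh => Finset.disjoint_left.mp h.1 hh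
    simp only [w, Finset.mem_union, Finset.mem_compl]
    by_cases a1 : (ends e).1 ∈ T <;> by_cases a2 : (ends e).2 ∈ T <;> by_cases b1 : (ends e).1 ∈ U <;>
      by_cases b2 : (ends e).2 ∈ U <;> simp_all
  simp only [this, Finset.sum_add_distrib]
  ring

/-- A nonempty disconnected vertex set splits. -/
theorem split {S : Finset V} (hne : S.Nonempty) (h : ¬ LabGraph.Connected (indEnds ends S)) :
    ∃ T U : Finset V, Apart ends T U ∧ T ∪ U = S ∧ T.Nonempty ∧ U.Nonempty := by
  classical
  obtain ⟨a, b, hab⟩ : ∃ a b : {v // v ∈ S}, ¬ Relation.ReflTransGen (LabGraph.Adj (indEnds ends S)) a b := by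
    by_contra! hcon
    exact h ⟨⟨⟨hne.choose, hne.choose_spec⟩⟩, hcon⟩
  let R := Relation.ReflTransGen (LabGraph.Adj (indEnds ends S))
  let T := S.filter fun v => ∃ hv : v ∈ S, R a ⟨v, hv⟩
  refine ⟨T, S \ T, ⟨Finset.disjoint_sdiff, fun e => ⟨?_, ?_⟩⟩, Finset.union_sdiff_of_subset (Finset.filter_subset _ _),
    ⟨a, Finset.mem_filter.mpr ⟨a.2, a.2, Relation.ReflTransGen.refl⟩⟩,
    ⟨b, Finset.mem_sdiff.mpr ⟨b.2, fun hb => hab (Finset.mem_filter.mp hb).2.2⟩⟩⟩
  · rintro ⟨h1, h2⟩
    obtain ⟨h1S, _, hR⟩ := Finset.mem_filter.mp h1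
    obtain ⟨h2S, h2T⟩ := Finset.mem_sdiff.mp h2
    exact h2T (Finset.mem_filter.mpr ⟨h2S, h2S, hR.tail ⟨⟨e, by simp [inner, h1S, h2S]⟩, Or.inl rfl⟩⟩)
  · rintro ⟨h1, h2⟩
    obtain ⟨h2S, _, hR⟩ := Finset.mem_filter.mp h2
    obtain ⟨h1S, h1T⟩ := Finset.mem_sdiff.mp h1
    exact h1T (Finset.mem_filter.mpr ⟨h1S, h1S, hR.tail ⟨⟨e, by simp [inner, h1S, h2S]⟩, Or.inr rfl⟩⟩)

theorem main (hconn : LabGraph.Connected ends) (φ : V → ℝ) (m : V → ℤ) (N : Finset E)
    (hdeg : (∑ v : V, φ v) = (totDeg m N : ℝ)) (P : ℝ → Prop) (hadd : ∀ a b, P a → P b → P (a + b))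
    (hel : ∀ S, IsElementary ends S → P (delta ends φ m N S)) :
    ∀ S : Finset V, S.Nonempty → S ≠ Finset.univ → P (delta ends φ m N S) := by
  classical
  have conn : ∀ (k : ℕ) (S : Finset V), (Sᶜ).card = k → Sᶜ.Nonempty → LabGraph.Connected (indEnds ends S) →
      P (delta ends φ m N S) := by
    intro k
    induction k using Nat.strong_induction_on with
    | _ k ih =>
      intro S hk hne hS
      by_cases hc : LabGraph.Connected (indEnds ends Sᶜ)
      · exact hel S ⟨hS, hc⟩
      obtain ⟨T, U, hap, hTU, hTn, hUn⟩ := split ends hne hc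
      have hcard : T.card + U.card = k := by rw [← Finset.card_union_of_disjoint hap.1, hTU, hk]
      have hST : ∀ T U : Finset V, Apart ends T U → T ∪ U = Sᶜ → LabGraph.Connected (indEnds ends Tᶜ) := by
        intro T U hap hTU
        obtain ⟨⟨s₀, hs₀⟩⟩ := hS.1
        have hsub : ∀ {v}, v ∈ S → v ∈ Tᶜ := fun {v} hv => Finset.mem_compl.mpr fun hvT =>
          Finset.mem_compl.mp (hTU ▸ Finset.mem_union_left U hvT) hv
        let R := Relation.ReflTransGen (LabGraph.Adj (indEnds ends Tᶜ))
        have hsymm : ∀ {x y}, R x y → R y x := fun {x y} hxy => by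
          induction hxy with
          | refl => exact Relation.ReflTransGen.refl
          | tail _ hbc ih => exact Relation.ReflTransGen.head ((fun ⟨e, he⟩ => ⟨e, he.symm⟩) hbc) ih
        have inS : ∀ x y : {v // v ∈ S}, R ⟨x.1, hsub x.2⟩ ⟨y.1, hsub y.2⟩ := fun x y => by
          refine Relation.ReflTransGen.lift (fun z : {v // v ∈ S} => (⟨z.1, hsub z.2⟩ : {v // v ∈ Tᶜ})) ?_ _ _ (hS.2 x y)
          rintro a b ⟨⟨e, he⟩, hab⟩
          have he' := (Finset.mem_filter.mp he).2
          refine ⟨⟨e, Finset.mem_filter.mpr ⟨Finset.mem_univ _, hsub he'.1, hsub he'.2⟩⟩, ?_⟩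
          rcases hab with h | h
          · exact Or.inl (Prod.ext (Subtype.ext (congrArg (fun p => (p.1 : V)) h :)) (Subtype.ext (congrArg (fun p => (p.2 : V)) h :)))
          · exact Or.inr (Prod.ext (Subtype.ext (congrArg (fun p => (p.1 : V)) h :)) (Subtype.ext (congrArg (fun p => (p.2 : V)) h :)))
        have toS : ∀ x : V, Relation.ReflTransGen (LabGraph.Adj ends) x s₀ → ∀ hx : x ∈ Tᶜ, R ⟨x, hx⟩ ⟨s₀, hsub hs₀⟩ := by
          intro x hx
          induction hx using Relation.ReflTransGen.head_induction_on with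
          | refl => exact fun _ => Relation.ReflTransGen.refl
          | @head x y hxy hy ihy =>
            intro hxT
            by_cases hxS : x ∈ S
            · exact inS ⟨x, hxS⟩ ⟨s₀, hs₀⟩
            have hxU : x ∈ U := (Finset.mem_union.mp (hTU ▸ Finset.mem_compl.mpr hxS : x ∈ T ∪ U)).resolve_left
              (Finset.mem_compl.mp hxT)
            obtain ⟨e, he⟩ := hxy
            have hyT : y ∈ Tᶜ := Finset.mem_compl.mpr fun hyT => by
              rcases he with h | h
              · exact (hap.2 e).2 ⟨by rw [h]; exact hxU, by rw [h]; exact hyT⟩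
              · exact (hap.2 e).1 ⟨by rw [h]; exact hyT, by rw [h]; exact hxU⟩
            refine Relation.ReflTransGen.head ⟨⟨e, Finset.mem_filter.mpr ⟨Finset.mem_univ _, ?_⟩⟩, ?_⟩ (ihy hyT)
            · rcases he with h | h <;> rw [h]
              · exact ⟨hxT, hyT⟩
              · exact ⟨hyT, hxT⟩
            · rcases he with h | h
              · exact Or.inl (Prod.ext (Subtype.ext (congrArg Prod.fst h :)) (Subtype.ext (congrArg Prod.snd h :)))
              · exact Or.inr (Prod.ext (Subtype.ext (congrArg Prod.fst h :)) (Subtype.ext (congrArg Prod.snd h :)))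
        exact ⟨⟨⟨s₀, hsub hs₀⟩⟩, fun x y => (toS x.1 (hconn.2 _ _) x.2).trans (hsymm (toS y.1 (hconn.2 _ _) y.2))⟩
      have e : S = (T ∪ U)ᶜ := by rw [hTU, compl_compl]
      rw [e, delta_compl_union ends φ m N hdeg hap]
      refine hadd _ _ (ih T.card ?_ Tᶜ (by rw [compl_compl]) (by rw [compl_compl]; exact hTn) (hST T U hap hTU))
        (ih U.card ?_ Uᶜ (by rw [compl_compl]) (by rw [compl_compl]; exact hUn)
          (hST U T ⟨hap.1.symm, fun e => ⟨(hap.2 e).2, (hap.2 e).1⟩⟩ (by rw [Finset.union_comm]; exact hTU)))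
      · have := hUn.card_pos; omega
      · have := hTn.card_pos; omega
  have all : ∀ (k : ℕ) (S : Finset V), S.card = k → S.Nonempty → Sᶜ.Nonempty → P (delta ends φ m N S) := by
    intro k
    induction k using Nat.strong_induction_on with
    | _ k ih =>
      intro S hk hne hcne
      by_cases hc : LabGraph.Connected (indEnds ends S)
      · exact conn _ S rfl hcne hc
      obtain ⟨T, U, hap, hTU, hTn, hUn⟩ := split ends hne hc
      have hcard : T.card + U.card = k := by rw [← Finset.card_union_of_disjoint hap.1, hTU, hk]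
      rw [← hTU, delta_union ends φ m N hap]
      refine hadd _ _ (ih T.card ?_ T rfl hTn ?_) (ih U.card ?_ U rfl hUn ?_)
      · have := hUn.card_pos; omega
      · exact hcne.mono (Finset.compl_subset_compl.mpr (hTU ▸ Finset.subset_union_left))
      · have := hTn.card_pos; omega
      · exact hcne.mono (Finset.compl_subset_compl.mpr (hTU ▸ Finset.subset_union_right))
  intro S hne hnu
  refine all _ S rfl hne ?_
  rw [Finset.nonempty_iff_ne_empty]
  intro h
  exact hnu (by rw [← compl_compl S, h, Finset.compl_empty])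


open PhiStab in
/-- Let (V, E, ends) be a connected finite multigraph, φ a real weighting of its vertices and (m, N) a
sheaf datum on it (an integer multidegree m and a set N of edges, the non-free nodes) whose total
degree Σ_v m v + #N equals Σ_v φ v. Then (m, N) is φ-semistable, i.e. Σ_{v ∈ S} φ v - cut S / 2 ≤
deg_S(m, N) for every nonempty proper vertex set S, if and only if this inequality holds for every
elementary S (one for which S and its complement both induce connected subgraphs); and likewise for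
φ-stability with strict inequalities. This is the statement for a rank-1 torsion-free sheaf of
degree g - 1 on a stable pointed curve with this dual graph, written for the sheaf's combinatorial
datum, on which alone the stability inequalities depend and which takes all values. -/
theorem result {V E : Type u} [Fintype V] [Fintype E] [DecidableEq V] [DecidableEq E]
    (ends : E → V × V) (hconn : LabGraph.Connected ends)
    (φ : V → ℝ) (m : V → ℤ) (N : Finset E) (hdeg : (∑ v : V, φ v) = (totDeg m N : ℝ)) :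
    (IsSemistable ends φ m N ↔
      ∀ S : Finset V, IsElementary ends S →
        (∑ v ∈ S, φ v) - (LabGraph.cut ends S : ℝ) / 2 ≤ (degOn ends m N S : ℝ)) ∧
    (IsStable ends φ m N ↔
      ∀ S : Finset V, IsElementary ends S →
        (∑ v ∈ S, φ v) - (LabGraph.cut ends S : ℝ) / 2 < (degOn ends m N S : ℝ)) := by
  refine ⟨⟨fun h S hS => ?_, fun h S hne hnu => ?_⟩, ⟨fun h S hS => ?_, fun h S hne hnu => ?_⟩⟩
  · obtain ⟨hne, hnu⟩ := nonempty_of_isElementary ends hS
    exact h S hne hnu
  · have := main ends hconn φ m N hdeg (fun x => 0 ≤ x) (fun a b => add_nonneg)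
      (fun T hT => by simp only [delta_eq]; linarith [h T hT]) S hne hnu
    simp only [delta_eq] at this
    linarith
  · obtain ⟨hne, hnu⟩ := nonempty_of_isElementary ends hS
    exact h S hne hnu
  · have := main ends hconn φ m N hdeg (fun x => 0 < x) (fun a b => add_pos)
      (fun T hT => by simp only [delta_eq]; linarith [h T hT]) S hne hnu
    simp only [delta_eq] at this
    linarith

end Groth.Agent.S18374
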