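import Groth.Agent.VerlindeSineLib
import Groth.Agent.Verlinde.Basic

/-! Sums of products of Schur values at roots of unity. -/

set_option autoImplicit false

open scoped ComplexConjugate
open Matrix Finset

namespace Groth.Agent.VerlindeSchur

open VerlindeSine

variable {r : ℕ}

/-- The sign of the order reversal. -/
noncomputable def sr (r : ℕ) : ℂ := ((Equiv.Perm.sign (Fin.revPerm : Equiv.Perm (Fin r)) : ℤ) : ℂ)

theorem sr_mul_self : sr r * sr r = 1 := by
  rcases Int.units_eq_one_or (Equiv.Perm.sign (Fin.revPerm : Equiv.Perm (Fin r))) with h | h <;> simp [sr, h]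

theorem conj_sr : conj (sr r) = sr r := map_intCast conj _

theorem normSq_sr : Complex.normSq (sr r) = 1 := by
  rcases Int.units_eq_one_or (Equiv.Perm.sign (Fin.revPerm : Equiv.Perm (Fin r))) with h | h <;> simp [sr, h]

/-- The alternant. -/
noncomputable def A (z : Fin r → ℂ) (e : Fin r → ℕ) : ℂ := (Matrix.of fun i j : Fin r => z j ^ e i).det

theorem A_rev (z : Fin r → ℂ) (e : Fin r → ℕ) : A z (fun i => e (Fin.rev i)) = sr r * A z e := by
  rw [A, A, sr, ← Matrix.det_permute]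
  rfl

theorem conj_eq_inv {x : ℂ} (h : Complex.normSq x = 1) : conj x = x⁻¹ := by
  rw [Complex.inv_def, h]; simp

/-- Complementing exponents conjugates the alternant. -/
theorem A_compl (z : Fin r → ℂ) (hz : ∀ j, Complex.normSq (z j) = 1) (e : Fin r → ℕ) (c : ℕ) (hc : ∀ i, e i ≤ c) :
    A z (fun i => c - e (Fin.rev i)) = sr r * (∏ j, z j) ^ c * conj (A z e) := by
  have h0 : ∀ j, z j ≠ 0 := fun j h => by have := hz j; rw [h, map_zero] at this; exact zero_ne_one this
  have h1 : A z (fun i => c - e i) = (∏ j, z j) ^ c * conj (A z e) := by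
    rw [← Finset.prod_pow, A, A, RingHom.map_det, ← Matrix.det_mul_row]
    congr 1
    ext i j
    simp only [RingHom.mapMatrix_apply, Matrix.map_apply, Matrix.of_apply, map_pow, conj_eq_inv (hz j), inv_pow]
    rw [pow_sub₀ _ (h0 j) (hc i)]
  rw [A_rev z (fun i => c - e i), h1]
  ring

variable (n : ℕ) [NeZero n]

/-- The points `ζ ^ v j`. -/
noncomputable def pts (v : Fin r → ℕ) : Fin r → ℂ := fun j => ζ n ^ v j

theorem normSq_pts (v : Fin r → ℕ) (j : Fin r) : Complex.normSq (pts n v j) = 1 := normSq_pow n _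

theorem exp_eq_pts (v : Fin r → ℕ) (j : Fin r) (z : ℂ)
    (hz : z = Complex.exp (2 * Real.pi * Complex.I * (v j : ℂ) / (n : ℂ))) : z = pts n v j := by
  rw [hz, pts, pow_eq]; congr 1; push_cast; ring

theorem g_eq_A (v : Fin r → ℕ) (e : Fin r → Fin n) :
    g n r v e = Complex.normSq (A (pts n v) fun i => (e i : ℕ)) := by
  rw [g, A]
  congr 2
  ext i j
  simp [M, pts, ← pow_mul, mul_comm (v j)]

theorem normSq_den (v : Fin r → ℕ) (hvn : ∀ i, v i < n) :
    Complex.normSq (A (pts n v) fun i => r - 1 - (i : ℕ)) =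
      ∏ p ∈ (univ : Finset (Fin r × Fin r)).filter (fun p => p.1 < p.2),
        (2 * Real.sin (Real.pi * ((v p.1 : ℝ) - (v p.2 : ℝ)) / n)) ^ 2 := by
  have h : A (pts n v) (fun i => r - 1 - (i : ℕ)) = sr r * A (pts n v) (fun i => (i : ℕ)) := by
    rw [← A_rev]
    congr 1
    funext i
    rw [Fin.val_rev]
    omega
  rw [h, Complex.normSq_mul, normSq_sr, one_mul]
  have ht : A (pts n v) (fun i => (i : ℕ)) = (M n r (fun j => (j : ℕ)) (fun i => ⟨v i, hvn i⟩)).det := by
    rw [A, ← Matrix.det_transpose]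
    congr 1
    ext i j
    simp [M, pts, ← pow_mul]
  rw [ht]
  exact g_eq_prod n r (fun i => ⟨v i, hvn i⟩)

theorem den_pos (v : Fin r → ℕ) (hv : StrictAnti v) (hvn : ∀ i, v i < n) :
    0 < ∏ p ∈ (univ : Finset (Fin r × Fin r)).filter (fun p => p.1 < p.2),
        (2 * Real.sin (Real.pi * ((v p.1 : ℝ) - (v p.2 : ℝ)) / n)) ^ 2 := by
  refine Finset.prod_pos fun p hp => ?_
  have hlt : v p.2 < v p.1 := hv (Finset.mem_filter.mp hp).2
  have hn : (0 : ℝ) < n := Nat.cast_pos.mpr (Nat.pos_of_ne_zero (NeZero.ne n))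
  have hd : (0 : ℝ) < (v p.1 : ℝ) - v p.2 := sub_pos.mpr (Nat.cast_lt.mpr hlt)
  have hd' : (v p.1 : ℝ) - v p.2 < n := by
    have h1 : (v p.1 : ℝ) < n := Nat.cast_lt.mpr (hvn _)
    have h2 : (0 : ℝ) ≤ v p.2 := Nat.cast_nonneg _
    linarith
  have := Real.sin_pos_of_pos_of_lt_pi (show 0 < Real.pi * ((v p.1 : ℝ) - v p.2) / n by positivity)
    (by rw [div_lt_iff₀ hn]; exact mul_lt_mul_of_pos_left hd' Real.pi_pos)
  positivity

theorem strictAnti_gap {e : Fin r → ℕ} (he : StrictAnti e) {i j : Fin r} (h : i ≤ j) : e j + ((j : ℕ) - i) ≤ e i := by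
  obtain ⟨d, hd⟩ : ∃ d, (j : ℕ) = i + d := Nat.exists_eq_add_of_le h
  induction d generalizing j with
  | zero =>
    obtain rfl : j = i := Fin.ext (by omega)
    omega
  | succ d ih =>
    have hlt : (i : ℕ) + d < r := by omega
    have h1 := ih (j := ⟨i + d, hlt⟩) (Fin.mk_le_mk.2 (by omega)) rfl
    have h2 : e j < e ⟨i + d, hlt⟩ := he (Fin.mk_lt_mk.2 (by omega))
    simp only at h1
    omega

/-- The sum of squared alternants over exponents avoiding `n - 1`. -/
theorem sum_avoid (v : Fin r → ℕ) (hr : 1 ≤ r) (hv : Function.Injective v) (hvn : ∀ i, v i < n) :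
    ∑ e ∈ (univ : Finset (Fin r → Fin n)).filter (fun e : Fin r → Fin n => StrictAnti e ∧ ∀ i, (e i : ℕ) + 1 < n),
      g n r v e = ((n : ℝ) - r) * (n : ℝ) ^ (r - 1) := by
  classical
  have hall := sum_strictAnti n r v hv hvn
  have hzero := sum_antitone n r v hr hv hvn
  rw [← Finset.sum_filter_add_sum_filter_not
    ((univ : Finset (Fin r → Fin n)).filter (fun e : Fin r → Fin n => StrictAnti e))
    (fun e => ∀ i, (e i : ℕ) + 1 < n), Finset.filter_filter, Finset.filter_filter] at hall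
  have hb : ∑ e ∈ (univ : Finset (Fin r → Fin n)).filter
        (fun e : Fin r → Fin n => StrictAnti e ∧ ¬ ∀ i, (e i : ℕ) + 1 < n), g n r v e =
      (r : ℝ) * (n : ℝ) ^ (r - 1) := by
    rw [← hzero]
    have hinv : ∀ e : Fin r → Fin n, g n r v (fun i => Fin.rev (e (Fin.rev i))) = g n r v e := fun e => by
      rw [g_eq_A, g_eq_A]
      have hfun : (fun i => ((Fin.rev (e (Fin.rev i)) : Fin n) : ℕ)) = fun i => (n - 1) - ((e (Fin.rev i) : Fin n) : ℕ) := by
        funext i; rw [Fin.val_rev]; omega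
      rw [hfun, A_compl (pts n v) (normSq_pts n v) (fun i => (e i : ℕ)) (n - 1) (fun i => by have := (e i).is_lt; omega),
        Complex.normSq_mul, Complex.normSq_mul, normSq_sr, map_pow, map_prod,
        Finset.prod_eq_one (fun j _ => normSq_pts n v j), one_pow, one_mul, one_mul, Complex.normSq_conj]
    have hanti : ∀ e : Fin r → Fin n, StrictAnti e → StrictAnti fun i => Fin.rev (e (Fin.rev i)) :=
      fun e he a b hab => Fin.rev_lt_rev.2 (he (Fin.rev_lt_rev.2 hab))
    refine Finset.sum_nbij' (fun e i => Fin.rev (e (Fin.rev i))) (fun e i => Fin.rev (e (Fin.rev i))) ?_ ?_ ?_ ?_ ?_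
    · intro e he
      simp only [Finset.mem_coe, Finset.mem_filter, Finset.mem_univ, true_and, not_forall, not_lt] at he ⊢
      obtain ⟨hs, a, ha⟩ := he
      refine ⟨hanti e hs, fun i hi => ?_⟩
      have h0 : (Fin.rev i : Fin r) ≤ a := Fin.le_def.2 (by rw [Fin.val_rev]; omega)
      have h1 : ((e a : Fin n) : ℕ) ≤ e (Fin.rev i) := hs.antitone h0
      have := (e (Fin.rev i)).is_lt
      rw [Fin.val_rev]
      omega
    · intro e he
      simp only [Finset.mem_coe, Finset.mem_filter, Finset.mem_univ, true_and, not_forall, not_lt] at he ⊢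
      obtain ⟨hs, h0⟩ := he
      refine ⟨hanti e hs, ⟨0, by omega⟩, ?_⟩
      have := h0 (Fin.rev ⟨0, by omega⟩) (by rw [Fin.val_rev])
      rw [Fin.val_rev, this]
      omega
    · intro e _; simp
    · intro e _; simp
    · intro e _; exact (hinv e).symm
  rw [hb] at hall
  rw [sub_mul]
  have hn : (n : ℝ) * (n : ℝ) ^ (r - 1) = (n : ℝ) ^ r := by rw [← pow_succ', Nat.sub_add_cancel hr]
  linarith

/-- The weighted product of a Schur value and its dual. -/
theorem schur_pair (v : Fin r → ℕ) (hvn : ∀ i, v i < n) (μ : Fin r → ℕ) (k : ℕ) (hn : r + k = n) (hμ : ∀ i, μ i ≤ k) :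
    (A (pts n v) (fun i => μ i + (r - 1 - (i : ℕ))) / A (pts n v) (fun i => r - 1 - (i : ℕ))) *
      (A (pts n v) (fun i => (k - μ (Fin.rev i)) + (r - 1 - (i : ℕ))) / A (pts n v) (fun i => r - 1 - (i : ℕ))) =
      (∏ j, pts n v j) ^ k * (Complex.normSq (A (pts n v) fun i => μ i + (r - 1 - (i : ℕ))) : ℂ) /
        ((∏ p ∈ (univ : Finset (Fin r × Fin r)).filter (fun p => p.1 < p.2),
          (2 * Real.sin (Real.pi * ((v p.1 : ℝ) - (v p.2 : ℝ)) / n)) ^ 2 : ℝ) : ℂ) := by
  set e := fun i : Fin r => μ i + (r - 1 - (i : ℕ)) with hedef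
  set d := fun i : Fin r => r - 1 - (i : ℕ) with hddef
  set z := pts n v
  rw [← normSq_den n v hvn, ← Complex.mul_conj, ← Complex.mul_conj]
  have h1 : A z (fun i => (k - μ (Fin.rev i)) + (r - 1 - (i : ℕ))) =
      sr r * (∏ j, z j) ^ (k + (r - 1)) * conj (A z e) := by
    rw [← A_compl z (normSq_pts n v) e (k + (r - 1)) (fun i => by have := hμ i; simp only [hedef]; omega)]
    congr 1
    funext i
    have := hμ (Fin.rev i)
    simp only [hedef, Fin.val_rev]
    omega
  have h2 : A z d = sr r * (∏ j, z j) ^ (r - 1) * conj (A z d) := by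
    rw [← A_compl z (normSq_pts n v) d (r - 1) (fun i => by simp only [hddef]; omega)]
    congr 1
    funext i
    simp only [hddef, Fin.val_rev]
    omega
  have hZ : (∏ j, z j) ^ (r - 1) ≠ 0 :=
    pow_ne_zero _ (Finset.prod_ne_zero_iff.2 fun j _ => pow_ne_zero _ (ζ_ne_zero n))
  show A z e / A z d * (A z (fun i => (k - μ (Fin.rev i)) + (r - 1 - (i : ℕ))) / A z d) =
    (∏ j, z j) ^ k * (A z e * conj (A z e)) / (A z d * conj (A z d))
  rw [h1]
  by_cases hd : A z d = 0
  · simp [hd]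
  have hd' : conj (A z d) ≠ 0 := fun h => hd (by rwa [map_eq_zero] at h)
  have hs : sr r ≠ 0 := fun h => by have := sr_mul_self (r := r); rw [h, mul_zero] at this; exact zero_ne_one this
  rw [div_mul_div_comm]
  nth_rewrite 2 [h2]
  rw [pow_add]
  field_simp

/-- The sum over the level-`k` partitions. -/
theorem sum_schur_dual (k : ℕ) (hk : 1 ≤ k) (hn : r + k = n) (hr : 1 ≤ r) (v : Fin r → ℕ) (hv : StrictAnti v)
    (hvn : ∀ i, v i < n) :
    ∑ μ ∈ (univ : Finset (Fin r → Fin k)).filter (fun μ : Fin r → Fin k => Antitone μ),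
      (A (pts n v) (fun i => (μ i : ℕ) + (r - 1 - (i : ℕ))) / A (pts n v) (fun i => r - 1 - (i : ℕ))) *
      (A (pts n v) (fun i => (k - (μ (Fin.rev i) : ℕ)) + (r - 1 - (i : ℕ))) / A (pts n v) (fun i => r - 1 - (i : ℕ))) =
      (∏ j, pts n v j) ^ k * ((k : ℂ) * (n : ℂ) ^ (r - 1)) /
        ((∏ p ∈ (univ : Finset (Fin r × Fin r)).filter (fun p => p.1 < p.2),
          (2 * Real.sin (Real.pi * ((v p.1 : ℝ) - (v p.2 : ℝ)) / n)) ^ 2 : ℝ) : ℂ) := by
  classical
  rw [Finset.sum_congr rfl fun μ _ => schur_pair n v hvn (fun i => (μ i : ℕ)) k hn (fun i => (μ i).is_lt.le),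
    ← Finset.sum_div, ← Finset.mul_sum, ← Complex.ofReal_sum]
  congr 2
  have hs := sum_avoid n v hr hv.injective hvn
  rw [show (n : ℝ) - r = k by rw [← hn]; push_cast; ring] at hs
  have hcast : ((k : ℂ) * (n : ℂ) ^ (r - 1)) = (((k : ℝ) * (n : ℝ) ^ (r - 1) : ℝ) : ℂ) := by push_cast; rfl
  rw [hcast, ← hs]
  congr 1
  refine Finset.sum_nbij'
    (fun μ i => ⟨(μ i : ℕ) + (r - 1 - (i : ℕ)), by have := (μ i).is_lt; omega⟩)
    (fun e i => ⟨((e i : ℕ) - (r - 1 - (i : ℕ))) % k, Nat.mod_lt _ hk⟩) ?_ ?_ ?_ ?_ ?_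
  · intro μ hμ
    simp only [Finset.mem_coe, Finset.mem_filter, Finset.mem_univ, true_and] at hμ ⊢
    refine ⟨fun a b hab => ?_, fun i => by have := (μ i).is_lt; omega⟩
    have h1 : (μ b : ℕ) ≤ μ a := hμ hab.le
    have h2 : (a : ℕ) < b := hab
    simp only [Fin.mk_lt_mk]
    omega
  · intro e he
    simp only [Finset.mem_coe, Finset.mem_filter, Finset.mem_univ, true_and] at he ⊢
    obtain ⟨hs, hlt⟩ := he
    intro a b hab
    simp only [Fin.mk_le_mk]
    have hgap := fun (i j : Fin r) (h : i ≤ j) => strictAnti_gap (e := fun i => (e i : ℕ)) (fun x y hxy => hs hxy) h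
    have g1 := hgap a b hab
    have g2 := hgap ⟨0, by omega⟩ a (Fin.mk_le_mk.2 (by omega))
    have g3 := hgap a ⟨r - 1, by omega⟩ (Fin.le_def.2 (by have := a.is_lt; simp; omega))
    have g4 := hgap b ⟨r - 1, by omega⟩ (Fin.le_def.2 (by have := b.is_lt; simp; omega))
    have g5 := hgap ⟨0, by omega⟩ b (Fin.mk_le_mk.2 (by omega))
    have := hlt ⟨0, by omega⟩
    simp only at g1 g2 g3 g4 g5
    rw [Nat.mod_eq_of_lt (by omega), Nat.mod_eq_of_lt (by omega)]
    omega
  · intro μ _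
    funext i
    apply Fin.ext
    simp only [Nat.add_sub_cancel]
    exact Nat.mod_eq_of_lt (μ i).is_lt
  · intro e he
    simp only [Finset.mem_coe, Finset.mem_filter, Finset.mem_univ, true_and] at he
    obtain ⟨hs, hlt⟩ := he
    funext i
    apply Fin.ext
    have hgap := fun (i j : Fin r) (h : i ≤ j) => strictAnti_gap (e := fun i => (e i : ℕ)) (fun x y hxy => hs hxy) h
    have g2 := hgap ⟨0, by omega⟩ i (Fin.mk_le_mk.2 (by omega))
    have g3 := hgap i ⟨r - 1, by omega⟩ (Fin.le_def.2 (by have := i.is_lt; simp; omega))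
    have := hlt ⟨0, by omega⟩
    simp only at g2 g3 ⊢
    rw [Nat.mod_eq_of_lt (by omega)]
    omega
  · intro μ _
    rw [g_eq_A n v]

end Groth.Agent.VerlindeSchur
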