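import Groth.Agent.VerlindeSchurLib
import Groth.Agent.Verlinde.Basic

/-! Orthogonality of twisted products of alternants. -/

set_option autoImplicit false

open scoped ComplexConjugate
open Finset Complex

namespace Groth.Agent.VerlindeSchur

open VerlindeSine

variable {r : ℕ} (n : ℕ) [NeZero n]

theorem alt_eq_A (v : Fin r → ℕ) (e : Fin r → ℕ) :
    Verlinde.alt n v (fun j => (e j : ℤ)) = A (pts n v) e := by
  rw [Verlinde.alt, A, ← Matrix.det_transpose]
  congr 1
  ext i j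
  simp only [Matrix.transpose_apply, Matrix.of_apply, pts, pow_eq, ← Complex.exp_nat_mul]
  congr 1
  push_cast
  ring

theorem alt_dual (v' : Fin r → ℕ) (c : ℕ) (hc : ∀ i, v' i ≤ c) (e : Fin r → ℕ) :
    Verlinde.alt n (fun i => c - v' (Fin.rev i)) (fun j => (e j : ℤ)) =
      sr r * exp (2 * Real.pi * I * (c : ℂ) * ((∑ i, e i : ℕ) : ℂ) / n) * conj (A (pts n v') e) := by
  have h : Verlinde.alt n (fun i => c - v' (Fin.rev i)) (fun j => (e j : ℤ)) =
      A (pts n e) (fun i => c - v' (Fin.rev i)) := by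
    rw [Verlinde.alt, A]
    congr 1
    ext i j
    simp only [Matrix.of_apply, pts, pow_eq, ← Complex.exp_nat_mul]
    congr 1
    push_cast
    ring
  have hswap : A (pts n e) v' = A (pts n v') e := by
    rw [A, A, ← Matrix.det_transpose]
    congr 1
    ext i j
    simp [pts, ← pow_mul, mul_comm]
  rw [h, A_compl (pts n e) (normSq_pts n e) v' c hc, hswap]
  congr 2
  simp only [pts, pow_eq, ← Complex.exp_sum, ← Complex.exp_nat_mul]
  congr 1
  push_cast
  simp only [Finset.mul_sum, Finset.sum_div, Finset.sum_mul]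
  exact Finset.sum_congr rfl fun j _ => by ring

/-- Orthogonality over the exponents containing zero. -/
theorem twisted_orth (hr : 2 ≤ r) (v v' : Fin r → ℕ) (hv : StrictAnti v) (hvn : ∀ i, v i < n) (hv' : StrictAnti v')
    (hv'n : ∀ i, v' i < n) (hne : ¬ ∃ a : ℤ, ∀ i, (v i : ℤ) - (v' i : ℤ) = a) :
    ∑ e ∈ Verlinde.Pts r n,
      exp (-(2 * Real.pi * I * ((∑ i, (e i : ℕ) : ℕ) : ℂ) * (((∑ i, v i : ℕ) : ℂ) - ((∑ i, v' i : ℕ) : ℂ)) /
          ((r : ℂ) * n))) *
        A (pts n v) (fun i => (e i : ℕ)) * conj (A (pts n v') fun i => (e i : ℕ)) = 0 := by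
  classical
  have hn : n ≠ 0 := NeZero.ne n
  let c := v' ⟨0, by omega⟩
  have hc : ∀ i, v' i ≤ c := fun i => hv'.antitone (Fin.mk_le_mk.2 (Nat.zero_le _))
  let e' : Fin r → ℕ := fun i => c - v' (Fin.rev i)
  have he' : StrictAnti e' := fun a b hab => by
    have h1 : v' (Fin.rev a) < v' (Fin.rev b) := hv' (Fin.rev_lt_rev.2 hab)
    have h2 := hc (Fin.rev b)
    simp only [e']
    omega
  have he'n : ∀ i, e' i < n := fun i => lt_of_le_of_lt (Nat.sub_le _ _) (hv'n _)
  have hzero : ∑ e ∈ Verlinde.Pts r n, Verlinde.W n v e' (Verlinde.coe' e) = 0 := by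
    by_cases hζ : exp (-(2 * Real.pi * I * (((∑ i, v i) + ∑ i, e' i : ℕ) : ℂ) / (r : ℂ))) = 1
    · refine Verlinde.sum_pts_eq_zero_of_all n (by omega) v e' hζ ?_
      obtain ⟨m, hm⟩ : r ∣ (∑ i, v i) + ∑ i, e' i := by
        rw [Complex.exp_eq_one_iff] at hζ
        obtain ⟨t, ht⟩ := hζ
        have hrC : (r : ℂ) ≠ 0 := Nat.cast_ne_zero.mpr (by omega)
        field_simp at ht
        have h : ((((∑ i, v i) + ∑ i, e' i : ℕ) : ℤ) : ℂ) = (((r : ℤ) * (-t) : ℤ) : ℂ) := by
          push_cast at ht ⊢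
          linear_combination -ht
        exact Int.natCast_dvd_natCast.mp ⟨-t, by exact_mod_cast h⟩
      refine Verlinde.sum_all_eq_zero n hn (by omega) v e' m hm fun σ τ => ?_
      by_contra hall
      push Not at hall
      obtain ⟨M, hM⟩ := Verlinde.no_congruence (n := n) (by omega) v e' hv he' hvn he'n
        ⟨⟨r - 1, by omega⟩, by
          simp only [e', c]
          rw [show Fin.rev (⟨r - 1, by omega⟩ : Fin r) = ⟨0, by omega⟩ from Fin.ext (by simp [Fin.val_rev]; omega),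
            Nat.sub_self]⟩ m hm σ τ hall
      refine hne ⟨(M : ℤ) - c, fun i => ?_⟩
      have h1 := hM i
      simp only [e', Fin.rev_rev] at h1
      have := hc i
      omega
    · exact Verlinde.sum_eq_zero_of_twist n hn hr v e' hζ
  have hsum : ((∑ i, e' i : ℕ) : ℂ) = (r : ℂ) * c - ((∑ i, v' i : ℕ) : ℂ) := by
    have h : (∑ i, e' i) + ∑ i, v' i = r * c := by
      rw [← Equiv.sum_comp (Fin.revPerm : Equiv.Perm (Fin r)) v', ← Finset.sum_add_distrib]
      simp only [Fin.revPerm_apply, e']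
      rw [Finset.sum_congr rfl fun i _ => Nat.sub_add_cancel (hc (Fin.rev i))]
      simp
    rw [eq_sub_iff_add_eq]
    exact_mod_cast h
  have hs : sr r ≠ 0 := fun h => by have := sr_mul_self (r := r); rw [h, mul_zero] at this; exact zero_ne_one this
  have hrC : (r : ℂ) ≠ 0 := Nat.cast_ne_zero.mpr (by omega)
  have hnC : (n : ℂ) ≠ 0 := Nat.cast_ne_zero.mpr hn
  rw [Finset.sum_congr rfl fun e he => show Verlinde.W n v e' (Verlinde.coe' e) = sr r *
      (exp (-(2 * Real.pi * I * ((∑ i, (e i : ℕ) : ℕ) : ℂ) * (((∑ i, v i : ℕ) : ℂ) - ((∑ i, v' i : ℕ) : ℂ)) /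
          ((r : ℂ) * n))) *
        A (pts n v) (fun i => (e i : ℕ)) * conj (A (pts n v') fun i => (e i : ℕ))) from ?_, ← Finset.mul_sum] at hzero
  · exact (mul_eq_zero.mp hzero).resolve_left hs
  · rw [Verlinde.W, show Verlinde.coe' e = fun j => (((e j : ℕ)) : ℤ) from rfl, alt_eq_A, alt_dual n v' c hc,
      Nat.cast_add (∑ i, v i), hsum]
    have hexp : exp (-(2 * Real.pi * I * (((∑ i, v i : ℕ) : ℂ) + ((r : ℂ) * c - ((∑ i, v' i : ℕ) : ℂ))) *
          ((∑ j, (((e j : ℕ)) : ℤ) : ℤ) : ℂ) / ((r : ℂ) * n))) *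
        exp (2 * Real.pi * I * (c : ℂ) * ((∑ i, (e i : ℕ) : ℕ) : ℂ) / n) =
        exp (-(2 * Real.pi * I * ((∑ i, (e i : ℕ) : ℕ) : ℂ) * (((∑ i, v i : ℕ) : ℂ) - ((∑ i, v' i : ℕ) : ℂ)) /
          ((r : ℂ) * n))) := by
      rw [← exp_add]
      congr 1
      push_cast
      field_simp
      ring
    rw [← hexp]
    ring

end Groth.Agent.VerlindeSchur
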