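import Groth.Statements.S18378
import Groth.Agent.VerlindeTwistLib

set_option autoImplicit false
open Complex
open VerlindeComb

namespace Groth.Agent.S18378

/-- Let r, k ≥ 1 be integers and v, v' two integer vectors with r + k > v_1 > ⋯ > v_r ≥ 0 and r + k >
v'_1 > ⋯ > v'_r ≥ 0 whose difference v - v' is not a constant vector (a, …, a). Put z_j = exp(2πi
v_j / (r + k)), z'_j = exp(2πi v'_j / (r + k)), let S_μ(w) = det(w_j^{μ_i + r - i}) / det(w_j^{r -
i}) be the Schur value at w = z or z', and write |x| for the sum of the coordinates of a vector and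
μ* = (k - μ_r, …, k - μ_1). Then the sum over all μ with k ≥ μ_1 ≥ ⋯ ≥ μ_{r-1} ≥ μ_r = 0 of exp(-2πi
|μ| |v| / (r (r + k))) · exp(-2πi |μ*| |v'| / (r (r + k))) · S_μ(z) · S_{μ*}(z') is zero. The
vanishing is the orthogonality of distinct characters and holds exactly for non-equivalent v, v';
for v - v' constant the sum is nonzero. Indices are 0-based below: μ i stands for μ_{i+1}. -/
theorem result (r k : ℕ) (hr : 1 ≤ r)
    (hk : 1 ≤ k) (v v' : Fin r → ℕ) (hv : StrictAnti v) (hvlt : ∀ i, v i < r + k) (hv' : StrictAnti v')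
    (hv'lt : ∀ i, v' i < r + k) (hne : ¬ ∃ a : ℤ, ∀ i, (v i : ℤ) - (v' i : ℤ) = a)
    (z z' : Fin r → ℂ) (hz : ∀ j, z j = Complex.exp (2 * Real.pi * Complex.I * (v j : ℂ) / ((r : ℂ) + k)))
    (hz' : ∀ j, z' j = Complex.exp (2 * Real.pi * Complex.I * (v' j : ℂ) / ((r : ℂ) + k)))
    (S S' : (Fin r → ℕ) → ℂ)
    (hS : ∀ μ : Fin r → ℕ, S μ =
      (Matrix.of fun i j : Fin r => z j ^ (μ i + (r - 1 - (i : ℕ)))).det /
        (Matrix.of fun i j : Fin r => z j ^ (r - 1 - (i : ℕ))).det)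
    (hS' : ∀ μ : Fin r → ℕ, S' μ =
      (Matrix.of fun i j : Fin r => z' j ^ (μ i + (r - 1 - (i : ℕ)))).det /
        (Matrix.of fun i j : Fin r => z' j ^ (r - 1 - (i : ℕ))).det) :
    (∑ μ ∈ (Finset.univ : Finset (Fin r → Fin (k + 1))).filter
        (fun μ : Fin r → Fin (k + 1) => Antitone μ ∧ ∀ i : Fin r, (i : ℕ) = r - 1 → (μ i : ℕ) = 0),
      Complex.exp (-(2 * Real.pi * Complex.I * ((∑ i, (μ i : ℕ) : ℕ) : ℂ) * ((∑ j, v j : ℕ) : ℂ) /
          ((r : ℂ) * ((r : ℂ) + k)))) *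
      Complex.exp (-(2 * Real.pi * Complex.I * ((∑ i, (k - (μ (Fin.rev i) : ℕ)) : ℕ) : ℂ) *
          ((∑ j, v' j : ℕ) : ℂ) / ((r : ℂ) * ((r : ℂ) + k)))) *
      S (fun i => (μ i : ℕ)) * S' (fun i => k - (μ (Fin.rev i) : ℕ))) = 0 := by
  rcases Nat.lt_or_ge r 2 with hr1 | hr2
  · refine absurd ⟨(v ⟨0, by omega⟩ : ℤ) - v' ⟨0, by omega⟩, fun i => ?_⟩ hne
    obtain rfl : i = ⟨0, by omega⟩ := Fin.ext (by have := i.is_lt; simp only; omega)
    rfl
  classical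
  haveI : NeZero (r + k) := ⟨by omega⟩
  have hcast : ((r : ℂ) + k) = ((r + k : ℕ) : ℂ) := by push_cast; rfl
  have hzv : z = VerlindeSchur.pts (r + k) v :=
    funext fun j => VerlindeSchur.exp_eq_pts (r + k) v j _ (by rw [hz j, hcast])
  have hzv' : z' = VerlindeSchur.pts (r + k) v' :=
    funext fun j => VerlindeSchur.exp_eq_pts (r + k) v' j _ (by rw [hz' j, hcast])
  have hrC : (r : ℂ) ≠ 0 := Nat.cast_ne_zero.mpr (by omega)
  have hnC : (r : ℂ) + k ≠ 0 := by rw [hcast]; exact Nat.cast_ne_zero.mpr (by omega)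
  let R : ℕ := ∑ i : Fin r, (r - 1 - (i : ℕ))
  let C : ℂ := Complex.exp (2 * Real.pi * Complex.I * ((R : ℂ) * (((∑ i, v i : ℕ) : ℂ) - ((∑ i, v' i : ℕ) : ℂ)) -
      (r : ℂ) * k * ((∑ i, v' i : ℕ) : ℂ)) / ((r : ℂ) * ((r : ℂ) + k))) *
    VerlindeSchur.sr r * (∏ j, z' j) ^ (k + (r - 1)) /
    ((Matrix.of fun i j : Fin r => z j ^ (r - 1 - (i : ℕ))).det * (Matrix.of fun i j : Fin r => z' j ^ (r - 1 - (i : ℕ))).det)
  have key := VerlindeSchur.twisted_orth (r + k) hr2 v v' hv hvlt hv' hv'lt hne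
  rw [← mul_zero C, ← key, Finset.mul_sum]
  refine Finset.sum_nbij'
    (fun μ i => ⟨(μ i : ℕ) + (r - 1 - (i : ℕ)), by have := (μ i).is_lt; omega⟩)
    (fun e i => ⟨((e i : ℕ) - (r - 1 - (i : ℕ))) % (k + 1), Nat.mod_lt _ (Nat.succ_pos k)⟩) ?_ ?_ ?_ ?_ ?_
  · intro μ hμ
    simp only [Finset.mem_coe, Finset.mem_filter, Finset.mem_univ, true_and] at hμ ⊢
    obtain ⟨ha, h0⟩ := hμ
    refine ⟨fun a b hab => ?_, fun i hi => ?_⟩
    · have h1 : (μ b : ℕ) ≤ μ a := ha hab.le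
      have h2 : (a : ℕ) < b := hab
      simp only [Fin.mk_lt_mk]
      omega
    · show (μ i : ℕ) + (r - 1 - (i : ℕ)) = 0
      have := h0 i hi
      omega
  · intro e he
    simp only [Finset.mem_coe, Finset.mem_filter, Finset.mem_univ, true_and] at he ⊢
    obtain ⟨hs, hlast⟩ := he
    have hgap := fun (i j : Fin r) (h : i ≤ j) =>
      VerlindeSchur.strictAnti_gap (e := fun i => (e i : ℕ)) (fun x y hxy => hs hxy) h
    have hbd : ∀ a : Fin r, r - 1 - (a : ℕ) ≤ (e a : ℕ) ∧ (e a : ℕ) - (r - 1 - (a : ℕ)) < k + 1 := fun a => by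
      have g2 := hgap ⟨0, by omega⟩ a (Fin.mk_le_mk.2 (by omega))
      have g3 := hgap a ⟨r - 1, by omega⟩ (Fin.le_def.2 (by have := a.is_lt; simp; omega))
      have := (e ⟨0, by omega⟩).is_lt
      have := a.is_lt
      simp only at g2 g3
      omega
    refine ⟨fun a b hab => ?_, fun i hi => ?_⟩
    · simp only [Fin.mk_le_mk]
      have g1 := hgap a b hab
      have h1 := hbd a
      have h2 := hbd b
      have : (a : ℕ) ≤ b := hab
      show ((e b : ℕ) - (r - 1 - (b : ℕ))) % (k + 1) ≤ ((e a : ℕ) - (r - 1 - (a : ℕ))) % (k + 1)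
      rw [Nat.mod_eq_of_lt h1.2, Nat.mod_eq_of_lt h2.2]
      omega
    · have := hlast i hi
      show ((e i : ℕ) - (r - 1 - (i : ℕ))) % (k + 1) = 0
      rw [this, Nat.zero_sub, Nat.zero_mod]
  · intro μ _
    funext i
    apply Fin.ext
    simp only [Nat.add_sub_cancel]
    exact Nat.mod_eq_of_lt (μ i).is_lt
  · intro e he
    simp only [Finset.mem_coe, Finset.mem_filter, Finset.mem_univ, true_and] at he
    obtain ⟨hs, hlast⟩ := he
    funext i
    apply Fin.ext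
    have hgap := fun (i j : Fin r) (h : i ≤ j) =>
      VerlindeSchur.strictAnti_gap (e := fun i => (e i : ℕ)) (fun x y hxy => hs hxy) h
    have g2 := hgap ⟨0, by omega⟩ i (Fin.mk_le_mk.2 (by omega))
    have g3 := hgap i ⟨r - 1, by omega⟩ (Fin.le_def.2 (by have := i.is_lt; simp; omega))
    have := (e ⟨0, by omega⟩).is_lt
    simp only at g2 g3 ⊢
    rw [Nat.mod_eq_of_lt (by omega)]
    omega
  · intro μ _
    have hdual : VerlindeSchur.A z' (fun i => (k - (μ (Fin.rev i) : ℕ)) + (r - 1 - (i : ℕ))) =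
        VerlindeSchur.sr r * (∏ j, z' j) ^ (k + (r - 1)) *
          (starRingEnd ℂ) (VerlindeSchur.A z' fun i => (μ i : ℕ) + (r - 1 - (i : ℕ))) := by
      rw [hzv', ← VerlindeSchur.A_compl _ (VerlindeSchur.normSq_pts _ v') (fun i => (μ i : ℕ) + (r - 1 - (i : ℕ)))
        (k + (r - 1)) (fun i => by have := (μ i).is_lt; omega)]
      congr 1
      funext i
      have := (μ (Fin.rev i)).is_lt
      simp only [Fin.val_rev]
      omega
    have hsum : ((∑ i, (k - (μ (Fin.rev i) : ℕ)) : ℕ) : ℂ) = (r : ℂ) * k - ((∑ i, (μ i : ℕ) : ℕ) : ℂ) := by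
      have h : (∑ i, (k - (μ (Fin.rev i) : ℕ))) + ∑ i, (μ i : ℕ) = r * k := by
        rw [← Equiv.sum_comp (Fin.revPerm : Equiv.Perm (Fin r)) (fun i => (μ i : ℕ)), ← Finset.sum_add_distrib]
        simp only [Fin.revPerm_apply]
        rw [Finset.sum_congr rfl fun i _ => Nat.sub_add_cancel (Nat.lt_succ_iff.mp (μ (Fin.rev i)).is_lt)]
        simp
      rw [eq_sub_iff_add_eq]
      exact_mod_cast h
    have hexp : Complex.exp (-(2 * Real.pi * Complex.I * ((∑ i, (μ i : ℕ) : ℕ) : ℂ) * ((∑ j, v j : ℕ) : ℂ) /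
          ((r : ℂ) * ((r : ℂ) + k)))) *
        Complex.exp (-(2 * Real.pi * Complex.I * ((∑ i, (k - (μ (Fin.rev i) : ℕ)) : ℕ) : ℂ) *
          ((∑ j, v' j : ℕ) : ℂ) / ((r : ℂ) * ((r : ℂ) + k)))) =
        Complex.exp (2 * Real.pi * Complex.I * ((R : ℂ) * (((∑ i, v i : ℕ) : ℂ) - ((∑ i, v' i : ℕ) : ℂ)) -
          (r : ℂ) * k * ((∑ i, v' i : ℕ) : ℂ)) / ((r : ℂ) * ((r : ℂ) + k))) *
        Complex.exp (-(2 * Real.pi * Complex.I * ((∑ i, ((μ i : ℕ) + (r - 1 - (i : ℕ))) : ℕ) : ℂ) *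
          (((∑ i, v i : ℕ) : ℂ) - ((∑ i, v' i : ℕ) : ℂ)) / ((r : ℂ) * ((r + k : ℕ) : ℂ)))) := by
      rw [← Complex.exp_add, ← Complex.exp_add, hsum, Finset.sum_add_distrib, Nat.cast_add (∑ i : Fin r, (μ i : ℕ)), ← hcast]
      congr 1
      simp only [R]
      ring
    rw [hS, hS', hexp]
    simp only [C]
    rw [← hzv, ← hzv']
    change _ * (VerlindeSchur.A z _ / _) * (VerlindeSchur.A z' _ / _) = _
    rw [hdual]
    ring

end Groth.Agent.S18378
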