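import Mathlib.Analysis.SpecialFunctions.Complex.Circle
import Mathlib.RingTheory.RootsOfUnity.Complex
import Mathlib.LinearAlgebra.Vandermonde
import Mathlib.Data.Fin.Tuple.Sort
import Mathlib.Algebra.Field.GeomSum
import Mathlib.Tactic.LinearCombination

/-! The sine-product sum `∑ ∏ (2 sin)^2` over strictly decreasing tuples. -/

set_option autoImplicit false

open scoped ComplexConjugate
open Matrix Finset

namespace Groth.Agent.VerlindeSine

variable (n r : ℕ) (f : Fin r → ℕ)

/-- The root of unity. -/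
noncomputable def ζ : ℂ := Complex.exp (2 * Real.pi * Complex.I / n)

/-- The matrix of powers. -/
noncomputable def M (w : Fin r → Fin n) : Matrix (Fin r) (Fin r) ℂ :=
  Matrix.of fun i j => ζ n ^ ((w i : ℕ) * f j)

/-- The weight. -/
noncomputable def g (w : Fin r → Fin n) : ℝ := Complex.normSq (M n r f w).det

theorem g_eq_zero (w : Fin r → Fin n) (hw : ¬ Function.Injective w) : g n r f w = 0 := by
  simp only [Function.Injective, not_forall] at hw
  obtain ⟨a, b, hab, hne⟩ := hw
  rw [g, Matrix.det_zero_of_row_eq hne (by ext j; simp [M, hab]), map_zero]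

theorem g_comp_perm (w : Fin r → Fin n) (σ : Equiv.Perm (Fin r)) : g n r f (w ∘ σ) = g n r f w := by
  have h : M n r f (w ∘ σ) = (M n r f w).submatrix σ id := rfl
  rw [g, g, h, Matrix.det_permute, Complex.normSq_mul]
  rcases Int.units_eq_one_or (Equiv.Perm.sign σ) with h' | h' <;> simp [h']

variable [NeZero n]

theorem primitive : IsPrimitiveRoot (ζ n) n := Complex.isPrimitiveRoot_exp n (NeZero.ne n)

theorem ζ_ne_zero : ζ n ≠ 0 := Complex.exp_ne_zero _

theorem ζ_eq : ζ n = Complex.exp (((2 * Real.pi / n : ℝ) : ℂ) * Complex.I) := by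
  rw [ζ]; congr 1; push_cast; ring

theorem pow_eq (a : ℕ) : ζ n ^ a = Complex.exp (((2 * Real.pi / n * a : ℝ) : ℂ) * Complex.I) := by
  rw [ζ_eq, ← Complex.exp_nat_mul]; congr 1; push_cast; ring

theorem normSq_sub (a b : ℕ) :
    Complex.normSq (ζ n ^ a - ζ n ^ b) = (2 * Real.sin (Real.pi * ((a : ℝ) - b) / n)) ^ 2 := by
  rw [pow_eq, pow_eq, Complex.normSq_apply, Complex.sub_re, Complex.sub_im, Complex.exp_ofReal_mul_I_re,
    Complex.exp_ofReal_mul_I_re, Complex.exp_ofReal_mul_I_im, Complex.exp_ofReal_mul_I_im, mul_pow,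
    Real.sin_sq_eq_half_sub,
    show 2 * (Real.pi * ((a : ℝ) - b) / n) = 2 * Real.pi / n * a - 2 * Real.pi / n * b by ring, Real.cos_sub]
  linear_combination Real.sin_sq_add_cos_sq (2 * Real.pi / n * a) + Real.sin_sq_add_cos_sq (2 * Real.pi / n * b)

theorem normSq_pow (a : ℕ) : Complex.normSq (ζ n ^ a) = 1 := by
  rw [pow_eq, Complex.normSq_apply, Complex.exp_ofReal_mul_I_re, Complex.exp_ofReal_mul_I_im]
  linear_combination Real.sin_sq_add_cos_sq (2 * Real.pi / n * a)

theorem g_eq_prod (w : Fin r → Fin n) :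
    g n r (fun j => (j : ℕ)) w = ∏ p ∈ (univ : Finset (Fin r × Fin r)).filter (fun p => p.1 < p.2),
      (2 * Real.sin (Real.pi * ((w p.1 : ℕ) - (w p.2 : ℕ) : ℝ) / n)) ^ 2 := by
  have hM : M n r (fun j => (j : ℕ)) w = Matrix.vandermonde fun i => ζ n ^ (w i : ℕ) := by
    ext i j; simp [M, Matrix.vandermonde, pow_mul]
  rw [g, hM, Matrix.det_vandermonde, map_prod, Finset.prod_filter, Fintype.prod_prod_type]
  refine Finset.prod_congr rfl fun i _ => ?_
  rw [map_prod, ← Finset.prod_filter, show (univ : Finset (Fin r)).filter (fun j => i < j) = Finset.Ioi i by ext; simp]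
  refine Finset.prod_congr rfl fun j _ => ?_
  rw [normSq_sub, mul_pow, mul_pow, ← neg_sub ((w j : ℕ) : ℝ), mul_neg, neg_div, Real.sin_neg, neg_sq]

theorem orth (s t : ℕ) (hs : s < n) (ht : t < n) :
    ∑ a : Fin n, ζ n ^ ((a : ℕ) * s) * conj (ζ n ^ ((a : ℕ) * t)) = if s = t then (n : ℂ) else 0 := by
  have hinv : ∀ m : ℕ, conj (ζ n ^ m) = (ζ n ^ m)⁻¹ := fun m => by
    rw [Complex.inv_def, normSq_pow]; simp
  simp only [hinv]
  split_ifs with h
  · subst h
    have : ∀ a : Fin n, ζ n ^ ((a : ℕ) * s) * (ζ n ^ ((a : ℕ) * s))⁻¹ = 1 := fun a =>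
      mul_inv_cancel₀ (pow_ne_zero _ (ζ_ne_zero n))
    simp [this]
  · have hterm : ∀ a : Fin n, ζ n ^ ((a : ℕ) * s) * (ζ n ^ ((a : ℕ) * t))⁻¹ = (ζ n ^ s * (ζ n ^ t)⁻¹) ^ (a : ℕ) :=
      fun a => by rw [mul_pow, inv_pow, ← pow_mul, ← pow_mul, mul_comm s, mul_comm t]
    simp only [hterm]
    rw [Fin.sum_univ_eq_sum_range (fun a => (ζ n ^ s * (ζ n ^ t)⁻¹) ^ a) n, geom_sum_eq]
    · rw [mul_pow, inv_pow, ← pow_mul, ← pow_mul, mul_comm s, mul_comm t, pow_mul, pow_mul, (primitive n).pow_eq_one,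
        one_pow, one_pow, inv_one, one_mul, sub_self, zero_div]
    · intro hρ
      rw [← div_eq_mul_inv, div_eq_one_iff_eq (pow_ne_zero _ (ζ_ne_zero n))] at hρ
      exact h ((primitive n).pow_inj hs ht hρ)

theorem sum_all (hf : Function.Injective f) (hfn : ∀ i, f i < n) : ∑ w : Fin r → Fin n, g n r f w = r.factorial * (n : ℝ) ^ r := by
  apply Complex.ofReal_injective
  rw [Complex.ofReal_sum]
  simp only [g, ← Complex.mul_conj, Complex.ofReal_mul, Complex.ofReal_natCast, Complex.ofReal_pow]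
  let e : Equiv.Perm (Fin r) → ℂ := fun σ => ((Equiv.Perm.sign σ : ℤ) : ℂ)
  have hdet : ∀ w : Fin r → Fin n, (M n r f w).det = ∑ σ : Equiv.Perm (Fin r), e σ * ∏ i, ζ n ^ ((w i : ℕ) * f (σ i)) := fun w => by
    rw [← Matrix.det_transpose, Matrix.det_apply']
    rfl
  simp only [hdet, map_sum, Finset.sum_mul_sum]
  rw [Finset.sum_comm]
  have inner : ∀ σ τ : Equiv.Perm (Fin r), ∑ w : Fin r → Fin n, (e σ * ∏ i, ζ n ^ ((w i : ℕ) * f (σ i))) *
      conj (e τ * ∏ i, ζ n ^ ((w i : ℕ) * f (τ i))) = if σ = τ then (n : ℂ) ^ r else 0 := by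
    intro σ τ
    have : ∀ w : Fin r → Fin n, (e σ * ∏ i, ζ n ^ ((w i : ℕ) * f (σ i))) *
        conj (e τ * ∏ i, ζ n ^ ((w i : ℕ) * f (τ i))) =
        (e σ * e τ) * ∏ i, ζ n ^ ((w i : ℕ) * f (σ i)) * conj (ζ n ^ ((w i : ℕ) * f (τ i))) := fun w => by
      rw [map_mul, map_prod, Finset.prod_mul_distrib, show conj (e τ) = e τ from map_intCast conj _]
      ring
    simp only [this, ← Finset.mul_sum]
    rw [← Fintype.prod_sum (fun i (a : Fin n) => ζ n ^ ((a : ℕ) * f (σ i)) * conj (ζ n ^ ((a : ℕ) * f (τ i))))]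
    simp only [orth n _ _ (hfn _) (hfn _)]
    split_ifs with h
    · subst h
      have he : e σ * e σ = 1 := by rcases Int.units_eq_one_or (Equiv.Perm.sign σ) with h' | h' <;> simp [e, h']
      simp [he]
    · obtain ⟨i, hi⟩ := not_forall.1 fun h' => h (Equiv.ext h')
      rw [Finset.prod_eq_zero (Finset.mem_univ i) (if_neg fun h' => hi (hf h')), mul_zero]
  rw [Finset.sum_congr rfl fun σ _ => (Finset.sum_comm.trans (Finset.sum_congr rfl fun τ _ => inner σ τ))]
  simp [Fintype.card_perm]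

theorem g_add (w : Fin r → Fin n) (c : Fin n) : g n r f (fun i => w i + c) = g n r f w := by
  have h : M n r f (fun i => w i + c) = Matrix.of fun (a b : Fin r) => ζ n ^ ((c : ℕ) * f b) * M n r f w a b := by
    ext i j
    have hp : ζ n ^ (((w i + c : Fin n) : ℕ)) = ζ n ^ (c : ℕ) * ζ n ^ (w i : ℕ) := by
      rw [← pow_add, add_comm (c : ℕ), Fin.val_add, ← pow_eq_pow_mod _ (primitive n).pow_eq_one]
    simp [M, pow_mul, hp, mul_pow]
  rw [g, g, h, Matrix.det_mul_row, Complex.normSq_mul, map_prod, Finset.prod_eq_one (fun j _ => normSq_pow n _), one_mul]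

theorem sum_fixed (hf : Function.Injective f) (hfn : ∀ i, f i < n) (i : Fin r) :
    (n : ℝ) * ∑ w ∈ (univ : Finset (Fin r → Fin n)).filter (fun w => w i = 0), g n r f w = r.factorial * (n : ℝ) ^ r := by
  rw [← sum_all n r f hf hfn, ← Finset.sum_fiberwise univ (fun w : Fin r → Fin n => w i) (fun w => g n r f w)]
  have hc : ∀ c : Fin n, ∑ w ∈ (univ : Finset (Fin r → Fin n)).filter (fun w => w i = c), g n r f w =
      ∑ w ∈ (univ : Finset (Fin r → Fin n)).filter (fun w => w i = 0), g n r f w := fun c => by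
    refine (Finset.sum_nbij' (fun w j => w j + c) (fun w j => w j + -c) ?_ ?_ ?_ ?_ ?_).symm
    · intro w hw; simp_all
    · intro w hw; simp_all
    · intro w _; simp [add_assoc]
    · intro w _; simp [add_assoc]
    · intro w _; exact (g_add n r f w c).symm
  rw [Finset.sum_congr rfl fun c _ => hc c]
  simp

theorem sum_perm (Q : (Fin r → Fin n) → Prop) [DecidablePred Q]
    (hQ : ∀ (w : Fin r → Fin n) (σ : Equiv.Perm (Fin r)), Q (w ∘ σ) ↔ Q w) :
    (r.factorial : ℝ) * ∑ v ∈ (univ : Finset (Fin r → Fin n)).filter (fun v => StrictAnti v ∧ Q v), g n r f v =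
      ∑ w ∈ (univ : Finset (Fin r → Fin n)).filter (fun w => Function.Injective w ∧ Q w), g n r f w := by
  classical
  set V := (univ : Finset (Fin r → Fin n)).filter (fun v => StrictAnti v ∧ Q v) with hV
  set W := (univ : Finset (Fin r → Fin n)).filter (fun w => Function.Injective w ∧ Q w) with hW
  have : ∑ x ∈ V ×ˢ (univ : Finset (Equiv.Perm (Fin r))), g n r f (x.1 ∘ x.2) = ∑ w ∈ W, g n r f w := by
    refine Finset.sum_bij (fun x _ => x.1 ∘ x.2) ?_ ?_ ?_ (fun _ _ => rfl)
    · rintro ⟨v, σ⟩ hx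
      simp only [hV, Finset.mem_product, Finset.mem_filter, Finset.mem_univ, true_and, and_true] at hx
      simp only [hW, Finset.mem_filter, Finset.mem_univ, true_and]
      exact ⟨hx.1.injective.comp σ.injective, (hQ v σ).mpr hx.2⟩
    · rintro ⟨v, σ⟩ hx ⟨v', σ'⟩ hx' h
      simp only [hV, Finset.mem_product, Finset.mem_filter, Finset.mem_univ, true_and, and_true] at hx hx'
      simp only at h
      have hrange : Set.range (v ∘ Fin.rev) = Set.range (v' ∘ Fin.rev) := by
        have h' := congrArg Set.range h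
        rw [Set.range_comp, Set.range_comp, Equiv.range_eq_univ, Equiv.range_eq_univ, Set.image_univ, Set.image_univ] at h'
        rwa [Set.range_comp, Set.range_comp, Fin.rev_surjective.range_eq, Set.image_univ, Set.image_univ]
      have hvv : v = v' := by
        have := (StrictMono.range_inj (hx.1.comp Fin.rev_strictAnti) (hx'.1.comp Fin.rev_strictAnti)).1 hrange
        funext i
        simpa using congrFun this (Fin.rev i)
      subst hvv
      exact Prod.ext rfl (Equiv.ext fun i => hx.1.injective (congrFun h i))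
    · intro w hw
      simp only [hW, Finset.mem_filter, Finset.mem_univ, true_and] at hw
      obtain ⟨hinj, hq⟩ := hw
      have hmono : StrictMono (w ∘ Tuple.sort w) :=
        (Tuple.monotone_sort w).strictMono_of_injective (hinj.comp (Tuple.sort w).injective)
      refine ⟨(w ∘ Tuple.sort w ∘ Fin.rev, ((Tuple.sort w).symm.trans Fin.revPerm)), ?_, ?_⟩
      · simp only [hV, Finset.mem_product, Finset.mem_filter, Finset.mem_univ, true_and, and_true]
        exact ⟨hmono.comp_strictAnti Fin.rev_strictAnti, (hQ w (Fin.revPerm.trans (Tuple.sort w))).mpr hq⟩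
      · funext j; simp
  rw [← this, Finset.sum_product, Finset.mul_sum]
  refine Finset.sum_congr rfl fun v _ => ?_
  simp only [g_comp_perm]
  simp [Fintype.card_perm]

theorem sum_strictAnti (hf : Function.Injective f) (hfn : ∀ i, f i < n) :
    ∑ v ∈ (univ : Finset (Fin r → Fin n)).filter (fun v : Fin r → Fin n => StrictAnti v), g n r f v = (n : ℝ) ^ r := by
  classical
  have h := sum_perm n r f (fun _ => True) (fun _ _ => Iff.rfl)
  simp only [and_true] at h
  have h2 : ∑ w ∈ (univ : Finset (Fin r → Fin n)).filter (fun w => Function.Injective w), g n r f w =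
      ∑ w, g n r f w :=
    Finset.sum_subset (Finset.subset_univ _) (fun w _ hw => g_eq_zero n r f w fun hi => hw (by simp [hi]))
  rw [h2, sum_all n r f hf hfn] at h
  exact mul_left_cancel₀ (Nat.cast_ne_zero.2 r.factorial_ne_zero) h

theorem sum_antitone (hr : 1 ≤ r) (hf : Function.Injective f) (hfn : ∀ i, f i < n) :
    ∑ v ∈ (univ : Finset (Fin r → Fin n)).filter
        (fun v : Fin r → Fin n => StrictAnti v ∧ ∀ i : Fin r, (i : ℕ) = r - 1 → (v i : ℕ) = 0), g n r f v =
      (r : ℝ) * (n : ℝ) ^ (r - 1) := by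
  classical
  set V := (univ : Finset (Fin r → Fin n)).filter
    (fun v : Fin r → Fin n => StrictAnti v ∧ ∀ i : Fin r, (i : ℕ) = r - 1 → (v i : ℕ) = 0) with hV
  let W := (univ : Finset (Fin r → Fin n)).filter (fun w => Function.Injective w ∧ ∃ i, w i = 0)
  have hzero : ∀ v : Fin r → Fin n, StrictAnti v →
      ((∀ i : Fin r, (i : ℕ) = r - 1 → (v i : ℕ) = 0) ↔ ∃ i, v i = 0) := fun v hv => by
    refine ⟨fun h => ⟨⟨r - 1, by omega⟩, Fin.ext (by rw [h _ rfl, Fin.val_zero])⟩, fun ⟨i, hi⟩ j hj => ?_⟩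
    have hij : i ≤ j := Fin.mk_le_mk.2 (by rw [hj]; have := i.is_lt; omega)
    have hle := hv.antitone hij
    rw [hi] at hle
    exact Nat.le_zero.1 hle
  have h1 : (r.factorial : ℝ) * ∑ v ∈ V, g n r f v = ∑ w ∈ W, g n r f w := by
    rw [hV, Finset.filter_congr (q := fun v => StrictAnti v ∧ ∃ i, v i = 0) fun v _ =>
      and_congr_right fun hv => hzero v hv]
    exact sum_perm n r f (fun w => ∃ i, w i = 0) fun w σ => by
      constructor
      · rintro ⟨i, hi⟩; exact ⟨σ i, hi⟩
      · rintro ⟨i, hi⟩; exact ⟨σ.symm i, by simp [hi]⟩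
  have h2 : ∑ w ∈ W, g n r f w = ∑ i : Fin r, ∑ w ∈ (univ : Finset (Fin r → Fin n)).filter (fun w => w i = 0), g n r f w := by
    simp only [W, Finset.sum_filter]
    rw [Finset.sum_comm]
    refine Finset.sum_congr rfl fun w _ => ?_
    by_cases hw : Function.Injective w
    · by_cases he : ∃ i, w i = 0
      · obtain ⟨i, hi⟩ := he
        rw [if_pos ⟨hw, i, hi⟩, Finset.sum_eq_single i (fun j _ hj => if_neg fun h => hj (hw (h.trans hi.symm)))
          (fun h => absurd (Finset.mem_univ i) h), if_pos hi]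
      · rw [if_neg fun h => he h.2, Finset.sum_eq_zero fun j _ => if_neg fun h => he ⟨j, h⟩]
    · rw [g_eq_zero n r f w hw]; simp
  have h3 : (n : ℝ) * ((r.factorial : ℝ) * ∑ v ∈ V, g n r f v) = r * (r.factorial * (n : ℝ) ^ r) := by
    rw [h1, h2, Finset.mul_sum, Finset.sum_congr rfl fun i _ => sum_fixed n r f hf hfn i]
    simp
  have hn : (n : ℝ) * r.factorial ≠ 0 := mul_ne_zero (Nat.cast_ne_zero.2 (NeZero.ne n)) (Nat.cast_ne_zero.2 r.factorial_ne_zero)
  apply mul_left_cancel₀ hn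
  rw [show (n : ℝ) ^ r = n ^ (r - 1) * n by rw [← pow_succ, Nat.sub_add_cancel hr]] at h3
  linear_combination h3

end Groth.Agent.VerlindeSine
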