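import Groth.Statements.S18380
import Groth.Agent.W7Slope.Twist
import Groth.Agent.S8914
import Groth.Agent.QC.IdealMod
import Groth.Agent.Chow.Core
import Groth.Agent.CurveRR.Deg

set_option autoImplicit false
universe u
open Divisors

set_option backward.isDefEq.respectTransparency false
set_option backward.isDefEq.respectTransparency.types false

open Groth.Agent CategoryTheory.Limits

namespace Groth.Agent.S18380

open CategoryTheory AlgebraicGeometry in
/-- Let k be an algebraically closed field of characteristic 0 and M a scheme, smooth and projective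
over k. Let D₁ and D₂ be effective Cartier divisors on M, given by invertible ideal sheaves with
I_{D₂} ⊆ I_{D₁} (so D₁ is a closed subscheme of D₂). If I_{D₁} and I_{D₂} are isomorphic as
O_M-modules, that is D₁ and D₂ are linearly equivalent, then D₁ = D₂. The published statement is an
equivalence, for effective divisors on a smooth proper Deligne–Mumford stack with equal divisor
classes; its proof reduces to a smooth projective scheme, the case stated here, and the other
direction is immediate. -/
theorem result (k : Type u) [Field k] [IsAlgClosed k] [CharZero k]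
    (M : Scheme.{u}) (f : M ⟶ Spec (CommRingCat.of k)) [Smooth f]
    (hproj : Neron.IsProjectiveOver k (Over.mk f))
    (D₁ D₂ : M.IdealSheafData) (h₁ : BlowUp.IsEffCartierIdeal D₁) (h₂ : BlowUp.IsEffCartierIdeal D₂)
    (hle : D₂ ≤ D₁) (hiso : Nonempty (ClSub.idealMod D₁ ≅ ClSub.idealMod D₂)) :
    D₁ = D₂ := by
  obtain ⟨n, i, hi, hfac⟩ := hproj
  haveI := Chow.isProper_toBase n (Spec (CommRingCat.of k))
  haveI : IsProper f := by rw [← show i ≫ CohB1.ProjSpaceOver.toBase n _ = f from hfac]; infer_instance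
  letI : M.Over (Spec (CommRingCat.of k)) := ⟨f⟩
  haveI : IsProper (M ↘ Spec (CommRingCat.of k)) := ‹IsProper f›
  obtain ⟨e⟩ := hiso
  have hI : PicF.IsInvertible (ClSub.idealMod D₂) := (Groth.Agent.S8914.result D₂).mpr h₂
  have hw : ClSub.idealModι D₂ ≫ ClSub.toSubscheme D₁ = 0 := by
    refine Scheme.Modules.hom_ext _ _ fun U => ?_
    ext t
    refine QC.section_eq_of_locally fun x hx => ?_
    obtain ⟨W, hW, hxW, hWU⟩ := exists_isAffineOpen_mem_and_subset hx
    refine ⟨W, hWU, hxW, ?_⟩
    rw [QC.app_res]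
    show (ClSub.toSubscheme D₁).app W ((ClSub.idealModι D₂).app W (QC.res _ hWU t)) = QC.res _ hWU 0
    rw [map_zero]
    have h := hle ⟨W, hW⟩ ((QC.mem_range_idealModι_affine D₂ ⟨W, hW⟩ _).mp ⟨QC.res _ hWU t, rfl⟩)
    obtain ⟨a, ha⟩ := (QC.mem_range_idealModι_affine D₁ ⟨W, hW⟩ _).mpr h
    exact (QC.mem_range_kernel_app (ClSub.toSubscheme D₁) W _).mp ⟨a, ha⟩
  let j : ClSub.idealMod D₂ ⟶ ClSub.idealMod D₁ := kernel.lift _ (ClSub.idealModι D₂) hw
  have hj : j ≫ ClSub.idealModι D₁ = ClSub.idealModι D₂ := kernel.lift_ι _ _ hw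
  haveI : Mono (ClSub.idealModι D₂) := inferInstanceAs (Mono (kernel.ι _))
  haveI : Mono j := mono_of_mono_fac hj
  haveI : IsIso (j ≫ e.hom) := by
    obtain ⟨L', hL', ⟨ε⟩⟩ := W7Hull.exists_tensor_inverse hI
    let a := j ≫ e.hom
    haveI : Mono a := mono_comp _ _
    haveI := W7Slope.mono_tmap hL' a
    let b : Coh.structureModule M ⟶ Coh.structureModule M := ε.inv ≫ CohFinite.tmap a L' ≫ ε.hom
    haveI : Mono b := mono_comp _ _
    haveI : Module.Finite k (Coh.HH M (Coh.structureModule M) 0) :=
      CohFinite.finite_proper k M _ (CurveRR.isCoh_of_inv (fun x => TMul.isInvertible_structureModule x)) 0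
    letI : Algebra k Γ(M, ⊤) := (Coh.toGlobal f).toAlgebra
    haveI : Module.Finite k Γ(M, ⊤) := by
      letI := CurveRR.secMod k (Coh.structureModule M) ⊤
      haveI : Module.Finite k Γ(Coh.structureModule M, ⊤) := Module.Finite.equiv (CurveRR.secH0 (k := k) _).symm
      let l : Γ(Coh.structureModule M, ⊤) →ₗ[k] Γ(M, ⊤) :=
        { toFun := fun x => x
          map_add' := fun _ _ => rfl
          map_smul' := fun r x => by
            show CurveRR.cst k M ⊤ r * (show Γ(M, ⊤) from x) = (show Γ(M, ⊤) from Coh.toGlobal f r) * (show Γ(M, ⊤) from x)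
            rw [show CurveRR.cst k M ⊤ r = Coh.toGlobal (M ↘ Spec (CommRingCat.of k)) r from QC.resO_self _ _]
            rfl }
      exact Module.Finite.of_surjective l fun x => ⟨x, rfl⟩
    haveI : IsArtinianRing Γ(M, ⊤) := IsArtinianRing.of_finite k _
    let c : Γ(M, ⊤) := TMul.val b ⊤
    have hmul : ∀ (W : M.Opens) (x : Γ(M, W)), b.app W x = x * QC.resO M (le_top : W ≤ ⊤) c := fun W x => by
      rw [TMul.app_eq_smul, ← TMul.res_val b (le_top : W ≤ ⊤)]
      rfl
    have hreg : c ∈ nonZeroDivisors Γ(M, ⊤) := mem_nonZeroDivisors_iff_right.mpr fun x hx => by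
      refine QC.app_injective_of_mono b ⊤ ?_
      rw [map_zero, hmul, QC.resO_self]
      exact hx
    have hc : IsUnit c := IsArtinianRing.isUnit_of_mem_nonZeroDivisors hreg
    haveI : IsIso b := RelTilde.isIso_of_bijective_near b fun x => ⟨⊤, trivial, fun V hV => by
      have hu : IsUnit (QC.resO M (le_top : V ≤ ⊤) c) := hc.map _
      have : (b.app V : Γ(M, V) → Γ(M, V)) = fun x => x * QC.resO M (le_top : V ≤ ⊤) c := funext (hmul V)
      show Function.Bijective (b.app V : Γ(M, V) → Γ(M, V))
      rw [this]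
      exact (IsUnit.isUnit_iff_mulRight_bijective (M := Γ(M, V))).mp hu⟩
    haveI : IsIso (CohFinite.tmap a L') := by
      have : CohFinite.tmap a L' = ε.hom ≫ b ≫ ε.inv := by simp [b]
      rw [this]; infer_instance
    haveI : IsIso (CohFinite.tmap (CohFinite.tmap a L') (ClSub.idealMod D₂)) :=
      ⟨CohFinite.tmap (inv (CohFinite.tmap a L')) _, by rw [← CohFinite.tmap_comp, IsIso.hom_inv_id, CohFinite.tmap_id],
        by rw [← CohFinite.tmap_comp, IsIso.inv_hom_id, CohFinite.tmap_id]⟩
    let ε' := TMul.commIso L' (ClSub.idealMod D₂) ≪≫ ε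
    have hn := W7Slope.untw_natural ε' a
    show IsIso a
    rw [show a = (W7Slope.untw ε' _).inv ≫ CohFinite.tmap (CohFinite.tmap a L') (ClSub.idealMod D₂) ≫
      (W7Slope.untw ε' _).hom by rw [hn, Iso.inv_hom_id_assoc]]
    infer_instance
  haveI : IsIso j := IsIso.of_isIso_comp_right j e.hom
  refine le_antisymm ?_ hle
  intro W t ht
  obtain ⟨u, rfl⟩ := (QC.mem_range_idealModι_affine D₁ W t).mpr ht
  refine (QC.mem_range_idealModι_affine D₂ W _).mp ⟨(inv j).app W.1 u, ?_⟩
  rw [← hj]
  show (inv j ≫ j ≫ ClSub.idealModι D₁).app W.1 u = _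
  rw [IsIso.inv_hom_id_assoc]

end Groth.Agent.S18380
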