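import Groth.Statements.S18383
import Mathlib

set_option autoImplicit false
universe u
open CategoryTheory CategoryTheory.Limits MonoidalCategory CartesianMonoidalCategory MonObj GrpObj AlgebraicGeometry
open GrpSch

namespace Groth.Agent.S18383

/-- Let S be a scheme, H an S-group scheme and i : G → H a homomorphism of S-group schemes which is a
closed immersion (G a closed subgroup scheme of H). Then the left-translation action of G on H is
strictly free: the S-morphism G ×_S H → H ×_S H, (g, h) ↦ (i(g)·h, h), is a closed immersion. -/
theorem result {S : Scheme.{u}} (G H : Over S)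
    [GrpObj G] [GrpObj H] (i : G ⟶ H) [IsMonHom i] [IsClosedImmersion i.left] :
    IsClosedImmersion (CartesianMonoidalCategory.lift ((i ▷ H) ≫ μ[H]) (snd G H)).left := by
  let e : H ⊗ H ⟶ H ⊗ H := CartesianMonoidalCategory.lift (fst H H * snd H H) (snd H H)
  let e' : H ⊗ H ⟶ H ⊗ H := CartesianMonoidalCategory.lift (fst H H * (snd H H)⁻¹) (snd H H)
  haveI : IsIso e := by
    refine ⟨e', ?_, ?_⟩
    · apply CartesianMonoidalCategory.hom_ext
      · simp [e, e', MonObj.comp_mul, GrpObj.comp_inv]
      · simp [e, e']
    · apply CartesianMonoidalCategory.hom_ext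
      · simp [e, e', MonObj.comp_mul, GrpObj.comp_inv]
      · simp [e, e']
  have heq : CartesianMonoidalCategory.lift ((i ▷ H) ≫ μ[H]) (CartesianMonoidalCategory.snd G H) = (i ▷ H) ≫ e := by
    have : μ[H] = fst H H * snd H H := by
      show μ[H] = CartesianMonoidalCategory.lift (fst H H) (snd H H) ≫ μ[H]
      simp
    rw [this]
    apply CartesianMonoidalCategory.hom_ext <;> simp [e]
  rw [heq, Over.comp_left]
  haveI : IsIso e.left := inferInstanceAs (IsIso ((Over.forget S).map e))
  have h1 : (i ▷ H).left ≫ (snd H H).left = (snd G H).left := congr($(whiskerRight_snd i H).left)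
  have h2 : (i ▷ H).left ≫ (fst H H).left = (fst G H).left ≫ i.left := congr($(whiskerRight_fst i H).left)
  have big : IsPullback (snd G H).left (fst G H).left H.hom G.hom :=
    (IsPullback.of_hasPullback G.hom H.hom).flip
  have small : IsPullback (snd H H).left (fst H H).left H.hom H.hom :=
    (IsPullback.of_hasPullback H.hom H.hom).flip
  have pb : IsPullback (i ▷ H).left (fst G H).left (fst H H).left i.left := by
    refine IsPullback.of_right ?_ h2 small
    rw [h1, Over.w i]
    exact big
  haveI : IsClosedImmersion (i ▷ H).left :=
    MorphismProperty.of_isPullback (P := @IsClosedImmersion) pb.flip inferInstance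
  infer_instance

end Groth.Agent.S18383
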