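import Groth.Statements.S18384
import Mathlib

set_option autoImplicit false
universe u
open CategoryTheory CategoryTheory.Limits AlgebraicGeometry
open Coherent

namespace Groth.Agent.S18384


section helpers

lemma mk_germ_eq_zero {X : Scheme.{u}} (x : X) (J : Ideal (X.presheaf.stalk x))
    (I : X.IdealSheafData)
    (hI : I ≤ (Spec.map (CommRingCat.ofHom (Ideal.Quotient.mk J)) ≫ X.fromSpecStalk x).ker)
    (W : X.affineOpens) (hx : x ∈ W.1) (f : Γ(X, W.1)) (hf : f ∈ I.ideal W) :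
    X.presheaf.germ W.1 x hx f ∈ J := by
  have h0 := Scheme.Hom.ideal_ker_le
    (Spec.map (CommRingCat.ofHom (Ideal.Quotient.mk J)) ≫ X.fromSpecStalk x) W (hI W hf)
  rw [RingHom.mem_ker, Scheme.Hom.comp_app, Scheme.fromSpecStalk_app hx] at h0
  replace h0 : (Spec.map (CommRingCat.ofHom (Ideal.Quotient.mk J))).app
      ((X.fromSpecStalk x) ⁻¹ᵁ W.1)
      ((Spec (X.presheaf.stalk x)).presheaf.map
        (homOfLE (le_top : (X.fromSpecStalk x) ⁻¹ᵁ W.1 ≤ ⊤)).op
        ((Scheme.ΓSpecIso (X.presheaf.stalk x)).inv (X.presheaf.germ W.1 x hx f))) = 0 := h0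
  have htop : (X.fromSpecStalk x) ⁻¹ᵁ W.1 = ⊤ := by
    refine top_le_iff.1 (fun y _ => ?_)
    have hy : (X.fromSpecStalk x).base y ∈ Set.range (X.fromSpecStalk x).base := ⟨y, rfl⟩
    erw [Scheme.range_fromSpecStalk] at hy
    show (X.fromSpecStalk x).base y ∈ W.1
    exact Specializes.mem_open hy W.1.2 hx
  have hinj : ∀ (Q : Scheme.{u}) (O : Q.Opens) (_ : O = ⊤) (s : Γ(Q, ⊤)) (i : O ⟶ ⊤),
      Q.presheaf.map i.op s = 0 → s = 0 := by
    intro Q O hO s i hs
    subst hO
    rw [Subsingleton.elim i (𝟙 _)] at hs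
    simpa using hs
  have hnat := ConcreteCategory.congr_hom ((Spec.map (CommRingCat.ofHom (Ideal.Quotient.mk J))).naturality
    (homOfLE (le_top : (X.fromSpecStalk x) ⁻¹ᵁ W.1 ≤ ⊤)).op)
    ((Scheme.ΓSpecIso (X.presheaf.stalk x)).inv (X.presheaf.germ W.1 x hx f))
  rw [CommRingCat.comp_apply, CommRingCat.comp_apply] at hnat
  have h1 := hinj _ _ (by rw [htop]; rfl) _ _ (hnat.symm.trans h0)
  have h2 := ConcreteCategory.congr_hom
    (Scheme.ΓSpecIso_inv_naturality (CommRingCat.ofHom (Ideal.Quotient.mk J)))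
    (X.presheaf.germ W.1 x hx f)
  rw [CommRingCat.comp_apply, CommRingCat.comp_apply] at h2
  have h3 := h2.trans h1
  rw [← Ideal.Quotient.eq_zero_iff_mem]
  exact (Scheme.ΓSpecIso _).commRingCatIsoToRingEquiv.symm.injective
    (h3.trans (map_zero _).symm)

/-- The points where the ideal sheaf vanishes. -/
def vanishSet {X : Scheme.{u}} (I : X.IdealSheafData) : Set X :=
  {x | ∀ (W : X.affineOpens) (hx : x ∈ W.1) (f : Γ(X, W.1)), f ∈ I.ideal W →
    X.presheaf.germ W.1 x hx f = 0}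

lemma isOpen_vanishSet {X : Scheme.{u}} [IsLocallyNoetherian X] (I : X.IdealSheafData) :
    IsOpen (vanishSet I) := by
  rw [isOpen_iff_forall_mem_open]
  intro x hx
  obtain ⟨_, ⟨W₀, hW₀, rfl⟩, hxW, -⟩ :=
    X.isBasis_affineOpens.exists_subset_of_mem_open (Set.mem_univ x) isOpen_univ
  let W : X.affineOpens := ⟨W₀, hW₀⟩
  haveI := IsLocallyNoetherian.component_noetherian W
  letI := TopCat.Presheaf.algebra_section_stalk X.presheaf (⟨x, hxW⟩ : W.1)
  haveI := W.2.isLocalization_stalk ⟨x, hxW⟩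
  obtain ⟨S, hS⟩ := (IsNoetherian.noetherian (I.ideal W) : (I.ideal W).FG)
  have hker : ∀ f ∈ S, ∃ c : (W.2.primeIdealOf ⟨x, hxW⟩).asIdeal.primeCompl, c * f = 0 := by
    intro f hf
    refine (IsLocalization.map_eq_zero_iff (W.2.primeIdealOf ⟨x, hxW⟩).asIdeal.primeCompl
      (X.presheaf.stalk x) f).1 ?_
    exact hx W hxW f (hS ▸ Submodule.subset_span hf)
  choose c hc using hker
  classical
  let h : (W.2.primeIdealOf ⟨x, hxW⟩).asIdeal.primeCompl := ∏ f ∈ S.attach, c f.1 f.2
  have hh : ∀ f ∈ I.ideal W, (h : Γ(X, W.1)) * f = 0 := by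
    intro f hf
    rw [← hS] at hf
    induction hf using Submodule.span_induction with
    | mem g hg =>
      obtain ⟨d, hd⟩ : c g hg ∣ h := Finset.dvd_prod_of_mem (fun f : {f // f ∈ S} => c f.1 f.2)
        (Finset.mem_attach _ (⟨g, hg⟩ : {f // f ∈ S}))
      rw [hd, Submonoid.coe_mul, mul_right_comm, hc g hg, zero_mul]
    | zero => simp
    | add a b _ _ ha hb => rw [mul_add, ha, hb, add_zero]
    | smul r a _ ha => rw [smul_eq_mul, mul_left_comm, ha, mul_zero]
  refine ⟨X.basicOpen (h : Γ(X, W.1)), ?_, (X.basicOpen _).2, ?_⟩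
  · intro y hy V hyV f hf
    obtain ⟨_, ⟨A₀, hA₀, rfl⟩, hyA, hAle⟩ := X.isBasis_affineOpens.exists_subset_of_mem_open
      (show y ∈ ((V.1 ⊓ X.basicOpen (h : Γ(X, W.1)) : X.Opens) : Set X) from ⟨hyV, hy⟩)
      (V.1 ⊓ X.basicOpen (h : Γ(X, W.1)) : X.Opens).2
    let A : X.affineOpens := ⟨A₀, hA₀⟩
    have hAV : A ≤ V := fun z hz => (hAle hz).1
    have hAD : A ≤ X.affineBasicOpen (h : Γ(X, W.1)) := fun z hz => (hAle hz).2
    have hD0 : I.ideal (X.affineBasicOpen (h : Γ(X, W.1))) = ⊥ := by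
      rw [← I.map_ideal_basicOpen]
      refine (Ideal.map_eq_bot_iff_le_ker _).2 (fun g hg => ?_)
      rw [RingHom.mem_ker]
      have hu : IsUnit (X.presheaf.map (homOfLE (X.basicOpen_le (h : Γ(X, W.1)))).op
          (h : Γ(X, W.1))) := RingedSpace.isUnit_res_basicOpen _ _
      refine hu.mul_right_eq_zero.1 ?_
      erw [← map_mul, hh g hg, map_zero]
    have hA0 : I.ideal A = ⊥ := by
      rw [← I.map_ideal hAD, hD0, Ideal.map_bot]
    have hmem : X.presheaf.map (homOfLE (show A.1 ≤ V.1 from hAV)).op f ∈ I.ideal A :=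
      I.map_ideal hAV ▸ Ideal.mem_map_of_mem _ hf
    rw [hA0, Ideal.mem_bot] at hmem
    rw [← X.presheaf.germ_res_apply (homOfLE (show A.1 ≤ V.1 from hAV)) y hyA f, hmem, map_zero]
  · rw [SetLike.mem_coe, X.mem_basicOpen (h : Γ(X, W.1)) x hxW]
    exact IsLocalization.map_units (X.presheaf.stalk x) h

lemma exists_lift_of_vanish {X : Scheme.{u}} (I : X.IdealSheafData) (U : X.Opens)
    (hU : ∀ x ∈ U, x ∈ vanishSet I) :
    I ≤ U.ι.ker := by
  refine Scheme.IdealSheafData.le_ofIdeals_iff.2 (fun W f hf => ?_)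
  rw [RingHom.mem_ker, Scheme.Opens.ι_app]
  refine TopCat.Presheaf.section_ext X.sheaf _ _ _ (fun y hy => ?_)
  have hy' : y ∈ U ∧ y ∈ W.1 := by
    obtain ⟨z, hz, rfl⟩ := hy
    exact ⟨z.2, hz⟩
  erw [X.presheaf.germ_res_apply, map_zero]
  exact hU y hy'.1 W hy'.2 f hf

end helpers

/-- Let p : X → S be a morphism of locally Noetherian schemes, t a point of S, m the maximal ideal of
the local ring O_{S,t}, and Z the closed subscheme of X defined by a quasi-coherent ideal I. Suppose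
that for every n ≥ 1 the projection X ×_S Spec(O_{S,t}/m^n) → X factors through Z. Then there is an
open subscheme U of X containing every point of the fibre p⁻¹(t) such that the inclusion U → X
factors through Z. -/
theorem result {X S : Scheme.{u}}
    [IsLocallyNoetherian X] [IsLocallyNoetherian S] (p : X ⟶ S) (t : S) (I : X.IdealSheafData)
    (h : ∀ n : ℕ, ∃ g : pullback p (Spec.map (CommRingCat.ofHom (Ideal.Quotient.mk
        (IsLocalRing.maximalIdeal ↑(S.presheaf.stalk t) ^ (n + 1)))) ≫ S.fromSpecStalk t) ⟶ I.subscheme,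
        g ≫ I.subschemeι = pullback.fst p _) :
    ∃ U : X.Opens, (∀ x : X, p.base x = t → x ∈ U) ∧
      ∃ g : (U : Scheme.{u}) ⟶ I.subscheme, g ≫ I.subschemeι = U.ι := by
  let U : X.Opens := ⟨vanishSet I, isOpen_vanishSet I⟩
  refine ⟨U, fun x hx => ?_, ?_⟩
  · subst hx
    intro W hxW f hf
    let m := IsLocalRing.maximalIdeal ↑(S.presheaf.stalk (p.base x))
    have hmem : ∀ n : ℕ, X.presheaf.germ W.1 x hxW f ∈
        (m.map (p.stalkMap x).hom) ^ (n + 1) := by
      intro n
      obtain ⟨g, hg⟩ := h n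
      rw [← Ideal.map_pow]
      refine mk_germ_eq_zero x _ I ?_ W hxW f hf
      let q : (S.presheaf.stalk (p.base x) : Type u) ⧸ m ^ (n + 1) →+*
          (X.presheaf.stalk x : Type u) ⧸ (m ^ (n + 1)).map (p.stalkMap x).hom :=
        Ideal.quotientMap _ (p.stalkMap x).hom Ideal.le_comap_map
      have hw : (Spec.map (CommRingCat.ofHom (Ideal.Quotient.mk
          ((m ^ (n + 1)).map (p.stalkMap x).hom))) ≫ X.fromSpecStalk x) ≫ p =
          Spec.map (CommRingCat.ofHom q) ≫ Spec.map (CommRingCat.ofHom (Ideal.Quotient.mk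
            (m ^ (n + 1)))) ≫ S.fromSpecStalk (p.base x) := by
        rw [Category.assoc, ← Scheme.SpecMap_stalkMap_fromSpecStalk, ← Category.assoc,
          ← Category.assoc, ← Spec.map_comp, ← Spec.map_comp]
        rfl
      let l := Limits.pullback.lift _ _ hw
      have hfac : (l ≫ g) ≫ I.subschemeι =
          Spec.map (CommRingCat.ofHom (Ideal.Quotient.mk
            ((m ^ (n + 1)).map (p.stalkMap x).hom))) ≫ X.fromSpecStalk x := by
        rw [Category.assoc, hg]
        exact Limits.pullback.lift_fst _ _ _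
      rw [← hfac]
      calc I = I.subschemeι.ker := I.ker_subschemeι.symm
        _ ≤ _ := Scheme.Hom.le_ker_comp _ _
    have hle : m.map (p.stalkMap x).hom ≤ IsLocalRing.maximalIdeal _ :=
      Ideal.map_le_iff_le_comap.2 (fun a ha h => ha (isUnit_of_map_unit (p.stalkMap x).hom a h))
    have hinf := Ideal.iInf_pow_eq_bot_of_isLocalRing
      (m.map (p.stalkMap x).hom)
      (fun e => (IsLocalRing.maximalIdeal.isMaximal _).ne_top (top_le_iff.1 (e ▸ hle)))
    rw [← Ideal.mem_bot, ← hinf, Submodule.mem_iInf]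
    intro n
    cases n with
    | zero => simp
    | succ n => exact hmem n
  · haveI : IsClosedImmersion I.subschemeι := inferInstance
    refine ⟨IsClosedImmersion.lift I.subschemeι U.ι ?_, IsClosedImmersion.lift_fac _ _ _⟩
    rw [Scheme.IdealSheafData.ker_subschemeι]
    exact exists_lift_of_vanish I U (fun x hx => hx)

end Groth.Agent.S18384
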