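import Groth.Statements.S18385
import Groth.Agent.GrpField.FibreHom

set_option autoImplicit false
universe u
open CategoryTheory CategoryTheory.Limits MonoidalCategory CartesianMonoidalCategory MonObj GrpObj AlgebraicGeometry
open AbSch

namespace Groth.Agent.S18385

/-- (2) ⇔ (3): let S be a scheme, A and B abelian schemes over S (S-group schemes, smooth and proper
over S with geometrically connected fibres) whose fibres A_s and B_s have the same dimension for
every point s of S, and f : A → B a homomorphism of S-group schemes. Then f is locally quasi-finite
if and only if f is surjective (and then f is an isogeny). -/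
theorem result {S : Scheme.{u}} (A B : Over S)
    [GrpObj A] [Smooth A.hom] [IsProper A.hom] [GeometricallyConnected A.hom]
    [GrpObj B] [Smooth B.hom] [IsProper B.hom] [GeometricallyConnected B.hom]
    (f : A ⟶ B) [IsMonHom f]
    (hdim : ∀ s : S, topologicalKrullDim ↥(A.hom.fiber s) = topologicalKrullDim ↥(B.hom.fiber s)) :
    LocallyQuasiFinite f.left ↔ Surjective f.left := by
  have : IsProper (f.left ≫ B.hom) := by rw [Over.w f]; infer_instance
  have : IsProper f.left := IsProper.of_comp f.left B.hom
  rw [Groth.Agent.GrpField.locallyQuasiFinite_iff_fibHom f, Groth.Agent.GrpField.surjective_iff_fibHom f]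
  refine forall_congr' fun s => ?_
  let : GrpObj (Groth.Agent.GrpField.fib A s) := Groth.Agent.GrpField.fibGrp A s
  let : GrpObj (Groth.Agent.GrpField.fib B s) := Groth.Agent.GrpField.fibGrp B s
  have : IsProper (Groth.Agent.GrpField.fib A s).hom :=
    inferInstanceAs (IsProper (Limits.pullback.snd A.hom (S.fromSpecResidueField s)))
  have : IsProper (Groth.Agent.GrpField.fib B s).hom :=
    inferInstanceAs (IsProper (Limits.pullback.snd B.hom (S.fromSpecResidueField s)))
  have := Groth.Agent.GrpField.isIntegral_fib A s
  have := Groth.Agent.GrpField.isIntegral_fib B s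
  have : IsMonHom (Groth.Agent.GrpField.fibHom f s) := Groth.Agent.GrpField.isMonHom_fibHom f s
  exact Groth.Agent.GrpField.locallyQuasiFinite_iff_surjective (Groth.Agent.GrpField.fibHom f s) (hdim s)

end Groth.Agent.S18385
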