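import Groth.Statements.S18386
import Mathlib

set_option autoImplicit false
universe u
open LVCorr

namespace Groth.Agent.S18386

open AlgebraicGeometry in
/-- Let X be a connected Noetherian scheme and I a quasi-coherent sheaf of ideals on X, different from
the structure sheaf, such that I^k = I^(k+1) for some natural number k. Then I^k = 0. -/
theorem result (X : Scheme.{u}) [AlgebraicGeometry.IsNoetherian X]
    [ConnectedSpace X] (I : X.IdealSheafData) (hI : I ≠ ⊤) (k : ℕ)
    (h : I ^ k = I ^ (k + 1)) : I ^ k = ⊥ := by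
  rcases Nat.eq_zero_or_pos k with rfl | hk
  · refine absurd ?_ hI
    ext1
    funext U
    have h2 : (I ^ 0).ideal U = (I ^ (0 + 1)).ideal U := by rw [h]
    rw [Scheme.IdealSheafData.ideal_pow, Scheme.IdealSheafData.ideal_pow, Pi.pow_apply, Pi.pow_apply,
      pow_zero, zero_add, pow_one, Ideal.one_eq_top] at h2
    exact h2.symm
  have hloc : ∀ U : X.affineOpens, ∃ r : Γ(X, U.1), (∀ x ∈ (I.support : Set X) ∩ U.1, x ∈ X.basicOpen r) ∧
      (X.basicOpen r : Set X) ⊆ I.support ∧ ∀ n ∈ I.ideal U ^ k, r * n = 0 := by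
    intro U
    haveI := IsLocallyNoetherian.component_noetherian (X := X) U
    have hU := congrFun (congrArg Scheme.IdealSheafData.ideal h) U
    simp only [Scheme.IdealSheafData.ideal_pow, Pi.pow_apply] at hU
    obtain ⟨r, hr, hr0⟩ := Submodule.exists_sub_one_mem_and_smul_eq_zero_of_fg_of_le_smul (I.ideal U)
      (I.ideal U ^ k) (IsNoetherian.noetherian _) (by rw [smul_eq_mul, ← pow_succ']; exact hU.le)
    refine ⟨r, fun x hx => ?_, fun y hy => ?_, hr0⟩
    · have h1 : x ∈ X.zeroLocus (U := U.1) (I.ideal U) := (Scheme.IdealSheafData.mem_support_iff_of_mem hx.2).mp hx.1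
      rw [Scheme.mem_zeroLocus_iff] at h1
      have h2 := h1 _ hr
      rw [Scheme.mem_basicOpen _ _ x hx.2] at h2 ⊢
      rcases IsLocalRing.isUnit_or_isUnit_one_sub_self (X.presheaf.germ U.1 x hx.2 r) with hu | hu
      · exact hu
      · exfalso
        apply h2
        rw [map_sub, map_one]
        simpa using hu.neg
    · have hyU : y ∈ U.1 := X.basicOpen_le r hy
      rw [SetLike.mem_coe, Scheme.IdealSheafData.mem_support_iff_of_mem hyU, Scheme.mem_zeroLocus_iff]
      intro j hj hyj
      rw [Scheme.mem_basicOpen _ _ y hyU] at hyj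
      have hy' : IsUnit (X.presheaf.germ U.1 y hyU r) := (Scheme.mem_basicOpen _ _ y hyU).mp hy
      have := hy'.mul (hyj.pow k)
      rw [← map_pow, ← map_mul, show r * j ^ k = 0 from hr0 _ (Ideal.pow_mem_pow hj k), map_zero] at this
      exact not_isUnit_zero this
  have hclopen : IsClopen (I.support : Set X) := by
    refine ⟨I.support.isClosed, isOpen_iff_forall_mem_open.mpr fun x hx => ?_⟩
    obtain ⟨U, hU, hxU, -⟩ := exists_isAffineOpen_mem_and_subset (X := X) (x := x) (U := ⊤) trivial
    obtain ⟨r, h1, h2, -⟩ := hloc ⟨U, hU⟩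
    exact ⟨_, h2, (X.basicOpen r).2, h1 x ⟨hx, hxU⟩⟩
  rcases isClopen_iff.mp hclopen with he | huniv
  · exact absurd ((Scheme.IdealSheafData.support_eq_bot_iff (I := I)).mp (SetLike.coe_injective (by simpa using he))) hI
  ext1
  funext U
  obtain ⟨r, h1, -, h3⟩ := hloc U
  have hru : IsUnit r := by
    rw [← Ideal.span_singleton_eq_top, ← IsAffineOpen.iSup_basicOpen_eq_self_iff U.2]
    refine le_antisymm (iSup_le fun i => X.basicOpen_le _) fun x hx => ?_
    exact TopologicalSpace.Opens.mem_iSup.mpr ⟨⟨r, rfl⟩, h1 x ⟨huniv ▸ trivial, hx⟩⟩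
  show I.ideal U ^ k = ⊥
  exact eq_bot_iff.mpr fun n hn => Ideal.mem_bot.mpr (hru.mul_right_eq_zero.mp (h3 n hn))

end Groth.Agent.S18386
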