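import Groth.Statements.S18387
import Mathlib

set_option autoImplicit false
universe u
open LVCorr

namespace Groth.Agent.S18387

/-- In the affine form which its proof establishes. Let A be a commutative algebra over a field F which
is finite-dimensional of dimension d over F. Then the d-th power of the nilradical of A vanishes.
(Applied to the fibre algebra A = B/mB of a quasi-finite morphism over a closed point with maximal
ideal m, this says that the d-th power of the radical of mB lies in mB, i.e. the ramification of the
morphism at that point is at most the degree d of the fibre.) -/
theorem result (F A : Type u) [Field F] [CommRing A] [Algebra F A]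
    [FiniteDimensional F A] : nilradical A ^ Module.finrank F A = ⊥ := by
  haveI : IsArtinianRing A := IsArtinianRing.of_finite F A
  obtain ⟨N, hN⟩ := IsArtinianRing.isNilpotent_nilradical (R := A)
  set I := nilradical A
  have key : ∀ k : ℕ, I ^ k = ⊥ ∨ Module.finrank F ((I ^ k).restrictScalars F) + k ≤ Module.finrank F A := by
    intro k
    induction k with
    | zero => exact Or.inr (by simpa using Submodule.finrank_le _)
    | succ k ih =>
      rcases ih with h | h
      · exact Or.inl (by rw [pow_succ, h, Submodule.bot_mul])
      by_cases heq : I ^ (k + 1) = I ^ k
      · left
        have : ∀ j, I ^ (k + j) = I ^ k := by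
          intro j
          induction j with
          | zero => rfl
          | succ j ihj => rw [← add_assoc, pow_succ, ihj, ← pow_succ, heq]
        rw [heq, ← this N, pow_add, hN, mul_zero, Submodule.zero_eq_bot]
      · right
        have hlt : (I ^ (k + 1)).restrictScalars F < (I ^ k).restrictScalars F :=
          lt_of_le_of_ne (Ideal.pow_le_pow_right (Nat.le_succ k))
            fun h' => heq (Submodule.restrictScalars_injective F A A h')
        have := Submodule.finrank_lt_finrank_of_lt hlt
        omega
  rcases key (Module.finrank F A) with h | h
  · exact h
  · have h0 : Module.finrank F ((I ^ Module.finrank F A).restrictScalars F) = 0 := by omega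
    rw [Submodule.finrank_eq_zero, Submodule.restrictScalars_eq_bot_iff] at h0
    exact h0

end Groth.Agent.S18387
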