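import Groth.Statements.S18390
import Mathlib

set_option autoImplicit false
universe u
open LVCorr

namespace Groth.Agent.S18390

/-- In the affine, ring-theoretic form which its proof establishes. Let φ : A' → A be a ring
homomorphism, I' a finitely generated ideal of A' and I an ideal of A containing the image of I'.
Then some power I'^k is mapped into I^(k+1) if and only if for every n ≥ 1 and every a ∈ I'^n there
is a k with φ(a)^k ∈ I^(nk+1). (Geometrically, for a morphism f : (X, Z) → (X', Z') of pairs with Z
a closed subscheme of the preimage of Z', the normal cone of Z in X is the spectrum of the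
associated graded algebra of I, and the second condition says that the induced map of normal cones
sends the normal cone of Z set-theoretically into the zero section Z'; the source states the
equivalence in that language.) -/
theorem result (A' A : Type u) [CommRing A'] [CommRing A]
    (φ : A' →+* A) (I' : Ideal A') (hI' : I'.FG) (I : Ideal A) (hle : I'.map φ ≤ I) :
    (∃ k : ℕ, (I' ^ k).map φ ≤ I ^ (k + 1)) ↔
      ∀ n : ℕ, 1 ≤ n → ∀ a ∈ I' ^ n, ∃ k : ℕ, 1 ≤ k ∧ φ a ^ k ∈ I ^ (n * k + 1) := by
  constructor
  · rintro ⟨k, hk⟩ n hn a ha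
    rcases Nat.eq_zero_or_pos k with rfl | hk0
    · refine ⟨1, le_rfl, ?_⟩
      have : I = ⊤ := by
        rw [pow_zero, Ideal.one_eq_top, Ideal.map_top, zero_add, pow_one] at hk
        exact top_le_iff.1 hk
      rw [this, Ideal.top_pow]; trivial
    refine ⟨k, hk0, ?_⟩
    have h1 : φ a ^ k ∈ ((I' ^ k).map φ) ^ n := by
      rw [← Ideal.map_pow, ← pow_mul, mul_comm, pow_mul, ← map_pow]
      exact Ideal.mem_map_of_mem _ (Ideal.pow_mem_pow ha k)
    have h2 := Ideal.pow_right_mono hk n h1
    rw [← pow_mul] at h2
    exact Ideal.pow_le_pow_right (by nlinarith) h2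
  · intro h
    obtain ⟨s, hs⟩ := hI'
    have key : ∀ t : Finset A', t ⊆ s → ∃ k : ℕ, ((Ideal.span (t : Set A')).map φ) ^ k ≤ I ^ (k + 1) := by
      intro t
      induction t using Finset.cons_induction with
      | empty => exact fun _ => ⟨1, by simp⟩
      | cons g t hg ih =>
        intro ht
        obtain ⟨k₂, hk₂⟩ := ih fun x hx => ht (Finset.mem_cons_of_mem hx)
        obtain ⟨k₁, -, hk₁⟩ := h 1 le_rfl g (by
          rw [pow_one, ← hs]; exact Ideal.subset_span (ht (Finset.mem_cons_self g t)))
        refine ⟨k₁ + k₂, ?_⟩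
        rw [Finset.coe_cons, Ideal.span_insert, Ideal.map_sup, Ideal.map_span, Set.image_singleton]
        set J₁ := Ideal.span {φ g}
        set J₂ := (Ideal.span (t : Set A')).map φ
        have hJ₁ : J₁ ≤ I := by
          rw [Ideal.span_le, Set.singleton_subset_iff]
          exact hle (Ideal.mem_map_of_mem φ (hs ▸ Ideal.subset_span (ht (Finset.mem_cons_self g t))))
        have hJ₂ : J₂ ≤ I := le_trans (Ideal.map_mono (hs ▸ Ideal.span_mono fun x hx =>
          ht (Finset.mem_cons_of_mem hx))) hle
        have hJ₁k : J₁ ^ k₁ ≤ I ^ (k₁ + 1) := by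
          rw [Ideal.span_singleton_pow, Ideal.span_le, Set.singleton_subset_iff]
          simpa using hk₁
        rw [← Submodule.add_eq_sup, add_pow, Ideal.sum_eq_sup, Finset.sup_le_iff]
        intro i hi
        refine le_trans Ideal.mul_le_left ?_
        rcases le_or_gt k₁ i with hle' | hlt
        · refine le_trans (Ideal.mul_mono (le_trans (by rw [← pow_add, Nat.add_sub_cancel' hle'])
            (Ideal.mul_mono hJ₁k (Ideal.pow_right_mono hJ₁ (i - k₁)))) (Ideal.pow_right_mono hJ₂ _)) ?_
          rw [← pow_add, ← pow_add]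
          exact Ideal.pow_le_pow_right (by have := Finset.mem_range.1 hi; omega)
        · refine le_trans (Ideal.mul_mono (Ideal.pow_right_mono hJ₁ i) (le_trans
            (by rw [← pow_add, Nat.add_sub_cancel' (show k₂ ≤ k₁ + k₂ - i by omega)])
            (Ideal.mul_mono hk₂ (Ideal.pow_right_mono hJ₂ (k₁ + k₂ - i - k₂))))) ?_
          rw [← pow_add, ← pow_add]
          exact Ideal.pow_le_pow_right (by omega)
    obtain ⟨k, hk⟩ := key s subset_rfl
    refine ⟨k, ?_⟩
    rw [Ideal.map_pow, ← hs]
    exact hk

end Groth.Agent.S18390
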