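import Groth.Statements.S18391
import Mathlib

set_option autoImplicit false
universe u
open LVCorr

namespace Groth.Agent.S18391

theorem eq_of_le_of_height_le_one {A : Type u} [CommRing A] [IsDomain A] {p q : Ideal A} [hp : p.IsPrime]
    [hq : q.IsPrime] (hq0 : q ≠ ⊥) (hle : q ≤ p) (hh : p.height ≤ 1) : q = p := by
  by_contra hne
  haveI : (⊥ : Ideal A).IsPrime := Ideal.isPrime_bot
  have h3 : (⊥ : Ideal A).height + 1 ≤ q.height :=
    Ideal.height_add_one_le_of_lt_of_isPrime (bot_lt_iff_ne_bot.2 hq0)
  have h4 : q.height + 1 ≤ p.height :=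
    Ideal.height_add_one_le_of_lt_of_isPrime (lt_of_le_of_ne hle hne)
  have : (2 : ℕ∞) ≤ p.height := by
    calc (2 : ℕ∞) = 0 + 1 + 1 := by norm_num
      _ ≤ (⊥ : Ideal A).height + 1 + 1 := by gcongr; exact zero_le
      _ ≤ q.height + 1 := by gcongr
      _ ≤ p.height := h4
  exact absurd (this.trans hh) (by norm_num)


/-- Let A be a normal (integrally closed) Noetherian domain and z an element of A such that the radical
of the principal ideal (z) is prime. Then there exist elements w, t of A and a natural number r,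
with w not in the radical of (z), such that in the localization A[1/w] the ideal generated by z
equals the ideal generated by t^r and the ideal generated by t is prime. (The condition on w is the
one the printed proof produces and the later use of the lemma needs.) -/
theorem result (A : Type u) [CommRing A] [IsDomain A]
    [IsNoetherianRing A] [IsIntegrallyClosed A] (z : A) (hz : (Ideal.span {z}).radical.IsPrime) :
    ∃ (w t : A) (r : ℕ), w ∉ (Ideal.span {z}).radical ∧
      Ideal.span {algebraMap A (Localization.Away w) z} =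
        Ideal.span {algebraMap A (Localization.Away w) t ^ r} ∧
      (Ideal.span {algebraMap A (Localization.Away w) t}).IsPrime := by
  classical
  set p := (Ideal.span {z}).radical with hp
  haveI := hz
  by_cases hz0 : z = 0
  · subst hz0
    have h1 : (1 : A) ∉ p := fun h => hz.ne_top ((Ideal.eq_top_iff_one _).2 h)
    haveI : IsDomain (Localization.Away (1 : A)) :=
      IsLocalization.isDomain_localization (powers_le_nonZeroDivisors_of_noZeroDivisors one_ne_zero)
    refine ⟨1, 0, 1, h1, by rw [pow_one], ?_⟩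
    rw [map_zero, Ideal.span_singleton_zero]
    exact Ideal.isPrime_bot
  have hzp : z ∈ p := Ideal.le_radical (Ideal.mem_span_singleton_self z)
  have hmin : p ∈ (Ideal.span {z}).minimalPrimes :=
    ⟨⟨hz, Ideal.le_radical⟩, fun q hq _ => (hq.1.radical_le_iff).2 hq.2⟩
  have hh : p.height ≤ 1 := Ideal.height_le_one_of_isPrincipal_of_mem_minimalPrimes _ _ hmin
  have hp0 : p ≠ ⊥ := fun h => hz0 (by simpa [h] using hzp)
  let L := Localization.AtPrime p
  haveI : IsDomain L := IsLocalization.isDomain_localization p.primeCompl_le_nonZeroDivisors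
  haveI : IsIntegrallyClosed L :=
    isIntegrallyClosed_of_isLocalization L p.primeCompl p.primeCompl_le_nonZeroDivisors
  have hinj : Function.Injective (algebraMap A L) :=
    IsLocalization.injective L p.primeCompl_le_nonZeroDivisors
  have hmax : IsLocalRing.maximalIdeal L ≠ ⊥ := fun h => hz0 (hinj (by
    have h2 : algebraMap A L z ∈ IsLocalRing.maximalIdeal L := by
      rw [← Localization.AtPrime.map_eq_maximalIdeal]
      exact Ideal.mem_map_of_mem _ hzp
    rw [h, Submodule.mem_bot] at h2
    rw [h2, map_zero]))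
  have hfield : ¬ IsField L := fun h => hmax (IsLocalRing.isField_iff_maximalIdeal_eq.1 h)
  have huniq : ∃! P : Ideal L, P ≠ ⊥ ∧ P.IsPrime := by
    refine ⟨IsLocalRing.maximalIdeal L, ⟨hmax, inferInstance⟩, fun P ⟨hP0, hP⟩ => ?_⟩
    have hc := (IsLocalization.isPrime_iff_isPrime_disjoint p.primeCompl L P).1 hP
    haveI := hc.1
    have hcp : P.comap (algebraMap A L) ≤ p := fun a ha => by
      by_contra hna
      exact Set.disjoint_left.1 hc.2 hna ha
    have hc0 : P.comap (algebraMap A L) ≠ ⊥ := fun h => hP0 (by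
      rw [← IsLocalization.map_comap p.primeCompl L P, show P.under A = ⊥ from h, Ideal.map_bot])
    rw [← IsLocalization.map_comap p.primeCompl L P, show P.under A = p from eq_of_le_of_height_le_one hc0 hcp hh]
    exact Localization.AtPrime.map_eq_maximalIdeal
  have hdvr : IsDiscreteValuationRing L :=
    ((IsDiscreteValuationRing.TFAE (R := L) hfield).out 0 3 (a := IsDiscreteValuationRing L) (b := IsIntegrallyClosed L ∧ ∃! P : Ideal L, P ≠ ⊥ ∧ P.IsPrime) rfl rfl).2 ⟨inferInstance, huniq⟩
  obtain ⟨ϖ, hϖ⟩ := IsDiscreteValuationRing.exists_irreducible L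
  obtain ⟨r, u, hu⟩ := IsDiscreteValuationRing.eq_unit_mul_pow_irreducible
    ((map_ne_zero_iff _ hinj).2 hz0) hϖ
  obtain ⟨t, s, hts⟩ := IsLocalization.exists_mk'_eq p.primeCompl ϖ
  have hs : IsUnit (algebraMap A L s) := IsLocalization.map_units L s
  have htϖ : algebraMap A L t = ϖ * algebraMap A L s := by rw [← hts, IsLocalization.mk'_spec]
  have hassoc : Associated ϖ (algebraMap A L t) := ⟨hs.unit, htϖ.symm⟩
  have htp : t ∈ p := by
    have h1 : algebraMap A L t ∈ IsLocalRing.maximalIdeal L := by
      rw [htϖ]; exact Ideal.mul_mem_right _ _ (by rw [hϖ.maximalIdeal_eq]; exact Ideal.mem_span_singleton_self ϖ)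
    exact (IsLocalization.AtPrime.to_map_mem_maximal_iff L p t).1 h1
  have hclear : ∀ a b : A, algebraMap A L b ∣ algebraMap A L a → ∃ c : A, c ∉ p ∧ b ∣ c * a := by
    intro a b ⟨q, hq⟩
    obtain ⟨x, c, hxc⟩ := IsLocalization.exists_mk'_eq p.primeCompl q
    refine ⟨c, c.2, x, hinj ?_⟩
    rw [map_mul, map_mul, hq, ← hxc, mul_left_comm, IsLocalization.mk'_spec']
  -- generators of `p`
  obtain ⟨G, hG⟩ : p.FG := IsNoetherian.noetherian p
  have hgen : ∀ g ∈ G, ∃ c : A, c ∉ p ∧ t ∣ c * g := fun g hg => hclear g t (by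
    refine (Associated.dvd hassoc.symm).trans ?_
    rw [← Ideal.mem_span_singleton, ← hϖ.maximalIdeal_eq, ← Localization.AtPrime.map_eq_maximalIdeal]
    exact Ideal.mem_map_of_mem _ (hG ▸ Submodule.subset_span hg))
  choose! c hc hdvd using hgen
  have hzu : Associated (algebraMap A L z) (algebraMap A L (t ^ r)) := by
    rw [map_pow]
    refine (Associated.trans ⟨u⁻¹, ?_⟩ (hassoc.pow_pow (n := r)))
    rw [hu, mul_comm (u : L), mul_assoc, Units.mul_inv, mul_one]
  obtain ⟨a₁, ha₁, hd₁⟩ := hclear _ _ hzu.dvd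
  obtain ⟨a₂, ha₂, hd₂⟩ := hclear _ _ hzu.symm.dvd
  set w := a₁ * a₂ * ∏ g ∈ G, c g
  have hw : w ∉ p := by
    intro h
    rcases hz.mem_or_mem h with h | h
    · rcases hz.mem_or_mem h with h | h
      · exact ha₁ h
      · exact ha₂ h
    · obtain ⟨g, hg, hcg⟩ := (Ideal.IsPrime.prod_mem_iff).1 h
      exact hc g hg hcg
  let B := Localization.Away w
  haveI : IsDomain B := IsLocalization.isDomain_localization
    (powers_le_nonZeroDivisors_of_noZeroDivisors fun h => hw (h ▸ zero_mem p))
  have hwu : ∀ {a : A}, a ∣ w → IsUnit (algebraMap A B a) := fun h =>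
    isUnit_of_dvd_unit (map_dvd _ h) (IsLocalization.Away.algebraMap_isUnit w)
  refine ⟨w, t, r, hw, ?_, ?_⟩
  · rw [Ideal.span_singleton_eq_span_singleton]
    refine associated_of_dvd_dvd ?_ ?_
    · have := map_dvd (algebraMap A B) hd₁
      rw [map_mul, (hwu (dvd_mul_of_dvd_left (dvd_mul_right _ _) _)).dvd_mul_left] at this
      rwa [← map_pow]
    · have := map_dvd (algebraMap A B) hd₂
      rw [map_mul, (hwu (dvd_mul_of_dvd_left (dvd_mul_left _ _) _)).dvd_mul_left] at this
      rwa [← map_pow]
  · have heq : Ideal.span {algebraMap A B t} = p.map (algebraMap A B) := by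
      refine le_antisymm (Ideal.span_le.2 (Set.singleton_subset_iff.2 (Ideal.mem_map_of_mem _ htp))) ?_
      rw [← hG, Ideal.map_span, Ideal.span_le]
      rintro _ ⟨g, hg, rfl⟩
      rw [SetLike.mem_coe, Ideal.mem_span_singleton]
      have := map_dvd (algebraMap A B) (hdvd g hg)
      rwa [map_mul, (hwu (dvd_mul_of_dvd_right (Finset.dvd_prod_of_mem c hg) _)).dvd_mul_left] at this
    rw [heq]
    refine IsLocalization.isPrime_of_isPrime_disjoint (Submonoid.powers w) B p hz ?_
    rw [Set.disjoint_left]
    rintro _ ⟨k, rfl⟩ hk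
    exact hw (hz.mem_of_pow_mem k hk)

end Groth.Agent.S18391
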