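import Groth.Statements.S18392
import Mathlib

set_option autoImplicit false
universe u
open LVCorr

namespace Groth.Agent.S18392

/-- Let A be a normal (integrally closed) Noetherian domain and z an element of A such that the radical
of (z) is prime. Then for every non-empty open subset V of Spec A contained in the basic open set
D(z) (that is, every non-empty open subset of Spec A[1/z]) there is an element x of A, not in the
radical of (z), such that the basic open set D(xz) = Spec A[1/xz] is contained in V. -/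
theorem result (A : Type u) [CommRing A]
    [IsDomain A] [IsNoetherianRing A] [IsIntegrallyClosed A] (z : A)
    (hz : (Ideal.span {z}).radical.IsPrime) (V : Set (PrimeSpectrum A)) (hV : IsOpen V)
    (hVz : V ⊆ (PrimeSpectrum.basicOpen z : Set (PrimeSpectrum A))) (hne : V.Nonempty) :
    ∃ x : A, x ∉ (Ideal.span {z}).radical ∧
      ((PrimeSpectrum.basicOpen (x * z) : TopologicalSpace.Opens (PrimeSpectrum A)) :
        Set (PrimeSpectrum A)) ⊆ V := by
  classical
  haveI := hz
  set P := (Ideal.span {z}).radical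
  have hPmin : P ∈ (Ideal.span {z}).minimalPrimes :=
    ⟨⟨hz, Ideal.le_radical⟩, fun q hq _ => hq.1.radical_le_iff.2 hq.2⟩
  have hPh : P.height ≤ 1 := Ideal.height_le_one_of_isPrincipal_of_mem_minimalPrimes _ P hPmin
  obtain ⟨s, hs⟩ := (PrimeSpectrum.isOpen_iff _).1 hV
  let J := Ideal.span s
  have hJ : ∀ q : PrimeSpectrum A, q ∈ V ↔ ¬ J ≤ q.asIdeal := fun q => by
    rw [← Set.notMem_compl_iff, hs, PrimeSpectrum.mem_zeroLocus, ← Ideal.span_le]
  have hJ0 : J ≠ ⊥ := by
    intro h0
    obtain ⟨q, hq⟩ := hne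
    exact (hJ q).1 hq (h0 ▸ bot_le)
  have hfin : (J.minimalPrimes).Finite := Ideal.finite_minimalPrimes_of_isNoetherianRing A J
  have hy : ∀ q : Ideal A, ∃ y : A, y ∉ P ∧ (q ∈ J.minimalPrimes → z ∉ q → y ∈ q) := by
    intro q
    by_cases hq : q ∈ J.minimalPrimes ∧ z ∉ q
    · have hnle : ¬ q ≤ P := fun hle => by
        have hlt : q < P := lt_of_le_of_ne hle fun h =>
          hq.2 (h ▸ Ideal.le_radical (Ideal.mem_span_singleton_self z))
        haveI := hq.1.isPrime
        have hq0 : (⊥ : Ideal A) < q := bot_lt_iff_ne_bot.2 fun h => hJ0 (le_bot_iff.1 (h ▸ hq.1.le))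
        haveI : q.FiniteHeight := inferInstance
        haveI : (⊥ : Ideal A).IsPrime := Ideal.bot_prime
        have h1 := Ideal.height_strict_mono_of_isPrime hlt
        have h2 : q.height ≠ 0 := fun h0 => by
          have := Ideal.height_strict_mono_of_isPrime hq0
          rw [h0] at this
          exact not_lt_zero' this
        have := lt_of_lt_of_le h1 hPh
        exact h2 (ENat.lt_one_iff_eq_zero.1 this)
      obtain ⟨y, hyq, hyP⟩ := SetLike.not_le_iff_exists.1 hnle
      exact ⟨y, hyP, fun _ _ => hyq⟩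
    · exact ⟨1, fun h => hz.ne_top ((Ideal.eq_top_iff_one _).2 h), fun h1 h2 => absurd ⟨h1, h2⟩ hq⟩
  choose y hyP hyq using hy
  refine ⟨∏ q ∈ hfin.toFinset, y q, fun hx => ?_, fun r hr => ?_⟩
  · obtain ⟨q, -, hq⟩ := (Ideal.IsPrime.prod_mem_iff (hp := hz)).1 hx
    exact hyP q hq
  · rw [hJ]
    intro hJr
    obtain ⟨q, hq, hqr⟩ := Ideal.exists_minimalPrimes_le hJr
    apply hr
    show _ ∈ r.asIdeal
    by_cases hzq : z ∈ q
    · exact r.asIdeal.mul_mem_left _ (hqr hzq)
    · exact r.asIdeal.mul_mem_right _ (hqr (q.mem_of_dvd (Finset.dvd_prod_of_mem y (hfin.mem_toFinset.2 hq)) (hyq q hq hzq)))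

end Groth.Agent.S18392
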