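import Groth.Statements.S18393
import Mathlib

set_option autoImplicit false
universe u v
open LVCorr

namespace Groth.Agent.S18393

/-- Stated for the underlying continuous maps. Let c₁, c₂ : C → X be continuous maps with C a Noetherian
topological space, let Z be a closed subset of X and B the closure in C of c₂⁻¹(Z) ∖ c₁⁻¹(Z). Call Z
locally invariant when every point x of Z has an open neighbourhood U such that every y in C with
c₂(y) ∈ Z ∩ U and c₁(y) ∈ U satisfies c₁(y) ∈ Z. Then Z is locally invariant if and only if for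
every irreducible subset T of B the closures of c₁(T) and of c₂(T) in X are disjoint. (The source
states this for a correspondence c = (c₁, c₂) : C → X × X of separated schemes of finite type over
an algebraically closed field and for the irreducible components of B; the condition for all
irreducible subsets of B is the same condition.) -/
theorem result {C : Type u} {X : Type v}
    [TopologicalSpace C] [TopologicalSpace X] [TopologicalSpace.NoetherianSpace C]
    (c₁ c₂ : C → X) (hc₁ : Continuous c₁) (hc₂ : Continuous c₂) (Z : Set X) (hZ : IsClosed Z) :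
    (∀ x ∈ Z, ∃ U : Set X, IsOpen U ∧ x ∈ U ∧
        ∀ y : C, c₂ y ∈ Z → c₂ y ∈ U → c₁ y ∈ U → c₁ y ∈ Z) ↔
      ∀ T : Set C, T ⊆ closure (c₂ ⁻¹' Z \ c₁ ⁻¹' Z) → IsIrreducible T →
        closure (c₁ '' T) ∩ closure (c₂ '' T) = ∅ := by
  classical
  set D := c₂ ⁻¹' Z \ c₁ ⁻¹' Z with hD
  constructor
  · intro h T hT hTi
    by_contra hne
    obtain ⟨x, hx1, hx2⟩ := Set.nonempty_iff_ne_empty.2 hne
    have hcl : closure D ⊆ c₂ ⁻¹' Z := closure_minimal Set.diff_subset (hZ.preimage hc₂)
    have hxZ : x ∈ Z := closure_minimal (Set.image_subset_iff.2 (hT.trans hcl)) hZ hx2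
    obtain ⟨U, hU, hxU, hUinv⟩ := h x hxZ
    obtain ⟨_, ha, a, haT, rfl⟩ := mem_closure_iff.1 hx1 U hU hxU
    obtain ⟨_, hb, b, hbT, rfl⟩ := mem_closure_iff.1 hx2 U hU hxU
    obtain ⟨y, hyT, hy1, hy2⟩ := hTi.isPreirreducible (c₁ ⁻¹' U) (c₂ ⁻¹' U) (hU.preimage hc₁) (hU.preimage hc₂)
      ⟨a, haT, ha⟩ ⟨b, hbT, hb⟩
    obtain ⟨y', ⟨hy1', hy2'⟩, hyD⟩ := mem_closure_iff.1 (hT hyT) (c₁ ⁻¹' U ∩ c₂ ⁻¹' U)
      ((hU.preimage hc₁).inter (hU.preimage hc₂)) ⟨hy1, hy2⟩
    exact hyD.2 (hUinv y' hyD.1 hy2' hy1')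
  · intro h x _
    obtain ⟨S, hSfin, -, hSi, hS⟩ :=
      TopologicalSpace.NoetherianSpace.exists_finite_set_isClosed_irreducible (isClosed_closure (s := D))
    let G : Set C → Set X := fun T =>
      if x ∈ closure (c₁ '' T) then (closure (c₂ '' T))ᶜ else (closure (c₁ '' T))ᶜ
    refine ⟨⋂ T ∈ S, G T, hSfin.isOpen_biInter fun T _ => ?_, Set.mem_iInter₂.2 fun T hT => ?_, ?_⟩
    · by_cases hx : x ∈ closure (c₁ '' T) <;> simp only [G, hx, if_true, if_false] <;>
        exact isClosed_closure.isOpen_compl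
    · have he := h T (hS ▸ Set.subset_sUnion_of_mem hT) (hSi T hT)
      by_cases hx : x ∈ closure (c₁ '' T)
      · simp only [G, hx, if_true, Set.mem_compl_iff]
        intro hx2
        exact Set.notMem_empty x (he ▸ ⟨hx, hx2⟩)
      · simp [G, hx]
    · intro y hy2 hyU2 hyU1
      by_contra hy1
      obtain ⟨T, hT, hyT⟩ : y ∈ ⋃₀ S := hS ▸ subset_closure ⟨hy2, hy1⟩
      have e1 := Set.mem_iInter₂.1 hyU1 T hT
      have e2 := Set.mem_iInter₂.1 hyU2 T hT
      by_cases hx : x ∈ closure (c₁ '' T)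
      · simp only [G, hx, if_true] at e2
        exact e2 (subset_closure ⟨y, hyT, rfl⟩)
      · simp only [G, hx, if_false] at e1
        exact e1 (subset_closure ⟨y, hyT, rfl⟩)

end Groth.Agent.S18393
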