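import Groth.Statements.S18394
import Groth.Agent.Nagata.Dense

set_option autoImplicit false
universe u v
open LVCorr

namespace Groth.Agent.S18394

open AlgebraicGeometry CategoryTheory in
/-- Let X be a scheme separated and of finite type over a field k, and let (C₁ᵢ, C₂ᵢ), i ranging over a
finite set, be pairs of closed subsets of X with C₁ᵢ and C₂ᵢ disjoint for every i. Then X admits a
compactification in which each pair stays disjoint: there are a scheme X̄ proper over k and an open
immersion j : X → X̄ over k with dense image such that for every i the closures of j(C₁ᵢ) and of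
j(C₂ᵢ) in X̄ do not meet. (The source has k algebraically closed.) -/
theorem result {X : Scheme.{u}} (k : Type u) [Field k]
    (pX : X ⟶ Spec (CommRingCat.of k)) [IsSeparated pX] [QuasiCompact pX] [LocallyOfFiniteType pX]
    {ι : Type v} [Finite ι] (C₁ C₂ : ι → Set X) (h₁ : ∀ i, IsClosed (C₁ i)) (h₂ : ∀ i, IsClosed (C₂ i))
    (hd : ∀ i, C₁ i ∩ C₂ i = ∅) :
    ∃ (Xb : Scheme.{u}) (j : X ⟶ Xb) (p : Xb ⟶ Spec (CommRingCat.of k)),
      IsProper p ∧ IsOpenImmersion j ∧ DenseRange j.base ∧ j ≫ p = pX ∧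
      ∀ i, closure (j.base '' C₁ i) ∩ closure (j.base '' C₂ i) = ∅ := by
  classical
  haveI : IsNoetherianRing k := inferInstance
  obtain ⟨Y₀, j₀, p₀, _, _, _, h₀⟩ := Groth.Agent.S0384.result pX
  haveI := Fintype.ofFinite ι
  obtain ⟨Y, j, p, π, _, _, _, -, -, hjp, hs⟩ :=
    Groth.Agent.Nagata.exists_disjoint_pairs pX C₁ C₂ h₁ h₂ hd j₀ p₀ h₀ Finset.univ
  haveI : QuasiSeparatedSpace Y := quasiSeparatedSpace_of_quasiSeparated p
  haveI : CompactSpace X := QuasiCompact.compactSpace_of_compactSpace pX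
  haveI : QuasiCompact j := quasiCompact_of_compactSpace j
  obtain ⟨i₁, -, -, hdr, i₂, hjp'⟩ := Groth.Agent.Nagata.exists_dense_image pX j p hjp
  refine ⟨_, j.toImage, j.imageι ≫ p, i₂, i₁, hdr, hjp', fun i => ?_⟩
  have hcl : ∀ T : Set X, closure (j.toImage.base '' T) ⊆ j.imageι.base ⁻¹' closure (j.base '' T) := fun T y hy => by
    have h := image_closure_subset_closure_image j.imageι.continuous ⟨y, hy, rfl⟩
    refine closure_mono ?_ h
    rintro _ ⟨_, ⟨x, hx, rfl⟩, rfl⟩
    exact ⟨x, hx, ((Scheme.Hom.comp_apply _ _ _).symm.trans (congrArg (fun k : X ⟶ Y => k x) j.toImage_imageι)).symm⟩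
  rw [← Set.subset_empty_iff]
  intro y hy
  have h : j.imageι.base y ∈ closure (j.base '' C₁ i) ∩ closure (j.base '' C₂ i) := ⟨hcl _ hy.1, hcl _ hy.2⟩
  rw [hs i (Finset.mem_univ i)] at h
  exact h.elim

end Groth.Agent.S18394
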