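import Groth.Statements.S18395
import Groth.Agent.Nagata.Dense
import Groth.Agent.S18394
-- import your own Groth.Agent.* helpers here

set_option autoImplicit false
universe u
open LVCorr

namespace Groth.Agent.S18395

open AlgebraicGeometry CategoryTheory in
/-- Let X and C be schemes separated and of finite type over a field k, let c₁, c₂ : C → X be morphisms
over k (a correspondence C → X × X), and fix an open U ⊆ X whose preimage c₁⁻¹(U) forms a dense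
subset of C, such that the restriction c₁⁻¹(U) → U of c₁ is proper, and the closed subset Z = X ∖ U
is locally invariant: every point x of Z has an open neighbourhood U' such that every y in C with
c₂(y) ∈ Z ∩ U' and c₁(y) ∈ U' satisfies c₁(y) ∈ Z. Then the correspondence has a compactification
for which the complement of U is again locally invariant: there are schemes C̄ and X̄ proper over k,
open immersions j : C → C̄ and jX : X → X̄ over k with dense images, and morphisms c̄₁, c̄₂ : C̄ →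
X̄ over k with j followed by c̄ᵢ equal to cᵢ followed by jX, such that X̄ ∖ jX(U) is locally
invariant for (c̄₁, c̄₂) in the same sense. (The source has k algebraically closed.) -/
theorem result {C X : Scheme.{u}} (k : Type u) [Field k]
    (pC : C ⟶ Spec (CommRingCat.of k)) [IsSeparated pC] [QuasiCompact pC] [LocallyOfFiniteType pC]
    (pX : X ⟶ Spec (CommRingCat.of k)) [IsSeparated pX] [QuasiCompact pX] [LocallyOfFiniteType pX]
    (c₁ c₂ : C ⟶ X) (hc₁ : c₁ ≫ pX = pC) (hc₂ : c₂ ≫ pX = pC) (U : X.Opens)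
    (hU : Dense ((c₁ ⁻¹ᵁ U : C.Opens) : Set C)) [IsProper (c₁ ∣_ U)]
    (hZ : ∀ x ∈ ((U : Set X)ᶜ), ∃ U' : Set X, IsOpen U' ∧ x ∈ U' ∧
        ∀ y, c₂.base y ∈ ((U : Set X)ᶜ) → c₂.base y ∈ U' → c₁.base y ∈ U' → c₁.base y ∈ ((U : Set X)ᶜ)) :
    ∃ (Cb Xb : Scheme.{u}) (pCb : Cb ⟶ Spec (CommRingCat.of k)) (pXb : Xb ⟶ Spec (CommRingCat.of k))
      (j : C ⟶ Cb) (jX : X ⟶ Xb) (cb₁ cb₂ : Cb ⟶ Xb),
      IsProper pCb ∧ IsProper pXb ∧ IsOpenImmersion j ∧ IsOpenImmersion jX ∧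
      DenseRange j.base ∧ DenseRange jX.base ∧ j ≫ pCb = pC ∧ jX ≫ pXb = pX ∧
      cb₁ ≫ pXb = pCb ∧ cb₂ ≫ pXb = pCb ∧ j ≫ cb₁ = c₁ ≫ jX ∧ j ≫ cb₂ = c₂ ≫ jX ∧
      ∀ x ∈ ((jX.base '' (U : Set X))ᶜ), ∃ U' : Set Xb, IsOpen U' ∧ x ∈ U' ∧
        ∀ y, cb₂.base y ∈ ((jX.base '' (U : Set X))ᶜ) → cb₂.base y ∈ U' → cb₁.base y ∈ U' → cb₁.base y ∈ ((jX.base '' (U : Set X))ᶜ) := by
  classical
  haveI : CompactSpace C := QuasiCompact.compactSpace_of_compactSpace pC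
  haveI := LocallyOfFiniteType.isLocallyNoetherian pC
  haveI : IsNoetherian C := {}
  let B : Set C := {y | c₁.base y ∈ U ∧ c₂.base y ∉ U}
  have hBfin : (irreducibleComponents B).Finite := TopologicalSpace.NoetherianSpace.finite_irreducibleComponents
  haveI := hBfin.to_subtype
  let T : irreducibleComponents B → Set C := fun m => Subtype.val '' (m.1 : Set B)
  have hTB : ∀ m, T m ⊆ B := fun m y hy => by obtain ⟨z, -, rfl⟩ := hy; exact z.2
  have hTi : ∀ m, IsIrreducible (T m) := fun m =>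
    (m.2.1).image _ continuous_subtype_val.continuousOn
  let K₁ : irreducibleComponents B → Set X := fun m => closure (c₁.base '' T m)
  let K₂ : irreducibleComponents B → Set X := fun m => closure (c₂.base '' T m)
  have hd : ∀ m, K₁ m ∩ K₂ m = ∅ := fun m => by
    rw [← Set.subset_empty_iff]
    rintro x ⟨hx₁, hx₂⟩
    have hxZ : x ∈ ((U : Set X)ᶜ) := by
      refine closure_minimal ?_ U.2.isClosed_compl hx₂
      rintro _ ⟨y, hy, rfl⟩
      exact (hTB m hy).2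
    obtain ⟨U', hU', hxU', hbad⟩ := hZ x hxZ
    obtain ⟨_, h1, y₁, hy₁, rfl⟩ := mem_closure_iff.1 hx₁ U' hU' hxU'
    obtain ⟨_, h2, y₂, hy₂, rfl⟩ := mem_closure_iff.1 hx₂ U' hU' hxU'
    obtain ⟨y, hy, hy1, hy2⟩ := (hTi m).2 _ _ (hU'.preimage c₁.continuous) (hU'.preimage c₂.continuous)
      ⟨y₁, hy₁, h1⟩ ⟨y₂, hy₂, h2⟩
    exact hbad y (hTB m hy).2 hy2 hy1 (hTB m hy).1
  obtain ⟨Xb, jX, pXb, hpXb, hjX, hjXd, hjXp, hpairs⟩ := Groth.Agent.S18394.result k pX K₁ K₂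
    (fun _ => isClosed_closure) (fun _ => isClosed_closure) hd
  obtain ⟨Cb, j, pCb, cb₁, cb₂, hj, -, -, hjd, hpCb, hjp, e₁, e₂, e₃, e₄⟩ := Groth.Agent.Nagata.exists_over_two pC
    pXb pXb (c₁ ≫ jX) (c₂ ≫ jX) (by rw [Category.assoc, hjXp, hc₁]) (by rw [Category.assoc, hjXp, hc₂])
  haveI : IsSeparated (cb₁ ≫ pXb) := e₁ ▸ inferInstance
  haveI : IsSeparated cb₁ := IsSeparated.of_comp cb₁ pXb
  refine ⟨Cb, Xb, pCb, pXb, j, jX, cb₁, cb₂, hpCb, hpXb, hj, hjX, hjd, hjXd, hjp, hjXp, e₁, e₂, e₃, e₄, ?_⟩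
  intro x hx
  let W : irreducibleComponents B → Set Xb := fun m =>
    if x ∈ closure (jX.base '' K₁ m) then (closure (jX.base '' K₂ m))ᶜ else (closure (jX.base '' K₁ m))ᶜ
  refine ⟨⋂ m, W m, isOpen_iInter_of_finite fun m => ?_, Set.mem_iInter.2 fun m => ?_, fun y hy₂ hyW₂ hyW₁ h => ?_⟩
  · simp only [W]
    split_ifs <;> exact isClosed_closure.isOpen_compl
  · simp only [W]
    split_ifs with h
    · exact fun h' => (Set.mem_empty_iff_false x).1 (hpairs m ▸ ⟨h, h'⟩)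
    · exact h
  · have hpre := Groth.Agent.Nagata.preimage_eq_of_dense j hjd (U.ι ≫ jX) cb₁ (c₁ ⁻¹ᵁ U) hU (c₁ ∣_ U)
      (by rw [e₃, morphismRestrict_ι_assoc])
    have hy₁ : y ∈ cb₁ ⁻¹ᵁ (U.ι ≫ jX).opensRange := by
      obtain ⟨u, hu, hue⟩ := h
      exact ⟨⟨u, hu⟩, ((Scheme.Hom.comp_apply _ _ _).trans hue)⟩
    rw [hpre] at hy₁
    obtain ⟨z, hz, rfl⟩ := hy₁
    have q₁ : cb₁.base (j.base z) = jX.base (c₁.base z) :=
      ((Scheme.Hom.comp_apply j cb₁ z).symm.trans (congrArg (fun k : C ⟶ Xb => k z) e₃)).trans (Scheme.Hom.comp_apply _ _ _)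
    have q₂ : cb₂.base (j.base z) = jX.base (c₂.base z) :=
      ((Scheme.Hom.comp_apply j cb₂ z).symm.trans (congrArg (fun k : C ⟶ Xb => k z) e₄)).trans (Scheme.Hom.comp_apply _ _ _)
    have hzB : z ∈ B := ⟨hz, fun hc => hy₂ ⟨_, hc, q₂.symm⟩⟩
    obtain ⟨m, hm, hzm⟩ : ∃ m ∈ irreducibleComponents B, (⟨z, hzB⟩ : B) ∈ m :=
      ⟨irreducibleComponent (⟨z, hzB⟩ : B), irreducibleComponent_mem_irreducibleComponents _, mem_irreducibleComponent⟩
    have hzT : z ∈ T ⟨m, hm⟩ := ⟨⟨z, hzB⟩, hzm, rfl⟩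
    have hW₁ := Set.mem_iInter.1 hyW₁ ⟨m, hm⟩
    have hW₂ := Set.mem_iInter.1 hyW₂ ⟨m, hm⟩
    simp only [W] at hW₁ hW₂
    split_ifs at hW₁ hW₂
    · exact hW₂ (subset_closure ⟨_, subset_closure ⟨z, hzT, rfl⟩, q₂.symm⟩)
    · exact hW₁ (subset_closure ⟨_, subset_closure ⟨z, hzT, rfl⟩, q₁.symm⟩)

end Groth.Agent.S18395
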