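import Groth.Statements.S18396
import Groth.Agent.FpqcDescent.IdealGlue
import Mathlib.AlgebraicGeometry.Morphisms.Flat
import Mathlib.FieldTheory.Perfect
import Mathlib.FieldTheory.IsAlgClosed.Basic

set_option autoImplicit false
set_option backward.isDefEq.respectTransparency false
set_option linter.style.haveILetI false
universe u
open LVCorr

namespace Groth.Agent.S18396

open AlgebraicGeometry CategoryTheory Limits TopologicalSpace
open Groth.Agent

theorem frob_pow (X : Scheme.{u}) (p : ℕ) [Fact p.Prime] [FrobSch.IsCharP X p] (m : ℕ) :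
    (∀ z, End.asHom (End.of (FrobSch.frob X p) ^ m) z = z) ∧
    ∀ (U : X.Opens) (e : U ≤ End.asHom (End.of (FrobSch.frob X p) ^ m) ⁻¹ᵁ U) (s : Γ(X, U)),
      (Scheme.Hom.appLE (End.asHom (End.of (FrobSch.frob X p) ^ m)) U U e).hom s = s ^ (p ^ m) := by
  induction m with
  | zero =>
    refine ⟨fun z => rfl, fun U e s => ?_⟩
    show ((𝟙 X : X ⟶ X).appLE U U e).hom s = _
    rw [pow_zero, pow_one]
    simp [Scheme.Hom.appLE]
    show (X.presheaf.map (𝟙 (Opposite.op U))).hom s = s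
    rw [X.presheaf.map_id]
    rfl
  | succ m ih =>
    have hs : End.asHom (End.of (FrobSch.frob X p) ^ (m + 1)) = FrobSch.frob X p ≫ End.asHom (End.of (FrobSch.frob X p) ^ m) := by
      rw [pow_succ]
      rfl
    refine ⟨fun z => ?_, fun U e s => ?_⟩
    · rw [hs, Scheme.Hom.comp_apply, FrobSch.frob_apply, ih.1]
    · have e1 : U ≤ End.asHom (End.of (FrobSch.frob X p) ^ m) ⁻¹ᵁ U := fun z hz => by
        show End.asHom (End.of (FrobSch.frob X p) ^ m) z ∈ U
        rw [ih.1]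
        exact hz
      have key : ∀ (g : X ⟶ X) (e0 : U ≤ g ⁻¹ᵁ U), g = FrobSch.frob X p ≫ End.asHom (End.of (FrobSch.frob X p) ^ m) →
          (g.appLE U U e0).hom s = s ^ (p ^ (m + 1)) := by
        rintro g e0 rfl
        rw [← Scheme.Hom.appLE_comp_appLE (FrobSch.frob X p) _ U U U e1 le_rfl, CommRingCat.comp_apply, ih.2]
        show (X.presheaf.map (𝟙 (Opposite.op U))).hom ((s ^ p ^ m) ^ p) = _
        rw [X.presheaf.map_id, ← pow_mul, pow_succ]
        rfl
      exact key _ e hs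

theorem mem_radical_of_forall {X : Scheme.{u}} {W : X.Opens} (hW : IsAffineOpen W) (a : Ideal Γ(X, W)) (c : Γ(X, W))
    (h : ∀ z, z ∈ X.zeroLocus (U := W) (a : Set Γ(X, W)) → z ∈ W → z ∉ X.basicOpen c) : c ∈ a.radical := by
  rw [Ideal.radical_eq_sInf, Ideal.mem_sInf]
  rintro P ⟨hP, hPp⟩
  let Q : PrimeSpectrum Γ(X, W) := ⟨P, hPp⟩
  have hmem : ∀ s, hW.fromSpec Q ∈ X.basicOpen s ↔ s ∉ P := fun s => by
    show Q ∈ hW.fromSpec ⁻¹ᵁ X.basicOpen s ↔ _
    rw [hW.fromSpec_preimage_basicOpen]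
    rfl
  by_contra hc
  refine h (hW.fromSpec Q) ((Scheme.mem_zeroLocus_iff _ _ _).mpr fun s hs hm => (hmem s).mp hm (hP hs)) ?_ ((hmem c).mpr hc)
  have : hW.fromSpec Q ∈ Set.range hW.fromSpec := ⟨Q, rfl⟩
  rwa [hW.range_fromSpec] at this

theorem qth_root {C C₀ : Scheme.{u}} (p : ℕ) [Fact p.Prime] (k₀ : Type u) [Field k₀] (K : Type u) [Field K]
    [Algebra k₀ K] [ExpChar K p] [PerfectRing K p] (f₀ : C₀ ⟶ Spec (CommRingCat.of k₀)) [FrobSch.IsCharP C₀ p]
    [FrobSch.IsCharP C p] (πC₀ : C ⟶ C₀) (πK : C ⟶ Spec (CommRingCat.of K))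
    (hC : IsPullback πC₀ πK f₀ (Spec.map (CommRingCat.ofHom (algebraMap k₀ K)))) (m : ℕ) (Fr : C ⟶ C)
    (h₀ : Fr ≫ πC₀ = πC₀ ≫ End.asHom (End.of (FrobSch.frob C₀ p) ^ m)) (hK : Fr ≫ πK = πK)
    (U₀ : C₀.affineOpens) (eW : πC₀ ⁻¹ᵁ U₀.1 ≤ Fr ⁻¹ᵁ (πC₀ ⁻¹ᵁ U₀.1)) (a : Γ(C, πC₀ ⁻¹ᵁ U₀.1)) :
    ∃ c, (Fr.appLE _ (πC₀ ⁻¹ᵁ U₀.1) eW).hom a = c ^ (p ^ m) := by
  let W := πC₀ ⁻¹ᵁ U₀.1
  let q := p ^ m
  have hp0 : (p : Γ(C, W)) = 0 := FrobSch.natCast_eq_zero_app C p W
  let φ := (Fr.appLE W W eW).hom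
  let S : Subring Γ(C, W) :=
    { carrier := {a | ∃ c, φ a = c ^ q}
      zero_mem' := ⟨0, by rw [map_zero, zero_pow (pow_ne_zero _ (Fact.out : p.Prime).ne_zero)]⟩
      one_mem' := ⟨1, by rw [map_one, one_pow]⟩
      mul_mem' := fun ⟨c, hc⟩ ⟨c', hc'⟩ => ⟨c * c', by rw [map_mul, hc, hc', mul_pow]⟩
      add_mem' := fun ⟨c, hc⟩ ⟨c', hc'⟩ => ⟨c + c', by
        rcases subsingleton_or_nontrivial Γ(C, W) with h | h
        · exact Subsingleton.elim _ _
        · haveI : CharP Γ(C, W) p := (CharP.charP_iff_prime_eq_zero Fact.out).2 hp0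
          rw [map_add, hc, hc', add_pow_char_pow]⟩
      neg_mem' := fun {x} ⟨c, hc⟩ => ⟨-c, by
        rcases subsingleton_or_nontrivial Γ(C, W) with h | h
        · exact Subsingleton.elim _ _
        · haveI : CharP Γ(C, W) p := (CharP.charP_iff_prime_eq_zero Fact.out).2 hp0
          rw [map_neg, hc]
          have := add_pow_char_pow (x := c) (y := -c) (p := p) (n := m)
          rw [add_neg_cancel, zero_pow (pow_ne_zero _ (Fact.out : p.Prime).ne_zero)] at this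
          linear_combination this⟩ }
  have hpo := (isIso_pushoutSection_iff hC (US := ⊤) (UX := U₀.1) (UT := ⊤) (UY := W) le_top le_top (by simp [W])).mp
    (isIso_pushoutSection_of_isAffineOpen hC le_top le_top (by simp [W]) (isAffineOpen_top _) (isAffineOpen_top _) U₀.2)
  let g₁ := πC₀.appLE U₀.1 W le_rfl
  let g₂ := πK.appLE ⊤ W le_top
  have h1 : ∀ b, g₁.hom b ∈ S := fun b => by
    refine ⟨g₁.hom b, ?_⟩
    have e1 : U₀.1 ≤ End.asHom (End.of (FrobSch.frob C₀ p) ^ m) ⁻¹ᵁ U₀.1 := fun z hz => by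
      show End.asHom (End.of (FrobSch.frob C₀ p) ^ m) z ∈ U₀.1
      rw [(frob_pow C₀ p m).1]
      exact hz
    have key : ∀ (g : C ⟶ C₀) (e : W ≤ g ⁻¹ᵁ U₀.1), g = πC₀ ≫ End.asHom (End.of (FrobSch.frob C₀ p) ^ m) →
        (g.appLE U₀.1 W e).hom b = (g₁.hom b) ^ q := by
      rintro g e rfl
      rw [← Scheme.Hom.appLE_comp_appLE πC₀ _ U₀.1 U₀.1 W e1 le_rfl, CommRingCat.comp_apply, (frob_pow C₀ p m).2, map_pow]
    show φ (g₁.hom b) = _
    rw [← key (Fr ≫ πC₀) (fun z hz => eW hz) h₀, ← Scheme.Hom.appLE_comp_appLE Fr πC₀ U₀.1 W W le_rfl eW]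
    rfl
  have h2 : ∀ t, g₂.hom t ∈ S := fun t => by
    let α := (Scheme.ΓSpecIso (CommRingCat.of K))
    obtain ⟨t', ht'⟩ := (bijective_iterateFrobenius K p m).2 (α.hom t)
    refine ⟨g₂.hom (α.inv t'), ?_⟩
    have key : ∀ (g : C ⟶ Spec (CommRingCat.of K)) (e : W ≤ g ⁻¹ᵁ ⊤), g = πK →
        (g.appLE ⊤ W e).hom t = g₂.hom t := by
      rintro g e rfl; rfl
    show φ (g₂.hom t) = _
    rw [← map_pow, ← map_pow, ← iterateFrobenius_def p m t', ht', Iso.hom_inv_id_apply]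
    refine Eq.trans ?_ (key (Fr ≫ πK) le_top hK)
    rw [← Scheme.Hom.appLE_comp_appLE Fr πK ⊤ W W le_top eW]
    rfl
  let i₁ : Γ(C₀, U₀.1) ⟶ CommRingCat.of S := CommRingCat.ofHom (g₁.hom.codRestrict S h1)
  let i₂ : Γ(Spec (CommRingCat.of K), ⊤) ⟶ CommRingCat.of S := CommRingCat.ofHom (g₂.hom.codRestrict S h2)
  let incl : CommRingCat.of S ⟶ Γ(C, W) := CommRingCat.ofHom S.subtype
  have hmono : Mono incl := ConcreteCategory.mono_of_injective _ Subtype.val_injective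
  have hd : hpo.desc i₁ i₂ (by rw [← cancel_mono incl, Category.assoc, Category.assoc]; exact hpo.w) ≫ incl = 𝟙 _ := by
    apply hpo.hom_ext
    · rw [IsPushout.inl_desc_assoc, Category.comp_id]; rfl
    · rw [IsPushout.inr_desc_assoc, Category.comp_id]; rfl
  have : a ∈ S := by
    rw [show a = incl ((hpo.desc i₁ i₂ _).hom a) from (congr($hd a)).symm]
    exact Subtype.prop _
  exact this

open AlgebraicGeometry CategoryTheory in
/-- A sufficiently Frobenius-twisted correspondence is contracting near an invariant closed subscheme.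
Let k₀ be a finite field with p^e elements, K an algebraic closure of k₀, C₀ a scheme over k₀ and C
= C₀ ×_{k₀} Spec K with its two projections; let Fr : C → C be the n-th power of the geometric
Frobenius of C, i.e. the endomorphism over K whose composite with the projection to C₀ is that
projection followed by the (e·n)-th power of the absolute p-Frobenius of C₀. Let c₁, c₂ : C → X be
morphisms to a scheme X, I a quasi-coherent sheaf of ideals on X with zero locus Z, J the inverse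
image ideal sheaf of I under c₂, and d a natural number with (√J)^d ⊂ J and d < p^(e n). If c₁ ∘ Fr
maps c₂⁻¹(Z) into Z set-theoretically, then the inverse image ideal sheaf L of I under c₁ ∘ Fr
satisfies L ⊂ J and L^d ⊂ J^(d+1); that is, the twisted correspondence (c₁ ∘ Fr, c₂) stabilizes Z
and is contracting near Z. (In the source the correspondence is defined over k₀, the twist is
written with the geometric Frobenius of X, which gives the same first component, and d is the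
ramification of c₂ at Z, the least exponent with (√J)^d ⊂ J; only the k₀-structure of C and the
inequality (√J)^d ⊂ J are used.) -/
theorem result {C C₀ X : Scheme.{u}} (p : ℕ) [Fact p.Prime]
    (k₀ : Type u) [Field k₀] [Fintype k₀] [CharP k₀ p] (e : ℕ) (hq : Fintype.card k₀ = p ^ e)
    (K : Type u) [Field K] [Algebra k₀ K] [IsAlgClosure k₀ K]
    (f₀ : C₀ ⟶ Spec (CommRingCat.of k₀)) [FrobSch.IsCharP C₀ p]
    (πC₀ : C ⟶ C₀) (πK : C ⟶ Spec (CommRingCat.of K))
    (hC : IsPullback πC₀ πK f₀ (Spec.map (CommRingCat.ofHom (algebraMap k₀ K))))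
    (n : ℕ) (Fr : C ⟶ C)
    (hFr₀ : Fr ≫ πC₀ = πC₀ ≫ End.asHom (End.of (FrobSch.frob C₀ p) ^ (e * n)))
    (hFrK : Fr ≫ πK = πK)
    (c₁ c₂ : C ⟶ X) (I : X.IdealSheafData) (d : ℕ)
    (hd : (I.comap c₂).radical ^ d ≤ I.comap c₂) (hn : d < p ^ (e * n))
    (hinv : (Fr ≫ c₁).base '' (c₂.base ⁻¹' (I.support : Set X)) ⊆ (I.support : Set X)) :
    I.comap (Fr ≫ c₁) ≤ I.comap c₂ ∧ I.comap (Fr ≫ c₁) ^ d ≤ I.comap c₂ ^ (d + 1) := by
  classical
  let m := e * n
  let q := p ^ m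
  haveI : CharP K p := charP_of_injective_algebraMap (algebraMap k₀ K).injective p
  haveI : IsAlgClosed K := IsAlgClosure.isAlgClosed k₀
  haveI : ExpChar K p := ExpChar.prime Fact.out
  haveI : IsAffineHom πC₀ := MorphismProperty.of_isPullback hC.flip inferInstance
  haveI : FrobSch.IsCharP C p := FrobSch.IsCharP.of_hom πC₀ p
  let F := End.asHom (End.of (FrobSch.frob C₀ p) ^ m)
  have hF : ∀ z, F z = z := fun z => (frob_pow C₀ p m).1 z
  have hFr₀' : Fr ≫ πC₀ = πC₀ ≫ F := hFr₀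
  let L := I.comap (Fr ≫ c₁)
  let J := I.comap c₂
  have key : ∀ U₀ : C₀.affineOpens, L.ideal ⟨πC₀ ⁻¹ᵁ U₀.1, U₀.2.preimage _⟩ ≤ J.radical.ideal ⟨πC₀ ⁻¹ᵁ U₀.1, U₀.2.preimage _⟩ ^ q := by
    intro U₀
    let W : C.affineOpens := ⟨πC₀ ⁻¹ᵁ U₀.1, U₀.2.preimage _⟩
    have eW : W.1 ≤ Fr ⁻¹ᵁ W.1 := fun z hz => by
      show πC₀ (Fr z) ∈ U₀.1
      rw [← Scheme.Hom.comp_apply, hFr₀', Scheme.Hom.comp_apply, hF]
      exact hz
    have hroot : ∀ a, ∃ c, (Fr.appLE W.1 W.1 eW).hom a = c ^ q :=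
      qth_root p k₀ K f₀ πC₀ πK hC m Fr hFr₀' hFrK U₀ eW
    rw [show L.ideal W = ((I.comap c₁).comap Fr).ideal W by rw [← Scheme.IdealSheafData.comap_comp],
      FpqcDescent.ideal_comap_appLE _ Fr W W eW, Ideal.map_le_iff_le_comap]
    intro a ha
    obtain ⟨c, hc⟩ := hroot a
    rw [Ideal.mem_comap, hc]
    refine Ideal.pow_mem_pow ?_ _
    rw [Scheme.IdealSheafData.radical_ideal]
    refine mem_radical_of_forall W.2 _ _ fun z hz hzW hzc => ?_
    have hzJ : z ∈ J.support := (J.mem_support_iff_of_mem (U := W) hzW).mpr hz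
    have hzL : z ∈ L.support := by
      rw [show L = I.comap (Fr ≫ c₁) from rfl, Scheme.IdealSheafData.support_comap]
      exact hinv ⟨z, by
        rw [show J = I.comap c₂ from rfl, Scheme.IdealSheafData.support_comap] at hzJ
        exact hzJ, rfl⟩
    have hcq : c ^ q ∈ L.ideal W := by
      rw [← hc, show L.ideal W = ((I.comap c₁).comap Fr).ideal W by rw [← Scheme.IdealSheafData.comap_comp],
        FpqcDescent.ideal_comap_appLE _ Fr W W eW]
      exact Ideal.mem_map_of_mem _ ha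
    refine (Scheme.mem_zeroLocus_iff _ _ _).mp ((L.mem_support_iff_of_mem (U := W) hzW).mp hzL) _ hcq ?_
    rw [C.basicOpen_pow c (pow_pos (Fact.out : p.Prime).pos _)]
    exact hzc
  have hcov : ⨆ U₀ : C₀.affineOpens, πC₀ ⁻¹ᵁ U₀.1 = ⊤ := top_le_iff.mp fun z _ => by
    obtain ⟨U, hU, hzU, -⟩ := exists_isAffineOpen_mem_and_subset (X := C₀) (U := ⊤) (trivial : πC₀ z ∈ (⊤ : C₀.Opens))
    exact TopologicalSpace.Opens.mem_iSup.mpr ⟨⟨U, hU⟩, hzU⟩
  constructor
  · refine Scheme.IdealSheafData.le_of_iSup_eq_top (fun U₀ : C₀.affineOpens => ⟨_, U₀.2.preimage πC₀⟩) hcov fun U₀ => ?_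
    refine (key U₀).trans ((Ideal.pow_le_pow_right hn.le).trans ?_)
    exact Scheme.IdealSheafData.le_def.mp hd _
  · refine Scheme.IdealSheafData.le_of_iSup_eq_top (fun U₀ : C₀.affineOpens => ⟨_, U₀.2.preimage πC₀⟩) hcov fun U₀ => ?_
    simp only [Scheme.IdealSheafData.ideal_pow, Pi.pow_apply]
    refine (Ideal.pow_right_mono (key U₀) d).trans ?_
    rw [← pow_mul, mul_comm q d, pow_mul]
    refine (Ideal.pow_right_mono ?_ q).trans (Ideal.pow_le_pow_right hn)
    exact Scheme.IdealSheafData.le_def.mp hd _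

end Groth.Agent.S18396
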