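import Groth.Statements.S18398
import Groth.Agent.ThickSys.Sheaf

set_option autoImplicit false
universe u
open LVCorr

namespace Groth.Agent.S18398
section
open CategoryTheory CategoryTheory.Limits AlgebraicGeometry

lemma pow_mono {X : Scheme.{u}} {I J : X.IdealSheafData} (h : I ≤ J) (n : ℕ) : I ^ n ≤ J ^ n := fun U => by
  rw [Scheme.IdealSheafData.ideal_pow, Scheme.IdealSheafData.ideal_pow, Pi.pow_apply, Pi.pow_apply]
  exact Ideal.pow_right_mono (h U) n

lemma pow_anti {X : Scheme.{u}} (I : X.IdealSheafData) {a b : ℕ} (h : a ≤ b) : I ^ b ≤ I ^ a := fun U => by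
  rw [Scheme.IdealSheafData.ideal_pow, Scheme.IdealSheafData.ideal_pow, Pi.pow_apply, Pi.pow_apply]
  exact Ideal.pow_le_pow_right h

/-- pullback by the Frobenius lands in the `p`-th power. -/
lemma comap_frob_le (X : Scheme.{u}) (p : ℕ) [Fact p.Prime] [FrobSch.IsCharP X p] (K : X.IdealSheafData) :
    K.comap (FrobSch.frob X p) ≤ K ^ p := by
  have : IsAffineHom (FrobSch.frob X p) := ⟨fun U hU => by rwa [FrobSch.frob_preimage]⟩
  rw [← Scheme.IdealSheafData.le_map_iff_comap_le]
  intro U x hx
  rw [Scheme.IdealSheafData.ideal_map_of_isAffineHom, Ideal.mem_comap, Scheme.IdealSheafData.ideal_pow,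
    Pi.pow_apply]
  exact Ideal.pow_mem_pow hx p

lemma comap_frob_pow_le (X : Scheme.{u}) (p : ℕ) [Fact p.Prime] [FrobSch.IsCharP X p] :
    ∀ (m : ℕ) (K : X.IdealSheafData),
      K.comap (End.asHom (End.of (FrobSch.frob X p) ^ m)) ≤ K ^ (p ^ m)
  | 0, K => by
    show K.comap (𝟙 X) ≤ K ^ (p ^ 0)
    rw [Scheme.IdealSheafData.comap_id, pow_zero, pow_one]
  | m + 1, K => by
    have e : End.asHom (End.of (FrobSch.frob X p) ^ (m + 1)) =
        FrobSch.frob X p ≫ End.asHom (End.of (FrobSch.frob X p) ^ m) := by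
      rw [pow_succ]; rfl
    rw [e, Scheme.IdealSheafData.comap_comp]
    calc (K.comap (End.asHom (End.of (FrobSch.frob X p) ^ m))).comap (FrobSch.frob X p)
        ≤ (K ^ (p ^ m)).comap (FrobSch.frob X p) :=
          Scheme.IdealSheafData.comap_mono (f := FrobSch.frob X p) (comap_frob_pow_le X p m K)
      _ = (K.comap (FrobSch.frob X p)) ^ (p ^ m) := ThickSys.comap_pow K _ _
      _ ≤ (K ^ p) ^ (p ^ m) := pow_mono (comap_frob_le X p K) _
      _ = K ^ (p ^ (m + 1)) := by rw [← pow_mul, pow_succ']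

end

open AlgebraicGeometry CategoryTheory in

/-- In the corrected form which its proof establishes. Let k₀ be a finite field with p^e elements, K an
algebraic closure of k₀, C₀ a scheme over k₀, C = C₀ ×_{k₀} Spec K with its projections and Fr : C →
C the n-th power of the geometric Frobenius (over K, compatible with the (e·n)-th power of the
absolute p-Frobenius of C₀). Let πX₀ : X → X₀ be a morphism of schemes, c₁ : C → X a morphism lying
over some c₁₀ : C₀ → X₀, c₂ : C → X any morphism, and I₀ a quasi-coherent sheaf of ideals on X₀ with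
inverse image I on X and zero locus Z (a closed subscheme defined over k₀ when X = X₀ ×_{k₀} Spec
K). Suppose that Z is invariant, i.e. c₁ maps c₂⁻¹(Z) into Z set-theoretically, and that d < p^(e n)
satisfies (√J)^d ⊂ J for the inverse image ideal J of I under c₂. Then the inverse image ideal L of
I under c₁ ∘ Fr satisfies L ⊂ J and L^d ⊂ J^(d+1): the twisted correspondence is contracting near Z.
(The published statement assumes only that Z is locally invariant and concludes that the twisted
correspondence is contracting near Z in a neighbourhood of its fixed points; that implication fails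
when the Frobenius permutes the irreducible components of the closure of c₂⁻¹(Z) ∖ c₁⁻¹(Z), for
instance for C the disjoint union of two conjugate affine lines over the quadratic extension of k₀
mapped into the affine plane and Z a pair of conjugate points. What the proof does show is that
invariance of a subscheme defined over k₀ passes to the twisted correspondence, which together with
the contraction criterion for invariant subschemes gives the statement here.) -/
theorem result {C C₀ X X₀ : Scheme.{u}} (p : ℕ)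
    [Fact p.Prime] (k₀ : Type u) [Field k₀] [Fintype k₀] [CharP k₀ p] (e : ℕ)
    (hq : Fintype.card k₀ = p ^ e) (K : Type u) [Field K] [Algebra k₀ K] [IsAlgClosure k₀ K]
    (f₀ : C₀ ⟶ Spec (CommRingCat.of k₀)) [FrobSch.IsCharP C₀ p]
    (πC₀ : C ⟶ C₀) (πK : C ⟶ Spec (CommRingCat.of K))
    (hC : IsPullback πC₀ πK f₀ (Spec.map (CommRingCat.ofHom (algebraMap k₀ K))))
    (n : ℕ) (Fr : C ⟶ C)
    (hFr₀ : Fr ≫ πC₀ = πC₀ ≫ End.asHom (End.of (FrobSch.frob C₀ p) ^ (e * n)))
    (hFrK : Fr ≫ πK = πK)
    (πX₀ : X ⟶ X₀) (c₁ c₂ : C ⟶ X) (c₁₀ : C₀ ⟶ X₀) (hc₁₀ : c₁ ≫ πX₀ = πC₀ ≫ c₁₀)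
    (I₀ : X₀.IdealSheafData) (d : ℕ)
    (hd : ((I₀.comap πX₀).comap c₂).radical ^ d ≤ (I₀.comap πX₀).comap c₂) (hn : d < p ^ (e * n))
    (hinv : c₁.base '' (c₂.base ⁻¹' ((I₀.comap πX₀).support : Set X)) ⊆
      ((I₀.comap πX₀).support : Set X)) :
    (I₀.comap πX₀).comap (Fr ≫ c₁) ≤ (I₀.comap πX₀).comap c₂ ∧
      (I₀.comap πX₀).comap (Fr ≫ c₁) ^ d ≤ (I₀.comap πX₀).comap c₂ ^ (d + 1) := by
  let I : X.IdealSheafData := I₀.comap πX₀
  let J := I.comap c₂
  have h1 : I.comap (Fr ≫ c₁) ≤ (I.comap c₁) ^ (p ^ (e * n)) := by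
    have e1 : I.comap (Fr ≫ c₁) = ((I₀.comap c₁₀).comap
        (End.asHom (End.of (FrobSch.frob C₀ p) ^ (e * n)))).comap πC₀ := by
      simp only [I, ← Scheme.IdealSheafData.comap_comp]
      congr 1
      rw [Category.assoc, hc₁₀, ← Category.assoc, hFr₀, Category.assoc]
    have e2 : I.comap c₁ = (I₀.comap c₁₀).comap πC₀ := by
      simp only [I, ← Scheme.IdealSheafData.comap_comp, hc₁₀]
    rw [e1, e2, ← ThickSys.comap_pow]
    exact Scheme.IdealSheafData.comap_mono (f := πC₀) (comap_frob_pow_le C₀ p _ _)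
  have h2 : I.comap c₁ ≤ J.radical := by
    rw [← Scheme.IdealSheafData.vanishingIdeal_support]
    refine Scheme.IdealSheafData.le_support_iff_le_vanishingIdeal.1 ?_
    intro x hx
    change x ∈ (J.support : Set C) at hx
    change x ∈ ((I.comap c₁).support : Set C)
    rw [Scheme.IdealSheafData.support_comap] at hx ⊢
    exact hinv ⟨x, hx, rfl⟩
  have h3 : I.comap (Fr ≫ c₁) ≤ J.radical ^ (p ^ (e * n)) := h1.trans (pow_mono h2 _)
  refine ⟨h3.trans ((pow_anti _ hn.le).trans hd), ?_⟩
  calc I.comap (Fr ≫ c₁) ^ d ≤ (J.radical ^ (p ^ (e * n))) ^ d := pow_mono h3 d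
    _ = (J.radical ^ d) ^ (p ^ (e * n)) := by rw [← pow_mul, ← pow_mul, mul_comm]
    _ ≤ J ^ (p ^ (e * n)) := pow_mono hd _
    _ ≤ J ^ (d + 1) := pow_anti _ hn

end Groth.Agent.S18398
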