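import Groth.Statements.S18399
import Mathlib.RingTheory.Nakayama
import Mathlib.RingTheory.Ideal.Cotangent
import Mathlib.RingTheory.RegularLocalRing.Defs

set_option autoImplicit false
set_option backward.isDefEq.respectTransparency false
set_option linter.style.haveILetI false
universe u
open CAlg

namespace Groth.Agent.S18399

/-- Let k be a field and A a regular local k-algebra with residue field k (the structure map from k onto
the residue field of A is surjective), let σ be a k-algebra endomorphism of A of finite order n with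
n invertible in k, and let I_σ be the ideal of A generated by the elements f - σ f. Then I_σ is
generated by finitely many elements of the maximal ideal whose classes in the cotangent space m/m^2
are linearly independent over the residue field. (Such elements are part of a regular system of
parameters of A, hence part of a regular sequence, which is the printed conclusion; the generators
with independent classes are what the argument produces.) -/
theorem result {k : Type u} [Field k] {A : Type u} [CommRing A] [Algebra k A] [IsRegularLocalRing A] (hres : Function.Surjective ⇑(algebraMap k (IsLocalRing.ResidueField A))) (σ : A →ₐ[k] A) (n : ℕ) (hσ : ∀ a : A, (⇑σ)^[n] a = a) (hn : (n : k) ≠ 0) : ∃ (m : ℕ) (f : Fin m → ↥(IsLocalRing.maximalIdeal A)), Ideal.span (Set.range fun i : Fin m => (f i : A)) = Ideal.span (Set.range fun a : A => a - σ a) ∧ LinearIndependent (IsLocalRing.ResidueField A) (fun i : Fin m => (IsLocalRing.maximalIdeal A).toCotangent (f i)) := by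
  classical
  let m := IsLocalRing.maximalIdeal A
  let κ := IsLocalRing.ResidueField A
  have hn0 : 0 < n := Nat.pos_of_ne_zero fun h => hn (by simp [h])
  have hbij : Function.Bijective σ := by
    refine ⟨fun a b h => ?_, fun a => ⟨(⇑σ)^[n - 1] a, ?_⟩⟩
    · rw [← hσ a, ← hσ b, show n = (n - 1) + 1 by omega, Function.iterate_succ_apply,
        Function.iterate_succ_apply, h]
    · rw [← Function.iterate_succ_apply' σ, show (n - 1).succ = n by omega, hσ]
  have hσm : ∀ a ∈ m, σ a ∈ m := fun a ha => by
    rw [IsLocalRing.mem_maximalIdeal, mem_nonunits_iff] at ha ⊢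
    intro hu
    exact ha ((MulEquiv.isUnit_map (f := (AlgEquiv.ofBijective σ hbij).toMulEquiv)).mp hu)
  have hdiff : ∀ a : A, a - σ a ∈ m := fun a => by
    obtain ⟨c, hc⟩ := hres (IsLocalRing.residue A a)
    have h1 : a - algebraMap k A c ∈ m := by
      rw [← IsLocalRing.residue_eq_zero_iff, map_sub, sub_eq_zero, ← hc]
      rfl
    have h2 := m.sub_mem h1 (hσm _ h1)
    rwa [map_sub, AlgHom.commutes, sub_sub_sub_cancel_right] at h2
  set I : Ideal A := Ideal.span (Set.range fun a : A => a - σ a) with hI
  have hmem : ∀ a, a - σ a ∈ I := fun a => Ideal.subset_span ⟨a, rfl⟩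
  let δ : A →ₗ[k] A := LinearMap.id - σ.toLinearMap
  have hIm : I ≤ m := Ideal.span_le.mpr (by rintro _ ⟨a, rfl⟩; exact hdiff a)
  -- `(1 - σ)(m²) ⊆ mI`
  have hsq : ∀ z ∈ m * m, z - σ z ∈ m * I := by
    intro z hz
    induction hz using Submodule.mul_induction_on' with
    | mem_mul_mem a ha b hb =>
      have : a * b - σ (a * b) = b * (a - σ a) + σ a * (b - σ b) := by rw [map_mul]; ring
      rw [this]
      exact add_mem (Ideal.mul_mem_mul hb (hmem a)) (Ideal.mul_mem_mul (hσm a ha) (hmem b))
    | add x _ y _ hx hy =>
      rw [map_add, show x + y - (σ x + σ y) = (x - σ x) + (y - σ y) by ring]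
      exact add_mem hx hy
  have hiter : ∀ (z : A) (j : ℕ), z ∈ m * m → (⇑σ)^[j] z ∈ m * m := by
    intro z j hz
    induction j with
    | zero => exact hz
    | succ j ih =>
      rw [Function.iterate_succ_apply']
      have hle : (m * m).map σ ≤ m * m := by
        rw [Ideal.map_mul]
        have : m.map σ ≤ m := Ideal.map_le_iff_le_comap.mpr fun a ha => hσm a ha
        exact Ideal.mul_mono this this
      exact hle (Ideal.mem_map_of_mem σ ih)
  have hU : ∀ a : A, a - σ a ∈ m * m → a - σ a ∈ m * I := by
    intro a ha
    set u := a - σ a with hu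
    have hsum : ∑ j ∈ Finset.range n, (⇑σ)^[j] u = 0 := by
      have : ∀ j, (⇑σ)^[j] u = (⇑σ)^[j] a - (⇑σ)^[j + 1] a := by
        intro j
        induction j with
        | zero => simp [hu]
        | succ j ih => rw [Function.iterate_succ_apply', ih, map_sub, Function.iterate_succ_apply' σ j a,
            Function.iterate_succ_apply' σ (j + 1) a, Function.iterate_succ_apply' σ j a]
      rw [Finset.sum_congr rfl fun j _ => this j, Finset.sum_range_sub' (fun j => (⇑σ)^[j] a) n, hσ]
      simp
    have key : ∀ p : ℕ, δ (∑ j ∈ Finset.range p, j • (⇑σ)^[j] u) + p • (⇑σ)^[p] u =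
        (∑ j ∈ Finset.range (p + 1), (⇑σ)^[j] u) - u := by
      intro p
      induction p with
      | zero => simp
      | succ p ih =>
        have hstep : δ (p • (⇑σ)^[p] u) = p • (⇑σ)^[p] u - p • (⇑σ)^[p + 1] u := by
          rw [map_nsmul, Function.iterate_succ_apply' σ, ← smul_sub]
          rfl
        rw [Finset.sum_range_succ, map_add, hstep, Finset.sum_range_succ _ (p + 1), succ_nsmul,
          add_sub_right_comm, ← ih]
        abel
    have h3 := key n
    rw [Finset.sum_range_succ, hsum, zero_add, hσ, sub_self] at h3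
    set w := ∑ j ∈ Finset.range n, j • (⇑σ)^[j] u
    have hw : w ∈ m * m := Ideal.sum_mem _ fun j _ => nsmul_mem (hiter u j ha) _
    have h4 : u = (-(n : k)⁻¹) • δ w := by
      rw [eq_neg_of_add_eq_zero_left h3, smul_neg, neg_smul, neg_neg, ← Nat.cast_smul_eq_nsmul k,
        inv_smul_smul₀ hn]
    rw [h4, Algebra.smul_def]
    exact Ideal.mul_mem_left _ _ (hsq w hw)
  -- a basis of the image in the cotangent space
  let q : A → IsLocalRing.CotangentSpace A := fun a => m.toCotangent ⟨a - σ a, hdiff a⟩
  obtain ⟨b, hb, hspan, hli⟩ := exists_linearIndependent κ (Set.range q)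
  have hfin : Finite b := hli.finite
  haveI := Fintype.ofFinite b
  choose av hav using fun x : b => hb x.2
  let e := (Fintype.equivFin b).symm
  refine ⟨Fintype.card b, fun i => ⟨av (e i) - σ (av (e i)), hdiff _⟩, ?_, ?_⟩
  · refine le_antisymm (Ideal.span_le.mpr (by rintro _ ⟨i, rfl⟩; exact hmem _)) ?_
    set I' := Ideal.span (Set.range fun i => av (e i) - σ (av (e i))) with hI'
    refine Submodule.le_of_le_smul_of_le_jacobson_bot (I := m) (IsNoetherian.noetherian I)
      (IsLocalRing.maximalIdeal_le_jacobson _) (Ideal.span_le.mpr ?_)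
    rintro _ ⟨a, rfl⟩
    have hqa : q a ∈ Submodule.span κ (Set.range (Subtype.val : b → IsLocalRing.CotangentSpace A)) := by
      rw [Subtype.range_coe, hspan]
      exact Submodule.subset_span ⟨a, rfl⟩
    obtain ⟨c, hc⟩ := (Submodule.mem_span_range_iff_exists_fun κ).mp hqa
    choose ck hck using fun x => hres (c x)
    let a' := a - ∑ x : b, ck x • av x
    have hsum' : a' - σ a' = (a - σ a) - ∑ x : b, ck x • (av x - σ (av x)) := by
      simp only [a', map_sub, map_sum, map_smul, smul_sub, Finset.sum_sub_distrib]
      abel
    have hsm : a' - σ a' ∈ m * m := by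
      rw [← pow_two, ← Ideal.toCotangent_eq_zero m ⟨_, hdiff a'⟩]
      have : (⟨a' - σ a', hdiff a'⟩ : m) =
          ⟨a - σ a, hdiff a⟩ - ∑ x : b, algebraMap k A (ck x) • (⟨av x - σ (av x), hdiff _⟩ : m) := by
        apply Subtype.ext
        rw [Submodule.coe_sub, Submodule.coe_sum]
        simp only [Submodule.coe_smul, smul_eq_mul, hsum', Algebra.smul_def]
      rw [this, map_sub, map_sum, sub_eq_zero]
      refine hc.symm.trans (Finset.sum_congr rfl fun x _ => ?_)
      rw [map_smul, ← hav x]
      show c x • q (av x) = algebraMap k A (ck x) • q (av x)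
      rw [← hck x]
      exact algebraMap_smul κ (algebraMap k A (ck x)) (q (av x))
    show a - σ a ∈ I' ⊔ m • I
    rw [show a - σ a = (∑ x : b, ck x • (av x - σ (av x))) + (a' - σ a') by rw [hsum', add_sub_cancel]]
    refine Submodule.add_mem_sup (Ideal.sum_mem _ fun x _ => ?_) (hU a' hsm)
    rw [Algebra.smul_def]
    exact Ideal.mul_mem_left _ _ (Ideal.subset_span ⟨e.symm x, by simp⟩)
  · have : (fun i => m.toCotangent ⟨av (e i) - σ (av (e i)), hdiff _⟩) = (Subtype.val : b → _) ∘ e :=
      funext fun i => hav (e i)
    exact this ▸ (hli.comp e e.injective)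

end Groth.Agent.S18399
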