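import Groth.Statements.S1840
import Groth.Agent.CycDetLib.Functional

set_option autoImplicit false
set_option linter.style.haveILetI false
universe u v
open CycDet

namespace Groth.Agent.S1840

theorem height_eq_of_surjective {R κ M : Type*} [CommRing R] [CommRing κ] [AddCommGroup M] [Algebra R κ]
    [Module R M] [Module κ M] [IsScalarTower R κ M] (h : Function.Surjective (algebraMap R κ)) :
    Order.height (⊤ : Submodule R M) = Order.height (⊤ : Submodule κ M) :=
  by
  let e : Submodule κ M ≃o Submodule R M :=
    { toFun := fun N => N.restrictScalars R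
      invFun := fun N => { N.toAddSubmonoid with
        smul_mem' := fun c m hm => by
          obtain ⟨r, rfl⟩ := h c
          show algebraMap R κ r • m ∈ N
          rw [IsScalarTower.algebraMap_smul]
          exact N.smul_mem r hm }
      left_inv := fun N => rfl
      right_inv := fun N => rfl
      map_rel_iff' := Iff.rfl }
  rw [← Order.height_orderIso e ⊤, map_top]

/-- Let M be a finite-dimensional vector space over the residue field κ of a local ring R, viewed as an
R-module. There is a κ-linear isomorphism from det_κ(M) to the top exterior power of M sending the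
symbol of an admissible tuple (e₁, …, e_l) to e₁ ∧ … ∧ e_l. -/
theorem result (R : Type u) [CommRing R] [IsLocalRing R] (M : Type v) [AddCommGroup M] [Module R M] [Module (IsLocalRing.ResidueField R) M] [IsScalarTower R (IsLocalRing.ResidueField R) M] [Module.Finite (IsLocalRing.ResidueField R) M] : ∃ Φ : CycDet.Det R M ≃ₗ[IsLocalRing.ResidueField R] (⋀[IsLocalRing.ResidueField R]^((Module.length R M).toNat) M), ∀ e : CycDet.Adm R M (Module.length R M).toNat, Φ (CycDet.symbol R M e) = exteriorPower.ιMulti (IsLocalRing.ResidueField R) ((Module.length R M).toNat) e.1 := by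
  classical
  let κ := IsLocalRing.ResidueField R
  have hsurjR : Function.Surjective (algebraMap R κ) := IsLocalRing.residue_surjective
  haveI : IsSemisimpleModule κ M := inferInstance
  have hl : Module.length R M = (Module.finrank κ M : ℕ∞) := by
    rw [← Module.length_eq_finrank κ M, Module.length_eq_height, Module.length_eq_height]
    exact height_eq_of_surjective hsurjR
  set l := (Module.length R M).toNat with hl'
  have hll : Module.length R M = (l : ℕ∞) := by rw [hl', hl, ENat.toNat_natCast]
  have hdim : Module.finrank κ M = l := by rw [hl', hl, ENat.toNat_natCast]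
  let ι : CycDet.Adm R M l → ⋀[κ]^l M := fun e => exteriorPower.ιMulti κ l e.1
  let Φ₀ : CycDet.Free R M l →ₗ[κ] ⋀[κ]^l M := Finsupp.linearCombination κ ι
  have hz : ∀ (e : Fin l → M) (a : Fin l) (y : M), y ∈ CycDet.spanBefore R M e a →
      exteriorPower.ιMulti κ l (Function.update e a y) = 0 := fun e a y hy => by
    induction hy using Submodule.span_induction with
    | mem z hz =>
      obtain ⟨p, hp, rfl⟩ := hz
      have hpa : p ≠ a := fun h => by subst h; exact lt_irrefl (p : ℕ) hp
      exact AlternatingMap.map_update_self _ _ hpa.symm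
    | zero => exact AlternatingMap.map_update_zero _ _ _
    | add z w _ _ h1 h2 => rw [AlternatingMap.map_update_add, h1, h2, add_zero]
    | smul r z _ h =>
      rw [← IsScalarTower.algebraMap_smul κ r z, AlternatingMap.map_update_smul, h, smul_zero]
  have hrel : Submodule.span κ (CycDet.relSet R M l) ≤ LinearMap.ker Φ₀ := by
    refine Submodule.span_le.2 ?_
    rintro z ((⟨g, a, ha, rfl⟩ | ⟨g, g', a, c, hne, hd, rfl⟩) | ⟨g, g', a, b, hab, hm, he, rfl⟩)
    · show Φ₀ (Finsupp.single g 1) = 0
      rw [Finsupp.linearCombination_single, one_smul]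
      have := hz g.1 a (g.1 a) ha
      rwa [Function.update_eq_self] at this
    · show Φ₀ (CycDet.sym R M g - IsLocalRing.residue R (c : R) • CycDet.sym R M g') = 0
      simp only [Φ₀, CycDet.sym, map_sub, map_smul, Finsupp.linearCombination_single, one_smul, ι]
      have h1 := hz g.1 a _ hd
      rw [AlternatingMap.map_update_sub, Function.update_eq_self, ← IsScalarTower.algebraMap_smul κ (c : R),
        AlternatingMap.map_update_smul] at h1
      rwa [show Function.update g.1 a (g'.1 a) = g'.1 from Function.update_eq_iff.2 ⟨rfl, fun j hj => hne j hj⟩] at h1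
    · show Φ₀ (CycDet.sym R M g + CycDet.sym R M g') = 0
      simp only [Φ₀, CycDet.sym, map_add, Finsupp.linearCombination_single, one_smul, ι]
      rw [he, AlternatingMap.map_swap _ _ (fun h => by subst h; omega), add_neg_cancel]
  let Φ := (Submodule.span κ (CycDet.relSet R M l)).liftQ Φ₀ hrel
  have hΦ : ∀ e : CycDet.Adm R M l, Φ (Groth.Agent.CycDetLib.cls e) = ι e := fun e => by
    show Φ₀ (CycDet.sym R M e) = _
    rw [CycDet.sym, Finsupp.linearCombination_single, one_smul]
  let bas := Module.finBasisOfFinrankEq κ M hdim
  have hadm : ∀ e : Fin l → M, CycDet.IsAdmissible R M e := fun e i r hr => by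
    rw [← IsScalarTower.algebraMap_smul κ r (e i)]
    rw [show algebraMap R κ r = 0 from (IsLocalRing.residue_eq_zero_iff r).2 hr, zero_smul]
    exact Submodule.zero_mem _
  let b₀ : CycDet.Adm R M l := ⟨bas, hadm _⟩
  have hspan : Groth.Agent.CycDetLib.Spans b₀ := by
    refine eq_top_iff.2 fun m _ => ?_
    have := bas.mem_span m
    rw [← Submodule.restrictScalars_span R κ hsurjR]
    exact this
  have hne : ι b₀ ≠ 0 := fun h => by
    have h1 := congrArg (exteriorPower.alternatingMapLinearEquiv bas.det) h
    simp only [ι, b₀, map_zero, exteriorPower.alternatingMapLinearEquiv_apply_ιMulti, Module.Basis.det_self] at h1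
    exact one_ne_zero h1
  have hinj : Function.Injective Φ := by
    rw [injective_iff_map_eq_zero]
    intro z hz0
    obtain ⟨c, rfl⟩ := Groth.Agent.CycDetLib.exists_smul_cls hll hspan z
    rw [map_smul, hΦ, smul_eq_zero] at hz0
    rcases hz0 with h | h
    · rw [h, zero_smul]
    · exact absurd h hne
  have hsurj : Function.Surjective Φ := by
    rw [← LinearMap.range_eq_top, eq_top_iff, ← exteriorPower.ιMulti_span κ l M, Submodule.span_le]
    rintro _ ⟨e, rfl⟩
    exact ⟨Groth.Agent.CycDetLib.cls ⟨e, hadm e⟩, hΦ _⟩
  exact ⟨LinearEquiv.ofBijective Φ ⟨hinj, hsurj⟩, fun e => hΦ e⟩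

end Groth.Agent.S1840
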