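import Groth.Statements.S18400
import Groth.Agent.CycPB.VBundle
import Groth.Agent.S8268

set_option autoImplicit false
universe u
open CategoryTheory AlgebraicGeometry
open Cyc

set_option backward.isDefEq.respectTransparency false
set_option backward.isDefEq.respectTransparency.types false

namespace Groth.Agent.S18400

/-- Let X be a scheme and F ⊂ E an inclusion of vector bundles over X whose quotient E/F is the trivial
line bundle; then the proper pushforward i_* : CH_k(F) → CH_k(E) along the inclusion of total spaces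
is the zero map. In terms of modules: let 0 → O_X → ℰ → ℱ → 0 be a short exact sequence of
O_X-modules with ℰ, ℱ quasi-coherent and finite locally free, E = Spec(Sym ℰ) and F = Spec(Sym ℱ)
the associated vector bundles (given through the relative-spectrum layer: quasi-coherent algebras
A_E, A_F with maps from ℰ, ℱ having the universal property of the symmetric algebra,
RelSpec.IsSymAlg), and i : F → E the morphism of relative spectra induced by the algebra map A_E →
A_F extending ℰ → ℱ (a closed immersion; its quasi-compactness is carried as an instance hypothesis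
so that the pushforward of cycles is defined). Then for every k-cycle α on F, i_*α is rationally
equivalent to zero as a k-cycle on E. Here a pair (X, δ) with Cyc.IsSetup plays the role of a scheme
locally of finite type over a base with a dimension function (the source has X of finite type over a
field; the statement is given for any such pair), Cyc.DeltaCompat records that the dimension
functions on E and F are the induced ones, and i_* is Mathlib's pushforward of cycles. -/
theorem result (X : Scheme.{u}) (δ : X → ℤ) (hX : Cyc.IsSetup X δ) (S : ShortComplex X.Modules) (hS : S.ShortExact) (e : S.X₁ ≅ Coh.structureModule X) (hqE : Coh.IsQCoh S.X₂) (hE : FlatMod.IsFinLocFree S.X₂) (hqF : Coh.IsQCoh S.X₃) (hF : FlatMod.IsFinLocFree S.X₃) (AE : RelSpec.QCAlg X) (jE : S.X₂ ⟶ AE.toModule) (hAE : RelSpec.IsSymAlg S.X₂ AE jE) (AF : RelSpec.QCAlg X) (jF : S.X₃ ⟶ AF.toModule) (hAF : RelSpec.IsSymAlg S.X₃ AF jF) (φ : AE ⟶ AF) (hφ : jE ≫ RelSpec.QCAlg.Hom.toModuleMap φ = S.g ≫ jF) [QuasiCompact (RelSpec.QCAlg.specMap φ)] (δE : ↥AE.spec → ℤ) (hEs : Cyc.IsSetup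 AE.spec δE) (hδE : Cyc.DeltaCompat AE.π δE δ) (δF : ↥AF.spec → ℤ) (hFs : Cyc.IsSetup AF.spec δF) (hδF : Cyc.DeltaCompat AF.π δF δ) (k : ℤ) (α : AlgebraicCycle AF.spec ℤ) (hα : α ∈ Cyc.Zk AF.spec δF k) : Cyc.RatEquivZero δE k (AlgebraicCycle.map (RelSpec.QCAlg.specMap φ) δF δE α) := by
  haveI := hS.epi_g
  haveI : IsClosedImmersion (RelSpec.QCAlg.specMap φ) :=
    S8268.result S.X₂ S.X₃ hqE hqF S.g AE AF jE jF hAE hAF φ hφ
  let i := RelSpec.QCAlg.specMap φ
  have hip : i ≫ AE.π = AF.π := RelSpec.QCAlg.specMap_π φ
  have hd : δF = fun d => δE (i d) := funext fun d => by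
    obtain ⟨m, hm, hm'⟩ := hδF d
    obtain ⟨m', hn, hn'⟩ := CycK0.deltaCompat_closed_comp i AE.π hδE d
    change CycK0.resTr (i ≫ AE.π) d = _ at hn
    change CycK0.resTr AF.π d = _ at hm
    rw [hip, hm, Nat.cast_inj] at hn
    change δE (i d) = δ ((i ≫ AE.π) d) + _ at hn'
    rw [hip] at hn'
    omega
  obtain ⟨t, hch, h1, h2, h3⟩ := CycPB.exists_trivDiv hS e hqE hqF hF AE jE hAE AF jF hAF φ hφ
  subst hd
  exact CycPB.ratEquivZero_trivDiv hX hEs AE.π hδE i t hch h1 h2 h3 α hα

end Groth.Agent.S18400
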