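import Groth.Statements.S18402
-- import your own Groth.Agent.* helpers here
import Groth.Agent.GeomConn.Basic

set_option autoImplicit false
universe u
open Pi1

namespace Groth.Agent.S18402

open AlgebraicGeometry CategoryTheory CategoryTheory.Limits in
/-- Let X be an irreducible scheme and π : W ⟶ X a flat morphism whose fibre over every field-valued
point of X is irreducible (so every fibre is geometrically irreducible and π is surjective). Then
for every finite étale cover Z of X with Z connected, the base change of Z along π is connected.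
Ranging over all finite étale covers of X, this says that the monodromy group of each cover (the
image of the fundamental group in the permutations of a geometric fibre) is unchanged by pullback
along π. The published statement asserts that equality of monodromy groups, for generically finite,
generically étale covers between irreducible algebraic stacks. -/
theorem result {X W : Scheme.{u}}
    [IrreducibleSpace X] (π : W ⟶ X) [Flat π] [GeometricallyIrreducible π]
    (Z : FEt.Cat X) [ConnectedSpace Z.left] :
    ConnectedSpace ↥(pullback Z.hom π) := by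
  haveI : IsFinite Z.hom := Z.prop.1
  haveI : Etale Z.hom := Z.prop.2
  haveI : Flat (pullback.fst Z.hom π) := MorphismProperty.pullback_fst (P := @Flat) _ _ ‹_›
  haveI := Groth.Agent.GeomConn.geometricallyConnected_of_irreducible π
  haveI : Surjective (pullback.fst Z.hom π) := inferInstance
  let q := pullback.fst Z.hom π
  have hne : Nonempty ↥(pullback Z.hom π) := by
    obtain ⟨z⟩ := (inferInstance : Nonempty Z.left)
    exact ⟨(q.surjective z).choose⟩
  refine { toPreconnectedSpace := ?_, toNonempty := hne }
  rw [preconnectedSpace_iff_clopen]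
  intro C hC
  have hsat : ∀ C : Set ↥(pullback Z.hom π), IsClopen C → q ⁻¹' (q '' C) = C := fun C hC => by
    refine Set.Subset.antisymm ?_ (Set.subset_preimage_image _ _)
    rintro t ⟨u, hu, hut⟩
    exact (q.isConnected_preimage_singleton (q u)).isPreconnected.subset_isClopen hC ⟨u, rfl, hu⟩ hut.symm
  have hgen : ∀ C : Set ↥(pullback Z.hom π), IsClopen C → ∀ y z, y ⤳ z → z ∈ q '' C → y ∈ q '' C := by
    rintro C hC y _ hyz ⟨c, hc, rfl⟩
    obtain ⟨c', hc', rfl⟩ := AlgebraicGeometry.Flat.generalizingMap q hyz
    exact ⟨c', hc'.mem_open hC.2 hc, rfl⟩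
  have hcompl : ∀ C : Set ↥(pullback Z.hom π), IsClopen C → q '' Cᶜ = (q '' C)ᶜ := fun C hC => by
    ext z
    refine ⟨?_, fun hz => ?_⟩
    · rintro ⟨c, hc, rfl⟩ h
      exact hc ((hsat C hC).le h)
    · obtain ⟨c, rfl⟩ := q.surjective z
      exact ⟨c, fun hc => hz ⟨c, hc, rfl⟩, rfl⟩
  have hclosed : ∀ C : Set ↥(pullback Z.hom π), IsClopen C → IsClosed (q '' C) := fun C hC => by
    have he : q '' C = ⋃ p ∈ q '' C ∩ Z.hom ⁻¹' {genericPoint X}, closure {p} := by
      ext z
      simp only [Set.mem_iUnion, exists_prop]
      constructor
      · intro hz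
        obtain ⟨y, hy, hyη⟩ := AlgebraicGeometry.Flat.generalizingMap Z.hom
          ((genericPoint_spec X).specializes (Set.mem_univ (Z.hom z)))
        exact ⟨y, ⟨hgen C hC y z hy hz, hyη⟩, specializes_iff_mem_closure.1 hy⟩
      · rintro ⟨p, ⟨hp, -⟩, hz⟩
        by_contra hzn
        have := hgen Cᶜ hC.compl p z (specializes_iff_mem_closure.2 hz) ((hcompl C hC).symm ▸ hzn)
        rw [hcompl C hC] at this
        exact this hp
    rw [he]
    exact ((Scheme.Hom.finite_preimage_singleton Z.hom (genericPoint X)).subset Set.inter_subset_right).isClosed_biUnion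
      fun _ _ => isClosed_closure
  have hD : IsClopen (q '' C) := ⟨hclosed C hC, isClosed_compl_iff.1 (hcompl C hC ▸ hclosed Cᶜ hC.compl)⟩
  haveI : PreconnectedSpace ↥((𝟭 Scheme).obj Z.left) := (inferInstance : PreconnectedSpace Z.left)
  rcases isClopen_iff.1 hD with h | h
  · exact Or.inl (Set.image_eq_empty.1 h)
  · exact Or.inr (by rw [← hsat C hC, h, Set.preimage_univ])

end Groth.Agent.S18402
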