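import Groth.Statements.S18405
import Groth.Agent.Hesse.Transitive

set_option autoImplicit false
universe u
open Cubic

namespace Groth.Agent.S18405

open MvPolynomial in
/-- Let f be a nonzero homogeneous cubic in three variables over ℂ whose plane curve is smooth (at every
nonzero zero of f some partial derivative is nonzero), and let A be an invertible matrix whose
linear substitution X_i ↦ Σ_j A_ij X_j multiplies f by a constant, so that v ↦ A·v is a projective
automorphism of the curve. If A·v is proportional to v for every flex v of the curve (every nonzero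
zero v of f through which some line meets the curve with multiplicity three: there is w linearly
independent from v with f(v + t·w) = t³·f(w) for all t), then A is a scalar matrix: the projective
automorphisms of a smooth plane cubic act faithfully on its flexes. -/
theorem result (f : MvPolynomial (Fin 3) ℂ) (hf : f.IsHomogeneous 3)
    (hf0 : f ≠ 0) (hsm : ∀ v : Fin 3 → ℂ, v ≠ 0 → eval v f = 0 → ∃ i : Fin 3, eval v (pderiv i f) ≠ 0)
    (A : Matrix (Fin 3) (Fin 3) ℂ) (hA : IsUnit A.det)
    (hAf : ∃ c : ℂ, aeval (fun i : Fin 3 => ∑ j : Fin 3, C (A i j) * X j) f = C c * f)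
    (hfix : ∀ v : Fin 3 → ℂ, v ≠ 0 → eval v f = 0 →
      (∃ w : Fin 3 → ℂ, LinearIndependent ℂ ![v, w] ∧ ∀ t : ℂ, eval (v + t • w) f = t ^ 3 * eval w f) →
      ∃ d : ℂ, A.mulVec v = d • v) :
    ∃ c : ℂ, A = c • (1 : Matrix (Fin 3) (Fin 3) ℂ) := by
  obtain ⟨P, k, c, hP, hk, hc, h⟩ := Groth.Agent.Hesse.Flex.exists_hesse hf hsm
  have he : ∀ x, eval (P.mulVec x) f = c * eval x (HesseCubic.form k) := fun x => by
    rw [← Groth.Agent.Hesse.eval_sub, h, map_mul, eval_C]
  obtain ⟨r, hr⟩ := Groth.Agent.Hesse.Flex.scalar_of_fix (B := P⁻¹ * A * P) (by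
    intro g hg v hv
    have hv0 : v ≠ 0 := by
      simp only [Set.mem_insert_iff, Set.mem_singleton_iff] at hv
      rcases hv with rfl | rfl | rfl <;> intro e
      · simpa using congrFun e 1
      · simpa using congrFun e 2
      · simpa using congrFun e 0
    have hnine : Groth.Agent.Hesse.Flex.Nine v := by
      simp only [Set.mem_insert_iff, Set.mem_singleton_iff] at hv
      exact ⟨g, 1, hg, by simpa using hv⟩
    have hez : eval v (HesseCubic.form k) = 0 := by
      simp only [Set.mem_insert_iff, Set.mem_singleton_iff] at hv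
      rcases hv with rfl | rfl | rfl <;> simp [Groth.Agent.Hesse.Flex.eval_form] <;>
        linear_combination (-1 : ℂ) * hg
    have hPv : P.mulVec v ≠ 0 := fun e =>
      hv0 (Groth.Agent.Hesse.Flex.mulVec_inj hP (by rw [e, Matrix.mulVec_zero]))
    obtain ⟨d, hd⟩ := hfix _ hPv (by rw [he, hez, mul_zero])
      ((Groth.Agent.Hesse.Flex.isFlex_transfer hP hc he hv0).2
        ((Groth.Agent.Hesse.Flex.flex_iff hk hv0 hez).2 hnine))
    refine ⟨d, ?_⟩
    rw [← Matrix.mulVec_mulVec, ← Matrix.mulVec_mulVec, hd, Matrix.mulVec_smul,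
      Matrix.mulVec_mulVec, Matrix.nonsing_inv_mul P hP, Matrix.one_mulVec])
  refine ⟨r, ?_⟩
  have h2 := congrArg (fun M => P * M * P⁻¹) hr
  simp only [← Matrix.mul_assoc, Matrix.mul_nonsing_inv P hP, Matrix.one_mul] at h2
  rw [Matrix.mul_assoc, Matrix.mul_nonsing_inv P hP, Matrix.mul_one, Matrix.mul_smul,
    Matrix.mul_one, Matrix.smul_mul, Matrix.mul_nonsing_inv P hP] at h2
  exact h2

end Groth.Agent.S18405
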