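import Groth.Statements.S18406
import Groth.Agent.Hesse.Transitive

set_option autoImplicit false
universe u
open Cubic

namespace Groth.Agent.S18406

open MvPolynomial in
/-- Let f be a nonzero homogeneous cubic in three variables over ℂ whose plane curve is smooth (at every
nonzero zero of f some partial derivative is nonzero), and let v and v′ be flexes of the curve, that
is nonzero zeros of f through each of which some line meets the curve with multiplicity three (there
is a vector w linearly independent from the point with f(point + t·w) = t³·f(w) for every t). Then a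
projective automorphism of the curve carries the point of v to the point of v′: there are an
invertible matrix A whose substitution X_i ↦ Σ_j A_ij X_j multiplies f by a constant c, and a
constant d with A·v = d·v′. (The published statement gives more: a subgroup of the projective
automorphism group isomorphic to C₃ × C₃ acts simply transitively on the nine flexes; only
transitivity is stated here.) -/
theorem result (f : MvPolynomial (Fin 3) ℂ) (hf : f.IsHomogeneous 3)
    (hf0 : f ≠ 0) (hsm : ∀ v : Fin 3 → ℂ, v ≠ 0 → eval v f = 0 → ∃ i : Fin 3, eval v (pderiv i f) ≠ 0)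
    (v v' : Fin 3 → ℂ) (hv : v ≠ 0) (hv' : v' ≠ 0) (hfv : eval v f = 0) (hfv' : eval v' f = 0)
    (hflex : (∃ w : Fin 3 → ℂ, LinearIndependent ℂ ![v, w] ∧ ∀ t : ℂ, eval (v + t • w) f = t ^ 3 * eval w f))
    (hflex' : (∃ w : Fin 3 → ℂ, LinearIndependent ℂ ![v', w] ∧ ∀ t : ℂ, eval (v' + t • w) f = t ^ 3 * eval w f)) :
    ∃ (A : Matrix (Fin 3) (Fin 3) ℂ) (c d : ℂ), IsUnit A.det ∧
      aeval (fun i : Fin 3 => ∑ j : Fin 3, C (A i j) * X j) f = C c * f ∧ A.mulVec v = d • v' := by
  obtain ⟨P, k, c, hP, hk, hc, h⟩ := Groth.Agent.Hesse.Flex.exists_hesse hf hsm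
  have he : ∀ x, eval (P.mulVec x) f = c * eval x (HesseCubic.form k) := fun x => by
    rw [← Groth.Agent.Hesse.eval_sub, h, map_mul, eval_C]
  have key : ∀ v : Fin 3 → ℂ, v ≠ 0 → eval v f = 0 → Groth.Agent.Hesse.Flex.IsFlex f v →
      ∃ a : Fin 3 → ℂ, a ≠ 0 ∧ P.mulVec a = v ∧ Groth.Agent.Hesse.Flex.Nine a := by
    intro v hv hfv hfl
    have hPa : P.mulVec (P⁻¹.mulVec v) = v := by
      rw [Matrix.mulVec_mulVec, Matrix.mul_nonsing_inv P hP, Matrix.one_mulVec]
    have ha : P⁻¹.mulVec v ≠ 0 := fun e => hv (by rw [← hPa, e, Matrix.mulVec_zero])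
    refine ⟨_, ha, hPa, (Groth.Agent.Hesse.Flex.flex_iff hk ha ?_).1
      ((Groth.Agent.Hesse.Flex.isFlex_transfer hP hc he ha).1 (by rwa [hPa]))⟩
    have := he (P⁻¹.mulVec v)
    rw [hPa, hfv] at this
    exact (mul_eq_zero.1 this.symm).resolve_left hc
  obtain ⟨a, ha, e, hn⟩ := key v hv hfv hflex
  obtain ⟨a', ha', e', hn'⟩ := key v' hv' hfv' hflex'
  obtain ⟨B, d, hB, hBa, hBi⟩ := Groth.Agent.Hesse.Flex.transitive (k := k) ha ha' hn hn'
  refine ⟨P * B * P⁻¹, 1, d, ?_, MvPolynomial.funext fun x => ?_, ?_⟩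
  · rw [Matrix.det_mul, Matrix.det_mul]; exact (hP.mul hB).mul (P.isUnit_nonsing_inv_det hP)
  · show eval x (Groth.Agent.Hesse.sub (P * B * P⁻¹) f) = _
    rw [Groth.Agent.Hesse.eval_sub, map_one, one_mul, ← Matrix.mulVec_mulVec,
      ← Matrix.mulVec_mulVec, he, hBi, ← he, Matrix.mulVec_mulVec, Matrix.mul_nonsing_inv P hP,
      Matrix.one_mulVec]
  · rw [← e, ← e', ← Matrix.mulVec_smul, ← hBa, Matrix.mulVec_mulVec, Matrix.mul_assoc,
      Matrix.mul_assoc, Matrix.nonsing_inv_mul P hP, Matrix.mul_one, Matrix.mulVec_mulVec]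

end Groth.Agent.S18406
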