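import Groth.Statements.S18413
import Groth.Prelude.Def_PicLoc
import Groth.Agent.IsPreconnectedFib.Basic
import Groth.Agent.S2431
import Groth.Agent.S1025
import Groth.Agent.S1026
import Groth.Agent.S10830
import Groth.Agent.SchDense.Unit
import Groth.Agent.CurveRR.Easy
import Groth.Agent.SectRank.DimOfRelDim
import Groth.Agent.TwoBranch.Points
import Groth.Agent.DualGeneric.GlobalField
import Groth.Agent.DCohShriek.DualModuleField

set_option autoImplicit false
universe u
open CategoryTheory AlgebraicGeometry
open Curves

set_option backward.isDefEq.respectTransparency false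
set_option backward.isDefEq.respectTransparency.types false

namespace Groth.Agent.S18413

/-- Let k be an algebraically closed field, X a k-scheme that is smooth of relative dimension 2 and
proper over k (a smooth proper surface), S an irreducible k-scheme smooth of relative dimension 1 (a
smooth curve), and π : X → S a proper flat k-morphism with O_S → π_* O_X bijective on every open
subset of S. For a closed point s of S whose scheme-theoretic fibre X_s is reduced: (a) H^0(X_s,
O_{X_s}) is one-dimensional over κ(s), and (b) the arithmetic genus dim H^1(X_s, O_{X_s}) equals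
that of the generic fibre X_η over κ(η). -/
theorem result
    {k : Type u} [Field k] [IsAlgClosed k] {X S : Scheme.{u}}
    (π : X ⟶ S) (g : S ⟶ Spec (CommRingCat.of k))
    [SmoothOfRelativeDimension 1 g] [IrreducibleSpace S]
    [SmoothOfRelativeDimension 2 (π ≫ g)] [IsProper (π ≫ g)]
    [IsProper π] [Flat π]
    (hO : ∀ U : S.Opens, Function.Bijective (π.app U))
    (s : S) (hs : IsClosed ({s} : Set S)) [AlgebraicGeometry.IsReduced (π.fiber s)] :
    PerfAux.betti π (Coh.structureModule X) s 0 = 1 ∧
      PerfAux.betti π (Coh.structureModule X) s 1 =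
        PerfAux.betti π (Coh.structureModule X) (genericPoint S) 1 := by
  classical
  letI : X.Over (Spec (CommRingCat.of k)) := ⟨π ≫ g⟩
  letI : S.Over (Spec (CommRingCat.of k)) := ⟨g⟩
  haveI hsm : Smooth (π ≫ g) := SmoothOfRelativeDimension.smooth 2 _
  haveI : Smooth g := SmoothOfRelativeDimension.smooth 1 _
  haveI : Smooth (X ↘ Spec (CommRingCat.of k)) := hsm
  haveI : IsProper (X ↘ Spec (CommRingCat.of k)) := ‹IsProper (π ≫ g)›
  haveI : LocallyOfFiniteType (S ↘ Spec (CommRingCat.of k)) := inferInstanceAs (LocallyOfFiniteType g)
  haveI : IsLocallyNoetherian S := LocallyOfFiniteType.isLocallyNoetherian g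
  haveI : IsLocallyNoetherian X := LocallyOfFiniteType.isLocallyNoetherian (π ≫ g)
  haveI : LocallyOfFinitePresentation π := inferInstance
  obtain ⟨hconn, -⟩ := Groth.Agent.S2431.result π (fun U => (ConcreteCategory.isIso_iff_bijective _).mpr (hO U))
  have hsurj : Function.Surjective π := fun y => by
    haveI := hconn y
    obtain ⟨z⟩ := (inferInstance : Nonempty (π.fiber y))
    exact ⟨π.fiberι y z, by
      have := π.range_fiberι y
      exact (this.le ⟨z, rfl⟩)⟩
  haveI : ConnectedSpace X := by
    have hpre : ∀ y, _root_.IsConnected (π ⁻¹' {y}) := fun y => by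
      haveI := hconn y
      have h := isConnected_range (π.fiberι y).continuous
      rwa [π.range_fiberι y] at h
    have hq : Topology.IsQuotientMap π := π.isClosedMap.isQuotientMap π.continuous hsurj
    exact IsPreconnectedFib.connectedSpace_of_fibres hpre hq
  haveI : IsIntegral X := CurveRR.Easy.isIntegral_of_smooth (k := k) (X := X)
  have hdX : topologicalKrullDim X = (2 : ℕ) := SectRank.topologicalKrullDim_of_smoothOfRelativeDimension (π ≫ g) 2
  have hdS : topologicalKrullDim S = (1 : ℕ) := SectRank.topologicalKrullDim_of_smoothOfRelativeDimension g 1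
  -- the fibre over `s`
  letI : (π.fiber s).Over (Spec (CommRingCat.of (S.residueField s))) := ⟨π.fiberToSpecResidueField s⟩
  haveI : IsProper ((π.fiber s) ↘ Spec (CommRingCat.of (S.residueField s))) :=
    inferInstanceAs (IsProper (Limits.pullback.snd π (S.fromSpecResidueField s)))
  haveI := hconn s
  haveI : IsAlgClosed (S.residueField s) :=
    IsAlgClosed.of_ringEquiv k _ (RingEquiv.ofBijective (Curv2.resMap k S s) (TwoBranch.bijective_resMap hs))
  let e0 := PicLoc.pullbackStructureIso (π.fiberι s)
  have hb : ∀ i, PerfAux.betti π (Coh.structureModule X) s i =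
      CurveRR.h (S.residueField s) (Coh.structureModule (π.fiber s)) i := fun i => CurveRR.h_eq_of_iso e0 i
  have hb0 : PerfAux.betti π (Coh.structureModule X) s 0 = 1 :=
    (hb 0).trans (DualGeneric.h0_structure_connected _)
  have hne : π ⁻¹' {s} ≠ Set.univ := by
    intro h
    haveI : Subsingleton S := ⟨fun a b => by
      obtain ⟨a', rfl⟩ := hsurj a
      obtain ⟨b', rfl⟩ := hsurj b
      exact (h.ge (Set.mem_univ a')).trans (h.ge (Set.mem_univ b')).symm⟩
    have h0 : topologicalKrullDim S ≤ 0 := topologicalKrullDim_zero_of_discreteTopology _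
    rw [hdS] at h0
    exact absurd (WithBot.coe_le_coe.mp h0) (by simp)
  have hdim : topologicalKrullDim (π.fiber s) ≤ (1 : ℕ) := by
    rw [(π.fiberHomeo s).isHomeomorph.topologicalKrullDim_eq]
    have hlt := Groth.Agent.S10830.result X (by rw [hdX]; exact (by decide : ((2 : ℕ∞) : WithBot ℕ∞) ≠ ⊤)) (π ⁻¹' {s}) (hs.preimage π.continuous) hne
    rw [hdX] at hlt
    exact IsPreconnectedFib.le_one_of_lt_two hlt
  have hb2 : ∀ i, 2 ≤ i → PerfAux.betti π (Coh.structureModule X) s i = 0 := fun i hi => by
    rw [hb i]
    exact CurveRR.h_eq_zero (DCohShriek.subsingleton_hh_of_dim_le (S.residueField s) 1 hdim _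
      (TMul.isQCoh_of_isInvertible TMul.isInvertible_structureModule) i hi)
  -- semicontinuity
  have hF : CohB1.IsFP (Coh.structureModule X) := SchDense.isFP_unit X
  have hfl : FlatMod.IsFlatOver π (Coh.structureModule X) := SchDense.isFlatOver_unit π
  have hgen : genericPoint S ⤳ s := genericPoint_specializes s
  have hlt : ∀ i m, PerfAux.betti π (Coh.structureModule X) s i < m →
      PerfAux.betti π (Coh.structureModule X) (genericPoint S) i < m := fun i m h =>
    hgen.mem_open (Groth.Agent.S1025.result π _ hF hfl i m) h
  haveI := hconn (genericPoint S)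
  have hη0 : PerfAux.betti π (Coh.structureModule X) (genericPoint S) 0 = 1 := by
    have h1 := hlt 0 2 (by omega)
    letI : (π.fiber (genericPoint S)).Over (Spec (CommRingCat.of (S.residueField (genericPoint S)))) :=
      ⟨π.fiberToSpecResidueField (genericPoint S)⟩
    haveI : IsProper ((π.fiber (genericPoint S)) ↘ Spec (CommRingCat.of (S.residueField (genericPoint S)))) :=
      inferInstanceAs (IsProper (Limits.pullback.snd π (S.fromSpecResidueField (genericPoint S))))
    have h2 : PerfAux.betti π (Coh.structureModule X) (genericPoint S) 0 =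
        CurveRR.h (S.residueField (genericPoint S)) (Coh.structureModule (π.fiber (genericPoint S))) 0 :=
      CurveRR.h_eq_of_iso (PicLoc.pullbackStructureIso (π.fiberι (genericPoint S))) 0
    have h3 : CurveRR.h (S.residueField (genericPoint S)) (Coh.structureModule (π.fiber (genericPoint S))) 0 ≠ 0 :=
      IsPreconnectedFib.h0_structure_ne_zero _ _
    omega
  have hη2 : ∀ i, 2 ≤ i → PerfAux.betti π (Coh.structureModule X) (genericPoint S) i = 0 := fun i hi => by
    have := hlt i 1 (by rw [hb2 i hi]; omega)
    omega
  have hχ : ∀ z, (∀ i, 2 ≤ i → PerfAux.betti π (Coh.structureModule X) z i = 0) →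
      PerfAux.eulerChar π (Coh.structureModule X) z =
        (PerfAux.betti π (Coh.structureModule X) z 0 : ℤ) - PerfAux.betti π (Coh.structureModule X) z 1 := fun z hz => by
    rw [PerfAux.eulerChar, finsum_eq_sum_of_support_subset _ (s := Finset.range 2) (fun i hi => by
      simp only [Finset.coe_range, Set.mem_Iio]
      by_contra hlt
      exact hi (by simp [hz i (by omega)])), Finset.sum_range_succ, Finset.sum_range_one]
    ring
  have hLC := Groth.Agent.S1026.result π (Coh.structureModule X) hF hfl
  have hconst := hLC.apply_eq_of_isPreconnected (PreconnectedSpace.isPreconnected_univ) (Set.mem_univ s)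
    (Set.mem_univ (genericPoint S))
  rw [hχ s hb2, hχ _ hη2, hb0, hη0] at hconst
  exact ⟨hb0, by omega⟩

end Groth.Agent.S18413
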