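import Groth.Statements.S18416
import Groth.Agent.SmSub.Coords
-- import your own Groth.Agent.* helpers here

set_option autoImplicit false
universe u v w
open CAlg

set_option linter.style.haveILetI false
set_option backward.isDefEq.respectTransparency false

namespace Groth.Agent.S18416

open TensorProduct

/-- Let R → C and C → B be smooth ring homomorphisms, J an ideal of B and K the preimage of J in C, and
suppose that C surjects onto A = B/J (so that C/K = B/J = A). Then for every prime x of A there
exist f ∈ B whose image in A does not lie in x and an ideal J₀ of B_f contained in J B_f such that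
the composite C → B_f → B_f/J₀ is étale. -/
theorem result (R : Type u) (C : Type v) (B : Type w)
    [CommRing R] [CommRing C] [CommRing B] [Algebra R C] [Algebra C B] [Algebra R B] [IsScalarTower R C B]
    [Algebra.Smooth R C] [Algebra.Smooth C B] (J : Ideal B)
    (hsurj : Function.Surjective ((Ideal.Quotient.mk J).comp (algebraMap C B)))
    (x : PrimeSpectrum (B ⧸ J)) :
    ∃ f : B, Ideal.Quotient.mk J f ∉ x.asIdeal ∧
      ∃ J₀ : Ideal (Localization.Away f), J₀ ≤ J.map (algebraMap B (Localization.Away f)) ∧
        ((Ideal.Quotient.mk J₀).comp ((algebraMap B (Localization.Away f)).comp (algebraMap C B))).Etale := by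
  classical
  haveI : Algebra.FormallyUnramified C (B ⧸ J) :=
    Algebra.FormallyUnramified.of_surjective (Algebra.ofId C (B ⧸ J)) hsurj
  let q : Ideal B := x.asIdeal.comap (Ideal.Quotient.mk J)
  have hJq : J ≤ q := fun b hb => by
    show Ideal.Quotient.mk J b ∈ x.asIdeal
    rw [Ideal.Quotient.eq_zero_iff_mem.2 hb]
    exact zero_mem _
  haveI : Algebra.IsSmoothAt C q := inferInstance
  obtain ⟨f, hf, d, g, hg, het⟩ := SmSub.exists_coords_of_unramified C B J q hJq
  refine ⟨f, hf, ?_⟩
  let B' := Localization.Away f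
  let φ : MvPolynomial (Fin d) C →ₐ[C] B' := MvPolynomial.aeval fun j => algebraMap B B' (g j)
  letI : Algebra (MvPolynomial (Fin d) C) B' := φ.toRingHom.toAlgebra
  haveI : Algebra.Etale (MvPolynomial (Fin d) C) B' := het
  let I : Ideal (MvPolynomial (Fin d) C) :=
    RingHom.ker (MvPolynomial.aeval (fun _ => (0 : C)) : MvPolynomial (Fin d) C →ₐ[C] C)
  have h0 : Function.Surjective (MvPolynomial.aeval (fun _ => (0 : C)) : MvPolynomial (Fin d) C →ₐ[C] C) :=
    fun c => ⟨MvPolynomial.C c, by simp⟩
  haveI : Algebra.Etale (MvPolynomial (Fin d) C ⧸ I) ((MvPolynomial (Fin d) C ⧸ I) ⊗[MvPolynomial (Fin d) C] B') :=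
    inferInstance
  haveI : Algebra.Etale (MvPolynomial (Fin d) C ⧸ I) (B' ⧸ I.map (algebraMap (MvPolynomial (Fin d) C) B')) :=
    Algebra.Etale.of_equiv (A := (MvPolynomial (Fin d) C ⧸ I) ⊗[MvPolynomial (Fin d) C] B')
      (Algebra.TensorProduct.quotIdealMapEquivQuotTensor B' I).symm
  refine ⟨I.map (algebraMap (MvPolynomial (Fin d) C) B'), Ideal.map_le_iff_le_comap.2 fun P hP => ?_, ?_⟩
  · rw [Ideal.mem_comap]
    rw [← Ideal.Quotient.eq_zero_iff_mem]
    have e : (Ideal.Quotient.mkₐ C (J.map (algebraMap B B'))).comp φ =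
        ((Ideal.Quotient.mkₐ C (J.map (algebraMap B B'))).comp (Algebra.ofId C B')).comp
          (MvPolynomial.aeval (fun _ => (0 : C))) := MvPolynomial.algHom_ext fun j => by
      simp [φ, Ideal.Quotient.eq_zero_iff_mem.2 (Ideal.mem_map_of_mem (algebraMap B B') (hg j))]
    have e' := DFunLike.congr_fun e P
    simp only [AlgHom.comp_apply] at e'
    rw [show (MvPolynomial.aeval (fun _ => (0 : C))) P = 0 from hP, map_zero] at e'
    exact e'
  · let ε := Ideal.quotientKerAlgEquivOfSurjective h0
    haveI : Algebra.Etale C (MvPolynomial (Fin d) C ⧸ I) := Algebra.Etale.of_equiv (A := C) ε.symm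
    haveI : IsScalarTower C (MvPolynomial (Fin d) C ⧸ I) (B' ⧸ I.map (algebraMap (MvPolynomial (Fin d) C) B')) :=
      IsScalarTower.of_algebraMap_eq (R := C) (S := MvPolynomial (Fin d) C ⧸ I)
        (A := B' ⧸ I.map (algebraMap (MvPolynomial (Fin d) C) B')) fun c => by
        show Ideal.Quotient.mk _ (algebraMap C B' c) = Ideal.Quotient.mk _ (φ (MvPolynomial.C c))
        rw [MvPolynomial.aeval_C]
    have h2 : Algebra.Etale C (B' ⧸ I.map (algebraMap (MvPolynomial (Fin d) C) B')) :=
      Algebra.Etale.comp C (MvPolynomial (Fin d) C ⧸ I) _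
    have e2 : (Ideal.Quotient.mk (I.map (algebraMap (MvPolynomial (Fin d) C) B'))).comp
        ((algebraMap B B').comp (algebraMap C B)) = algebraMap C _ :=
      RingHom.ext fun c => congrArg (Ideal.Quotient.mk _) (IsScalarTower.algebraMap_apply C B B' c).symm
    rw [e2]
    exact RingHom.etale_algebraMap.2 h2

end Groth.Agent.S18416
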