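import Groth.Statements.S18417
import Mathlib
import Groth.Agent.S5802

set_option autoImplicit false
universe u v
open CAlg

namespace Groth.Agent.S18417

/-- Let R → A be a ring homomorphism and x_1, …, x_d a weakly regular sequence in A generating an ideal
J such that B = A/J is formally smooth over R. Then for every N ≥ 1 there is an isomorphism of
R-algebras e : A/J^N ≅ B[T_1, …, T_d]/(T_1, …, T_d)^N which sends the class of x_i to the class of
T_i and which is compatible with the projections to B: for every a ∈ A, e(a mod J^N) is congruent to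
the constant a mod J modulo the ideal generated by the variables. (The source also assumes R → A
smooth, which its argument does not use, and a regular sequence; weak regularity is what the
argument uses.) -/
theorem result
    (R : Type u) (A : Type v) [CommRing R] [CommRing A] [Algebra R A] (d : ℕ) (x : Fin d → A)
    (hreg : RingTheory.Sequence.IsWeaklyRegular A (List.ofFn x))
    [Algebra.FormallySmooth R (A ⧸ Ideal.span (Set.range x))] (N : ℕ) (hN : 1 ≤ N) :
    ∃ e : (A ⧸ Ideal.span (Set.range x) ^ N) ≃ₐ[R]
        (MvPolynomial (Fin d) (A ⧸ Ideal.span (Set.range x)) ⧸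
          Ideal.span (Set.range (MvPolynomial.X : Fin d → MvPolynomial (Fin d) (A ⧸ Ideal.span (Set.range x)))) ^ N),
      (∀ i : Fin d, e (Ideal.Quotient.mk _ (x i)) = Ideal.Quotient.mk _ (MvPolynomial.X i)) ∧
      ∀ a : A, e (Ideal.Quotient.mk _ a) - Ideal.Quotient.mk _ (MvPolynomial.C (Ideal.Quotient.mk _ a)) ∈
        (Ideal.span (Set.range (MvPolynomial.X : Fin d → MvPolynomial (Fin d) (A ⧸ Ideal.span (Set.range x))))).map
          (Ideal.Quotient.mk _) := by
  classical
  set J := Ideal.span (Set.range x) with hJ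
  let Q := A ⧸ J ^ N
  let mQ : A →ₐ[R] Q := Ideal.Quotient.mkₐ R (J ^ N)
  let π : Q →ₐ[R] A ⧸ J := Ideal.Quotient.factorₐ R (Ideal.pow_le_self (by omega : N ≠ 0))
  set Jb : Ideal Q := J.map (mQ : A →+* Q) with hJb
  have hπm : ∀ a, π (mQ a) = Ideal.Quotient.mk J a := fun a => rfl
  have hker : RingHom.ker (π : Q →+* A ⧸ J) ≤ Jb := by
    intro q hq
    obtain ⟨a, rfl⟩ := Ideal.Quotient.mk_surjective q
    exact Ideal.mem_map_of_mem _ (Ideal.Quotient.eq_zero_iff_mem.1 hq)
  have hJbN : Jb ^ N = ⊥ := by
    rw [hJb, ← Ideal.map_pow]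
    exact Ideal.map_quotient_self _
  have hπs : Function.Surjective π := fun y => by
    obtain ⟨a, rfl⟩ := Ideal.Quotient.mk_surjective y
    exact ⟨mQ a, hπm a⟩
  have hnil : IsNilpotent (RingHom.ker (π : Q →+* A ⧸ J)) :=
    ⟨N, le_bot_iff.1 ((Ideal.pow_right_mono hker N).trans hJbN.le)⟩
  let s : A ⧸ J →ₐ[R] Q := Algebra.FormallySmooth.liftOfSurjective (AlgHom.id R (A ⧸ J)) π hπs hnil
  have hs : ∀ b, π (s b) = b := fun b =>
    AlgHom.congr_fun (Algebra.FormallySmooth.comp_liftOfSurjective (AlgHom.id R (A ⧸ J)) π hπs hnil) b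
  have hdiff : ∀ a, mQ a - s (Ideal.Quotient.mk J a) ∈ Jb := fun a =>
    hker (by rw [RingHom.mem_ker]; show π _ = 0; rw [map_sub, hs, hπm, sub_self])
  let T := MvPolynomial (Fin d) (A ⧸ J)
  set V : Ideal T := MvPolynomial.idealOfVars (Fin d) (A ⧸ J) with hV
  let φ : T →ₐ[R] Q := MvPolynomial.aevalTower s (fun i => mQ (x i))
  have hφC : ∀ b, φ (MvPolynomial.C b) = s b := fun b => MvPolynomial.aevalTower_C _ _ b
  have hφX : ∀ i, φ (MvPolynomial.X i) = mQ (x i) := fun i => MvPolynomial.aevalTower_X _ _ i
  have hmapV : V.map (φ : T →+* Q) = Jb := by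
    have h1 : Jb = Ideal.span (mQ '' Set.range x) := Ideal.map_span (mQ : A →+* Q) (Set.range x)
    rw [h1, hV, MvPolynomial.idealOfVars, Ideal.map_span, ← Set.range_comp, ← Set.range_comp]
    congr 1
    exact congrArg Set.range (funext fun i => hφX i)
  have hφpow : ∀ m, ∀ p ∈ V ^ m, φ p ∈ Jb ^ m := fun m p hp => by
    rw [← hmapV, ← Ideal.map_pow]; exact Ideal.mem_map_of_mem _ hp
  -- injectivity
  have hinj : ∀ p, φ p = 0 → p ∈ V ^ N := by
    intro p hp
    suffices ∀ n, n ≤ N → p ∈ V ^ n from this N le_rfl
    intro n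
    induction n with
    | zero => intro _; simp
    | succ n ih =>
      intro hn
      have hpn := ih (by omega)
      rw [MvPolynomial.mem_pow_idealOfVars_iff'] at hpn
      set q := MvPolynomial.homogeneousComponent n p with hq
      have hpq : p - q ∈ V ^ (n + 1) := by
        rw [MvPolynomial.mem_pow_idealOfVars_iff']
        intro e he
        rw [MvPolynomial.coeff_sub, hq, MvPolynomial.coeff_homogeneousComponent]
        split_ifs with h
        · exact sub_self _
        · rw [sub_zero]; exact hpn e (by omega)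
      choose g hg using fun e : Fin d →₀ ℕ => Ideal.Quotient.mk_surjective (q.coeff e)
      let P : MvPolynomial (Fin d) A := ∑ e ∈ q.support, MvPolynomial.monomial e (g e)
      have hqhom : q.IsHomogeneous n := MvPolynomial.homogeneousComponent_isHomogeneous n p
      have hdeg : ∀ e ∈ q.support, e.degree = n := fun e he => by
        have := hqhom (MvPolynomial.mem_support_iff.1 he)
        simpa [Finsupp.degree_eq_weight_one, Pi.one_def] using this
      have hP : P.IsHomogeneous n :=
        MvPolynomial.IsHomogeneous.sum _ _ _ fun e he => MvPolynomial.isHomogeneous_monomial _ (hdeg e he)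
      have hmon : ∀ (e : Fin d →₀ ℕ) (a : A),
          φ (MvPolynomial.monomial e (Ideal.Quotient.mk J a)) - mQ (MvPolynomial.eval x (MvPolynomial.monomial e a)) ∈
            Jb ^ (e.degree + 1) := by
        intro e a
        have h1 : φ (MvPolynomial.monomial e 1) = mQ (MvPolynomial.eval x (MvPolynomial.monomial e 1)) := by
          rw [MvPolynomial.monomial_eq, MvPolynomial.monomial_eq, MvPolynomial.C_1, MvPolynomial.C_1, one_mul, one_mul]
          simp only [Finsupp.prod, map_prod, map_pow, hφX, MvPolynomial.eval_X]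
        have h2 : φ (MvPolynomial.monomial e 1) ∈ Jb ^ e.degree := hφpow _ _ (by
          rw [MvPolynomial.mem_pow_idealOfVars_iff']
          intro e' he'
          rw [MvPolynomial.coeff_monomial, if_neg]
          rintro rfl; omega)
        rw [show MvPolynomial.monomial e (Ideal.Quotient.mk J a) =
            MvPolynomial.C (Ideal.Quotient.mk J a) * MvPolynomial.monomial e 1 by
              rw [MvPolynomial.C_mul_monomial, mul_one],
          show MvPolynomial.monomial e a = MvPolynomial.C a * MvPolynomial.monomial e 1 by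
              rw [MvPolynomial.C_mul_monomial, mul_one],
          map_mul, map_mul, map_mul, hφC, MvPolynomial.eval_C, ← h1, ← sub_mul, pow_succ']
        refine Ideal.mul_mem_mul ?_ h2
        rw [← neg_sub]; exact neg_mem (hdiff a)
      have hqP : φ q - mQ (MvPolynomial.eval x P) ∈ Jb ^ (n + 1) := by
        rw [q.as_sum]
        simp only [P, map_sum]
        rw [← Finset.sum_sub_distrib]
        refine Ideal.sum_mem _ fun e he => ?_
        rw [← hg e, ← hdeg e he]
        exact hmon e (g e)
      have hev : MvPolynomial.eval x P ∈ J ^ (n + 1) := by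
        have h3 : mQ (MvPolynomial.eval x P) ∈ Jb ^ (n + 1) := by
          rw [show mQ (MvPolynomial.eval x P) = φ p - φ (p - q) - (φ q - mQ (MvPolynomial.eval x P)) by
            rw [map_sub]; ring, hp, zero_sub]
          exact sub_mem (neg_mem (hφpow _ _ hpq)) hqP
        rw [hJb, ← Ideal.map_pow] at h3
        have h4 : MvPolynomial.eval x P ∈ ((J ^ (n + 1)).map (Ideal.Quotient.mk (J ^ N))).comap
            (Ideal.Quotient.mk (J ^ N)) := h3
        rwa [Ideal.comap_map_of_surjective _ Ideal.Quotient.mk_surjective, sup_eq_left.2] at h4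
        rw [← RingHom.ker_eq_comap_bot, Ideal.mk_ker]
        exact Ideal.pow_le_pow_right hn
      have hcoef := Groth.Agent.S5802.result A d x hreg n P hP hev
      have hq0 : q = 0 := by
        ext e
        rw [MvPolynomial.coeff_zero]
        by_contra he
        have := hcoef e
        simp only [P, MvPolynomial.coeff_sum, MvPolynomial.coeff_monomial] at this
        rw [Finset.sum_ite_eq', if_pos (MvPolynomial.mem_support_iff.2 he)] at this
        exact he ((hg e).symm.trans (Ideal.Quotient.eq_zero_iff_mem.2 this))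
      rwa [hq0, sub_zero] at hpq
  -- surjectivity
  have hsurj : Function.Surjective φ := by
    have key : ∀ m, ∀ q : Q, ∃ t, q - φ t ∈ Jb ^ m := by
      intro m
      induction m with
      | zero => exact fun q => ⟨0, by simp⟩
      | succ m ih =>
        intro q
        obtain ⟨t, ht⟩ := ih q
        have : ∀ z ∈ Jb ^ m, ∃ t, z - φ t ∈ Jb ^ (m + 1) := by
          intro z hz
          rw [← hmapV, ← Ideal.map_pow] at hz
          induction hz using Submodule.span_induction with
          | mem z hz => obtain ⟨t, -, rfl⟩ := hz; exact ⟨t, by simp⟩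
          | zero => exact ⟨0, by simp⟩
          | add y z hy hz hy' hz' =>
            obtain ⟨t₁, h₁⟩ := hy'
            obtain ⟨t₂, h₂⟩ := hz'
            exact ⟨t₁ + t₂, by rw [map_add, add_sub_add_comm]; exact add_mem h₁ h₂⟩
          | smul c z hz hz' =>
            obtain ⟨t, ht⟩ := hz'
            obtain ⟨a, rfl⟩ := Ideal.Quotient.mk_surjective c
            refine ⟨MvPolynomial.C (Ideal.Quotient.mk J a) * t, ?_⟩
            have hzm : z ∈ Jb ^ m := by
              rw [← hmapV, ← Ideal.map_pow]; exact hz
            rw [map_mul, hφC, smul_eq_mul, show (Ideal.Quotient.mk (J ^ N) a) * z - s (Ideal.Quotient.mk J a) * φ t =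
              (mQ a - s (Ideal.Quotient.mk J a)) * z + s (Ideal.Quotient.mk J a) * (z - φ t) by
                show mQ a * z - _ = _; ring]
            exact add_mem (by rw [pow_succ']; exact Ideal.mul_mem_mul (hdiff a) hzm) (Ideal.mul_mem_left _ _ ht)
        obtain ⟨t', ht'⟩ := this _ ht
        exact ⟨t + t', by rwa [map_add, ← sub_sub]⟩
    intro q
    obtain ⟨t, ht⟩ := key N q
    rw [hJbN] at ht
    exact ⟨t, (sub_eq_zero.1 ((Submodule.mem_bot _).1 ht)).symm⟩
  let φb : T ⧸ V ^ N →ₐ[R] Q := Ideal.Quotient.liftₐ (V ^ N) φ fun p hp => by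
    have := hφpow N p hp
    rwa [hJbN, Submodule.mem_bot] at this
  have hφb : Function.Bijective φb := by
    refine ⟨(injective_iff_map_eq_zero φb).2 fun y hy => ?_, fun q => ?_⟩
    · obtain ⟨p, rfl⟩ := Ideal.Quotient.mk_surjective y
      exact Ideal.Quotient.eq_zero_iff_mem.2 (hinj p hy)
    · obtain ⟨t, rfl⟩ := hsurj q
      exact ⟨Ideal.Quotient.mk _ t, rfl⟩
  let E := AlgEquiv.ofBijective φb hφb
  refine ⟨E.symm, fun i => ?_, fun a => ?_⟩
  · rw [AlgEquiv.symm_apply_eq]
    exact (hφX i).symm
  · have hm : mQ a - s (Ideal.Quotient.mk J a) ∈ (V.map (Ideal.Quotient.mk (V ^ N))).map (φb : T ⧸ V ^ N →+* Q) := by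
      rw [Ideal.map_map]
      have : ((φb : T ⧸ V ^ N →+* Q).comp (Ideal.Quotient.mk (V ^ N))) = (φ : T →+* Q) := rfl
      rw [this, hmapV]
      exact hdiff a
    obtain ⟨y, hy, hye⟩ := (Ideal.mem_map_iff_of_surjective (φb : T ⧸ V ^ N →+* Q) hφb.2).1 hm
    have : E.symm (Ideal.Quotient.mk _ a) - Ideal.Quotient.mk _ (MvPolynomial.C (Ideal.Quotient.mk J a)) = y := by
      apply hφb.1
      rw [map_sub]
      show E (E.symm (mQ a)) - φ (MvPolynomial.C (Ideal.Quotient.mk J a)) = φb y
      rw [AlgEquiv.apply_symm_apply, hφC]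
      exact hye.symm
    exact this ▸ hy

end Groth.Agent.S18417
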