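import Groth.Statements.S18419
import Groth.Agent.DPdR.Model
import Groth.Agent.DPdR.Base
import Groth.Agent.DPdR.Homotopy

set_option autoImplicit false
set_option backward.isDefEq.respectTransparency false
set_option linter.style.haveILetI false
universe u v
open DPow

namespace Groth.Agent.S18419

open exteriorPower in
/-- Forms on the base map to forms on the polynomial algebra compatibly with the differentials. -/
lemma d_extMap {R : Type v} [CommRing R] {B P M M' : Type u} [CommRing B] [CommRing P] [Algebra R B] [Algebra B P]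
    [Algebra R P] [AddCommGroup M] [Module B M] [Module R M] [IsScalarTower R B M]
    [AddCommGroup M'] [Module P M'] [Module R M'] [IsScalarTower R P M'] [Module B M'] [IsScalarTower B P M']
    {D : Derivation R B M} {D' : Derivation R P M'} (hspan : Submodule.span B (Set.range D) = ⊤)
    {d : ∀ q : ℕ, ↥(⋀[B]^q M) →ₗ[R] ↥(⋀[B]^(q + 1) M)} (hd : DeRham.IsDiff D d)
    {d' : ∀ q : ℕ, ↥(⋀[P]^q M') →ₗ[R] ↥(⋀[P]^(q + 1) M')} (hd' : DeRham.IsDiff D' d')
    (σ : M →ₗ[B] M') (hσ : ∀ a, σ (D a) = D' (algebraMap B P a)) (q : ℕ) (x : ↥(⋀[B]^q M)) :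
    d' q (ExtBC.extMap P σ q x) = ExtBC.extMap P σ (q + 1) (d q x) := by
  induction x using DPdR.span_induction_forms D hspan with
  | h0 => simp
  | hadd x y hx hy => simp only [map_add, hx, hy]
  | hgen a v =>
    have h1 : d q (a • ιMulti B q fun k => D (v k)) = ιMulti B (q + 1) (Fin.cons (D a) fun k => D (v k)) :=
      hd.1 q a v
    have h2 : d' q (algebraMap B P a • ιMulti P q fun k => D' (algebraMap B P (v k))) =
        ιMulti P (q + 1) (Fin.cons (D' (algebraMap B P a)) fun k => D' (algebraMap B P (v k))) := hd'.1 q _ _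
    rw [h1, map_smul, ExtBC.extMap_ιMulti, ExtBC.extMap_ιMulti, ← algebraMap_smul P a]
    simp only [hσ]
    rw [h2]
    congr 1
    funext k
    refine Fin.cases ?_ (fun j => ?_) k <;> simp [hσ]

set_option maxHeartbeats 2000000 in
open exteriorPower in
/-- Let R be a ring and (B, J, δ) a divided power ring with B an R-algebra, and let P = B⟨X_1, …, X_n⟩
be the divided power polynomial algebra over it: a divided power ring (P, J_P, δ_P) with a B-algebra
structure making B → P a divided power morphism and elements X_i ∈ J_P, universal among divided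
power rings (C, K, ε) receiving a divided power morphism from (B, J, δ) together with chosen
elements k_i ∈ K. Let z : P → B be the B-algebra retraction sending each X_i to 0 that is a divided
power morphism (it kills all X_i^[m], m ≥ 1). Form the divided power Kähler differentials on both
sides — Ω_{P/R} modulo the P-submodule generated by the d(δ_P^{[m+1]}x) − δ_P^{[m]}x·dx (x ∈ J_P, m
≥ 0), and likewise Ω_{B/R} modulo the relations from (J, δ) — with their induced derivations, let
d_P and d_B be de Rham differentials on the exterior powers of these receptacles and ψ the map of de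
Rham complexes induced by z, compatible with d_P and d_B. Then ψ is a quasi-isomorphism: in every
degree i, every closed i-form on the B side is, up to an exact form, the image of a closed i-form on
the P side, and a closed i-form on the P side whose image is exact is itself exact. (The source
states more: the map is a filtered homotopy equivalence for the divided power Hodge filtrations;
only the quasi-isomorphism is stated here.) -/
theorem result (R : Type v) [CommRing R]
    (B : Type u) [CommRing B] [Algebra R B] (J : Ideal B) (δ : DividedPowers J) (n : ℕ)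
    (P : Type u) [CommRing P] [Algebra B P] [Algebra R P] [IsScalarTower R B P]
    (JP : Ideal P) (δP : DividedPowers JP) (X : Fin n → P) (hX : ∀ i, X i ∈ JP)
    (hmor : δ.IsDPMorphism δP (algebraMap B P))
    (huniv : ∀ (C : Type u) [CommRing C] [Algebra B C] (K : Ideal C) (ε : DividedPowers K),
      δ.IsDPMorphism ε (algebraMap B C) → ∀ k : Fin n → C, (∀ i, k i ∈ K) →
        ∃! φ : P →ₐ[B] C, (∀ i, φ (X i) = k i) ∧ δP.IsDPMorphism ε φ.toRingHom)
    (z : P →ₐ[B] B) (hz : ∀ i, z (X i) = 0) (hzmor : δP.IsDPMorphism δ z.toRingHom)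
    (NP : Submodule P (Ω[P⁄R]))
    (hNP : NP = Submodule.span P {ω : Ω[P⁄R] | ∃ x ∈ JP, ∃ m : ℕ,
      ω = KaehlerDifferential.D R P (δP.dpow (m + 1) x) - δP.dpow m x • KaehlerDifferential.D R P x})
    (NB : Submodule B (Ω[B⁄R]))
    (hNB : NB = Submodule.span B {ω : Ω[B⁄R] | ∃ x ∈ J, ∃ m : ℕ,
      ω = KaehlerDifferential.D R B (δ.dpow (m + 1) x) - δ.dpow m x • KaehlerDifferential.D R B x})
    (dP : ∀ p : ℕ, ↥(⋀[P]^p (Ω[P⁄R] ⧸ NP)) →ₗ[R] ↥(⋀[P]^(p + 1) (Ω[P⁄R] ⧸ NP)))
    (hdP : DeRham.IsDiff (NP.mkQ.compDer (KaehlerDifferential.D R P)) dP)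
    (dB : ∀ p : ℕ, ↥(⋀[B]^p (Ω[B⁄R] ⧸ NB)) →ₗ[R] ↥(⋀[B]^(p + 1) (Ω[B⁄R] ⧸ NB)))
    (hdB : DeRham.IsDiff (NB.mkQ.compDer (KaehlerDifferential.D R B)) dB)
    (ψ : ∀ p : ℕ, ↥(⋀[P]^p (Ω[P⁄R] ⧸ NP)) →+ ↥(⋀[B]^p (Ω[B⁄R] ⧸ NB)))
    (hψ : DeRham.IsCxMap (NP.mkQ.compDer (KaehlerDifferential.D R P))
      (NB.mkQ.compDer (KaehlerDifferential.D R B)) z.toRingHom ψ)
    (hψd : ∀ (p : ℕ) (x : ↥(⋀[P]^p (Ω[P⁄R] ⧸ NP))), ψ (p + 1) (dP p x) = dB p (ψ p x)) (i : ℕ) :
    (∀ c ∈ DeRham.cocycles dB i, ∃ c' ∈ DeRham.cocycles dP i, ψ i c' - c ∈ DeRham.coboundaries dB i) ∧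
      (∀ c' ∈ DeRham.cocycles dP i, ψ i c' ∈ DeRham.coboundaries dB i → c' ∈ DeRham.coboundaries dP i) := by
  classical
  obtain ⟨b, hb, hJP⟩ := DPdR.exists_basis δ δP X hX hmor huniv
  have hker := DPdR.le_ker δ δP hmor hNB hNP
  let f := DPdR.fV X hker
  have hf : IsBaseChange P f := DPdR.isBaseChange_fV δ δP hmor hNB hNP X hX b hb hJP
  let D := DPdR.dd NP
  let σ := DPdR.sigma (B := B) (P := P) hker
  have hσ : ∀ a, σ (DPdR.dd NB a) = D (algebraMap B P a) := DPdR.sigma_dd hker
  have hDb : ∀ (c : B) (e : Fin n →₀ ℕ),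
      D (c • b e) = b e • D (algebraMap B P c) + ∑ j, DPdR.dn b j (c • b e) • D (X j) := fun c e => by
    rw [Algebra.smul_def, Derivation.leibniz, DPdR.dd_b δP hNP X hX b hb, Finset.smul_sum, add_comm,
      ← Algebra.smul_def]
    congr 1
    refine Finset.sum_congr rfl fun j _ => ?_
    rw [map_smul, smul_smul, ← Algebra.smul_def]
  let vv : B ⊕ Fin n → (Ω[B⁄R] ⧸ NB) × (Fin n → B) :=
    Sum.elim (fun a => (DPdR.dd NB a, 0)) fun j => (0, Pi.single j 1)
  have hvv : ∀ s, f (vv s) = D (Sum.elim (algebraMap B P) X s) := by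
    rintro (a | j)
    · simp [f, vv, DPdR.fV, D]
      exact DPdR.sigma_dd hker a
    · simp [f, vv, DPdR.fV, D, Fintype.linearCombination_apply_single]
  have hspan : Submodule.span P (Set.range fun s => D (Sum.elim (algebraMap B P) X s)) = ⊤ := by
    rw [← top_le_iff, ← DPdR.span_dd NP, Submodule.span_le]
    rintro _ ⟨q, rfl⟩
    induction q using DPdR.ind b with
    | h0 => rw [map_zero]; exact Submodule.zero_mem _
    | hadd x y hx hy => rw [map_add]; exact Submodule.add_mem _ hx hy
    | hgen c e =>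
      rw [SetLike.mem_coe]
      change D (c • b e) ∈ _
      rw [hDb]
      exact Submodule.add_mem _ (Submodule.smul_mem _ _ (Submodule.subset_span ⟨Sum.inl c, rfl⟩))
        (Submodule.sum_mem _ fun j _ => Submodule.smul_mem _ _ (Submodule.subset_span ⟨Sum.inr j, rfl⟩))
  let mon := fun (q : ℕ) (v : Fin q → B ⊕ Fin n) => DPdR.mon D X q v
  have key : ∀ T : List (Fin n), ∃ Q : AddMonoid.End ↥(⋀[P]^i (Ω[P⁄R] ⧸ NP)),
      (∀ (c : B) (e : Fin n →₀ ℕ) (v : Fin i → B ⊕ Fin n), Q ((c • b e) • mon i v) =
        if ∀ j ∈ T, e j = 0 ∧ ∀ k, v k ≠ Sum.inr j then (c • b e) • mon i v else 0) ∧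
      ∀ ξ ∈ DeRham.cocycles dP i, ξ - Q ξ ∈ DeRham.coboundaries dP i := by
    intro T
    induction T with
    | nil =>
      refine ⟨1, fun c e v => ?_, fun ξ _ => ?_⟩
      · rw [if_pos (by simp)]; rfl
      · rw [show (1 : AddMonoid.End _) ξ = ξ from rfl, sub_self]; exact Submodule.zero_mem _
    | cons j T ih =>
      obtain ⟨Q, hQ, hQc⟩ := ih
      let φ : (Ω[P⁄R] ⧸ NP) →ₗ[P] P :=
        hf.lift ((Algebra.linearMap B P) ∘ₗ (LinearMap.proj j) ∘ₗ LinearMap.snd B (Ω[B⁄R] ⧸ NB) (Fin n → B))
      have hφ : ∀ s, φ (D (Sum.elim (algebraMap B P) X s)) = if s = Sum.inr j then 1 else 0 := fun s => by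
        rw [← hvv, hf.lift_eq]
        rcases s with a | k
        · simp [vv]
        · simp [vv, Pi.single_apply, eq_comm]
      refine ⟨((1 : AddMonoid.End _) - DPdR.homK b j φ hf dP i).comp Q, fun c e v => ?_, fun ξ hξ => ?_⟩
      · change Q ((c • b e) • mon i v) - DPdR.homK b j φ hf dP i (Q ((c • b e) • mon i v)) = _
        rw [hQ]
        by_cases h : ∀ k ∈ T, e k = 0 ∧ ∀ l, v l ≠ Sum.inr k
        · rw [if_pos h, DPdR.homK_gen j hφ hf vv hvv hdP hDb i c e v]
          simp only [List.forall_mem_cons, and_iff_left h]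
          rfl
        · rw [if_neg h, map_zero, sub_zero, if_neg]
          exact fun h' => h fun k hk => h' k (List.mem_cons_of_mem _ hk)
      · have h1 := hQc ξ hξ
        have h2 : dP i (ξ - Q ξ) = 0 := by
          rcases i with _ | q
          · rw [(Submodule.mem_bot R).1 h1, map_zero]
          · obtain ⟨y, hy⟩ := h1
            rw [← hy]
            exact LinearMap.congr_fun (hdP.2 q) y
        rw [map_sub, LinearMap.mem_ker.1 hξ, zero_sub, neg_eq_zero] at h2
        change ξ - (Q ξ - DPdR.homK b j φ hf dP i (Q ξ)) ∈ _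
        rw [← sub_add]
        exact Submodule.add_mem _ h1 (DPdR.homK_closed j hf i h2)
  obtain ⟨Q, hQ, hQc⟩ := key (List.finRange n)
  have hzb : ∀ e : Fin n →₀ ℕ, z (b e) = if e = 0 then 1 else 0 := fun e => by
    by_cases he : e = 0
    · rw [if_pos he, he, hb, Finsupp.prod_zero_index, map_one]
    · obtain ⟨l, hl⟩ : ∃ l, e l ≠ 0 := by
        by_contra! h
        exact he (Finsupp.ext h)
      have hzl : z (δP.dpow (e l) (X l)) = 0 := by
        have h := hzmor.dpow_comp (n := e l) (X l) (hX l)
        rw [show z.toRingHom (X l) = 0 from hz l, δ.dpow_eval_zero hl] at h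
        exact h.symm
      rw [if_neg he, hb, map_finsuppProd]
      exact Finset.prod_eq_zero (Finsupp.mem_support_iff.2 hl) hzl
  let s := fun q => ExtBC.extMap P σ q
  have hQs : ∀ ξ, Q ξ = s i (ψ i ξ) := fun ξ => by
    induction ξ using DPdR.span_induction_forms _ hspan with
    | h0 => simp
    | hadd x y hx hy => simp only [map_add, hx, hy]
    | hgen a v =>
      induction a using DPdR.ind b with
      | h0 => simp
      | hadd x y hx hy => simp only [add_smul, map_add, hx, hy]
      | hgen c e =>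
        have h1 : ψ i ((c • b e) • mon i v) = z (c • b e) • ιMulti B i fun k =>
            DPdR.dd NB (z (Sum.elim (algebraMap B P) X (v k))) :=
          hψ i (c • b e) fun k => Sum.elim (algebraMap B P) X (v k)
        change Q ((c • b e) • mon i v) = s i (ψ i ((c • b e) • mon i v))
        rw [hQ, h1]
        simp only [s, map_smul, ExtBC.extMap_ιMulti, hσ, hzb]
        by_cases he : e = 0
        · by_cases hv : ∃ k l, v k = Sum.inr l
          · obtain ⟨k, l, hk⟩ := hv
            rw [if_neg (fun h => (h l (List.mem_finRange l)).2 k hk)]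
            refine (smul_eq_zero_of_right _ ((ιMulti P i).map_coord_zero k ?_)).symm
            rw [hk, Sum.elim_inr, hz, map_zero, map_zero]
          · rw [if_pos fun j _ => ⟨by rw [he]; rfl, fun k hk => hv ⟨k, j, hk⟩⟩, if_pos he, smul_eq_mul, mul_one,
              he, DPdR.b_zero b (x := fun i k => δP.dpow k (X i)) hb, ← Algebra.algebraMap_eq_smul_one, algebraMap_smul]
            have e : (fun k => D (Sum.elim (algebraMap B P) X (v k))) =
                fun k => D (algebraMap B P (z (Sum.elim (algebraMap B P) X (v k)))) := funext fun k => by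
              rcases h : v k with a | l
              · simp [z.commutes]
              · exact absurd ⟨k, l, h⟩ hv
            exact congrArg (fun w => c • ιMulti P i w) e
        · rw [if_neg he, smul_eq_mul, mul_zero, zero_smul, if_neg]
          exact fun h => he (Finsupp.ext fun l => (h l (List.mem_finRange l)).1)
  have hsd : ∀ q x, dP q (s q x) = s (q + 1) (dB q x) := fun q x =>
    d_extMap (DPdR.span_dd NB) hdB hdP σ hσ q x
  have hψs : ∀ x, ψ i (s i x) = x := fun x => by
    induction x using DPdR.span_induction_forms _ (DPdR.span_dd NB) with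
    | h0 => simp
    | hadd x y hx hy => simp only [map_add, hx, hy]
    | hgen a v =>
      simp only [s, map_smul, ExtBC.extMap_ιMulti, hσ]
      rw [← algebraMap_smul P a]
      refine (hψ i (algebraMap B P a) fun k => algebraMap B P (v k)).trans ?_
      simp [DeRham.gen, z.commutes]
  refine ⟨fun c hc => ⟨s i c, ?_, ?_⟩, fun c' hc' h => ?_⟩
  · rw [DeRham.cocycles, LinearMap.mem_ker, hsd, LinearMap.mem_ker.1 hc, map_zero]
  · rw [hψs, sub_self]
    exact Submodule.zero_mem _
  · rw [← sub_add_cancel c' (Q c')]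
    refine Submodule.add_mem _ (hQc c' hc') ?_
    rw [hQs]
    rcases i with _ | q
    · rw [(Submodule.mem_bot R).1 h, map_zero]
      exact Submodule.zero_mem _
    · obtain ⟨y, hy⟩ := h
      exact ⟨s q y, by rw [hsd, hy]⟩

end Groth.Agent.S18419
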