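import Groth.Statements.S18421
import Groth.Agent.DPowLib.Ext
-- import your own Groth.Agent.* helpers here

set_option autoImplicit false
universe u v w
open DPow

namespace Groth.Agent.S18421

/-- Let (R, I, γ) be a divided power ring, Λ a set and P = R⟨X_λ : λ ∈ Λ⟩ the divided power polynomial
algebra, presented concretely as an R-algebra P with elements x l n = X_λ^[n] such that X_λ^[0] = 1,
X_λ^[n] · X_λ^[m] = C(n+m, n) X_λ^[n+m], and the monomials ∏_λ X_λ^[e_λ] form an R-basis of P; let
P_+ be the ideal generated by the X_λ^[n] with n ≥ 1 and δ_+ a divided power structure on P_+ with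
δ_+,n(X_λ^[1]) = X_λ^[n]. Put J = IP + P_+. Then there is exactly one divided power structure δ on J
which is compatible with γ (the structure map R → P is a divided power morphism from (I, γ) to (J,
δ)) and with δ_+ (δ_n(y) = δ_+,n(y) for all y ∈ P_+ and all n). -/
theorem result (R : Type u) [CommRing R] {I : Ideal R}
    (γ : DividedPowers I) (Λ : Type w)
    (P : Type v) [CommRing P] [Algebra R P] (x : Λ → ℕ → P)
    (hx0 : ∀ l, x l 0 = 1)
    (hxmul : ∀ l n m, x l n * x l m = ((n + m).choose n : P) * x l (n + m))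
    (b : Module.Basis (Λ →₀ ℕ) R P) (hb : ∀ e : Λ →₀ ℕ, b e = e.prod (fun l k => x l k))
    (δplus : DividedPowers (Ideal.span {y : P | ∃ (l : Λ) (n : ℕ), 1 ≤ n ∧ y = x l n}))
    (hδplus : ∀ (l : Λ) (n : ℕ), δplus.dpow n (x l 1) = x l n) :
    ∃! δ : DividedPowers (I.map (algebraMap R P) ⊔ Ideal.span {y : P | ∃ (l : Λ) (n : ℕ), 1 ≤ n ∧ y = x l n}),
      γ.IsDPMorphism δ (algebraMap R P) ∧
        ∀ (n : ℕ) (y : P), y ∈ Ideal.span {y : P | ∃ (l : Λ) (n : ℕ), 1 ≤ n ∧ y = x l n} →
          δ.dpow n y = δplus.dpow n y := by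
  classical
  haveI : Module.Free R P := Module.Free.of_basis b
  obtain ⟨δI, hδI⟩ := Groth.Agent.DPowLib.exists_ext_flat (B := P) γ
  have hcomp : ∀ (n : ℕ) (a : R), a ∈ I → δI.dpow n (algebraMap R P a) = algebraMap R P (γ.dpow n a) :=
    fun n a ha => hδI.dpow_comp a ha
  have hmon : ∀ (l : Λ) (n : ℕ) (e : Λ →₀ ℕ),
      x l n * b e = ((n + e l).choose n) • b (e + Finsupp.single l n) := by
    intro l n e
    have hs : ∀ f : Λ →₀ ℕ, f.support ⊆ insert l e.support →
        b f = x l (f l) * ∏ j ∈ (insert l e.support).erase l, x j (f j) := fun f hf => by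
      rw [hb, Finsupp.prod_of_support_subset f hf _ (fun i _ => hx0 i),
        Finset.mul_prod_erase (insert l e.support) (fun j => x j (f j)) (Finset.mem_insert_self l _)]
    rw [hs e (Finset.subset_insert _ _), hs (e + Finsupp.single l n) ?_, ← mul_assoc, hxmul, nsmul_eq_mul,
      mul_assoc, Finsupp.add_apply, Finsupp.single_eq_same, add_comm n (e l)]
    · refine congrArg (fun q => _ * (_ * q)) (Finset.prod_congr rfl fun j hj => ?_)
      rw [Finsupp.add_apply, Finsupp.single_eq_of_ne (Finset.ne_of_mem_erase hj), add_zero]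
    · exact Finsupp.support_add.trans (Finset.union_subset (Finset.subset_insert _ _)
        ((Finsupp.support_single_subset).trans (by simp)))
  have hcoord : ∀ y ∈ Ideal.span {y : P | ∃ (l : Λ) (n : ℕ), 1 ≤ n ∧ y = x l n}, ∀ q, b.repr (q * y) 0 = 0 := by
    intro y hy
    induction hy using Submodule.span_induction with
    | mem z hz =>
      obtain ⟨l, n, hn, rfl⟩ := hz
      intro q
      have h : (Finsupp.lapply 0).comp (b.repr.toLinearMap.comp (LinearMap.mulRight R (x l n))) = 0 := by
        refine b.ext fun e => ?_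
        simp only [LinearMap.comp_apply, LinearMap.mulRight_apply, LinearEquiv.coe_coe, Finsupp.lapply_apply,
          LinearMap.zero_apply]
        rw [mul_comm, hmon, map_nsmul, Finsupp.smul_apply, b.repr_self, Finsupp.single_eq_of_ne, nsmul_zero]
        intro h
        have := congrArg (fun f : Λ →₀ ℕ => f l) h
        simp at this
        omega
      exact LinearMap.congr_fun h q
    | zero => simp
    | add p q _ _ hp hq => intro r; rw [mul_add, map_add, Finsupp.add_apply, hp, hq, add_zero]
    | smul a p _ hp => intro r; rw [smul_eq_mul, ← mul_assoc]; exact hp _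
  have hcoef : ∀ y ∈ I.map (algebraMap R P), ∀ q e, b.repr (q * y) e ∈ I := by
    intro y hy
    change y ∈ Ideal.span _ at hy
    induction hy using Submodule.span_induction with
    | mem z hz =>
      obtain ⟨a, ha, rfl⟩ := hz
      intro q e
      rw [mul_comm, ← Algebra.smul_def, map_smul, Finsupp.smul_apply, smul_eq_mul]
      exact I.mul_mem_right _ ha
    | zero => simp
    | add p q _ _ hp hq => intro r e; rw [mul_add, map_add, Finsupp.add_apply]; exact add_mem (hp r e) (hq r e)
    | smul a p _ hp => intro r e; rw [smul_eq_mul, ← mul_assoc]; exact hp _ e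
  have hagree : ∀ (n : ℕ) (y : P), y ∈ I.map (algebraMap R P) ⊓
      Ideal.span {y : P | ∃ (l : Λ) (n : ℕ), 1 ≤ n ∧ y = x l n} → δI.dpow n y = δplus.dpow n y := by
    rintro n y ⟨hy1, hy2⟩
    refine DividedPowers.coincide_on_smul δI δplus ?_
    rw [← b.linearCombination_repr y, Finsupp.linearCombination_apply]
    refine Submodule.sum_mem _ fun e he => ?_
    rw [Finsupp.mem_support_iff] at he
    have hne : e ≠ 0 := by
      rintro rfl
      exact he (by simpa using hcoord y hy2 1)
    obtain ⟨l, hl⟩ : ∃ l, e l ≠ 0 := by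
      by_contra! h
      exact hne (Finsupp.ext h)
    change b.repr y e • b e ∈ _
    rw [smul_eq_mul, Algebra.smul_def]
    refine Ideal.mul_mem_mul (Ideal.mem_map_of_mem (algebraMap R P) (by simpa using hcoef y hy1 1 e)) ?_
    rw [hb, ← Finsupp.mul_prod_erase e l (fun l k => x l k) (Finsupp.mem_support_iff.mpr hl)]
    exact Ideal.mul_mem_right _ _ (Ideal.subset_span ⟨l, e l, Nat.one_le_iff_ne_zero.mpr hl, rfl⟩)
  obtain ⟨ε, h1, h2⟩ := Groth.Agent.DPowLib.exists_sup δI δplus hagree
  have hmem : ∀ a ∈ I, algebraMap R P a ∈ I.map (algebraMap R P) := fun a ha => Ideal.mem_map_of_mem _ ha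
  refine ⟨ε, ⟨⟨le_sup_left, fun {n} a ha => by rw [h1 n _ (hmem a ha)]; exact hcomp n a ha⟩, h2⟩, ?_⟩
  rintro ε' ⟨hε', hε'2⟩
  refine Groth.Agent.DPowLib.eq_of_eqOn
    (S := (algebraMap R P '' (I : Set R)) ∪ (Ideal.span {y : P | ∃ (l : Λ) (n : ℕ), 1 ≤ n ∧ y = x l n} : Ideal P))
    (by rw [Ideal.span_union, Ideal.span_eq]; rfl) ε' ε fun n y hy => ?_
  rcases hy with ⟨a, ha, rfl⟩ | hy
  · rw [hε'.dpow_comp a ha, h1 n _ (hmem a ha), hcomp n a ha]
  · rw [hε'2 n y hy, h2 n y hy]


end Groth.Agent.S18421
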