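import Groth.Statements.S18422
-- import your own Groth.Agent.* helpers here
import Mathlib

set_option autoImplicit false
universe u v
open Pi1

namespace Groth.Agent.S18422

/-- Let p and l be distinct primes, G a profinite group (a compact totally disconnected topological
group) which is pro-p, meaning that every open normal subgroup of G has index a power of p, and H a
profinite group which is pro-l in the same sense. Then every continuous group homomorphism from G to
H is trivial. -/
theorem result {p l : ℕ} (hp : p.Prime) (hl : l.Prime) (hpl : p ≠ l)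
    (G : Type u) [Group G] [TopologicalSpace G] [IsTopologicalGroup G] [CompactSpace G]
    [TotallyDisconnectedSpace G]
    (H : Type v) [Group H] [TopologicalSpace H] [IsTopologicalGroup H] [CompactSpace H]
    [TotallyDisconnectedSpace H]
    (hG : ∀ U : OpenNormalSubgroup G, ∃ n : ℕ, U.toSubgroup.index = p ^ n)
    (hH : ∀ V : OpenNormalSubgroup H, ∃ n : ℕ, V.toSubgroup.index = l ^ n)
    (f : G →* H) (hf : Continuous f) (g : G) : f g = 1 := by
  haveI : T2Space H := inferInstance
  by_contra hne
  have hopen : IsOpen ({f g}ᶜ : Set H) := isOpen_compl_singleton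
  obtain ⟨V, hV⟩ := ProfiniteGrp.exist_openNormalSubgroup_sub_open_nhds_of_one hopen (fun h => hne h.symm)
  let U : OpenNormalSubgroup G :=
    { toSubgroup := V.toSubgroup.comap f
      isOpen' := V.isOpen'.preimage hf
      isNormal' := inferInstance }
  obtain ⟨n, hn⟩ := hG U
  obtain ⟨m, hm⟩ := hH V
  have hdvd : (V.toSubgroup.comap f).index ∣ V.toSubgroup.index := by
    rw [Subgroup.index_comap]
    exact Subgroup.relIndex_dvd_index_of_normal _ _
  have h1 : (V.toSubgroup.comap f).index = 1 := by
    have hco : Nat.Coprime (p ^ n) (l ^ m) := ((Nat.coprime_primes hp hl).2 hpl).pow _ _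
    have hn' : (V.toSubgroup.comap f).index = p ^ n := hn
    rw [hn', hm] at hdvd
    rw [hn']
    exact Nat.eq_one_of_dvd_coprimes hco dvd_rfl hdvd
  have htop := Subgroup.index_eq_one.1 h1
  have hg : f g ∈ V.toSubgroup := (htop ▸ Subgroup.mem_top g : g ∈ V.toSubgroup.comap f)
  exact hV hg rfl

end Groth.Agent.S18422
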