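import Groth.Statements.S18425
-- import your own Groth.Agent.* helpers here
import Mathlib.CategoryTheory.Galois.IsFundamentalgroup
import Mathlib.CategoryTheory.Galois.Examples

set_option autoImplicit false
universe u
open Pi1

namespace Groth.Agent.S18425

open CategoryTheory in
/-- In the case of a discrete group G, let F be the forgetful functor from the category of finite G-sets
to finite sets. Then the canonical homomorphism from G to Aut(F), letting g act on every finite
G-set, extends to an isomorphism of topological groups from the profinite completion of G (the limit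
of the finite quotients G/U over normal subgroups U of finite index) onto Aut(F) with its profinite
topology. (The published statement is for an arbitrary topological group G, with finite G-sets
carrying a continuous action and the completion taken over open normal subgroups of finite index;
this row is the case of a discrete group.) -/
theorem result (G : Type u) [Group G] :
    ∃ φ : (ProfiniteGrp.ProfiniteCompletion.completion (GrpCat.of G)) ≃ₜ* Aut (Action.forget FintypeCat.{u} G),
      ∀ (g : G) (X : Action FintypeCat.{u} G) (x : X.V),
        (φ (ProfiniteGrp.ProfiniteCompletion.etaFn (GrpCat.of G) g)).hom.app X x = (X.ρ g).hom x := by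
  open scoped CategoryTheory.PreGaloisCategory in
    classical
    let F := Action.forget FintypeCat.{u} G
    let C := ProfiniteGrp.ProfiniteCompletion.completion (GrpCat.of G)
    let cl : C → ∀ N : FiniteIndexNormalSubgroup G, G ⧸ N.toSubgroup := fun c N => c.1 N
    -- kernel of an action
    let kerX : ∀ X : Action FintypeCat.{u} G, FiniteIndexNormalSubgroup G := fun X =>
      haveI : (MulAction.toPermHom G X.V).ker.FiniteIndex := Subgroup.finiteIndex_ker _
      FiniteIndexNormalSubgroup.ofSubgroup (MulAction.toPermHom G X.V).ker
    have hker : ∀ (X : Action FintypeCat.{u} G) (g : G), g ∈ (kerX X).toSubgroup ↔ ∀ x : X.V, g • x = x := fun X g =>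
      ⟨fun h x => DFunLike.congr_fun (MonoidHom.mem_ker.1 h) x, fun h => MonoidHom.mem_ker.2 (Equiv.ext h)⟩
    have hrep : ∀ (X : Action FintypeCat.{u} G) (g g' : G), (g : G ⧸ (kerX X).toSubgroup) = g' →
        ∀ x : X.V, g • x = g' • x := fun X g g' h x => by
      have := (hker X _).1 (QuotientGroup.eq.1 h) x
      rw [mul_smul] at this
      conv_lhs => rw [← this]
      rw [smul_inv_smul]
    let rep : C → Action FintypeCat.{u} G → G := fun c X => (cl c (kerX X)).out
    have hrep1 : ∀ (X : Action FintypeCat.{u} G) (x : X.V), rep 1 X • x = x := fun X x =>
      (hrep X _ 1 (QuotientGroup.out_eq' _) x).trans (one_smul G x)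
    have hrep2 : ∀ (c d : C) (X : Action FintypeCat.{u} G) (x : X.V), rep (c * d) X • x = rep c X • rep d X • x :=
      fun c d X x => by
        refine (hrep X _ (rep c X * rep d X) ?_ x).trans (mul_smul _ _ x)
        rw [QuotientGroup.out_eq', QuotientGroup.mk_mul, QuotientGroup.out_eq', QuotientGroup.out_eq']
        rfl
    letI act : ∀ X : Action FintypeCat.{u} G, MulAction C (F.obj X) := fun X =>
      { smul := fun c x => (fun y : X.V => rep c X • y) x
        one_smul := fun x => hrep1 X x
        mul_smul := fun c d x => hrep2 c d X x }
    -- the action can be computed modulo any smaller subgroup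
    have hval : ∀ (X : Action FintypeCat.{u} G) (N : FiniteIndexNormalSubgroup G) (hN : N ≤ kerX X) (c : C) (g : G),
        cl c N = g → ∀ x : F.obj X, c • x = (X.ρ g).hom x := fun X N hN c g h x => by
      refine hrep X (rep c X) g ((QuotientGroup.out_eq' _).trans ?_) x
      have h2 : QuotientGroup.map _ _ (MonoidHom.id G) hN (cl c N) = cl c (kerX X) := c.2 (homOfLE hN)
      rw [← h2, h]
      rfl
    haveI hnat : PreGaloisCategory.IsNaturalSMul F C := ⟨fun c X Y f x => by
      obtain ⟨g, hg⟩ := QuotientGroup.mk_surjective (cl c (kerX X ⊓ kerX Y))
      rw [hval X _ inf_le_left c g hg.symm x, hval Y _ inf_le_right c g hg.symm (F.map f x)]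
      exact congrArg (fun m : X.V ⟶ Y.V => m x) (f.comm g)⟩
    haveI hfund : PreGaloisCategory.IsFundamentalGroup F C :=
      { transitive_of_isGalois := fun X _ => ⟨fun x y => by
          obtain ⟨g, hg⟩ := (FintypeCat.Action.pretransitive_of_isConnected G X).exists_smul_eq x y
          exact ⟨ProfiniteGrp.ProfiniteCompletion.etaFn (GrpCat.of G) g, (hval X _ le_rfl _ g rfl x).trans hg⟩⟩
        continuous_smul := fun X => ⟨by
          haveI : DiscreteTopology ((ProfiniteGrp.ProfiniteCompletion.diagram (GrpCat.of G)).obj (kerX X)) := ⟨rfl⟩
          have : (fun p : C × F.obj X => p.1 • p.2) =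
              (fun p : ((ProfiniteGrp.ProfiniteCompletion.diagram (GrpCat.of G)).obj (kerX X)) × F.obj X =>
                (fun (a : G ⧸ (kerX X).toSubgroup) (y : X.V) => a.out • y) p.1 p.2) ∘
              Prod.map (fun c : C => c.1 (kerX X)) id := rfl
          rw [this]
          have hproj : Continuous (fun c : C => c.1 (kerX X)) :=
            ((ProfiniteGrp.limitCone (ProfiniteGrp.ProfiniteCompletion.diagram (GrpCat.of G))).π.app (kerX X)).hom.continuous_toFun
          exact continuous_of_discreteTopology.comp (hproj.prodMap continuous_id)⟩
        non_trivial' := fun c h => by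
          refine Subtype.ext (funext fun N => ?_)
          haveI : Finite (G ⧸ N.toSubgroup) := Subgroup.finite_quotient_of_finiteIndex
          letI : Fintype (G ⧸ N.toSubgroup) := Fintype.ofFinite _
          let X : Action FintypeCat.{u} G := Action.FintypeCat.ofMulAction G (FintypeCat.of (G ⧸ N.toSubgroup))
          have hN : N ≤ kerX X := fun g hg => (hker X g).2 fun x => by
            obtain ⟨y, rfl⟩ := QuotientGroup.mk_surjective (x : G ⧸ N.toSubgroup)
            show ((g * y : G) : G ⧸ N.toSubgroup) = (y : G ⧸ N.toSubgroup)
            rw [QuotientGroup.eq]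
            have := Subgroup.Normal.conj_mem inferInstance _ (inv_mem hg) y⁻¹
            rw [inv_inv] at this
            simpa [mul_assoc] using this
          obtain ⟨g, hg⟩ := QuotientGroup.mk_surjective (cl c N)
          have h1 := (hval X N hN c g hg.symm ((1 : G) : G ⧸ N.toSubgroup)).symm.trans (h X _)
          show cl c N = cl 1 N
          rw [← hg]
          exact (congrArg (fun a : G => (a : G ⧸ N.toSubgroup)) (mul_one g).symm).trans h1 }
    let e := PreGaloisCategory.toAutHomeo F C
    refine ⟨{ PreGaloisCategory.toAutMulEquiv F C with
      continuous_toFun := e.continuous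
      continuous_invFun := ?_ }, fun g X x => ?_⟩
    · exact (PreGaloisCategory.toAutMulEquiv_isHomeomorph F C).homeomorph.symm.continuous.congr fun t => by
        apply (PreGaloisCategory.toAutMulEquiv F C).injective
        exact ((PreGaloisCategory.toAutMulEquiv_isHomeomorph F C).homeomorph.apply_symm_apply t).trans
          ((PreGaloisCategory.toAutMulEquiv F C).apply_symm_apply t).symm
    · exact (PreGaloisCategory.toAut_hom_app_apply F _ _).trans (hval X _ le_rfl _ g rfl x)

end Groth.Agent.S18425
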