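import Groth.Statements.S18426
import Groth.Agent.CurveNorm.Basic

set_option autoImplicit false
set_option linter.style.haveILetI false
universe u
open AlgebraicGeometry CategoryTheory CategoryTheory.Limits
open Pi1

namespace Groth.Agent.S18426

open AlgebraicGeometry CategoryTheory in
theorem stalk_facts {T : Scheme.{u}} (R : CommRingCat.{u}) (j : Spec R ⟶ T) (_hj : IsOpenImmersion j)
    (P : PrimeSpectrum R) :
    Nonempty (T.presheaf.stalk (j P) ≃+* Localization.AtPrime P.asIdeal) :=
  ⟨((asIso (j.stalkMap P)).commRingCatIsoToRingEquiv).trans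
    (StructureSheaf.stalkIso _ P).toRingEquiv.symm⟩

open AlgebraicGeometry CategoryTheory CategoryTheory.Limits in
/-- Suppose X is an integral scheme that is Noetherian and normal, write K for its function field, and
take L to be a finite separable extension of K. Then the normalization of X in L, namely the
relative normalization of the morphism Spec L → Spec K → X, is finite over X. (That this
normalization is a normal integral scheme with function field L is not restated.) -/
theorem result {X : Scheme.{u}} [IsIntegral X] [IsNoetherian X]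
    (hX : Pi1.IsNormalScheme X) (L : Type u) [Field L] [Algebra X.functionField L] [FiniteDimensional X.functionField L]
    [Algebra.IsSeparable X.functionField L]
    [QuasiCompact (Spec.map (CommRingCat.ofHom (algebraMap X.functionField L)) ≫ X.fromSpecStalk (genericPoint X))]
    [QuasiSeparated (Spec.map (CommRingCat.ofHom (algebraMap X.functionField L)) ≫ X.fromSpecStalk (genericPoint X))] :
    IsFinite (Spec.map (CommRingCat.ofHom (algebraMap X.functionField L)) ≫ X.fromSpecStalk (genericPoint X)).fromNormalization := by
  let φ := algebraMap X.functionField L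
  let g := Spec.map (CommRingCat.ofHom φ) ≫ X.fromSpecStalk (genericPoint X)
  show IsFinite g.fromNormalization
  refine { finite_app := fun U hU => ?_ }
  letI := (g.app U).hom.toAlgebra
  rw [g.fromNormalization_app hU, CommRingCat.hom_comp, CommRingCat.hom_ofHom]
  refine RingHom.Finite.comp (RingHom.Finite.of_surjective _
    (g.normalizationObjIso hU).symm.commRingCatIsoToRingEquiv.surjective) ?_
  rw [RingHom.finite_algebraMap]
  by_cases hU0 : Nonempty U
  · obtain ⟨e, he⟩ := Groth.Agent.CurveNorm.exists_equiv φ g rfl U
    haveI := functionField_isFractionRing_of_isAffineOpen X U hU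
    letI : Algebra Γ(X, U) L := (φ.comp (X.germToFunctionField U).hom).toAlgebra
    haveI : IsScalarTower Γ(X, U) X.functionField L := IsScalarTower.of_algebraMap_eq fun _ => rfl
    haveI : IsDomain Γ(X, U) := inferInstance
    haveI : IsNoetherianRing Γ(X, U) := IsLocallyNoetherian.component_noetherian ⟨U, hU⟩
    haveI : IsIntegrallyClosed Γ(X, U) := by
      refine IsIntegrallyClosed.of_localization_maximal fun P _ hP => ?_
      haveI : P.IsPrime := hP.isPrime
      haveI : IsDomain (Localization.AtPrime P) := inferInstance
      obtain ⟨e'⟩ := stalk_facts Γ(X, U) hU.fromSpec inferInstance ⟨P, inferInstance⟩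
      haveI := (hX (hU.fromSpec (⟨P, inferInstance⟩ : PrimeSpectrum Γ(X, U)))).2
      exact IsIntegrallyClosed.of_equiv e'
    haveI := IsIntegralClosure.finite Γ(X, U) X.functionField L (integralClosure Γ(X, U) L)
    let ψ : Γ(Spec (CommRingCat.of L), g ⁻¹ᵁ U) ≃ₐ[Γ(X, U)] L :=
      AlgEquiv.ofRingEquiv (f := e.commRingCatIsoToRingEquiv) fun a => congrArg (fun h => h.hom a) he
    exact Module.Finite.equiv ψ.mapIntegralClosure.symm.toLinearEquiv
  · obtain rfl : U = ⊥ := TopologicalSpace.Opens.ext (Set.eq_empty_iff_forall_notMem.2 fun x hx => hU0 ⟨⟨x, hx⟩⟩)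
    haveI : Subsingleton Γ(X, (⊥ : X.Opens)) :=
      CommRingCat.subsingleton_of_isTerminal (Scheme.sheaf X).isTerminalOfEmpty
    haveI := Module.subsingleton Γ(X, (⊥ : X.Opens)) (integralClosure Γ(X, (⊥ : X.Opens)) Γ(Spec (CommRingCat.of L), g ⁻¹ᵁ (⊥ : X.Opens)))
    infer_instance

end Groth.Agent.S18426
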