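import Groth.Statements.S18427
import Groth.Agent.Castel.FibreConn
import Groth.Agent.StructPush.Basic
import Groth.Agent.Rigid.Smooth

set_option autoImplicit false
universe u
open Models

set_option backward.isDefEq.respectTransparency false
set_option backward.isDefEq.respectTransparency.types false

namespace Groth.Agent.S18427

open CategoryTheory AlgebraicGeometry in
/-- Let R be a discrete valuation ring with fraction field K, C a smooth proper geometrically connected
curve over K, and X a regular proper model of C over R (flat and proper over R, regular, with
generic fibre C). Then the structure morphism X → Spec R has geometrically connected fibres; in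
particular the special fibre of X is geometrically connected over the residue field of R. -/
theorem result (R : Type u) [CommRing R] [IsDomain R]
    [IsDiscreteValuationRing R] (C X : Scheme.{u})
    (f : C ⟶ Spec (CommRingCat.of (FractionRing R))) (p : X ⟶ Spec (CommRingCat.of R))
    (hC : Curve.IsSmoothProperCurve (FractionRing R) C f) [GeometricallyConnected f]
    (hX : Models.IsRegularProperModel R X p C f) :
    GeometricallyConnected p := by
  refine Castel.geometricallyConnected_of_regularProper hC ?_ hX
  obtain ⟨hp, hs, hi, -⟩ := hC
  haveI := hp; haveI := hs; haveI := hi
  haveI : GeometricallyReduced f := Rigid.geometricallyReduced_of_smooth f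
  exact (ConcreteCategory.isIso_iff_bijective _).2 (StructPush.bijective_appTop f)

end Groth.Agent.S18427
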