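import Groth.Statements.S18428
import Mathlib.CategoryTheory.Galois.Topology
import Mathlib.CategoryTheory.Action.Concrete
import Mathlib.Topology.Algebra.OpenSubgroup
import Mathlib.GroupTheory.Index
import Mathlib.Tactic.Group


set_option autoImplicit false
set_option linter.style.haveILetI false

universe u
open scoped FintypeCatDiscrete
open Pi1

namespace Groth.Agent.S18428

section
open CategoryTheory
open scoped CategoryTheory.PreGaloisCategory FintypeCatDiscrete

variable (G : Type u) [Group G] [TopologicalSpace G] [IsTopologicalGroup G]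

abbrev FF : ContAction FintypeCat.{u} G ⥤ FintypeCat.{u} := forget₂ (ContAction FintypeCat.{u} G) FintypeCat.{u}

theorem continuous_apply_ρ (X : ContAction FintypeCat.{u} G) (x : X.obj.V) :
    letI : TopologicalSpace X.obj.V := ⊥
    Continuous fun g : G => (X.obj.ρ g).hom x := by
  letI : TopologicalSpace X.obj.V := ⊥
  exact ((Action.isContinuous_def X.obj).1 X.2).comp (continuous_id.prodMk continuous_const)

theorem isOpen_stab (X : ContAction FintypeCat.{u} G) (x : X.obj.V) (y : X.obj.V) :
    IsOpen {g : G | (X.obj.ρ g).hom x = y} := by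
  letI : TopologicalSpace X.obj.V := ⊥
  haveI : DiscreteTopology X.obj.V := ⟨rfl⟩
  exact (isOpen_discrete ({y} : Set X.obj.V)).preimage (continuous_apply_ρ G X x)

/-- A finite set with an action through a homomorphism with open kernel. -/
noncomputable def obj' {Y : Type u} [Finite Y] (ρ : G →* Equiv.Perm Y) (h : IsOpen (ρ.ker : Set G)) :
    ContAction FintypeCat.{u} G :=
  letI : MulAction G (FintypeCat.of Y).obj := MulAction.compHom Y ρ
  ⟨Action.FintypeCat.ofMulAction G (FintypeCat.of Y), (Action.isContinuous_def _).2 (by
    haveI : DiscreteTopology ((forget₂ (Action FintypeCat.{u} G) TopCat).obj (Action.FintypeCat.ofMulAction G (FintypeCat.of Y))) := ⟨rfl⟩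
    haveI : DiscreteTopology ((forget₂ FintypeCat.{u} TopCat).obj (Action.FintypeCat.ofMulAction G (FintypeCat.of Y)).V) := ⟨rfl⟩
    refine continuous_prod_of_discrete_right.2 fun y => ?_
    refine continuous_discrete_rng.2 fun z => ?_
    refine isOpen_iff_forall_mem_open.2 fun g hg => ⟨(g * ·) '' (ρ.ker : Set G), ?_, isOpenMap_mul_left g _ h,
      ⟨1, one_mem _, mul_one g⟩⟩
    rintro _ ⟨k, hk, rfl⟩
    show ρ (g * k) y = z
    rw [map_mul, show ρ k = 1 from hk, mul_one]
    exact hg)⟩

theorem obj'_apply {Y : Type u} [Finite Y] (ρ : G →* Equiv.Perm Y) (h : IsOpen (ρ.ker : Set G)) (g : G) (y : Y) :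
    ((obj' G ρ h).obj.ρ g).hom y = ρ g y := rfl

theorem main :
    ∃ ι : G →* Aut (FF G),
      Continuous ι ∧
      (∀ (g : G) (X : ContAction FintypeCat.{u} G) (x : X.obj.V), (ι g).hom.app X x = (X.obj.ρ g).hom x) ∧
      DenseRange ι ∧
      ∀ (Q : Type u) [Group Q] [Finite Q] [TopologicalSpace Q] [DiscreteTopology Q] (π : G →* Q),
        Continuous π → ∃! ψ : Aut (FF G) →* Q,
          Continuous ψ ∧ ψ.comp ι = π := by
  classical
  let ι : G →* Aut (FF G) :=
    { toFun := fun g => NatIso.ofComponents
        (fun X => { hom := X.obj.ρ g, inv := X.obj.ρ g⁻¹,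
                    hom_inv_id := by
                      show X.obj.ρ g⁻¹ * X.obj.ρ g = 1
                      rw [← map_mul, inv_mul_cancel, map_one]
                    inv_hom_id := by
                      show X.obj.ρ g * X.obj.ρ g⁻¹ = 1
                      rw [← map_mul, mul_inv_cancel, map_one] })
        (fun {X Y} f => (f.hom.comm g).symm)
      map_one' := by
        apply Iso.ext; apply NatTrans.ext; funext X
        exact map_one X.obj.ρ
      map_mul' := fun g h => by
        apply Iso.ext; apply NatTrans.ext; funext X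
        exact map_mul X.obj.ρ g h }
  have happ : ∀ (g : G) (X : ContAction FintypeCat.{u} G) (x : X.obj.V), (ι g).hom.app X x = (X.obj.ρ g).hom x :=
    fun g X x => rfl
  have hι : Continuous ι := by
    refine continuous_induced_rng.2 (continuous_pi fun X => continuous_discrete_rng.2 fun a => ?_)
    have : (fun g => PreGaloisCategory.autEmbedding (FF G) (ι g) X) ⁻¹' {a} =
        ⋂ x : X.obj.V, {g : G | (X.obj.ρ g).hom x = a.hom x} := by
      ext g
      simp only [Set.mem_preimage, Set.mem_singleton_iff, Set.mem_iInter, Set.mem_setOf_eq]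
      constructor
      · rintro h x; rw [← h]; rfl
      · intro h; apply Iso.ext; exact ConcreteCategory.hom_ext _ _ h
    exact this ▸ isOpen_iInter_of_finite fun x => isOpen_stab G X x _
  have dense : DenseRange ι := by
    rw [DenseRange, dense_iff_inter_open]
    rintro U hU ⟨α, hα⟩
    obtain ⟨V, hV, rfl⟩ := isOpen_induced_iff.1 hU
    obtain ⟨I, u, hu, hsub⟩ := isOpen_pi_iff.1 hV _ hα
    let N : Subgroup G := ⨅ i : I, (i.1.obj.ρ : G →* _).ker
    have hN : IsOpen (N : Set G) := by
      rw [Subgroup.coe_iInf]
      refine isOpen_iInter_of_finite fun i => ?_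
      have : ((i.1.obj.ρ : G →* _).ker : Set G) = ⋂ x : i.1.obj.V, {g : G | (i.1.obj.ρ g).hom x = x} := by
        ext g
        simp only [SetLike.mem_coe, MonoidHom.mem_ker, Set.mem_iInter, Set.mem_setOf_eq]
        constructor
        · intro h x; rw [h]; rfl
        · intro h; exact ConcreteCategory.hom_ext _ _ h
      exact this ▸ isOpen_iInter_of_finite fun x => isOpen_stab G i.1 x _
    haveI : N.Normal := Subgroup.normal_iInf_normal fun i => inferInstance
    haveI : Finite (G ⧸ N) := by
      have hfi : N.FiniteIndex := by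
        refine Subgroup.finiteIndex_iInf fun i => ?_
        haveI : Finite (End i.1.obj.V) :=
          Finite.of_injective (fun a x => (ConcreteCategory.hom a) x) fun a b h => ConcreteCategory.hom_ext _ _ (congrFun h)
        haveI : Finite (Set.range (i.1.obj.ρ : G →* End i.1.obj.V)) := inferInstance
        refine ⟨?_⟩
        have hk : (i.1.obj.ρ : G →* End i.1.obj.V).ker = (i.1.obj.ρ : G →* End i.1.obj.V).toHomUnits.ker := by
          ext g; simp [MonoidHom.mem_ker, Units.ext_iff]
        haveI : Finite (End i.1.obj.V)ˣ := Finite.of_injective Units.val Units.val_injective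
        rw [hk, Subgroup.index_ker]
        exact Nat.card_pos.ne'
      exact Subgroup.finite_quotient_of_finiteIndex
    let ρ : G →* Equiv.Perm (G ⧸ N) := MulAction.toPermHom G (G ⧸ N)
    have hρ : IsOpen (ρ.ker : Set G) := Subgroup.isOpen_mono (H₁ := N) (fun g hg => Equiv.ext fun y => by
      obtain ⟨z, rfl⟩ := QuotientGroup.mk_surjective y
      show QuotientGroup.mk (g * z) = QuotientGroup.mk z
      rw [QuotientGroup.mk_mul, (QuotientGroup.eq_one_iff g).2 hg, one_mul]) hN
    let Y := obj' G ρ hρ
    obtain ⟨g, hg⟩ := QuotientGroup.mk_surjective (α.hom.app Y (1 : G ⧸ N) : G ⧸ N)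
    refine ⟨ι g, hsub fun i hi => ?_, g, rfl⟩
    have e : PreGaloisCategory.autEmbedding (FF G) (ι g) i = PreGaloisCategory.autEmbedding (FF G) α i := by
      apply Iso.ext
      refine ConcreteCategory.hom_ext _ _ fun x => ?_
      let f : G ⧸ N → i.obj.V := Quotient.lift (fun h => (i.obj.ρ h).hom x) fun a b hab => by
        have hab' : a⁻¹ * b ∈ N := QuotientGroup.leftRel_apply.1 hab
        have h1 : i.obj.ρ (a⁻¹ * b) = 1 := (Subgroup.mem_iInf.1 hab' ⟨i, hi⟩ : _)
        show (i.obj.ρ a).hom x = (i.obj.ρ b).hom x
        conv_rhs => rw [show b = a * (a⁻¹ * b) by group, map_mul, h1, mul_one]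
      let F : Y ⟶ i := ObjectProperty.homMk
        { hom := FintypeCat.homMk f
          comm := fun h => ConcreteCategory.hom_ext _ _ fun y => by
            obtain ⟨z, rfl⟩ := QuotientGroup.mk_surjective (y : G ⧸ N)
            show (i.obj.ρ (h * z)).hom x = (i.obj.ρ h).hom ((i.obj.ρ z).hom x)
            rw [map_mul]; rfl }
      have h1 : α.hom.app i (f (1 : G ⧸ N)) = f (α.hom.app Y (1 : G ⧸ N)) :=
        ConcreteCategory.congr_hom (α.hom.naturality F) (1 : G ⧸ N)
      have h2 : f (1 : G ⧸ N) = x := by
        show (i.obj.ρ 1).hom x = x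
        rw [map_one]; rfl
      rw [h2, ← hg] at h1
      exact h1.symm
    rw [e]
    exact (hu i hi).2
  refine ⟨ι, hι, happ, dense, ?_⟩
  intro Q _ _ _ _ π hπ
  let ρ : G →* Equiv.Perm Q := (MulAction.toPermHom Q Q).comp π
  have hρ : IsOpen (ρ.ker : Set G) := Subgroup.isOpen_mono (H₁ := π.ker)
    (fun g hg => by rw [MonoidHom.mem_ker, MonoidHom.comp_apply, show π g = 1 from hg, map_one])
    ((isOpen_discrete ({1} : Set Q)).preimage hπ)
  let X := obj' G ρ hρ
  let r : Q → (X ⟶ X) := fun q => ObjectProperty.homMk
    { hom := FintypeCat.homMk fun y : Q => y * q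
      comm := fun h => ConcreteCategory.hom_ext _ _ fun (y : Q) => mul_assoc (π h) y q }
  let ev : Aut (FF G) → Q := fun α => α.hom.app X (1 : Q)
  have hr : ∀ (α : Aut (FF G)) (q : Q), @Eq Q (α.hom.app X q) (ev α * q) := fun α q => by
    have h := ConcreteCategory.congr_hom (α.hom.naturality (r q)) (1 : Q)
    have h' : @Eq Q (α.hom.app X ((1 : Q) * q : Q)) (ev α * q) := h
    rwa [one_mul] at h'
  have hev : Continuous ev := by
    let ev' : Aut ((FF G).obj X) → Q := fun a => a.hom (1 : Q)
    have h1 : Continuous fun α : Aut (FF G) => PreGaloisCategory.autEmbedding (FF G) α X :=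
      (continuous_apply X).comp continuous_induced_dom
    exact (continuous_of_discreteTopology (f := ev')).comp h1
  let ψ : Aut (FF G) →* Q := MonoidHom.mk' ev fun α β => hr α (ev β)
  refine ⟨ψ, ⟨hev, ?_⟩, fun ψ' ⟨hψ', hψ'π⟩ => ?_⟩
  · ext g
    exact mul_one (π g)
  · refine MonoidHom.ext fun α => congrFun (dense.equalizer hψ' hev (funext fun g => ?_)) α
    exact (DFunLike.congr_fun hψ'π g).trans (mul_one (π g)).symm

end


open CategoryTheory in
/-- Let G be a topological group, consider the category of finite sets (with the discrete topology)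
equipped with a continuous action of G, and let F be the forgetful functor to finite sets, so that
Aut(F) is a profinite group. Then the homomorphism ι : G → Aut(F) letting g act on every finite
continuous G-set exists and is continuous, has dense image, and every continuous homomorphism from G
to a finite discrete group factors uniquely through ι by a continuous homomorphism on Aut(F). As
Aut(F) is profinite, these properties say that ι induces an isomorphism of topological groups from
the profinite completion of G (the limit of the quotients G/U by open normal subgroups of finite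
index) onto Aut(F). -/
theorem result (G : Type u) [Group G]
    [TopologicalSpace G] [IsTopologicalGroup G] :
    ∃ ι : G →* Aut (forget₂ (ContAction FintypeCat.{u} G) FintypeCat.{u}),
      Continuous ι ∧
      (∀ (g : G) (X : ContAction FintypeCat.{u} G) (x : X.obj.V), (ι g).hom.app X x = (X.obj.ρ g).hom x) ∧
      DenseRange ι ∧
      ∀ (Q : Type u) [Group Q] [Finite Q] [TopologicalSpace Q] [DiscreteTopology Q] (π : G →* Q),
        Continuous π → ∃! ψ : Aut (forget₂ (ContAction FintypeCat.{u} G) FintypeCat.{u}) →* Q,
          Continuous ψ ∧ ψ.comp ι = π := by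
  exact Groth.Agent.S18428.main G

end Groth.Agent.S18428
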