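import Groth.Statements.S18429
import Mathlib.Tactic

set_option autoImplicit false
set_option linter.style.haveILetI false

universe u
open SpinCurv

namespace Groth.Agent.S18429

/-- Let n ≥ 1 and r ≥ 2 be integers and let e_0, …, e_{nr} be integers with e_0 = e_{nr} = 0 (the
coefficients of a chain of nr - 1 exceptional curves joining two non-exceptional components with
coefficient zero) such that at every interior index 1 ≤ j ≤ nr - 1 the second difference e_{j-1} - 2
e_j + e_{j+1} (the degree of the divisor Σ e_i E_i on the j-th curve of the chain) is divisible by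
r. Then there are integers e'_0, …, e'_{nr}, with e'_j ≡ e_j modulo r for every interior j, with
e'_0 = e'_{nr} = 0 and every e'_j ≤ 0, whose second differences at the interior indices are each 0
or r, and are nonzero at no two distinct interior indices. -/
theorem result (n r : ℕ) (hn : 1 ≤ n) (hr : 2 ≤ r)
    (e : ℕ → ℤ) (he0 : e 0 = 0) (henr : e (n * r) = 0)
    (hdiv : ∀ j : ℕ, 1 ≤ j → j < n * r → (r : ℤ) ∣ e (j - 1) - 2 * e j + e (j + 1)) :
    ∃ e' : ℕ → ℤ, e' 0 = 0 ∧ e' (n * r) = 0 ∧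
      (∀ j : ℕ, 1 ≤ j → j < n * r → (r : ℤ) ∣ e' j - e j) ∧
      (∀ j : ℕ, j ≤ n * r → e' j ≤ 0) ∧
      (∀ j : ℕ, 1 ≤ j → j < n * r →
        (e' (j - 1) - 2 * e' j + e' (j + 1) = 0 ∨ e' (j - 1) - 2 * e' j + e' (j + 1) = r)) ∧
      (∀ j j' : ℕ, 1 ≤ j → j < n * r → 1 ≤ j' → j' < n * r →
        e' (j - 1) - 2 * e' j + e' (j + 1) ≠ 0 → e' (j' - 1) - 2 * e' j' + e' (j' + 1) ≠ 0 → j = j') := by
  classical
  let a : ℤ := e 1 % r
  have hr0 : (0 : ℤ) < r := by exact_mod_cast (by omega : 0 < r)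
  have ha0 : 0 ≤ a := Int.emod_nonneg _ hr0.ne'
  have har : a < r := Int.emod_lt_of_pos _ hr0
  have h1 : ∀ k : ℕ, k + 1 ≤ n * r → (r : ℤ) ∣ (e (k + 1) - e k) - a := by
    intro k
    induction k with
    | zero =>
      intro _
      rw [he0]
      simpa using Int.dvd_self_sub_emod (m := (r : ℤ)) (x := e 1)
    | succ k ih =>
      intro hk
      have h := hdiv (k + 1) (by omega) (by omega)
      simp only [Nat.add_sub_cancel] at h
      obtain ⟨c, hc⟩ := dvd_add h (ih (by omega))
      exact ⟨c, by linarith⟩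
  have h2 : ∀ k : ℕ, k ≤ n * r → (r : ℤ) ∣ e k - (k : ℤ) * a := by
    intro k
    induction k with
    | zero => intro _; simp [he0]
    | succ k ih =>
      intro hk
      obtain ⟨c, hc⟩ := dvd_add (h1 k hk) (ih (by omega))
      exact ⟨c, by push_cast; linarith⟩
  let N : ℤ := (n : ℤ) * a
  let e' : ℕ → ℤ := fun j => if (j : ℤ) ≤ N then (a - r) * j else a * j - N * r
  have hN0 : 0 ≤ N := by positivity
  have hNle : N ≤ ((n * r : ℕ) : ℤ) := by
    push_cast
    exact mul_le_mul_of_nonneg_left har.le (by positivity)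
  have hlo : ∀ j : ℕ, (j : ℤ) ≤ N → e' j = (a - r) * j := fun j h => if_pos h
  have hhi : ∀ j : ℕ, N ≤ (j : ℤ) → e' j = a * j - N * r := by
    intro j h
    by_cases hj : (j : ℤ) ≤ N
    · rw [hlo j hj, show (j : ℤ) = N from le_antisymm hj h]; ring
    · exact if_neg hj
  have hdd : ∀ j : ℕ, 1 ≤ j → j < n * r →
      e' (j - 1) - 2 * e' j + e' (j + 1) = if (j : ℤ) = N then (r : ℤ) else 0 := by
    intro j hj hj'
    have hjm : ((j - 1 : ℕ) : ℤ) = (j : ℤ) - 1 := by omega
    rcases lt_trichotomy (j : ℤ) N with h | h | h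
    · rw [if_neg h.ne, hlo _ (by omega), hlo _ h.le, hlo _ (by push_cast; omega), hjm]
      push_cast; ring
    · rw [if_pos h, hlo _ (by omega), hlo _ h.le, hhi _ (by push_cast; omega), hjm, ← h]
      push_cast; ring
    · rw [if_neg h.ne', hhi _ (by omega), hhi _ h.le, hhi _ (by push_cast; omega), hjm]
      push_cast; ring
  refine ⟨e', ?_, ?_, fun j hj hj' => ?_, fun j hj => ?_, fun j hj hj' => ?_, ?_⟩
  · rw [hlo 0 (by simpa using hN0)]; simp
  · rw [hhi _ hNle]; push_cast; ring
  · have h := h2 j hj'.le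
    by_cases hjN : (j : ℤ) ≤ N
    · rw [hlo j hjN]
      obtain ⟨c, hc⟩ := h
      exact ⟨-c - j, by linear_combination -hc⟩
    · rw [hhi j (by omega)]
      obtain ⟨c, hc⟩ := h
      exact ⟨-c - N, by linear_combination -hc⟩
  · by_cases hjN : (j : ℤ) ≤ N
    · rw [hlo j hjN]
      exact mul_nonpos_of_nonpos_of_nonneg (by omega) (by positivity)
    · rw [hhi j (by omega)]
      have : (j : ℤ) * a ≤ ((n * r : ℕ) : ℤ) * a := mul_le_mul_of_nonneg_right (by exact_mod_cast hj) ha0
      push_cast at this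
      nlinarith
  · rw [hdd j hj hj']
    split_ifs <;> simp
  · intro j j' hj hj1 hj' hj1' h h'
    rw [hdd j hj hj1] at h
    rw [hdd j' hj' hj1'] at h'
    have e1 : (j : ℤ) = N := by_contra fun hc => h (if_neg hc)
    have e2 : (j' : ℤ) = N := by_contra fun hc => h' (if_neg hc)
    omega

end Groth.Agent.S18429
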