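import Groth.Statements.S1843
import Groth.Agent.AVDeg.KernelPRank
import Groth.Agent.AVDeg.HomBC
import Groth.Agent.GrpLoc.BaseChange

set_option autoImplicit false
universe u v
open CategoryTheory MonoidalCategory CartesianMonoidalCategory MonObj GrpObj AlgebraicGeometry
open GrpSch
open CategoryTheory.Limits

namespace Groth.Agent.S1843

/-- Let A be an abelian variety of dimension g over a field of characteristic p > 0. The set of points
of A mapped to the identity point by multiplication by p has at most p^g elements. -/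
theorem result (K : Type u) [Field K] (p : ℕ) [Fact p.Prime] [CharP K p] (A : Over (Spec (CommRingCat.of K))) [GrpObj A] [IsProper A.hom] [GeometricallyIntegral A.hom] (g : ℕ) (hg : topologicalKrullDim A.left = g) : Set.encard {a : A.left | (𝟙 A ^ p).left a = η[A].left (IsLocalRing.closedPoint K)} ≤ (p ^ g : ℕ) := by
  haveI : IsCommMonObj A := isCommMonObj_of_isProper_of_geometricallyIntegral A
  let L := AlgebraicClosure K
  let σ : Spec (CommRingCat.of L) ⟶ Spec (CommRingCat.of K) := Groth.Agent.AVDeg.specMap K L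
  let AL := Groth.Agent.AVDeg.bcK K L A
  haveI : CharP L p := charP_of_injective_algebraMap (algebraMap K L).injective p
  have hgL : topologicalKrullDim AL.left = (g : WithBot ℕ∞) :=
    (Groth.Agent.AVDeg.topologicalKrullDim_bcK (A := A) L).trans hg
  obtain ⟨i, hi, hc, -⟩ := Groth.Agent.AVDeg.exists_pRank p hgL
  let π := pullback.fst A.hom σ
  haveI : Surjective σ :=
    ⟨fun _ => ⟨IsLocalRing.closedPoint L, Subsingleton.elim (α := PrimeSpectrum K) _ _⟩⟩
  haveI : Surjective π := inferInstanceAs (Surjective (pullback.fst A.hom σ))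
  have hmap : (Over.pullback σ).map (𝟙 A ^ p) = 𝟙 AL ^ p := by
    refine (map_pow (Over.pullback σ).homMonoidHom (𝟙 A) p).trans ?_
    exact congrArg (fun f => f ^ p) ((Over.pullback σ).map_id A)
  have sq := Groth.Agent.GrpLoc.isPullback_bc σ (𝟙 A ^ p)
  rw [hmap] at sq
  have heta : π.base (η[AL].left.base (IsLocalRing.closedPoint L : ↥(Spec (CommRingCat.of L)))) = η[A].left.base (IsLocalRing.closedPoint K : ↥(Spec (CommRingCat.of K))) := by
    have h1 : η[AL].left ≫ π = (Functor.LaxMonoidal.ε (Over.pullback σ)).left ≫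
        pullback.fst (𝟙_ (Over (Spec (CommRingCat.of K)))).hom σ ≫ η[A].left := by
      show (Functor.LaxMonoidal.ε (Over.pullback σ) ≫ (Over.pullback σ).map η[A]).left ≫ π = _
      rw [Over.comp_left, Category.assoc, Groth.Agent.GrpLoc.bc_fst]
    refine (congrArg (fun f : _ ⟶ A.left => f.base (IsLocalRing.closedPoint L : ↥(Spec (CommRingCat.of L)))) h1).trans ?_
    exact congrArg η[A].left.base (Subsingleton.elim (α := PrimeSpectrum K) _ _)
  let S := {a : A.left | (𝟙 A ^ p).left a = η[A].left (IsLocalRing.closedPoint K)}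
  let e := η[AL].left (IsLocalRing.closedPoint L)
  let T := {b : AL.left | (𝟙 AL ^ p).left b = e}
  have hST : S ⊆ π.base '' T := by
    intro a ha
    obtain ⟨z, hz1, hz2⟩ := Scheme.Pullback.exists_preimage_pullback (f := (𝟙 A ^ p).left) (g := π) a e (ha.trans heta.symm)
    refine ⟨sq.isoPullback.inv z, ?_, ?_⟩
    · refine (congrArg (fun f : _ ⟶ AL.left => f.base z) sq.isoPullback_inv_snd).trans hz2
    · exact (congrArg (fun f : _ ⟶ A.left => f.base z) sq.isoPullback_inv_fst).trans hz1
  let φ : {a : Groth.Agent.AVDeg.one' L ⟶ AL // a ≫ (𝟙 AL ^ p) = η[AL]} → AL.left :=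
    fun a => a.1.left.base (IsLocalRing.closedPoint L)
  have hT : T ⊆ Set.range φ := by
    intro b hb
    haveI : IsFinite (𝟙 AL ^ p).left := Groth.Agent.AVDeg.isFinite_pow_id (A := AL) (Fact.out : p.Prime).ne_zero
    have he : IsClosed ({e} : Set AL.left) := by
      haveI := isClosedImmersion_of_comp_eq_id AL.hom η[AL].left (Over.w η[AL])
      have h2 := η[AL].left.isClosedEmbedding.isClosedMap {(IsLocalRing.closedPoint L : ↥(Spec (CommRingCat.of L)))} (isClosed_discrete (α := PrimeSpectrum L) _)
      convert h2 using 1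
      exact (Set.image_singleton (f := η[AL].left.base)).symm
    have hb' : IsClosed ({b} : Set AL.left) := by
      haveI : JacobsonSpace AL.left := LocallyOfFiniteType.jacobsonSpace AL.hom
      refine isClosed_singleton_of_isLocallyClosed_singleton ?_
      haveI : DiscreteTopology T := ((𝟙 AL ^ p).left.isDiscrete_preimage_singleton e).1
      obtain ⟨U, hU, hU'⟩ := isOpen_induced_iff.1 (isOpen_discrete ({⟨b, hb⟩} : Set T))
      refine ⟨U, T, hU, he.preimage (𝟙 AL ^ p).left.continuous, ?_⟩
      ext x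
      have := fun hx : x ∈ T => Set.ext_iff.1 hU' ⟨x, hx⟩
      simp only [Set.mem_preimage, Set.mem_singleton_iff, Subtype.mk.injEq] at this
      constructor
      · rintro rfl
        exact ⟨(this hb).2 rfl, hb⟩
      · rintro ⟨hxU, hxT⟩
        exact (this hxT).1 hxU
    let a : Groth.Agent.AVDeg.one' L ⟶ AL :=
      Over.homMk (pointOfClosedPoint AL.hom b hb') (pointOfClosedPoint_comp _ _ _)
    refine ⟨⟨a, ?_⟩, pointOfClosedPoint_apply _ _ _ _⟩
    refine Over.OverMorphism.ext (ext_of_apply_closedPoint_eq AL.hom ?_ ?_ ?_)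
    · exact Over.w (a ≫ (𝟙 AL ^ p))
    · exact Over.w η[AL]
    · show (𝟙 AL ^ p).left (a.left (IsLocalRing.closedPoint L)) = e
      rw [show a.left (IsLocalRing.closedPoint L) = b from pointOfClosedPoint_apply _ _ _ _]
      exact hb
  have hcard : Nat.card {a : Groth.Agent.AVDeg.one' L ⟶ AL // a ≫ (𝟙 AL ^ p) = η[AL]} ≤ p ^ g := by
    rw [← Nat.card_congr (Groth.Agent.AVDeg.torsEquiv p)]
    have h1 := hc 1
    rw [pow_one] at h1
    rw [h1]
    exact Nat.pow_le_pow_right (Fact.out : p.Prime).pos hi
  haveI : Finite (Groth.Agent.AVDeg.tors (Additive (Groth.Agent.AVDeg.one' L ⟶ AL)) p) :=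
    (Groth.Agent.AVDeg.natCard_tors_le hgL (Fact.out : p.Prime).ne_zero).1
  haveI : Finite {a : Groth.Agent.AVDeg.one' L ⟶ AL // a ≫ (𝟙 AL ^ p) = η[AL]} :=
    Finite.of_equiv _ (Groth.Agent.AVDeg.torsEquiv p)
  calc S.encard ≤ (π.base '' T).encard := Set.encard_le_encard hST
    _ ≤ T.encard := Set.encard_image_le _ _
    _ ≤ (Set.range φ).encard := Set.encard_le_encard hT
    _ ≤ ENat.card {a : Groth.Agent.AVDeg.one' L ⟶ AL // a ≫ (𝟙 AL ^ p) = η[AL]} := by
        rw [← Set.encard_univ, ← Set.image_univ]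
        exact Set.encard_image_le _ _
    _ ≤ (p ^ g : ℕ) := by
        rw [ENat.card_eq_coe_natCard]
        exact_mod_cast hcard

end Groth.Agent.S1843
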