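import Groth.Statements.S18431
import Mathlib.RingTheory.LocalRing.ResidueField.Basic
import Mathlib.Algebra.Ring.GeomSum
import Mathlib.Tactic

set_option autoImplicit false
universe u
open SpinCurv

namespace Groth.Agent.S18431

/-- Let R be a Noetherian local ring in which the natural number r is invertible and let ξ, ζ ∈ R
satisfy ξ^r = 1 and ζ^r = 1. Then either ξ = ζ, or ξ - ζ is a unit of R. (Consequently an element of
R annihilated by ξ - ζ is zero unless ξ = ζ. In the published setting R is moreover complete; the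
step does not use completeness.) -/
theorem result (R : Type u) [CommRing R] [IsNoetherianRing R] [IsLocalRing R]
    (r : ℕ) (hr : IsUnit (r : R)) (ξ ζ : R) (hξ : ξ ^ r = 1) (hζ : ζ ^ r = 1) :
    ξ = ζ ∨ IsUnit (ξ - ζ) := by
  by_cases hu : IsUnit (ξ - ζ)
  · exact Or.inr hu
  refine Or.inl (sub_eq_zero.mp ?_)
  have h0 : (∑ i ∈ Finset.range r, ξ ^ i * ζ ^ (r - 1 - i)) * (ξ - ζ) = 0 := by
    rw [geom_sum₂_mul, hξ, hζ, sub_self]
  refine (IsUnit.mul_right_eq_zero ?_).mp h0
  have hres : IsLocalRing.residue R ξ = IsLocalRing.residue R ζ := by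
    rw [← sub_eq_zero, ← map_sub, IsLocalRing.residue_eq_zero_iff]
    exact hu
  refine (isUnit_map_iff (IsLocalRing.residue R) _).mp ?_
  rw [map_sum]
  have : ∀ i ∈ Finset.range r, IsLocalRing.residue R (ξ ^ i * ζ ^ (r - 1 - i)) =
      IsLocalRing.residue R (ζ ^ (r - 1)) := by
    intro i hi
    have := Finset.mem_range.mp hi
    rw [map_mul, map_pow, map_pow, hres, ← pow_add, map_pow]
    congr 1
    omega
  rw [Finset.sum_congr rfl this, Finset.sum_const, Finset.card_range, nsmul_eq_mul]
  rcases Nat.eq_zero_or_pos r with hr0 | hr0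
  · rw [hr0, Nat.cast_zero, isUnit_zero_iff] at hr
    exact absurd hr zero_ne_one
  · have hζu : IsUnit ζ := IsUnit.of_mul_eq_one _ (by rw [← pow_succ', Nat.sub_add_cancel hr0, hζ] : ζ * ζ ^ (r - 1) = 1)
    refine IsUnit.mul ?_ ((hζu.pow _).map _)
    simpa using hr.map (IsLocalRing.residue R)

end Groth.Agent.S18431
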