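import Groth.Statements.S18432
import Groth.Agent.NodeModel.Alpha

set_option autoImplicit false
universe u
open SpinCurv

namespace Groth.Agent.S18432

/-- Let R be a complete Noetherian local ring, p, q elements of its maximal ideal, A = R[[x, y]]/(xy -
pq), and α(p, q) the A-linear endomorphism of A² with matrix (x p; q y), sending a column (a, b) to
(x a + p b, q a + y b). Then the kernel of α(p, q) is the submodule of A² generated by the columns
(p, -x) and (y, -q); equivalently the image of α(p, q) (the standard rank-one torsion-free module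
E(p, q)) is presented by two generators ξ, v with the relations p ξ = x v and y ξ = q v. -/
theorem result (R : Type u) [CommRing R] [IsNoetherianRing R] [IsLocalRing R]
    [IsAdicComplete (IsLocalRing.maximalIdeal R) R]
    (p q : R) (hp : p ∈ IsLocalRing.maximalIdeal R) (hq : q ∈ IsLocalRing.maximalIdeal R) :
    LinearMap.ker (Matrix.mulVecLin (SpinCurv.nodeAlpha R p q)) =
      Submodule.span (SpinCurv.NodeRing R (p * q))
        {![algebraMap R (SpinCurv.NodeRing R (p * q)) p, -SpinCurv.NodeRing.x R (p * q)],
         ![SpinCurv.NodeRing.y R (p * q), -algebraMap R (SpinCurv.NodeRing R (p * q)) q]} := by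
  have hπ : p * q ∈ IsLocalRing.maximalIdeal R := Ideal.mul_mem_right _ _ hp
  refine le_antisymm (fun v hv => ?_) fun v hv => Groth.Agent.NodeModel.mulVec_eq_zero v hv
  obtain ⟨F, G, hFG⟩ := Groth.Agent.NodeModel.exists_normal (m := IsLocalRing.maximalIdeal R) hπ v
  have h0 := Groth.Agent.NodeModel.mulVec_eq_zero _ hFG
  rw [Matrix.mulVec_sub, show Matrix.mulVec (SpinCurv.nodeAlpha R p q) v = 0 from hv, zero_sub, neg_eq_zero] at h0
  have hz : ![SpinCurv.NodeRing.ofX R (p * q) (0 : PowerSeries R), SpinCurv.NodeRing.ofY R (p * q) 0] = 0 := by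
    have e0 : ∀ l : Fin 2, Ideal.Quotient.mk (Ideal.span {(MvPowerSeries.X 0 * MvPowerSeries.X 1 -
        MvPowerSeries.C (p * q) : MvPowerSeries (Fin 2) R)}) (PowerSeries.toMvPowerSeries l (0 : PowerSeries R)) = 0 :=
      fun l => by rw [map_zero, map_zero]
    ext i; fin_cases i
    · exact e0 0
    · exact e0 1
  have h1 : (F, G) = (0, 0) := Groth.Agent.NodeModel.injective_alpha (m := IsLocalRing.maximalIdeal R) hπ (by
    refine h0.trans ?_
    exact ((congrArg _ hz).trans (Matrix.mulVec_zero _)).symm)
  obtain ⟨rfl, rfl⟩ := Prod.mk.inj h1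
  rwa [hz, sub_zero] at hFG

end Groth.Agent.S18432
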