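import Groth.Statements.S18434
import Mathlib.RingTheory.MvPowerSeries.Basic
import Mathlib

set_option autoImplicit false
set_option linter.style.haveILetI false

universe u
open SpinCurv

namespace Groth.Agent.S18434

/-- The exponent `(i, j)`. -/
noncomputable def ex (i j : ℕ) : Fin 2 →₀ ℕ := Finsupp.single 0 i + Finsupp.single 1 j

lemma ex_inj {a b c d : ℕ} : ex a b = ex c d ↔ a = c ∧ b = d := by
  refine ⟨fun h => ⟨?_, ?_⟩, fun h => by rw [h.1, h.2]⟩
  · simpa [ex] using congrArg (fun m => m 0) h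
  · simpa [ex] using congrArg (fun m => m 1) h

lemma ex_le {a b c d : ℕ} : ex a b ≤ ex c d ↔ a ≤ c ∧ b ≤ d := by
  simp [Finsupp.le_def, Fin.forall_fin_two, ex]

/-- The series with coefficients shifted by `b`. -/
noncomputable def sh {k : Type u} (φ : (Fin 2 →₀ ℕ) → k) (b : Fin 2 →₀ ℕ) : MvPowerSeries (Fin 2) k := fun l => φ (l + b)

lemma shift {k : Type u} [Field k] (φ : (Fin 2 →₀ ℕ) → k) (b m : Fin 2 →₀ ℕ) :
    MvPowerSeries.coeff m (sh φ b * MvPowerSeries.monomial b 1) =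
      if b ≤ m then φ m else 0 := by
  rw [MvPowerSeries.coeff_mul_monomial]
  split_ifs with hb
  · rw [mul_one, MvPowerSeries.coeff_apply, sh, tsub_add_cancel_of_le hb]
  · rfl

lemma decomp {k : Type u} [Field k] (f : MvPowerSeries (Fin 2) k) (a b c : Fin 2 →₀ ℕ)
    (h : ∀ m, ¬ a ≤ m → ¬ b ≤ m → ¬ c ≤ m → MvPowerSeries.coeff m f = 0) :
    f ∈ Ideal.span {MvPowerSeries.monomial a (1 : k), MvPowerSeries.monomial b 1, MvPowerSeries.monomial c 1} := by
  classical
  let φ₂ : (Fin 2 →₀ ℕ) → k := fun m => if a ≤ m then 0 else MvPowerSeries.coeff m f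
  let φ₃ : (Fin 2 →₀ ℕ) → k := fun m => if a ≤ m ∨ b ≤ m then 0 else MvPowerSeries.coeff m f
  have e : f = sh (fun l => MvPowerSeries.coeff l f) a * MvPowerSeries.monomial a 1 +
      sh φ₂ b * MvPowerSeries.monomial b 1 +
      sh φ₃ c * MvPowerSeries.monomial c 1 := by
    ext m
    rw [map_add, map_add, shift, shift, shift]
    by_cases ha : a ≤ m
    · simp [φ₂, φ₃, ha]
    by_cases hb : b ≤ m
    · simp [φ₂, φ₃, ha, hb]
    by_cases hc : c ≤ m
    · simp [φ₂, φ₃, ha, hb, hc]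
    · simp [ha, hb, hc, h m ha hb hc]
  rw [e]
  refine add_mem (add_mem ?_ ?_) ?_ <;> exact Ideal.mul_mem_left _ _ (Ideal.subset_span (by simp))


/-- Let k be a field, u, v ≥ 1 integers and w ∈ k nonzero. In the ring A = k[[x, y]]/(xy), the quotient
A/(x^u, w y^v) has dimension u + v - 1 over k (a basis is 1, x, …, x^{u-1}, y, …, y^{v-1}); this is
the length of the cokernel at the node of a map whose image is generated by x^u and w y^v. -/
theorem result (k : Type u) [Field k] (u v : ℕ) (hu : 1 ≤ u) (hv : 1 ≤ v)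
    (w : k) (hw : w ≠ 0) :
    Module.finrank k (SpinCurv.NodeRing k 0 ⧸
      Ideal.span {SpinCurv.NodeRing.x k 0 ^ u, algebraMap k (SpinCurv.NodeRing k 0) w * SpinCurv.NodeRing.y k 0 ^ v}) =
      u + v - 1 := by
  classical
  set I : Ideal (MvPowerSeries (Fin 2) k) :=
    Ideal.span {(MvPowerSeries.X 0 * MvPowerSeries.X 1 - MvPowerSeries.C 0 : MvPowerSeries (Fin 2) k)} with hI
  set J := Ideal.span {SpinCurv.NodeRing.x k 0 ^ u, algebraMap k (SpinCurv.NodeRing k 0) w * SpinCurv.NodeRing.y k 0 ^ v}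
  let ψ : MvPowerSeries (Fin 2) k →ₗ[k] SpinCurv.NodeRing k 0 ⧸ J :=
    ((Ideal.Quotient.mkₐ k J).comp (Ideal.Quotient.mkₐ k I)).toLinearMap
  let Φ : MvPowerSeries (Fin 2) k →ₗ[k] (Fin u → k) × (Fin (v - 1) → k) :=
    LinearMap.prod (LinearMap.pi fun i : Fin u => MvPowerSeries.coeff (ex (i : ℕ) 0))
      (LinearMap.pi fun j : Fin (v - 1) => MvPowerSeries.coeff (ex 0 ((j : ℕ) + 1)))
  have hΦ : Function.Surjective Φ := by
    rintro ⟨a, b⟩
    refine ⟨∑ i : Fin u, MvPowerSeries.monomial (ex (i : ℕ) 0) (a i) +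
      ∑ j : Fin (v - 1), MvPowerSeries.monomial (ex 0 ((j : ℕ) + 1)) (b j), ?_⟩
    refine Prod.ext (funext fun i => ?_) (funext fun j => ?_)
    · simp [Φ, map_sum, MvPowerSeries.coeff_monomial, ex_inj, Fin.val_inj]
    · simp [Φ, map_sum, MvPowerSeries.coeff_monomial, ex_inj, Fin.val_inj]
  have hψ : Function.Surjective ψ := Ideal.Quotient.mk_surjective.comp Ideal.Quotient.mk_surjective
  have hexy : (MvPowerSeries.X 0 * MvPowerSeries.X 1 : MvPowerSeries (Fin 2) k) = MvPowerSeries.monomial (ex 1 1) 1 := by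
    rw [MvPowerSeries.X_def, MvPowerSeries.X_def, MvPowerSeries.monomial_mul_monomial, mul_one]; rfl
  have hxu : (MvPowerSeries.X 0 ^ u : MvPowerSeries (Fin 2) k) = MvPowerSeries.monomial (ex u 0) 1 := by
    rw [MvPowerSeries.X_pow_eq, ex, Finsupp.single_zero, add_zero]
  have hyv : (MvPowerSeries.X 1 ^ v : MvPowerSeries (Fin 2) k) = MvPowerSeries.monomial (ex 0 v) 1 := by
    rw [MvPowerSeries.X_pow_eq, ex, Finsupp.single_zero, zero_add]
  have hker : ∀ f, ψ f = 0 ↔ f ∈ Ideal.span {MvPowerSeries.monomial (ex 1 1) (1 : k),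
      MvPowerSeries.monomial (ex u 0) 1, MvPowerSeries.monomial (ex 0 v) 1} := by
    intro f
    change Ideal.Quotient.mk J (Ideal.Quotient.mk I f) = 0 ↔ _
    rw [Ideal.Quotient.eq_zero_iff_mem]
    have hJ : J = Ideal.map (Ideal.Quotient.mk I)
        (Ideal.span {MvPowerSeries.monomial (ex u 0) (1 : k), MvPowerSeries.monomial (ex 0 v) 1}) := by
      rw [Ideal.map_span, Set.image_pair, ← hxu, ← hyv, map_pow, map_pow]
      rw [show J = Ideal.span {SpinCurv.NodeRing.x k 0 ^ u} ⊔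
          Ideal.span {algebraMap k (SpinCurv.NodeRing k 0) w * SpinCurv.NodeRing.y k 0 ^ v} from Ideal.span_insert _ _,
        Ideal.span_insert]
      congr 1
      exact Ideal.span_singleton_mul_left_unit ((isUnit_iff_ne_zero.mpr hw).map _) _
    rw [hJ, Ideal.mem_quotient_iff_mem_sup, hI, map_zero, sub_zero, hexy, sup_comm, ← Ideal.span_union,
      Set.singleton_union]
  have hkk : LinearMap.ker ψ = LinearMap.ker Φ := by
    ext f
    rw [LinearMap.mem_ker, LinearMap.mem_ker, hker]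
    constructor
    · intro hf
      have hc : ∀ m, ¬ ex 1 1 ≤ m → ¬ ex u 0 ≤ m → ¬ ex 0 v ≤ m → MvPowerSeries.coeff m f = 0 := by
        intro m h1 h2 h3
        simp only [Ideal.mem_span_insert, Ideal.mem_span_singleton'] at hf
        obtain ⟨a, _, ⟨b, _, ⟨c, rfl⟩, rfl⟩, rfl⟩ := hf
        simp [map_add, MvPowerSeries.coeff_mul_monomial, h1, h2, h3]
      refine Prod.ext (funext fun i => ?_) (funext fun j => ?_)
      · exact hc _ (by simp [ex_le]) (by simp [ex_le]) (by simp [ex_le]; omega)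
      · exact hc _ (by simp [ex_le]) (by simp [ex_le]; omega) (by simp [ex_le]; omega)
    · intro hf
      have h1 : ∀ i, i < u → MvPowerSeries.coeff (ex i 0) f = 0 := fun i hi =>
        congrFun (congrArg Prod.fst hf) ⟨i, hi⟩
      have h2 : ∀ j, j + 1 < v → MvPowerSeries.coeff (ex 0 (j + 1)) f = 0 := fun j hj =>
        congrFun (congrArg Prod.snd hf) ⟨j, by omega⟩
      exact decomp f (ex 1 1) (ex u 0) (ex 0 v) fun m hm1 hm2 hm3 => by
        obtain ⟨i, j, rfl⟩ : ∃ i j, m = ex i j := ⟨m 0, m 1, by ext l; fin_cases l <;> simp [ex]⟩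
        simp only [ex_le, not_and_or, not_le] at hm1 hm2 hm3
        rcases Nat.eq_zero_or_pos j with rfl | hj
        · exact h1 i (by omega)
        · obtain rfl : i = 0 := by omega
          obtain ⟨j', rfl⟩ : ∃ j', j = j' + 1 := ⟨j - 1, by omega⟩
          exact h2 j' (by omega)
  have e : (SpinCurv.NodeRing k 0 ⧸ J) ≃ₗ[k] (Fin u → k) × (Fin (v - 1) → k) :=
    (ψ.quotKerEquivOfSurjective hψ).symm ≪≫ₗ Submodule.quotEquivOfEq _ _ hkk ≪≫ₗ Φ.quotKerEquivOfSurjective hΦ
  rw [e.finrank_eq, Module.finrank_prod, Module.finrank_fin_fun, Module.finrank_fin_fun]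
  omega

end Groth.Agent.S18434
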