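import Groth.Statements.S18435
import Mathlib.Algebra.Polynomial.AlgebraMap
import Mathlib.Algebra.Polynomial.Laurent
import Mathlib.Algebra.Polynomial.Inductions
import Mathlib.Tactic.LinearCombination

set_option autoImplicit false
set_option backward.isDefEq.respectTransparency false
set_option linter.style.haveILetI false
universe u
open SpinCurv

namespace Groth.Agent.S18435

/-- Let k be a field and A = k[x, y]/(xy) the node, with the two affine charts U = Spec k[s, y]/(sy) and
V = Spec k[t, x]/(tx) of the curve obtained by the (p, q)-construction with p = q = 0, glued along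
k[s, s⁻¹] by t = s⁻¹ (y ↦ 0 from U, x ↦ 0 from V), and with A → O(U) given by x ↦ 0, y ↦ y and A →
O(V) by x ↦ x, y ↦ 0. A global section of O(1) is a pair (g, f) with g = s f on U ∩ V. If such a
pair is annihilated by both x and y (acting through the two restriction maps), then g = 0 and f = 0;
so the module of global sections of O(1) has no nonzero element killed by the maximal ideal (x, y),
i.e. its direct image on the node is torsion-free there. All three coordinate rings are written as
the quotient of the polynomial ring in two variables by the product of the variables, and the four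
restriction homomorphisms are k-algebra maps pinned by their values on generators. (The published
proof reduces the torsion-freeness of the direct image of O(1), for general R, p, q, to exactly this
case of a field with p = q = 0.) -/
theorem result (k : Type u) [Field k]
    (rU : SpinCurv.PolyNodeRing k 0 →ₐ[k] SpinCurv.PolyNodeRing k 0)
    (hrUx : rU (SpinCurv.PolyNodeRing.x k 0) = 0)
    (hrUy : rU (SpinCurv.PolyNodeRing.y k 0) = SpinCurv.PolyNodeRing.y k 0)
    (rV : SpinCurv.PolyNodeRing k 0 →ₐ[k] SpinCurv.PolyNodeRing k 0)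
    (hrVx : rV (SpinCurv.PolyNodeRing.x k 0) = SpinCurv.PolyNodeRing.y k 0)
    (hrVy : rV (SpinCurv.PolyNodeRing.y k 0) = 0)
    (gU : SpinCurv.PolyNodeRing k 0 →ₐ[k] LaurentPolynomial k)
    (hgUs : gU (SpinCurv.PolyNodeRing.x k 0) = LaurentPolynomial.T 1)
    (hgUy : gU (SpinCurv.PolyNodeRing.y k 0) = 0)
    (gV : SpinCurv.PolyNodeRing k 0 →ₐ[k] LaurentPolynomial k)
    (hgVt : gV (SpinCurv.PolyNodeRing.x k 0) = LaurentPolynomial.T (-1))
    (hgVx : gV (SpinCurv.PolyNodeRing.y k 0) = 0)
    (g f : SpinCurv.PolyNodeRing k 0) (hsec : gU g = LaurentPolynomial.T 1 * gV f)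
    (hx : rU (SpinCurv.PolyNodeRing.x k 0) * g = 0 ∧ rV (SpinCurv.PolyNodeRing.x k 0) * f = 0)
    (hy : rU (SpinCurv.PolyNodeRing.y k 0) * g = 0 ∧ rV (SpinCurv.PolyNodeRing.y k 0) * f = 0) :
    g = 0 ∧ f = 0 := by
  have dec : ∀ e : SpinCurv.PolyNodeRing k 0, ∃ P Q : Polynomial k, e =
      Polynomial.aeval (SpinCurv.PolyNodeRing.x k 0) P +
        SpinCurv.PolyNodeRing.y k 0 * Polynomial.aeval (SpinCurv.PolyNodeRing.y k 0) Q := by
    intro e
    obtain ⟨e, rfl⟩ := Ideal.Quotient.mk_surjective e
    induction e using MvPolynomial.induction_on with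
    | C a => exact ⟨Polynomial.C a, 0, by simp; rfl⟩
    | add p q hp hq =>
      obtain ⟨P, Q, hp⟩ := hp
      obtain ⟨P', Q', hq⟩ := hq
      exact ⟨P + P', Q + Q', by rw [map_add, hp, hq, map_add, map_add]; ring⟩
    | mul_X p i hp =>
      obtain ⟨P, Q, hp⟩ := hp
      have hxy : SpinCurv.PolyNodeRing.x k 0 * SpinCurv.PolyNodeRing.y k 0 = 0 := by
        rw [← map_mul]
        exact Ideal.Quotient.eq_zero_iff_mem.mpr (Ideal.subset_span (by simp))
      rw [map_mul, hp]
      fin_cases i
      · refine ⟨Polynomial.X * P, 0, ?_⟩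
        simp only [map_mul, Polynomial.aeval_X, map_zero, mul_zero, add_zero]
        show _ * SpinCurv.PolyNodeRing.x k 0 = _
        linear_combination (Polynomial.aeval (SpinCurv.PolyNodeRing.y k 0) Q) * hxy
      · refine ⟨0, Polynomial.C (P.coeff 0) + Polynomial.X * Q, ?_⟩
        have e0 : SpinCurv.PolyNodeRing.y k 0 * Polynomial.aeval (SpinCurv.PolyNodeRing.x k 0) P =
            SpinCurv.PolyNodeRing.y k 0 * algebraMap k _ (P.coeff 0) := by
          conv_lhs => rw [← Polynomial.X_mul_divX_add P]
          simp only [map_add, map_mul, Polynomial.aeval_X, Polynomial.aeval_C]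
          linear_combination (Polynomial.aeval (SpinCurv.PolyNodeRing.x k 0) P.divX) * hxy
        simp only [map_add, map_mul, Polynomial.aeval_X, Polynomial.aeval_C, map_zero, zero_add]
        show _ * SpinCurv.PolyNodeRing.y k 0 = _
        linear_combination e0
  let πy : SpinCurv.PolyNodeRing k 0 →ₐ[k] Polynomial k :=
    Ideal.Quotient.liftₐ _ (MvPolynomial.aeval ![0, Polynomial.X]) (fun a ha => by
      obtain ⟨c, rfl⟩ := Ideal.mem_span_singleton'.mp ha
      simp)
  have key : ∀ e : SpinCurv.PolyNodeRing k 0, SpinCurv.PolyNodeRing.y k 0 * e = 0 →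
      ∃ P : Polynomial k, P.coeff 0 = 0 ∧ e = Polynomial.aeval (SpinCurv.PolyNodeRing.x k 0) P := by
    intro e he
    obtain ⟨P, Q, rfl⟩ := dec e
    have hx0 : πy (SpinCurv.PolyNodeRing.x k 0) = 0 := by
      show MvPolynomial.aeval ![0, Polynomial.X] (MvPolynomial.X 0) = (0 : Polynomial k)
      simp
    have hy0 : πy (SpinCurv.PolyNodeRing.y k 0) = Polynomial.X := by
      show MvPolynomial.aeval ![0, Polynomial.X] (MvPolynomial.X 1) = (Polynomial.X : Polynomial k)
      simp
    have h := congrArg πy he
    rw [map_mul, map_add, map_mul, ← Polynomial.aeval_algHom_apply, ← Polynomial.aeval_algHom_apply, hx0, hy0,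
      map_zero, Polynomial.aeval_X_left_apply, mul_eq_zero, or_iff_right Polynomial.X_ne_zero,
      ← Polynomial.coeff_zero_eq_aeval_zero'] at h
    have h0 : P.coeff 0 = 0 := by
      have := congrArg (fun t => Polynomial.coeff t 0) h
      simpa using this
    have hQ : Q = 0 := by
      rw [h0, map_zero, zero_add, mul_eq_zero, or_iff_right Polynomial.X_ne_zero] at h
      exact h
    exact ⟨P, h0, by simp [hQ]⟩
  have hyg : SpinCurv.PolyNodeRing.y k 0 * g = 0 := by rw [← hrUy]; exact hy.1
  have hyf : SpinCurv.PolyNodeRing.y k 0 * f = 0 := by rw [← hrVx]; exact hx.2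
  obtain ⟨P, hP, rfl⟩ := key g hyg
  obtain ⟨P', hP', rfl⟩ := key f hyf
  rw [← Polynomial.aeval_algHom_apply, ← Polynomial.aeval_algHom_apply, hgUs, hgVt] at hsec
  have e1 : ∀ (m : ℤ) (P : Polynomial k), Polynomial.aeval (LaurentPolynomial.T m : LaurentPolynomial k) P =
      ∑ i ∈ P.support, LaurentPolynomial.C (P.coeff i) * LaurentPolynomial.T ((i : ℤ) * m) := by
    intro m P
    rw [Polynomial.aeval_eq_sum_range' (n := P.natDegree + 1) (Nat.lt_succ_self _)]
    symm
    refine (Finset.sum_subset P.supp_subset_range_natDegree_succ ?_).trans (Finset.sum_congr rfl fun i _ => ?_)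
    · intro i _ hi
      rw [Polynomial.notMem_support_iff.mp hi, map_zero, zero_mul]
    · rw [LaurentPolynomial.T_pow, Algebra.smul_def]
      rfl
  have hcoef : ∀ (z : ℤ), (∑ i ∈ P.support, if (i : ℤ) = z then P.coeff i else 0) =
      ∑ i ∈ P'.support, if (1 : ℤ) - i = z then P'.coeff i else 0 := by
    intro z
    have := congrArg (fun t : LaurentPolynomial k => t.coeff z) hsec
    rw [e1, e1, Finset.mul_sum] at this
    simp only [mul_left_comm (LaurentPolynomial.T (1 : ℤ)), ← LaurentPolynomial.T_add] at this
    simp only [← LaurentPolynomial.single_eq_C_mul_T, AddMonoidAlgebra.coeff_sum, Finsupp.finsetSum_apply,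
      AddMonoidAlgebra.coeff_single, Finsupp.single_apply] at this
    refine (Finset.sum_congr rfl fun i _ => ?_).trans (this.trans (Finset.sum_congr rfl fun i _ => ?_))
    · rw [mul_one]
    · congr 1
      simp [sub_eq_add_neg, mul_neg]
  have hPz : P = 0 := by
    ext n
    rcases Nat.eq_zero_or_pos n with rfl | hn
    · simpa using hP
    · by_contra hne
      have := hcoef n
      rw [Finset.sum_eq_single n (fun b _ hb => if_neg (by omega)) (fun h => absurd (Polynomial.mem_support_iff.mpr hne) h),
        if_pos rfl, Finset.sum_eq_zero fun b hb => if_neg fun h => ?_] at this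
      · exact hne this
      · have : b = 0 := by omega
        subst this
        exact Polynomial.mem_support_iff.mp hb hP'
  have hPz' : P' = 0 := by
    ext n
    by_contra hne
    have := hcoef (1 - (n : ℤ))
    rw [hPz, Polynomial.support_zero, Finset.sum_empty,
      Finset.sum_eq_single n (fun b _ hb => if_neg (by omega)) (fun h => absurd (Polynomial.mem_support_iff.mpr hne) h),
      if_pos rfl] at this
    exact hne this.symm
  simp [hPz, hPz']

end Groth.Agent.S18435
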