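import Groth.Statements.S18437
import Groth.Agent.S18436

set_option autoImplicit false
set_option backward.isDefEq.respectTransparency false
set_option maxHeartbeats 1000000
universe u
open SpinCurv

namespace Groth.Agent.S18437

open Groth.Agent.S18436 (mon xy nodeBasis nodeBasis_apply)

/-- Let R be a commutative ring and p, q ∈ R; put A = R[x, y]/(xy - pq) and consider the two affine
charts U = Spec R[s, y]/(sy - q) and V = Spec R[t, x]/(xt - p) of the curve obtained from Spec A by
blowing up as in the (p, q)-construction, glued along R[s, s⁻¹] by t = s⁻¹ (so y = q s⁻¹ on U and x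
= p s on V), with the projection to Spec A given by x ↦ p s, y ↦ y on U and x ↦ x, y ↦ q t on V. For
n ≥ 0 the twisting sheaf O(n) is vⁿ O on U and ξⁿ O on V with ξ = s v, so its global sections are
the pairs (g, f) of functions on U and V with g = sⁿ f on U ∩ V. Then the map A^{n+1} → O(U) × O(V)
sending (F_0, …, F_n), i.e. the section Σ F_i ξ^{n-i} v^i, to (Σ F_i|_U s^{n-i}, Σ F_i|_V t^i) has
image exactly the set of such pairs, and F is sent to zero exactly when it lies in the A-submodule
of A^{n+1} generated by the vectors p e_i - x e_{i+1} and y e_i - q e_{i+1} for 0 ≤ i < n (e_0, …,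
e_n the standard basis). So the global sections of O(n) form the degree-n piece of A[ξ, v]/(p ξ - x
v, q v - y ξ). For n = 0 this says that a ↦ (a|_U, a|_V) is injective on A with image the pairs of
functions that agree on U ∩ V, so that the functions on the blown-up curve are exactly the functions
on Spec A (the direct image of its structure sheaf is the structure sheaf of Spec A); for n = 1 it
presents the global sections of O(1) as A ξ ⊕ A v modulo the relations p ξ = x v and y ξ = q v. Here
R[s, y]/(sy - q) and R[t, x]/(xt - p) are both written as the quotient of the polynomial ring in two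
variables by (first variable)·(second variable) - constant, the homomorphisms rU, rV are the
restriction maps from A to the two charts and gU, gV the restriction maps from the charts to their
intersection R[s, s⁻¹] (Laurent polynomials), each pinned by its values on the two generators. (The
published setting has R complete local and p, q in the maximal ideal, and reduces to this polynomial
computation, which uses neither.) -/
theorem result (R : Type u) [CommRing R] (p q : R)
    (rU : SpinCurv.PolyNodeRing R (p * q) →ₐ[R] SpinCurv.PolyNodeRing R q)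
    (hrUx : rU (SpinCurv.PolyNodeRing.x R (p * q)) = algebraMap R _ p * SpinCurv.PolyNodeRing.x R q)
    (hrUy : rU (SpinCurv.PolyNodeRing.y R (p * q)) = SpinCurv.PolyNodeRing.y R q)
    (rV : SpinCurv.PolyNodeRing R (p * q) →ₐ[R] SpinCurv.PolyNodeRing R p)
    (hrVx : rV (SpinCurv.PolyNodeRing.x R (p * q)) = SpinCurv.PolyNodeRing.y R p)
    (hrVy : rV (SpinCurv.PolyNodeRing.y R (p * q)) = algebraMap R _ q * SpinCurv.PolyNodeRing.x R p)
    (gU : SpinCurv.PolyNodeRing R q →ₐ[R] LaurentPolynomial R)
    (hgUs : gU (SpinCurv.PolyNodeRing.x R q) = LaurentPolynomial.T 1)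
    (hgUy : gU (SpinCurv.PolyNodeRing.y R q) = LaurentPolynomial.C q * LaurentPolynomial.T (-1))
    (gV : SpinCurv.PolyNodeRing R p →ₐ[R] LaurentPolynomial R)
    (hgVt : gV (SpinCurv.PolyNodeRing.x R p) = LaurentPolynomial.T (-1))
    (hgVx : gV (SpinCurv.PolyNodeRing.y R p) = LaurentPolynomial.C p * LaurentPolynomial.T 1) (n : ℕ) :
    Set.range (fun F : Fin (n + 1) → SpinCurv.PolyNodeRing R (p * q) =>
        (∑ i : Fin (n + 1), rU (F i) * SpinCurv.PolyNodeRing.x R q ^ (n - (i : ℕ)),
         ∑ i : Fin (n + 1), rV (F i) * SpinCurv.PolyNodeRing.x R p ^ (i : ℕ))) =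
      {gf : SpinCurv.PolyNodeRing R q × SpinCurv.PolyNodeRing R p |
        gU gf.1 = LaurentPolynomial.T (n : ℤ) * gV gf.2} ∧
    {F : Fin (n + 1) → SpinCurv.PolyNodeRing R (p * q) |
        (∑ i : Fin (n + 1), rU (F i) * SpinCurv.PolyNodeRing.x R q ^ (n - (i : ℕ)),
         ∑ i : Fin (n + 1), rV (F i) * SpinCurv.PolyNodeRing.x R p ^ (i : ℕ)) = 0} =
      (Submodule.span (SpinCurv.PolyNodeRing R (p * q))
        (Set.range (fun i : Fin n =>
            (Pi.single (Fin.castSucc i) (algebraMap R (SpinCurv.PolyNodeRing R (p * q)) p) -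
              Pi.single (Fin.succ i) (SpinCurv.PolyNodeRing.x R (p * q)) : Fin (n + 1) → SpinCurv.PolyNodeRing R (p * q))) ∪
         Set.range (fun i : Fin n =>
            (Pi.single (Fin.castSucc i) (SpinCurv.PolyNodeRing.y R (p * q)) -
              Pi.single (Fin.succ i) (algebraMap R (SpinCurv.PolyNodeRing R (p * q)) q) : Fin (n + 1) → SpinCurv.PolyNodeRing R (p * q)))) :
        Set (Fin (n + 1) → SpinCurv.PolyNodeRing R (p * q))) := by
  classical
  let A := SpinCurv.PolyNodeRing R (p * q)
  let N : Submodule A (Fin (n + 1) → A) := Submodule.span A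
    (Set.range (fun i : Fin n =>
        (Pi.single (Fin.castSucc i) (algebraMap R A p) -
          Pi.single (Fin.succ i) (SpinCurv.PolyNodeRing.x R (p * q)) : Fin (n + 1) → A)) ∪
     Set.range (fun i : Fin n =>
        (Pi.single (Fin.castSucc i) (SpinCurv.PolyNodeRing.y R (p * q)) -
          Pi.single (Fin.succ i) (algebraMap R A q) : Fin (n + 1) → A)))
  let Λ : (Fin (n + 1) → A) →ₗ[R] SpinCurv.PolyNodeRing R q × SpinCurv.PolyNodeRing R p :=
    { toFun := fun F => (∑ i : Fin (n + 1), rU (F i) * SpinCurv.PolyNodeRing.x R q ^ (n - (i : ℕ)),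
        ∑ i : Fin (n + 1), rV (F i) * SpinCurv.PolyNodeRing.x R p ^ (i : ℕ))
      map_add' := fun F G => by
        simp only [Pi.add_apply, map_add, add_mul, Finset.sum_add_distrib, Prod.mk_add_mk]
      map_smul' := fun r F => by
        simp only [Pi.smul_apply, map_smul, smul_mul_assoc, RingHom.id_apply, Prod.smul_mk, ← Finset.smul_sum] }
  have hΛ1 : ∀ i a, Λ (Pi.single i a) = (rU a * SpinCurv.PolyNodeRing.x R q ^ (n - (i : ℕ)),
      rV a * SpinCurv.PolyNodeRing.x R p ^ (i : ℕ)) := fun i a => by
    refine Prod.ext ?_ ?_ <;>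
      (refine (Finset.sum_eq_single i (fun k _ hk => ?_) (fun h => absurd (Finset.mem_univ i) h)).trans ?_
       · rw [Pi.single_eq_of_ne hk, map_zero, zero_mul]
       · rw [Pi.single_eq_same])
  have hΛa : ∀ (a : A) F, Λ (a • F) = (rU a * (Λ F).1, rV a * (Λ F).2) := fun a F => by
    refine Prod.ext ?_ ?_
    · show ∑ i : Fin (n + 1), rU (a * F i) * _ = rU a * ∑ i : Fin (n + 1), rU (F i) * _
      simp only [map_mul, mul_assoc, Finset.mul_sum]
    · show ∑ i : Fin (n + 1), rV (a * F i) * _ = rV a * ∑ i : Fin (n + 1), rV (F i) * _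
      simp only [map_mul, mul_assoc, Finset.mul_sum]
  have hcU : ∀ r, rU (algebraMap R A r) = algebraMap R _ r := rU.commutes
  have hcV : ∀ r, rV (algebraMap R A r) = algebraMap R _ r := rV.commutes
  -- the restriction maps agree on the overlap
  have hg : ∀ a : A, gU (rU a) = gV (rV a) := fun a => by
    have h : (gU.comp rU).comp (Ideal.Quotient.mkₐ R _) = (gV.comp rV).comp (Ideal.Quotient.mkₐ R _) := by
      refine MvPolynomial.algHom_ext fun k => ?_
      fin_cases k
      · show gU (rU (SpinCurv.PolyNodeRing.x R (p * q))) = gV (rV (SpinCurv.PolyNodeRing.x R (p * q)))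
        rw [hrUx, hrVx, map_mul, hgUs, hgVx, AlgHom.commutes]
        rfl
      · show gU (rU (SpinCurv.PolyNodeRing.y R (p * q))) = gV (rV (SpinCurv.PolyNodeRing.y R (p * q)))
        rw [hrUy, hrVy, map_mul, hgUy, hgVt, AlgHom.commutes]
        rfl
    obtain ⟨e, rfl⟩ := Ideal.Quotient.mk_surjective a
    exact DFunLike.congr_fun h e
  -- the sections
  let eU := nodeBasis R q
  let eV := nodeBasis R p
  let bW : Module.Basis ℤ R (LaurentPolynomial R) := AddMonoidAlgebra.basis ℤ R
  have hbW : ∀ m, bW m = LaurentPolynomial.T m := fun m => AddMonoidAlgebra.basis_apply R m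
  have hH : ∀ (f : ℤ → SpinCurv.PolyNodeRing R q × SpinCurv.PolyNodeRing R p) (m : ℤ),
      bW.constr R f (LaurentPolynomial.T m) = f m := fun f m => by rw [← hbW, Module.Basis.constr_basis]
  have hC : ∀ (r : R) (f : LaurentPolynomial R), LaurentPolynomial.C r * f = r • f := fun r f => by
    rw [Algebra.smul_def]
    rfl
  have hU : ∀ j, gU (eU j) = (if 0 ≤ j then 1 else q ^ (-j).toNat : R) • LaurentPolynomial.T j := fun j => by
    rw [nodeBasis_apply, mon]
    split_ifs with h
    · rw [map_pow, hgUs, LaurentPolynomial.T_pow, one_smul, mul_one, Int.toNat_of_nonneg h]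
    · rw [map_pow, hgUy, mul_pow, ← map_pow, hC, LaurentPolynomial.T_pow, mul_neg, mul_one,
        Int.toNat_of_nonneg (by omega), neg_neg]
  have hV : ∀ j, LaurentPolynomial.T (n : ℤ) * gV (eV j) =
      (if 0 ≤ j then 1 else p ^ (-j).toNat : R) • LaurentPolynomial.T ((n : ℤ) - j) := fun j => by
    rw [nodeBasis_apply, mon]
    split_ifs with h
    · rw [map_pow, hgVt, LaurentPolynomial.T_pow, one_smul, ← LaurentPolynomial.T_add, mul_neg, mul_one,
        Int.toNat_of_nonneg h, sub_eq_add_neg]
    · rw [map_pow, hgVx, mul_pow, ← map_pow, LaurentPolynomial.T_pow, hC, mul_smul_comm,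
        ← LaurentPolynomial.T_add, mul_one, Int.toNat_of_nonneg (by omega), sub_eq_add_neg]
  let ψ : ℤ → SpinCurv.PolyNodeRing R q × SpinCurv.PolyNodeRing R p := fun m =>
    if m < 0 then (eU m, (q ^ (-m).toNat : R) • eV ((n : ℤ) - m))
    else if m ≤ n then (eU m, eV ((n : ℤ) - m))
    else ((p ^ (m - n).toNat : R) • eU m, eV ((n : ℤ) - m))
  let Φ' : SpinCurv.PolyNodeRing R q × SpinCurv.PolyNodeRing R p →ₗ[R] (ℤ →₀ R) :=
    LinearMap.coprod (eU.constr R fun m => if m < 0 then Finsupp.single m 1 else 0)
      (eV.constr R fun j => if j ≤ n then Finsupp.single ((n : ℤ) - j) 1 else 0)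
  have hΦψ : Φ' ∘ₗ Finsupp.linearCombination R ψ = LinearMap.id := by
    refine Finsupp.lhom_ext' fun m => LinearMap.ext_ring ?_
    by_cases hm : m < 0
    · simp [ψ, Φ', hm, not_le.2 hm]
    · by_cases hmn : m ≤ n
      · simp [ψ, Φ', hm, hmn, not_lt.1 hm]
      · simp [ψ, Φ', hm, hmn, not_lt.1 hm]
  let K : SpinCurv.PolyNodeRing R q × SpinCurv.PolyNodeRing R p →ₗ[R] LaurentPolynomial R :=
    gU.toLinearMap.comp (LinearMap.fst R _ _) -
          (LinearMap.mulLeft R (LaurentPolynomial.T (n : ℤ))).comp (gV.toLinearMap.comp (LinearMap.snd R _ _))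
  have hsplit : Finsupp.linearCombination R ψ ∘ₗ Φ' +
      (bW.constr R fun m => if m < 0 then (0, -eV ((n : ℤ) - m)) else (eU m, 0)) ∘ₗ
        K = LinearMap.id := by
    refine LinearMap.prod_ext (eU.ext fun m => ?_) (eV.ext fun j => ?_)
    · by_cases hm : m < 0
      · simp [ψ, Φ', K, hU, hH, hm, not_le.2 hm, Prod.ext_iff]
      · simp [ψ, Φ', K, hU, hH, hm, not_lt.1 hm, Prod.ext_iff]
    · by_cases hj : j ≤ n
      · by_cases h0 : 0 ≤ j
        · simp [ψ, Φ', K, hV, hH, hj, h0, not_lt.2 hj, Prod.ext_iff]
        · have h5 : ((n : ℤ) - j).toNat - n = (-j).toNat := by omega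
          simp [ψ, Φ', K, hV, hH, hj, h0, h5, not_lt.2 hj, Prod.ext_iff]
      · have h0 : 0 ≤ j := by omega
        simp [ψ, Φ', K, hV, hH, hj, h0, not_le.1 hj, Prod.ext_iff]
  -- standard representatives
  let σ : ℤ → (Fin (n + 1) → A) := fun m =>
    if hm : m < 0 then Pi.single (Fin.last n) (mon R (p * q) m)
    else if m ≤ n then Pi.single ⟨((n : ℤ) - m).toNat, by omega⟩ 1
    else Pi.single 0 (mon R (p * q) (m - n))
  let Lσ := Finsupp.linearCombination R σ
  have hΛσ : Λ ∘ₗ Lσ = Finsupp.linearCombination R ψ := by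
    refine Finsupp.lhom_ext' fun m => LinearMap.ext_ring ?_
    simp only [LinearMap.comp_apply, Finsupp.lsingle_apply, Lσ, Finsupp.linearCombination_single, one_smul]
    simp only [σ, ψ, eU, eV, nodeBasis_apply]
    by_cases hm : m < 0
    · rw [dif_pos hm, if_pos hm, hΛ1]
      simp only [mon, if_neg (not_le.2 hm), map_pow, hrUy, hrVy, Fin.val_last, Nat.sub_self, pow_zero, mul_one,
        if_pos (show (0 : ℤ) ≤ n - m by omega)]
      rw [mul_pow, mul_assoc, ← pow_add, ← map_pow (algebraMap R _), ← Algebra.smul_def,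
        show (-m).toNat + n = ((n : ℤ) - m).toNat by omega]
    · by_cases hmn : m ≤ n
      · rw [dif_neg hm, if_neg hm, if_pos hmn, if_pos hmn, hΛ1]
        simp only [mon, if_pos (not_lt.1 hm), if_pos (show (0 : ℤ) ≤ n - m by omega), map_one, one_mul]
        rw [show n - ((n : ℤ) - m).toNat = m.toNat by omega]
      · rw [dif_neg hm, if_neg hm, if_neg hmn, if_neg hmn, hΛ1]
        simp only [mon, if_pos (not_lt.1 hm), if_neg (show ¬ (0 : ℤ) ≤ n - m by omega),
          if_pos (show (0 : ℤ) ≤ m - n by omega), map_pow, hrUx, hrVx, Fin.val_zero, Nat.sub_zero, pow_zero, mul_one]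
        rw [mul_pow, mul_assoc, ← pow_add, ← map_pow (algebraMap R _), ← Algebra.smul_def,
          show (m - n).toNat + n = m.toNat by omega, show (-((n : ℤ) - m)).toNat = (m - n).toNat by omega]
  let M : Submodule R (Fin (n + 1) → A) := LinearMap.range Lσ ⊔ N.restrictScalars R
  have hσM : ∀ m, σ m ∈ M := fun m =>
    Submodule.mem_sup_left ⟨Finsupp.single m 1, by simp [Lσ]⟩
  have hNM : ∀ {F}, F ∈ N → F ∈ M := fun h => Submodule.mem_sup_right h
  have hsm : ∀ (r : R) (a : A), algebraMap R A r * a = r • a := fun r a => (Algebra.smul_def r a).symm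
  have hxy := xy R (p * q)
  have hs1 : ∀ (i : Fin (n + 1)) (a b : A), a • (Pi.single i b : Fin (n + 1) → A) = Pi.single i (a * b) :=
    fun i a b => by
      ext k
      rcases eq_or_ne k i with h | h <;> simp [h]
  have hxσ : ∀ m, SpinCurv.PolyNodeRing.x R (p * q) • σ m ∈ M := fun m => by
    by_cases hm : m < 0
    · have e : SpinCurv.PolyNodeRing.x R (p * q) * mon R (p * q) m = (p * q) • mon R (p * q) (m + 1) := by
        rw [mon, if_neg (not_le.2 hm), show (-m).toNat = (-(m + 1)).toNat + 1 by omega, pow_succ', ← mul_assoc,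
          hxy, hsm, mon]
        split_ifs with h
        · obtain rfl : m = -1 := by omega
          simp
        · rfl
      have h2 : SpinCurv.PolyNodeRing.x R (p * q) • σ m =
          (p * q) • (Pi.single (Fin.last n) (mon R (p * q) (m + 1)) : Fin (n + 1) → A) := by
        simp only [σ, dif_pos hm]
        rw [hs1, e, Pi.single_smul]
      rw [h2]
      refine M.smul_mem _ ?_
      by_cases h : m + 1 < 0
      · have h3 := hσM (m + 1)
        simp only [σ, dif_pos h] at h3
        exact h3
      · obtain rfl : m = -1 := by omega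
        have h3 := hσM 0
        simp only [σ, lt_irrefl, dite_false, if_pos (show (0 : ℤ) ≤ (n : ℤ) by omega)] at h3
        convert h3 using 2
        · ext; simp [Fin.last]
        · simp [mon]
    · by_cases hmn : m ≤ n
      · by_cases hi : m = n
        · subst hi
          have h3 := hσM ((n : ℤ) + 1)
          simp only [σ, dif_neg hm, if_pos le_rfl, dif_neg (show ¬ (n : ℤ) + 1 < 0 by omega),
            if_neg (show ¬ (n : ℤ) + 1 ≤ n by omega)] at h3 ⊢
          rw [hs1, mul_one]
          convert h3 using 2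
          · ext; simp
          · simp [mon]
        · let i : Fin n := ⟨((n : ℤ) - m - 1).toNat, by omega⟩
          have hrel : (Pi.single (Fin.castSucc i) (algebraMap R A p) -
              Pi.single (Fin.succ i) (SpinCurv.PolyNodeRing.x R (p * q)) : Fin (n + 1) → A) ∈ M :=
            hNM (Submodule.subset_span (Or.inl ⟨i, rfl⟩))
          have h3 := M.smul_mem p (hσM (m + 1))
          simp only [σ, dif_neg hm, if_pos hmn, dif_neg (show ¬ m + 1 < 0 by omega),
            if_pos (show m + 1 ≤ (n : ℤ) by omega)] at h3 ⊢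
          rw [← Pi.single_smul, ← hsm, mul_one] at h3
          rw [hs1, mul_one]
          have h4 := M.sub_mem h3 hrel
          rw [show Fin.castSucc i = (⟨((n : ℤ) - (m + 1)).toNat, by omega⟩ : Fin (n + 1)) from
            Fin.ext (by simp [i]; omega), sub_sub_cancel,
            show Fin.succ i = (⟨((n : ℤ) - m).toNat, by omega⟩ : Fin (n + 1)) from
            Fin.ext (by simp [i]; omega)] at h4
          exact h4
      · have h3 := hσM (m + 1)
        simp only [σ, dif_neg hm, if_neg hmn, dif_neg (show ¬ m + 1 < 0 by omega),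
          if_neg (show ¬ m + 1 ≤ (n : ℤ) by omega)] at h3 ⊢
        rw [hs1]
        convert h3 using 2
        rw [mon, mon, if_pos (by omega), if_pos (by omega),
          show (m + 1 - n).toNat = (m - n).toNat + 1 by omega, pow_succ']
  have hyσ : ∀ m, SpinCurv.PolyNodeRing.y R (p * q) • σ m ∈ M := fun m => by
    by_cases hm : m < 0
    · have h3 := hσM (m - 1)
      simp only [σ, dif_pos hm, dif_pos (show m - 1 < 0 by omega)] at h3 ⊢
      rw [hs1]
      convert h3 using 2
      rw [mon, mon, if_neg (by omega), if_neg (by omega),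
        show (-(m - 1)).toNat = (-m).toNat + 1 by omega, pow_succ']
    · by_cases hmn : m ≤ n
      · by_cases hi : m = 0
        · subst hi
          have h3 := hσM (-1)
          simp only [σ, lt_irrefl, dite_false, if_pos (show (0 : ℤ) ≤ (n : ℤ) by omega),
            dif_pos (show (-1 : ℤ) < 0 by omega)] at h3 ⊢
          rw [hs1, mul_one]
          convert h3 using 2
          · ext; simp [Fin.last]
          · simp [mon]
        · let i : Fin n := ⟨((n : ℤ) - m).toNat, by omega⟩
          have hrel : (Pi.single (Fin.castSucc i) (SpinCurv.PolyNodeRing.y R (p * q)) -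
              Pi.single (Fin.succ i) (algebraMap R A q) : Fin (n + 1) → A) ∈ M :=
            hNM (Submodule.subset_span (Or.inr ⟨i, rfl⟩))
          have h3 := M.smul_mem q (hσM (m - 1))
          simp only [σ, dif_neg hm, if_pos hmn, dif_neg (show ¬ m - 1 < 0 by omega),
            if_pos (show m - 1 ≤ (n : ℤ) by omega)] at h3 ⊢
          rw [← Pi.single_smul, ← hsm, mul_one] at h3
          rw [hs1, mul_one]
          have h4 := M.add_mem hrel h3
          rw [show Fin.succ i = (⟨((n : ℤ) - (m - 1)).toNat, by omega⟩ : Fin (n + 1)) from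
            Fin.ext (by simp [i]; omega), sub_add_cancel] at h4
          exact h4
      · have e : SpinCurv.PolyNodeRing.y R (p * q) * mon R (p * q) (m - n) = (p * q) • mon R (p * q) (m - 1 - n) := by
          rw [mon, if_pos (by omega), show (m - n).toNat = (m - 1 - n).toNat + 1 by omega, pow_succ', ← mul_assoc,
            mul_comm (SpinCurv.PolyNodeRing.y R (p * q)), hxy, hsm, mon, if_pos (by omega)]
        have h2 : SpinCurv.PolyNodeRing.y R (p * q) • σ m =
            (p * q) • (Pi.single 0 (mon R (p * q) (m - 1 - n)) : Fin (n + 1) → A) := by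
          simp only [σ, dif_neg hm, if_neg hmn]
          rw [hs1, e, Pi.single_smul]
        rw [h2]
        refine M.smul_mem _ ?_
        have h3 := hσM (m - 1)
        by_cases h : m - 1 ≤ n
        · simp only [σ, dif_neg (show ¬ m - 1 < 0 by omega), if_pos h] at h3
          convert h3 using 2
          · ext; simp; omega
          · rw [mon, if_pos (by omega), show (m - 1 - n).toNat = 0 by omega, pow_zero]
        · simp only [σ, dif_neg (show ¬ m - 1 < 0 by omega), if_neg h] at h3
          exact h3
  have hclosed : ∀ a : A, (∀ m, a • σ m ∈ M) → ∀ F ∈ M, a • F ∈ M := fun a ha F hF => by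
    obtain ⟨_, ⟨z, rfl⟩, v, hv, rfl⟩ := Submodule.mem_sup.1 hF
    rw [smul_add]
    refine M.add_mem ?_ (hNM (N.smul_mem a hv))
    simp only [Lσ, Finsupp.linearCombination_apply, Finsupp.sum, Finset.smul_sum]
    exact M.sum_mem fun k _ => by rw [smul_comm]; exact M.smul_mem _ (ha k)
  have hA : ∀ (a : A), ∀ F ∈ M, a • F ∈ M := fun a => by
    obtain ⟨e, rfl⟩ := Ideal.Quotient.mk_surjective a
    induction e using MvPolynomial.induction_on with
    | C r =>
      intro F hF
      show algebraMap R A r • F ∈ M
      rw [algebraMap_smul]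
      exact M.smul_mem r hF
    | add e f he hf => intro F hF; rw [map_add, add_smul]; exact M.add_mem (he F hF) (hf F hF)
    | mul_X e k he =>
      intro F hF
      have h : ∀ a b : A, (a * b) • F = a • b • F := fun a b => funext fun j => mul_assoc a b (F j)
      have h' : (Ideal.Quotient.mk _ (e * MvPolynomial.X k) : A) • F =
          (Ideal.Quotient.mk _ e : A) • (Ideal.Quotient.mk _ (MvPolynomial.X k) : A) • F :=
        (congrArg (fun a : A => a • F) ((Ideal.Quotient.mk _).map_mul e (MvPolynomial.X k))).trans (h _ _)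
      refine h' ▸ he _ ?_
      fin_cases k
      · exact hclosed _ hxσ F hF
      · exact hclosed _ hyσ F hF
  have hall : ∀ F, F ∈ M := fun F => by
    have h : F = ∑ i, F i • (Pi.single i 1 : Fin (n + 1) → A) :=
      (Finset.univ_sum_single F).symm.trans (Finset.sum_congr rfl fun i _ => by rw [hs1, mul_one])
    rw [h]
    refine M.sum_mem fun i _ => hA _ _ ?_
    have h3 := hσM ((n : ℤ) - (i : ℕ))
    simp only [σ, dif_neg (show ¬ (n : ℤ) - (i : ℕ) < 0 by omega),
      if_pos (show (n : ℤ) - (i : ℕ) ≤ n by omega)] at h3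
    convert h3 using 2
    ext; simp
  have hN : ∀ F ∈ N, Λ F = 0 := by
    intro F hF
    induction hF using Submodule.span_induction with
    | mem F h =>
      rcases h with ⟨i, rfl⟩ | ⟨i, rfl⟩
      · rw [map_sub, hΛ1, hΛ1, sub_eq_zero]
        simp only [Fin.val_castSucc, Fin.val_succ, hcU, hcV, hrUx, hrVx]
        refine Prod.ext ?_ ?_
        · rw [show n - (i : ℕ) = n - ((i : ℕ) + 1) + 1 by omega, pow_succ', mul_assoc]
        · rw [pow_succ', ← mul_assoc, mul_comm (SpinCurv.PolyNodeRing.y R p), xy]
      · rw [map_sub, hΛ1, hΛ1, sub_eq_zero]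
        simp only [Fin.val_castSucc, Fin.val_succ, hcU, hcV, hrUy, hrVy]
        refine Prod.ext ?_ ?_
        · rw [show n - (i : ℕ) = n - ((i : ℕ) + 1) + 1 by omega, pow_succ', ← mul_assoc,
            mul_comm (SpinCurv.PolyNodeRing.y R q), xy]
        · rw [pow_succ', mul_assoc]
    | zero => exact map_zero Λ
    | add F G _ _ hF hG => rw [map_add, hF, hG, add_zero]
    | smul a F _ hF => rw [hΛa, hF]; simp
  refine ⟨Set.ext fun gf => ⟨?_, fun h => ?_⟩, Set.ext fun F => ⟨fun h => ?_, fun h => hN F h⟩⟩
  · rintro ⟨F, rfl⟩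
    show gU (∑ i : Fin (n + 1), _) = LaurentPolynomial.T (n : ℤ) * gV (∑ i : Fin (n + 1), _)
    rw [map_sum, map_sum, Finset.mul_sum]
    refine Finset.sum_congr rfl fun i _ => ?_
    simp only [map_mul, map_pow, hgUs, hgVt, LaurentPolynomial.T_pow, hg]
    rw [mul_left_comm, ← LaurentPolynomial.T_add, mul_neg, mul_one, mul_one]
    congr 2
    omega
  · have h2 := LinearMap.congr_fun hsplit gf
    have h3 : K gf = 0 := sub_eq_zero.2 h
    simp only [LinearMap.add_apply, LinearMap.comp_apply] at h2
    rw [h3, map_zero, add_zero,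
      LinearMap.id_apply, ← hΛσ, LinearMap.comp_apply] at h2
    exact ⟨_, h2⟩
  · replace h : Λ F = 0 := h
    obtain ⟨_, ⟨z, rfl⟩, v, hv, rfl⟩ := Submodule.mem_sup.1 (hall F)
    rw [map_add, hN v hv, add_zero] at h
    have hz : z = 0 := by
      have h2 := LinearMap.congr_fun hΦψ z
      rw [LinearMap.comp_apply, ← hΛσ, LinearMap.comp_apply, h, map_zero, LinearMap.id_apply] at h2
      exact h2.symm
    rw [hz, map_zero, zero_add]
    exact hv

end Groth.Agent.S18437
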