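import Groth.Statements.S18440
import Groth.Agent.SurfAdj.Sections

set_option autoImplicit false
universe u
open CategoryTheory CategoryTheory.Limits AlgebraicGeometry TopologicalSpace
open Surf

namespace Groth.Agent.S18440

/-- Let k be an algebraically closed field and X a smooth projective surface over k (an integral scheme,
proper and smooth over k of dimension 2) with H¹(X, O_X) = 0, and W a canonical module of X (a
second exterior power of Ω_{X/k}). Let C ⊆ X be an integral closed one-dimensional subscheme, smooth
over k, of arithmetic genus one, written χ(O_C) = 0 with the Euler characteristic of O_C computed on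
X through the closed immersion (k being algebraically closed and C integral, H⁰(C, O_C) = k, so this
says dim_k H¹(C, O_C) = 1), whose module O_X(C) — a tensor inverse N of the ideal I_C — is ample.
Then W ≅ I_C, that is ω_X ≅ O_X(−C) (existence of an isomorphism of invertible modules). (The
published statement is that a smooth del Pezzo surface of degree d embedded in projective d-space
has canonical module O_X(−1); its argument takes C a general hyperplane section and uses about the
embedding only that C is a smooth curve of genus one and that H¹(X, O_X) vanishes, facts it draws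
from results quoted without proof; those two properties are the hypotheses here.) -/
theorem result (k : Type u) [Field k] [IsAlgClosed k] (X : Scheme.{u})
    [X.Over (Spec (CommRingCat.of k))] [IsIntegral X] [IsProper (X ↘ (Spec (CommRingCat.of k)))] [Smooth (X ↘ (Spec (CommRingCat.of k)))]
    (hdim : topologicalKrullDim X = 2)
    (W : X.Modules) (hW : ExtPow.IsExtPow 2 (Omega.sheaf (X ↘ (Spec (CommRingCat.of k)))) W)
    (hq : Subsingleton (Coh.HH X (Coh.structureModule X) 1))
    (C : X.IdealSheafData) (hC : IsIntegral C.subscheme) (hC1 : topologicalKrullDim (C.support : Set X) = 1)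
    (hCs : Smooth (C.subschemeι ≫ (X ↘ (Spec (CommRingCat.of k)))))
    (hg : Curv2.euler k X (ClSub.quotMod C) = 0)
    (N : X.Modules) (hN : ClSub.IsInverseOf N (ClSub.idealMod C)) (hNample : CohB1.IsAmple N) :
    Nonempty (W ≅ ClSub.idealMod C) := by
  haveI := hC
  have hI := Groth.Agent.SurfAdj.inv_ideal k hdim C hC1
  have hW' := Groth.Agent.SurfAdj.isInvertible_W k hdim hW
  obtain ⟨e⟩ := hN
  have hMi : PicF.IsInvertible (CohB1.tensorMod W N) := TMul.isInvertible_tensorMod hW' hNample.1
  have hadj := Groth.Agent.SurfAdj.adj k hdim hW C hC1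
  have hdual := fun i hi => Groth.Agent.SurfAdj.h_eq_dual k hdim hW hI ⟨e⟩ i hi
  have hneg := Groth.Agent.SurfAdj.deg_ample_pos k hdim C hC1 hNample
  have hnegq : Groth.Agent.Nakai.inter k (ClSub.idealMod C) N < 0 := by
    rw [← Groth.Agent.SurfAdj.intNum_inter k hdim]; exact_mod_cast hneg
  have h0I := Groth.Agent.SurfAdj.h0_eq_zero_of_neg k hdim hI hNample hnegq
  haveI := Groth.Agent.CurveRR.isNoetherian_of_proper k X
  have hses := Groth.Agent.CurveRR.euler_add (k := k) (Groth.Agent.CurveRR.ideal_shortExact C)
  dsimp only at hses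
  obtain ⟨hIc, hQc⟩ := Groth.Agent.CurveRR.isCoh_idealMod C
  have hses' : Curv2.euler k X (Coh.structureModule X) =
      Curv2.euler k X (ClSub.idealMod C) + Curv2.euler k X (ClSub.quotMod C) :=
    hses hIc Groth.Agent.RefStalk.isCoh_structureModule hQc
  have hO := Groth.Agent.SurfAdj.euler_eq3 k hdim (Coh.structureModule X)
  rw [Groth.Agent.ConnDiv.h0_structure, Groth.Agent.CurveRR.h_eq_zero hq] at hO
  have hIe := Groth.Agent.SurfAdj.euler_eq3 k hdim (ClSub.idealMod C)
  have d0 := hdual 0 (by omega)
  have d1 := hdual 1 (by omega)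
  have d2 := hdual 2 le_rfl
  have hpos : 0 < Groth.Agent.CurveRR.h k (CohB1.tensorMod W N) 0 := by
    norm_num at d0 d1 d2
    omega
  obtain ⟨s, hs⟩ := Groth.Agent.Nakai.exists_section_of_h0 k hpos
  have hdeg : Groth.Agent.Nakai.inter k (CohB1.tensorMod W N) N ≤ 0 := by
    rw [Groth.Agent.Nakai.inter_tensor k hdim.le hW' hNample.1 hNample.1,
      Groth.Agent.Nakai.inter_inv k hdim.le hI ⟨TMul.commIso _ _ ≪≫ e⟩ hNample.1,
      Groth.Agent.Nakai.inter_inv_right k hdim.le hI ⟨TMul.commIso _ _ ≪≫ e⟩ hW',
      Groth.Agent.Nakai.inter_inv_right k hdim.le hI ⟨TMul.commIso _ _ ≪≫ e⟩ hI,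
      Groth.Agent.Nakai.inter_comm k W (ClSub.idealMod C),
      ← Groth.Agent.SurfAdj.intNum_inter k hdim, ← Groth.Agent.SurfAdj.intNum_inter k hdim]
    have : (FGA.intNum k X 2 ![ClSub.idealMod C, ClSub.idealMod C] (Coh.structureModule X) : ℚ) =
        FGA.intNum k X 2 ![ClSub.idealMod C, W] (Coh.structureModule X) := by
      exact_mod_cast (by omega : FGA.intNum k X 2 ![ClSub.idealMod C, ClSub.idealMod C] (Coh.structureModule X) =
        FGA.intNum k X 2 ![ClSub.idealMod C, W] (Coh.structureModule X))
    linarith
  haveI := Groth.Agent.SurfAdj.isIso_of_deg_nonpos k hdim hMi hNample hdeg s hs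
  exact ⟨(SecTwist.unitorR W).symm ≪≫ PicGrp.tensorModIso (Iso.refl W) e.symm ≪≫
    (TMul.assocIso W N (ClSub.idealMod C)).symm ≪≫ PicGrp.tensorModIso (asIso s).symm (Iso.refl _) ≪≫
    TMul.leftUnitIso _⟩

end Groth.Agent.S18440
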