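import Groth.Statements.S18445
import Groth.Agent.ArtPow.Present
import Groth.Prelude.Def_ArtFun5
import Mathlib

set_option autoImplicit false
universe u
open CategoryTheory
open Deform

namespace Groth.Agent.S18445

open IsLocalRing MvPowerSeries

theorem coeff_single_of_mem_sq {k : Type u} [Field k] {d : ℕ} {f : MvPowerSeries (Fin d) k}
    (hf : f ∈ maximalIdeal (MvPowerSeries (Fin d) k) ^ 2) (i : Fin d) :
    coeff (Finsupp.single i 1) f = 0 := by
  classical
  rw [pow_two] at hf
  refine Submodule.mul_induction_on hf (fun a ha b hb => ?_) (fun a b ha hb => by rw [map_add, ha, hb, add_zero])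
  have hc : ∀ x ∈ maximalIdeal (MvPowerSeries (Fin d) k), coeff 0 x = 0 := fun x hx => by
    rw [IsLocalRing.mem_maximalIdeal, mem_nonunits_iff, isUnit_iff_constantCoeff, isUnit_iff_ne_zero, not_not] at hx
    rwa [coeff_zero_eq_constantCoeff_apply]
  rw [coeff_mul]
  refine Finset.sum_eq_zero fun x hx => ?_
  rw [Finset.HasAntidiagonal.mem_antidiagonal] at hx
  have hdeg := congrArg Finsupp.degree hx
  rw [map_add, Finsupp.degree_single] at hdeg
  rcases Nat.eq_zero_or_pos (Finsupp.degree x.1) with h | h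
  · rw [(Finsupp.degree_eq_zero_iff x.1).1 h, hc a ha, zero_mul]
  · rw [(Finsupp.degree_eq_zero_iff x.2).1 (by omega), hc b hb, mul_zero]

theorem finrank_cotangent {k : Type u} [Field k] (d : ℕ) :
    Module.finrank (ResidueField (MvPowerSeries (Fin d) k)) (CotangentSpace (MvPowerSeries (Fin d) k)) = d := by
  classical
  let P := MvPowerSeries (Fin d) k
  have hXm : ∀ i, (X i : P) ∈ maximalIdeal P := fun i => by
    rw [← Groth.Agent.ArtPow.span_X_eq_maximalIdeal]
    exact Ideal.subset_span ⟨i, rfl⟩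
  let x : Fin d → maximalIdeal P := fun i => ⟨X i, hXm i⟩
  have hspan : Submodule.span P (Set.range x) = ⊤ := by
    rw [eq_top_iff]
    rintro ⟨y, hy⟩ -
    rw [← Groth.Agent.ArtPow.span_X_eq_maximalIdeal, Ideal.mem_span_range_iff_exists_fun] at hy
    obtain ⟨c, hc⟩ := hy
    rw [Submodule.mem_span_range_iff_exists_fun]
    exact ⟨c, Subtype.ext (by simpa [x, Submodule.coe_sum] using hc)⟩
  have hspan' : Submodule.span (ResidueField P) (Set.range ((maximalIdeal P).toCotangent ∘ x)) = ⊤ := by
    rw [Set.range_comp, CotangentSpace.span_image_eq_top_iff]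
    exact hspan
  have hli : LinearIndependent (ResidueField P) ((maximalIdeal P).toCotangent ∘ x) := by
    rw [Fintype.linearIndependent_iff]
    intro g hg i
    choose a ha using fun i => residue_surjective (g i)
    have e : (maximalIdeal P).toCotangent (∑ i, a i • x i) = 0 := by
      rw [map_sum]
      refine Eq.trans (Finset.sum_congr rfl fun j _ => ?_) hg
      rw [map_smul, ← ha j]
      exact (algebraMap_smul (ResidueField P) (a j) _).symm
    rw [Ideal.toCotangent_eq_zero] at e
    have h1 := coeff_single_of_mem_sq e i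
    simp only [Submodule.coe_sum, Submodule.coe_smul, smul_eq_mul, map_sum, x] at h1
    rw [Finset.sum_eq_single i] at h1
    · rw [← ha i, residue_eq_zero_iff, IsLocalRing.mem_maximalIdeal, mem_nonunits_iff, isUnit_iff_constantCoeff,
        isUnit_iff_ne_zero, not_not]
      rw [X_def, coeff_mul_monomial] at h1
      simpa using h1
    · intro j _ hji
      rw [X_def, coeff_mul_monomial, if_neg]
      intro hle
      have := hle j
      rw [Finsupp.single_eq_same, Finsupp.single_eq_of_ne hji] at this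
      omega
    · simp
  rw [Module.finrank_eq_card_basis (Module.Basis.mk hli hspan'.ge), Fintype.card_fin]

theorem lift_of_powerSeries {k : Type u} [Field k] {d : ℕ} (A : Type u) [CommRing A] [IsLocalRing A]
    [IsArtinianRing A] [Algebra k A]
    (M M' : Type u) [AddCommGroup M] [Module A M] [Module Aᵐᵒᵖ M] [IsCentralScalar A M] [Module k M]
    [IsScalarTower k A M] [IsScalarTower k Aᵐᵒᵖ M] [AddCommGroup M'] [Module A M'] [Module Aᵐᵒᵖ M']
    [IsCentralScalar A M'] [Module k M'] [IsScalarTower k A M'] [IsScalarTower k Aᵐᵒᵖ M']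
    (f : M' →ₗ[A] M) (hf : Function.Surjective f) (hres : ∀ a : A, ∃ c : k, a - algebraMap k A c ∈ maximalIdeal A)
    (φ : MvPowerSeries (Fin d) k →ₐ[k] TrivSqZeroExt A M) :
    ∃ ψ : MvPowerSeries (Fin d) k →ₐ[k] TrivSqZeroExt A M',
      ∀ g, (ψ g).fst = (φ g).fst ∧ f (ψ g).snd = (φ g).snd := by
  classical
  obtain ⟨N, hN⟩ := (isArtinianRing_iff_isNilpotent_maximalIdeal A).1 inferInstance
  have hnilA : ∀ i, IsNilpotent ((φ (X i)).fst) := by
    intro i
    obtain ⟨c, hc⟩ := hres (φ (X i)).fst
    have hpow : ((φ (X i)).fst - algebraMap k A c) ^ N = 0 := by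
      have h1 := Ideal.pow_mem_pow hc N
      rwa [hN] at h1
    by_cases hc0 : c = 0
    · subst hc0
      exact ⟨N, by simpa using hpow⟩
    · exfalso
      have hu : IsUnit ((X i : MvPowerSeries (Fin d) k) - algebraMap k _ c) := by
        rw [isUnit_iff_constantCoeff, map_sub, constantCoeff_X, MvPowerSeries.algebraMap_apply, constantCoeff_C]
        simp [isUnit_iff_ne_zero, hc0]
      have h2 := hu.map ((TrivSqZeroExt.fstHom k A M).comp φ)
      rw [map_sub, AlgHom.commutes] at h2
      exact h2.ne_zero (IsReduced.eq_zero (R := ResidueField A) (residue A _) ⟨N, by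
        rw [← map_pow]; exact (residue_eq_zero_iff _).2 (by
          rw [show ((TrivSqZeroExt.fstHom k A M).comp φ (X i) - algebraMap k A c) ^ N = 0 from hpow]
          exact zero_mem _)⟩ |> fun h => absurd ((residue_eq_zero_iff _).1 h)
            (fun h' => (IsLocalRing.mem_maximalIdeal _).1 h' h2) |> False.elim)
  choose l hl using fun i => hf (φ (X i)).snd
  let c : Fin d → TrivSqZeroExt A M' := fun i => TrivSqZeroExt.inl (φ (X i)).fst + TrivSqZeroExt.inr (l i)
  have hc : ∀ i, IsNilpotent (c i) := fun i => by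
    rw [TrivSqZeroExt.isNilpotent_iff_isNilpotent_fst]
    simpa [c] using hnilA i
  let ψ := Groth.Agent.ArtPow.evalNil (R := k) c hc
  let F : TrivSqZeroExt A M' →ₐ[k] TrivSqZeroExt A M := (TrivSqZeroExt.map f).restrictScalars k
  have hF : ∀ x, (F x).fst = x.fst ∧ (F x).snd = f x.snd := fun x => ⟨by simp [F], by simp [F]⟩
  obtain ⟨m, hm⟩ := exists_pow_eq_bot (fun i => φ (X i)) (fun i => by
    rw [TrivSqZeroExt.isNilpotent_iff_isNilpotent_fst]; exact hnilA i)
  have e : F.comp ψ = φ := by
    refine Groth.Agent.ArtPow.algHom_ext hm (fun i => ?_) (fun i => ?_)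
    · rw [AlgHom.comp_apply, Groth.Agent.ArtPow.evalNil_X]
      refine TrivSqZeroExt.ext ?_ ?_
      · rw [(hF _).1]; simp [c]
      · rw [(hF _).2]; simp [c, hl]
    · rw [AlgHom.comp_apply, Groth.Agent.ArtPow.evalNil_X]
      rw [show F (c i) = φ (X i) from TrivSqZeroExt.ext ((hF _).1.trans (by simp [c])) ((hF _).2.trans (by simp [c, hl]))]
      exact Ideal.subset_span ⟨i, rfl⟩
  refine ⟨ψ, fun g => ?_⟩
  rw [← DFunLike.congr_fun e g, AlgHom.comp_apply, (hF _).1, (hF _).2]
  exact ⟨rfl, rfl⟩
where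
  exists_pow_eq_bot {B : Type u} [CommRing B] {d : ℕ} (b : Fin d → B) (hb : ∀ i, IsNilpotent (b i)) :
      ∃ m : ℕ, Ideal.span (Set.range b) ^ m = ⊥ :=
    Ideal.FG.isNilpotent_iff_le_nilradical (Submodule.fg_span (Set.finite_range b)) |>.2
      (Ideal.span_le.2 (by rintro _ ⟨i, rfl⟩; exact hb i))

theorem eq_zero_of_pderiv_closed {k : Type u} [Field k] [CharZero k] {d : ℕ}
    (J : Ideal (MvPowerSeries (Fin d) k)) (hJ : J ≤ maximalIdeal (MvPowerSeries (Fin d) k))
    (h : ∀ f ∈ J, ∀ i, pderiv k i f ∈ J) : J = ⊥ := by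
  classical
  rw [eq_bot_iff]
  intro f hf
  rw [Ideal.mem_bot]
  suffices H : ∀ N : ℕ, ∀ g ∈ J, ∀ e : Fin d →₀ ℕ, e.degree = N → coeff e g = 0 by
    ext e
    rw [map_zero]
    exact H _ f hf e rfl
  intro N
  induction N with
  | zero =>
    intro g hg e he
    rw [(Finsupp.degree_eq_zero_iff e).1 he, coeff_zero_eq_constantCoeff_apply]
    have := hJ hg
    rwa [IsLocalRing.mem_maximalIdeal, mem_nonunits_iff, isUnit_iff_constantCoeff, isUnit_iff_ne_zero,
      not_not] at this
  | succ N ih =>
    intro g hg e he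
    obtain ⟨i, hi⟩ : ∃ i, e i ≠ 0 := by
      by_contra hne
      push Not at hne
      rw [show e = 0 from Finsupp.ext hne, map_zero] at he
      omega
    have hle : Finsupp.single i 1 ≤ e := Finsupp.single_le_iff.2 (Nat.one_le_iff_ne_zero.2 hi)
    have hdeg : (e - Finsupp.single i 1).degree = N := by
      have := congrArg Finsupp.degree (tsub_add_cancel_of_le hle)
      rw [map_add, Finsupp.degree_single, he] at this
      omega
    have h1 := ih (pderiv k i g) (h g hg i) _ hdeg
    rw [coeff_pderiv, tsub_add_cancel_of_le hle, mul_eq_zero] at h1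
    refine h1.resolve_right ?_
    exact Nat.cast_add_one_ne_zero _

theorem pderiv_mem_of_lift {k : Type u} [Field k] (R : ArtFun.CRing k k) {d : ℕ}
    (π : MvPowerSeries (Fin d) k →ₐ[k] R.carrier) (hπ : Function.Surjective π)
    (hker : RingHom.ker π ≤ maximalIdeal (MvPowerSeries (Fin d) k) ^ 2)
    (h : ∀ (A : ArtFun.Art k k) (M M' : Type u) [AddCommGroup M] [Module (↥A) M] [Module (↥A)ᵐᵒᵖ M]
        [IsCentralScalar (↥A) M] [Module k M] [IsScalarTower k (↥A) M] [IsScalarTower k (↥A)ᵐᵒᵖ M]
        [AddCommGroup M'] [Module (↥A) M'] [Module (↥A)ᵐᵒᵖ M'] [IsCentralScalar (↥A) M'] [Module k M']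
        [IsScalarTower k (↥A) M'] [IsScalarTower k (↥A)ᵐᵒᵖ M'] (f : M' →ₗ[↥A] M),
        Function.Surjective f →
          ∀ φ : R.carrier →ₐ[k] TrivSqZeroExt (↥A) M,
            ∃ ψ : R.carrier →ₐ[k] TrivSqZeroExt (↥A) M',
              ∀ r : R.carrier, (ψ r).fst = (φ r).fst ∧ f (ψ r).snd = (φ r).snd)
    (g : MvPowerSeries (Fin d) k) (hg : π g = 0) (l : Fin d) : π (pderiv k l g) = 0 := by
  classical
  have := R.isAdicComplete
  refine IsHausdorff.haus' (I := maximalIdeal R.carrier) _ fun j => ?_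
  rw [SModEq.sub_mem, sub_zero, smul_eq_mul, Ideal.mul_top]
  refine Ideal.pow_le_pow_right (Nat.le_succ j) (Ideal.Quotient.eq_zero_iff_mem.1 ?_)
  let A : ArtFun.Art k k := R.trunc j
  let mA : Ideal A := maximalIdeal A
  let q : R.carrier →ₐ[k] A := Ideal.Quotient.mkₐ k (ArtFun.CRing.mpow R j)
  have hXm : ∀ i, (X i : MvPowerSeries (Fin d) k) ∈ maximalIdeal (MvPowerSeries (Fin d) k) := fun i => by
    rw [← Groth.Agent.ArtPow.span_X_eq_maximalIdeal]; exact Ideal.subset_span ⟨i, rfl⟩
  have hm : ∀ x ∈ maximalIdeal (MvPowerSeries (Fin d) k), q (π x) ∈ mA := fun x hx => by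
    rw [IsLocalRing.mem_maximalIdeal, mem_nonunits_iff]
    intro hu
    have h1 : IsUnit (A.res (q (π x))) := hu.map A.res
    rw [isUnit_iff_ne_zero] at h1
    refine h1 ((A.mem_maximalIdeal_iff _).1 ?_)
    have h2 : π x ∈ maximalIdeal R.carrier := by
      rw [IsLocalRing.mem_maximalIdeal, mem_nonunits_iff]
      intro hu'
      obtain ⟨y, hy⟩ := isUnit_iff_exists_inv.1 hu'
      obtain ⟨y', rfl⟩ := hπ y
      have h3 : x * y' - 1 ∈ maximalIdeal (MvPowerSeries (Fin d) k) :=
        Ideal.pow_le_self two_ne_zero (hker (by rw [RingHom.mem_ker, map_sub, map_mul, hy, map_one, sub_self]))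
      exact (maximalIdeal.isMaximal _).ne_top ((Ideal.eq_top_iff_one _).2
        ((Submodule.sub_mem_iff_right _ (Ideal.mul_mem_right y' _ hx)).1 h3))
    exact (A.mem_maximalIdeal_iff _).2 ((ArtFun.CRing.mem_maximalIdeal_iff R _).1 h2)
  have hnil : ∀ i, IsNilpotent (q (π (X i))) := fun i => by
    obtain ⟨N, hN⟩ := (isArtinianRing_iff_isNilpotent_maximalIdeal A).1 inferInstance
    refine ⟨N, ?_⟩
    have h1 := Ideal.pow_mem_pow (hm _ (hXm i)) N
    rwa [show mA ^ N = ⊥ from hN] at h1
  -- the test modules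
  let M := Fin d → A ⧸ mA
  let M' := Fin d → A
  let f : M' →ₗ[↥A] M := LinearMap.pi fun i => (Submodule.mkQ mA).comp (LinearMap.proj i)
  have hf : Function.Surjective f := fun m => by
    choose a ha using fun i => Ideal.Quotient.mk_surjective (m i)
    exact ⟨a, funext ha⟩
  let c : Fin d → TrivSqZeroExt (↥A) M := fun i =>
    TrivSqZeroExt.inl (q (π (X i))) + TrivSqZeroExt.inr (Pi.single i 1)
  have hc : ∀ i, IsNilpotent (c i) := fun i => by
    rw [TrivSqZeroExt.isNilpotent_iff_isNilpotent_fst]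
    simpa [c] using hnil i
  let φP := Groth.Agent.ArtPow.evalNil (R := k) c hc
  have hfst : ∀ x, (φP x).fst = q (π x) := by
    obtain ⟨N, hN⟩ := (isArtinianRing_iff_isNilpotent_maximalIdeal A).1 inferInstance
    have e : (TrivSqZeroExt.fstHom k (↥A) M).comp φP = q.comp π := by
      refine Groth.Agent.ArtPow.algHom_ext (I := mA) (N := N) hN (fun i => ?_) (fun i => ?_)
      · simp [φP, c]
      · simpa [φP, c] using hm _ (hXm i)
    exact fun x => DFunLike.congr_fun e x
  have hkill : ∀ a ∈ mA, ∀ m : M, a • m = 0 := fun a ha m => funext fun i => by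
    obtain ⟨b, hb⟩ := Ideal.Quotient.mk_surjective (m i)
    rw [Pi.smul_apply, ← hb]
    exact Ideal.Quotient.eq_zero_iff_mem.2 (mA.mul_mem_right b ha)
  have hkerφ : RingHom.ker π ≤ RingHom.ker φP := by
    intro x hx
    rw [RingHom.mem_ker] at hx ⊢
    refine TrivSqZeroExt.ext (by rw [hfst, hx, map_zero]; rfl) ?_
    show (φP x).snd = 0
    have hx2 := hker (RingHom.mem_ker.2 hx)
    rw [pow_two] at hx2
    refine Submodule.mul_induction_on hx2 (fun a ha b hb => ?_) (fun a b ha hb => by
      rw [map_add, TrivSqZeroExt.snd_add, ha, hb, add_zero])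
    rw [map_mul, TrivSqZeroExt.snd_mul, op_smul_eq_smul, hfst, hfst, hkill _ (hm a ha), hkill _ (hm b hb), add_zero]
  let φ := AlgHom.liftOfSurjective π hπ φP hkerφ
  have hφ : ∀ x, φ (π x) = φP x := fun x => AlgHom.liftOfSurjective_apply _ _ _ _ x
  obtain ⟨ψ, hψ⟩ := h A M M' f hf φ
  let Θ : MvPowerSeries (Fin d) k →ₐ[k] TrivSqZeroExt (↥A) M' := ψ.comp π
  have hΘ : ∀ x, (Θ x).fst = q (π x) := fun x => by
    rw [show Θ x = ψ (π x) from rfl, (hψ _).1, hφ, hfst]
  let v : Fin d → M' := fun i => (Θ (X i)).snd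
  have hv : ∀ i s, v i s - (if s = i then 1 else 0) ∈ mA := fun i s => by
    have h1 : f (v i) = Pi.single i 1 := by
      rw [show v i = (ψ (π (X i))).snd from rfl, (hψ _).2, hφ]
      simp [φP, c]
    have h2 := congrFun h1 s
    rw [← Ideal.Quotient.eq]
    refine h2.trans ?_
    rw [Pi.single_apply]
    split_ifs <;> simp
  let L : MvPowerSeries (Fin d) k →ₐ[k] TrivSqZeroExt (↥A) M' :=
    { toFun := fun x => TrivSqZeroExt.inl (q (π x)) + TrivSqZeroExt.inr (∑ i, q (π (pderiv k i x)) • v i)
      map_one' := by simp [pderiv_one]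
      map_mul' := fun x y => by
        refine TrivSqZeroExt.ext (by simp) ?_
        simp [Derivation.leibniz, add_smul, mul_smul, Finset.sum_add_distrib, Finset.smul_sum, op_smul_eq_smul]
      map_zero' := by simp
      map_add' := fun x y => by
        refine TrivSqZeroExt.ext (by simp) ?_
        simp [add_smul, Finset.sum_add_distrib]
        try abel
      commutes' := fun a => by
        refine TrivSqZeroExt.ext (by simp [TrivSqZeroExt.algebraMap_eq_inl']) ?_
        simp [TrivSqZeroExt.algebraMap_eq_inl', MvPowerSeries.algebraMap_apply] }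
  have hΘnil : ∀ i, IsNilpotent (Θ (X i)) := fun i => by
    rw [TrivSqZeroExt.isNilpotent_iff_isNilpotent_fst, hΘ]; exact hnil i
  obtain ⟨N', hN'⟩ := lift_of_powerSeries.exists_pow_eq_bot _ hΘnil
  have e : Θ = L := by
    refine Groth.Agent.ArtPow.algHom_ext hN' (fun i => ?_) (fun i => Ideal.subset_span ⟨i, rfl⟩)
    refine TrivSqZeroExt.ext ?_ ?_
    · rw [hΘ]; simp [L]
    · show v i = (L (X i)).snd
      simp only [L, AlgHom.coe_mk, RingHom.coe_mk, MonoidHom.coe_mk, OneHom.coe_mk, TrivSqZeroExt.snd_add,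
        TrivSqZeroExt.snd_inl, TrivSqZeroExt.snd_inr, zero_add]
      rw [Finset.sum_eq_single i]
      · simp
      · intro s _ hs
        rw [pderiv_X_of_ne (Ne.symm hs)]
        simp
      · simp
  have h0 : ∑ i, q (π (pderiv k i g)) • v i = 0 := by
    have h1 : Θ g = 0 := by rw [show Θ g = ψ (π g) from rfl, hg, map_zero]
    rw [e] at h1
    have h2 := congrArg TrivSqZeroExt.snd h1
    simpa [L] using h2
  let V : Matrix (Fin d) (Fin d) A := Matrix.of v
  have hV : IsUnit V := by
    rw [Matrix.isUnit_iff_isUnit_det]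
    have h1 : V.map (Ideal.Quotient.mk mA) = 1 := Matrix.ext fun i s => by
      rw [Matrix.map_apply, Matrix.one_apply]
      show Ideal.Quotient.mk mA (v i s) = _
      rw [Ideal.Quotient.eq.2 (hv i s)]
      split_ifs <;> simp_all
    have h2 : Ideal.Quotient.mk mA V.det = 1 := by
      rw [RingHom.map_det, RingHom.mapMatrix_apply, h1, Matrix.det_one]
    by_contra hu
    have h3 : V.det ∈ mA := (IsLocalRing.mem_maximalIdeal _).2 hu
    rw [Ideal.Quotient.eq_zero_iff_mem.2 h3] at h2
    exact zero_ne_one h2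
  have h4 : Matrix.vecMul (fun i => q (π (pderiv k i g))) V = Matrix.vecMul 0 V := by
    rw [Matrix.zero_vecMul, Matrix.vecMul_eq_sum]
    exact h0
  exact congrFun (Matrix.vecMul_injective_of_isUnit hV h4) l

theorem finrank_cotangent_congr {R S : Type u} [CommRing R] [CommRing S] [IsLocalRing R] [IsLocalRing S]
    [IsNoetherianRing R] [IsNoetherianRing S] (e : R ≃+* S) :
    Module.finrank (ResidueField R) (CotangentSpace R) = Module.finrank (ResidueField S) (CotangentSpace S) := by
  rw [← spanFinrank_maximalIdeal_eq_finrank_cotangentSpace, ← spanFinrank_maximalIdeal_eq_finrank_cotangentSpace,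
    ← map_ringEquiv_maximalIdeal e]
  exact (Ideal.spanFinrank_map_eq_of_ringEquiv e _).symm


/-- Let k be a field of characteristic zero and R a complete local Noetherian k-algebra with residue
field k, with n the dimension of its cotangent space m_R/m_R². Then R is isomorphic as a k-algebra
to the power series ring k[[x_1, …, x_n]] if and only if for every local Artinian k-algebra A with
residue field k, all A-modules M and M' and every surjective A-linear map f : M' → M, every
k-algebra homomorphism R → A ⊕ M into the trivial square-zero extension is the composite of some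
k-algebra homomorphism R → A ⊕ M' with the map A ⊕ M' → A ⊕ M induced by f. (The modules are taken
in the universe of k, with the A-action on both sides equal; in positive characteristic the
criterion fails, e.g. for k[x]/(x^p).) -/
theorem result
    {k : Type u} [Field k] [CharZero k] (R : ArtFun.CRing k k) :
    Nonempty (R.carrier ≃ₐ[k] MvPowerSeries
        (Fin (Module.finrank (IsLocalRing.ResidueField R.carrier) (IsLocalRing.CotangentSpace R.carrier))) k) ↔
      ∀ (A : ArtFun.Art k k) (M M' : Type u) [AddCommGroup M] [Module (↥A) M] [Module (↥A)ᵐᵒᵖ M]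
        [IsCentralScalar (↥A) M] [Module k M] [IsScalarTower k (↥A) M] [IsScalarTower k (↥A)ᵐᵒᵖ M]
        [AddCommGroup M'] [Module (↥A) M'] [Module (↥A)ᵐᵒᵖ M'] [IsCentralScalar (↥A) M'] [Module k M']
        [IsScalarTower k (↥A) M'] [IsScalarTower k (↥A)ᵐᵒᵖ M'] (f : M' →ₗ[↥A] M),
        Function.Surjective f →
          ∀ φ : R.carrier →ₐ[k] TrivSqZeroExt (↥A) M,
            ∃ ψ : R.carrier →ₐ[k] TrivSqZeroExt (↥A) M',
              ∀ r : R.carrier, (ψ r).fst = (φ r).fst ∧ f (ψ r).snd = (φ r).snd := by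
  constructor
  · rintro ⟨e⟩ A M M' _ _ _ _ _ _ _ _ _ _ _ _ _ _ f hf φ
    obtain ⟨ψ, hψ⟩ := lift_of_powerSeries (↥A) M M' f hf (fun a => ⟨A.res a, by
      rw [A.mem_maximalIdeal_iff, map_sub, AlgHom.commutes, Algebra.algebraMap_self, RingHom.id_apply, sub_self]⟩)
      (φ.comp e.symm.toAlgHom)
    refine ⟨ψ.comp e.toAlgHom, fun r => ?_⟩
    have := hψ (e r)
    simpa using this
  · intro h
    obtain ⟨d, J, hJ, ⟨e⟩⟩ := Groth.Agent.ArtPow.exists_presentation R
    let π : MvPowerSeries (Fin d) k →ₐ[k] R.carrier := e.toAlgHom.comp (Ideal.Quotient.mkₐ k J)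
    have hπ : Function.Surjective π := e.surjective.comp Ideal.Quotient.mk_surjective
    have hker : ∀ x, π x = 0 ↔ x ∈ J := fun x => by
      show e (Ideal.Quotient.mk J x) = 0 ↔ _
      rw [map_eq_zero_iff _ e.injective, Ideal.Quotient.eq_zero_iff_mem]
    have hJ0 : J = ⊥ := eq_zero_of_pderiv_closed J (hJ.trans (Ideal.pow_le_self two_ne_zero))
      fun x hx i => (hker _).1 (pderiv_mem_of_lift R π hπ (fun y hy => hJ ((hker y).1 hy)) h x ((hker x).2 hx) i)
    have hinj : Function.Injective π := (injective_iff_map_eq_zero π).2 fun x hx => by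
      have := (hker x).1 hx
      rwa [hJ0, Ideal.mem_bot] at this
    let E := AlgEquiv.ofBijective π ⟨hinj, hπ⟩
    have hd : Module.finrank (IsLocalRing.ResidueField R.carrier) (IsLocalRing.CotangentSpace R.carrier) = d := by
      rw [← finrank_cotangent_congr E.toRingEquiv, finrank_cotangent]
    rw [hd]
    exact ⟨E.symm⟩

end Groth.Agent.S18445
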