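import Groth.Statements.S18455
import Groth.Agent.PtPush.StrictChi
import Groth.Agent.SurfRR.Basic
import Groth.Agent.HurwitzAlg.Chart
import Groth.Agent.Intersect.Surface

set_option autoImplicit false
universe u
open CategoryTheory CategoryTheory.Limits AlgebraicGeometry TopologicalSpace
open Surf

namespace Groth.Agent.S18455

/-- Let k be an algebraically closed field of characteristic zero and X a smooth projective surface over
k (integral, proper and smooth over k, of dimension 2) with canonical module W, a second exterior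
power of Ω_{X/k}. Let x be a closed point of X and π : X' → X a blowing up of X in the ideal of x
(characterised by its universal property), with X' again an integral scheme of dimension 2, proper
and smooth over k through π, W' a canonical module of X' and I_E the exceptional ideal (the inverse
image of the ideal of x). Let C be an integral curve on X with ideal I_C and C' an integral curve on
X' with ideal I_{C'}, such that the inverse image ideal of C on X' equals I_{C'} · I_E^m for some
natural number m; thus C' is the proper transform of C and m the multiplicity of C at x. Writing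
(A·B) = χ(O) − χ(A) − χ(B) + χ(A ⊗ B) for intersection numbers on X and on X', one has
(I_{C'}·I_{C'}) − (I_{C'}·W') = (I_C·I_C) − (I_C·W) − m(m − 1); in terms of arithmetic genera
2p_a(C') − 2 = K'·C' + C'² = K·C + C² − m(m−1) = 2p_a(C) − 2 − m(m−1), so p_a drops by m(m−1)/2. -/
theorem result (k : Type u) [Field k] [IsAlgClosed k] [CharZero k]
    (X : Scheme.{u}) [X.Over (Spec (CommRingCat.of k))] [IsProper (X ↘ (Spec (CommRingCat.of k)))]
    [Smooth (X ↘ (Spec (CommRingCat.of k)))] [IsIntegral X] (hdim : topologicalKrullDim X = 2)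
    (W : X.Modules) (hW : ExtPow.IsExtPow 2 (Omega.sheaf (X ↘ (Spec (CommRingCat.of k)))) W)
    (x : X) (hx : IsClosed ({x} : Set X))
    (X' : Scheme.{u}) (π : X' ⟶ X) (hπ : BlowUp.IsBlowUp π (Scheme.IdealSheafData.vanishingIdeal ⟨{x}, hx⟩))
    [IsIntegral X'] (hdim' : topologicalKrullDim X' = 2)
    [IsProper (π ≫ (X ↘ (Spec (CommRingCat.of k))))] [Smooth (π ≫ (X ↘ (Spec (CommRingCat.of k))))]
    (W' : X'.Modules) (hW' : ExtPow.IsExtPow 2 (Omega.sheaf (π ≫ (X ↘ (Spec (CommRingCat.of k))))) W')
    (C : X.IdealSheafData) (hCi : IsIntegral C.subscheme) (hCd : topologicalKrullDim (C.support : Set X) = 1)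
    (C' : X'.IdealSheafData) (hC'i : IsIntegral C'.subscheme) (hC'd : topologicalKrullDim (C'.support : Set X') = 1)
    (m : ℕ) (hm : C.comap π = C' * (BlowUp.exceptional π (Scheme.IdealSheafData.vanishingIdeal ⟨{x}, hx⟩)) ^ m) :
    letI : X'.Over (Spec (CommRingCat.of k)) := ⟨π ≫ (X ↘ (Spec (CommRingCat.of k)))⟩
    FGA.intNum k X' 2 ![(ClSub.idealMod C'), (ClSub.idealMod C')] (Coh.structureModule X') -
        FGA.intNum k X' 2 ![(ClSub.idealMod C'), W'] (Coh.structureModule X') =
      FGA.intNum k X 2 ![(ClSub.idealMod C), (ClSub.idealMod C)] (Coh.structureModule X) -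
        FGA.intNum k X 2 ![(ClSub.idealMod C), W] (Coh.structureModule X) - (m : ℤ) * ((m : ℤ) - 1) := by
  letI : X'.Over (Spec (CommRingCat.of k)) := ⟨π ≫ (X ↘ (Spec (CommRingCat.of k)))⟩
  haveI : IsProper (X' ↘ Spec (CommRingCat.of k)) := ‹_›
  haveI : Smooth (X' ↘ Spec (CommRingCat.of k)) := ‹_›
  haveI := CurveRR.isNoetherian_of_proper k X
  haveI := CurveRR.isNoetherian_of_proper k X'
  have hreg : ∀ y : X, IsRegularLocalRing (X.presheaf.stalk y) := fun y =>
    SmLocalST.isRegularLocalRing_stalk_of_smooth_field (X ↘ Spec (CommRingCat.of k)) y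
  have hp : PtBlow.IsRegPt X x := ⟨hx, hreg x, (Intersect.dim_stalk_closed k hx).trans hdim⟩
  have aux : ∀ {Y : Scheme.{u}} [Y.Over (Spec (CommRingCat.of k))] [IsProper (Y ↘ Spec (CommRingCat.of k))]
      [Smooth (Y ↘ Spec (CommRingCat.of k))] [IsIntegral Y], topologicalKrullDim Y = 2 →
      ∀ D : Y.IdealSheafData, IsIntegral D.subscheme → topologicalKrullDim (D.support : Set Y) = 1 →
      BlowUp.IsEffCartierIdeal D := by
    intro Y _ _ _ _ hY D hD hD1
    haveI := hD
    have h := Intersect.isEffCartier_curve k hY D.subschemeι (by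
      rw [← hD1, D.subschemeι.isClosedEmbedding.isEmbedding.toHomeomorph.isHomeomorph.topologicalKrullDim_eq,
        Scheme.IdealSheafData.range_subschemeι])
    rwa [Scheme.IdealSheafData.ker_subschemeι] at h
  have hC := aux hdim C hCi hCd
  have hC' := aux hdim' C' hC'i hC'd
  have hCm := (Groth.Agent.S8914.result C).2 hC
  have hC'm := (Groth.Agent.S8914.result C').2 hC'
  have h1 := SurfRR.riemann_roch k hdim hW hCm
  have h2 := SurfRR.riemann_roch k hdim' hW' hC'm
  have h3 := PtPush.euler_strictTransform k hp rfl hreg hπ hdim.le hdim'.le hC hC' m hm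
  have h4 := PtPush.euler_pullback_blowUp k hp rfl hreg hπ (TMul.isInvertible_structureModule (X := X))
  rw [CurveRR.euler_eq_of_iso (k := k) (PicLoc.pullbackStructureIso π)] at h4
  have h5 : (letI : Algebra k (X.residueField x) := Curv2.resAlgebra k X x
      Module.finrank k (X.residueField x)) = 1 := by
    obtain ⟨V, hV, hxV, -⟩ := exists_isAffineOpen_mem_and_subset (show x ∈ (⊤ : X.Opens) from trivial)
    letI : Algebra k (X.residueField x) := Curv2.resAlgebra k X x
    haveI := HurwitzAlg.finite_residueField (k := k) hV hxV hx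
    rw [← (AlgEquiv.ofBijective (Algebra.ofId k (X.residueField x))
      IsAlgClosed.algebraMap_bijective_of_isIntegral).toLinearEquiv.finrank_eq, Module.finrank_self]
  rw [h5, Nat.cast_one, one_mul] at h3
  linarith

end Groth.Agent.S18455
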