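import Groth.Statements.S18457
import Mathlib.Algebra.Order.Chebyshev
import Mathlib.Tactic.Linarith
import Mathlib.Tactic.Ring
import Mathlib.Tactic.Push
import Mathlib.Tactic.Positivity

set_option autoImplicit false
open Finset
open Surf

namespace Groth.Agent.S18457

/-- In the Picard lattice of the plane blown up at n ≤ 8 points, with basis h, e_1, …, e_n, form h² = 1,
e_i² = −1, all other products 0, and anticanonical class D = 3h − Σ e_i, let d·h − Σ a_i e_i be a
class with all a_i ≥ 0 (the class of the strict transform of a degree-d plane curve having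
multiplicity a_i at the i-th point) which is a (−2)-class orthogonal to D, that is d² − Σ a_i² = −2
and 3d = Σ a_i. Then one of the following holds: d = 1 and every a_i is 0 or 1 with exactly three
equal to 1; d = 2 and every a_i is 0 or 1 with exactly six equal to 1; d = 3, n = 8, and one a_i
equals 2 while the remaining seven equal 1. The published statement is geometric: under the
general-position hypotheses on the points, no smooth rational curve on the blown-up plane is
orthogonal to D; this row is the lattice enumeration its proof carries out (a line through three of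
the points, a conic through six, a cubic through all eight and singular at one). -/
theorem result (n : ℕ) (hn : n ≤ 8)
    (d : ℤ) (a : Fin n → ℤ) (ha : ∀ i, 0 ≤ a i)
    (hsq : d ^ 2 - ∑ i, (a i) ^ 2 = -2) (hK : 3 * d = ∑ i, a i) :
    (d = 1 ∧ (∀ i, a i = 0 ∨ a i = 1) ∧ (Finset.univ.filter (fun i => a i = 1)).card = 3) ∨
      (d = 2 ∧ (∀ i, a i = 0 ∨ a i = 1) ∧ (Finset.univ.filter (fun i => a i = 1)).card = 6) ∨
      (d = 3 ∧ n = 8 ∧ ∃ j, a j = 2 ∧ ∀ i, i ≠ j → a i = 1) := by
  have hs : ∑ i, a i ^ 2 = d ^ 2 + 2 := by linarith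
  have hc := sq_sum_le_card_mul_sum_sq (s := (Finset.univ : Finset (Fin n))) (f := a)
  rw [Finset.card_univ, Fintype.card_fin, hs, ← hK] at hc
  have hn' : (n : ℤ) ≤ 8 := by exact_mod_cast hn
  have hd0 : 0 ≤ d := by have := Finset.sum_nonneg (s := Finset.univ) fun i _ => ha i; omega
  have hd4 : d ≤ 4 := by nlinarith
  have key : ∀ c : ℤ, ∑ i, (a i - c) ^ 2 = (d ^ 2 + 2) - 2 * c * (3 * d) + n * c ^ 2 := by
    intro c
    rw [← hs, hK, Finset.mul_sum, ← Finset.sum_sub_distrib]
    simp_rw [sub_sq]
    rw [Finset.sum_add_distrib]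
    simp [Finset.sum_sub_distrib, Finset.mul_sum, mul_comm, mul_assoc, mul_left_comm]
  have h01 : ∑ i, (a i ^ 2 - a i) = d ^ 2 + 2 - 3 * d := by rw [Finset.sum_sub_distrib, hs, hK]
  have small : d ^ 2 + 2 = 3 * d → (∀ i, a i = 0 ∨ a i = 1) ∧
      ((Finset.univ.filter (fun i => a i = 1)).card : ℤ) = 3 * d := by
    intro h
    have hall : ∀ i, a i = 0 ∨ a i = 1 := by
      intro i
      have hnn : ∀ i ∈ (Finset.univ : Finset (Fin n)), 0 ≤ a i ^ 2 - a i := fun i _ => by
        rcases eq_or_lt_of_le (ha i) with h | h <;> nlinarith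
      have := (Finset.sum_eq_zero_iff_of_nonneg hnn).mp (by linarith) i (Finset.mem_univ _)
      rcases mul_eq_zero.mp (show a i * (a i - 1) = 0 by linarith) with h | h <;> omega
    refine ⟨hall, ?_⟩
    rw [hK, Finset.card_filter, Nat.cast_sum]
    refine Finset.sum_congr rfl fun i _ => ?_
    rcases hall i with h | h <;> simp [h]
  have hd : d = 0 ∨ d = 1 ∨ d = 2 ∨ d = 3 ∨ d = 4 := by omega
  rcases hd with rfl | rfl | rfl | rfl | rfl
  · have hz := (Finset.sum_eq_zero_iff_of_nonneg fun i _ => ha i).mp (by linarith)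
    rw [Finset.sum_eq_zero fun i hi => by rw [hz i hi]; ring] at hs
    norm_num at hs
  · obtain ⟨h1, h2⟩ := small (by norm_num)
    exact Or.inl ⟨rfl, h1, by exact_mod_cast h2⟩
  · obtain ⟨h1, h2⟩ := small (by norm_num)
    exact Or.inr (Or.inl ⟨rfl, h1, by exact_mod_cast h2⟩)
  · have k1 := key 1
    have hn8 : n = 8 := by
      by_contra hne
      have : (n : ℤ) ≤ 7 := by omega
      have h7 : ∑ i, (a i - 1) ^ 2 = 0 :=
        le_antisymm (by linarith) (Finset.sum_nonneg fun i _ => sq_nonneg _)
      have hall : ∀ i, a i = 1 := fun i => by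
        have := (Finset.sum_eq_zero_iff_of_nonneg fun i _ => sq_nonneg _).mp h7 i (Finset.mem_univ _)
        have := pow_eq_zero_iff (two_ne_zero) |>.mp this; omega
      simp [hall] at hK
      omega
    subst hn8
    refine Or.inr (Or.inr ⟨rfl, rfl, ?_⟩)
    have h1 : ∑ i, (a i - 1) ^ 2 = 1 := by rw [k1]; norm_num
    obtain ⟨j, hj⟩ : ∃ j, a j ≠ 1 := by
      by_contra h; push_neg at h; simp [h] at hK
    rw [← Finset.add_sum_erase _ _ (Finset.mem_univ j)] at h1
    have hnn : ∀ i ∈ (Finset.univ.erase j), 0 ≤ (a i - 1) ^ 2 := fun i _ => sq_nonneg _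
    have hj1 : 1 ≤ (a j - 1) ^ 2 := by
      have : 0 < (a j - 1) ^ 2 := by positivity
      omega
    have hr : ∑ i ∈ Finset.univ.erase j, (a i - 1) ^ 2 = 0 :=
      le_antisymm (by linarith) (Finset.sum_nonneg hnn)
    have hall : ∀ i, i ≠ j → a i = 1 := fun i hi => by
      have := (Finset.sum_eq_zero_iff_of_nonneg hnn).mp hr i (by simp [hi])
      have := pow_eq_zero_iff (two_ne_zero) |>.mp this; omega
    refine ⟨j, ?_, hall⟩
    rw [← Finset.add_sum_erase _ _ (Finset.mem_univ j),
      Finset.sum_congr rfl (fun i hi => hall i (Finset.ne_of_mem_erase hi))] at hK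
    simp at hK
    omega
  · exfalso
    have hn8 : (n : ℤ) = 8 := by nlinarith
    have h2 : ∑ i, (2 * a i - 3) ^ 2 = 0 := by
      have : ∀ i, (2 * a i - 3) ^ 2 = 4 * a i ^ 2 - 12 * a i + 9 := fun i => by ring
      simp only [this, Finset.sum_add_distrib, Finset.sum_sub_distrib, ← Finset.mul_sum, hs, ← hK]
      simp [hn8]
    rcases Nat.eq_zero_or_pos n with rfl | hp
    · simp at hn8
    have := (Finset.sum_eq_zero_iff_of_nonneg fun i _ => sq_nonneg _).mp h2 ⟨0, hp⟩ (Finset.mem_univ _)
    have := pow_eq_zero_iff (two_ne_zero) |>.mp this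
    omega

end Groth.Agent.S18457
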