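import Groth.Statements.S18458
import Groth.Agent.Nakai.CurveConfig
import Groth.Agent.Nakai.RealWalls
import Groth.Agent.SurfAdj.Basic

set_option autoImplicit false
universe u
open CategoryTheory CategoryTheory.Limits AlgebraicGeometry TopologicalSpace
open Surf

namespace Groth.Agent.S18458

/-- Let k be an algebraically closed field of characteristic zero and X a smooth projective surface over
k (integral, proper and smooth over k, of dimension 2, carrying an ample invertible module). Let
C_1, …, C_r be pairwise distinct integral curves on X with ideal sheaves I_i whose intersection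
matrix is negative definite: Σ_{i,j} a_i a_j (I_i·I_j) < 0 for every nonzero integer vector a, where
(A·B) = χ(O_X) − χ(A) − χ(B) + χ(A ⊗ B). Then there is an invertible O_X-module L (the sheaf of a
divisor H) which is nef and big and is orthogonal to exactly the curves C_i: writing (L·C) = χ(O_C ⊗
L) − χ(O_C) for the degree of L on an integral curve C, one has (L·C) ≥ 0 for every integral curve
C, (L·L) > 0, and (L·C) = 0 if and only if C is one of the C_i. -/
theorem result (k : Type u) [Field k] [IsAlgClosed k] [CharZero k]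
    (X : Scheme.{u}) [X.Over (Spec (CommRingCat.of k))] [IsProper (X ↘ (Spec (CommRingCat.of k)))]
    [Smooth (X ↘ (Spec (CommRingCat.of k)))] [IsIntegral X] (hdim : topologicalKrullDim X = 2)
    (hproj : ∃ H : X.Modules, CohB1.IsAmple H)
    (r : ℕ) (C : Fin r → X.IdealSheafData) (hC : Function.Injective C)
    (hCi : ∀ i, IsIntegral (C i).subscheme) (hCd : ∀ i, topologicalKrullDim ((C i).support : Set X) = 1)
    (hneg : ∀ a : Fin r → ℤ, a ≠ 0 →
      ∑ i, ∑ j, a i * a j * FGA.intNum k X 2 ![(ClSub.idealMod (C i)), (ClSub.idealMod (C j))] (Coh.structureModule X) < 0) :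
    ∃ L : X.Modules, PicF.IsInvertible L ∧
      (∀ D : X.IdealSheafData, IsIntegral D.subscheme → topologicalKrullDim (D.support : Set X) = 1 →
        0 ≤ Curv2.euler k X (CohB1.tensorMod (ClSub.quotMod D) L) - Curv2.euler k X (ClSub.quotMod D)) ∧
      0 < FGA.intNum k X 2 ![L, L] (Coh.structureModule X) ∧
      (∀ D : X.IdealSheafData, IsIntegral D.subscheme → topologicalKrullDim (D.support : Set X) = 1 →
        (Curv2.euler k X (CohB1.tensorMod (ClSub.quotMod D) L) - Curv2.euler k X (ClSub.quotMod D) = 0 ↔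
          ∃ i, D = C i)) := by
  classical
  let I : Fin r → X.Modules := fun i => ClSub.idealMod (C i)
  have hI : ∀ i, PicF.IsInvertible (I i) := fun i => haveI := hCi i; Groth.Agent.Nakai.inv_of_curve k hdim (C i) (hCd i)
  choose J hJ hJe using fun i => Groth.Agent.W7Hull.exists_tensor_inverse (hI i)
  obtain ⟨H, hH⟩ := hproj
  let q := Groth.Agent.Nakai.inter k (X := X)
  have hb : ∀ D : X.IdealSheafData, IsIntegral D.subscheme → topologicalKrullDim (D.support : Set X) = 1 →
      0 < -q H (ClSub.idealMod D) := fun D hD hD1 => by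
    haveI := hD
    have h := Groth.Agent.SurfAdj.deg_ample_pos k hdim D hD1 hH
    have h' : (FGA.intNum k X 2 ![ClSub.idealMod D, H] (Coh.structureModule X) : ℚ) < 0 := by exact_mod_cast h
    rw [Groth.Agent.SurfAdj.intNum_inter k hdim, Groth.Agent.Nakai.inter_comm] at h'
    simp only [q]; linarith
  let G : Fin r → Fin r → ℤ := fun i j =>
    FGA.intNum k X 2 ![I i, I j] (Coh.structureModule X)
  have hG : ∀ i j, (G i j : ℚ) = q (I i) (I j) := fun i j => Groth.Agent.SurfAdj.intNum_inter k hdim
  obtain ⟨a, ha0, ha⟩ := Groth.Agent.Nakai.exists_nonneg_solution (fun i j => (G i j : ℚ))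
    (fun i j hij => by
      haveI := hCi i
      haveI := hCi j
      exact_mod_cast Groth.Agent.Nakai.intNum_off_nonneg k hdim (hCd i) (hCd j) (fun h => hij (hC h)))
    (Groth.Agent.Nakai.rat_neg_of_int_neg G hneg) (fun i => -q H (I i)) (fun i => (hb _ (hCi i) (hCd i)).le)
  let N : ℕ := ∏ j, (a j).den
  have hN : 0 < N := Finset.prod_pos fun j _ => (a j).den_pos
  let n : Fin r → ℕ := fun i => (a i).num.toNat * ∏ j ∈ Finset.univ.erase i, (a j).den
  have hn : ∀ i, (n i : ℚ) = (N : ℚ) * a i := fun i => by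
    simp only [n, N]
    rw [← Finset.mul_prod_erase _ _ (Finset.mem_univ i)]
    push_cast
    have h1 : ((a i).num.toNat : ℚ) = ((a i).num : ℚ) := by
      exact_mod_cast congrArg (fun z : ℤ => (z : ℚ)) (Int.toNat_of_nonneg (Rat.num_nonneg.2 (ha0 i)))
    rw [h1, ← Rat.mul_den_eq_num (a i)]
    ring
  have key : ∀ s : Finset (Fin r), ∃ L : X.Modules, PicF.IsInvertible L ∧ ∀ M : X.Modules, PicF.IsInvertible M →
      q L M = (N : ℚ) * q H M - ∑ i ∈ s, (n i : ℚ) * q (I i) M := by
    intro s
    induction s using Finset.induction_on with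
    | empty =>
      exact ⟨_, TMul.isInvertible_tensorPow hH.1 N, fun M hM => by
        simp only [q, Finset.sum_empty, sub_zero]
        exact Groth.Agent.Nakai.inter_pow k hdim.le hH.1 hM N⟩
    | insert i s his ih =>
      obtain ⟨L, hL, hLe⟩ := ih
      refine ⟨_, TMul.isInvertible_tensorMod hL (TMul.isInvertible_tensorPow (hJ i) (n i)), fun M hM => ?_⟩
      simp only [q] at hLe ⊢
      rw [Groth.Agent.Nakai.inter_tensor k hdim.le hL (TMul.isInvertible_tensorPow (hJ i) (n i)) hM, hLe M hM,
        Groth.Agent.Nakai.inter_pow k hdim.le (hJ i) hM, Groth.Agent.Nakai.inter_inv k hdim.le (hI i) (hJe i) hM,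
        Finset.sum_insert his]
      ring
  obtain ⟨L, hL, hLe⟩ := key Finset.univ
  have hdeg : ∀ (D : X.IdealSheafData) (hD : IsIntegral D.subscheme) (hD1 : topologicalKrullDim (D.support : Set X) = 1),
      ((Curv2.euler k X (CohB1.tensorMod (ClSub.quotMod D) L) - Curv2.euler k X (ClSub.quotMod D) : ℤ) : ℚ) =
        (N : ℚ) * (-q H (ClSub.idealMod D) + ∑ i, a i * q (I i) (ClSub.idealMod D)) := fun D hD hD1 => by
    haveI := hD
    rw [Groth.Agent.SurfAdj.deg_eq k hdim D hD1 hL]
    push_cast
    rw [Groth.Agent.SurfAdj.intNum_inter k hdim, Groth.Agent.Nakai.inter_comm,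
      show Groth.Agent.Nakai.inter k L (ClSub.idealMod D) = q L (ClSub.idealMod D) from rfl,
      hLe _ (Groth.Agent.Nakai.inv_of_curve k hdim D hD1), mul_add, Finset.mul_sum, neg_sub, sub_eq_add_neg, add_comm]
    simp only [hn, q, mul_assoc, mul_neg]
  have hzero : ∀ i, -q H (I i) + ∑ j, a j * q (I j) (I i) = 0 := fun i => by
    have h := ha i
    rw [neg_neg] at h
    rw [← h, neg_add_eq_zero]
    refine Finset.sum_congr rfl fun j _ => ?_
    rw [hG, mul_comm]
    exact congrArg (a j * ·) (Groth.Agent.Nakai.inter_comm k _ _)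
  have hoff : ∀ (D : X.IdealSheafData), IsIntegral D.subscheme → topologicalKrullDim (D.support : Set X) = 1 →
      (∀ i, D ≠ C i) → 0 < -q H (ClSub.idealMod D) + ∑ i, a i * q (I i) (ClSub.idealMod D) := fun D hD hD1 hne => by
    refine add_pos_of_pos_of_nonneg (hb D hD hD1) (Finset.sum_nonneg fun i _ => mul_nonneg (ha0 i) ?_)
    haveI := hD
    haveI := hCi i
    have h := Groth.Agent.Nakai.intNum_off_nonneg k hdim (hCd i) hD1 (Ne.symm (hne i))
    have h' : (0 : ℚ) ≤ (FGA.intNum k X 2 ![ClSub.idealMod (C i), ClSub.idealMod D] (Coh.structureModule X) : ℚ) := by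
      exact_mod_cast h
    rw [Groth.Agent.SurfAdj.intNum_inter k hdim] at h'
    exact h'
  have hNq : (0 : ℚ) < N := by exact_mod_cast hN
  refine ⟨L, hL, fun D hD hD1 => ?_, ?_, fun D hD hD1 => ⟨fun h0 => ?_, ?_⟩⟩
  · have h : (0 : ℚ) ≤ ((Curv2.euler k X (CohB1.tensorMod (ClSub.quotMod D) L) - Curv2.euler k X (ClSub.quotMod D) : ℤ) : ℚ) := by
      rw [hdeg D hD hD1]
      refine mul_nonneg hNq.le ?_
      by_cases hmem : ∃ i, D = C i
      · obtain ⟨i, rfl⟩ := hmem
        exact (hzero i).ge
      · exact (hoff D hD hD1 fun i h => hmem ⟨i, h⟩).le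
    exact_mod_cast h
  · have h : (0 : ℚ) < (FGA.intNum k X 2 ![L, L] (Coh.structureModule X) : ℚ) := by
      rw [Groth.Agent.SurfAdj.intNum_inter k hdim]
      have e1 : ∀ i, q (I i) L = 0 := fun i => by
        simp only [q] at hLe hzero ⊢
        rw [Groth.Agent.Nakai.inter_comm, hLe _ (hI i), Finset.sum_congr rfl fun j _ => by rw [hn j, mul_assoc], ← Finset.mul_sum]
        linear_combination (-(N : ℚ)) * hzero i
      change 0 < q L L
      rw [hLe L hL, Finset.sum_eq_zero (fun i _ => by rw [e1 i, mul_zero]), sub_zero]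
      refine mul_pos hNq ?_
      simp only [q]
      rw [Groth.Agent.Nakai.inter_comm]
      rw [show Groth.Agent.Nakai.inter k L H = q L H from rfl, hLe H hH.1]
      refine lt_of_lt_of_le (mul_pos hNq (Groth.Agent.Nakai.inter_self_pos k hdim.le hH hdim)) ?_
      refine (le_sub_self_iff _).2 (Finset.sum_nonpos fun i _ => mul_nonpos_of_nonneg_of_nonpos (Nat.cast_nonneg _) ?_)
      have h2 := hb _ (hCi i) (hCd i)
      simp only [q] at h2 ⊢
      rw [Groth.Agent.Nakai.inter_comm]
      linarith
    exact_mod_cast h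
  · by_contra hno
    push Not at hno
    have h := hdeg D hD hD1
    rw [h0, Int.cast_zero] at h
    exact (mul_pos hNq (hoff D hD hD1 hno)).ne h
  · rintro ⟨i, rfl⟩
    have h := hdeg _ hD hD1
    rw [hzero i, mul_zero] at h
    exact_mod_cast h

end Groth.Agent.S18458
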