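import Groth.Statements.S18465
import Mathlib

set_option autoImplicit false
universe u v w x
open WildLef

namespace Groth.Agent.S18465

/-- Let f : G₁ → G₂ be a homomorphism of groups, ρ : G₂ → Γ a homomorphism with finite image G, and A a
nontrivial commutative ring. Let G₂ act on the group algebra A[G] through ρ followed by the left
regular representation, and G₁ through f. If the elements of A[G] fixed by G₁ coincide with those
fixed by G₂, then ρ ∘ f and ρ have the same image. (The published statement has Γ a general linear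
group GL_r(A); over the zero ring that group is trivial, so requiring A nontrivial and allowing any
target group loses nothing.) -/
theorem result
    {G₁ : Type u} {G₂ : Type v} {Γ : Type w} [Group G₁] [Group G₂] [Group Γ]
    (f : G₁ →* G₂) (ρ : G₂ →* Γ) [Finite ρ.range] (A : Type x) [CommRing A] [Nontrivial A]
    (h : {x : MonoidAlgebra A ρ.range | ∀ g : G₁, MonoidAlgebra.of A ρ.range (ρ.rangeRestrict (f g)) * x = x} =
      {x : MonoidAlgebra A ρ.range | ∀ g : G₂, MonoidAlgebra.of A ρ.range (ρ.rangeRestrict g) * x = x}) :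
    (ρ.comp f).range = ρ.range := by
  classical
  refine le_antisymm (by rintro _ ⟨g, rfl⟩; exact ⟨f g, rfl⟩) ?_
  rintro _ ⟨g₀, rfl⟩
  haveI := Fintype.ofFinite ρ.range
  let H : Subgroup ρ.range := (ρ.rangeRestrict.comp f).range
  let x : MonoidAlgebra A ρ.range := ∑ a : H, MonoidAlgebra.single (a : ρ.range) 1
  have hx : ∀ g : G₁, MonoidAlgebra.of A ρ.range (ρ.rangeRestrict (f g)) * x = x := fun g ↦ by
    rw [Finset.mul_sum]
    refine Fintype.sum_equiv (Equiv.mulLeft (⟨_, g, rfl⟩ : H)) _ _ fun a ↦ ?_
    simp [MonoidAlgebra.single_mul_single]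
  have h2 := (Set.ext_iff.mp h x).mp hx g₀
  have h3 := congrArg (fun y : MonoidAlgebra A ρ.range ↦ y.coeff (ρ.rangeRestrict g₀)) h2
  simp only [MonoidAlgebra.of_apply] at h3
  have h4 := MonoidAlgebra.coeff_single_mul_mul x (1 : A) (ρ.rangeRestrict g₀) 1
  rw [mul_one, one_mul] at h4
  rw [h4] at h3
  by_contra hn
  have hne : ∀ a : H, (a : ρ.range) ≠ ρ.rangeRestrict g₀ := fun ⟨_, g, hg⟩ e ↦
    hn ⟨g, (congrArg Subtype.val hg).trans (congrArg Subtype.val e)⟩
  have hc : ∀ b : ρ.range, x.coeff b = ∑ a : H, if (a : ρ.range) = b then (1 : A) else 0 := fun b ↦ by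
    simp [x, Finsupp.single_apply]
  rw [hc, hc] at h3
  have h5 : (∑ a : H, if (a : ρ.range) = 1 then (1 : A) else 0) = 1 := by
    simp [Finset.sum_ite_eq', OneMemClass.coe_eq_one]
  rw [h5] at h3
  simp [hne] at h3

end Groth.Agent.S18465
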