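import Groth.Statements.S18467
import Mathlib

set_option autoImplicit false
universe u
open Hopf

namespace Groth.Agent.S18467

/-- Let p be a prime and R a commutative ring containing an element u with u(p − 1) = 1, and let χ be a
homomorphism from the group of units of ℤ/p to the group of units of R such that χ(m) − 1 is a unit
of R for every m ≠ 1. For 0 ≤ i < p − 1 put e_i = u · Σ_m χ(m)^{−i} [m] in the group algebra
R[(ℤ/p)ˣ]. Then the e_i are idempotents, e_i e_j = 0 for i ≠ j, and Σ_i e_i = 1. (The published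
statement is for algebras over the subring of the p-adic integers generated over ℤ by the values of
the Teichmüller character χ and by 1/(p(p − 1)); the hypotheses on R and χ here are the properties
of that situation which the computation uses, so the row is stated for every such pair.) -/
theorem result
    (p : ℕ) [Fact p.Prime] (R : Type u) [CommRing R] (u : R) (hu : u * ((p - 1 : ℕ) : R) = 1)
    (χ : (ZMod p)ˣ →* Rˣ) (hχ : ∀ m : (ZMod p)ˣ, m ≠ 1 → IsUnit ((χ m : R) - 1)) :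
    CompleteOrthogonalIdempotents (fun i : Fin (p - 1) =>
      u • ∑ m : (ZMod p)ˣ, ((χ m⁻¹ : Rˣ) : R) ^ (i : ℕ) • MonoidAlgebra.of R (ZMod p)ˣ m) := by
  classical
  have hp := (Fact.out : p.Prime)
  set n := p - 1 with hn
  have hcard : Fintype.card (ZMod p)ˣ = n := ZMod.card_units p
  have hn0 : 0 < n := by have := hp.two_le; omega
  have hpow : ∀ m : (ZMod p)ˣ, ((χ m : Rˣ) : R) ^ n = 1 := fun m => by
    rw [← Units.val_pow_eq_pow_val, ← map_pow, ← hcard, pow_card_eq_one, map_one, Units.val_one]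
  have hinv : ∀ m : (ZMod p)ˣ, ((χ m⁻¹ : Rˣ) : R) * (χ m : Rˣ) = 1 := fun m => by
    rw [← Units.val_mul, ← map_mul, inv_mul_cancel, map_one, Units.val_one]
  have hsum0 : ∀ m : (ZMod p)ˣ, m ≠ 1 → ∑ i : Fin n, ((χ m : Rˣ) : R) ^ (i : ℕ) = 0 := by
    intro m hm
    rw [Fin.sum_univ_eq_sum_range (fun i => ((χ m : Rˣ) : R) ^ i)]
    refine (hχ m hm).mul_left_eq_zero.mp ?_
    rw [geom_sum_mul, hpow, sub_self]
  have hchar : ∀ d, 0 < d → d < n → ∑ m : (ZMod p)ˣ, ((χ m : Rˣ) : R) ^ d = 0 := by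
    intro d hd hdn
    obtain ⟨g, hg⟩ := IsCyclic.exists_generator (α := (ZMod p)ˣ)
    have hord : orderOf g = n := by rw [orderOf_eq_card_of_forall_mem_zpowers hg, Nat.card_eq_fintype_card, hcard]
    have hgd : g ^ d ≠ 1 := fun h => by
      have := orderOf_dvd_of_pow_eq_one h
      rw [hord] at this
      exact absurd (Nat.le_of_dvd hd this) (by omega)
    set S := ∑ m : (ZMod p)ˣ, ((χ m : Rˣ) : R) ^ d
    have hS : ((χ (g ^ d) : Rˣ) : R) * S = S := by
      rw [Finset.mul_sum]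
      refine Fintype.sum_equiv (Equiv.mulLeft g) _ _ fun m => ?_
      rw [Equiv.coe_mulLeft, map_mul, Units.val_mul, mul_pow, map_pow, Units.val_pow_eq_pow_val]
    refine (hχ _ hgd).mul_right_eq_zero.mp ?_
    rw [sub_mul, one_mul, hS, sub_self]
  have hχinv : ∀ (m : (ZMod p)ˣ) i, i ≤ n → ((χ m⁻¹ : Rˣ) : R) ^ i = ((χ m : Rˣ) : R) ^ (n - i) := by
    intro m i hi
    calc ((χ m⁻¹ : Rˣ) : R) ^ i = ((χ m⁻¹ : Rˣ) : R) ^ i * ((χ m : Rˣ) : R) ^ n := by rw [hpow, mul_one]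
      _ = ((χ m⁻¹ : Rˣ) : R) ^ i * (((χ m : Rˣ) : R) ^ i * ((χ m : Rˣ) : R) ^ (n - i)) := by
        rw [← pow_add, Nat.add_sub_cancel' hi]
      _ = _ := by rw [← mul_assoc, ← mul_pow, hinv, one_pow, one_mul]
  refine ⟨⟨fun i => ?_, fun i j hij => ?_⟩, ?_⟩
  case refine_3 =>
    show ∑ i : Fin n, u • ∑ m : (ZMod p)ˣ, ((χ m⁻¹ : Rˣ) : R) ^ (i : ℕ) • MonoidAlgebra.of R (ZMod p)ˣ m = 1
    rw [← Finset.smul_sum, Finset.sum_comm]
    simp_rw [← Finset.sum_smul]
    rw [Finset.sum_eq_single 1]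
    · rw [inv_one, map_one]
      simp only [Units.val_one, one_pow, Finset.sum_const, Finset.card_univ, Fintype.card_fin,
        nsmul_eq_mul, mul_one]
      rw [smul_smul, hu, one_smul, map_one]
    · intro m _ hm
      rw [hsum0 _ (inv_ne_one.mpr hm), zero_smul]
    · simp
  all_goals
    have hmul : ∀ (i j : Fin n),
        (u • ∑ m : (ZMod p)ˣ, ((χ m⁻¹ : Rˣ) : R) ^ (i : ℕ) • MonoidAlgebra.of R (ZMod p)ˣ m) *
          (u • ∑ m : (ZMod p)ˣ, ((χ m⁻¹ : Rˣ) : R) ^ (j : ℕ) • MonoidAlgebra.of R (ZMod p)ˣ m) =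
        (u * u) • ∑ k : (ZMod p)ˣ, ((∑ m : (ZMod p)ˣ, ((χ m⁻¹ : Rˣ) : R) ^ (i : ℕ) *
          ((χ m : Rˣ) : R) ^ (j : ℕ)) * ((χ k⁻¹ : Rˣ) : R) ^ (j : ℕ)) • MonoidAlgebra.of R (ZMod p)ˣ k := by
      intro i j
      rw [smul_mul_smul_comm, Finset.sum_mul_sum]
      congr 1
      simp_rw [Finset.sum_mul, Finset.sum_smul]
      rw [Finset.sum_comm (s := Finset.univ) (t := Finset.univ) (f := fun k m =>
        (((χ m⁻¹ : Rˣ) : R) ^ (i : ℕ) * ((χ m : Rˣ) : R) ^ (j : ℕ) * ((χ k⁻¹ : Rˣ) : R) ^ (j : ℕ)) •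
          MonoidAlgebra.of R (ZMod p)ˣ k)]
      refine Finset.sum_congr rfl fun m _ => ?_
      refine Fintype.sum_equiv (Equiv.mulLeft m) _ _ fun l => ?_
      rw [Equiv.coe_mulLeft, smul_mul_smul_comm, ← map_mul]
      congr 1
      rw [mul_inv, map_mul, Units.val_mul, mul_pow, mul_assoc, ← mul_assoc _ _ (((χ l⁻¹ : Rˣ) : R) ^ _),
        ← mul_pow, mul_comm ((χ m : Rˣ) : R), hinv, one_pow, one_mul]
  · show _ * _ = _
    rw [hmul]
    have : ∑ m : (ZMod p)ˣ, ((χ m⁻¹ : Rˣ) : R) ^ (i : ℕ) * ((χ m : Rˣ) : R) ^ (i : ℕ) = (n : R) := by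
      simp_rw [← mul_pow, hinv, one_pow]
      rw [Finset.sum_const, Finset.card_univ, hcard, nsmul_eq_mul, mul_one]
    simp_rw [this, mul_smul, ← Finset.smul_sum]
    rw [smul_comm u (n : R), smul_smul (n : R), mul_comm (n : R), hu, one_smul]
  · show _ * _ = 0
    rw [hmul]
    have : ∑ m : (ZMod p)ˣ, ((χ m⁻¹ : Rˣ) : R) ^ (i : ℕ) * ((χ m : Rˣ) : R) ^ (j : ℕ) = 0 := by
      have hi := i.2
      have hj := j.2
      rcases lt_or_gt_of_ne (fun h => hij (Fin.ext h) : (i : ℕ) ≠ j) with h | h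
      · rw [← hchar ((j : ℕ) - i) (by omega) (by omega)]
        refine Finset.sum_congr rfl fun m _ => ?_
        rw [show (j : ℕ) = i + (j - i) by omega, pow_add, ← mul_assoc, ← mul_pow, hinv, one_pow, one_mul]
        congr 1; omega
      · rw [← hchar (n - i + j) (by omega) (by omega)]
        refine Finset.sum_congr rfl fun m _ => ?_
        rw [hχinv m i hi.le, pow_add]
    simp only [this, zero_mul, zero_smul, Finset.sum_const_zero, smul_zero]

end Groth.Agent.S18467
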