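import Groth.Statements.S18470


set_option autoImplicit false
universe u v
open OortTate

namespace Groth.Agent.S18470

/-- Let R be a commutative ring and A a commutative Hopf algebra over R which is finitely generated and
projective as an R-module (a finite locally free group scheme G = Spec A, not assumed commutative),
and let A^D = Hom_R(A, R) be the dual algebra with its Hopf structure (the Cartier dual when A is
cocommutative), whose counit is evaluation at 1. Then restriction of linear forms to the
augmentation ideal I = ker ε_A of A is a bijection from the augmentation ideal of A^D onto the dual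
module Hom_R(I, R): the dual of the augmentation ideal of G is the augmentation ideal of the dual.
The published statement is for a group scheme of order p over a Λ_p-algebra; the argument uses only
the splitting A = R·1 ⊕ ker ε. -/
theorem result
    (R : Type u) [CommRing R] (A : Type v) [CommRing A] [HopfAlgebra R A]
    [Module.Finite R A] [Module.Projective R A] :
    Function.Bijective (fun f : LinearMap.ker (Bialgebra.counitAlgHom R (CartDual.D R A)).toLinearMap =>
      ((CartDual.toDual R A) (f : CartDual.D R A)).comp
        (LinearMap.ker (Bialgebra.counitAlgHom R A).toLinearMap).subtype) := by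
  refine ⟨fun f g hfg => ?_, fun φ => ?_⟩
  · refine Subtype.ext (WithConv.ext (LinearMap.ext fun a => ?_))
    have hf : (f : CartDual.D R A).ofConv 1 = 0 := f.2
    have hg : (g : CartDual.D R A).ofConv 1 = 0 := g.2
    have hm : a - algebraMap R A (Coalgebra.counit a) ∈
        LinearMap.ker (Bialgebra.counitAlgHom R A).toLinearMap := by simp
    have h : (f : CartDual.D R A).ofConv (a - algebraMap R A (Coalgebra.counit a)) =
        (g : CartDual.D R A).ofConv (a - algebraMap R A (Coalgebra.counit a)) :=
      LinearMap.congr_fun hfg ⟨_, hm⟩
    simpa [Algebra.algebraMap_eq_smul_one, hf, hg] using h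
  · let π : A →ₗ[R] A := LinearMap.id - Algebra.linearMap R A ∘ₗ Coalgebra.counit
    have hπ : ∀ a, π a ∈ LinearMap.ker (Bialgebra.counitAlgHom R A).toLinearMap := fun a => by simp [π]
    refine ⟨⟨WithConv.toConv (φ ∘ₗ π.codRestrict _ hπ), ?_⟩, LinearMap.ext fun a => congrArg φ (Subtype.ext ?_)⟩
    · show φ (π.codRestrict _ hπ 1) = 0
      exact (congrArg φ (Subtype.ext (by show π 1 = 0; simp [π]))).trans (map_zero φ)
    · show π (a : A) = a
      have h : Coalgebra.counit (R := R) (a : A) = 0 := a.2
      simp [π, h]

end Groth.Agent.S18470
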