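import Groth.Statements.S18475
import Groth.Agent.OortTate.Classify

set_option autoImplicit false
universe u
open OortTate

namespace Groth.Agent.S18475

/-- Let p be a prime, R a commutative ring containing u with u(p − 1) = 1, and χ a homomorphism from the
units of ℤ/p to the units of R such that χ(m) − 1 is a unit for every m ≠ 1 (the situation of an
algebra over the subring Λ_p of the p-adic integers generated by the Teichmüller values and 1/(p(p −
1)), with χ the Teichmüller character, which is the published setting); assume moreover χ(m) ≡ m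
modulo pR for every m. Let A and A' be commutative and cocommutative Hopf algebras over R, finitely
generated and projective as R-modules of rank p at every prime (group schemes G, G' of order p over
Spec R), with dual Hopf algebras A^D = Hom_R(A, R) and A'^D (the Cartier duals; for a unit m of ℤ/p
the power map [m] acts on all four algebras). Suppose the χ-eigenspaces of the augmentation ideals
are free of rank one with chosen generators: I_1(A) = R·x and I_1(A^D) = R·ξ with ξ(x) = 1, and
similarly I_1(A') = R·x', I_1(A'^D) = R·ξ' with ξ'(x') = 1 (this is the case of a local base R);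
write x^p = α x, ξ^p = β ξ, x'^p = α' x', ξ'^p = β' ξ' with α, β, α', β' ∈ R. If there is a unit v
of R with α' = v^{p−1} α and β' = v^{−(p−1)} β, then A and A' are isomorphic as bialgebras over R,
i.e. G ≅ G'. (This is the injectivity of the classification map G ↦ (I_1, a, b) in the case where
the invertible module I_1 is free, the case the copy spells out; the general statement compares
triples consisting of an invertible module with two maps.) The published argument obtains
commutativity and p-torsion of G over a locally Noetherian base; this row allows any commutative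
ring R, over which both still hold. -/
theorem result
    (p : ℕ) [Fact p.Prime] (R : Type u) [CommRing R] (u : R) (hu : u * ((p - 1 : ℕ) : R) = 1)
    (χ : (ZMod p)ˣ →* Rˣ) (hχ : ∀ m : (ZMod p)ˣ, m ≠ 1 → IsUnit ((χ m : R) - 1))
    (hχp : ∀ m : (ZMod p)ˣ, ((χ m : Rˣ) : R) - (((m : ZMod p).val : ℕ) : R) ∈ Ideal.span ({(p : R)} : Set R))
    (A : Type u) [CommRing A] [HopfAlgebra R A] [Coalgebra.IsCocomm R A] [Module.Finite R A]
    [Module.Projective R A] (hrk : ∀ q : PrimeSpectrum R, Module.rankAtStalk A q = p)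
    (A' : Type u) [CommRing A'] [HopfAlgebra R A'] [Coalgebra.IsCocomm R A'] [Module.Finite R A']
    [Module.Projective R A'] (hrk' : ∀ q : PrimeSpectrum R, Module.rankAtStalk A' q = p)
    (x : A) (hx : Submodule.span R {x} = OortTate.eigenAug R A p χ 1)
    (ξ : CartDual.D R A) (hξ : Submodule.span R {ξ} = OortTate.eigenAug R (CartDual.D R A) p χ 1)
    (hxξ : CartDual.toDual R A ξ x = 1)
    (x' : A') (hx' : Submodule.span R {x'} = OortTate.eigenAug R A' p χ 1)
    (ξ' : CartDual.D R A') (hξ' : Submodule.span R {ξ'} = OortTate.eigenAug R (CartDual.D R A') p χ 1)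
    (hxξ' : CartDual.toDual R A' ξ' x' = 1)
    (α β α' β' : R) (hα : x ^ p = α • x) (hβ : ξ ^ p = β • ξ) (hα' : x' ^ p = α' • x')
    (hβ' : ξ' ^ p = β' • ξ')
    (v : Rˣ) (hαv : α' = ((v ^ (p - 1) : Rˣ) : R) * α) (hβv : β' = ((v⁻¹ ^ (p - 1) : Rˣ) : R) * β) :
    Nonempty (A ≃ₐc[R] A') := by
  have hxm : x ∈ OortTate.eigenAug R A p χ 1 := hx ▸ Submodule.mem_span_singleton_self x
  have hxm' : x' ∈ OortTate.eigenAug R A' p χ 1 := hx' ▸ Submodule.mem_span_singleton_self x'
  have hev : ∀ a ∈ OortTate.eigenAug R A p χ 1, a = CartDual.toDual R A ξ a • x := by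
    intro a ha
    rw [← hx] at ha
    obtain ⟨r, rfl⟩ := Submodule.mem_span_singleton.mp ha
    rw [map_smul, hxξ, smul_eq_mul, mul_one]
  have hev' : ∀ a ∈ OortTate.eigenAug R A' p χ 1, a = CartDual.toDual R A' ξ' a • x' := by
    intro a ha
    rw [← hx'] at ha
    obtain ⟨r, rfl⟩ := Submodule.mem_span_singleton.mp ha
    rw [map_smul, hxξ', smul_eq_mul, mul_one]
  have hvw : ((v : Rˣ) : R) * ((v⁻¹ : Rˣ) : R) = 1 := v.mul_inv
  have hv1 : ((v⁻¹ : Rˣ) : R) * ((v : Rˣ) : R) = 1 := v.inv_mul
  let θ : OortTate.eigenAug R A p χ 1 ≃ₗ[R] OortTate.eigenAug R A' p χ 1 :=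
    { toFun := fun a => ⟨(CartDual.toDual R A ξ (a : A) * ((v⁻¹ : Rˣ) : R)) • x', Submodule.smul_mem _ _ hxm'⟩
      map_add' := fun a b => Subtype.ext (by simp [add_mul, add_smul])
      map_smul' := fun r a => Subtype.ext (by simp [smul_smul, mul_assoc])
      invFun := fun a => ⟨(CartDual.toDual R A' ξ' (a : A') * ((v : Rˣ) : R)) • x, Submodule.smul_mem _ _ hxm⟩
      left_inv := fun a => Subtype.ext (by
        show (CartDual.toDual R A' ξ' ((CartDual.toDual R A ξ (a : A) * ((v⁻¹ : Rˣ) : R)) • x') * _) • x = a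
        rw [map_smul, hxξ', smul_eq_mul, mul_one, mul_assoc, hv1, mul_one, ← hev _ a.2])
      right_inv := fun a => Subtype.ext (by
        show (CartDual.toDual R A ξ ((CartDual.toDual R A' ξ' (a : A') * ((v : Rˣ) : R)) • x) * _) • x' = a
        rw [map_smul, hxξ, smul_eq_mul, mul_one, mul_assoc, hvw, mul_one, ← hev' _ a.2]) }
  have hp1 : p - 1 + 1 = p := Nat.sub_add_cancel (Fact.out : p.Prime).one_le
  have hpow : ∀ c : R, c ^ p = c ^ (p - 1) * c := fun c => by rw [← pow_succ, hp1]
  refine Groth.Agent.OortTate.classify ⟨hu, hχ⟩ hχp hrk hrk' θ ?_ ?_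
  · intro f g hg
    show (CartDual.toDual R A ξ (g : A) * ((v⁻¹ : Rˣ) : R)) • x' =
      ∏ i, (CartDual.toDual R A ξ (f i : A) * ((v⁻¹ : Rˣ) : R)) • x'
    rw [Finset.prod_smul, Finset.prod_const, Finset.card_univ, Fintype.card_fin, hα', smul_smul]
    congr 1
    rw [hg, Finset.prod_congr rfl (fun i (_ : i ∈ Finset.univ) => hev _ (f i).2), Finset.prod_smul,
      Finset.prod_const, Finset.card_univ, Fintype.card_fin, hα, smul_smul, map_smul, hxξ,
      Finset.prod_mul_distrib, Finset.prod_const, Finset.card_univ, Fintype.card_fin, hpow, hαv,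
      Units.val_pow_eq_pow_val, smul_eq_mul, mul_one]
    calc (∏ i, CartDual.toDual R A ξ (f i : A)) * α * ((v⁻¹ : Rˣ) : R)
        = (∏ i, CartDual.toDual R A ξ (f i : A)) * α * ((v⁻¹ : Rˣ) : R) *
            (((v⁻¹ : Rˣ) : R) * ((v : Rˣ) : R)) ^ (p - 1) := by rw [hv1, one_pow, mul_one]
      _ = _ := by rw [mul_pow]; ring
  · intro φ φ' ψ ψ' hagree hψ hψ' y
    have hl : ∀ g ∈ OortTate.eigenAug R (CartDual.D R A) p χ 1, g = CartDual.toDual R A g x • ξ := by
      intro g hg
      rw [← hξ] at hg
      obtain ⟨r, rfl⟩ := Submodule.mem_span_singleton.mp hg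
      rw [map_smul, LinearMap.smul_apply, hxξ, smul_eq_mul, mul_one]
    have hl' : ∀ g ∈ OortTate.eigenAug R (CartDual.D R A') p χ 1, g = CartDual.toDual R A' g x' • ξ' := by
      intro g hg
      rw [← hξ'] at hg
      obtain ⟨r, rfl⟩ := Submodule.mem_span_singleton.mp hg
      rw [map_smul, LinearMap.smul_apply, hxξ', smul_eq_mul, mul_one]
    have hk : ∀ i, CartDual.toDual R A (φ i : CartDual.D R A) x =
        ((v⁻¹ : Rˣ) : R) * CartDual.toDual R A' (φ' i : CartDual.D R A') x' := fun i => by
      have h := hagree i ⟨x, hxm⟩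
      change _ = CartDual.toDual R A' (φ' i : CartDual.D R A') ((CartDual.toDual R A ξ x * _) • x') at h
      rw [hxξ, one_mul, map_smul, smul_eq_mul] at h
      exact h
    show CartDual.toDual R A (ψ : CartDual.D R A) (y : A) = CartDual.toDual R A' (ψ' : CartDual.D R A')
      ((CartDual.toDual R A ξ (y : A) * ((v⁻¹ : Rˣ) : R)) • x')
    rw [hψ, hψ', Finset.prod_congr rfl (fun i (_ : i ∈ Finset.univ) => hl _ (φ i).2),
      Finset.prod_congr rfl (fun i (_ : i ∈ Finset.univ) => hl' _ (φ' i).2),
      Finset.prod_smul, Finset.prod_smul, Finset.prod_const, Finset.prod_const, Finset.card_univ,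
      Fintype.card_fin, hβ, hβ', smul_smul, smul_smul, map_smul, map_smul, map_smul,
      LinearMap.smul_apply, LinearMap.smul_apply, hxξ', hβv, Units.val_pow_eq_pow_val,
      Finset.prod_congr rfl (fun i (_ : i ∈ Finset.univ) => hk i), Finset.prod_mul_distrib,
      Finset.prod_const, Finset.card_univ, Fintype.card_fin, hpow]
    simp only [smul_eq_mul]
    ring

end Groth.Agent.S18475
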