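import Groth.Statements.S18479
import Mathlib

set_option autoImplicit false
universe u v
open scoped TensorProduct
open OortTate

namespace Groth.Agent.S18479

open scoped TensorProduct

/-- Let R be a commutative ring and A a commutative Hopf algebra over R whose augmentation ideal ker ε
is a free R-module of rank one with generator x (this is the situation of a group scheme of order 2
over a local ring: A free of rank 2, so ker ε is free of rank 1). Then there are a, b ∈ R with x² =
a·x, Δ(x) = x ⊗ 1 + 1 ⊗ x + b·(x ⊗ x), and ab = −2; thus A is the Hopf algebra R[T]/(T² − aT) with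
comultiplication T ↦ T ⊗ 1 + 1 ⊗ T + b T ⊗ T. (The copy works over a Noetherian local ring to get
freeness; the computation uses only that ker ε is free on x.) -/
theorem result
    (R : Type u) [CommRing R] (A : Type v) [CommRing A] [HopfAlgebra R A]
    (x : A) (hx : Bialgebra.counitAlgHom R A x = 0)
    (hgen : ∀ f : A, Bialgebra.counitAlgHom R A f = 0 → ∃ r : R, f = r • x)
    (hfree : ∀ r : R, r • x = 0 → r = 0) :
    ∃ a b : R, x * x = a • x ∧
      Bialgebra.comulAlgHom R A x = x ⊗ₜ[R] 1 + 1 ⊗ₜ[R] x + b • (x ⊗ₜ[R] x) ∧ a * b = -2 := by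
  classical
  let ε := Bialgebra.counitAlgHom R A
  obtain ⟨a, ha⟩ := hgen (x * x) (by rw [map_mul, hx, mul_zero])
  have hdec : ∀ y : A, ∃! r : R, y = ε y • (1 : A) + r • x := by
    intro y
    obtain ⟨r, hr⟩ := hgen (y - ε y • 1) (by rw [map_sub, map_smul, map_one]; simp [ε])
    refine ⟨r, by show y = _; rw [← hr]; abel, fun r' hr' => ?_⟩
    have h0 : (r' - r) • x = 0 := by
      rw [sub_smul, ← hr, sub_eq_zero]
      exact eq_sub_of_add_eq' hr'.symm
    exact sub_eq_zero.mp (hfree _ h0)
  choose φ hφ hφu using hdec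
  let φl : A →ₗ[R] R :=
    { toFun := φ
      map_add' := fun u v => (hφu _ _ (by
        beta_reduce
        rw [map_add, add_smul, add_smul]
        conv_lhs => rw [hφ u, hφ v]
        abel)).symm
      map_smul' := fun c u => (hφu _ _ (by
        beta_reduce
        rw [map_smul, RingHom.id_apply, smul_eq_mul, smul_eq_mul, mul_smul, mul_smul, ← smul_add]
        conv_lhs => rw [hφ u])).symm }
  have hφx : φl x = 1 := (hφu x 1 (by simp [ε, hx])).symm
  have hφ1 : φl 1 = 0 := (hφu 1 0 (by simp [ε])).symm
  let εl : A →ₗ[R] R := ε.toLinearMap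
  have hεl : ∀ y, εl y = ε y := fun _ => rfl
  let pair : (A →ₗ[R] R) → (A →ₗ[R] R) → A ⊗[R] A →ₗ[R] R := fun f g =>
    (TensorProduct.lid R R).toLinearMap ∘ₗ TensorProduct.map f g
  have hexp : ∀ t : A ⊗[R] A, t = pair εl εl t • ((1 : A) ⊗ₜ[R] (1 : A)) + pair φl εl t • (x ⊗ₜ[R] 1) +
      pair εl φl t • ((1 : A) ⊗ₜ[R] x) + pair φl φl t • (x ⊗ₜ[R] x) := by
    intro t
    induction t using TensorProduct.induction_on with
    | zero => simp
    | tmul u v =>
      conv_lhs => rw [hφ u, hφ v]
      simp [pair, TensorProduct.add_tmul, TensorProduct.tmul_add, TensorProduct.smul_tmul',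
        TensorProduct.tmul_smul, smul_smul, φl, εl, ε]
      simp only [mul_comm (φ v), mul_comm (Coalgebra.counit (R := R) v)]
      abel
    | add u v hu hv =>
      simp only [map_add, add_smul]
      conv_lhs => rw [hu, hv]
      abel
  set b := pair φl φl (Bialgebra.comulAlgHom R A x) with hb
  have hleft : ∀ f : A →ₗ[R] R, pair εl f (Bialgebra.comulAlgHom R A x) = f x := by
    intro f
    have h : ∀ t : A ⊗[R] A, pair εl f t =
        f (TensorProduct.lid R A ((Coalgebra.counit (R := R) (A := A)).rTensor A t)) := by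
      intro t
      induction t using TensorProduct.induction_on with
      | zero => simp
      | tmul u v => simp [pair, εl, ε]
      | add u v hu hv => simp [hu, hv]
    rw [h, Bialgebra.comulAlgHom_apply, Coalgebra.rTensor_counit_comul]
    simp
  have hright : ∀ f : A →ₗ[R] R, pair f εl (Bialgebra.comulAlgHom R A x) = f x := by
    intro f
    have h : ∀ t : A ⊗[R] A, pair f εl t =
        f (TensorProduct.rid R A ((Coalgebra.counit (R := R) (A := A)).lTensor A t)) := by
      intro t
      induction t using TensorProduct.induction_on with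
      | zero => simp
      | tmul u v => simp [pair, εl, ε, mul_comm]
      | add u v hu hv => simp [hu, hv]
    rw [h, Bialgebra.comulAlgHom_apply, Coalgebra.lTensor_counit_comul]
    simp
  have hΔ : Bialgebra.comulAlgHom R A x = x ⊗ₜ[R] 1 + 1 ⊗ₜ[R] x + b • (x ⊗ₜ[R] x) := by
    conv_lhs => rw [hexp (Bialgebra.comulAlgHom R A x)]
    rw [hleft, hleft, hright, hφx, hεl, show ε x = 0 from hx, ← hb]
    simp
  refine ⟨a, b, ha, hΔ, ?_⟩
  -- the comultiplication is multiplicative
  have hpair : ∀ c : R, c • (x ⊗ₜ[R] x) = 0 → c = 0 := fun c hc => by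
    have := congrArg (pair φl φl) hc
    simpa [pair, hφx] using this
  have h2 : (2 + 3 * (a * b) + (a * b) * (a * b)) • (x ⊗ₜ[R] x) = 0 := by
    have h := map_mul (Bialgebra.comulAlgHom R A) x x
    rw [ha, map_smul, hΔ] at h
    simp only [add_mul, mul_add, smul_mul_assoc, mul_smul_comm, Algebra.TensorProduct.tmul_mul_tmul,
      mul_one, one_mul, ha, ← TensorProduct.smul_tmul', TensorProduct.tmul_smul, smul_smul, smul_add] at h
    linear_combination (norm := module) -h
  have h3 : (2 : R) + 3 * (a * b) + (a * b) * (a * b) = 0 := hpair _ h2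
  obtain ⟨r, hr⟩ := hgen (HopfAlgebra.antipode R x) (by
    show Coalgebra.counit (R := R) (HopfAlgebra.antipode R x) = 0
    rw [HopfAlgebra.counit_antipode]
    exact hx)
  have h4 : (r + 1 + r * b * a) • x = 0 := by
    have h := HopfAlgebra.mul_antipode_rTensor_comul_apply (R := R) x
    rw [show Coalgebra.comul (R := R) x = _ from hΔ, show Coalgebra.counit (R := R) x = 0 from hx,
      map_zero] at h
    simp [hr, ha, HopfAlgebra.antipode_one, smul_smul] at h
    linear_combination (norm := module) h
  have h5 : r + 1 + r * b * a = 0 := hfree _ h4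
  linear_combination (-r) * h3 + (a * b + 2) * h5

end Groth.Agent.S18479
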