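import Mathlib
import Groth.Statements.S18480


set_option autoImplicit false
universe u v
open scoped TensorProduct
open OortTate

namespace Groth.Agent.S18480

open scoped TensorProduct in
theorem exists_coord {R A : Type*} [CommRing R] [CommRing A] [HopfAlgebra R A]
    (x : A) (hx : Bialgebra.counitAlgHom R A x = 0)
    (hgen : ∀ f : A, Bialgebra.counitAlgHom R A f = 0 → ∃ r : R, f = r • x)
    (hfree : ∀ r : R, r • x = 0 → r = 0) :
    ∃ e : (R × R) ≃ₗ[R] A, ∀ p : R × R, e p = algebraMap R A p.1 + p.2 • x := by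
  refine ⟨LinearEquiv.ofBijective (LinearMap.coprod (Algebra.linearMap R A)
    (LinearMap.toSpanSingleton R A x)) ⟨?_, ?_⟩, fun p => rfl⟩
  · rw [← LinearMap.ker_eq_bot, LinearMap.ker_eq_bot']
    rintro ⟨c, r⟩ h
    simp only [LinearMap.coprod_apply, Algebra.linearMap_apply, LinearMap.toSpanSingleton_apply] at h
    have hc : c = 0 := by
      have := congrArg (Bialgebra.counitAlgHom R A) h
      rw [map_add, AlgHom.commutes, map_smul, hx, smul_zero, add_zero, map_zero] at this
      simpa using this
    subst hc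
    rw [map_zero, zero_add] at h
    rw [hfree r h]
    rfl
  · intro f
    obtain ⟨r, hr⟩ := hgen (f - algebraMap R A (Bialgebra.counitAlgHom R A f))
      (by rw [map_sub, AlgHom.commutes]; simp)
    exact ⟨(Bialgebra.counitAlgHom R A f, r), by
      simp only [LinearMap.coprod_apply, Algebra.linearMap_apply, LinearMap.toSpanSingleton_apply,
        ← hr, add_sub_cancel]⟩

/-- Let R be a commutative ring and let A and A' be commutative Hopf algebras over R whose augmentation
ideals are free of rank one with generators x and x', with constants a, b and a', b' ∈ R such that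
x² = a x, Δ(x) = x ⊗ 1 + 1 ⊗ x + b x ⊗ x and x'² = a' x', Δ(x') = x' ⊗ 1 + 1 ⊗ x' + b' x' ⊗ x' (the
group schemes of order two G_{a,b} and G_{a',b'}). Then A and A' are isomorphic as bialgebras over R
(G_{a,b} ≅ G_{a',b'} as group schemes) if and only if there is a unit s of R with a = a'·s and b' =
b·s. -/
theorem result
    (R : Type u) [CommRing R] (A : Type v) [CommRing A] [HopfAlgebra R A]
    (x : A) (hx : Bialgebra.counitAlgHom R A x = 0)
    (hgen : ∀ f : A, Bialgebra.counitAlgHom R A f = 0 → ∃ r : R, f = r • x)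
    (hfree : ∀ r : R, r • x = 0 → r = 0)
    (a b : R) (hxa : x * x = a • x)
    (hxb : Bialgebra.comulAlgHom R A x = x ⊗ₜ[R] 1 + 1 ⊗ₜ[R] x + b • (x ⊗ₜ[R] x))
    (A' : Type v) [CommRing A'] [HopfAlgebra R A']
    (x' : A') (hx' : Bialgebra.counitAlgHom R A' x' = 0)
    (hgen' : ∀ f : A', Bialgebra.counitAlgHom R A' f = 0 → ∃ r : R, f = r • x')
    (hfree' : ∀ r : R, r • x' = 0 → r = 0)
    (a' b' : R) (hxa' : x' * x' = a' • x')
    (hxb' : Bialgebra.comulAlgHom R A' x' = x' ⊗ₜ[R] 1 + 1 ⊗ₜ[R] x' + b' • (x' ⊗ₜ[R] x')) :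
    Nonempty (A ≃ₐc[R] A') ↔ ∃ s : Rˣ, a = a' * (s : R) ∧ b' = b * (s : R) := by
  obtain ⟨e, he⟩ := exists_coord x hx hgen hfree
  obtain ⟨e', he'⟩ := exists_coord x' hx' hgen' hfree'
  let co : A' →ₗ[R] R := LinearMap.snd R R R ∘ₗ e'.symm.toLinearMap
  have hco : co x' = 1 := by
    show (e'.symm x').2 = 1
    rw [show x' = e' (0, 1) by rw [he']; simp, LinearEquiv.symm_apply_apply]
  have hco1 : co 1 = 0 := by
    show (e'.symm 1).2 = 0
    rw [show (1 : A') = e' (1, 0) by rw [he']; simp, LinearEquiv.symm_apply_apply]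
  constructor
  · rintro ⟨φ⟩
    have h0 : ∀ z : A, Bialgebra.counitAlgHom R A' (φ z) = Bialgebra.counitAlgHom R A z := fun z => by
      simp only [Bialgebra.counitAlgHom_apply]
      exact CoalgHomClass.counit_comp_apply φ z
    obtain ⟨s, hs⟩ := hgen' (φ x) (by rw [h0, hx])
    obtain ⟨t, ht⟩ := hgen (φ.symm x') (by
      rw [← h0, BialgEquiv.apply_symm_apply, hx'])
    have hst : t * s = 1 := by
      have h1 : φ (φ.symm x') = (t * s) • x' := by rw [ht, map_smul, hs, smul_smul]
      rw [BialgEquiv.apply_symm_apply] at h1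
      have := congrArg co h1
      rw [map_smul, hco, smul_eq_mul, mul_one] at this
      exact this.symm
    refine ⟨Units.mkOfMulEqOne s t (by rw [mul_comm]; exact hst), ?_, ?_⟩
    · show a = a' * s
      have h1 : φ (x * x) = φ x * φ x := map_mul φ x x
      rw [hxa, map_smul, hs, smul_mul_smul_comm, hxa', smul_smul, smul_smul] at h1
      have := congrArg co h1
      rw [map_smul, map_smul, hco, smul_eq_mul, smul_eq_mul, mul_one, mul_one] at this
      calc a = a * (s * t) := by rw [mul_comm s t, hst, mul_one]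
        _ = (a * s) * t := by ring
        _ = (s * s * a') * t := by rw [this]
        _ = a' * s := by linear_combination (a' * s) * hst
    · show b' = b * s
      have h1 := CoalgHomClass.map_comp_comul_apply φ x
      simp only [← Bialgebra.comulAlgHom_apply] at h1
      rw [hs, map_smul, hxb', hxb] at h1
      have h2 := congrArg (TensorProduct.lift ((LinearMap.mul R R).compl₁₂ co co)) h1
      simp [hs, TensorProduct.smul_tmul', hco, hco1] at h2
      calc b' = (t * s) * b' := by rw [hst, one_mul]
        _ = t * (s * b') := by ring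
        _ = t * (b * (s * s)) := by rw [← h2]; ring
        _ = b * s := by linear_combination (b * s) * hst
  · rintro ⟨s, hsa, hsb⟩
    let L : A ≃ₗ[R] A' := e.symm.trans (((LinearEquiv.refl R R).prodCongr
      (LinearEquiv.smulOfUnit s)).trans e')
    have hL : ∀ c r : R, L (algebraMap R A c + r • x) = algebraMap R A' c + ((s : R) * r) • x' := by
      intro c r
      show e' (((LinearEquiv.refl R R).prodCongr (LinearEquiv.smulOfUnit s)) (e.symm _)) = _
      rw [← he (c, r), LinearEquiv.symm_apply_apply, he']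
      rfl
    have hone : L 1 = 1 := by simpa using hL 1 0
    have hLx : L x = (s : R) • x' := by simpa using hL 0 1
    have hmul : ∀ f g : A, L (f * g) = L f * L g := by
      intro f g
      obtain ⟨⟨c, r⟩, rfl⟩ := e.surjective f
      obtain ⟨⟨c₂, r₂⟩, rfl⟩ := e.surjective g
      rw [he, he]
      dsimp only
      have h1 : (algebraMap R A c + r • x) * (algebraMap R A c₂ + r₂ • x) =
          algebraMap R A (c * c₂) + (c * r₂ + r * c₂ + r * r₂ * a) • x := by
        simp only [Algebra.smul_def, map_add, map_mul] at hxa ⊢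
        linear_combination (algebraMap R A r * algebraMap R A r₂) * hxa
      rw [h1, hL, hL, hL]
      simp only [Algebra.smul_def, map_add, map_mul, hsa] at hxa' ⊢
      linear_combination -(algebraMap R A' s * algebraMap R A' r * (algebraMap R A' s * algebraMap R A' r₂)) * hxa'
    let E : A ≃ₐ[R] A' := AlgEquiv.ofLinearEquiv L hone hmul
    have hEx : E x = (s : R) • x' := hLx
    have hext : ∀ {P : Type v} [CommRing P] [Algebra R P] (f g : A →ₐ[R] P), f x = g x → f = g := by
      intro P _ _ f g h
      ext z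
      obtain ⟨⟨c, r⟩, rfl⟩ := e.surjective z
      rw [he, map_add, map_add, AlgHom.commutes, AlgHom.commutes, map_smul, map_smul, h]
    have hc : (Bialgebra.counitAlgHom R A').comp (E : A →ₐ[R] A') = Bialgebra.counitAlgHom R A := by
      ext z
      obtain ⟨⟨c, r⟩, rfl⟩ := e.surjective z
      rw [he, map_add, map_add, AlgHom.commutes, AlgHom.commutes, map_smul, map_smul, AlgHom.comp_apply,
        AlgEquiv.coe_algHom, hEx, map_smul, hx', hx, smul_zero]
    refine ⟨BialgEquiv.ofAlgEquiv E hc (hext _ _ ?_)⟩
    rw [AlgHom.comp_apply, AlgHom.comp_apply, hxb, AlgEquiv.coe_algHom, hEx, map_smul, hxb']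
    simp only [map_add, map_smul, Algebra.TensorProduct.map_tmul, map_one, AlgEquiv.coe_algHom, hEx,
      smul_add, hsb, TensorProduct.smul_tmul', TensorProduct.tmul_smul, smul_smul]


end Groth.Agent.S18480
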