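import Groth.Statements.S18483
import Groth.Agent.WeilExt.Cor

set_option autoImplicit false
universe u
open CategoryTheory CategoryTheory.Limits AlgebraicGeometry MonObj
open Neron

namespace Groth.Agent.S18483

/-- Let R be a Dedekind domain with fraction field K and N a proper smooth group scheme over Spec R,
with no connectedness condition on its fibres. Then N is a Néron model of its generic fibre N_K: N
is smooth, separated and of finite type over Spec R, and for every smooth Spec R-scheme Y
restriction to generic fibres is a bijection from R-morphisms Y → N onto K-morphisms Y_K → N_K. (The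
source allows any connected Dedekind scheme as base; the affine case is stated.) -/
theorem result (R : Type u) [CommRing R] [IsDedekindDomain R]
    (N : Over (Spec (CommRingCat.of R))) [GrpObj N] [IsProper N.hom] [Smooth N.hom] :
    Neron.IsNeronModelOf R N ((Neron.genericFibre R).obj N) (Iso.refl _) := by
  refine ⟨inferInstance, inferInstance, inferInstance, inferInstance, fun Y hY => ?_⟩
  haveI := hY
  haveI : GrpObj (Over.mk N.hom) := inferInstanceAs (GrpObj N)
  refine ⟨fun a b h => Groth.Agent.NeronGen.ext R a b (by simpa using h), fun y => ?_⟩
  obtain ⟨g, ⟨hg₁, hg₂⟩, -⟩ := Groth.Agent.WeilExt.existsUnique_of_generic Y.hom N.hom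
    (y.left ≫ Limits.pullback.fst N.hom (Neron.genPt R)) (by
      rw [Category.assoc, Limits.pullback.condition, Limits.pullback.condition]
      exact (Category.assoc _ _ _).symm.trans (congrArg (fun k => k ≫ Neron.genPt R) (Over.w y)))
  refine ⟨Over.homMk g hg₁, Over.OverMorphism.ext (Limits.pullback.hom_ext ?_ ?_)⟩
  · simp only [Over.comp_left, Iso.refl_hom, Category.comp_id, Over.pullback_map_left, Over.homMk_left]
    exact (Limits.pullback.lift_fst _ _ _).trans hg₂
  · simp only [Over.comp_left, Iso.refl_hom, Category.comp_id, Over.pullback_map_left, Over.homMk_left]
    exact (Limits.pullback.lift_snd _ _ _).trans (Over.w y).symm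

end Groth.Agent.S18483
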