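import Groth.Statements.S1849
import Groth.Agent.TameCh.Norms

set_option autoImplicit false
universe u
open CycAlg

namespace Groth.Agent.S1849

/-- Let A be a Noetherian local ring of dimension 1 and A ⊆ B a finite extension with B/A killed by a
power of the maximal ideal 𝔪 and 𝔪 not an associated prime of the A-module B. For nonzerodivisors a,
b of A, ∂_A(a, b) is the product over the maximal ideals 𝔪_j of B of the norms from κ(𝔪_j) to κ of
∂_{B_{𝔪_j}}(a, b). -/
theorem result (A : Type u) [CommRing A] [IsNoetherianRing A] [IsLocalRing A] (hA : ringKrullDim A = 1) (B : Type u) [CommRing B] [Algebra A B] (hB : CycAlg.IsFinExt A B (IsLocalRing.maximalIdeal A)) (hass : IsLocalRing.maximalIdeal A ∉ associatedPrimes A B) [hloc : ∀ q : MaximalSpectrum B, IsLocalHom (algebraMap A (Localization.AtPrime q.asIdeal))] (a b : A) (ha : a ∈ nonZeroDivisors A) (hb : b ∈ nonZeroDivisors A) : CycAlg.tameSymbol A a b = ∏ᶠ q : MaximalSpectrum B, Algebra.norm (IsLocalRing.ResidueField A) (CycAlg.tameSymbol (Localization.AtPrime q.asIdeal) (algebraMap A (Localization.AtPrime q.asIdeal)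 a) (algebraMap A (Localization.AtPrime q.asIdeal) b)) := by
  classical
  haveI := hB.2.1
  haveI := Groth.Agent.TameCh.finite_maximalSpectrum A (B := B)
  letI := Fintype.ofFinite (MaximalSpectrum B)
  rw [finprod_eq_prod_of_fintype]
  by_cases hab : a * b ∈ IsLocalRing.maximalIdeal A
  · obtain ⟨k, hk⟩ := hB.2.2
    have hann : ∀ (n : ℕ) (y : B), (∀ r ∈ IsLocalRing.maximalIdeal A ^ n, r • y = 0) → y = 0 := by
      intro n
      induction n with
      | zero => intro y hy; simpa using hy 1 (by simp)
      | succ n ih =>
        intro y hy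
        refine ih y fun r hr => ?_
        by_contra h0
        refine hass ⟨inferInstance, r • y, ?_⟩
        refine le_antisymm (fun s hs => Ideal.le_radical ?_) ((Ideal.IsPrime.radical_le_iff inferInstance).2 fun s hs => ?_)
        · simp only [Submodule.mem_colon_singleton, Submodule.mem_bot]
          rw [← mul_smul]
          exact hy _ (by rw [pow_succ, mul_comm s]; exact Ideal.mul_mem_mul hr hs)
        · simp only [Submodule.mem_colon_singleton, Submodule.mem_bot] at hs
          by_contra hm
          have hu : IsUnit s := not_not.1 fun h => hm ((IsLocalRing.mem_maximalIdeal _).2 h)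
          exact h0 ((hu.smul_eq_zero).1 hs)
    have htB : algebraMap A B (a * b) ∈ nonZeroDivisors B := by
      rw [mem_nonZeroDivisors_iff_right]
      intro y hy
      refine hann k y fun r hr => ?_
      obtain ⟨z, hz⟩ := hk r hr y
      have h2 : z * (a * b) = 0 := hB.1 (by rw [map_mul, hz, smul_mul_assoc, hy, smul_zero, map_zero])
      rw [← hz, (mem_nonZeroDivisors_iff_right.1 (mul_mem ha hb)) z h2, map_zero]
    exact Groth.Agent.TameCh.tameSymbol_eq_prod_norm hA hB ha hb hab htB
  · have hu : IsUnit (a * b) := not_not.1 fun h => hab ((IsLocalRing.mem_maximalIdeal _).2 h)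
    have hua := isUnit_of_mul_isUnit_left hu
    have hub := isUnit_of_mul_isUnit_right hu
    rw [Groth.Agent.TameCh.tameSymbol_eq_one hua hub]
    refine (Finset.prod_eq_one fun q _ => ?_).symm
    rw [Groth.Agent.TameCh.tameSymbol_eq_one (hua.map _) (hub.map _), map_one]

end Groth.Agent.S1849
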