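import Groth.Statements.S18490
import Mathlib

set_option autoImplicit false
universe u
open CategoryTheory CategoryTheory.Limits AlgebraicGeometry
open FlatMor

set_option backward.isDefEq.respectTransparency false
namespace Groth.Agent.S18490

/-- Let f : X → S and g : Y → S be morphisms of schemes and suppose that g has a section y : S → Y. If
the structure morphism X ×_S Y → S (first projection followed by f) is quasi-compact, then so is f;
likewise for locally of finite type, for separated, and for flat. (Finite type, also listed in the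
source, is the conjunction of the first two.) -/
theorem retract_flat {R A B : Type*} [CommRing R] [CommRing A] [CommRing B] (φ : R →+* A)
    (i : A →+* B) (r : B →+* A) (h : r.comp i = RingHom.id A) (hf : (i.comp φ).Flat) :
    φ.Flat := by
  algebraize [φ, i, i.comp φ]
  have : Module.Flat R B := hf
  let r' : B →ₗ[R] A :=
    { toFun := r
      map_add' := r.map_add
      map_smul' := fun c b ↦ by
        simp only [Algebra.smul_def, RingHom.id_apply, map_mul]
        congr 1
        exact RingHom.congr_fun h (φ c) }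
  exact Module.Flat.of_retract (IsScalarTower.toAlgHom R A B).toLinearMap r'
    (LinearMap.ext fun a ↦ RingHom.congr_fun h a)

theorem result {X Y S : Scheme.{u}} (f : X ⟶ S) (g : Y ⟶ S)
    (y : S ⟶ Y) (hy : y ≫ g = 𝟙 S) :
    (QuasiCompact (pullback.fst f g ≫ f) → QuasiCompact f) ∧
    (LocallyOfFiniteType (pullback.fst f g ≫ f) → LocallyOfFiniteType f) ∧
    (IsSeparated (pullback.fst f g ≫ f) → IsSeparated f) ∧
    (Flat (pullback.fst f g ≫ f) → Flat f) := by
  set p := pullback.fst f g with hp
  set s : X ⟶ pullback f g := pullback.lift (𝟙 X) (f ≫ y) (by simp [hy]) with hs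
  have hsp : s ≫ p = 𝟙 X := pullback.lift_fst _ _ _
  have hf : f = s ≫ (p ≫ f) := by rw [← Category.assoc, hsp, Category.id_comp]
  have : IsImmersion s := by
    have : IsImmersion (s ≫ p) := by rw [hsp]; infer_instance
    exact IsImmersion.of_comp s p
  have hsx : ∀ x, p (s x) = x := fun x ↦ by
    rw [← Scheme.Hom.comp_apply, hsp]; rfl
  refine ⟨fun h ↦ ⟨fun U hUo hUc ↦ ?_⟩, fun h ↦ by rw [hf]; infer_instance,
    fun h ↦ by rw [hf]; infer_instance, fun h ↦ ?_⟩
  · convert (h.isCompact_preimage U hUo hUc).image p.continuous using 1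
    ext x
    refine ⟨fun hx ↦ ⟨s x, ?_, hsx x⟩, ?_⟩
    · show (p ≫ f) (s x) ∈ U
      rw [Scheme.Hom.comp_apply, hsx]; exact hx
    · rintro ⟨z, hz, rfl⟩; exact hz
  · rw [Flat.iff_flat_stalkMap]
    intro x
    suffices H : (f.stalkMap (p (s x))).hom.Flat by rwa [hsx] at H
    have hfl : ((p ≫ f).stalkMap (s x)).hom.Flat := Flat.stalkMap _ _
    rw [Scheme.Hom.stalkMap_comp] at hfl
    have : IsIso ((s ≫ p).stalkMap x) := by
      rw [Scheme.Hom.stalkMap_congr_hom _ _ hsp x]
      infer_instance
    have key : p.stalkMap (s x) ≫ (s.stalkMap x ≫ inv ((s ≫ p).stalkMap x)) = 𝟙 _ := by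
      rw [← Category.assoc, IsIso.comp_inv_eq, Category.id_comp, Scheme.Hom.stalkMap_comp]
    exact retract_flat (f.stalkMap (p (s x))).hom (p.stalkMap (s x)).hom
      (s.stalkMap x ≫ inv ((s ≫ p).stalkMap x)).hom
      (congrArg CommRingCat.Hom.hom key) hfl

end Groth.Agent.S18490
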