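import Groth.Statements.S18493
import Groth.Agent.AffDim1.Basic
import Groth.Agent.NeronIsog.Basic

set_option backward.isDefEq.respectTransparency false
set_option backward.isDefEq.respectTransparency.types false
set_option synthInstance.maxHeartbeats 400000
set_option maxHeartbeats 1000000

set_option autoImplicit false
universe u
open CategoryTheory CategoryTheory.Limits AlgebraicGeometry MonObj
open Neron

namespace Groth.Agent.S18493

/-- Let R be a Dedekind domain with fraction field K, let A and B be group schemes over Spec R which are
Néron models of their generic fibres, both abelian varieties over K (proper and geometrically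
integral), let φ : A → B be a homomorphism whose generic fibre is an isogeny (surjective with finite
kernel), and let i : N → A be a kernel of φ (cartesian square against the unit section of B). If φ
is flat, then N → Spec R is locally quasi-finite, of finite type, flat and affine; if moreover A is
proper over Spec R then N → Spec R is finite. -/
theorem result (R : Type u) [CommRing R]
    [IsDedekindDomain R] (A B : Over (Spec (CommRingCat.of R))) [GrpObj A] [GrpObj B]
    (hA : Neron.IsNeronModelOf R A ((Neron.genericFibre R).obj A) (Iso.refl _))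
    (hB : Neron.IsNeronModelOf R B ((Neron.genericFibre R).obj B) (Iso.refl _))
    [IsProper ((Neron.genericFibre R).obj A).hom] [GeometricallyIntegral ((Neron.genericFibre R).obj A).hom]
    [IsProper ((Neron.genericFibre R).obj B).hom] [GeometricallyIntegral ((Neron.genericFibre R).obj B).hom]
    (φ : A ⟶ B) [IsMonHom φ] (hφ : SGA7.IsIsogenyOver ((Neron.genericFibre R).map φ)) [Flat φ.left]
    (N : Over (Spec (CommRingCat.of R))) (i : N ⟶ A) (hN : AlgGrp.IsKernel i φ) :
    (LocallyQuasiFinite N.hom ∧ QuasiCompact N.hom ∧ Flat N.hom ∧ IsAffineHom N.hom) ∧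
    (IsProper A.hom → IsFinite N.hom) := by
  open MonoidalCategory CartesianMonoidalCategory in
  open scoped CategoryTheory.Obj in
  obtain ⟨hAs, hAsep, -, hAq, -⟩ := hA
  obtain ⟨hBs, hBsep, -, hBq, -⟩ := hB
  haveI := hAs; haveI := hAq; haveI := hBs; haveI := hBsep; haveI := hAsep
  haveI := hBq
  haveI : LocallyQuasiFinite φ.left := (Groth.Agent.NeronIsog.lqf_iff_flat φ hφ).2 ‹_›
  haveI : LocallyOfFiniteType (φ.left ≫ B.hom) := by rw [Over.w]; infer_instance
  haveI : QuasiCompact (φ.left ≫ B.hom) := by rw [Over.w]; infer_instance
  haveI : LocallyOfFiniteType φ.left := locallyOfFiniteType_of_comp _ B.hom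
  haveI : QuasiCompact φ.left := QuasiCompact.of_comp _ B.hom
  haveI : IsSeparated (φ.left ≫ B.hom) := by rw [Over.w]; infer_instance
  haveI : IsSeparated φ.left := IsSeparated.of_comp φ.left B.hom
  haveI hq : LocallyQuasiFinite N.hom := Groth.Agent.UnitUnram.kernel_hom φ i @LocallyQuasiFinite hN inferInstance
  haveI hc : QuasiCompact N.hom := Groth.Agent.UnitUnram.kernel_hom φ i @QuasiCompact hN inferInstance
  haveI hf : Flat N.hom := Groth.Agent.UnitUnram.kernel_hom φ i @Flat hN inferInstance
  haveI hs : IsSeparated N.hom := Groth.Agent.UnitUnram.kernel_hom φ i @IsSeparated hN inferInstance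
  haveI ht : LocallyOfFiniteType N.hom := Groth.Agent.UnitUnram.kernel_hom φ i @LocallyOfFiniteType hN inferInstance
  have haff : IsAffineHom N.hom := by
    let S := Spec (CommRingCat.of R)
    have hdim : topologicalKrullDim S ≤ 1 := by
      show topologicalKrullDim (PrimeSpectrum R) ≤ 1
      rw [PrimeSpectrum.topologicalKrullDim_eq_ringKrullDim]
      exact Ring.krullDimLE_iff.1 inferInstance
    haveI : LocallyOfFiniteType (toUnit N).left := ht
    haveI : QuasiCompact (toUnit N).left := hc
    haveI : LocallyQuasiFinite (toUnit N).left := hq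
    haveI : IsSeparated (toUnit N).left := hs
    haveI : LocallyOfFiniteType (𝟙_ (Over S)).hom := inferInstanceAs (LocallyOfFiniteType (𝟙 S))
    refine Groth.Agent.AffDim1.isAffineHom_of_fibres hdim (toUnit N) fun s => ?_
    let F := Over.pullback (S.fromSpecResidueField s)
    haveI : IsFinite ((F.map (toUnit N)).left ≫ (F.obj (𝟙_ (Over S))).hom) := by
      rw [Over.w]
      haveI : IsFinite (pullback.snd N.hom (S.fromSpecResidueField s)) :=
        (locallyQuasiFinite_iff_isFinite_fiber (f := N.hom)).mp hq s
      exact ‹IsFinite (pullback.snd N.hom (S.fromSpecResidueField s))›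
    haveI : IsSeparated (F.obj (𝟙_ (Over S))).hom :=
      inferInstanceAs (IsSeparated (pullback.snd (𝟙 S) (S.fromSpecResidueField s)))
    exact IsFinite.of_comp _ (F.obj (𝟙_ (Over S))).hom
  refine ⟨⟨hq, hc, hf, haff⟩, fun hp => ?_⟩
  haveI := hp
  haveI : IsProper (φ.left ≫ B.hom) := by rw [Over.w]; infer_instance
  haveI : IsProper φ.left := IsProper.of_comp φ.left B.hom
  haveI : IsProper N.hom := Groth.Agent.UnitUnram.kernel_hom φ i @IsProper hN inferInstance
  exact IsFinite.of_isProper_of_locallyQuasiFinite N.hom

end Groth.Agent.S18493
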