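import Groth.Statements.S18494
import Groth.Agent.NeronIsog.Dual
import Groth.Agent.S18484

set_option backward.isDefEq.respectTransparency false
set_option backward.isDefEq.respectTransparency.types false
set_option synthInstance.maxHeartbeats 400000
set_option maxHeartbeats 1000000

set_option autoImplicit false
universe u
open CategoryTheory CategoryTheory.Limits AlgebraicGeometry MonObj
open Neron

namespace Groth.Agent.S18494

/-- Let R be a Dedekind domain with fraction field K, let A and B be group schemes over Spec R which are
Néron models of their generic fibres, both abelian varieties over K (proper and geometrically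
integral), let φ : A → B be a homomorphism whose generic fibre φ_K is an isogeny (surjective with
finite kernel), and let i : N → A be a kernel of φ. If the degree of φ_K, that is the order of the
finite K-group scheme N_K (its rank over Spec K), is a unit in R, then N is a Néron model of its
generic fibre N_K (smooth, separated, of finite type, with the Néron mapping property for smooth
Spec R-schemes) and N → Spec R is étale. -/
theorem result (R : Type u) [CommRing R]
    [IsDedekindDomain R] (A B : Over (Spec (CommRingCat.of R))) [GrpObj A] [GrpObj B]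
    (hA : Neron.IsNeronModelOf R A ((Neron.genericFibre R).obj A) (Iso.refl _))
    (hB : Neron.IsNeronModelOf R B ((Neron.genericFibre R).obj B) (Iso.refl _))
    [IsProper ((Neron.genericFibre R).obj A).hom] [GeometricallyIntegral ((Neron.genericFibre R).obj A).hom]
    [IsProper ((Neron.genericFibre R).obj B).hom] [GeometricallyIntegral ((Neron.genericFibre R).obj B).hom]
    (φ : A ⟶ B) [IsMonHom φ] (hφ : SGA7.IsIsogenyOver ((Neron.genericFibre R).map φ))
    (N : Over (Spec (CommRingCat.of R))) (i : N ⟶ A) (hN : AlgGrp.IsKernel i φ)
    (hdeg : ∀ x : ↥(Spec (CommRingCat.of (FractionRing R))),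
      IsUnit ((((Neron.genericFibre R).obj N).hom.finrank x : ℕ) : R)) :
    Neron.IsNeronModelOf R N ((Neron.genericFibre R).obj N) (Iso.refl _) ∧ Etale N.hom := by
  open MonoidalCategory CartesianMonoidalCategory MonObj in
  open scoped CategoryTheory.Obj in
  have hA' := hA
  have hB' := hB
  obtain ⟨hAs, hAsep, -, hAq, -⟩ := hA'
  obtain ⟨hBs, hBsep, -, hBq, -⟩ := hB'
  haveI := hAs; haveI := hAsep; haveI := hAq; haveI := hBs; haveI := hBsep; haveI := hBq
  haveI : IsProper ((SGA7.genFib R (FractionRing R)).obj A).hom := ‹IsProper ((Neron.genericFibre R).obj A).hom›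
  haveI : GeometricallyIntegral ((SGA7.genFib R (FractionRing R)).obj A).hom :=
    ‹GeometricallyIntegral ((Neron.genericFibre R).obj A).hom›
  haveI : IsCommMonObj ((SGA7.genFib R (FractionRing R)).obj A) :=
    isCommMonObj_of_isProper_of_geometricallyIntegral _
  haveI : IsCommMonObj A := Groth.Agent.NeronSS.isCommMonObj_of_genFib R (FractionRing R) A
  obtain ⟨-, ψ, hψ⟩ := Groth.Agent.NeronIsog.exists_dual hA hB φ hφ hN
    (IsLocalRing.closedPoint (FractionRing R))
  haveI : FormallyUnramified (φ.left ≫ ψ.left) := by
    rw [← Over.comp_left, hψ]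
    exact Groth.Agent.NeronIsog.formallyUnramified_pow (hdeg _)
  haveI : FormallyUnramified φ.left := FormallyUnramified.of_comp φ.left ψ.left
  haveI : LocallyOfFiniteType (φ.left ≫ B.hom) := by rw [Over.w]; infer_instance
  haveI : LocallyOfFiniteType φ.left := locallyOfFiniteType_of_comp _ B.hom
  haveI : IsLocallyNoetherian B.left := LocallyOfFiniteType.isLocallyNoetherian B.hom
  haveI : LocallyOfFinitePresentation φ.left := LocallyOfFinitePresentation.iff_locallyOfFiniteType.2 inferInstance
  haveI : Flat φ.left := (Groth.Agent.NeronIsog.lqf_iff_flat φ hφ).1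
    (Groth.Agent.EtaleSections.locallyQuasiFinite_of_unramified φ.left)
  haveI : Etale φ.left := Etale.of_formallyUnramified_of_flat _
  haveI hNe : Etale N.hom := Groth.Agent.UnitUnram.kernel_hom φ i @Etale hN inferInstance
  haveI : IsClosedImmersion (η[B] : 𝟙_ _ ⟶ B).left := by
    haveI : IsClosedImmersion ((η[B] : 𝟙_ _ ⟶ B).left ≫ B.hom) := by
      rw [Over.w]; exact inferInstanceAs (IsClosedImmersion (𝟙 _))
    exact IsClosedImmersion.of_comp _ B.hom
  haveI : IsClosedImmersion i.left := MorphismProperty.of_isPullback (hN.map (Over.forget _)).flip ‹_›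
  exact ⟨Groth.Agent.S18484.result R A N hA i, hNe⟩

end Groth.Agent.S18494
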