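import Groth.Statements.S18495
import Groth.Agent.NeronIsog.Dual

set_option backward.isDefEq.respectTransparency false
set_option backward.isDefEq.respectTransparency.types false
set_option synthInstance.maxHeartbeats 400000
set_option maxHeartbeats 1000000

set_option autoImplicit false
universe u
open CategoryTheory CategoryTheory.Limits AlgebraicGeometry MonObj
open Neron

namespace Groth.Agent.S18495

/-- The case of multiplication by n over a discrete valuation ring. Let R be a discrete valuation ring
with fraction field K and residue field of characteristic p (p = 0 allowed), let A be a commutative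
group scheme over Spec R which is a Néron model of its generic fibre A_K, an abelian variety over K
(proper and geometrically integral), and let n ≥ 1. Then the n-th power endomorphism of A is flat if
and only if: whenever p divides n, A_K has semistable reduction over R (A_K extends to a smooth
separated group scheme of finite type over Spec R all of whose geometric fibres contain no closed
subgroup isomorphic to the additive group). (The published lemma is over a connected Dedekind
scheme, with the reduction condition at every nongeneric point whose residue characteristic divides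
n; the case of a discrete valuation ring is stated.) -/
theorem result (R : Type u) [CommRing R] [IsDomain R]
    [IsDiscreteValuationRing R] (A : Over (Spec (CommRingCat.of R))) [GrpObj A] [IsCommMonObj A]
    (hA : Neron.IsNeronModelOf R A ((Neron.genericFibre R).obj A) (Iso.refl _))
    [IsProper ((Neron.genericFibre R).obj A).hom] [GeometricallyIntegral ((Neron.genericFibre R).obj A).hom]
    (n : ℕ) (hn : 1 ≤ n) :
    Flat (((𝟙 A) ^ n : A ⟶ A)).left ↔
      (ringChar (IsLocalRing.ResidueField R) ∣ n →
        SGA7.HasSemistableReduction R (FractionRing R) ((Neron.genericFibre R).obj A)) := by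
  open MonoidalCategory CartesianMonoidalCategory MonObj in
  open scoped CategoryTheory.Obj in
  have hA' := hA
  obtain ⟨hAs, hAsep, -, hAq, -⟩ := hA'
  haveI := hAs; haveI := hAsep; haveI := hAq
  let K := FractionRing R
  haveI : IsProper ((SGA7.genFib R K).obj A).hom := ‹IsProper ((Neron.genericFibre R).obj A).hom›
  haveI : GeometricallyIntegral ((SGA7.genFib R K).obj A).hom :=
    ‹GeometricallyIntegral ((Neron.genericFibre R).obj A).hom›
  let u := (𝟙 A : A ⟶ A) ^ n
  haveI : IsMonHom u := Groth.Agent.NeronSS.isMonHom_id_pow A n
  have hiso := Groth.Agent.NeronSS.isogeny_genPoint (R := R) (K := K) (G := A) (m := n) (by omega)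
  let t := (Spec.map (CommRingCat.ofHom (algebraMap R K))) (IsLocalRing.closedPoint K)
  constructor
  · intro hfl hp
    have hn0 : (n : IsLocalRing.ResidueField R) = 0 := (ringChar.spec _ _).2 hp
    refine (Groth.Agent.S4077.result R K A (Groth.Agent.NeronIsog.isNeron_of_isNeronModelOf hA)).2 fun s => ?_
    let F := Over.pullback (Red.geomPt s)
    haveI : Smooth (F.obj A).hom := inferInstanceAs (Smooth (Limits.pullback.snd A.hom (Red.geomPt s)))
    haveI : IsSeparated (F.obj A).hom := inferInstanceAs (IsSeparated (Limits.pullback.snd A.hom (Red.geomPt s)))
    haveI : QuasiCompact (F.obj A).hom := inferInstanceAs (QuasiCompact (Limits.pullback.snd A.hom (Red.geomPt s)))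
    haveI : IsCommMonObj (F.obj A) := inferInstanceAs (IsCommMonObj ((Over.pullback (Red.geomPt s)).obj A))
    by_cases hs : s.asIdeal = ⊥
    · have hts : s = t := by
        apply PrimeSpectrum.ext
        have h1 : t.asIdeal ≤ s.asIdeal :=
          (PrimeSpectrum.le_iff_specializes _ _).2 (Groth.Agent.NeronSS.genPoint_specializes R K s)
        rw [hs] at h1 ⊢
        exact (le_bot_iff.1 h1).symm
      haveI : IsProper (Limits.pullback.snd A.hom ((Spec (CommRingCat.of R)).fromSpecResidueField s)) := by
        rw [hts]
        exact Groth.Agent.NeronSS.fib_genPoint_hom R K @IsProper A ‹_›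
      haveI : IsProper (F.obj A).hom := by
        show IsProper (Limits.pullback.snd A.hom (Red.geomPt s))
        unfold Red.geomPt
        rw [← pullbackLeftPullbackSndIso_inv_snd_snd]
        infer_instance
      exact Groth.Agent.NeronSS.noGaSub_of_isProper
    · have hmax : s.asIdeal = IsLocalRing.maximalIdeal R := IsLocalRing.eq_maximalIdeal (s.isPrime.isMaximal hs)
      haveI := hfl
      have h1 : Flat (F.map u).left := MorphismProperty.baseChange_map (P := @Flat) (Red.geomPt s) u hfl
      rw [Groth.Agent.NeronSS.map_id_pow] at h1
      have hz : (n : AlgebraicClosure ((Spec (CommRingCat.of R)).residueField s)) = 0 := by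
        rw [← map_natCast (algebraMap ((Spec (CommRingCat.of R)).residueField s) _),
          (Groth.Agent.NeronSS.natCast_residueField_eq_zero_iff s n).2 ?_, map_zero]
        rwa [hmax, ← IsLocalRing.residue_eq_zero_iff, map_natCast]
      exact Groth.Agent.NeronSS.noGaSub_of_flat_pow hz h1
  · intro h
    haveI : LocallyQuasiFinite u.left := by
      refine Groth.Agent.NeronIsog.lqf_pow (by omega) fun s => ?_
      by_cases hd : ringChar (IsLocalRing.ResidueField R) ∣ n
      · exact Or.inr ((Groth.Agent.S4077.result R K A (Groth.Agent.NeronIsog.isNeron_of_isNeronModelOf hA)).1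
          (h hd) s)
      · refine Or.inl fun h0 => hd ((ringChar.spec _ _).1 ?_)
        rw [← map_natCast (IsLocalRing.residue R), IsLocalRing.residue_eq_zero_iff]
        exact IsLocalRing.le_maximalIdeal s.isPrime.ne_top
          ((Groth.Agent.NeronSS.natCast_residueField_eq_zero_iff s _).1 h0)
    haveI : QuasiCompact (u.left ≫ A.hom) := by rw [Over.w]; infer_instance
    haveI : QuasiCompact u.left := QuasiCompact.of_comp _ A.hom
    haveI : LocallyOfFiniteType (u.left ≫ A.hom) := by rw [Over.w]; infer_instance
    haveI : LocallyOfFiniteType u.left := locallyOfFiniteType_of_comp _ A.hom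
    obtain ⟨hfl, -⟩ := Groth.Agent.NeronSS.flat_restrict u ⊤ fun s _ => Groth.Agent.NeronSS.flat_fibHom u
      (Groth.Agent.NeronSS.genPoint_specializes R K s) hiso
      ((Groth.Agent.GrpField.locallyQuasiFinite_iff_fibHom u).1 inferInstance s)
    haveI : IsIso ((A.hom ⁻¹ᵁ (⊤ : (Spec (CommRingCat.of R)).Opens)).ι) :=
      inferInstanceAs (IsIso A.left.topIso.hom)
    exact (MorphismProperty.cancel_left_of_respectsIso @Flat _ _).1 hfl

end Groth.Agent.S18495
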