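import Groth.Statements.S18499
import Groth.Agent.NeronIsog.Dual

set_option backward.isDefEq.respectTransparency false
set_option backward.isDefEq.respectTransparency.types false
set_option synthInstance.maxHeartbeats 400000
set_option maxHeartbeats 1000000

set_option autoImplicit false
universe u
open CategoryTheory CategoryTheory.Limits AlgebraicGeometry MonObj
open Neron

namespace Groth.Agent.S18499

/-- Let R be a discrete valuation ring with fraction field K and residue field of characteristic p (p =
0 allowed), let A and B be group schemes over Spec R which are Néron models of their generic fibres,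
both abelian varieties over K (proper and geometrically integral), let φ : A → B be a homomorphism
whose generic fibre φ_K is an isogeny (surjective with finite kernel), and let i : N → A be a kernel
of φ, so that N_K is a finite K-group scheme whose order (rank over Spec K) is the degree of φ_K.
If, whenever p divides that degree, A_K has semistable reduction over R (it extends to a smooth
separated group scheme of finite type over Spec R whose geometric fibres contain no closed subgroup
isomorphic to the additive group), then φ is flat. (The converse fails in general. The published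
lemma is over a connected Dedekind scheme, with the reduction condition at every nongeneric point
whose residue characteristic divides the degree; the case of a discrete valuation ring is stated.) -/
theorem result (R : Type u) [CommRing R]
    [IsDomain R] [IsDiscreteValuationRing R] (A B : Over (Spec (CommRingCat.of R))) [GrpObj A] [GrpObj B]
    (hA : Neron.IsNeronModelOf R A ((Neron.genericFibre R).obj A) (Iso.refl _))
    (hB : Neron.IsNeronModelOf R B ((Neron.genericFibre R).obj B) (Iso.refl _))
    [IsProper ((Neron.genericFibre R).obj A).hom] [GeometricallyIntegral ((Neron.genericFibre R).obj A).hom]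
    [IsProper ((Neron.genericFibre R).obj B).hom] [GeometricallyIntegral ((Neron.genericFibre R).obj B).hom]
    (φ : A ⟶ B) [IsMonHom φ] (hφ : SGA7.IsIsogenyOver ((Neron.genericFibre R).map φ))
    (N : Over (Spec (CommRingCat.of R))) (i : N ⟶ A) (hN : AlgGrp.IsKernel i φ)
    (h : ∀ x : ↥(Spec (CommRingCat.of (FractionRing R))),
      ringChar (IsLocalRing.ResidueField R) ∣ ((Neron.genericFibre R).obj N).hom.finrank x →
        SGA7.HasSemistableReduction R (FractionRing R) ((Neron.genericFibre R).obj A)) :
    Flat φ.left := by
  open MonoidalCategory CartesianMonoidalCategory MonObj in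
  open scoped CategoryTheory.Obj in
  have hA' := hA
  have hB' := hB
  obtain ⟨hAs, hAsep, -, hAq, -⟩ := hA'
  obtain ⟨hBs, hBsep, -, hBq, -⟩ := hB'
  haveI := hAs; haveI := hAsep; haveI := hAq; haveI := hBs; haveI := hBsep; haveI := hBq
  let K := FractionRing R
  haveI : IsProper ((SGA7.genFib R K).obj A).hom := ‹IsProper ((Neron.genericFibre R).obj A).hom›
  haveI : GeometricallyIntegral ((SGA7.genFib R K).obj A).hom :=
    ‹GeometricallyIntegral ((Neron.genericFibre R).obj A).hom›
  haveI : IsCommMonObj ((SGA7.genFib R K).obj A) :=
    isCommMonObj_of_isProper_of_geometricallyIntegral _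
  haveI : IsCommMonObj A := Groth.Agent.NeronSS.isCommMonObj_of_genFib R K A
  obtain ⟨hn, ψ, hψ⟩ := Groth.Agent.NeronIsog.exists_dual hA hB φ hφ hN (IsLocalRing.closedPoint K)
  haveI : LocallyQuasiFinite (φ.left ≫ ψ.left) := by
    rw [← Over.comp_left, hψ]
    refine Groth.Agent.NeronIsog.lqf_pow hn.ne' fun s => ?_
    by_cases hd : ringChar (IsLocalRing.ResidueField R) ∣
        ((Neron.genericFibre R).obj N).hom.finrank (IsLocalRing.closedPoint K)
    · exact Or.inr ((Groth.Agent.S4077.result R K A (Groth.Agent.NeronIsog.isNeron_of_isNeronModelOf hA)).1
        (h _ hd) s)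
    · refine Or.inl fun h0 => hd ((ringChar.spec _ _).1 ?_)
      rw [← map_natCast (IsLocalRing.residue R), IsLocalRing.residue_eq_zero_iff]
      exact IsLocalRing.le_maximalIdeal s.isPrime.ne_top
        ((Groth.Agent.NeronSS.natCast_residueField_eq_zero_iff s _).1 h0)
  exact (Groth.Agent.NeronIsog.lqf_iff_flat φ hφ).1 (LocallyQuasiFinite.of_comp φ.left ψ.left)

end Groth.Agent.S18499
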