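import Groth.Statements.S18501
import Groth.Agent.NeronIsog.Special

set_option backward.isDefEq.respectTransparency false
set_option backward.isDefEq.respectTransparency.types false
set_option synthInstance.maxHeartbeats 400000
set_option maxHeartbeats 1000000

set_option autoImplicit false
universe u
open CategoryTheory CategoryTheory.Limits AlgebraicGeometry MonObj
open Neron

namespace Groth.Agent.S18501

/-- Let R be a discrete valuation ring with fraction field K and residue field k, let A and B be group
schemes over Spec R which are Néron models of their generic fibres, both abelian varieties over K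
(proper and geometrically integral), and let φ : A → B be a homomorphism whose generic fibre is an
isogeny (surjective with finite kernel). Then φ is flat if and only if the special fibre φ_k : A_k →
B_k maps the connected component of the identity point of A_k onto the connected component of the
identity point of B_k, i.e. the image of the former subset is the latter (φ induces a surjection of
identity components; on the generic fibre this is automatic). (The published lemma is over a
connected Dedekind scheme, with this condition at every point, and includes a further equivalent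
condition, quasi-finiteness of φ; the case of a discrete valuation ring is stated here, where only
the closed point matters.) -/
theorem result (R : Type u) [CommRing R]
    [IsDomain R] [IsDiscreteValuationRing R] (A B : Over (Spec (CommRingCat.of R))) [GrpObj A] [GrpObj B]
    (hA : Neron.IsNeronModelOf R A ((Neron.genericFibre R).obj A) (Iso.refl _))
    (hB : Neron.IsNeronModelOf R B ((Neron.genericFibre R).obj B) (Iso.refl _))
    [IsProper ((Neron.genericFibre R).obj A).hom] [GeometricallyIntegral ((Neron.genericFibre R).obj A).hom]
    [IsProper ((Neron.genericFibre R).obj B).hom] [GeometricallyIntegral ((Neron.genericFibre R).obj B).hom]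
    (φ : A ⟶ B) [IsMonHom φ] (hφ : SGA7.IsIsogenyOver ((Neron.genericFibre R).map φ)) :
    Flat φ.left ↔
      ((Over.pullback (Spec.map (CommRingCat.ofHom (IsLocalRing.residue R)))).map φ).left.base ''
          connectedComponent ((η[Red.bc (Spec.map (CommRingCat.ofHom (IsLocalRing.residue R))) A]).left.base (IsLocalRing.closedPoint (IsLocalRing.ResidueField R))) =
        connectedComponent ((η[Red.bc (Spec.map (CommRingCat.ofHom (IsLocalRing.residue R))) B]).left.base (IsLocalRing.closedPoint (IsLocalRing.ResidueField R))) := by
  open MonoidalCategory CartesianMonoidalCategory in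
  open scoped CategoryTheory.Obj in
  obtain ⟨hAs, -, -, hAq, -⟩ := hA
  obtain ⟨hBs, hBsep, -, hBq, -⟩ := hB
  haveI := hAs; haveI := hAq; haveI := hBs; haveI := hBsep
  let k := IsLocalRing.ResidueField R
  let q : Spec (CommRingCat.of k) ⟶ Spec (CommRingCat.of R) := Spec.map (CommRingCat.ofHom (IsLocalRing.residue R))
  haveI : IsClosedImmersion q := IsClosedImmersion.spec_of_surjective _ IsLocalRing.residue_surjective
  let F := Over.pullback q
  let pt : ↥(Spec (CommRingCat.of k)) := IsLocalRing.closedPoint k
  haveI : Smooth (F.obj A).hom := inferInstanceAs (Smooth (pullback.snd A.hom q))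
  haveI : Smooth (F.obj B).hom := inferInstanceAs (Smooth (pullback.snd B.hom q))
  haveI : QuasiCompact (F.obj A).hom := inferInstanceAs (QuasiCompact (pullback.snd A.hom q))
  haveI : IsSeparated (F.obj B).hom := inferInstanceAs (IsSeparated (pullback.snd B.hom q))
  have sq : IsPullback (pullback.fst A.hom q) (F.map φ).left φ.left (pullback.fst B.hom q) := by
    refine IsPullback.of_bot ?_ (pullback.lift_fst _ _ _).symm (IsPullback.of_hasPullback B.hom q)
    rw [show (F.map φ).left ≫ pullback.snd B.hom q = pullback.snd A.hom q from pullback.lift_snd _ _ _, Over.w φ]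
    exact IsPullback.of_hasPullback A.hom q
  constructor
  · intro hfl
    haveI : Flat (F.map φ).left := MorphismProperty.of_isPullback sq hfl
    exact Groth.Agent.NeronIsog.image_component_of_flat (F.map φ)
  intro h
  refine Groth.Agent.NeronIsog.flat_of_range_open φ fun s => ?_
  by_cases hs : s = IsLocalRing.closedPoint R
  · subst hs
    let C : Set (F.obj B).left := _root_.connectedComponent (η[Red.bc q B].left pt)
    let pr := pullback.fst B.hom q
    haveI : CompactSpace (F.obj B).left :=
      (quasiCompact_iff_compactSpace (F.obj B).hom).1 (by
        haveI := hBq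
        exact inferInstanceAs (QuasiCompact (pullback.snd B.hom q)))
    haveI : IsLocallyNoetherian (F.obj B).left := LocallyOfFiniteType.isLocallyNoetherian (F.obj B).hom
    haveI : IsNoetherian (F.obj B).left := {}
    obtain ⟨W, hW, hWC⟩ := (inferInstance : IsClosedImmersion pr).base_closed.isInducing.isOpen_iff.1
      (Groth.Agent.NeronIsog.isOpen_component (η[Red.bc q B].left pt))
    have hq : q pt = IsLocalRing.closedPoint R := IsLocalRing.comap_closedPoint (IsLocalRing.residue R)
    refine ⟨W, hW, ⟨pr (η[Red.bc q B].left pt), hWC.ge mem_connectedComponent, ?_⟩, fun y hy hys => ?_⟩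
    · rw [← Scheme.Hom.comp_apply, pullback.condition, Scheme.Hom.comp_apply]
      exact (congrArg q (Subsingleton.elim (α := PrimeSpectrum k) _ _)).trans hq
    · obtain ⟨w, hw, -⟩ := Scheme.Pullback.exists_preimage_pullback (f := B.hom) (g := q) y pt (hys.trans hq.symm)
      obtain ⟨a, -, ha⟩ := h.ge (hWC.le (show pr w ∈ W from hw.symm ▸ hy))
      refine ⟨pullback.fst A.hom q a, ?_⟩
      rw [← Scheme.Hom.comp_apply, sq.w, Scheme.Hom.comp_apply]
      exact (congrArg pr ha).trans hw
  · let g := Neron.genPt R
    let K := FractionRing R
    have hg : g (IsLocalRing.closedPoint K) = s := by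
      have h1 : s.asIdeal = ⊥ := by
        by_contra hne
        exact hs (PrimeSpectrum.ext (IsLocalRing.eq_maximalIdeal (s.2.isMaximal hne)))
      refine PrimeSpectrum.ext ?_
      rw [h1]
      show Ideal.comap (algebraMap R K) (IsLocalRing.maximalIdeal K) = ⊥
      rw [IsLocalRing.maximalIdeal_eq_bot, Ideal.comap_bot_of_injective _ (IsFractionRing.injective R K)]
    refine ⟨Set.univ, isOpen_univ, ⟨η[B].left s, trivial, ?_⟩, fun y _ hys => ?_⟩
    · rw [← Scheme.Hom.comp_apply, Over.w η[B]]
      rfl
    · obtain ⟨w, hw, -⟩ := Scheme.Pullback.exists_preimage_pullback (f := B.hom) (g := g) y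
        (IsLocalRing.closedPoint K) (hys.trans hg.symm)
      haveI := hφ.1
      obtain ⟨a, ha⟩ := ((Neron.genericFibre R).map φ).left.surjective w
      refine ⟨pullback.fst A.hom g a, ?_⟩
      rw [← Scheme.Hom.comp_apply]
      have e : pullback.fst A.hom g ≫ φ.left = ((Neron.genericFibre R).map φ).left ≫ pullback.fst B.hom g :=
        (pullback.lift_fst _ _ _).symm
      rw [e]
      refine (Scheme.Hom.comp_apply _ _ _).trans ?_
      exact (congrArg (pullback.fst B.hom g) ha).trans hw

end Groth.Agent.S18501
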