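import Groth.Statements.S18502
import Groth.Agent.GrpAct.GeomQuot

set_option autoImplicit false
universe u
open CategoryTheory MonoidalCategory CartesianMonoidalCategory MonObj GrpObj AlgebraicGeometry Topology
open EqInt

namespace Groth.Agent.S18502

/-- Over a field k, let an affine group scheme G of finite type act on X, let X and Y be separated and
of finite type over k, and let φ : X → Y be G-invariant, flat and surjective with (σ, p₂) : G × X →
X ×_Y X an isomorphism (X is a principal G-bundle over Y). Conclusion: the pair (Y, φ) realizes Y as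
a geometric quotient of X under G, and G acts freely, meaning (σ, p₂) : G × X → X × X is a closed
immersion. (The source takes X and Y integral; integrality plays no role. A geometric quotient is
taken here with φ universally submersive.) -/
theorem result (k : Type u) [Field k]
    (G X Y : Over (Spec (CommRingCat.of k))) [GrpObj G] [IsAffine G.left] [LocallyOfFiniteType G.hom]
    [LocallyOfFiniteType X.hom] [QuasiCompact X.hom] [IsSeparated X.hom]
    [LocallyOfFiniteType Y.hom] [QuasiCompact Y.hom] [IsSeparated Y.hom]
    (a : AlgGrp.Action G X) (φ : X ⟶ Y) (hinv : GIT.IsInvariant a φ) [Flat φ.left] [Surjective φ.left]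
    (hcart : IsIso (GIT.PsiY a φ hinv)) :
    GIT.IsGeomQuot a φ ∧ IsClosedImmersion (GIT.psi a (𝟙 X)).left := by
  have := hcart
  have hpi : IsPullback a.act (snd G X) φ φ := by
    refine IsPullback.of_map (Over.forget _) hinv ?_
    exact IsPullback.of_iso_pullback ⟨congrArg (fun f => f.left) hinv⟩ (@asIso _ _ _ _ (GIT.PsiY a φ hinv) hcart)
      (Limits.pullback.lift_fst _ _ _) (Limits.pullback.lift_snd _ _ _)
  have : QuasiCompact φ.left := by
    have : QuasiCompact (φ.left ≫ Y.hom) := by rw [Over.w φ]; infer_instance
    exact QuasiCompact.of_comp φ.left Y.hom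
  refine ⟨Groth.Agent.GeomQuot.isGeomQuot_of_isPullback a hpi, ?_⟩
  let j : Limits.pullback φ.left φ.left ⟶ (X ⊗ X).left :=
    Limits.pullback.map φ.left φ.left X.hom X.hom (𝟙 _) (𝟙 _) Y.hom (by simp) (by simp)
  have hj : GIT.PsiY a φ hinv ≫ j = (GIT.psi a (𝟙 X)).left := by
    apply Limits.pullback.hom_ext
    · simp only [GIT.PsiY, j, Category.assoc, Limits.pullback.lift_fst, Category.comp_id]
      exact (congrArg CommaMorphism.left (show GIT.psi a (𝟙 X) ≫ fst X X = a.act by simp [GIT.psi])).symm
    · simp only [GIT.PsiY, j, Category.assoc, Limits.pullback.lift_snd, Category.comp_id]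
      exact (congrArg CommaMorphism.left (show GIT.psi a (𝟙 X) ≫ snd X X = snd G X by simp [GIT.psi])).symm
  have : IsClosedImmersion j := by
    have key : ∀ (x y : X.left ⟶ Spec (CommRingCat.of k)) (hx : φ.left ≫ Y.hom = x) (hy : φ.left ≫ Y.hom = y),
        IsClosedImmersion (Limits.pullback.map φ.left φ.left x y (𝟙 _) (𝟙 _) Y.hom (by simp [hx]) (by simp [hy])) := by
      rintro x y rfl rfl
      exact MorphismProperty.of_isPullback
        (Limits.pullback_map_diagonal_isPullback φ.left φ.left Y.hom) inferInstance
    exact key X.hom X.hom (Over.w φ) (Over.w φ)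
  have := hcart
  rw [← hj]
  infer_instance

end Groth.Agent.S18502
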