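import Groth.Statements.S3042
import Groth.Agent.FibCrit.Props
import Mathlib.AlgebraicGeometry.Morphisms.UniversallyInjective

set_option autoImplicit false
universe u
open CategoryTheory MonoidalCategory CartesianMonoidalCategory MonObj GrpObj AlgebraicGeometry TensorProduct
open SGA3

namespace Groth.Agent.S3042

/-- Let f : X → Y be a morphism of schemes locally of finite type. Then f is a monomorphism if and only
if, for every point y of Y, the fibre X_y → Spec κ(y) is a monomorphism. -/
theorem result (X Y : Scheme.{u}) (f : X ⟶ Y) [LocallyOfFiniteType f] :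
    Mono f ↔ ∀ y : Y, Mono (f.fiberToSpecResidueField y) := by
  refine ⟨fun _ y => inferInstanceAs (Mono (Limits.pullback.snd f (Y.fromSpecResidueField y))),
    fun h => ?_⟩
  have : FormallyUnramified f :=
    Groth.Agent.FibCrit.formallyUnramified_of_fiberToSpecResidueField f fun y => by
      have := h y
      have : IsIso (Limits.pullback.diagonal (f.fiberToSpecResidueField y)) :=
        (Limits.pullback.isIso_diagonal_iff _).mpr inferInstance
      infer_instance
  have : UniversallyInjective f := by
    refine ((tfae_universallyInjective f).out 0 1).mpr ?_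
    intro K _ g₁ g₂ (hg : g₁ ≫ f = g₂ ≫ f)
    let z := IsLocalRing.closedPoint K
    let y := (g₁ ≫ f) z
    have hy : Set.range (g₁ ≫ f) ⊆ {y} := by
      rintro _ ⟨w, rfl⟩
      rw [Subsingleton.elim w z]; rfl
    obtain ⟨e, he⟩ : ∃ e : Spec (CommRingCat.of K) ⟶ Spec (Y.residueField y),
        e ≫ Y.fromSpecResidueField y = g₁ ≫ f := by
      obtain ⟨⟨y', φ⟩, hφ⟩ := (Scheme.SpecToEquivOfField K Y).symm.surjective (g₁ ≫ f)
      have hφ' : Spec.map φ ≫ Y.fromSpecResidueField y' = g₁ ≫ f := hφ
      have : y' = y := by
        change y' = (g₁ ≫ f) z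
        rw [← hφ', Scheme.Hom.comp_apply, Scheme.fromSpecResidueField_apply]
      subst this
      exact ⟨_, hφ'⟩
    let l₁ := Limits.pullback.lift (f := f) (g := Y.fromSpecResidueField y) g₁ e he.symm
    let l₂ := Limits.pullback.lift (f := f) (g := Y.fromSpecResidueField y) g₂ e (hg.symm.trans he.symm)
    have := h y
    have hl : l₁ = l₂ := by
      apply (cancel_mono (f.fiberToSpecResidueField y)).mp
      exact (Limits.pullback.lift_snd _ _ _).trans (Limits.pullback.lift_snd _ _ _).symm
    exact (Limits.pullback.lift_fst _ _ _).symm.trans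
      ((congrArg (· ≫ Limits.pullback.fst f (Y.fromSpecResidueField y)) hl).trans
        (Limits.pullback.lift_fst _ _ _))
  have : Surjective (Limits.pullback.diagonal f) := (UniversallyInjective.iff_diagonal f).mp ‹_›
  have : IsOpenImmersion (Limits.pullback.diagonal f) := inferInstance
  have : Epi (Limits.pullback.diagonal f).base :=
    (TopCat.epi_iff_surjective _).mpr (Limits.pullback.diagonal f).surjective
  have : IsIso (Limits.pullback.diagonal f) := IsOpenImmersion.isIso _
  exact (Limits.pullback.isIso_diagonal_iff f).mp ‹_›

end Groth.Agent.S3042
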