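import Groth.Statements.S18503
import Groth.Agent.S3042
import Groth.Agent.GrpAct.Basic

set_option autoImplicit false
universe u
open CategoryTheory MonoidalCategory CartesianMonoidalCategory MonObj GrpObj AlgebraicGeometry Topology
open EqInt

namespace Groth.Agent.S18503

/-- Over a field k, let an affine group scheme G of finite type act on a quasi-separated scheme X of
finite type over k. If the action is proper (the morphism (σ, p₂) : G × X → X × X is proper) and the
stabilizer of every point is trivial (for each point x of X the fibre over x of the stabilizer group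
scheme (G × X) ×_{X × X} X → X, the pullback of (σ, p₂) along the diagonal, is Spec κ(x) through its
structure map), then the action is free: (σ, p₂) is a closed immersion. (Stated for X a scheme; the
source allows an algebraic space.) -/
theorem result (k : Type u) [Field k]
    (G X : Over (Spec (CommRingCat.of k))) [GrpObj G] [IsAffine G.left] [LocallyOfFiniteType G.hom]
    [LocallyOfFiniteType X.hom] [QuasiCompact X.hom] [QuasiSeparated X.hom]
    (a : AlgGrp.Action G X) (hp : IsProper (GIT.psi a (𝟙 X)).left)
    (htriv : ∀ x : ↥X.left, IsIso ((Limits.pullback.snd (GIT.psi a (𝟙 X)).left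
      (CartesianMonoidalCategory.lift (𝟙 X) (𝟙 X)).left).fiberToSpecResidueField x)) :
    IsClosedImmersion (GIT.psi a (𝟙 X)).left := by
  have hpsi : GIT.psi a (𝟙 X) = lift a.act (snd G X) := by simp [GIT.psi]
  rw [hpsi] at hp htriv ⊢
  have := hp
  set Δ := (CartesianMonoidalCategory.lift (𝟙 X) (𝟙 X)).left
  have hsnd : Mono (Limits.pullback.snd (lift a.act (snd G X)).left Δ) := by
    refine (Groth.Agent.S3042.result _ _ _).mpr fun x => ?_
    have := htriv x
    infer_instance
  have hmono : Mono (lift a.act (snd G X)) := by
    rw [← Groth.Agent.GrpAct.mono_graph_iff]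
    intro T g x hgx
    have e : ∀ g' : T ⟶ G, lift g' x ≫ a.act = x →
        (lift g' x).left ≫ (lift a.act (snd G X)).left = x.left ≫ Δ := fun g' h => by
      rw [← Over.comp_left, ← Over.comp_left]
      refine congrArg (fun w : T ⟶ X ⊗ X => w.left) ?_
      rw [comp_lift, comp_lift, h, lift_snd, Category.comp_id]
    have h1 := e g hgx
    have h2 := e (toUnit T ≫ η[G]) (Groth.Agent.GrpAct.one_smul a x)
    have hl : Limits.pullback.lift _ _ h1 = Limits.pullback.lift _ _ h2 := by
      rw [← cancel_mono (Limits.pullback.snd (lift a.act (snd G X)).left Δ),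
        Limits.pullback.lift_snd, Limits.pullback.lift_snd]
    have h3 := congrArg (· ≫ Limits.pullback.fst (lift a.act (snd G X)).left Δ) hl
    simp only [Limits.pullback.lift_fst] at h3
    have h4 : lift g x = lift (toUnit T ≫ η[G]) x := Over.OverMorphism.ext h3
    simpa using congrArg (· ≫ fst G X) h4
  have : Mono (lift a.act (snd G X)).left := Over.mono_left_of_mono _
  have : IsFinite (lift a.act (snd G X)).left := IsFinite.of_isProper_of_locallyQuasiFinite _
  exact (IsClosedImmersion.iff_isFinite_and_mono _).2 ⟨inferInstance, inferInstance⟩

end Groth.Agent.S18503
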