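import Groth.Statements.S18505
import Groth.Agent.NormSect.Basic

set_option autoImplicit false
universe u
open CategoryTheory MonoidalCategory CartesianMonoidalCategory MonObj GrpObj AlgebraicGeometry Topology
open EqInt

namespace Groth.Agent.S18505

/-- a subring closed under exact division is integrally closed -/
theorem isIntegrallyClosed_of_sub {A B : Type u} [CommRing A] [IsDomain A] [CommRing B] [IsDomain B]
    [IsIntegrallyClosed B] (π : A →+* B) (hπ : Function.Injective π)
    (hdiv : ∀ (b c : A) (f : B), b ≠ 0 → f * π b = π c → ∃ s, π s = f) : IsIntegrallyClosed A := by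
  refine (isIntegrallyClosed_iff (FractionRing A)).2 fun {z} hz => ?_
  obtain ⟨c, ⟨b, hb⟩, rfl⟩ := IsLocalization.exists_mk'_eq (nonZeroDivisors A) z
  have hg₀ : Function.Injective ((algebraMap B (FractionRing B)).comp π) :=
    (IsFractionRing.injective B (FractionRing B)).comp hπ
  obtain ⟨ι', hι⟩ : ∃ ι' : FractionRing A →+* FractionRing B,
      ι'.comp (algebraMap A (FractionRing A)) = (algebraMap B (FractionRing B)).comp π :=
    ⟨IsFractionRing.lift hg₀, RingHom.ext fun r => by rw [RingHom.comp_apply, IsFractionRing.lift_algebraMap]⟩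
  have hint : _root_.IsIntegral B (ι' (IsLocalization.mk' _ c ⟨b, hb⟩)) := by
    obtain ⟨p, hp, h0⟩ := hz
    refine ⟨p.map π, hp.map _, ?_⟩
    rw [Polynomial.eval₂_map, ← hι, ← Polynomial.hom_eval₂, h0, map_zero]
  obtain ⟨f, hf⟩ := IsIntegrallyClosed.isIntegral_iff.1 hint
  have hfb : f * π b = π c := IsFractionRing.injective B (FractionRing B) (by
    rw [map_mul, hf, ← RingHom.comp_apply, ← hι, RingHom.comp_apply, ← map_mul,
      IsLocalization.mk'_spec, ← RingHom.comp_apply, hι, RingHom.comp_apply])
  obtain ⟨s, hs⟩ := hdiv b c f (nonZeroDivisors.ne_zero hb) hfb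
  refine ⟨s, ?_⟩
  rw [IsLocalization.eq_mk'_iff_mul_eq, ← map_mul]
  congr 1
  exact hπ (by rw [map_mul, hs]; exact hfb)

set_option backward.isDefEq.respectTransparency false in
theorem main {S : Scheme.{u}} {G X Y : Over S} [GrpObj G] (a : AlgGrp.Action G X) (φ : X ⟶ Y)
    [IsIntegral X.left] [IsLocallyNoetherian X.left] [Flat (snd G X).left] (hX : Pi1.IsNormalScheme X.left)
    (h : GIT.IsGeomQuot a φ) : Pi1.IsNormalScheme Y.left := by
  have : IsReduced Y.left := ⟨fun U => isReduced_of_injective (φ.left.app U).hom (h.sections U).1⟩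
  have : IrreducibleSpace Y.left := by
    have : Nonempty Y.left := ⟨φ.left (Classical.arbitrary _)⟩
    rw [irreducibleSpace_def, Set.top_eq_univ, ← h.surj.range_eq, ← Set.image_univ]
    exact (IrreducibleSpace.isIrreducible_univ X.left).image _ φ.left.continuous.continuousOn
  have : IsIntegral Y.left := isIntegral_of_irreducibleSpace_of_isReduced _
  intro y
  refine ⟨inferInstance, ?_⟩
  obtain ⟨U, hU, hyU, -⟩ := exists_isAffineOpen_mem_and_subset (X := Y.left) (x := y) (U := ⊤) trivial
  have : Nonempty U := ⟨⟨y, hyU⟩⟩
  let V := φ.left ⁻¹ᵁ U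
  obtain ⟨x₀, hx₀⟩ := h.surj y
  have : Nonempty V := ⟨⟨x₀, show φ.left x₀ ∈ U from hx₀.symm ▸ hyU⟩⟩
  have : IsIntegrallyClosed Γ(X.left, V) :=
    Groth.Agent.NormSect.isIntegrallyClosed_sections V fun x _ => (hX x).2
  let π : Γ(Y.left, U) →+* Γ(X.left, V) := (φ.left.app U).hom
  suffices IsIntegrallyClosed Γ(Y.left, U) from
    Groth.Agent.NormSect.isIntegrallyClosed_stalk U hU ⟨y, hyU⟩
  refine isIntegrallyClosed_of_sub π (h.sections U).1 fun b c f hb hfb => ?_
  have hb0 : π b ≠ 0 := fun e => hb ((h.sections U).1 (e.trans (map_zero π).symm))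
  -- `f` is invariant, as it is so where `b` is invertible
  have hf' : GIT.IsInvSection a φ U f := by
    have hinv : ∀ s, GIT.IsInvSection a φ U (π s) := fun s => (h.sections U).2.le ⟨s, rfl⟩
    let p := (snd G X).left
    let W := X.left.basicOpen (π b)
    have hW : (W : Set X.left).Nonempty := by
      rw [Set.nonempty_iff_ne_empty]
      intro e
      exact hb0 ((basicOpen_eq_bot_iff (π b)).1 (SetLike.coe_injective e))
    have : IsDominant W.ι := ⟨by
      show Dense (Set.range W.ι)
      rw [Scheme.Opens.range_ι]
      exact W.2.dense hW⟩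
    have : IsSchemeTheoreticallyDominant W.ι := IsSchemeTheoreticallyDominant.of_isDominant _
    have : IsSchemeTheoreticallyDominant (p ⁻¹ᵁ W).ι :=
      IsSchemeTheoreticallyDominant.of_isPullback (isPullback_morphismRestrict p W)
    let O := a.act.left ⁻¹ᵁ V ⊓ p ⁻¹ᵁ V
    let j := (p ⁻¹ᵁ W).ι
    have : QuasiCompact j := MorphismProperty.of_isPullback (P := @QuasiCompact)
      (isPullback_morphismRestrict p W) inferInstance
    let T := j ''ᵁ (j ⁻¹ᵁ O)
    have hTW : T ≤ p ⁻¹ᵁ W := fun t ht => by
      obtain ⟨t, -, rfl⟩ := ht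
      exact t.2
    have hTO : T ≤ O := fun t ht => by
      obtain ⟨t, ht, rfl⟩ := ht
      exact ht
    let σf := a.act.left.appLE V O inf_le_left
    let pf := p.appLE V O inf_le_right
    have hcancel : ∀ t : Γ((G ⊗ X).left, O), t * pf (π b) = 0 → t = 0 := by
      intro t ht
      apply Scheme.Hom.app_injective j O
      rw [map_zero]
      have hu : IsUnit (j.app O (pf (π b))) := by
        rw [Scheme.Opens.ι_app]
        show IsUnit ((G ⊗ X).left.presheaf.map (homOfLE hTO).op (p.appLE V O _ (π b)))
        rw [← CommRingCat.comp_apply, Scheme.Hom.appLE_map,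
          ← Scheme.Hom.map_appLE p hTW (homOfLE (X.left.basicOpen_le (π b))).op, CommRingCat.comp_apply]
        exact (RingedSpace.isUnit_res_basicOpen X.left.toRingedSpace _).map _
      refine hu.mul_left_eq_zero.mp ?_
      rw [← map_mul, ht, map_zero]
    show σf f = pf f
    rw [← sub_eq_zero]
    apply hcancel
    have hc : σf (π c) = pf (π c) := hinv c
    have hb' : σf (π b) = pf (π b) := hinv b
    rw [sub_mul, ← map_mul, hfb, ← hb', ← map_mul, hfb, hc, sub_self]
  exact (h.sections U).2.ge hf'

set_option backward.isDefEq.respectTransparency false in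
theorem flat_snd {k : Type u} [Field k] (G X : Over (Spec (CommRingCat.of k))) : Flat (snd G X).left :=
  MorphismProperty.pullback_snd (P := @Flat) G.hom X.hom inferInstance

/-- Over an algebraically closed field k of characteristic zero, let an affine group scheme G of finite
type act on a normal variety X (integral, separated, of finite type over k, with integrally closed
local rings) and let (Y, φ) be a geometric quotient of X by G with Y separated of finite type over
k. Then Y is normal. (The other two conditions of the published criterion are immediate from the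
definition of a geometric quotient, and its converse rests on a result quoted there without proof;
only this implication is stated. A geometric quotient is taken here with φ universally submersive.) -/
theorem result (k : Type u) [Field k] [IsAlgClosed k] [CharZero k]
    (G X Y : Over (Spec (CommRingCat.of k))) [GrpObj G] [IsAffine G.left] [LocallyOfFiniteType G.hom]
    [LocallyOfFiniteType X.hom] [QuasiCompact X.hom] [IsSeparated X.hom] [IsIntegral X.left]
    (hX : Pi1.IsNormalScheme X.left)
    [LocallyOfFiniteType Y.hom] [QuasiCompact Y.hom] [IsSeparated Y.hom]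
    (a : AlgGrp.Action G X) (φ : X ⟶ Y) (h : GIT.IsGeomQuot a φ) :
    Pi1.IsNormalScheme Y.left := by
  have : IsLocallyNoetherian X.left := LocallyOfFiniteType.isLocallyNoetherian X.hom
  have : Flat (snd G X).left := flat_snd G X
  exact main a φ hX h

end Groth.Agent.S18505
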