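import Groth.Statements.S18506
import Groth.Agent.Assoc.BundleLocSec
import Groth.Agent.Assoc.BundleQuot
import Groth.Agent.Assoc.TorsorSquare

set_option autoImplicit false
set_option backward.isDefEq.respectTransparency false
universe u
open CategoryTheory MonoidalCategory CartesianMonoidalCategory MonObj GrpObj AlgebraicGeometry Topology
open EqInt CategoryTheory.Limits

namespace Groth.Agent.S18506

/-- Over a field k, let an affine group scheme G of finite type act on X and on U (quasi-separated
schemes of finite type over k), and let π : U → B be a principal bundle quotient (π is G-invariant,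
flat and surjective and (σ, p₂) : G × U → U ×_B U is an isomorphism) which is locally trivial in the
Zariski topology: every point of B has an open neighbourhood over which π has a section. Then the
diagonal action of G on X × U has a principal bundle quotient X × U → Q in the category of schemes.
(The published hypothesis is that G is special, i.e. every principal G-bundle is Zariski-locally
trivial; only the local triviality of U → B is used, and it is what is assumed here.) -/
theorem result (k : Type u) [Field k]
    (G X U B : Over (Spec (CommRingCat.of k))) [GrpObj G] [IsAffine G.left] [LocallyOfFiniteType G.hom]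
    [LocallyOfFiniteType X.hom] [QuasiCompact X.hom] [QuasiSeparated X.hom]
    [LocallyOfFiniteType U.hom] [QuasiCompact U.hom] [QuasiSeparated U.hom]
    [LocallyOfFiniteType B.hom] [QuasiCompact B.hom] [QuasiSeparated B.hom]
    (a : AlgGrp.Action G X) (b : AlgGrp.Action G U) (π : U ⟶ B) (hinv : GIT.IsInvariant b π)
    [Flat π.left] [Surjective π.left] (hcart : IsIso (GIT.PsiY b π hinv))
    (hzar : ∀ y : ↥B.left, ∃ (W : B.left.Opens) (s : (↑W : Scheme.{u}) ⟶ U.left), y ∈ W ∧ s ≫ π.left = W.ι) :
    ∃ (Q : Over (Spec (CommRingCat.of k))) (ρ : X ⊗ U ⟶ Q) (hρ : GIT.IsInvariant (a.prod b) ρ),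
      Flat ρ.left ∧ Surjective ρ.left ∧ IsIso (GIT.PsiY (a.prod b) ρ hρ) := by
  have : QuasiCompact π.left := Groth.Agent.Assoc.quasiCompact_left π
  have hsq := Groth.Agent.Assoc.sq_of_psiY hcart
  obtain ⟨W, φ, ψ, heq, hpb⟩ := Groth.Agent.Assoc.exists_bundle_of_locally_section b a π hsq hzar
  have hq := Groth.Agent.Assoc.pullback_over b π hsq
  have hpbo : IsPullback (fst U X) φ π ψ :=
    IsPullback.of_map (Over.forget _) (Over.OverMorphism.ext hpb.w) hpb
  have hinv' : (b.prod a).act ≫ φ = snd G (U ⊗ X) ≫ φ := heq
  have hkp := Groth.Agent.Assoc.bundle_isPullback b a π φ ψ hq hinv' hpbo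
  let σ := β_ X U
  have hσ : (a.prod b).act ≫ σ.hom = (G ◁ σ.hom) ≫ (b.prod a).act := by
    apply CartesianMonoidalCategory.hom_ext
    · change (lift _ _ ≫ σ.hom) ≫ _ = (_ ≫ lift _ _) ≫ _
      simp only [σ, Category.assoc, braiding_hom_fst, lift_snd, lift_fst]
      rw [← MonoidalCategory.whiskerLeft_comp_assoc, braiding_hom_fst]
    · change (lift _ _ ≫ σ.hom) ≫ _ = (_ ≫ lift _ _) ≫ _
      simp only [σ, Category.assoc, braiding_hom_snd, lift_snd, lift_fst]
      rw [← MonoidalCategory.whiskerLeft_comp_assoc, braiding_hom_snd]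
  let ρ : X ⊗ U ⟶ W := σ.hom ≫ φ
  have hρ : GIT.IsInvariant (a.prod b) ρ := by
    change (a.prod b).act ≫ σ.hom ≫ φ = snd G (X ⊗ U) ≫ σ.hom ≫ φ
    rw [reassoc_of% hσ, hinv', whiskerLeft_snd_assoc]
  have hkρ : IsPullback (a.prod b).act (snd G (X ⊗ U)) ρ ρ :=
    hkp.of_iso ((MonoidalCategory.whiskerLeftIso G σ).symm) σ.symm σ.symm (Iso.refl W)
      (by
        show (b.prod a).act ≫ σ.inv = (G ◁ σ.inv) ≫ (a.prod b).act
        rw [← cancel_mono σ.hom, Category.assoc, Category.assoc, σ.inv_hom_id, Category.comp_id, hσ,
          ← MonoidalCategory.whiskerLeft_comp_assoc, σ.inv_hom_id, MonoidalCategory.whiskerLeft_id,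
          Category.id_comp])
      (by simp) (by simp [ρ]) (by simp [ρ])
  have : Flat φ.left := MorphismProperty.of_isPullback (P := @Flat) hpb ‹_›
  have : Surjective φ.left := MorphismProperty.of_isPullback (P := @Surjective) hpb ‹_›
  have : IsIso σ.hom.left := inferInstanceAs (IsIso ((Over.forget _).map σ.hom))
  have : Surjective σ.hom.left := inferInstance
  refine ⟨W, ρ, hρ, inferInstanceAs (Flat (σ.hom.left ≫ φ.left)),
    inferInstanceAs (Surjective (σ.hom.left ≫ φ.left)), ?_⟩
  let hL := hkρ.map (Over.forget _)
  have e : GIT.PsiY (a.prod b) ρ hρ = hL.isoPullback.hom := by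
    apply pullback.hom_ext
    · exact (pullback.lift_fst _ _ _).trans (hL.isoPullback_hom_fst).symm
    · exact (pullback.lift_snd _ _ _).trans (hL.isoPullback_hom_snd).symm
  exact e ▸ hL.isoPullback.isIso_hom

end Groth.Agent.S18506
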