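import Groth.Statements.S18507
import Groth.Agent.GrpAct.GeomQuot
import Groth.Agent.QuillenPts.Descent
import Mathlib.AlgebraicGeometry.Sites.Fpqc

set_option autoImplicit false
set_option backward.isDefEq.respectTransparency false
set_option linter.style.haveILetI false
universe u
open CategoryTheory MonoidalCategory CartesianMonoidalCategory MonObj GrpObj AlgebraicGeometry Topology
open EqInt

namespace Groth.Agent.S18507

open Limits

open Groth.Agent.GeomQuot in
theorem sections {S : Scheme.{u}} {G X Y X' Y' : Over S} [GrpObj G]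
    (a : AlgGrp.Action G X) (a' : AlgGrp.Action G X') (φ : X ⟶ Y) (φ' : X' ⟶ Y') (pr : X' ⟶ X) (α : Y' ⟶ Y)
    [Flat α.left] [Surjective α.left] [QuasiCompact α.left] [QuasiCompact φ'.left]
    [Flat pr.left] [Surjective pr.left] (hinv : GIT.IsInvariant a φ)
    (hL : IsPullback pr.left φ'.left φ.left α.left) (heq : a'.act ≫ pr = (G ◁ pr) ≫ a.act)
    (hs : ∀ U : Y'.left.Opens,
      Function.Injective (φ'.left.app U) ∧ Set.range (φ'.left.app U) = {f | GIT.IsInvSection a' φ' U f})
    (hsurj : Function.Surjective φ'.left.base) (U : Y.left.Opens) :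
    Function.Injective (φ.left.app U) ∧ Set.range (φ.left.app U) = {f | GIT.IsInvSection a φ U f} := by
  let V := φ.left ⁻¹ᵁ U
  let U' := α.left ⁻¹ᵁ U
  let W := φ'.left ⁻¹ᵁ U'
  have hW : W = pr.left ⁻¹ᵁ V := by
    show φ'.left ⁻¹ᵁ (α.left ⁻¹ᵁ U) = pr.left ⁻¹ᵁ (φ.left ⁻¹ᵁ U)
    rw [← Scheme.Hom.comp_preimage, ← hL.w, Scheme.Hom.comp_preimage]
  have key : ∀ (W : X'.left.Opens) (e : W ≤ pr.left ⁻¹ᵁ V), W = pr.left ⁻¹ᵁ V →
      Flat (pr.left.resLE V W e) ∧ Surjective (pr.left.resLE V W e) := by
    intro W e he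
    subst he
    rw [Scheme.Hom.resLE_eq_morphismRestrict]
    exact ⟨IsZariskiLocalAtTarget.restrict ‹_› V, IsZariskiLocalAtTarget.restrict ‹_› V⟩
  let p := pr.left.resLE V W hW.le
  obtain ⟨_, _⟩ : Flat p ∧ Surjective p := key W hW.le hW
  have hp := Flat.epi_of_flat_of_surjective p
  let q := φ.left ∣_ U
  let q' := φ'.left ∣_ U'
  let c := α.left ∣_ U
  haveI : Flat c := IsZariskiLocalAtTarget.restrict ‹_› U
  haveI : Surjective c := IsZariskiLocalAtTarget.restrict ‹_› U
  haveI : QuasiCompact c := IsZariskiLocalAtTarget.restrict ‹_› U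
  haveI : QuasiCompact q' := IsZariskiLocalAtTarget.restrict ‹_› U'
  haveI : Surjective φ'.left := ⟨hsurj⟩
  haveI : Surjective q' := IsZariskiLocalAtTarget.restrict ‹_› U'
  have hsq : p ≫ q = q' ≫ c := by
    rw [← cancel_mono U.ι, Category.assoc, Category.assoc, morphismRestrict_ι, morphismRestrict_ι,
      morphismRestrict_ι_assoc, Scheme.Hom.resLE_comp_ι_assoc, hL.w]
  have happ : ∀ {A B : Scheme.{u}} (g : A ⟶ B) (O : B.Opens) (s : Γ(B, O)),
      (g ∣_ O).appTop (res O s) = res (g ⁻¹ᵁ O) (g.app O s) := by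
    intro A B g O s
    have h := res_natural g O (g ⁻¹ᵁ O) le_rfl s
    rw [Scheme.Hom.resLE_eq_morphismRestrict, ← Scheme.Hom.app_eq_appLE] at h
    exact h
  haveI : IsSchemeTheoreticallyDominant φ'.left := ⟨Scheme.IdealSheafData.ext (funext fun O => by
    rw [Scheme.Hom.ker_apply, Scheme.IdealSheafData.ideal_bot, Pi.bot_apply]
    exact (RingHom.injective_iff_ker_eq_bot _).mp (hs O.1).1)⟩
  haveI : IsSchemeTheoreticallyDominant q' :=
    IsSchemeTheoreticallyDominant.of_isPullback (isPullback_morphismRestrict φ'.left U').flip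
  refine ⟨fun s₁ s₂ he => ?_, Set.Subset.antisymm ?_ ?_⟩
  · obtain ⟨χ₁, hχ₁⟩ := ev_surjective (res U s₁)
    obtain ⟨χ₂, hχ₂⟩ := ev_surjective (res U s₂)
    have h' : q ≫ χ₁ = q ≫ χ₂ := ev_injective (by rw [ev_comp, ev_comp, hχ₁, hχ₂, happ, happ, he])
    have := Flat.epi_of_flat_of_surjective c
    have h'' : c ≫ χ₁ = c ≫ χ₂ := Groth.Agent.QuillenPts.cancel_of_surjective q'
      (by rw [← reassoc_of% hsq, ← reassoc_of% hsq, h'])
    exact res_injective U (by rw [← hχ₁, ← hχ₂, (cancel_epi c).mp h''])
  · rintro _ ⟨s, rfl⟩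
    change a.act.left.appLE _ _ _ (φ.left.app U s) = (snd G X).left.appLE _ _ _ (φ.left.app U s)
    rw [Scheme.Hom.app_eq_appLE, ← CommRingCat.comp_apply, ← CommRingCat.comp_apply, Scheme.Hom.appLE_comp_appLE,
      Scheme.Hom.appLE_comp_appLE]
    exact congr($(appLE_congr_hom (GIT.IsInvariant.left hinv) U _ _ _) s)
  · intro f hf
    let f' : Γ(X'.left, W) := pr.left.appLE V W hW.le f
    have hf' : GIT.IsInvSection a' φ' U' f' := by
      unfold GIT.IsInvSection
      show a'.act.left.appLE W _ _ (pr.left.appLE V W hW.le f) = (snd G X').left.appLE W _ _ (pr.left.appLE V W hW.le f)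
      rw [← CommRingCat.comp_apply, ← CommRingCat.comp_apply, Scheme.Hom.appLE_comp_appLE, Scheme.Hom.appLE_comp_appLE]
      let O := a.act.left ⁻¹ᵁ V ⊓ (snd G X).left ⁻¹ᵁ V
      have e1 : a'.act.left ≫ pr.left = (G ◁ pr).left ≫ a.act.left := by
        rw [← Over.comp_left, ← Over.comp_left, heq]
      have e2 : (snd G X').left ≫ pr.left = (G ◁ pr).left ≫ (snd G X).left := by
        rw [← Over.comp_left, ← Over.comp_left, whiskerLeft_snd]
      have hO : a'.act.left ⁻¹ᵁ W ⊓ (snd G X').left ⁻¹ᵁ W ≤ (G ◁ pr).left ⁻¹ᵁ O := by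
        rw [hW]
        intro t ht
        refine ⟨?_, ?_⟩
        · show a.act.left ((G ◁ pr).left t) ∈ V
          rw [← Scheme.Hom.comp_apply, ← e1, Scheme.Hom.comp_apply]
          exact ht.1
        · show (snd G X).left ((G ◁ pr).left t) ∈ V
          rw [← Scheme.Hom.comp_apply, ← e2, Scheme.Hom.comp_apply]
          exact ht.2
      have he := congrArg ((G ◁ pr).left.appLE O _ hO).hom hf
      rw [← CommRingCat.comp_apply, ← CommRingCat.comp_apply, Scheme.Hom.appLE_comp_appLE, Scheme.Hom.appLE_comp_appLE] at he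
      exact (congr($(appLE_congr_hom e1 V _ _ _) f)).trans (he.trans (congr($(appLE_congr_hom e2 V _ _ _) f)).symm)
    obtain ⟨s', hs'⟩ := (hs U').2.ge hf'
    obtain ⟨χ₀, hχ₀⟩ := ev_surjective (res V f)
    obtain ⟨ψ', hψ'⟩ := ev_surjective (res U' s')
    have hq'ψ : q' ≫ ψ' = p ≫ χ₀ := ev_injective (by
      rw [ev_comp, ev_comp, hψ', hχ₀, happ, hs']
      exact (res_natural pr.left V W hW.le f).symm)
    have := Flat.epi_of_flat_of_surjective c
    let ψ : U.toScheme ⟶ Spec R0.{u} := EffectiveEpi.desc c ψ' fun {Z} g₁ g₂ hg => by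
      have hW' : pullback.fst c c ≫ ψ' = pullback.snd c c ≫ ψ' := by
        let π₁ := pullback.fst c c
        let π₂ := pullback.snd c c
        let r := pullback.snd q' π₁
        haveI : IsSchemeTheoreticallyDominant r := inferInstance
        haveI : Surjective r := inferInstance
        haveI : QuasiCompact r := inferInstance
        refine Groth.Agent.QuillenPts.cancel_of_surjective r ?_
        let x₁ := pullback.fst q' π₁ ≫ W.ι
        have hx₁ : x₁ ≫ φ'.left ≫ α.left = (r ≫ π₂) ≫ U'.ι ≫ α.left := by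
          show (pullback.fst q' π₁ ≫ W.ι) ≫ φ'.left ≫ α.left = _
          rw [Category.assoc, ← morphismRestrict_ι_assoc, ← morphismRestrict_ι, pullback.condition_assoc,
            Category.assoc, pullback.condition_assoc]
        let x₂ := hL.lift (x₁ ≫ pr.left) (r ≫ π₂ ≫ U'.ι)
          (by rw [Category.assoc, hL.w]; exact hx₁.trans (by simp only [Category.assoc]))
        have hr : Set.range x₂ ⊆ Set.range W.ι := by
          rw [Scheme.Opens.range_ι]
          rintro _ ⟨t, rfl⟩
          show φ'.left (x₂ t) ∈ U'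
          rw [← Scheme.Hom.comp_apply, hL.lift_snd]
          exact (π₂ (r t)).2
        let l := IsOpenImmersion.lift W.ι x₂ hr
        have hl : l ≫ W.ι = x₂ := IsOpenImmersion.lift_fac _ _ _
        have h1 : l ≫ q' = r ≫ π₂ := by
          rw [← cancel_mono U'.ι, Category.assoc, morphismRestrict_ι, reassoc_of% hl, hL.lift_snd, Category.assoc]
        have h2 : l ≫ p = pullback.fst q' π₁ ≫ p := by
          rw [← cancel_mono V.ι, Category.assoc, Category.assoc, Scheme.Hom.resLE_comp_ι, reassoc_of% hl, hL.lift_fst]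
          rfl
        show r ≫ π₁ ≫ ψ' = r ≫ π₂ ≫ ψ'
        rw [← pullback.condition_assoc, hq'ψ, ← reassoc_of% h1, hq'ψ, reassoc_of% h2]
      rw [← pullback.lift_fst g₁ g₂ hg, Category.assoc, hW', pullback.lift_snd_assoc]
    have hψ : c ≫ ψ = ψ' := EffectiveEpi.fac _ _ _
    have hqψ : q ≫ ψ = χ₀ := by
      rw [← cancel_epi p, reassoc_of% hsq, hψ, hq'ψ]
    obtain ⟨s, hs⟩ := (ConcreteCategory.bijective_of_isIso (res U)).2 (ev ψ)
    refine ⟨s, res_injective V ?_⟩
    rw [← happ, hs, ← ev_comp, hqψ, hχ₀]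

/-- Over a field k, let an affine group scheme G of finite type act on X, with X and Y separated of
finite type over k, and let φ : X → Y be G-invariant. Let α : Y' → Y be faithfully flat and
quasi-compact, let X' → Y' be the base change of φ with its induced action of G (the action on X'
for which X' → X is equivariant and X' → Y' is invariant). If (Y', φ') is a geometric quotient of X'
by G, then (Y, φ) is a geometric quotient of X by G. (The source takes X and Y integral; integrality
plays no role. A geometric quotient is taken here with universally submersive structure map, on both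
sides.) -/
theorem result (k : Type u) [Field k]
    (G X Y X' Y' : Over (Spec (CommRingCat.of k))) [GrpObj G] [IsAffine G.left] [LocallyOfFiniteType G.hom]
    [LocallyOfFiniteType X.hom] [QuasiCompact X.hom] [IsSeparated X.hom]
    [LocallyOfFiniteType Y.hom] [QuasiCompact Y.hom] [IsSeparated Y.hom]
    (a : AlgGrp.Action G X) (φ : X ⟶ Y) (hinv : GIT.IsInvariant a φ)
    (α : Y' ⟶ Y) [Flat α.left] [Surjective α.left] [QuasiCompact α.left]
    (pr : X' ⟶ X) (φ' : X' ⟶ Y') (hpb : IsPullback pr φ' φ α)
    (a' : AlgGrp.Action G X') (heq : a'.act ≫ pr = (G ◁ pr) ≫ a.act) (hinv' : GIT.IsInvariant a' φ')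
    (h : GIT.IsGeomQuot a' φ') :
    GIT.IsGeomQuot a φ := by
  have hL : IsPullback pr.left φ'.left φ.left α.left := hpb.map (Over.forget _)
  haveI : Surjective pr.left := MorphismProperty.of_isPullback hL.flip ‹Surjective α.left›
  haveI : Flat pr.left := MorphismProperty.of_isPullback hL.flip ‹Flat α.left›
  have hqc : QuasiCompact φ.left := by
    haveI : QuasiCompact (φ.left ≫ Y.hom) := by rw [Over.w φ]; infer_instance
    exact QuasiCompact.of_comp φ.left Y.hom
  haveI : QuasiCompact φ'.left := MorphismProperty.of_isPullback hL hqc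
  refine ⟨hinv, ?_, ?_, ?_, fun U => sections a a' φ φ' pr α hinv hL heq h.sections h.surj U⟩
  · intro y
    obtain ⟨y', rfl⟩ := α.left.surjective y
    obtain ⟨x', rfl⟩ := h.surj y'
    exact ⟨pr.left x', congr($(hL.w) x')⟩
  · intro z
    let β : Limits.pullback φ'.left φ'.left ⟶ Limits.pullback φ.left φ.left :=
      Limits.pullback.map _ _ _ _ pr.left pr.left α.left hL.w.symm hL.w.symm
    let w := Limits.pullback.fst φ.left φ.left ≫ φ.left
    obtain ⟨z₁, rfl⟩ := (Limits.pullback.fst w α.left).surjective z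
    let x₁ := hL.lift (Limits.pullback.fst w α.left ≫ Limits.pullback.fst φ.left φ.left) (Limits.pullback.snd w α.left)
      (by rw [Category.assoc]; exact Limits.pullback.condition)
    let x₂ := hL.lift (Limits.pullback.fst w α.left ≫ Limits.pullback.snd φ.left φ.left) (Limits.pullback.snd w α.left)
      (by rw [Category.assoc, ← Limits.pullback.condition]; exact Limits.pullback.condition)
    let gam : Limits.pullback w α.left ⟶ Limits.pullback φ'.left φ'.left :=
      Limits.pullback.lift x₁ x₂ (by simp only [x₁, x₂, hL.lift_snd])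
    have hgam : gam ≫ β = Limits.pullback.fst w α.left := by
      apply Limits.pullback.hom_ext
      · simp only [β, gam, x₁, Category.assoc, Limits.pullback.lift_fst, Limits.pullback.lift_fst_assoc, hL.lift_fst]
      · simp only [β, gam, x₂, Category.assoc, Limits.pullback.lift_snd, Limits.pullback.lift_snd_assoc, hL.lift_fst]
    obtain ⟨t, ht⟩ := h.orbit (gam z₁)
    refine ⟨(G ◁ pr).left t, ?_⟩
    have hcomm : (G ◁ pr).left ≫ GIT.PsiY a φ hinv = GIT.PsiY a' φ' h.inv ≫ β := by
      apply Limits.pullback.hom_ext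
      · simp only [β, GIT.PsiY, Category.assoc, Limits.pullback.lift_fst, Limits.pullback.lift_fst_assoc]
        rw [← Over.comp_left, ← Over.comp_left, heq]
      · simp only [β, GIT.PsiY, Category.assoc, Limits.pullback.lift_snd, Limits.pullback.lift_snd_assoc]
        rw [← Over.comp_left, ← Over.comp_left, whiskerLeft_snd]
    show GIT.PsiY a φ hinv ((G ◁ pr).left t) = _
    rw [← Scheme.Hom.comp_apply, hcomm, Scheme.Hom.comp_apply]
    show β (GIT.PsiY a' φ' h.inv t) = _
    rw [show GIT.PsiY a' φ' h.inv t = gam z₁ from ht, ← Scheme.Hom.comp_apply, hgam]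
  · intro X'' T i₁ i₂ f' sq
    let i := Limits.pullback.fst α.left i₂
    let k : Limits.pullback φ'.left i ⟶ X'' := sq.lift
      (Limits.pullback.snd φ'.left i ≫ Limits.pullback.snd α.left i₂)
      (Limits.pullback.fst φ'.left i ≫ pr.left)
      (by rw [Category.assoc, Category.assoc, hL.w, Limits.pullback.condition_assoc, Limits.pullback.condition])
    have hk : k ≫ f' = Limits.pullback.snd φ'.left i ≫ Limits.pullback.snd α.left i₂ := sq.lift_fst _ _ _
    have h1 : Topology.IsQuotientMap (Limits.pullback.snd φ'.left i).base :=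
      h.subm _ _ _ (IsPullback.of_hasPullback _ _).flip
    have h2 : Topology.IsQuotientMap (Limits.pullback.snd α.left i₂).base := Flat.isQuotientMap_of_surjective _
    have h3 := h2.comp h1
    rw [← TopCat.coe_comp, ← Scheme.Hom.comp_base, ← hk, Scheme.Hom.comp_base, TopCat.coe_comp] at h3
    exact Topology.IsQuotientMap.of_comp k.continuous f'.continuous h3

end Groth.Agent.S18507
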