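import Groth.Statements.S18508
import Groth.Agent.EqInt.StabGrp
import Groth.Agent.S3042
import Groth.Agent.GrpBasic.Cartier
import Groth.Agent.SmoothRed.Scheme

set_option autoImplicit false
set_option backward.isDefEq.respectTransparency false
universe u
open CategoryTheory MonoidalCategory CartesianMonoidalCategory MonObj GrpObj AlgebraicGeometry Topology
open EqInt

namespace Groth.Agent.S18508

/-- Over a field k, let an affine group scheme G of finite type act on a separated scheme X of finite
type over k, with stabilizer group scheme S = (G × X) ×_{X × X} X → X (the pullback of (σ, p₂) along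
the diagonal). Assume that k has characteristic zero or that G is finite étale over k. Then the
action is set-theoretically free (S → X is universally injective: the stabilizer of every geometric
point inside the group of geometric points is trivial) if and only if it is geometrically free (for
every point x of X the fibre of S over x is Spec κ(x) through its structure map). (The source takes
X integral and tests geometric points with values in an algebraic closure of k; the statement here
is over all points, which is what the argument gives pointwise.) -/
theorem result (k : Type u) [Field k]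
    (G X : Over (Spec (CommRingCat.of k))) [GrpObj G] [IsAffine G.left] [LocallyOfFiniteType G.hom]
    [LocallyOfFiniteType X.hom] [QuasiCompact X.hom] [IsSeparated X.hom]
    (hG : CharZero k ∨ (IsFinite G.hom ∧ Etale G.hom)) (a : AlgGrp.Action G X) :
    UniversallyInjective (Limits.pullback.snd (GIT.psi a (𝟙 X)).left (CartesianMonoidalCategory.lift (𝟙 X) (𝟙 X)).left) ↔
      ∀ x : ↥X.left, IsIso ((Limits.pullback.snd (GIT.psi a (𝟙 X)).left (CartesianMonoidalCategory.lift (𝟙 X) (𝟙 X)).left).fiberToSpecResidueField x) := by
  let δ := (CartesianMonoidalCategory.lift (𝟙 X) (𝟙 X)).left
  let ψ := (GIT.psi a (𝟙 X)).left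
  let p := Limits.pullback.snd ψ δ
  show UniversallyInjective p ↔ ∀ x, IsIso (p.fiberToSpecResidueField x)
  have hδ : δ ≫ (fst X X).left = 𝟙 X.left := congrArg (fun f : X ⟶ X => f.left) (lift_fst (𝟙 X) (𝟙 X))
  have : IsSeparated (fst X X).left := inferInstanceAs (IsSeparated (Limits.pullback.fst X.hom X.hom))
  have : IsClosedImmersion (δ ≫ (fst X X).left) := hδ ▸ inferInstance
  have : IsClosedImmersion δ := IsClosedImmersion.of_comp δ (fst X X).left
  have hp : p = Limits.pullback.fst ψ δ ≫ (snd G X).left := by
    have h2 : δ ≫ (snd X X).left = 𝟙 X.left :=
      congrArg (fun f : X ⟶ X => f.left) (lift_snd (𝟙 X) (𝟙 X))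
    have h3 : ψ ≫ (snd X X).left = (snd G X).left := congrArg (fun f : G ⊗ X ⟶ X => f.left) (lift_snd _ _)
    rw [← h3, Limits.pullback.condition_assoc, h2, Category.comp_id]
  have : IsAffineHom G.hom := isAffineHom_of_isAffine _
  have : IsAffineHom (snd G X).left := MorphismProperty.pullback_snd (P := @IsAffineHom) G.hom X.hom ‹_›
  have : LocallyOfFiniteType (snd G X).left :=
    inferInstanceAs (LocallyOfFiniteType (Limits.pullback.snd G.hom X.hom))
  have : LocallyOfFiniteType p := hp ▸ inferInstance
  have : IsSeparated p := hp ▸ inferInstance
  constructor
  · intro hui x
    let q := p.fiberToSpecResidueField x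
    obtain ⟨hgS⟩ := Groth.Agent.EqInt.nonempty_grpObj_stab a (𝟙 X)
    let : GrpObj (Over.mk p) := hgS
    let hgrp : GrpObj (Over.mk (Limits.pullback.snd p (X.left.fromSpecResidueField x))) :=
      Over.grpObjMkPullbackSnd
    have : UniversallyInjective q :=
      MorphismProperty.pullback_snd (P := @UniversallyInjective) p _ hui
    have : IsReduced (Limits.pullback p (X.left.fromSpecResidueField x)) := by
      have : Smooth q := by
        rcases hG with hk | ⟨-, het⟩
        · let φ := (Spec.preimage (X.left.fromSpecResidueField x ≫ X.hom)).hom
          have : CharZero (X.left.residueField x) := charZero_of_injective_ringHom φ.injective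
          exact Groth.Agent.Cartier.smooth_of_charZero (K := X.left.residueField x)
            (Limits.pullback.snd p (X.left.fromSpecResidueField x))
        · have : Etale (snd G X).left := MorphismProperty.pullback_snd (P := @Etale) G.hom X.hom het
          have : Mono (Limits.pullback.fst ψ δ) := inferInstance
          have : IsIso (Limits.pullback.diagonal (Limits.pullback.fst ψ δ)) :=
            (Limits.pullback.isIso_diagonal_iff _).mpr inferInstance
          have : IsOpenImmersion (Limits.pullback.diagonal (Limits.pullback.fst ψ δ)) := inferInstance
          have : FormallyUnramified (Limits.pullback.fst ψ δ) := inferInstance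
          have : FormallyUnramified (snd G X).left := inferInstance
          have : FormallyUnramified p := hp ▸ MorphismProperty.comp_mem (W := @FormallyUnramified) _ _ ‹_› ‹_›
          have : LocallyOfFiniteType q := MorphismProperty.pullback_snd (P := @LocallyOfFiniteType) p _ ‹_›
          have : LocallyOfFinitePresentation q := by
            rw [LocallyOfFinitePresentation.iff_locallyOfFiniteType]
            exact ‹_›
          have : FormallyUnramified q := MorphismProperty.pullback_snd (P := @FormallyUnramified) p _ ‹_›
          have : Etale q := Etale.of_formallyUnramified_of_flat q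
          infer_instance
      exact Groth.Agent.SmoothRed.isReduced_of_smooth_scheme q
    let e : Spec (X.left.residueField x) ⟶ Limits.pullback p (X.left.fromSpecResidueField x) :=
      (η[Over.mk (Limits.pullback.snd p (X.left.fromSpecResidueField x))]).left
    have he : e ≫ q = 𝟙 _ := Over.w η[Over.mk (Limits.pullback.snd p (X.left.fromSpecResidueField x))]
    have : IsClosedImmersion (e ≫ q) := he ▸ inferInstance
    have : IsSeparated q := MorphismProperty.pullback_snd (P := @IsSeparated) p _ ‹_›
    have : IsClosedImmersion e := IsClosedImmersion.of_comp e q
    have : Surjective e := ⟨fun z => ⟨q z, q.injective ((Scheme.Hom.comp_apply e q (q z)).symm.trans (congr($he (q z))))⟩⟩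
    have : IsIso e := isIso_of_isClosedImmersion_of_surjective e
    have : IsIso (e ≫ q) := he ▸ inferInstance
    exact IsIso.of_isIso_comp_left e q
  · intro h
    have : Mono p := (Groth.Agent.S3042.result _ _ p).mpr fun x => by have := h x; infer_instance
    have : IsIso (Limits.pullback.diagonal p) := (Limits.pullback.isIso_diagonal_iff _).mpr inferInstance
    exact (UniversallyInjective.iff_diagonal p).mpr inferInstance

end Groth.Agent.S18508
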