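import Groth.Statements.S18510
import Groth.Agent.Assoc.TorsorSquare
import Groth.Agent.FpqcDescent.Sep
import Groth.Agent.FpqcDescent.Affine
import Mathlib.AlgebraicGeometry.Morphisms.LocalFlatDescent

set_option autoImplicit false
set_option backward.isDefEq.respectTransparency false
universe u
open CategoryTheory MonoidalCategory CartesianMonoidalCategory MonObj GrpObj AlgebraicGeometry Topology
open EqInt CategoryTheory.Limits

namespace Groth.Agent.S18510

/-- Over a field k, let an affine group scheme G of finite type act on X, on Y and on U (quasi-separated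
schemes of finite type over k), let f : X → Y be G-equivariant, and let q_X : X × U → X_G and q_Y :
Y × U → Y_G be principal bundle quotients for the diagonal actions (each is invariant, flat and
surjective, and (σ, p₂) into the fibre square over the quotient is an isomorphism), X_G and Y_G
being quasi-separated of finite type over k. Let f_G : X_G → Y_G satisfy f_G ∘ q_X = q_Y ∘ (f ×
id_U) as maps X × U → Y_G. If f is proper, resp. flat, resp. smooth, then so is f_G. (Stated for
schemes; the source allows algebraic spaces and also treats regular embeddings and local complete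
intersection morphisms, which are not stated here.) -/
theorem result (k : Type u) [Field k]
    (G X Y U XG YG : Over (Spec (CommRingCat.of k))) [GrpObj G] [IsAffine G.left] [LocallyOfFiniteType G.hom]
    [LocallyOfFiniteType X.hom] [QuasiCompact X.hom] [QuasiSeparated X.hom]
    [LocallyOfFiniteType Y.hom] [QuasiCompact Y.hom] [QuasiSeparated Y.hom]
    [LocallyOfFiniteType U.hom] [QuasiCompact U.hom] [QuasiSeparated U.hom]
    [LocallyOfFiniteType XG.hom] [QuasiCompact XG.hom] [QuasiSeparated XG.hom]
    [LocallyOfFiniteType YG.hom] [QuasiCompact YG.hom] [QuasiSeparated YG.hom]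
    (a : AlgGrp.Action G X) (aY : AlgGrp.Action G Y) (b : AlgGrp.Action G U)
    (f : X ⟶ Y) (hf : AlgGrp.Action.IsEquivariant a aY f)
    (qX : X ⊗ U ⟶ XG) (hqX : GIT.IsInvariant (a.prod b) qX) [Flat qX.left] [Surjective qX.left]
    (hcX : IsIso (GIT.PsiY (a.prod b) qX hqX))
    (qY : Y ⊗ U ⟶ YG) (hqY : GIT.IsInvariant (aY.prod b) qY) [Flat qY.left] [Surjective qY.left]
    (hcY : IsIso (GIT.PsiY (aY.prod b) qY hqY))
    (fG : XG ⟶ YG) (hfG : qX ≫ fG = (f ▷ U) ≫ qY) :
    (IsProper f.left → IsProper fG.left) ∧ (Flat f.left → Flat fG.left) ∧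
      (Smooth f.left → Smooth fG.left) := by
  have : QuasiCompact (pullback.fst X.hom U.hom) :=
    MorphismProperty.pullback_fst (P := @QuasiCompact) _ _ ‹_›
  have : QuasiCompact (X ⊗ U).hom := inferInstanceAs (QuasiCompact (pullback.fst X.hom U.hom ≫ X.hom))
  have : QuasiCompact (Y ⊗ U).hom := inferInstanceAs (QuasiCompact (pullback.fst Y.hom U.hom ≫ Y.hom))
  have : QuasiCompact qX.left := Groth.Agent.Assoc.quasiCompact_left qX
  have : QuasiCompact qY.left := Groth.Agent.Assoc.quasiCompact_left qY
  have sm : IsPullback (f ▷ U) qX qY fG := by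
    refine Groth.Agent.Assoc.torsor_square (a.prod b) (aY.prod b) qX qY (f ▷ U) fG
      (Groth.Agent.Assoc.sq_of_psiY hcX) (Groth.Agent.Assoc.sq_of_psiY hcY) (fun T h x => ?_) hfG
    have e : lift h (x ≫ fst X U) ≫ a.act ≫ f = lift h ((x ≫ fst X U) ≫ f) ≫ aY.act := by
      rw [show a.act ≫ f = (G ◁ f) ≫ aY.act from hf, lift_whiskerLeft_assoc]
    rw [← lift_comp_fst_snd x, AlgGrp.Action.lift_prod_act, lift_whiskerRight, lift_whiskerRight,
      AlgGrp.Action.lift_prod_act, Category.assoc, e]
  have sG : IsPullback (fst X U) (f ▷ U) f (fst Y U) := by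
    refine ⟨⟨(whiskerRight_fst f U).symm⟩, ⟨PullbackCone.IsLimit.mk _
      (fun s => lift s.fst (s.snd ≫ snd Y U)) (fun s => lift_fst _ _) (fun s => ?_)
      (fun s m h₁ h₂ => ?_)⟩⟩
    · apply CartesianMonoidalCategory.hom_ext
      · simp [s.condition]
      · simp
    · apply CartesianMonoidalCategory.hom_ext
      · simp [h₁]
      · simp [← h₂]
  have hdesc : ∀ (P : MorphismProperty Scheme.{u}) [P.IsStableUnderBaseChange]
      [P.DescendsAlong (@Surjective ⊓ @Flat ⊓ @QuasiCompact)], P f.left → P fG.left := by
    intro P _ _ hP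
    exact MorphismProperty.of_isPullback_of_descendsAlong
      (Q := (@Surjective ⊓ @Flat ⊓ @QuasiCompact : MorphismProperty Scheme.{u}))
      (sm.map (Over.forget _)) ⟨⟨‹_›, ‹_›⟩, ‹QuasiCompact qY.left›⟩
      (MorphismProperty.of_isPullback (sG.map (Over.forget _)) hP)
  have : MorphismProperty.DescendsAlong @IsProper
      (@Surjective ⊓ @Flat ⊓ @QuasiCompact : MorphismProperty Scheme.{u}) := by
    rw [isProper_eq]
    infer_instance
  exact ⟨hdesc @IsProper, hdesc @Flat, hdesc @Smooth⟩

end Groth.Agent.S18510
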