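import Groth.Statements.S18515
import Mathlib

set_option autoImplicit false
set_option backward.isDefEq.respectTransparency false
set_option backward.isDefEq.respectTransparency.types false
open CategoryTheory CategoryTheory.Limits MonoidalCategory CartesianMonoidalCategory MonObj GrpObj AlgebraicGeometry
universe u
open NonAbH1

namespace Groth.Agent.S18515

/-- A class represented by a torsor over a complete variety is unramified at every discrete valuation
ring of the function field. The published lemma assumes G finite, k algebraically closed of
characteristic zero and K finitely generated over k; this row allows any field k, any field K and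
any affine k-group scheme of finite type: let k be a field, X a proper k-scheme, G an affine k-group
scheme of finite type and P a torsor over X, locally trivial for the etale topology, under the base
change of G. For every field K with a k-morphism e : Spec K ⟶ X (for instance the generic point of
an integral X) and every discrete valuation ring R with fraction field K containing k compatibly,
there is a torsor Q over Spec R under the base change of G whose restriction to Spec K is
equivariantly isomorphic to the pullback of P along e, both regarded as actions of the base change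
of G to Spec K through the canonical identifications of iterated base changes. -/
theorem result
    (k K R : Type u) [Field k] [Field K] [Algebra k K]
    [CommRing R] [IsDomain R] [IsDiscreteValuationRing R] [Algebra k R] [Algebra R K] [IsFractionRing R K]
    (hc : Spec.map (CommRingCat.ofHom (algebraMap R K)) ≫ Spec.map (CommRingCat.ofHom (algebraMap k R)) =
      Spec.map (CommRingCat.ofHom (algebraMap k K)))
    (X : Scheme.{u}) (x : X ⟶ Spec (CommRingCat.of k)) [IsProper x]
    (G : Over (Spec (CommRingCat.of k))) [GrpObj G] [IsAffine G.left] [LocallyOfFiniteType G.hom]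
    (P : NonAbH1.TorsorSch (Red.bc x G) Scheme.etalePrecoverage)
    (e : Spec (CommRingCat.of K) ⟶ X) (he : e ≫ x = Spec.map (CommRingCat.ofHom (algebraMap k K))) :
    ∃ Q : NonAbH1.TorsorSch (Red.bc (Spec.map (CommRingCat.ofHom (algebraMap k R))) G) Scheme.etalePrecoverage,
      Nonempty (NonAbH1.EquivIso
        ((Q.act.bc (Spec.map (CommRingCat.ofHom (algebraMap R K)))).restrict
          (ActBC.bcCompIso (Spec.map (CommRingCat.ofHom (algebraMap R K)))
            (Spec.map (CommRingCat.ofHom (algebraMap k R))) G hc).inv)
        ((P.act.bc e).restrict (ActBC.bcCompIso e x G he).inv)) := by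
  haveI : IsPrincipalIdealRing R := inferInstance
  have hex : ValuativeCriterion.Existence x := by
    have h : UniversallyClosed x := inferInstance
    rw [UniversallyClosed.eq_valuativeCriterion] at h
    exact h.1
  let S₀ : ValuativeCommSq x := { R := R, K := K, i₁ := e, i₂ := Spec.map (CommRingCat.ofHom (algebraMap k R)), commSq := ⟨he.trans hc.symm⟩ }
  obtain ⟨l, hl, hlx⟩ := (hex S₀).exists_lift
  let j := Spec.map (CommRingCat.ofHom (algebraMap R K))
  let m := Spec.map (CommRingCat.ofHom (algebraMap k R))
  change j ≫ l = e at hl
  change l ≫ x = m at hlx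
  let isoA := ActBC.bcCompIso l x G hlx
  let isoB := ActBC.bcCompIso j m G hc
  let isoC := ActBC.bcCompIso e x G he
  let isoD := ActBC.bcCompIso j l (Red.bc x G) hl
  let a := (P.act.bc l).restrict isoA.inv
  have ht : NonAbH1.IsTorsorFor Scheme.etalePrecoverage a := by
    obtain ⟨h1, h2⟩ := NonAbH1.isTorsorFor_bc l Scheme.etalePrecoverage P.isTorsor
    refine ⟨?_, h2⟩
    have e1 : lift a.act (snd _ _) = (isoA.inv ▷ Red.bc l P.X) ≫ lift (P.act.bc l).act (snd _ _) := by
      rw [comp_lift, whiskerRight_snd]; rfl
    haveI : IsIso (lift (P.act.bc l).act (snd _ _)) := h1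
    unfold NonAbH1.IsPseudoTorsorSch
    rw [e1]
    infer_instance
  refine ⟨⟨_, a, ht⟩, ⟨{ iso := ActBC.bcCompIso j l P.X hl, comm := ?_ }⟩⟩
  have hg : isoD.hom ≫ isoC.hom = (Over.pullback j).map isoA.hom ≫ isoB.hom := by
    ext
    apply pullback.hom_ext
    · simp only [Over.comp_left, Category.assoc, isoD, isoC, isoA, isoB, ActBC.bcCompIso_hom_left_fst, ActBC.bcCompIso_hom_left_fst_assoc,
        ActBC.pullback_map_left_fst_assoc]
    · exact (Over.w _).trans (Over.w _).symm
  have hg' : isoB.inv ≫ (Over.pullback j).map isoA.inv ≫ isoD.hom = isoC.inv := by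
    rw [← cancel_mono isoC.hom, Category.assoc, Category.assoc, hg, ← Functor.map_comp_assoc, isoA.inv_hom_id,
      CategoryTheory.Functor.map_id, Category.id_comp, isoB.inv_hom_id, isoC.inv_hom_id]
  have hcomm := (ActBC.equivIsoBcComp j l hl P.act).comm
  change (isoB.inv ▷ _) ≫ (a.bc j).act ≫ (ActBC.bcCompIso j l P.X hl).hom =
    (_ ◁ (ActBC.bcCompIso j l P.X hl).hom) ≫ (isoC.inv ▷ _) ≫ (P.act.bc e).act
  rw [AlgGrp.Action.bc_restrict, AlgGrp.Action.restrict_act, Category.assoc]
  change _ ≫ _ ≫ _ ≫ (ActBC.equivIsoBcComp j l hl P.act).iso.hom = _
  rw [hcomm, AlgGrp.Action.restrict_act, ← whisker_exchange_assoc, ← whisker_exchange_assoc]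
  rw [← comp_whiskerRight_assoc, ← comp_whiskerRight_assoc, Category.assoc]
  erw [hg']
  rfl

end Groth.Agent.S18515
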