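import Groth.Statements.S18519
import Groth.Agent.RedNorm.Separable

set_option autoImplicit false
set_option linter.style.haveILetI false
set_option backward.isDefEq.respectTransparency false
open Groth.Agent
universe u
open scoped TensorProduct
open Brauer

namespace Groth.Agent.S18519

/-- For a field K with maximal abelian extension K_ab, cd(K_ab) ≤ 1 if and only if for every etale
K-algebra E the restriction map Br(E) ⟶ Br(E ⊗_K K_ab) is trivial; the same holds with the maximal
solvable extension. Stated here for an arbitrary separable algebraic extension F of K in place of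
K_ab (the published lemma takes for F the maximal abelian or the maximal solvable extension of K;
this row allows any separable algebraic extension), with cd(F) ≤ 1 unfolded by the Brauer-group
criterion (every finite separable extension of F has trivial Brauer group) and with etale algebras
replaced by their field factors: (a) every finite-dimensional central division algebra over a finite
separable extension F′ of F is F′ itself; if and only if (b) for every finite separable extension E
of K, every finite-dimensional central division algebra D over E and every field M containing E and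
F compatibly over K, the base change M ⊗_E D is isomorphic over M to a matrix algebra over M. -/
theorem result
    (K F : Type u) [Field K] [Field F] [Algebra K F] [Algebra.IsSeparable K F] :
    (∀ (F' : Type u) [Field F'] [Algebra F F'] [FiniteDimensional F F'] [Algebra.IsSeparable F F']
        (D : Type u) [DivisionRing D] [Algebra F' D] [Algebra.IsCentral F' D] [FiniteDimensional F' D],
        Module.finrank F' D = 1) ↔
    (∀ (E : Type u) [Field E] [Algebra K E] [FiniteDimensional K E] [Algebra.IsSeparable K E]
        (D : Type u) [DivisionRing D] [Algebra E D] [Algebra.IsCentral E D] [FiniteDimensional E D]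
        (M : Type u) [Field M] [Algebra K M] [Algebra E M] [Algebra F M] [IsScalarTower K E M]
        [IsScalarTower K F M],
        ∃ n : ℕ, Nonempty ((M ⊗[E] D) ≃ₐ[M] Matrix (Fin n) (Fin n) M)) := by
  classical
  constructor
  · intro ha E _ _ _ _ D _ _ _ _ M _ _ _ _ _ _
    haveI : Algebra.IsAlgebraic K E := Algebra.IsAlgebraic.of_finite K E
    let bE := Module.finBasis K E
    let S : Set M := Set.range fun i => algebraMap E M (bE i)
    have hsepx : ∀ x ∈ S, IsSeparable F x := by
      rintro _ ⟨i, rfl⟩
      have h : IsSeparable K (bE i) := Algebra.IsSeparable.isSeparable K (bE i)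
      exact (IsSeparable.map (IsScalarTower.toAlgHom K E M) (algebraMap E M).injective h).tower_top F
    let F' : IntermediateField F M := IntermediateField.adjoin F S
    haveI : FiniteDimensional F F' :=
      IntermediateField.finiteDimensional_adjoin fun x hx => (hsepx x hx).isIntegral
    haveI : Algebra.IsSeparable F F' := IntermediateField.isSeparable_adjoin_iff_isSeparable F M |>.mpr hsepx
    have hmem : ∀ e : E, algebraMap E M e ∈ F' := by
      intro e
      rw [← bE.sum_repr e, map_sum]
      refine sum_mem fun i _ => ?_
      rw [Algebra.smul_def, map_mul, ← IsScalarTower.algebraMap_apply K E M, IsScalarTower.algebraMap_apply K F M]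
      exact mul_mem (F'.algebraMap_mem _) (IntermediateField.subset_adjoin F S ⟨i, rfl⟩)
    letI : Algebra E F' := ((algebraMap E M).codRestrict F'.toSubalgebra.toSubring hmem).toAlgebra
    haveI := Azumaya.isAzumaya_of_csa E D
    haveI := Azumaya.isAzumaya_baseChange (R := E) (A := D) F'
    obtain ⟨_, _⟩ := Azumaya.csa_of_isAzumaya F' (F' ⊗[E] D)
    obtain ⟨m, D', _, _, hm, _, _, ⟨e⟩⟩ := Brauer.exists_division (k := F') (F' ⊗[E] D)
    have h1 := ha F' D'
    have hbij : Function.Bijective (Algebra.ofId F' D') :=
      bijective_algebraMap_of_linearEquiv (LinearEquiv.ofFinrankEq F' D' (by rw [h1, Module.finrank_self]))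
    have hs : Curves.Splits E D F' := ⟨m, hm, ⟨e.trans (AlgEquiv.ofBijective _ hbij).symm.mapMatrix⟩⟩
    obtain ⟨n, -, hn⟩ := Brauer.exists_degree (k := E) D
    let φ : F' →ₐ[E] M := { algebraMap F' M with commutes' := fun e => rfl }
    obtain ⟨r, -, hr⟩ := RedNorm.splits_map hn φ hs
    exact ⟨r, hr⟩
  · intro hb F' _ _ _ _ D _ _ _ _
    letI : Algebra K F' := ((algebraMap F F').comp (algebraMap K F)).toAlgebra
    haveI : IsScalarTower K F F' := IsScalarTower.of_algebraMap_eq fun _ => rfl
    haveI : Algebra.IsSeparable K F' := Algebra.IsSeparable.trans K F F'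
    let b := Module.finBasis F' D
    let N := Module.finrank F' D
    let T : Set F' := (Set.range fun p : Fin N × Fin N × Fin N => b.repr (b p.1 * b p.2.1) p.2.2) ∪
      Set.range fun i => b.repr 1 i
    let E : IntermediateField K F' := IntermediateField.adjoin K T
    haveI : FiniteDimensional K E := by
      have : Finite T := ((Set.finite_range _).union (Set.finite_range _)).to_subtype
      exact IntermediateField.finiteDimensional_adjoin fun x _ => (Algebra.IsSeparable.isSeparable K x).isIntegral
    haveI : Algebra.IsSeparable K E := Algebra.isSeparable_tower_bot_of_isSeparable K E F'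
    haveI : IsScalarTower E F' D := inferInstance
    let C : Set D := {x | ∀ i, b.repr x i ∈ E}
    have hsum : ∀ x : D, x ∈ C → ∀ y : D, y ∈ C → x * y ∈ C := by
      intro x hx y hy l
      rw [← b.sum_repr x, ← b.sum_repr y, Finset.sum_mul_sum]
      simp only [map_sum, Finsupp.finsetSum_apply, smul_mul_smul_comm, map_smul, Finsupp.smul_apply, smul_eq_mul]
      exact sum_mem fun i _ => sum_mem fun j _ =>
        mul_mem (mul_mem (hx i) (hy j)) (IntermediateField.subset_adjoin K T (Or.inl ⟨(i, j, l), rfl⟩))
    have hone : (1 : D) ∈ C := fun i => IntermediateField.subset_adjoin K T (Or.inr ⟨i, rfl⟩)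
    let D₀ : Subalgebra E D :=
      { carrier := C
        mul_mem' := fun {x y} hx hy => hsum x hx y hy
        one_mem' := hone
        add_mem' := fun {x y} hx hy l => by rw [map_add, Finsupp.add_apply]; exact add_mem (hx l) (hy l)
        zero_mem' := fun l => by rw [map_zero, Finsupp.zero_apply]; exact zero_mem _
        algebraMap_mem' := fun c l => by
          rw [Algebra.algebraMap_eq_smul_one, ← IsScalarTower.algebraMap_smul F' c (1 : D), map_smul, Finsupp.smul_apply,
            smul_eq_mul]
          exact mul_mem c.2 (hone l) }
    have hbmem : ∀ i, b i ∈ D₀ := fun i l => by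
      rw [b.repr_self, Finsupp.single_apply]; split_ifs; exacts [one_mem _, zero_mem _]
    let b₀ : Module.Basis (Fin N) E D₀ := Module.Basis.ofEquivFun
      { toFun := fun x i => ⟨b.repr (x : D) i, x.2 i⟩
        invFun := fun c => ∑ i, c i • (⟨b i, hbmem i⟩ : D₀)
        map_add' := fun x y => funext fun i => Subtype.ext (by simp)
        map_smul' := fun c x => funext fun i => Subtype.ext (by
          show b.repr (c • (x : D)) i = (c : F') * b.repr (x : D) i
          rw [← IsScalarTower.algebraMap_smul F' c (x : D), map_smul, Finsupp.smul_apply, smul_eq_mul]; rfl)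
        left_inv := fun x => Subtype.ext (by
          rw [AddSubmonoidClass.coe_finsetSum]
          conv_rhs => rw [← b.sum_repr (x : D)]
          exact Finset.sum_congr rfl fun i _ => (IsScalarTower.algebraMap_smul F' _ (b i)).symm)
        right_inv := fun c => funext fun i => Subtype.ext (by
          show b.repr ((∑ j, c j • (⟨b j, hbmem j⟩ : D₀) : D₀) : D) i = c i
          rw [AddSubmonoidClass.coe_finsetSum]
          simp only [SetLike.val_smul, ← IsScalarTower.algebraMap_smul F' (c _) (b _)]
          rw [b.repr_sum_self]; rfl) }
    have hb₀ : ∀ i, ((b₀ i : D₀) : D) = b i := fun i => by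
      simp only [b₀, Module.Basis.coe_ofEquivFun, LinearEquiv.coe_symm_mk, AddSubmonoidClass.coe_finsetSum]
      rw [Finset.sum_eq_single i]
      · simp
      · intro j _ hj; simp [Pi.single_eq_of_ne hj]
      · simp
    haveI : FiniteDimensional E D₀ := Module.Finite.of_basis b₀
    letI : DivisionRing D₀ := divisionRingOfFiniteDimensional E D₀
    haveI : Algebra.IsCentral E D₀ := ⟨fun z hz => by
      have hzD : (z : D) ∈ Subalgebra.center F' D := Subalgebra.mem_center_iff.2 fun y => by
        rw [← b.sum_repr y, Finset.sum_mul, Finset.mul_sum]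
        refine Finset.sum_congr rfl fun i _ => ?_
        rw [smul_mul_assoc, mul_smul_comm, ← hb₀ i]
        exact congrArg (_ • ·) (congrArg Subtype.val (Subalgebra.mem_center_iff.1 hz (b₀ i)))
      obtain ⟨c, hc⟩ := Algebra.mem_bot.1 (Algebra.IsCentral.out hzD)
      obtain ⟨i, hi⟩ : ∃ i, b.repr (1 : D) i ≠ 0 := by
        by_contra! h
        exact one_ne_zero (α := D) (b.repr.injective (Finsupp.ext fun i => by rw [h, map_zero, Finsupp.zero_apply]))
      have h1 := z.2 i
      rw [← hc, Algebra.algebraMap_eq_smul_one, map_smul, Finsupp.smul_apply, smul_eq_mul] at h1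
      have hcE : c ∈ E := by
        have := mul_mem h1 (inv_mem (hone i))
        rwa [mul_assoc, mul_inv_cancel₀ hi, mul_one] at this
      exact Algebra.mem_bot.2 ⟨⟨c, hcE⟩, Subtype.ext hc⟩⟩
    obtain ⟨r, ⟨e⟩⟩ := hb E D₀ F'
    let μ : F' ⊗[E] D₀ →ₐ[F'] D :=
      Algebra.TensorProduct.lift (Algebra.ofId F' D) D₀.val fun c x => Algebra.commutes c _
    have hμ : Function.Surjective μ := fun y => by
      refine ⟨∑ i, b.repr y i ⊗ₜ[E] b₀ i, ?_⟩
      rw [map_sum]
      conv_rhs => rw [← b.sum_repr y]
      refine Finset.sum_congr rfl fun i _ => ?_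
      rw [Algebra.TensorProduct.lift_tmul, Algebra.smul_def]
      exact congrArg (_ * ·) (hb₀ i)
    have hμbij : Function.Bijective μ := ⟨(LinearMap.injective_iff_surjective_of_finrank_eq_finrank (f := μ.toLinearMap)
      (by rw [Module.finrank_baseChange, Module.finrank_eq_card_basis b₀, Fintype.card_fin])).mpr hμ, hμ⟩
    let f : D ≃ₐ[F'] Matrix (Fin r) (Fin r) F' := (AlgEquiv.ofBijective μ hμbij).symm.trans e
    have hr1 : r ≤ 1 := by
      by_contra hr
      have h01 : (⟨0, by omega⟩ : Fin r) ≠ (⟨1, by omega⟩ : Fin r) := by simp
      have hM : (Matrix.single (⟨0, by omega⟩ : Fin r) (⟨1, by omega⟩ : Fin r) (1 : F') : Matrix (Fin r) (Fin r) F') *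
          Matrix.single (⟨0, by omega⟩ : Fin r) (⟨1, by omega⟩ : Fin r) (1 : F') = 0 :=
        Matrix.single_mul_single_of_ne (h := h01.symm) ..
      have h0 := congrArg f.symm hM
      rw [map_mul, map_zero, mul_self_eq_zero, map_eq_zero_iff _ f.symm.injective] at h0
      have := congrFun (congrFun h0 ⟨0, by omega⟩) ⟨1, by omega⟩
      simp at this
    have := f.toLinearEquiv.finrank_eq
    rw [Module.finrank_matrix, Fintype.card_fin, Module.finrank_self, mul_one] at this
    have hpos : 0 < Module.finrank F' D := Module.finrank_pos
    rcases Nat.le_one_iff_eq_zero_or_eq_one.1 hr1 with rfl | rfl <;> omega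

end Groth.Agent.S18519
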