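import Groth.Statements.S1852
import Groth.Agent.CycDetLib.Filt

set_option autoImplicit false
universe u
open CycAlg

namespace Groth.Agent.S1852

/-- Let R be a Noetherian local ring, M a finite R-module and 𝔮 a minimal prime of the support of M.
There are x₁, …, x_l in M such that 𝔮 is not in the support of M/⟨x₁, …, x_l⟩ and each ⟨x₁, …,
x_i⟩/⟨x₁, …, x_{i−1}⟩ is isomorphic to R/𝔮; and for any such sequence l equals the length of M_𝔮
over R_𝔮. -/
theorem result (R : Type u) [CommRing R] [IsNoetherianRing R] [IsLocalRing R] (M : Type u) [AddCommGroup M] [Module R M] [Module.Finite R M] (q : PrimeSpectrum R) (hq : Minimal (fun p : PrimeSpectrum R => p ∈ Module.support R M) q) : (∃ (l : ℕ) (x : Fin l → M), q ∉ Module.support R (M ⧸ Submodule.span R (Set.range x)) ∧ ∀ i : Fin l, Nonempty ((↥(CycDet.spanBefore R M x (i + 1)) ⧸ (CycDet.spanBefore R M x i).submoduleOf (CycDet.spanBefore R M x (i + 1))) ≃ₗ[R] (R ⧸ q.asIdeal))) ∧ ∀ (l : ℕ) (x : Fin l → M), q ∉ Module.support R (M ⧸ Submodule.span R (Set.range x)) →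 (∀ i : Fin l, Nonempty ((↥(CycDet.spanBefore R M x (i + 1)) ⧸ (CycDet.spanBefore R M x i).submoduleOf (CycDet.spanBefore R M x (i + 1))) ≃ₗ[R] (R ⧸ q.asIdeal))) → (l : ℕ∞) = Module.length (Localization.AtPrime q.asIdeal) (LocalizedModule q.asIdeal.primeCompl M) := by
  classical
  let p := q.asIdeal
  refine ⟨?_, fun l x hx hxq => ?_⟩
  · let S : Set (Submodule R M) := {N | ∃ (l : ℕ) (x : Fin l → M), N = Submodule.span R (Set.range x) ∧
      ∀ i : Fin l, Nonempty ((↥(CycDet.spanBefore R M x (i + 1)) ⧸ (CycDet.spanBefore R M x i).submoduleOf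
        (CycDet.spanBefore R M x (i + 1))) ≃ₗ[R] (R ⧸ p))}
    have h0 : (⊥ : Submodule R M) ∈ S := ⟨0, Fin.elim0, by simp, fun i => i.elim0⟩
    obtain ⟨N, ⟨l, x, rfl, hxq⟩, hmax⟩ := set_has_maximal_iff_noetherian.2 inferInstance S ⟨⊥, h0⟩
    refine ⟨l, x, fun hq' => ?_, hxq⟩
    let N := Submodule.span R (Set.range x)
    have hmin : q.asIdeal ∈ (Module.annihilator R (M ⧸ N)).minimalPrimes := by
      refine ⟨⟨q.isPrime, Module.mem_support_iff_of_finite.1 hq'⟩, fun J ⟨hJ, hJ'⟩ hle => ?_⟩
      have hJs : (⟨J, hJ⟩ : PrimeSpectrum R) ∈ Module.support R M :=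
        Module.support_subset_of_surjective N.mkQ N.mkQ_surjective (Module.mem_support_iff_of_finite.2 hJ')
      exact hq.2 hJs hle
    obtain ⟨-, z, hz⟩ := Submodule.isAssociatedPrime_iff.1
      (Module.associatedPrimes.minimalPrimes_annihilator_subset_associatedPrimes R (M ⧸ N) hmin)
    obtain ⟨m, rfl⟩ := N.mkQ_surjective z
    have hm : ∀ r : R, r • m ∈ N ↔ r ∈ p := fun r => by
      show r • m ∈ N ↔ r ∈ q.asIdeal
      rw [hz, Submodule.mem_colon_singleton, Submodule.mem_bot, ← map_smul, Submodule.mkQ_apply,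
        Submodule.Quotient.mk_eq_zero]
    let y : Fin (l + 1) → M := Fin.snoc x m
    have hcs : ∀ j : Fin l, y j.castSucc = x j := fun j => Fin.snoc_castSucc (α := fun _ => M) m x j
    have hlast : y (Fin.last l) = m := Fin.snoc_last (α := fun _ => M) m x
    have hb : ∀ k, k ≤ l → CycDet.spanBefore R M y k = CycDet.spanBefore R M x k := fun k hk => by
      refine le_antisymm ((CycDetLib.before_le_iff y k _).2 fun j hj => ?_) ((CycDetLib.before_le_iff x k _).2 fun j hj => ?_)
      · obtain ⟨j', rfl⟩ : ∃ j' : Fin l, j'.castSucc = j := ⟨⟨j, by omega⟩, rfl⟩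
        rw [hcs]
        exact CycDetLib.mem_before x j' hj
      · rw [← hcs j]
        exact CycDetLib.mem_before y j.castSucc hj
    have hbl : CycDet.spanBefore R M y l = N := (hb l le_rfl).trans (CycDetLib.before_of_le x le_rfl)
    have hbl' : CycDet.spanBefore R M y (l + 1) = N ⊔ Submodule.span R {m} := by
      have h := CycDetLib.before_succ (R := R) y (Fin.last l)
      rw [Fin.val_last, hbl, hlast] at h
      exact h
    have hyq : ∀ i : Fin (l + 1), Nonempty ((↥(CycDet.spanBefore R M y (i + 1)) ⧸ (CycDet.spanBefore R M y i).submoduleOf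
        (CycDet.spanBefore R M y (i + 1))) ≃ₗ[R] (R ⧸ p)) := fun i => by
      induction i using Fin.lastCases with
      | cast j =>
        rw [Fin.val_castSucc, hb j (by omega), hb (j + 1) (by omega)]
        exact hxq j
      | last =>
        rw [Fin.val_last, hbl, hbl']
        let P := N ⊔ Submodule.span R {m}
        let φ : R →ₗ[R] ↥P ⧸ N.submoduleOf P := (N.submoduleOf P).mkQ ∘ₗ
          LinearMap.toSpanSingleton R ↥P ⟨m, Submodule.mem_sup_right (Submodule.mem_span_singleton_self m)⟩
        have hφ : Function.Surjective φ := fun w => by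
          obtain ⟨⟨w, hw⟩, rfl⟩ := Submodule.Quotient.mk_surjective _ w
          obtain ⟨n, hn, v, hv, rfl⟩ := Submodule.mem_sup.1 hw
          obtain ⟨r, rfl⟩ := Submodule.mem_span_singleton.1 hv
          refine ⟨r, (Submodule.Quotient.eq _).2 ?_⟩
          show r • m - (n + r • m) ∈ N
          rw [sub_add_cancel_right]
          exact N.neg_mem hn
        have hker : LinearMap.ker φ = p := by
          ext r
          rw [LinearMap.mem_ker]
          exact (Submodule.Quotient.mk_eq_zero _).trans (hm r)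
        exact ⟨(LinearMap.quotKerEquivOfSurjective φ hφ).symm.trans (Submodule.quotEquivOfEq _ _ hker)⟩
    have hlt : N < Submodule.span R (Set.range y) := by
      rw [← CycDetLib.before_of_le y le_rfl, hbl']
      refine lt_of_le_of_ne le_sup_left fun h => q.isPrime.ne_top (Ideal.eq_top_iff_one _ |>.2 ((hm 1).1 ?_))
      rw [one_smul, h]
      exact Submodule.mem_sup_right (Submodule.mem_span_singleton_self m)
    exact hmax _ ⟨l + 1, y, rfl, hyq⟩ hlt
  · let N := Submodule.span R (Set.range x)
    let y : Fin l → N := fun i => ⟨x i, Submodule.subset_span ⟨i, rfl⟩⟩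
    have hmap : ∀ k, (CycDet.spanBefore R N y k).map N.subtype = CycDet.spanBefore R M x k := fun k => by
      rw [CycDet.spanBefore, CycDet.spanBefore, Submodule.map_span, ← Set.image_comp]
      rfl
    have hy : Submodule.span R (Set.range y) = ⊤ := by
      refine Submodule.map_injective_of_injective N.injective_subtype ?_
      rw [Submodule.map_span, ← Set.range_comp, Submodule.map_top, Submodule.range_subtype]
      rfl
    have hyq : ∀ i : Fin l, Nonempty ((↥(CycDet.spanBefore R N y (i + 1)) ⧸ (CycDet.spanBefore R N y i).submoduleOf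
        (CycDet.spanBefore R N y (i + 1))) ≃ₗ[R] (R ⧸ p)) := fun i => by
      obtain ⟨e⟩ := hxq i
      let P := CycDet.spanBefore R N y (i + 1)
      let e1 : ↥P ≃ₗ[R] ↥(CycDet.spanBefore R M x (i + 1)) :=
        (Submodule.equivMapOfInjective N.subtype N.injective_subtype P).trans (LinearEquiv.ofEq _ _ (hmap _))
      refine ⟨(Submodule.Quotient.equiv _ _ e1 ?_).trans e⟩
      ext ⟨w, hw⟩
      rw [Submodule.mem_map]
      constructor
      · rintro ⟨v, hv, hvw⟩
        show w ∈ CycDet.spanBefore R M x i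
        rw [← hmap]
        exact ⟨v.1, hv, congrArg Subtype.val hvw⟩
      · intro h
        obtain ⟨v, hv, rfl⟩ := (hmap i).symm ▸ (show w ∈ CycDet.spanBefore R M x i from h)
        exact ⟨⟨v, CycDetLib.before_mono y (Nat.le_succ _) hv⟩, hv, rfl⟩
    let ι : N →ₗ[R] LocalizedModule q.asIdeal.primeCompl M :=
      LocalizedModule.mkLinearMap q.asIdeal.primeCompl M ∘ₗ N.subtype
    haveI : IsLocalizedModule q.asIdeal.primeCompl ι := {
      map_units := IsLocalizedModule.map_units (LocalizedModule.mkLinearMap q.asIdeal.primeCompl M)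
      surj := fun v => by
        obtain ⟨⟨m, s⟩, hms⟩ := IsLocalizedModule.surj q.asIdeal.primeCompl
          (LocalizedModule.mkLinearMap q.asIdeal.primeCompl M) v
        obtain ⟨r, hr, hr'⟩ := (Module.notMem_support_iff' (p := q)).1 hx (Submodule.Quotient.mk m)
        rw [← Submodule.Quotient.mk_smul, Submodule.Quotient.mk_eq_zero] at hr'
        refine ⟨⟨⟨r • m, hr'⟩, ⟨r, hr⟩ * s⟩, ?_⟩
        show (r * (s : R)) • v = LocalizedModule.mkLinearMap q.asIdeal.primeCompl M (r • m)
        rw [map_smul, ← hms, mul_smul]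
        rfl
      exists_of_eq := fun {a b} h => by
        obtain ⟨c, hc⟩ := IsLocalizedModule.exists_of_eq (S := q.asIdeal.primeCompl)
          (f := LocalizedModule.mkLinearMap q.asIdeal.primeCompl M) h
        exact ⟨c, Subtype.ext hc⟩ }
    exact (CycDetLib.length_localized q.asIdeal y hy hyq ι).symm

end Groth.Agent.S1852
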