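import Groth.Statements.S18523
import Groth.Agent.ParCurveLib.Curve
-- import your own Groth.Agent.* helpers here

set_option autoImplicit false
set_option backward.isDefEq.respectTransparency false
universe u
open CategoryTheory CategoryTheory.Limits AlgebraicGeometry
open ParSh

namespace Groth.Agent.S18523

/-- Let k be an algebraically closed field of characteristic zero, X a smooth proper geometrically
connected curve over k (topological dimension one) of genus g ≥ 2, and I the ideal of a reduced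
effective Cartier divisor on X. Let F be a finite locally free O_X-module of rank r with a parabolic
structure 𝓕 along I which is parabolic stable: for every finite locally free sub-module F₁ → F of
rank r₁ with 0 < r₁ < r, the structure induced on F₁ has r·par-deg(F₁) < r₁·par-deg(F). Let 0 → F' →
F → F'' → 0 be a parabolic extension (a short exact sequence in which F' carries the structure
induced from 𝓕 as a sub-module and F'' the structure induced as a quotient) with F' and F'' finite
locally free. Then every parabolic homomorphism F'' → F' is zero. The published statement tests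
stability on quotient bundles; on a smooth proper curve this singles out the same parabolic bundles
as the test on sub-modules used here. -/
theorem result (k : Type u) [Field k] [IsAlgClosed k] [CharZero k]
    (X : Scheme.{u}) [X.Over (Spec (CommRingCat.of k))]
    [IsProper (X ↘ Spec (CommRingCat.of k))] [Smooth (X ↘ Spec (CommRingCat.of k))]
    [GeometricallyConnected (X ↘ Spec (CommRingCat.of k))] (hdim : topologicalKrullDim ↥X = 1)
    (g : ℕ) (hg : Curv2.genus k X = g) (hg2 : 2 ≤ g)
    (I : X.IdealSheafData) (hD : FGA.IsEffCartier I) [AlgebraicGeometry.IsReduced I.subscheme]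
    {F F' F'' : X.Modules} (r : ℕ) (hF : FlatMod.IsFinLocFreeOfRank r F)
    (𝓕 : ParSh.Str F) (h𝓕 : 𝓕.Along I) (hst : ParSh.IsParStable k X 𝓕 r)
    (i : F' ⟶ F) (p : F ⟶ F'') [Epi p] (𝓕' : ParSh.Str F') (𝓕'' : ParSh.Str F'')
    (hext : ParSh.IsParExt i p 𝓕' 𝓕 𝓕'') (hF' : FlatMod.IsFinLocFree F') (hF'' : FlatMod.IsFinLocFree F'')
    (φ : F'' ⟶ F') (hφ : ParSh.IsParHom 𝓕'' 𝓕' φ) : φ = 0 := by
  haveI := W7Slope.isIntegral_of_geomConn k (X := X) hdim
  haveI := CurveRR.isNoetherian_of_proper k X
  have hX := W7Slope.regCurve_of_smooth (k := k) (X := X) hdim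
  obtain ⟨w, hS, rfl, rfl⟩ := hext
  haveI : Mono i := hS.mono_f
  have hF'r := W7Slope.rank_of_isFinLocFree (LocFree.isQCoh_of_isFinLocFree hF') hF'
  have hF''r := W7Slope.rank_of_isFinLocFree (LocFree.isQCoh_of_isFinLocFree hF'') hF''
  by_contra hne
  have hψne : φ ≫ i ≠ 0 := fun h => hne (by rwa [← cancel_mono i, Limits.zero_comp])
  obtain ⟨V, q, j, hq, hj, hfac, hV, -, -, -, -, hpos⟩ := W7Slope.exists_image k hX hF''r hF (φ ≫ i)
  obtain ⟨V', Q, ι, l, p', w', hSQ, hli, hl, hV', hQ, hrQ, -, -, -⟩ :=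
    W7Slope.exists_saturation k hX hF (CurveRR.isCoh_of_rank hV) j
  haveI := hq
  haveI := hl
  haveI : Mono ι := hSQ.mono_f
  have ht := hpos hψne
  have hFc := CurveRR.isCoh_of_rank hF
  have hVc := CurveRR.isCoh_of_rank hV
  haveI : Epi (p ≫ q) := epi_comp _ _
  have hKc := W7Slope.isCoh_kernel k hFc hVc (p ≫ q)
  have hK := W7Slope.isFinLocFree_sub k hX (kernel.ι (p ≫ q)) hKc hF
  have hSK := CurveRR.shortExact_ker (p ≫ q)
  have hg := W7Slope.grk_add hSK hFc
  change W7Slope.grk F = W7Slope.grk (kernel (p ≫ q)) + W7Slope.grk V at hg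
  rw [W7Slope.grk_of_rank hF] at hg
  have hs : 0 < W7Slope.grk (kernel (p ≫ q)) := by
    by_contra h0
    rw [show W7Slope.grk (kernel (p ≫ q)) = 0 by omega] at hK
    haveI := Preadditive.mono_of_isZero_kernel (p ≫ q) (W7Slope.isZero_of_rank_zero hK)
    haveI : Mono p := mono_of_mono p q
    have hi0 : i = 0 := by rwa [← cancel_mono p, Limits.zero_comp]
    exact hψne (by rw [hi0, Limits.comp_zero])
  have hφ' : ParSh.IsParHom 𝓕 𝓕 (p ≫ φ ≫ i) :=
    ParCurveLib.isParHom_comp (ParCurveLib.isParHom_coinduced 𝓕 p)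
      (ParCurveLib.isParHom_comp hφ (ParCurveLib.isParHom_induced 𝓕 i))
  have hle := ParCurveLib.parDeg_image_le k hdim.le hD hV hV' 𝓕 h𝓕 𝓕 h𝓕 hφ' (p ≫ q) l ι
    (by rw [hli, Category.assoc, hfac]) hF p' w' hSQ hQ
  have h1 := hst (kernel (p ≫ q)) _ (kernel.ι (p ≫ q)) inferInstance hs (by omega) hK
  have h2 := hst V' _ ι inferInstance ht (by omega) hV'
  have hadd := ParCurveLib.parWt_add k hdim.le hD hK hF hV (kernel.ι (p ≫ q)) (p ≫ q) (kernel.condition _) hSK
    𝓕 h𝓕
  have hd := W7Slope.cdeg_add (k := k) hSK hKc hFc hVc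
  change W7Slope.cdeg k F = W7Slope.cdeg k (kernel (p ≫ q)) + W7Slope.cdeg k V at hd
  rw [← W7Slope.deg_eq hF, ← W7Slope.deg_eq hK, ← W7Slope.deg_eq hV] at hd
  have hd' : (Curv2.deg k X F r : ℝ) = Curv2.deg k X (kernel (p ≫ q)) (W7Slope.grk (kernel (p ≫ q))) +
      Curv2.deg k X V (W7Slope.grk V) := by exact_mod_cast hd
  have hsum : 𝓕.parDeg k X r = (𝓕.induced (kernel.ι (p ≫ q))).parDeg k X (W7Slope.grk (kernel (p ≫ q))) +
      (𝓕.coinduced (p ≫ q)).parDeg k X (W7Slope.grk V) := by
    unfold ParSh.Str.parDeg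
    rw [hd', ← hadd]
    ring
  have hr : (r : ℝ) = (W7Slope.grk (kernel (p ≫ q)) : ℝ) + (W7Slope.grk V : ℝ) := by exact_mod_cast hg
  have h3 := mul_le_mul_of_nonneg_right hle (show (0 : ℝ) ≤ r by positivity)
  rw [hsum, hr] at h1 h2
  rw [hr] at h3
  linarith

end Groth.Agent.S18523
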