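import Groth.Statements.S18527
import Groth.Agent.ParHilbLib.Modified
-- import your own Groth.Agent.* helpers here

set_option autoImplicit false
set_option backward.isDefEq.respectTransparency false
set_option backward.isDefEq.respectTransparency.types false
set_option maxHeartbeats 1000000
universe u
open CategoryTheory CategoryTheory.Limits AlgebraicGeometry Polynomial
open ParSh

namespace Groth.Agent.S18527

/-- An upper and a lower bound for the second coefficient of the parabolic Hilbert polynomial. Let X be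
a scheme proper over a field k with an ample invertible sheaf L, I the ideal of an effective Cartier
divisor D on X, and E a coherent O_X-module with a finite weighted filtration 𝓔 along I by coherent
pieces E = E₀ ⊇ ⋯ ⊇ E_l ⊇ E_{l+1} = I·E, weights 0 ≤ w₀ < ⋯ < w_l < 1. Let d ≥ 1 be a natural number
with Supp E ∩ Supp D of topological Krull dimension less than d, P the Hilbert polynomial of E with
respect to L and P_j that of E_j (0 ≤ j ≤ l+1). Then the coefficient of degree d − 1 of the
parabolic Hilbert polynomial P_{l+1} + Σ_{j ≤ l} w_j (P_j − P_{j+1}) is at least the coefficient of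
degree d − 1 of P_{l+1} and at most that of P. For E pure of dimension d this says that the
parabolic slope lies between the slope of E(−D) and the slope of E; the published statement also
gives a lower bound μ(E) − b with b depending only on a bound for the multiplicity of E, on d, D and
L, which is not part of this row. -/
theorem result (k : Type u) [Field k] (X : Scheme.{u})
    [X.Over (Spec (CommRingCat.of k))] [IsProper (X ↘ Spec (CommRingCat.of k))]
    (L : X.Modules) (hL : CohB1.IsAmple L) (I : X.IdealSheafData) (hD : FGA.IsEffCartier I)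
    (E : X.Modules) (hE : Coh.IsCoh E) (𝓔 : ParSh.Str E) (h𝓔 : 𝓔.Along I)
    (hcoh : ∀ j, Coh.IsCoh ((𝓔.pieceX j : Subobject E) : X.Modules)) (d : ℕ) (hd : 1 ≤ d)
    (hsupp : topologicalKrullDim ↥(CohB1.support E ∩ (I.support : Set X)) < (d : WithBot ℕ∞))
    (P : ℚ[X]) (hP : ShStab.IsHilbPoly k X L E P) (PX : Fin (𝓔.l + 2) → ℚ[X])
    (hPX : ∀ j, ShStab.IsHilbPoly k X L ((𝓔.pieceX j : Subobject E) : X.Modules) (PX j)) :
    (W4swparbununimod.rpoly (PX (Fin.last (𝓔.l + 1)))).coeff (d - 1) ≤ (W4swparbununimod.parPoly 𝓔 PX).coeff (d - 1) ∧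
      (W4swparbununimod.parPoly 𝓔 PX).coeff (d - 1) ≤ (W4swparbununimod.rpoly P).coeff (d - 1) := by
  have hH := ParHilbLib.isHilbPoly_hq k hL hE 𝓔 hcoh
  have hpos := fun j => ParHilbLib.quot_small k hL hE 𝓔 hcoh h𝓔 hsupp hH j
  have hc : ∀ j, (((PX j).coeff (d - 1) : ℚ) : ℝ) = (P.coeff (d - 1) : ℝ) -
      ((ParHilbLib.hq k (L := L) 𝓔 j).coeff (d - 1) : ℝ) := fun j => by
    rw [ParHilbLib.hilb_add k hL hE (hcoh j) hP (hPX j) (hH j), Polynomial.coeff_add]; push_cast; ring
  refine ⟨?_, ?_⟩
  · have hmono : ∀ j : Fin (𝓔.l + 1), (PX j.succ).coeff (d - 1) ≤ (PX j.castSucc).coeff (d - 1) := fun j => by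
      have hle : 𝓔.pieceX j.succ ≤ 𝓔.pieceX j.castSucc := by
        rw [𝓔.pieceX_castSucc]
        induction j using Fin.lastCases with
        | last => rw [Fin.succ_last, 𝓔.pieceX_last]; exact 𝓔.bot_le _
        | cast j => rw [Fin.succ_castSucc, 𝓔.pieceX_castSucc]; exact 𝓔.piece_anti (Fin.castSucc_lt_succ).le
      have e : (Subobject.pullback (𝓔.pieceX j.castSucc).arrow).obj (𝓔.pieceX j.succ) =
          Subobject.mk (Subobject.ofLE _ _ hle) := by
        refine le_antisymm ?_ ?_
        · refine Subobject.le_mk_of_comm (Subobject.pullbackπ (𝓔.pieceX j.castSucc).arrow (𝓔.pieceX j.succ)) ?_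
          rw [← cancel_mono (𝓔.pieceX j.castSucc).arrow, Category.assoc, Subobject.ofLE_arrow]
          exact (Subobject.isPullback (𝓔.pieceX j.castSucc).arrow (𝓔.pieceX j.succ)).w
        · exact Subobject.mk_le_of_comm
            ((Subobject.isPullback (𝓔.pieceX j.castSucc).arrow (𝓔.pieceX j.succ)).lift (𝟙 _)
              (Subobject.ofLE _ _ hle) (by rw [Category.id_comp, Subobject.ofLE_arrow]))
            ((Subobject.isPullback (𝓔.pieceX j.castSucc).arrow (𝓔.pieceX j.succ)).lift_snd _ _ _)
      obtain ⟨c, hcm⟩ := ParHilbLib.exists_mono_cokernel (𝓔.pieceX j.castSucc).arrow (𝓔.pieceX j.succ)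
      have hB : Coh.IsCoh (((Subobject.pullback (𝓔.pieceX j.castSucc).arrow).obj (𝓔.pieceX j.succ) :
          Subobject _) : X.Modules) :=
        ParHilbLib.isCoh_pullback k hL _ hE (hcoh _) (hcoh j.succ)
      have hC := ParHilbLib.isCoh_cokernel_arrow k hL (hcoh j.castSucc) _ hB
      have hB' : ShStab.IsHilbPoly k X L (((Subobject.pullback (𝓔.pieceX j.castSucc).arrow).obj (𝓔.pieceX j.succ) :
          Subobject _) : X.Modules) (PX j.succ) := by
        rw [e]
        intro m
        rw [← hPX j.succ m, ShStab.twist, ShStab.twist]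
        exact congrArg (fun z : ℤ => (z : ℚ)) (CurveRR.euler_eq_of_iso
          (PicGrp.tensorModIso (Subobject.underlyingIso _) (Iso.refl _)))
      have h := ParHilbLib.hilb_add k hL (hcoh j.castSucc) hB (hPX j.castSucc) hB'
        (StabLib.Sh.isHilbPoly_hp k hL.1 hC)
      rw [h, Polynomial.coeff_add, le_add_iff_nonneg_right]
      exact (ParHilbLib.coeff_small k hL hC (ParHilbLib.dim_lt hsupp
        ((ParHilbLib.support_of_mono c).trans (ParHilbLib.support_quot 𝓔 h𝓔 j.succ)))).2
    simp only [W4swparbununimod.parPoly, Polynomial.coeff_add, Polynomial.finsetSum_coeff,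
      Polynomial.coeff_C_mul, Polynomial.coeff_sub, ParHilbLib.coeff_rpoly, le_add_iff_nonneg_right]
    exact Finset.sum_nonneg fun j _ => mul_nonneg (𝓔.wt_nonneg.trans (𝓔.wt_strictMono.monotone (Fin.zero_le _)))
      (sub_nonneg.2 (Rat.cast_le.2 (hmono j)))
  · rw [ParHilbLib.parPoly_eq k hL 𝓔 hE hcoh hP hPX hH, ParHilbLib.coeff_rpoly, sub_le_self_iff]
    exact Finset.sum_nonneg fun j _ => mul_nonneg (ParHilbLib.wtX_succ_sub_nonneg 𝓔 j)
      (Rat.cast_nonneg.2 (hpos j.succ).2)

end Groth.Agent.S18527
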