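import Groth.Statements.S18528
import Groth.Agent.ParHilbLib.Modified
-- import your own Groth.Agent.* helpers here

set_option autoImplicit false
set_option backward.isDefEq.respectTransparency false
set_option backward.isDefEq.respectTransparency.types false
set_option maxHeartbeats 1000000
universe u
open CategoryTheory CategoryTheory.Limits AlgebraicGeometry Polynomial
open ParSh

namespace Groth.Agent.S18528

/-- Reduced parabolic Hilbert polynomials versus parabolic slopes, for one test subsheaf. Let X be a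
scheme proper over a field k with an ample invertible sheaf L, I the ideal of an effective Cartier
divisor D on X, and E a nonzero coherent O_X-module, pure of dimension d ≥ 1, with Supp E ∩ Supp D
of topological Krull dimension less than d, carrying a finite weighted filtration 𝓔 along I by
coherent pieces E = E₀ ⊇ ⋯ ⊇ E_{l+1} = I·E with weights 0 ≤ w₀ < ⋯ < w_l < 1. Let P be the Hilbert
polynomial of E and P_j that of E_j. Let ι : W → E be a monomorphism from a coherent module W, give
W the induced filtration (pieces the preimages of the E_j, same weights) with Hilbert polynomials Q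
of W and Q_j of its pieces, and write Par_E = P_{l+1} + Σ_j w_j (P_j − P_{j+1}), Par_W = Q_{l+1} +
Σ_j w_j (Q_j − Q_{j+1}), α_d for d! times the coefficient of degree d. Then: (i) if Par_W(m)·α_d(P)
≤ Par_E(m)·α_d(Q) for all large natural numbers m, the coefficients of degree d − 1 satisfy
coeff(Par_W)·α_d(P) ≤ coeff(Par_E)·α_d(Q); (ii) if this coefficient inequality is strict, then
Par_W(m)·α_d(P) < Par_E(m)·α_d(Q) for all large m. With W running over the saturated nonzero proper
subsheaves this is the published implication: parabolic semistability for the reduced parabolic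
Hilbert polynomial implies parabolic slope-semistability, and parabolic slope-stability implies
stability for the reduced parabolic Hilbert polynomial. -/
theorem result (k : Type u) [Field k] (X : Scheme.{u})
    [X.Over (Spec (CommRingCat.of k))] [IsProper (X ↘ Spec (CommRingCat.of k))]
    (L : X.Modules) (hL : CohB1.IsAmple L) (I : X.IdealSheafData) (hD : FGA.IsEffCartier I)
    (E : X.Modules) (hE : Coh.IsCoh E) (h0 : ¬ IsZero E) (d : ℕ) (hd : 1 ≤ d)
    (hpure : ShStab.IsPure X E d) (𝓔 : ParSh.Str E) (h𝓔 : 𝓔.Along I)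
    (hcoh : ∀ j, Coh.IsCoh ((𝓔.pieceX j : Subobject E) : X.Modules))
    (hsupp : topologicalKrullDim ↥(CohB1.support E ∩ (I.support : Set X)) < (d : WithBot ℕ∞))
    (P : ℚ[X]) (hP : ShStab.IsHilbPoly k X L E P) (PX : Fin (𝓔.l + 2) → ℚ[X])
    (hPX : ∀ j, ShStab.IsHilbPoly k X L ((𝓔.pieceX j : Subobject E) : X.Modules) (PX j))
    {W : X.Modules} (ι : W ⟶ E) [Mono ι] (hW : Coh.IsCoh W)
    (Q : ℚ[X]) (hQ : ShStab.IsHilbPoly k X L W Q) (QX : Fin (𝓔.l + 2) → ℚ[X])
    (hQX : ∀ j, ShStab.IsHilbPoly k X L (((𝓔.induced ι).pieceX j : Subobject W) : X.Modules) (QX j)) :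
    ((∃ M : ℕ, ∀ m : ℕ, M ≤ m →
        (W4swparbununimod.parPoly (𝓔.induced ι) QX).eval (m : ℝ) * (StabCat.alpha d P : ℝ) ≤
          (W4swparbununimod.parPoly 𝓔 PX).eval (m : ℝ) * (StabCat.alpha d Q : ℝ)) →
      (W4swparbununimod.parPoly (𝓔.induced ι) QX).coeff (d - 1) * (StabCat.alpha d P : ℝ) ≤
        (W4swparbununimod.parPoly 𝓔 PX).coeff (d - 1) * (StabCat.alpha d Q : ℝ)) ∧
    ((W4swparbununimod.parPoly (𝓔.induced ι) QX).coeff (d - 1) * (StabCat.alpha d P : ℝ) <
        (W4swparbununimod.parPoly 𝓔 PX).coeff (d - 1) * (StabCat.alpha d Q : ℝ) →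
      ∃ M : ℕ, ∀ m : ℕ, M ≤ m →
        (W4swparbununimod.parPoly (𝓔.induced ι) QX).eval (m : ℝ) * (StabCat.alpha d P : ℝ) <
          (W4swparbununimod.parPoly 𝓔 PX).eval (m : ℝ) * (StabCat.alpha d Q : ℝ)) := by
  have hE' : (StabLib.Sh.hp k L E).natDegree = d :=
    (StabLib.Sh.hp_pos_deg k hL hE (hpure E (𝟙 E) inferInstance hE h0)).1
  rw [← (StabLib.Sh.hilb_iff k hL.1 hE P).1 hP] at hE'
  have hQd : Q.natDegree ≤ d := by
    rw [← hE', (StabLib.Sh.hilb_iff k hL.1 hW Q).1 hQ, (StabLib.Sh.hilb_iff k hL.1 hE P).1 hP]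
    exact StabLib.Inv.deg_le_of_mono (StabLib.Sh.inv k hL) ι hW hE
  let R : ℝ[X] := W4swparbununimod.parPoly (𝓔.induced ι) QX * Polynomial.C (StabCat.alpha d P : ℝ) -
    W4swparbununimod.parPoly 𝓔 PX * Polynomial.C (StabCat.alpha d Q : ℝ)
  have hR : ∀ i, d - 1 < i → R.coeff i = 0 := fun i hi => by
    have hdi : d ≤ i := by omega
    simp only [R, Polynomial.coeff_sub, Polynomial.coeff_mul_C,
      ParHilbLib.parPoly_coeff_top k hL hE 𝓔 hcoh hP hPX h𝓔 hsupp i hdi,
      ParHilbLib.parPoly_induced_top k hL hE 𝓔 hcoh h𝓔 hsupp ι hW hQ hQX i hdi]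
    rcases hdi.lt_or_eq with h | h
    · rw [Polynomial.coeff_eq_zero_of_natDegree_lt (show P.natDegree < i by omega),
        Polynomial.coeff_eq_zero_of_natDegree_lt (show Q.natDegree < i by omega)]
      simp
    · subst h
      simp only [StabCat.alpha]
      push_cast
      ring
  have hev : ∀ m : ℕ, R.eval (m : ℝ) = (W4swparbununimod.parPoly (𝓔.induced ι) QX).eval (m : ℝ) * (StabCat.alpha d P : ℝ) -
      (W4swparbununimod.parPoly 𝓔 PX).eval (m : ℝ) * (StabCat.alpha d Q : ℝ) := fun m => by
    simp [R, Polynomial.eval_sub, Polynomial.eval_mul]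
  refine ⟨fun ⟨M, hM⟩ => ?_, fun h => ?_⟩
  · have h := ParHilbLib.coeff_nonpos_of_eventually hR ⟨M, fun m hm => by rw [hev, sub_nonpos]; exact hM m hm⟩
    simp only [R, Polynomial.coeff_sub, Polynomial.coeff_mul_C, sub_nonpos] at h
    exact h
  · obtain ⟨M, hM⟩ := ParHilbLib.eventually_neg_of_coeff hR
      (by simp only [R, Polynomial.coeff_sub, Polynomial.coeff_mul_C, sub_neg]; exact h)
    exact ⟨M, fun m hm => sub_neg.1 (by rw [← hev]; exact hM m hm)⟩

end Groth.Agent.S18528
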