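import Groth.Statements.S18529
import Groth.Agent.ParHilbLib.Squeeze
-- import your own Groth.Agent.* helpers here

set_option autoImplicit false
set_option backward.isDefEq.respectTransparency false
set_option backward.isDefEq.respectTransparency.types false
set_option maxHeartbeats 2000000
universe u
open CategoryTheory CategoryTheory.Limits AlgebraicGeometry Polynomial
open ParSh

namespace Groth.Agent.S18529

/-- Kernel and image of a parabolic homomorphism between semistable parabolic sheaves with the same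
reduced parabolic Hilbert polynomial, for one divisor. Let X be a scheme proper over a field k with
an ample invertible sheaf L, I the ideal of an effective Cartier divisor D on X, and d ≥ 1. Let E
and F be nonzero coherent O_X-modules, pure of dimension d, with Supp E ∩ Supp D and Supp F ∩ Supp D
of topological Krull dimension less than d, carrying finite weighted filtrations 𝓔 and 𝓕 along I by
coherent pieces, with the same set of weights and with smallest weight positive. Let P and R be the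
Hilbert polynomials of E and F, P_j and R_j those of the pieces, and Par_E = P_{l+1} + Σ_j w_j (P_j
− P_{j+1}), Par_F likewise; α_d denotes d! times the coefficient of degree d. Assume both filtered
sheaves are semistable for the reduced parabolic Hilbert polynomial: for every nonzero coherent
sub-module W → E whose cokernel is pure of dimension d or zero, with its induced filtration and any
Hilbert polynomials Q of W and Q_j of its pieces, Par_W(m)·α_d(P) ≤ Par_E(m)·α_d(Q) for all large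
natural m (and the same for F); and assume Par_E·α_d(R) = Par_F·α_d(P). Let f : E → F be a parabolic
homomorphism, j : K → E a monomorphism with 0 → K → E → F exact at E, and f = q ≫ u with q : E → V
an epimorphism and u : V → F a monomorphism. Then: (1) for all Hilbert polynomials Q_K of K and
Q_{K,j} of the pieces of the filtration induced on K, Par_K·α_d(P) = Par_E·α_d(Q_K) (the kernel has
the same reduced parabolic Hilbert polynomial); (2) the cokernel of u is pure of dimension d or zero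
(the image of f is saturated in F); (3) for every real a with 0 ≤ a ≤ 1, the a-th piece of the
filtration induced on V as a quotient of E equals the a-th piece of the filtration induced on V as a
sub-module of F. The published statement is phrased for parabolic sheaves along several divisors on
the fibres of a projective X → S over an algebraically closed field and concludes that such sheaves
form an abelian category; this row is the absolute one-divisor case of the kernel and image steps of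
its proof, with semistability tested on saturated sub-modules carrying the induced filtration. -/
theorem result (k : Type u) [Field k] (X : Scheme.{u})
    [X.Over (Spec (CommRingCat.of k))] [IsProper (X ↘ Spec (CommRingCat.of k))]
    (L : X.Modules) (hL : CohB1.IsAmple L) (I : X.IdealSheafData) (hD : FGA.IsEffCartier I) (d : ℕ) (hd : 1 ≤ d)
    {E F : X.Modules} (hE : Coh.IsCoh E) (hF : Coh.IsCoh F) (hE0 : ¬ IsZero E) (hF0 : ¬ IsZero F)
    (hEp : ShStab.IsPure X E d) (hFp : ShStab.IsPure X F d)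
    (hEs : topologicalKrullDim ↥(CohB1.support E ∩ (I.support : Set X)) < (d : WithBot ℕ∞))
    (hFs : topologicalKrullDim ↥(CohB1.support F ∩ (I.support : Set X)) < (d : WithBot ℕ∞))
    (𝓔 : ParSh.Str E) (h𝓔 : 𝓔.Along I) (𝓕 : ParSh.Str F) (h𝓕 : 𝓕.Along I)
    (hcE : ∀ j, Coh.IsCoh ((𝓔.pieceX j : Subobject E) : X.Modules))
    (hcF : ∀ j, Coh.IsCoh ((𝓕.pieceX j : Subobject F) : X.Modules))
    (hw : Set.range 𝓕.wt = Set.range 𝓔.wt) (hw0 : 0 < 𝓔.wt 0)
    (P R : ℚ[X]) (hP : ShStab.IsHilbPoly k X L E P) (hR : ShStab.IsHilbPoly k X L F R)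
    (PX : Fin (𝓔.l + 2) → ℚ[X]) (hPX : ∀ j, ShStab.IsHilbPoly k X L ((𝓔.pieceX j : Subobject E) : X.Modules) (PX j))
    (RX : Fin (𝓕.l + 2) → ℚ[X]) (hRX : ∀ j, ShStab.IsHilbPoly k X L ((𝓕.pieceX j : Subobject F) : X.Modules) (RX j))
    (hssE : (∀ (W : X.Modules) (ι : W ⟶ E), Mono ι → Coh.IsCoh W → ¬ IsZero W → ShStab.IsPure X (cokernel ι) d →
        ∀ (Q : ℚ[X]) (QX : Fin (𝓔.l + 2) → ℚ[X]), ShStab.IsHilbPoly k X L W Q →
          (∀ j, ShStab.IsHilbPoly k X L (((𝓔.induced ι).pieceX j : Subobject W) : X.Modules) (QX j)) →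
          ∃ M : ℕ, ∀ m : ℕ, M ≤ m →
            (W4swparbununimod.parPoly (𝓔.induced ι) QX).eval (m : ℝ) * (StabCat.alpha d P : ℝ) ≤
              (W4swparbununimod.parPoly 𝓔 PX).eval (m : ℝ) * (StabCat.alpha d Q : ℝ)))
    (hssF : (∀ (W : X.Modules) (ι : W ⟶ F), Mono ι → Coh.IsCoh W → ¬ IsZero W → ShStab.IsPure X (cokernel ι) d →
        ∀ (Q : ℚ[X]) (QX : Fin (𝓕.l + 2) → ℚ[X]), ShStab.IsHilbPoly k X L W Q →
          (∀ j, ShStab.IsHilbPoly k X L (((𝓕.induced ι).pieceX j : Subobject W) : X.Modules) (QX j)) →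
          ∃ M : ℕ, ∀ m : ℕ, M ≤ m →
            (W4swparbununimod.parPoly (𝓕.induced ι) QX).eval (m : ℝ) * (StabCat.alpha d R : ℝ) ≤
              (W4swparbununimod.parPoly 𝓕 RX).eval (m : ℝ) * (StabCat.alpha d Q : ℝ)))
    (hred : W4swparbununimod.parPoly 𝓔 PX * Polynomial.C (StabCat.alpha d R : ℝ) =
      W4swparbununimod.parPoly 𝓕 RX * Polynomial.C (StabCat.alpha d P : ℝ))
    (f : E ⟶ F) (hf : ParSh.IsParHom 𝓔 𝓕 f)
    {K V : X.Modules} (j : K ⟶ E) [Mono j] (w : j ≫ f = 0) (hex : (ShortComplex.mk j f w).Exact)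
    (q : E ⟶ V) [Epi q] (u : V ⟶ F) [Mono u] (hqu : q ≫ u = f) :
    (∀ (QK : ℚ[X]) (QKX : Fin (𝓔.l + 2) → ℚ[X]), ShStab.IsHilbPoly k X L K QK →
        (∀ j', ShStab.IsHilbPoly k X L (((𝓔.induced j).pieceX j' : Subobject K) : X.Modules) (QKX j')) →
        W4swparbununimod.parPoly (𝓔.induced j) QKX * Polynomial.C (StabCat.alpha d P : ℝ) =
          W4swparbununimod.parPoly 𝓔 PX * Polynomial.C (StabCat.alpha d QK : ℝ)) ∧
    ShStab.IsPure X (cokernel u) d ∧
    (∀ a : ℝ, 0 ≤ a → a ≤ 1 → (𝓔.coinduced q).at a = (𝓕.induced u).at a) := by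
  obtain ⟨hl, hwt⟩ := ParHilbLib.wt_match 𝓔 𝓕 hw
  let J := StabLib.Sh.inv k hL
  have hpP := (StabLib.Sh.hilb_iff k hL.1 hE P).1 hP
  have hpR := (StabLib.Sh.hilb_iff k hL.1 hF R).1 hR
  have hEp' := (StabLib.Sh.isPure_iff k hL E d).1 hEp
  have hFp' := (StabLib.Sh.isPure_iff k hL F d).1 hFp
  -- coherence and the short exact sequence
  have hjq : j ≫ q = 0 := by rw [← cancel_mono u, Category.assoc, hqu, w, Limits.zero_comp]
  haveI : Mono (ShortComplex.mk j f w).f := ‹Mono j›
  have hS : (ShortComplex.mk j q hjq).ShortExact :=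
    { exact := ShortComplex.exact_of_f_is_kernel _ (KernelFork.IsLimit.ofι' _ _ fun {T} t ht =>
        ⟨hex.lift t (show t ≫ f = 0 by rw [← hqu, ← Category.assoc, ht, Limits.zero_comp]), hex.lift_f _ _⟩) }
  have hK : Coh.IsCoh K := CohFinite.isCoh_of_iso
    (IsLimit.conePointUniqueUpToIso (kernelIsKernel f) hex.fIsKernel) (J.ok_kernel f hE hF)
  have hV : Coh.IsCoh V := CohFinite.isCoh_of_iso
    (IsColimit.coconePointUniqueUpToIso (cokernelIsCokernel j) hS.gIsCokernel) (J.ok_cokernel j hK hE)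
  have hαadd : StabCat.alpha d P = StabCat.alpha d (StabLib.Sh.hp k L K) + StabCat.alpha d (StabLib.Sh.hp k L V) := by
    rw [hpP, ← StabLib.alpha_add]
    exact congrArg (StabCat.alpha d) (J.hp_add (S := ShortComplex.mk j q hjq) hS hK hE hV)
  have hαE : 0 < StabCat.alpha d P := by rw [hpP]; exact hEp'.alpha_pos (𝟙 E) hE hE0
  have hαR : 0 < StabCat.alpha d R := by rw [hpR]; exact hFp'.alpha_pos (𝟙 F) hF hF0
  have hVpure := hFp'.of_mono u
  -- Hilbert functions
  have hadd := ParHilbLib.parHilb_add k hL hK hE hV j q hjq hS 𝓔 hcE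
  have hPE : ∀ m : ℕ, 𝓔.parHilb k X L m = (W4swparbununimod.parPoly 𝓔 PX).eval (m : ℝ) :=
    ParHilbLib.parHilb_eq k 𝓔 hPX
  have hPF : ∀ m : ℕ, 𝓕.parHilb k X L m = (W4swparbununimod.parPoly 𝓕 RX).eval (m : ℝ) :=
    ParHilbLib.parHilb_eq k 𝓕 hRX
  have hred' : ∀ m : ℕ, 𝓔.parHilb k X L m * (StabCat.alpha d R : ℝ) =
      𝓕.parHilb k X L m * (StabCat.alpha d P : ℝ) := fun m => by
    have := congrArg (Polynomial.eval (m : ℝ)) hred
    rw [hPE, hPF]
    simpa only [Polynomial.eval_mul, Polynomial.eval_C] using this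
  have hKc := ParHilbLib.hcoh_induced k hL hE 𝓔 hcE j hK
  have hVc : ∀ i, Coh.IsCoh (((𝓔.coinduced q).pieceX i : Subobject V) : X.Modules) := fun i => by
    rw [ParHilbLib.pieceX_coinduced]; exact (ParHilbLib.piece_add k hL hK hE hV j q hjq hS _ (hcE i)).1
  have hUc := ParHilbLib.hcoh_induced k hL hF 𝓕 hcF u hV
  -- the first conclusion follows from an eventual equality
  have hone : (∀ᶠ m : ℕ in Filter.atTop, (𝓔.induced j).parHilb k X L m * (StabCat.alpha d P : ℝ) =
      𝓔.parHilb k X L m * (StabCat.alpha d (StabLib.Sh.hp k L K) : ℝ)) →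
      ∀ (QK : ℚ[X]) (QKX : Fin (𝓔.l + 2) → ℚ[X]), ShStab.IsHilbPoly k X L K QK →
        (∀ j', ShStab.IsHilbPoly k X L (((𝓔.induced j).pieceX j' : Subobject K) : X.Modules) (QKX j')) →
        W4swparbununimod.parPoly (𝓔.induced j) QKX * Polynomial.C (StabCat.alpha d P : ℝ) =
          W4swparbununimod.parPoly 𝓔 PX * Polynomial.C (StabCat.alpha d QK : ℝ) := by
    intro he QK QKX hQK hQKX
    refine ParHilbLib.eq_of_eventually (he.mono fun m hm => ?_)
    rw [ParHilbLib.parHilb_eq k (𝓔.induced j) hQKX, hPE, ← (StabLib.Sh.hilb_iff k hL.1 hK QK).1 hQK] at hm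
    simpa only [Polynomial.eval_mul, Polynomial.eval_C] using hm
  by_cases hV0 : IsZero V
  · have hzV : StabLib.Sh.hp k L V = 0 := J.hp_zero hV0 hV
    refine ⟨hone (Filter.Eventually.of_forall fun m => ?_), ?_, fun a _ _ => ParHilbLib.isZero_subobject_eq hV0 _ _⟩
    · have hco : (𝓔.coinduced q).parHilb k X L m = 0 := by
        have hp0 : ∀ i, StabLib.Sh.hp k L (((𝓔.coinduced q).pieceX i : Subobject V) : X.Modules) = 0 := fun i =>
          J.hp_zero (IsZero.of_mono ((𝓔.coinduced q).pieceX i).arrow hV0) (hVc i)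
        rw [ParHilbLib.parHilb_abel k hL _ hVc]
        simp [hp0]
      rw [show StabCat.alpha d (StabLib.Sh.hp k L K) = StabCat.alpha d P by
        rw [hαadd, hzV, StabLib.alpha_zero, add_zero], ← hadd m, hco, add_zero]
    · rw [StabLib.Sh.isPure_iff k hL]
      obtain rfl : u = 0 := hV0.eq_of_src _ _
      exact hFp'.of_mono (Y := F) cokernelZeroIsoTarget.hom
  have hαV : 0 < StabCat.alpha d (StabLib.Sh.hp k L V) := hVpure.alpha_pos (𝟙 V) hV hV0
  -- semistability of the source
  have hKle : ∀ᶠ m : ℕ in Filter.atTop, (𝓔.induced j).parHilb k X L m * (StabCat.alpha d P : ℝ) ≤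
      𝓔.parHilb k X L m * (StabCat.alpha d (StabLib.Sh.hp k L K) : ℝ) := by
    by_cases hK0 : IsZero K
    · refine Filter.Eventually.of_forall fun m => le_of_eq ?_
      have hp0 : ∀ i, StabLib.Sh.hp k L (((𝓔.induced j).pieceX i : Subobject K) : X.Modules) = 0 := fun i =>
        J.hp_zero (IsZero.of_mono ((𝓔.induced j).pieceX i).arrow hK0) (hKc i)
      rw [ParHilbLib.parHilb_abel k hL _ hKc, J.hp_zero hK0 hK |> fun e => (show StabLib.Sh.hp k L K = 0 from e)]
      simp [hp0, StabLib.alpha_zero]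
    · have hpK : ShStab.IsPure X (cokernel j) d := by
        rw [StabLib.Sh.isPure_iff k hL]
        exact hVpure.of_mono (IsColimit.coconePointUniqueUpToIso (cokernelIsCokernel j) hS.gIsCokernel).hom
      obtain ⟨M₀, hM₀⟩ := hssE K j inferInstance hK hK0 hpK _ _ (StabLib.Sh.isHilbPoly_hp k hL.1 hK)
        (fun i => StabLib.Sh.isHilbPoly_hp k hL.1 (hKc i))
      refine Filter.eventually_atTop.2 ⟨M₀, fun m hm => ?_⟩
      rw [ParHilbLib.parHilb_eq k (𝓔.induced j) (fun i => StabLib.Sh.isHilbPoly_hp k hL.1 (hKc i)), hPE]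
      exact hM₀ m hm
  -- image against induced
  have hsub : ∀ i, (𝓔.coinduced q).pieceX i ≤
      (𝓕.induced u).pieceX (Fin.cast (congrArg (· + 2) hl) i) := fun i => by
    rw [ParHilbLib.pieceX_coinduced, ParHilbLib.pieceX_induced]
    refine ParHilbLib.image_le_pullback q u _ _ ?_
    rw [hqu]
    exact ParHilbLib.factors_pieceX hf hl hwt i
  obtain ⟨h1le, h1eq⟩ := ParHilbLib.parHilb_compare k hL (𝓔.coinduced q) (𝓕.induced u) hl hwt hVc hUc
    (fun i => J.hp_sub_nn (Subobject.ofLE _ _ (hsub i)) (hVc i) (hUc _))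
  -- saturation
  obtain ⟨M, jM, u', hjM, hM, hM0, hu', hMp, hαM⟩ := ParHilbLib.exists_saturated k hL hF hFp u hV hV0
  haveI := hjM
  haveI : Mono u' := by haveI : Mono (u' ≫ jM) := hu' ▸ ‹Mono u›; exact mono_of_mono u' jM
  have hMc := ParHilbLib.hcoh_induced k hL hF 𝓕 hcF jM hM
  obtain ⟨h2le, h2eq⟩ := ParHilbLib.parHilb_compare k hL (𝓕.induced u) (𝓕.induced jM) rfl (fun i => rfl) hUc hMc
    (fun i => by
      obtain ⟨c, hc⟩ := ParHilbLib.exists_mono_pullback jM u u' hu' (𝓕.pieceX i)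
      have h1 := hUc i
      have h2 := hMc i
      rw [ParHilbLib.pieceX_induced] at h1 h2
      show StabLib.Nn (StabLib.Sh.hp k L (((𝓕.induced jM).pieceX i : Subobject M) : X.Modules) - _)
      rw [ParHilbLib.pieceX_induced, ParHilbLib.pieceX_induced]
      exact J.hp_sub_nn c h1 h2)
  obtain ⟨M₁, hM₁⟩ := hssF M jM hjM hM hM0 hMp _ _ (StabLib.Sh.isHilbPoly_hp k hL.1 hM)
    (fun i => StabLib.Sh.isHilbPoly_hp k hL.1 (hMc i))
  have hMle : ∀ᶠ m : ℕ in Filter.atTop, (𝓕.induced jM).parHilb k X L m * (StabCat.alpha d R : ℝ) ≤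
      𝓕.parHilb k X L m * (StabCat.alpha d (StabLib.Sh.hp k L V) : ℝ) := by
    refine Filter.eventually_atTop.2 ⟨M₁, fun m hm => ?_⟩
    rw [ParHilbLib.parHilb_eq k (𝓕.induced jM) (fun i => StabLib.Sh.isHilbPoly_hp k hL.1 (hMc i)), hPF, ← hαM]
    exact hM₁ m hm
  have ha : (0 : ℝ) < (StabCat.alpha d P : ℝ) := by exact_mod_cast hαE
  have hr : (0 : ℝ) < (StabCat.alpha d R : ℝ) := by exact_mod_cast hαR
  have hsum : (StabCat.alpha d P : ℝ) =
      (StabCat.alpha d (StabLib.Sh.hp k L K) : ℝ) + (StabCat.alpha d (StabLib.Sh.hp k L V) : ℝ) := by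
    exact_mod_cast hαadd
  have hall : ∀ᶠ m : ℕ in Filter.atTop,
      (𝓔.induced j).parHilb k X L m * (StabCat.alpha d P : ℝ) =
          𝓔.parHilb k X L m * (StabCat.alpha d (StabLib.Sh.hp k L K) : ℝ) ∧
        (𝓕.induced u).parHilb k X L m ≤ (𝓔.coinduced q).parHilb k X L m ∧
        (𝓕.induced jM).parHilb k X L m ≤ (𝓕.induced u).parHilb k X L m := by
    filter_upwards [hKle, h1le, h2le, hMle] with m a1 a2 a3 a4
    have e1 := hadd m
    have a4' := mul_le_mul_of_nonneg_left a4 ha.le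
    have e2 : 𝓔.parHilb k X L m * (StabCat.alpha d R : ℝ) * (StabCat.alpha d (StabLib.Sh.hp k L V) : ℝ) =
        𝓕.parHilb k X L m * (StabCat.alpha d P : ℝ) * (StabCat.alpha d (StabLib.Sh.hp k L V) : ℝ) := by
      rw [hred' m]
    have a1' : 𝓔.parHilb k X L m * (StabCat.alpha d (StabLib.Sh.hp k L V) : ℝ) ≤
        (𝓔.coinduced q).parHilb k X L m * (StabCat.alpha d P : ℝ) := by
      rw [hsum] at a1 ⊢
      rw [← e1] at a1 ⊢
      linarith
    have hpm : (0 : ℝ) < (StabCat.alpha d P : ℝ) * (StabCat.alpha d R : ℝ) := mul_pos ha hr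
    have b1 := mul_le_mul_of_nonneg_right a1' hr.le
    have b2 := mul_le_mul_of_nonneg_left a2 hpm.le
    have b3 := mul_le_mul_of_nonneg_left a3 hpm.le
    refine ⟨?_, le_of_mul_le_mul_left (by linarith) hpm, le_of_mul_le_mul_left (by linarith) hpm⟩
    have b4 : (𝓔.coinduced q).parHilb k X L m * (StabCat.alpha d P : ℝ) ≤
        𝓔.parHilb k X L m * (StabCat.alpha d (StabLib.Sh.hp k L V) : ℝ) :=
      le_of_mul_le_mul_right (by linarith) hr
    refine le_antisymm a1 ?_
    rw [hsum] at b4 ⊢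
    rw [← e1] at b4 ⊢
    linarith
  refine ⟨hone (hall.mono fun m h => h.1), ?_, fun a _ _ => ?_⟩
  · have h0 := h2eq (hall.mono fun m h => h.2.2) 0 (Or.inl (by
      have h00 := hwt 0
      rw [show Fin.cast (congrArg (· + 1) hl) (0 : Fin (𝓔.l + 1)) = (0 : Fin (𝓕.l + 1)) from Fin.ext rfl] at h00
      show 0 < 𝓕.wt 0
      rw [h00]
      exact hw0))
    rw [show Fin.cast (congrArg (· + 2) (rfl : (𝓕.induced u).l = (𝓕.induced jM).l))
        (0 : Fin ((𝓕.induced u).l + 2)) = 0 from rfl, ParHilbLib.pieceX_zero, ParHilbLib.pieceX_zero,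
      ParHilbLib.hp_top k hL hV, ParHilbLib.hp_top k hL hM] at h0
    have h1 : StabLib.Sh.hp k L M = StabLib.Sh.hp k L V + StabLib.Sh.hp k L (cokernel u') :=
      J.hp_cokernel u' hV hM
    rw [← h0, left_eq_add] at h1
    haveI : Epi u' := Abelian.epi_of_cokernel_π_eq_zero _
      (((J.hp_eq_zero_iff (J.ok_cokernel u' hV hM)).1 h1).eq_of_tgt _ _)
    haveI := isIso_of_mono_of_epi u'
    rw [StabLib.Sh.isPure_iff k hL] at hMp ⊢
    exact hMp.of_mono ((cokernelIsoOfEq hu'.symm ≪≫ cokernelEpiComp u' jM).hom)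
  · refine ParHilbLib.at_congr (S := 𝓔.coinduced q) (T := 𝓕.induced u) hl hwt (fun i => ?_) a
    by_cases hi : i = 0
    · subst hi
      rw [show Fin.cast (congrArg (· + 2) hl) (0 : Fin (𝓔.l + 2)) = (0 : Fin (𝓕.l + 2)) from Fin.ext rfl]
      exact (ParHilbLib.pieceX_zero (𝓕.induced u)).trans (ParHilbLib.pieceX_zero (𝓔.coinduced q)).symm
    · exact (ParHilbLib.eq_of_hp_eq k hL hV (hsub i) (hVc i) (hUc _)
        (h1eq (hall.mono fun m h => h.2.1) i (Or.inr hi))).symm

end Groth.Agent.S18529
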