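import Groth.Statements.S1853
import Groth.Agent.CycDetLib.Index

set_option autoImplicit false
set_option linter.style.haveILetI false
universe u
open CycDet

namespace Groth.Agent.S1853

open Groth.Agent.CycDetLib

theorem map_before {R V W : Type*} [CommRing R] [AddCommGroup V] [Module R V] [AddCommGroup W] [Module R W]
    {l : ℕ} (h : W →ₗ[R] V) (w : Fin l → W) (k : ℕ) :
    CycDet.spanBefore R V (h ∘ w) k = (CycDet.spanBefore R W w k).map h := by
  rw [CycDet.spanBefore, CycDet.spanBefore, Submodule.map_span, Set.image_comp]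

/-- Let R be Noetherian local, 𝔮 a prime with dim R/𝔮 = 1, and φ : M → N a map of finite modules
generated by x₁, …, x_l and y₁, …, y_l respectively, with all successive quotients
⟨x₁..x_i⟩/⟨x₁..x_{i−1}⟩ and ⟨y₁..y_i⟩/⟨y₁..y_{i−1}⟩ isomorphic to R/𝔮. Then φ is injective iff φ_𝔮
is bijective; and in that case, if the symbols of (φ(x_i)) and (y_i) in det_{κ(𝔮)}(N_𝔮) differ by
the scalar f, the length of coker φ equals ord_{R/𝔮}(f). -/
theorem result (R : Type u) [CommRing R] [IsNoetherianRing R] [IsLocalRing R] (q : PrimeSpectrum R) (hq : ringKrullDim (R ⧸ q.asIdeal) = 1) (M N : Type u) [AddCommGroup M] [Module R M] [AddCommGroup N] [Module R N] [Module.Finite R M] [Module.Finite R N] (φ : M →ₗ[R] N) (l : ℕ) (x : Fin l → M) (y : Fin l → N) (hx : Submodule.span R (Set.range x) = ⊤) (hy : Submodule.span R (Set.range y) = ⊤) (hxq : ∀ i : Fin l, Nonempty ((↥(CycDet.spanBefore R M x (i + 1)) ⧸ (CycDet.spanBefore R M x i).submoduleOf (CycDet.spanBefore R M x (i + 1))) ≃ₗ[R] (R ⧸ q.asIdeal))) (hyq : ∀ i : Fin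 l, Nonempty ((↥(CycDet.spanBefore R N y (i + 1)) ⧸ (CycDet.spanBefore R N y i).submoduleOf (CycDet.spanBefore R N y (i + 1))) ≃ₗ[R] (R ⧸ q.asIdeal))) : (Function.Injective φ ↔ Function.Bijective (LocalizedModule.map q.asIdeal.primeCompl φ)) ∧ (Function.Injective φ → ∀ (hl : (Module.length (Localization.AtPrime q.asIdeal) (LocalizedModule q.asIdeal.primeCompl N)).toNat = l) (ex ey : CycDet.Adm (Localization.AtPrime q.asIdeal) (LocalizedModule q.asIdeal.primeCompl N) (Module.length (Localization.AtPrime q.asIdeal) (LocalizedModule q.asIdeal.primeCompl N)).toNat) (f : q.asIdeal.ResidueField), (ex.1 = fun i => LocalizedModule.mkLinearMap q.asIdeal.primeCompl N (φ (x (Fin.cast hl i)))) → (ey.1 = fun i => LocalizedModule.mkLinearMap q.asIdeal.primeCompl N (y (Fin.cast hl i))) → CycDet.symbol (Localization.AtPrime q.asIdeal) (LocalizedModule q.asIdeal.primeCompl N) ex = f • CycDet.symbol (Localization.AtPrime q.asIdeal) (LocalizedModule q.asIdeal.primeCompl N) ey → ∃ n : ℕ, Module.length R (N ⧸ LinearMap.range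 φ) = n ∧ (n : ℤ) = CycAlg.ordFrac (R ⧸ q.asIdeal) q.asIdeal.ResidueField f) := by
  classical
  let p := q.asIdeal
  let F := Localization.AtPrime p
  let ι := LocalizedModule.mkLinearMap p.primeCompl N
  let ιM := LocalizedModule.mkLinearMap p.primeCompl M
  let φq := LocalizedModule.map p.primeCompl φ
  have hcomm : ∀ m, φq (ιM m) = ι (φ m) := fun m => by
    simp [φq, ιM, ι, LocalizedModule.mkLinearMap_apply, LocalizedModule.map_mk]
  have hι := injective_ι p y hy hyq ι
  have hιM := injective_ι p x hx hxq ιM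
  have hlV := length_localized p y hy hyq ι
  have hinj : Function.Injective φ → Function.Injective φq := fun h => LocalizedModule.map_injective p.primeCompl φ h
  let w : CycDet.Adm F (LocalizedModule p.primeCompl M) l := ⟨ιM ∘ x, isAdmissible_map p x hxq ιM⟩
  have hz : φq ∘ w.1 = fun i => ι (φ (x i)) := funext fun i => hcomm (x i)
  have hzadm : CycDet.IsAdmissible F (LocalizedModule p.primeCompl N) (φq ∘ w.1) := fun i r hr => by
    rw [map_before φq w.1, Function.comp_apply, ← map_smul]
    exact Submodule.mem_map_of_mem (w.2 i r hr)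
  have hzsp : Function.Injective φ → Spans (⟨φq ∘ w.1, hzadm⟩ : CycDet.Adm F (LocalizedModule p.primeCompl N) l) := by
    intro h
    refine spans_of_forall hlV _ fun a ha => ?_
    change φq (w.1 a) ∈ CycDet.spanBefore F _ (φq ∘ w.1) a at ha
    rw [map_before φq w.1] at ha
    obtain ⟨v, hv, hva⟩ := ha
    rw [hinj h hva] at hv
    exact not_mem_before p x hxq a ((mem_before_iff p x hx hxq ιM (x a)).1 hv)
  refine ⟨⟨fun h => ⟨hinj h, ?_⟩, fun h a b hab => hιM (h.1 ?_)⟩, fun hφ hl ex ey f hex hey hf => ?_⟩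
  · rw [← LinearMap.range_eq_top, eq_top_iff, ← (hzsp h), Submodule.span_le]
    rintro _ ⟨i, rfl⟩
    exact ⟨_, rfl⟩
  · rw [hcomm, hcomm, hab]
  have hlV' : Module.length F (LocalizedModule p.primeCompl N) =
      ((Module.length F (LocalizedModule p.primeCompl N)).toNat : ℕ∞) := by rw [hlV, ENat.toNat_natCast]
  subst hl
  have hex' : ex.1 = φq ∘ w.1 := hex.trans hz.symm
  have hey' : ey.1 = ι ∘ y := hey
  have hsy : Spans ey := by rw [Spans, hey']; exact spans_map p y hy ι
  have hsx : Spans ex := by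
    have := hzsp hφ
    show Submodule.span F (Set.range ex.1) = ⊤
    rw [hex']
    exact this
  let T := LinearMap.range ι
  have hAy : ∀ k, A p T ey.1 k = (CycDet.spanBefore R N y k).map ι := fun k => by
    refine le_antisymm ?_ (Submodule.map_le_iff_le_comap.2 fun n hn =>
      ⟨⟨n, rfl⟩, by rw [hey']; exact map_mem_before p y ι hn⟩)
    rintro _ ⟨⟨n, rfl⟩, hn⟩
    rw [hey'] at hn
    exact Submodule.mem_map_of_mem ((mem_before_iff p y hy hyq ι n).1 hn)
  have h0 : idx p T ey.1 = 0 := by
    refine Finset.sum_eq_zero fun i _ => ?_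
    rw [hAy, hAy, before_succ, Submodule.map_sup, Submodule.map_span, Set.image_singleton,
      show ey.1 i = ι (y i) from congrFun hey' i]
    exact qlen_self _
  let Q : ℕ → Submodule R (LocalizedModule p.primeCompl N) := fun k =>
    (CycDet.spanBefore R M x k).map (ι ∘ₗ φ)
  have hQA : ∀ k, Q k ≤ A p T ex.1 k := fun k => Submodule.map_le_iff_le_comap.2 fun m hm => by
    refine ⟨⟨φ m, rfl⟩, ?_⟩
    show ι (φ m) ∈ CycDet.spanBefore F _ ex.1 k
    rw [← hcomm, hex', map_before φq w.1]
    exact Submodule.mem_map_of_mem (map_mem_before p x ιM hm)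
  have hinf : ∀ k, A p T ex.1 k ⊓ Q (k + 1) = Q k := fun k => by
    refine le_antisymm ?_ (le_inf (hQA k) (Submodule.map_mono (before_mono x (Nat.le_succ k))))
    rintro _ ⟨⟨-, hm⟩, m, -, rfl⟩
    change ι (φ m) ∈ CycDet.spanBefore F _ ex.1 k at hm
    rw [← hcomm, hex', map_before φq w.1] at hm
    obtain ⟨v, hv, hvm⟩ := hm
    rw [hinj hφ hvm] at hv
    exact Submodule.mem_map_of_mem ((mem_before_iff p x hx hxq ιM m).1 hv)
  have hsum : ∀ k, k ≤ (Module.length F (LocalizedModule p.primeCompl N)).toNat →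
      qlen (Q k) (A p T ex.1 k) = ∑ i : Fin (Module.length F (LocalizedModule p.primeCompl N)).toNat,
        if (i : ℕ) < k then qlen (A p T ex.1 i ⊔ Submodule.span R {ex.1 i}) (A p T ex.1 (i + 1)) else 0 := by
    intro k
    induction k with
    | zero =>
      intro _
      rw [show A p T ex.1 0 = Q 0 by simp [A, Q, before_zero], qlen_self]
      simp
    | succ k ih =>
      intro hk
      let i : Fin (Module.length F (LocalizedModule p.primeCompl N)).toNat := ⟨k, by omega⟩
      have hQ1 : A p T ex.1 k ⊔ Q (k + 1) = A p T ex.1 k ⊔ Submodule.span R {ex.1 i} := by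
        have hs : Q (k + 1) = Q k ⊔ Submodule.span R {ex.1 i} := by
          show (CycDet.spanBefore R M x ((i : ℕ) + 1)).map _ = _
          rw [before_succ, Submodule.map_sup, Submodule.map_span, Set.image_singleton,
            show ex.1 i = ι (φ (x i)) from congrFun (hex'.trans hz) i]
          rfl
        rw [hs, ← sup_assoc, sup_eq_left.2 (hQA k)]
      rw [qlen_add (Q := A p T ex.1 k ⊔ Q (k + 1)) le_sup_right
          (sup_le (A_mono p T _ (Nat.le_succ k)) (hQA (k + 1))), ← qlen_inf_sup, hinf k, ih (by omega), hQ1]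
      rw [← Finset.add_sum_erase _ _ (Finset.mem_univ i), ← Finset.add_sum_erase _ _ (Finset.mem_univ i),
        if_neg (lt_irrefl k), if_pos (Nat.lt_succ_self k), zero_add, add_comm]
      congr 1
      refine Finset.sum_congr rfl fun j hj => ?_
      have hjk : (j : ℕ) ≠ k := fun h => Finset.ne_of_mem_erase hj (Fin.ext h)
      by_cases h1 : (j : ℕ) < k
      · rw [if_pos h1, if_pos (by omega)]
      · rw [if_neg h1, if_neg (by omega)]
  have htot : idx p T ex.1 = Module.length R (N ⧸ LinearMap.range φ) := by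
    have h1 := hsum _ le_rfl
    have hA : A p T ex.1 (Module.length F (LocalizedModule p.primeCompl N)).toNat = T := by
      rw [A, before_of_le _ le_rfl, hsx, Submodule.restrictScalars_top, inf_top_eq]
    simp only [Fin.is_lt, if_true] at h1
    rw [idx, ← h1, hA]
    let g : N →ₗ[R] ↥T ⧸ (Q (Module.length F (LocalizedModule p.primeCompl N)).toNat).submoduleOf T :=
      (Submodule.mkQ _) ∘ₗ ι.rangeRestrict
    have hg : Function.Surjective g := (Submodule.mkQ_surjective _).comp ι.surjective_rangeRestrict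
    have hker : LinearMap.ker g = LinearMap.range φ := by
      ext n
      rw [LinearMap.mem_ker, show g n = Submodule.Quotient.mk (ι.rangeRestrict n) from rfl,
        Submodule.Quotient.mk_eq_zero]
      show ι n ∈ (CycDet.spanBefore R M x _).map (ι ∘ₗ φ) ↔ _
      rw [before_of_le (R := R) x le_rfl, hx, Submodule.map_top]
      exact ⟨fun ⟨a, e⟩ => ⟨a, hι e⟩, fun ⟨a, e⟩ => ⟨a, congrArg ι e⟩⟩
    rw [qlen, ← (LinearMap.quotKerEquivOfSurjective g hg).length_eq, (Submodule.quotEquivOfEq _ _ hker).length_eq]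
  obtain ⟨n, hn, hord⟩ := idx_eq p hq T hlV' hsx hsy
    (fun i => ⟨φ (x i), (congrFun (hex'.trans hz) i).symm⟩) (fun i => ⟨y i, (congrFun hey' i).symm⟩) f h0 hf
  exact ⟨n, htot ▸ hn, hord⟩

end Groth.Agent.S1853
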