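import Groth.Statements.S18532
import Groth.Agent.ParHilbLib.Modified
-- import your own Groth.Agent.* helpers here

set_option autoImplicit false
set_option backward.isDefEq.respectTransparency false
set_option backward.isDefEq.respectTransparency.types false
set_option maxHeartbeats 1000000
universe u
open CategoryTheory CategoryTheory.Limits AlgebraicGeometry Polynomial
open ParSh

namespace Groth.Agent.S18532

/-- The comparison of the second and first modified parabolic Hilbert polynomials for one test subsheaf.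
Let X be a scheme proper over a field k with an ample invertible sheaf L, I the ideal of an
effective Cartier divisor D on X, d ≥ 1, and E a nonzero coherent O_X-module, pure of dimension d,
with Supp E ∩ Supp D of topological Krull dimension less than d, carrying a finite weighted
filtration 𝓔 along I by coherent pieces E = E₀ ⊇ ⋯ ⊇ E_{l+1} = I·E, weights 0 ≤ w₀ < ⋯ < w_l < 1,
w_{l+1} := 1. Let P be the Hilbert polynomial of E, P_j of E_j, H_j of E/E_j with α_{d−1}(H_j) ≠ 0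
for 1 ≤ j ≤ l+1, and Par_E = P_{l+1} + Σ_j w_j (P_j − P_{j+1}). Let ι : W → E be a monomorphism from
a coherent module W with induced filtration W_j = W ∩ E_j, Q the Hilbert polynomial of W and K_j
that of W/W_j; put par-P₁(W ⊂ E) = Q − Σ_{j=1}^{l+1} (w_j − w_{j−1})·(α_{d−1}(K_j)/α_{d−1}(H_j))·H_j
and par-P₂(W ⊂ E)(x, y) = Q(x) − Σ_{j=1}^{l+1} (w_j − w_{j−1})·(K_j(y)/H_j(y))·H_j(x). Then: (i) if
there is M such that for every m ≥ M there is N with par-P₂(W ⊂ E)(m, n)·P(n) ≤ Par_E(m)·Q(n) for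
all n ≥ N, then par-P₁(W ⊂ E)(m)·α_d(P) ≤ Par_E(m)·α_d(Q) for all large m; (ii) if par-P₁(W ⊂
E)(m)·α_d(P) < Par_E(m)·α_d(Q) for all large m, then there is M such that for every m ≥ M there is N
with par-P₂(W ⊂ E)(m, n)·P(n) < Par_E(m)·Q(n) for all n ≥ N. With W running over the nonzero
saturated (proper) sub-modules this is the published implication p₂-semistable ⇒ p₁-semistable,
p₁-stable ⇒ p₂-stable; the further implications to and from parabolic slope-(semi)stability in the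
published statement are not part of this row. -/
theorem result (k : Type u) [Field k] (X : Scheme.{u})
    [X.Over (Spec (CommRingCat.of k))] [IsProper (X ↘ Spec (CommRingCat.of k))]
    (L : X.Modules) (hL : CohB1.IsAmple L) (I : X.IdealSheafData) (hD : FGA.IsEffCartier I)
    (E : X.Modules) (hE : Coh.IsCoh E) (𝓔 : ParSh.Str E) (h𝓔 : 𝓔.Along I)
    (hcoh : ∀ j, Coh.IsCoh ((𝓔.pieceX j : Subobject E) : X.Modules)) (d : ℕ) (hd : 1 ≤ d)
    (hsupp : topologicalKrullDim ↥(CohB1.support E ∩ (I.support : Set X)) < (d : WithBot ℕ∞))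
    (h0 : ¬ IsZero E) (hpure : ShStab.IsPure X E d)
    (P : ℚ[X]) (hP : ShStab.IsHilbPoly k X L E P) (PX : Fin (𝓔.l + 2) → ℚ[X])
    (hPX : ∀ j, ShStab.IsHilbPoly k X L ((𝓔.pieceX j : Subobject E) : X.Modules) (PX j))
    (H : Fin (𝓔.l + 2) → ℚ[X]) (hH : ∀ j, ShStab.IsHilbPoly k X L (cokernel (𝓔.pieceX j).arrow) (H j))
    (hHa : ∀ j : Fin (𝓔.l + 1), StabCat.alpha (d - 1) (H j.succ) ≠ 0)
    {W : X.Modules} (ι : W ⟶ E) [Mono ι] (hW : Coh.IsCoh W)
    (Q : ℚ[X]) (hQ : ShStab.IsHilbPoly k X L W Q) (QH : Fin (𝓔.l + 2) → ℚ[X])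
    (hQH : ∀ j, ShStab.IsHilbPoly k X L (cokernel ((𝓔.induced ι).pieceX j).arrow) (QH j)) :
    ((∃ M : ℕ, ∀ m : ℕ, M ≤ m → ∃ N : ℕ, ∀ n : ℕ, N ≤ n →
        (((Q.eval (m : ℚ) : ℚ) : ℝ) -
            ∑ j : Fin (𝓔.l + 1), (𝓔.wtX j.succ - 𝓔.wtX j.castSucc) *
              ((((QH j.succ).eval (n : ℚ) / (H j.succ).eval (n : ℚ) : ℚ) : ℝ) * (((H j.succ).eval (m : ℚ) : ℚ) : ℝ))) *
          ((P.eval (n : ℚ) : ℚ) : ℝ) ≤
        (W4swparbununimod.parPoly 𝓔 PX).eval (m : ℝ) * ((Q.eval (n : ℚ) : ℚ) : ℝ)) →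
      ∃ M : ℕ, ∀ m : ℕ, M ≤ m →
        (W4swparbununimod.parPolyOne 𝓔 d Q QH H).eval (m : ℝ) * (StabCat.alpha d P : ℝ) ≤
          (W4swparbununimod.parPoly 𝓔 PX).eval (m : ℝ) * (StabCat.alpha d Q : ℝ)) ∧
    ((∃ M : ℕ, ∀ m : ℕ, M ≤ m →
        (W4swparbununimod.parPolyOne 𝓔 d Q QH H).eval (m : ℝ) * (StabCat.alpha d P : ℝ) <
          (W4swparbununimod.parPoly 𝓔 PX).eval (m : ℝ) * (StabCat.alpha d Q : ℝ)) →
      ∃ M : ℕ, ∀ m : ℕ, M ≤ m → ∃ N : ℕ, ∀ n : ℕ, N ≤ n →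
        (((Q.eval (m : ℚ) : ℚ) : ℝ) -
            ∑ j : Fin (𝓔.l + 1), (𝓔.wtX j.succ - 𝓔.wtX j.castSucc) *
              ((((QH j.succ).eval (n : ℚ) / (H j.succ).eval (n : ℚ) : ℚ) : ℝ) * (((H j.succ).eval (m : ℚ) : ℚ) : ℝ))) *
          ((P.eval (n : ℚ) : ℚ) : ℝ) <
        (W4swparbununimod.parPoly 𝓔 PX).eval (m : ℝ) * ((Q.eval (n : ℚ) : ℚ) : ℝ)) := by
  have hE' : (StabLib.Sh.hp k L E).natDegree = d ∧ StabLib.Pos (StabLib.Sh.hp k L E) :=
    StabLib.Sh.hp_pos_deg k hL hE (hpure E (𝟙 E) inferInstance hE h0)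
  rw [← (StabLib.Sh.hilb_iff k hL.1 hE P).1 hP] at hE'
  have hPd : 0 < P.coeff d := by rw [← hE'.1]; exact hE'.2
  have hα : (0 : ℝ) < (StabCat.alpha d P : ℝ) := Rat.cast_pos.2 (mul_pos (by positivity) hPd)
  have hQd : Q.natDegree ≤ d := by
    rw [← hE'.1, (StabLib.Sh.hilb_iff k hL.1 hW Q).1 hQ, (StabLib.Sh.hilb_iff k hL.1 hE P).1 hP]
    exact StabLib.Inv.deg_le_of_mono (StabLib.Sh.inv k hL) ι hW hE
  have hPev : ∀ᶠ n : ℕ in Filter.atTop, (0 : ℝ) < ((P.eval (n : ℚ) : ℚ) : ℝ) :=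
    hE'.2.eventually.mono fun n hn => Rat.cast_pos.2 hn
  have hdeg : ∀ {K : ℚ[X]}, (∀ n, d ≤ n → K.coeff n = 0) → K.natDegree ≤ d - 1 := fun hK =>
    Polynomial.natDegree_le_iff_coeff_eq_zero.2 fun n hn => hK n (by omega)
  have hlim : ∀ m : ℕ, Filter.Tendsto (fun n : ℕ => ((Q.eval (m : ℚ) : ℚ) : ℝ) -
      ∑ j : Fin (𝓔.l + 1), (𝓔.wtX j.succ - 𝓔.wtX j.castSucc) *
        ((((QH j.succ).eval (n : ℚ) / (H j.succ).eval (n : ℚ) : ℚ) : ℝ) * (((H j.succ).eval (m : ℚ) : ℚ) : ℝ)))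
      Filter.atTop (nhds ((W4swparbununimod.parPolyOne 𝓔 d Q QH H).eval (m : ℝ))) := fun m => by
    rw [ParHilbLib.parPolyOne_eval]
    refine tendsto_const_nhds.sub (tendsto_finsetSum _ fun j _ => tendsto_const_nhds.mul (Filter.Tendsto.mul ?_ tendsto_const_nhds))
    have hne : (H j.succ).coeff (d - 1) ≠ 0 := fun e => hHa j (by rw [StabCat.alpha, e, mul_zero])
    refine (ParHilbLib.tendsto_ratio (QH j.succ) (H j.succ)
      (hdeg (ParHilbLib.quot_small_induced k hL hE 𝓔 hcoh h𝓔 hsupp ι hW hQH j.succ).1)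
      (hdeg (ParHilbLib.quot_small k hL hE 𝓔 hcoh h𝓔 hsupp hH j.succ).1) hne).congr fun n => ?_
    push_cast
    rfl
  have hrat := ParHilbLib.tendsto_ratio Q P hQd hE'.1.le hPd.ne'
  rw [Rat.cast_div] at hrat
  refine ⟨fun ⟨M, hM⟩ => ⟨M, fun m hm => ?_⟩, fun ⟨M, hM⟩ => ⟨M, fun m hm => ?_⟩⟩
  · obtain ⟨N, hN⟩ := hM m hm
    have hle := le_of_tendsto_of_tendsto (hlim m) (hrat.const_mul ((W4swparbununimod.parPoly 𝓔 PX).eval (m : ℝ)))
      (((Filter.eventually_ge_atTop N).and hPev).mono fun n hn => by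
        dsimp only
        rw [← mul_div_assoc, le_div_iff₀ hn.2]; exact hN n hn.1)
    rw [← mul_div_assoc, le_div_iff₀ hα] at hle
    exact hle
  · have hlt : (W4swparbununimod.parPolyOne 𝓔 d Q QH H).eval (m : ℝ) <
        (W4swparbununimod.parPoly 𝓔 PX).eval (m : ℝ) * ((StabCat.alpha d Q : ℝ) / (StabCat.alpha d P : ℝ)) := by
      rw [← mul_div_assoc, lt_div_iff₀ hα]; exact hM m hm
    obtain ⟨N, hN⟩ := Filter.eventually_atTop.1
      (((hlim m).eventually_lt (hrat.const_mul _) hlt).and hPev)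
    refine ⟨N, fun n hn => ?_⟩
    have h := (hN n hn).1
    rw [← mul_div_assoc, lt_div_iff₀ (hN n hn).2] at h
    exact h

end Groth.Agent.S18532
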