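import Groth.Statements.S18534
import Groth.Agent.GalCpl.Basic
import Groth.Agent.Cohen.Completion
import Groth.Agent.FormalStalk.Completion

set_option autoImplicit false
set_option backward.isDefEq.respectTransparency false
set_option linter.style.haveILetI false
universe u
open scoped Pointwise
open EtAlg

namespace Groth.Agent.S18534

/-- Let R be a normal domain which is excellent and S a normal domain containing R on which a finite
group G acts by R-algebra automorphisms, faithfully and with ring of invariants exactly R (so S is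
the integral closure of R in a finite Galois extension of Frac R with group G), Q a prime of S lying
over the prime P of R, and D the decomposition group of Q (the stabilizer of Q in G). Equip the
completion of the local ring S_Q with an action of D by ring automorphisms extending the action of D
on S, and with an algebra structure over the completion of R_P compatible with R → S (both exist and
are unique, by density and continuity). Then D is a Galois group for the completed extension: it
acts faithfully, linearly over the completion of R_P, and its ring of invariants is exactly the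
image of the completion of R_P; equivalently the extension of fraction fields of the completed local
rings is Galois with group D. (Only the completions of the local rings R_P and S_Q are treated. For
the P-adic completion of R itself and the Q-adic completion of S the analogous finiteness fails:
with R = k[x,y], S = k[y,t], t² = x + y², char k ≠ 2 and Q = (t − y) over P = (x), the Q-adic
completion k[y][[t − y]] is not finite over the (x)-adic completion k[y][[x]] and their fraction
fields form an extension of infinite degree.) -/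
theorem result
    (R S G : Type u) [CommRing R] [CommRing S] [IsDomain R] [IsDomain S]
    [IsIntegrallyClosed R] [IsIntegrallyClosed S] (hR : EGA4.IsExcellent R)
    [Algebra R S] [FaithfulSMul R S]
    [Group G] [Finite G] [MulSemiringAction G S] [SMulCommClass G R S] [IsGaloisGroup G R S]
    (P : Ideal R) [P.IsPrime] (Q : Ideal S) [Q.IsPrime] [Q.LiesOver P]
    [MulSemiringAction (MulAction.stabilizer G Q) (EGA4.Cpl (Localization.AtPrime Q))]
    (hact : ∀ (g : MulAction.stabilizer G Q) (s : S),
      g • algebraMap (Localization.AtPrime Q) (EGA4.Cpl (Localization.AtPrime Q)) (algebraMap S (Localization.AtPrime Q) s) =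
        algebraMap (Localization.AtPrime Q) (EGA4.Cpl (Localization.AtPrime Q)) (algebraMap S (Localization.AtPrime Q) (g • s)))
    [Algebra (EGA4.Cpl (Localization.AtPrime P)) (EGA4.Cpl (Localization.AtPrime Q))]
    (halg : ∀ r : R,
      algebraMap (EGA4.Cpl (Localization.AtPrime P)) (EGA4.Cpl (Localization.AtPrime Q)) (algebraMap (Localization.AtPrime P) (EGA4.Cpl (Localization.AtPrime P)) (algebraMap R (Localization.AtPrime P) r)) =
        algebraMap (Localization.AtPrime Q) (EGA4.Cpl (Localization.AtPrime Q)) (algebraMap S (Localization.AtPrime Q) (algebraMap R S r))) :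
    IsGaloisGroup (MulAction.stabilizer G Q) (EGA4.Cpl (Localization.AtPrime P)) (EGA4.Cpl (Localization.AtPrime Q)) := by
  classical
  haveI : IsNoetherianRing R := hR.1
  haveI : FaithfulSMul G S := IsGaloisGroup.faithful R
  haveI := IsGaloisGroup.isInvariant (G := G) (A := R) (B := S)
  haveI : Algebra.IsIntegral R S := Algebra.IsInvariant.isIntegral R S G
  letI := IsFractionRing.mulSemiringAction G S (FractionRing S)
  letI := FractionRing.liftAlgebra R (FractionRing S)
  haveI : IsGaloisGroup G (FractionRing R) (FractionRing S) :=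
    IsGaloisGroup.to_isFractionRing G R S (FractionRing R) (FractionRing S)
  haveI : FiniteDimensional (FractionRing R) (FractionRing S) :=
    IsGaloisGroup.finiteDimensional G (FractionRing R) (FractionRing S)
  haveI : IsGalois (FractionRing R) (FractionRing S) :=
    IsGaloisGroup.isGalois G (FractionRing R) (FractionRing S)
  haveI : IsIntegralClosure S R (FractionRing S) := IsIntegralClosure.of_isIntegrallyClosed S R (FractionRing S)
  haveI : Module.Finite R S := IsIntegralClosure.finite R (FractionRing R) (FractionRing S) S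
  haveI : IsNoetherianRing S := IsNoetherianRing.of_finite R S
  let Rp := Localization.AtPrime P
  let L := Localization.AtPrime Q
  haveI : IsNoetherianRing L := IsLocalization.isNoetherianRing Q.primeCompl _ inferInstance
  haveI : IsNoetherianRing Rp := IsLocalization.isNoetherianRing P.primeCompl _ inferInstance
  let jL := algebraMap L (EGA4.Cpl L)
  let jR := algebraMap Rp (EGA4.Cpl Rp)
  let MC := IsLocalRing.maximalIdeal (EGA4.Cpl L)
  have hmaxL : MC = (IsLocalRing.maximalIdeal L).map jL := AdicCompletion.maximalIdeal_eq_map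
  have hfg : (IsLocalRing.maximalIdeal L).FG := IsNoetherian.noetherian _
  have hmemL : ∀ n l, jL l ∈ MC ^ n ↔ l ∈ IsLocalRing.maximalIdeal L ^ n := fun n l => by
    rw [hmaxL, ← Groth.Agent.FormalStalk.ker_evalₐ _ hfg, RingHom.mem_ker, ← Ideal.Quotient.eq_zero_iff_mem]
    exact iff_of_eq (congrArg (· = 0) (Groth.Agent.FormalStalk.evalₐ_algebraMap _ n l))
  have hsep : ∀ y : EGA4.Cpl L, (∀ n, y ∈ MC ^ n) → y = 0 := fun y hy => by
    refine AdicCompletion.ext_evalₐ fun n => ?_
    have h1 := hy n
    rw [hmaxL, ← Groth.Agent.FormalStalk.ker_evalₐ _ hfg, RingHom.mem_ker] at h1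
    rw [map_zero]
    exact h1
  have hgMC : ∀ (g : MulAction.stabilizer G Q) (n : ℕ) (y : EGA4.Cpl L), y ∈ MC ^ n → g • y ∈ MC ^ n := by
    intro g n y hy
    let γ := MulSemiringAction.toRingEquiv (MulAction.stabilizer G Q) (EGA4.Cpl L) g
    have h1 : MC.map γ.toRingHom ≤ MC := Ideal.map_le_iff_le_comap.2 fun z hz => by
      rw [Ideal.mem_comap]
      intro hu
      exact hz (by simpa using hu.map γ.symm)
    have h2 := Ideal.mem_map_of_mem γ.toRingHom hy
    rw [Ideal.map_pow] at h2
    exact Ideal.pow_right_mono h1 n h2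
  -- the semilocal ring over `P`
  let W := Algebra.algebraMapSubmonoid S P.primeCompl
  let T := Localization W
  haveI : IsScalarTower R Rp T := inferInstance
  haveI : Module.Finite Rp T := Module.Finite.of_isLocalization R S P.primeCompl
  have hWfix : ∀ (g : G) (w : S), w ∈ W → g • w = w := by
    rintro g _ ⟨r, -, rfl⟩
    exact smul_algebraMap g r
  have hσex : ∀ g : G, W.map (MulSemiringAction.toRingEquiv G S g).toMonoidHom = W := fun g => by
    ext w
    refine ⟨?_, fun hw => ⟨w, hw, hWfix g w hw⟩⟩
    rintro ⟨v, hv, rfl⟩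
    show g • v ∈ W
    rw [hWfix g v hv]
    exact hv
  let σ : G → (T ≃+* T) := fun g => IsLocalization.ringEquivOfRingEquiv T T _ (hσex g)
  have hσ : ∀ g s, σ g (algebraMap S T s) = algebraMap S T (g • s) := fun g s =>
    IsLocalization.ringEquivOfRingEquiv_eq (hσex g) s
  have hσext : ∀ {f f' : T →+* T}, (∀ s, f (algebraMap S T s) = f' (algebraMap S T s)) → ∀ t, f t = f' t :=
    fun h t => RingHom.congr_fun (IsLocalization.ringHom_ext W (RingHom.ext h)) t
  let σhom : G →* (T ≃+* T) :=
    { toFun := σ
      map_one' := RingEquiv.ext (hσext (f := (σ 1).toRingHom) (f' := RingHom.id T) fun s => by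
        show σ 1 (algebraMap S T s) = algebraMap S T s
        rw [hσ, one_smul])
      map_mul' := fun g h => RingEquiv.ext (hσext (f := (σ (g * h)).toRingHom)
        (f' := (σ g).toRingHom.comp (σ h).toRingHom) fun s => by
          show σ (g * h) (algebraMap S T s) = σ g (σ h (algebraMap S T s))
          rw [hσ, hσ, hσ, mul_smul]) }
  letI : MulSemiringAction G T := MulSemiringAction.compHom T σhom
  have hact' : ∀ (g : G) (s : S), g • algebraMap S T s = algebraMap S T (g • s) := hσ
  have hRT : ∀ r : R, algebraMap Rp T (algebraMap R Rp r) = algebraMap S T (algebraMap R S r) := fun r => by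
    rw [← IsScalarTower.algebraMap_apply R Rp T, ← IsScalarTower.algebraMap_apply R S T]
  have hRpfix : ∀ (g : G) (c : Rp), g • algebraMap Rp T c = algebraMap Rp T c := fun g =>
    RingHom.congr_fun (IsLocalization.ringHom_ext P.primeCompl (RingHom.ext fun r => by
      show g • algebraMap Rp T (algebraMap R Rp r) = algebraMap Rp T (algebraMap R Rp r)
      rw [hRT, hact', smul_algebraMap]) :
      (MulSemiringAction.toRingHom G T g).comp (algebraMap Rp T) = algebraMap Rp T)
  haveI : SMulCommClass G Rp T := ⟨fun g c t => by rw [Algebra.smul_def, Algebra.smul_def, smul_mul', hRpfix]⟩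
  have hWne : W ≤ nonZeroDivisors S := by
    rintro _ ⟨r, hr, rfl⟩
    refine mem_nonZeroDivisors_of_ne_zero fun h => hr ?_
    rw [(FaithfulSMul.algebraMap_injective R S) (h.trans (map_zero _).symm)]
    exact P.zero_mem
  have hTinj : Function.Injective (algebraMap S T) := IsLocalization.injective T hWne
  haveI : Algebra.IsInvariant Rp T G := ⟨fun t ht => by
    obtain ⟨a, ⟨w, hw⟩, rfl⟩ := IsLocalization.exists_mk'_eq W t
    obtain ⟨r, hr, rfl⟩ := id hw
    have ha : ∀ g : G, g • a = a := fun g => hTinj (by
      rw [← hact', ← IsLocalization.mk'_spec T a ⟨algebraMap R S r, hw⟩, smul_mul', ht g, hact', smul_algebraMap])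
    obtain ⟨b, hb⟩ := Algebra.IsInvariant.isInvariant (A := R) (G := G) a ha
    refine ⟨IsLocalization.mk' Rp b ⟨r, hr⟩, ?_⟩
    rw [IsLocalization.eq_mk'_iff_mul_eq, ← hb, ← hRT, ← hRT, ← map_mul]
    congr 1
    exact IsLocalization.mk'_spec Rp b ⟨r, hr⟩⟩
  have hinj : Function.Injective (algebraMap Rp T) := by
    intro c d hcd
    obtain ⟨a, s, rfl⟩ := IsLocalization.exists_mk'_eq P.primeCompl c
    obtain ⟨b, s', rfl⟩ := IsLocalization.exists_mk'_eq P.primeCompl d
    have h1 := congrArg (fun z => z * algebraMap Rp T (algebraMap R Rp (s * s'))) hcd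
    simp only [← map_mul] at h1
    rw [show IsLocalization.mk' Rp a s * algebraMap R Rp ((s : R) * s') = algebraMap R Rp (a * s') by
        rw [map_mul, ← mul_assoc, IsLocalization.mk'_spec, map_mul],
      show IsLocalization.mk' Rp b s' * algebraMap R Rp ((s : R) * s') = algebraMap R Rp (b * s) by
        rw [map_mul, mul_comm (algebraMap R Rp (s : R)), ← mul_assoc, IsLocalization.mk'_spec, map_mul], hRT, hRT] at h1
    exact IsLocalization.mk'_eq_of_eq' ((FaithfulSMul.algebraMap_injective R S) (hTinj h1).symm)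
  -- the point `M` over `Q`
  have hPQ : Q.comap (algebraMap R S) = P := (Ideal.over_def Q P).symm
  have hdisj : Disjoint (W : Set S) (Q : Set S) := by
    rw [Set.disjoint_left]
    rintro _ ⟨r, hr, rfl⟩ hq
    exact hr (hPQ ▸ hq)
  let M : Ideal T := Q.map (algebraMap S T)
  haveI hMp : M.IsPrime := IsLocalization.isPrime_of_isPrime_disjoint W T Q inferInstance hdisj
  have hMQ : M.comap (algebraMap S T) = Q := IsLocalization.under_map_of_isPrime_disjoint W T ‹Q.IsPrime› hdisj
  haveI hM : M.IsMaximal := Ideal.isMaximal_of_isIntegral_of_isMaximal_comap (R := Rp) M (by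
    have h : M.comap (algebraMap Rp T) = IsLocalRing.maximalIdeal Rp := by
      rw [← IsLocalization.map_under P.primeCompl Rp (M.comap (algebraMap Rp T)), ← Localization.AtPrime.map_eq_maximalIdeal]
      congr 1
      show (M.comap (algebraMap Rp T)).comap (algebraMap R Rp) = P
      rw [Ideal.comap_comap, ← IsScalarTower.algebraMap_eq, IsScalarTower.algebraMap_eq R S T, ← Ideal.comap_comap,
        hMQ, hPQ]
    rw [h]; infer_instance)
  have hunit : ∀ w : W, IsUnit (algebraMap S L w) := fun w => IsLocalization.map_units L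
    (⟨w, Set.disjoint_left.1 hdisj w.2⟩ : Q.primeCompl)
  let ι : T →+* L := IsLocalization.lift (M := W) (g := algebraMap S L) hunit
  have hι : ∀ s, ι (algebraMap S T s) = algebraMap S L s := fun s => IsLocalization.lift_eq _ s
  let κ : T →+* EGA4.Cpl L := jL.comp ι
  have hinv : ∀ (n : ℕ) (u : S), u ∉ Q → ∃ v : T, 1 - v * algebraMap S T u ∈ M ^ n := fun n u hu => by
    obtain ⟨v, w, hw, e⟩ := hM.exists_inv (x := algebraMap S T u) (fun h => hu (hMQ ▸ h))
    obtain ⟨v', hv'⟩ : ∃ v' : T, 1 - v' * algebraMap S T u ∈ M ^ n := by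
      have h1 : Ideal.span {algebraMap S T u} ⊔ M = ⊤ := by
        rw [Ideal.eq_top_iff_one]
        exact Submodule.mem_sup.2 ⟨_, Ideal.mem_span_singleton'.2 ⟨v, rfl⟩, w, hw, e⟩
      have h2 := (Ideal.eq_top_iff_one _).1 (Ideal.sup_pow_eq_top (n := n) h1)
      obtain ⟨y, hy, z, hz, e'⟩ := Submodule.mem_sup.1 h2
      obtain ⟨v', rfl⟩ := Ideal.mem_span_singleton'.1 hy
      exact ⟨v', by rwa [← e', add_sub_cancel_left]⟩
    exact ⟨v', hv'⟩
  have hιM : M.map ι = IsLocalRing.maximalIdeal L := by
    rw [Ideal.map_map, show ι.comp (algebraMap S T) = algebraMap S L from RingHom.ext hι,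
      Localization.AtPrime.map_eq_maximalIdeal]
  have hιiff : ∀ (n : ℕ) (t : T), ι t ∈ IsLocalRing.maximalIdeal L ^ n ↔ t ∈ M ^ n := by
    intro n t
    refine ⟨fun h => ?_, fun h => by rw [← hιM, ← Ideal.map_pow]; exact Ideal.mem_map_of_mem _ h⟩
    obtain ⟨a, w, rfl⟩ := IsLocalization.exists_mk'_eq W t
    have h1 : algebraMap S L a ∈ (Q ^ n).map (algebraMap S L) := by
      rw [Ideal.map_pow, Localization.AtPrime.map_eq_maximalIdeal, ← hι,
        ← IsLocalization.mk'_spec T a w, map_mul]
      exact Ideal.mul_mem_right _ _ h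
    obtain ⟨u, hu, hua⟩ := (IsLocalization.algebraMap_mem_map_algebraMap_iff Q.primeCompl L (Q ^ n) a).1 h1
    have h2 : algebraMap S T u * IsLocalization.mk' T a w ∈ M ^ n := by
      rw [IsLocalization.mul_mk'_eq_mk'_of_mul, IsLocalization.mk'_eq_mul_mk'_one]
      refine Ideal.mul_mem_right _ _ ?_
      rw [← Ideal.map_pow]
      exact Ideal.mem_map_of_mem _ hua
    obtain ⟨v, hv⟩ := hinv n u hu
    have h3 := add_mem (Ideal.mul_mem_right (IsLocalization.mk' T a w) _ hv) (Ideal.mul_mem_left _ v h2)
    rwa [sub_mul, one_mul, ← mul_assoc, sub_add_cancel] at h3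
  have hκ : ∀ n t, κ t ∈ MC ^ n ↔ t ∈ M ^ n := fun n t => (hmemL n _).trans (hιiff n t)
  have hdense : ∀ (x : EGA4.Cpl L) n, ∃ t, x - κ t ∈ MC ^ n := by
    intro x n
    obtain ⟨l, hl⟩ := Groth.Agent.Cohen.exists_sub_mem_pow x n
    obtain ⟨a, u, rfl⟩ := IsLocalization.exists_mk'_eq Q.primeCompl l
    obtain ⟨v, hv⟩ := hinv n u u.2
    refine ⟨algebraMap S T a * v, ?_⟩
    have h1 : IsLocalization.mk' L a u - ι (algebraMap S T a * v) = IsLocalization.mk' L a u * ι (1 - v * algebraMap S T u) := by
      have h5 := IsLocalization.mk'_spec L a u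
      simp only [map_sub, map_one, map_mul, hι]
      linear_combination (ι v) * h5
    have h2 : jL (IsLocalization.mk' L a u - ι (algebraMap S T a * v)) ∈ MC ^ n := by
      rw [hmemL, h1]
      exact Ideal.mul_mem_left _ _ ((hιiff n _).2 hv)
    rw [map_sub] at h2
    have := add_mem hl h2
    rw [sub_add_sub_cancel] at this
    exact this
  have hκg : ∀ (g : MulAction.stabilizer G Q) (t : T), g • κ t = κ ((g : G) • t) := fun g =>
    RingHom.congr_fun (IsLocalization.ringHom_ext W (RingHom.ext fun s => by
      show g • jL (ι (algebraMap S T s)) = jL (ι ((g : G) • algebraMap S T s))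
      rw [hact', hι, hι]
      exact hact g s) :
      (MulSemiringAction.toRingHom _ (EGA4.Cpl L) g).comp κ = κ.comp (MulSemiringAction.toRingHom G T (g : G)))
  have hκR : ∀ c : Rp, algebraMap (EGA4.Cpl Rp) (EGA4.Cpl L) (jR c) = κ (algebraMap Rp T c) :=
    RingHom.congr_fun (IsLocalization.ringHom_ext P.primeCompl (RingHom.ext fun r => by
      show algebraMap (EGA4.Cpl Rp) (EGA4.Cpl L) (jR (algebraMap R Rp r)) = jL (ι (algebraMap Rp T (algebraMap R Rp r)))
      rw [hRT, hι]
      exact halg r) : (algebraMap (EGA4.Cpl Rp) (EGA4.Cpl L)).comp jR = κ.comp (algebraMap Rp T))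
  have hmapMC : ∀ (n : ℕ) (z : EGA4.Cpl Rp), z ∈ IsLocalRing.maximalIdeal (EGA4.Cpl Rp) ^ n →
      algebraMap (EGA4.Cpl Rp) (EGA4.Cpl L) z ∈ MC ^ n := by
    intro n z hz
    have h1 : (IsLocalRing.maximalIdeal (EGA4.Cpl Rp)).map (algebraMap (EGA4.Cpl Rp) (EGA4.Cpl L)) ≤ MC := by
      rw [AdicCompletion.maximalIdeal_eq_map, Ideal.map_map, Ideal.map_le_iff_le_comap]
      intro c hc
      rw [Ideal.mem_comap, RingHom.comp_apply, hκR, ← pow_one MC, hκ, pow_one]
      exact Ideal.map_le_iff_le_comap.2 (le_of_eq (Groth.Agent.GalCpl.under_eq Rp T M).symm)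
        (Ideal.mem_map_of_mem _ hc)
    have h2 := Ideal.mem_map_of_mem (algebraMap (EGA4.Cpl Rp) (EGA4.Cpl L)) hz
    rw [Ideal.map_pow] at h2
    exact Ideal.pow_right_mono h1 n h2
  have hRfix : ∀ (g : MulAction.stabilizer G Q) (z : EGA4.Cpl Rp),
      g • algebraMap (EGA4.Cpl Rp) (EGA4.Cpl L) z = algebraMap (EGA4.Cpl Rp) (EGA4.Cpl L) z := by
    intro g z
    rw [← sub_eq_zero]
    refine hsep _ fun n => ?_
    obtain ⟨c, hc⟩ := Groth.Agent.Cohen.exists_sub_mem_pow z n
    have h1 := hmapMC n _ hc
    rw [map_sub, hκR] at h1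
    have h2 := hgMC g n _ h1
    rw [smul_sub, hκg, hRpfix] at h2
    have := sub_mem h2 h1
    rwa [sub_sub_sub_cancel_right] at this
  have hgQ : ∀ g : G, g • M = M → g ∈ MulAction.stabilizer G Q := fun g hg => by
    rw [MulAction.mem_stabilizer_iff]
    ext s
    rw [Ideal.mem_pointwise_smul_iff_inv_smul_mem, ← hMQ, Ideal.mem_comap, Ideal.mem_comap, ← hact',
      ← Ideal.mem_pointwise_smul_iff_inv_smul_mem, hg]
  refine ⟨⟨fun {g h} hgh => ?_⟩, ⟨fun g c y => ?_⟩, ⟨fun x hx => ?_⟩⟩
  · refine Subtype.ext (FaithfulSMul.eq_of_smul_eq_smul (α := S) fun s => ?_)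
    refine hTinj ?_
    have h1 := hgh (κ (algebraMap S T s))
    rw [hκg, hκg, hact', hact'] at h1
    have h2 : ∀ n, ι (algebraMap S T ((g : G) • s - (h : G) • s)) ∈ IsLocalRing.maximalIdeal L ^ n := fun n => by
      rw [← hmemL]
      show κ (algebraMap S T ((g : G) • s - (h : G) • s)) ∈ MC ^ n
      rw [map_sub, map_sub, h1, sub_self]
      exact zero_mem _
    have h3 : ι (algebraMap S T ((g : G) • s - (h : G) • s)) = 0 := by
      rw [← Ideal.mem_bot, ← Ideal.iInf_pow_eq_bot_of_isLocalRing _ (IsLocalRing.maximalIdeal.isMaximal L).ne_top,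
        Ideal.mem_iInf]
      exact h2
    rw [hι] at h3
    have h4 : (g : G) • s = (h : G) • s := sub_eq_zero.1
      ((IsLocalization.injective L Q.primeCompl_le_nonZeroDivisors) (h3.trans (map_zero _).symm))
    rw [h4]
  · rw [Algebra.smul_def, Algebra.smul_def, smul_mul', hRfix]
  · obtain ⟨r, hr, hrx⟩ := Groth.Agent.GalCpl.exists_seq Rp T G hinj M κ MC hκ x (hdense x) fun g hg n t ht => by
      have h1 := hgMC ⟨g, hgQ g hg⟩ n _ ht
      rwa [smul_sub, hx, hκg] at h1
    obtain ⟨z, hz⟩ : ∃ z : EGA4.Cpl Rp, ∀ n, z - jR (r n) ∈ IsLocalRing.maximalIdeal (EGA4.Cpl Rp) ^ n := by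
      haveI : IsAdicComplete (IsLocalRing.maximalIdeal Rp) (EGA4.Cpl Rp) :=
        AdicCompletion.isAdicComplete (IsNoetherian.noetherian _)
      haveI : IsAdicComplete (IsLocalRing.maximalIdeal (EGA4.Cpl Rp)) (EGA4.Cpl Rp) := by
        rw [AdicCompletion.maximalIdeal_eq_map]
        exact (IsAdicComplete.map_algebraMap_iff _ _).2 inferInstance
      obtain ⟨z, hz⟩ := IsPrecomplete.prec (I := IsLocalRing.maximalIdeal (EGA4.Cpl Rp)) inferInstance
        (f := fun n => jR (r n)) fun {i l} hil => by
          rw [SModEq.sub_mem, smul_eq_mul, Ideal.mul_top, ← map_sub, AdicCompletion.maximalIdeal_eq_map,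
            ← Ideal.map_pow]
          exact Ideal.mem_map_of_mem _ (hr i l hil)
      refine ⟨z, fun n => ?_⟩
      have := hz n
      rw [SModEq.sub_mem, smul_eq_mul, Ideal.mul_top] at this
      simpa using neg_mem this
    refine ⟨z, ?_⟩
    rw [← sub_eq_zero]
    refine hsep _ fun n => ?_
    have h1 := hmapMC n _ (hz n)
    rw [map_sub, hκR] at h1
    have := sub_mem h1 (hrx n)
    rwa [sub_sub_sub_cancel_right] at this

end Groth.Agent.S18534
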