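import Groth.Statements.S18535
import Groth.Agent.Purity.CHR
import Groth.Agent.Hensel.SemiLocalProd
import Groth.Agent.Hensel.Idempotent

set_option autoImplicit false
universe u
open EtAlg

namespace Groth.Agent.S18535

/-- Let R be a complete Noetherian local normal domain with maximal ideal m, let S be a normal domain
containing R on which a finite group G acts by R-algebra automorphisms, faithfully and with ring of
invariants exactly R (so that S is the integral closure of R in some finite Galois extension, with
group G, of Frac R), and let n be a maximal ideal of S over m. Then the inertia subgroup of n in G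
(the elements g with g s - s ∈ n for all s ∈ S) is trivial if and only if mS = n and the residue
field S/n is finite and separable over R/m. -/
theorem result
    (R S G : Type u) [CommRing R] [CommRing S] [IsDomain R] [IsDomain S]
    [IsNoetherianRing R] [IsLocalRing R] [IsIntegrallyClosed R]
    [IsAdicComplete (IsLocalRing.maximalIdeal R) R]
    [Algebra R S] [FaithfulSMul R S] [IsIntegrallyClosed S]
    [Group G] [Finite G] [MulSemiringAction G S] [SMulCommClass G R S] [IsGaloisGroup G R S]
    (n : Ideal S) [n.IsMaximal] [n.LiesOver (IsLocalRing.maximalIdeal R)] :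
    n.toAddSubgroup.inertia G = ⊥ ↔
      ((IsLocalRing.maximalIdeal R).map (algebraMap R S) = n ∧
        Module.Finite (R ⧸ IsLocalRing.maximalIdeal R) (S ⧸ n) ∧
        Algebra.IsSeparable (R ⧸ IsLocalRing.maximalIdeal R) (S ⧸ n)) := by
  classical
  haveI := IsGaloisGroup.isInvariant (G := G) (A := R) (B := S)
  haveI hint : Algebra.IsIntegral R S := Algebra.IsInvariant.isIntegral R S G
  letI := IsFractionRing.mulSemiringAction G S (FractionRing S)
  letI := FractionRing.liftAlgebra R (FractionRing S)
  haveI : IsGaloisGroup G (FractionRing R) (FractionRing S) :=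
    IsGaloisGroup.to_isFractionRing G R S (FractionRing R) (FractionRing S)
  haveI : FiniteDimensional (FractionRing R) (FractionRing S) :=
    IsGaloisGroup.finiteDimensional G (FractionRing R) (FractionRing S)
  haveI : IsGalois (FractionRing R) (FractionRing S) :=
    IsGaloisGroup.isGalois G (FractionRing R) (FractionRing S)
  haveI : IsIntegralClosure S R (FractionRing S) := IsIntegralClosure.of_isIntegrallyClosed S R (FractionRing S)
  haveI : Module.Finite R S := IsIntegralClosure.finite R (FractionRing R) (FractionRing S) S
  haveI : IsNoetherianRing S := IsNoetherianRing.of_finite R S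
  haveI : IsLocalRing S := by
    have hsep := Groth.Agent.Hensel.SemiLocalProd.separated_of_surjOn R (B := S)
      (Groth.Agent.Hensel.bijOn_idempotents (I := IsLocalRing.maximalIdeal R) S).surjOn
    refine IsLocalRing.of_unique_max_ideal ⟨n, inferInstance, fun n' hn' => ?_⟩
    by_contra hne
    obtain ⟨e, he, hen, hother⟩ := hsep ⟨n, inferInstance⟩
    have h1 : e ∈ n' := hother ⟨n', hn'⟩ fun h => hne (congrArg MaximalSpectrum.asIdeal h)
    rcases IsIdempotentElem.iff_eq_zero_or_one.mp he with rfl | rfl
    · exact hen n.zero_mem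
    · exact hn'.ne_top ((Ideal.eq_top_iff_one _).mpr h1)
  obtain rfl : n = IsLocalRing.maximalIdeal S := IsLocalRing.eq_maximalIdeal inferInstance
  haveI : IsLocalHom (algebraMap R S) :=
    ((IsLocalRing.local_hom_TFAE (algebraMap R S)).out 4 0).mp
      ((Ideal.over_def (IsLocalRing.maximalIdeal S) (IsLocalRing.maximalIdeal R)).symm)
  have hinj : Function.Injective (algebraMap R S) := FaithfulSMul.algebraMap_injective R S
  have hcomm : ∀ x : R ⧸ IsLocalRing.maximalIdeal R,
      algebraMap (IsLocalRing.ResidueField R) (IsLocalRing.ResidueField S) x =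
        algebraMap (R ⧸ IsLocalRing.maximalIdeal R) (S ⧸ IsLocalRing.maximalIdeal S) x := fun x => by
    obtain ⟨r, rfl⟩ := Ideal.Quotient.mk_surjective x
    rfl
  have hsepeq : Algebra.IsSeparable (R ⧸ IsLocalRing.maximalIdeal R) (S ⧸ IsLocalRing.maximalIdeal S) ↔
      Algebra.IsSeparable (IsLocalRing.ResidueField R) (IsLocalRing.ResidueField S) := by
    let A1 : Algebra (R ⧸ IsLocalRing.maximalIdeal R) (S ⧸ IsLocalRing.maximalIdeal S) :=
      (inferInstance : Algebra (IsLocalRing.ResidueField R) (IsLocalRing.ResidueField S))
    have heq : (inferInstance : Algebra (R ⧸ IsLocalRing.maximalIdeal R) (S ⧸ IsLocalRing.maximalIdeal S)) = A1 :=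
      Algebra.algebra_ext _ _ fun x => (hcomm x).symm
    constructor
    · intro h
      have h' : @Algebra.IsSeparable _ _ _ _ A1 := heq ▸ h
      exact h'
    · intro h
      have h' : @Algebra.IsSeparable (R ⧸ IsLocalRing.maximalIdeal R) (S ⧸ IsLocalRing.maximalIdeal S) _ _ A1 := h
      convert h'
  constructor
  · intro hI
    haveI : Fintype G := Fintype.ofFinite G
    have hI' : ∀ P : Ideal S, P.IsPrime → P.comap (algebraMap R S) = IsLocalRing.maximalIdeal R →
        P.inertia G ≤ (⊥ : Subgroup G) := by
      intro P hP hPm
      have hmax : P.IsMaximal := Ideal.isMaximal_of_isIntegral_of_isMaximal_comap P (by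
        rw [hPm]; infer_instance)
      rw [IsLocalRing.eq_maximalIdeal hmax]
      exact hI.le
    obtain ⟨s, hs, ι, _, x, y, -, -, hsum, hzero⟩ := Groth.Agent.Purity.CHR.exists_chr (R := R) (A := S)
      (H := G) hinj (p := IsLocalRing.maximalIdeal R) (K := ⊥) hI'
      (Finset.univ.filter fun σ : G => σ ≠ 1) (fun σ hσ => by simpa using hσ)
    obtain ⟨u, hu⟩ : IsUnit (algebraMap R S s) :=
      (show IsUnit s from by simpa [IsLocalRing.mem_maximalIdeal, mem_nonunits_iff] using hs).map _
    let x' : ι → S := fun k => (↑u⁻¹ : S) * x k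
    have h1 : ∀ σ : G, ∑ k, x' k * σ • y k = if σ = 1 then 1 else 0 := by
      intro σ
      simp only [x', mul_assoc, ← Finset.mul_sum]
      split_ifs with h
      · subst h
        simp only [one_smul]
        rw [hsum, ← hu, Units.inv_mul]
      · rw [hzero σ (by simpa using h), mul_zero]
    have htr : ∀ c : S, ∃ r : R, algebraMap R S r = ∑ σ : G, σ • c := fun c =>
      Algebra.IsInvariant.isInvariant (A := R) (G := G) _ fun τ => by
        rw [Finset.smul_sum]
        simp only [← mul_smul]
        exact Fintype.sum_equiv (Equiv.mulLeft τ) _ _ fun σ => rfl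
    choose tr htr using htr
    have hL : ∀ b : S, ∑ j, tr (y j * b) • x' j = b := fun b => by
      simp only [Algebra.smul_def, htr, Finset.sum_mul, smul_mul']
      rw [Finset.sum_comm]
      calc ∑ σ : G, ∑ j, σ • y j * σ • b * x' j = ∑ σ : G, σ • b * ∑ j, x' j * σ • y j := by
            refine Finset.sum_congr rfl fun σ _ => ?_
            rw [Finset.mul_sum]
            exact Finset.sum_congr rfl fun j _ => by ring
        _ = b := by simp [h1]
    have hR : ∀ b : S, ∑ k, tr (b * x' k) • y k = b := fun b => by
      simp only [Algebra.smul_def, htr, Finset.sum_mul, smul_mul']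
      rw [Finset.sum_comm]
      calc ∑ σ : G, ∑ k, σ • b * σ • x' k * y k = ∑ σ : G, σ • b * σ • (∑ k, x' k * σ⁻¹ • y k) := by
            refine Finset.sum_congr rfl fun σ _ => ?_
            rw [Finset.smul_sum, Finset.mul_sum]
            exact Finset.sum_congr rfl fun k _ => by simp only [x', smul_mul', smul_inv_smul, mul_assoc]
        _ = b := by simp [h1, inv_eq_one]
    haveI : Algebra.FormallyUnramified R S := by
      rw [Algebra.FormallyUnramified.iff_exists_tensorProduct]
      refine ⟨∑ k, x' k ⊗ₜ[R] y k, fun a => ?_, ?_⟩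
      · rw [sub_mul, Finset.mul_sum, Finset.mul_sum, sub_eq_zero]
        simp only [Algebra.TensorProduct.tmul_mul_tmul, one_mul]
        calc ∑ j, x' j ⊗ₜ[R] (a * y j)
            = ∑ j, ∑ k, tr (a * y j * x' k) • (x' j ⊗ₜ[R] y k) := by
              refine Finset.sum_congr rfl fun j _ => ?_
              conv_lhs => rw [← hR (a * y j)]
              rw [TensorProduct.tmul_sum]
              simp only [TensorProduct.tmul_smul]
          _ = ∑ k, ∑ j, tr (y j * (a * x' k)) • (x' j ⊗ₜ[R] y k) := by
              rw [Finset.sum_comm]
              refine Finset.sum_congr rfl fun k _ => Finset.sum_congr rfl fun j _ => ?_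
              rw [show a * y j * x' k = y j * (a * x' k) by ring]
          _ = ∑ k, (a * x' k) ⊗ₜ[R] y k := by
              refine Finset.sum_congr rfl fun k _ => ?_
              conv_rhs => rw [← hL (a * x' k)]
              rw [TensorProduct.sum_tmul]
              simp only [TensorProduct.smul_tmul']
      · rw [map_sum]
        simp only [Algebra.TensorProduct.lmul'_apply_tmul]
        simpa using h1 1
    obtain ⟨h2, h3⟩ := Algebra.FormallyUnramified.iff_map_maximalIdeal_eq.mp ‹Algebra.FormallyUnramified R S›
    exact ⟨h3, inferInstance, hsepeq.mpr h2⟩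
  · rintro ⟨h3, -, h2⟩
    haveI : Algebra.FormallyUnramified R S :=
      Algebra.FormallyUnramified.iff_map_maximalIdeal_eq.mpr ⟨hsepeq.mp h2, h3⟩
    refine eq_bot_iff.mpr fun σ hσ => ?_
    rw [Subgroup.mem_bot]
    let n := IsLocalRing.maximalIdeal S
    have key : ∀ k (x : S), σ • x - x ∈ n ^ (k + 1) := by
      intro k
      induction k with
      | zero => intro x; rw [zero_add, pow_one]; exact hσ x
      | succ k ih =>
        let g : S →ₐ[R] (S ⧸ n ^ (k + 1 + 1)) := Ideal.Quotient.mkₐ R _
        let f : (S ⧸ n ^ (k + 1 + 1)) →+* (S ⧸ n ^ (k + 1)) :=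
          Ideal.Quotient.factor (Ideal.pow_le_pow_right (Nat.le_succ _))
        have hker : IsNilpotent (RingHom.ker f) := by
          refine ⟨2, eq_bot_iff.mpr ?_⟩
          have hk : RingHom.ker f ≤ (n ^ (k + 1)).map (Ideal.Quotient.mk (n ^ (k + 1 + 1))) := by
            intro z hz
            obtain ⟨z, rfl⟩ := Ideal.Quotient.mk_surjective z
            exact Ideal.mem_map_of_mem _ (Ideal.Quotient.eq_zero_iff_mem.mp hz)
          refine le_trans (Ideal.pow_right_mono hk 2) ?_
          rw [← Ideal.map_pow, ← pow_mul]
          refine le_trans (Ideal.map_mono (Ideal.pow_le_pow_right (show k + 1 + 1 ≤ (k + 1) * 2 by lia))) ?_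
          rw [Ideal.map_quotient_self]
        have h := Algebra.FormallyUnramified.ext' (R := R) f hker
          (g.comp (MulSemiringAction.toAlgHom R S σ)) g (fun x => Ideal.Quotient.eq.mpr (ih x))
        exact fun x => Ideal.Quotient.eq.mp (AlgHom.congr_fun h x)
    have hfix : ∀ x : S, σ • x = x := fun x => by
      rw [← sub_eq_zero, ← Ideal.mem_bot, ← Ideal.iInf_pow_eq_bot_of_isLocalRing n
        (IsLocalRing.maximalIdeal.isMaximal S).ne_top, Ideal.mem_iInf]
      intro k
      exact Ideal.pow_le_pow_right (Nat.le_succ k) (key k x)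
    haveI := IsGaloisGroup.faithful R (G := G) (B := S)
    exact eq_of_smul_eq_smul fun x : S => (hfix x).trans (one_smul G x).symm

end Groth.Agent.S18535
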