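import Groth.Statements.S18538
import Mathlib

set_option autoImplicit false
universe u
open EtAlg

open scoped TensorProduct

namespace Groth.Agent.S18538

/-- Let A ⊆ B be an injective finite extension of integrally closed domains, with fraction fields K ⊆ L
and L separable over K. Then A → B → B ⊗_A B is exact, the second map being b ↦ b ⊗ 1 - 1 ⊗ b: every
element of B whose two images in B ⊗_A B agree comes from A. -/
theorem result
    (A B K L : Type u) [CommRing A] [CommRing B] [IsDomain A] [IsDomain B]
    [IsIntegrallyClosed A] [IsIntegrallyClosed B] [Algebra A B] [FaithfulSMul A B] [Module.Finite A B]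
    [Field K] [Field L] [Algebra A K] [IsFractionRing A K] [Algebra B L] [IsFractionRing B L]
    [Algebra K L] [Algebra A L] [IsScalarTower A K L] [IsScalarTower A B L]
    [Algebra.IsSeparable K L] :
    Algebra.IsEffective A B := by
  intro b
  refine ⟨fun hb => ?_, fun hb => Algebra.TensorProduct.includeLeftSubRight_zero_of_mem_range hb⟩
  rw [Algebra.TensorProduct.includeLeftSubRight_apply, sub_eq_zero] at hb
  let φ : B ⊗[A] B →ₐ[A] L ⊗[K] L := Algebra.TensorProduct.lift
    (((Algebra.TensorProduct.includeLeft (R := K) (S := K) (A := L) (B := L)).restrictScalars A).comp (IsScalarTower.toAlgHom A B L))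
    (((Algebra.TensorProduct.includeRight (R := K) (A := L) (B := L)).restrictScalars A).comp (IsScalarTower.toAlgHom A B L))
    (fun _ _ => Commute.all _ _)
  have hb' : algebraMap B L b ⊗ₜ[K] (1 : L) = (1 : L) ⊗ₜ[K] algebraMap B L b := by
    have h := congrArg φ hb
    simpa [φ, Algebra.TensorProduct.one_def] using h
  obtain ⟨k, hk⟩ : algebraMap B L b ∈ Set.range (Algebra.linearMap K L) :=
    (Algebra.IsEffective.of_faithfullyFlat K L _).1 (by
      rw [Algebra.TensorProduct.includeLeftSubRight_apply, sub_eq_zero]; exact hb')
  have hint : IsIntegral A k := by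
    refine (isIntegral_algHom_iff (IsScalarTower.toAlgHom A K L) (algebraMap K L).injective).1 ?_
    rw [IsScalarTower.coe_toAlgHom']
    rw [Algebra.linearMap_apply] at hk
    rw [hk]
    exact (Algebra.IsIntegral.isIntegral (R := A) b).map (IsScalarTower.toAlgHom A B L)
  obtain ⟨a, ha⟩ := IsIntegrallyClosed.isIntegral_iff.1 hint
  refine ⟨a, ?_⟩
  apply IsFractionRing.injective B L
  rw [Algebra.linearMap_apply, ← IsScalarTower.algebraMap_apply, IsScalarTower.algebraMap_apply A K L, ha]
  simpa using hk

end Groth.Agent.S18538
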