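import Groth.Statements.S18539
import Mathlib.RingTheory.Regular.RegularSequence

set_option autoImplicit false
universe u v w
open CAlg

namespace Groth.Agent.S18539

/-- For a commutative ring R, R-modules M and N and elements r₁, r₂ of R such that r₁ is a
non-zero-divisor on N and r₂ is a non-zero-divisor on N/r₁N, the element r₁ is a non-zero-divisor on
the module Hom_R(M, N) and r₂ is a non-zero-divisor on Hom_R(M, N)/r₁Hom_R(M, N). (Weak regularity
on both sides: no condition that the quotient by (r₁, r₂) is nonzero, which would fail for M = 0.) -/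
theorem result
    (R : Type u) [CommRing R] (M : Type v) (N : Type w)
    [AddCommGroup M] [Module R M] [AddCommGroup N] [Module R N]
    (r₁ r₂ : R) (h : RingTheory.Sequence.IsWeaklyRegular N [r₁, r₂]) :
    RingTheory.Sequence.IsWeaklyRegular (M →ₗ[R] N) [r₁, r₂] := by
  rw [RingTheory.Sequence.isWeaklyRegular_cons_iff, RingTheory.Sequence.isWeaklyRegular_cons_iff] at h ⊢
  obtain ⟨h1, h2, -⟩ := h
  have hreg : IsSMulRegular (M →ₗ[R] N) r₁ := fun f g hfg => LinearMap.ext fun m => h1 (LinearMap.congr_fun hfg m)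
  refine ⟨hreg, ?_, RingTheory.Sequence.IsWeaklyRegular.nil _ _⟩
  intro x y hxy
  obtain ⟨f, rfl⟩ := Submodule.Quotient.mk_surjective _ x
  obtain ⟨g, rfl⟩ := Submodule.Quotient.mk_surjective _ y
  dsimp only at hxy
  rw [← Submodule.Quotient.mk_smul, ← Submodule.Quotient.mk_smul, Submodule.Quotient.eq, Submodule.mem_smul_pointwise_iff_exists] at hxy
  obtain ⟨e, -, he⟩ := hxy
  have hmem : ∀ m, ∃ n : N, r₁ • n = (f - g) m := fun m => by
    have h3 : (Submodule.Quotient.mk (f m) : QuotSMulTop r₁ N) = Submodule.Quotient.mk (g m) := by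
      refine h2 ?_
      dsimp only
      rw [← Submodule.Quotient.mk_smul, ← Submodule.Quotient.mk_smul, Submodule.Quotient.eq]
      exact Submodule.mem_smul_pointwise_iff_exists _ _ _ |>.2 ⟨e m, trivial, LinearMap.congr_fun he m⟩
    rw [Submodule.Quotient.eq, Submodule.mem_smul_pointwise_iff_exists] at h3
    obtain ⟨n, -, hn⟩ := h3
    exact ⟨n, hn⟩
  choose d hd using hmem
  rw [Submodule.Quotient.eq, Submodule.mem_smul_pointwise_iff_exists]
  refine ⟨{ toFun := d, map_add' := fun a b => h1 ?_, map_smul' := fun c a => h1 ?_ }, trivial, LinearMap.ext hd⟩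
  · show r₁ • d (a + b) = r₁ • (d a + d b)
    rw [smul_add, hd, hd, hd, map_add]
  · show r₁ • d (c • a) = r₁ • (c • d a)
    rw [smul_comm, hd, hd, map_smul]

end Groth.Agent.S18539
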