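import Groth.Statements.S18541
import Groth.Agent.AVAmple.Mumford
import Groth.Agent.AgSymm.Family
import Groth.Agent.AgSymm.Basic
import Groth.Agent.LBDesc.DualRigid
import Groth.Agent.AgSymm.AlgMul
import Groth.Agent.FrobPic.Pow
import Groth.Agent.AgPos.TransposeExact
import Groth.Agent.ClosedRep.GeomIntegral

set_option autoImplicit false
universe u
open CategoryTheory MonoidalCategory CartesianMonoidalCategory MonObj GrpObj AlgebraicGeometry
open AbVar

namespace Groth.Agent.S18541

/-- Let k be a finite field with q elements and A an abelian variety over k (a commutative group scheme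
over k which is smooth and proper with geometrically connected fibres), given with a dual (A^t, φ)
for the fppf topology. Let π : A → A be the q-power Frobenius endomorphism of A (the identity on the
underlying space and the q-th power map on sections; a homomorphism) and π^t : A^t → A^t a transpose
of π. Let L be an invertible module on A and λ_L : A → A^t the homomorphism Λ(L) attached to L
through φ. Then π followed by λ_L followed by π^t is q·λ_L, the q-th power of λ_L in the group of
morphisms A → A^t. (The published statement fixes L ample and reads π^‡ ∘ π = [q] for the Rosati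
involution ‡ of L; its proof rewrites this as the displayed identity, which uses only that L is
invertible.) -/
theorem result (k : Type u) [Field k] [Finite k]
    (A At : Over (Spec (CommRingCat.of k)))
    [GrpObj A] [IsCommMonObj A] [Smooth A.hom] [IsProper A.hom] [GeometricallyConnected A.hom]
    [GrpObj At] [IsCommMonObj At]
    (φ : AgPol.DualMap A At) (hdual : AbDual.IsDualAV Scheme.fppfPrecoverage A At φ)
    (π : A ⟶ A) [IsMonHom π] (hπb : π.left.base = 𝟙 _) (hπle : ∀ U : A.left.Opens, U ≤ π.left ⁻¹ᵁ U)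
    (hπapp : ∀ (U : A.left.Opens) (s : Γ(A.left, U)), (π.left.appLE U U (hπle U)).hom s = s ^ Nat.card k)
    (πt : At ⟶ At) [IsMonHom πt] (hπt : AbDual.IsTranspose π φ φ πt)
    (L : A.left.Modules) (hL : PicF.IsInvertible L) (lam : A ⟶ At) (hlam : AgPol.IsLambda A At φ L lam) :
    π ≫ lam ≫ πt = lam ^ Nat.card k := by
  letI := fun Y : Scheme.{u} => W7Cube.law Y
  haveI : GeometricallyIntegral A.hom := ClosedRep.GeomIntegral.geometricallyIntegral_of_smooth A.hom
  obtain ⟨N, hN, hΛ, rfl⟩ := hlam
  let l := PicGrp.cls L hL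
  let M : (A ⟶ A) → PicLoc.PicSet (A ⊗ A).left := fun z => AVAmple.mum l z
  have hE : M (𝟙 A) = PicGrp.cls N hN := (AVAmple.isLambda_iff L hL (𝟙 A) N hN).1 (by
    rw [MonoidalCategory.whiskerLeft_id, Category.id_comp, Category.comp_id]
    exact hΛ)
  have hpull : ∀ (c : PicLoc.PicSet A.left) (z x : A ⟶ A),
      W7Cube.pull (A ◁ x).left (AVAmple.mum c z) = AVAmple.mum c (x ≫ z) := fun c z x => by
    rw [AVAmple.mum, AVAmple.mum, map_mul, map_inv, map_mul, W7Cube.pull_pc, W7Cube.pull_pc, W7Cube.pull_pc,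
      MonObj.comp_mul, whiskerLeft_fst, whiskerLeft_snd_assoc]
  have hz : AbDual.IsPicZeroCl A.hom A (M (𝟙 A)).1 := by
    refine AgSymm.picZero_of_family (X := A) (T := A) (𝟙 _) A.hom (Category.comp_id _) η[A] (Over.w η[A]) _ ?_
    show W7Cube.pull (A ◁ η[A]).left (AVAmple.mum l (𝟙 A)) = 1
    rw [AVAmple.mum, map_mul, map_inv, map_mul, W7Cube.pull_pc, W7Cube.pull_pc, W7Cube.pull_pc, MonObj.comp_mul,
      whiskerLeft_fst, whiskerLeft_snd_assoc, Category.comp_id, show η[A] = (1 : 𝟙_ _ ⟶ A) by
        rw [Hom.one_def, toUnit_unique (toUnit _) (𝟙 _), Category.id_comp], MonObj.comp_one, _root_.mul_one,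
      W7Cube.pc_one, _root_.mul_one, mul_inv_cancel]
  have hzπ : AbDual.IsPicZeroCl A.hom A (M π).1 := by
    have h := LBDesc.picZero_XTmap A.hom π hz
    rwa [AgSymm.XTmap_eq, show W7Cube.pull (A ◁ π).left (M (𝟙 A)) = M π from
      (hpull l (𝟙 A) π).trans (by rw [Category.comp_id])] at h
  have h1 : φ A (M π).1 = π ≫ φ A (PicF.cl N) := by
    have h := hdual.relPic.natural A A π _ hz
    rw [show φ A (PicF.cl N) = φ A (M (𝟙 A)).1 by rw [hE]; rfl, ← h]
    refine congrArg (φ A) (congrArg Subtype.val (?_ : _ = W7Cube.pull (PicF.XTmap A.hom π) (M (𝟙 A))))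
    rw [AgSymm.XTmap_eq]
    exact ((hpull l (𝟙 A) π).trans (by rw [Category.comp_id])).symm
  have hb : W7Cube.pull (AbDual.bcMap π A) (M π) = M (𝟙 A) ^ Nat.card k := by
    have e : AbDual.bcMap π A = (lift (fst A A ≫ π) (snd A A)).left := AbPrim.bcMap_eq _ _
    rw [e]
    show W7Cube.pull _ (AVAmple.mum l π) = _
    rw [AVAmple.mum, map_mul, map_inv, map_mul, W7Cube.pull_pc, W7Cube.pull_pc, W7Cube.pull_pc, MonObj.comp_mul,
      lift_fst, lift_snd_assoc, ← MonObj.mul_comp, ← W7Cube.pull_pc l (fst A A * snd A A) π,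
      ← W7Cube.pull_pc l (fst A A) π, ← W7Cube.pull_pc l (snd A A) π,
      show W7Cube.pc l π = l ^ Nat.card k from FrobPic.pull_of_isFrob A.hom π.left hπb hπle hπapp l,
      map_pow, map_pow, map_pow]
    show _ = AVAmple.mum l (𝟙 A) ^ Nat.card k
    rw [AVAmple.mum, Category.comp_id, mul_pow, inv_pow, mul_pow]
    rfl
  have h2 := hπt A (M π).1 hzπ
  rw [h1, Category.assoc] at h2
  refine h2.symm.trans ?_
  rw [show φ A (PicF.cl N) = φ A (M (𝟙 A)).1 by rw [hE]; rfl]
  refine (congrArg (φ A) (congrArg Subtype.val hb)).trans ?_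
  have hpow : ∀ j : ℕ, AbDual.IsPicZeroCl A.hom A (M (𝟙 A) ^ j).1 ∧
      φ A (M (𝟙 A) ^ j).1 = φ A (M (𝟙 A)).1 ^ j := fun j => by
    induction j with
    | zero => exact ⟨by rw [pow_zero]; exact AbPrim.picZero_one, by rw [pow_zero, pow_zero]; exact AbPrim.phi_one hdual⟩
    | succ j ih => exact ⟨by rw [pow_succ]; exact AgSymm.picZero_mul ih.1 hz,
        by rw [pow_succ, pow_succ, AbPrim.phi_mul hdual ih.1 hz, ih.2]⟩
  exact (hpow _).2

end Groth.Agent.S18541
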