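import Groth.Statements.S18543
import Groth.Agent.UnipMult.Pointed
import Groth.Agent.FinHopf.Power
import Groth.Prelude.Def_Versch

set_option autoImplicit false
universe u
open Hopf

namespace Groth.Agent.S18543

open TensorProduct Coalgebra WithConv Groth.Agent

theorem pow_eq_zero.{u₁} {k : Type u₁} [Field k] (p : ℕ) [Fact p.Prime] [CharP k p] {A : Type u₁} [CommRing A]
    [HopfAlgebra k A] [Coalgebra.IsCocomm k A] [Module.Finite k A] [Algebra.Etale k A] (n : ℕ)
    (hA : Module.finrank k A = p ^ n) (f : WithConv (A →ₗ[k] k)) (hf : f (1 : A) = 0) : f ^ p ^ n = 0 := by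
  let K := AlgebraicClosure k
  let W := WithConv (A →ₗ[k] K)
  have hp : p.Prime := Fact.out
  have : CharP K p := charP_of_injective_algebraMap (algebraMap k K).injective p
  have : IsReduced (K ⊗[k] A) := Algebra.FormallyUnramified.isReduced_of_field K (K ⊗[k] A)
  let ι : (A →ₗ[k] k) → W := fun h => toConv ((Algebra.ofId k K).toLinearMap ∘ₗ h)
  have hι : ∀ m, ι (f ^ m).ofConv = (ι f.ofConv) ^ m := by
    intro m
    induction m with
    | zero =>
      refine WithConv.ext (LinearMap.ext fun a => ?_)
      simp [ι, LinearMap.convOne_apply]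
    | succ m ih =>
      rw [pow_succ, pow_succ, ← ih]
      refine WithConv.ext ?_
      show (Algebra.ofId k K).toLinearMap ∘ₗ (f ^ m * f).ofConv = _
      exact LinearMap.algHom_comp_convMul_distrib (Algebra.ofId k K) (f ^ m) f
  let res : ((K ⊗[k] A) →ₐ[K] K) → WithConv (A →ₐ[k] K) := fun χ =>
    toConv ((χ.restrictScalars k).comp Algebra.TensorProduct.includeRight)
  obtain ⟨s, c, hsc⟩ : ∃ (s : Finset ((K ⊗[k] A) →ₐ[K] K)) (c : ((K ⊗[k] A) →ₐ[K] K) → K),
      ι f.ofConv = ∑ χ ∈ s, c χ • toConv (res χ).ofConv.toLinearMap := by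
    have hmem := UnipMult.mem_span_characters (K := K) (E := K ⊗[k] A)
      ((((Algebra.ofId k K).toLinearMap ∘ₗ f.ofConv)).liftBaseChange K)
    obtain ⟨c, hc⟩ := Finsupp.mem_span_range_iff_exists_finsupp.1 hmem
    refine ⟨c.support, c, ?_⟩
    refine WithConv.ext (LinearMap.ext fun a => ?_)
    rw [WithConv.ofConv_sum, LinearMap.sum_apply]
    have h1 := LinearMap.congr_fun hc ((1 : K) ⊗ₜ[k] a)
    rw [LinearMap.liftBaseChange_tmul, one_smul, Finsupp.sum, LinearMap.sum_apply] at h1
    exact h1.symm
  have hsum : ∑ g ∈ s, c g = 0 := by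
    have h1 := congrArg (fun φ : W => φ (1 : A)) hsc
    simp only [WithConv.ofConv_sum, LinearMap.sum_apply] at h1
    rw [show ι f.ofConv (1 : A) = algebraMap k K (f (1 : A)) from rfl, hf, map_zero] at h1
    rw [h1]
    refine Finset.sum_congr rfl fun g _ => ?_
    show c g = c g • (res g).ofConv (1 : A)
    rw [map_one, smul_eq_mul, mul_one]
  have : CharP W p := by
    have : Nontrivial W := ⟨⟨1, 0, fun h => by
      have h1 := congrArg (fun φ : W => φ (1 : A)) h
      simp [LinearMap.convOne_apply] at h1⟩⟩
    refine (CharP.charP_iff_prime_eq_zero hp).2 ?_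
    rw [← nsmul_one]
    refine WithConv.ext (LinearMap.ext fun b => ?_)
    show p • (1 : W) b = 0
    rw [nsmul_eq_mul, CharP.cast_eq_zero, zero_mul]
  have hg : ∀ g : WithConv (A →ₐ[k] K), (toConv g.ofConv.toLinearMap : W) ^ p ^ n = 1 := by
    intro g
    have h1 : g ^ p ^ n = 1 := by
      have h2 : g = FinHopf.pointsMap g.ofConv (toConv (AlgHom.id k A)) := rfl
      rw [h2, ← map_pow, ← hA, FinHopf.id_pow_finrank, map_one]
    exact (AlgHom.toLinearMap_convPow g (p ^ n)).symm.trans
      ((congrArg (fun z : WithConv (A →ₐ[k] K) => toConv z.ofConv.toLinearMap) h1).trans AlgHom.toLinearMap_convOne)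
  have h0 : ι (f ^ p ^ n).ofConv = 0 := by
    rw [hι, hsc, sum_pow_char_pow]
    simp only [_root_.smul_pow, hg, ← Finset.sum_smul]
    rw [← sum_pow_char_pow, hsum, zero_pow (pow_ne_zero _ hp.ne_zero), zero_smul]
  refine WithConv.ext (LinearMap.ext fun a => ?_)
  have h1 := congrArg (fun φ : W => φ a) h0
  exact (algebraMap k K).injective (h1.trans (map_zero _).symm)


/-- Let p be a prime number, k a field of characteristic p and A a finite-dimensional commutative,
cocommutative Hopf algebra over k — the coordinate ring of a finite commutative group scheme G over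
k — such that A is étale over k and dim_k A = p^n for some n (G is an étale group scheme of p-power
order). Then the Cartier dual A^∨ = Hom_k(A, k), with its convolution ring structure, is a local
ring; that is, the Cartier dual group scheme G^∨ = Spec A^∨ is infinitesimal (its underlying space
is a single point). -/
theorem result (p : ℕ) [Fact p.Prime]
    (k : Type u) [Field k] [CharP k p] (A : Type u) [CommRing A] [HopfAlgebra k A] [Coalgebra.IsCocomm k A]
    [Module.Finite k A] [Algebra.Etale k A] (n : ℕ) (hA : Module.finrank k A = p ^ n) :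
    IsLocalRing (CartDual.D k A) := by
  have : Nontrivial A := Bialgebra.nontrivial k
  have : Nontrivial (CartDual.D k A) := (Versch.algebraMap_dual_injective k A).nontrivial
  refine IsLocalRing.of_isUnit_or_isUnit_one_sub_self fun f => ?_
  have key : ∀ g : CartDual.D k A, g (1 : A) ≠ 0 → IsUnit g := by
    intro g hg
    have h1 : IsNilpotent (algebraMap k (CartDual.D k A) (g (1 : A)) - g) := by
      refine ⟨p ^ n, pow_eq_zero p n hA _ ?_⟩
      show (algebraMap k (CartDual.D k A) (g (1 : A))).ofConv (1 : A) - g.ofConv (1 : A) = 0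
      simp [LinearMap.convAlgebraMap_apply, CartDual.coe_apply]
    have h2 := h1.neg.isUnit_add_left_of_commute ((Ne.isUnit hg).map (algebraMap k (CartDual.D k A))) (Commute.all _ _)
    rwa [← sub_eq_add_neg, sub_sub_cancel] at h2
  by_cases h : f (1 : A) = 0
  · refine Or.inr (key _ ?_)
    show ((1 : CartDual.D k A).ofConv (1 : A) - f.ofConv (1 : A)) ≠ 0
    rw [CartDual.coe_apply] at h
    rw [h, sub_zero]
    simp [LinearMap.convOne_apply]
  · exact Or.inl (key _ h)

end Groth.Agent.S18543
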