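import Groth.Statements.S18544
import Mathlib.Algebra.MvPolynomial.Funext
import Mathlib.LinearAlgebra.Matrix.Transvection
import Mathlib.LinearAlgebra.Matrix.Permutation
import Mathlib.Algebra.Polynomial.Roots
import Mathlib.Tactic

set_option autoImplicit false
universe u
open CAlg

namespace Groth.Agent.S18544

variable {F : Type u} [Field F] {n : ℕ}

/-- evaluation of `N` on a matrix -/
noncomputable def ev (N : MvPolynomial (Fin n × Fin n) F) (x : Matrix (Fin n) (Fin n) F) : F :=
  MvPolynomial.eval (fun ij : Fin n × Fin n => x ij.1 ij.2) N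

theorem exists_poly (N : MvPolynomial (Fin n × Fin n) F) (M₀ M₁ : Matrix (Fin n) (Fin n) F) :
    ∃ Q : Polynomial F, ∀ t : F, Q.eval t = ev N (M₀ + t • M₁) := by
  refine ⟨MvPolynomial.eval₂ Polynomial.C
    (fun ij => Polynomial.C (M₀ ij.1 ij.2) + Polynomial.C (M₁ ij.1 ij.2) * Polynomial.X) N, fun t => ?_⟩
  rw [← Polynomial.coe_evalRingHom, MvPolynomial.eval₂_comp_left, ev, MvPolynomial.eval]
  congr 1
  · ext a; exact Polynomial.eval_C
  · funext ij
    simp only [Function.comp_apply, Polynomial.coe_evalRingHom, Polynomial.eval_add, Polynomial.eval_mul,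
      Polynomial.eval_C, Polynomial.eval_X, Matrix.add_apply, Matrix.smul_apply, smul_eq_mul]
    ring

/-- Let F be an algebraically closed field of characteristic zero, n a natural number, and N a nonzero
polynomial over F in the n² matrix entries whose evaluation on n × n matrices is multiplicative,
N(xy) = N(x)·N(y) for all x, y (a norm form on the matrix algebra M_n(F) over F). Then N is a
natural power of the determinant: for some m, N(x) = det(x)^m for every matrix x. The published
statement concerns norm forms of any central simple algebra over a subfield; this row is the case of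
the full matrix algebra over an algebraically closed field, which is the case its proof treats. -/
theorem result (F : Type u) [Field F] [IsAlgClosed F]
    [CharZero F] (n : ℕ) (N : MvPolynomial (Fin n × Fin n) F) (hN : N ≠ 0)
    (hmul : ∀ x y : Matrix (Fin n) (Fin n) F,
      MvPolynomial.eval (fun ij : Fin n × Fin n => (x * y) ij.1 ij.2) N =
        MvPolynomial.eval (fun ij : Fin n × Fin n => x ij.1 ij.2) N * MvPolynomial.eval (fun ij : Fin n × Fin n => y ij.1 ij.2) N) :
    ∃ m : ℕ, ∀ x : Matrix (Fin n) (Fin n) F,
      MvPolynomial.eval (fun ij : Fin n × Fin n => x ij.1 ij.2) N = x.det ^ m := by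
  classical
  have hm : ∀ x y, ev N (x * y) = ev N x * ev N y := hmul
  obtain ⟨x₀, hx₀⟩ : ∃ x₀, ev N x₀ ≠ 0 := by
    by_contra h
    push Not at h
    refine hN (MvPolynomial.funext fun v => ?_)
    simpa [ev] using h (Matrix.of fun i j => v (i, j))
  have h1 : ev N 1 = 1 := by
    have := hm x₀ 1
    rw [mul_one] at this
    exact mul_left_cancel₀ hx₀ (by rw [← this, mul_one])
  have htv : ∀ τ : Matrix.TransvectionStruct (Fin n) F, ev N τ.toMatrix = 1 := by
    rintro ⟨i, j, hij, c⟩
    obtain ⟨Q, hQ⟩ := exists_poly N 1 (Matrix.single i j 1)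
    have hQ' : ∀ t, Q.eval t = ev N (Matrix.transvection i j t) := fun t => by
      rw [hQ, Matrix.transvection, Matrix.smul_single, smul_eq_mul, mul_one]
    have hu : Q * Q.comp (-Polynomial.X) = 1 := by
      refine Polynomial.funext fun t => ?_
      rw [Polynomial.eval_mul, Polynomial.eval_comp, Polynomial.eval_neg, Polynomial.eval_X, hQ',
        hQ', ← hm, Matrix.transvection_mul_transvection_same i j hij, add_neg_cancel,
        Matrix.transvection_zero, h1, Polynomial.eval_one]
    obtain ⟨a, -, ha⟩ := Polynomial.isUnit_iff.mp (IsUnit.of_mul_eq_one _ hu)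
    have h0 := hQ' 0
    rw [Matrix.transvection_zero, h1, ← ha, Polynomial.eval_C] at h0
    rw [Matrix.TransvectionStruct.toMatrix_mk, ← hQ', ← ha, Polynomial.eval_C, h0]
  have hL : ∀ L : List (Matrix.TransvectionStruct (Fin n) F),
      ev N (L.map Matrix.TransvectionStruct.toMatrix).prod = 1 := by
    intro L
    induction L with
    | nil => simpa using h1
    | cons a L ih => rw [List.map_cons, List.prod_cons, hm, htv, ih, one_mul]
  let D : Fin n → F → Matrix (Fin n) (Fin n) F :=
    fun i t => Matrix.diagonal (Function.update (1 : Fin n → F) i t)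
  have hDm : ∀ i, ∃ k : ℕ, ∀ t, ev N (D i t) = t ^ k := by
    intro i
    obtain ⟨Q, hQ⟩ := exists_poly N (D i 0) (Matrix.single i i 1)
    have hQ' : ∀ t, Q.eval t = ev N (D i t) := fun t => by
      rw [hQ]
      congr 1
      ext a b
      simp only [D, Matrix.add_apply, Matrix.smul_apply, Matrix.diagonal_apply, Matrix.single_apply,
        Function.update_apply, smul_eq_mul]
      by_cases hab : a = b
      · subst hab
        by_cases hai : a = i
        · subst hai; simp
        · simp [hai, Ne.symm hai]
      · have : ¬ (i = a ∧ i = b) := fun h => hab (h.1.symm.trans h.2)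
        simp [hab, this]
    have hQ0 : Q ≠ 0 := by
      intro h
      have := hQ' 1
      rw [h, Polynomial.eval_zero] at this
      simp [D, h1] at this
    refine ⟨Q.natDegree, fun s => ?_⟩
    have hcomp : Q.comp (Polynomial.C s * Polynomial.X) = Polynomial.C (Q.eval s) * Q := by
      refine Polynomial.funext fun t => ?_
      rw [Polynomial.eval_comp, Polynomial.eval_mul, Polynomial.eval_mul, Polynomial.eval_C,
        Polynomial.eval_C, Polynomial.eval_X, hQ', hQ', hQ', ← hm]
      congr 1
      simp only [D, Matrix.diagonal_mul_diagonal]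
      congr 1
      funext a
      by_cases hai : a = i
      · subst hai; simp
      · simp [hai]
    have := congrArg (fun q => Polynomial.coeff q Q.natDegree) hcomp
    simp only [Polynomial.comp_C_mul_X_coeff, Polynomial.coeff_C_mul] at this
    rw [← hQ']
    have hlc : Q.coeff Q.natDegree ≠ 0 := Polynomial.leadingCoeff_ne_zero.mpr hQ0
    exact (mul_left_cancel₀ hlc (this.trans (mul_comm _ _))).symm
  rcases Nat.eq_zero_or_pos n with hn | hn
  · subst hn
    refine ⟨0, fun x => ?_⟩
    rw [pow_zero]
    change ev N x = 1
    rw [Subsingleton.elim x 1, h1]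
  obtain ⟨k, hk⟩ := hDm ⟨0, hn⟩
  have hk' : ∀ i t, ev N (D i t) = t ^ k := by
    intro i t
    let σ := Equiv.swap i ⟨0, hn⟩
    let P : Matrix (Fin n) (Fin n) F := σ.toPEquiv.toMatrix
    have hP : ev N P * ev N P = 1 := by
      rw [← hm, ← h1]
      congr 1
      simp only [P, PEquiv.toMatrix_toPEquiv_mul]
      ext a b
      simp [Matrix.one_apply, PEquiv.toMatrix_apply, σ]
    have hD : D i t = P * D ⟨0, hn⟩ t * P := by
      simp only [P, PEquiv.toMatrix_toPEquiv_mul, PEquiv.mul_toMatrix_toPEquiv, Matrix.submatrix_submatrix,
        Function.comp_id, Function.id_comp, σ, Equiv.symm_swap, D]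
      rw [Matrix.submatrix_diagonal_equiv]
      congr 1
      funext a
      simp only [Function.comp_apply, Function.update_apply, Pi.one_apply]
      rcases eq_or_ne a i with rfl | hai
      · simp
      · rw [if_neg hai, if_neg]
        intro h
        exact hai (by simpa using congrArg (Equiv.swap i ⟨0, hn⟩) h)
    rw [hD, hm, hm, hk, mul_comm (ev N P) (t ^ k), mul_assoc, hP, mul_one]
  have hdiag : ∀ d : Fin n → F, ev N (Matrix.diagonal d) = (∏ i, d i) ^ k := by
    intro d
    have key : ∀ s : Finset (Fin n),
        ev N (Matrix.diagonal fun i => if i ∈ s then d i else 1) = (∏ i ∈ s, d i) ^ k := by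
      intro s
      induction s using Finset.induction with
      | empty => simpa using h1
      | insert a s ha ih =>
        rw [Finset.prod_insert ha, mul_pow, ← ih, ← hk' a, ← hm]
        congr 1
        simp only [D, Matrix.diagonal_mul_diagonal]
        congr 1
        funext b
        by_cases hb : b = a
        · subst hb; simp [ha]
        · simp [hb]
    simpa using key Finset.univ
  refine ⟨k, fun x => ?_⟩
  change ev N x = _
  obtain ⟨L, L', d, rfl⟩ := Matrix.Pivot.exists_list_transvec_mul_diagonal_mul_list_transvec x
  rw [hm, hm, hL, hL, one_mul, mul_one, hdiag, Matrix.det_mul, Matrix.det_mul,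
    Matrix.TransvectionStruct.det_toMatrix_prod, Matrix.TransvectionStruct.det_toMatrix_prod,
    one_mul, mul_one, Matrix.det_diagonal]

end Groth.Agent.S18544
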