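import Groth.Statements.S18545


set_option autoImplicit false
universe u
open AbVar

namespace Groth.Agent.S18545

/-- A step in the proof of Tate's isogeny result over finite fields, in linear-algebra form. Let K be a
field and V a K-vector space of finite dimension 2g carrying a nondegenerate alternating bilinear
form e. Let F be a K-subalgebra of End(V) which is isomorphic as a K-algebra to a finite product K ×
⋯ × K and which is spanned over K by a set S of similitudes of e (for each s in S there is a nonzero
scalar c with e(s x, s y) = c·e(x, y) for all x, y). Let D be a set of endomorphisms of V such that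
every F-stable isotropic subspace W of dimension g (a maximal isotropic subspace) is D-stable. Then
every F-stable isotropic subspace of V is D-stable. (In the application V is the rational ℓ-adic
Tate module of an abelian variety over a finite field with the Riemann form of a polarisation, F the
algebra generated by the Galois group, split for the chosen ℓ, and D the commutant of the image of
the endomorphism algebra; the hypothesis on maximal isotropic subspaces is the step obtained from
the finiteness of isomorphism classes.) -/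
theorem result (K : Type u) [Field K]
    (V : Type u) [AddCommGroup V] [Module K V] [FiniteDimensional K V] (g : ℕ) (hV : Module.finrank K V = 2 * g)
    (e : LinearMap.BilinForm K V) (he : e.IsAlt) (hnd : e.Nondegenerate)
    (F : Subalgebra K (Module.End K V)) (r : ℕ) (hF : Nonempty (F ≃ₐ[K] (Fin r → K)))
    (S : Set (Module.End K V)) (hS : Submodule.span K S = Subalgebra.toSubmodule F)
    (hsim : ∀ s ∈ S, ∃ c : K, c ≠ 0 ∧ ∀ x y : V, e (s x) (s y) = c * e x y)
    (D : Set (Module.End K V))
    (hmax : ∀ W : Submodule K V, (∀ f ∈ F, ∀ w ∈ W, f w ∈ W) → (∀ x ∈ W, ∀ y ∈ W, e x y = 0) →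
      Module.finrank K W = g → ∀ d ∈ D, ∀ w ∈ W, d w ∈ W)
    (W : Submodule K V) (hWF : ∀ f ∈ F, ∀ w ∈ W, f w ∈ W) (hWiso : ∀ x ∈ W, ∀ y ∈ W, e x y = 0) :
    ∀ d ∈ D, ∀ w ∈ W, d w ∈ W := by
  classical
  obtain ⟨φ⟩ := hF
  have hanti : ∀ x y : V, e y x = - e x y := fun x y => (LinearMap.IsAlt.neg he x y).symm
  -- the orthogonal of a stable subspace is stable
  have horth : ∀ U : Submodule K V, (∀ f ∈ F, ∀ w ∈ U, f w ∈ U) →
      ∀ f ∈ F, ∀ w ∈ e.orthogonal U, f w ∈ e.orthogonal U := by
    intro U hU f hf w hw
    have hf' : f ∈ Submodule.span K S := hS ▸ hf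
    induction hf' using Submodule.span_induction generalizing w with
    | mem s hs =>
      obtain ⟨c, hc, hcs⟩ := hsim s hs
      have hsF : s ∈ F := by
        have : s ∈ Subalgebra.toSubmodule F := hS ▸ Submodule.subset_span hs
        exact this
      let sU : U →ₗ[K] U := LinearMap.restrict s (fun x hx => hU s hsF x hx)
      have hinj : Function.Injective sU := by
        rw [injective_iff_map_eq_zero]
        intro x hx
        have hx' : s (x : V) = 0 := congrArg Subtype.val hx
        refine Subtype.ext (hnd.1 _ fun y => ?_)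
        have := hcs x y
        rw [hx', map_zero, LinearMap.zero_apply] at this
        exact (mul_eq_zero.1 this.symm).resolve_left hc
      rw [LinearMap.BilinForm.mem_orthogonal_iff] at hw ⊢
      intro u hu
      obtain ⟨u', hu'⟩ := LinearMap.surjective_of_injective hinj ⟨u, hu⟩
      have : u = s (u' : V) := (congrArg Subtype.val hu').symm
      show e u (s w) = 0
      rw [this, hcs, show e (u' : V) w = 0 from hw u' u'.2, mul_zero]
    | zero => rw [LinearMap.zero_apply]; exact zero_mem _
    | add f₁ f₂ h₁ h₂ ih₁ ih₂ =>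
      rw [LinearMap.add_apply]
      exact add_mem (ih₁ (show f₁ ∈ Subalgebra.toSubmodule F from hS ▸ h₁) w hw)
        (ih₂ (show f₂ ∈ Subalgebra.toSubmodule F from hS ▸ h₂) w hw)
    | smul c f₁ h₁ ih₁ =>
      rw [LinearMap.smul_apply]
      exact Submodule.smul_mem _ c (ih₁ (show f₁ ∈ Subalgebra.toSubmodule F from hS ▸ h₁) w hw)
  -- the projections
  let p : Fin r → F := fun i => φ.symm (Pi.single i 1)
  have hsum : ∀ v : V, ∑ i, (p i : Module.End K V) v = v := by
    intro v
    have h1 : ∑ i, p i = 1 := by
      rw [← map_sum, show ∑ i, Pi.single i (1 : K) = (1 : Fin r → K) from Finset.univ_sum_single _, map_one]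
    have h2 := congrArg (fun f : F => (f : Module.End K V) v) h1
    simpa using h2
  have heig : ∀ (i : Fin r) (v : V) (f : Module.End K V) (hf : f ∈ F),
      f ((p i : Module.End K V) v) = φ ⟨f, hf⟩ i • (p i : Module.End K V) v := by
    intro i v f hf
    have h1 : (⟨f, hf⟩ : F) * p i = φ ⟨f, hf⟩ i • p i := by
      apply φ.injective
      rw [map_mul, map_smul, AlgEquiv.apply_symm_apply]
      funext j
      by_cases h : j = i
      · subst h; simp
      · simp [h]
    exact congrArg (fun f : F => (f : Module.End K V) v) h1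
  -- enlarging a stable isotropic subspace
  have henl : ∀ (U : Submodule K V), (∀ f ∈ F, ∀ w ∈ U, f w ∈ U) → (∀ x ∈ U, ∀ y ∈ U, e x y = 0) →
      ∀ u ∈ e.orthogonal U, ∀ i : Fin r,
        (∀ f ∈ F, ∀ w ∈ U ⊔ Submodule.span K {(p i : Module.End K V) u},
          f w ∈ U ⊔ Submodule.span K {(p i : Module.End K V) u}) ∧
        ∀ x ∈ U ⊔ Submodule.span K {(p i : Module.End K V) u},
          ∀ y ∈ U ⊔ Submodule.span K {(p i : Module.End K V) u}, e x y = 0 := by
    intro U hU hiso u hu i
    have hpu : (p i : Module.End K V) u ∈ e.orthogonal U := horth U hU _ (p i).2 u hu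
    rw [LinearMap.BilinForm.mem_orthogonal_iff] at hpu
    constructor
    · intro f hf w hw
      obtain ⟨a, ha, b, hb, rfl⟩ := Submodule.mem_sup.1 hw
      obtain ⟨c, rfl⟩ := Submodule.mem_span_singleton.1 hb
      rw [map_add, map_smul, heig i u f hf]
      exact Submodule.add_mem_sup (hU f hf a ha) (Submodule.smul_mem _ c (Submodule.smul_mem _ _ (Submodule.mem_span_singleton_self _)))
    · intro x hx y hy
      obtain ⟨a, ha, b, hb, rfl⟩ := Submodule.mem_sup.1 hx
      obtain ⟨c, rfl⟩ := Submodule.mem_span_singleton.1 hb
      obtain ⟨a', ha', b', hb', rfl⟩ := Submodule.mem_sup.1 hy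
      obtain ⟨c', rfl⟩ := Submodule.mem_span_singleton.1 hb'
      have h1 : e a ((p i : Module.End K V) u) = 0 := hpu a ha
      have h2 : e ((p i : Module.End K V) u) a' = 0 := by rw [hanti, show e a' ((p i : Module.End K V) u) = 0 from hpu a' ha', neg_zero]
      simp [hiso a ha a' ha', h1, h2, he _]
  -- every stable isotropic subspace lies in one of dimension g
  have hext : ∀ (m : ℕ) (U : Submodule K V), 2 * g - Module.finrank K U = m → (∀ f ∈ F, ∀ w ∈ U, f w ∈ U) →
      (∀ x ∈ U, ∀ y ∈ U, e x y = 0) → ∃ U' : Submodule K V, U ≤ U' ∧ (∀ f ∈ F, ∀ w ∈ U', f w ∈ U') ∧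
        (∀ x ∈ U', ∀ y ∈ U', e x y = 0) ∧ Module.finrank K U' = g := by
    intro m
    induction m using Nat.strong_induction_on with
    | _ m ih =>
      intro U hm hU hiso
      by_cases hg : Module.finrank K U = g
      · exact ⟨U, le_rfl, hU, hiso, hg⟩
      have hle : U ≤ e.orthogonal U := fun x hx n hn => hiso n hn x hx
      have hfr := LinearMap.BilinForm.finrank_orthogonal hnd U
      have hne : ¬ e.orthogonal U ≤ U := fun h => hg (by
        have := Submodule.finrank_mono h
        have := Submodule.finrank_mono hle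
        omega)
      obtain ⟨u, hu, huU⟩ := SetLike.not_le_iff_exists.1 hne
      obtain ⟨i, hi⟩ : ∃ i, (p i : Module.End K V) u ∉ U := by
        by_contra h
        push Not at h
        exact huU (hsum u ▸ Submodule.sum_mem _ fun i _ => h i)
      obtain ⟨hU₁, hiso₁⟩ := henl U hU hiso u hu i
      have hlt : U < U ⊔ Submodule.span K {(p i : Module.End K V) u} :=
        lt_of_le_not_ge le_sup_left fun h => hi (h (Submodule.mem_sup_right (Submodule.mem_span_singleton_self _)))
      have := Submodule.finrank_lt_finrank_of_lt hlt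
      have := Submodule.finrank_le (U ⊔ Submodule.span K {(p i : Module.End K V) u})
      obtain ⟨U', h1, h2⟩ := ih _ (by omega) _ rfl hU₁ hiso₁
      exact ⟨U', le_sup_left.trans h1, h2⟩
  intro d hd w hw
  rw [← LinearMap.BilinForm.orthogonal_orthogonal hnd he.isRefl W, LinearMap.BilinForm.mem_orthogonal_iff]
  intro u hu
  show e u (d w) = 0
  rw [← hsum u, map_sum, LinearMap.sum_apply]
  refine Finset.sum_eq_zero fun i _ => ?_
  obtain ⟨hU₁, hiso₁⟩ := henl W hWF hWiso u hu i
  obtain ⟨U', h1, h2, h3, h4⟩ := hext _ _ rfl hU₁ hiso₁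
  exact h3 _ (h1 (Submodule.mem_sup_right (Submodule.mem_span_singleton_self _))) _
    (hmax U' h2 h3 h4 d hd w (h1 (Submodule.mem_sup_left hw)))

end Groth.Agent.S18545
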