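import Groth.Statements.S18560
import Mathlib

set_option linter.style.haveILetI false

set_option autoImplicit false
universe u v
open PtQuiv

namespace Groth.Agent.S18560

/-- Let K be a field and s i ∈ K² (i in a finite index type) nonzero vectors, regarded as a
representation of the quiver with a central vertex carrying the plane and one vertex per i carrying
a line that maps to the plane by 1 ↦ s i. For a weight θ in the hypersimplex (0 ≤ θ i ≤ 1, Σ θ i =
2, central weight -1) the representation is θ-semistable if and only if, for every vector v, the
indices i with s i on the line K ∙ v have total weight at most 1. (The published statement is over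
an algebraically closed field, assumes semistability for some interior weight instead of s i ≠ 0,
and phrases the bound through the classes of pairwise proportional s i; any field is allowed here.
Its further assertion that the bounding walls, where the total weight of one proportionality class
equals 1, do not meet in the interior of the hypersimplex is not part of this row.) -/
theorem result (K : Type u) [Field K] (ι : Type v) [Fintype ι]
    (s : ι → (Fin 2 → K)) (hs : ∀ i, s i ≠ 0) (θ : ι → ℚ) (h0 : ∀ i, 0 ≤ θ i)
    (h1 : ∀ i, θ i ≤ 1) (h2 : ∑ i, θ i = 2) :
    PtQuiv.QSemistable (-1) θ s ↔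
      ∀ (J : Finset ι) (v : Fin 2 → K), (∀ i ∈ J, s i ∈ K ∙ v) → ∑ i ∈ J, θ i ≤ 1 := by
  classical
  constructor
  · intro h J v hJ
    have := h.2 (K ∙ v) J hJ
    have hd : (Module.finrank K (K ∙ v) : ℚ) ≤ 1 := by
      exact_mod_cast (finrank_span_le_card ({v} : Set (Fin 2 → K))).trans_eq (by simp)
    rw [PtQuiv.QWt] at this
    linarith
  · intro h
    refine ⟨by rw [h2]; norm_num, fun L I hI => ?_⟩
    rw [PtQuiv.QWt]
    have hle : ∑ i ∈ I, θ i ≤ 2 := h2 ▸ Finset.sum_le_univ_sum_of_nonneg h0
    have hL : Module.finrank K L ≤ 2 := (Submodule.finrank_le L).trans_eq (Module.finrank_fin_fun K)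
    interval_cases hd : Module.finrank K L
    · have : L = ⊥ := Submodule.finrank_eq_zero.mp hd
      have hIe : I = ∅ := Finset.eq_empty_of_forall_notMem fun i hi =>
        hs i ((Submodule.mem_bot K).mp (this ▸ hI i hi))
      simp [hIe]
    · obtain ⟨v, hv, hv0⟩ := Submodule.exists_mem_ne_zero_of_ne_bot
        (show L ≠ ⊥ from fun e => by rw [e, finrank_bot] at hd; exact zero_ne_one hd)
      have : K ∙ v = L := Submodule.eq_of_le_of_finrank_le ((Submodule.span_singleton_le_iff_mem _ _).mpr hv)
        (by rw [hd, finrank_span_singleton hv0])
      have := h I v fun i hi => this.symm ▸ hI i hi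
      push_cast
      linarith
    · push_cast
      linarith

end Groth.Agent.S18560
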