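import Groth.Statements.S18561
import Mathlib

set_option linter.style.haveILetI false

set_option autoImplicit false
universe u v
open PtQuiv

namespace Groth.Agent.S18561

lemma mem_span_symm {K : Type u} [Field K] {v w : Fin 2 → K} (hv : v ≠ 0) (h : v ∈ K ∙ w) :
    w ∈ K ∙ v := by
  obtain ⟨c, rfl⟩ := Submodule.mem_span_singleton.mp h
  refine Submodule.mem_span_singleton.mpr ⟨c⁻¹, ?_⟩
  rw [inv_smul_smul₀]
  rintro rfl
  exact hv (zero_smul K w)


/-- Let K be a field and s i ∈ K² (i in a finite index type) nonzero vectors, regarded as a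
representation of the quiver with a central vertex carrying the plane and one vertex per i carrying
a line mapping to the plane by 1 ↦ s i. Then the representation is stable for some weight of the
hypersimplex (0 ≤ θ i ≤ 1, Σ θ i = 2, central weight -1) if and only if the s i fall into at least
three proportionality classes, i.e. three of them are pairwise non-proportional. (The published
statement is over an algebraically closed field and assumes semistability for some interior weight
instead of s i ≠ 0; any field is allowed here. Its further assertions, that the set of semistability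
weights is full-dimensional exactly in this case and is a wall otherwise, are not part of this row.) -/
theorem result (K : Type u) [Field K] (ι : Type v)
    [Fintype ι] (s : ι → (Fin 2 → K)) (hs : ∀ i, s i ≠ 0) :
    (∃ θ : ι → ℚ, (∀ i, 0 ≤ θ i) ∧ (∀ i, θ i ≤ 1) ∧ ∑ i, θ i = 2 ∧ PtQuiv.QStable (-1) θ s) ↔
      ∃ i j k : ι, s i ∉ K ∙ s j ∧ s j ∉ K ∙ s k ∧ s i ∉ K ∙ s k := by
  classical
  constructor
  · rintro ⟨θ, h0, h1, h2, hst⟩
    have key : ∀ (v : Fin 2 → K) (I : Finset ι), v ≠ 0 → (∀ i ∈ I, s i ∈ K ∙ v) → ∑ i ∈ I, θ i < 1 := by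
      intro v I hv hI
      have hd : (Module.finrank K (K ∙ v) : ℚ) = 1 := by rw [finrank_span_singleton hv]; norm_num
      have hle := hst.1.2 (K ∙ v) I hI
      rw [PtQuiv.QWt, hd] at hle
      rcases lt_or_eq_of_le (show ∑ i ∈ I, θ i ≤ 1 by linarith) with hlt | heq
      · exact hlt
      · rcases hst.2 (K ∙ v) I hI (by rw [PtQuiv.QWt, hd, heq]; norm_num) with ⟨hL, -⟩ | ⟨-, hI'⟩
        · exact absurd (Submodule.span_singleton_eq_bot.mp hL) hv
        · rw [hI', h2] at heq; norm_num at heq
    obtain ⟨i⟩ : Nonempty ι := by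
      by_contra hc
      rw [not_nonempty_iff] at hc
      rw [Finset.univ_eq_empty, Finset.sum_empty] at h2
      norm_num at h2
    obtain ⟨j, hj⟩ : ∃ j, s j ∉ K ∙ s i := by
      by_contra hc
      push Not at hc
      have := key (s i) Finset.univ (hs i) fun a _ => hc a
      linarith
    obtain ⟨k, hk, hk'⟩ : ∃ k, s k ∉ K ∙ s i ∧ s k ∉ K ∙ s j := by
      by_contra hc
      push Not at hc
      have ha := key (s i) (Finset.univ.filter fun a => s a ∈ K ∙ s i) (hs i)
        fun a ha => (Finset.mem_filter.mp ha).2
      have hb := key (s j) (Finset.univ.filter fun a => ¬ s a ∈ K ∙ s i) (hs j)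
        fun a ha => hc a (Finset.mem_filter.mp ha).2
      have := Finset.sum_filter_add_sum_filter_not (Finset.univ : Finset ι) (fun a => s a ∈ K ∙ s i) θ
      linarith
    exact ⟨k, j, i, hk', hj, hk⟩
  · rintro ⟨i, j, k, hij, hjk, hik⟩
    have hji : s j ∉ K ∙ s i := fun h => hij (mem_span_symm (hs j) h)
    have hkj : s k ∉ K ∙ s j := fun h => hjk (mem_span_symm (hs k) h)
    have hki : s k ∉ K ∙ s i := fun h => hik (mem_span_symm (hs k) h)
    have ne1 : i ≠ j := fun e => hij (e ▸ Submodule.mem_span_singleton_self _)
    have ne2 : j ≠ k := fun e => hjk (e ▸ Submodule.mem_span_singleton_self _)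
    have ne3 : i ≠ k := fun e => hik (e ▸ Submodule.mem_span_singleton_self _)
    let T : Finset ι := {i, j, k}
    have hT : T.card = 3 := by simp [T, ne1, ne2, ne3]
    let m : ℕ := Fintype.card ι
    let ε : ℚ := 1 / (4 * (m + 1))
    let θ : ι → ℚ := fun a => if a ∈ T then (2 - ε * (m - 3)) / 3 else ε
    have hm : (3 : ℚ) ≤ m := by exact_mod_cast hT ▸ T.card_le_univ
    have hε : 0 < ε := by positivity
    have hεm : ε * (m + 1) = 1 / 4 := by simp only [ε]; field_simp
    have hpos : ∀ a, 0 < θ a := fun a => by simp only [θ]; split <;> nlinarith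
    have hle : ∀ a, θ a ≤ 1 := fun a => by simp only [θ]; split <;> nlinarith
    have hsum : ∑ a, θ a = 2 := by
      rw [← Finset.sum_add_sum_compl T, Finset.sum_congr rfl (fun a ha => if_pos ha),
        Finset.sum_congr rfl (fun a ha => if_neg (Finset.mem_compl.mp ha)), Finset.sum_const,
        Finset.sum_const, hT, Finset.card_compl, hT, nsmul_eq_mul, nsmul_eq_mul,
        Nat.cast_sub (by exact_mod_cast hm)]
      push_cast
      ring
    have hline : ∀ (L : Submodule K (Fin 2 → K)) (I : Finset ι), Module.finrank K L = 1 →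
        (∀ a ∈ I, s a ∈ L) → ∑ a ∈ I, θ a < 1 := by
      intro L I hd hI
      have hone : ∀ a b, a ∈ I → b ∈ I → s a ∈ K ∙ s b := by
        intro a b ha hb
        rw [Submodule.eq_of_le_of_finrank_le ((Submodule.span_singleton_le_iff_mem _ _).mpr (hI b hb))
          (by rw [hd, finrank_span_singleton (hs b)])]
        exact hI a ha
      have hI' : (I ∩ T).card ≤ 1 := by
        rw [Finset.card_le_one]
        intro a ha b hb
        simp only [T, Finset.mem_inter, Finset.mem_insert, Finset.mem_singleton] at ha hb
        obtain ⟨ha, ha'⟩ := ha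
        obtain ⟨hb, hb'⟩ := hb
        have := hone a b ha hb
        rcases ha' with rfl | rfl | rfl <;> rcases hb' with rfl | rfl | rfl <;>
          first | rfl | exact absurd this (by assumption)
      rw [← Finset.sum_inter_add_sum_sdiff I T θ,
        Finset.sum_congr rfl (fun a ha => if_pos (Finset.mem_inter.mp ha).2),
        Finset.sum_congr rfl (fun a ha => if_neg (Finset.mem_sdiff.mp ha).2), Finset.sum_const,
        Finset.sum_const, nsmul_eq_mul, nsmul_eq_mul]
      have h3 : ((I ∩ T).card : ℚ) ≤ 1 := by exact_mod_cast hI'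
      have h4 : ((I \ T).card : ℚ) ≤ m := by exact_mod_cast Finset.card_le_univ _
      have h5 : (0 : ℚ) ≤ (2 - ε * (m - 3)) / 3 := by nlinarith
      nlinarith
    refine ⟨θ, fun a => (hpos a).le, hle, hsum, ⟨by rw [hsum]; norm_num, fun L I hI => ?_⟩,
      fun L I hI h0 => ?_⟩
    all_goals
      have hle2 : ∑ a ∈ I, θ a ≤ 2 := hsum ▸ Finset.sum_le_univ_sum_of_nonneg fun a => (hpos a).le
      have hL : Module.finrank K L ≤ 2 := (Submodule.finrank_le L).trans_eq (Module.finrank_fin_fun K)
      have hI0 : Module.finrank K L = 0 → I = ∅ := fun hd =>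
        Finset.eq_empty_of_forall_notMem fun a ha => hs a ((Submodule.mem_bot K).mp
          (Submodule.finrank_eq_zero.mp hd ▸ hI a ha))
    · rw [PtQuiv.QWt]
      interval_cases hd : Module.finrank K L
      · simp [hI0 rfl]
      · have := hline L I hd hI; push_cast; linarith
      · push_cast; linarith
    · rw [PtQuiv.QWt] at h0
      interval_cases hd : Module.finrank K L
      · exact Or.inl ⟨Submodule.finrank_eq_zero.mp hd, hI0 rfl⟩
      · have := hline L I hd hI; push_cast at h0; linarith
      · refine Or.inr ⟨Submodule.eq_top_of_finrank_eq (hd.trans (Module.finrank_fin_fun K).symm), ?_⟩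
        by_contra hne
        obtain ⟨a, ha⟩ : ∃ a, a ∉ I := by
          by_contra hc; push Not at hc; exact hne (Finset.eq_univ_iff_forall.mpr hc)
        have h3 := Finset.add_sum_erase (Finset.univ : Finset ι) θ (Finset.mem_univ a)
        have h4 : ∑ b ∈ I, θ b ≤ ∑ b ∈ Finset.univ.erase a, θ b :=
          Finset.sum_le_sum_of_subset_of_nonneg
            (fun b hb => Finset.mem_erase.mpr ⟨fun e => ha (e ▸ hb), Finset.mem_univ _⟩)
            (fun b _ _ => (hpos b).le)
        have := hpos a
        push_cast at h0
        linarith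

end Groth.Agent.S18561
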