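import Groth.Statements.S18562
import Mathlib
import Groth.Agent.PtQuivReduce.Basic

set_option linter.style.haveILetI false

set_option autoImplicit false
universe u v
open PtQuiv

namespace Groth.Agent.S18562

open Groth.Agent.PtQuivReduce in
theorem semistable_iff {K : Type u} [Field K] {κ : Type v} [Fintype κ] [DecidableEq κ] {a b : κ}
    (hab : a ≠ b) {s : κ → (Fin 2 → K)} {θ : κ → ℚ} (h0 : ∀ i, 0 ≤ θ i) (h2 : ∑ i, θ i = 2)
    (hθ : 1 < θ a + θ b) (hθ' : θ a + θ b < 2) (hli : LinearIndependent K ![s a, s b])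
    (t : {i : κ // i ≠ a ∧ i ≠ b} → (Fin 2 → K)) (ht : ∀ i, s i.1 = t i 0 • s a + t i 1 • s b) :
    PtQuiv.QSemistable (-1) θ s ↔
      PtQuiv.PSemistable ![(2 - θ a - θ b)⁻¹ * (θ a - 1), (2 - θ a - θ b)⁻¹ * (θ b - 1)]
        (fun i : {i : κ // i ≠ a ∧ i ≠ b} => (2 - θ a - θ b)⁻¹ * θ i.1) t := by
  have hc : 0 < (2 - θ a - θ b)⁻¹ := inv_pos.mpr (by linarith)
  constructor
  · intro h
    refine ⟨?_, fun U I hU => ?_⟩
    · rw [← Finset.mul_sum, sum_rest hab, h2, Fin.sum_univ_two]
      simp only [Matrix.cons_val_zero, Matrix.cons_val_one, Matrix.cons_val_fin_one]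
      ring
    · rw [qwt_to hab hli]
      exact mul_nonpos_of_nonneg_of_nonpos hc.le (h.2 _ _ (qsubrep_to t ht hU))
  · intro h
    refine ⟨by rw [h2]; norm_num, fun L I hI => ?_⟩
    rcases dominate t hab hli ht h0 h2 hθ L I hI with h' | h' | ⟨U, J, hU, hL, hIJ, -⟩
    · exact h'.2
    · exact h'.le
    · have h3 := h.2 U J hU
      rw [qwt_to hab hli] at h3
      have h4 := nonpos_of_mul_nonpos_right h3 hc
      refine le_trans ?_ h4
      rw [PtQuiv.QWt, PtQuiv.QWt, hL]
      exact add_le_add le_rfl (Finset.sum_le_sum_of_subset_of_nonneg hIJ fun i _ _ => h0 i)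


/-- Let K be a field, κ a finite index type with a ≠ b, and s i ∈ K² a representation of the quiver with
a central vertex carrying the plane and one vertex per i : κ carrying a line mapping to the plane by
1 ↦ s i. Let θ be a weight of the hypersimplex (0 ≤ θ i ≤ 1, Σ θ i = 2, central weight -1) with 1 <
θ a + θ b < 2, and put c = 1 / (2 - θ a - θ b). Then s is θ-semistable if and only if s a, s b are
linearly independent and, writing every other s i = t i 0 • s a + t i 1 • s b, the representation t
of the quiver with two one-dimensional sinks p₀, p₁ and one one-dimensional source per i ≠ a, b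
(arrow to p_j given by t i j) is semistable for the weight c (θ a - 1) at p₀, c (θ b - 1) at p₁ and
c θ i at the sources. (The published statement is about representations over a base scheme, with
(semi)stability tested on geometric fibres, that is over algebraically closed fields; this row
states the fibrewise content over an arbitrary field.) -/
theorem result (K : Type u) [Field K]
    (κ : Type v) [Fintype κ] [DecidableEq κ] (a b : κ) (hab : a ≠ b) (s : κ → (Fin 2 → K))
    (θ : κ → ℚ) (h0 : ∀ i, 0 ≤ θ i) (h1 : ∀ i, θ i ≤ 1) (h2 : ∑ i, θ i = 2)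
    (hθ : 1 < θ a + θ b) (hθ' : θ a + θ b < 2) :
    PtQuiv.QSemistable (-1) θ s ↔
      (LinearIndependent K ![s a, s b] ∧
        ∀ t : {i : κ // i ≠ a ∧ i ≠ b} → (Fin 2 → K),
          (∀ i, s i.1 = t i 0 • s a + t i 1 • s b) →
            PtQuiv.PSemistable ![(2 - θ a - θ b)⁻¹ * (θ a - 1), (2 - θ a - θ b)⁻¹ * (θ b - 1)]
              (fun i : {i : κ // i ≠ a ∧ i ≠ b} => (2 - θ a - θ b)⁻¹ * θ i.1) t) := by
  constructor
  · intro h
    have hli := Groth.Agent.PtQuivReduce.li_of_semistable h hab hθ
    exact ⟨hli, fun t ht => (semistable_iff hab h0 h2 hθ hθ' hli t ht).mp h⟩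
  · rintro ⟨hli, h⟩
    obtain ⟨t, ht⟩ := Groth.Agent.PtQuivReduce.exists_coords hli
    exact (semistable_iff hab h0 h2 hθ hθ' hli t ht).mpr (h t ht)

end Groth.Agent.S18562
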