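import Groth.Statements.S18563
import Mathlib
import Groth.Agent.PtQuivReduce.Basic
import Groth.Agent.S18562

set_option linter.style.haveILetI false

set_option autoImplicit false
universe u v
open PtQuiv

namespace Groth.Agent.S18563

/-- Let K be a field, κ a finite index type with a ≠ b, and s i ∈ K² a representation of the quiver with
a central vertex carrying the plane and one vertex per i : κ carrying a line mapping to the plane by
1 ↦ s i. Let θ be a weight of the hypersimplex (0 ≤ θ i ≤ 1, Σ θ i = 2, central weight -1) with 1 <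
θ a + θ b < 2, and put c = 1 / (2 - θ a - θ b). Then s is θ-stable if and only if s a, s b are
linearly independent and, writing every other s i = t i 0 • s a + t i 1 • s b, the representation t
of the quiver with two one-dimensional sinks p₀, p₁ and one one-dimensional source per i ≠ a, b
(arrow to p_j given by t i j) is stable for the weight c (θ a - 1) at p₀, c (θ b - 1) at p₁ and c θ
i at the sources. (The published statement is about representations over a base scheme, with
(semi)stability tested on geometric fibres, that is over algebraically closed fields; this row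
states the fibrewise content over an arbitrary field.) -/
theorem result (K : Type u) [Field K]
    (κ : Type v) [Fintype κ] [DecidableEq κ] (a b : κ) (hab : a ≠ b) (s : κ → (Fin 2 → K))
    (θ : κ → ℚ) (h0 : ∀ i, 0 ≤ θ i) (h1 : ∀ i, θ i ≤ 1) (h2 : ∑ i, θ i = 2)
    (hθ : 1 < θ a + θ b) (hθ' : θ a + θ b < 2) :
    PtQuiv.QStable (-1) θ s ↔
      (LinearIndependent K ![s a, s b] ∧
        ∀ t : {i : κ // i ≠ a ∧ i ≠ b} → (Fin 2 → K),
          (∀ i, s i.1 = t i 0 • s a + t i 1 • s b) →
            PtQuiv.PStable ![(2 - θ a - θ b)⁻¹ * (θ a - 1), (2 - θ a - θ b)⁻¹ * (θ b - 1)]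
              (fun i : {i : κ // i ≠ a ∧ i ≠ b} => (2 - θ a - θ b)⁻¹ * θ i.1) t) := by
  classical
  have hc : 0 < (2 - θ a - θ b)⁻¹ := inv_pos.mpr (by linarith)
  constructor
  · intro h
    have hli := Groth.Agent.PtQuivReduce.li_of_semistable h.1 hab hθ
    refine ⟨hli, fun t ht => ⟨((Groth.Agent.S18562.result K κ a b hab s θ h0 h1 h2 hθ hθ').mp h.1).2 t ht,
      fun U I hU hW => ?_⟩⟩
    rw [Groth.Agent.PtQuivReduce.qwt_to hab hli, mul_eq_zero] at hW
    have hQ := Groth.Agent.PtQuivReduce.qsubrep_to t ht hU
    rcases h.2 _ _ hQ (hW.resolve_left hc.ne') with ⟨hL, hI⟩ | ⟨hL, hI⟩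
    · left
      have hr := Groth.Agent.PtQuivReduce.finrank_toL hli U
      rw [hL, finrank_bot] at hr
      refine ⟨?_, ?_⟩
      · have e0 : Module.finrank K (U 0) = 0 := by omega
        have e1 : Module.finrank K (U 1) = 0 := by omega
        funext j
        fin_cases j
        · exact Submodule.finrank_eq_zero.mp e0
        · exact Submodule.finrank_eq_zero.mp e1
      · rw [Finset.eq_empty_iff_forall_notMem]
        intro i hi
        exact Finset.notMem_empty i.1 (hI ▸ Finset.mem_union_right _ (Finset.mem_map_of_mem _ hi))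
    · right
      have hr := Groth.Agent.PtQuivReduce.finrank_toL hli U
      rw [hL, finrank_top, Module.finrank_fintype_fun_eq_card, Fintype.card_fin] at hr
      have hle : ∀ j, Module.finrank K (U j) ≤ 1 := fun j => by
        simpa using Submodule.finrank_le (U j)
      refine ⟨?_, ?_⟩
      · funext j
        refine Submodule.eq_top_of_finrank_eq ?_
        rw [Module.finrank_self]
        have := hle 0; have := hle 1
        fin_cases j <;> simp <;> omega
      · rw [Finset.eq_univ_iff_forall]
        intro i
        have hm : i.1 ∈ Groth.Agent.PtQuivReduce.toI U I := hI ▸ Finset.mem_univ _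
        simp only [Groth.Agent.PtQuivReduce.toI, Finset.mem_union, Finset.mem_map,
          Function.Embedding.coe_subtype] at hm
        rcases hm with (hm | hm) | ⟨j, hj, e⟩
        · split_ifs at hm <;> simp [i.2.1] at hm
        · split_ifs at hm <;> simp [i.2.2] at hm
        · rwa [← Subtype.ext e]
  · rintro ⟨hli, h⟩
    refine ⟨(Groth.Agent.S18562.result K κ a b hab s θ h0 h1 h2 hθ hθ').mpr ⟨hli, fun t ht => (h t ht).1⟩, ?_⟩
    intro L I hI hW
    obtain ⟨t, ht⟩ := Groth.Agent.PtQuivReduce.exists_coords hli
    obtain ⟨hss, hst⟩ := h t ht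
    rcases Groth.Agent.PtQuivReduce.dominate t hab hli ht h0 h2 hθ L I hI with
      ⟨hL, -⟩ | h' | ⟨U, J, hU, hL, hIJ, hUtop, hUbot, hUI⟩
    · right
      refine ⟨hL, ?_⟩
      rw [PtQuiv.QWt, hL, finrank_top, Module.finrank_fintype_fun_eq_card, Fintype.card_fin] at hW
      push_cast at hW
      rw [Finset.eq_univ_iff_forall]
      intro i
      by_contra hi
      have hle : ∑ j ∈ I, θ j ≤ ∑ j ∈ Finset.univ.erase i, θ j :=
        Finset.sum_le_sum_of_subset_of_nonneg (fun j hj => Finset.mem_erase.mpr ⟨fun e => hi (e ▸ hj), Finset.mem_univ j⟩)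
          fun j _ _ => h0 j
      rw [Finset.sum_erase_eq_sub (Finset.mem_univ i), h2] at hle
      have hi0 : θ i = 0 := le_antisymm (by linarith) (h0 i)
      have hia : i ≠ a := fun e => by subst e; linarith [h1 b]
      have hib : i ≠ b := fun e => by subst e; linarith [h1 a]
      let i' : {i : κ // i ≠ a ∧ i ≠ b} := ⟨i, hia, hib⟩
      have hsub : PtQuiv.PSubrep t (⊤ : Fin 2 → Submodule K K) (Finset.univ.erase i') :=
        fun _ _ _ => Submodule.mem_top
      have hw0 : PtQuiv.PWt K ![(2 - θ a - θ b)⁻¹ * (θ a - 1), (2 - θ a - θ b)⁻¹ * (θ b - 1)]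
          (fun i : {i : κ // i ≠ a ∧ i ≠ b} => (2 - θ a - θ b)⁻¹ * θ i.1) ⊤ (Finset.univ.erase i') = 0 := by
        rw [PtQuiv.PWt, Finset.sum_erase _ (by simp [i', hi0])]
        simp only [Pi.top_apply, finrank_top, Module.finrank_self, Nat.cast_one, mul_one]
        exact hss.1
      rcases hst _ _ hsub hw0 with ⟨e, -⟩ | ⟨-, e⟩
      · exact top_ne_bot (congrFun e 0)
      · have hmem : i' ∈ Finset.univ.erase i' := e.symm.subset (Finset.mem_univ i')
        exact Finset.notMem_erase i' Finset.univ hmem
    · linarith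
    · left
      have h3 := hss.2 U J hU
      have hmono : PtQuiv.QWt K (-1) θ L I ≤ PtQuiv.QWt K (-1) θ (Groth.Agent.PtQuivReduce.toL s a b U)
          (Groth.Agent.PtQuivReduce.toI U J) := by
        rw [PtQuiv.QWt, PtQuiv.QWt, hL]
        exact add_le_add le_rfl (Finset.sum_le_sum_of_subset_of_nonneg hIJ fun i _ _ => h0 i)
      rw [hW] at hmono
      rw [Groth.Agent.PtQuivReduce.qwt_to hab hli] at h3
      have h4 := nonpos_of_mul_nonpos_right h3 hc
      have hwp := hst U J hU (by rw [Groth.Agent.PtQuivReduce.qwt_to hab hli, le_antisymm h4 hmono, mul_zero])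
      rcases hwp with ⟨eU, eJ⟩ | ⟨eU, -⟩
      · exact ⟨by by_contra hne; exact hUbot hne eU, hUI eU eJ⟩
      · exact absurd eU hUtop

end Groth.Agent.S18563
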