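import Groth.Statements.S18564
import Groth.Agent.GPBunLib.Slope
-- import your own Groth.Agent.* helpers here

set_option autoImplicit false
set_option backward.isDefEq.respectTransparency false
universe u
open CategoryTheory CategoryTheory.Limits AlgebraicGeometry
open ParSh

namespace Groth.Agent.S18564

/-- Let Y be a smooth proper integral curve (integral, smooth and proper over k, of dimension one) over
an algebraically closed field k, D an effective Cartier divisor on Y with ideal I, and α a real
weight with 0 ≤ α < 1. A generalised parabolic structure on a finite locally free O_Y-module E is a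
k-linear subspace F₁ of H⁰(Y, E ⊗ O_D); its parabolic degree in rank n is deg E + α·dim_k F₁ (deg E
= χ(E) − n·χ(O_Y)); a homomorphism f : E → E' is parabolic when the induced k-linear map H⁰(E ⊗ O_D)
→ H⁰(E' ⊗ O_D) carries F₁ into F₁'; a submodule G → E gets the preimage structure and (E, F₁) is
semistable (stable) when deg(G, preimage) · n ≤ (<) deg(E, F₁) · r for every finite locally free
submodule G of rank r ≥ 1 (with r < n for stability). Let E and F be finite locally free of the same
rank n ≥ 1 with structures F₁ and F₁', and f : E → F a parabolic monomorphism (a monomorphism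
between modules of equal rank, that is, a generic isomorphism). Then the parabolic degree of (E, F₁)
is at most that of (F, F₁'), and equality holds if and only if f is an isomorphism of O_Y-modules
which, when α > 0, also maps F₁ onto F₁'. The published statement asks in the equality case for an
isomorphism of generalised parabolic bundles (an isomorphism of modules mapping F₁ onto F₁') at
every weight 0 ≤ α < 1; at α = 0 this fails, since the identity of O_Y, from the zero structure to
all of H⁰(O_D) with D a single point, has equal parabolic degrees on both sides without being one,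
while the published proof shows only that the cokernel vanishes; so the condition on F₁ is asked
here only for α > 0. The published statement is also set on the normalisation of a singular curve
with D lying over its singular points; neither is used. -/
theorem result (k : Type u) [Field k] [IsAlgClosed k] (X : Scheme.{u}) [X.Over (Spec (CommRingCat.of k))]
    [AlgebraicGeometry.IsIntegral X] [IsProper (X ↘ Spec (CommRingCat.of k))] [Smooth (X ↘ Spec (CommRingCat.of k))]
    (hdim : topologicalKrullDim X = 1)
    (I : X.IdealSheafData) (hD : FGA.IsEffCartier I) (α : ℝ) (hα0 : 0 ≤ α) (hα1 : α < 1)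
    {E F : X.Modules} (n : ℕ) (hn : 0 < n) (hE : FlatMod.IsFinLocFreeOfRank n E) (hF : FlatMod.IsFinLocFreeOfRank n F)
    (F₁ : Submodule k (ParSh.fibD X I E)) (F₁' : Submodule k (ParSh.fibD X I F))
    (f : E ⟶ F) [Mono f] (hf : ParSh.IsGPHom k X I F₁ F₁' f) :
    ParSh.gpDeg k X α E F₁ n ≤ ParSh.gpDeg k X α F F₁' n ∧
      (ParSh.gpDeg k X α E F₁ n = ParSh.gpDeg k X α F F₁' n ↔
        (IsIso f ∧ (0 < α → Submodule.map (ParSh.fibDMap k X I f) F₁ = F₁'))) := by
  have hX := W7Slope.regCurve_of_smooth (k := k) (X := X) hdim
  have hle := Submodule.map_le_iff_le_comap.1 hf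
  have h := GPBunLib.gp_mono hX.dim hD hα0 hE hF f F₁ F₁' hle
  obtain ⟨hd, hiso⟩ := W7Slope.deg_le_of_mono k hX hE hF f
  have hd' : (Curv2.deg k X E n : ℝ) ≤ (Curv2.deg k X F n : ℝ) := by exact_mod_cast hd
  have hα : 0 < 1 - α := by linarith
  refine ⟨by nlinarith [mul_nonneg hα.le (sub_nonneg.2 hd')], fun he => ?_, fun ⟨hi, hmap⟩ => ?_⟩
  · have h0 : (Curv2.deg k X E n : ℝ) = (Curv2.deg k X F n : ℝ) :=
      le_antisymm hd' (by nlinarith)
    have hi : IsIso f := hiso (by exact_mod_cast h0)
    refine ⟨hi, fun hpos => ?_⟩
    rw [GPBunLib.gpDeg_eq, GPBunLib.gpDeg_eq, h0] at he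
    have hfin : (Module.finrank k F₁ : ℝ) = (Module.finrank k F₁' : ℝ) :=
      mul_left_cancel₀ hpos.ne' (by linarith)
    haveI := GPBunLib.finite_fibD I k (CurveRR.isCoh_of_rank hF)
    refine Submodule.eq_of_le_of_finrank_eq hf ?_
    rw [← (Submodule.equivMapOfInjective _ (GPBunLib.bijective_fibDMap I k f).1 F₁).finrank_eq]
    exact_mod_cast hfin
  · haveI := hi
    rw [GPBunLib.gpDeg_eq, GPBunLib.gpDeg_eq, W7Slope.deg_iso (k := k) (asIso f) n]
    rcases eq_or_lt_of_le hα0 with h0 | h0
    · rw [← h0]; simp
    · rw [← hmap h0,
        ← (Submodule.equivMapOfInjective _ (GPBunLib.bijective_fibDMap I k f).1 F₁).finrank_eq]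

end Groth.Agent.S18564
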