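import Groth.Statements.S18565
import Groth.Agent.GPBunLib.Slope
-- import your own Groth.Agent.* helpers here

set_option autoImplicit false
set_option backward.isDefEq.respectTransparency false
universe u
open CategoryTheory CategoryTheory.Limits AlgebraicGeometry
open ParSh

namespace Groth.Agent.S18565

/-- Let Y be a smooth proper integral curve (integral, smooth and proper over k, of dimension one) over
an algebraically closed field k, D an effective Cartier divisor on Y with ideal I, and α a real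
weight with 0 ≤ α < 1. A generalised parabolic structure on a finite locally free O_Y-module E is a
k-linear subspace F₁ of H⁰(Y, E ⊗ O_D); its parabolic degree in rank n is deg E + α·dim_k F₁ (deg E
= χ(E) − n·χ(O_Y)); a homomorphism f : E → E' is parabolic when the induced k-linear map H⁰(E ⊗ O_D)
→ H⁰(E' ⊗ O_D) carries F₁ into F₁'; a submodule G → E gets the preimage structure and (E, F₁) is
semistable (stable) when deg(G, preimage) · n ≤ (<) deg(E, F₁) · r for every finite locally free
submodule G of rank r ≥ 1 (with r < n for stability). Let (E, F₁) and (F, F₁') be semistable of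
ranks n ≥ 1 and m ≥ 1 with the same parabolic slope, pardeg(E, F₁)·m = pardeg(F, F₁')·n, and let f :
E → F be a parabolic homomorphism. Then f has constant rank: the cokernel of f in the category of
O_Y-modules is finite locally free. The published statement is set on the normalisation of a
singular curve with D lying over its singular points; neither is used. -/
theorem result (k : Type u) [Field k] [IsAlgClosed k] (X : Scheme.{u}) [X.Over (Spec (CommRingCat.of k))]
    [AlgebraicGeometry.IsIntegral X] [IsProper (X ↘ Spec (CommRingCat.of k))] [Smooth (X ↘ Spec (CommRingCat.of k))]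
    (hdim : topologicalKrullDim X = 1)
    (I : X.IdealSheafData) (hD : FGA.IsEffCartier I) (α : ℝ) (hα0 : 0 ≤ α) (hα1 : α < 1)
    {E F : X.Modules} (n m : ℕ) (hn : 0 < n) (hm : 0 < m)
    (hE : FlatMod.IsFinLocFreeOfRank n E) (hF : FlatMod.IsFinLocFreeOfRank m F)
    (F₁ : Submodule k (ParSh.fibD X I E)) (F₁' : Submodule k (ParSh.fibD X I F))
    (hEss : ParSh.IsGPSemistable k X I α F₁ n) (hFss : ParSh.IsGPSemistable k X I α F₁' m)
    (hμ : ParSh.gpDeg k X α E F₁ n * (m : ℝ) = ParSh.gpDeg k X α F F₁' m * (n : ℝ))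
    (f : E ⟶ F) (hf : ParSh.IsGPHom k X I F₁ F₁' f) :
    ∃ r₀ : ℕ, FlatMod.IsFinLocFreeOfRank r₀ (cokernel f) := by
  have hX := W7Slope.regCurve_of_smooth (k := k) (X := X) hdim
  obtain ⟨K, A, A', Q, s, t, κ, p, l, i, q, w, F₁A, hκ, hp, hl, hS, hfac, hK, hA, hA', hQ, hns, htm, -, -,
    h1, h2, hd, hiso⟩ := GPBunLib.gp_image hX hD hα0 hE hF F₁ F₁' f hf
  haveI := hκ
  haveI := hp
  haveI : Mono i := hS.mono_f
  have h3 := GPBunLib.gp_sub_le hX.dim hD F₁ hEss κ hK
  have h4 := GPBunLib.gp_sub_le hX.dim hD F₁' hFss i hA'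
  have hd' : (Curv2.deg k X A t : ℝ) ≤ (Curv2.deg k X A' t : ℝ) := by exact_mod_cast hd
  have hα : 0 < 1 - α := by linarith
  have hnm : (0 : ℝ) < (n : ℝ) * (m : ℝ) := by positivity
  have hn' : (n : ℝ) = (s : ℝ) + (t : ℝ) := by exact_mod_cast hns
  have h5 : ParSh.gpDeg k X α E F₁ n * (t : ℝ) ≤ ParSh.gpDeg k X α A F₁A t * (n : ℝ) := by
    have := mul_le_mul_of_nonneg_right h1 (show (0 : ℝ) ≤ n by positivity)
    rw [hn'] at this h3 ⊢
    linarith
  have h6 : (1 - α) * ((Curv2.deg k X A' t : ℝ) - (Curv2.deg k X A t : ℝ)) * ((n : ℝ) * (m : ℝ)) ≤ 0 := by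
    have a1 := mul_le_mul_of_nonneg_right h2 hnm.le
    have a2 := mul_le_mul_of_nonneg_right h5 (show (0 : ℝ) ≤ m by positivity)
    have a3 := mul_le_mul_of_nonneg_right h4 (show (0 : ℝ) ≤ n by positivity)
    have a4 : ParSh.gpDeg k X α E F₁ n * (m : ℝ) * (t : ℝ) = ParSh.gpDeg k X α F F₁' m * (n : ℝ) * (t : ℝ) := by
      rw [hμ]
    linarith
  have h7 : (Curv2.deg k X A t : ℝ) = (Curv2.deg k X A' t : ℝ) := by
    refine le_antisymm hd' ?_
    by_contra hlt
    have := mul_pos (mul_pos hα (sub_pos.2 (lt_of_not_ge hlt))) hnm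
    linarith
  haveI : IsIso l := hiso (by exact_mod_cast h7)
  refine ⟨_, W7Slope.rank_iso ?_ hQ⟩
  haveI : Epi (p ≫ l) := epi_comp _ _
  let c₁ : cokernel i ≅ Q := IsColimit.coconePointUniqueUpToIso (cokernelIsCokernel i) hS.gIsCokernel
  exact c₁.symm ≪≫ (cokernelEpiComp (p ≫ l) i).symm ≪≫ cokernelIsoOfEq (by rw [Category.assoc, hfac])

end Groth.Agent.S18565
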