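import Groth.Statements.S18566
import Groth.Agent.GPBunLib.Slope
import Groth.Agent.S18564
-- import your own Groth.Agent.* helpers here

set_option autoImplicit false
set_option backward.isDefEq.respectTransparency false
universe u
open CategoryTheory CategoryTheory.Limits AlgebraicGeometry
open ParSh

namespace Groth.Agent.S18566

/-- Let Y be a smooth proper integral curve (integral, smooth and proper over k, of dimension one) over
an algebraically closed field k, D an effective Cartier divisor on Y with ideal I, and α a real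
weight with 0 ≤ α < 1. A generalised parabolic structure on a finite locally free O_Y-module E is a
k-linear subspace F₁ of H⁰(Y, E ⊗ O_D); its parabolic degree in rank n is deg E + α·dim_k F₁ (deg E
= χ(E) − n·χ(O_Y)); a homomorphism f : E → E' is parabolic when the induced k-linear map H⁰(E ⊗ O_D)
→ H⁰(E' ⊗ O_D) carries F₁ into F₁'; a submodule G → E gets the preimage structure and (E, F₁) is
semistable (stable) when deg(G, preimage) · n ≤ (<) deg(E, F₁) · r for every finite locally free
submodule G of rank r ≥ 1 (with r < n for stability). Let (E, F₁) and (F, F₁') be semistable and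
stable of ranks n ≥ 1 and m ≥ 1 with the same parabolic slope, pardeg(E, F₁)·m = pardeg(F, F₁')·n,
and let f : E → F be a parabolic homomorphism. Then either f = 0 or f is an isomorphism of
O_Y-modules which, when α > 0, maps F₁ onto F₁'. The published statement concludes an isomorphism of
generalised parabolic bundles (an isomorphism of modules mapping F₁ onto F₁') at every weight 0 ≤ α
< 1; at α = 0 this fails, since the identity of O_Y, from the zero structure to all of H⁰(O_D) with
D a single point, is a nonzero parabolic map between stable rank-one objects of equal slope that is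
not one; so the condition on F₁ is asked here only for α > 0. The published statement is also set on
the normalisation of a singular curve with D lying over its singular points; neither is used. -/
theorem result (k : Type u) [Field k] [IsAlgClosed k] (X : Scheme.{u}) [X.Over (Spec (CommRingCat.of k))]
    [AlgebraicGeometry.IsIntegral X] [IsProper (X ↘ Spec (CommRingCat.of k))] [Smooth (X ↘ Spec (CommRingCat.of k))]
    (hdim : topologicalKrullDim X = 1)
    (I : X.IdealSheafData) (hD : FGA.IsEffCartier I) (α : ℝ) (hα0 : 0 ≤ α) (hα1 : α < 1)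
    {E F : X.Modules} (n m : ℕ) (hn : 0 < n) (hm : 0 < m)
    (hE : FlatMod.IsFinLocFreeOfRank n E) (hF : FlatMod.IsFinLocFreeOfRank m F)
    (F₁ : Submodule k (ParSh.fibD X I E)) (F₁' : Submodule k (ParSh.fibD X I F))
    (hEss : ParSh.IsGPSemistable k X I α F₁ n) (hEst : ParSh.IsGPStable k X I α F₁ n)
    (hFss : ParSh.IsGPSemistable k X I α F₁' m) (hFst : ParSh.IsGPStable k X I α F₁' m)
    (hμ : ParSh.gpDeg k X α E F₁ n * (m : ℝ) = ParSh.gpDeg k X α F F₁' m * (n : ℝ))
    (f : E ⟶ F) (hf : ParSh.IsGPHom k X I F₁ F₁' f) :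
    f = 0 ∨ (IsIso f ∧ (0 < α → Submodule.map (ParSh.fibDMap k X I f) F₁ = F₁')) := by
  have hX := W7Slope.regCurve_of_smooth (k := k) (X := X) hdim
  by_cases h0 : f = 0
  · exact Or.inl h0
  right
  obtain ⟨K, A, A', Q, s, t, κ, p, l, i, q, w, F₁A, hκ, hp, hl, hS, hfac, hK, hA, hA', hQ, hns, htm, hmp, hne,
    h1, h2, hd, hiso⟩ := GPBunLib.gp_image hX hD hα0 hE hF F₁ F₁' f hf
  haveI := hκ
  haveI := hp
  haveI := hl
  haveI : Mono i := hS.mono_f
  have ht := hne h0
  have h3 := GPBunLib.gp_sub_le hX.dim hD F₁ hEss κ hK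
  have h4 := GPBunLib.gp_sub_le hX.dim hD F₁' hFss i hA'
  have hd' : (Curv2.deg k X A t : ℝ) ≤ (Curv2.deg k X A' t : ℝ) := by exact_mod_cast hd
  have hα : 0 ≤ (1 - α) * ((Curv2.deg k X A' t : ℝ) - (Curv2.deg k X A t : ℝ)) :=
    mul_nonneg (by linarith) (by linarith)
  have hn' : (n : ℝ) = (s : ℝ) + (t : ℝ) := by exact_mod_cast hns
  have hnR : (0 : ℝ) < n := by exact_mod_cast hn
  have hmR : (0 : ℝ) < m := by exact_mod_cast hm
  have h5 : ParSh.gpDeg k X α E F₁ n * (t : ℝ) ≤ ParSh.gpDeg k X α A F₁A t * (n : ℝ) := by
    have := mul_le_mul_of_nonneg_right h1 hnR.le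
    rw [hn'] at this h3 ⊢
    linarith
  have hs : s = 0 := by
    by_contra hs
    have h3' := hEst K s κ hκ (Nat.pos_of_ne_zero hs) (by omega) hK
    have h5' : ParSh.gpDeg k X α E F₁ n * (t : ℝ) < ParSh.gpDeg k X α A F₁A t * (n : ℝ) := by
      have := mul_le_mul_of_nonneg_right h1 hnR.le
      rw [hn'] at this h3' ⊢
      linarith
    have a1 := mul_le_mul_of_nonneg_right h2 (mul_pos hnR hmR).le
    have a2 := mul_lt_mul_of_pos_right h5' hmR
    have a3 := mul_le_mul_of_nonneg_right h4 hnR.le
    have a4 : ParSh.gpDeg k X α E F₁ n * (m : ℝ) * (t : ℝ) = ParSh.gpDeg k X α F F₁' m * (n : ℝ) * (t : ℝ) := by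
      rw [hμ]
    have a5 := mul_nonneg hα (mul_pos hnR hmR).le
    linarith
  have htn : t = n := by omega
  have htm' : t = m := by
    rcases htm.lt_or_eq with hlt | he
    · exfalso
      have h4' := hFst A' t i inferInstance ht hlt hA'
      have a1 := mul_le_mul_of_nonneg_right h2 (mul_pos hnR hmR).le
      have a2 := mul_le_mul_of_nonneg_right h5 hmR.le
      have a3 := mul_lt_mul_of_pos_right h4' hnR
      have a4 : ParSh.gpDeg k X α E F₁ n * (m : ℝ) * (t : ℝ) =
          ParSh.gpDeg k X α F F₁' m * (n : ℝ) * (t : ℝ) := by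
        rw [hμ]
      have a5 := mul_nonneg hα (mul_pos hnR hmR).le
      linarith
    · exact he
  obtain rfl : n = m := htn.symm.trans htm'
  haveI : Mono p := hmp hs
  haveI : Mono f := by rw [← hfac]; exact mono_comp p (l ≫ i)
  exact ((S18564.result k X hdim I hD α hα0 hα1 n hn hE hF F₁ F₁' f hf).2.1
    (mul_right_cancel₀ hnR.ne' hμ))

end Groth.Agent.S18566
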