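import Groth.Statements.S18568
import Groth.Agent.GPBunLib.Compare
-- import your own Groth.Agent.* helpers here

set_option autoImplicit false
set_option backward.isDefEq.respectTransparency false
universe u
open CategoryTheory CategoryTheory.Limits AlgebraicGeometry
open ParSh

namespace Groth.Agent.S18568

/-- Let Y be a smooth proper integral curve (integral, smooth and proper over k, of dimension one) over
an algebraically closed field k and D an effective Cartier divisor on Y with ideal I, of degree d ≥
1 in the sense that H⁰(Y, G ⊗ O_D) has k-dimension r·d for every finite locally free G of rank r. A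
generalised parabolic structure on a finite locally free E is a k-subspace F₁ of H⁰(E ⊗ O_D); with
weight α its parabolic degree in rank n is deg E + α·dim_k F₁ (deg E = χ(E) − n·χ(O_Y)); a submodule
G → E carries the preimage structure under H⁰(G ⊗ O_D) → H⁰(E ⊗ O_D), and (E, F₁) is α-semistable
(α-stable) when deg_α(G)·n ≤ (<) deg_α(E)·r for every finite locally free submodule G of rank r ≥ 1
(with r < n for stability); weight α = 1 gives 1-semistability and 1-stability. Let E have rank n ≥
2 with structure F₁ and let 0 ≤ α < 1 satisfy 1 − 1/(d·n·(n−1)) < α. If (E, F₁) is α-semistable then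
it is 1-semistable. The published statement is set on the normalisation of a singular curve, with
structures over several disjoint divisors D_i lying over its singular points and d their total
degree; here Y is any smooth proper integral curve with one structure over one divisor, which
contains the several-divisor case (D the sum of the D_i, F₁ the direct sum of the F₁^i). -/
theorem result (k : Type u) [Field k] [IsAlgClosed k] (X : Scheme.{u}) [X.Over (Spec (CommRingCat.of k))]
    [AlgebraicGeometry.IsIntegral X] [IsProper (X ↘ Spec (CommRingCat.of k))] [Smooth (X ↘ Spec (CommRingCat.of k))]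
    (hdim : topologicalKrullDim X = 1)
    (I : X.IdealSheafData) (hD : FGA.IsEffCartier I) (d : ℕ) (hd : 0 < d)
    (hdegD : ∀ (G : X.Modules) (r : ℕ), FlatMod.IsFinLocFreeOfRank r G → Module.finrank k (ParSh.fibD X I G) = r * d)
    {E : X.Modules} (n : ℕ) (hn : 2 ≤ n) (hE : FlatMod.IsFinLocFreeOfRank n E)
    (F₁ : Submodule k (ParSh.fibD X I E))
    (α : ℝ) (hα0 : 0 ≤ α) (hα1 : α < 1) (hα : 1 - 1 / ((d : ℝ) * (n : ℝ) * ((n : ℝ) - 1)) < α)
    (hss : ParSh.IsGPSemistable k X I α F₁ n) :
    ParSh.IsGPSemistable k X I 1 F₁ n := by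
  intro G r i hi hr hG
  haveI := hi
  have h := hss G r i hi hr hG
  rw [GPBunLib.gpDeg_eq, GPBunLib.gpDeg_eq] at h ⊢
  rw [one_mul, one_mul]
  have hw := GPBunLib.weight_bound hd hn hα
  haveI := GPBunLib.finite_fibD I k (CurveRR.isCoh_of_rank hG)
  have hfG : Module.finrank k (ParSh.gpInduced k X I i F₁) ≤ r * d :=
    (Submodule.finrank_le _).trans (hdegD G r hG).le
  have hrn := GPBunLib.rank_le_of_mono k hG hE i
  have hnR : (2 : ℝ) ≤ n := by exact_mod_cast hn
  have h1α : 0 ≤ 1 - α := by linarith
  rcases hrn.lt_or_eq with hlt | rfl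
  · suffices hM : (0 : ℤ) ≤ (Curv2.deg k X E n + Module.finrank k F₁) * r -
        (Curv2.deg k X G r + Module.finrank k (ParSh.gpInduced k X I i F₁)) * n by
      have := (sub_nonneg.1 hM)
      exact_mod_cast this
    have hrR : (r : ℝ) + 1 ≤ n := by exact_mod_cast hlt
    have hfR : (Module.finrank k (ParSh.gpInduced k X I i F₁) : ℝ) ≤ (r : ℝ) * d := by exact_mod_cast hfG
    have key : (-1 : ℝ) < (((Curv2.deg k X E n + Module.finrank k F₁) * r -
        (Curv2.deg k X G r + Module.finrank k (ParSh.gpInduced k X I i F₁)) * n : ℤ) : ℝ) := by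
      push_cast
      have a1 : (Module.finrank k (ParSh.gpInduced k X I i F₁) : ℝ) * n - (Module.finrank k F₁ : ℝ) * r ≤
          (d : ℝ) * n * ((n : ℝ) - 1) := by
        have e1 := mul_le_mul_of_nonneg_right hfR (show (0 : ℝ) ≤ n by positivity)
        have e2 : 0 ≤ (Module.finrank k F₁ : ℝ) * r := by positivity
        have e3 := mul_le_mul_of_nonneg_left hrR (show (0 : ℝ) ≤ (d : ℝ) * n by positivity)
        nlinarith
      have a2 := mul_le_mul_of_nonneg_left a1 h1α
      linarith
    have : ((-1 : ℤ) : ℝ) < (((Curv2.deg k X E n + Module.finrank k F₁) * r -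
        (Curv2.deg k X G r + Module.finrank k (ParSh.gpInduced k X I i F₁)) * n : ℤ) : ℝ) := by
      exact_mod_cast key
    exact Int.add_one_le_iff.2 (Int.cast_lt.1 this)
  · refine mul_le_mul_of_nonneg_right ?_ (Nat.cast_nonneg _)
    have h' := le_of_mul_le_mul_right h (show (0 : ℝ) < r by exact_mod_cast hr)
    suffices hM : (0 : ℤ) ≤ (Curv2.deg k X E r + Module.finrank k F₁) -
        (Curv2.deg k X G r + Module.finrank k (ParSh.gpInduced k X I i F₁)) by
      have := (sub_nonneg.1 hM)
      exact_mod_cast this
    have hfR : (Module.finrank k (ParSh.gpInduced k X I i F₁) : ℝ) ≤ (r : ℝ) * d := by exact_mod_cast hfG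
    have key : (-1 : ℝ) < (((Curv2.deg k X E r + Module.finrank k F₁) -
        (Curv2.deg k X G r + Module.finrank k (ParSh.gpInduced k X I i F₁)) : ℤ) : ℝ) := by
      push_cast
      have a1 : (Module.finrank k (ParSh.gpInduced k X I i F₁) : ℝ) - (Module.finrank k F₁ : ℝ) ≤
          (d : ℝ) * r * ((r : ℝ) - 1) := by
        have e2 : 0 ≤ (Module.finrank k F₁ : ℝ) := by positivity
        have e3 := mul_le_mul_of_nonneg_left (show (1 : ℝ) ≤ (r : ℝ) - 1 by linarith)
          (show (0 : ℝ) ≤ (d : ℝ) * r by positivity)
        linarith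
      have a2 := mul_le_mul_of_nonneg_left a1 h1α
      linarith
    have : ((-1 : ℤ) : ℝ) < (((Curv2.deg k X E r + Module.finrank k F₁) -
        (Curv2.deg k X G r + Module.finrank k (ParSh.gpInduced k X I i F₁)) : ℤ) : ℝ) := by
      exact_mod_cast key
    exact Int.add_one_le_iff.2 (Int.cast_lt.1 this)

end Groth.Agent.S18568
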