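import Groth.Statements.S1857
import Groth.Agent.CycDim.RelDim

set_option autoImplicit false
universe u
open CategoryTheory AlgebraicGeometry
open Cyc

namespace Groth.Agent.S1857

open AlgebraicGeometry CategoryTheory in
theorem mapCompLength {X Y : Scheme.{u}} (f : X ⟶ Y) [Flat f] (x : X) (I : Ideal (Y.presheaf.stalk (f x))) :
    Module.length (Y.presheaf.stalk (f x)) (Y.presheaf.stalk (f x) ⧸ I) *
      Module.length (X.presheaf.stalk x) (X.presheaf.stalk x ⧸
        (IsLocalRing.maximalIdeal (Y.presheaf.stalk (f x))).map (f.stalkMap x).hom) =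
      Module.length (X.presheaf.stalk x) (X.presheaf.stalk x ⧸ I.map (f.stalkMap x).hom) := by
  letI := (f.stalkMap x).hom.toAlgebra
  haveI : Module.Flat (Y.presheaf.stalk (f x)) (X.presheaf.stalk x) := Flat.stalkMap f x
  haveI : IsLocalHom (algebraMap (Y.presheaf.stalk (f x)) (X.presheaf.stalk x)) :=
    inferInstanceAs (IsLocalHom (f.stalkMap x).hom)
  rw [show (f.stalkMap x).hom = algebraMap (Y.presheaf.stalk (f x)) (X.presheaf.stalk x) from rfl,
    (Algebra.TensorProduct.quotIdealMapEquivTensorQuot (X.presheaf.stalk x) I).toLinearEquiv.length_eq,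
    IsLocalRing.length_baseChange]

/-- For flat morphisms f : X → Y and g : Y → Z locally of finite type of relative dimensions r and s,
the composite has relative dimension r + s and (g ∘ f)^* = f^* ∘ g^* on k-cycles (equality of
coefficient functions). Here a pair (X, δ) with Cyc.IsSetup plays the role of a scheme locally of
finite type over a fixed base with a dimension function (X locally Noetherian with universally
catenary local rings, δ a dimension function), and Cyc.DeltaCompat records that the dimension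
function upstairs is the induced one. -/
theorem result (X Y Z : Scheme.{u}) (δX : X → ℤ) (δY : Y → ℤ) (δZ : Z → ℤ) (hX : Cyc.IsSetup X δX) (hY : Cyc.IsSetup Y δY) (hZ : Cyc.IsSetup Z δZ) (f : X ⟶ Y) (g : Y ⟶ Z) [Flat f] [LocallyOfFiniteType f] [Flat g] [LocallyOfFiniteType g] (r s : ℕ) (hr : Cyc.HasRelDim f r) (hs : Cyc.HasRelDim g s) (hf : Cyc.DeltaCompat f δX δY) (hg : Cyc.DeltaCompat g δY δZ) (k : ℤ) : Cyc.HasRelDim (f ≫ g) (r + s) ∧ ∀ α : AlgebraicCycle Z ℤ, α ∈ Cyc.Zk Z δZ k → Cyc.pullFun f δX δY r (Cyc.pullFun g δY δZ s ⇑α) = Cyc.pullFun (f ≫ g) δX δZ ((r : ℤ) + s) ⇑α := by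

  haveI := hX.1; haveI := hY.1; haveI := hZ.1
  refine ⟨Groth.Agent.CycDim.hasRelDim_comp f g hr hs, fun α hα => ?_⟩
  funext x
  obtain ⟨h1, -⟩ := Groth.Agent.CycDim.delta_le f hf hr x
  obtain ⟨h2, -⟩ := Groth.Agent.CycDim.delta_le g hg hs (f x)
  unfold Cyc.pullFun
  by_cases hc : δX x = δY (f x) + (r : ℤ) ∧ δY (f x) = δZ (g (f x)) + (s : ℤ)
  · rw [if_pos hc.1, if_pos hc.2]
    rw [if_pos (show δX x = δZ ((f ≫ g) x) + ((r : ℤ) + s) by
      show δX x = δZ (g (f x)) + _
      omega)]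
    show α (g (f x)) * _ * _ = α (g (f x)) * _
    rw [mul_assoc, ← Nat.cast_mul, ← ENat.toNat_mul, mapCompLength]
    rw [Scheme.Hom.stalkMap_comp, Ideal.map_map]
    rfl
  · have hne : ¬ δX x = δZ (g (f x)) + ((r : ℤ) + s) := fun e => hc ⟨by omega, by omega⟩
    rw [if_neg (show ¬ δX x = δZ ((f ≫ g) x) + ((r : ℤ) + s) from hne)]
    by_cases h3 : δX x = δY (f x) + (r : ℤ)
    · rw [if_pos h3, if_neg (fun h4 => hc ⟨h3, h4⟩), zero_mul]
    · rw [if_neg h3]

end Groth.Agent.S1857
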