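import Groth.Statements.S18572
import Groth.Agent.REqLine.Basic

set_option autoImplicit false
universe u
open CategoryTheory AlgebraicGeometry
open REq

namespace Groth.Agent.S18572

/-- Let k be an infinite field and X an integral separated scheme of finite type over k which is retract
rational over k. Then X is almost R-trivial over k: there is a dense open subscheme U of X such
that, for every field K containing k (in the universe of k), U has a K-point and any two K-points of
X lying in U are R-equivalent on X. -/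
theorem result (k : Type u) [Field k] [Infinite k] (X : Scheme.{u})
    (f : X ⟶ Spec (CommRingCat.of k)) [IsIntegral X] [LocallyOfFiniteType f] [QuasiCompact f]
    [IsSeparated f] (hX : REq.IsRetractRational f) :
    REq.IsAlmostRTrivial f := by
  obtain ⟨U, n, W, a, b, hne, hab, ha, hb⟩ := hX
  have hW : (W : Set (Spec (CommRingCat.of (MvPolynomial (Fin n) k)))).Nonempty := by
    obtain ⟨x, hx⟩ := hne
    exact ⟨(a ⟨x, hx⟩).1, (a ⟨x, hx⟩).2⟩
  obtain ⟨p, hp⟩ := Groth.Agent.REqLine.exists_rat_point W hW
  refine ⟨U, U.isOpen.dense hne, fun K _ _ => ⟨⟨⟨specMap k K ≫ p ≫ b ≫ U.ι, ?_⟩, ?_⟩, fun A B hA hB => ?_⟩⟩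
  · rw [Category.assoc, Category.assoc, Category.assoc, hb, hp, Category.comp_id]
  · rintro _ ⟨z, rfl⟩
    exact ((specMap k K ≫ p ≫ b) z).2
  · have hA' : Set.range A.1 ⊆ Set.range U.ι := by rw [Scheme.Opens.range_ι]; exact hA
    have hB' : Set.range B.1 ⊆ Set.range U.ι := by rw [Scheme.Opens.range_ι]; exact hB
    refine Relation.EqvGen.rel _ _ (Groth.Agent.REqLine.elemLink_map (f := U.ι ≫ f) U.ι rfl
      (A := ⟨IsOpenImmersion.lift U.ι A.1 hA', by rw [IsOpenImmersion.lift_fac_assoc]; exact A.2⟩)
      (B := ⟨IsOpenImmersion.lift U.ι B.1 hB', by rw [IsOpenImmersion.lift_fac_assoc]; exact B.2⟩)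
      A B (IsOpenImmersion.lift_fac _ _ _) (IsOpenImmersion.lift_fac _ _ _)
      (Groth.Agent.REqLine.elemLink_retract (U.ι ≫ f) W a b hab ha hb _ _))

end Groth.Agent.S18572
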