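import Groth.Statements.S18573
import Groth.Agent.REqLine.Basic

set_option autoImplicit false
universe u
open CategoryTheory AlgebraicGeometry
open REq

namespace Groth.Agent.S18573

/-- Let Y be a scheme over a field k and K a field containing k. Let V and W be closed subsets of Y with
V ∪ W = Y such that no K-point of Y has its image in V ∩ W. If p is a K-point of Y lying in V and q
a K-point of Y lying in W, then p and q are not R-equivalent on Y. (The published step concerns
k-points of the special fibre of a proper flat scheme over a discrete valuation ring, that is K = k;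
this row is stated for any scheme Y over k and K-points for any field K containing k.) -/
theorem result (k : Type u) [Field k] (Y : Scheme.{u})
    (g : Y ⟶ Spec (CommRingCat.of k)) (K : Type u) [Field K] [Algebra k K]
    (V W : Set Y) (hV : IsClosed V) (hW : IsClosed W) (hVW : V ∪ W = Set.univ)
    (hT : ∀ z : REq.Pts g K, ¬ (Set.range z.1.base ⊆ V ∩ W))
    (p q : REq.Pts g K) (hp : Set.range p.1.base ⊆ V) (hq : Set.range q.1.base ⊆ W) :
    ¬ REq.REquiv g K p q := by
  have hex : ∀ z : REq.Pts g K, Set.range z.1.base ⊆ W ↔ ¬ Set.range z.1.base ⊆ V := by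
    intro z
    refine ⟨fun h1 h2 => hT z (Set.subset_inter h2 h1), fun h => ?_⟩
    obtain ⟨_, ⟨s, rfl⟩, hs⟩ := Set.not_subset.1 h
    rintro _ ⟨t, rfl⟩
    rw [show t = s from Subsingleton.elim (α := PrimeSpectrum K) t s]
    exact (hVW.ge (Set.mem_univ _)).resolve_left hs
  have step : ∀ A B : REq.Pts g K, REq.ElemLink g K A B →
      (Set.range A.1.base ⊆ V ↔ Set.range B.1.base ⊆ V) := by
    rintro A B ⟨U, h, a, b, -, -, -, ha, hb⟩
    letI : Algebra P1.R0.{u} K := ((Int.castRingHom K).comp ULift.ringEquiv.toRingHom).toAlgebra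
    haveI := Groth.Agent.REqP1.isIntegral_over K
    haveI : Nonempty (U : Scheme.{u}) := ⟨a (IsLocalRing.closedPoint K)⟩
    haveI : IsIntegral (U : Scheme.{u}) := isIntegral_of_isOpenImmersion U.ι
    have all : ∀ C : Set Y, IsClosed C → h (genericPoint (U : Scheme.{u})) ∈ C → ∀ z, h z ∈ C :=
      fun C hC hg z =>
        ((genericPoint_specializes z).map h.continuous).mem_closed hC hg
    have hr : ∀ (c : Spec (CommRingCat.of K) ⟶ (U : Scheme.{u})) (P : REq.Pts g K), c ≫ h = P.1 →
        ∀ C : Set Y, IsClosed C → h (genericPoint (U : Scheme.{u})) ∈ C → Set.range P.1.base ⊆ C := by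
      rintro c P e C hC hg _ ⟨t, rfl⟩
      rw [← e]
      exact all C hC hg _
    rcases hVW.ge (Set.mem_univ (h (genericPoint (U : Scheme.{u})))) with hg | hg
    · exact ⟨fun _ => hr b B hb V hV hg, fun _ => hr a A ha V hV hg⟩
    · exact ⟨fun h' => absurd h' ((hex A).1 (hr a A ha W hW hg)),
        fun h' => absurd h' ((hex B).1 (hr b B hb W hW hg))⟩
  intro heq
  have key : ∀ A B : REq.Pts g K, REq.REquiv g K A B → (Set.range A.1.base ⊆ V ↔ Set.range B.1.base ⊆ V) := by
    intro A B h
    induction h with
    | rel x y h => exact step x y h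
    | refl x => exact Iff.rfl
    | symm x y _ ih => exact ih.symm
    | trans x y z _ _ ih1 ih2 => exact ih1.trans ih2
  exact (hex q).1 hq ((key p q heq).1 hp)

end Groth.Agent.S18573
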