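import Groth.Statements.S18579
import Mathlib

set_option linter.style.haveILetI false

set_option autoImplicit false
universe u
open LogDiff

namespace Groth.Agent.S18579

/-- The exact sequence for units (first Milnor K-groups) when every component of the divisor is removed.
Let k be a field, B a smooth k-algebra, R the localization of B at a prime ideal, K the fraction
field of R and f_1, …, f_r pairwise non-associate prime elements of R. If w is a unit of K such that
w and w⁻¹ both lie in R[1/(f_1⋯f_r)], i.e. each becomes an element of R after multiplication by a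
power of f_1⋯f_r, then there is exactly one pair (v, b) consisting of a unit v of R and integers
b_1, …, b_r with w = v · ∏ f_i^{b_i} in K. (This is the exactness of 0 → Γ(Spec R, O^×) → Γ(Spec R ∖
V(f_1⋯f_r), O^×) → ℤ^r → 0, the last map being the orders along the f_i. The published statement
takes the f_i to be local equations of the components of a normal crossings divisor, over a field of
characteristic zero; this row allows arbitrary pairwise non-associate prime elements and any field.) -/
theorem result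
    {k B R K : Type u} [Field k] [CommRing B] [Algebra k B] [Algebra.Smooth k B]
    (p : Ideal B) [p.IsPrime] [CommRing R] [Algebra B R] [IsLocalization.AtPrime R p]
    [Field K] [Algebra R K] [IsFractionRing R K]
    {r : ℕ} (f : Fin r → R) (hf : ∀ i, Prime (f i)) (hfa : ∀ i j, Associated (f i) (f j) → i = j)
    (w : Kˣ)
    (hw : ∃ (a : R) (n : ℕ), (w : K) * algebraMap R K ((∏ i, f i) ^ n) = algebraMap R K a)
    (hw' : ∃ (a : R) (n : ℕ), (w⁻¹ : Kˣ) * algebraMap R K ((∏ i, f i) ^ n) = algebraMap R K a) :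
    ∃! vb : Rˣ × (Fin r → ℤ),
      (w : K) = algebraMap R K (vb.1 : R) * ∏ i, (algebraMap R K (f i)) ^ (vb.2 i) := by
  classical
  have hinj := IsFractionRing.injective R K
  haveI : IsDomain R := hinj.isDomain (algebraMap R K)
  obtain ⟨a, n, ha⟩ := hw
  obtain ⟨a', n', ha'⟩ := hw'
  have hne : ∀ i, algebraMap R K (f i) ≠ 0 := fun i h => (hf i).ne_zero (hinj (by rw [h, map_zero]))
  have hprod : a * a' = 1 * ∏ q ∈ (Finset.univ : Finset (Fin r)) ×ˢ Finset.range (n + n'), f q.1 := by
    rw [_root_.one_mul, Finset.prod_product]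
    simp only [Finset.prod_const, Finset.card_range]
    rw [Finset.prod_pow]
    apply hinj
    rw [map_mul, ← ha, ← ha', pow_add, map_mul]
    rw [mul_mul_mul_comm, Units.mul_inv, _root_.one_mul]
  obtain ⟨t, u, b, c, -, -, hbc, hat, -⟩ := mul_eq_mul_prime_prod (fun q _ => hf q.1) hprod
  let cnt : Fin r → ℕ := fun i => (t.filter fun q => q.1 = i).card
  have hat' : a = b * ∏ i, f i ^ cnt i := by
    rw [hat, ← Finset.prod_fiberwise' t (fun q => q.1) f]
    simp [cnt, Finset.prod_const]
  have huniq : ∀ (v v' : Rˣ) (m m' : Fin r → ℕ), (v : R) * ∏ i, f i ^ m i = (v' : R) * ∏ i, f i ^ m' i →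
      ∀ i, m' i ≤ m i := by
    intro v v' m m' h i
    by_contra hlt
    obtain ⟨d, hd⟩ : ∃ d, m' i = m i + (d + 1) := ⟨m' i - m i - 1, by omega⟩
    rw [← Finset.mul_prod_erase _ _ (Finset.mem_univ i), ← Finset.mul_prod_erase _ _ (Finset.mem_univ i), hd,
      pow_add] at h
    have h' : (v : R) * ∏ j ∈ Finset.univ.erase i, f j ^ m j =
        (v' : R) * (f i ^ (d + 1) * ∏ j ∈ Finset.univ.erase i, f j ^ m' j) := by
      refine mul_left_cancel₀ (pow_ne_zero (m i) (hf i).ne_zero) ?_
      linear_combination h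
    have hdvd : f i ∣ (v : R) * ∏ j ∈ Finset.univ.erase i, f j ^ m j :=
      h' ▸ Dvd.dvd.mul_left (Dvd.dvd.mul_right (dvd_pow_self _ (by omega)) _) _
    rcases (hf i).dvd_or_dvd hdvd with h1 | h1
    · exact (hf i).not_unit (isUnit_of_dvd_unit h1 v.isUnit)
    · obtain ⟨j, hj, hij⟩ := (hf i).exists_mem_finset_dvd h1
      exact (Finset.mem_erase.mp hj).1 (hfa j i ((hf i).associated_of_dvd (hf j) ((hf i).dvd_of_dvd_pow hij)).symm)
  have hwK : (w : K) = algebraMap R K b * ∏ i, algebraMap R K (f i) ^ ((cnt i : ℤ) - n) := by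
    have h0 : algebraMap R K ((∏ i, f i) ^ n) ≠ 0 := by
      rw [map_pow, map_prod]
      exact pow_ne_zero _ (Finset.prod_ne_zero_iff.mpr fun i _ => hne i)
    refine mul_right_cancel₀ h0 ?_
    rw [ha, hat', map_mul, mul_assoc, map_pow, map_prod, map_prod, ← Finset.prod_pow, ← Finset.prod_mul_distrib]
    congr 1
    refine Finset.prod_congr rfl fun i _ => ?_
    rw [map_pow, ← zpow_natCast (algebraMap R K (f i)) n, ← zpow_add₀ (hne i), sub_add_cancel, zpow_natCast]
  refine ⟨(Units.mkOfMulEqOne b c hbc.symm, fun i => (cnt i : ℤ) - n), hwK, ?_⟩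
  rintro ⟨v, e⟩ he
  obtain ⟨N, hN⟩ : ∃ N : ℕ, ∀ i, 0 ≤ e i + N ∧ 0 ≤ (cnt i : ℤ) - n + N := by
    refine ⟨n + ∑ i, (e i).natAbs, fun i => ?_⟩
    have := Finset.single_le_sum (f := fun i => (e i).natAbs) (fun _ _ => Nat.zero_le _) (Finset.mem_univ i)
    constructor <;> omega
  have key : ∀ (x : R) (g : Fin r → ℤ), (∀ i, 0 ≤ g i + N) →
      algebraMap R K x * (∏ i, algebraMap R K (f i) ^ g i) * ∏ i, algebraMap R K (f i) ^ (N : ℤ) =
        algebraMap R K (x * ∏ i, f i ^ (g i + N).toNat) := by
    intro x g hg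
    rw [map_mul, map_prod, mul_assoc, ← Finset.prod_mul_distrib]
    congr 1
    refine Finset.prod_congr rfl fun i _ => ?_
    rw [map_pow, ← zpow_add₀ (hne i), ← zpow_natCast, Int.toNat_of_nonneg (hg i)]
  have heq : (v : R) * ∏ i, f i ^ (e i + N).toNat = b * ∏ i, f i ^ ((cnt i : ℤ) - n + N).toNat := by
    apply hinj
    rw [← key _ _ (fun i => (hN i).1), ← key _ _ (fun i => (hN i).2)]
    exact congrArg (· * _) (he.symm.trans hwK)
  have h1 := huniq v (Units.mkOfMulEqOne b c hbc.symm) _ _ heq
  have h2 := huniq (Units.mkOfMulEqOne b c hbc.symm) v _ _ heq.symm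
  have hee : e = fun i => (cnt i : ℤ) - n := funext fun i => by
    have := h1 i; have := h2 i; have := hN i; omega
  subst hee
  refine Prod.ext (Units.ext (mul_right_cancel₀ ?_ heq)) rfl
  exact Finset.prod_ne_zero_iff.mpr fun i _ => pow_ne_zero _ (hf i).ne_zero


end Groth.Agent.S18579
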