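import Groth.Statements.S1858
import Groth.Agent.CycDim.PushPull
import Groth.Agent.LocalDimBC.Scheme
import Groth.Agent.S9684
import Groth.Prelude.Def_Bivar

set_option autoImplicit false
universe u
open CategoryTheory AlgebraicGeometry
open CategoryTheory.Limits
open Cyc

namespace Groth.Agent.S1858


theorem deltaCompat_cancel {W X Y : Scheme.{u}} (q : W ⟶ X) (f : X ⟶ Y) {δW : W → ℤ} {δX : X → ℤ} {δY : Y → ℤ}
    (hf : Cyc.DeltaCompat f δX δY) (hqf : Cyc.DeltaCompat (q ≫ f) δW δY) : Cyc.DeltaCompat q δW δX := by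
  intro w
  obtain ⟨n, hn, hn'⟩ := hqf w
  obtain ⟨m, hm, hm'⟩ := hf (q w)
  letI := (f.residueFieldMap (q w)).hom.toAlgebra
  letI := (q.residueFieldMap w).hom.toAlgebra
  letI : Algebra (Y.residueField (f (q w))) (W.residueField w) :=
    (f.residueFieldMap (q w) ≫ q.residueFieldMap w).hom.toAlgebra
  haveI : IsScalarTower (Y.residueField (f (q w))) (X.residueField (q w)) (W.residueField w) :=
    IsScalarTower.of_algebraMap_eq fun _ => rfl
  have hn2 : Algebra.trdeg (Y.residueField (f (q w))) (W.residueField w) = (n : Cardinal.{u}) := by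
    rw [← hn]
    have e := Scheme.residueFieldMap_comp q f w
    show @Algebra.trdeg (Y.residueField (f (q w))) (W.residueField w) _ _
      (f.residueFieldMap (q w) ≫ q.residueFieldMap w).hom.toAlgebra = _
    rw [← e]
    rfl
  have h := trdeg_add_eq (Y.residueField (f (q w))) (X.residueField (q w)) (A := W.residueField w)
  rw [hn2, show Algebra.trdeg (Y.residueField (f (q w))) (X.residueField (q w)) = (m : Cardinal.{u}) from hm] at h
  have hlt : Algebra.trdeg (X.residueField (q w)) (W.residueField w) < Cardinal.aleph0 := by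
    refine lt_of_le_of_lt ?_ (Cardinal.natCast_lt_aleph0 (n := n))
    rw [← h]
    exact le_add_self
  obtain ⟨l, hl⟩ := Cardinal.lt_aleph0.1 hlt
  refine ⟨l, hl, ?_⟩
  rw [hl, ← Nat.cast_add] at h
  have h2 : m + l = n := Nat.cast_injective h
  rw [show (q ≫ f) w = f (q w) from rfl] at hn'
  omega

/-- Let f : X → Y be proper and g : Y' → Y flat, locally of finite type, of relative dimension r, and
form X' = X ×_Y Y' with projections g' to X and f' to Y'. For a k-cycle α on X one has g^*(f_*α) =
f'_*(g'^*α) as (k + r)-cycles on Y' (stated on coefficient functions, for any cycle on X' with the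
coefficients of g'^*α). Here a pair (X, δ) with Cyc.IsSetup plays the role of a scheme locally of
finite type over a fixed base with a dimension function (X locally Noetherian with universally
catenary local rings, δ a dimension function), and Cyc.DeltaCompat records that the dimension
function upstairs is the induced one. -/
theorem result (X Y Y' : Scheme.{u}) (f : X ⟶ Y) (g : Y' ⟶ Y) [IsProper f] [Flat g] [LocallyOfFiniteType g] (δX : X → ℤ) (δY : Y → ℤ) (δY' : Y' → ℤ) (δX' : ↥(pullback f g) → ℤ) (r : ℕ) (hr : Cyc.HasRelDim g r) (hY : Cyc.IsSetup Y δY) (hX : Cyc.IsSetup X δX) (hY' : Cyc.IsSetup Y' δY') (hf : Cyc.DeltaCompat f δX δY) (hg : Cyc.DeltaCompat g δY' δY) (hX' : Cyc.DeltaCompat (pullback.snd f g) δX' δY') (k : ℤ) (α : AlgebraicCycle X ℤ) (hα : α ∈ Cyc.Zk X δX k) (α' : AlgebraicCycle (pullback f g) ℤ) (hα' : ⇑α' = Cyc.pullFun (pullback.fst f g) δX' δX r ⇑α) : ⇑(AlgebraicCycle.map (pullback.snd f g) δX' δY' α') = Cyc.pullFun g δY' δY r ⇑(AlgebraicCycle.map f δX δY α) := by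

  classical
  haveI := hX.1; haveI := hY.1; haveI := hY'.1
  have hX'' : Cyc.IsDimFun (pullback f g) δX' :=
    Groth.Agent.S9684.result (pullback.snd f g) δY' hY' δX' hX'
  have hrel : Cyc.HasRelDim (pullback.fst f g) r := Groth.Agent.LocalDimBC.hasRelDim_of_fibreDimAt _ r fun y' =>
    (Groth.Agent.LocalDimBC.fibreDimAt_of_isPullback g f _ _ (IsPullback.of_hasPullback f g).flip y').trans
      (Groth.Agent.CMChart.fibreDimAt_of_hasRelDim g hr _)
  have hq : Cyc.DeltaCompat (pullback.fst f g) δX' δX := by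
    refine deltaCompat_cancel (pullback.fst f g) f hf ?_
    rw [pullback.condition]
    exact Bivar.deltaCompat_comp (pullback.snd f g) g δX' δY' δY hX' hg
  funext y'
  show (∑ᶠ x' ∈ ((pullback.snd f g) ⁻¹' {y'} : Set ↥(pullback f g)),
      α' x' * (AlgebraicCycle.mapCoeff (pullback.snd f g) δX' δY' x' : ℤ)) =
    Cyc.pullFun g δY' δY r (fun y => ∑ᶠ x ∈ (f ⁻¹' {y} : Set X), α x * (AlgebraicCycle.mapCoeff f δX δY x : ℤ)) y'
  rw [hα']
  exact (Groth.Agent.CycFin.push_pull (IsPullback.of_hasPullback f g) hY'.2.2 hX'' hf hX'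
    (fun z hz => (Groth.Agent.CycDim.delta_le g hg hr z).2.2 hz)
    (fun z hz => (Groth.Agent.CycDim.delta_le (pullback.fst f g) hq hrel z).2.2 hz) α y').symm

end Groth.Agent.S1858
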