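import Groth.Statements.S18580
import Groth.Agent.EtaleSections.BaseChange

set_option autoImplicit false
universe u
open EtBase

namespace Groth.Agent.S18580

open AlgebraicGeometry CategoryTheory in
/-- Let Y be a connected scheme and f : X ⟶ Y a separated morphism that is unramified (locally of finite
type and formally unramified). Then the sections of f correspond bijectively to the connected
components of X mapping isomorphically onto Y: there is a bijection from the set of sections s of f
to the set of open subschemes U of X whose underlying set is a connected component of X and for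
which U ⟶ X ⟶ Y is an isomorphism, sending s to its image. In particular every section is an
isomorphism onto a connected component of X and is determined by its image. (A connected component
mapping isomorphically onto Y is the image of a section, hence open, so restricting to open
components loses nothing. The published statement also assumes Y Noetherian; that hypothesis plays
no role and is omitted.) -/
theorem result {X Y : Scheme.{u}} (f : X ⟶ Y)
    [FormallyUnramified f] [LocallyOfFiniteType f] [IsSeparated f] [ConnectedSpace Y] :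
    ∃ e : {s : Y ⟶ X // s ≫ f = 𝟙 Y} ≃
        {U : X.Opens // (∃ x : X, (U : Set X) = connectedComponent x) ∧ IsIso (U.ι ≫ f)},
      ∀ s : {s : Y ⟶ X // s ≫ f = 𝟙 Y}, ((e s).1 : Set X) = Set.range s.1 := by
  classical
  have key : ∀ s : Y ⟶ X, s ≫ f = 𝟙 Y → IsOpen (Set.range s) ∧
      (∀ y : Y, Set.range s = connectedComponent (s y)) := fun s hs => by
    have hs' := Groth.Agent.EtaleSections.isOpenImmersion_section f s hs
    have hclosed : IsClosedImmersion s := by
      have : IsClosedImmersion (s ≫ f) := by rw [hs]; infer_instance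
      exact IsClosedImmersion.of_comp s f
    refine ⟨s.isOpenEmbedding.isOpen_range, fun y => Set.Subset.antisymm
      ((isConnected_range s.continuous).isPreconnected.subset_connectedComponent ⟨y, rfl⟩)
      (IsClopen.connectedComponent_subset
        ⟨s.isClosedEmbedding.isClosed_range, s.isOpenEmbedding.isOpen_range⟩ ⟨y, rfl⟩)⟩
  obtain ⟨y₀⟩ := (inferInstance : Nonempty Y)
  have hiso : ∀ (s : Y ⟶ X) (hs : s ≫ f = 𝟙 Y) (U : X.Opens), (U : Set X) = Set.range s →
      IsIso (U.ι ≫ f) := fun s hs U hU => by
    let s' := IsOpenImmersion.lift U.ι s (by rw [Scheme.Opens.range_ι, hU])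
    have hs' : s' ≫ U.ι = s := IsOpenImmersion.lift_fac _ _ _
    refine ⟨s', ?_, by rw [← Category.assoc, hs', hs]⟩
    rw [← cancel_mono U.ι, Category.assoc, hs', Category.id_comp, Category.assoc]
    refine (Groth.Agent.EtaleSections.eq_of_range_subset_eqLocus f (𝟙 X) (f ≫ s)
      (by rw [Category.assoc, hs]; simp) U.ι ?_).symm.trans (Category.comp_id _)
    rw [Scheme.Opens.range_ι, hU]
    exact Groth.Agent.EtaleSections.range_subset_eqLocus _ _ _ _ s (by simp [reassoc_of% hs])
  let F : {s : Y ⟶ X // s ≫ f = 𝟙 Y} →
      {U : X.Opens // (∃ x : X, (U : Set X) = connectedComponent x) ∧ IsIso (U.ι ≫ f)} := fun s =>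
    ⟨⟨Set.range s.1, (key s.1 s.2).1⟩, ⟨s.1 y₀, (key s.1 s.2).2 y₀⟩,
      hiso s.1 s.2 ⟨Set.range s.1, (key s.1 s.2).1⟩ rfl⟩
  let G : {U : X.Opens // (∃ x : X, (U : Set X) = connectedComponent x) ∧ IsIso (U.ι ≫ f)} →
      {s : Y ⟶ X // s ≫ f = 𝟙 Y} := fun U =>
    ⟨@inv _ _ _ _ (U.1.ι ≫ f) U.2.2 ≫ U.1.ι, by
      have := U.2.2
      simp⟩
  refine ⟨⟨F, G, fun s => Subtype.ext ?_, fun U => Subtype.ext (TopologicalSpace.Opens.ext ?_)⟩, fun s => rfl⟩
  · have := (F s).2.2
    have hr : Set.range s.1 ⊆ Set.range (F s).1.ι := by rw [Scheme.Opens.range_ι]; exact subset_rfl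
    have hfac := IsOpenImmersion.lift_fac (F s).1.ι s.1 hr
    have h1 : IsOpenImmersion.lift (F s).1.ι s.1 hr = inv ((F s).1.ι ≫ f) := by
      rw [← cancel_mono ((F s).1.ι ≫ f), IsIso.inv_hom_id, ← Category.assoc, hfac, s.2]
    change inv ((F s).1.ι ≫ f) ≫ (F s).1.ι = s.1
    rw [← h1, hfac]
  · have := U.2.2
    change Set.range (inv (U.1.ι ≫ f) ≫ U.1.ι) = (U.1 : Set X)
    rw [Scheme.Hom.comp_base, TopCat.coe_comp, Set.range_comp,
      (inv (U.1.ι ≫ f)).surjective.range_eq, Set.image_univ, Scheme.Opens.range_ι]

end Groth.Agent.S18580
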