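import Groth.Statements.S18581
import Groth.Agent.CMFlat.Scheme

set_option autoImplicit false
universe u
open Desc

namespace Groth.Agent.S18581

/-- Let A → B be a local homomorphism of Noetherian local rings which is étale, in the sense that B is
(compatibly with the map from A) the localization of an étale A-algebra E at a prime ideal. Then A
is a Cohen–Macaulay ring exactly when B is one. -/
theorem result (A B : Type u) [CommRing A] [CommRing B]
    [IsLocalRing A] [IsLocalRing B] [IsNoetherianRing A] [IsNoetherianRing B]
    [Algebra A B] [IsLocalHom (algebraMap A B)]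
    (E : Type u) [CommRing E] [Algebra A E] [Algebra.Etale A E] (P : Ideal E) [P.IsPrime]
    [Algebra E B] [IsScalarTower A E B] [IsLocalization.AtPrime B P] :
    LocCoh.IsCohenMacaulayLocalRing A ↔ LocCoh.IsCohenMacaulayLocalRing B := by
  haveI : Algebra.FormallyUnramified E B := .of_isLocalization P.primeCompl
  haveI : Algebra.FormallyUnramified A B := .comp A E B
  haveI : Algebra.EssFiniteType E B := Algebra.EssFiniteType.of_isLocalization B P.primeCompl
  haveI : Algebra.EssFiniteType A B := Algebra.EssFiniteType.comp A E B
  haveI : Module.Flat A B := by
    haveI : Module.Flat E B := IsLocalization.flat B P.primeCompl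
    exact Module.Flat.trans A E B
  have hm := Algebra.FormallyUnramified.map_maximalIdeal (R := A) (S := B)
  have h0 : ringKrullDim (B ⧸ (IsLocalRing.maximalIdeal A).map (algebraMap A B)) = 0 := by
    haveI : ((IsLocalRing.maximalIdeal A).map (algebraMap A B)).IsMaximal := hm ▸ inferInstance
    letI := Ideal.Quotient.field ((IsLocalRing.maximalIdeal A).map (algebraMap A B))
    exact ringKrullDim_eq_zero_of_field _
  exact (CMFlat.isCohenMacaulayLocalRing_iff_of_dim_zero h0).1.symm

end Groth.Agent.S18581
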