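import Mathlib.RingTheory.WittVector.Identities
import Mathlib.RingTheory.WittVector.InitTail
import Mathlib.RingTheory.WittVector.Truncated
import Mathlib.RingTheory.WittVector.Domain
import Mathlib.RingTheory.WittVector.Teichmuller
import Mathlib.Algebra.CharP.Lemmas

/-! Witt vectors of weakly cyclic extensions. -/

set_option autoImplicit false
universe u v

open WittVector

namespace Groth.Agent.WittCyclic

variable {p : ℕ} [Fact p.Prime] {B : Type u} [CommRing B] [CharP B p]

theorem frobenius_teichmuller (a : B) : frobenius (teichmuller p a) = teichmuller p (a ^ p) := by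
  ext k
  rw [coeff_frobenius_charP]
  rcases k.eq_zero_or_pos with rfl | hk
  · rw [teichmuller_coeff_zero, teichmuller_coeff_zero]
  · rw [teichmuller_coeff_pos p a k hk, teichmuller_coeff_pos p (a ^ p) k hk,
      zero_pow (Fact.out : p.Prime).ne_zero]

theorem iterate_frobenius_teichmuller (a : B) (i : ℕ) :
    (⇑(frobenius : WittVector p B →+* WittVector p B))^[i] (teichmuller p a) = teichmuller p (a ^ p ^ i) := by
  induction i with
  | zero => simp
  | succ i ih => rw [Function.iterate_succ_apply', ih, frobenius_teichmuller, ← pow_mul, ← pow_succ]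

theorem teichmuller_mul_coeff (k : ℕ) : ∀ (a : B) (x : WittVector p B),
    (teichmuller p a * x).coeff k = a ^ p ^ k * x.coeff k := by
  induction k with
  | zero => intro a x; rw [mul_coeff_zero, teichmuller_coeff_zero]; simp
  | succ k ih =>
    intro a x
    have hx : x = teichmuller p (x.coeff 0) + verschiebung (x.shift 1) := by
      ext i
      rw [coeff_add_of_disjoint]
      · rcases i with _ | i
        · rw [verschiebung_coeff_zero, teichmuller_coeff_zero, add_zero]
        · rw [teichmuller_coeff_pos p _ _ (Nat.succ_pos i), verschiebung_coeff_succ, shift_coeff, zero_add,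
            add_comm 1 i]
      · intro j
        rcases j with _ | j
        · exact Or.inr (verschiebung_coeff_zero _)
        · exact Or.inl (teichmuller_coeff_pos p _ _ (Nat.succ_pos j))
    conv_lhs => rw [hx]
    rw [mul_add, ← map_mul, mul_comm (teichmuller p a) (verschiebung _), ← verschiebung_mul_frobenius,
      frobenius_teichmuller, coeff_add_of_disjoint]
    · rw [teichmuller_coeff_pos p _ _ (Nat.succ_pos k), zero_add, verschiebung_coeff_succ, mul_comm, ih,
        shift_coeff, ← pow_mul, ← pow_succ', add_comm 1 k]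
    · intro j
      rcases j with _ | j
      · exact Or.inr (verschiebung_coeff_zero _)
      · exact Or.inl (teichmuller_coeff_pos p _ _ (Nat.succ_pos j))

theorem coeff_sum_zero {ι : Type*} (s : Finset ι) (f : ι → WittVector p B) :
    (∑ i ∈ s, f i).coeff 0 = ∑ i ∈ s, (f i).coeff 0 :=
  map_sum (constantCoeff : WittVector p B →+* B) f s

theorem iter_sum {ι : Type*} (s : Finset ι) (f : ι → WittVector p B) (i : ℕ) :
    (⇑(verschiebung : WittVector p B →+ WittVector p B))^[i] (∑ t ∈ s, f t) =
      ∑ t ∈ s, (⇑(verschiebung : WittVector p B →+ WittVector p B))^[i] (f t) := by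
  induction i with
  | zero => rfl
  | succ i ih => simp only [Function.iterate_succ_apply', ih, map_sum]

/-- Split a Witt vector along a family of slots, one level at a time. -/
theorem exists_split {T : Type*} [Fintype T] (P : T → ℕ → B → Prop)
    (hP0 : ∀ t k, P t k 0) (hS : ∀ t, ∀ x y : WittVector p B, (∀ k, P t k (x.coeff k)) → (∀ k, P t k (y.coeff k)) →
      ∀ k, P t k ((x + y).coeff k))
    (hdec : ∀ i (v : B), ∃ u : T → B, (∀ t, P t i (u t)) ∧ v = ∑ t, u t) (η : WittVector p B) :
    ∃ x : T → WittVector p B, (∀ t k, P t k ((x t).coeff k)) ∧ η = ∑ t, x t := by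
  classical
  choose u hu hsum using hdec
  let step : ℕ → (T → WittVector p B) → (T → WittVector p B) := fun i x t =>
    x t + (⇑(verschiebung : WittVector p B →+ WittVector p B))^[i] (teichmuller p (u i ((η - ∑ t, x t).coeff i) t))
  let seq : ℕ → T → WittVector p B := fun i => Nat.rec (fun _ => 0) step i
  have hV : ∀ (i : ℕ) (c : B) (k : ℕ),
      ((⇑(verschiebung : WittVector p B →+ WittVector p B))^[i] (teichmuller p c)).coeff k = if k = i then c else 0 := by
    intro i c k
    rcases lt_trichotomy k i with hk | rfl | hk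
    · rw [iterate_verschiebung_coeff_eq_zero _ hk, if_neg hk.ne]
    · rw [if_pos rfl]
      have := iterate_verschiebung_coeff (teichmuller p c) k 0
      rwa [zero_add, teichmuller_coeff_zero] at this
    · rw [if_neg hk.ne', ← Nat.sub_add_cancel hk.le, iterate_verschiebung_coeff,
        teichmuller_coeff_pos p c _ (by omega)]
  have hres : ∀ i, ∃ r, η - ∑ t, seq i t = (⇑(verschiebung : WittVector p B →+ WittVector p B))^[i] r := by
    intro i
    induction i with
    | zero => exact ⟨η, by show η - ∑ t : T, (0 : WittVector p B) = η; simp⟩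
    | succ i ih =>
      obtain ⟨r, hr⟩ := ih
      have hci : (η - ∑ t, seq i t).coeff i = r.coeff 0 := by
        rw [hr]
        simpa using iterate_verschiebung_coeff r i 0
      have hr0 : (r - ∑ t, teichmuller p (u i (r.coeff 0) t)).coeff 0 = 0 := by
        rw [← WittVector.constantCoeff_apply, map_sub, map_sum]
        simp only [constantCoeff_apply, teichmuller_coeff_zero]
        rw [← hsum i (r.coeff 0), sub_self]
      refine ⟨(r - ∑ t, teichmuller p (u i (r.coeff 0) t)).shift 1, ?_⟩
      rw [Function.iterate_succ_apply, verschiebung_shift _ 0 (fun j hj => by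
        rw [show j = 0 by omega]; exact hr0)]
      have hshift : ∀ z : WittVector p B, z.shift 0 = z := fun z => by ext j; rw [shift_coeff, zero_add]
      rw [hshift, iterate_map_sub, iter_sum, ← hr]
      show η - ∑ t, step i (seq i) t = _
      simp only [step, Finset.sum_add_distrib, hci]
      abel
  have hmem : ∀ i t k, P t k ((seq i t).coeff k) := by
    intro i
    induction i with
    | zero => intro t k; show P t k ((0 : WittVector p B).coeff k); rw [zero_coeff]; exact hP0 t k
    | succ i ih =>
      intro t
      refine hS t _ _ (ih t) fun k => ?_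
      rw [hV]
      split_ifs with hk
      · subst hk; exact hu _ _ _
      · exact hP0 _ _
  have hstab : ∀ t i j k, i ≤ j → k < i → (seq j t).coeff k = (seq i t).coeff k := by
    intro t i j k hij hk
    induction hij with
    | refl => rfl
    | @step j hij ih =>
      rw [← ih]
      have h : truncate i (seq (j + 1) t) = truncate i (seq j t) := by
        show truncate i (seq j t + _) = _
        rw [map_add, add_eq_left, ← RingHom.mem_ker, mem_ker_truncate]
        intro m hm
        exact iterate_verschiebung_coeff_eq_zero _ (lt_of_lt_of_le hm hij)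
      have := congrArg (fun z => TruncatedWittVector.coeff ⟨k, hk⟩ z) h
      simpa [coeff_truncate] using this
  refine ⟨fun t => WittVector.mk p fun k => (seq (k + 1) t).coeff k, fun t k => ?_, ?_⟩
  · rw [coeff_mk]; exact hmem (k + 1) t k
  · ext k
    have h1 : truncate (k + 1) η = truncate (k + 1) (∑ t, WittVector.mk p fun k => (seq (k + 1) t).coeff k) := by
      obtain ⟨r, hr⟩ := hres (k + 1)
      have h2 : truncate (k + 1) (η - ∑ t, seq (k + 1) t) = 0 := by
        rw [← RingHom.mem_ker, mem_ker_truncate, hr]
        intro m hm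
        exact iterate_verschiebung_coeff_eq_zero _ hm
      rw [map_sub, sub_eq_zero] at h2
      rw [h2, map_sum, map_sum]
      refine Finset.sum_congr rfl fun t _ => TruncatedWittVector.ext fun m => ?_
      rw [coeff_truncate, coeff_truncate, coeff_mk]
      exact hstab t (m + 1) (k + 1) m (by omega) (by omega)
    have := congrArg (fun z => TruncatedWittVector.coeff ⟨k, Nat.lt_succ_self k⟩ z) h1
    simp only [coeff_truncate] at this
    exact this

variable {A : Type u} [CommRing A] [Algebra A B]

omit [CharP B p] in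
theorem map_iterate_verschiebung (z : WittVector p A) (n : ℕ) :
    WittVector.map (algebraMap A B) ((⇑(verschiebung : WittVector p A →+ WittVector p A))^[n] z) =
      (⇑(verschiebung : WittVector p B →+ WittVector p B))^[n] (WittVector.map (algebraMap A B) z) := by
  induction n with
  | zero => rfl
  | succ n ih => rw [Function.iterate_succ_apply', Function.iterate_succ_apply', map_verschiebung, ih]

/-- The key decomposition. -/
theorem main (ℓ n : ℕ) (hℓ : 0 < ℓ) (hpℓ : ¬ p ∣ ℓ) [IsDomain A] [IsDomain B]
    (hinj : Function.Injective (algebraMap A B)) (y : Finset B) (hspan : Submodule.span A (y : Set B) = ⊤)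
    (hpow : ∀ b ∈ y, b ^ ℓ ∈ Set.range (algebraMap A B)) :
    ∃ a : A, a ≠ 0 ∧ ∀ η : WittVector p B,
      teichmuller p (algebraMap A B a) * (⇑(verschiebung : WittVector p B →+ WittVector p B))^[n] η ∈
      Ideal.span (Set.range (fun x : WittVector p A =>
        WittVector.map (algebraMap A B) ((⇑(verschiebung : WittVector p A →+ WittVector p A))^[n] x))) := by
  classical
  have hp := (Fact.out : p.Prime)
  have hpow' : ∀ b : y, ∃ c, algebraMap A B c = (b : B) ^ ℓ := fun b => hpow b b.2
  choose c hc using hpow'
  let y0 : Finset y := Finset.univ.filter fun b : y => (b : B) ≠ 0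
  have hc0 : ∀ b ∈ y0, c b ≠ 0 := fun b hb h => by
    have := hc b
    rw [h, map_zero] at this
    exact (Finset.mem_filter.1 hb).2 (pow_eq_zero_iff hℓ.ne' |>.1 this.symm)
  let a : A := ∏ b ∈ y0, c b
  let α : B := algebraMap A B a ^ p ^ n
  -- the coefficient condition
  let f : y × Fin ℓ → B := fun t => (t.1 : B) ^ ((t.2 : ℕ) + 1)
  let P : y × Fin ℓ → ℕ → B → Prop := fun t k v =>
    ∃ l : A, α ^ p ^ k * v = algebraMap A B l * (f t ^ p ^ n) ^ p ^ k
  have hP0 : ∀ t k, P t k 0 := fun t k => ⟨0, by simp⟩
  have hiff : ∀ t (x : WittVector p B), (∀ k, P t k (x.coeff k)) ↔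
      ∃ z : WittVector p A, teichmuller p α * x = teichmuller p (f t ^ p ^ n) * WittVector.map (algebraMap A B) z := by
    intro t x
    constructor
    · intro h
      choose l hl using h
      refine ⟨WittVector.mk p l, WittVector.ext fun k => ?_⟩
      rw [teichmuller_mul_coeff, teichmuller_mul_coeff, map_coeff, coeff_mk, hl, mul_comm]
    · rintro ⟨z, hz⟩ k
      refine ⟨z.coeff k, ?_⟩
      have := congrArg (fun w => WittVector.coeff w k) hz
      simp only [teichmuller_mul_coeff, map_coeff] at this
      rw [this, mul_comm]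
  have hdec : ∀ i (v : B), ∃ u : y × Fin ℓ → B, (∀ t, P t i (u t)) ∧ v = ∑ t, u t := by
    intro i v
    obtain ⟨lam, hlam⟩ : ∃ lam : y → A, ∑ b, lam b • (b : B) = v := by
      have hv : v ∈ Submodule.span A (Set.range ((↑) : y → B)) := by
        rw [Subtype.range_coe]; exact hspan ▸ Submodule.mem_top
      exact (Submodule.mem_span_range_iff_exists_fun A).1 hv
    -- the exponent
    let q := p ^ (n + i)
    obtain ⟨r, s, hr, hrs⟩ : ∃ r s : ℕ, r < ℓ ∧ (r + 1) * q = 1 + ℓ * s := by
      rcases eq_or_lt_of_le (Nat.succ_le_of_lt hℓ : 1 ≤ ℓ) with h1 | h1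
      · exact ⟨0, q - 1, hℓ, by rw [← h1]; have := Nat.one_le_pow (n + i) p hp.pos; omega⟩
      · have hcop : Nat.Coprime q ℓ := (hp.coprime_iff_not_dvd.2 hpℓ).pow_left _
        obtain ⟨r, hr, hr'⟩ := Nat.exists_mul_mod_eq_one_of_coprime hcop h1
        have hr0 : 0 < r := Nat.pos_of_ne_zero fun h => by simp [h] at hr'
        refine ⟨r - 1, q * r / ℓ, by omega, ?_⟩
        rw [Nat.sub_add_cancel hr0, mul_comm r q]
        have := Nat.mod_add_div (q * r) ℓ
        omega
    have hsq : s ≤ q := by
      by_contra! h
      have h1 : ℓ * (q + 1) ≤ ℓ * s := Nat.mul_le_mul_left ℓ h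
      have h2 : (r + 1) * q ≤ ℓ * q := Nat.mul_le_mul_right q hr
      have h3 : ℓ * (q + 1) = ℓ * q + ℓ := by ring
      omega
    refine ⟨fun t => if (t.2 : ℕ) = r then algebraMap A B (lam t.1) * (t.1 : B) else 0, fun t => ?_, ?_⟩
    · dsimp only
      split_ifs with ht
      · show ∃ l : A, _
        by_cases hb : (t.1 : B) = 0
        · exact ⟨0, by rw [hb]; simp⟩
        · have hb0 : t.1 ∈ y0 := Finset.mem_filter.2 ⟨Finset.mem_univ _, hb⟩
          refine ⟨lam t.1 * (∏ b ∈ y0.erase t.1, c b) ^ q * c t.1 ^ (q - s), ?_⟩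
          have ha : algebraMap A B a = algebraMap A B (∏ b ∈ y0.erase t.1, c b) * (t.1 : B) ^ ℓ := by
            rw [← hc t.1, ← map_mul]
            exact congrArg _ (Finset.prod_erase_mul y0 c hb0).symm
          have hq : p ^ n * p ^ i = q := (pow_add p n i).symm
          show (algebraMap A B a ^ p ^ n) ^ p ^ i * _ = _ * (((t.1 : B) ^ ((t.2 : ℕ) + 1)) ^ p ^ n) ^ p ^ i
          rw [← pow_mul, hq, ← pow_mul _ (p ^ n), hq, ← pow_mul, ht, hrs, map_mul, map_mul, map_pow, map_pow, hc,
            ha, mul_pow, ← pow_mul, ← pow_mul, show ℓ * q = ℓ * (q - s) + ℓ * s by rw [← Nat.mul_add, Nat.sub_add_cancel hsq],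
            pow_add, pow_add, pow_one]
          ring
      · exact hP0 t i
    · rw [← hlam, Fintype.sum_prod_type]
      refine Finset.sum_congr rfl fun b _ => ?_
      rw [Finset.sum_eq_single (⟨r, hr⟩ : Fin ℓ) (fun j _ hj => if_neg fun h => hj (Fin.ext h)) (by simp), if_pos rfl,
        Algebra.smul_def]
  refine ⟨a, Finset.prod_ne_zero_iff.2 hc0, fun η => ?_⟩
  obtain ⟨x, hx, hη⟩ := exists_split P hP0
    (fun t x z h1 h2 => by
      obtain ⟨u, hu⟩ := (hiff t x).1 h1
      obtain ⟨w, hw⟩ := (hiff t z).1 h2
      exact (hiff t (x + z)).2 ⟨u + w, by rw [mul_add, hu, hw, map_add, mul_add]⟩) hdec η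
  rw [mul_comm, iterate_verschiebung_mul_left, iterate_frobenius_teichmuller, hη, Finset.sum_mul, iter_sum]
  refine sum_mem fun t _ => ?_
  obtain ⟨z, hz⟩ := (hiff t (x t)).1 (hx t)
  rw [mul_comm (x t), show teichmuller p (algebraMap A B a ^ p ^ n) * x t = _ from hz,
    ← iterate_frobenius_teichmuller (f t), mul_comm, ← iterate_verschiebung_mul_left]
  exact Ideal.mul_mem_right _ _ (Ideal.subset_span ⟨z, map_iterate_verschiebung z n⟩)

end Groth.Agent.WittCyclic
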