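import Groth.Statements.S18599
import Mathlib

set_option autoImplicit false
universe u
open SSRed

namespace Groth.Agent.S18599

/-- Let ℓ be a prime number, M a free ℤ_ℓ-module of finite rank, A an automorphism of M with A^ℓ = 1,
and c the rank of M minus the rank of the submodule of A-invariants. Assume that ℓ = 2 and A − 1 ∈
2·End(M), or that ℓ = 2 and (A − 1)² ∈ 4·End(M), or that ℓ = 3 and (A − 1)² ∈ 3·End(M). Then the
torsion submodule of M/(A − 1)M is a vector space over ℤ/ℓℤ of dimension c/(ℓ − 1): it is killed by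
ℓ and has ℓ^r elements for some r with r(ℓ − 1) = c. -/
theorem result (ℓ : ℕ) [Fact ℓ.Prime]
    (M : Type u) [AddCommGroup M] [Module ℤ_[ℓ] M] [Module.Free ℤ_[ℓ] M] [Module.Finite ℤ_[ℓ] M]
    (A : M ≃ₗ[ℤ_[ℓ]] M) (hA : A ^ ℓ = 1) (f : Module.End ℤ_[ℓ] M) (hf : f = (A : M →ₗ[ℤ_[ℓ]] M) - 1)
    (hcase : (ℓ = 2 ∧ ∃ B : Module.End ℤ_[ℓ] M, f = (2 : ℤ_[ℓ]) • B) ∨
      (ℓ = 2 ∧ ∃ B : Module.End ℤ_[ℓ] M, f ^ 2 = (4 : ℤ_[ℓ]) • B) ∨
      (ℓ = 3 ∧ ∃ B : Module.End ℤ_[ℓ] M, f ^ 2 = (3 : ℤ_[ℓ]) • B))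
    (c : ℕ) (hc : c = Module.finrank ℤ_[ℓ] M - Module.finrank ℤ_[ℓ] (LinearMap.ker f)) :
    (∀ x ∈ Submodule.torsion ℤ_[ℓ] (M ⧸ LinearMap.range f), (ℓ : ℤ_[ℓ]) • x = 0) ∧
      ∃ r : ℕ, r * (ℓ - 1) = c ∧
        Nat.card (Submodule.torsion ℤ_[ℓ] (M ⧸ LinearMap.range f)) = ℓ ^ r := by
  classical
  have hℓ : ℓ.Prime := Fact.out
  have hℓ0 : (ℓ : ℤ_[ℓ]) ≠ 0 := Nat.cast_ne_zero.2 hℓ.ne_zero
  have hpow : ∀ (n : ℕ) (x : M), ((A : M →ₗ[ℤ_[ℓ]] M) ^ n) x = (A ^ n : M ≃ₗ[ℤ_[ℓ]] M) x := by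
    intro n
    induction n with
    | zero => intro x; rfl
    | succ n ih => intro x; rw [pow_succ', pow_succ', Module.End.mul_apply, ih]; rfl
  have hA' : (f + 1) ^ ℓ = 1 := by
    rw [hf, sub_add_cancel]
    exact LinearMap.ext fun x => by rw [hpow, hA]; rfl
  -- a projection onto the invariants
  obtain ⟨E, hfE, hEker, hNℓ, hℓN⟩ : ∃ E : Module.End ℤ_[ℓ] M, (f * E = 0 ∧ E * f = 0) ∧
      (∀ x, f x = 0 → E x = x) ∧
      (∀ x, E x = 0 → ∃ y, E y = 0 ∧ (ℓ : ℤ_[ℓ]) • x = (f ^ (ℓ - 1)) y) ∧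
      (∀ x, E x = 0 → ∃ y, E y = 0 ∧ (f ^ (ℓ - 1)) x = (ℓ : ℤ_[ℓ]) • y) := by
    have two : (ℓ = 2 ∧ ∃ B : Module.End ℤ_[ℓ] M, f = (2 : ℤ_[ℓ]) • B) →
        ∃ E : Module.End ℤ_[ℓ] M, (f * E = 0 ∧ E * f = 0) ∧ (∀ x, f x = 0 → E x = x) ∧
          (∀ x, E x = 0 → ∃ y, E y = 0 ∧ (ℓ : ℤ_[ℓ]) • x = (f ^ (ℓ - 1)) y) ∧
          (∀ x, E x = 0 → ∃ y, E y = 0 ∧ (f ^ (ℓ - 1)) x = (ℓ : ℤ_[ℓ]) • y) := by
      rintro ⟨h2, B, hB⟩
      subst h2
      have h4 : ((2 : ℤ_[2]) * 2) • (B * (1 + B)) = 0 := by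
        have h := sub_eq_zero.2 hA'
        rw [hB] at h
        rw [← h]
        simp only [pow_two, add_mul, mul_add, mul_one, one_mul, smul_add, smul_mul_assoc, mul_smul_comm, smul_smul]
        module
      have hB1 : B * (1 + B) = 0 := smul_right_injective _ (mul_ne_zero hℓ0 hℓ0)
        (show (((2 : ℕ) : ℤ_[2]) * (2 : ℕ)) • (B * (1 + B)) = (((2 : ℕ) : ℤ_[2]) * (2 : ℕ)) • (0 : Module.End ℤ_[2] M) by
          rw [smul_zero, Nat.cast_ofNat]; exact h4)
      have hB2 : (1 + B) * B = 0 := by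
        rw [← hB1]; noncomm_ring
      refine ⟨1 + B, ⟨by rw [hB, smul_mul_assoc, hB1, smul_zero], by rw [hB, mul_smul_comm, hB2, smul_zero]⟩,
        fun x hx => ?_, fun x hx => ⟨-x, by rw [map_neg, hx, neg_zero], ?_⟩, fun x hx => ⟨-x, by rw [map_neg, hx, neg_zero], ?_⟩⟩
      · rw [hB, LinearMap.smul_apply] at hx
        rw [LinearMap.add_apply, Module.End.one_apply,
          (smul_eq_zero.1 hx).resolve_left (by exact_mod_cast hℓ0), add_zero]
      · rw [LinearMap.add_apply, Module.End.one_apply] at hx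
        rw [show (2 : ℕ) - 1 = 1 from rfl, pow_one, hB, map_neg, LinearMap.smul_apply,
          eq_neg_of_add_eq_zero_right hx, smul_neg, neg_neg, Nat.cast_ofNat]
      · rw [LinearMap.add_apply, Module.End.one_apply] at hx
        rw [show (2 : ℕ) - 1 = 1 from rfl, pow_one, hB, LinearMap.smul_apply,
          eq_neg_of_add_eq_zero_right hx, Nat.cast_ofNat]
    rcases hcase with h | ⟨h2, B, hB⟩ | ⟨h3, B, hB⟩
    · exact two h
    · refine two ⟨h2, -B, ?_⟩
      subst h2
      have h1 : f ^ 2 + (2 : ℤ_[2]) • f = 0 := by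
        rw [← sub_eq_zero.2 hA']
        simp only [pow_two, add_mul, mul_add, mul_one, one_mul]
        module
      rw [hB] at h1
      refine smul_right_injective _ hℓ0 (show ((2 : ℕ) : ℤ_[2]) • f = ((2 : ℕ) : ℤ_[2]) • _ from ?_)
      rw [Nat.cast_ofNat, eq_neg_of_add_eq_zero_right h1]
      module
    · subst h3
      have h1 : f ^ 3 + (3 : ℤ_[3]) • f ^ 2 + (3 : ℤ_[3]) • f = 0 := by
        rw [← sub_eq_zero.2 hA']
        simp only [pow_succ, pow_zero, one_mul, add_mul, mul_add, mul_one]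
        module
      have hfz : f * (B + f + 1) = 0 := by
        refine smul_right_injective _ hℓ0 (show ((3 : ℕ) : ℤ_[3]) • _ = ((3 : ℕ) : ℤ_[3]) • (0 : Module.End ℤ_[3] M) from ?_)
        rw [smul_zero, Nat.cast_ofNat, ← h1, show f ^ 3 = f * f ^ 2 from pow_succ' f 2, hB]
        simp only [mul_add, mul_one, mul_smul_comm, ← pow_two, hB]
        module
      have hzf : (B + f + 1) * f = 0 := by
        refine smul_right_injective _ hℓ0 (show ((3 : ℕ) : ℤ_[3]) • _ = ((3 : ℕ) : ℤ_[3]) • (0 : Module.End ℤ_[3] M) from ?_)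
        rw [smul_zero, Nat.cast_ofNat, ← h1, show f ^ 3 = f ^ 2 * f from pow_succ f 2, hB]
        simp only [add_mul, one_mul, smul_mul_assoc, ← pow_two, hB]
        module
      refine ⟨B + f + 1, ⟨hfz, hzf⟩, fun x hx => ?_, fun x hx => ?_, fun x hx => ?_⟩
      · have hBx : B x = 0 := by
          have h := congrArg (fun g : Module.End ℤ_[3] M => g x) hB
          simp only [pow_two, Module.End.mul_apply, hx, map_zero, LinearMap.smul_apply] at h
          exact (smul_eq_zero.1 h.symm).resolve_left (by exact_mod_cast hℓ0)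
        simp [LinearMap.add_apply, hBx, hx]
      · have hEf : ∀ y, (B + f + 1) (f y) = 0 := fun y =>
          congrArg (fun g : Module.End ℤ_[3] M => g y) hzf
        -- `(f + 1)³ = 1`
        set z := (f + 1) ((f + 1) x) with hz
        refine ⟨-z, ?_, ?_⟩
        · rw [map_neg, neg_eq_zero]
          have hexp : z = x + f ((f + 1) x + x) := by
            simp only [hz, LinearMap.add_apply, Module.End.one_apply, map_add]
            abel
          rw [hexp, map_add, hx, hEf, add_zero]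
        · have hcube : (f + 1) z = x := by
            have h := congrArg (fun g : Module.End ℤ_[3] M => g x) hA'
            rw [hz]
            simpa [pow_succ', pow_zero, Module.End.mul_apply] using h
          have hEz : (B + f + 1) z = 0 := by
            have hexp : z = x + f ((f + 1) x + x) := by
              simp only [hz, LinearMap.add_apply, Module.End.one_apply, map_add]
              abel
            rw [hexp, map_add, hx, hEf, add_zero]
          have hBz : B z = -x := by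
            rw [← hcube, eq_neg_iff_add_eq_zero, ← hEz]
            simp only [LinearMap.add_apply, Module.End.one_apply]
            abel
          rw [show (3 : ℕ) - 1 = 2 from rfl, hB, map_neg, LinearMap.smul_apply, hBz, smul_neg, neg_neg, Nat.cast_ofNat]
      · have hEf : ∀ y, (B + f + 1) (f y) = 0 := fun y =>
          congrArg (fun g : Module.End ℤ_[3] M => g y) hzf
        refine ⟨-(f + 1) x, ?_, ?_⟩
        · rw [map_neg, neg_eq_zero]
          show (B + f + 1) (f x + x) = 0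
          rw [map_add, hEf, hx, add_zero]
        · rw [show (3 : ℕ) - 1 = 2 from rfl, hB, LinearMap.smul_apply, Nat.cast_ofNat]
          congr 1
          rw [eq_neg_iff_add_eq_zero, ← hx]
          simp only [LinearMap.add_apply, Module.End.one_apply]
          abel
  have hfE' : ∀ x, f (E x) = 0 := fun x => congrArg (fun g : Module.End ℤ_[ℓ] M => g x) hfE.1
  have hEf : ∀ x, E (f x) = 0 := fun x => congrArg (fun g : Module.End ℤ_[ℓ] M => g x) hfE.2
  have hEE : ∀ x, E (E x) = E x := fun x => hEker _ (hfE' x)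
  let N : Submodule ℤ_[ℓ] M := LinearMap.ker E
  let fN : N →ₗ[ℤ_[ℓ]] N := LinearMap.restrict f (p := N) (q := N) fun x _ => hEf x
  have hfNinj : Function.Injective fN := by
    rw [injective_iff_map_eq_zero]
    rintro ⟨x, hx⟩ h
    have h' : f x = 0 := congrArg Subtype.val h
    exact Subtype.ext ((hEker x h').symm.trans hx)
  let F : Submodule ℤ_[ℓ] N := LinearMap.range fN
  let L : Submodule ℤ_[ℓ] N := LinearMap.range ((ℓ : ℤ_[ℓ]) • (LinearMap.id : N →ₗ[ℤ_[ℓ]] N))
  have hfpow : ∀ (n : ℕ) (x : N), ((fN ^ n) x : M) = (f ^ n) (x : M) := by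
    intro n
    induction n with
    | zero => intro x; rfl
    | succ n ih => intro x; rw [pow_succ', pow_succ', Module.End.mul_apply, Module.End.mul_apply, ← ih]; rfl
  have hL : L = LinearMap.range (fN ^ (ℓ - 1)) := by
    refine le_antisymm ?_ ?_
    · rintro _ ⟨⟨x, hx⟩, rfl⟩
      obtain ⟨y, hy, he⟩ := hNℓ x hx
      exact ⟨⟨y, hy⟩, Subtype.ext (by rw [hfpow]; exact he.symm)⟩
    · rintro _ ⟨⟨x, hx⟩, rfl⟩
      obtain ⟨y, hy, he⟩ := hℓN x hx
      exact ⟨⟨y, hy⟩, Subtype.ext (by rw [hfpow]; exact he.symm)⟩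
  have hℓcases : ℓ = 2 ∨ ℓ = 3 := by
    rcases hcase with h | h | h
    exacts [Or.inl h.1, Or.inl h.1, Or.inr h.1]
  have hLF : L ≤ F := by
    rw [hL]
    rintro _ ⟨x, rfl⟩
    obtain ⟨j, hj⟩ : ∃ j, ℓ - 1 = j + 1 := ⟨ℓ - 2, by have := hℓ.two_le; omega⟩
    rw [hj, pow_succ', Module.End.mul_apply]
    exact ⟨_, rfl⟩
  -- the torsion of the coinvariants
  let φ : N →ₗ[ℤ_[ℓ]] M ⧸ LinearMap.range f := (LinearMap.range f).mkQ.comp N.subtype
  have hφker : LinearMap.ker φ = F := by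
    ext x
    simp only [φ, LinearMap.mem_ker, LinearMap.comp_apply, Submodule.mkQ_apply, Submodule.Quotient.mk_eq_zero,
      F, LinearMap.mem_range, Submodule.subtype_apply]
    constructor
    · rintro ⟨y, hy⟩
      refine ⟨⟨y - E y, by simp [N, LinearMap.mem_ker, map_sub, hEE]⟩, Subtype.ext ?_⟩
      show f (y - E y) = x
      rw [map_sub, hfE', sub_zero, hy]
    · rintro ⟨y, rfl⟩
      exact ⟨y, rfl⟩
  have hφtor : LinearMap.range φ = Submodule.torsion ℤ_[ℓ] (M ⧸ LinearMap.range f) := by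
    refine le_antisymm ?_ ?_
    · rintro _ ⟨x, rfl⟩
      refine ⟨⟨(ℓ : ℤ_[ℓ]), mem_nonZeroDivisors_of_ne_zero hℓ0⟩, ?_⟩
      show (ℓ : ℤ_[ℓ]) • φ x = 0
      rw [← map_smul, ← LinearMap.mem_ker, hφker]
      exact hLF ⟨x, rfl⟩
    · rintro q ⟨⟨a, ha⟩, hq⟩
      obtain ⟨x, rfl⟩ := Submodule.mkQ_surjective _ q
      have hq' : a • (LinearMap.range f).mkQ x = 0 := hq
      rw [← map_smul, Submodule.mkQ_apply, Submodule.Quotient.mk_eq_zero] at hq'
      obtain ⟨y, hy⟩ := hq'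
      have h0 : a • E x = 0 := by rw [← map_smul, ← hy, hEf]
      exact ⟨⟨x, (smul_eq_zero.1 h0).resolve_left (nonZeroDivisors.ne_zero ha)⟩, rfl⟩
  have hkill : ∀ x ∈ Submodule.torsion ℤ_[ℓ] (M ⧸ LinearMap.range f), (ℓ : ℤ_[ℓ]) • x = 0 := by
    intro x hx
    rw [← hφtor] at hx
    obtain ⟨y, rfl⟩ := hx
    rw [← map_smul, ← LinearMap.mem_ker, hφker]
    exact hLF ⟨y, rfl⟩
  refine ⟨hkill, ?_⟩
  have hcardT : Nat.card (Submodule.torsion ℤ_[ℓ] (M ⧸ LinearMap.range f)) = Nat.card (N ⧸ F) :=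
    Nat.card_congr (((Submodule.quotEquivOfEq _ _ hφker.symm).trans
      φ.quotKerEquivRange).trans (LinearEquiv.ofEq _ _ hφtor)).symm.toEquiv
  -- the rank of `N`
  have hrange : LinearMap.range E = LinearMap.ker f := le_antisymm
    (by rintro _ ⟨x, rfl⟩; exact hfE' x) (fun x hx => ⟨x, hEker x hx⟩)
  have hcN : Module.finrank ℤ_[ℓ] N = c := by
    have h := Submodule.finrank_quotient_add_finrank (LinearMap.ker E)
    rw [E.quotKerEquivRange.finrank_eq, hrange] at h
    show Module.finrank ℤ_[ℓ] (LinearMap.ker E) = c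
    omega
  have hmax : IsLocalRing.maximalIdeal ℤ_[ℓ] = Ideal.span {(ℓ : ℤ_[ℓ])} := PadicInt.maximalIdeal_eq_span_p
  let b : Module.Basis (Fin c) ℤ_[ℓ] N := (Module.finBasis ℤ_[ℓ] N).reindex (finCongr hcN)
  have hcardL : Nat.card (N ⧸ L) = ℓ ^ c := by
    let π : N →+ (Fin c → ZMod ℓ) :=
      { toFun := fun x i => PadicInt.toZMod (b.repr x i)
        map_zero' := by funext i; simp
        map_add' := fun x y => by funext i; simp }
    have hπs : Function.Surjective π := by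
      intro v
      choose w hw using fun i => ZMod.ringHom_surjective (PadicInt.toZMod : ℤ_[ℓ] →+* ZMod ℓ) (v i)
      refine ⟨b.equivFun.symm w, funext fun i => ?_⟩
      show PadicInt.toZMod (b.repr _ i) = v i
      rw [← Module.Basis.equivFun_apply, LinearEquiv.apply_symm_apply, hw]
    have hπk : π.ker = L.toAddSubgroup := by
      ext x
      rw [AddMonoidHom.mem_ker, Submodule.mem_toAddSubgroup]
      constructor
      · intro h
        have hd : ∀ i, ∃ d, b.repr x i = (ℓ : ℤ_[ℓ]) * d := fun i => by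
          have h1 : b.repr x i ∈ RingHom.ker (PadicInt.toZMod : ℤ_[ℓ] →+* ZMod ℓ) := congrFun h i
          rw [PadicInt.ker_toZMod, hmax, Ideal.mem_span_singleton] at h1
          exact h1
        choose d hd using hd
        refine ⟨b.equivFun.symm d, b.equivFun.injective (funext fun i => ?_)⟩
        rw [LinearMap.smul_apply, LinearMap.id_apply, map_smul, LinearEquiv.apply_symm_apply,
          Pi.smul_apply, smul_eq_mul, Module.Basis.equivFun_apply, hd i]
      · rintro ⟨y, rfl⟩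
        funext i
        show PadicInt.toZMod (b.repr ((ℓ : ℤ_[ℓ]) • y) i) = 0
        rw [map_smul, Finsupp.smul_apply, smul_eq_mul, map_mul, map_natCast, ZMod.natCast_self, zero_mul]
    show Nat.card (N ⧸ L.toAddSubgroup) = ℓ ^ c
    rw [← hπk, Nat.card_congr (QuotientAddGroup.quotientKerEquivOfSurjective π hπs).toEquiv, Nat.card_fun,
      Nat.card_zmod, Nat.card_eq_fintype_card, Fintype.card_fin]
  haveI hfinL : Finite (N ⧸ L) := Nat.finite_of_card_ne_zero (by rw [hcardL]; exact pow_ne_zero _ hℓ.ne_zero)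
  rcases hℓcases with h2 | h3
  · subst h2
    refine ⟨c, by simp, ?_⟩
    rw [hcardT, ← hcardL, show L = F by rw [hL]; simp [F]]
  · subst h3
    -- `N/3N` is filtered by two copies of `N/fN`
    have hsub : L = LinearMap.range (fN * fN) := by rw [hL, show (3 : ℕ) - 1 = 2 from rfl, pow_two]
    let χ : N ⧸ F →ₗ[ℤ_[3]] N ⧸ L := Submodule.mapQ F L fN (by
      rintro _ ⟨y, rfl⟩; rw [Submodule.mem_comap, hsub]; exact ⟨y, rfl⟩)
    have hχ : Function.Injective χ := by
      rw [injective_iff_map_eq_zero]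
      intro q hq
      obtain ⟨x, rfl⟩ := Submodule.mkQ_surjective _ q
      have hq' : fN x ∈ L := (Submodule.Quotient.mk_eq_zero L).1 hq
      rw [hsub] at hq'
      obtain ⟨y, hy⟩ := hq'
      exact (Submodule.Quotient.mk_eq_zero F).2 ⟨y, hfNinj hy⟩
    have hχr : LinearMap.range χ = F.map L.mkQ := by
      ext q
      constructor
      · rintro ⟨p, rfl⟩
        obtain ⟨x, rfl⟩ := Submodule.mkQ_surjective _ p
        exact ⟨fN x, ⟨x, rfl⟩, rfl⟩
      · rintro ⟨_, ⟨x, rfl⟩, rfl⟩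
        exact ⟨F.mkQ x, rfl⟩
    have hprod : Nat.card (N ⧸ L) = Nat.card (N ⧸ F) * Nat.card (N ⧸ F) := by
      rw [Submodule.card_eq_card_quotient_mul_card (LinearMap.range χ),
        ← Nat.card_congr (LinearEquiv.ofInjective χ hχ).toEquiv]
      congr 1
      exact Nat.card_congr ((Submodule.quotEquivOfEq _ _ hχr).trans
        (Submodule.quotientQuotientEquivQuotient L F hLF)).toEquiv
    rw [hcardL] at hprod
    obtain ⟨r, hr, hcard⟩ := (Nat.dvd_prime_pow hℓ).1 (Dvd.intro _ hprod.symm)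
    refine ⟨r, ?_, by rw [hcardT, hcard]⟩
    rw [hcard, ← pow_add] at hprod
    have := Nat.pow_right_injective hℓ.two_le hprod
    omega

end Groth.Agent.S18599
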