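import Groth.Statements.S1860
import Groth.Agent.CycDim.DegZero

set_option autoImplicit false
universe u
open CategoryTheory AlgebraicGeometry
open Cyc

namespace Groth.Agent.S1860


theorem pdim_generic {X : Scheme.{u}} [IsIntegral X] (hdim : topologicalKrullDim X = 1) :
    WeilCoh.pdim X (genericPoint X) = 1 := by
  have h : topologicalKrullDim ↥(closure ({genericPoint X} : Set X)) = topologicalKrullDim X :=
    IsHomeomorph.topologicalKrullDim_eq _
      ((Homeomorph.setCongr (genericPoint_closure (α := ↥X))).trans (Homeomorph.Set.univ ↥X)).isHomeomorph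
  show ((topologicalKrullDim ↥(closure ({genericPoint X} : Set X))).unbotD 0).toNat = 1
  rw [h, hdim]
  rfl

theorem ordAt_generic {X : Scheme.{u}} [IsIntegral X] (f : X.functionField) (x : X) :
    Cyc.ordAt x (genericPoint X) (genericPoint_specializes x) ((X.residue (genericPoint X)).hom f) =
      CycAlg.ordFrac (X.presheaf.stalk x) X.functionField f := by
  have hinj : Function.Injective (Cyc.specMap x (genericPoint X) (genericPoint_specializes x)) :=
    (X.residue (genericPoint X)).hom.injective.comp (Groth.Agent.RefStalk.stalkSpecializes_injective x)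
  let e : X.presheaf.stalk x ≃+* Cyc.LocQuot x (genericPoint X) (genericPoint_specializes x) :=
    RingEquiv.ofBijective (Ideal.Quotient.mk _)
      ⟨(RingHom.injective_iff_ker_eq_bot _).2
        (by rw [Ideal.mk_ker, (RingHom.injective_iff_ker_eq_bot _).1 hinj]), Ideal.Quotient.mk_surjective⟩
  exact Groth.Agent.CycDiv.ordFrac_congr e
    (RingEquiv.ofBijective (X.residue (genericPoint X)).hom
      ⟨(X.residue (genericPoint X)).hom.injective, Ideal.Quotient.mk_surjective⟩) (fun _ => rfl) f

/-- Let X be an integral scheme of dimension 1 with a proper morphism c to Spec K, K a field, and f a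
nonzero rational function on X. Then Σ_x [κ(x) : K] · ord_{O_{X,x}}(f) = 0, the sum over the closed
points x of X (a finite sum). -/
theorem result (K : Type u) [Field K] (X : Scheme.{u}) [IsIntegral X] (c : X ⟶ Spec (CommRingCat.of K)) [IsProper c] (hdim : topologicalKrullDim X = 1) (f : X.functionField) (hf : f ≠ 0) : ∑ᶠ (x : X) (_ : IsClosed ({x} : Set X)), (c.residueDegree x : ℤ) * CycAlg.ordFrac (X.presheaf.stalk x) X.functionField f = 0 := by

  classical
  let η := genericPoint X
  have hη := pdim_generic hdim
  have hne : (X.residue η).hom f ≠ 0 := (map_ne_zero _).2 hf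
  refine Eq.trans (finsum_congr fun x => ?_)
    (Groth.Agent.CycDeg.degree_zero c η hη ((X.residue η).hom f) hne)
  have hiff : (η ⤳ x ∧ Groth.Agent.CycDeg.dl X x + 1 = Groth.Agent.CycDeg.dl X η) ↔ IsClosed ({x} : Set X) := by
    rw [← Groth.Agent.WeilLib.pdim_eq_zero_iff c x]
    refine ⟨fun h => ?_, fun h => ⟨genericPoint_specializes x, ?_⟩⟩
    · have h2 := h.2
      simp only [Groth.Agent.CycDeg.dl, show WeilCoh.pdim X η = 1 from hη] at h2
      omega
    · simp only [Groth.Agent.CycDeg.dl, show WeilCoh.pdim X η = 1 from hη, h]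
      rfl
  rw [finsum_eq_if]
  unfold Cyc.divFun
  by_cases hx : IsClosed ({x} : Set X)
  · rw [if_pos hx, dif_pos (hiff.2 hx), ordAt_generic, mul_comm]
  · rw [if_neg hx, dif_neg (fun h => hx (hiff.1 h)), zero_mul]

end Groth.Agent.S1860
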