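import Groth.Statements.S18609
import Groth.Agent.AutFinOrd.Split

set_option autoImplicit false
universe u
open CategoryTheory CategoryTheory.Limits MonoidalCategory CartesianMonoidalCategory AlgebraicGeometry MonObj
open SGA7

set_option backward.isDefEq.respectTransparency false

set_option synthInstance.maxHeartbeats 400000
set_option maxHeartbeats 1000000

namespace Groth.Agent.S18609

/-- Let k be a field, G a smooth connected commutative k-group scheme whose geometric fibre contains no
copy of the additive group (an extension of an abelian variety by a torus), and α an automorphism of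
the group scheme G. For a point x of G with values in a k-scheme write (α − 1)x = α(x)·x⁻¹. Assume
(a) α² = 1 and (α − 1)x = 1 whenever x² = 1, or (b) α² = 1 and (α − 1)((α − 1)x) = 1 whenever x⁴ =
1, or (c) α³ = 1 and (α − 1)((α − 1)x) = 1 whenever x³ = 1. Then there is an idempotent endomorphism
p of G with p + p = 1 + α in cases (a) and (b) and p + p + p = 1 + α + α² in case (c) (sums taken
pointwise), the kernels G₁ of 1 − p and G₂ of p are closed connected subgroup schemes, and
multiplication G₁ × G₂ → G is an isomorphism. (The published statement further identifies G₁ with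
the identity component of ker(1 − α) and G₂ with that of ker(1 + α), resp. ker(1 + α + α²); over a
field of characteristic 2, resp. 3, this fails scheme-theoretically — for α = −1 on an ordinary
elliptic curve in characteristic 2 one gets G₁ trivial while ker(1 − α) = ker 2 has a non-trivial
connected part — so it is not restated.) -/
theorem result (k : Type u) [Field k]
    (G : Over (Spec (CommRingCat.of k))) [GrpObj G] [IsCommMonObj G] [Smooth G.hom] [ConnectedSpace ↥G.left]
    (hG : SGA7.FibresUnipotentRankZero G) (u : Aut G) [IsMonHom u.hom]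
    (h : (u * u = 1 ∧ ∀ (T : Over (Spec (CommRingCat.of k))) (x : T ⟶ G), x ^ 2 = 1 → x ≫ u.hom = x) ∨
      (u * u = 1 ∧ ∀ (T : Over (Spec (CommRingCat.of k))) (x : T ⟶ G), x ^ 4 = 1 →
        (((x ≫ u.hom) * x⁻¹) ≫ u.hom) * ((x ≫ u.hom) * x⁻¹)⁻¹ = 1) ∨
      (u * u * u = 1 ∧ ∀ (T : Over (Spec (CommRingCat.of k))) (x : T ⟶ G), x ^ 3 = 1 →
        (((x ≫ u.hom) * x⁻¹) ≫ u.hom) * ((x ≫ u.hom) * x⁻¹)⁻¹ = 1)) :
    ∃ (p : G ⟶ G) (G₁ G₂ : Over (Spec (CommRingCat.of k))) (_ : GrpObj G₁) (_ : GrpObj G₂)
      (i₁ : G₁ ⟶ G) (i₂ : G₂ ⟶ G),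
      IsMonHom p ∧ p ≫ p = p ∧
      (u * u = 1 → p * p = 𝟙 G * u.hom) ∧ (u * u * u = 1 → p * p * p = 𝟙 G * u.hom * (u * u).hom) ∧
      IsMonHom i₁ ∧ IsMonHom i₂ ∧ IsClosedImmersion i₁.left ∧ IsClosedImmersion i₂.left ∧
      AlgGrp.IsKernel i₁ (𝟙 G * p⁻¹) ∧ AlgGrp.IsKernel i₂ p ∧
      ConnectedSpace ↥G₁.left ∧ ConnectedSpace ↥G₂.left ∧
      IsIso ((i₁ ⊗ₘ i₂) ≫ μ[G]) := by
  let e : EndAV.End G := Groth.Agent.AutFinOrd.endOf u
  have hT := fun m x => Groth.Agent.AutFinOrd.noTor hG (G := G) m x
  have he2 : ∀ (T : Over (Spec (CommRingCat.of k))) (x : T ⟶ G),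
      x ≫ EndAV.End.toHom ((e - 1) * (e - 1)) = (((x ≫ u.hom) * x⁻¹) ≫ u.hom) * ((x ≫ u.hom) * x⁻¹)⁻¹ :=
    fun T x => by
      rw [EndAV.End.toHom_mul, ← Category.assoc, Groth.Agent.AutFinOrd.comp_sub_one,
        Groth.Agent.AutFinOrd.comp_sub_one]
  have hsq : u * u = 1 → e * e = 1 := fun h => by
    rw [← pow_two]; exact Groth.Agent.AutFinOrd.endOf_pow_eq_one u (by rw [pow_two, h])
  have hcu : u * u * u = 1 → e * e * e = 1 := fun h => by
    rw [← pow_three']; exact Groth.Agent.AutFinOrd.endOf_pow_eq_one u (by rw [pow_three', h])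
  obtain ⟨p, hp, hp2, hp3⟩ : ∃ p : EndAV.End G, p * p = p ∧ (u * u = 1 → p + p = 1 + e) ∧
      (u * u * u = 1 → p + p + p = 1 + e + e * e) := by
    have both : u * u = 1 → u * u * u = 1 → e = 1 := fun h2 h3 => by
      have := hcu h3
      rwa [hsq h2, _root_.one_mul] at this
    have ofTwo : ∀ p : EndAV.End G, u * u = 1 → p + p = 1 + e →
        ∃ p : EndAV.End G, p * p = p ∧ (u * u = 1 → p + p = 1 + e) ∧ (u * u * u = 1 → p + p + p = 1 + e + e * e) := by
      intro p h2 hp
      have hee := hsq h2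
      refine ⟨p, sub_eq_zero.1 (hT 4 _ (by norm_num) ?_), fun _ => hp, fun h3 => ?_⟩
      · calc ((4 : ℕ) : EndAV.End G) * (p * p - p) = (p + p) * (p + p) - (p + p) - (p + p) := by push_cast; noncomm_ring
          _ = 0 := by rw [hp, add_mul, mul_add, mul_add, hee, _root_.one_mul, _root_.one_mul, _root_.mul_one]; abel
      · have h1 := both h2 h3
        rw [h1] at hp ⊢
        have : p = 1 := sub_eq_zero.1 (hT 2 _ (by norm_num) (by
          calc ((2 : ℕ) : EndAV.End G) * (p - 1) = (p + p) - (1 + 1) := by push_cast; noncomm_ring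
            _ = 0 := by rw [hp, sub_self]))
        rw [this, _root_.one_mul]
    rcases h with ⟨h2, hx⟩ | ⟨h2, hx⟩ | ⟨h3, hx⟩
    · obtain ⟨g, hg⟩ := Groth.Agent.AutFinOrd.exists_div hG (n := 2) two_pos (e - 1) fun T x h => by
        rw [Groth.Agent.AutFinOrd.comp_sub_one, hx T x h, mul_inv_cancel]
      refine ofTwo (1 + g) h2 ?_
      rw [sub_eq_iff_eq_add.1 hg]
      push_cast
      noncomm_ring
    · obtain ⟨g, hg⟩ := Groth.Agent.AutFinOrd.exists_div hG (n := 4) (by norm_num) ((e - 1) * (e - 1))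
        fun T x h => by rw [he2, hx T x h]
      have hee := hsq h2
      refine ofTwo (1 - g) h2 (sub_eq_zero.1 (hT 2 _ (by norm_num) ?_))
      calc ((2 : ℕ) : EndAV.End G) * (1 - g + (1 - g) - (1 + e)) = ((1 + 1) - (e + e)) - ((4 : ℕ) : EndAV.End G) * g := by
            push_cast; noncomm_ring
        _ = 0 := by
          rw [← hg, show (e - 1) * (e - 1) = e * e - (e + e) + 1 by (simp only [sub_mul, mul_sub, add_mul, mul_add, _root_.one_mul, _root_.mul_one, _root_.mul_assoc]; abel), hee]
          noncomm_ring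
    · obtain ⟨g, hg⟩ := Groth.Agent.AutFinOrd.exists_div hG (n := 3) (by norm_num) ((e - 1) * (e - 1))
        fun T x h => by rw [he2, hx T x h]
      have he3 := hcu h3
      have hp : g + e + (g + e) + (g + e) = 1 + e + e * e := by
        calc g + e + (g + e) + (g + e) = ((3 : ℕ) : EndAV.End G) * g + (e + e + e) := by push_cast; noncomm_ring
          _ = 1 + e + e * e := by rw [← hg]; (simp only [sub_mul, mul_sub, add_mul, mul_add, _root_.one_mul, _root_.mul_one, _root_.mul_assoc]; abel)
      refine ⟨g + e, sub_eq_zero.1 (hT 9 _ (by norm_num) ?_), fun h2 => ?_, fun _ => hp⟩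
      · calc ((9 : ℕ) : EndAV.End G) * ((g + e) * (g + e) - (g + e)) =
              (g + e + (g + e) + (g + e)) * (g + e + (g + e) + (g + e)) -
                ((g + e + (g + e) + (g + e)) + (g + e + (g + e) + (g + e)) + (g + e + (g + e) + (g + e))) := by
              push_cast; noncomm_ring
          _ = 0 := by
            rw [hp, show (1 + e + e * e) * (1 + e + e * e) = 1 + (e + e) + (e * e + e * e + e * e) + (e * e * e + e * e * e) + e * e * e * e by
              (simp only [sub_mul, mul_sub, add_mul, mul_add, _root_.one_mul, _root_.mul_one, _root_.mul_assoc]; abel), he3, _root_.one_mul]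
            noncomm_ring
      · have h1 := both h2 h3
        rw [h1] at hp ⊢
        have : g + 1 = 1 := sub_eq_zero.1 (hT 3 _ (by norm_num) (by
          calc ((3 : ℕ) : EndAV.End G) * (g + 1 - 1) = (g + 1 + (g + 1) + (g + 1)) - (1 + 1 + 1) := by
                push_cast; noncomm_ring
            _ = 0 := by rw [hp, _root_.one_mul, sub_self]))
        rw [this]
  obtain ⟨G₁, G₂, hG₁, hG₂, i₁, i₂, hall⟩ := Groth.Agent.AutFinOrd.exists_split p hp
  refine ⟨p.toHom, G₁, G₂, hG₁, hG₂, i₁, i₂, inferInstance, ?_, fun h2 => ?_, fun h3 => ?_, hall⟩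
  · rw [← EndAV.End.toHom_mul, hp]
  · rw [← EndAV.End.toHom_add, hp2 h2]; rfl
  · rw [← EndAV.End.toHom_add, ← EndAV.End.toHom_add, hp3 h3]; rfl

end Groth.Agent.S18609
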