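import Groth.Statements.S18614
import Mathlib
-- import your own Groth.Agent.* helpers here

set_option autoImplicit false
universe u v
open LinTop

namespace Groth.Agent.S18614

/-- Let k be a field carrying the discrete topology and M a separated topological k-module with a
k-linear topology (the open k-submodules form a basis of neighbourhoods of zero and M is a
topological additive group). For a closed submodule M₁, the perpendicular of the perpendicular of
M₁, both taken with respect to the pairing of M with its continuous dual (the continuous k-linear
maps M → k), is M₁ itself: an element killed by every continuous functional vanishing on M₁ belongs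
to M₁. -/
theorem result (k : Type u) (M : Type v) [Field k]
    [TopologicalSpace k] [DiscreteTopology k] [AddCommGroup M] [Module k M] [TopologicalSpace M]
    [IsTopologicalAddGroup M] [IsLinearTopology k M] [T2Space M]
    (M₁ : Submodule k M) (hM₁ : IsClosed (M₁ : Set M)) (x : M)
    (hx : ∀ φ : M →L[k] k, (∀ m ∈ M₁, φ m = 0) → φ x = 0) : x ∈ M₁ := by
  by_contra hxM
  obtain ⟨U, hU, hUsub⟩ := (IsLinearTopology.hasBasis_open_submodule k).mem_iff.1
    ((continuous_const_add x).continuousAt
      (show (M₁ : Set M)ᶜ ∈ nhds (x + 0) by simpa using hM₁.isOpen_compl.mem_nhds hxM))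
  have hx' : x ∉ M₁ ⊔ U := fun h => by
    obtain ⟨m, hm, u, hu, hmu⟩ := Submodule.mem_sup.1 h
    exact hUsub (U.neg_mem hu) (show x + -u ∈ M₁ by rw [← hmu, add_neg_cancel_right]; exact hm)
  obtain ⟨φ, hφx, hφ⟩ := Submodule.exists_dual_map_eq_bot_of_notMem hx' inferInstance
  have hker : ∀ m ∈ M₁ ⊔ U, φ m = 0 := fun m hm => by
    have := Submodule.mem_map_of_mem (f := φ) hm
    rwa [hφ, Submodule.mem_bot] at this
  have hcont : Continuous φ := continuous_of_continuousAt_zero φ <| by
    rw [ContinuousAt, map_zero]
    exact tendsto_const_nhds.congr' (Filter.eventually_of_mem (hU.mem_nhds U.zero_mem)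
      fun u hu => (hker u (Submodule.mem_sup_right hu)).symm)
  exact hφx (hx ⟨φ, hcont⟩ fun m hm => hker m (Submodule.mem_sup_left hm))

end Groth.Agent.S18614
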