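import Groth.Statements.S18615
import Mathlib
-- import your own Groth.Agent.* helpers here

set_option autoImplicit false
universe u v
open LinTop

namespace Groth.Agent.S18615

/-- Let k be a field carrying the discrete topology and M a separated topological k-module with a
k-linear topology (open k-submodules form a basis of neighbourhoods of zero, M a topological
additive group). For closed submodules M₁ ⊆ M₂ there is a short exact sequence 0 → M₂^⊥ → M₁^⊥ →
(M₂/M₁)^* → 0 of plain k-modules, where ⊥ denotes the annihilator in the continuous dual of M and *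
the continuous dual. Stated here as its one non-formal part, surjectivity on the right: every
continuous functional on M₂ (subspace topology) that vanishes on M₁ is the restriction of a
continuous functional on M vanishing on M₁ (continuous functionals on M₂/M₁ being the continuous
functionals on M₂ that kill M₁). -/
theorem result (k : Type u) (M : Type v) [Field k]
    [TopologicalSpace k] [DiscreteTopology k] [AddCommGroup M] [Module k M] [TopologicalSpace M]
    [IsTopologicalAddGroup M] [IsLinearTopology k M] [T2Space M]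
    (M₁ M₂ : Submodule k M) (h₁₂ : M₁ ≤ M₂) (hM₁ : IsClosed (M₁ : Set M))
    (hM₂ : IsClosed (M₂ : Set M)) (ψ : M₂ →L[k] k)
    (hψ : ∀ m : M₂, (m : M) ∈ M₁ → ψ m = 0) :
    ∃ φ : M →L[k] k, (∀ m ∈ M₁, φ m = 0) ∧ ∀ m : M₂, φ (m : M) = ψ m := by
  have hopen : IsOpen (ψ ⁻¹' {(0 : k)}) := (isOpen_discrete _).preimage ψ.continuous
  obtain ⟨V, hV, hVeq⟩ := isOpen_induced_iff.1 hopen
  have h0 : (0 : M) ∈ V := by
    have : (0 : M₂) ∈ Subtype.val ⁻¹' V := by rw [hVeq]; simp
    simpa using this
  obtain ⟨U, hU, hUV⟩ := (IsLinearTopology.hasBasis_open_submodule k).mem_iff.1 (hV.mem_nhds h0)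
  have hψU : ∀ m : M₂, (m : M) ∈ U → ψ m = 0 := fun m hm => by
    have : m ∈ Subtype.val ⁻¹' V := hUV hm
    rw [hVeq] at this
    exact this
  let f : M₂ →ₗ[k] M ⧸ U := U.mkQ.comp M₂.subtype
  have hf : LinearMap.ker f ≤ LinearMap.ker ψ.toLinearMap := fun m hm => by
    rw [LinearMap.mem_ker, LinearMap.comp_apply, Submodule.mkQ_apply, Submodule.Quotient.mk_eq_zero] at hm
    exact hψU m hm
  obtain ⟨g, hg⟩ := LinearMap.exists_extend
    (((LinearMap.ker f).liftQ ψ.toLinearMap hf).comp f.quotKerEquivRange.symm.toLinearMap)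
  have hval : ∀ m : M₂, g (f m) = ψ m := fun m => by
    have h1 := LinearMap.congr_fun hg ⟨f m, LinearMap.mem_range_self f m⟩
    have h2 : f.quotKerEquivRange.symm ⟨f m, LinearMap.mem_range_self f m⟩ =
        Submodule.Quotient.mk m := f.quotKerEquivRange_symm_apply_image m _
    simpa [h2] using h1
  have hcont : Continuous (g.comp U.mkQ) := continuous_of_continuousAt_zero (g.comp U.mkQ) <| by
    rw [ContinuousAt, map_zero]
    exact tendsto_const_nhds.congr' (Filter.eventually_of_mem (hU.mem_nhds U.zero_mem)
      fun u hu => by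
        rw [LinearMap.comp_apply, Submodule.mkQ_apply, (Submodule.Quotient.mk_eq_zero U).2 hu, map_zero])
  refine ⟨⟨g.comp U.mkQ, hcont⟩, fun m hm => ?_, fun m => hval m⟩
  exact (hval ⟨m, h₁₂ hm⟩).trans (hψ _ hm)

end Groth.Agent.S18615
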