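import Groth.Statements.S18616
import Mathlib
import Groth.Agent.DRPoincare.Basic


set_option linter.style.haveILetI false
open MvPowerSeries in
lemma pderiv_X.{v} (k : Type v) [Field k] {σ : Type v} (i j : σ) [DecidableEq σ] :
    MvPowerSeries.pderiv k i (MvPowerSeries.X j) = if i = j then 1 else 0 := by
  ext m
  rw [coeff_pderiv, coeff_X]
  split_ifs with h1 h2 h2
  · subst h2
    have hm : m = 0 := by simpa using h1
    simp [hm]
  · exfalso
    have := congrArg (fun f : σ →₀ ℕ => f i) h1
    simp [Finsupp.single_apply, Ne.symm h2] at this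
  · subst h2
    have hm : m ≠ 0 := fun h => h1 (by simp [h])
    simp [coeff_one, hm]
  · simp

open MvPowerSeries in
lemma coeff_X_mul_pderiv.{v} (k : Type v) [Field k] {σ : Type v} (i : σ) (f : MvPowerSeries σ k)
    (m : σ →₀ ℕ) :
    coeff m (X i * MvPowerSeries.pderiv k i f) = (m i : k) * coeff m f := by
  classical
  rw [X, coeff_monomial_mul]
  split_ifs with h
  · have hi : 1 ≤ m i := by simpa using h i
    rw [one_mul, coeff_pderiv, tsub_add_cancel_of_le h, mul_comm]
    congr 1
    rw [Finsupp.tsub_apply, Finsupp.single_eq_same, ← Nat.cast_succ, Nat.succ_eq_add_one,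
      Nat.sub_add_cancel hi]
  · have : m i = 0 := by
      by_contra hne
      exact h (Finsupp.single_le_iff.2 (Nat.one_le_iff_ne_zero.2 hne))
    simp [this]

lemma bijective_of_coeff.{v} {k σ : Type v} [Field k]
    (F : MvPowerSeries σ k → MvPowerSeries σ k) (c : (σ →₀ ℕ) → k) (hc : ∀ m, c m ≠ 0)
    (h : ∀ f m, MvPowerSeries.coeff m (F f) = c m * MvPowerSeries.coeff m f) :
    Function.Bijective F := by
  constructor
  · intro f g hfg
    ext m
    exact mul_left_cancel₀ (hc m) (by rw [← h, ← h, hfg])
  · intro g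
    let f : MvPowerSeries σ k := fun m => (c m)⁻¹ * MvPowerSeries.coeff m g
    refine ⟨f, MvPowerSeries.ext fun m => ?_⟩
    rw [h]
    exact mul_inv_cancel_left₀ (hc m) _

lemma bijective_of_diagonal.{v} {ι A N : Type v} [Fintype ι] [CommRing A] [AddCommGroup N]
    [Module A N] (B : Module.Basis ι A N) (L : N →+ N) (F : A → A) (hF : Function.Bijective F)
    (h : ∀ s f, L (f • B s) = F f • B s) : Function.Bijective L := by
  have hx : ∀ x, L x = ∑ s, F (B.repr x s) • B s := fun x => by
    exact (congrArg L (B.sum_repr x).symm).trans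
      ((map_sum L _ _).trans (Finset.sum_congr rfl fun s _ => h s _))
  constructor
  · intro x y hxy
    rw [hx, hx] at hxy
    refine B.ext_elem fun s => hF.1 ?_
    have e : ∀ (g : ι → A), B.repr (∑ t, g t • B t) s = g s := fun g => by
      rw [B.repr_sum_self]
    exact (e _).symm.trans ((congrArg (fun z => B.repr z s) hxy).trans (e _))
  · intro z
    choose g hg using fun s => hF.2 (B.repr z s)
    refine ⟨∑ s, g s • B s, ?_⟩
    simp [map_sum, h, hg, B.sum_repr]


set_option autoImplicit false
universe u
open DeRham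

namespace Groth.Agent.S18616

open exteriorPower in
/-- The formal Poincaré lemma. The published statement is that for a complete separated linearly
topologized commutative algebra K over a field k of characteristic zero the inclusion of the
separated de Rham complex of K into that of K[[t_1, ..., t_n]] is a quasi-isomorphism; this row is
the case K = k in positive degrees. Concretely: k is a field of characteristic 0, σ is finite, A =
k[[σ]]; the separated differentials are modelled by the free A-module of functions σ → A (the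
coordinate dt_i being the i-th basis vector) with the derivation δ whose components are the formal
partial derivatives, so that δ(A) generates it; d is any family of k-linear maps between consecutive
exterior powers of this module over A satisfying the de Rham rule with d ∘ d = 0. Then for every p ≥
1 the closed p-forms are exact. (Degree zero, that a power series with all partial derivatives zero
is constant, is omitted.) -/
theorem result (k : Type u) [Field k] [CharZero k]
    (σ : Type u) [Finite σ]
    (δ : Derivation k (MvPowerSeries σ k) (σ → MvPowerSeries σ k))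
    (hδ : ∀ (f : MvPowerSeries σ k) (i : σ), δ f i = MvPowerSeries.pderiv k i f)
    (hgen : Submodule.span (MvPowerSeries σ k) (Set.range δ) = ⊤)
    (d : ∀ p : ℕ, ↥(⋀[MvPowerSeries σ k]^p (σ → MvPowerSeries σ k)) →ₗ[k]
      ↥(⋀[MvPowerSeries σ k]^(p + 1) (σ → MvPowerSeries σ k)))
    (hd : DeRham.IsDiff δ d) (p : ℕ) :
    DeRham.cocycles d (p + 1) ≤ DeRham.coboundaries d (p + 1) := by
  classical
  haveI : Fintype σ := Fintype.ofFinite σ
  letI : LinearOrder σ := linearOrderOfSTO WellOrderingRel
  have hX : ∀ i : σ, δ (MvPowerSeries.X i) = Pi.basisFun (MvPowerSeries σ k) σ i := by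
    intro i
    funext j
    rw [hδ, Pi.basisFun_apply]
    rcases eq_or_ne j i with h | h
    · subst h; simp [pderiv_X k]
    · simp [pderiv_X k, h]
  have hspan : Submodule.span (MvPowerSeries σ k)
      (Set.range fun i => δ (MvPowerSeries.X i)) = ⊤ := by
    simp only [hX]
    exact (Pi.basisFun _ σ).span_eq
  let φ : Module.Dual (MvPowerSeries σ k) (σ → MvPowerSeries σ k) :=
    ∑ i, (MvPowerSeries.X i : MvPowerSeries σ k) • LinearMap.proj i
  have hφ : ∀ i, φ (δ (MvPowerSeries.X i)) = MvPowerSeries.X i := by
    intro i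
    simp [φ, hX, Pi.single_apply, LinearMap.sum_apply]
  have hcoeff : ∀ (c : ℕ) (f : MvPowerSeries σ k) (m : σ →₀ ℕ),
      MvPowerSeries.coeff m (φ (δ f) + (c : MvPowerSeries σ k) * f) =
        ((∑ i, (m i : k)) + c) * MvPowerSeries.coeff m f := by
    intro c f m
    rw [map_add, ← map_natCast (MvPowerSeries.C (σ := σ) (R := k)), MvPowerSeries.coeff_C_mul,
      add_mul]
    congr 1
    simp only [φ, LinearMap.sum_apply, LinearMap.smul_apply, LinearMap.proj_apply, hδ, map_sum,
      smul_eq_mul, Finset.sum_mul]
    exact Finset.sum_congr rfl fun i _ => coeff_X_mul_pderiv k i f m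
  have hbij : Function.Bijective fun f : MvPowerSeries σ k =>
      φ (δ f) + ((p + 1 : ℕ) : MvPowerSeries σ k) * f := by
    refine bijective_of_coeff _ (fun m => (∑ i, (m i : k)) + ((p + 1 : ℕ) : k)) (fun m => ?_)
      (hcoeff (p + 1))
    rw [← Nat.cast_sum, ← Nat.cast_add]
    exact Nat.cast_ne_zero.2 (Nat.succ_ne_zero _)
  have hbij' : Function.Bijective fun f : MvPowerSeries σ k =>
      φ (δ f) + ((p + 1 + 1 : ℕ) : MvPowerSeries σ k) * f := by
    refine bijective_of_coeff _ (fun m => (∑ i, (m i : k)) + ((p + 1 + 1 : ℕ) : k)) (fun m => ?_)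
      (hcoeff (p + 1 + 1))
    rw [← Nat.cast_sum, ← Nat.cast_add]
    exact Nat.cast_ne_zero.2 (Nat.succ_ne_zero _)
  let C := Groth.Agent.DRPoincare.contr φ
  let L : ∀ q : ℕ, ↥(⋀[MvPowerSeries σ k]^(q + 1) (σ → MvPowerSeries σ k)) →+
      ↥(⋀[MvPowerSeries σ k]^(q + 1) (σ → MvPowerSeries σ k)) := fun q =>
    (d q).toAddMonoidHom.comp (C q).toAddMonoidHom +
      (C (q + 1)).toAddMonoidHom.comp (d (q + 1)).toAddMonoidHom
  have hL : ∀ (q : ℕ), (Function.Bijective fun f : MvPowerSeries σ k =>
      φ (δ f) + ((q + 1 : ℕ) : MvPowerSeries σ k) * f) → Function.Bijective (L q) := by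
    intro q hq
    refine bijective_of_diagonal ((Pi.basisFun (MvPowerSeries σ k) σ).exteriorPower (q + 1)) (L q)
      (fun f => φ (δ f) + ((q + 1 : ℕ) : MvPowerSeries σ k) * f) hq fun s f => ?_
    rw [exteriorPower.basis_apply, exteriorPower.ιMulti_family]
    have e : (⇑(Pi.basisFun (MvPowerSeries σ k) σ) ∘ ⇑(Set.powersetCard.ofFinEmbEquiv.symm s)) =
        fun j => δ (MvPowerSeries.X (Set.powersetCard.ofFinEmbEquiv.symm s j)) :=
      funext fun j => (hX _).symm
    rw [e]
    exact Groth.Agent.DRPoincare.lie_smul_mon hspan hd.1 φ hφ q f _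
  intro x hx
  obtain ⟨y, rfl⟩ := (hL p hbij).2 x
  refine ⟨C p y, ?_⟩
  have hdd : ∀ q z, d (q + 1) (d q z) = 0 := fun q z => congr($(hd.2 q) z)
  have hy : L (p + 1) (d (p + 1) y) = 0 := by
    have h1 : d (p + 1) (d p (C p y) + C (p + 1) (d (p + 1) y)) = 0 := hx
    rw [map_add, hdd, zero_add] at h1
    change d (p + 1) (C (p + 1) (d (p + 1) y)) + C (p + 1 + 1) (d (p + 1 + 1) (d (p + 1) y)) = 0
    rw [h1, hdd, map_zero, add_zero]
  have : d (p + 1) y = 0 := (hL (p + 1) hbij').1 (hy.trans (map_zero _).symm)
  change d p (C p y) = d p (C p y) + C (p + 1) (d (p + 1) y)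
  rw [this, map_zero, add_zero]


end Groth.Agent.S18616
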