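import Groth.Statements.S18617
import Mathlib

set_option linter.style.haveILetI false

set_option autoImplicit false
universe u
open LocRes

namespace Groth.Agent.S18617

/-- The published statement is that, for a complete separated linearly topologized commutative algebra K
over a field of characteristic zero, the separated de Rham complex of K tensored with the exterior
algebra on symbols α_1, ..., α_n maps quasi-isomorphically to the separated de Rham complex of the
iterated Laurent series ring K((t_1, ..., t_n)), α_i going to dlog t_i; this row is the case K = k
and n = 1, unpacked: over a field k of characteristic 0, a formal Laurent series f in k((t)) has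
term-by-term derivative zero if and only if it is the constant series on its coefficient of degree
0, and a Laurent series g is the derivative of some Laurent series if and only if its residue (the
coefficient of t⁻¹) vanishes; so H⁰ of the complex k((t)) → k((t)) dt is k and H¹ is the line
spanned by the class of dt/t, on which the residue is 1. -/
theorem result (k : Type u) [Field k] [CharZero k] :
    (∀ f : LaurentSeries k, LocRes.D k f = 0 ↔ f = HahnSeries.C (f.coeff 0)) ∧
      ∀ g : LaurentSeries k, (∃ f : LaurentSeries k, LocRes.D k f = g) ↔ LocRes.res k g = 0 := by
  constructor
  · intro f
    constructor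
    · intro h
      ext n
      by_cases hn : n = 0
      · subst hn; simp
      · have := congrArg (fun x => HahnSeries.coeff x (n - 1)) h
        rw [LocRes.D_coeff] at this
        simp only [sub_add_cancel, HahnSeries.coeff_zero, zsmul_eq_mul] at this
        rw [(mul_eq_zero.mp this).resolve_left (Int.cast_ne_zero.mpr hn)]
        simp [HahnSeries.coeff_single_of_ne hn]
    · intro h
      rw [h, LocRes.D_apply, LocRes.derivative_C]
  · intro g
    constructor
    · rintro ⟨f, rfl⟩
      rw [LocRes.res_apply, LocRes.D_coeff]
      simp
    · intro h
      rw [LocRes.res_apply] at h
      let c : ℤ → k := fun n => (n : k)⁻¹ * g.coeff (n - 1)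
      refine ⟨HahnSeries.ofSuppBddBelow c ?_, ?_⟩
      · refine ⟨g.order, fun n hn => ?_⟩
        have h1 : g.coeff (n - 1) ≠ 0 := fun h0 => hn (by simp [c, h0])
        have := HahnSeries.order_le_of_coeff_ne_zero h1
        omega
      · ext n
        rw [LocRes.D_coeff]
        simp only [HahnSeries.ofSuppBddBelow_coeff, c, add_sub_cancel_right, zsmul_eq_mul]
        by_cases hn : n = -1
        · subst hn; simp [h]
        · rw [← mul_assoc, mul_inv_cancel₀ (Int.cast_ne_zero.mpr (by omega)), one_mul]

end Groth.Agent.S18617
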