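import Groth.Statements.S1862
import Groth.Agent.CMFlat.BaseChange

set_option autoImplicit false
universe u
open CategoryTheory AlgebraicGeometry
open Cyc

namespace Groth.Agent.S1862

/-- Let f : X → Y be a morphism locally of finite type of integral schemes with δX(η_X) = δY(η_Y). Then
either the image of f is not dense, or f maps the generic point to the generic point and the induced
extension of residue fields there (the function fields) is finite. Here a pair (X, δ) with
Cyc.IsSetup plays the role of a scheme locally of finite type over a fixed base with a dimension
function (X locally Noetherian with universally catenary local rings, δ a dimension function), and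
Cyc.DeltaCompat records that the dimension function upstairs is the induced one. -/
theorem result (X Y : Scheme.{u}) [IsIntegral X] [IsIntegral Y] (δX : X → ℤ) (δY : Y → ℤ) (hX : Cyc.IsSetup X δX) (hY : Cyc.IsSetup Y δY) (f : X ⟶ Y) [LocallyOfFiniteType f] (hδ : Cyc.DeltaCompat f δX δY) (heq : δX (genericPoint X) = δY (genericPoint Y)) : ¬ Dense (Set.range f) ∨ (f (genericPoint X) = genericPoint Y ∧ (f.residueFieldMap (genericPoint X)).hom.Finite) := by

  by_cases hd : Dense (Set.range f)
  swap
  · exact Or.inl hd
  refine Or.inr ?_
  have hsub : Set.range f ⊆ closure {f (genericPoint X)} := by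
    rintro _ ⟨z, rfl⟩
    exact specializes_iff_mem_closure.1 ((genericPoint_specializes z).map f.continuous)
  have hη : f (genericPoint X) = genericPoint Y := by
    have h1 : genericPoint Y ∈ closure {f (genericPoint X)} :=
      closure_minimal hsub isClosed_closure (hd (genericPoint Y))
    exact ((specializes_iff_mem_closure.2 h1).antisymm (genericPoint_specializes _)).eq
  refine ⟨hη, ?_⟩
  obtain ⟨n, hn, hn'⟩ := hδ (genericPoint X)
  rw [hη] at hn'
  have hn0 : n = 0 := by omega
  subst hn0
  letI := (f.residueFieldMap (genericPoint X)).hom.toAlgebra
  have h0 : Algebra.trdeg (Y.residueField (f (genericPoint X))) (X.residueField (genericPoint X)) = 0 := by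
    rw [Nat.cast_zero] at hn
    exact hn
  haveI : Algebra.EssFiniteType (Y.residueField (f (genericPoint X))) (X.residueField (genericPoint X)) :=
    Groth.Agent.CMFlat.essFiniteType_residueFieldMap f (genericPoint X)
  haveI := trdeg_eq_zero_iff.1 h0
  exact Algebra.finite_of_essFiniteType_of_isAlgebraic (F := Y.residueField (f (genericPoint X))) (E := X.residueField (genericPoint X))

end Groth.Agent.S1862
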