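import Groth.Statements.S18624
import Groth.Agent.BlowPn.Acm
-- import your own Groth.Agent.* helpers here

set_option autoImplicit false
universe u
open VBPn

namespace Groth.Agent.S18624

open CategoryTheory CategoryTheory.Limits AlgebraicGeometry TopologicalSpace in
/-- The bundles are arithmetically Cohen–Macaulay: let k be an algebraically closed field of
characteristic zero, n ≥ 3, Z a set of s ≤ 1 closed points of P^n_k and π : X → P^n_k a blow-up of
P^n_k in the ideal of the reduced set Z (universal property; for s = 0 this is P^n_k itself). Write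
O_X(e₀) = π^*O(1), let I_E be the exceptional ideal (inverse image ideal of Z), and let H be the
anticanonical module, H ≅ π^*O(n+1) ⊗ I_E^{⊗(n−1)}, with a tensor inverse H′. Let g : Q → P be an
epimorphism of O_X-modules with Q ≅ O_X(e₀)^b and P ≅ O_X(2e₀)^a (a matrix of linear forms) whose
induced map on global sections H^0(X, Q) → H^0(X, P) is surjective, and let G = ker g. Then G has no
intermediate cohomology with respect to H: for 1 ≤ i ≤ n − 1 and every t ≥ 0, H^i(X, G ⊗ H^{⊗t}) = 0
and H^i(X, G ⊗ H′^{⊗t}) = 0. (The published statement asserts this for the dual bundle E = G^∨ and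
for a, b of a particular shape; since X is smooth and proper with canonical module H′ and G is
locally free, Serre duality exchanges the two families of vanishings, and the argument uses nothing
about a, b beyond the displayed presentation and the surjectivity on global sections.) -/
theorem result (k : Type u) [Field k] [IsAlgClosed k] [CharZero k]
    (n : ℕ) (hn : 3 ≤ n) (s : ℕ) (P : Fin s → ↥(CohB1.ProjSpace n k)) (hP : Function.Injective P)
    (hPc : ∀ i, IsClosed ({P i} : Set ↥(CohB1.ProjSpace n k))) (hZ : IsClosed (Set.range P))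
    (X : Scheme.{u}) (π : X ⟶ CohB1.ProjSpace n k)
    (hπ : BlowUp.IsBlowUp π (Scheme.IdealSheafData.vanishingIdeal ⟨Set.range P, hZ⟩)) (hs : s ≤ 1)
    (a b : ℕ) (Q₂ P₂ : X.Modules)
    (hQ₂ : Nonempty (Q₂ ≅ ∐ fun _ : Fin b => (Scheme.Modules.pullback π).obj (Twist.twistProjSpace n k 1)))
    (hP₂ : Nonempty (P₂ ≅ ∐ fun _ : Fin a => (Scheme.Modules.pullback π).obj (Twist.twistProjSpace n k 2)))
    (g : Q₂ ⟶ P₂) [Epi g]
    (hg0 : Function.Surjective (Sheaf.H.map ((SheafOfModules.toSheaf X.ringCatSheaf).map g) 0))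
    (Hm Hi : X.Modules)
    (hHm : Nonempty (Hm ≅ CohB1.tensorMod ((Scheme.Modules.pullback π).obj (Twist.twistProjSpace n k ((n : ℤ) + 1)))
      (CohB1.tensorPow (ClSub.idealMod (BlowUp.exceptional π (Scheme.IdealSheafData.vanishingIdeal ⟨Set.range P, hZ⟩))) (n - 1))))
    (hHi : ClSub.IsInverseOf Hi Hm) (i t : ℕ) (hi : 1 ≤ i) (hin : i + 1 ≤ n) :
    Subsingleton (Coh.HH X (CohB1.tensorMod (kernel g) (CohB1.tensorPow Hm t)) i) ∧
      Subsingleton (Coh.HH X (CohB1.tensorMod (kernel g) (CohB1.tensorPow Hi t)) i) := by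
  obtain ⟨e⟩ := hHm
  constructor
  · obtain ⟨e₁⟩ := TMul.nonempty_powCongr e t
    obtain ⟨e₂⟩ := Groth.Agent.BlowPn.nonempty_M_pow π (BlowUp.exceptional π
      (Scheme.IdealSheafData.vanishingIdeal ⟨Set.range P, hZ⟩)) ((n : ℤ) + 1) (n - 1) t
    refine Groth.Agent.BlowPn.subsingleton_ker_pos P hP hPc hZ π hπ hs (by omega) a b Q₂ P₂ hQ₂ hP₂ g hg0
      _ _ (e₁ ≪≫ e₂) (by positivity) ?_ i hi hin
    push_cast [Nat.cast_sub (show 1 ≤ n by omega)]
    nlinarith
  · rcases Nat.eq_zero_or_pos t with rfl | ht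
    · obtain ⟨z⟩ := PnHodge.nonempty_twist_zero_iso (n := n) (A := k)
      exact Groth.Agent.BlowPn.subsingleton_ker_pos P hP hPc hZ π hπ hs (by omega) a b Q₂ P₂ hQ₂ hP₂ g hg0
        0 0 ((PicLoc.pullbackStructureIso π).symm ≪≫ (Scheme.Modules.pullback π).mapIso z.symm ≪≫
          (SecTwist.unitorR _).symm) le_rfl le_rfl i hi hin
    · obtain ⟨L, hLi, ⟨eL⟩⟩ := SymAlg.exists_inverse (Groth.Agent.BlowPn.invertible_exc P hZ π hπ)
      have hL : ClSub.IsInverseOf L (ClSub.idealMod (BlowUp.exceptional π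
          (Scheme.IdealSheafData.vanishingIdeal ⟨Set.range P, hZ⟩))) := ⟨TMul.commIso _ _ ≪≫ eL⟩
      obtain ⟨e₁⟩ := Groth.Agent.BlowPn.nonempty_inv_pow π hπ.1 hL _ _ e hHi t
      have ht' : (1 : ℤ) ≤ t := by exact_mod_cast ht
      refine Groth.Agent.BlowPn.subsingleton_ker_neg P hP hPc hZ π hπ hs (by omega) a b Q₂ P₂ hQ₂ hP₂ g hL hLi
        _ _ e₁ (by nlinarith) ?_ i hi hin
      rcases Nat.lt_or_ge t 2 with h | h
      · obtain rfl : t = 1 := by omega
        exact Or.inl (by omega)
      · refine Or.inr ?_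
        have h' : (2 : ℤ) ≤ t := by exact_mod_cast h
        push_cast [Nat.cast_sub (show 1 ≤ n by omega)]
        nlinarith

end Groth.Agent.S18624
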