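import Groth.Statements.S18625
import Groth.Agent.VBP1P1.CokerEnd
-- import your own Groth.Agent.* helpers here

set_option autoImplicit false
universe u
open VBPn

namespace Groth.Agent.S18625

open CategoryTheory CategoryTheory.Limits AlgebraicGeometry TopologicalSpace in
/-- Let k be an algebraically closed field of characteristic zero and X = P¹_k ×_k P¹_k the smooth
quadric surface, O(a, b) = pr₁^*O(a) ⊗ pr₂^*O(b). Let r ≥ 2 and let f : P → Q₁ ⊞ Q₂ be a
monomorphism of O_X-modules with P ≅ O(−1,−1)^r, Q₁ ≅ O(−1,0)^r and Q₂ ≅ O(0,−1)^r (a 2r × r matrix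
of linear forms, the Q₁-block in the coordinates of one factor and the Q₂-block in those of the
other), whose cokernel E is finite locally free of rank r. Assume that the stabiliser of f in
Aut(Q₁) × Aut(Q₂) × Aut(P) is the scalars: whenever automorphisms β₁ of Q₁, β₂ of Q₂ and γ of P
satisfy γ ≫ f = f ≫ (β₁ ⊕ β₂), there is one c ∈ k with β₁, β₂ and γ all multiplication by c. Then E
is simple: every endomorphism of E is multiplication by a scalar of k. (The published statement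
takes f the transpose of a general matrix and obtains a scalar stabiliser for each of the two r × r
blocks separately from a result it quotes; for r ≥ 2 a square matrix of linear forms in two
variables never has scalar stabiliser, so that block-wise property holds for no f, and the printed
argument needs only the property of f as a whole, which is the hypothesis here.) -/
theorem result (k : Type u) [Field k] [IsAlgClosed k] [CharZero k]
    (r : ℕ) (P₁ Q₁ Q₂ : (pullback (CohB1.ProjSpace.toSpec 1 k) (CohB1.ProjSpace.toSpec 1 k)).Modules)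
    (hP₁ : Nonempty (P₁ ≅ ∐ fun _ : Fin r => CohB1.tensorMod
        ((Scheme.Modules.pullback (pullback.fst (CohB1.ProjSpace.toSpec 1 k) (CohB1.ProjSpace.toSpec 1 k))).obj
          (Twist.twistProjSpace 1 k (-1)))
        ((Scheme.Modules.pullback (pullback.snd (CohB1.ProjSpace.toSpec 1 k) (CohB1.ProjSpace.toSpec 1 k))).obj
          (Twist.twistProjSpace 1 k (-1)))))
    (hQ₁ : Nonempty (Q₁ ≅ ∐ fun _ : Fin r => CohB1.tensorMod
        ((Scheme.Modules.pullback (pullback.fst (CohB1.ProjSpace.toSpec 1 k) (CohB1.ProjSpace.toSpec 1 k))).obj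
          (Twist.twistProjSpace 1 k (-1)))
        ((Scheme.Modules.pullback (pullback.snd (CohB1.ProjSpace.toSpec 1 k) (CohB1.ProjSpace.toSpec 1 k))).obj
          (Twist.twistProjSpace 1 k (0)))))
    (hQ₂ : Nonempty (Q₂ ≅ ∐ fun _ : Fin r => CohB1.tensorMod
        ((Scheme.Modules.pullback (pullback.fst (CohB1.ProjSpace.toSpec 1 k) (CohB1.ProjSpace.toSpec 1 k))).obj
          (Twist.twistProjSpace 1 k (0)))
        ((Scheme.Modules.pullback (pullback.snd (CohB1.ProjSpace.toSpec 1 k) (CohB1.ProjSpace.toSpec 1 k))).obj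
          (Twist.twistProjSpace 1 k (-1)))))
    (f : P₁ ⟶ Q₁ ⊞ Q₂) [Mono f] (hE : FlatMod.IsFinLocFreeOfRank r (cokernel f))
    (hr : 2 ≤ r)
    (hstab : ∀ (β₁ : Q₁ ≅ Q₁) (β₂ : Q₂ ≅ Q₂) (γ : P₁ ≅ P₁), γ.hom ≫ f = f ≫ biprod.map β₁.hom β₂.hom →
      ∃ c : k, (SheafOfModules.toSheaf _).map β₁.hom = Coh.smulAb Q₁ (Coh.toGlobal (pullback.fst (CohB1.ProjSpace.toSpec 1 k) (CohB1.ProjSpace.toSpec 1 k) ≫ CohB1.ProjSpace.toSpec 1 k) c) ∧
        (SheafOfModules.toSheaf _).map β₂.hom = Coh.smulAb Q₂ (Coh.toGlobal (pullback.fst (CohB1.ProjSpace.toSpec 1 k) (CohB1.ProjSpace.toSpec 1 k) ≫ CohB1.ProjSpace.toSpec 1 k) c) ∧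
        (SheafOfModules.toSheaf _).map γ.hom = Coh.smulAb P₁ (Coh.toGlobal (pullback.fst (CohB1.ProjSpace.toSpec 1 k) (CohB1.ProjSpace.toSpec 1 k) ≫ CohB1.ProjSpace.toSpec 1 k) c)) :
    ∀ φ : cokernel f ⟶ cokernel f, ∃ c : k, (SheafOfModules.toSheaf _).map φ =
      Coh.smulAb (cokernel f) (Coh.toGlobal (pullback.fst (CohB1.ProjSpace.toSpec 1 k) (CohB1.ProjSpace.toSpec 1 k) ≫ CohB1.ProjSpace.toSpec 1 k) c) := by
  intro φ
  obtain ⟨eP⟩ := hP₁
  obtain ⟨eQ₁⟩ := hQ₁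
  obtain ⟨eQ₂⟩ := hQ₂
  have hg := VBP1P1.surjective_toGlobal (k := k)
  obtain ⟨η⟩ := VBP1P1.nonempty_eta (k := k) (-1) (-1)
  refine BlowPn.simple_of_stab (Coh.toGlobal (pullback.fst (CohB1.ProjSpace.toSpec 1 k) (CohB1.ProjSpace.toSpec 1 k) ≫
    CohB1.ProjSpace.toSpec 1 k)) (VBP1P1.lift_coker eP eQ₁ eQ₂ f)
    (VBP1P1.exists_finite_shift_biprod eQ₁ eQ₂ _ hg)
    (fun γ => BlowPn.exists_finite_shift _ hg η (VBP1P1.isInvertible_O k _ _) eP γ)
    (fun β γ h => ?_) φ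
  obtain ⟨h₁, h₂⟩ := VBP1P1.hom_cross eQ₁ eQ₂
  have hdiag := VBP1P1.eq_map eQ₁ eQ₂ β.hom
  have hdiag' := VBP1P1.eq_map eQ₁ eQ₂ β.inv
  have hc₁ : (biprod.inl ≫ β.hom ≫ biprod.fst) ≫ (biprod.inl ≫ β.inv ≫ biprod.fst) = 𝟙 Q₁ := by
    have := congrArg (fun χ => biprod.inl ≫ χ ≫ biprod.fst) β.hom_inv_id
    rw [hdiag, hdiag'] at this
    simpa using this
  have hc₁' : (biprod.inl ≫ β.inv ≫ biprod.fst) ≫ (biprod.inl ≫ β.hom ≫ biprod.fst) = 𝟙 Q₁ := by
    have := congrArg (fun χ => biprod.inl ≫ χ ≫ biprod.fst) β.inv_hom_id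
    rw [hdiag, hdiag'] at this
    simpa using this
  have hc₂ : (biprod.inr ≫ β.hom ≫ biprod.snd) ≫ (biprod.inr ≫ β.inv ≫ biprod.snd) = 𝟙 Q₂ := by
    have := congrArg (fun χ => biprod.inr ≫ χ ≫ biprod.snd) β.hom_inv_id
    rw [hdiag, hdiag'] at this
    simpa using this
  have hc₂' : (biprod.inr ≫ β.inv ≫ biprod.snd) ≫ (biprod.inr ≫ β.hom ≫ biprod.snd) = 𝟙 Q₂ := by
    have := congrArg (fun χ => biprod.inr ≫ χ ≫ biprod.snd) β.inv_hom_id
    rw [hdiag, hdiag'] at this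
    simpa using this
  obtain ⟨c, e₁, e₂, -⟩ := hstab ⟨_, _, hc₁, hc₁'⟩ ⟨_, _, hc₂, hc₂'⟩ γ (h.trans (congrArg (f ≫ ·) hdiag))
  refine ⟨c, ?_⟩
  rw [hdiag]
  refine biprod.hom_ext' _ _ ?_ ?_
  · have h1 : biprod.inl ≫ β.hom ≫ biprod.fst = _ := BlowPn.eq_scal e₁
    rw [biprod.inl_map, h1]; exact PicBdd.scal_comp _ _
  · have h2 : biprod.inr ≫ β.hom ≫ biprod.snd = _ := BlowPn.eq_scal e₂
    rw [biprod.inr_map, h2]; exact PicBdd.scal_comp _ _

end Groth.Agent.S18625
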