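import Groth.Statements.S18631
import Groth.Agent.StabK3.RankTwoUlrich

set_option autoImplicit false
universe u
open VBPn

namespace Groth.Agent.S18631

open CategoryTheory CategoryTheory.Limits AlgebraicGeometry TopologicalSpace in
/-- Let k be an algebraically closed field of characteristic zero and X ⊆ P³_k a smooth integral surface
of degree d ≥ 4: ι : X → P³_k a closed immersion over k whose ideal is that of one form F of degree
d, X proper and smooth over k of dimension 2, polarised by the ample L = ι^*O(1); assume Pic X is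
generated by O_X(1), i.e. every invertible O_X-module is isomorphic to ι^*O(n) for some integer n.
Let Z ⊆ X be a closed subscheme with finite support such that H⁰(X, I_Z ⊗ ι^*O(d−2)) = 0, and let 0
→ O_X → E → I_Z ⊗ ι^*O(d−1) → 0 be a short exact sequence of O_X-modules with E finite locally free
of rank 2. Then E is slope-stable (of dimension 2, with respect to L). (The published statement is
for the rank-2 Ulrich bundles on a general degree-d surface, 4 ≤ d ≤ 15, which come with such a
presentation and vanishing; its argument uses about generality only that Pic X is generated by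
O_X(1), and about E only the displayed data; it concludes through the quoted criterion that a rank-2
bundle on such an X is slope-stable once its normalised twist has no sections.) -/
theorem result (k : Type u) [Field k] [IsAlgClosed k] [CharZero k]
    (X : Scheme.{u}) [X.Over (Spec (CommRingCat.of k))] [AlgebraicGeometry.IsIntegral X]
    [IsProper (X ↘ (Spec (CommRingCat.of k)))] [Smooth (X ↘ (Spec (CommRingCat.of k)))]
    (hdim : topologicalKrullDim X = 2)
    (ι : X ⟶ CohB1.ProjSpace 3 k) [IsClosedImmersion ι] (hιk : ι ≫ CohB1.ProjSpace.toSpec 3 k = X ↘ (Spec (CommRingCat.of k)))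
    (hL : CohB1.IsAmple ((Scheme.Modules.pullback ι).obj (Twist.twistProjSpace 3 k (1))))
    (d : ℕ) (hd : 4 ≤ d) (F : LefPen.Form 3 k d) (hF : ι.ker = LefPen.hypIdeal F)
    (hPic : ∀ M : X.Modules, PicF.IsInvertible M → ∃ n : ℤ, Nonempty (M ≅ ((Scheme.Modules.pullback ι).obj (Twist.twistProjSpace 3 k (n)))))
    (Z : X.IdealSheafData) (hZfin : (Z.support : Set X).Finite)
    (hZ : Subsingleton (Coh.HH X (CohB1.tensorMod (ClSub.idealMod Z) ((Scheme.Modules.pullback ι).obj (Twist.twistProjSpace 3 k ((d : ℤ) - 2)))) 0))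
    (S : ShortComplex X.Modules) (hS : S.ShortExact)
    (h₁ : Nonempty (S.X₁ ≅ Coh.structureModule X))
    (h₃ : Nonempty (S.X₃ ≅ CohB1.tensorMod (ClSub.idealMod Z) ((Scheme.Modules.pullback ι).obj (Twist.twistProjSpace 3 k ((d : ℤ) - 1)))))
    (hE : FlatMod.IsFinLocFreeOfRank 2 S.X₂) :
    ShStab.IsMuStable k X ((Scheme.Modules.pullback ι).obj (Twist.twistProjSpace 3 k (1))) S.X₂ 2 := by
  haveI := Groth.Agent.CurveRR.isNoetherian_of_proper k X
  letI := Groth.Agent.W7Cube.law X
  haveI : Smooth (ι ≫ CohB1.ProjSpace.toSpec 3 k) := by rw [hιk]; infer_instance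
  let L := (Scheme.Modules.pullback ι).obj (Twist.twistProjSpace 3 k 1)
  have hinv : ∀ e : ℤ, PicF.IsInvertible ((Scheme.Modules.pullback ι).obj (Twist.twistProjSpace 3 k e)) := fun e =>
    PicLoc.isInvertible_pullback ι (Groth.Agent.CohFinite.isInvertible_twist 3 k e)
  have hgen : ∀ c : PicLoc.PicSet X, ∃ m : ℤ, c = PicGrp.cls L hL.1 ^ m := fun c => by
    obtain ⟨M, hM, rfl⟩ := PicGrp.exists_eq_cls c
    obtain ⟨m, ⟨e⟩⟩ := hPic M hM
    exact ⟨m, ((PicGrp.cls_eq_cls_iff hM (hinv m)).2 ⟨e⟩).trans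
      (Groth.Agent.StabK3.cls_pull_twist k ι hL.1 m (hinv m))⟩
  obtain ⟨t, ht⟩ := Groth.Agent.StabK3.exists_section_pull_twist k ι
  obtain ⟨e₁⟩ := h₁
  obtain ⟨e₃⟩ := h₃
  let Lc := (Scheme.Modules.pullback ι).obj (Twist.twistProjSpace 3 k ((d : ℤ) - 1))
  haveI : Mono (Groth.Agent.CohFinite.tmap (ClSub.idealModι Z) Lc) := Groth.Agent.W7Slope.mono_tmap (hinv _) _
  let j : S.X₃ ⟶ Lc := e₃.hom ≫ Groth.Agent.CohFinite.tmap (ClSub.idealModι Z) Lc ≫ (TMul.leftUnitIso Lc).hom
  haveI : Mono j := mono_comp _ _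
  have hV := Groth.Agent.K0Coh.isCoh_of_isFinLocFree (Groth.Agent.W7Slope.isFinLocFree_of_rank hE)
  have hIc : Coh.IsCoh (ClSub.idealMod Z) := (Groth.Agent.CurveRR.isCoh_idealMod Z).1
  have hN : Coh.IsCoh S.X₃ := Groth.Agent.K0Coh.isCoh_of_iso e₃.symm
    (Groth.Agent.RefDiv.isCoh_tensor hIc (Groth.Agent.CurveRR.isCoh_of_inv (hinv _)))
  have hsupp : CohB1.support (cokernel j) ⊆ (Z.support : Set X) := by
    intro x hx
    by_contra hxZ
    refine Groth.Agent.CurveRR.notMem_support_coker j x (fun m => ?_) hx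
    obtain ⟨w, hS'⟩ := Groth.Agent.StabK3.shortExact_image (ClSub.toSubscheme Z)
    have hsh := Groth.Agent.CohFinite.shortExact_tmap (hinv ((d : ℤ) - 1)) hS'
    haveI : Subsingleton ((ClSub.quotMod Z).presheaf.stalk x) :=
      not_not.1 fun h => hxZ (Groth.Agent.CurveRR.support_quotMod Z h)
    have himg : CohB1.support (Abelian.image (ClSub.toSubscheme Z)) ⊆ (Z.support : Set X) := fun y hy => by
      by_contra hyZ
      haveI : Subsingleton ((ClSub.quotMod Z).presheaf.stalk y) :=
        not_not.1 fun h => hyZ (Groth.Agent.CurveRR.support_quotMod Z h)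
      exact hy ((Groth.Agent.WeakAssLib.stalkHom_injective (Abelian.image.ι (ClSub.toSubscheme Z)) y).subsingleton)
    haveI : Subsingleton ((CohB1.tensorMod (Abelian.image (ClSub.toSubscheme Z)) Lc).presheaf.stalk x) :=
      not_not.1 fun h => hxZ (Groth.Agent.Intersect.support_tensor_subset Z.support.isClosed himg Lc h)
    obtain ⟨m', hm'⟩ := Groth.Agent.StabK3.stalk_surjective (TMul.leftUnitIso Lc).hom x m
    obtain ⟨v, hv⟩ := Groth.Agent.WeakAssLib.stalk_exact _ hsh x m' (Subsingleton.elim _ _)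
    obtain ⟨v', hv'⟩ := Groth.Agent.StabK3.stalk_surjective e₃.hom x v
    refine ⟨v', (Groth.Agent.RefDiv.stalkMap_comp _ _ x v').trans ((congrArg _ hv').trans ?_)⟩
    exact (Groth.Agent.RefDiv.stalkMap_comp _ _ x v).trans ((congrArg _ hv).trans hm')
  have hZd : topologicalKrullDim (CohB1.support (cokernel j)) ≤ 0 :=
    (Topology.IsEmbedding.inclusion hsupp).isInducing.topologicalKrullDim_le.trans
      (Groth.Agent.StabK3.dim_le_zero_of_finite_set k Z.support.isClosed hZfin)
  have hex : (ShortComplex.mk (e₁.inv ≫ S.f) S.g (by rw [Category.assoc, S.zero, comp_zero])).ShortExact :=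
    ShortComplex.shortExact_of_iso (ShortComplex.isoMk (S₁ := S)
      (S₂ := ShortComplex.mk (e₁.inv ≫ S.f) S.g (by rw [Category.assoc, S.zero, comp_zero]))
      e₁ (Iso.refl _) (Iso.refl _) (by simp) (by simp)) hS
  refine Groth.Agent.StabK3.isMuStable_of_hom_eq_zero k hdim hL hgen hV (hinv _)
    (Groth.Agent.StabK3.cls_pull_twist k ι hL.1 ((d : ℤ) - 1) (hinv _)) j hN hZd _ _ _ hex (by omega)
    (fun x => by
      haveI := Groth.Agent.LocFree.free_stalk_of_isFinLocFree (Groth.Agent.W7Slope.isFinLocFree_of_rank hE) x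
      haveI := Groth.Agent.RegDual.finite_stalk hV x
      infer_instance) t ht ?_
  intro φ
  let F2 := CohB1.tensorMod (ClSub.idealMod Z) ((Scheme.Modules.pullback ι).obj (Twist.twistProjSpace 3 k ((d : ℤ) - 2)))
  have hz : ∀ s : Coh.structureModule X ⟶ F2, s = 0 := by
    intro s
    haveI := hZ
    haveI : Subsingleton Γ(F2, (⊤ : X.Opens)) :=
      (Groth.Agent.CurveRR.secH0 (k := k) F2).toEquiv.subsingleton
    exact TMul.hom_ext_val (Subsingleton.elim _ _)
  obtain ⟨L', hL', ⟨e⟩⟩ := Groth.Agent.W7Hull.exists_tensor_inverse hL.1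
  let e' : CohB1.tensorMod L' L ≅ Coh.structureModule X := TMul.commIso L' L ≪≫ e
  have hcl : PicGrp.cls (CohB1.tensorMod Lc L') (TMul.isInvertible_tensorMod (hinv _) hL') =
      PicGrp.cls _ (hinv ((d : ℤ) - 2)) := by
    have h1 : PicGrp.cls L hL.1 * PicGrp.cls L' hL' = 1 := by
      refine Subtype.ext ((PicGrp.cls_mul_cls_val hL.1 hL').trans ?_)
      exact ((PicGrp.cl_eq_cl_iff _ _).2 ⟨e⟩).trans PicGrp.one_val.symm
    rw [show PicGrp.cls (CohB1.tensorMod Lc L') (TMul.isInvertible_tensorMod (hinv _) hL') =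
      PicGrp.cls Lc (hinv _) * PicGrp.cls L' hL' from Subtype.ext (PicGrp.cls_mul_cls_val _ _).symm,
      Groth.Agent.StabK3.cls_pull_twist k ι hL.1 ((d : ℤ) - 1) (hinv _),
      Groth.Agent.StabK3.cls_pull_twist k ι hL.1 ((d : ℤ) - 2) (hinv _), eq_inv_of_mul_eq_one_right h1,
      show ((d : ℤ) - 2) = ((d : ℤ) - 1) + (-1) by ring, zpow_add, zpow_neg_one]
  obtain ⟨e2⟩ := (PicGrp.cls_eq_cls_iff _ _).1 hcl
  let ψ := φ ≫ e₃.hom
  have h1 : e.inv ≫ Groth.Agent.CohFinite.tmap ψ L' ≫ (TMul.assocIso _ _ _).hom ≫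
      (PicGrp.tensorModIso (Iso.refl (ClSub.idealMod Z)) e2).hom = 0 := hz _
  have h2 : Groth.Agent.CohFinite.tmap ψ L' = 0 := by
    rwa [← cancel_epi e.inv, ← cancel_mono (TMul.assocIso (ClSub.idealMod Z) Lc L').hom,
      ← cancel_mono (PicGrp.tensorModIso (Iso.refl (ClSub.idealMod Z)) e2).hom, Category.assoc, Category.assoc,
      Category.assoc, comp_zero, zero_comp]
  have h3 := Groth.Agent.W7Slope.untw_natural e' ψ
  rw [h2, Groth.Agent.CohFinite.tmap_zero, zero_comp] at h3
  have h4 : ψ = 0 := (cancel_epi (Groth.Agent.W7Slope.untw e' L).hom).1 (h3.symm.trans comp_zero.symm)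
  exact (cancel_mono e₃.hom).1 (h4.trans zero_comp.symm)

end Groth.Agent.S18631
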