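import Groth.Statements.S18632
import Groth.Agent.BlowPn.Acm
-- import your own Groth.Agent.* helpers here

set_option autoImplicit false
universe u
open VBPn

namespace Groth.Agent.S18632

open CategoryTheory CategoryTheory.Limits AlgebraicGeometry TopologicalSpace in
/-- Let k be an algebraically closed field of characteristic zero, n ≥ 3, Z a set of s ≤ 1 closed points
of P^n_k and π : X → P^n_k a blow-up of P^n_k in the ideal of the reduced set Z (universal
property), with exceptional ideal I_E (inverse image ideal of Z) and anticanonical module H ≅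
π^*O(n+1) ⊗ I_E^{⊗(n−1)}, with a tensor inverse H′. Then H^i(X, H^{⊗t}) = 0 and H^i(X, H′^{⊗t}) = 0
for every 1 ≤ i ≤ n − 1 and every t ≥ 0: O_X has no intermediate cohomology in any anticanonical
twist. (The published statement is that X, embedded by the very ample H, is arithmetically
Cohen–Macaulay; the part asserting that the ideal of the embedded X has no H¹ in any twist is not
restated.) -/
theorem result (k : Type u) [Field k] [IsAlgClosed k] [CharZero k]
    (n : ℕ) (hn : 3 ≤ n) (s : ℕ) (P : Fin s → ↥(CohB1.ProjSpace n k)) (hP : Function.Injective P)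
    (hPc : ∀ i, IsClosed ({P i} : Set ↥(CohB1.ProjSpace n k))) (hZ : IsClosed (Set.range P))
    (X : Scheme.{u}) (π : X ⟶ CohB1.ProjSpace n k)
    (hπ : BlowUp.IsBlowUp π (Scheme.IdealSheafData.vanishingIdeal ⟨Set.range P, hZ⟩)) (hs : s ≤ 1)
    (Hm Hi : X.Modules)
    (hHm : Nonempty (Hm ≅ CohB1.tensorMod ((Scheme.Modules.pullback π).obj (Twist.twistProjSpace n k ((n : ℤ) + 1)))
      (CohB1.tensorPow (ClSub.idealMod (BlowUp.exceptional π (Scheme.IdealSheafData.vanishingIdeal ⟨Set.range P, hZ⟩))) (n - 1))))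
    (hHi : ClSub.IsInverseOf Hi Hm) (i t : ℕ) (hi : 1 ≤ i) (hin : i + 1 ≤ n) :
    Subsingleton (Coh.HH X (CohB1.tensorPow Hm t) i) ∧ Subsingleton (Coh.HH X (CohB1.tensorPow Hi t) i) := by
  obtain ⟨e⟩ := hHm
  constructor
  · obtain ⟨e₁⟩ := TMul.nonempty_powCongr e t
    obtain ⟨e₂⟩ := Groth.Agent.BlowPn.nonempty_M_pow π (BlowUp.exceptional π
      (Scheme.IdealSheafData.vanishingIdeal ⟨Set.range P, hZ⟩)) ((n : ℤ) + 1) (n - 1) t
    refine Groth.Agent.BlowPn.subsingleton_hh_iso (e₁ ≪≫ e₂).symm i ?_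
    rcases Nat.lt_or_ge i 2 with h | h
    · obtain rfl : i = 1 := by omega
      refine Groth.Agent.BlowPn.subsingleton_M_one π P hP hPc hZ (by omega) hπ _ _ hs (by omega) (Or.inr ?_)
      push_cast [Nat.cast_sub (show 1 ≤ n by omega)]
      nlinarith
    · exact Groth.Agent.BlowPn.subsingleton_M_ge_two π P hP hPc hZ (by omega) hπ _ _ h (fun h' => by omega)
  · rcases Nat.eq_zero_or_pos t with rfl | ht
    · exact Groth.Agent.BlowPn.subsingleton_pullback_zero P hP hPc hZ π hπ (by omega) hi
    · obtain ⟨L, hLi, ⟨eL⟩⟩ := SymAlg.exists_inverse (Groth.Agent.BlowPn.invertible_exc P hZ π hπ)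
      have hL : ClSub.IsInverseOf L (ClSub.idealMod (BlowUp.exceptional π
          (Scheme.IdealSheafData.vanishingIdeal ⟨Set.range P, hZ⟩))) := ⟨TMul.commIso _ _ ≪≫ eL⟩
      obtain ⟨e₁⟩ := Groth.Agent.BlowPn.nonempty_inv_pow π hπ.1 hL _ _ e hHi t
      refine Groth.Agent.BlowPn.subsingleton_hh_iso e₁.symm i ?_
      have ht' : (1 : ℤ) ≤ t := by exact_mod_cast ht
      refine Groth.Agent.BlowPn.subsingleton_neg P hP hPc hZ π hπ hs (by omega) hL hLi _ _ (by nlinarith)
        (Or.inr ?_) i (by omega)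
      push_cast [Nat.cast_sub (show 1 ≤ n by omega)]
      nlinarith

end Groth.Agent.S18632
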