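import Groth.Statements.S18633
import Groth.Agent.PlaneBlow.HypCurve
-- import your own Groth.Agent.* helpers here

set_option autoImplicit false
universe u
open CategoryTheory CategoryTheory.Limits AlgebraicGeometry TopologicalSpace
open Surf

namespace Groth.Agent.S18633

set_option backward.isDefEq.respectTransparency false
set_option backward.isDefEq.respectTransparency.types false
set_option linter.style.haveILetI false
open Groth.Agent
attribute [local instance] Nakai.clMonoid

theorem h0_quot {X : Scheme.{u}} (k : Type u) [Field k] [IsAlgClosed k] [X.Over (Spec (CommRingCat.of k))]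
    [IsIntegral X] [IsProper (X ↘ Spec (CommRingCat.of k))] [Smooth (X ↘ Spec (CommRingCat.of k))]
    (C : X.IdealSheafData) [IsIntegral C.subscheme] (hC1 : topologicalKrullDim (C.support : Set X) = 1)
    {J : X.Modules} (hJ : PicF.IsInvertible J) (hneg : PlaneBlow.deg k C J < 0) :
    Subsingleton (Coh.HH X (CohB1.tensorMod (ClSub.quotMod C) J) 0) := by
  haveI := CurveRR.isNoetherian_of_proper k X
  haveI := CohFinite.finite_proper k X _
    (CurveRR.isCoh_tensor' (CurveRR.isCoh_idealMod C).2 (CurveRR.isCoh_of_inv hJ)) 0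
  exact Module.finrank_zero_iff.1 (PlaneBlow.h0_quot_eq_zero k C hC1 hJ hneg)

/-- Let k be an algebraically closed field of characteristic zero and X a strong del Pezzo surface over
k: an integral scheme, proper and smooth over k of dimension 2, with canonical module W (a second
exterior power of Ω_{X/k}) and a tensor inverse D of W which is very ample relative to k — there is
a closed immersion ι : X → P^N_k over k with ι^*O(1) ≅ D. Assume H¹(X, O_X) = 0. Then H¹(X, D^{⊗m})
= 0 and H¹(X, W^{⊗m}) = 0 for every m ≥ 0; that is, H¹(X, O_X(m)) = 0 for all m ∈ ℤ in the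
anticanonical embedding X ⊆ P^d. (The published statement is that the anticanonically embedded X is
arithmetically Cohen–Macaulay; its argument obtains H¹(X, O_X) = 0 from the rationality of del Pezzo
surfaces, quoted, and that vanishing is the hypothesis here; the part about H¹ of the twisted ideal
sheaves of X is not restated.) -/
theorem result (k : Type u) [Field k] [IsAlgClosed k] [CharZero k] (X : Scheme.{u})
    [X.Over (Spec (CommRingCat.of k))] [IsIntegral X] [IsProper (X ↘ (Spec (CommRingCat.of k)))] [Smooth (X ↘ (Spec (CommRingCat.of k)))]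
    (hdim : topologicalKrullDim X = 2)
    (W : X.Modules) (hW : ExtPow.IsExtPow 2 (Omega.sheaf (X ↘ (Spec (CommRingCat.of k)))) W)
    (D : X.Modules) (hD : ClSub.IsInverseOf D W)
    (hva : ∃ (N : ℕ) (ι : X ⟶ CohB1.ProjSpace N k), IsClosedImmersion ι ∧
      ι ≫ CohB1.ProjSpace.toSpec N k = X ↘ (Spec (CommRingCat.of k)) ∧
      Nonempty ((Scheme.Modules.pullback ι).obj (Twist.twistProjSpace N k 1) ≅ D))
    (hq : Subsingleton (Coh.HH X (Coh.structureModule X) 1)) (m : ℕ) :
    Subsingleton (Coh.HH X (CohB1.tensorPow D m) 1) ∧ Subsingleton (Coh.HH X (CohB1.tensorPow W m) 1) := by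
  haveI := CurveRR.isNoetherian_of_proper k X
  obtain ⟨N, ι, hci, hι, ⟨eD⟩⟩ := hva
  haveI := hci
  obtain ⟨C, hCi, hC1, ⟨eI⟩⟩ := PlaneBlow.exists_integral_curve k hdim ι hι eD
  haveI := hCi
  obtain ⟨eDW⟩ := hD
  have hWi := SurfAdj.isInvertible_W k hdim hW
  have hI := SurfAdj.inv_ideal k hdim C hC1
  have hDi : PicF.IsInvertible D := (Intersect.isInvertible_inverse hWi ⟨TMul.commIso _ _ ≪≫ eDW⟩)
  have h1 : PicF.cl W * PicF.cl D = 1 :=
    (PicGrp.cl_eq_cl_iff _ _).2 ⟨TMul.commIso _ _ ≪≫ eDW⟩
  have h2 : PicF.cl (ClSub.idealMod C) * PicF.cl D = 1 := (PicGrp.cl_eq_cl_iff _ _).2 ⟨eI⟩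
  have hIW : PicF.cl (ClSub.idealMod C) = PicF.cl W := by
    calc PicF.cl (ClSub.idealMod C) = PicF.cl (ClSub.idealMod C) * (PicF.cl W * PicF.cl D) := by rw [h1, mul_one]
      _ = PicF.cl W * (PicF.cl (ClSub.idealMod C) * PicF.cl D) := by rw [mul_left_comm]
      _ = PicF.cl W := by rw [h2, mul_one]
  obtain ⟨eIW⟩ := (PicGrp.cl_eq_cl_iff _ _).1 hIW
  -- negative degree of the powers of `W` on `C`
  have hamp : CohB1.IsAmple D := by
    have hP : CohB1.IsAmple ((Scheme.Modules.pullback ι).obj (Twist.twistProjSpace N k 1)) :=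
      TMul.isAmple_pullback_of_isAffineHom ι (Groth.Agent.Intersect.isAmple_twistProj_one N k)
    exact TMul.isAmple_congr eD hP
  have hDD := Nakai.inter_self_pos k hdim.le hamp (by rw [hdim]; norm_cast)
  have hWW : Nakai.inter k W W = Nakai.inter k D D := by
    rw [Nakai.inter_inv (k := k) hdim.le hDi ⟨eDW⟩ hWi, Nakai.inter_inv_right (k := k) hdim.le hDi ⟨eDW⟩ hDi, neg_neg]
  have hdeg : ∀ j : ℕ, 0 < j → PlaneBlow.deg k C (CohB1.tensorPow W j) < 0 := by
    intro j hj
    have h := PlaneBlow.deg_eq_inter k hdim C hC1 (TMul.isInvertible_tensorPow hWi j)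
    rw [Nakai.inter_iso k hIW, Nakai.inter_pow_right k hdim.le hWi hWi, hWW] at h
    have hj' : (0 : ℚ) < j := by exact_mod_cast hj
    have : (PlaneBlow.deg k C (CohB1.tensorPow W j) : ℚ) < 0 := by rw [h]; nlinarith
    exact_mod_cast this
  have hneg : ∀ j : ℕ, CurveRR.h k (CohB1.tensorPow W j) 1 = 0 := by
    intro j
    induction j with
    | zero =>
      exact (PlaneBlow.subsingleton_iff_h k (TMul.isInvertible_structureModule (X := X)) 1).1 hq
    | succ j ih =>
      rcases Nat.eq_zero_or_pos j with rfl | hj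
      · have hs := ConnDiv.subsingleton_h1_ideal (k := k) hq C
        show CurveRR.h k (CohB1.tensorMod (Coh.structureModule X) W) 1 = 0
        rw [CurveRR.h_eq_of_iso (TMul.leftUnitIso W ≪≫ eIW.symm) 1]
        exact (PlaneBlow.subsingleton_iff_h k hI 1).1 hs
      · have hJ := TMul.isInvertible_tensorPow hWi j
        have hS := CohFinite.shortExact_tmap hJ (SerrePn.idealSeq_shortExact C)
        have hz := h0_quot k C hC1 hJ (hdeg j hj)
        have hQ : Subsingleton (Coh.HH X (CohB1.tensorMod (ClSub.quotMod C) (CohB1.tensorPow W j)) 0) := hz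
        have hO := TMul.isInvertible_tensorMod (TMul.isInvertible_structureModule (X := X)) hJ
        have hM : Subsingleton (Coh.HH X (CohB1.tensorMod (Coh.structureModule X) (CohB1.tensorPow W j)) 1) := by
          rw [PlaneBlow.subsingleton_iff_h k hO, CurveRR.h_eq_of_iso (TMul.leftUnitIso _) 1, ih]
        have hL : Subsingleton (Coh.HH X (CohB1.tensorMod (ClSub.idealMod C) (CohB1.tensorPow W j)) 1) := by
          refine subsingleton_of_forall_eq 0 fun x => ?_
          obtain ⟨y, rfl⟩ := (CohFinite.map_f_eq_zero_iff (CohQC.seq_shortExact hS) 0 x).1 (hM.elim _ _)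
          rw [show y = 0 from hQ.elim _ _, map_zero]
        change CurveRR.h k (CohB1.tensorMod (CohB1.tensorPow W j) W) 1 = 0
        rw [CurveRR.h_eq_of_iso (TMul.commIso _ _ ≪≫ PicGrp.tensorModIso eIW.symm (Iso.refl _)) 1]
        exact (PlaneBlow.subsingleton_iff_h k (TMul.isInvertible_tensorMod hI hJ) 1).1 hL
  refine ⟨?_, (PlaneBlow.subsingleton_iff_h k (TMul.isInvertible_tensorPow hWi m) 1).2 (hneg m)⟩
  rw [PlaneBlow.subsingleton_iff_h k (TMul.isInvertible_tensorPow hDi m)]
  rcases m with _ | j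
  · exact hneg 0
  have hmul : PicF.cl (CohB1.tensorMod (CohB1.tensorPow W (j + 1)) (CohB1.tensorPow D (j + 1))) = 1 := by
    rw [Nakai.cl_tensor, Nakai.cl_pow, Nakai.cl_pow, ← mul_pow, h1, one_pow]
  rw [SurfAdj.h_eq_dual k hdim hW (TMul.isInvertible_tensorPow hDi (j + 1)) (L' := CohB1.tensorPow W (j + 1))
    ((PicGrp.cl_eq_cl_iff _ _).1 hmul) 1 (by norm_num)]
  show CurveRR.h k (CohB1.tensorMod W (CohB1.tensorPow W (j + 1))) 1 = 0
  rw [CurveRR.h_eq_of_iso (TMul.commIso _ _) 1]
  exact hneg (j + 2)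

end Groth.Agent.S18633
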