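import Groth.Statements.S18636
import Groth.Agent.GrCore.Bass
import Groth.Agent.GrLCLib.Dim

set_option autoImplicit false
set_option backward.isDefEq.respectTransparency false
set_option backward.isDefEq.respectTransparency.types false
universe u
open GrLC

namespace Groth.Agent.S18636

/-- Let R be a commutative Noetherian ℤ-graded ring, M a graded R-module (not necessarily finitely
generated) and p a prime ideal of R which is not graded; write p* for the largest graded ideal
contained in p (a graded prime). Then μ_0(p, M) = 0 and μ_{i+1}(p, M) = μ_i(p*, M) for every i ≥ 0.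
(Bass numbers μ_i(q, M) are taken as the k(q)-dimension of Ext^i over R_q of k(q) into M_q, as
extended natural numbers; the published text also recalls their description as multiplicities in a
minimal injective resolution, and the two agree over a Noetherian ring.) -/
theorem result (R : Type u) [CommRing R] [IsNoetherianRing R] (𝒜 : ℤ → AddSubgroup R) [GradedRing 𝒜] (M : Type u) [AddCommGroup M] [Module R M] (ℳ : ℤ → AddSubgroup M) [DirectSum.Decomposition ℳ] [SetLike.GradedSMul 𝒜 ℳ] (p : Ideal R) [p.IsPrime] (hp : ¬ Ideal.IsHomogeneous 𝒜 p) [(Ideal.homogeneousCore 𝒜 p).toIdeal.IsPrime] : GrLC.bassNum p M 0 = 0 ∧ ∀ i : ℕ, GrLC.bassNum p M (i + 1) = GrLC.bassNum (Ideal.homogeneousCore 𝒜 p).toIdeal M i := by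
  have hd : (p.map (Ideal.Quotient.mk (GrCore.co 𝒜 p))).height = ((1 : ℕ) : ℕ∞) := by
    refine le_antisymm (GrLCLib.height_map_core_le_one 𝒜 (GrCore.co_le 𝒜 p)
      fun n a ha haP => GrCore.mem_co_of_homogeneous 𝒜 p ha haP) ?_
    rw [Nat.cast_one, Order.one_le_iff_pos, pos_iff_ne_zero]
    intro h0
    have hprime : (p.map (Ideal.Quotient.mk (GrCore.co 𝒜 p))).IsPrime :=
      Ideal.map_isPrime_of_surjective Ideal.Quotient.mk_surjective (by rw [Ideal.mk_ker]; exact GrCore.co_le 𝒜 p)
    have hbot : p.map (Ideal.Quotient.mk (GrCore.co 𝒜 p)) = ⊥ := Ideal.height_eq_zero_iff_eq_bot.1 h0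
    rw [← le_bot_iff, Ideal.map_le_iff_le_comap, ← RingHom.ker_eq_comap_bot, Ideal.mk_ker] at hbot
    apply hp
    rw [le_antisymm hbot (GrCore.co_le 𝒜 p)]
    exact (Ideal.homogeneousCore 𝒜 p).isHomogeneous
  obtain ⟨h1, h2⟩ := GrCore.bassNum_shift (M := M) 𝒜 p ℳ hd
  exact ⟨h1 0 one_pos, h2⟩

end Groth.Agent.S18636
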