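import Groth.Statements.S18644
-- import your own Groth.Agent.* helpers here
import Groth.Agent.GrLCLib.StdGraded

set_option autoImplicit false
universe u
open GrLC
open Groth.Agent

namespace Groth.Agent.S18644

/-- Let R be a graded ring defined over a field k = R_0 which is Cohen–Macaulay and generated over k by
R_1, of dimension r. Then a(R) = −r holds exactly when R is isomorphic to the polynomial ring over k
in r variables. Here 'graded ring defined over a field' means R = ⊕_{n ≥ 0} R_n is Noetherian with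
R_0 a field, and m = R_+ is its unique graded maximal ideal. The a-invariant a(R) is the largest
degree in which the graded local cohomology H^n_m(R) (n = dim R, m = R_+), computed from a
*injective resolution of R in the graded category, is nonzero. (The inequality a(R) ≥ −r of the same
lemma is stated separately.) -/
theorem result (R : Type u) [CommRing R] [LocCoh.IsCohenMacaulayRing R] (𝒜 : ℤ → AddSubgroup R) [GradedRing 𝒜] (hpos : ∀ n : ℤ, n < 0 → 𝒜 n = ⊥) (h0 : IsField (GrLC.deg0 𝒜)) (m : HomogeneousIdeal 𝒜) (hm : GrLC.IsStarLocal 𝒜 m) (hmsp : m.toIdeal = Ideal.span (⋃ n ∈ Set.Ioi (0 : ℤ), (𝒜 n : Set R))) (hstd : Ideal.span (⋃ n ∈ Set.Ioi (0 : ℤ), (𝒜 n : Set R)) = Ideal.span ((𝒜 1 : AddSubgroup R) : Set R)) (r : ℕ) (hr : ringKrullDim R = r) (I : GrLC.StarInjRes 𝒜 𝒜) : GrLC.endDeg (I.Hgr m r) = (((-(r : ℤ) : ℤ) : WithTop ℤ) : WithBot (WithTop ℤ)) ↔ Nonempty (R ≃+* MvPolynomial (Fin r) (GrLC.deg0 𝒜)) := by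
  obtain rfl : m = GrLCLib.irr 𝒜 := HomogeneousIdeal.toIdeal_injective hmsp
  letI : Field (GrLC.deg0 𝒜) := h0.toField
  haveI : IsArtinianRing (GrLC.deg0 𝒜) := inferInstance
  have hk : ringKrullDim (MvPolynomial (Fin r) (GrLC.deg0 𝒜)) = (r : ℕ) := by
    rw [MvPolynomial.ringKrullDim_of_isNoetherianRing, ringKrullDim_eq_zero_of_field, zero_add, Nat.card_fin]
  classical
  let P : ℕ → Prop := fun n => ∃ x : Fin n → R, (∀ b, x b ∈ 𝒜 1) ∧ (GrLCLib.irr 𝒜).toIdeal = Ideal.span (Set.range x)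
  have hP : ∃ n, P n := GrLCLib.exists_gens_one hstd
  obtain ⟨n, ⟨x, hx, hgen⟩, hmin⟩ : ∃ n, P n ∧ ∀ k < n, ¬ P k := ⟨Nat.find hP, Nat.find_spec hP, fun k => Nat.find_min hP⟩
  have hsurj := GrLCLib.pres_surjective hx hpos hgen
  have hdimn : ringKrullDim (MvPolynomial (Fin n) (GrLC.deg0 𝒜)) = (n : ℕ) := by
    rw [MvPolynomial.ringKrullDim_of_isNoetherianRing, ringKrullDim_eq_zero_of_field, zero_add, Nat.card_fin]
  have hd' : (GrLCLib.irr 𝒜).toIdeal.height = (r : ℕ∞) :=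
    WithBot.coe_inj.1 ((GrLCLib.ringKrullDim_eq_height hpos hm).symm.trans hr)
  have hind : ∀ c : Fin n → GrLC.deg0 𝒜, ∑ b, (c b : R) * x b = 0 → ∀ b, c b = 0 := by
    intro c hc j
    by_contra hj
    obtain ⟨k, rfl⟩ : ∃ k, n = k + 1 := ⟨n - 1, by have := j.2; omega⟩
    refine hmin k (Nat.lt_succ_self k) ⟨fun b => x (j.succAbove b), fun b => hx _, hgen.trans (le_antisymm ?_ ?_)⟩
    · rw [Ideal.span_le]
      rintro _ ⟨b, rfl⟩
      rcases Fin.eq_self_or_eq_succAbove j b with rfl | ⟨b', rfl⟩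
      · rw [Fin.sum_univ_succAbove _ b] at hc
        have hu : ((c b)⁻¹ : GrLC.deg0 𝒜) * (c b : GrLC.deg0 𝒜) = 1 := inv_mul_cancel₀ hj
        have hu' : (((c b)⁻¹ : GrLC.deg0 𝒜) : R) * (c b : R) = 1 := congrArg Subtype.val hu
        have he : x b = -((((c b)⁻¹ : GrLC.deg0 𝒜) : R) * ∑ i : Fin k, (c (b.succAbove i) : R) * x (b.succAbove i)) := by
          linear_combination (((c b)⁻¹ : GrLC.deg0 𝒜) : R) * hc - x b * hu'
        rw [SetLike.mem_coe, he]
        exact Submodule.neg_mem _ (Ideal.mul_mem_left _ _ (Ideal.sum_mem _ fun i _ =>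
          Ideal.mul_mem_left _ _ (Ideal.subset_span ⟨i, rfl⟩)))
      · exact Ideal.subset_span ⟨b', rfl⟩
    · exact Ideal.span_mono (by rintro _ ⟨b, rfl⟩; exact ⟨_, rfl⟩)
  constructor
  · intro ha
    have hle := (GrLCLib.endDeg_le_iff I (GrLCLib.irr 𝒜) r (-(r : ℤ))).1 ha.le
    have hvan : ∀ (i : ℕ) (e : ℤ), 0 < e + i → GrLCLib.Van I (GrLCLib.irr 𝒜) i e := fun i e he => by
      rcases lt_trichotomy i r with hi | rfl | hi
      · exact GrLCLib.van_of_subsingleton I _ (GrLCLib.subsingleton_H_of_lt_height (I := (GrLCLib.irr 𝒜).toIdeal)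
          (GrLCLib.isStarLocal_ne_top hm) (by rw [hd']; exact_mod_cast hi)) e
      · exact hle e (by omega)
      · exact GrLCLib.van_of_subsingleton I _ (GrLCLib.subsingleton_H_of_dim_lt hr _ hi R) e
    let φ := RingEquiv.ofBijective _ ⟨GrLCLib.pres_injective hx hpos hgen I hvan hind, hsurj⟩
    obtain rfl : n = r := by
      have h := (ringKrullDim_eq_of_ringEquiv φ).symm.trans hdimn
      rw [hr] at h
      exact_mod_cast h.symm
    exact ⟨φ.symm⟩
  · rintro ⟨ψ⟩
    haveI hmax := GrLCLib.isMaximal_of_isStarLocal hpos hm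
    have hnr : n ≤ r := by
      haveI : ((GrLCLib.irr 𝒜).toIdeal.map ψ).IsMaximal := Ideal.map_isMaximal_of_equiv ψ
      obtain ⟨-, g, hg⟩ := CartierEq.height_and_generators (GrLC.deg0 𝒜) r ((GrLCLib.irr 𝒜).toIdeal.map ψ)
      by_contra hlt
      refine hmin r (not_le.1 hlt) ⟨fun i => GrLCLib.pr 𝒜 1 (ψ.symm (g i)), fun i => GrLCLib.pr_mem 𝒜 1 _, le_antisymm ?_ ?_⟩
      · rw [hgen, Ideal.span_le]
        rintro _ ⟨b, rfl⟩
        have hb : ψ (x b) ∈ Ideal.span (Set.range g) := hg.symm ▸ Ideal.mem_map_of_mem _ (hgen ▸ Ideal.subset_span ⟨b, rfl⟩)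
        obtain ⟨c, hc⟩ := (Submodule.mem_span_range_iff_exists_fun _).1 hb
        have hxe : x b = ∑ i, ψ.symm (c i) * ψ.symm (g i) := by
          rw [← ψ.symm_apply_apply (x b), ← hc, map_sum]
          exact Finset.sum_congr rfl fun i _ => by rw [smul_eq_mul, map_mul]
        rw [SetLike.mem_coe, ← GrLCLib.pr_of_mem 𝒜 (hx b), hxe, map_sum]
        refine Ideal.sum_mem _ fun i _ => ?_
        have hgi : ψ.symm (g i) ∈ (GrLCLib.irr 𝒜).toIdeal := by
          have h1 : g i ∈ (GrLCLib.irr 𝒜).toIdeal.map ψ := hg ▸ Ideal.subset_span ⟨i, rfl⟩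
          obtain ⟨y, hy, hye⟩ := (Ideal.mem_map_iff_of_surjective ψ ψ.surjective).1 h1
          rw [← hye, ψ.symm_apply_apply]
          exact hy
        have hg0 : GrLCLib.pr 𝒜 0 (ψ.symm (g i)) = 0 := GrLCLib.mem_span_pos_pr_zero hpos hgi
        generalize ψ.symm (c i) = cc
        induction cc using DirectSum.Decomposition.inductionOn 𝒜 with
        | zero => rw [zero_mul, map_zero]; exact Ideal.zero_mem _
        | @homogeneous j q =>
          rw [GrLCLib.pr_mul 𝒜 q.2]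
          obtain hj | rfl | rfl | hj : j < 0 ∨ j = 0 ∨ j = 1 ∨ 1 < j := by omega
          · rw [show (q : R) = 0 from (hpos j hj).le q.2, zero_mul]; exact Ideal.zero_mem _
          · rw [sub_zero]; exact Ideal.mul_mem_left _ _ (Ideal.subset_span ⟨i, rfl⟩)
          · rw [sub_self, hg0, mul_zero]; exact Ideal.zero_mem _
          · rw [show GrLCLib.pr 𝒜 (1 - j) (ψ.symm (g i)) = 0 from (hpos _ (by omega)).le (GrLCLib.pr_mem 𝒜 _ _), mul_zero]
            exact Ideal.zero_mem _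
        | add u v hu hv => rw [add_mul, map_add]; exact Ideal.add_mem _ hu hv
      · rw [Ideal.span_le]
        rintro _ ⟨i, rfl⟩
        exact Ideal.subset_span (Set.mem_iUnion₂.2 ⟨1, Set.mem_Ioi.2 one_pos, GrLCLib.pr_mem 𝒜 1 _⟩)
    obtain rfl : n = r := by
      have h := ringKrullDim_le_of_surjective _ hsurj
      rw [hr, hdimn] at h
      have : r ≤ n := by exact_mod_cast h
      omega
    have hinj : Function.Injective (GrLCLib.pres 𝒜 x) := by
      refine (injective_iff_map_eq_zero _).2 fun f hf => ?_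
      by_contra hne
      have h1 := ringKrullDim_quotient_succ_le_of_nonZeroDivisor (r := f) (mem_nonZeroDivisors_of_ne_zero hne)
      have hle : Ideal.span {f} ≤ RingHom.ker (GrLCLib.pres 𝒜 x) := (Ideal.span_singleton_le_iff_mem _).2 hf
      have h4 : ringKrullDim (MvPolynomial (Fin n) (GrLC.deg0 𝒜) ⧸ RingHom.ker (GrLCLib.pres 𝒜 x)) ≤
          ringKrullDim (MvPolynomial (Fin n) (GrLC.deg0 𝒜) ⧸ Ideal.span {f}) :=
        ringKrullDim_le_of_surjective _ (Ideal.Quotient.factor_surjective hle)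
      have h2 := (ringKrullDim_eq_of_ringEquiv (RingHom.quotientKerEquivOfSurjective hsurj)).symm.trans_le h4
      rw [hr] at h2
      rw [hdimn] at h1
      have h3 := le_trans (add_le_add_left h2 1) h1
      exact absurd h3 (not_le.2 (by exact_mod_cast Nat.lt_succ_self n))
    let φ := RingEquiv.ofBijective _ ⟨hinj, hsurj⟩
    have hreg : RingTheory.Sequence.IsWeaklyRegular R (List.ofFn x) := by
      refine (φ.toAddEquiv.isWeaklyRegular_congr ?_).1 (CechX.isWeaklyRegular_X (A := GrLC.deg0 𝒜) n)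
      rw [List.forall₂_iff_get]
      refine ⟨by simp, fun i h1 h2 z => ?_⟩
      simp only [List.get_eq_getElem, List.getElem_ofFn, smul_eq_mul]
      exact (map_mul φ _ z).trans (congrArg (· * φ z) (GrLCLib.pres_X x _))
    have hK : GrLCLib.Homog 𝒜 (GrLCLib.irr 𝒜).toIdeal := fun y hy g => (GrLCLib.irr 𝒜).isHomogeneous g hy
    let Q := GrLCLib.quotObj 𝒜 𝒜 (GrLCLib.irr 𝒜).toIdeal hK
    obtain ⟨EQ⟩ := GrLCLib.nonempty_starInjRes 𝒜 Q.gr
    have hvan : ∀ i < 0 + n, ∀ e, GrLCLib.Van I (GrLCLib.irr 𝒜) i e := fun i hi e =>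
      GrLCLib.van_of_subsingleton I _ (GrLCLib.subsingleton_H_of_lt_height (I := (GrLCLib.irr 𝒜).toIdeal)
        (GrLCLib.isStarLocal_ne_top hm) (by rw [hd']; exact_mod_cast (show i < n by omega))) e
    let π : (GrLC.GMod.of 𝒜 R 𝒜).carrier →ₗ[R] Q.carrier := (GrLCLib.irr 𝒜).toIdeal.mkQ
    have hker : LinearMap.ker (GrLCLib.irr 𝒜).toIdeal.mkQ = Ideal.span (Set.range x) • (⊤ : Submodule R R) :=
      (Submodule.ker_mkQ _).trans (hgen.trans (Ideal.mul_top _).symm)
    have hq := GrLCLib.endDeg_quot_seq (GrLCLib.irr 𝒜) EQ n (GrLC.GMod.of 𝒜 R 𝒜) I 0 hvan x (fun _ => 1) hx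
      (fun _ => Or.inl zero_le_one) (fun b => hgen ▸ Ideal.subset_span ⟨b, rfl⟩) hreg π (GrLCLib.mkQ_grHom 𝒜 _)
      (Submodule.mkQ_surjective (GrLCLib.irr 𝒜).toIdeal) hker
    have hkill : GrLC.gam (GrLCLib.irr 𝒜).toIdeal Q.carrier = ⊤ := eq_top_iff.2 fun q _ => ⟨1, fun a ha => by
      obtain ⟨z, rfl⟩ := Submodule.mkQ_surjective (GrLCLib.irr 𝒜).toIdeal q
      refine (map_smul π a z).symm.trans ((Submodule.Quotient.mk_eq_zero _).2 ?_)
      exact Ideal.mul_mem_right z _ (by simpa using ha)⟩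
    have h0' : GrLC.endDeg (EQ.Hgr (GrLCLib.irr 𝒜) 0) = (((0 : ℤ) : WithTop ℤ) : WithBot (WithTop ℤ)) := by
      refine le_antisymm ((GrLCLib.endDeg_le_iff EQ _ 0 0).2 fun e he => (GrLCLib.van_zero_iff EQ _ e).2 ?_)
        (le_iSup₂_of_le 0 (fun h => ?_) le_rfl)
      · rintro _ ⟨z, hz, rfl⟩ -
        exact (Submodule.Quotient.mk_eq_zero _).2 (Ideal.subset_span (Set.mem_iUnion₂.2 ⟨e, he, hz⟩))
      · have hv := (GrLCLib.van_zero_iff EQ _ 0).1 ((GrLCLib.hgr_eq_bot_iff EQ _ 0 0).1 h) _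
          ⟨1, SetLike.one_mem_graded 𝒜, rfl⟩ (hkill ▸ Submodule.mem_top)
        exact GrLCLib.isStarLocal_ne_top hm ((Ideal.eq_top_iff_one _).2 ((Submodule.Quotient.mk_eq_zero _).1 hv))
    rw [h0', zero_add, Fin.sum_const, nsmul_one] at hq
    generalize hA : GrLC.endDeg (I.Hgr (GrLCLib.irr 𝒜) n) = A
    replace hq : (((0 : ℤ) : WithTop ℤ) : WithBot (WithTop ℤ)) = A + (((n : ℤ) : WithTop ℤ) : WithBot (WithTop ℤ)) := hA ▸ hq
    induction A with
    | bot => rw [WithBot.bot_add] at hq; exact absurd hq WithBot.coe_ne_bot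
    | coe A =>
      induction A with
      | top => rw [← WithBot.coe_add, WithBot.coe_inj, WithTop.top_add] at hq; exact absurd hq WithTop.coe_ne_top
      | coe A =>
        rw [← WithBot.coe_add, WithBot.coe_inj, ← WithTop.coe_add, WithTop.coe_inj] at hq
        rw [show A = -(n : ℤ) by omega]

end Groth.Agent.S18644
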