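import Groth.Statements.S18646
import Mathlib.RingTheory.FiniteStability

set_option autoImplicit false
universe u
open scoped TensorProduct
open GrSegre

namespace Groth.Agent.S18646

/-- Let R and S be graded rings defined over a field k. Then their Segre product T = R # S is a
Noetherian ring (hence again a graded ring defined over k). Here a graded ring defined over k is a
commutative k-algebra of finite type, graded in nonnegative degrees by k-subspaces with degree-zero
part k·1; the Segre product T = R # S = ⊕_n R_n ⊗_k S_n (graded by T_n = R_n ⊗_k S_n) is presented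
abstractly as a graded k-algebra T with an injective k-algebra homomorphism ψ : T → R ⊗_k S carrying
T_n onto the k-span of the elementary tensors a ⊗ b with a ∈ R_n, b ∈ S_n, for every n. -/
theorem result (k : Type u) [Field k] (R : Type u) [CommRing R] [Algebra k R] (𝒜 : ℤ → Submodule k R) [GradedAlgebra 𝒜] (hposR : ∀ n : ℤ, n < 0 → 𝒜 n = ⊥) (h0R : 𝒜 0 = Submodule.span k {(1 : R)}) [Algebra.FiniteType k R] (S : Type u) [CommRing S] [Algebra k S] (ℬ : ℤ → Submodule k S) [GradedAlgebra ℬ] (hposS : ∀ n : ℤ, n < 0 → ℬ n = ⊥) (h0S : ℬ 0 = Submodule.span k {(1 : S)}) [Algebra.FiniteType k S] (T : Type u) [CommRing T] [Algebra k T] (𝒯 : ℤ → Submodule k T) [GradedAlgebra 𝒯] (ψ : T →ₐ[k] TensorProduct k R S) (hψ : Function.Injective ψ) (hdegT : ∀ n : ℤ, (𝒯 n).map ψ.toLinearMap = Submodule.span k {x : TensorProduct k R S | ∃ a ∈ 𝒜 n, ∃ b ∈ ℬ n, x = a ⊗ₜ[k] b}) : IsNoetherianRing T := by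
  classical
  let prR : ℤ → R →ₗ[k] R := fun n => GradedAlgebra.proj 𝒜 n
  let prS : ℤ → S →ₗ[k] S := fun n => GradedAlgebra.proj ℬ n
  let f : R →ₗ[k] S →ₗ[k] TensorProduct k R S :=
    (DirectSum.toModule k ℤ (S →ₗ[k] TensorProduct k R S)
      (fun n => ((TensorProduct.mk k R S).comp (𝒜 n).subtype).compl₂ (prS n))).comp
      (DirectSum.decomposeLinearEquiv 𝒜).toLinearMap
  let π : TensorProduct k R S →ₗ[k] TensorProduct k R S := TensorProduct.lift f
  have hπ : ∀ n, ∀ a ∈ 𝒜 n, ∀ b : S, π (a ⊗ₜ[k] b) = a ⊗ₜ[k] prS n b := fun n a ha b => by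
    show f a b = _
    simp only [f, LinearMap.comp_apply, LinearEquiv.coe_coe, DirectSum.decomposeLinearEquiv_apply,
      DirectSum.decompose_of_mem 𝒜 ha]
    rw [← DirectSum.lof_eq_of k, DirectSum.toModule_lof]
    rfl
  let A : ℤ → Submodule k (TensorProduct k R S) := fun n =>
    Submodule.span k {x : TensorProduct k R S | ∃ a ∈ 𝒜 n, ∃ b ∈ ℬ n, x = a ⊗ₜ[k] b}
  -- `π` is linear over the Segre product
  have hlin : ∀ n, ∀ t ∈ A n, ∀ x, π (t * x) = t * π x := by
    intro n t ht x
    induction ht using Submodule.span_induction with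
    | zero => simp
    | add t t' _ _ h h' => rw [add_mul, map_add, h, h', add_mul]
    | smul c t _ h => rw [smul_mul_assoc, map_smul, h, smul_mul_assoc]
    | mem t ht =>
      obtain ⟨a, ha, b, hb, rfl⟩ := ht
      induction x using TensorProduct.induction_on with
      | zero => simp
      | add x y hx hy => rw [mul_add, map_add, hx, hy, map_add, mul_add]
      | tmul r s =>
        rw [← DirectSum.sum_support_decompose 𝒜 r, TensorProduct.sum_tmul, Finset.mul_sum, map_sum, map_sum,
          Finset.mul_sum]
        refine Finset.sum_congr rfl fun p _ => ?_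
        rw [Algebra.TensorProduct.tmul_mul_tmul, hπ _ _ (SetLike.mul_mem_graded ha (SetLike.coe_mem _)),
          hπ _ _ (SetLike.coe_mem _), Algebra.TensorProduct.tmul_mul_tmul]
        congr 1
        show GradedAlgebra.proj ℬ (n + p) (b * s) = b * GradedAlgebra.proj ℬ p s
        rw [GradedAlgebra.proj_apply, GradedAlgebra.proj_apply]
        exact DirectSum.coe_decompose_mul_add_of_left_mem ℬ hb
  -- the image of `π` lies in the Segre product
  have himg : ∀ x, π x ∈ LinearMap.range ψ.toLinearMap := by
    intro x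
    induction x using TensorProduct.induction_on with
    | zero => simp
    | add x y hx hy => rw [map_add]; exact add_mem hx hy
    | tmul r s =>
      rw [← DirectSum.sum_support_decompose 𝒜 r, TensorProduct.sum_tmul, map_sum]
      refine Submodule.sum_mem _ fun p _ => ?_
      rw [hπ _ _ (SetLike.coe_mem _)]
      refine (LinearMap.map_le_range : (𝒯 p).map ψ.toLinearMap ≤ _) ?_
      rw [hdegT p]
      exact Submodule.subset_span ⟨_, SetLike.coe_mem _, _, SetLike.coe_mem _, rfl⟩
  have hT : ∀ (t : T) x, π (ψ t * x) = ψ t * π x := by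
    intro t x
    rw [← DirectSum.sum_support_decompose 𝒯 t, map_sum, Finset.sum_mul, map_sum, Finset.sum_mul]
    exact Finset.sum_congr rfl fun p _ =>
      hlin p _ (by show _ ∈ A p; exact (hdegT p).le ⟨_, SetLike.coe_mem _, rfl⟩) x
  have hψπ : ∀ t : T, π (ψ t) = ψ t := by
    intro t
    rw [← mul_one (ψ t), hT]
    congr 1
    rw [Algebra.TensorProduct.one_def, hπ 0 1 SetLike.GradedOne.one_mem]
    congr 1
    show GradedAlgebra.proj ℬ 0 1 = 1
    rw [GradedAlgebra.proj_apply]
    exact DirectSum.decompose_of_mem_same ℬ SetLike.GradedOne.one_mem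
  have : IsNoetherianRing (TensorProduct k R S) := by
    have : Algebra.FiniteType k (TensorProduct k R S) := Algebra.FiniteType.trans (R := k) (S := R) inferInstance (Algebra.FiniteType.baseChange (A := S) R)
    exact Algebra.FiniteType.isNoetherianRing k _
  have hcontr : ∀ I : Ideal T, (I.map ψ).comap ψ = I := by
    intro I
    refine le_antisymm (fun t ht => ?_) Ideal.le_comap_map
    have hgen : ∀ x ∈ I.map ψ, ∀ z, π (z * x) ∈ (I : Set T).image ψ := by
      intro x hx
      induction hx using Submodule.span_induction with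
      | zero => exact fun z => ⟨0, I.zero_mem, by simp⟩
      | mem x hx =>
        obtain ⟨i, hi, rfl⟩ := hx
        intro z
        obtain ⟨u, hu⟩ := himg z
        refine ⟨i * u, I.mul_mem_right u hi, ?_⟩
        rw [mul_comm z, hT, map_mul]
        exact congrArg _ hu
      | add x y _ _ hx hy =>
        intro z
        obtain ⟨u, hu, hu'⟩ := hx z
        obtain ⟨v, hv, hv'⟩ := hy z
        exact ⟨u + v, I.add_mem hu hv, by rw [map_add, hu', hv', mul_add, map_add]⟩
      | smul c x _ hx =>
        intro z
        rw [smul_eq_mul, ← mul_assoc]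
        exact hx (z * c)
    obtain ⟨u, hu, hu'⟩ := hgen (ψ t) ht 1
    rw [one_mul, hψπ] at hu'
    rwa [← hψ hu']
  have hmono : StrictMono fun I : Ideal T => I.map ψ :=
    Monotone.strictMono_of_injective (fun _ _ h => Ideal.map_mono h)
      fun I J h => by rw [← hcontr I, ← hcontr J]; exact congrArg _ h
  exact isNoetherianRing_iff.2 (isNoetherian_iff'.2 hmono.wellFoundedGT)

end Groth.Agent.S18646
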