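import Groth.Statements.S1865
import Groth.Agent.GrpComp.Field

set_option autoImplicit false
universe u v
open CategoryTheory MonoidalCategory CartesianMonoidalCategory MonObj GrpObj AlgebraicGeometry
open GrpSch

namespace Groth.Agent.S1865

/-- A group scheme over a field contains an open and closed subset containing the identity point which
is a countable union of affine opens. (The source does not mention the identity point; its
construction contains it, and without it the empty set would do.) -/
theorem result (K : Type u) [Field K] (G : Over (Spec (CommRingCat.of K))) [GrpObj G] : ∃ U : G.left.Opens, IsClosed (U : Set G.left) ∧ η[G].left (IsLocalRing.closedPoint K) ∈ U ∧ ∃ V : ℕ → G.left.Opens, (∀ n, IsAffineOpen (V n)) ∧ (U : Set G.left) = ⋃ n, (V n : Set G.left) := by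

  classical
  obtain ⟨V, hV, heV, -⟩ := exists_isAffineOpen_mem_and_subset
    (show Groth.Agent.GrpComp.ept G ∈ (⊤ : G.left.Opens) from trivial)
  obtain ⟨hcl, hc⟩ := Groth.Agent.GrpComp.isClopen_closure' G V hV.isCompact
  refine ⟨⟨_, hcl.isOpen⟩, hcl.isClosed, subset_closure heV, ?_⟩
  obtain ⟨s, hs, he⟩ :=
    (isCompact_and_isOpen_iff_finite_and_eq_biUnion_affineOpens (X := G.left)).1 ⟨hc, hcl.isOpen⟩
  obtain ⟨l, hl⟩ : ∃ l : List G.left.affineOpens, ∀ U, U ∈ l ↔ U ∈ s :=
    ⟨hs.toFinset.toList, fun U => by simp⟩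
  refine ⟨fun n => (l.getD n ⟨⊥, isAffineOpen_bot G.left⟩).1,
    fun n => (l.getD n ⟨⊥, isAffineOpen_bot G.left⟩).2, ?_⟩
  change closure (V : Set G.left) = _
  rw [he]
  refine subset_antisymm (fun x hx => ?_) (fun x hx => ?_)
  · obtain ⟨U, hU, hxU⟩ := Set.mem_iUnion₂.1 hx
    obtain ⟨i, hi, rfl⟩ := List.getElem_of_mem ((hl U).2 hU)
    refine Set.mem_iUnion.2 ⟨i, ?_⟩
    beta_reduce
    rw [List.getD_eq_getElem l _ hi]; exact hxU
  · obtain ⟨i, hi⟩ := Set.mem_iUnion.1 hx
    beta_reduce at hi
    by_cases h : i < l.length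
    · rw [List.getD_eq_getElem l _ h] at hi
      exact Set.mem_biUnion ((hl _).1 (List.getElem_mem h)) hi
    · rw [List.getD_eq_default l _ (not_lt.1 h)] at hi
      exact hi.elim

end Groth.Agent.S1865
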