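import Groth.Statements.S18650
import Groth.Agent.GrCore.GorConv

set_option autoImplicit false
set_option backward.isDefEq.respectTransparency false
set_option backward.isDefEq.respectTransparency.types false
universe u
open GrLC

namespace Groth.Agent.S18650

/-- The case M = R of the published statement. Let R be a commutative Noetherian ℤ-graded ring which is
H-local, i.e. has a unique maximal graded ideal m, and which is Cohen–Macaulay, with ht m = n. Then
R is a Gorenstein ring if and only if the graded local cohomology module H^n_m(R) is an injective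
object of the category of graded R-modules. Here H^n_m(R) is computed from a *injective resolution I
of R in the graded category, and its *injectivity is expressed as the existence of a *injective
graded R-module X and an R-linear isomorphism H^n_m(R) ≅ X preserving degrees. (The published item
is stated for a Cohen–Macaulay graded module M and the notion of Gorenstein module; this row is its
case M = R.) -/
theorem result (R : Type u) [CommRing R] [LocCoh.IsCohenMacaulayRing R] (𝒜 : ℤ → AddSubgroup R) [GradedRing 𝒜] (m : HomogeneousIdeal 𝒜) (hm : GrLC.IsStarLocal 𝒜 m) (n : ℕ) (hn : m.toIdeal.height = n) (I : GrLC.StarInjRes 𝒜 𝒜) : LocCoh.IsGorensteinRing R ↔ ∃ (X : GrLC.GMod.{u} 𝒜) (φ : I.H m n ≃ₗ[R] X.carrier), GrLC.IsStarInj 𝒜 X.gr ∧ GrLC.IsGrHom (I.Hgr m n) X.gr φ.toLinearMap := by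
  haveI := Groth.Agent.GrCore.isPrime_starLocal hm
  constructor
  · intro hG
    letI decQ : DirectSum.Decomposition (GrLC.quotGr 𝒜 m) :=
      Groth.Agent.GrLCLib.quotDec 𝒜 m.toIdeal (fun x hx g => m.isHomogeneous g hx)
    haveI : SetLike.GradedSMul 𝒜 (GrLC.quotGr 𝒜 m) := ⟨fun {a b r x} hr hx => by
      obtain ⟨z, hz, rfl⟩ := hx
      exact ⟨r * z, SetLike.mul_mem_graded hr hz, map_mul (Ideal.Quotient.mk m.toIdeal) r z⟩⟩
    obtain ⟨Y, e, he⟩ := Groth.Agent.GrLCHull.exists_hull 𝒜 (GrLC.quotGr 𝒜 m)
    obtain ⟨δ, φ, hφ⟩ := Groth.Agent.GrCore.exists_top_equiv hm I hn Y.carrier Y.gr e he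
    exact ⟨Groth.Agent.GrLCLib.shiftObj 𝒜 Y.gr δ, φ, Groth.Agent.GrLCLib.isStarInj_shift he.starInj δ,
      fun g x hx => hφ g x hx⟩
  · rintro ⟨X, φ, hX, hφ⟩
    exact Groth.Agent.GrGor.isGorensteinRing_of_starLocal hm
      (Groth.Agent.GrCore.isGorensteinLocal_of_starInj_top hm I hn X φ hX hφ)

end Groth.Agent.S18650
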