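import Groth.Statements.S18651
import Groth.Agent.GrLCLib.ToAdd
import Groth.Agent.S18638
import Groth.Agent.GrLCLib.MulRes
import Groth.Agent.GrLCLib.Bridge
import Groth.Agent.GrCanon.Degree
import Groth.Agent.CechX.KoszulPoly
import Groth.Agent.Goren.Liaison

set_option autoImplicit false
set_option backward.isDefEq.respectTransparency false
set_option backward.isDefEq.respectTransparency.types false
universe u
attribute [local instance] MvPolynomial.weightedGradedAlgebra
open GrLC

open Groth.Agent.GrLCLib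

namespace Groth.Agent.S18651

/-- Let k be a field and R = k[X_1, …, X_N] the polynomial ring with deg X_i = w_i > 0. Then the
canonical module of R is K_R = X_1 X_2 ⋯ X_N · R ≅ R(−d) with d = w_1 + ⋯ + w_N; stated here as:
there is a bijective R-linear map R → K_R homogeneous of degree d. The canonical module is
represented by a finitely generated graded module C together with a homogeneous isomorphism from
Hom_R(C, E) onto H^N_m(R), where m = R_+, E is a *injective envelope of R/m and H^N_m(R) is computed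
from a *injective resolution of R in the graded category; by graded Matlis duality this says exactly
that C ≅ K_R as graded modules. -/
theorem result (k : Type u) [Field k] (N : ℕ) (w : Fin N → ℤ) (hw : ∀ i, 0 < w i) (m : HomogeneousIdeal (MvPolynomial.weightedHomogeneousSubmodule k w)) (hm : GrLC.IsStarLocal (MvPolynomial.weightedHomogeneousSubmodule k w) m) (hmsp : m.toIdeal = Ideal.span (⋃ n ∈ Set.Ioi (0 : ℤ), (MvPolynomial.weightedHomogeneousSubmodule k w n : Set (MvPolynomial (Fin N) k)))) (I : GrLC.StarInjRes (MvPolynomial.weightedHomogeneousSubmodule k w) (MvPolynomial.weightedHomogeneousSubmodule k w)) (E' : Type u) [AddCommGroup E'] [Module (MvPolynomial (Fin N) k) E'] (𝓔 : ℤ → AddSubgroup E') [DirectSum.Decomposition 𝓔] [SetLike.GradedSMul (MvPolynomial.weightedHomogeneousSubmodule k w) 𝓔] (e : (MvPolynomial (Fin N) k ⧸ m.toIdeal) →ₗ[MvPolynomial (Fin N) k] E') (he : GrLC.IsStarInjHull (MvPolynomial.weightedHomogeneousSubmodule k w) (GrLC.quotGr (MvPolynomial.weightedHomogeneousSubmodule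 k w) m) 𝓔 e) (C : Type u) [AddCommGroup C] [Module (MvPolynomial (Fin N) k) C] (𝒞 : ℤ → AddSubgroup C) [DirectSum.Decomposition 𝒞] [SetLike.GradedSMul (MvPolynomial.weightedHomogeneousSubmodule k w) 𝒞] (hC : GrLC.IsStarCanonical (MvPolynomial.weightedHomogeneousSubmodule k w) 𝒞 𝓔 m N I) : ∃ f : MvPolynomial (Fin N) k →ₗ[MvPolynomial (Fin N) k] C, Function.Bijective f ∧ GrLC.IsGrHomDeg (MvPolynomial.weightedHomogeneousSubmodule k w) 𝒞 f ((Finset.univ : Finset (Fin N)).sum w) := by
  let R := MvPolynomial (Fin N) k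
  let 𝒲 := MvPolynomial.weightedHomogeneousSubmodule k w
  have hwt : ∀ d : Fin N →₀ ℕ, Finsupp.weight w d = ∑ i, (d i : ℤ) * w i := fun d => by
    rw [Finsupp.weight_apply, Finsupp.sum_fintype _ _ (fun i => zero_smul ℕ (w i))]
    exact Finset.sum_congr rfl fun i _ => nsmul_eq_mul _ _
  have hwnn : ∀ d : Fin N →₀ ℕ, 0 ≤ Finsupp.weight w d := fun d => by
    rw [hwt]
    exact Finset.sum_nonneg fun i _ => mul_nonneg (Int.natCast_nonneg _) (hw i).le
  have hw0 : ∀ d : Fin N →₀ ℕ, Finsupp.weight w d = 0 → d = 0 := fun d hd => by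
    rw [hwt] at hd
    ext i
    have h := (Finset.sum_eq_zero_iff_of_nonneg fun i _ => mul_nonneg (Int.natCast_nonneg _) (hw i).le).1 hd i
      (Finset.mem_univ i)
    have := (mul_eq_zero.1 h).resolve_right (hw i).ne'
    simpa using this
  have hpos : ∀ g : ℤ, g < 0 → addGr 𝒲 g = ⊥ := fun g hg => (AddSubgroup.eq_bot_iff_forall _).2 fun p hp => by
    ext d
    rw [MvPolynomial.coeff_zero]
    by_contra hd
    have := (MvPolynomial.mem_weightedHomogeneousSubmodule _ _ _ _).1 hp hd
    have := hwnn d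
    omega
  have hzero : ∀ p ∈ 𝒲 0, p = MvPolynomial.C (MvPolynomial.coeff 0 p) := fun p hp => by
    ext d
    rw [MvPolynomial.coeff_C]
    split
    · rename_i h
      rw [h]
    · rename_i h
      by_contra hd
      exact h (hw0 d ((MvPolynomial.mem_weightedHomogeneousSubmodule _ _ _ _).1 hp hd)).symm
  have hX : ∀ i, (MvPolynomial.X i : R) ∈ 𝒲 (w i) := fun i =>
    MvPolynomial.isWeightedHomogeneous_X k w i
  have hspan : m.toIdeal = Ideal.span (Set.range (MvPolynomial.X : Fin N → R)) := by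
    rw [hmsp]
    refine le_antisymm (Ideal.span_le.2 ?_) (Ideal.span_le.2 ?_)
    · intro p hp
      obtain ⟨g, hg, hp⟩ := Set.mem_iUnion₂.1 hp
      rw [SetLike.mem_coe, ← Set.image_univ, MvPolynomial.mem_ideal_span_X_image]
      intro d hd
      by_contra hcon
      push Not at hcon
      have hd0 : d = 0 := Finsupp.ext fun i => hcon i trivial
      have h := (MvPolynomial.mem_weightedHomogeneousSubmodule _ _ _ _).1 hp (MvPolynomial.mem_support_iff.1 hd)
      rw [hd0, map_zero] at h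
      exact (Set.mem_Ioi.1 hg).ne h
    · rintro _ ⟨i, rfl⟩
      exact Ideal.subset_span (Set.mem_iUnion₂.2 ⟨w i, hw i, hX i⟩)
  let mA := idealAdd 𝒲 m
  have hmA : GrLC.IsStarLocal (addGr 𝒲) mA := isStarLocal_idealAdd 𝒲 hm
  let IA := resSelfAdd 𝒲 I
  haveI : LocCoh.IsGorensteinRing R := Groth.Agent.Goren.isGorensteinRing_mvPolynomial_fin k
    (Groth.Agent.Goren.isGorensteinRing_of_regular k inferInstance) N
  haveI : LocCoh.IsCohenMacaulayRing R :=
    { isCohenMacaulayLocalRing_localization := fun p _ =>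
        haveI := LocCoh.IsGorensteinRing.isGorensteinLocalRing_localization (A := R) p
        Groth.Agent.Goren.isCohenMacaulay _ }
  have hdim : ringKrullDim R = N := by
    rw [MvPolynomial.ringKrullDim_of_isNoetherianRing, ringKrullDim_eq_zero_of_field, zero_add]
    simp
  have h0 : IsField (GrLC.deg0 (addGr 𝒲)) := by
    refine ⟨⟨0, 1, fun h => zero_ne_one (α := R) (congrArg Subtype.val h)⟩, mul_comm, fun {a} ha => ?_⟩
    have hc := hzero a.1 a.2
    have hne : MvPolynomial.coeff 0 a.1 ≠ 0 := fun h => ha (Subtype.ext (hc.trans (by rw [h, map_zero]; rfl)))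
    refine ⟨⟨MvPolynomial.C (MvPolynomial.coeff 0 a.1)⁻¹, MvPolynomial.isWeightedHomogeneous_C w _⟩, Subtype.ext ?_⟩
    show a.1 * MvPolynomial.C _ = 1
    rw [hc, MvPolynomial.coeff_C, if_pos rfl, ← map_mul, mul_inv_cancel₀ hne, map_one]
  have heA : GrLC.IsStarInjHull (addGr 𝒲) (GrLC.quotGr (addGr 𝒲) mA) 𝓔 e :=
    { grHom := he.grHom
      injective := he.injective
      essential := he.essential
      starInj := isStarInj_addGr 𝒲 𝓔 he.starInj }
  have hCA : GrLC.IsStarCanonical (addGr 𝒲) 𝒞 𝓔 mA N IA := hC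
  haveI : Module.Finite R C := hC.1
  obtain ⟨a, f, hf, hfdeg⟩ := (Groth.Agent.S18638.result R (addGr 𝒲) hpos h0 mA hmA hmsp N hdim IA E' 𝓔 e heA C 𝒞 hCA).1
    inferInstance
  suffices ha : a = ∑ i, w i by exact ⟨f, hf, ha ▸ fun g x hx => hfdeg g x hx⟩
  -- the end of the top cohomology is `-a`
  have he0 : e 1 ∈ 𝓔 0 := he.grHom 0 1 ⟨1, SetLike.one_mem_graded 𝒲, rfl⟩
  have hmtop : m.toIdeal ≠ ⊤ := isStarLocal_ne_top (𝒜 := addGr 𝒲) hmA
  have he1 : e 1 ≠ 0 := fun h => hmtop ((Ideal.eq_top_iff_one _).2 (Ideal.Quotient.eq_zero_iff_mem.1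
    (he.injective (h.trans (map_zero e).symm) : Ideal.Quotient.mk m.toIdeal 1 = 0)))
  obtain ⟨-, φ, hφ⟩ := hCA
  letI decH : DirectSum.Decomposition (IA.Hgr mA N) := (isInternal_Hgr IA mA N).chooseDecomposition
  let fe : R ≃ₗ[R] C := LinearEquiv.ofBijective f hf
  have hlam : ∀ (d : ℤ) (v : E'), v ∈ 𝓔 d →
      φ (LinearMap.toSpanSingleton R E' v ∘ₗ fe.symm.toLinearMap) ∈ IA.Hgr mA N (d - a) := by
    intro d v hv
    refine hφ (d - a) _ fun g x hx => ?_
    obtain ⟨r, rfl⟩ := fe.surjective x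
    rw [LinearMap.comp_apply, LinearEquiv.coe_coe, fe.symm_apply_apply, LinearMap.toSpanSingleton_apply]
    have hr : fe r = fe (pr (addGr 𝒲) (g - a) r) := by
      letI := shiftDec 𝒞 a
      have h := pr_map (addGr 𝒲) (shiftPiece 𝒞 a) (f := f) (fun i y hy => hfdeg i y hy) (g - a) r
      rw [pr_of_mem (shiftPiece 𝒞 a) (show f r ∈ shiftPiece 𝒞 a (g - a) from by
        show f r ∈ 𝒞 (g - a + a); rw [sub_add_cancel]; exact hx)] at h
      exact h
    rw [fe.injective hr, show g + (d - a) = g - a + d by ring]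
    exact smul_mem (addGr 𝒲) 𝓔 (pr_mem _ _ r) hv
  have hend : GrLC.endDeg (IA.Hgr mA N) = (((-a : ℤ) : WithTop ℤ) : WithBot (WithTop ℤ)) := by
    refine le_antisymm ((endDeg_le_iff IA mA N (-a)).2 fun g hg => (hgr_eq_bot_iff IA mA N g).1
      ((AddSubgroup.eq_bot_iff_forall _).2 fun z hz => ?_)) (le_iSup₂_of_le (-a) (fun h => ?_) le_rfl)
    · obtain ⟨l, rfl⟩ := φ.surjective z
      have hl : l = LinearMap.toSpanSingleton R E' (l (f 1)) ∘ₗ fe.symm.toLinearMap := LinearMap.ext fun x => by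
        obtain ⟨r, rfl⟩ := fe.surjective x
        rw [LinearMap.comp_apply, LinearEquiv.coe_coe, fe.symm_apply_apply, LinearMap.toSpanSingleton_apply,
          ← map_smul, ← map_smul, smul_eq_mul, mul_one]
        rfl
      rw [← pr_of_mem (IA.Hgr mA N) hz, hl]
      generalize l (f 1) = v
      induction v using DirectSum.Decomposition.inductionOn 𝓔 with
      | zero => simp
      | @homogeneous d q =>
        by_cases hd : 0 < d
        · rw [Groth.Agent.GrCanon.hull_eq_zero_of_pos hpos hmA heA hd q.2]; simp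
        · exact pr_of_mem_ne (IA.Hgr mA N) (hlam d q q.2) (by omega)
      | add v₁ v₂ h₁ h₂ =>
        rw [LinearMap.toSpanSingleton_add, LinearMap.add_comp, map_add, map_add, h₁, h₂, add_zero]
    · have h1 := hlam 0 (e 1) he0
      rw [zero_sub, h] at h1
      have h2 := congrArg (fun l : C →ₗ[R] E' => l (f 1))
        (φ.injective ((AddSubgroup.mem_bot.1 h1).trans (map_zero φ).symm))
      simp only [LinearMap.comp_apply, LinearEquiv.coe_coe, LinearMap.zero_apply] at h2
      rw [show fe.symm (f 1) = 1 from fe.symm_apply_apply 1, LinearMap.toSpanSingleton_apply, one_smul] at h2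
      exact he1 h2
  -- and it is `-∑ w`
  have hX' : ∀ i, (MvPolynomial.X i : R) ∈ addGr 𝒲 (w i) := hX
  have hgen : mA.toIdeal = Ideal.span (Set.range (MvPolynomial.X : Fin N → R)) := hspan
  have hK : Homog (addGr 𝒲) mA.toIdeal := fun y hy g => mA.isHomogeneous g hy
  let Q := quotObj (addGr 𝒲) (addGr 𝒲) mA.toIdeal hK
  obtain ⟨EQ⟩ := nonempty_starInjRes (addGr 𝒲) Q.gr
  have hmh : mA.toIdeal.height = (N : ℕ∞) :=
    WithBot.coe_inj.1 ((ringKrullDim_eq_height hpos hmA).symm.trans hdim)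
  have hvan : ∀ i < 0 + N, ∀ e, Van IA mA i e := fun i hi e =>
    van_of_subsingleton IA mA (subsingleton_H_of_lt_height (I := mA.toIdeal) hmtop
      (by rw [hmh]; exact_mod_cast (show i < N by omega))) e
  let π : (GrLC.GMod.of (addGr 𝒲) R (addGr 𝒲)).carrier →ₗ[R] Q.carrier := mA.toIdeal.mkQ
  have hker : LinearMap.ker mA.toIdeal.mkQ =
      Ideal.span (Set.range (MvPolynomial.X : Fin N → R)) • (⊤ : Submodule R R) :=
    (Submodule.ker_mkQ _).trans (hgen.trans (Ideal.mul_top _).symm)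
  have hq := endDeg_quot_seq mA EQ N (GrLC.GMod.of (addGr 𝒲) R (addGr 𝒲)) IA 0 hvan MvPolynomial.X w hX'
    (fun i => Or.inl (hw i).le) (fun b => hgen ▸ Ideal.subset_span ⟨b, rfl⟩)
    (Groth.Agent.CechX.isWeaklyRegular_X N) π (mkQ_grHom (addGr 𝒲) _) (Submodule.mkQ_surjective mA.toIdeal) hker
  have hkill : GrLC.gam mA.toIdeal Q.carrier = ⊤ := eq_top_iff.2 fun q _ => ⟨1, fun r hr => by
    obtain ⟨z, rfl⟩ := Submodule.mkQ_surjective mA.toIdeal q
    refine (map_smul π r z).symm.trans ((Submodule.Quotient.mk_eq_zero _).2 ?_)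
    exact Ideal.mul_mem_right z _ (by simpa using hr)⟩
  have hQ0 : GrLC.endDeg (EQ.Hgr mA 0) = (((0 : ℤ) : WithTop ℤ) : WithBot (WithTop ℤ)) := by
    refine le_antisymm ((endDeg_le_iff EQ _ 0 0).2 fun g hg => (van_zero_iff EQ _ g).2 ?_)
      (le_iSup₂_of_le 0 (fun h => ?_) le_rfl)
    · rintro _ ⟨z, hz, rfl⟩ -
      exact (Submodule.Quotient.mk_eq_zero _).2
        (hmsp.symm ▸ Ideal.subset_span (Set.mem_iUnion₂.2 ⟨g, hg, hz⟩) : z ∈ m.toIdeal)
    · have hv := (van_zero_iff EQ _ 0).1 ((hgr_eq_bot_iff EQ _ 0 0).1 h) _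
        ⟨1, SetLike.one_mem_graded (addGr 𝒲), rfl⟩ (hkill ▸ Submodule.mem_top)
      exact hmtop ((Ideal.eq_top_iff_one _).2 ((Submodule.Quotient.mk_eq_zero _).1 hv))
  rw [hQ0, zero_add, hend, ← WithBot.coe_add, WithBot.coe_inj, ← WithTop.coe_add, WithTop.coe_inj] at hq
  omega

end Groth.Agent.S18651
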