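import Groth.Statements.S18653
import Groth.Agent.DimFormula.Field
import Mathlib.RingTheory.MvPolynomial.Homogeneous
import Mathlib.FieldTheory.IsAlgClosed.Basic
import Mathlib.RingTheory.GradedAlgebra.Basic
import Mathlib.Algebra.MonoidAlgebra.Basic
import Mathlib.Algebra.Polynomial.AlgebraMap
import Mathlib.RingTheory.Localization.FractionRing
import Mathlib.GroupTheory.ArchimedeanDensely
import Mathlib.RingTheory.Int.Basic
import Mathlib.RingTheory.PrincipalIdealDomain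
import Mathlib.RingTheory.KrullDimension.Field
import Mathlib.Tactic.FieldSimp

set_option autoImplicit false
universe u
open GrLC

namespace Groth.Agent.S18653

section
variable (k : Type u) [Field k] (R : Type u) [CommRing R] [IsDomain R] [Algebra k R]
variable (𝒜 : ℤ → Submodule k R) [GradedAlgebra 𝒜]

theorem component_aeval (n : ℤ) (hn : n ≠ 0) (v : Fin 2 → R) (hv : ∀ i, v i ∈ 𝒜 n) (P : MvPolynomial (Fin 2) k)
    (hP : MvPolynomial.aeval v P = 0) (d : ℕ) :
    MvPolynomial.aeval v (MvPolynomial.homogeneousComponent d P) = 0 := by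
  classical
  have hmem : ∀ i : ℕ, MvPolynomial.aeval v (MvPolynomial.homogeneousComponent i P) ∈ 𝒜 ((i : ℤ) * n) := fun i => by
    have hhom := MvPolynomial.homogeneousComponent_isHomogeneous i P
    rw [MvPolynomial.aeval_def, MvPolynomial.eval₂_eq]
    refine sum_mem fun m hm => ?_
    rw [← Algebra.smul_def]
    refine Submodule.smul_mem _ _ ?_
    have hdeg : ((∑ j ∈ m.support, m j : ℕ) : ℤ) = i := by
      have := hhom (MvPolynomial.mem_support_iff.1 hm)
      simp only [Finsupp.weight_apply, Pi.one_apply, smul_eq_mul, mul_one, Finsupp.sum] at this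
      exact_mod_cast this
    rw [← hdeg, Nat.cast_sum, Finset.sum_mul]
    refine SetLike.prod_mem_graded (A := 𝒜) _ _ fun j _ => ?_
    rw [← nsmul_eq_mul]
    exact SetLike.pow_mem_graded (m j) (hv j)
  by_cases hd : d ∈ Finset.range (P.totalDegree + 1)
  · have h := congrArg (GradedAlgebra.proj 𝒜 ((d : ℤ) * n)) hP
    conv_lhs at h => rw [← MvPolynomial.sum_homogeneousComponent P, map_sum, map_sum]
    simp only [GradedAlgebra.proj_apply, map_zero] at h
    rw [Finset.sum_eq_single d (fun i _ hi => DirectSum.decompose_of_mem_ne 𝒜 (hmem i)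
      (fun h' => hi (by exact_mod_cast mul_right_cancel₀ hn h'))) (fun h' => absurd hd h'),
      DirectSum.decompose_of_mem_same 𝒜 (hmem d)] at h
    simpa using h
  · rw [MvPolynomial.homogeneousComponent_eq_zero _ _ (by simp at hd; omega), map_zero]

theorem rank_one [IsAlgClosed k] (hpos : ∀ n : ℤ, n < 0 → 𝒜 n = ⊥) (h0 : 𝒜 0 = Submodule.span k {(1 : R)})
    (htr : Algebra.trdeg k R = 1)
    (n : ℤ) (x : R) (hx : x ∈ 𝒜 n) (y : R) (hy : y ∈ 𝒜 n) (hx0 : x ≠ 0) : ∃ c : k, y = c • x := by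
  rcases lt_trichotomy n 0 with hn | rfl | hn
  · rw [hpos n hn, Submodule.mem_bot] at hx; exact absurd hx hx0
  · rw [h0, Submodule.mem_span_singleton] at hx hy
    obtain ⟨a, rfl⟩ := hx
    obtain ⟨b, rfl⟩ := hy
    have ha : a ≠ 0 := fun h => hx0 (by rw [h, zero_smul])
    exact ⟨b / a, by rw [smul_smul, div_mul_cancel₀ _ ha]⟩
  have hdep : ¬ AlgebraicIndependent k ![x, y] := fun h => by
    have h2 := h.lift_cardinalMk_le_trdeg
    rw [htr, Cardinal.mk_fin] at h2
    simp at h2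
  rw [algebraicIndependent_iff] at hdep
  push Not at hdep
  obtain ⟨P, hP, hP0⟩ := hdep
  obtain ⟨d, hd⟩ : ∃ d, MvPolynomial.homogeneousComponent d P ≠ 0 := by
    by_contra! h
    exact hP0 (by rw [← MvPolynomial.sum_homogeneousComponent P]; exact Finset.sum_eq_zero fun i _ => h i)
  set Q := MvPolynomial.homogeneousComponent d P
  have hQ : MvPolynomial.aeval ![x, y] Q = 0 :=
    component_aeval k R 𝒜 n hn.ne' ![x, y] (by simp [Fin.forall_fin_two, hx, hy]) P hP d
  have hQh := MvPolynomial.homogeneousComponent_isHomogeneous d P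
  let K := FractionRing R
  let ι := algebraMap R K
  have hxK : ι x ≠ 0 := fun h => hx0 (IsFractionRing.injective R K (by rw [h, map_zero]))
  set z : K := ι y / ι x
  -- dehomogenise
  let q : Polynomial k := MvPolynomial.aeval ![1, Polynomial.X] Q
  have hq0 : q ≠ 0 := by
    intro hq
    apply hd
    ext m
    by_cases hm : m.degree = d
    · have := congrArg (fun r => Polynomial.coeff r (m 1)) hq
      simp only [q, Polynomial.coeff_zero, MvPolynomial.aeval_def, MvPolynomial.eval₂_eq', Fin.prod_univ_two, Polynomial.finsetSum_coeff] at this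
      rw [MvPolynomial.coeff_zero]
      by_contra hne
      rw [Finset.sum_eq_single m (fun m' hm' hne' => ?_) (fun h => absurd (MvPolynomial.notMem_support_iff.1 h) hne)] at this
      · simp [Polynomial.coeff_X_pow] at this
        exact hne this
      · have hd' : m'.degree = d := by
          by_contra hh
          exact MvPolynomial.mem_support_iff.1 hm' (hQh.coeff_eq_zero hh)
        have hm1 : m' 1 ≠ m 1 := fun h1 => hne' (Finsupp.ext fun i => by
          rw [Finsupp.degree_eq_sum, Fin.sum_univ_two] at hd' hm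
          fin_cases i
          · show m' 0 = m 0; omega
          · exact h1)
        simp [Polynomial.coeff_X_pow, hm1.symm]
    · rw [hQh.coeff_eq_zero hm, MvPolynomial.coeff_zero]
  have hzq : Polynomial.aeval z q = 0 := by
    have h1 : Polynomial.aeval z q = MvPolynomial.aeval ![1, z] Q := by
      simp only [q, ← AlgHom.comp_apply, MvPolynomial.comp_aeval]
      congr 2; funext i; fin_cases i <;> simp
    have h2 : MvPolynomial.aeval ![ι x, ι y] Q = 0 := by
      rw [show (![ι x, ι y] : Fin 2 → K) = fun i => (IsScalarTower.toAlgHom k R K) (![x, y] i) by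
        funext i; fin_cases i <;> rfl, ← MvPolynomial.comp_aeval, AlgHom.comp_apply, hQ, map_zero]
    have h3 : MvPolynomial.aeval ![ι x, ι y] Q = ι x ^ d * MvPolynomial.aeval ![1, z] Q := by
      rw [MvPolynomial.aeval_def, MvPolynomial.aeval_def, MvPolynomial.eval₂_eq', MvPolynomial.eval₂_eq', Finset.mul_sum]
      simp only [Fin.prod_univ_two]
      refine Finset.sum_congr rfl fun m hm => ?_
      have hd' : m.degree = d := by
        by_contra hh
        exact MvPolynomial.mem_support_iff.1 hm (hQh.coeff_eq_zero hh)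
      rw [Finsupp.degree_eq_sum, Fin.sum_univ_two] at hd'
      simp only [Matrix.cons_val_zero, Matrix.cons_val_one, one_pow, one_mul, z, div_pow, ← hd', pow_add]
      linear_combination (-(algebraMap k K (MvPolynomial.coeff m Q) * ι x ^ m 0)) * (mul_div_cancel₀ (ι y ^ m 1) (pow_ne_zero (m 1) hxK))
    rw [h1]
    exact (mul_eq_zero.1 (h3.symm.trans h2)).resolve_left (pow_ne_zero _ hxK)
  have halg : IsAlgebraic k z := ⟨q, hq0, hzq⟩
  obtain ⟨c, hc⟩ := minpoly.mem_range_of_degree_eq_one k z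
    (IsAlgClosed.degree_eq_one_of_irreducible k (minpoly.irreducible halg.isIntegral))
  refine ⟨c, IsFractionRing.injective R K ?_⟩
  rw [Algebra.smul_def, map_mul, ← IsScalarTower.algebraMap_apply, hc, div_mul_cancel₀ _ hxK]

theorem coherent (S : AddSubmonoid ℕ) (hS : ∀ n, n ∈ S ↔ ∃ x ∈ 𝒜 (n : ℤ), x ≠ 0)
    (hone : ∀ n : ℤ, ∀ x ∈ 𝒜 n, ∀ y ∈ 𝒜 n, x ≠ 0 → ∃ c : k, y = c • x) :
    ∃ (t : ℕ → FractionRing R) (_ : t 0 = 1 ∧ ∀ a b, a ∈ S → b ∈ S → t (a + b) = t a * t b),
      ∀ n ∈ S, ∃ e ∈ 𝒜 (n : ℤ), e ≠ 0 ∧ algebraMap R (FractionRing R) e = t n := by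
  let K := FractionRing R
  let ι := algebraMap R K
  have hι : Function.Injective ι := IsFractionRing.injective R K
  have hne : ∀ r : R, r ≠ 0 → ι r ≠ 0 := fun r hr h => hr (hι (by rw [h, map_zero]))
  let G : AddSubgroup ℤ :=
    { carrier := {n | ∃ i j : ℤ, (∃ a ∈ 𝒜 i, a ≠ 0) ∧ (∃ b ∈ 𝒜 j, b ≠ 0) ∧ n = i - j}
      zero_mem' := ⟨0, 0, ⟨1, SetLike.one_mem_graded 𝒜, one_ne_zero⟩, ⟨1, SetLike.one_mem_graded 𝒜, one_ne_zero⟩, by simp⟩
      add_mem' := by
        rintro _ _ ⟨i, j, ⟨a, ha, ha0⟩, ⟨b, hb, hb0⟩, rfl⟩ ⟨i', j', ⟨a', ha', ha0'⟩, ⟨b', hb', hb0'⟩, rfl⟩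
        exact ⟨i + i', j + j', ⟨a * a', SetLike.mul_mem_graded ha ha', mul_ne_zero ha0 ha0'⟩,
          ⟨b * b', SetLike.mul_mem_graded hb hb', mul_ne_zero hb0 hb0'⟩, by ring⟩
      neg_mem' := by rintro _ ⟨i, j, ha, hb, rfl⟩; exact ⟨j, i, hb, ha, by ring⟩ }
  obtain ⟨g, hg⟩ := Int.subgroup_cyclic G
  obtain ⟨i, j, ⟨a, ha, ha0⟩, ⟨b, hb, hb0⟩, hgij⟩ : g ∈ G := hg ▸ AddSubgroup.mem_closure_singleton_self g
  by_cases hg0 : g = 0
  · have hS0 : ∀ n ∈ S, n = 0 := fun n hn => by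
      obtain ⟨x, hx, hx0⟩ := (hS n).1 hn
      have : (n : ℤ) ∈ G := ⟨n, 0, ⟨x, hx, hx0⟩, ⟨1, SetLike.one_mem_graded 𝒜, one_ne_zero⟩, by simp⟩
      rw [hg, hg0, AddSubgroup.closure_singleton_zero, AddSubgroup.mem_bot] at this
      exact_mod_cast this
    exact ⟨fun _ => 1, ⟨rfl, fun _ _ _ _ => (one_mul _).symm⟩, fun n hn => ⟨1, by
      rw [hS0 n hn]; exact_mod_cast SetLike.one_mem_graded 𝒜, one_ne_zero, map_one _⟩⟩
  set τ : K := ι a / ι b
  have hτ : τ ≠ 0 := div_ne_zero (hne a ha0) (hne b hb0)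
  refine ⟨fun n => τ ^ ((n : ℤ) / g), ⟨by simp, fun x y hx hy => ?_⟩, fun n hn => ?_⟩
  · have hdvd : ∀ z ∈ S, g ∣ (z : ℤ) := fun z hz => by
      obtain ⟨w, hw, hw0⟩ := (hS z).1 hz
      have : (z : ℤ) ∈ G := ⟨z, 0, ⟨w, hw, hw0⟩, ⟨1, SetLike.one_mem_graded 𝒜, one_ne_zero⟩, by simp⟩
      rw [hg, AddSubgroup.mem_closure_singleton] at this
      obtain ⟨c, hc⟩ := this
      exact ⟨c, by rw [← hc, smul_eq_mul, mul_comm]⟩
    show τ ^ (((x + y : ℕ) : ℤ) / g) = _
    rw [Nat.cast_add, Int.add_ediv_of_dvd_left (hdvd x hx), zpow_add₀ hτ]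
  · obtain ⟨v, hv, hv0⟩ := (hS n).1 hn
    have : (n : ℤ) ∈ G := ⟨n, 0, ⟨v, hv, hv0⟩, ⟨1, SetLike.one_mem_graded 𝒜, one_ne_zero⟩, by simp⟩
    rw [hg, AddSubgroup.mem_closure_singleton] at this
    obtain ⟨c, hc⟩ := this
    rw [smul_eq_mul] at hc
    -- `τ ^ c` is a scalar multiple of `v`
    obtain ⟨N, rfl | rfl⟩ := Int.eq_nat_or_neg c
    · have h1 : a ^ N ∈ 𝒜 ((N : ℤ) * i) := by rw [← nsmul_eq_mul]; exact SetLike.pow_mem_graded N ha
      have h2 : v * b ^ N ∈ 𝒜 ((N : ℤ) * i) := by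
        rw [show (N : ℤ) * i = (n : ℤ) + N • j by rw [← hc, hgij, nsmul_eq_mul]; ring]
        exact SetLike.mul_mem_graded hv (SetLike.pow_mem_graded N hb)
      obtain ⟨s, hs⟩ := hone _ _ h2 _ h1 (mul_ne_zero hv0 (pow_ne_zero _ hb0))
      have hs0 : s ≠ 0 := fun h => pow_ne_zero N ha0 (by rw [hs, h, zero_smul])
      refine ⟨s • v, Submodule.smul_mem _ _ hv, smul_ne_zero hs0 hv0, ?_⟩
      show ι (s • v) = τ ^ ((n : ℤ) / g)
      rw [← hc, Int.mul_ediv_cancel _ hg0, zpow_natCast, div_pow, eq_div_iff (pow_ne_zero _ (hne b hb0)),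
        ← map_pow, ← map_pow, ← map_mul, smul_mul_assoc, ← hs]
    · have h1 : b ^ N ∈ 𝒜 ((N : ℤ) * j) := by rw [← nsmul_eq_mul]; exact SetLike.pow_mem_graded N hb
      have h2 : v * a ^ N ∈ 𝒜 ((N : ℤ) * j) := by
        rw [show (N : ℤ) * j = (n : ℤ) + N • i by rw [← hc, hgij, nsmul_eq_mul]; ring]
        exact SetLike.mul_mem_graded hv (SetLike.pow_mem_graded N ha)
      obtain ⟨s, hs⟩ := hone _ _ h2 _ h1 (mul_ne_zero hv0 (pow_ne_zero _ ha0))
      have hs0 : s ≠ 0 := fun h => pow_ne_zero N hb0 (by rw [hs, h, zero_smul])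
      refine ⟨s • v, Submodule.smul_mem _ _ hv, smul_ne_zero hs0 hv0, ?_⟩
      show ι (s • v) = τ ^ ((n : ℤ) / g)
      rw [← hc, Int.mul_ediv_cancel _ hg0, zpow_neg, zpow_natCast, div_pow, inv_div,
        eq_div_iff (pow_ne_zero _ (hne a ha0)), ← map_pow, ← map_pow, ← map_mul, smul_mul_assoc, ← hs]

theorem polynomial_case (hpos : ∀ n : ℤ, n < 0 → 𝒜 n = ⊥) (h0 : 𝒜 0 = Submodule.span k {(1 : R)})
    (hone : ∀ n : ℤ, ∀ x ∈ 𝒜 n, ∀ y ∈ 𝒜 n, x ≠ 0 → ∃ c : k, y = c • x)
    (hgen : Ideal.span (⋃ n ∈ Set.Ioi (0 : ℤ), (𝒜 n : Set R)) = Ideal.span ((𝒜 1 : Submodule k R) : Set R))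
    (h1 : ringKrullDim R = 1) : Nonempty (R ≃+* Polynomial k) := by
  classical
  have hR0 : ∀ n : ℤ, 0 < n → ∀ y ∈ 𝒜 n, y ∈ Ideal.span ((𝒜 1 : Submodule k R) : Set R) := fun n hn y hy => by
    rw [← hgen]
    exact Ideal.subset_span (Set.mem_biUnion hn hy)
  obtain ⟨x, hx, hx0⟩ : ∃ x ∈ 𝒜 1, x ≠ 0 := by
    by_contra! h
    have hspan : Ideal.span ((𝒜 1 : Submodule k R) : Set R) = ⊥ := Ideal.span_eq_bot.2 h
    have htop : ∀ y : R, y ∈ Submodule.span k {(1 : R)} := fun y => by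
      refine (Submodule.span k {(1 : R)}).eq_top_iff'.1 ?_ y
      rw [eq_top_iff, ← (DirectSum.Decomposition.isInternal 𝒜).submodule_iSup_eq_top, iSup_le_iff]
      intro n z hz
      rcases lt_trichotomy n 0 with hn | rfl | hn
      · rw [hpos n hn, Submodule.mem_bot] at hz; rw [hz]; exact zero_mem _
      · rwa [h0] at hz
      · have := hR0 n hn z hz
        rw [hspan, Ideal.mem_bot] at this
        rw [this]; exact zero_mem _
    have hf : IsField R := by
      refine MulEquiv.isField (Field.toIsField k) (RingEquiv.ofBijective (algebraMap k R)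
        ⟨(algebraMap k R).injective, fun y => ?_⟩).symm.toMulEquiv
      obtain ⟨a, ha⟩ := Submodule.mem_span_singleton.1 (htop y)
      exact ⟨a, by rw [← ha, Algebra.algebraMap_eq_smul_one]⟩
    rw [ringKrullDim_eq_zero_of_isField hf] at h1
    exact zero_ne_one h1
  have hpow : ∀ N : ℕ, ∀ y ∈ 𝒜 (N : ℤ), ∃ c : k, y = c • x ^ N := fun N y hy =>
    hone (N : ℤ) (x ^ N) (by simpa using SetLike.pow_mem_graded N hx) y hy (pow_ne_zero _ hx0)
  refine ⟨(AlgEquiv.ofBijective (Polynomial.aeval x) ⟨?_, fun r => ?_⟩).symm.toRingEquiv⟩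
  · refine (injective_iff_map_eq_zero (Polynomial.aeval (R := k) x)).2 fun q hq => Polynomial.ext fun N => ?_
    have h := congrArg (GradedAlgebra.proj 𝒜 (N : ℤ)) hq
    rw [Polynomial.aeval_eq_sum_range, map_sum, map_zero] at h
    simp only [GradedAlgebra.proj_apply] at h
    have hm : ∀ i : ℕ, q.coeff i • x ^ i ∈ 𝒜 (i : ℤ) := fun i =>
      Submodule.smul_mem _ _ (by simpa using SetLike.pow_mem_graded i hx)
    rw [Finset.sum_eq_single N (fun i _ hi => DirectSum.decompose_of_mem_ne 𝒜 (hm i) (by exact_mod_cast hi))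
      (fun hN => by rw [Polynomial.coeff_eq_zero_of_natDegree_lt (by simpa using hN), zero_smul]; simp),
      DirectSum.decompose_of_mem_same 𝒜 (hm N)] at h
    simpa [hx0] using h
  · refine (Polynomial.aeval x : Polynomial k →ₐ[k] R).range.toSubmodule.eq_top_iff'.1 ?_ r
    rw [eq_top_iff, ← (DirectSum.Decomposition.isInternal 𝒜).submodule_iSup_eq_top, iSup_le_iff]
    intro n y hy
    rcases lt_or_ge n 0 with hn | hn
    · rw [hpos n hn, Submodule.mem_bot] at hy; exact ⟨0, by rw [hy]; exact map_zero _⟩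
    obtain ⟨N, rfl⟩ := Int.eq_ofNat_of_zero_le hn
    obtain ⟨c, rfl⟩ := hpow N y hy
    exact ⟨c • Polynomial.X ^ N, by simp⟩

end

/-- Let R be a graded ring defined over an algebraically closed field k which is an integral domain of
dimension one. Then R is isomorphic to a semigroup ring (the subring of k[T] spanned by the
monomials T^h, h in an additive submonoid H of ℕ); moreover, if R is generated over k by R_1, then R
is a polynomial ring k[T]. Here a graded ring defined over k is a commutative k-algebra of finite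
type graded in nonnegative degrees by k-subspaces with degree-zero part k·1; the isomorphisms
asserted are ring isomorphisms. -/
theorem result (k : Type u) [Field k] [IsAlgClosed k] (R : Type u) [CommRing R] [IsDomain R] [Algebra k R] (𝒜 : ℤ → Submodule k R) [GradedAlgebra 𝒜] (hpos : ∀ n : ℤ, n < 0 → 𝒜 n = ⊥) (h0 : 𝒜 0 = Submodule.span k {(1 : R)}) [Algebra.FiniteType k R] (h1 : ringKrullDim R = 1) : (∃ H : AddSubmonoid ℕ, Nonempty (R ≃+* AddMonoidAlgebra k H)) ∧ (Ideal.span (⋃ n ∈ Set.Ioi (0 : ℤ), (𝒜 n : Set R)) = Ideal.span ((𝒜 1 : Submodule k R) : Set R) → Nonempty (R ≃+* Polynomial k)) := by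
  classical
  obtain ⟨s, hs, hs'⟩ := DimFormula.exists_trdeg_eq_ringKrullDim k R
  obtain rfl : s = 1 := by
    rw [h1] at hs'
    exact_mod_cast hs'.symm
  let K := FractionRing R
  let ι := algebraMap R K
  have hι : Function.Injective ι := IsFractionRing.injective R K
  have hone : ∀ n : ℤ, ∀ x ∈ 𝒜 n, ∀ y ∈ 𝒜 n, x ≠ 0 → ∃ c : k, y = c • x :=
    fun n x hx y hy hx0 => rank_one k R 𝒜 hpos h0 hs n x hx y hy hx0
  let S : AddSubmonoid ℕ :=
    { carrier := {n | ∃ x ∈ 𝒜 (n : ℤ), x ≠ 0}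
      zero_mem' := ⟨1, by simpa using SetLike.one_mem_graded 𝒜, one_ne_zero⟩
      add_mem' := by
        rintro a b ⟨x, hx, hx0⟩ ⟨y, hy, hy0⟩
        exact ⟨x * y, by push_cast; exact SetLike.mul_mem_graded hx hy, mul_ne_zero hx0 hy0⟩ }
  obtain ⟨t, c, hc⟩ : ∃ (t : ℕ → K) (_ : t 0 = 1 ∧ ∀ a b, a ∈ S → b ∈ S → t (a + b) = t a * t b), ∀ n ∈ S, ∃ e ∈ 𝒜 (n : ℤ), e ≠ 0 ∧ ι e = t n :=
    coherent k R 𝒜 S (fun n => Iff.rfl) hone
  choose e he he0 heι using fun n : S => hc n n.2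
  have he1 : e 0 = 1 := hι (by rw [heι, map_one]; exact c.1)
  have hemul : ∀ a b, e (a + b) = e a * e b := fun a b => hι (by
    rw [map_mul, heι, heι, heι]; exact c.2 a b a.2 b.2)
  let φm : Multiplicative S →* R :=
    { toFun := fun n => e n.toAdd, map_one' := he1, map_mul' := fun a b => hemul _ _ }
  let Φ : AddMonoidAlgebra k S →ₐ[k] R := AddMonoidAlgebra.lift k R S φm
  have hΦ : ∀ n c, Φ (AddMonoidAlgebra.single n c) = c • e n := fun n c => AddMonoidAlgebra.lift_single φm n c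
  have hsurj : Function.Surjective Φ := fun r => by
    refine Φ.range.toSubmodule.eq_top_iff'.1 ?_ r
    rw [eq_top_iff, ← (DirectSum.Decomposition.isInternal 𝒜).submodule_iSup_eq_top, iSup_le_iff]
    intro n y hy
    rcases lt_or_ge n 0 with hn | hn
    · rw [hpos n hn, Submodule.mem_bot] at hy; exact ⟨0, by rw [hy]; exact map_zero Φ⟩
    obtain ⟨m, rfl⟩ := Int.eq_ofNat_of_zero_le hn
    by_cases hy0 : y = 0
    · exact ⟨0, by rw [hy0]; exact map_zero Φ⟩
    have hm : m ∈ S := ⟨y, hy, hy0⟩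
    obtain ⟨a, rfl⟩ := hone m (e ⟨m, hm⟩) (he ⟨m, hm⟩) y hy (he0 _)
    exact ⟨AddMonoidAlgebra.single ⟨m, hm⟩ a, hΦ _ _⟩
  have hinj : Function.Injective Φ := by
    refine (injective_iff_map_eq_zero Φ).2 fun f hf => ?_
    refine AddMonoidAlgebra.ext (Finsupp.ext fun n => ?_)
    have hsum : Φ f = ∑ m ∈ f.coeff.support, f.coeff m • e m := AddMonoidAlgebra.lift_apply φm f
    rw [hf] at hsum
    have h := congrArg (GradedAlgebra.proj 𝒜 (((n : ℕ) : ℤ))) hsum.symm
    rw [map_sum, map_zero] at h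
    simp only [GradedAlgebra.proj_apply] at h
    rw [Finset.sum_eq_single n (fun m _ hmn => DirectSum.decompose_of_mem_ne 𝒜 (Submodule.smul_mem _ _ (he m))
        (fun h' => hmn (Subtype.ext (by exact_mod_cast h')))) (fun hn => by rw [Finsupp.notMem_support_iff.1 hn, zero_smul]; simp)] at h
    rw [DirectSum.decompose_of_mem_same 𝒜 (Submodule.smul_mem _ _ (he n))] at h
    simpa using (smul_eq_zero.1 (h.trans (by simp))).resolve_right (he0 n)
  refine ⟨⟨S, ⟨(AlgEquiv.ofBijective Φ ⟨hinj, hsurj⟩).symm.toRingEquiv⟩⟩, fun hgen => ?_⟩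
  exact polynomial_case k R 𝒜 hpos h0 hone hgen h1

end Groth.Agent.S18653
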