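import Groth.Statements.S18654
-- import your own Groth.Agent.* helpers here
import Groth.Agent.GrLCLib.Hilbert

set_option autoImplicit false
universe u
open GrLC
open Groth.Agent

namespace Groth.Agent.S18654

/-- Let R be a graded ring defined over a field k = R_0 which is Cohen–Macaulay and generated over k by
R_1, with dim R ≥ 1, and write H(n, R) = dim_k R_n. Then H(n + 1, R) ≥ H(n, R) for every integer n.
Here 'graded ring defined over a field' means R = ⊕_{n ≥ 0} R_n is Noetherian with R_0 a field, and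
m = R_+ is its unique graded maximal ideal. -/
theorem result (R : Type u) [CommRing R] [LocCoh.IsCohenMacaulayRing R] (𝒜 : ℤ → AddSubgroup R) [GradedRing 𝒜] (hpos : ∀ n : ℤ, n < 0 → 𝒜 n = ⊥) (h0 : IsField (GrLC.deg0 𝒜)) (hstd : Ideal.span (⋃ n ∈ Set.Ioi (0 : ℤ), (𝒜 n : Set R)) = Ideal.span ((𝒜 1 : AddSubgroup R) : Set R)) (h1 : 1 ≤ ringKrullDim R) (n : ℤ) : Module.finrank (GrLC.deg0 𝒜) (GrLC.comp 𝒜 𝒜 n) ≤ Module.finrank (GrLC.deg0 𝒜) (GrLC.comp 𝒜 𝒜 (n + 1)) := by
  haveI : Nontrivial R := by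
    by_contra h
    haveI := not_nontrivial_iff_subsingleton.1 h
    rw [ringKrullDim_eq_bot_of_subsingleton] at h1
    simp at h1
  have hm := GrLCLib.isStarLocal_irr h0 hpos
  obtain ⟨s, x, hx, hgen⟩ := GrLCLib.exists_gens_one hstd
  refine GrLCLib.finrank_comp_le hx hpos hgen h0 (fun c hc => ?_) n
  have hht : (1 : ℕ∞) ≤ (GrLCLib.irr 𝒜).toIdeal.height := by
    rw [GrLCLib.ringKrullDim_eq_height hpos hm] at h1
    exact_mod_cast h1
  have hH := GrLCLib.subsingleton_H_of_lt_height (I := (GrLCLib.irr 𝒜).toIdeal) (GrLCLib.isStarLocal_ne_top hm) (i := 0)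
    (lt_of_lt_of_le (by exact_mod_cast Nat.one_pos) hht)
  have hc' : c ∈ DRing.torsionSub (GrLCLib.irr 𝒜).toIdeal R := by
    refine ⟨1, fun a ha => ?_⟩
    rw [pow_one, hgen] at ha
    induction ha using Submodule.span_induction with
    | mem y hy => obtain ⟨b, rfl⟩ := hy; rw [smul_eq_mul, mul_comm]; exact hc b
    | zero => exact zero_smul _ _
    | add u v _ _ hu hv => rw [add_smul, hu, hv, add_zero]
    | smul d u _ hu => rw [smul_eq_mul d u, mul_smul, hu, smul_zero]
  rw [LocH.torsionSub_eq_bot_of_subsingleton hH] at hc'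
  exact (Submodule.mem_bot R).1 hc'

end Groth.Agent.S18654
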