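import Groth.Statements.S18655
import Groth.Agent.GrGor.TypeLocal

set_option autoImplicit false
set_option backward.isDefEq.respectTransparency false
set_option backward.isDefEq.respectTransparency.types false
universe u
open GrLC

namespace Groth.Agent.S18655

/-- Let R be a graded ring defined over a field k = R_0 which is Gorenstein and generated over k by R_1,
of dimension n, and let q ≥ 1. Then the type r(R^(q)) of the Veronese subring equals H(j + a(R), R)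
= dim_k R_{j + a(R)}, where j is the smallest multiple of q with j + a(R) ≥ 0 (so j + a(R) is the
remainder ρ of a(R) modulo q, 0 ≤ ρ < q; the statement is written in terms of ρ). Here the type of
R^(q) is the Bass number μ_n(m', R^(q)), the dimension over the residue field of Ext^n over the
local ring of R^(q) at its graded maximal ideal m' = (R^(q))_+ (R^(q) has dimension n). Here 'graded
ring defined over a field' means R = ⊕_{n ≥ 0} R_n is Noetherian with R_0 a field, and m = R_+ is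
its unique graded maximal ideal. The a-invariant a(R) is the largest degree in which the graded
local cohomology H^n_m(R) (n = dim R, m = R_+), computed from a *injective resolution of R in the
graded category, is nonzero. The Veronese subring R^(q) = ⊕_j R_{jq}, regraded by (R^(q))_j =
R_{jq}, is presented abstractly as a ℤ-graded ring R' with an injective ring homomorphism φ : R' → R
carrying R'_j onto R_{jq} for every j. -/
theorem result (R : Type u) [CommRing R] [LocCoh.IsGorensteinRing R] (𝒜 : ℤ → AddSubgroup R) [GradedRing 𝒜] (hpos : ∀ n : ℤ, n < 0 → 𝒜 n = ⊥) (h0 : IsField (GrLC.deg0 𝒜)) (m : HomogeneousIdeal 𝒜) (hm : GrLC.IsStarLocal 𝒜 m) (hmsp : m.toIdeal = Ideal.span (⋃ n ∈ Set.Ioi (0 : ℤ), (𝒜 n : Set R))) (hstd : Ideal.span (⋃ n ∈ Set.Ioi (0 : ℤ), (𝒜 n : Set R)) = Ideal.span ((𝒜 1 : AddSubgroup R) : Set R)) (n : ℕ) (hn : ringKrullDim R = n) (I : GrLC.StarInjRes 𝒜 𝒜) (a : ℤ) (ha : GrLC.endDeg (I.Hgr m n) = ((a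 : WithTop ℤ) : WithBot (WithTop ℤ))) (q : ℕ) (hq : 0 < q) (R' : Type u) [CommRing R'] (𝒜' : ℤ → AddSubgroup R') [GradedRing 𝒜'] (φ : R' →+* R) (hφ : Function.Injective φ) (hdeg : ∀ j : ℤ, (𝒜' j).map (φ : R' →+ R) = 𝒜 (j * q)) (m' : HomogeneousIdeal 𝒜') [m'.toIdeal.IsMaximal] (hm'sp : m'.toIdeal = Ideal.span (⋃ j ∈ Set.Ioi (0 : ℤ), (𝒜' j : Set R'))) (ρ : ℤ) (hρ0 : 0 ≤ ρ) (hρq : ρ < q) (hρa : (q : ℤ) ∣ a - ρ) : GrLC.bassNum m'.toIdeal R' n = (Module.finrank (GrLC.deg0 𝒜) (GrLC.comp 𝒜 𝒜 ρ) : ℕ∞) := by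
  let D : Groth.Agent.GrLCVeronese.Datum 𝒜 𝒜' := ⟨q, hq, φ, hφ, hdeg⟩
  haveI := Groth.Agent.GrLCVeronese.isNoetherianRing D
  obtain ⟨st⟩ := Groth.Agent.GrGor.exists_stage D m m' n a hpos hm hmsp hm'sp hn ‹_› I ha
  obtain ⟨r, y', hr, hy, hind, hspan⟩ :=
    Groth.Agent.GrGor.stage_socle D m m' n a hpos hm hmsp hm'sp hn h0 hstd st ρ hρ0 hρq hρa
  obtain ⟨u, N, -, -, -, -, -, hN, -⟩ := Groth.Agent.GrGor.stage_core D m m' n a hpos hm hmsp hm'sp hn st
  obtain ⟨rs, hlen, hrs, hK⟩ := st.regseq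
  have hpos' := Groth.Agent.GrGor.hpos_veronese D hpos
  have hN' : m'.toIdeal ^ N ≤ st.K := by
    rw [← Groth.Agent.GrGor.comap_map_eq D st.K, ← Ideal.map_le_iff_le_comap, Ideal.map_pow]
    refine le_trans (Ideal.pow_right_mono (Ideal.map_le_iff_le_comap.2 ?_) N) hN
    rw [hm'sp, Ideal.span_le]
    intro z hz
    obtain ⟨j, hj, hz⟩ := Set.mem_iUnion₂.1 hz
    exact Groth.Agent.GrLCLib.mem_of_pos hpos hm (mul_pos hj (Int.natCast_pos.2 hq)) (D.map_mem hz)
  have hB₀ : ∀ z : R', ∃ c ∈ (𝒜' 0 : Set R'), z - c ∈ m'.toIdeal := by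
    intro z
    refine ⟨_, Groth.Agent.GrLCLib.pr_mem 𝒜' 0 z, ?_⟩
    refine Groth.Agent.GrLCLib.mem_of_pr_mem 𝒜' fun j => ?_
    rw [map_sub]
    rcases lt_trichotomy j 0 with h | rfl | h
    · rw [← map_sub, show Groth.Agent.GrLCLib.pr 𝒜' j (z - Groth.Agent.GrLCLib.pr 𝒜' 0 z) = 0 from
        (hpos' j h).le (Groth.Agent.GrLCLib.pr_mem 𝒜' j _)]
      exact zero_mem _
    · rw [Groth.Agent.GrLCLib.pr_of_mem 𝒜' (Groth.Agent.GrLCLib.pr_mem 𝒜' 0 z), sub_self]
      exact zero_mem _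
    · rw [Groth.Agent.GrLCLib.pr_of_mem_ne 𝒜' (Groth.Agent.GrLCLib.pr_mem 𝒜' 0 z) h.ne, sub_zero, hm'sp]
      exact Ideal.subset_span (Set.mem_iUnion₂.2 ⟨j, h, Groth.Agent.GrLCLib.pr_mem 𝒜' j z⟩)
  rw [← hlen, Groth.Agent.GrGor.bassNum_of_socle m'.toIdeal rs hrs st.K hK st.le_irr N hN' (𝒜' 0 : Set R') hB₀ y' hy
    (fun c hc h i => by rw [hind c hc h i]; exact zero_mem _) hspan, hr]

end Groth.Agent.S18655
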