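import Groth.Statements.S18656
-- import your own Groth.Agent.* helpers here
import Groth.Agent.GrLCLib.AInv

set_option autoImplicit false
universe u
open GrLC
open Groth.Agent

namespace Groth.Agent.S18656

/-- Let R be a graded ring defined over a field k = R_0, generated over k by R_1, of dimension r ≥ 1,
and let a(R) be its a-invariant. Then the homogeneous piece H^r_m(R)_n is nonzero for every n ≤
a(R). Here 'graded ring defined over a field' means R = ⊕_{n ≥ 0} R_n is Noetherian with R_0 a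
field, and m = R_+ is its unique graded maximal ideal. The a-invariant a(R) is the largest degree in
which the graded local cohomology H^n_m(R) (n = dim R, m = R_+), computed from a *injective
resolution of R in the graded category, is nonzero. -/
theorem result (R : Type u) [CommRing R] [IsNoetherianRing R] (𝒜 : ℤ → AddSubgroup R) [GradedRing 𝒜] (hpos : ∀ n : ℤ, n < 0 → 𝒜 n = ⊥) (h0 : IsField (GrLC.deg0 𝒜)) (m : HomogeneousIdeal 𝒜) (hm : GrLC.IsStarLocal 𝒜 m) (hmsp : m.toIdeal = Ideal.span (⋃ n ∈ Set.Ioi (0 : ℤ), (𝒜 n : Set R))) (hstd : Ideal.span (⋃ n ∈ Set.Ioi (0 : ℤ), (𝒜 n : Set R)) = Ideal.span ((𝒜 1 : AddSubgroup R) : Set R)) (r : ℕ) (hr : ringKrullDim R = r) (h1 : 1 ≤ r) (I : GrLC.StarInjRes 𝒜 𝒜) (a : ℤ) (ha : GrLC.endDeg (I.Hgr m r) = ((a : WithTop ℤ) : WithBot (WithTop ℤ))) (n : ℤ) (hn : n ≤ a) : I.Hcomp m r n ≠ ⊥ := by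
  obtain ⟨s, x, hx, hxa⟩ := GrLCLib.exists_gens_one hstd
  have hxm : m.toIdeal = Ideal.span (Set.range x) := hmsp.trans hxa
  have hv : ∀ e : ℤ, a < e → GrLCLib.Van I m r e := (GrLCLib.endDeg_le_iff I m r a).1 ha.le
  intro h
  have hup : ∀ e : ℤ, n ≤ e → GrLCLib.Van I m r e := fun e he => by
    induction e, he using Int.leInduction with
    | base => exact (GrLCLib.hcomp_eq_bot_iff I m r n).1 h
    | succ e he ih =>
      exact GrLCLib.van_top_step 𝒜 m hx hxm I h1 (fun Q _ _ _ => GrLCLib.subsingleton_H_of_dim_lt hr _ (by omega) Q)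
        (by rwa [add_sub_cancel_right])
  have h2 := (GrLCLib.endDeg_le_iff I m r (a - 1)).2 fun e he => hup e (by omega)
  rw [ha, WithBot.coe_le_coe, WithTop.coe_le_coe] at h2
  omega

end Groth.Agent.S18656
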