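import Groth.Statements.S18662
-- import your own Groth.Agent.* helpers here
import Groth.Agent.GrLCLib.Bridge
import Groth.Agent.LocH.Grothendieck

set_option autoImplicit false
universe u
open GrLC
open Groth.Agent

namespace Groth.Agent.S18662

/-- Let R be a graded ring defined over a field, m = R_+, and M a graded R-module satisfying condition
(**): there is a homogeneous f ∈ R_d with d > 0 such that multiplication by f on M is bijective.
Then H^q_m(M) = 0 for every integer q (graded local cohomology, computed from any *injective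
resolution of M in the graded category). Here 'graded ring defined over a field' means R = ⊕_{n ≥ 0}
R_n is Noetherian with R_0 a field, and m = R_+ is its unique graded maximal ideal. -/
theorem result (R : Type u) [CommRing R] [IsNoetherianRing R] (𝒜 : ℤ → AddSubgroup R) [GradedRing 𝒜] (hpos : ∀ n : ℤ, n < 0 → 𝒜 n = ⊥) (h0 : IsField (GrLC.deg0 𝒜)) (m : HomogeneousIdeal 𝒜) (hm : GrLC.IsStarLocal 𝒜 m) (hmsp : m.toIdeal = Ideal.span (⋃ n ∈ Set.Ioi (0 : ℤ), (𝒜 n : Set R))) (M : Type u) [AddCommGroup M] [Module R M] (ℳ : ℤ → AddSubgroup M) [DirectSum.Decomposition ℳ] [SetLike.GradedSMul 𝒜 ℳ] (d : ℤ) (hd : 0 < d) (f : R) (hf : f ∈ 𝒜 d) (hbij : Function.Bijective (fun x : M => f • x)) (E : GrLC.StarInjRes 𝒜 ℳ) (q : ℕ) : Subsingleton (E.H m q) := by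
  obtain ⟨e⟩ := GrLCLib.H_equiv_localCohomology E m q
  haveI : Subsingleton (LocCoh.H m.toIdeal q M) := by
    let g := LinearEquiv.ofBijective (f • LinearMap.id : M →ₗ[R] M) hbij
    let G := ((localCohomology m.toIdeal q).mapIso g.toModuleIso).toLinearEquiv
    have hG : ∀ x : LocCoh.H m.toIdeal q M, G x = f • x := fun x => by
      refine (congrArg (fun φ => (localCohomology m.toIdeal q).map φ x) ?_).trans
        (LocH.map_smul_id_apply (M := ModuleCat.of R M) f q x)
      ext y
      rfl
    have hfm : f ∈ m.toIdeal := hmsp ▸ Ideal.subset_span (Set.mem_iUnion₂.2 ⟨d, hd, hf⟩)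
    have hz : ∀ (n : ℕ) (x : LocCoh.H m.toIdeal q M), f ^ n • x = 0 → x = 0 := by
      intro n
      induction n with
      | zero => intro x hx; rwa [pow_zero, one_smul] at hx
      | succ n ih =>
        intro x hx
        refine G.injective ((hG x).trans ?_)
        rw [map_zero]
        exact ih _ (by rwa [← mul_smul, ← pow_succ])
    refine subsingleton_of_forall_eq 0 fun x => ?_
    obtain ⟨n, hn⟩ := LocH.isPowerTorsion m.toIdeal q (ModuleCat.of R M) x
    exact hz n x (hn _ (Ideal.pow_mem_pow hfm n))
  exact e.toEquiv.subsingleton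

end Groth.Agent.S18662
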