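import Groth.Statements.S18663
import Groth.Agent.SegreLC.Apps
import Groth.Agent.S18647

set_option autoImplicit false
universe u
open scoped TensorProduct
open GrSegre

namespace Groth.Agent.S18663

/-- Let R and S be graded rings defined over a field k which are Cohen–Macaulay, with dim R = 1 and dim
S = s ≥ 1, and let T = R # S be their Segre product. (iii) If s ≥ 2, then T is a Cohen–Macaulay ring
if and only if H^1_{R_+}(R) # S = 0, that is, for every degree n, H^1_{R_+}(R)_n = 0 or S_n = 0.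
(iv) If s = 1, then T is a Cohen–Macaulay ring. Here a graded ring defined over k is a commutative
k-algebra of finite type, graded in nonnegative degrees by k-subspaces with degree-zero part k·1;
the graded local cohomology pieces are computed from a *injective resolution of R in the graded
category; the Segre product T = ⊕_n R_n ⊗_k S_n is presented abstractly as a graded k-algebra T with
an injective k-algebra homomorphism ψ : T → R ⊗_k S carrying T_n onto the k-span of the elementary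
tensors a ⊗ b with a ∈ R_n, b ∈ S_n. -/
theorem result (k : Type u) [Field k] (R : Type u) [CommRing R] [Algebra k R] (𝒜 : ℤ → Submodule k R) [GradedAlgebra 𝒜] (hposR : ∀ n : ℤ, n < 0 → 𝒜 n = ⊥) (h0R : 𝒜 0 = Submodule.span k {(1 : R)}) [Algebra.FiniteType k R] (S : Type u) [CommRing S] [Algebra k S] (ℬ : ℤ → Submodule k S) [GradedAlgebra ℬ] (hposS : ∀ n : ℤ, n < 0 → ℬ n = ⊥) (h0S : ℬ 0 = Submodule.span k {(1 : S)}) [Algebra.FiniteType k S] (T : Type u) [CommRing T] [Algebra k T] (𝒯 : ℤ → Submodule k T) [GradedAlgebra 𝒯] (ψ : T →ₐ[k] TensorProduct k R S) (hψ : Function.Injective ψ) (hdegT : ∀ n : ℤ, (𝒯 n).map ψ.toLinearMap = Submodule.span k {x : TensorProduct k R S | ∃ a ∈ 𝒜 n, ∃ b ∈ ℬ n, x = a ⊗ₜ[k] b}) [LocCoh.IsCohenMacaulayRing R] [LocCoh.IsCohenMacaulayRing S] (mR : HomogeneousIdeal 𝒜) (hmR : mR.toIdeal = Ideal.span (⋃ n ∈ Set.Ioi (0 : ℤ), (𝒜 n : Set R))) (I : GrLC.StarInjRes 𝒜 𝒜) (hr : ringKrullDim R = 1) (s : ℕ) (hs : ringKrullDim S = s) (h1s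 : 1 ≤ s) : (2 ≤ s → (LocCoh.IsCohenMacaulayRing T ↔ ∀ n : ℤ, I.Hcomp mR 1 n = ⊥ ∨ ℬ n = ⊥)) ∧ (s = 1 → LocCoh.IsCohenMacaulayRing T) := by
  classical
  let D : Groth.Agent.SegreLC.Datum 𝒜 ℬ 𝒯 := ⟨ψ, hψ, hdegT⟩
  haveI := SegreLC.finiteType_T D hposR h0R hposS h0S
  obtain ⟨G⟩ := SegreLC.exists_gens' D hposR h0R hposS h0S
  haveI := G.noethT
  haveI : Nontrivial R := by
    rcases subsingleton_or_nontrivial R with h | h
    · rw [ringKrullDim_eq_bot_of_subsingleton] at hr
      simp at hr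
    · exact h
  haveI : Nontrivial S := by
    rcases subsingleton_or_nontrivial S with h | h
    · rw [ringKrullDim_eq_bot_of_subsingleton] at hs
      simp at hs
    · exact h
  haveI := SegreLC.nontrivial_T D
  have h0T := SegreLC.h0_T D h0R h0S
  have hposT := SegreLC.neg_T D hposR
  let mT : HomogeneousIdeal 𝒯 := ⟨SegreLC.posIdeal 𝒯, Ideal.homogeneous_span 𝒯 _ (fun x hx => by
    obtain ⟨n, -, hn⟩ := Set.mem_iUnion₂.1 hx
    exact ⟨n, hn⟩)⟩
  obtain ⟨IT⟩ := GrLCLib.nonempty_starInjRes 𝒯 𝒯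
  have hsR : Module.supportDim R R = _ := (Module.supportDim_self_eq_ringKrullDim _).trans hr
  have hsS : Module.supportDim S S = _ := (Module.supportDim_self_eq_ringKrullDim _).trans hs
  let mS : HomogeneousIdeal ℬ := ⟨SegreLC.posIdeal ℬ, Ideal.homogeneous_span ℬ _ (fun x hx => by
    obtain ⟨n, -, hn⟩ := Set.mem_iUnion₂.1 hx
    exact ⟨n, hn⟩)⟩
  obtain ⟨J⟩ := GrLCLib.nonempty_starInjRes ℬ ℬ
  have hdT : Module.supportDim T T = ((1 + s - 1 : ℕ) : WithBot ℕ∞) := (Module.supportDim_self_eq_ringKrullDim _).trans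
    (S18647.result k R 𝒜 hposR h0R S ℬ hposS h0S T 𝒯 ψ hψ hdegT 1 s hr hs le_rfl h1s)
  rw [show 1 + s - 1 = s by omega] at hdT
  have hM := SegreLC.hcomp_eq_bot_of_cm mR I hposR h0R hmR (r := 1) hsR (SegreLC.cmRing_iff.1 inferInstance)
  have hN := SegreLC.hcomp_eq_bot_of_cm mS J hposS h0S rfl hsS (SegreLC.cmRing_iff.1 inferInstance)
  refine ⟨fun h2s => ?_, fun hs1 => ?_⟩
  · rw [SegreLC.cmRing_iff, SegreLC.cm_iff_vanish mT IT hposT h0T rfl hdT,
      SegreLC.vanish_iff_of_one D (SegreLC.isSegreMod_self D) G mR hmR mS rfl mT rfl I J IT h2s hM hN]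
    simp only [Submodule.eq_bot_iff]
  · refine SegreLC.cmRing_iff.2 ((SegreLC.cm_iff_vanish mT IT hposT h0T rfl hdT).2 fun i hi d => ?_)
    obtain rfl : i = 0 := by omega
    exact SegreLC.vanish_zero D (SegreLC.isSegreMod_self D) G mR hmR mS rfl mT rfl I J IT (fun e => hM 0 (by omega) e)
      (fun e => hN 0 (by omega) e) d

end Groth.Agent.S18663
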