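import Groth.Statements.S18664
import Groth.Agent.S18663
import Groth.Agent.SegreLC.DimOne

set_option autoImplicit false
universe u
open scoped TensorProduct
open GrSegre

namespace Groth.Agent.S18664

/-- Let R and S be standard graded rings defined over a field k which are Cohen–Macaulay, with dim R = 1
and dim S ≥ 2. Then the Segre product T = R # S is a Cohen–Macaulay ring if and only if R is a
polynomial ring over k (in one variable). Here a graded ring defined over k is a commutative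
k-algebra of finite type, graded in nonnegative degrees by k-subspaces with degree-zero part k·1,
standard graded when its irrelevant ideal is generated by the degree-one piece; the Segre product T
= ⊕_n R_n ⊗_k S_n is presented abstractly as a graded k-algebra T with an injective k-algebra
homomorphism ψ : T → R ⊗_k S carrying T_n onto the k-span of the elementary tensors a ⊗ b with a ∈
R_n, b ∈ S_n. -/
theorem result (k : Type u) [Field k] (R : Type u) [CommRing R] [Algebra k R] (𝒜 : ℤ → Submodule k R) [GradedAlgebra 𝒜] (hposR : ∀ n : ℤ, n < 0 → 𝒜 n = ⊥) (h0R : 𝒜 0 = Submodule.span k {(1 : R)}) [Algebra.FiniteType k R] (S : Type u) [CommRing S] [Algebra k S] (ℬ : ℤ → Submodule k S) [GradedAlgebra ℬ] (hposS : ∀ n : ℤ, n < 0 → ℬ n = ⊥) (h0S : ℬ 0 = Submodule.span k {(1 : S)}) [Algebra.FiniteType k S] (T : Type u) [CommRing T] [Algebra k T] (𝒯 : ℤ → Submodule k T) [GradedAlgebra 𝒯] (ψ : T →ₐ[k] TensorProduct k R S) (hψ : Function.Injective ψ) (hdegT : ∀ n : ℤ, (𝒯 n).map ψ.toLinearMap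 = Submodule.span k {x : TensorProduct k R S | ∃ a ∈ 𝒜 n, ∃ b ∈ ℬ n, x = a ⊗ₜ[k] b}) [LocCoh.IsCohenMacaulayRing R] [LocCoh.IsCohenMacaulayRing S] (hstdR : Ideal.span (⋃ n ∈ Set.Ioi (0 : ℤ), (𝒜 n : Set R)) = Ideal.span ((𝒜 1 : Submodule k R) : Set R)) (hstdS : Ideal.span (⋃ n ∈ Set.Ioi (0 : ℤ), (ℬ n : Set S)) = Ideal.span ((ℬ 1 : Submodule k S) : Set S)) (hr : ringKrullDim R = 1) (hs : 2 ≤ ringKrullDim S) : LocCoh.IsCohenMacaulayRing T ↔ Nonempty (R ≃ₐ[k] Polynomial k) := by
  classical
  haveI : Nontrivial R := by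
    rcases subsingleton_or_nontrivial R with h | h
    · rw [ringKrullDim_eq_bot_of_subsingleton] at hr
      simp at hr
    · exact h
  haveI : Nontrivial S := by
    rcases subsingleton_or_nontrivial S with h | h
    · rw [ringKrullDim_eq_bot_of_subsingleton] at hs
      simp at hs
    · exact h
  obtain ⟨s, hs'⟩ := SegreDim.exists_nat_dim (k := k) S
  have h2s : 2 ≤ s := by rw [hs'] at hs; exact_mod_cast hs
  let mR : HomogeneousIdeal 𝒜 := ⟨SegreLC.posIdeal 𝒜, Ideal.homogeneous_span 𝒜 _ (fun x hx => by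
    obtain ⟨n, -, hn⟩ := Set.mem_iUnion₂.1 hx
    exact ⟨n, hn⟩)⟩
  obtain ⟨I⟩ := GrLCLib.nonempty_starInjRes 𝒜 𝒜
  rw [(S18663.result k R 𝒜 hposR h0R S ℬ hposS h0S T 𝒯 ψ hψ hdegT mR rfl I hr s hs' (by omega)).1 h2s]
  have hne := SegreLC.piece_ne_bot hposR h0R hstdR (r := 1) hr le_rfl
  have hneS := SegreLC.piece_ne_bot hposS h0S hstdS hs' (by omega)
  constructor
  · intro h
    have hsR : Module.supportDim R R = _ := (Module.supportDim_self_eq_ringKrullDim _).trans hr
    haveI : IsNoetherianRing R := Algebra.FiniteType.isNoetherianRing k R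
    have hH0 := SegreLC.hcomp_eq_bot_of_cm mR I hposR h0R rfl (r := 1) hsR (SegreLC.cmRing_iff.1 inferInstance) 0
      (by omega)
    obtain ⟨u, hu1, hu⟩ := SegreLC.exists_gen_of_van hposR h0R hstdR hr mR rfl I
      (fun e => (GrLCLib.hcomp_eq_bot_iff I mR 0 e).1 (hH0 e))
      (fun e he => (GrLCLib.hcomp_eq_bot_iff I mR 1 e).1 ((h e).resolve_right (hneS e he)))
    exact ⟨(AlgEquiv.ofBijective _ (SegreLC.bijective_aeval hposR h0R hstdR hne hu1 hu)).symm⟩
  · rintro ⟨φ⟩ n
    rcases lt_or_ge n 0 with hn | hn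
    · exact Or.inr (hposS n hn)
    haveI : IsPrincipalIdealRing R := IsPrincipalIdealRing.of_surjective φ.symm.toRingHom φ.symm.surjective
    haveI : IsDomain R := φ.toRingEquiv.toMulEquiv.isDomain (Polynomial k)
    obtain ⟨u, hu1, hu⟩ := SegreLC.exists_gen_of_principal hposR h0R
    exact Or.inl ((GrLCLib.hcomp_eq_bot_iff I mR 1 n).2
      (SegreLC.van_one_of_gen h0R hstdR (hne 1 zero_le_one) hu1 hu mR rfl I n hn))

end Groth.Agent.S18664
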