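import Groth.Statements.S18666
import Groth.Agent.Goren.Flat
import Groth.Agent.Goren.Equiv
import Mathlib.AlgebraicGeometry.ProjectiveSpectrum.Basic
import Mathlib.Algebra.Polynomial.Laurent
import Mathlib.RingTheory.Flat.FaithfullyFlat.Algebra
-- import your own Groth.Agent.* helpers here

set_option autoImplicit false
set_option linter.style.haveILetI false
universe u
open GrProj

namespace Groth.Agent.S18666

open HomogeneousLocalization LaurentPolynomial DirectSum

variable {A : Type u} [CommRing A] (𝒜 : ℕ → AddSubgroup A) [GradedRing 𝒜] (P : Ideal A) [P.IsPrime]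

/-- the degree-zero local ring -/
abbrev R0 : Type u := HomogeneousLocalization.AtPrime 𝒜 P

/-- the local ring upstairs -/
abbrev L0 : Type u := Localization.AtPrime P

variable {d : ℕ} (f : 𝒜 d) (g : 𝒜 (d + 1)) (hf : (f : A) ∉ P) (hg : (g : A) ∉ P)

lemma deg_num {i : ℕ} (a : 𝒜 i) : (a : A) * (f : A) ^ i ∈ 𝒜 (i * (d + 1)) := by
  have h := SetLike.mul_mem_graded a.2 (SetLike.pow_mem_graded i f.2)
  rwa [show i + i • d = i * (d + 1) by rw [smul_eq_mul]; ring] at h

lemma deg_den (i : ℕ) : (g : A) ^ i ∈ 𝒜 (i * (d + 1)) := by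
  have h := SetLike.pow_mem_graded i g.2
  rwa [smul_eq_mul] at h

/-- the coefficient `a (f / g) ^ i` -/
noncomputable def co {i : ℕ} (a : 𝒜 i) : R0 𝒜 P :=
  HomogeneousLocalization.mk ⟨i * (d + 1), ⟨_, deg_num 𝒜 f a⟩, ⟨_, deg_den 𝒜 g i⟩, P.primeCompl.pow_mem hg i⟩

lemma val_co {i : ℕ} (a : 𝒜 i) :
    (co 𝒜 P f g hg a).val = algebraMap A (L0 P) a *
      IsLocalization.mk' (L0 P) ((f : A) ^ i) (⟨(g : A) ^ i, P.primeCompl.pow_mem hg i⟩ : P.primeCompl) := by
  rw [co, HomogeneousLocalization.val_mk, Localization.mk_eq_mk', IsLocalization.mul_mk'_eq_mk'_of_mul]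

/-- the ratio `f / g` in the local ring -/
noncomputable def q : L0 P := IsLocalization.mk' (L0 P) (f : A) (⟨(g : A), hg⟩ : P.primeCompl)

lemma val_co' {i : ℕ} (a : 𝒜 i) : (co 𝒜 P f g hg a).val = algebraMap A (L0 P) a * q 𝒜 P f g hg ^ i := by
  rw [val_co]
  congr 1
  rw [q, ← IsLocalization.mk'_pow]
  rfl

/-- the components of `θ` -/
noncomputable def thc (i : ℕ) : 𝒜 i →+ (R0 𝒜 P)[T;T⁻¹] :=
  AddMonoidHom.mk' (fun a => LaurentPolynomial.C (co 𝒜 P f g hg a) * LaurentPolynomial.T (i : ℤ)) fun a b => by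
    rw [← add_mul, ← map_add]
    congr 2
    exact HomogeneousLocalization.val_injective _ (by
      simp only [val_co', HomogeneousLocalization.val_add, AddMemClass.coe_add, map_add, add_mul])

lemma co_one : co 𝒜 P f g hg (GradedMonoid.GOne.one (A := fun i => 𝒜 i)) = 1 :=
  HomogeneousLocalization.val_injective _ (by
    rw [val_co', HomogeneousLocalization.val_one, pow_zero, mul_one, SetLike.coe_gOne, map_one])

lemma co_mul {i j : ℕ} (a : 𝒜 i) (b : 𝒜 j) :
    co 𝒜 P f g hg (GradedMonoid.GMul.mul (A := fun i => 𝒜 i) a b) = co 𝒜 P f g hg a * co 𝒜 P f g hg b :=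
  HomogeneousLocalization.val_injective _ (by
    rw [HomogeneousLocalization.val_mul, val_co', val_co', val_co', SetLike.coe_gMul, map_mul, pow_add,
      mul_mul_mul_comm])

lemma thc_one : thc 𝒜 P f g hg 0 (GradedMonoid.GOne.one (A := fun i => 𝒜 i)) = 1 := by
  rw [thc, AddMonoidHom.mk'_apply, co_one, map_one, one_mul, Nat.cast_zero, LaurentPolynomial.T_zero]

lemma thc_mul {i j : ℕ} (a : 𝒜 i) (b : 𝒜 j) :
    thc 𝒜 P f g hg (i + j) (GradedMonoid.GMul.mul (A := fun i => 𝒜 i) a b) = thc 𝒜 P f g hg i a * thc 𝒜 P f g hg j b := by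
  simp only [thc, AddMonoidHom.mk'_apply]
  rw [co_mul, map_mul, Nat.cast_add, LaurentPolynomial.T_add, mul_mul_mul_comm]

/-- the grading as a map to Laurent polynomials -/
noncomputable def theta : A →+* (R0 𝒜 P)[T;T⁻¹] :=
  (DirectSum.toSemiring (A := fun i => 𝒜 i) (thc 𝒜 P f g hg) (thc_one 𝒜 P f g hg)
    (fun {_ _} a b => thc_mul 𝒜 P f g hg a b)).comp (DirectSum.decomposeRingEquiv 𝒜).toRingHom

lemma theta_of {i : ℕ} (a : 𝒜 i) :
    theta 𝒜 P f g hg a = LaurentPolynomial.C (co 𝒜 P f g hg a) * LaurentPolynomial.T (i : ℤ) := by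
  change DirectSum.toSemiring (A := fun i => 𝒜 i) (thc 𝒜 P f g hg) (thc_one 𝒜 P f g hg)
    (fun {_ _} a b => thc_mul 𝒜 P f g hg a b) (DirectSum.decompose 𝒜 (a : A)) = _
  rw [DirectSum.decompose_coe, DirectSum.toSemiring_of]
  rfl

/-- `g / f` in the local ring, a unit -/
noncomputable def u : (L0 P)ˣ where
  val := IsLocalization.mk' (L0 P) (g : A) (⟨(f : A), hf⟩ : P.primeCompl)
  inv := q 𝒜 P f g hg
  val_inv := by rw [q]; exact IsLocalization.mk'_mul_mk'_eq_one (⟨(g : A), hg⟩ : P.primeCompl) ⟨(f : A), hf⟩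
  inv_val := by rw [q]; exact IsLocalization.mk'_mul_mk'_eq_one (⟨(f : A), hf⟩ : P.primeCompl) ⟨(g : A), hg⟩

/-- Laurent polynomials in `g / f` -/
noncomputable def psi : (R0 𝒜 P)[T;T⁻¹] →+* L0 P :=
  LaurentPolynomial.eval₂ (algebraMap (R0 𝒜 P) (L0 P)) (u 𝒜 P f g hf hg)

lemma psi_theta (a : A) : psi 𝒜 P f g hf hg (theta 𝒜 P f g hg a) = algebraMap A (L0 P) a := by
  induction a using DirectSum.Decomposition.inductionOn 𝒜 with
  | zero => simp
  | @homogeneous i a =>
    rw [theta_of, psi, LaurentPolynomial.eval₂_C_mul_T_n, HomogeneousLocalization.algebraMap_apply, val_co',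
      mul_assoc, show q 𝒜 P f g hg = ((u 𝒜 P f g hf hg)⁻¹ : (L0 P)ˣ) from rfl, ← Units.val_pow_eq_pow_val,
      ← Units.val_pow_eq_pow_val, ← Units.val_mul, inv_pow, inv_mul_cancel, Units.val_one, mul_one]
  | add a b ha hb => simp only [map_add, ha, hb]

include hf in
lemma exists_mul (p : (R0 𝒜 P)[T;T⁻¹]) :
    ∃ (a : A) (s : P.primeCompl), p * theta 𝒜 P f g hg s = theta 𝒜 P f g hg a := by
  have hC : ∀ r : R0 𝒜 P, ∃ (a : A) (s : P.primeCompl),
      LaurentPolynomial.C r * theta 𝒜 P f g hg s = theta 𝒜 P f g hg a := fun r => by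
    obtain ⟨⟨e, ⟨a, ha⟩, ⟨s, hs⟩, hsP⟩, rfl⟩ := HomogeneousLocalization.mk_surjective r
    refine ⟨a, ⟨s, hsP⟩, ?_⟩
    have h1 := theta_of 𝒜 P f g hg ⟨s, hs⟩
    have h2 := theta_of 𝒜 P f g hg ⟨a, ha⟩
    change LaurentPolynomial.C _ * theta 𝒜 P f g hg s = _
    rw [h1, h2, ← mul_assoc, ← map_mul]
    congr 2
    exact HomogeneousLocalization.val_injective _ (by
      rw [HomogeneousLocalization.val_mul, val_co', val_co', HomogeneousLocalization.val_mk, Localization.mk_eq_mk',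
        ← mul_assoc, IsLocalization.mk'_spec (L0 P) a (⟨s, hsP⟩ : P.primeCompl)])
  have hgf : LaurentPolynomial.T 1 * theta 𝒜 P f g hg f = theta 𝒜 P f g hg g := by
    rw [theta_of, theta_of, mul_left_comm, ← LaurentPolynomial.T_add, Nat.cast_succ, add_comm (1 : ℤ)]
    congr 2
    exact HomogeneousLocalization.val_injective _ (by
      rw [val_co', val_co', pow_succ', ← mul_assoc, mul_comm (algebraMap A (L0 P) (g : A)) (q 𝒜 P f g hg)]
      congr 1
      rw [q, IsLocalization.mk'_spec (L0 P) (f : A) (⟨(g : A), hg⟩ : P.primeCompl)])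
  have hmul : ∀ p p' : (R0 𝒜 P)[T;T⁻¹],
      (∃ (a : A) (s : P.primeCompl), p * theta 𝒜 P f g hg s = theta 𝒜 P f g hg a) →
      (∃ (a : A) (s : P.primeCompl), p' * theta 𝒜 P f g hg s = theta 𝒜 P f g hg a) →
      ∃ (a : A) (s : P.primeCompl), p * p' * theta 𝒜 P f g hg s = theta 𝒜 P f g hg a := by
    rintro p p' ⟨a, s, h⟩ ⟨a', s', h'⟩
    exact ⟨a * a', s * s', by rw [Submonoid.coe_mul, map_mul, map_mul, mul_mul_mul_comm, h, h']⟩
  induction p using LaurentPolynomial.induction_on' with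
  | add p p' hp hp' =>
    obtain ⟨a, s, h⟩ := hp
    obtain ⟨a', s', h'⟩ := hp'
    refine ⟨a * s' + s * a', s * s', ?_⟩
    rw [map_add, map_mul, map_mul, ← h, ← h', Submonoid.coe_mul, map_mul]
    ring
  | C_mul_T n r =>
    refine hmul _ _ (hC r) ?_
    induction n using Int.induction_on with
    | zero => exact ⟨1, 1, by simp⟩
    | succ i hi =>
      rw [LaurentPolynomial.T_add]
      exact hmul _ _ hi ⟨(g : A), ⟨(f : A), hf⟩, hgf⟩
    | pred i hi =>
      rw [sub_eq_add_neg, LaurentPolynomial.T_add]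
      refine hmul _ _ hi ⟨(f : A), ⟨(g : A), hg⟩, ?_⟩
      change LaurentPolynomial.T (-1) * theta 𝒜 P f g hg g = _
      rw [← hgf, ← mul_assoc, ← LaurentPolynomial.T_add, neg_add_cancel, LaurentPolynomial.T_zero, one_mul]

include f g hf hg in
theorem flat_local : Module.Flat (R0 𝒜 P) (L0 P) := by
  letI : Algebra (R0 𝒜 P)[T;T⁻¹] (L0 P) := (psi 𝒜 P f g hf hg).toAlgebra
  haveI : IsScalarTower (R0 𝒜 P) (R0 𝒜 P)[T;T⁻¹] (L0 P) := IsScalarTower.of_algebraMap_eq fun r => by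
    change _ = psi 𝒜 P f g hf hg _
    rw [← LaurentPolynomial.C_eq_algebraMap, psi, LaurentPolynomial.eval₂_C]
  haveI : IsLocalization (P.primeCompl.map (theta 𝒜 P f g hg)) (L0 P) :=
    { map_units := by
        rintro ⟨_, s, hs, rfl⟩
        change IsUnit (psi 𝒜 P f g hf hg (theta 𝒜 P f g hg s))
        rw [psi_theta]
        exact IsLocalization.map_units (L0 P) (⟨s, hs⟩ : P.primeCompl)
      surj := fun z => by
        obtain ⟨a, s, rfl⟩ := IsLocalization.exists_mk'_eq P.primeCompl z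
        refine ⟨(theta 𝒜 P f g hg a, ⟨_, Submonoid.mem_map_of_mem _ s.2⟩), ?_⟩
        change _ * psi 𝒜 P f g hf hg (theta 𝒜 P f g hg s) = psi 𝒜 P f g hf hg (theta 𝒜 P f g hg a)
        rw [psi_theta, psi_theta, IsLocalization.mk'_spec]
      exists_of_eq := fun {p p'} h => by
        obtain ⟨a, s, has⟩ := exists_mul 𝒜 P f g hf hg (p - p')
        have h0 : algebraMap A (L0 P) a = 0 := by
          rw [← psi_theta 𝒜 P f g hf hg a, ← has, map_mul, map_sub, show psi 𝒜 P f g hf hg p = psi 𝒜 P f g hf hg p' from h,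
            sub_self, zero_mul]
        obtain ⟨t, ht⟩ := (IsLocalization.map_eq_zero_iff P.primeCompl (L0 P) a).1 h0
        refine ⟨⟨_, Submonoid.mem_map_of_mem _ (t * s).2⟩, ?_⟩
        refine sub_eq_zero.1 ?_
        change theta 𝒜 P f g hg ((t : A) * s) * p - theta 𝒜 P f g hg ((t : A) * s) * p' = 0
        rw [← mul_sub, map_mul, mul_assoc, mul_comm (theta 𝒜 P f g hg (s : A)), has, ← map_mul, ht, map_zero] }
  haveI : Module.Flat (R0 𝒜 P)[T;T⁻¹] (L0 P) := IsLocalization.flat (L0 P) (P.primeCompl.map (theta 𝒜 P f g hg))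
  exact Module.Flat.trans (R0 𝒜 P) (R0 𝒜 P)[T;T⁻¹] (L0 P)

include f g hf hg in
theorem gorenstein_R0 [LocCoh.IsGorensteinRing A] : LocCoh.IsGorensteinLocalRing (R0 𝒜 P) := by
  haveI := flat_local 𝒜 P f g hf hg
  haveI : IsLocalHom (algebraMap (R0 𝒜 P) (L0 P)) :=
    ⟨fun r hr => (HomogeneousLocalization.isUnit_iff_isUnit_val (f := r)).1 (by
      rwa [HomogeneousLocalization.algebraMap_apply] at hr)⟩
  haveI : Module.FaithfullyFlat (R0 𝒜 P) (L0 P) := Module.FaithfullyFlat.of_flat_of_isLocalHom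
  haveI hG : LocCoh.IsGorensteinLocalRing (L0 P) := LocCoh.IsGorensteinRing.isGorensteinLocalRing_localization P
  haveI : IsNoetherianRing (R0 𝒜 P) := by
    rw [isNoetherianRing_iff, isNoetherian_iff]
    exact (RelHomClass.wellFounded (⟨fun I => I.map (algebraMap (R0 𝒜 P) (L0 P)), fun {I J} hIJ =>
      lt_of_le_of_ne (Ideal.map_mono hIJ.le) fun h => hIJ.ne (by
        rw [← Ideal.comap_map_eq_self_of_faithfullyFlat (B := L0 P) J, h,
          Ideal.comap_map_eq_self_of_faithfullyFlat])⟩ :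
      ((· > ·) : Ideal (R0 𝒜 P) → Ideal (R0 𝒜 P) → Prop) →r ((· > ·) : Ideal (L0 P) → Ideal (L0 P) → Prop))
      (isNoetherian_iff.1 inferInstance))
  exact ((Groth.Agent.Goren.gorenstein_flat_iff (R := R0 𝒜 P) (S := L0 P)).1 hG).1

open AlgebraicGeometry Pointwise in
/-- Let A = ⊕_{n ≥ 0} A_n be a commutative Noetherian graded ring satisfying condition (#) — there is an
integer d_0 such that for every d ≥ d_0 the Veronese subring A^(d) is generated by A_d over A_0,
equivalently A_{(n+1)d} is additively generated by the products A_d A_{nd} for every n ≥ 1 — and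
assume A is a Gorenstein ring. Then X = Proj A is a Gorenstein scheme: all of its local rings are
Gorenstein local rings. (The Cohen–Macaulay case of the same lemma is stated separately.) -/
theorem result (A : Type u) [CommRing A] (𝒜 : ℕ → AddSubgroup A) [GradedRing 𝒜] [LocCoh.IsGorensteinRing A] (hsharp : ∃ d₀ : ℕ, ∀ d : ℕ, d₀ ≤ d → ∀ n : ℕ, 1 ≤ n → 𝒜 ((n + 1) * d) = AddSubgroup.closure ((𝒜 d : Set A) * (𝒜 (n * d) : Set A))) (x : Proj 𝒜) : LocCoh.IsGorensteinLocalRing ((Proj 𝒜).presheaf.stalk x) := by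
  obtain ⟨d₀, hd₀⟩ := hsharp
  let P : Ideal A := x.asHomogeneousIdeal.toIdeal
  haveI : P.IsPrime := x.isPrime
  obtain ⟨e, he, f₀, hf₀, hf₀P⟩ : ∃ e : ℕ, 0 < e ∧ ∃ f₀ ∈ 𝒜 e, f₀ ∉ P := by
    by_contra hc
    push_neg at hc
    refine x.not_irrelevant_le fun a ha => ?_
    classical
    rw [← DirectSum.sum_support_decompose 𝒜 a]
    refine P.sum_mem fun i _ => ?_
    rcases Nat.eq_zero_or_pos i with rfl | hi
    · have h0 : (DirectSum.decompose 𝒜 a 0 : A) = 0 := by
        rw [HomogeneousIdeal.mem_irrelevant_iff, GradedRing.proj_apply] at ha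
        exact ha
      rw [h0]; exact P.zero_mem
    · exact hc i hi _ (SetLike.coe_mem _)
  have key : ∀ d, d₀ ≤ d → ∃ f ∈ 𝒜 d, f ∉ P := fun d hd => by
    by_contra hc
    push_neg at hc
    refine hf₀P (‹P.IsPrime›.mem_of_pow_mem d ?_)
    have hm : f₀ ^ d ∈ 𝒜 (e * d) := by
      have := SetLike.pow_mem_graded d hf₀
      rwa [smul_eq_mul, mul_comm] at this
    obtain ⟨n, rfl⟩ : ∃ n, e = n + 1 := ⟨e - 1, by omega⟩
    rcases Nat.eq_zero_or_pos n with rfl | hn
    · rw [zero_add, one_mul] at hm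
      exact hc _ hm
    · rw [hd₀ d hd n hn] at hm
      refine (AddSubgroup.closure_le P.toAddSubgroup).2 ?_ hm
      rintro _ ⟨a, ha, b, hb, rfl⟩
      exact P.mul_mem_right b (hc a ha)
  obtain ⟨f, hf, hfP⟩ := key d₀ le_rfl
  obtain ⟨g, hg, hgP⟩ := key (d₀ + 1) (Nat.le_succ _)
  haveI := gorenstein_R0 𝒜 P ⟨f, hf⟩ ⟨g, hg⟩ hfP hgP
  exact (Groth.Agent.Goren.gorenstein_equiv_iff (AlgebraicGeometry.Proj.stalkIso 𝒜 x).commRingCatIsoToRingEquiv).2 this

end Groth.Agent.S18666
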