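import Groth.Statements.S1867
import Groth.Agent.CycDim.RelDim

set_option autoImplicit false
universe u
open CategoryTheory AlgebraicGeometry
open Cyc

namespace Groth.Agent.S1867

/-- Let f : X → Y be a proper morphism of integral schemes with Y locally Noetherian, mapping the
generic point to the generic point with finite extension of function fields, and let ξ be a point of
Y whose local ring has dimension 1. Then f is finite over some open neighbourhood of ξ. -/
theorem result (X Y : Scheme.{u}) [IsIntegral X] [IsIntegral Y] [IsLocallyNoetherian Y] (f : X ⟶ Y) [IsProper f] (hgen : f (genericPoint X) = genericPoint Y) (hfin : (f.residueFieldMap (genericPoint X)).hom.Finite) (ξ : Y) (hξ : ringKrullDim (Y.presheaf.stalk ξ) = 1) : ∃ V : Y.Opens, ξ ∈ V ∧ IsFinite (f ∣_ V) := by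

  haveI : IsLocallyNoetherian X := LocallyOfFiniteType.isLocallyNoetherian f
  apply exists_isFinite_morphismRestrict_of_finite_preimage_singleton
  have hhtop : ∀ z : Y, z ⤳ genericPoint Y → z = genericPoint Y :=
    fun z hz => (hz.antisymm (genericPoint_specializes z)).eq
  have hne : genericPoint Y ≠ ξ := by
    intro e
    rw [← e, ringKrullDim_stalk_eq_coheight, Groth.Agent.CycDim.coheight_eq_zero_of_generic hhtop] at hξ
    exact zero_ne_one (α := ℕ∞) (WithBot.coe_eq_one.1 hξ).symm.symm
  have hC : Groth.Agent.DimFormula.GenLE (genericPoint Y) ξ 1 := by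
    intro n c hc _ hlast
    have := (Groth.Agent.DimFormula.ringKrullDim_stalk_le_iff ξ (k := 1)).1 (le_of_eq hξ)
    exact this n c hc hlast
  have h0 : Dual3.resTrdeg f (genericPoint X) = 0 := by
    letI := (f.residueFieldMap (genericPoint X)).hom.toAlgebra
    haveI : Module.Finite (Y.residueField (f (genericPoint X))) (X.residueField (genericPoint X)) := hfin
    exact trdeg_eq_zero_iff.2 inferInstance
  obtain ⟨e, he, hele, -⟩ := Groth.Agent.CycDim.exists_trdeg f (genericPoint X)
  rw [h0] at he
  have he0 : e = 0 := by exact_mod_cast he.symm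
  subst he0
  have hd : ∀ x : X, f x = ξ → Groth.Agent.Unibranch.ChainsLE f (closure {x}) ξ 0 := by
    intro x hx
    obtain ⟨d, -, hdle, hdge⟩ := Groth.Agent.CycDim.exists_trdeg f x
    have hxne : genericPoint X ≠ x := fun e => hne (by rw [← hgen, e, hx])
    have ha : Groth.Agent.DimFormula.HasGen (genericPoint X) x 1 :=
      ⟨![genericPoint X, x], fun i => by fin_cases i; exact ⟨genericPoint_specializes x, hxne⟩, specializes_rfl, rfl⟩
    have := Groth.Agent.DimFormula.dimension_inequality f (genericPoint_specializes x) ha
      (c := 1) (by rw [hgen, hx]; exact hC) hdge hele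
    rw [hx] at hdle
    have hd0 : d = 0 := by omega
    exact hd0 ▸ hdle
  have hmax : ∀ x w : X, f x = ξ → f w = ξ → w ⤳ x → w = x := by
    intro x w hx hw hwx
    by_contra hne'
    have := hd w hw 1 ![w, x] (fun i => by
      fin_cases i
      · exact ⟨specializes_iff_mem_closure.1 specializes_rfl, hw⟩
      · exact ⟨specializes_iff_mem_closure.1 hwx, hx⟩) (fun i => by fin_cases i; exact ⟨hwx, hne'⟩)
    omega
  haveI : CompactSpace (f.fiber ξ) := by
    haveI : QuasiCompact (f.fiberToSpecResidueField ξ) := MorphismProperty.pullback_snd _ _ inferInstance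
    exact QuasiCompact.compactSpace_of_compactSpace (f.fiberToSpecResidueField ξ)
  haveI : LocallyOfFiniteType (f.fiberToSpecResidueField ξ) := MorphismProperty.pullback_snd _ _ inferInstance
  haveI : IsLocallyNoetherian (f.fiber ξ) := LocallyOfFiniteType.isLocallyNoetherian (f.fiberToSpecResidueField ξ)
  haveI : IsNoetherian (f.fiber ξ) := ⟨⟩
  haveI : Finite (f.fiber ξ) := by
    have hfin' := TopologicalSpace.NoetherianSpace.finite_irreducibleComponents (α := f.fiber ξ)
    haveI := hfin'.to_subtype
    refine Finite.of_injective (fun w : f.fiber ξ => (⟨closure {w}, ?_⟩ : irreducibleComponents (f.fiber ξ))) ?_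
    · have hy : ∀ v : f.fiber ξ, f (f.fiberι ξ v) = ξ := fun v => by
        have : f.fiberι ξ v ∈ Set.range (f.fiberι ξ) := ⟨v, rfl⟩
        rw [Scheme.Hom.range_fiberι] at this
        exact this
      exact (Groth.Agent.CycDim.mem_components_iff f w).2 fun v hv hvw => hmax _ v (hy w) (hv.trans (hy w)) hvw
    · intro a b hab
      have h : closure ({a} : Set (f.fiber ξ)) = closure {b} := congrArg Subtype.val hab
      exact ((specializes_iff_mem_closure.2 (h ▸ subset_closure rfl : b ∈ closure {a})).antisymm
        (specializes_iff_mem_closure.2 (h.symm ▸ subset_closure rfl : a ∈ closure {b}))).eq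
  have h := Set.finite_range (f.fiberι ξ)
  rwa [Scheme.Hom.range_fiberι] at h

end Groth.Agent.S1867
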