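import Groth.Statements.S18672
-- import your own Groth.Agent.* helpers here
import Groth.Agent.GrLCLib.StdGraded

set_option autoImplicit false
universe u
open GrLC
open Groth.Agent

namespace Groth.Agent.S18672

/-- Let R be a graded ring defined over a field k = R_0 which is Cohen–Macaulay and generated over k by
R_1 (the standing hypotheses of this section; only generation in degree one is used), q ≥ 1, R' =
R^(q), and a an integer. Then the Veronese submodule [R(a)]^(q) = ⊕_j R_{a+jq} is generated over R'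
by its piece R(a)_n = R_{a+n}, where n is the smallest multiple of q with n + a ≥ 0. Here 'graded
ring defined over a field' means R = ⊕_{n ≥ 0} R_n is Noetherian with R_0 a field, and m = R_+ is
its unique graded maximal ideal. The Veronese subring R^(q) = ⊕_j R_{jq}, regraded by (R^(q))_j =
R_{jq}, is presented abstractly as a ℤ-graded ring R' with an injective ring homomorphism φ : R' → R
carrying R'_j onto R_{jq} for every j. The module [R(a)]^(q) is presented as a graded R'-module M'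
with an injective additive map g : M' → R, semilinear over φ, carrying M'_j onto R_{a+jq} for every
j; with n = j₀q, the conclusion is that the R'-span of M'_{j₀} is all of M'. -/
theorem result (R : Type u) [CommRing R] [LocCoh.IsCohenMacaulayRing R] (𝒜 : ℤ → AddSubgroup R) [GradedRing 𝒜] (hpos : ∀ n : ℤ, n < 0 → 𝒜 n = ⊥) (h0 : IsField (GrLC.deg0 𝒜)) (hstd : Ideal.span (⋃ n ∈ Set.Ioi (0 : ℤ), (𝒜 n : Set R)) = Ideal.span ((𝒜 1 : AddSubgroup R) : Set R)) (q : ℕ) (hq : 0 < q) (R' : Type u) [CommRing R'] (𝒜' : ℤ → AddSubgroup R') [GradedRing 𝒜'] (φ : R' →+* R) (hφ : Function.Injective φ) (hdeg : ∀ j : ℤ, (𝒜' j).map (φ : R' →+ R) = 𝒜 (j * q)) (a : ℤ) (M' : Type u) [AddCommGroup M'] [Module R' M'] (ℳ' : ℤ → AddSubgroup M') [DirectSum.Decomposition ℳ'] [SetLike.GradedSMul 𝒜' ℳ'] (g : M' →ₛₗ[φ] R) (hg : Function.Injective g) (hgdeg : ∀ j : ℤ, (ℳ' j).map (g : M' →+ R) = 𝒜 (a + j * q)) (j₀ : ℤ) (hj₀ : 0 ≤ a + j₀ * q) (hj₀' : a + (j₀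 - 1) * q < 0) : Submodule.span R' ((ℳ' j₀ : AddSubgroup M') : Set M') = ⊤ := by
  obtain ⟨s, x, hx, hgen⟩ := GrLCLib.exists_gens_one hstd
  have key : ∀ (t : ℕ) (c : ℤ), 0 ≤ c → ∀ r ∈ 𝒜 (c + t),
      r ∈ AddSubgroup.closure {y : R | ∃ u ∈ 𝒜 (t : ℤ), ∃ v ∈ 𝒜 c, y = u * v} := by
    intro t
    induction t with
    | zero =>
      intro c _ r hr
      exact AddSubgroup.subset_closure ⟨1, by simpa using SetLike.one_mem_graded 𝒜, r, by simpa using hr, (one_mul r).symm⟩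
    | succ t ih =>
      intro c hc r hr
      have h1 : r ∈ Ideal.span (Set.range x) := hgen ▸ Ideal.subset_span (Set.mem_iUnion₂.2 ⟨c + ((t + 1 : ℕ) : ℤ), Set.mem_Ioi.2 (by omega), hr⟩)
      obtain ⟨w, hw⟩ := (Submodule.mem_span_range_iff_exists_fun _).1 h1
      rw [← GrLCLib.pr_of_mem 𝒜 hr, ← hw, map_sum]
      refine sum_mem fun b _ => ?_
      rw [smul_eq_mul, mul_comm, GrLCLib.pr_mul 𝒜 (hx b), show c + ((t + 1 : ℕ) : ℤ) - 1 = c + t by push_cast; ring]
      have h2 := ih c hc _ (GrLCLib.pr_mem 𝒜 (c + t) (w b))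
      have h3 : x b * GrLCLib.pr 𝒜 (c + t) (w b) ∈ AddSubgroup.map (AddMonoidHom.mulLeft (x b))
          (AddSubgroup.closure {y : R | ∃ u ∈ 𝒜 (t : ℤ), ∃ v ∈ 𝒜 c, y = u * v}) := ⟨_, h2, rfl⟩
      rw [AddMonoidHom.map_closure] at h3
      refine AddSubgroup.closure_mono ?_ h3
      rintro _ ⟨_, ⟨u, hu, v, hv, rfl⟩, rfl⟩
      refine ⟨x b * u, ?_, v, hv, (mul_assoc _ _ _).symm⟩
      rw [show ((t + 1 : ℕ) : ℤ) = 1 + t by push_cast; ring]
      exact SetLike.mul_mem_graded (hx b) hu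
  refine eq_top_iff.2 fun m' _ => GrLCLib.mem_of_pr_mem ℳ' fun j => ?_
  generalize hy : GrLCLib.pr ℳ' j m' = y
  have hyj : y ∈ ℳ' j := hy ▸ GrLCLib.pr_mem ℳ' j m'
  have hgy : g y ∈ 𝒜 (a + j * q) := hgdeg j ▸ ⟨y, hyj, rfl⟩
  by_cases hj : j < j₀
  · have hneg : a + j * q < 0 := by
      have : j * q ≤ (j₀ - 1) * q := mul_le_mul_of_nonneg_right (by omega) (by omega)
      omega
    rw [show y = 0 from hg (((hpos _ hneg).le hgy : g y = 0).trans (map_zero g).symm)]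
    exact Submodule.zero_mem _
  obtain ⟨l, hl⟩ : ∃ l : ℕ, j = j₀ + l := ⟨(j - j₀).toNat, by omega⟩
  subst hl
  have hr : g y ∈ 𝒜 ((a + j₀ * q) + ((l * q : ℕ) : ℤ)) := by
    rwa [show (a + j₀ * q) + ((l * q : ℕ) : ℤ) = a + (j₀ + l) * q by push_cast; ring]
  have h1 := key (l * q) _ hj₀ _ hr
  have h2 : g y ∈ (Submodule.span R' ((ℳ' j₀ : AddSubgroup M') : Set M')).toAddSubgroup.map (g : M' →+ R) := by
    refine (AddSubgroup.closure_le _).2 ?_ h1
    rintro _ ⟨u, hu, v, hv, rfl⟩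
    obtain ⟨u', hu', rfl⟩ : ∃ u' ∈ 𝒜' l, φ u' = u := by
      have := hdeg l ▸ (show u ∈ 𝒜 ((l : ℤ) * q) by rwa [Nat.cast_mul] at hu)
      exact this
    obtain ⟨v', hv', rfl⟩ : ∃ v' ∈ ℳ' j₀, g v' = v := by
      have := hgdeg j₀ ▸ hv
      exact this
    exact ⟨u' • v', Submodule.smul_mem _ u' (Submodule.subset_span hv'), map_smulₛₗ g u' v'⟩
  obtain ⟨y', hy', hyy⟩ := h2
  rwa [← hg hyy]

end Groth.Agent.S18672
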