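import Groth.Statements.S1868
import Groth.Agent.CycDim.FibreDeg

set_option autoImplicit false
universe u
open CategoryTheory AlgebraicGeometry
open Cyc

namespace Groth.Agent.S1868

/-- Let f : X → Y be finite locally free of constant degree d (finite, flat, rank function constantly
d). Then f has relative dimension 0 and for every k-cycle α on Y, f_*(f^*α) = d·α (for any cycle
f^*α on X with the flat-pullback coefficients). Here a pair (X, δ) with Cyc.IsSetup plays the role
of a scheme locally of finite type over a fixed base with a dimension function (X locally Noetherian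
with universally catenary local rings, δ a dimension function), and Cyc.DeltaCompat records that the
dimension function upstairs is the induced one. -/
theorem result (X Y : Scheme.{u}) (δX : X → ℤ) (δY : Y → ℤ) (hX : Cyc.IsSetup X δX) (hY : Cyc.IsSetup Y δY) (f : X ⟶ Y) [IsFinite f] [Flat f] (d : ℕ) (hd : ∀ y : Y, f.finrank y = d) (hδ : Cyc.DeltaCompat f δX δY) (k : ℤ) : Cyc.HasRelDim f 0 ∧ ∀ (α : AlgebraicCycle Y ℤ), α ∈ Cyc.Zk Y δY k → ∀ α' : AlgebraicCycle X ℤ, ⇑α' = Cyc.pullFun f δX δY 0 ⇑α → AlgebraicCycle.map f δX δY α' = d • α := by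

  classical
  haveI := hX.1; haveI := hY.1
  have hzero : ∀ x : X, Dual3.resTrdeg f x = 0 := fun x => by
    letI := (f.residueFieldMap x).hom.toAlgebra
    haveI : Module.Finite (Y.residueField (f x)) (X.residueField x) :=
      Module.finite_of_finrank_pos (Nat.pos_of_ne_zero ((Groth.Agent.CycFin.fibre_degree f (f x)).2.1 x rfl))
    exact trdeg_eq_zero_iff.2 inferInstance
  have hδ0 : ∀ x : X, δX x = δY (f x) := fun x => by
    obtain ⟨n, hn, hx⟩ := hδ x
    have h0 : (n : Cardinal.{u}) = 0 := hn.symm.trans (hzero x)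
    have : n = 0 := by exact_mod_cast h0
    omega
  refine ⟨Groth.Agent.CycDim.hasRelDim_of_trdeg f 0 (fun x _ => by rw [hzero x, Nat.cast_zero]),
    fun α _ α' hα' => ?_⟩
  ext y
  show (∑ᶠ x ∈ (f ⁻¹' {y} : Set X), α' x * (AlgebraicCycle.mapCoeff f δX δY x : ℤ)) = d • α y
  obtain ⟨hfin, -, hsum⟩ := Groth.Agent.CycFin.fibre_degree f y
  rw [finsum_mem_eq_finite_toFinset_sum _ hfin] at hsum ⊢
  rw [hd y] at hsum
  rw [nsmul_eq_mul, ← hsum, Nat.cast_sum, Finset.sum_mul]
  refine Finset.sum_congr rfl fun x hx => ?_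
  have hxy : f x = y := hfin.mem_toFinset.1 hx
  have hm : AlgebraicCycle.mapCoeff f δX δY x = f.residueDegree x := by
    unfold AlgebraicCycle.mapCoeff
    exact if_pos (hδ0 x)
  rw [hα', hm]
  unfold Cyc.pullFun
  rw [if_pos (by rw [add_zero]; exact hδ0 x), show α (f x) = α y from congrArg α hxy]
  push_cast
  ring

end Groth.Agent.S1868
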