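import Groth.Statements.S18694
import Groth.Agent.GmTorsorZar.Main

set_option autoImplicit false
set_option backward.isDefEq.respectTransparency false
set_option backward.isDefEq.respectTransparency.types false
set_option maxHeartbeats 1000000
set_option synthInstance.maxHeartbeats 400000
open CategoryTheory MonoidalCategory CartesianMonoidalCategory MonObj GrpObj AlgebraicGeometry
universe u
open MultTori

namespace Groth.Agent.S18694

theorem isUnit_gcoord {S : Scheme.{u}} {T : Over S} (g : T ⟶ Red.Gm S) :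
    IsUnit (GmTorsorZar.gcoord g) :=
  (Group.isUnit (Multiplicative.ofAdd (1 : ℤ))).map (HomDiag.ch g)

open CategoryTheory.Limits in
open scoped TensorProduct in
/-- Units of a finite algebra over a semilocal ring lift from the closed fibres. -/
theorem exists_unit_lift (A B : Type u) [CommRing A] [Finite (MaximalSpectrum A)] [CommRing B] [Algebra A B]
    [Module.Finite A B] (c : ∀ m : MaximalSpectrum A, ((A ⧸ m.asIdeal) ⊗[A] B)ˣ) :
    ∃ b : Bˣ, ∀ m, (Algebra.TensorProduct.includeRight (R := A) (b : B) : (A ⧸ m.asIdeal) ⊗[A] B) = c m := by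
  have hs : ∀ (m : MaximalSpectrum A) (y : (A ⧸ m.asIdeal) ⊗[A] B),
      ∃ b : B, (1 : A ⧸ m.asIdeal) ⊗ₜ[A] b = y := by
    intro m y
    induction y using TensorProduct.induction_on with
    | zero => exact ⟨0, TensorProduct.tmul_zero _ _⟩
    | tmul r x =>
      obtain ⟨r, rfl⟩ := Ideal.Quotient.mk_surjective r
      exact ⟨r • x, by rw [← TensorProduct.smul_tmul]; congr 1; rw [Algebra.smul_def, _root_.mul_one]; rfl⟩
    | add x y hx hy =>
      obtain ⟨a, rfl⟩ := hx
      obtain ⟨b, rfl⟩ := hy
      exact ⟨a + b, TensorProduct.tmul_add _ _ _⟩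
  choose b hb using fun m => hs m (c m : _)
  classical
  letI := Fintype.ofFinite (MaximalSpectrum A)
  have hco : Pairwise fun m n : MaximalSpectrum A => IsCoprime m.asIdeal n.asIdeal := fun m n h => by
    show IsCoprime m.asIdeal n.asIdeal
    rw [Ideal.isCoprime_iff_sup_eq]
    exact m.isMaximal.coprime_of_ne n.isMaximal fun e => h (MaximalSpectrum.ext e)
  choose e he using fun m => Ideal.pi_quotient_surjective hco
    (fun n => if n = m then 1 else 0)
  have key : ∀ n, (1 : A ⧸ n.asIdeal) ⊗ₜ[A] (∑ m, e m • b m) = (c n : (A ⧸ n.asIdeal) ⊗[A] B) := by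
    intro n
    rw [TensorProduct.tmul_sum, Finset.sum_eq_single n]
    · rw [← TensorProduct.smul_tmul, Algebra.smul_def, _root_.mul_one]
      refine (congrArg (· ⊗ₜ[A] b n) ?_).trans (hb n)
      exact (he n n).trans (if_pos rfl)
    · intro m _ hm
      rw [← TensorProduct.smul_tmul, Algebra.smul_def, _root_.mul_one]
      have : algebraMap A (A ⧸ n.asIdeal) (e m) = 0 := (he m n).trans (if_neg (Ne.symm hm))
      rw [this, TensorProduct.zero_tmul]
    · exact fun h => absurd (Finset.mem_univ n) h
  have hu : IsUnit (∑ m, e m • b m) := by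
    by_contra hu
    obtain ⟨M, hM, hbM⟩ := exists_max_ideal_of_mem_nonunits (mem_nonunits_iff.2 hu)
    haveI : Algebra.IsIntegral A B := inferInstance
    haveI := hM
    haveI := Ideal.isMaximal_comap_of_isIntegral_of_isMaximal (R := A) M
    let n : MaximalSpectrum A := ⟨M.comap (algebraMap A B), inferInstance⟩
    let q : (A ⧸ n.asIdeal) →ₐ[A] B ⧸ M :=
      Ideal.Quotient.liftₐ n.asIdeal (Algebra.ofId A (B ⧸ M)) fun a ha => Ideal.Quotient.eq_zero_iff_mem.2 ha
    let g := Algebra.TensorProduct.productMap q (Ideal.Quotient.mkₐ A M)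
    have h1 : IsUnit (g ((1 : A ⧸ n.asIdeal) ⊗ₜ[A] (∑ m, e m • b m))) := by
      rw [key n]
      exact (c n).isUnit.map g
    rw [Algebra.TensorProduct.productMap_apply_tmul, map_one, _root_.one_mul, Ideal.Quotient.mkₐ_eq_mk,
      Ideal.Quotient.eq_zero_iff_mem.2 hbM] at h1
    haveI := Ideal.Quotient.field M
    exact not_isUnit_zero h1
  exact ⟨hu.unit, key⟩

/-- In the case of the quasitrivial torus R_{B/A}(G_m), let A be a semilocal ring (finitely many maximal
ideals m, residue fields κ_m = A/m), B a finite étale A-algebra, and (P, q) a Weil restriction along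
Spec B → Spec A of the multiplicative group over B (P an A-scheme with q : P ×_A B → G_{m,B}
universal). Then the reduction map P(A) → ∏_m P(κ_m) is surjective: every family (u_m) of κ_m-points
of P over the closed points of Spec A is the family of restrictions of one section of P over A. (The
source states this for every invertible A-torus and reduces it to this case; the
invertible/quasitrivial notions are not available here, so only this case is stated.) -/
theorem result
    (A : Type u) [CommRing A] [Finite (MaximalSpectrum A)]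
    (B : Type u) [CommRing B] [Algebra A B] [Module.Finite A B] [Algebra.Etale A B]
    (P : Over (Spec (CommRingCat.of A))) (q : Red.bc (Spec.map (CommRingCat.ofHom (algebraMap A B))) P ⟶ Red.Gm (Spec (CommRingCat.of B)))
    (hP : WeilRes.IsWeilRes (Spec.map (CommRingCat.ofHom (algebraMap A B))) (Red.Gm (Spec (CommRingCat.of B))) P q)
    (u : ∀ m : MaximalSpectrum A, Spec (CommRingCat.of (A ⧸ m.asIdeal)) ⟶ P.left)
    (hu : ∀ m : MaximalSpectrum A, u m ≫ P.hom = (Spec.map (CommRingCat.ofHom (Ideal.Quotient.mk m.asIdeal)))) :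
    ∃ s : Spec (CommRingCat.of A) ⟶ P.left, s ≫ P.hom = 𝟙 (Spec (CommRingCat.of A)) ∧
      ∀ m : MaximalSpectrum A, (Spec.map (CommRingCat.ofHom (Ideal.Quotient.mk m.asIdeal))) ≫ s = u m := by
  let f := Spec.map (CommRingCat.ofHom (algebraMap A B))
  let T : Over (Spec (CommRingCat.of A)) := Over.mk (𝟙 _)
  let Tm : MaximalSpectrum A → Over (Spec (CommRingCat.of A)) := fun m =>
    Over.mk (Spec.map (CommRingCat.ofHom (Ideal.Quotient.mk m.asIdeal)))
  let tm : ∀ m, Tm m ⟶ T := fun m => Over.homMk (Tm m).hom (Category.comp_id _)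
  let u' : ∀ m, Tm m ⟶ P := fun m => Over.homMk (u m) (hu m)
  let e : ∀ m : MaximalSpectrum A, (Red.bc f (Tm m)).left ≅ Spec (CommRingCat.of (TensorProduct A (A ⧸ m.asIdeal) B)) :=
    fun m => pullbackSpecIso A (A ⧸ m.asIdeal) B
  let cm : ∀ m : MaximalSpectrum A, (TensorProduct A (A ⧸ m.asIdeal) B)ˣ := fun m =>
    Units.map ((Scheme.ΓSpecIso _).hom.hom.comp (e m).inv.appTop.hom).toMonoidHom
      (isUnit_gcoord (WeilRes.restr f q (Tm m) (u' m))).unit
  obtain ⟨b, hb⟩ := exists_unit_lift A B cm
  let sn : (Red.bc f T).left ⟶ Spec (CommRingCat.of B) := (Red.bc f T).hom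
  let v : Γ((Red.bc f T).left, ⊤)ˣ :=
    Units.map (sn.appTop.hom.comp (Scheme.ΓSpecIso (CommRingCat.of B)).inv.hom).toMonoidHom b
  obtain ⟨g, hg⟩ := Groth.Agent.GmTorsorZar.exists_gcoord (S := Spec (CommRingCat.of B)) v
  obtain ⟨s, hs⟩ := (hP T).2 g
  refine ⟨s.left, Over.w s, fun m => ?_⟩
  have : tm m ≫ s = u' m := by
    refine (hP (Tm m)).1 (Groth.Agent.GmTorsorZar.gcoord_ext ?_)
    rw [WeilRes.restr_comp, hs, Groth.Agent.GmTorsorZar.gcoord_comp, hg]
    show (((Over.pullback f).map (tm m)).left.appTop (sn.appTop ((Scheme.ΓSpecIso _).inv (b : B))) : _) = _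
    rw [← CommRingCat.comp_apply, ← Scheme.Hom.comp_appTop]
    have h2 : ((Over.pullback f).map (tm m)).left ≫ sn =
        (e m).hom ≫ Spec.map (CommRingCat.ofHom (Algebra.TensorProduct.includeRight (R := A) (A := A ⧸ m.asIdeal)).toRingHom) :=
      (Over.w ((Over.pullback f).map (tm m))).trans (pullbackSpecIso_hom_snd A (A ⧸ m.asIdeal) B).symm
    rw [h2, Scheme.Hom.comp_appTop, CommRingCat.comp_apply, ← CommRingCat.comp_apply (Scheme.ΓSpecIso (CommRingCat.of B)).inv,
      ← Scheme.ΓSpecIso_inv_naturality, CommRingCat.comp_apply]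
    erw [show (CommRingCat.ofHom (Algebra.TensorProduct.includeRight (R := A) (A := A ⧸ m.asIdeal)).toRingHom) (b : B) =
      (cm m : TensorProduct A (A ⧸ m.asIdeal) B) from hb m]
    show (e m).hom.appTop ((Scheme.ΓSpecIso _).inv ((Scheme.ΓSpecIso _).hom ((e m).inv.appTop _))) = _
    rw [← CommRingCat.comp_apply (Scheme.ΓSpecIso _).hom, Iso.hom_inv_id, CommRingCat.id_apply,
      ← CommRingCat.comp_apply, ← Scheme.Hom.comp_appTop, Iso.hom_inv_id, Scheme.Hom.id_appTop, CommRingCat.id_apply]
    rfl
  exact congrArg (fun t => t.left) this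

end Groth.Agent.S18694
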