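import Groth.Statements.S18704
import Groth.Agent.QGorD.Skn

set_option autoImplicit false
universe u
open QGor

namespace Groth.Agent.S18704

/-- Affine form. Let A be a Noetherian ring with Serre's condition (S_2), I an ideal with ht I ≥ 2
(every prime containing I has height ≥ 2), and G a finite A-module with G_p reflexive for every
prime p not containing I. Then the following are equivalent: (i) G has (S_2) and dim Supp(G_p) ≥ 2
for every prime p ⊇ I in Supp G; (ii) depth_I G ≥ 2; (iii) G is reflexive. -/
theorem result (A : Type u) [CommRing A] [IsNoetherianRing A]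
    (hA : LocCoh.HasSk 2 A A) (I : Ideal A) (hI : 2 ≤ I.height)
    (G : Type u) [AddCommGroup G] [Module A G] [Module.Finite A G]
    (hU : ∀ p : PrimeSpectrum A, ¬ I ≤ p.asIdeal →
      Module.IsReflexive (Localization.AtPrime p.asIdeal) (LocalizedModule p.asIdeal.primeCompl G)) :
    ((LocCoh.HasSk 2 A G ∧ ∀ p : PrimeSpectrum A, I ≤ p.asIdeal → p ∈ Module.support A G →
        (2 : WithBot ℕ∞) ≤ Module.supportDim (Localization.AtPrime p.asIdeal) (LocalizedModule p.asIdeal.primeCompl G)) ↔
      2 ≤ LocCoh.idealDepth I G) ∧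
    (2 ≤ LocCoh.idealDepth I G ↔ Module.IsReflexive A G) := by
  have hAI : (2 : ℕ∞) ≤ LocCoh.idealDepth I A := by
    exact_mod_cast Groth.Agent.QGorD.le_idealDepth_of_hasSk (k := 2) hA fun p hp _ => by
      rw [Groth.Agent.InvFin.supportDim_self]
      exact WithBot.coe_le_coe.mpr (hI.trans (Ideal.height_mono hp))
  have h32 : Module.IsReflexive A G → 2 ≤ LocCoh.idealDepth I G := fun h => by
    exact_mod_cast Groth.Agent.QGorD.le_idealDepth_of_isReflexive G 2 le_rfl (by exact_mod_cast hAI)
  have h23 : 2 ≤ LocCoh.idealDepth I G → Module.IsReflexive A G := fun h =>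
    Groth.Agent.QGorD.isReflexive_of_two_le (le_trans (by norm_num) hAI) G hU h
  refine ⟨⟨fun h => ?_, fun h => ?_⟩, h23, h32⟩
  · exact_mod_cast Groth.Agent.QGorD.le_idealDepth_of_hasSk (k := 2) h.1 h.2
  · refine ⟨?_, fun p hp hs => le_trans ?_ (Groth.Agent.QGorD.idealDepth_le_supportDim p hp hs)⟩
    · haveI := h23 h
      exact Groth.Agent.QGorD.hasSk_of_isReflexive le_rfl hA G
    · exact WithBot.coe_le_coe.mpr h

end Groth.Agent.S18704
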