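import Groth.Statements.S18708
import Groth.Agent.QGorD.FourTerm

set_option autoImplicit false
universe u
open QGor

namespace Groth.Agent.S18708

/-- Affine-local form at a point of the equivalence (b) ⇔ (c) ⇔ (b″) and of the note after it. Let A → B
be a local homomorphism of Noetherian local rings, m the maximal ideal of A, J an ideal of B and 0 →
F → E⁰ → E¹ → G → 0 an exact sequence of finite B-modules with E⁰, E¹ flat over A, G_q flat over A
for every prime q not containing J, depth_J (E⁰/mE⁰) ≥ 2 and depth_J (E¹/mE¹) ≥ 1. Then depth_J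
(F/mF) ≥ 2 (the restriction map of the closed fibre of F off V(J) is bijective) if and only if G is
flat over A, if and only if depth_J (F/m^(n+1)F) ≥ 2 for all n; and when G is flat over A so is F. -/
theorem result (A B : Type u) [CommRing A] [CommRing B]
    [IsNoetherianRing A] [IsNoetherianRing B] [IsLocalRing A] [IsLocalRing B] [Algebra A B]
    [IsLocalHom (algebraMap A B)] (J : Ideal B)
    (F E0 E1 G : Type u) [AddCommGroup F] [Module B F] [Module A F] [IsScalarTower A B F] [Module.Finite B F]
    [AddCommGroup E0] [Module B E0] [Module A E0] [IsScalarTower A B E0] [Module.Finite B E0] [Module.Flat A E0]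
    [AddCommGroup E1] [Module B E1] [Module A E1] [IsScalarTower A B E1] [Module.Finite B E1] [Module.Flat A E1]
    [AddCommGroup G] [Module B G] [Module A G] [IsScalarTower A B G] [Module.Finite B G]
    (f : F →ₗ[B] E0) (u : E0 →ₗ[B] E1) (v : E1 →ₗ[B] G)
    (hf : Function.Injective f) (hfu : Function.Exact f u) (huv : Function.Exact u v) (hv : Function.Surjective v)
    (hGU : ∀ q : PrimeSpectrum B, ¬ J ≤ q.asIdeal → FlatCA.FlatAt A q.asIdeal G)
    (h0 : 2 ≤ LocCoh.idealDepth J (EGA4.FibMod A B E0)) (h1 : 1 ≤ LocCoh.idealDepth J (EGA4.FibMod A B E1)) :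
    (2 ≤ LocCoh.idealDepth J (EGA4.FibMod A B F) ↔ Module.Flat A G) ∧
    (Module.Flat A G ↔ ∀ n : ℕ, 2 ≤ LocCoh.idealDepth J (F ⧸ ((EGA4.mB A B) ^ (n + 1) • (⊤ : Submodule B F)))) ∧
    (Module.Flat A G → Module.Flat A F) := by
  have hUF : ∀ q : PrimeSpectrum B, ¬ J ≤ q.asIdeal → FlatCA.FlatAt A q.asIdeal F := fun q hq =>
    QGorD.flatAt_left hf hfu huv hv q.asIdeal (hGU q hq)
  have hA : 2 ≤ LocCoh.idealDepth J (EGA4.FibMod A B F) → Module.Flat A G := fun h2 => by
    haveI : Module.Flat A F := QGorD.flat_of_one_le hUF (le_trans (by norm_num) h2)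
    refine QGorD.flat_of_middle_exact hfu huv hv fun e he => ?_
    have hle : EGA4.mB A B • (⊤ : Submodule B F) ≤ (EGA4.mB A B • (⊤ : Submodule B E0)).comap f := by
      rw [← Submodule.map_le_iff_le_comap, Submodule.map_smul'']
      exact Submodule.smul_mono le_rfl le_top
    let fb := Submodule.mapQ _ _ f hle
    obtain ⟨x, hx, hrF, hr0⟩ := QGorD.exists_regular_both J (EGA4.FibMod A B F) (EGA4.FibMod A B E0)
      (le_trans (by norm_num) h2) (le_trans (by norm_num) h0)
    have hinj : Function.Injective fb := by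
      rw [injective_iff_map_eq_zero]
      intro z hz
      obtain ⟨k, hk⟩ := QGorD.exists_pow_smul_mem (I := J) (⊥ : Submodule B (EGA4.FibMod A B F)) z fun q hq => by
        obtain ⟨z, rfl⟩ := Submodule.Quotient.mk_surjective _ z
        rw [Submodule.mapQ_apply, Submodule.Quotient.mk_eq_zero] at hz
        obtain ⟨s, hs, hsz⟩ := QGorD.exists_smul_mem_of_map_mem (π := u.rangeRestrict) hf u.surjective_rangeRestrict
          (QGorD.exact_rangeRestrict hfu) q.asIdeal
          (QGorD.flatAt_of_flat_coker (Submodule.injective_subtype _) hv (QGorD.exact_subtype_range huv) q.asIdeal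
            (QGorD.flatAt_of_flat q.asIdeal) (hGU q hq)) _ hz
        exact ⟨s, hs, (Submodule.mem_bot B).2 ((Submodule.Quotient.mk_eq_zero _).2 hsz)⟩
      exact QGorD.eq_zero_of_regular_of_torsion hrF ⟨k, (Submodule.mem_bot B).1 (hk _ (Ideal.pow_mem_pow hx k))⟩
    obtain ⟨z, hz⟩ : (Submodule.Quotient.mk e : EGA4.FibMod A B E0) ∈ LinearMap.range fb := by
      refine QGorD.mem_range_of_torsion fb hinj h2 hx hrF hr0 fun a ha => ?_
      obtain ⟨k, hk⟩ := QGorD.exists_pow_smul_mem (I := J) (LinearMap.range fb) (Submodule.Quotient.mk e) fun q hq => by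
        obtain ⟨s, hs, hse⟩ := QGorD.exists_smul_mem_of_map_mem (i := (LinearMap.range u).subtype) (π := v)
          (x := u.rangeRestrict e) (Submodule.injective_subtype _) hv (QGorD.exact_subtype_range huv) q.asIdeal
          (hGU q hq) (IsLocalRing.maximalIdeal A) he
        rw [← map_smul, ← Submodule.map_top (f := u.rangeRestrict) |>.trans u.range_rangeRestrict,
          ← Submodule.map_smul''] at hse
        obtain ⟨e', he', heq⟩ := hse
        obtain ⟨y, hy⟩ := (QGorD.exact_rangeRestrict hfu (s • e - e')).1 (by rw [map_sub, heq, sub_self])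
        refine ⟨s, hs, Submodule.Quotient.mk y, ?_⟩
        rw [← Submodule.Quotient.mk_smul, Submodule.mapQ_apply, hy, Submodule.Quotient.eq, sub_sub_cancel_left]
        exact neg_mem he'
      exact ⟨k, hk _ (Ideal.pow_mem_pow ha k)⟩
    obtain ⟨z, rfl⟩ := Submodule.Quotient.mk_surjective _ z
    exact ⟨z, (Submodule.Quotient.eq _).1 hz.symm⟩
  have hB : Module.Flat A G → 2 ≤ LocCoh.idealDepth J (EGA4.FibMod A B F) := fun h => by
    haveI := h
    exact QGorD.two_le_fibMod_of_flat hf hfu huv hv h0 h1
  refine ⟨⟨hA, hB⟩, ⟨fun h n => QGorD.two_le_quot_pow hUF (hB h) n, fun h => hA ?_⟩,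
    fun h => QGorD.flat_of_one_le hUF (le_trans (by norm_num) (hB h))⟩
  have h' := h 0
  rw [zero_add, pow_one] at h'
  exact h'

end Groth.Agent.S18708
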