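import Groth.Statements.S1871
import Groth.Agent.DiagTor.Pos
import Groth.Agent.DiagTor.Chart
import Groth.Agent.WeilLib.Trdeg
import Groth.Agent.SmLocalST.SmoothField
-- import your own Groth.Agent.* helpers here

set_option autoImplicit false
set_option backward.isDefEq.respectTransparency false
universe u
open CategoryTheory AlgebraicGeometry
attribute [local instance] HasDerivedCategory.standard
open IntMult

namespace Groth.Agent.S1871

/-- Positivity of intersection multiplicities. Let X be a nonsingular variety of dimension n over an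
algebraically closed field K (X integral, smooth, separated and quasi-compact over K), and V, W
integral closed subschemes of X, given by quasi-coherent ideal sheaves, of dimensions r and s, which
intersect properly (if V ∩ W is nonempty then n ≤ r + s and dim(V ∩ W) ≤ r + s − n). Let ξ be the
generic point of an irreducible component Z of V ∩ W, i.e. a point of V ∩ W such that every point of
V ∩ W specializing to ξ equals ξ. Then the intersection multiplicity e(X, V·W, Z) = ∑_i (−1)^i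
length_{O_{X,ξ}} Tor_i^{O_{X,ξ}}(O_{X,ξ}/I_{W,ξ}, O_{X,ξ}/I_{V,ξ}) is positive. -/
theorem result (K : Type u) [Field K] [IsAlgClosed K] (X : Scheme.{u}) (f : X ⟶ Spec (CommRingCat.of K)) [Smooth f] [IsSeparated f] [QuasiCompact f] [IsIntegral X] (IV IW : X.IdealSheafData) [IsIntegral IV.subscheme] [IsIntegral IW.subscheme] (n r s : ℕ) (hn : topologicalKrullDim X = n) (hr : topologicalKrullDim IV.support = r) (hs : topologicalKrullDim IW.support = s) (hprop : IntMult.ProperInt (IV.support : Set X) (IW.support : Set X) n r s) (ξ : X) (hξV : ξ ∈ IV.support) (hξW : ξ ∈ IW.support) (hmax : ∀ ξ' : X, ξ' ∈ IV.support → ξ' ∈ IW.support → ξ' ⤳ ξ → ξ' = ξ) : 0 < IntMult.mult IV IW ξ := by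
  haveI : IsLocallyNoetherian X := LocallyOfFiniteType.isLocallyNoetherian f
  haveI := SmLocalST.isRegularLocalRing_stalk_of_smooth_field f ξ
  obtain ⟨hA, hdn⟩ := BivarOps.ringKrullDim_stalk_eq f n hn ξ
  obtain ⟨hdV, hdr⟩ := BivarOps.stalk_quot_dim f IV r hr hξV
  obtain ⟨hdW, hds⟩ := BivarOps.stalk_quot_dim f IW s hs hξW
  obtain ⟨hle, hd⟩ := hprop ⟨ξ, hξV, hξW⟩
  have hpd := BivarOps.pdim_le_of_proper IV.support.isClosed IW.support.isClosed hξV hξW hd
  have hrad := BivarOps.radical_sup_stalkIdeal IV IW hξV hξW hmax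
  obtain ⟨U, hU, hxU, -⟩ := exists_isAffineOpen_mem_and_subset (x := ξ) (U := ⊤) trivial
  haveI : Nonempty U := ⟨⟨ξ, hxU⟩⟩
  have hfT := f.smooth_appLE (isAffineOpen_top _) hU le_top
  letI : Algebra K Γ(X, U) := ((Scheme.ΓSpecIso (CommRingCat.of K)).inv ≫ f.appLE ⊤ U le_top).hom.toAlgebra
  haveI : Algebra.Smooth K Γ(X, U) := RingHom.smooth_algebraMap.1 <| by
    rw [RingHom.algebraMap_toAlgebra]
    exact RingHom.Smooth.comp (RingHom.Smooth.of_bijective (Scheme.ΓSpecIso (CommRingCat.of K)).symm.commRingCatIsoToRingEquiv.bijective) hfT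
  letI : Algebra Γ(X, U) (X.presheaf.stalk ξ) := (X.presheaf.germ U ξ hxU).hom.toAlgebra
  haveI : IsLocalization.AtPrime (X.presheaf.stalk ξ) (hU.primeIdealOf ⟨ξ, hxU⟩).asIdeal :=
    hU.isLocalization_stalk ⟨ξ, hxU⟩
  have eV := DiagTor.stalkIdeal_chart IV hξV ⟨U, hU⟩ hxU
  have eW := DiagTor.stalkIdeal_chart IW hξW ⟨U, hU⟩ hxU
  haveI := DiagTor.isPrime_ideal IV hξV ⟨U, hU⟩ hxU
  haveI := DiagTor.isPrime_ideal IW hξW ⟨U, hU⟩ hxU
  have hle' : ∀ (I : X.IdealSheafData), ξ ∈ I.support → I.ideal ⟨U, hU⟩ ≤ (hU.primeIdealOf ⟨ξ, hxU⟩).asIdeal := by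
    intro I hI a ha
    by_contra hna
    have hu := IsLocalization.map_units (X.presheaf.stalk ξ)
      (M := (hU.primeIdealOf ⟨ξ, hxU⟩).asIdeal.primeCompl) ⟨a, hna⟩
    exact BivarOps.stalkIdeal_le_maximal I hI (DiagTor.stalkIdeal_chart I hI ⟨U, hU⟩ hxU ▸ Ideal.mem_map_of_mem _ ha) hu
  rw [IntMult.mult, eV, eW]
  refine DiagTor.chi_pos_ring K Γ(X, U) (hU.primeIdealOf ⟨ξ, hxU⟩).asIdeal (IW.ideal ⟨U, hU⟩) (IV.ideal ⟨U, hU⟩)
    (hle' IW hξW) (hle' IV hξV) (X.presheaf.stalk ξ) _ _ _ hA (eW ▸ hdW) (eV ▸ hdV) ?_ (by omega)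
  rw [← hrad, eV, eW]
  exact le_rfl

end Groth.Agent.S1871
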