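import Groth.Statements.S18711
import Groth.Agent.QGorD.FourProj

set_option autoImplicit false
universe u
open QGor

namespace Groth.Agent.S18711

open TensorProduct in
/-- Affine form. Let A → B be a flat homomorphism of Noetherian rings, J an ideal of B such that for
every prime q ⊇ J with contraction p the fibre local ring B_q/pB_q has depth ≥ 2, A → A′ a
homomorphism of Noetherian rings and B′ = A′ ⊗_A B the (Noetherian) pushout. Let 0 → F → E⁰ → E¹ → G
→ 0 be an exact sequence of finite B-modules with E⁰, E¹ projective and F_q, G_q free for every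
prime q not containing J. Then F is reflexive; the kernel K′ of B′ ⊗_B E⁰ → B′ ⊗_B E¹ is a reflexive
B′-module with depth_{JB′} K′ ≥ 2 (so it is the module of sections of the pull-back of F off
V(JB′)); and K′ is flat over A′ with depth ≥ 2 along JB′ on every fibre stalk K′_{q′}/p′K′_{q′} if
and only if B′ ⊗_B G is flat over A′. (The published statement phrases the last left-hand condition
as the relative S₂ condition of K′ over A′; the two agree when the fibres of Spec B′ → Spec A′
satisfy S₂ off V(JB′), and without that the relative S₂ form fails already for A = A′ a field, J =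
B, F = E⁰ = B not S₂ and E¹ = G = 0, so the fibrewise-depth form, which is what the proof
establishes, is stated.) -/
theorem result (A B : Type u) [CommRing A] [CommRing B] [IsNoetherianRing A] [IsNoetherianRing B] [Algebra A B]
    (A' B' : Type u) [CommRing A'] [CommRing B'] [IsNoetherianRing A'] [IsNoetherianRing B']
    [Algebra A A'] [Algebra B B'] [Algebra A' B'] [Algebra A B'] [IsScalarTower A B B'] [IsScalarTower A A' B']
    [Algebra.IsPushout A B A' B'] [Module.Flat A B] (J : Ideal B)
    (hZ : ∀ q : PrimeSpectrum B, J ≤ q.asIdeal →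
      2 ≤ LocCoh.idealDepth (q.asIdeal.map (algebraMap B (EGA4.FibLocRing A B q.asIdeal))) (EGA4.FibLocRing A B q.asIdeal))
    (F E0 E1 G : Type u) [AddCommGroup F] [Module B F] [Module.Finite B F]
    [AddCommGroup E0] [Module B E0] [Module.Finite B E0] [Module.Projective B E0]
    [AddCommGroup E1] [Module B E1] [Module.Finite B E1] [Module.Projective B E1]
    [AddCommGroup G] [Module B G] [Module.Finite B G]
    (f : F →ₗ[B] E0) (u : E0 →ₗ[B] E1) (v : E1 →ₗ[B] G)
    (hf : Function.Injective f) (hfu : Function.Exact f u) (huv : Function.Exact u v) (hv : Function.Surjective v)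
    (hFU : ∀ q : PrimeSpectrum B, ¬ J ≤ q.asIdeal → Module.Free (Localization.AtPrime q.asIdeal) (LocalizedModule q.asIdeal.primeCompl F))
    (hGU : ∀ q : PrimeSpectrum B, ¬ J ≤ q.asIdeal → Module.Free (Localization.AtPrime q.asIdeal) (LocalizedModule q.asIdeal.primeCompl G)) :
    Module.IsReflexive B F ∧
    Module.IsReflexive B' (LinearMap.ker (u.baseChange B')) ∧
    2 ≤ LocCoh.idealDepth (J.map (algebraMap B B')) (LinearMap.ker (u.baseChange B')) ∧
    ((∀ q' : PrimeSpectrum B', FlatCA.FlatAt A' q'.asIdeal (LinearMap.ker (u.baseChange B')) ∧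
        2 ≤ LocCoh.idealDepth ((J.map (algebraMap B B')).map (algebraMap B' (EGA4.FibLocRing A' B' q'.asIdeal)))
          (EGA4.FibLocMod A' B' q'.asIdeal (LinearMap.ker (u.baseChange B')))) ↔
      Module.Flat A' (B' ⊗[B] G)) := by
  have hB : 2 ≤ LocCoh.idealDepth J B := QGorD.le_idealDepth_of_fibres (A := A) B J 2 fun q hq => by
    rw [QGorD.fibLocRing_depth_eq]; exact hZ q hq
  have hB' : 2 ≤ LocCoh.idealDepth (J.map (algebraMap B B')) B' :=
    QGorD.two_le_idealDepth_baseChange (A := A) (B := B) (B' := B') A' J hZ
  refine ⟨?_, ?_⟩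
  · refine QGorD.isReflexive_of_two_le (le_trans (by norm_num) hB) F (fun q hq => ?_)
      (QGorD.two_le_of_kernel f hf u hfu (QGorD.le_idealDepth_of_isReflexive E0 2 le_rfl hB)
        (by exact_mod_cast QGorD.le_idealDepth_of_isReflexive E1 1 (by omega) (le_trans (by norm_num) hB)))
    haveI := hFU q hq
    haveI : Module.Finite (Localization.AtPrime q.asIdeal) (LocalizedModule q.asIdeal.primeCompl F) :=
      Module.Finite.of_isLocalizedModule q.asIdeal.primeCompl (LocalizedModule.mkLinearMap q.asIdeal.primeCompl F)
    infer_instance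
  let u' := u.baseChange B'
  let v' := v.baseChange B'
  let i := (LinearMap.ker u').subtype
  have hi : Function.Injective i := Submodule.injective_subtype _
  have hiu : Function.Exact i u' := LinearMap.exact_subtype_ker_map u'
  have huv' : Function.Exact u' v' := lTensor_exact B' huv hv
  have hv' : Function.Surjective v' := LinearMap.lTensor_surjective B' hv
  haveI : Module.Finite B' (LinearMap.ker u') := Module.IsNoetherian.finite B' _
  have hG' : ∀ q : PrimeSpectrum B', ¬ J.map (algebraMap B B') ≤ q.asIdeal →
      Module.Free (Localization.AtPrime q.asIdeal) (LocalizedModule q.asIdeal.primeCompl (B' ⊗[B] G)) :=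
    fun q hq => QGorD.free_baseChange_off J hGU q hq
  obtain ⟨hrefl, hd⟩ := QGorD.reflexive_and_depth_of_fourTerm (K := LinearMap.ker u') (i := i) (J.map (algebraMap B B')) hB' hG' hi hiu huv' hv'
  refine ⟨hrefl, hd, ?_⟩
  haveI : Algebra.IsPushout A A' B B' := Algebra.IsPushout.symm inferInstance
  haveI : Module.Flat A' B' := Module.Flat.of_linearEquiv (Algebra.IsPushout.equiv A A' B B').toLinearEquiv.symm
  haveI : Module.Flat A' (B' ⊗[B] E0) := Module.Flat.trans A' B' _
  haveI : Module.Flat A' (B' ⊗[B] E1) := Module.Flat.trans A' B' _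
  have hfibB : ∀ q : PrimeSpectrum B', J.map (algebraMap B B') ≤ q.asIdeal →
      2 ≤ LocCoh.idealDepth (q.asIdeal.map (algebraMap B' (EGA4.FibLocRing A' B' q.asIdeal))) (EGA4.FibLocRing A' B' q.asIdeal) := by
    intro q hq
    rw [← QGorD.fibLocRing_depth_eq]
    refine QGorD.two_le_fib_baseChange (A := A) (B := B) (A' := A') (B' := B') B B'
      (TensorProduct.AlgebraTensorModule.rid B B' B') q.asIdeal ?_
    rw [QGorD.fibLocRing_depth_eq]
    exact hZ ⟨q.asIdeal.comap (algebraMap B B'), inferInstance⟩ (Ideal.map_le_iff_le_comap.1 hq)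
  refine QGorD.flat_depth_iff (A := A') (F := LinearMap.ker u') (f := i) hi hiu huv' hv' (J.map (algebraMap B B')) (fun q hq => ?_)
    (fun q hq => QGorD.le_fib_of_projective _ q.asIdeal 2 le_rfl (hfibB q hq))
    (fun q hq => by exact_mod_cast QGorD.le_fib_of_projective _ q.asIdeal 1 (by omega) (le_trans (by norm_num) (hfibB q hq)))
  haveI := hG' q hq
  haveI : Module.Flat A' (Localization.AtPrime q.asIdeal) := Module.Flat.trans A' B' _
  exact Module.Flat.trans A' (Localization.AtPrime q.asIdeal) _

end Groth.Agent.S18711
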