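import Groth.Statements.S18718
import Groth.Agent.QGorD.BaseRefl

set_option autoImplicit false
universe u
open QGor

namespace Groth.Agent.S18718

open TensorProduct in
/-- Affine form. Let A → B be a flat homomorphism of Noetherian rings, J an ideal of B such that the
fibre local ring B_q/pB_q has depth ≥ 2 at every prime q ⊇ J (p its contraction), A → A′ a
homomorphism of Noetherian rings with Noetherian pushout B′ = A′ ⊗_A B, and F a finite B-module with
F_q free for every prime q not containing J. Then depth_J (F^∨∨) ≥ 2 (the double dual is the module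
of sections of F off V(J)); the natural map (B′ ⊗_B F)^∨∨ → (B′ ⊗_B F^∨∨)^∨∨ obtained by dualising
twice the base change of F → F^∨∨ is bijective; and if moreover F is flat over A and the fibre
stalks F_q/pF_q have depth ≥ 2 at all primes q ⊇ J, then F and B′ ⊗_B F are reflexive. -/
theorem result (A B : Type u) [CommRing A] [CommRing B] [IsNoetherianRing A] [IsNoetherianRing B] [Algebra A B]
    (A' B' : Type u) [CommRing A'] [CommRing B'] [IsNoetherianRing A'] [IsNoetherianRing B']
    [Algebra A A'] [Algebra B B'] [Algebra A' B'] [Algebra A B'] [IsScalarTower A B B'] [IsScalarTower A A' B']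
    [Algebra.IsPushout A B A' B'] [Module.Flat A B] (J : Ideal B)
    (hZ : ∀ q : PrimeSpectrum B, J ≤ q.asIdeal →
      2 ≤ LocCoh.idealDepth (q.asIdeal.map (algebraMap B (EGA4.FibLocRing A B q.asIdeal))) (EGA4.FibLocRing A B q.asIdeal))
    (F : Type u) [AddCommGroup F] [Module B F] [Module A F] [IsScalarTower A B F] [Module.Finite B F]
    (hFU : ∀ q : PrimeSpectrum B, ¬ J ≤ q.asIdeal → Module.Free (Localization.AtPrime q.asIdeal) (LocalizedModule q.asIdeal.primeCompl F)) :
    2 ≤ LocCoh.idealDepth J (Module.Dual B (Module.Dual B F)) ∧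
    Function.Bijective (((Module.Dual.eval B F).baseChange B').dualMap.dualMap) ∧
    (Module.Flat A F →
      (∀ q : PrimeSpectrum B, J ≤ q.asIdeal →
        2 ≤ LocCoh.idealDepth (q.asIdeal.map (algebraMap B (EGA4.FibLocRing A B q.asIdeal))) (EGA4.FibLocMod A B q.asIdeal F)) →
      Module.IsReflexive B F ∧ Module.IsReflexive B' (B' ⊗[B] F)) := by
  haveI : Module.Finite B (Module.Dual B (Module.Dual B F)) := by
    haveI : Module.Finite B (Module.Dual B F) := by
      obtain ⟨n, f, hf⟩ := Module.Finite.exists_fin' B F
      exact Module.Finite.of_injective f.dualMap (LinearMap.dualMap_injective_of_surjective hf)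
    obtain ⟨n, f, hf⟩ := Module.Finite.exists_fin' B (Module.Dual B F)
    exact Module.Finite.of_injective f.dualMap (LinearMap.dualMap_injective_of_surjective hf)
  have hB : 2 ≤ LocCoh.idealDepth J B := QGorD.le_idealDepth_of_fibres (A := A) B J 2 fun q hq => by
    rw [QGorD.fibLocRing_depth_eq]; exact hZ q hq
  have hB' : 2 ≤ LocCoh.idealDepth (J.map (algebraMap B B')) B' :=
    QGorD.two_le_idealDepth_baseChange (A := A) (B := B) (B' := B') A' J hZ
  have hbij : Function.Bijective ((Module.Dual.eval B F).baseChange B').dualMap := by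
    refine QGorD.bijective_dualMap_of_iso_off hB' _ fun q hq => ?_
    obtain ⟨σ, s, hs, h1, h2⟩ := QGorD.exists_almost_inverse_eval (q.asIdeal.comap (algebraMap B B'))
      (hFU ⟨q.asIdeal.comap (algebraMap B B'), inferInstance⟩ fun h => hq (Ideal.map_le_iff_le_comap.2 h))
    refine ⟨σ.baseChange B', algebraMap B B' s, hs, fun x => ?_, fun x => ?_⟩
    · induction x using TensorProduct.induction_on with
      | zero => simp
      | tmul c m => rw [LinearMap.baseChange_tmul, LinearMap.baseChange_tmul, h1, TensorProduct.tmul_smul, algebraMap_smul]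
      | add p q hp hq => rw [map_add, map_add, hp, hq, smul_add]
    · induction x using TensorProduct.induction_on with
      | zero => simp
      | tmul c m => rw [LinearMap.baseChange_tmul, LinearMap.baseChange_tmul, h2, TensorProduct.tmul_smul, algebraMap_smul]
      | add p q hp hq => rw [map_add, map_add, hp, hq, smul_add]
  refine ⟨QGorD.le_idealDepth_bidual F 2 le_rfl hB, (LinearEquiv.ofBijective _ hbij).dualMap.bijective, fun hF hfib => ?_⟩
  refine ⟨QGorD.isReflexive_of_flat (A := A) F J (le_trans (by norm_num) hB) hFU hfib, ?_⟩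
  haveI := QGorD.flat_baseChange (A := A) (B := B) (A' := A') (B' := B') F
  exact QGorD.isReflexive_of_flat (A := A') (B' ⊗[B] F) (J.map (algebraMap B B')) (le_trans (by norm_num) hB')
    (fun q hq => QGorD.free_baseChange_off J hFU q hq) fun q hq =>
    QGorD.two_le_fib_baseChange (A := A) (B := B) (A' := A') (B' := B') F _ (LinearEquiv.refl _ _) q.asIdeal
      (hfib ⟨q.asIdeal.comap (algebraMap B B'), inferInstance⟩ (Ideal.map_le_iff_le_comap.1 hq))

end Groth.Agent.S18718
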