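import Groth.Statements.S18719
import Groth.Agent.DualCx.EndK
-- import your own Groth.Agent.* helpers here

set_option autoImplicit false
universe u
open CategoryTheory
attribute [local instance] HasDerivedCategory.standard
open QGor

namespace Groth.Agent.S18719

/-- Affine-local form. Let A be a Noetherian local ring of Krull dimension n with a normalized dualizing
complex ω, and K = H^{-n}(ω) the dualizing module (for A satisfying S₂, ω[−n] is the ordinary
dualizing complex and K its dualizing sheaf). If A satisfies (S₂), then r ↦ r · id_K is a bijection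
A → Hom_A(K, K). If A satisfies (S₃), then Ext¹_A(K, K) = 0 (no nonzero morphisms K → K[1] in D(A)). -/
theorem result (A : Type u) [CommRing A] [IsNoetherianRing A]
    [IsLocalRing A] (ω : Dual.D A) (hω : Dual.IsDualizing A ω) (hn : Dual.IsNormalized A ω)
    (n : ℕ) (hd : ringKrullDim A = n) :
    (LocCoh.HasSk 2 A A →
      Function.Bijective (fun r : A => r • (LinearMap.id : Dual.HD A ω (-(n : ℤ)) →ₗ[A] Dual.HD A ω (-(n : ℤ))))) ∧
    (LocCoh.HasSk 3 A A →
      Subsingleton (Dual.inD A (Dual.HD A ω (-(n : ℤ))) ⟶ (Dual.inD A (Dual.HD A ω (-(n : ℤ))))⟦(1 : ℤ)⟧)) := by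
  let K := Dual.HD A ω (-(n : ℤ))
  let F := DerivedCategory.singleFunctor (ModuleCat.{u} A) (-(n : ℤ))
  have key : LocCoh.HasSk 2 A A → Function.Bijective (fun r : A => r • (LinearMap.id : K →ₗ[A] K)) ∧
      (LocCoh.HasSk 3 A A → Subsingleton (Dual.inD A K ⟶ (Dual.inD A K)⟦(1 : ℤ)⟧)) := by
    intro hS
    obtain ⟨X, ⟨e⟩, hbij, hext⟩ := Groth.Agent.DualCx.exists_bottom_spec hω hn n hd hS
    constructor
    · constructor
      · intro r s hrs
        refine hbij.1 ?_
        have h1 : F.map (r • 𝟙 (ModuleCat.of A K)) = F.map (s • 𝟙 (ModuleCat.of A K)) :=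
          congrArg F.map (ModuleCat.hom_ext hrs)
        rw [Functor.map_smul, Functor.map_smul, CategoryTheory.Functor.map_id] at h1
        have h2 : e.hom ≫ (r • 𝟙 (F.obj (ModuleCat.of A K))) ≫ e.inv = e.hom ≫ (s • 𝟙 (F.obj (ModuleCat.of A K))) ≫ e.inv := by
          rw [h1]
        simp only [Linear.smul_comp, Linear.comp_smul] at h2
        erw [Category.id_comp, Iso.hom_inv_id] at h2
        exact h2
      · intro φ
        obtain ⟨r, hr⟩ := hbij.2 (e.hom ≫ F.map (ModuleCat.ofHom φ) ≫ e.inv)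
        refine ⟨r, congrArg ModuleCat.Hom.hom (F.map_injective (?_ : F.map (r • 𝟙 (ModuleCat.of A K)) = F.map (ModuleCat.ofHom φ)))⟩
        have h2 := congrArg (fun g => e.inv ≫ g ≫ e.hom) hr
        rw [Functor.map_smul, CategoryTheory.Functor.map_id]
        simpa using h2
    · intro hS3
      have hX := hext hS3
      let ψ : X⟦(-(n : ℤ))⟧ ≅ Dual.inD A K :=
        (shiftFunctor (Dual.D A) (-(n : ℤ))).mapIso e ≪≫
          ((DerivedCategory.singleFunctors (ModuleCat.{u} A)).shiftIso (-(n : ℤ)) 0 (-(n : ℤ)) (add_zero _)).app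
            (ModuleCat.of A K)
      refine subsingleton_of_forall_eq 0 fun φ => ?_
      obtain ⟨z, hz⟩ := (shiftFunctor (Dual.D A) (-(n : ℤ))).map_surjective
        (ψ.hom ≫ φ ≫ ψ.inv⟦(1 : ℤ)⟧' ≫ (shiftFunctorComm (Dual.D A) (-(n : ℤ)) 1).hom.app X)
      rw [show z = 0 from Subsingleton.elim _ _, Functor.map_zero] at hz
      have h1 : φ ≫ (ψ.inv⟦(1 : ℤ)⟧' ≫ (shiftFunctorComm (Dual.D A) (-(n : ℤ)) 1).hom.app X) = 0 :=
        (cancel_epi ψ.hom).1 (hz.symm.trans Limits.comp_zero.symm)
      exact (cancel_mono (ψ.inv⟦(1 : ℤ)⟧' ≫ (shiftFunctorComm (Dual.D A) (-(n : ℤ)) 1).hom.app X)).1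
        (h1.trans Limits.zero_comp.symm)
  refine ⟨fun hS => (key hS).1, fun hS => (key fun p _ => ?_).2 hS⟩
  exact le_trans (min_le_min_right _ (by norm_num)) (hS p)

end Groth.Agent.S18719
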