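import Groth.Statements.S18720
import Groth.Agent.DualCx.SkGlobal
import Groth.Agent.DualSch.Lowest

set_option autoImplicit false
universe u
open CategoryTheory
attribute [local instance] HasDerivedCategory.standard
open QGor

namespace Groth.Agent.S18720

/-- Affine-local form. Let A be a Noetherian local ring of Krull dimension n with a dualizing complex ω,
L = H⁰(ω), and J an ideal with ht J ≥ 1 such that ω restricted off V(J) is L placed in degree 0,
i.e. H^i(ω)_p = 0 for every i ≠ 0 and every prime p not containing J. Then ω is ordinary (its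
codimension function is p ↦ ht p), which for the local ring means: A is equidimensional and ω[n] is
normalized; and L satisfies (S₂). If moreover ht J ≥ 2, then depth_J L ≥ 2 (L is the module of
sections of its restriction off V(J)). -/
theorem result (A : Type u) [CommRing A] [IsNoetherianRing A]
    [IsLocalRing A] (ω : Dual.D A) (hω : Dual.IsDualizing A ω) (n : ℕ) (hd : ringKrullDim A = n)
    (J : Ideal A) (hJ : 1 ≤ J.height)
    (hoff : ∀ p : PrimeSpectrum A, ¬ J ≤ p.asIdeal → ∀ i : ℤ, i ≠ 0 → p ∉ Module.support A (Dual.HD A ω i)) :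
    (EGA4.IsEquidim A ∧ Dual.IsNormalized A (ω⟦(n : ℤ)⟧) ∧ LocCoh.HasSk 2 A (Dual.HD A ω 0)) ∧
    (2 ≤ J.height → 2 ≤ LocCoh.idealDepth J (Dual.HD A ω 0)) := by
  have hS : ∀ (N : Type u) [AddCommGroup N] [Module A N] ⦃a b : PrimeSpectrum A⦄, a ≤ b →
      a ∈ Module.support A N → b ∈ Module.support A N := fun _ _ _ _ _ h ha => Module.mem_support_mono h ha
  let c : PrimeSpectrum A := IsLocalRing.closedPoint A
  have hle : ∀ q : PrimeSpectrum A, q ≤ c := fun q => IsLocalRing.le_maximalIdeal q.isPrime.ne_top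
  have hmin : ∀ (r : PrimeSpectrum A), r.asIdeal ∈ minimalPrimes A → Groth.Agent.DualCx.del hω r = 0 ∧
      r ∈ Module.support A (Dual.HD A ω 0) := fun r hr => by
    have hrJ : ¬ J ≤ r.asIdeal := fun h => by
      have h1 := hJ.trans (Ideal.height_mono h)
      rw [Ideal.height_eq_zero_iff.2 hr] at h1
      exact absurd h1 (by simp)
    have hrA : r ∈ Module.support A A := by
      rw [Module.support_eq_zeroLocus, PrimeSpectrum.mem_zeroLocus]
      intro a ha
      have := Module.mem_annihilator.1 ha (1 : A)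
      rw [smul_eq_mul, mul_one] at this
      rw [this]; exact r.asIdeal.zero_mem
    have h1 := Groth.Agent.DualCx.not_van_minimal hω hrA
      (fun s _ hsr => PrimeSpectrum.ext (le_antisymm hsr (hr.2 ⟨s.isPrime, bot_le⟩ hsr)))
    rw [Groth.Agent.DualCx.van_self_iff] at h1
    have h2 : Groth.Agent.DualCx.del hω r = 0 := by
      by_contra hne
      exact hoff r hrJ _ (neg_ne_zero.2 hne) (not_subsingleton_iff_nontrivial.1 h1)
    rw [h2, neg_zero] at h1
    exact ⟨h2, not_subsingleton_iff_nontrivial.1 h1⟩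
  have hdel : ∀ q : PrimeSpectrum A, Groth.Agent.DualCx.del hω q ≤ 0 ∧ q ∈ Module.support A (Dual.HD A ω 0) :=
    fun q => by
    obtain ⟨r, hr, hrq⟩ := Ideal.exists_minimalPrimes_le (bot_le : (⊥ : Ideal A) ≤ q.asIdeal)
    obtain ⟨h1, h2⟩ := hmin ⟨r, hr.1.1⟩ hr
    have hrq' : (⟨r, hr.1.1⟩ : PrimeSpectrum A) ≤ q := hrq
    exact ⟨(Groth.Agent.DualCx.del_le hω hrq').trans h1.le, Module.mem_support_mono hrq' h2⟩
  have hsuppA : ∀ q : PrimeSpectrum A, q ∈ Module.support A A := fun q => by
    rw [Module.support_eq_zeroLocus, PrimeSpectrum.mem_zeroLocus]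
    intro a ha
    have := Module.mem_annihilator.1 ha (1 : A)
    rw [smul_eq_mul, mul_one] at this
    rw [this]; exact q.asIdeal.zero_mem
  have hn : Groth.Agent.DualCx.del hω c = -(n : ℤ) := by
    have h1 : ringKrullDim A ≤ ((-Groth.Agent.DualCx.del hω c).toNat : WithBot ℕ∞) := by
      rw [← Module.supportDim_self_eq_ringKrullDim, Groth.Agent.DualCx.supportDim_maximal]
      refine (Groth.Agent.DualCx.krullDim_le_iff hω (hS A) c _).2 fun p _ _ => ?_
      have := (hdel p).1
      omega
    obtain ⟨r, hr, -⟩ := Ideal.exists_minimalPrimes_le (bot_le : (⊥ : Ideal A) ≤ c.asIdeal)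
    have hr0 := (hmin ⟨r, hr.1.1⟩ hr).1
    have h2 : ((-Groth.Agent.DualCx.del hω c).toNat : WithBot ℕ∞) ≤ ringKrullDim A := by
      rw [← Module.supportDim_self_eq_ringKrullDim, Groth.Agent.DualCx.supportDim_maximal]
      exact Groth.Agent.DualCx.le_krullDim hω (hS A) (hsuppA _) (hle ⟨r, hr.1.1⟩) _ (by
        have := (hdel c).1
        omega)
    have h3 := le_antisymm h1 h2
    rw [hd] at h3
    have : n = (-Groth.Agent.DualCx.del hω c).toNat := by exact_mod_cast h3
    have := (hdel c).1
    omega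
  have hlow : ∀ i : ℤ, i < 0 → Subsingleton (Dual.HD A ω i) := fun i hi => by
    refine (Groth.Agent.DualCx.homEquiv ω i).toEquiv.subsingleton_congr.1 ((Module.support_eq_empty_iff (R := A)).1
      (Set.eq_empty_of_forall_notMem fun q hq => ?_))
    obtain ⟨p, -, -, hp, -⟩ := Groth.Agent.DualCx.exists_of_not_van hω
      ((Groth.Agent.DualCx.mem_support_iff_not_van q i).1 hq)
    have := (hdel p).1
    omega
  have hS2 := Groth.Agent.DualSch.hasSk_two_lowest hω hlow
  refine ⟨⟨fun r hr => ?_, fun i hi => ?_, hS2⟩, fun hJ2 => ?_⟩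
  · refine le_antisymm (ringKrullDim_quotient_le r) ?_
    rw [hd, ← Module.supportDim_quotient_eq_ringKrullDim, Groth.Agent.DualCx.supportDim_maximal]
    have hrp := hr.1.1
    refine Groth.Agent.DualCx.le_krullDim hω (hS (A ⧸ r)) (p := ⟨r, hrp⟩) ?_ (hle _) n ?_
    · rw [Module.support_eq_zeroLocus, Ideal.annihilator_quotient, PrimeSpectrum.mem_zeroLocus]
    · have := (hmin ⟨r, hrp⟩ hr).1
      omega
  · have hv : Subsingleton (Groth.Agent.DualCx.T ω (IsLocalRing.ResidueField A) ((n : ℤ) + i)) := by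
      rw [← Groth.Agent.DualCx.van_maximal_iff]
      by_contra h
      have := (Groth.Agent.DualCx.not_van_iff hω c _).1 h
      omega
    exact (Linear.homCongr A (Iso.refl _)
      ((shiftFunctorAdd' (Dual.D A) (n : ℤ) i ((n : ℤ) + i) rfl).app ω)).toEquiv.subsingleton_congr.1 hv
  · haveI : Module.Finite A (Dual.HD A ω 0) := hω.finite_cohomology 0
    rw [show (2 : ℕ∞) = ((2 : ℕ) : ℕ∞) from rfl, Groth.Agent.LocH.le_idealDepth_iff_forall_prime]
    intro q hq
    obtain ⟨h1, h2⟩ := hdel q
    have hdimq : ((2 : ℕ) : WithBot ℕ∞) ≤ Module.supportDim (Localization.AtPrime q.asIdeal)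
        (LocalizedModule q.asIdeal.primeCompl (Dual.HD A ω 0)) := by
      have hq2 : ((2 : ℕ) : ℕ∞) ≤ q.asIdeal.height := hJ2.trans (Ideal.height_mono hq)
      obtain ⟨r, hr, hrq⟩ := Ideal.exists_minimalPrimes_le (bot_le : (⊥ : Ideal A) ≤ q.asIdeal)
      obtain ⟨h3, h4⟩ := hmin ⟨r, hr.1.1⟩ hr
      refine Groth.Agent.DualCx.le_supportDim_localized hω h4 hrq 2 ?_
      by_contra hlt
      have h5 := (Groth.Agent.DualCx.supportDim_localized_le_iff hω A q 1).2 fun p _ _ => by
        have := (hdel p).1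
        omega
      have h6 : ringKrullDim (Localization.AtPrime q.asIdeal) ≤ ((1 : ℕ) : WithBot ℕ∞) := by
        rw [← Module.supportDim_self_eq_ringKrullDim]
        refine le_trans (le_of_eq ?_) h5
        exact Module.supportDim_eq_of_equiv ((IsLocalizedModule.linearEquiv q.asIdeal.primeCompl
          (LocalizedModule.mkLinearMap q.asIdeal.primeCompl A)
          (Algebra.linearMap A (Localization.AtPrime q.asIdeal))).extendScalarsOfIsLocalization
            q.asIdeal.primeCompl (Localization.AtPrime q.asIdeal)).symm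
      rw [IsLocalization.AtPrime.ringKrullDim_eq_height q.asIdeal, ← WithBot.coe_natCast, WithBot.coe_le_coe] at h6
      exact absurd (hq2.trans h6) (by norm_num)
    have h7 := le_trans (le_min le_rfl hdimq) (hS2 q.asIdeal)
    rw [← WithBot.coe_natCast, WithBot.coe_le_coe] at h7
    exact h7

end Groth.Agent.S18720
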