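import Groth.Statements.S18723
import Groth.Agent.S18720
import Groth.Agent.QGorD.Bidual

set_option autoImplicit false
universe u
open CategoryTheory
attribute [local instance] HasDerivedCategory.standard
open QGor

namespace Groth.Agent.S18723

/-- Affine-local form, with (2) for tensor powers m ≥ 0. Let A be a Noetherian local ring of Krull
dimension n with a dualizing complex ω, L = H⁰(ω), and J an ideal with ht J ≥ 2 (the closed set V(J)
has codimension ≥ 2) such that off V(J) the complex ω is the invertible module L in degree 0: for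
every prime p not containing J, H^i(ω)_p = 0 for i ≠ 0 and L_p is free of rank 1. (1) If A satisfies
(S₁), then ω is ordinary (A is equidimensional and ω[n] is normalized) and L is reflexive and
satisfies (S₂). (2) If A satisfies (S₂), then for every m ≥ 0 the double dual L^[m] of the m-th
tensor power of L satisfies (S₂) and depth_J L^[m] ≥ 2 (it is the module of sections of L^⊗m off
V(J)). -/
theorem result (A : Type u) [CommRing A] [IsNoetherianRing A]
    [IsLocalRing A] (ω : Dual.D A) (hω : Dual.IsDualizing A ω) (n : ℕ) (hd : ringKrullDim A = n)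
    (J : Ideal A) (hJ : 2 ≤ J.height)
    (hoff : ∀ p : PrimeSpectrum A, ¬ J ≤ p.asIdeal →
      (∀ i : ℤ, i ≠ 0 → p ∉ Module.support A (Dual.HD A ω i)) ∧
      Module.Free (Localization.AtPrime p.asIdeal) (LocalizedModule p.asIdeal.primeCompl (Dual.HD A ω 0)) ∧
      Module.finrank (Localization.AtPrime p.asIdeal) (LocalizedModule p.asIdeal.primeCompl (Dual.HD A ω 0)) = 1) :
    (LocCoh.HasSk 1 A A →
      (EGA4.IsEquidim A ∧ Dual.IsNormalized A (ω⟦(n : ℤ)⟧)) ∧
      Module.IsReflexive A (Dual.HD A ω 0) ∧ LocCoh.HasSk 2 A (Dual.HD A ω 0)) ∧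
    (LocCoh.HasSk 2 A A → ∀ m : ℕ,
      LocCoh.HasSk 2 A (Module.Dual A (Module.Dual A (TensorPower A m (Dual.HD A ω 0)))) ∧
      2 ≤ LocCoh.idealDepth J (Module.Dual A (Module.Dual A (TensorPower A m (Dual.HD A ω 0))))) := by
  obtain ⟨⟨hE, hN, hS2⟩, hd2⟩ := Groth.Agent.S18720.result A ω hω n hd J ((by norm_num : (1 : ℕ∞) ≤ 2).trans hJ)
    fun p hp => (hoff p hp).1
  haveI : Module.Finite A (Dual.HD A ω 0) := hω.finite_cohomology 0
  have hdepA : ∀ k : ℕ, k ≤ 2 → LocCoh.HasSk k A A → (k : ℕ∞) ≤ LocCoh.idealDepth J A := fun k hk hA => by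
    rw [Groth.Agent.LocH.le_idealDepth_iff_forall_prime]
    intro q hq
    have h1 := hA q.asIdeal
    rw [Groth.Agent.InvFin.supportDim_self] at h1
    refine Groth.Agent.QGorD.le_depth_of_le_min h1 le_rfl ?_
    have h2 : (k : ℕ∞) ≤ q.asIdeal.height := ((Nat.cast_le.2 hk).trans hJ).trans (Ideal.height_mono hq)
    exact (WithBot.coe_le_coe.2 h2)
  refine ⟨fun hA1 => ⟨⟨hE, hN⟩, ?_, hS2⟩, fun hA2 m => ⟨?_, ?_⟩⟩
  · refine Groth.Agent.QGorD.isReflexive_of_two_le (I := J) (by exact_mod_cast hdepA 1 (by omega) hA1) _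
      (fun p hp => ?_) (hd2 hJ)
    haveI := (hoff p hp).2.1
    haveI : Module.Finite (Localization.AtPrime p.asIdeal) (LocalizedModule p.asIdeal.primeCompl (Dual.HD A ω 0)) :=
      Module.Finite.of_isLocalizedModule p.asIdeal.primeCompl (LocalizedModule.mkLinearMap p.asIdeal.primeCompl _)
    exact Module.IsReflexive.of_finite_of_free _ _
  · exact Groth.Agent.QGorD.hasSk_bidual le_rfl hA2 _
  · obtain ⟨a, b, i, u, hi, -⟩ := Groth.Agent.QGorD.exists_dual_presentation (A := A) (TensorPower A m (Dual.HD A ω 0))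
    haveI : Module.Finite A (Module.Dual A (Module.Dual A (TensorPower A m (Dual.HD A ω 0)))) :=
      Module.Finite.of_injective i hi
    exact_mod_cast Groth.Agent.QGorD.le_idealDepth_bidual _ 2 le_rfl (hdepA 2 le_rfl hA2)

end Groth.Agent.S18723
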