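import Groth.Statements.S18725
import Groth.Agent.QGorD.FibBridge
import Groth.Agent.FlatSpread.Fp
import Groth.Agent.S18708

set_option autoImplicit false
universe u
open QGor

namespace Groth.Agent.S18725

variable {A B : Type u} [CommRing A] [CommRing B] [Algebra A B] [IsNoetherianRing A] [IsNoetherianRing B]
  {F E0 E1 G : Type u} [AddCommGroup F] [Module B F] [Module A F] [IsScalarTower A B F] [Module.Finite B F]
  [AddCommGroup E0] [Module B E0] [Module A E0] [IsScalarTower A B E0] [Module.Finite B E0] [Module.Flat A E0]
  [AddCommGroup E1] [Module B E1] [Module A E1] [IsScalarTower A B E1] [Module.Finite B E1] [Module.Flat A E1]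
  [AddCommGroup G] [Module B G] [Module A G] [IsScalarTower A B G] [Module.Finite B G]
  {f : F →ₗ[B] E0} {u : E0 →ₗ[B] E1} {v : E1 →ₗ[B] G}

set_option maxHeartbeats 800000 in
/-- The local statement at a prime `q` of `V(J)`. -/
theorem local_iff (hf : Function.Injective f) (hfu : Function.Exact f u) (huv : Function.Exact u v)
    (hv : Function.Surjective v) (J : Ideal B)
    (hGU : ∀ q : PrimeSpectrum B, ¬ J ≤ q.asIdeal → FlatCA.FlatAt A q.asIdeal G)
    (h0 : ∀ q : PrimeSpectrum B, J ≤ q.asIdeal →
      2 ≤ LocCoh.idealDepth (q.asIdeal.map (algebraMap B (EGA4.FibLocRing A B q.asIdeal))) (EGA4.FibLocMod A B q.asIdeal E0))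
    (h1 : ∀ q : PrimeSpectrum B, J ≤ q.asIdeal →
      1 ≤ LocCoh.idealDepth (q.asIdeal.map (algebraMap B (EGA4.FibLocRing A B q.asIdeal))) (EGA4.FibLocMod A B q.asIdeal E1))
    (q : Ideal B) [q.IsPrime] :
    (J ≤ q → FlatCA.FlatAt A q G →
      2 ≤ LocCoh.idealDepth (q.map (algebraMap B (EGA4.FibLocRing A B q))) (EGA4.FibLocMod A B q F)) ∧
    ((∀ r : PrimeSpectrum B, J ≤ r.asIdeal → r.asIdeal ≤ q →
        2 ≤ LocCoh.idealDepth (r.asIdeal.map (algebraMap B (EGA4.FibLocRing A B r.asIdeal))) (EGA4.FibLocMod A B r.asIdeal F)) →
      FlatCA.FlatAt A q G) := by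
  let p := q.comap (algebraMap A B)
  let φ : Localization.AtPrime p →+* Localization.AtPrime q := Localization.localRingHom p q (algebraMap A B) rfl
  letI : Algebra (Localization.AtPrime p) (Localization.AtPrime q) := φ.toAlgebra
  haveI : IsLocalHom (algebraMap (Localization.AtPrime p) (Localization.AtPrime q)) :=
    Localization.isLocalHom_localRingHom p q (algebraMap A B) rfl
  have hφ : φ.comp (algebraMap A (Localization.AtPrime p)) = algebraMap A (Localization.AtPrime q) := by
    ext a
    rw [RingHom.comp_apply, Localization.localRingHom_to_map, ← IsScalarTower.algebraMap_apply]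
  letI : Module (Localization.AtPrime p) (LocalizedModule q.primeCompl F) := Module.compHom _ φ
  letI : Module (Localization.AtPrime p) (LocalizedModule q.primeCompl E0) := Module.compHom _ φ
  letI : Module (Localization.AtPrime p) (LocalizedModule q.primeCompl E1) := Module.compHom _ φ
  letI : Module (Localization.AtPrime p) (LocalizedModule q.primeCompl G) := Module.compHom _ φ
  haveI : IsScalarTower (Localization.AtPrime p) (Localization.AtPrime q) (LocalizedModule q.primeCompl F) :=
    IsScalarTower.of_algebraMap_smul fun _ _ => rfl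
  haveI : IsScalarTower (Localization.AtPrime p) (Localization.AtPrime q) (LocalizedModule q.primeCompl E0) :=
    IsScalarTower.of_algebraMap_smul fun _ _ => rfl
  haveI : IsScalarTower (Localization.AtPrime p) (Localization.AtPrime q) (LocalizedModule q.primeCompl E1) :=
    IsScalarTower.of_algebraMap_smul fun _ _ => rfl
  haveI : IsScalarTower (Localization.AtPrime p) (Localization.AtPrime q) (LocalizedModule q.primeCompl G) :=
    IsScalarTower.of_algebraMap_smul fun _ _ => rfl
  haveI tF : IsScalarTower A (Localization.AtPrime p) (LocalizedModule q.primeCompl E0) :=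
    IsScalarTower.of_algebraMap_smul fun a z => by
      change φ (algebraMap A _ a) • z = a • z
      rw [← RingHom.comp_apply, hφ, algebraMap_smul]
  haveI : IsScalarTower A (Localization.AtPrime p) (LocalizedModule q.primeCompl E1) :=
    IsScalarTower.of_algebraMap_smul fun a z => by
      change φ (algebraMap A _ a) • z = a • z
      rw [← RingHom.comp_apply, hφ, algebraMap_smul]
  haveI : IsScalarTower A (Localization.AtPrime p) (LocalizedModule q.primeCompl G) :=
    IsScalarTower.of_algebraMap_smul fun a z => by
      change φ (algebraMap A _ a) • z = a • z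
      rw [← RingHom.comp_apply, hφ, algebraMap_smul]
  haveI : Module.Flat (Localization.AtPrime p) (LocalizedModule q.primeCompl E0) :=
    (Module.flat_iff_of_isLocalization (Localization.AtPrime p) p.primeCompl _).2
      (InjFibre.flat_localized q.primeCompl (LocalizedModule.mkLinearMap q.primeCompl E0))
  haveI : Module.Flat (Localization.AtPrime p) (LocalizedModule q.primeCompl E1) :=
    (Module.flat_iff_of_isLocalization (Localization.AtPrime p) p.primeCompl _).2
      (InjFibre.flat_localized q.primeCompl (LocalizedModule.mkLinearMap q.primeCompl E1))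
  have hmB : EGA4.mB (Localization.AtPrime p) (Localization.AtPrime q) = p.map (algebraMap A (Localization.AtPrime q)) := by
    rw [EGA4.mB, ← Localization.AtPrime.map_eq_maximalIdeal, Ideal.map_map]
    exact congrArg (fun ψ => Ideal.map ψ p) hφ
  let f' := LocalizedModule.map q.primeCompl f
  let u' := LocalizedModule.map q.primeCompl u
  let v' := LocalizedModule.map q.primeCompl v
  have hf' : Function.Injective f' := LocalizedModule.map_injective q.primeCompl f hf
  have hv' : Function.Surjective v' := LocalizedModule.map_surjective q.primeCompl v hv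
  have hfu' : Function.Exact f' u' := LocalizedModule.map_exact q.primeCompl f u hfu
  have huv' : Function.Exact u' v' := LocalizedModule.map_exact q.primeCompl u v huv
  refine ⟨fun hJ hG => ?_, fun hF => ?_⟩
  · haveI : Module.Flat (Localization.AtPrime p) (LocalizedModule q.primeCompl G) :=
      (Module.flat_iff_of_isLocalization (Localization.AtPrime p) p.primeCompl _).2 hG
    have key : ∀ (E : Type u) [AddCommGroup E] [Module B E] [Module.Finite B E],
        LocCoh.idealDepth (IsLocalRing.maximalIdeal (Localization.AtPrime q))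
          (EGA4.FibMod (Localization.AtPrime p) (Localization.AtPrime q) (LocalizedModule q.primeCompl E)) =
        LocCoh.idealDepth (q.map (algebraMap B (EGA4.FibLocRing A B q))) (EGA4.FibLocMod A B q E) := fun E _ _ _ => by
      delta EGA4.FibMod
      rw [hmB, IsScalarTower.algebraMap_eq B (Localization.AtPrime q) (EGA4.FibLocRing A B q),
        ← Ideal.map_map, Localization.AtPrime.map_eq_maximalIdeal]
      exact LocH.idealDepth_map_eq _ (EGA4.FibLocMod A B q E)
    rw [← key]
    exact QGorD.two_le_fibMod_of_flat hf' hfu' huv' hv' ((key E0).symm ▸ h0 ⟨q, inferInstance⟩ hJ)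
      ((key E1).symm ▸ h1 ⟨q, inferInstance⟩ hJ)
  · have hdepth : ∀ (E : Type u) [AddCommGroup E] [Module B E] [Module.Finite B E] (k : ℕ),
        (∀ r : PrimeSpectrum B, J ≤ r.asIdeal → r.asIdeal ≤ q →
          (k : ℕ∞) ≤ LocCoh.idealDepth (r.asIdeal.map (algebraMap B (EGA4.FibLocRing A B r.asIdeal)))
            (EGA4.FibLocMod A B r.asIdeal E)) →
        (k : ℕ∞) ≤ LocCoh.idealDepth (J.map (algebraMap B (Localization.AtPrime q)))
          (EGA4.FibMod (Localization.AtPrime p) (Localization.AtPrime q) (LocalizedModule q.primeCompl E)) := by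
      intro E _ _ _ k h
      delta EGA4.FibMod
      rw [hmB]
      exact QGorD.le_idealDepth_fib E J q k h
    refine (Module.flat_iff_of_isLocalization (Localization.AtPrime p) p.primeCompl _).1 ?_
    refine ((S18708.result (Localization.AtPrime p) (Localization.AtPrime q) (J.map (algebraMap B (Localization.AtPrime q)))
      _ _ _ _ f' u' v' hf' hfu' huv' hv' (fun Q hQ => ?_) (hdepth E0 2 fun r hr _ => h0 r hr)
      (hdepth E1 1 fun r hr _ => h1 r hr)).1).1 (hdepth F 2 hF)
    let r : Ideal B := Q.asIdeal.comap (algebraMap B (Localization.AtPrime q))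
    have hJr : ¬ J ≤ r := fun h => hQ (Ideal.map_le_iff_le_comap.2 h)
    haveI : Module.Flat A (LocalizedModule r.primeCompl G) := hGU ⟨r, inferInstance⟩ hJr
    let g := LocalizedModule.mkLinearMap Q.asIdeal.primeCompl (LocalizedModule q.primeCompl G)
    haveI : IsLocalization.AtPrime (Localization.AtPrime Q.asIdeal) r :=
      IsLocalization.isLocalization_isLocalization_atPrime_isLocalization q.primeCompl _ Q.asIdeal
    let k' := (g.restrictScalars B).comp (LocalizedModule.mkLinearMap q.primeCompl G)
    haveI : IsLocalizedModule r.primeCompl k' := by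
      rw [isLocalizedModule_iff_isBaseChange r.primeCompl (Localization.AtPrime Q.asIdeal)]
      refine IsBaseChange.comp (S := Localization.AtPrime q) ?_ ?_
      · rw [← isLocalizedModule_iff_isBaseChange q.primeCompl]; infer_instance
      · rw [← isLocalizedModule_iff_isBaseChange Q.asIdeal.primeCompl]; infer_instance
    haveI : Module.Flat A (LocalizedModule Q.asIdeal.primeCompl (LocalizedModule q.primeCompl G)) :=
      Module.Flat.of_linearEquiv ((IsLocalizedModule.iso r.primeCompl k').restrictScalars A).symm
    exact (Module.flat_iff_of_isLocalization (Localization.AtPrime p) p.primeCompl _).2 inferInstance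

/-- Affine form of the equivalence (c) ⇔ (d). Let A → B be a homomorphism of finite type between
Noetherian rings, J an ideal of B and 0 → F → E⁰ → E¹ → G → 0 an exact sequence of finite B-modules
such that E⁰, E¹ are flat over A, G_q is flat over A for every prime q not containing J, and for
every prime q ⊇ J with contraction p the fibre stalk E⁰_q/pE⁰_q has depth ≥ 2 and E¹_q/pE¹_q has
depth ≥ 1. Then for a prime n of B the following are equivalent: G is flat over A at n; there is a
basic open neighbourhood D(s) of n such that at every prime q ∈ D(s) the module F is flat over A at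
q and, if q ⊇ J, the fibre stalk F_q/pF_q has depth ≥ 2 (the restriction maps of the fibres of F off
V(J) are bijective on D(s)). -/
theorem result (A B : Type u) [CommRing A] [CommRing B]
    [IsNoetherianRing A] [IsNoetherianRing B] [Algebra A B] (hft : Algebra.FiniteType A B) (J : Ideal B)
    (F E0 E1 G : Type u) [AddCommGroup F] [Module B F] [Module A F] [IsScalarTower A B F] [Module.Finite B F]
    [AddCommGroup E0] [Module B E0] [Module A E0] [IsScalarTower A B E0] [Module.Finite B E0] [Module.Flat A E0]
    [AddCommGroup E1] [Module B E1] [Module A E1] [IsScalarTower A B E1] [Module.Finite B E1] [Module.Flat A E1]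
    [AddCommGroup G] [Module B G] [Module A G] [IsScalarTower A B G] [Module.Finite B G]
    (f : F →ₗ[B] E0) (u : E0 →ₗ[B] E1) (v : E1 →ₗ[B] G)
    (hf : Function.Injective f) (hfu : Function.Exact f u) (huv : Function.Exact u v) (hv : Function.Surjective v)
    (hGU : ∀ q : PrimeSpectrum B, ¬ J ≤ q.asIdeal → FlatCA.FlatAt A q.asIdeal G)
    (h0 : ∀ q : PrimeSpectrum B, J ≤ q.asIdeal →
      2 ≤ LocCoh.idealDepth (q.asIdeal.map (algebraMap B (EGA4.FibLocRing A B q.asIdeal))) (EGA4.FibLocMod A B q.asIdeal E0))
    (h1 : ∀ q : PrimeSpectrum B, J ≤ q.asIdeal →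
      1 ≤ LocCoh.idealDepth (q.asIdeal.map (algebraMap B (EGA4.FibLocRing A B q.asIdeal))) (EGA4.FibLocMod A B q.asIdeal E1))
    (n : PrimeSpectrum B) :
    FlatCA.FlatAt A n.asIdeal G ↔
      ∃ s : B, s ∉ n.asIdeal ∧ ∀ q : PrimeSpectrum B, s ∉ q.asIdeal →
        FlatCA.FlatAt A q.asIdeal F ∧
        (J ≤ q.asIdeal →
          2 ≤ LocCoh.idealDepth (q.asIdeal.map (algebraMap B (EGA4.FibLocRing A B q.asIdeal))) (EGA4.FibLocMod A B q.asIdeal F)) := by
  haveI : Algebra.FinitePresentation A B := Algebra.FinitePresentation.of_finiteType.1 hft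
  haveI : Module.FinitePresentation B G := Module.finitePresentation_of_finite B G
  constructor
  · intro hn
    obtain ⟨_, ⟨s, rfl⟩, hns, hsub⟩ := PrimeSpectrum.isTopologicalBasis_basic_opens.exists_subset_of_mem_open
      (show n ∈ {q : PrimeSpectrum B | Module.Flat A (LocalizedModule q.asIdeal.primeCompl G)} from hn)
      Groth.Agent.FlatSpread.isOpen_flatLocus
    exact ⟨s, hns, fun q hq => ⟨QGorD.flatAt_left hf hfu huv hv q.asIdeal (hsub hq),
      fun hJ => (local_iff hf hfu huv hv J hGU h0 h1 q.asIdeal).1 hJ (hsub hq)⟩⟩
  · rintro ⟨s, hs, h⟩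
    exact (local_iff hf hfu huv hv J hGU h0 h1 n.asIdeal).2
      fun r hJ hr => (h r fun hsr => hs (hr hsr)).2 hJ

end Groth.Agent.S18725
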