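import Groth.Statements.S1873
import Groth.Agent.BivarOps.IntMultReg
import Groth.Agent.BivarOps.IntMultLemmas
import Groth.Agent.S1872
import Groth.Agent.SmLocalST.SmoothField
import Groth.Agent.CMFlat.Quotient
-- import your own Groth.Agent.* helpers here

set_option autoImplicit false
set_option backward.isDefEq.respectTransparency false
universe u
open CategoryTheory AlgebraicGeometry
attribute [local instance] HasDerivedCategory.standard
open IntMult

namespace Groth.Agent.S1873

/-- If the multiplicity of Z in the closed subscheme V ∩ W is 1, i.e. length_{O_{X,ξ}}(O_{V∩W,ξ}) = 1,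
then e(X, V·W, Z) = 1 and the local rings O_{V,ξ}, O_{W,ξ} are regular (V and W are smooth at a
general point of Z). Here X is a nonsingular variety over an algebraically closed field K (smooth,
separated, of finite type, integral), V and W are closed subvarieties given by quasi-coherent ideal
sheaves with integral subschemes, of dimensions r and s with dim X = n, intersecting properly, and ξ
is the generic point of an irreducible component Z of V ∩ W; e(X, V·W, Z) is the alternating sum of
lengths of Tor over O_{X,ξ}. -/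
theorem result (K : Type u) [Field K] [IsAlgClosed K] (X : Scheme.{u}) (f : X ⟶ Spec (CommRingCat.of K)) [Smooth f] [IsSeparated f] [QuasiCompact f] [IsIntegral X] (IV IW : X.IdealSheafData) [IsIntegral IV.subscheme] [IsIntegral IW.subscheme] (n r s : ℕ) (hn : topologicalKrullDim X = n) (hr : topologicalKrullDim IV.support = r) (hs : topologicalKrullDim IW.support = s) (hprop : IntMult.ProperInt (IV.support : Set X) (IW.support : Set X) n r s) (ξ : X) (hξV : ξ ∈ IV.support) (hξW : ξ ∈ IW.support) (hmax : ∀ ξ' : X, ξ' ∈ IV.support → ξ' ∈ IW.support → ξ' ⤳ ξ → ξ' = ξ) (h1 : Module.length (X.presheaf.stalk ξ) (↑(X.presheaf.stalk ξ) ⧸ (IntMult.stalkIdeal IV ξ ⊔ IntMult.stalkIdeal IW ξ)) = 1) : IntMult.mult IV IW ξ = 1 ∧ IsRegularLocalRing (↑(X.presheaf.stalk ξ) ⧸ IntMult.stalkIdeal IV ξ) ∧ IsRegularLocalRing (↑(X.presheaf.stalk ξ) ⧸ IntMult.stalkIdeal IW ξ) := by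
  haveI : IsLocallyNoetherian X := LocallyOfFiniteType.isLocallyNoetherian f
  haveI := SmLocalST.isRegularLocalRing_stalk_of_smooth_field f ξ
  obtain ⟨hA, hdn⟩ := BivarOps.ringKrullDim_stalk_eq f n hn ξ
  obtain ⟨hdV, hdr⟩ := BivarOps.stalk_quot_dim f IV r hr hξV
  obtain ⟨hdW, hds⟩ := BivarOps.stalk_quot_dim f IW s hs hξW
  obtain ⟨hle, hd⟩ := hprop ⟨ξ, hξV, hξW⟩
  have hpd := BivarOps.pdim_le_of_proper IV.support.isClosed IW.support.isClosed hξV hξW hd
  haveI hsimp := Module.length_eq_one_iff.1 h1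
  have hmax' : (IntMult.stalkIdeal IV ξ ⊔ IntMult.stalkIdeal IW ξ).IsMaximal :=
    Ideal.isMaximal_def.2 (isSimpleModule_iff_isCoatom.1 hsimp)
  have hsup := IsLocalRing.eq_maximalIdeal hmax'
  haveI : IsLocalRing (↑(X.presheaf.stalk ξ) ⧸ IntMult.stalkIdeal IV ξ) := by
    haveI := Ideal.Quotient.nontrivial_iff.2
      (fun h => (IsLocalRing.maximalIdeal.isMaximal (X.presheaf.stalk ξ)).ne_top
        (top_le_iff.1 (h.ge.trans (BivarOps.stalkIdeal_le_maximal IV hξV))))
    exact IsLocalRing.of_surjective' _ Ideal.Quotient.mk_surjective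
  haveI : IsLocalRing (↑(X.presheaf.stalk ξ) ⧸ IntMult.stalkIdeal IW ξ) := by
    haveI := Ideal.Quotient.nontrivial_iff.2
      (fun h => (IsLocalRing.maximalIdeal.isMaximal (X.presheaf.stalk ξ)).ne_top
        (top_le_iff.1 (h.ge.trans (BivarOps.stalkIdeal_le_maximal IW hξW))))
    exact IsLocalRing.of_surjective' _ Ideal.Quotient.mk_surjective
  obtain ⟨hrV, hrW⟩ := BivarOps.isRegularLocalRing_quot_of_sup_eq _ _ hsup _ _ _ hA hdV hdW (by omega)
  refine ⟨?_, hrV, hrW⟩
  haveI := hrV
  haveI := hrW
  have h := Groth.Agent.S1872.result K X f IV IW n r s hn hr hs hprop ξ hξV hξW hmax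
    (CMFlat.isCohenMacaulayLocalRing_of_isRegularLocalRing _) (CMFlat.isCohenMacaulayLocalRing_of_isRegularLocalRing _)
  rw [h, h1]
  rfl

end Groth.Agent.S1873
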