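import Groth.Statements.S1874
import Groth.Agent.BivarOps.IntMultProper
import Groth.Agent.KChi.Lech
-- import your own Groth.Agent.* helpers here

set_option autoImplicit false
set_option backward.isDefEq.respectTransparency false
universe u
open CategoryTheory AlgebraicGeometry
attribute [local instance] HasDerivedCategory.standard
open IntMult

namespace Groth.Agent.S1874

/-- Suppose the ideal of V in O_{X,ξ} is generated by a regular sequence g₁, …, g_c. Then c! ·
length(O_{W,ξ}/(g₁, …, g_c)^t O_{W,ξ}) / t^c tends to e(X, V·W, Z) as t → ∞ (so e is c! times the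
leading coefficient of that Hilbert polynomial), and e(X, V·W, Z) > 0. Here X is a nonsingular
variety over an algebraically closed field K (smooth, separated, of finite type, integral), V and W
are closed subvarieties given by quasi-coherent ideal sheaves with integral subschemes, of
dimensions r and s with dim X = n, intersecting properly, and ξ is the generic point of an
irreducible component Z of V ∩ W; e(X, V·W, Z) is the alternating sum of lengths of Tor over
O_{X,ξ}. -/
theorem result (K : Type u) [Field K] [IsAlgClosed K] (X : Scheme.{u}) (f : X ⟶ Spec (CommRingCat.of K)) [Smooth f] [IsSeparated f] [QuasiCompact f] [IsIntegral X] (IV IW : X.IdealSheafData) [IsIntegral IV.subscheme] [IsIntegral IW.subscheme] (n r s : ℕ) (hn : topologicalKrullDim X = n) (hr : topologicalKrullDim IV.support = r) (hs : topologicalKrullDim IW.support = s) (hprop : IntMult.ProperInt (IV.support : Set X) (IW.support : Set X) n r s) (ξ : X) (hξV : ξ ∈ IV.support) (hξW : ξ ∈ IW.support) (hmax : ∀ ξ' : X, ξ' ∈ IV.support → ξ' ∈ IW.support → ξ'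 ⤳ ξ → ξ' = ξ) (c : ℕ) (g : Fin c → ↑(X.presheaf.stalk ξ)) (hg : IntMult.stalkIdeal IV ξ = Ideal.span (Set.range g)) (hreg : RingTheory.Sequence.IsRegular (↑(X.presheaf.stalk ξ)) (List.ofFn g)) : Filter.Tendsto (fun t : ℕ => (c.factorial : ℝ) * ((Module.length (X.presheaf.stalk ξ) (↑(X.presheaf.stalk ξ) ⧸ (IntMult.stalkIdeal IW ξ ⊔ IntMult.stalkIdeal IV ξ ^ t))).toNat : ℝ) / (t : ℝ) ^ c) Filter.atTop (nhds (IntMult.mult IV IW ξ : ℝ)) ∧ 0 < IntMult.mult IV IW ξ := by
  haveI : IsLocallyNoetherian X := LocallyOfFiniteType.isLocallyNoetherian f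
  obtain ⟨hdim, hok⟩ := BivarOps.dim_quot_of_proper f IV IW n r s hn hr hs hprop hξV hξW hmax c g hg hreg
  set P := IntMult.stalkIdeal IW ξ with hP
  have hof : Ideal.ofList (List.ofFn g) = Ideal.span (Set.range g) := by
    rw [Ideal.ofList]
    congr 1
    ext a
    simp [List.mem_ofFn]
  have hmult : IntMult.mult IV IW ξ = KChi.chi (List.ofFn g) (X.presheaf.stalk ξ ⧸ P) := by
    rw [IntMult.mult, hg, ← hP, BivarOps.chi_flip, ← hof]
    exact KChi.intMult_chi_eq (List.ofFn g) hreg.toIsWeaklyRegular _
  have hsm : ∀ t : ℕ, Module.length (X.presheaf.stalk ξ) ((X.presheaf.stalk ξ ⧸ P) ⧸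
      (Ideal.span (Set.range g) ^ t • (⊤ : Submodule (X.presheaf.stalk ξ) (X.presheaf.stalk ξ ⧸ P)))) =
      Module.length (X.presheaf.stalk ξ) (X.presheaf.stalk ξ ⧸ (P ⊔ Ideal.span (Set.range g) ^ t)) := fun t => by
    refine LinearEquiv.length_eq ?_
    refine (Submodule.quotEquivOfEq _ _ ?_).trans
      (Submodule.quotientQuotientEquivQuotient P (P ⊔ Ideal.span (Set.range g) ^ t : Ideal _) le_sup_left)
    rw [Submodule.map_sup, Submodule.mkQ_map_self, bot_sup_eq, ← Submodule.range_mkQ P, ← Submodule.map_top,
      ← Submodule.map_smul'', smul_eq_mul, Ideal.mul_top]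
  rw [hmult]
  refine ⟨?_, ?_⟩
  · have h := KChi.tendsto_samuel (M := X.presheaf.stalk ξ ⧸ P) g (KChi.isFiniteLength_of_radical ?_)
    · simp only [hsm] at h
      rw [hg]
      exact h
    · refine le_trans hok (Ideal.radical_mono ?_)
      rw [hof]
      refine sup_le (fun a ha => Module.mem_annihilator.2 fun q => ?_) (fun a ha => Module.mem_annihilator.2 fun q => ?_)
      · obtain ⟨w, rfl⟩ := Submodule.Quotient.mk_surjective _ q
        rw [← Submodule.Quotient.mk_smul, Submodule.Quotient.mk_eq_zero]
        exact Submodule.smul_mem_smul ha Submodule.mem_top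
      · obtain ⟨w, rfl⟩ := Submodule.Quotient.mk_surjective _ q
        rw [← Submodule.Quotient.mk_smul, Module.mem_annihilator.1 ha w, Submodule.Quotient.mk_zero]
  · refine KChi.chi_pos_of_eq (List.ofFn g) (fun a ha => BivarOps.stalkIdeal_le_maximal IV hξV ?_) _ hok ?_
    · rw [hg, ← hof]
      exact Ideal.subset_span ha
    · rw [Module.supportDim_quotient_eq_ringKrullDim, List.length_ofFn]
      exact hdim

end Groth.Agent.S1874
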