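import Groth.Statements.S18748
import Mathlib
import Groth.Agent.ModPairCoprod.Basic
-- import your own Groth.Agent.* helpers here

set_option autoImplicit false
universe u
open CategoryTheory CategoryTheory.Limits AlgebraicGeometry TopologicalSpace
open ModPair

namespace Groth.Agent.S18748

theorem stable_op (J : Type) : (ModPair.Pair.admBlowup.{u}).op.IsStableUnderLimitsOfShape (Discrete J) := by
  refine ⟨fun X₁ X₂ c₁ c₂ h₁ h₂ f hf φ hφ => ?_⟩
  let G : (Discrete J ⥤ ModPair.Pair.{u}ᵒᵖ) → (Discrete J ⥤ ModPair.Pair.{u}) :=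
    fun X => Discrete.functor fun j => (X.obj ⟨j⟩).unop
  let C : (X : Discrete J ⥤ ModPair.Pair.{u}ᵒᵖ) → (c : Cone X) → Cocone (G X) :=
    fun X c => Cofan.mk c.pt.unop fun j => (c.π.app ⟨j⟩).unop
  let toCone : (X : Discrete J ⥤ ModPair.Pair.{u}ᵒᵖ) → Cofan (fun j => (X.obj ⟨j⟩).unop) → Cone X :=
    fun X s => { pt := Opposite.op s.pt, π := Discrete.natTrans fun ⟨j⟩ => (s.inj j).op }
  have hC : ∀ (X : Discrete J ⥤ ModPair.Pair.{u}ᵒᵖ) (c : Cone X), IsLimit c → Nonempty (IsColimit (C X c)) := by
    intro X c h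
    refine ⟨Cofan.IsColimit.mk _ (fun s => (h.lift (toCone X s)).unop) (fun s j => ?_) (fun s m hm => ?_)⟩
    · exact congrArg Quiver.Hom.unop (h.fac (toCone X s) ⟨j⟩)
    · refine Quiver.Hom.op_inj (h.uniq (toCone X s) m.op fun ⟨j⟩ => ?_)
      exact congrArg Quiver.Hom.op (hm j)
  obtain ⟨k₁⟩ := hC X₁ c₁ h₁
  obtain ⟨k₂⟩ := hC X₂ c₂ h₂
  refine Groth.Agent.ModPairCoprod.admBlowup_coprod (G X₂) (G X₁) _ _ k₂ k₁
    (Discrete.natTrans fun ⟨j⟩ => (f.app ⟨j⟩).unop) (fun ⟨j⟩ => hf ⟨j⟩) φ.unop fun ⟨j⟩ => ?_
  exact congrArg Quiver.Hom.unop (hφ ⟨j⟩)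


/-- The localization of the category of modulus pairs and ambient morphisms at the class of abstract
admissible blow-ups has binary coproducts, and the localization functor carries the coproduct of two
modulus pairs (the disjoint union of the total spaces with the disjoint union of the moduli) to a
coproduct. (The source also states that the interior functor detects these coproducts; that part is
not included.) -/
theorem result :
    HasBinaryCoproducts (ModPair.Pair.admBlowup.{u}).Localization ∧
      PreservesColimitsOfShape (Discrete WalkingPair) (ModPair.Pair.admBlowup.{u}).Q := by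
  haveI hco : HasFiniteCoproducts ModPair.Pair.{u} :=
    ⟨fun n => Groth.Agent.ModPairCoprod.hasCoproducts.{u} (Fin n)⟩
  haveI := Groth.Agent.ModPairFrac.isMultiplicative.{u}
  haveI : (ModPair.Pair.admBlowup.{u}).op.IsStableUnderFiniteProducts := ⟨fun J _ => stable_op J⟩
  haveI : (ModPair.Pair.admBlowup.{u}).op.ContainsIdentities := ⟨fun X => MorphismProperty.id_mem _ _⟩
  let L := (ModPair.Pair.admBlowup.{u}).Q.op
  haveI : HasFiniteProducts (ModPair.Pair.admBlowup.{u}).Localizationᵒᵖ :=
    Localization.hasFiniteProducts L (ModPair.Pair.admBlowup.{u}).op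
  haveI : HasFiniteCoproducts (ModPair.Pair.admBlowup.{u}).Localization := hasFiniteCoproducts_of_opposite
  haveI : PreservesFiniteProducts L := Localization.preservesFiniteProducts L (ModPair.Pair.admBlowup.{u}).op
  haveI : PreservesLimitsOfShape (Discrete WalkingPair) L := inferInstance
  haveI : PreservesLimitsOfShape (Discrete WalkingPair)ᵒᵖ L :=
    preservesLimitsOfShape_of_equiv (Discrete.opposite WalkingPair).symm L
  exact ⟨inferInstance, preservesColimitsOfShape_of_op _ _⟩

end Groth.Agent.S18748
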