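import Groth.Statements.S2076
import Groth.Agent.AbsApprox.Immersion
import Mathlib.CategoryTheory.Limits.Constructions.Over.Connected

set_option backward.isDefEq.respectTransparency false

set_option autoImplicit false
universe u
open CategoryTheory AlgebraicGeometry
open Lim

namespace Groth.Agent.S2076

/-- Let `X = lim X_i` be a cofiltered limit of quasi-compact schemes over `S` with affine transition
morphisms and `h : Y → X` a closed immersion with `Y → S` locally of finite type. Then `Y → X_i` is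
a closed immersion for some `i`. -/
theorem result {I : Type u} [SmallCategory I] [IsCofiltered I] (S : Scheme.{u})
    (D : I ⥤ Over S) (c : Limits.Cone D) (hc : Limits.IsLimit c)
    [∀ (i j : I) (f : i ⟶ j), IsAffineHom (D.map f).left] [∀ i, CompactSpace (D.obj i).left]
    {Y : Scheme.{u}} (h : Y ⟶ c.pt.left) [IsClosedImmersion h] [LocallyOfFiniteType (h ≫ c.pt.hom)] :
    ∃ i : I, IsClosedImmersion (h ≫ (c.π.app i).left) := by
  classical
  haveI : IsConnected I := IsCofiltered.isConnected _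
  let E := D ⋙ Over.forget S
  let d := (Over.forget S).mapCone c
  have hd : Limits.IsLimit d := Limits.isLimitOfPreserves (Over.forget S) hc
  haveI hE : ∀ {i j : I} (f : i ⟶ j), IsAffineHom (E.map f) := fun f => inferInstanceAs (IsAffineHom (D.map f).left)
  have hπ : ∀ i, IsAffineHom (d.π.app i) := fun i => isAffineHom_π_app E d hd i
  obtain ⟨i₀⟩ := (IsCofiltered.nonempty : Nonempty I)
  have hloc : ∀ x : (D.obj i₀).left, ∃ (U : (D.obj i₀).left.Opens) (W : S.Opens), IsAffineOpen U ∧ IsAffineOpen W ∧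
      x ∈ U ∧ U ≤ (D.obj i₀).hom ⁻¹ᵁ W := fun x => by
    obtain ⟨_, ⟨W, hW, rfl⟩, hxW, -⟩ :=
      S.isBasis_affineOpens.exists_subset_of_mem_open (Set.mem_univ ((D.obj i₀).hom x)) isOpen_univ
    obtain ⟨_, ⟨U, hU, rfl⟩, hxU, hUW⟩ := (D.obj i₀).left.isBasis_affineOpens.exists_subset_of_mem_open
      (show x ∈ (D.obj i₀).hom ⁻¹ᵁ W from hxW) ((D.obj i₀).hom ⁻¹ᵁ W).2
    exact ⟨U, W, hU, hW, hxU, hUW⟩
  choose U W hU hW hxU hUW using hloc
  have key : ∀ x, ∃ j : Over i₀, ∀ l : Over i₀, (l ⟶ j) →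
      IsClosedImmersion ((h ≫ d.π.app l.left) ∣_ (E.map l.hom ⁻¹ᵁ U x)) := by
    intro x
    let O : Y.Opens := (h ≫ d.π.app i₀) ⁻¹ᵁ U x
    haveI : IsAffineHom (h ≫ d.π.app i₀) := by haveI := hπ i₀; infer_instance
    haveI : IsAffine O.toScheme := (hU x).preimage (h ≫ d.π.app i₀)
    haveI : IsAffine (W x).toScheme := hW x
    haveI : ∀ l : Over i₀, IsAffine ((opensDiagram E i₀ (U x)).obj l) := fun l => (hU x).preimage (E.map l.hom)
    have hhom : h ≫ c.pt.hom = h ≫ d.π.app i₀ ≫ (D.obj i₀).hom := congrArg (h ≫ ·) (Over.w (c.π.app i₀)).symm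
    have hle : O ≤ (h ≫ c.pt.hom) ⁻¹ᵁ W x := by
      rw [hhom, ← Category.assoc, Scheme.Hom.comp_preimage]
      exact Scheme.Hom.preimage_mono _ (hUW x)
    let r := (h ≫ c.pt.hom).resLE (W x) O hle
    haveI : LocallyOfFiniteType r := inferInstanceAs (LocallyOfFiniteType ((h ≫ c.pt.hom).resLE (W x) O hle))
    obtain ⟨G, hG⟩ := Groth.Agent.AbsApprox.exists_gen_of_lft r
    haveI : IsAffine (d.π.app i₀ ⁻¹ᵁ U x).toScheme := by haveI := hπ i₀; exact (hU x).preimage (d.π.app i₀)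
    let hO : O.toScheme ⟶ (d.π.app i₀ ⁻¹ᵁ U x).toScheme := h.resLE _ O le_rfl
    haveI : IsClosedImmersion hO := by
      have e : hO = h ∣_ (d.π.app i₀ ⁻¹ᵁ U x) := Scheme.Hom.resLE_eq_morphismRestrict _
      rw [e]; infer_instance
    have hsurj : ∀ e : Γ(O.toScheme, ⊤), ∃ v : Γ((d.π.app i₀ ⁻¹ᵁ U x).toScheme, ⊤), hO.appTop v = e := fun e =>
      hO.app_surjective ⊤ (isAffineOpen_top _) e
    choose v hv using hsurj
    choose le ue hue using fun e : Γ(O.toScheme, ⊤) =>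
      exists_appTop_π_eq_of_isAffine_of_isLimit _ _ (isLimitOpensCone E d hd i₀ (U x)) (v e)
    obtain ⟨m, hm⟩ := IsCofiltered.inf_objs_exists (insert (Over.mk (𝟙 i₀)) (G.image le))
    refine ⟨m, fun l a => ?_⟩
    have hpre : (h ≫ d.π.app l.left) ⁻¹ᵁ (E.map l.hom ⁻¹ᵁ U x) = O := by
      rw [← Scheme.Hom.comp_preimage, Category.assoc, d.w]
    let p₂ : (E.map l.hom ⁻¹ᵁ U x).toScheme ⟶ (W x).toScheme :=
      (E.map l.hom ≫ (D.obj i₀).hom).resLE (W x) _ (by
        rw [Scheme.Hom.comp_preimage]; exact Scheme.Hom.preimage_mono _ (hUW x))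
    let h' : O.toScheme ⟶ (E.map l.hom ⁻¹ᵁ U x).toScheme := hO ≫ (opensCone E d i₀ (U x)).π.app l
    haveI : IsAffine (E.map l.hom ⁻¹ᵁ U x).toScheme := (hU x).preimage (E.map l.hom)
    have hp₂ : h' ≫ p₂ = r := by
      rw [← cancel_mono (W x).ι]
      simp only [h', hO, p₂, r, opensCone, Category.assoc, Scheme.Hom.resLE_comp_ι, Scheme.Hom.resLE_comp_ι_assoc]
      rw [hhom, ← d.w l.hom, Category.assoc]
    haveI : LocallyOfFiniteType (h' ≫ p₂) := hp₂ ▸ inferInstance
    have hh' : IsClosedImmersion h' := by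
      refine Groth.Agent.AbsApprox.isClosedImmersion_of_generators h' (𝟙 _) p₂ G (by rw [hp₂]; exact hG) fun e he => ?_
      let η : l ⟶ le e := a ≫ (hm (Finset.mem_insert_of_mem (Finset.mem_image_of_mem le he))).some
      refine ⟨((opensDiagram E i₀ (U x)).map η).appTop (ue e), ?_⟩
      rw [Category.comp_id]
      simp only [h', Scheme.Hom.comp_appTop, CommRingCat.comp_apply]
      refine Eq.trans (congrArg hO.appTop ?_) (hv e)
      refine Eq.trans ?_ (hue e)
      rw [← (opensCone E d i₀ (U x)).w η, Scheme.Hom.comp_appTop]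
      rfl
    have e : (h ≫ d.π.app l.left) ∣_ (E.map l.hom ⁻¹ᵁ U x) = (Y.isoOfEq hpre).hom ≫ h' := by
      rw [← cancel_mono (E.map l.hom ⁻¹ᵁ U x).ι]
      simp only [h', hO, opensCone, morphismRestrict_ι, Category.assoc, Scheme.Hom.resLE_comp_ι,
        Scheme.Hom.resLE_comp_ι_assoc, Scheme.isoOfEq_hom_ι_assoc]
    rw [e]
    infer_instance
  choose j hj using key
  haveI : CompactSpace (E.obj i₀) := inferInstanceAs (CompactSpace (D.obj i₀).left)
  obtain ⟨t, ht⟩ := CompactSpace.elim_nhds_subcover (fun x => SetLike.coe (U x)) (fun x => (U x).2.mem_nhds (hxU x))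
  obtain ⟨m, hm⟩ := IsCofiltered.inf_objs_exists (insert (Over.mk (𝟙 i₀)) (t.image j))
  refine ⟨m.left, IsZariskiLocalAtTarget.of_iSup_eq_top (fun x : t => E.map m.hom ⁻¹ᵁ U x.1) ?_ fun x =>
    hj x.1 m (hm (Finset.mem_insert_of_mem (Finset.mem_image_of_mem j x.2))).some⟩
  refine top_le_iff.1 fun y _ => ?_
  obtain ⟨x, hx, hyx⟩ := Set.mem_iUnion₂.1 (ht.ge (Set.mem_univ (E.map m.hom y)))
  exact TopologicalSpace.Opens.mem_iSup.2 ⟨⟨x, hx⟩, hyx⟩

end Groth.Agent.S2076
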