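import Groth.Statements.S18754
import Groth.Agent.S2076
import Groth.Agent.ModPairFrac.Basic

set_option autoImplicit false
set_option backward.isDefEq.respectTransparency false
set_option backward.isDefEq.respectTransparency.types false
universe u
open CategoryTheory CategoryTheory.Limits AlgebraicGeometry TopologicalSpace
open ModPair

namespace Groth.Agent.S18754

/-- Let (Y, I_Y) be a modulus pair with Y quasi-compact and quasi-separated, and let (X_i ⟶ Y) be a
cofiltered system of Y-schemes with affine transition morphisms such that every X_i is quasi-compact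
and quasi-separated, the pulled-back ideal I_Y.comap (X_i ⟶ Y) is the ideal of an effective Cartier
divisor, and X_i ⟶ Y is an abstract admissible blow-up of modulus pairs which is locally of finite
presentation. Let X be the limit of the system over Y and suppose that X ⟶ Y, with the pulled-back
modulus (assumed effective Cartier), is also an abstract admissible blow-up. Then X ⟶ Y is locally
of finite presentation: an abstract admissible blow-up of quasi-compact quasi-separated modulus
pairs which is not of finite presentation is never a limit of finitely presented ones. -/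
theorem result {Y : Scheme.{u}}
    [CompactSpace Y] [QuasiSeparatedSpace Y] (IY : Y.IdealSheafData) (hY : BlowUp.IsEffCartierIdeal IY)
    {I : Type u} [SmallCategory I] [IsCofiltered I] (D : I ⥤ Over Y) (c : Cone D) (hc : IsLimit c)
    [∀ (i j : I) (t : i ⟶ j), IsAffineHom (D.map t).left]
    [∀ i, CompactSpace (D.obj i).left] [∀ i, QuasiSeparatedSpace (D.obj i).left]
    (hI : ∀ i, BlowUp.IsEffCartierIdeal (IY.comap (D.obj i).hom))
    (hadm : ∀ i, ModPair.IsAdmBlowup (IY.comap (D.obj i).hom) IY (D.obj i).hom)
    [∀ i, LocallyOfFinitePresentation (D.obj i).hom]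
    (hX : BlowUp.IsEffCartierIdeal (IY.comap c.pt.hom))
    (hXadm : ModPair.IsAdmBlowup (IY.comap c.pt.hom) IY c.pt.hom) :
    LocallyOfFinitePresentation c.pt.hom := by
  haveI := hXadm.2.1
  haveI : LocallyOfFiniteType (𝟙 c.pt.left ≫ c.pt.hom) := inferInstance
  obtain ⟨i, hi⟩ := Groth.Agent.S2076.result Y D c hc (𝟙 c.pt.left)
  rw [Category.id_comp] at hi
  haveI := hi
  let U := ModPair.interior IY
  haveI : IsIso (c.pt.hom ∣_ U) := hXadm.2.2
  haveI : IsIso ((D.obj i).hom ∣_ U) := (hadm i).2.2
  let fi := (D.obj i).hom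
  let π := (c.π.app i).left
  have hw : π ≫ fi = c.pt.hom := Over.w (c.π.app i)
  let Ui : (D.obj i).left.Opens := fi ⁻¹ᵁ U
  let l : Ui.toScheme ⟶ c.pt.left := (fi ∣_ U) ≫ inv (c.pt.hom ∣_ U) ≫ (c.pt.hom ⁻¹ᵁ U).ι
  have hl : l ≫ π = Ui.ι := by
    have hr : Set.range (l ≫ π) ⊆ Set.range Ui.ι := by
      rw [Scheme.Opens.range_ι]
      rintro - ⟨y, rfl⟩
      show fi ((l ≫ π) y) ∈ U
      rw [← Scheme.Hom.comp_apply, Category.assoc, hw]
      simp only [l, Category.assoc, ← morphismRestrict_ι, IsIso.inv_hom_id_assoc]
      rw [Scheme.Hom.comp_apply]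
      exact ((fi ∣_ U) y).2
    let m := IsOpenImmersion.lift Ui.ι (l ≫ π) hr
    have hm : m ≫ Ui.ι = l ≫ π := IsOpenImmersion.lift_fac _ _ _
    have hm1 : m = 𝟙 _ := by
      rw [← cancel_mono (fi ∣_ U), ← cancel_mono U.ι, Category.assoc, morphismRestrict_ι, reassoc_of% hm,
        hw, Category.id_comp, morphismRestrict_ι]
      simp only [l, Category.assoc, ← morphismRestrict_ι, IsIso.inv_hom_id_assoc]
    rw [← hm, hm1, Category.id_comp]
  have hker : Ui.ι.ker = ⊥ := by
    have e : ModPair.interior (IY.comap fi) = Ui := Groth.Agent.AlmostBlow.awayFrom_comap fi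
    rw [← e]
    exact Groth.Agent.AlmostBlow.supportedOn_eq_bot (hI i)
  haveI : IsIso π := Groth.Agent.ModPairFrac.isIso_of_factor π hker l hl
  rw [← hw]
  exact inferInstance

end Groth.Agent.S18754
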