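import Groth.Statements.S18759
import Groth.Agent.ModPairLim.Approx
import Groth.Agent.S2078

set_option autoImplicit false
set_option backward.isDefEq.respectTransparency false
set_option backward.isDefEq.respectTransparency.types false
universe u
open CategoryTheory CategoryTheory.Limits AlgebraicGeometry TopologicalSpace
open ModPair

namespace Groth.Agent.S18759

/-- Let (X, I_X) and (Y, I_Y) be modulus pairs with X, Y quasi-compact and quasi-separated, and f : X ⟶
Y an ambient morphism (modulus condition I_X ≤ I_Y.comap f) which is locally of finite type. Then X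
⟶ Y is a cofiltered limit of Y-schemes X_i such that: (1) every X_i ⟶ Y is of finite presentation
and all transition maps X_i ⟶ X_j and projections X ⟶ X_i are closed immersions; (2) every X_i
carries a locally principal quasi-coherent ideal sheaf J_i whose pull-back to X is I_X and whose
pull-back along each transition map X_i ⟶ X_j of J_j is J_i; (3) every X_i ⟶ Y satisfies the modulus
condition for J_i, and if f is minimal all X_i ⟶ Y are minimal; (4) if f is proper all X_i ⟶ Y are
proper; (5) if f is minimal and an isomorphism over the interior of Y, every X_i ⟶ Y is an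
isomorphism over the interior of Y. (Part (5) is given here in the minimal case, where the interior
of (X_i, J_i) is the preimage of the interior of Y.) -/
theorem result {X Y : Scheme.{u}}
    [CompactSpace X] [QuasiSeparatedSpace X] [CompactSpace Y] [QuasiSeparatedSpace Y]
    (IX : X.IdealSheafData) (IY : Y.IdealSheafData) (hX : BlowUp.IsEffCartierIdeal IX)
    (hY : BlowUp.IsEffCartierIdeal IY) (f : X ⟶ Y) (hf : ModPair.IsAmbient IX IY f)
    [LocallyOfFiniteType f] :
    ∃ (I : Type u) (_ : SmallCategory I) (_ : IsCofiltered I) (D : I ⥤ Over Y) (c : Cone D)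
      (_ : IsLimit c) (e : c.pt ≅ Over.mk f) (J : ∀ i, (D.obj i).left.IdealSheafData),
      (∀ i, LocallyOfFinitePresentation (D.obj i).hom ∧ QuasiCompact (D.obj i).hom ∧
          QuasiSeparated (D.obj i).hom) ∧
        (∀ (i j : I) (t : i ⟶ j), IsClosedImmersion (D.map t).left) ∧
        (∀ i, IsClosedImmersion (c.π.app i).left) ∧
        (∀ i, Curv2.IsLocPrincipal (J i)) ∧
        (∀ i, IX = (J i).comap (e.inv.left ≫ (c.π.app i).left)) ∧
        (∀ (i j : I) (t : i ⟶ j), J i = (J j).comap (D.map t).left) ∧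
        (∀ i, ModPair.IsAmbient (J i) IY (D.obj i).hom) ∧
        (ModPair.IsMinimal IX IY f → ∀ i, ModPair.IsMinimal (J i) IY (D.obj i).hom) ∧
        (IsProper f → ∀ i, IsProper (D.obj i).hom) ∧
        (ModPair.IsMinimal IX IY f → IsIso (f ∣_ ModPair.interior IY) →
          ∀ i, IsIso ((D.obj i).hom ∣_ ModPair.interior IY)) := by
  open Groth.Agent in open Groth.Agent.ModPairLim in open Opposite in
  classical
  obtain ⟨X2, f2, j, hfp, hqc, hqs, hj, hjf⟩ := S2078.result f
  haveI := hfp
  haveI := hqc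
  haveI := hqs
  haveI := hj
  haveI : CompactSpace X2 := QuasiCompact.compactSpace_of_compactSpace f2
  haveI : QuasiSeparatedSpace X2 := quasiSeparatedSpace_of_quasiSeparated f2
  obtain ⟨L, hLft, hLj⟩ := exists_ft_lift j IX (fg_of_cartier hX)
  have hL : ∀ x : X2, ∃ V : X2.affineOpens, x ∈ V.1 ∧ (L.ideal V).FG := fun x => by
    obtain ⟨V, hV, hxV, -⟩ := exists_isAffineOpen_mem_and_subset (x := x) (U := (⊤ : X2.Opens)) trivial
    exact ⟨⟨V, hV⟩, hxV, hLft _⟩
  let M := IY.comap f2
  have hM : M.comap j = IY.comap f := by rw [← Scheme.IdealSheafData.comap_comp, hjf]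
  obtain ⟨N₁, hN₁⟩ := exists_locPrincipal j L hLft (hLj.symm ▸ hX)
  obtain ⟨N₂, hN₂⟩ := exists_le_sup_ftBelow j.ker M L hL
    (le_sup_ker_of_comap_le j (by rw [hLj, hM]; exact hf))
  obtain ⟨N₃, hN₃⟩ : ∃ N₃ : LimClosed.FTBelow j.ker, ModPair.IsMinimal IX IY f → M ≤ L ⊔ N₃.1 := by
    by_cases hm : ModPair.IsMinimal IX IY f
    · obtain ⟨N, hN⟩ := exists_le_sup_ftBelow j.ker L M (fg_comap f2 IY (fg_of_cartier hY))
        (le_sup_ker_of_comap_le j (by rw [hLj, hM]; exact hm.ge))
      exact ⟨N, fun _ => hN⟩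
    · exact ⟨Classical.arbitrary _, fun h => absurd h hm⟩
  obtain ⟨N₄, hN₄⟩ : ∃ N₄ : LimClosed.FTBelow j.ker, IsIso (f ∣_ ModPair.interior IY) → ∀ N, N₄ ≤ N →
      IsIso ((N.1.subschemeι ≫ f2) ∣_ ModPair.interior IY) := by
    by_cases hi : IsIso (f ∣_ ModPair.interior IY)
    · haveI := hi
      obtain ⟨N, hN⟩ := exists_isIso_restrict f f2 j hjf (ModPair.interior IY) (isCompact_interior hY)
      exact ⟨N, fun _ => hN⟩
    · exact ⟨Classical.arbitrary _, fun h => absurd h hi⟩
  let D₀ := AbsApprox.closedDiagram f2 j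
  obtain ⟨N₅, hN₅⟩ : ∃ N₅ : LimClosed.FTBelow j.ker, IsProper f → ∀ N, N₅ ≤ N → IsProper (D₀.obj (op N)).hom := by
    by_cases hp : IsProper f
    · haveI := hp
      obtain ⟨L₁, hL₁⟩ := AbsApprox.exists_isProper_closedDiagram f f2 j hjf
      exact ⟨L₁.unop, fun _ N hN => hL₁ (op N) (homOfLE hN).op⟩
    · exact ⟨Classical.arbitrary _, fun h => absurd h hp⟩
  obtain ⟨N₀, hN₀⟩ := Finite.exists_le (![N₁, N₂, N₃, N₄, N₅] : Fin 5 → LimClosed.FTBelow j.ker)
  haveI : IsCofiltered (LimClosed.FTBelow j.ker)ᵒᵖ := isCofiltered_op_of_isFiltered _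
  let c := AbsApprox.closedCone f f2 j hjf
  have hcc := (Functor.Initial.isLimitWhiskerEquiv (Over.forget (op N₀)) c).symm
    (AbsApprox.isLimitClosedCone f f2 j hjf)
  have hge : ∀ (l : Over (op N₀)) (k : Fin 5), ![N₁, N₂, N₃, N₄, N₅] k ≤ l.left.unop := fun l k =>
    (hN₀ k).trans (leOfHom l.hom.unop)
  refine ⟨Over (op N₀), inferInstance, inferInstance, Over.forget (op N₀) ⋙ D₀, c.whisker (Over.forget (op N₀)),
    hcc, Iso.refl _, fun l => L.comap l.left.unop.1.subschemeι, fun l => ?_, fun a b t => ?_, fun l => ?_,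
    fun l => ?_, fun l => ?_, fun a b t => ?_, fun l => ?_, fun hm l => ?_, fun hp l => ?_, fun _ hi l => ?_⟩
  · refine ⟨AbsApprox.lfp_closedDiagram f2 j l.left, ?_, ?_⟩
    · haveI := LimClosed.isClosedImmersion_diagram j.ker l.left
      exact inferInstanceAs (QuasiCompact (((LimClosed.diagram j.ker).obj l.left).hom ≫ f2))
    · haveI := LimClosed.isClosedImmersion_diagram j.ker l.left
      exact inferInstanceAs (QuasiSeparated (((LimClosed.diagram j.ker).obj l.left).hom ≫ f2))
  · exact AbsApprox.isClosedImmersion_closedDiagram_map f2 j t.left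
  · exact AbsApprox.isClosedImmersion_closedCone f f2 j hjf l.left
  · exact hN₁ _ (hge l 0)
  · show IX = (L.comap l.left.unop.1.subschemeι).comap (𝟙 X ≫ (c.π.app l.left).left)
    rw [Category.id_comp, ← Scheme.IdealSheafData.comap_comp,
      show (c.π.app l.left).left ≫ l.left.unop.1.subschemeι = j from
        Over.w ((LimClosed.cone j.ker j rfl).π.app l.left), hLj]
  · show L.comap a.left.unop.1.subschemeι =
      (L.comap b.left.unop.1.subschemeι).comap ((LimClosed.diagram j.ker).map t.left).left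
    rw [← Scheme.IdealSheafData.comap_comp]
    exact congrArg L.comap (Over.w ((LimClosed.diagram j.ker).map t.left)).symm
  · show L.comap _ ≤ IY.comap (l.left.unop.1.subschemeι ≫ f2)
    rw [Scheme.IdealSheafData.comap_comp]
    exact comap_le_of_le_sup (hN₂.trans (sup_le_sup_left (hge l 1) _))
  · show L.comap _ = IY.comap (l.left.unop.1.subschemeι ≫ f2)
    rw [Scheme.IdealSheafData.comap_comp]
    exact le_antisymm (comap_le_of_le_sup (hN₂.trans (sup_le_sup_left (hge l 1) _)))
      (comap_le_of_le_sup ((hN₃ hm).trans (sup_le_sup_left (hge l 2) _)))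
  · exact hN₅ hp _ (hge l 4)
  · exact hN₄ hi _ (hge l 3)

end Groth.Agent.S18759
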