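import Groth.Statements.S18764
import Groth.Agent.TorsorFib.Flat
import Groth.Agent.LimDesc.FPCancel

set_option autoImplicit false
set_option backward.isDefEq.respectTransparency false
set_option linter.style.haveILetI false
set_option synthInstance.maxHeartbeats 400000
set_option maxHeartbeats 1000000
universe u
open CategoryTheory CategoryTheory.Limits MonoidalCategory CartesianMonoidalCategory MonObj GrpObj AlgebraicGeometry
open NonAbH1

namespace Groth.Agent.S18764

/-- Let k be a field and X a quasi-compact k-scheme, connected and reduced, having a k-point x; let G,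
G₁, G₂ be finite group schemes over k with homomorphisms φ₁ : G₁ → G and φ₂ : G₂ → G, and let T, T₁,
T₂ be torsors over X (fppf-locally trivial) under the base changes to X of G, G₁, G₂ respectively,
each pointed by a k-point lying over x. Let f₁ : T₁ → T and f₂ : T₂ → T be morphisms of pointed
torsors: X-morphisms which intertwine the actions along φ₁, φ₂ and send the marked points of T₁, T₂
to that of T. Let P be the fibre product group scheme G₁ ×_G G₂ with its projections π₁, π₂. Then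
the fibre product T₁ ×_T T₂ carries an action of the base change of P for which both projections to
T₁ and T₂ are equivariant (along π₁, π₂) and which makes it a torsor over X (fppf-locally trivial).
(The published statement says that such an X has a fundamental group scheme; this row states the
closure of finite pointed torsors under fibre products to which it is reduced.) -/
theorem result
    (k : Type u) [Field k] (X : Scheme.{u}) [X.Over (Spec (CommRingCat.of k))] [ConnectedSpace X]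
    [CompactSpace X] [AlgebraicGeometry.IsReduced X]
    (x : Spec (CommRingCat.of k) ⟶ X) (hx : x ≫ (X ↘ Spec (CommRingCat.of k)) = 𝟙 _)
    (G G₁ G₂ : Over (Spec (CommRingCat.of k))) [GrpObj G] [GrpObj G₁] [GrpObj G₂]
    [IsFinite G.hom] [IsFinite G₁.hom] [IsFinite G₂.hom]
    (φ₁ : G₁ ⟶ G) (φ₂ : G₂ ⟶ G) [IsMonHom φ₁] [IsMonHom φ₂]
    (T T₁ T₂ : Over X)
    (a : AlgGrp.Action (Red.bc (X ↘ Spec (CommRingCat.of k)) G) T)
    (a₁ : AlgGrp.Action (Red.bc (X ↘ Spec (CommRingCat.of k)) G₁) T₁)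
    (a₂ : AlgGrp.Action (Red.bc (X ↘ Spec (CommRingCat.of k)) G₂) T₂)
    (hT : NonAbH1.IsTorsorFor Scheme.fppfPrecoverage a)
    (hT₁ : NonAbH1.IsTorsorFor Scheme.fppfPrecoverage a₁)
    (hT₂ : NonAbH1.IsTorsorFor Scheme.fppfPrecoverage a₂)
    (t : Spec (CommRingCat.of k) ⟶ T.left) (t₁ : Spec (CommRingCat.of k) ⟶ T₁.left)
    (t₂ : Spec (CommRingCat.of k) ⟶ T₂.left)
    (ht : t ≫ T.hom = x) (ht₁ : t₁ ≫ T₁.hom = x) (ht₂ : t₂ ≫ T₂.hom = x)
    (f₁ : T₁ ⟶ T) (f₂ : T₂ ⟶ T)
    (hf₁ : AlgGrp.Action.IsEquivariant a₁ (a.restrict ((Over.pullback (X ↘ Spec (CommRingCat.of k))).map φ₁)) f₁)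
    (hf₂ : AlgGrp.Action.IsEquivariant a₂ (a.restrict ((Over.pullback (X ↘ Spec (CommRingCat.of k))).map φ₂)) f₂)
    (hft₁ : t₁ ≫ f₁.left = t) (hft₂ : t₂ ≫ f₂.left = t)
    (P : Over (Spec (CommRingCat.of k))) [GrpObj P] (π₁ : P ⟶ G₁) (π₂ : P ⟶ G₂) [IsMonHom π₁] [IsMonHom π₂]
    (hP : IsPullback π₁ π₂ φ₁ φ₂) :
    ∃ c : AlgGrp.Action (Red.bc (X ↘ Spec (CommRingCat.of k)) P) (pullback f₁ f₂),
      AlgGrp.Action.IsEquivariant c (a₁.restrict ((Over.pullback (X ↘ Spec (CommRingCat.of k))).map π₁)) (pullback.fst f₁ f₂) ∧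
      AlgGrp.Action.IsEquivariant c (a₂.restrict ((Over.pullback (X ↘ Spec (CommRingCat.of k))).map π₂)) (pullback.snd f₁ f₂) ∧
      NonAbH1.IsTorsorFor Scheme.fppfPrecoverage c := by
  let q := X ↘ Spec (CommRingCat.of k)
  let Φ₁ := (Over.pullback q).map φ₁
  let Φ₂ := (Over.pullback q).map φ₂
  let Ψ₁ := (Over.pullback q).map π₁
  let Ψ₂ := (Over.pullback q).map π₂
  let Y := pullback f₁ f₂
  let B : Over X := Red.bc q P
  have hΨ : Ψ₁ ≫ Φ₁ = Ψ₂ ≫ Φ₂ := by
    simp only [Ψ₁, Ψ₂, Φ₁, Φ₂, ← Functor.map_comp, hP.w]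
  have equiv₁ : ∀ {U : Over X} (h : U ⟶ Red.bc q G₁) (s : U ⟶ T₁),
      Torsor.smul a₁ h s ≫ f₁ = Torsor.smul a (h ≫ Φ₁) (s ≫ f₁) := fun h s => by
    rw [Torsor.smul_equivariant a₁ hf₁]
    exact AlgGrp.Action.lift_restrict_act Φ₁ a h _
  have equiv₂ : ∀ {U : Over X} (h : U ⟶ Red.bc q G₂) (s : U ⟶ T₂),
      Torsor.smul a₂ h s ≫ f₂ = Torsor.smul a (h ≫ Φ₂) (s ≫ f₂) := fun h s => by
    rw [Torsor.smul_equivariant a₂ hf₂]
    exact AlgGrp.Action.lift_restrict_act Φ₂ a h _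
  let A₁ : B ⊗ Y ⟶ T₁ := Torsor.smul a₁ (fst B Y ≫ Ψ₁) (snd B Y ≫ pullback.fst f₁ f₂)
  let A₂ : B ⊗ Y ⟶ T₂ := Torsor.smul a₂ (fst B Y ≫ Ψ₂) (snd B Y ≫ pullback.snd f₁ f₂)
  have hA : A₁ ≫ f₁ = A₂ ≫ f₂ := by
    simp only [A₁, A₂, equiv₁, equiv₂, Category.assoc, hΨ, pullback.condition]
  let act : B ⊗ Y ⟶ Y := pullback.lift A₁ A₂ hA
  have k1 : ∀ {U : Over X} (h : U ⟶ B) (y : U ⟶ Y),
      lift h y ≫ act ≫ pullback.fst f₁ f₂ = Torsor.smul a₁ (h ≫ Ψ₁) (y ≫ pullback.fst f₁ f₂) := fun h y => by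
    simp only [act, pullback.lift_fst, A₁, Torsor.comp_smul, lift_fst_assoc, lift_snd_assoc]
  have k2 : ∀ {U : Over X} (h : U ⟶ B) (y : U ⟶ Y),
      lift h y ≫ act ≫ pullback.snd f₁ f₂ = Torsor.smul a₂ (h ≫ Ψ₂) (y ≫ pullback.snd f₁ f₂) := fun h y => by
    simp only [act, pullback.lift_snd, A₂, Torsor.comp_smul, lift_fst_assoc, lift_snd_assoc]
  let c : AlgGrp.Action B Y :=
    { act := act
      one_act := by
        apply AlgGrp.Action.hom_ext_lift₂
        intro U u y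
        have hu : u ≫ η[B] = 1 := by rw [Hom.one_def, toUnit_unique (toUnit U) u]
        rw [lift_whiskerRight_assoc, hu, leftUnitor_hom, lift_snd]
        apply pullback.hom_ext
        · rw [Category.assoc, k1, MonObj.one_comp, Torsor.one_smul]
        · rw [Category.assoc, k2, MonObj.one_comp, Torsor.one_smul]
      mul_act := by
        apply AlgGrp.Action.hom_ext_lift₃
        intro U g g' y
        rw [lift_whiskerRight_assoc, ← Hom.mul_def, lift_lift_associator_hom_assoc, lift_whiskerLeft_assoc]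
        apply pullback.hom_ext
        · simp only [Category.assoc, k1]
          rw [MonObj.mul_comp, Torsor.mul_smul]
        · simp only [Category.assoc, k2]
          rw [MonObj.mul_comp, Torsor.mul_smul] }
  have hPsi1 : IsMonHom Ψ₁ := inferInstance
  have hps : NonAbH1.IsPseudoTorsorSch c := by
    rw [Torsor.isPseudoTorsor_iff]
    intro U y y'
    obtain ⟨g₁, hg₁, u₁⟩ := (Torsor.isPseudoTorsor_iff a₁).1 hT₁.1 U (y ≫ pullback.fst f₁ f₂) (y' ≫ pullback.fst f₁ f₂)
    obtain ⟨g₂, hg₂, u₂⟩ := (Torsor.isPseudoTorsor_iff a₂).1 hT₂.1 U (y ≫ pullback.snd f₁ f₂) (y' ≫ pullback.snd f₁ f₂)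
    have hg : g₁ ≫ Φ₁ = g₂ ≫ Φ₂ := by
      refine ((Torsor.isPseudoTorsor_iff a).1 hT.1 U (y ≫ pullback.fst f₁ f₂ ≫ f₁)
        (y' ≫ pullback.fst f₁ f₂ ≫ f₁)).unique ?_ ?_
      · rw [← Category.assoc y, ← equiv₁, hg₁, Category.assoc]
      · rw [pullback.condition, ← Category.assoc y, ← equiv₂, hg₂, Category.assoc]
    have hB : IsPullback Ψ₁ Ψ₂ Φ₁ Φ₂ := hP.map (Over.pullback q)
    have split : ∀ g : U ⟶ B, Torsor.smul c g y = y' ↔ g ≫ Ψ₁ = g₁ ∧ g ≫ Ψ₂ = g₂ := fun g => by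
      constructor
      · intro h
        constructor
        · refine u₁ _ ?_
          rw [← h]
          exact ((Category.assoc _ _ _).trans (k1 g y)).symm
        · refine u₂ _ ?_
          rw [← h]
          exact ((Category.assoc _ _ _).trans (k2 g y)).symm
      · rintro ⟨e₁, e₂⟩
        apply pullback.hom_ext
        · show (lift g y ≫ act) ≫ _ = _
          rw [Category.assoc, k1, e₁, hg₁]
        · show (lift g y ≫ act) ≫ _ = _
          rw [Category.assoc, k2, e₂, hg₂]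
    refine ⟨hB.lift g₁ g₂ hg, (split _).2 ⟨hB.lift_fst _ _ _, hB.lift_snd _ _ _⟩, fun g hg' => ?_⟩
    obtain ⟨e₁, e₂⟩ := (split g).1 hg'
    exact hB.hom_ext (e₁.trans (hB.lift_fst _ _ _).symm) (e₂.trans (hB.lift_snd _ _ _).symm)
  -- geometric properties of the fibre product
  have hle := Scheme.fppfPrecoverage_le_fpqcPrecoverage.{u}
  have up : ∀ {Gi : Over (Spec (CommRingCat.of k))} [GrpObj Gi] {Ti : Over X} {ai : AlgGrp.Action (Red.bc q Gi) Ti},
      NonAbH1.IsTorsorFor Scheme.fppfPrecoverage ai → NonAbH1.IsTorsorFor Scheme.fpqcPrecoverage ai :=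
    fun h => ⟨h.1, h.2.choose, hle _ h.2.choose_spec.1, h.2.choose_spec.2⟩
  haveI hsurj : Surjective Y.hom := TorsorFib.surjective_pullback q x φ₁ φ₂ a a₁ a₂ (up hT) (up hT₁) (up hT₂)
    t t₁ t₂ ht ht₁ ht₂ f₁ f₂ hf₁ hf₂ hft₁ hft₂
  obtain ⟨i0, -, l0⟩ := TorsorFib.props q (up hT)
  obtain ⟨i1, -, l1⟩ := TorsorFib.props q (up hT₁)
  obtain ⟨i2, -, l2⟩ := TorsorFib.props q (up hT₂)
  have hsq : IsPullback (pullback.fst f₁ f₂).left (pullback.snd f₁ f₂).left f₁.left f₂.left :=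
    (IsPullback.of_hasPullback f₁ f₂).map (Over.forget X)
  haveI : IsFinite (f₂.left ≫ T.hom) := by rw [Over.w f₂]; exact i2
  haveI : LocallyOfFinitePresentation (f₂.left ≫ T.hom) := by rw [Over.w f₂]; exact l2
  haveI : IsFinite f₂.left := IsFinite.of_comp _ T.hom
  haveI : LocallyOfFinitePresentation f₂.left := LimDesc.lfp_of_comp _ T.hom
  haveI : IsFinite (pullback.fst f₁ f₂).left := MorphismProperty.of_isPullback hsq.flip inferInstance
  haveI : LocallyOfFinitePresentation (pullback.fst f₁ f₂).left :=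
    MorphismProperty.of_isPullback hsq.flip inferInstance
  have hY : Y.hom = (pullback.fst f₁ f₂).left ≫ T₁.hom := (Over.w _).symm
  haveI : IsFinite Y.hom := by rw [hY]; infer_instance
  haveI : LocallyOfFinitePresentation Y.hom := by rw [hY]; infer_instance
  have hPl : IsPullback π₁.left π₂.left φ₁.left φ₂.left := hP.map (Over.forget _)
  haveI : IsFinite (φ₂.left ≫ G.hom) := by rw [Over.w φ₂]; infer_instance
  haveI : IsFinite φ₂.left := IsFinite.of_comp _ G.hom
  haveI : IsFinite π₁.left := MorphismProperty.of_isPullback hPl.flip inferInstance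
  haveI : IsFinite P.hom := by rw [← Over.w π₁]; infer_instance
  haveI : Flat Y.hom := TorsorFib.flat_of_hasDegree Y.hom _ (TorsorFib.hasDegree_of_pseudoTorsor q hps)
  refine ⟨c, ?_, ?_, hps, _, Y.hom.singleton_mem_fppfPrecoverage, ?_⟩
  · show act ≫ _ = _
    apply AlgGrp.Action.hom_ext_lift₂
    intro U g y
    rw [k1, lift_whiskerLeft_assoc]
    exact (AlgGrp.Action.lift_restrict_act Ψ₁ a₁ g _).symm
  · show act ≫ _ = _
    apply AlgGrp.Action.hom_ext_lift₂
    intro U g y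
    rw [k2, lift_whiskerLeft_assoc]
    exact (AlgGrp.Action.lift_restrict_act Ψ₂ a₂ g _).symm
  · rintro Z f ⟨⟩
    exact ⟨𝟙 _, Category.id_comp _⟩

end Groth.Agent.S18764
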