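import Groth.Statements.S18774
import Groth.Agent.W7Slope.Hom

set_option autoImplicit false
universe u
open CategoryTheory CategoryTheory.Limits AlgebraicGeometry
open VBCurve

set_option backward.isDefEq.respectTransparency false
set_option backward.isDefEq.respectTransparency.types false

open Groth.Agent Groth.Agent.CurveRR Groth.Agent.CohFinite CategoryTheory.Limits

namespace Groth.Agent.S18774

/-- Let k be a finite field and C a smooth proper geometrically integral curve over k (proper, smooth
and geometrically integral over k, of dimension one), and write g = dim_k H^1(C, O_C). Let E be a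
finite locally free O_C-module and F a finite locally free submodule of E of rank r' ≥ 1 (a
monomorphism F → E). Then deg F ≤ r' · (dim_k H^0(C, E) + g − 1), that is, the slope of F is at most
h^0(C, E) + g − 1; here the degree of a rank-n locally free module G is χ(G) − n·χ(O_C). -/
theorem result (k : Type u) [Field k] [Finite k] (X : Scheme.{u}) [X.Over (Spec (CommRingCat.of k))]
    [IsProper (X ↘ Spec (CommRingCat.of k))] [Smooth (X ↘ Spec (CommRingCat.of k))]
    [GeometricallyIntegral (X ↘ Spec (CommRingCat.of k))] (hdim : topologicalKrullDim ↥X = 1)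
    (E : X.Modules) (hE : FlatMod.IsFinLocFree E) (F : X.Modules) (r' : ℕ) (hr' : 0 < r')
    (hF : FlatMod.IsFinLocFreeOfRank r' F) (i : F ⟶ E) [Mono i] :
    Curv2.deg k X F r' ≤ (r' : ℤ) * ((Module.finrank k (Coh.HH X E 0) : ℤ) + (Curv2.genus k X : ℤ) - 1) := by
  haveI : IsIntegral X := GeometricallyIntegral.isIntegral_of_subsingleton (X ↘ Spec (CommRingCat.of k))
  have hX : W7Slope.RegCurve X := W7Slope.regCurve_of_smooth (k := k) hdim
  haveI := isNoetherian_of_proper k X
  have hEc : Coh.IsCoh E := ⟨LocFree.isQCoh_of_isFinLocFree hE, LocFree.isFT_of_isFinLocFree hE⟩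
  have hb := W7Slope.cdeg_le_bound k hX.dim hEc i
  rw [W7Slope.grk_of_rank hF, ← W7Slope.deg_eq hF] at hb
  have hO : Curv2.euler k X (Coh.structureModule X) =
      (h k (Coh.structureModule X) 0 : ℤ) - (Curv2.genus k X : ℤ) := euler_eq hX.dim _
  have h1 : 1 ≤ h k (Coh.structureModule X) 0 := by
    haveI := finite_proper k X (Coh.structureModule X) RefStalk.isCoh_structureModule 0
    haveI : Nonempty (⊤ : X.Opens) := ⟨⟨genericPoint X, trivial⟩⟩
    haveI : Nontrivial Γ(Coh.structureModule X, ⊤) := inferInstanceAs (Nontrivial Γ(X, ⊤))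
    haveI : Nontrivial (Coh.HH X (Coh.structureModule X) 0) := (secH0 (k := k) (Coh.structureModule X)).symm.toEquiv.nontrivial
    exact Module.finrank_pos
  change Curv2.deg k X F r' ≤ (r' : ℤ) * ((h k E 0 : ℤ) + (Curv2.genus k X : ℤ) - 1)
  rw [hO] at hb
  have h1' : (1 : ℤ) ≤ h k (Coh.structureModule X) 0 := by exact_mod_cast h1
  have hr1 : (1 : ℤ) ≤ r' := by exact_mod_cast hr'
  nlinarith [mul_le_mul_of_nonneg_left h1' (Int.natCast_nonneg r'), mul_le_mul_of_nonneg_right hr1 (Int.natCast_nonneg (h k E 0))]

end Groth.Agent.S18774
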