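import Groth.Statements.S18776
import Groth.Agent.HNSplit.Bound
import Groth.Agent.W7Cover.GeomConn
import Groth.Agent.GeomConn.Basic

set_option autoImplicit false
universe u
open CategoryTheory CategoryTheory.Limits AlgebraicGeometry
open VBCurve

set_option backward.isDefEq.respectTransparency false
set_option backward.isDefEq.respectTransparency.types false

open Groth.Agent

namespace Groth.Agent.S18776

/-- Let k be a finite field and C a smooth proper geometrically integral curve over k (proper, smooth
and geometrically integral over k, of dimension one) of genus one, i.e. dim_k H^1(C, O_C) = 1, with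
a k-rational point O (an elliptic curve over k). Let F and F' be finite locally free O_C-modules of
ranks r ≥ 1 and s ≥ 1 such that F is semistable in the sense that deg G · rk F ≤ deg F · rk G for
every finite locally free submodule G of F of positive rank (the degree of a rank-n locally free
module being χ − n·χ(O_C)), and likewise for F'. Then for every finite locally free submodule G of F
⊗ F' of rank t ≥ 1 one has μ(G) − μ(F) − μ(F') ≤ 4, that is deg G · r · s ≤ t · (4 r s + deg F · s +
deg F' · r). (The published statement takes F and F' arbitrary; that form fails for F the direct sum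
of invertible modules of degrees 5 and −5 and F' = O_C, so both are taken semistable here, as the
published argument requires.) -/
theorem result (k : Type u) [Field k] [Finite k] (X : Scheme.{u}) [X.Over (Spec (CommRingCat.of k))]
    [IsProper (X ↘ Spec (CommRingCat.of k))] [Smooth (X ↘ Spec (CommRingCat.of k))]
    [GeometricallyIntegral (X ↘ Spec (CommRingCat.of k))] (hdim : topologicalKrullDim ↥X = 1)
    (hg : Curv2.genus k X = 1) (O : Spec (CommRingCat.of k) ⟶ X) (hO : O ≫ (X ↘ Spec (CommRingCat.of k)) = 𝟙 _)
    (F F' : X.Modules) (r s : ℕ) (hr : 0 < r) (hs : 0 < s)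
    (hF : FlatMod.IsFinLocFreeOfRank r F) (hF' : FlatMod.IsFinLocFreeOfRank s F')
    (hFss : (∀ (G : X.Modules) (r' : ℕ) (i : G ⟶ F), Mono i → 0 < r' → FlatMod.IsFinLocFreeOfRank r' G →
      Curv2.deg k X G r' * (r : ℤ) ≤ Curv2.deg k X F r * (r' : ℤ)))
    (hF'ss : (∀ (G : X.Modules) (r' : ℕ) (i : G ⟶ F'), Mono i → 0 < r' → FlatMod.IsFinLocFreeOfRank r' G →
      Curv2.deg k X G r' * (s : ℤ) ≤ Curv2.deg k X F' s * (r' : ℤ)))
    (G : X.Modules) (t : ℕ) (ht : 0 < t) (hG : FlatMod.IsFinLocFreeOfRank t G)
    (i : G ⟶ CohB1.tensorMod F F') [Mono i] :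
    Curv2.deg k X G t * (r : ℤ) * (s : ℤ) ≤
      (t : ℤ) * (4 * (r : ℤ) * (s : ℤ) + Curv2.deg k X F r * (s : ℤ) + Curv2.deg k X F' s * (r : ℤ)) := by
  haveI : GeometricallyConnected (X ↘ Spec (CommRingCat.of k)) := GeomConn.geometricallyConnected_of_irreducible _
  haveI := W7Slope.isIntegral_of_geomConn k (X := X) hdim
  haveI := CurveRR.isNoetherian_of_proper k X
  have hX := W7Slope.regCurve_of_smooth (k := k) (X := X) hdim
  have h0 := W7Cover.h0_of_geometricallyConnected (k := k) (X := X)
  have hr' : (0 : ℤ) < r := by exact_mod_cast hr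
  have hs' : (0 : ℤ) < s := by exact_mod_cast hs
  obtain ⟨m, hm1, hm2⟩ : ∃ m : ℤ, Curv2.deg k X F r < (m - 1) * r ∧ m * r ≤ Curv2.deg k X F r + 4 * r := by
    refine ⟨Curv2.deg k X F r / r + 2, ?_, ?_⟩
    · have := Int.lt_ediv_add_one_mul_self (Curv2.deg k X F r) hr'
      linarith
    · have := Int.ediv_mul_le (Curv2.deg k X F r) hr'.ne'
      linarith
  obtain ⟨L, hL, hdL⟩ := HNSplit.exists_deg_of_point k hdim hX O hO m
  obtain ⟨M, -, j, hj⟩ := HNSplit.exists_mono_copies k hdim hX h0 hg hr hF hFss hL (by rw [hdL]; exact hm1)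
  haveI : Mono (CohFinite.tmap j F') := (CurveRR.shortExact_tmapR (CurveRR.hasFrames_of_rank hF')
    (S := ShortComplex.mk j (cokernel.π j) (cokernel.condition j)) { exact := ShortComplex.exact_cokernel j }).mono_f
  haveI : HasFiniteBiproducts X.Modules := Abelian.hasFiniteBiproducts
  let e := biproduct.isoCoproduct fun _ : Fin M => L
  have hB := W7Slope.rank_tensor_inv hF' hL
  have hBss := HNSplit.ss_twist k hX hF' hL hF'ss
  have key := HNSplit.slope_le_of_joint k hX hB hBss (ι := Fin M) t G
    (fun l => i ≫ CohFinite.tmap j F' ≫ CohFinite.tmap (e.inv ≫ biproduct.π _ l) F' ≫ (TMul.commIso L F').hom) hG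
    fun W x hx => by
      have hid : j = ∑ l, (j ≫ (e.inv ≫ biproduct.π (fun _ : Fin M => L) l)) ≫ biproduct.ι (fun _ : Fin M => L) l ≫ e.hom := by
        conv_lhs => rw [← Category.comp_id j, ← e.inv_hom_id, ← Category.id_comp e.hom, ← biproduct.total]
        simp only [Preadditive.comp_sum, Preadditive.sum_comp, Category.assoc]
      rw [← cancel_mono i, ← cancel_mono (CohFinite.tmap j F'), zero_comp, zero_comp, hid, CohFinite.tmap_sum,
        Preadditive.comp_sum]
      refine Finset.sum_eq_zero fun l _ => ?_
      have hl : x ≫ i ≫ CohFinite.tmap j F' ≫ CohFinite.tmap (e.inv ≫ biproduct.π (fun _ : Fin M => L) l) F' = 0 := by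
        rw [← cancel_mono (TMul.commIso L F').hom, zero_comp]
        simpa [Category.assoc] using hx l
      rw [CohFinite.tmap_comp, CohFinite.tmap_comp j]
      simp only [Category.assoc] at hl ⊢
      rw [reassoc_of% hl, zero_comp]
  rw [W7Slope.deg_twist (k := k) hX.dim hF' hL, hdL] at key
  have h1 := mul_le_mul_of_nonneg_right key hr'.le
  have h2 := mul_le_mul_of_nonneg_left hm2 (mul_nonneg (Int.natCast_nonneg t) hs'.le)
  linarith

end Groth.Agent.S18776
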