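import Groth.Statements.S18778
import Groth.Agent.W7Slope.H0Bound

set_option autoImplicit false
universe u
open CategoryTheory CategoryTheory.Limits AlgebraicGeometry
open VBCurve

set_option backward.isDefEq.respectTransparency false
set_option backward.isDefEq.respectTransparency.types false

open Groth.Agent Groth.Agent.CurveRR Groth.Agent.CohFinite CategoryTheory.Limits

namespace Groth.Agent.S18778

/-- Let k be a finite field and C a smooth proper geometrically integral curve over k (proper, smooth
and geometrically integral over k, of dimension one) of genus one, i.e. dim_k H^1(C, O_C) = 1, with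
a k-rational point O (an elliptic curve over k). Let G be a finite locally free O_C-module of rank r
≥ 1 and degree 0, where the degree of a rank-n locally free module H is χ(H) − n·χ(O_C), which is
semistable: deg H · r ≤ deg G · rk H = 0 for every finite locally free submodule H of G of positive
rank. Then dim_k H^0(C, G) ≤ r. -/
theorem result (k : Type u) [Field k] [Finite k] (X : Scheme.{u}) [X.Over (Spec (CommRingCat.of k))]
    [IsProper (X ↘ Spec (CommRingCat.of k))] [Smooth (X ↘ Spec (CommRingCat.of k))]
    [GeometricallyIntegral (X ↘ Spec (CommRingCat.of k))] (hdim : topologicalKrullDim ↥X = 1)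
    (hg : Curv2.genus k X = 1) (O : Spec (CommRingCat.of k) ⟶ X) (hO : O ≫ (X ↘ Spec (CommRingCat.of k)) = 𝟙 _)
    (G : X.Modules) (r : ℕ) (hr : 0 < r) (hG : FlatMod.IsFinLocFreeOfRank r G)
    (hdeg : Curv2.deg k X G r = 0)
    (hGss : (∀ (H : X.Modules) (r' : ℕ) (i : H ⟶ G), Mono i → 0 < r' → FlatMod.IsFinLocFreeOfRank r' H →
      Curv2.deg k X H r' * (r : ℤ) ≤ Curv2.deg k X G r * (r' : ℤ))) :
    Module.finrank k (Coh.HH X G 0) ≤ r := by
  haveI : IsIntegral X := GeometricallyIntegral.isIntegral_of_subsingleton (X ↘ Spec (CommRingCat.of k))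
  haveI := isNoetherian_of_proper k X
  have hX : W7Slope.RegCurve X := W7Slope.regCurve_of_smooth (k := k) hdim
  haveI : IsClosedImmersion (O ≫ (X ↘ Spec (CommRingCat.of k))) := by rw [hO]; infer_instance
  haveI : IsClosedImmersion O := IsClosedImmersion.of_comp O (X ↘ Spec (CommRingCat.of k))
  let P : X := O (IsLocalRing.closedPoint k)
  have hP : IsClosed ({P} : Set X) := by
    rw [show ({P} : Set X) = Set.range O from
      (Set.range_eq_singleton_iff.2 fun p => congrArg O (Subsingleton.elim p _)).symm]
    exact O.isClosedEmbedding.isClosed_range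
  have hI := isInvertible_pointIdeal hX.dim hP (genericPoint_ne_of_closed (k := k) hdim hP) (hX.reg P)
  have h1 := h0_quotMod_ratPoint (k := k) hP O hO (fun p => congrArg O (Subsingleton.elim p _))
  have := W7Slope.h0_le_mul_of_no_line (k := k) hX hP hI h1 (r := r) 1 hG fun L i hi hL => by
    haveI := hi
    have h2 := hGss L 1 i hi one_pos (isFinLocFreeOfRank_one hL)
    rw [hdeg, zero_mul] at h2
    have hr' : (0 : ℤ) < r := by exact_mod_cast hr
    push_cast
    nlinarith
  rw [mul_one] at this
  exact this

end Groth.Agent.S18778
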