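import Groth.Statements.S1878
import Groth.Agent.Grpd.Scheme
import Groth.Agent.Grpd.Points

set_option autoImplicit false
universe u
open CategoryTheory CategoryTheory.Limits AlgebraicGeometry
open Grpd

namespace Groth.Agent.S1878

open Groth.Agent.GrpdLib

lemma exists_geom_point {X : Scheme.{u}} (x : X) : ∃ (K : Type u) (_ : Field K) (_ : IsAlgClosed K)
    (z : Spec (CommRingCat.of K)) (f : Spec (CommRingCat.of K) ⟶ X), f z = x := by
  let φ : X.residueField x ⟶ CommRingCat.of (AlgebraicClosure (X.residueField x)) :=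
    CommRingCat.ofHom (algebraMap (X.residueField x) (AlgebraicClosure (X.residueField x)))
  refine ⟨AlgebraicClosure (X.residueField x), inferInstance, inferInstance,
    IsLocalRing.closedPoint _, Spec.map φ ≫ X.fromSpecResidueField x, ?_⟩
  rw [Scheme.Hom.comp_apply]
  exact Scheme.fromSpecResidueField_apply x _

/-- Let (U, R, s, t, c) be a groupoid scheme over S with U, R affine and s, t finite locally free, and M
= Spec C. (1) U → M is surjective and two points of U have the same image iff some point of R has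
them as target and source. (2) For every algebraically closed field k, M(k) = U(k)/R(k): every
k-point of M lifts to U, and two k-points of U agree in M iff they are the target and source of a
k-point of R. (A groupoid scheme carries U, R, s, t, c, e, i over S with the groupoid axioms on
T-points; 'finite locally free' is finite, flat and locally of finite presentation; C ⊂ Γ(U) is the
ring of functions a with s♯(a) = t♯(a) and M = Spec C.) -/
theorem result (S : Scheme.{u}) (G : Grpd.GroupoidScheme S) [IsAffine G.U] [IsAffine G.R] [IsFinite G.s] [Flat G.s] [LocallyOfFinitePresentation G.s] [IsFinite G.t] [Flat G.t] [LocallyOfFinitePresentation G.t] : (Function.Surjective G.toQuot ∧ ∀ u₀ u₁ : G.U, G.toQuot u₀ = G.toQuot u₁ ↔ ∃ r : G.R, G.t r = u₀ ∧ G.s r = u₁) ∧ ∀ (k : Type u) [Field k] [IsAlgClosed k], (∀ m : Spec (CommRingCat.of k) ⟶ Spec (CommRingCat.of G.invariants), ∃ x : Spec (CommRingCat.of k) ⟶ G.U, x ≫ G.toQuot = m) ∧ ∀ x₀ x₁ : Spec (CommRingCat.of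 k) ⟶ G.U, x₀ ≫ G.toQuot = x₁ ≫ G.toQuot ↔ ∃ r : Spec (CommRingCat.of k) ⟶ G.R, r ≫ G.t = x₀ ∧ r ≫ G.s = x₁ := by
  letI := G.s.appTop.hom.toAlgebra
  obtain ⟨_, _⟩ := module_finite_projective G
  obtain ⟨hC, hinv⟩ := invariants_spec G
  have : Algebra.IsIntegral G.invariants Γ(G.U, ⊤) :=
    ⟨fun g => (grOfScheme G).isIntegral hinv g⟩
  have hinj : Function.Injective (algebraMap G.invariants Γ(G.U, ⊤)) := Subtype.val_injective
  have hq : ∀ {D : Type u} [CommRing D] (p : Γ(G.U, ⊤) →+* D), pt p ≫ G.toQuot =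
      Spec.map (CommRingCat.ofHom (p.comp G.invariants.subtype)) := fun p => by
    rw [CommRingCat.ofHom_comp, Spec.map_comp, pt, GroupoidScheme.toQuot, Category.assoc]
    simp [Scheme.isoSpec]
  have htop : G.t ≫ G.toQuot = G.s ≫ G.toQuot := by
    have h1 := hq (RingHom.id Γ(G.U, ⊤))
    rw [pt_id] at h1
    rw [← cancel_epi G.R.isoSpec.inv]
    have h2 : G.R.isoSpec.inv ≫ G.t = pt G.t.appTop.hom := by rw [← pt_id, pt_comp]; rfl
    have h3 : G.R.isoSpec.inv ≫ G.s = pt G.s.appTop.hom := by rw [← pt_id, pt_comp]; rfl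
    rw [← Category.assoc, ← Category.assoc, h2, h3, hq, hq]
    exact congrArg (fun x => Spec.map (CommRingCat.ofHom x)) (RingHom.ext fun c => c.2.symm)
  have hsurj : ∀ (k : Type u) [Field k] [IsAlgClosed k]
      (m : Spec (CommRingCat.of k) ⟶ Spec (CommRingCat.of G.invariants)),
      ∃ x : Spec (CommRingCat.of k) ⟶ G.U, x ≫ G.toQuot = m := by
    intro k _ _ m
    obtain ⟨x, hx⟩ := exists_point hinj (Spec.preimage m).hom
    refine ⟨pt x, ?_⟩
    rw [hq]
    conv_rhs => rw [← Spec.map_preimage m]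
    congr 1
    exact CommRingCat.hom_ext (RingHom.ext fun c => hx c)
  have hfib : ∀ (k : Type u) [Field k] [IsAlgClosed k] (x₀ x₁ : Spec (CommRingCat.of k) ⟶ G.U),
      x₀ ≫ G.toQuot = x₁ ≫ G.toQuot ↔
        ∃ r : Spec (CommRingCat.of k) ⟶ G.R, r ≫ G.t = x₀ ∧ r ≫ G.s = x₁ := by
    intro k _ _ x₀ x₁
    constructor
    · intro h
      rw [← pt_ev x₀, ← pt_ev x₁, hq, hq, Spec.map_injective.eq_iff] at h
      obtain ⟨r, hr₀, hr₁⟩ := (grOfScheme G).exists_arrow hC hinv (ev x₀) (ev x₁)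
        fun c => RingHom.congr_fun (congrArg CommRingCat.Hom.hom h) c
      refine ⟨pt r, ?_, ?_⟩
      · rw [pt_comp, show r.comp G.t.appTop.hom = ev x₀ from RingHom.ext hr₀, pt_ev]
      · rw [pt_comp, show r.comp G.s.appTop.hom = ev x₁ from RingHom.ext hr₁, pt_ev]
    · rintro ⟨r, rfl, rfl⟩
      rw [Category.assoc, Category.assoc, htop]
  refine ⟨⟨?_, fun u₀ u₁ => ⟨fun h => ?_, ?_⟩⟩, fun k _ _ => ⟨hsurj k, hfib k⟩⟩
  · intro y
    obtain ⟨K, _, _, z, m, hm⟩ := exists_geom_point y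
    obtain ⟨x, hx⟩ := hsurj K m
    exact ⟨x z, by rw [← Scheme.Hom.comp_apply, hx, hm]⟩
  · obtain ⟨K, _, _, z, x₀, x₁, h₀, h₁, he⟩ : ∃ (K : Type u) (_ : Field K) (_ : IsAlgClosed K)
        (z : Spec (CommRingCat.of K)) (x₀ x₁ : Spec (CommRingCat.of K) ⟶ G.U),
        x₀ z = u₀ ∧ x₁ z = u₁ ∧ x₀ ≫ G.toQuot = x₁ ≫ G.toQuot := by
      obtain ⟨p, hp₀, hp₁⟩ := Scheme.Pullback.exists_preimage_pullback
        (f := G.toQuot) (g := G.toQuot) u₀ u₁ h
      obtain ⟨K, _, _, z, w, hw⟩ := exists_geom_point p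
      refine ⟨K, inferInstance, inferInstance, z,
        w ≫ pullback.fst _ _, w ≫ pullback.snd _ _, ?_, ?_, ?_⟩
      · rw [Scheme.Hom.comp_apply, hw, hp₀]
      · rw [Scheme.Hom.comp_apply, hw, hp₁]
      · rw [Category.assoc, Category.assoc, pullback.condition]
    obtain ⟨r, hr₀, hr₁⟩ := (hfib K x₀ x₁).1 he
    refine ⟨r z, ?_, ?_⟩
    · rw [← Scheme.Hom.comp_apply, hr₀, h₀]
    · rw [← Scheme.Hom.comp_apply, hr₁, h₁]
  · rintro ⟨r, rfl, rfl⟩
    rw [← Scheme.Hom.comp_apply, htop, Scheme.Hom.comp_apply]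

end Groth.Agent.S1878
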