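import Groth.Statements.S18784
import Groth.Agent.DualGeneric.UnitEnd
import Groth.Agent.DCohShriek.DualModuleField
-- import your own Groth.Agent.* helpers here

set_option autoImplicit false
set_option backward.isDefEq.respectTransparency false
set_option backward.isDefEq.respectTransparency.types false
set_option maxHeartbeats 1000000
universe u
open CategoryTheory CategoryTheory.Limits AlgebraicGeometry
attribute [local instance] HasDerivedCategory.standard
open Curves

namespace Groth.Agent.S18784

/-- Let k be a perfect field and X a proper scheme over k of dimension one which is geometrically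
connected and geometrically reduced over k, Gorenstein with trivial dualizing sheaf: its dualizing
module ω_X (the degree −1 cohomology sheaf of f^! O for the structure morphism f, assuming Rf_* on
D_QCoh and its right adjoint exist) is isomorphic to O_X. Let D be an effective Cartier divisor on X
of positive degree, given here as an invertible module L = O_X(D) with a monomorphism s : O_X → L
and deg L = χ(L) − χ(O_X) > 0. Then H^1(X, O_X(D)) = 0. (The first assertion of the lemma, H^0(X,
O_X) = k, is not restated.) -/
theorem result (k : Type u) [Field k] [PerfectField k]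
    (X : Scheme.{u}) [X.Over (Spec (CommRingCat.of k))] [IsProper (X ↘ Spec (CommRingCat.of k))]
    [GeometricallyConnected (X ↘ Spec (CommRingCat.of k))] [GeometricallyReduced (X ↘ Spec (CommRingCat.of k))]
    (hdim : topologicalKrullDim ↥X = 1)
    [DCoh.HasRpush (X ↘ Spec (CommRingCat.of k))] (h : DCoh.RpushPreservesQCoh (X ↘ Spec (CommRingCat.of k))) [DCoh.HasShriek (X ↘ Spec (CommRingCat.of k)) h]
    (OY : DCoh.DQCoh (Spec (CommRingCat.of k))) (hOY : Nonempty (OY.obj ≅ DCoh.inD (Spec (CommRingCat.of k)) (Coh.structureModule (Spec (CommRingCat.of k)))))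
    (hω : Nonempty (DCoh.dualizingMod (X ↘ Spec (CommRingCat.of k)) h OY 1 ≅ Coh.structureModule X))
    (L : X.Modules) (hL : PicF.IsInvertible L) (s : Coh.structureModule X ⟶ L) [Mono s]
    (hdeg : 0 < Curv2.deg k X L 1) :
    Subsingleton (Coh.HH X L 1) := by
  obtain ⟨eO⟩ := hOY
  obtain ⟨eω⟩ := hω
  haveI : Subsingleton ↥(Spec (CommRingCat.of k)) := inferInstanceAs (Subsingleton (PrimeSpectrum k))
  haveI : ConnectedSpace X := GeometricallyConnected.connectedSpace_of_subsingleton (f := X ↘ Spec (CommRingCat.of k))
  haveI : AlgebraicGeometry.IsReduced X :=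
    GeometricallyReduced.isReduced_of_flat_of_isLocallyNoetherian (X ↘ Spec (CommRingCat.of k))
  have hs : ¬ IsIso s := fun _ => by
    rw [Curv2.deg, ← CurveRR.euler_eq_of_iso (asIso s)] at hdeg
    simp at hdeg
  have hz := DualGeneric.hom_to_unit_eq_zero (DualGeneric.isField_gamma k) hL s hs
  obtain ⟨t, -, ht⟩ := DCohShriek.exists_isRDual k (DCoh.shriekAdj (X ↘ Spec (CommRingCat.of k)) h) OY eO 1 hdim.le
  haveI hsub : Subsingleton (L ⟶ DCoh.dualizingMod (X ↘ Spec (CommRingCat.of k)) h OY 1) :=
    subsingleton_of_forall_eq 0 fun φ => (cancel_mono eω.hom).1 ((hz _).trans zero_comp.symm)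
  haveI : Subsingleton (Module.Dual k (Coh.HH X L 1)) :=
    (Equiv.ofBijective _ (ht L (TMul.isQCoh_of_isInvertible hL))).symm.subsingleton
  haveI : Module.Free k (Coh.HH X L 1) := Module.Free.of_divisionRing k _
  haveI : Module.Projective k (Coh.HH X L 1) := Module.Projective.of_free
  refine subsingleton_of_forall_eq 0 fun x => (Module.forall_dual_apply_eq_zero_iff k x).1 fun φ => ?_
  rw [Subsingleton.elim φ 0, LinearMap.zero_apply]

end Groth.Agent.S18784
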