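import Groth.Statements.S18789
import Mathlib

set_option autoImplicit false
universe u v w x
open TorusGr

namespace Groth.Agent.S18789

open DirectSum in
/-- Let `A` be a commutative algebra over a field `k`, graded by an additive commutative group `M` (for
`M` the character group of a split torus `T` this is a `T`-action on `Spec A`, and an `M`-graded
`A`-module is a `T`-equivariant quasi-coherent sheaf), let `P` be a finitely generated projective
`A`-module with a compatible `M`-grading (a locally free `T`-sheaf of finite rank), and let `m` be a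
homogeneous maximal ideal with residue field `k` (a `T`-fixed rational point). If homogeneous
elements `f i` of `P` reduce to a basis of `P/mP`, then there is a homogeneous `s ∉ m` such that
after inverting `s` the `f i` generate `P` and every relation among them is killed by a power of
`s`: on the invariant open `D(s)` the module is free on the homogeneous sections `f i`, with the
weights of the fibre `P/mP`. (The published statement has `M ≅ ℤ^r`, a split torus; here `M` is any
additive commutative group, i.e. any diagonalizable group.) -/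
theorem result
    {k : Type u} [Field k] {M : Type v} [AddCommGroup M] [DecidableEq M]
    {A : Type w} [CommRing A] [Algebra k A] (𝒜 : M → Submodule k A) [GradedAlgebra 𝒜]
    {P : Type x} [AddCommGroup P] [Module A P] [Module k P] [IsScalarTower k A P]
    (ℳ : M → Submodule k P) [Decomposition ℳ] [SetLike.GradedSMul 𝒜 ℳ]
    [Module.Finite A P] [Module.Projective A P]
    (m : Ideal A) [m.IsMaximal] (hm : m.IsHomogeneous 𝒜)
    (hrat : Function.Surjective (algebraMap k (A ⧸ m)))
    {n : ℕ} (wt : Fin n → M) (f : Fin n → P) (hf : ∀ i, f i ∈ ℳ (wt i))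
    (hli : LinearIndependent (A ⧸ m)
      (fun i => (Submodule.Quotient.mk (f i) : P ⧸ (m • (⊤ : Submodule A P)))))
    (hsp : Submodule.span A (Set.range f) ⊔ m • (⊤ : Submodule A P) = ⊤) :
    ∃ s : A, SetLike.IsHomogeneousElem 𝒜 s ∧ s ∉ m ∧
      (∀ p : P, ∃ (N : ℕ) (c : Fin n → A), s ^ N • p = ∑ i, c i • f i) ∧
      (∀ c : Fin n → A, ∑ i, c i • f i = 0 → ∃ N : ℕ, ∀ i, s ^ N * c i = 0) := by
  classical
  -- the component of `a • q` for homogeneous `q`
  have hcomp : ∀ (a : A) (e d : M) (q : P), q ∈ ℳ e →
      (decompose ℳ (a • q) (d + e) : P) = (decompose 𝒜 a d : A) • q := by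
    intro a e d q hq
    induction a using DirectSum.Decomposition.inductionOn 𝒜 with
    | zero => simp
    | @homogeneous d' a =>
      have hmem : (a : A) • q ∈ ℳ (d' + e) := SetLike.GradedSMul.smul_mem a.2 hq
      by_cases h : d' = d
      · subst h
        rw [decompose_of_mem_same ℳ hmem, decompose_of_mem_same 𝒜 a.2]
      · rw [decompose_of_mem_ne ℳ hmem (fun he => h (add_right_cancel he)),
          decompose_of_mem_ne 𝒜 a.2 h, zero_smul]
    | add a b ha hb =>
      simp only [add_smul, decompose_add, DirectSum.add_apply, Submodule.coe_add, ha, hb]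
  have hcompsum : ∀ (c : Fin n → A) (e : M),
      (decompose ℳ (∑ i, c i • f i) e : P) = ∑ i, (decompose 𝒜 (c i) (e - wt i) : A) • f i := by
    intro c e
    rw [decompose_sum, DFinsupp.finsetSum_apply, Submodule.coe_sum]
    refine Finset.sum_congr rfl fun i _ => ?_
    rw [← hcomp (c i) (wt i) (e - wt i) (f i) (hf i), sub_add_cancel]
  -- a homogeneous component outside `m`
  have hout : ∀ r : A, r ∉ m → ∃ d, (decompose 𝒜 r d : A) ∉ m := fun r hr => by
    by_contra h
    push Not at h
    exact hr (by rw [← sum_support_decompose 𝒜 r]; exact sum_mem fun d _ => h d)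
  have hmp : m.IsPrime := Ideal.IsMaximal.isPrime ‹_›
  let N : Submodule A P := Submodule.span A (Set.range f)
  have hN : ∀ q, q ∈ N ↔ ∃ c : Fin n → A, q = ∑ i, c i • f i := fun q => by
    rw [Submodule.mem_span_range_iff_exists_fun]
    simp only [eq_comm]
  -- Nakayama
  obtain ⟨r, hr, hrN⟩ : ∃ r ∉ m, ∀ p : P, r • p ∈ N := by
    have htop : (⊤ : Submodule A (P ⧸ N)) ≤ m • ⊤ := by
      intro x _
      obtain ⟨p, rfl⟩ := Submodule.mkQ_surjective N x
      obtain ⟨a, ha, b, hb, rfl⟩ := Submodule.mem_sup.1 (hsp.ge (Submodule.mem_top (x := p)))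
      rw [map_add, show N.mkQ a = 0 from (Submodule.Quotient.mk_eq_zero N).2 ha, zero_add]
      have hb' := Submodule.mem_map_of_mem (f := N.mkQ) hb
      rw [Submodule.map_smul''] at hb'
      exact Submodule.smul_mono le_rfl le_top hb'
    obtain ⟨r, hr1, hr⟩ := Submodule.exists_sub_one_mem_and_smul_eq_zero_of_fg_of_le_smul m
      (⊤ : Submodule A (P ⧸ N)) Module.Finite.fg_top htop
    refine ⟨r, fun h => hmp.ne_top ((Ideal.eq_top_iff_one m).2 ?_), fun p => ?_⟩
    · simpa using m.sub_mem h hr1
    · rw [← Submodule.Quotient.mk_eq_zero, Submodule.Quotient.mk_smul]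
      exact hr _ trivial
  obtain ⟨d1, hd1⟩ := hout r hr
  set s1 : A := (decompose 𝒜 r d1 : A) with hs1
  have hs1N : ∀ p : P, s1 • p ∈ N := fun p => by
    induction p using DirectSum.Decomposition.inductionOn ℳ with
    | zero => simp
    | @homogeneous e q =>
      obtain ⟨c, hc⟩ := (hN _).1 (hrN q)
      refine (hN _).2 ⟨fun i => (decompose 𝒜 (c i) (d1 + e - wt i) : A), ?_⟩
      rw [← hcompsum, ← hc, hcomp r e d1 q q.2]
    | add a b ha hb => rw [smul_add]; exact N.add_mem ha hb
  -- a section up to `s1`
  let φ : (Fin n → A) →ₗ[A] P := Fintype.linearCombination A f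
  have hφ : ∀ c, φ c = ∑ i, c i • f i := fun c => Fintype.linearCombination_apply A f c
  obtain ⟨g, hg⟩ := Module.projective_lifting_property φ.rangeRestrict
    (LinearMap.codRestrict (LinearMap.range φ) (s1 • LinearMap.id : P →ₗ[A] P) (fun p => by
      obtain ⟨c, hc⟩ := (hN _).1 (hs1N p)
      exact ⟨c, by rw [hφ, ← hc]; rfl⟩)) φ.surjective_rangeRestrict
  have hg' : ∀ p, φ (g p) = s1 • p := fun p => congrArg Subtype.val (LinearMap.congr_fun hg p)
  have hrelm : ∀ c : Fin n → A, φ c = 0 → ∀ i, c i ∈ m := by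
    intro c hc i
    have h0 : ∑ j, (Ideal.Quotient.mk m (c j)) •
        (Submodule.Quotient.mk (f j) : P ⧸ (m • (⊤ : Submodule A P))) = 0 := by
      have := congrArg (Submodule.mkQ (m • (⊤ : Submodule A P))) hc
      rw [hφ, map_sum, map_zero] at this
      rw [← this]
      exact Finset.sum_congr rfl fun j _ => rfl
    exact Ideal.Quotient.eq_zero_iff_mem.1 (Fintype.linearIndependent_iff.1 hli _ h0 i)
  let G : Matrix (Fin n) (Fin n) A := LinearMap.toMatrix' (g ∘ₗ φ)
  have hG : ∀ i j, G i j - (if i = j then s1 else 0) ∈ m := by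
    intro i j
    have := hrelm (g (φ (Pi.single j 1)) - Pi.single j s1) (by
      rw [map_sub, hg', ← map_smul, ← Pi.single_smul', smul_eq_mul, mul_one, sub_self]) i
    rw [Pi.sub_apply, Pi.single_apply] at this
    have hGij : G i j = g (φ (Pi.single j 1)) i := LinearMap.toMatrix'_apply (g ∘ₗ φ) i j
    rwa [hGij]
  have hdet : G.det ∉ m := by
    intro h
    rw [← Ideal.Quotient.eq_zero_iff_mem, RingHom.map_det] at h
    have hmap : (Ideal.Quotient.mk m).mapMatrix G =
        Matrix.scalar (Fin n) (Ideal.Quotient.mk m s1) := by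
      ext i j
      have := Ideal.Quotient.eq.2 (hG i j)
      rw [RingHom.mapMatrix_apply, Matrix.map_apply, this, Matrix.scalar_apply, Matrix.diagonal_apply]
      split_ifs <;> simp
    rw [hmap, Matrix.scalar_apply, Matrix.det_diagonal, Finset.prod_const] at h
    exact hd1 (Ideal.Quotient.eq_zero_iff_mem.1 (eq_zero_of_pow_eq_zero h))
  have hkill : ∀ c, φ c = 0 → ∀ i, G.det * c i = 0 := by
    intro c hc i
    have h1 : G.mulVec c = 0 := by
      show Matrix.mulVec (LinearMap.toMatrix' (g ∘ₗ φ)) c = 0
      rw [LinearMap.toMatrix'_mulVec, LinearMap.comp_apply, hc, map_zero]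
    have h2 := congrArg (fun v => G.adjugate.mulVec v i) h1
    simpa [Matrix.mulVec_mulVec, Matrix.adjugate_mul, Matrix.smul_mulVec] using h2
  obtain ⟨d2, hd2⟩ := hout G.det hdet
  set s2 : A := (decompose 𝒜 G.det d2 : A) with hs2
  have hkill2 : ∀ c, φ c = 0 → ∀ i, s2 * c i = 0 := by
    intro c hc i
    rw [← sum_support_decompose 𝒜 (c i), Finset.mul_sum]
    refine Finset.sum_eq_zero fun a _ => ?_
    have hker : φ (fun j => (decompose 𝒜 (c j) (a + wt i - wt j) : A)) = 0 := by
      rw [hφ, ← hcompsum, ← hφ, hc]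
      simp
    have h1 := hkill _ hker i
    rw [add_sub_cancel_right] at h1
    rw [hs2, ← coe_decompose_mul_add_of_right_mem 𝒜 (i := d2)
      (decompose 𝒜 (c i) a).2, h1]
    simp
  refine ⟨s1 * s2, ⟨d1 + d2, SetLike.GradedMul.mul_mem (decompose 𝒜 r d1).2
    (decompose 𝒜 G.det d2).2⟩, fun h => (hmp.mem_or_mem h).elim hd1 hd2, fun p => ?_, fun c hc => ?_⟩
  · obtain ⟨c, hc⟩ := (hN _).1 (hs1N (s2 • p))
    exact ⟨1, c, by rw [pow_one, mul_smul, hc]⟩
  · exact ⟨1, fun i => by rw [pow_one, mul_assoc, hkill2 c (by rw [hφ]; exact hc) i, mul_zero]⟩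

end Groth.Agent.S18789
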