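import Groth.Statements.S18790
import Mathlib

set_option autoImplicit false
universe u v w
open TorusGr

namespace Groth.Agent.S18790

/-- Let `A` be a commutative algebra over a field `k`, graded by an additive commutative group `M` (for
`M` the character group of a split torus `T`, a `T`-action on `Spec A`), let `J` be the ideal
generated by the homogeneous elements of non-zero degree (its zero locus is the fixed-point
subscheme) and let `m ⊇ J` be a maximal ideal with residue field `k` (a fixed rational point) at
which the fixed-point subscheme is the reduced point: `J` and `m` agree after localizing at `m`.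
Then the cotangent space `m/m²` has no part of weight zero: every degree-zero element of `m` lies in
`m²`. (The published statement has `M ≅ ℤ^r`, a split torus, and phrases the conclusion as the
non-vanishing of the weights of a semi-invariant basis of `m/m²`; here `M` is any additive
commutative group, i.e. any diagonalizable group.) -/
theorem result
    {k : Type u} [Field k] {M : Type v} [AddCommGroup M] [DecidableEq M]
    {A : Type w} [CommRing A] [Algebra k A] (𝒜 : M → Submodule k A) [GradedAlgebra 𝒜]
    (m : Ideal A) [m.IsMaximal] (hrat : Function.Surjective (algebraMap k (A ⧸ m)))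
    (hfix : ∀ i : M, i ≠ 0 → ∀ a ∈ 𝒜 i, a ∈ m)
    (hred : ∀ a ∈ m, ∃ s ∉ m, s * a ∈ Ideal.span {b : A | ∃ i : M, i ≠ 0 ∧ b ∈ 𝒜 i})
    {f : A} (hf0 : f ∈ 𝒜 0) (hfm : f ∈ m) : f ∈ m ^ 2 := by
  classical
  have hp_same : ∀ {x : A}, x ∈ 𝒜 0 → GradedRing.proj 𝒜 0 x = x := fun {x} hx => by
    rw [GradedRing.proj_apply, DirectSum.decompose_of_mem_same 𝒜 hx]
  have hp_ne : ∀ {x : A} {j : M}, x ∈ 𝒜 j → j ≠ 0 → GradedRing.proj 𝒜 0 x = 0 := fun {x j} hx hj => by
    rw [GradedRing.proj_apply, DirectSum.decompose_of_mem_ne 𝒜 hx hj]
  have hsub : ∀ s : A, s - GradedRing.proj 𝒜 0 s ∈ m := fun s => by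
    induction s using DirectSum.Decomposition.inductionOn 𝒜 with
    | zero => simp
    | @homogeneous j a =>
      by_cases hj : j = 0
      · subst hj; rw [hp_same a.2, sub_self]; exact zero_mem _
      · rw [hp_ne a.2 hj, sub_zero]; exact hfix j hj _ a.2
    | add a b ha hb => rw [map_add, add_sub_add_comm]; exact add_mem ha hb
  have hmul : ∀ s : A, GradedRing.proj 𝒜 0 (s * f) = GradedRing.proj 𝒜 0 s * f := fun s => by
    induction s using DirectSum.Decomposition.inductionOn 𝒜 with
    | zero => simp
    | @homogeneous j a =>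
      have haf : (a : A) * f ∈ 𝒜 (j + 0) := SetLike.mul_mem_graded a.2 hf0
      rw [add_zero] at haf
      by_cases hj : j = 0
      · subst hj; rw [hp_same a.2, hp_same haf]
      · rw [hp_ne a.2 hj, hp_ne haf hj, zero_mul]
    | add a b ha hb => rw [add_mul, map_add, map_add, ha, hb, add_mul]
  have hJ : ∀ x ∈ Ideal.span {b : A | ∃ i : M, i ≠ 0 ∧ b ∈ 𝒜 i}, ∀ a : A, GradedRing.proj 𝒜 0 (a * x) ∈ m ^ 2 := by
    intro x hx
    induction hx using Submodule.span_induction with
    | mem b hb =>
      obtain ⟨i, hi, hb⟩ := hb
      intro a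
      induction a using DirectSum.Decomposition.inductionOn 𝒜 with
      | zero => simp
      | @homogeneous j a =>
        have hab : (a : A) * b ∈ 𝒜 (j + i) := SetLike.mul_mem_graded a.2 hb
        by_cases hji : j + i = 0
        · rw [hp_same (hji ▸ hab), pow_two]
          exact Ideal.mul_mem_mul (hfix j (fun h0 => hi (by simpa [h0] using hji)) _ a.2) (hfix i hi b hb)
        · rw [hp_ne hab hji]; exact zero_mem _
      | add a c ha hc => rw [add_mul, map_add]; exact add_mem ha hc
    | zero => simp
    | add y z _ _ hy hz => intro a; rw [mul_add, map_add]; exact add_mem (hy a) (hz a)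
    | smul r y _ hy => intro a; rw [smul_eq_mul, ← mul_assoc]; exact hy _
  obtain ⟨s, hs, hsf⟩ := hred f hfm
  have h1 : GradedRing.proj 𝒜 0 s * f ∈ m ^ 2 := by
    have := hJ _ hsf 1
    rwa [one_mul, hmul] at this
  obtain ⟨y, z, hz, hyz⟩ := (inferInstance : m.IsMaximal).exists_inv
    (show GradedRing.proj 𝒜 0 s ∉ m from fun h0 => hs (by simpa using add_mem (hsub s) h0))
  rw [show f = y * (GradedRing.proj 𝒜 0 s * f) + z * f by linear_combination -f * hyz]
  exact add_mem ((m ^ 2).mul_mem_left _ h1) (pow_two m ▸ Ideal.mul_mem_mul hz hfm)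

end Groth.Agent.S18790
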