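import Groth.Statements.S18791
import Mathlib.LinearAlgebra.Matrix.NonsingularInverse
import Mathlib.RingTheory.Localization.AtPrime.Basic
import Mathlib.RingTheory.LocalRing.ResidueField.Basic
import Mathlib.RingTheory.GradedAlgebra.Basic

set_option autoImplicit false
universe u v w x
open TorusGr

namespace Groth.Agent.S18791

/-- Let `φ : B → A` be a degree-preserving homomorphism of commutative algebras over a field `k` graded
by an additive commutative group `M` (for `M` the character group of a split torus, an equivariant
morphism `Spec A → Spec B`), and let `m` be a maximal ideal of `A` containing all homogeneous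
elements of non-zero degree (a fixed point). Then the ideal of those `b` whose image is zero in the
local ring `A_m` is homogeneous: the homogeneous (weight) components of such a `b` again die in
`A_m`. Since `A_m` embeds in its completion when `A` is Noetherian, these are the elements of `B`
that die in the completed local ring. (The published lemma asserts moreover that, for `B = k[Y_1, …,
Y_d]` mapping the `Y_i` to semi-invariant lifts of a basis of `m/m²`, the kernel of the induced
surjection of completions `k[[Y]] → Â_m` is generated by semi-invariant polynomials; generation of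
that kernel by polynomials can fail, so only the statement about polynomial elements of the kernel
is recorded here. The published statement has `M ≅ ℤ^r` (a split torus) and `B` the polynomial ring
on the lifts; here `M` is any additive commutative group and `B` any `M`-graded `k`-algebra.) -/
theorem result
    {k : Type u} [Field k] {M : Type v} [AddCommGroup M] [DecidableEq M]
    {A : Type w} [CommRing A] [Algebra k A] (𝒜 : M → Submodule k A) [GradedAlgebra 𝒜]
    {B : Type x} [CommRing B] [Algebra k B] (ℬ : M → Submodule k B) [GradedAlgebra ℬ]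
    (φ : B →ₐ[k] A) (hφ : ∀ i : M, ∀ b ∈ ℬ i, φ b ∈ 𝒜 i)
    (m : Ideal A) [m.IsMaximal] (hfix : ∀ i : M, i ≠ 0 → ∀ a ∈ 𝒜 i, a ∈ m) :
    (RingHom.ker ((algebraMap A (Localization.AtPrime m)).comp (φ : B →+* A))).IsHomogeneous ℬ := by
  classical
  intro i₀ b hb
  rw [RingHom.mem_ker, RingHom.comp_apply, IsLocalization.map_eq_zero_iff m.primeCompl] at hb
  obtain ⟨⟨s, hs⟩, hsb⟩ := hb
  change s * φ b = 0 at hsb
  let S := (DirectSum.decompose ℬ b).support
  let x : M → A := fun j => φ (DirectSum.decompose ℬ b j : B)
  let f := algebraMap A (Localization.AtPrime m)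
  by_cases hi₀ : i₀ ∈ S
  swap
  · rw [DFinsupp.notMem_support_iff] at hi₀
    rw [hi₀]
    simp
  let Mx : Matrix S S (Localization.AtPrime m) :=
    Matrix.of fun i j => f ((DirectSum.decompose 𝒜 s (i.1 - j.1) : A))
  have hMv : Matrix.mulVec Mx (fun j => f (x j.1)) = 0 := by
    funext i
    show ∑ j : S, f ((DirectSum.decompose 𝒜 s (i.1 - j.1) : A)) * f (x j.1) = 0
    simp only [← map_mul]
    rw [← map_sum]
    have hzero : ∑ j : S, (DirectSum.decompose 𝒜 s (i.1 - j.1) : A) * x j.1 = 0 := by
      have e1 : ∀ j : S, (DirectSum.decompose 𝒜 s (i.1 - j.1) : A) * x j.1 =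
          (DirectSum.decompose 𝒜 (s * x j.1) i.1 : A) := fun j => by
        rw [← DirectSum.coe_decompose_mul_add_of_right_mem 𝒜 (hφ j.1 _ (SetLike.coe_mem _)),
          sub_add_cancel]
      simp only [e1]
      rw [← AddSubmonoidClass.coe_finsetSum, ← DFinsupp.finset_sum_apply, ← DirectSum.decompose_sum,
        ← Finset.mul_sum, Finset.sum_coe_sort S (fun j => x j)]
      have hb' : ∑ j ∈ S, x j = φ b := by
        rw [← map_sum, DirectSum.sum_support_decompose]
      rw [hb', hsb]
      simp
    rw [hzero, map_zero]
  have hs0 : (DirectSum.decompose 𝒜 s 0 : A) ∉ m := by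
    intro h0
    refine hs ?_
    rw [← DirectSum.sum_support_decompose 𝒜 s]
    refine Ideal.sum_mem _ fun j _ => ?_
    by_cases hj : j = 0
    · subst hj; exact h0
    · exact hfix j hj _ (SetLike.coe_mem _)
  have hdet : IsUnit Mx.det := by
    rw [← IsLocalRing.residue_ne_zero_iff_isUnit, RingHom.map_det,
      show (IsLocalRing.residue (Localization.AtPrime m)).mapMatrix Mx =
        Matrix.diagonal fun _ : S =>
          IsLocalRing.residue (Localization.AtPrime m) (f (DirectSum.decompose 𝒜 s 0 : A)) from ?_,
      Matrix.det_diagonal, Finset.prod_ne_zero_iff]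
    · intro j _
      rw [IsLocalRing.residue_ne_zero_iff_isUnit, IsLocalization.AtPrime.isUnit_to_map_iff _ m]
      exact hs0
    · ext i j
      rw [RingHom.mapMatrix_apply, Matrix.map_apply]
      by_cases hij : i = j
      · subst hij
        rw [Matrix.diagonal_apply_eq, show Mx i i = f (DirectSum.decompose 𝒜 s (i.1 - i.1) : A) from rfl, sub_self]
      · rw [Matrix.diagonal_apply_ne _ hij, show Mx i j = f (DirectSum.decompose 𝒜 s (i.1 - j.1) : A) from rfl, IsLocalRing.residue_eq_zero_iff,
          IsLocalization.AtPrime.to_map_mem_maximal_iff _ m]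
        exact hfix _ (sub_ne_zero.mpr fun h => hij (Subtype.ext h)) _ (SetLike.coe_mem _)
  have hv : (fun j : S => f (x j.1)) = 0 := by
    refine Matrix.mulVec_injective_of_isUnit ((Matrix.isUnit_iff_isUnit_det _).mpr hdet) ?_
    rw [hMv, Matrix.mulVec_zero]
  exact congrFun hv ⟨i₀, hi₀⟩

end Groth.Agent.S18791
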