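import Groth.Statements.S1880
import Groth.Agent.Grpd.Scheme
import Groth.Agent.Grpd.Norm
import Mathlib.RingTheory.Norm.Defs

set_option autoImplicit false
universe u
open CategoryTheory CategoryTheory.Limits AlgebraicGeometry
open Grpd

namespace Groth.Agent.S1880

open Groth.Agent.GrpdLib

/-- Let (U, R, s, t, c) be a groupoid scheme with U, R affine and s, t finite locally free. For f ∈
Γ(U), the norm along s♯ of t♯(f) is an R-invariant function. (Mathlib's norm is the determinant when
Γ(R) is free over Γ(U) via s♯ and 1 otherwise; the content is the free case, e.g. after localizing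
U.) (A groupoid scheme carries U, R, s, t, c, e, i over S with the groupoid axioms on T-points;
'finite locally free' is finite, flat and locally of finite presentation; C ⊂ Γ(U) is the ring of
functions a with s♯(a) = t♯(a) and M = Spec C.) -/
theorem result (S : Scheme.{u}) (G : Grpd.GroupoidScheme S) [IsAffine G.U] [IsAffine G.R] [IsFinite G.s] [Flat G.s] [LocallyOfFinitePresentation G.s] [IsFinite G.t] [Flat G.t] [LocallyOfFinitePresentation G.t] (f : Γ(G.U, ⊤)) : G.normST f ∈ G.invariants := by
  letI := G.s.appTop.hom.toAlgebra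
  have hmem : ∀ a, (grOfScheme G).t a = algebraMap Γ(G.U, ⊤) Γ(G.R, ⊤) a → a ∈ G.invariants :=
    fun a h => h.symm
  unfold GroupoidScheme.normST
  by_cases h : ∃ s : Finset Γ(G.R, ⊤), Nonempty (Module.Basis s Γ(G.U, ⊤) Γ(G.R, ⊤))
  · obtain ⟨s, ⟨b₀⟩⟩ := h
    let b := b₀.reindex (Fintype.equivFin s)
    let F : Frame Γ(G.U, ⊤) Γ(G.R, ⊤) (Fin (Fintype.card s)) :=
      ⟨fun i => b i, b.equivFun.toLinearMap, fun d => b.sum_equivFun d⟩
    refine hmem _ ?_
    have hN : Algebra.norm Γ(G.U, ⊤) (G.t.appTop.hom f) = (grOfScheme G).N F f := by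
      have hM : ∀ x, F.M x = Algebra.leftMulMatrix b x := fun x => by
        ext i j
        simp [F, Frame.M_apply, Algebra.leftMulMatrix_eq_repr_mul]
      rw [Algebra.norm_eq_matrix_det b, GR.N, Frame.nrm, hM, hM, map_one, sub_self, zero_add]
      rfl
    rw [hN]
    exact (grOfScheme G).N_invariant F f
  · rw [Algebra.norm_eq_one_of_not_exists_basis _ h]
    exact one_mem _

end Groth.Agent.S1880
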