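import Groth.Statements.S18802
import Mathlib.LinearAlgebra.Basis.VectorSpace
import Mathlib.Algebra.Module.Projective

set_option autoImplicit false
set_option backward.isDefEq.respectTransparency false
set_option backward.isDefEq.respectTransparency.types false
universe u v w w' w''
open DefMod

namespace Groth.Agent.S18802

/-- Let K be a field of characteristic zero, D an associative K-algebra and E, F left D-modules. A
K-linear map s : D → Hom_K(E, F) with s(ab)(e) = a s(b)(e) + s(a)(b e) (a derivation into the
bimodule Hom_K(E, F), i.e. a Hochschild 1-cocycle) defines the twisted sum F ⊕_s E = F × E with a ·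
(f, e) = (a f + s(a) e, a e), an extension of E by F. Every extension of left D-modules 0 → F → Q →
E → 0 arises this way: there are such an s and a D-linear isomorphism Q ≅ F ⊕_s E carrying the given
map F → Q to the inclusion f ↦ (f, 0) and compatible with the two projections onto E. (Together with
the splitting criterion this identifies derivations modulo principal derivations with Ext¹_D(E, F);
the compatibility of that identification with addition and scalars is not restated.) -/
theorem result
    {K : Type u} [Field K] [CharZero K]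
    {D : Type v} [Ring D] [Algebra K D]
    {E : Type w} [AddCommGroup E] [Module K E] [Module D E] [IsScalarTower K D E]
    {F : Type w'} [AddCommGroup F] [Module K F] [Module D F] [IsScalarTower K D F]
    {Q : Type w''} [AddCommGroup Q] [Module D Q]
    (i : F →ₗ[D] Q) (p : Q →ₗ[D] E) (hi : Function.Injective i) (hp : Function.Surjective p)
    (hex : Function.Exact i p) :
    ∃ (s : D →ₗ[K] E →ₗ[K] F) (hs : W4c6defoisocp1.IsHomDerivation s) (Φ : Q ≃ₗ[D] W4c6defoisocp1.TwistExt s hs),
      (∀ f : F, Φ (i f) = W4c6defoisocp1.TwistExt.inl f) ∧ ∀ q : Q, W4c6defoisocp1.TwistExt.snd (Φ q) = p q := by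
  classical
  letI : Module K Q := Module.compHom Q (algebraMap K D)
  haveI : IsScalarTower K D Q := ⟨fun c a q => by rw [Algebra.smul_def, mul_smul]; rfl⟩
  obtain ⟨σ, hσ⟩ := (p.restrictScalars K).exists_rightInverse_of_surjective
    (LinearMap.range_eq_top.2 hp)
  have hσ' : ∀ e, p (σ e) = e := fun e => LinearMap.congr_fun hσ e
  have hg : ∀ (a : D) (e : E), ∃ f, i f = a • σ e - σ (a • e) := fun a e =>
    (hex _).1 (by rw [map_sub, map_smul, hσ', hσ', sub_self])
  choose g hg using hg
  let s : D →ₗ[K] E →ₗ[K] F := LinearMap.mk₂ K g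
    (fun a b e => hi (by simp only [map_add, hg, add_smul]; abel))
    (fun c a e => hi (by rw [LinearMap.map_smul_of_tower, hg, hg]; simp only [smul_assoc, map_smul, smul_sub]))
    (fun a e e' => hi (by simp only [map_add, hg, smul_add]; abel))
    (fun c a e => hi (by
      rw [LinearMap.map_smul_of_tower, hg, hg]
      simp only [map_smul, smul_sub, smul_comm a c]))
  have hsg : ∀ a e, i (s a e) = a • σ e - σ (a • e) := hg
  have hs : W4c6defoisocp1.IsHomDerivation s := fun a b e => hi (by
    rw [map_add, map_smul, hsg, hsg, hsg, smul_sub, mul_smul, mul_smul]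
    abel)
  let Ψ : W4c6defoisocp1.TwistExt s hs →ₗ[D] Q :=
    { toFun := fun x => i (W4c6defoisocp1.TwistExt.val x).1 + σ (W4c6defoisocp1.TwistExt.val x).2
      map_add' := fun x y => by simp only [W4c6defoisocp1.TwistExt.val_add, Prod.fst_add, Prod.snd_add, map_add]; abel
      map_smul' := fun a x => by
        simp only [W4c6defoisocp1.TwistExt.val_smul, map_add, map_smul, hsg, RingHom.id_apply, smul_add]
        abel }
  have hΨ : Function.Bijective Ψ := by
    constructor
    · intro x y h
      have h2 : (W4c6defoisocp1.TwistExt.val x).2 = (W4c6defoisocp1.TwistExt.val y).2 := by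
        simpa [Ψ, hσ', hex.apply_apply_eq_zero] using congrArg p h
      refine W4c6defoisocp1.TwistExt.ext (hi ?_) h2
      have h' : i (W4c6defoisocp1.TwistExt.val x).1 + σ (W4c6defoisocp1.TwistExt.val x).2 =
          i (W4c6defoisocp1.TwistExt.val y).1 + σ (W4c6defoisocp1.TwistExt.val y).2 := h
      rwa [h2, add_left_inj] at h'
    · intro q
      obtain ⟨f, hf⟩ := (hex (q - σ (p q))).1 (by rw [map_sub, hσ', sub_self])
      exact ⟨W4c6defoisocp1.TwistExt.mk (f, p q), by simp [Ψ, hf]⟩
  refine ⟨s, hs, (LinearEquiv.ofBijective Ψ hΨ).symm, fun f => ?_, fun q => ?_⟩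
  · rw [LinearEquiv.symm_apply_eq, LinearEquiv.ofBijective_apply]
    simp [Ψ]
  · have h' : i (W4c6defoisocp1.TwistExt.val ((LinearEquiv.ofBijective Ψ hΨ).symm q)).1 +
        σ (W4c6defoisocp1.TwistExt.val ((LinearEquiv.ofBijective Ψ hΨ).symm q)).2 = q :=
      (LinearEquiv.ofBijective Ψ hΨ).apply_symm_apply q
    have h'' := congrArg p h'
    rw [map_add, hex.apply_apply_eq_zero, hσ', zero_add] at h''
    exact h''

end Groth.Agent.S18802
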