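import Groth.Statements.S18803
import Mathlib.LinearAlgebra.Basis.VectorSpace

set_option autoImplicit false
set_option backward.isDefEq.respectTransparency false
set_option backward.isDefEq.respectTransparency.types false
universe u v w w'
open DefMod

namespace Groth.Agent.S18803

/-- Let K be a field of characteristic zero, D an associative K-algebra, E and F left D-modules, and s :
D → Hom_K(E, F) a K-linear map with s(ab)(e) = a s(b)(e) + s(a)(b e). The twisted sum F ⊕_s E (that
is F × E with a · (f, e) = (a f + s(a) e, a e)) is a trivial extension of E by F — there is a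
D-linear isomorphism F ⊕_s E ≅ F × E with the direct-sum module structure, carrying the inclusion f
↦ (f, 0) to itself and compatible with the second projections — if and only if s is principal:
s(a)(e) = a σ(e) − σ(a e) for some K-linear σ : E → F (a Hochschild 1-coboundary). -/
theorem result
    {K : Type u} [Field K] [CharZero K]
    {D : Type v} [Ring D] [Algebra K D]
    {E : Type w} [AddCommGroup E] [Module K E] [Module D E] [IsScalarTower K D E]
    {F : Type w'} [AddCommGroup F] [Module K F] [Module D F] [IsScalarTower K D F]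
    (s : D →ₗ[K] E →ₗ[K] F) (hs : W4c6defoisocp1.IsHomDerivation s) :
    (∃ Ψ : W4c6defoisocp1.TwistExt s hs ≃ₗ[D] F × E,
        (∀ f : F, Ψ (W4c6defoisocp1.TwistExt.inl f) = (f, 0)) ∧ ∀ x : W4c6defoisocp1.TwistExt s hs, (Ψ x).2 = W4c6defoisocp1.TwistExt.snd x) ↔
      W4c6defoisocp1.IsPrincipal s := by
  have h1 := W4c6defoisocp1.TwistExt.map_one_eq_zero hs
  constructor
  · rintro ⟨Ψ, hl, hr⟩
    let τ : E →+ F := AddMonoidHom.mk' (fun e => (Ψ (W4c6defoisocp1.TwistExt.mk (0, e))).1) (fun e e' => by
      rw [← Prod.fst_add, ← map_add]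
      congr 2
      exact W4c6defoisocp1.TwistExt.ext (by simp) (by simp))
    have hd : ∀ f e, (Ψ (W4c6defoisocp1.TwistExt.mk (f, e))).1 = f + τ e := by
      intro f e
      have hfe : (W4c6defoisocp1.TwistExt.mk (f, e) : W4c6defoisocp1.TwistExt s hs) =
          W4c6defoisocp1.TwistExt.inl f + W4c6defoisocp1.TwistExt.mk (0, e) :=
        W4c6defoisocp1.TwistExt.ext (by simp) (by simp)
      rw [hfe, map_add, Prod.fst_add, hl]
      rfl
    have key : ∀ a e, s a e + τ (a • e) = a • τ e := by
      intro a e
      have h2 := congrArg Prod.fst (Ψ.map_smul a (W4c6defoisocp1.TwistExt.mk (0, e)))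
      rw [Prod.smul_fst] at h2
      rw [← hd]
      refine Eq.trans ?_ h2
      congr 2
      exact W4c6defoisocp1.TwistExt.ext (by simp) (by simp)
    refine ⟨{ τ with map_smul' := fun c e => ?_ }, fun a e => eq_sub_of_add_eq (key a e)⟩
    have h2 := key (algebraMap K D c) e
    rw [Algebra.algebraMap_eq_smul_one, map_smul, h1, smul_zero, LinearMap.zero_apply, zero_add, smul_assoc, one_smul, smul_assoc, one_smul] at h2
    exact h2
  · rintro ⟨σ, hσ⟩
    refine ⟨{ toFun := fun x => ((W4c6defoisocp1.TwistExt.val x).1 + σ (W4c6defoisocp1.TwistExt.val x).2, (W4c6defoisocp1.TwistExt.val x).2)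
              map_add' := fun x y => ?_
              map_smul' := fun a x => ?_
              invFun := fun q => W4c6defoisocp1.TwistExt.mk (q.1 - σ q.2, q.2)
              left_inv := fun x => ?_
              right_inv := fun q => ?_ }, fun f => ?_, fun x => ?_⟩
    · simp only [W4c6defoisocp1.TwistExt.val_add, Prod.fst_add, Prod.snd_add, map_add, Prod.mk_add_mk]
      congr 1
      abel
    · simp only [W4c6defoisocp1.TwistExt.val_smul, hσ, RingHom.id_apply, Prod.smul_mk, smul_add]
      congr 1
      abel
    · exact W4c6defoisocp1.TwistExt.ext (by simp) (by simp)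
    · simp
    · simp
    · simp

end Groth.Agent.S18803
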