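import Groth.Statements.S18804
import Groth.Agent.CurveRR.Curve
import Groth.Agent.CurveRR.Deg
import Groth.Agent.CurveRR.Easy

set_option autoImplicit false
universe u
open CategoryTheory CategoryTheory.Limits AlgebraicGeometry
open Curves

set_option backward.isDefEq.respectTransparency false
set_option backward.isDefEq.respectTransparency.types false

open Groth.Agent

namespace Groth.Agent.S18804

/-- Let k be an algebraically closed field of characteristic zero, X a smooth proper integral curve over
k (integral, proper and smooth over k, of dimension one) of genus g, and L an invertible O_X-module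
of degree deg L = χ(L) − χ(O_X) at least 2g + 3. Then L is 3-very ample: every closed subscheme Z of
X of length 4 imposes independent conditions on H^0(X, L), stated as dim_k H^0(X, L ⊗ I) + 4 = dim_k
H^0(X, L) for every quasi-coherent ideal I of O_X with dim_k H^0(X, O_X/I) = 4. -/
theorem result
    (k : Type u) [Field k] [IsAlgClosed k] [CharZero k]
    (X : Scheme.{u}) [X.Over (Spec (CommRingCat.of k))] [IsIntegral X]
    [IsProper (X ↘ Spec (CommRingCat.of k))] [Smooth (X ↘ Spec (CommRingCat.of k))]
    (hdim : topologicalKrullDim X = 1)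
    (L : X.Modules) (hL : PicF.IsInvertible L)
    (hdeg : 2 * (Curv2.genus k X : ℤ) + 3 ≤ Curv2.deg k X L 1)
    (I : X.IdealSheafData) (hI : Module.finrank k (Coh.HH X (ClSub.quotMod I) 0) = 4) :
    Module.finrank k (Coh.HH X (CohB1.tensorMod L (ClSub.idealMod I)) 0) + 4 =
      Module.finrank k (Coh.HH X L 0) := by
  haveI := CurveRR.isNoetherian_of_proper k X
  have h0 := CurveRR.h0_structure k X
  change CurveRR.h k (ClSub.quotMod I) 0 = 4 at hI
  have hη : genericPoint X ∉ (I.support : Set X) := fun hη => by
    have hbot : I = ⊥ := by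
      refine Scheme.IdealSheafData.ext (funext fun U => (Submodule.eq_bot_iff _).2 fun c hc => ?_)
      by_cases hU : Nonempty (U.1 : Scheme)
      · have hηU : genericPoint X ∈ U.1 :=
          (genericPoint_specializes hU.some.1).mem_open U.1.2 hU.some.2
        rw [SetLike.mem_coe, Scheme.IdealSheafData.mem_support_iff_of_mem (U := U) hηU, Scheme.mem_zeroLocus_iff] at hη
        have hb : ¬ IsUnit ((X.presheaf.germ U.1 _ hηU).hom c) :=
          fun hu => hη c hc ((X.mem_basicOpen c _ hηU).2 hu)
        letI : Field (X.presheaf.stalk (genericPoint X)) := inferInstanceAs (Field X.functionField)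
        have hz : (X.presheaf.germ U.1 _ hηU).hom c = 0 := by
          by_contra hne
          exact hb (isUnit_iff_ne_zero.2 hne)
        exact germ_injective_of_isIntegral X _ hηU (hz.trans (map_zero _).symm)
      · exact Groth.Agent.QC.section_eq_of_locally (M := Coh.structureModule X) fun x hx =>
          absurd (⟨⟨x, hx⟩⟩ : Nonempty (U.1 : Scheme)) hU
    haveI : IsIso I.subschemeι := (Scheme.isIso_subschemeι_iff_eq_bot I).2 hbot
    haveI : IsIso (ClSub.toSubscheme I) := Scheme.Modules.Hom.isIso_iff_isIso_app.2 fun U =>
      (ConcreteCategory.isIso_iff_bijective _).2 (ConcreteCategory.bijective_of_isIso (I.subschemeι.app U))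
    rw [← CurveRR.h_eq_of_iso (k := k) (asIso (ClSub.toSubscheme I)) (q := 0), h0] at hI
    omega
  have hZ := CurveRR.dim_le_zero_of_closed hdim.le I.support.isClosed hη
  have h1 : Subsingleton (Coh.HH X (CohB1.tensorMod (ClSub.idealMod I) L) 1) := by
    by_contra hn
    rw [not_subsingleton_iff_nontrivial] at hn
    have := CurveRR.deg_le_of_nontrivial (k := k) hdim.le h0 hL I hZ hn
    rw [hI] at this
    omega
  have hL1 := CurveRR.subsingleton_h1 (k := k) hdim.le h0 hL (by omega)
  have he := CurveRR.euler_ideal_tensor (k := k) hL I hZ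
  rw [CurveRR.euler_eq hdim.le, CurveRR.euler_eq hdim.le, show CurveRR.h k L 1 = 0 from CurveRR.h_eq_zero hL1,
    show CurveRR.h k (CohB1.tensorMod (ClSub.idealMod I) L) 1 = 0 from CurveRR.h_eq_zero h1, hI] at he
  change CurveRR.h k (CohB1.tensorMod L (ClSub.idealMod I)) 0 + 4 = CurveRR.h k L 0
  rw [CurveRR.h_eq_of_iso (k := k) (TMul.commIso L (ClSub.idealMod I)) (q := 0)]
  omega

end Groth.Agent.S18804
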