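import Groth.Statements.S18805
import Groth.Agent.CurveOmega.Duality
import Groth.Agent.CurveOmega.VeryAmple

set_option autoImplicit false
universe u
open CategoryTheory CategoryTheory.Limits AlgebraicGeometry
open Curves

set_option backward.isDefEq.respectTransparency false
set_option backward.isDefEq.respectTransparency.types false

open Groth.Agent

namespace Groth.Agent.S18805

/-- Let k be an algebraically closed field of characteristic zero and X a smooth proper integral curve
over k (integral, proper and smooth over k, of dimension one), with sheaf of differentials ω =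
Ω_(X/k). Then ω is 3-very ample, meaning dim_k H^0(X, ω ⊗ I) + 4 = dim_k H^0(X, ω) for every
quasi-coherent ideal I of O_X with dim_k H^0(X, O_X/I) = 4, if and only if X carries no g^1_4,
meaning that for every such I (the ideal of an effective divisor D of degree 4) every module M with
I ⊗ M ≅ O_X (so M plays the role of O_X(D)) has dim_k H^0(X, M) = 1. -/
theorem result
    (k : Type u) [Field k] [IsAlgClosed k] [CharZero k]
    (X : Scheme.{u}) [X.Over (Spec (CommRingCat.of k))] [IsIntegral X]
    [IsProper (X ↘ Spec (CommRingCat.of k))] [Smooth (X ↘ Spec (CommRingCat.of k))]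
    (hdim : topologicalKrullDim X = 1) :
    (∀ (I : X.IdealSheafData), Module.finrank k (Coh.HH X (ClSub.quotMod I) 0) = 4 →
      Module.finrank k (Coh.HH X (CohB1.tensorMod (Omega.sheaf (X ↘ Spec (CommRingCat.of k))) (ClSub.idealMod I)) 0) + 4 =
        Module.finrank k (Coh.HH X (Omega.sheaf (X ↘ Spec (CommRingCat.of k))) 0)) ↔
    (∀ (I : X.IdealSheafData), Module.finrank k (Coh.HH X (ClSub.quotMod I) 0) = 4 →
      ∀ (M : X.Modules), ClSub.IsInverseOf (ClSub.idealMod I) M →
        Module.finrank k (Coh.HH X M 0) = 1) := by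
  haveI := CurveRR.isNoetherian_of_proper k X
  have hC : Curve.IsSmoothProperCurve k X (X ↘ Spec (CommRingCat.of k)) :=
    ⟨inferInstance, inferInstance, inferInstance, hdim⟩
  obtain ⟨hΩ, hΩ0, -, -⟩ := CurveOmega.omega_facts k X hC
  have hΩ0' : Module.finrank k (Coh.HH X (Omega.sheaf (X ↘ Spec (CommRingCat.of k))) 0) = Curv2.genus k X := hΩ0
  have key : ∀ (I : X.IdealSheafData), Module.finrank k (Coh.HH X (ClSub.quotMod I) 0) = 4 →
      PicF.IsInvertible (ClSub.idealMod I) ∧ ∀ (M : X.Modules), ClSub.IsInverseOf (ClSub.idealMod I) M →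
        (Module.finrank k (Coh.HH X (CohB1.tensorMod (Omega.sheaf (X ↘ Spec (CommRingCat.of k))) (ClSub.idealMod I)) 0) + 4 =
          Module.finrank k (Coh.HH X (Omega.sheaf (X ↘ Spec (CommRingCat.of k))) 0) ↔
            Module.finrank k (Coh.HH X M 0) = 1) := by
    intro I h4
    have hη : genericPoint X ∉ (I.support : Set X) := fun hη => by
      haveI : Surjective I.subschemeι := ⟨fun x => by
        have := (genericPoint_specializes x).mem_closed I.support.isClosed hη
        rw [← I.range_subschemeι] at this
        exact this⟩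
      haveI := AlgebraicGeometry.isIso_of_isClosedImmersion_of_surjective I.subschemeι
      haveI := CurveRR.unitToPush_isIso I.subschemeι
      have h1 := CurveRR.h0_structure k X
      rw [CurveRR.h_eq_of_iso (asIso (ClSub.toSubscheme I)) 0] at h1
      change Module.finrank k (Coh.HH X (ClSub.quotMod I) 0) = 1 at h1
      omega
    have hI := CurveOmega.isInvertible_idealMod (k := k) hdim I hη
    refine ⟨hI, fun M hM => ?_⟩
    obtain ⟨e⟩ := hM
    have hMi := NegTwist.isInvertible_inverse hI e
    have h1 := CurveOmega.h1_eq k X hC hMi (TMul.commIso M _ ≪≫ e)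
    have hd := CurveRR.euler_ideal_tensor (k := k) hMi I
      (CurveRR.dim_le_zero_of_closed hdim.le I.support.isClosed hη)
    rw [CurveRR.euler_eq_of_iso e, CurveRR.euler_structure hdim.le (CurveRR.h0_structure k X),
      CurveRR.euler_eq hdim.le, h1] at hd
    change _ = ((CurveRR.h k M 0 : ℤ) - _) - (Module.finrank k (Coh.HH X (ClSub.quotMod I) 0) : ℤ) at hd
    rw [h4] at hd
    change CurveRR.h k _ 0 + 4 = _ ↔ CurveRR.h k M 0 = 1
    rw [hΩ0']
    push_cast at hd
    omega
  constructor
  · intro h I h4 M hM
    exact ((key I h4).2 M hM).mp (h I h4)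
  · intro h I h4
    obtain ⟨M, -, ⟨e⟩⟩ := W7Hull.exists_tensor_inverse (key I h4).1
    exact ((key I h4).2 M ⟨e⟩).mpr (h I h4 M ⟨e⟩)

end Groth.Agent.S18805
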