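import Groth.Statements.S18808
import Groth.Agent.Comod.Transfer
import Mathlib.RingTheory.Coalgebra.Hom
import Mathlib.LinearAlgebra.Dual.Lemmas

set_option autoImplicit false
universe u v v' w w' x
open TensorProduct
open HopfRep

namespace Groth.Agent.S18808

open Groth.Agent.Comod
open scoped Groth.Agent.Comod

/-- Let k be a field, i : C → D an injective morphism of k-coalgebras and V a right D-comodule with
coaction ρ. Call a D-subcomodule K of V admissible when the induced coaction of V/K, namely ρ
followed by the projection V ⊗ D → (V/K) ⊗ D, takes all its values in the image of (V/K) ⊗ C → (V/K)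
⊗ D (so that V/K comes from a C-comodule). Then there is a least admissible D-subcomodule of V: V
has a largest quotient D-comodule coming from C, through which every D-comodule map from V to a
comodule coming from C factors. (The source states this for left comodules over the coordinate
bialgebras of an affine monoid scheme and its open schematically dense group of units, as the
existence of a universal map from a representation of the unit group to a representation of the
monoid; it uses that assumption only through the injectivity of the restriction map.) -/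
theorem result (k : Type u) [Field k]
    (C : Type v) [AddCommGroup C] [Module k C] [Coalgebra k C]
    (D : Type v') [AddCommGroup D] [Module k D] [Coalgebra k D]
    (i : C →ₗc[k] D) (hi : Function.Injective i)
    (V : Type w) [AddCommGroup V] [Module k V] [HopfRep.Comod k D V] :
    ∃ K : Submodule k V, HopfRep.IsSubcomod (k := k) (A := D) K ∧
      (∀ v : V, K.mkQ.rTensor D (HopfRep.Comod.coact (k := k) (A := D) v) ∈
        LinearMap.range ((i : C →ₗ[k] D).lTensor (V ⧸ K))) ∧
      ∀ K' : Submodule k V, HopfRep.IsSubcomod (k := k) (A := D) K' →
        (∀ v : V, K'.mkQ.rTensor D (HopfRep.Comod.coact (k := k) (A := D) v) ∈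
          LinearMap.range ((i : C →ₗ[k] D).lTensor (V ⧸ K'))) → K ≤ K' := by
  let R := LinearMap.range (i : C →ₗ[k] D)
  have hrange : ∀ (Q : Type w) [AddCommGroup Q] [Module k Q],
      LinearMap.range ((i : C →ₗ[k] D).lTensor Q) = LinearMap.range (R.subtype.lTensor Q) := fun Q _ _ => by
    conv_lhs => rw [show (i : C →ₗ[k] D) = R.subtype ∘ₗ (i : C →ₗ[k] D).rangeRestrict from rfl,
      LinearMap.lTensor_comp]
    rw [LinearMap.range_comp_of_range_eq_top]
    exact LinearMap.range_eq_top.mpr (LinearMap.lTensor_surjective _ (LinearMap.surjective_rangeRestrict _))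
  have key : ∀ (K : Submodule k V), (∀ v : V, K.mkQ.rTensor D (HopfRep.Comod.coact (k := k) (A := D) v) ∈
      LinearMap.range ((i : C →ₗ[k] D).lTensor (V ⧸ K))) ↔
      ∀ g : CDual k D, g.ofConv ∈ R.dualAnnihilator → ∀ v, dact k D V g v ∈ K := by
    intro K
    simp only [hrange, mem_range_lTensor_iff]
    have e : ∀ (φ : (V ⧸ K) →ₗ[k] k) (t : V ⊗[k] D), cL φ (K.mkQ.rTensor D t) = cL (φ ∘ₗ K.mkQ) t := by
      intro φ t
      induction t using TensorProduct.induction_on with
      | zero => simp
      | tmul x y => simp
      | add x y hx hy => simp [hx, hy]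
    simp only [e]
    constructor
    · intro h g hg v
      rw [← Submodule.Quotient.mk_eq_zero, ← Module.forall_dual_apply_eq_zero_iff k]
      intro φ
      have := (Submodule.mem_dualAnnihilator _).mp hg _ (h v φ)
      rw [apply_cL_coact] at this
      exact this
    · intro h v φ
      rw [← Subspace.forall_mem_dualAnnihilator_apply_eq_zero_iff]
      intro g hg
      rw [show g = (WithConv.toConv g).ofConv from rfl, apply_cL_coact]
      show φ (Submodule.Quotient.mk _) = 0
      rw [(Submodule.Quotient.mk_eq_zero K).mpr (h (WithConv.toConv g) hg v), map_zero]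
  refine ⟨⨅ K : {K : Submodule k V // HopfRep.IsSubcomod (k := k) (A := D) K ∧
      ∀ g : CDual k D, g.ofConv ∈ R.dualAnnihilator → ∀ v, dact k D V g v ∈ K}, K.1, ?_, ?_, ?_⟩
  · refine isSubcomod_iff.mpr fun g w hw => (Submodule.mem_iInf _).mpr fun K => ?_
    exact isSubcomod_iff.mp K.2.1 g w ((Submodule.mem_iInf _).mp hw K)
  · exact (key _).mpr fun g hg v => (Submodule.mem_iInf _).mpr fun K => K.2.2 g hg v
  · intro K' hK' h'
    exact iInf_le_of_le ⟨K', hK', (key K').mp h'⟩ le_rfl

end Groth.Agent.S18808
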