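import Groth.Statements.S18810
import Groth.Agent.Comod.Transfer

set_option autoImplicit false
universe u v v' w w' x
open TensorProduct
open HopfRep

namespace Groth.Agent.S18810

open Groth.Agent.Comod
open scoped Groth.Agent.Comod

/-- Let k be a field, C a k-coalgebra, V a right C-comodule and (S_j) a family of simple C-comodules
which are pairwise non-isomorphic (for j ≠ j' no k-linear isomorphism S_j ≃ S_j' commutes with the
coactions). For each j let V[j] be the isotypic component of type S_j: the sum of the images of all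
comodule maps S_j → V (equivalently of all simple subcomodules of V isomorphic to S_j, a nonzero
such map being injective). Then the family j ↦ V[j] is independent, so that the socle of V is the
direct sum of its isotypic components. (The source states this for representations of an affine
monoid scheme over k, i.e. left comodules over its coordinate bialgebra; the row is the
right-comodule form over any coalgebra.) -/
theorem result (k : Type u) [Field k]
    (C : Type v) [AddCommGroup C] [Module k C] [Coalgebra k C]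
    (V : Type w) [AddCommGroup V] [Module k V] [HopfRep.Comod k C V]
    {ι : Type x} (S : ι → Type w') [∀ j, AddCommGroup (S j)] [∀ j, Module k (S j)]
    [∀ j, HopfRep.Comod k C (S j)] (hS : ∀ j, HopfRep.IsSimpleComod k C (S j))
    (hne : ∀ j j', j ≠ j' → ∀ e : S j ≃ₗ[k] S j', ¬ Hoch.IsComodHom C (e : S j →ₗ[k] S j')) :
    iSupIndep (fun j => ⨆ f : {f : S j →ₗ[k] V // Hoch.IsComodHom C f}, LinearMap.range f.1) := by
  have hs := fun j => (isSimpleComod_iff k C (S j)).mp (hS j)
  let s : ι → Set (Submodule (CDual k C) V) := fun j =>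
    {m | IsSimpleModule (CDual k C) m ∧ Nonempty (S j ≃ₗ[CDual k C] m)}
  have hle : ∀ j, (⨆ f : {f : S j →ₗ[k] V // Hoch.IsComodHom C f}, LinearMap.range f.1) ≤
      ofDSub (sSup (s j)) := by
    intro j
    rw [iSup_le_iff]
    rintro ⟨f, hf⟩ _ ⟨x, rfl⟩
    by_cases h : toDHom f hf = 0
    · rw [show f x = 0 from LinearMap.congr_fun h x]; exact zero_mem _
    · have hinj : Function.Injective (toDHom f hf) := (LinearMap.injective_or_eq_zero _).resolve_right h
      refine (le_sSup (show LinearMap.range (toDHom f hf) ∈ s j from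
        ⟨IsSimpleModule.congr (R := CDual k C) (LinearEquiv.ofInjective _ hinj).symm,
          ⟨LinearEquiv.ofInjective _ hinj⟩⟩)) ⟨x, rfl⟩
  have hind : iSupIndep (fun j => sSup (s j)) := by
    intro j
    rw [disjoint_iff]
    by_contra hne0
    obtain ⟨T, hT, hTs, -⟩ := exists_simple_le hne0
    have : ∀ m : s j, IsSimpleModule (CDual k C) (m : Submodule (CDual k C) V) := fun m => m.2.1
    obtain ⟨m₁, ⟨-, ⟨a₁⟩⟩, ⟨b₁⟩⟩ := T.linearEquiv_of_le_sSup (s j) (hT.trans inf_le_left)
    let t : Set (Submodule (CDual k C) V) := ⋃ j' ∈ {j' | j' ≠ j}, s j'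
    have : ∀ m : t, IsSimpleModule (CDual k C) (m : Submodule (CDual k C) V) := fun m => by
      obtain ⟨j', -, h⟩ := Set.mem_iUnion₂.mp m.2
      exact h.1
    obtain ⟨m₂, hm₂, ⟨b₂⟩⟩ := T.linearEquiv_of_le_sSup t ((hT.trans inf_le_right).trans
      (iSup₂_le fun j' hj' => sSup_le_sSup fun m hm => Set.mem_iUnion₂.mpr ⟨j', hj', hm⟩))
    obtain ⟨j', hj', -, ⟨a₂⟩⟩ := Set.mem_iUnion₂.mp hm₂
    let g : S j ≃ₗ[CDual k C] S j' := a₁ ≪≫ₗ b₁.symm ≪≫ₗ b₂ ≪≫ₗ a₂.symm
    exact hne j j' (Ne.symm hj') (g.restrictScalars k) (isComodHom_ofDHom g.toLinearMap)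
  exact ((iSupIndep_ofDSub_iff _).mpr hind).mono hle

end Groth.Agent.S18810
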