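import Groth.Statements.S18814
import Mathlib.LinearAlgebra.TensorProduct.Basis
import Mathlib.LinearAlgebra.Basis.VectorSpace

set_option autoImplicit false
universe u v v' w w'
open TensorProduct
open HopfRep

namespace Groth.Agent.S18814

/-- Let k be a field, C and D commutative bialgebras over k (coordinate rings of affine monoid schemes M
and N) and V a k-vector space carrying a right C-comodule structure with coaction ρ_C : V → V ⊗ C
and a right D-comodule structure with coaction ρ_D : V → V ⊗ D which commute: (ρ_C ⊗ id_D) ∘ ρ_D and
(ρ_D ⊗ id_C) ∘ ρ_C agree in V ⊗ C ⊗ D after reassociating and swapping the last two factors (the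
actions of M and N on V commute). Assume V is semisimple as a D-comodule. Then for every simple
D-comodule S the isotypic component of V of type S, the sum of the images of all D-comodule maps S →
V, is a C-subcomodule of V. (The source works with left comodules; this is the right-comodule form.) -/
theorem result (k : Type u) [Field k]
    (C : Type v) [CommRing C] [Bialgebra k C] (D : Type v') [CommRing D] [Bialgebra k D]
    (V : Type w) [AddCommGroup V] [Module k V] [HopfRep.Comod k C V] [HopfRep.Comod k D V]
    (hcomm : (TensorProduct.assoc k V C D).toLinearMap ∘ₗ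
        (HopfRep.Comod.coact (k := k) (A := C) (V := V)).rTensor D ∘ₗ HopfRep.Comod.coact (k := k) (A := D) =
      (TensorProduct.comm k D C).toLinearMap.lTensor V ∘ₗ (TensorProduct.assoc k V D C).toLinearMap ∘ₗ
        (HopfRep.Comod.coact (k := k) (A := D) (V := V)).rTensor C ∘ₗ HopfRep.Comod.coact (k := k) (A := C))
    (hV : HopfRep.IsSemisimpleComod k D V)
    (S : Type w') [AddCommGroup S] [Module k S] [HopfRep.Comod k D S] (hS : HopfRep.IsSimpleComod k D S) :
    HopfRep.IsSubcomod (k := k) (A := C)
      (⨆ f : {f : S →ₗ[k] V // Hoch.IsComodHom D f}, LinearMap.range f.1) := by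
  classical
  set W : Submodule k V := ⨆ f : {f : S →ₗ[k] V // Hoch.IsComodHom D f}, LinearMap.range f.1 with hW
  let T : (C →ₗ[k] k) → V →ₗ[k] V := fun φ =>
    (TensorProduct.rid k V).toLinearMap ∘ₗ φ.lTensor V ∘ₗ HopfRep.Comod.coact
  have hT : ∀ φ, Hoch.IsComodHom D (T φ) := by
    intro φ
    let P : V ⊗[k] (C ⊗[k] D) →ₗ[k] V ⊗[k] D :=
      ((TensorProduct.lid k D).toLinearMap ∘ₗ φ.rTensor D).lTensor V
    have e1 : ∀ y : V ⊗[k] D, (T φ).rTensor D y =
        P (TensorProduct.assoc k V C D ((HopfRep.Comod.coact (k := k) (A := C) (V := V)).rTensor D y)) := by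
      intro y
      induction y using TensorProduct.induction_on with
      | zero => simp
      | add y z hy hz => simp only [map_add, hy, hz]
      | tmul v d =>
        simp only [LinearMap.rTensor_tmul, T, LinearMap.comp_apply, LinearEquiv.coe_coe]
        induction HopfRep.Comod.coact (k := k) (A := C) v using TensorProduct.induction_on with
        | zero => simp
        | add y z hy hz => simp only [map_add, TensorProduct.add_tmul, hy, hz]
        | tmul p q => simp [P, TensorProduct.smul_tmul]
    have e2 : ∀ y : V ⊗[k] C, HopfRep.Comod.coact (k := k) (A := D) (TensorProduct.rid k V (φ.lTensor V y)) =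
        P ((TensorProduct.comm k D C).toLinearMap.lTensor V (TensorProduct.assoc k V D C
          ((HopfRep.Comod.coact (k := k) (A := D) (V := V)).rTensor C y))) := by
      intro y
      induction y using TensorProduct.induction_on with
      | zero => simp
      | add y z hy hz => simp only [map_add, hy, hz]
      | tmul v c =>
        simp only [LinearMap.rTensor_tmul, LinearMap.lTensor_tmul, TensorProduct.rid_tmul, map_smul]
        induction HopfRep.Comod.coact (k := k) (A := D) v using TensorProduct.induction_on with
        | zero => simp
        | add y z hy hz => simp only [map_add, TensorProduct.add_tmul, smul_add, hy, hz]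
        | tmul p q => simp [P, TensorProduct.smul_tmul']
    refine LinearMap.ext fun v => ?_
    have := congrArg P (LinearMap.congr_fun hcomm v)
    simp only [LinearMap.comp_apply, LinearEquiv.coe_coe] at this
    rw [← e1, ← e2] at this
    exact this.symm
  have hWT : ∀ φ, ∀ w ∈ W, T φ w ∈ W := by
    intro φ w hw
    have : W ≤ W.comap (T φ) := by
      rw [hW]
      refine iSup_le fun f => ?_
      rintro _ ⟨s, rfl⟩
      have hf : Hoch.IsComodHom D (T φ ∘ₗ f.1) := by
        refine LinearMap.ext fun t => ?_
        have h1 := LinearMap.congr_fun (hT φ) (f.1 t)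
        have h2 := LinearMap.congr_fun f.2 t
        simp only [Hoch.IsComodHom, LinearMap.comp_apply] at h1 h2 ⊢
        rw [h1, h2, ← LinearMap.comp_apply (f := (T φ).rTensor D), ← LinearMap.rTensor_comp]
      exact Submodule.mem_iSup_of_mem ⟨_, hf⟩ ⟨s, rfl⟩
    exact this hw
  intro w hw
  let b := Module.Basis.ofVectorSpace k C
  set z := HopfRep.Comod.coact (k := k) (A := C) w with hz
  have hmem : ∀ i, TensorProduct.equivFinsuppOfBasisRight b z i ∈ W := by
    intro i
    have : TensorProduct.equivFinsuppOfBasisRight b z i = T (b.coord i) w := by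
      simp only [T, LinearMap.comp_apply, LinearEquiv.coe_coe, ← hz]
      induction z using TensorProduct.induction_on with
      | zero => simp
      | add y z hy hz => simp only [map_add, Finsupp.add_apply, hy, hz]
      | tmul p q => simp
    rw [this]; exact hWT _ w hw
  rw [show z = (TensorProduct.equivFinsuppOfBasisRight b).symm (TensorProduct.equivFinsuppOfBasisRight b z) from
    ((TensorProduct.equivFinsuppOfBasisRight b).symm_apply_apply z).symm, TensorProduct.equivFinsuppOfBasisRight_symm_apply]
  exact Submodule.sum_mem _ fun i _ => ⟨(⟨_, hmem i⟩ : W) ⊗ₜ[k] b i, rfl⟩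

end Groth.Agent.S18814
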