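import Groth.Statements.S18817
import Groth.Agent.ThickProp.Deform

set_option autoImplicit false
universe u
open CategoryTheory MonoidalCategory CartesianMonoidalCategory MonObj AlgebraicGeometry
open AlgGrp

namespace Groth.Agent.S18817


noncomputable section Helpers

open CategoryTheory.Limits

set_option backward.isDefEq.respectTransparency false

variable {k : Type u} [Field k] {M : Over (Spec (CommRingCat.of k))} [MonObj M]

/-- Right translation by a point, over the test object. -/
def shear {T : Over (Spec (CommRingCat.of k))} (x : T ⟶ M) : M ⊗ T ⟶ M ⊗ T :=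
  lift (fst M T * (snd M T ≫ x)) (snd M T)

theorem lift_shear {T : Over (Spec (CommRingCat.of k))} (x : T ⟶ M) {S : Over (Spec (CommRingCat.of k))}
    (a : S ⟶ M) (t : S ⟶ T) : lift a t ≫ shear x = lift (a * (t ≫ x)) t := by
  apply CartesianMonoidalCategory.hom_ext
  · simp [shear, MonObj.comp_mul]
  · simp [shear]

theorem isIso_shear_of_isUnit {T : Over (Spec (CommRingCat.of k))} (x : T ⟶ M) (hx : IsUnit x) :
    IsIso (shear x) := by
  obtain ⟨y, h1, h2⟩ := isUnit_iff_exists.1 hx
  refine ⟨shear y, ?_, ?_⟩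
  · rw [show shear x = lift (fst M T * (snd M T ≫ x)) (snd M T) from rfl, lift_shear, _root_.mul_assoc,
      ← MonObj.comp_mul, h1, MonObj.comp_one, _root_.mul_one, lift_fst_snd]
  · rw [show shear y = lift (fst M T * (snd M T ≫ y)) (snd M T) from rfl, lift_shear, _root_.mul_assoc,
      ← MonObj.comp_mul, h2, MonObj.comp_one, _root_.mul_one, lift_fst_snd]

theorem isUnit_of_isIso_shear {T : Over (Spec (CommRingCat.of k))} (x : T ⟶ M) [IsIso (shear x)] :
    IsUnit x := by
  let s : T ⟶ M ⊗ T := lift 1 (𝟙 T) ≫ inv (shear x)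
  have hs : s ≫ shear x = lift 1 (𝟙 T) := by simp [s]
  have hs' := hs
  rw [← lift_comp_fst_snd s, lift_shear] at hs'
  have h2 : s ≫ snd M T = 𝟙 T := by
    have := congrArg (· ≫ snd M T) hs'
    simpa using this
  have h1 : (s ≫ fst M T) * x = 1 := by
    have := congrArg (· ≫ fst M T) hs'
    simpa [h2] using this
  refine isUnit_iff_exists.2 ⟨s ≫ fst M T, ?_, h1⟩
  have h3 : lift (x * (s ≫ fst M T)) (𝟙 T) ≫ shear x = lift 1 (𝟙 T) ≫ shear x := by
    rw [lift_shear, lift_shear, Category.id_comp, _root_.mul_assoc, h1, _root_.mul_one, _root_.one_mul]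
  simpa using congrArg (· ≫ fst M T) ((cancel_mono (shear x)).1 h3)

/-- The units lift along nilpotent thickenings. -/
theorem isUnit_of_nilpotent {T₀ T : Over (Spec (CommRingCat.of k))} (j : T₀ ⟶ T) [IsClosedImmersion j.left]
    [Surjective j.left] (hn : IsNilpotent j.left.ker) (x : T ⟶ M) (hx : IsUnit (j ≫ x)) : IsUnit x := by
  haveI := isIso_shear_of_isUnit _ hx
  haveI : IsIso (shear (j ≫ x)).left :=
    inferInstanceAs (IsIso ((Over.forget _).map (shear (j ≫ x))))
  have hpb : IsPullback (M ◁ j).left (snd M T₀).left (snd M T).left j.left := by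
    have hbig : IsPullback (snd M T₀).left ((M ◁ j).left ≫ (fst M T).left) (j.left ≫ T.hom) M.hom := by
      rw [← Over.comp_left, whiskerLeft_fst, Over.w j]
      exact (IsPullback.of_hasPullback M.hom T₀.hom).flip
    exact (IsPullback.of_bot hbig (show (snd M T₀).left ≫ j.left = (M ◁ j).left ≫ (snd M T).left by
      rw [← Over.comp_left, ← Over.comp_left, whiskerLeft_snd])
      (IsPullback.of_hasPullback M.hom T.hom).flip).flip
  haveI : Flat (snd M T).left := MorphismProperty.pullback_snd M.hom T.hom inferInstance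
  have hs : ∀ {U : Over (Spec (CommRingCat.of k))} (z : U ⟶ M), (shear z).left ≫ (snd M U).left = (snd M U).left :=
    fun z => by rw [← Over.comp_left, show shear z ≫ snd M _ = snd M _ from lift_snd _ _]
  haveI : Flat ((shear x).left ≫ (snd M T).left) := by rw [hs]; infer_instance
  haveI : IsIso (shear x).left := by
    refine ThickProp.isIso_of_deform (f := (shear (j ≫ x)).left) (g := (snd M T₀).left)
      (g' := (snd M T).left) (iS := j.left) (iX := (M ◁ j).left) (iY := (M ◁ j).left) ?_ hpb ?_ hn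
    · rw [hs, hs]; exact hpb
    · rw [← Over.comp_left, ← Over.comp_left]
      congr 1
      apply CartesianMonoidalCategory.hom_ext <;> simp [shear, MonObj.comp_mul]
  haveI : IsIso (shear x) := by
    have : IsIso ((Over.forget _).map (shear x)) := ‹IsIso (shear x).left›
    exact isIso_of_reflects_iso _ (Over.forget _)
  exact isUnit_of_isIso_shear x

theorem locallyOfFinitePresentation_units [LocallyOfFiniteType M.hom] {G : Over (Spec (CommRingCat.of k))}
    (i : G ⟶ M) [Mono i]
    (hi : ∀ (T : Over (Spec (CommRingCat.of k))) (m : T ⟶ M), (∃ g : T ⟶ G, g ≫ i = m) ↔ IsUnit m) :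
    LocallyOfFinitePresentation i.left := by
  let c : M ⊗ M ⟶ M ⊗ M := lift (fst M M * snd M M) (snd M M * fst M M)
  let e : 𝟙_ (Over (Spec (CommRingCat.of k))) ⟶ M ⊗ M := lift 1 1
  let E : Over (Spec (CommRingCat.of k)) := Over.mk (pullback.fst c.left e.left ≫ (M ⊗ M).hom)
  let p : E ⟶ M ⊗ M := Over.homMk (pullback.fst c.left e.left) rfl
  haveI : IsLocallyNoetherian M.left := LocallyOfFiniteType.isLocallyNoetherian M.hom
  haveI : LocallyOfFiniteType (M ⊗ M).hom :=
    inferInstanceAs (LocallyOfFiniteType (pullback.fst M.hom M.hom ≫ M.hom))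
  haveI : IsLocallyNoetherian (M ⊗ M).left := LocallyOfFiniteType.isLocallyNoetherian (M ⊗ M).hom
  haveI : LocallyOfFiniteType (e.left ≫ (M ⊗ M).hom) := by
    rw [Over.w]; exact inferInstanceAs (LocallyOfFiniteType (𝟙 (Spec (CommRingCat.of k))))
  haveI : LocallyOfFiniteType e.left := locallyOfFiniteType_of_comp e.left (M ⊗ M).hom
  haveI : LocallyOfFinitePresentation e.left := inferInstance
  haveI : LocallyOfFinitePresentation M.hom := inferInstance
  haveI : LocallyOfFinitePresentation (fst M M).left :=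
    MorphismProperty.pullback_fst M.hom M.hom inferInstance
  haveI : LocallyOfFinitePresentation p.left := MorphismProperty.pullback_fst c.left e.left inferInstance
  let w : E ⟶ 𝟙_ (Over (Spec (CommRingCat.of k))) := toUnit E
  have hp : p ≫ c = w ≫ e := by
    apply Over.OverMorphism.ext
    show pullback.fst c.left e.left ≫ c.left = E.hom ≫ e.left
    have h1 : pullback.snd c.left e.left = E.hom := by
      show pullback.snd c.left e.left = pullback.fst c.left e.left ≫ (M ⊗ M).hom
      rw [← Over.w c, pullback.condition_assoc, Over.w e]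
      exact (Category.comp_id _).symm
    rw [pullback.condition, h1]
  have hpa : (p ≫ fst M M) * (p ≫ snd M M) = 1 := by
    have := congrArg (· ≫ fst M M) hp
    simpa [c, e, MonObj.comp_mul] using this
  have hpb : (p ≫ snd M M) * (p ≫ fst M M) = 1 := by
    have := congrArg (· ≫ snd M M) hp
    simpa [c, e, MonObj.comp_mul] using this
  obtain ⟨g, hg⟩ := (hi E (p ≫ fst M M)).2 (isUnit_iff_exists.2 ⟨_, hpa, hpb⟩)
  obtain ⟨v, hv₁, hv₂⟩ := isUnit_iff_exists.1 ((hi G i).1 ⟨𝟙 G, Category.id_comp i⟩)
  have hl : lift i v ≫ c = toUnit G ≫ e := by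
    apply CartesianMonoidalCategory.hom_ext <;> simp [c, e, MonObj.comp_mul, hv₁, hv₂]
  let r : G ⟶ E := Over.homMk (pullback.lift (lift i v).left (toUnit G).left
    (congrArg CommaMorphism.left hl)) (by
      show pullback.lift _ _ _ ≫ pullback.fst c.left e.left ≫ (M ⊗ M).hom = G.hom
      rw [pullback.lift_fst_assoc, Over.w])
  have hr : r ≫ p = lift i v := Over.OverMorphism.ext (pullback.lift_fst _ _ _)
  have hrg : r ≫ g = 𝟙 G := by
    rw [← cancel_mono i, Category.assoc, hg, ← Category.assoc, hr, lift_fst, Category.id_comp]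
  haveI : Mono p.left := by
    haveI : Mono e.left := by
      haveI : IsSplitMono e.left := ⟨⟨⟨(M ⊗ M).hom, Over.w e⟩⟩⟩
      infer_instance
    exact inferInstanceAs (Mono (pullback.fst c.left e.left))
  haveI : Mono p := Over.mono_of_mono_left p
  have hgr : g ≫ r = 𝟙 E := by
    rw [← cancel_mono p, Category.assoc, hr, comp_lift, hg, Category.id_comp]
    apply CartesianMonoidalCategory.hom_ext
    · simp
    · rw [lift_snd]
      have h : (p ≫ fst M M) * (g ≫ v) = 1 := by rw [← hg, ← MonObj.comp_mul, hv₁, MonObj.comp_one]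
      exact (left_inv_eq_right_inv hpb h).symm
  haveI : IsIso r := ⟨g, hrg, hgr⟩
  haveI : IsIso r.left := inferInstanceAs (IsIso ((Over.forget _).map r))
  have : i.left = r.left ≫ p.left ≫ (fst M M).left := by
    rw [← Over.comp_left, ← Over.comp_left, reassoc_of% hr, lift_fst]
  rw [this]
  infer_instance

/-- A monomorphism with lifting along square-zero extensions is formally etale on affines. -/
theorem formallyEtale_appLE [LocallyOfFiniteType M.hom] {G : Over (Spec (CommRingCat.of k))}
    (i : G ⟶ M) [Mono i]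
    (hi : ∀ (T : Over (Spec (CommRingCat.of k))) (m : T ⟶ M), (∃ g : T ⟶ G, g ≫ i = m) ↔ IsUnit m)
    (V : M.left.affineOpens) (U : G.left.affineOpens) (e : U.1 ≤ i.left ⁻¹ᵁ V.1) :
    (i.left.appLE V U e).hom.FormallyEtale := by
  letI := (i.left.appLE V U e).hom.toAlgebra
  show Algebra.FormallyEtale Γ(M.left, V.1) Γ(G.left, U.1)
  rw [Algebra.FormallyEtale.iff_comp_bijective]
  intro R _ _ I hI
  have hU := U.2
  have hV := V.2
  have hcomp : ∀ (S : CommRingCat.{u}) (φ : Γ(G.left, U.1) ⟶ S),
      (Spec.map φ ≫ hU.fromSpec) ≫ i.left = Spec.map (i.left.appLE V U e ≫ φ) ≫ hV.fromSpec := by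
    intro S φ
    rw [Category.assoc, ← IsAffineOpen.SpecMap_appLE_fromSpec i.left hV hU e, ← Category.assoc, ← Spec.map_comp]
  haveI : Mono i.left := inferInstanceAs (Mono ((Over.forget _).map i))
  haveI hinj : ∀ φ ψ : Γ(G.left, U.1) ⟶ CommRingCat.of R,
      i.left.appLE V U e ≫ φ = i.left.appLE V U e ≫ ψ → φ = ψ := by
    intro φ ψ h
    apply Spec.map_injective
    rw [← cancel_mono hU.fromSpec, ← cancel_mono i.left, hcomp, hcomp, h]
  refine ⟨fun a b _ => ?_, fun φ => ?_⟩
  · exact AlgHom.coe_ringHom_injective (congrArg CommRingCat.Hom.hom (hinj (CommRingCat.ofHom a.toRingHom)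
      (CommRingCat.ofHom b.toRingHom) (CommRingCat.hom_ext (RingHom.ext fun s =>
        (a.commutes s).trans (b.commutes s).symm))))
  let A : CommRingCat.{u} := Γ(M.left, V.1)
  let q : CommRingCat.of R ⟶ CommRingCat.of (R ⧸ I) := CommRingCat.ofHom (Ideal.Quotient.mk I)
  let a : A ⟶ CommRingCat.of R := CommRingCat.ofHom (algebraMap A R)
  let φ' : Γ(G.left, U.1) ⟶ CommRingCat.of (R ⧸ I) := CommRingCat.ofHom φ.toRingHom
  have hφ' : i.left.appLE V U e ≫ φ' = a ≫ q := CommRingCat.hom_ext (RingHom.ext fun s => φ.commutes s)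
  let T : Over (Spec (CommRingCat.of k)) := Over.mk ((Spec.map a ≫ hV.fromSpec) ≫ M.hom)
  let x : T ⟶ M := Over.homMk (Spec.map a ≫ hV.fromSpec) rfl
  let T₀ : Over (Spec (CommRingCat.of k)) := Over.mk (Spec.map q ≫ T.hom)
  let j : T₀ ⟶ T := Over.homMk (Spec.map q) rfl
  have hg₀ : (Spec.map φ' ≫ hU.fromSpec) ≫ i.left = Spec.map q ≫ Spec.map a ≫ hV.fromSpec := by
    rw [hcomp, hφ', Spec.map_comp, Category.assoc]
  let g₀ : T₀ ⟶ G := Over.homMk (Spec.map φ' ≫ hU.fromSpec) (by
    rw [← Over.w i, ← Category.assoc, hg₀]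
    show _ = Spec.map q ≫ (Spec.map a ≫ hV.fromSpec) ≫ M.hom
    simp only [Category.assoc])
  have hu : IsUnit (j ≫ x) := (hi T₀ _).1 ⟨g₀, Over.OverMorphism.ext hg₀⟩
  haveI : IsClosedImmersion j.left :=
    IsClosedImmersion.spec_of_surjective q Ideal.Quotient.mk_surjective
  have hsj : Function.Surjective (Spec.map q) := by
    intro P
    obtain ⟨P, hP⟩ := P
    refine ⟨⟨P.map (Ideal.Quotient.mk I), Ideal.map_isPrime_of_surjective Ideal.Quotient.mk_surjective ?_⟩,
      PrimeSpectrum.ext ?_⟩
    · rw [Ideal.mk_ker]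
      intro z hz
      exact hP.mem_of_pow_mem 2 (by
        have : z ^ 2 ∈ I ^ 2 := Ideal.pow_mem_pow hz 2
        rw [hI] at this
        rw [Ideal.mem_bot.1 this]; exact P.zero_mem)
    · show Ideal.comap (Ideal.Quotient.mk I) (P.map (Ideal.Quotient.mk I)) = P
      rw [Ideal.comap_map_of_surjective' _ Ideal.Quotient.mk_surjective, Ideal.mk_ker, sup_eq_left]
      intro z hz
      exact hP.mem_of_pow_mem 2 (by
        have : z ^ 2 ∈ I ^ 2 := Ideal.pow_mem_pow hz 2
        rw [hI] at this
        rw [Ideal.mem_bot.1 this]; exact P.zero_mem)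
  haveI : Surjective j.left := ⟨hsj⟩
  have hn : IsNilpotent j.left.ker := by
    refine ⟨2, ?_⟩
    show (Spec.map q).ker ^ 2 = ⊥
    apply Scheme.IdealSheafData.ext_of_isAffine
    rw [Scheme.IdealSheafData.ideal_pow, Pi.pow_apply, Scheme.Hom.ker_apply, Scheme.IdealSheafData.ideal_bot,
      Pi.bot_apply, eq_bot_iff, pow_two, Ideal.mul_le]
    intro z hz w hw
    have hker : ∀ z ∈ RingHom.ker ((Spec.map q).app ⊤).hom, (Scheme.ΓSpecIso (CommRingCat.of R)).hom z ∈ I := by
      intro z hz
      refine Ideal.Quotient.eq_zero_iff_mem.1 ?_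
      have h := congrArg (fun t => t.hom z) (Scheme.ΓSpecIso_naturality q)
      refine h.symm.trans ?_
      show (Scheme.ΓSpecIso (CommRingCat.of (R ⧸ I))).hom.hom ((Spec.map q).appTop.hom z) = 0
      rw [show (Spec.map q).appTop.hom z = 0 from hz, map_zero]
    have h2 := Ideal.mul_mem_mul (hker z hz) (hker w hw)
    rw [← pow_two, hI, Ideal.mem_bot] at h2
    refine Ideal.mem_bot.2 ((Scheme.ΓSpecIso (CommRingCat.of R)).commRingCatIsoToRingEquiv.injective ?_)
    rw [map_mul, map_zero]
    exact h2
  obtain ⟨g, hg⟩ := (hi T x).2 (isUnit_of_nilpotent j hn x hu)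
  have hjg : j ≫ g = g₀ := by
    rw [← cancel_mono i, Category.assoc, hg]
    exact (Over.OverMorphism.ext hg₀).symm
  have hr : Set.range g.left ⊆ Set.range hU.fromSpec := by
    rintro z ⟨P, rfl⟩
    obtain ⟨P₀, rfl⟩ := hsj P
    exact ⟨Spec.map φ' P₀, congrArg (fun m => (m : T₀ ⟶ G).left P₀) hjg.symm⟩
  let ψ : Γ(G.left, U.1) ⟶ CommRingCat.of R := Spec.preimage (IsOpenImmersion.lift hU.fromSpec g.left hr)
  have hψ : Spec.map ψ ≫ hU.fromSpec = g.left := by
    rw [Spec.map_preimage, IsOpenImmersion.lift_fac]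
  have hψa : i.left.appLE V U e ≫ ψ = a := by
    apply Spec.map_injective
    rw [← cancel_mono hV.fromSpec, ← hcomp, hψ]
    exact congrArg CommaMorphism.left hg
  refine ⟨{ ψ.hom with commutes' := fun s => congrArg (fun t => t.hom s) hψa }, ?_⟩
  apply AlgHom.coe_ringHom_injective
  have : ψ ≫ q = φ' := by
    apply Spec.map_injective
    rw [← cancel_mono hU.fromSpec, Spec.map_comp, Category.assoc, hψ]
    exact congrArg CommaMorphism.left hjg
  exact congrArg CommRingCat.Hom.hom this

end Helpers

/-- Let k be a field and M an algebraic monoid over k, i.e. a monoid object in k-schemes whose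
underlying scheme is of finite type over k, and assume M is geometrically integral. Let i : G → M be
the group of units of M: a monomorphism of k-schemes such that, for every k-scheme T, a T-valued
point of M factors through i if and only if it is invertible in the monoid M(T). Then i is an open
immersion. -/
theorem result (k : Type u) [Field k]
    (M G : Over (Spec (CommRingCat.of k))) [MonObj M] [LocallyOfFiniteType M.hom] [QuasiCompact M.hom]
    [GeometricallyIntegral M.hom] (i : G ⟶ M) [Mono i]
    (hi : ∀ (T : Over (Spec (CommRingCat.of k))) (m : T ⟶ M), (∃ g : T ⟶ G, g ≫ i = m) ↔ IsUnit m) :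
    IsOpenImmersion i.left := by
  haveI := locallyOfFinitePresentation_units i hi
  haveI : Mono i.left := inferInstanceAs (Mono ((Over.forget _).map i))
  haveI : Etale i.left := ⟨fun {V} hV {U} hU e => by
    letI := (i.left.appLE V U e).hom.toAlgebra
    show Algebra.Etale Γ(M.left, V) Γ(G.left, U)
    exact ⟨formallyEtale_appLE i hi ⟨V, hV⟩ ⟨U, hU⟩ e,
      RingHom.finitePresentation_algebraMap.1 (HasRingHomProperty.appLE (P := @LocallyOfFinitePresentation)
        i.left inferInstance ⟨V, hV⟩ ⟨U, hU⟩ e)⟩⟩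
  exact IsOpenImmersion.of_flat_of_mono i.left

end Groth.Agent.S18817
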