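import Groth.Statements.S18818
import Groth.Agent.Comod.Transfer

set_option autoImplicit false
universe u v w
open TensorProduct
open HopfRep

namespace Groth.Agent.S18818

open Groth.Agent.Comod
open scoped Groth.Agent.Comod

/-- Let k be a field, C a k-coalgebra and V a right C-comodule which is semisimple in the sense that
every subcomodule has a complementary subcomodule (equivalently every injective comodule map into V
splits). Then V is completely reducible: V is the sum of its simple subcomodules, the nonzero
subcomodules W whose only subcomodules are 0 and W. (The source states this for representations of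
an affine monoid scheme over k, i.e. left comodules over its coordinate bialgebra; the converse
implication and the stability of the class under subobjects and quotients are not part of this row.) -/
theorem result (k : Type u) [Field k]
    (C : Type v) [AddCommGroup C] [Module k C] [Coalgebra k C]
    (V : Type w) [AddCommGroup V] [Module k V] [HopfRep.Comod k C V] (hV : HopfRep.IsSemisimpleComod k C V) :
    (⨆ W : {W : Submodule k V // HopfRep.IsSubcomod (k := k) (A := C) W ∧ W ≠ ⊥ ∧
        ∀ W' : Submodule k V, HopfRep.IsSubcomod (k := k) (A := C) W' → W' ≤ W → W' = ⊥ ∨ W' = W},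
      (W.1 : Submodule k V)) = ⊤ := by
  have := (isSemisimpleComod_iff k C V).mp hV
  rw [eq_top_iff]
  intro v _
  have hv : v ∈ ofDSub (⨆ m : {m : Submodule (CDual k C) V // IsSimpleModule (CDual k C) m}, m.1) := by
    rw [mem_ofDSub]
    have := IsSemisimpleModule.sSup_simples_eq_top (CDual k C) V
    rw [sSup_eq_iSup'] at this
    exact this ▸ Submodule.mem_top
  rw [ofDSub_iSup] at hv
  refine SetLike.le_def.mp (iSup_le fun m => ?_) hv
  have h := (minimal_iff (isSubcomod_ofDSub m.1)).mpr m.2
  exact le_iSup_of_le (⟨ofDSub m.1, isSubcomod_ofDSub m.1, h⟩ : {W : Submodule k V //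
    HopfRep.IsSubcomod (k := k) (A := C) W ∧ W ≠ ⊥ ∧ ∀ W' : Submodule k V,
      HopfRep.IsSubcomod (k := k) (A := C) W' → W' ≤ W → W' = ⊥ ∨ W' = W}) le_rfl

end Groth.Agent.S18818
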