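import Groth.Statements.S18819
import Groth.Agent.Comod.Transfer

set_option autoImplicit false
universe u v w w'
open TensorProduct
open HopfRep

namespace Groth.Agent.S18819

open Groth.Agent.Comod
open scoped Groth.Agent.Comod

/-- Let k be a field, C a k-coalgebra and V a right C-comodule which is the sum of finitely many simple
subcomodules, given as the images of comodule maps g_i : K_i → V (i < n) from simple comodules K_i.
If S is a simple comodule and f : S → V a nonzero comodule map (so that its image is a simple
subcomodule of V), then S is isomorphic as a comodule to some K_i: there is a k-linear isomorphism S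
≃ K_i commuting with the coactions. (The source states this for representations of an affine monoid
scheme over k with the subrepresentations given as subspaces; here the simple subcomodules are
presented as images of maps from simple comodules.) -/
theorem result (k : Type u) [Field k]
    (C : Type v) [AddCommGroup C] [Module k C] [Coalgebra k C]
    (V : Type w) [AddCommGroup V] [Module k V] [HopfRep.Comod k C V]
    {n : ℕ} (K : Fin n → Type w') [∀ i, AddCommGroup (K i)] [∀ i, Module k (K i)] [∀ i, HopfRep.Comod k C (K i)]
    (hK : ∀ i, HopfRep.IsSimpleComod k C (K i)) (g : ∀ i, K i →ₗ[k] V) (hg : ∀ i, Hoch.IsComodHom C (g i))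
    (hsum : (⨆ i, LinearMap.range (g i)) = ⊤)
    (S : Type w') [AddCommGroup S] [Module k S] [HopfRep.Comod k C S] (hS : HopfRep.IsSimpleComod k C S)
    (f : S →ₗ[k] V) (hf : Hoch.IsComodHom C f) (hf0 : f ≠ 0) :
    ∃ (i : Fin n) (e : S ≃ₗ[k] K i), Hoch.IsComodHom C (e : S →ₗ[k] K i) := by
  have hSs := (isSimpleComod_iff k C S).mp hS
  have hKs := fun i => (isSimpleComod_iff k C (K i)).mp (hK i)
  let F := toDHom f hf
  let G := fun i => toDHom (g i) (hg i)
  have hF : Function.Injective F := (LinearMap.injective_or_eq_zero F).resolve_right fun h =>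
    hf0 (LinearMap.ext fun v => LinearMap.congr_fun h v)
  let eF := LinearEquiv.ofInjective F hF
  have : IsSimpleModule (CDual k C) (LinearMap.range F) := IsSimpleModule.congr (R := CDual k C) eF.symm
  let s : Set (Submodule (CDual k C) V) := {m | ∃ i, G i ≠ 0 ∧ LinearMap.range (G i) = m}
  have hinj : ∀ i, G i ≠ 0 → Function.Injective (G i) := fun i h =>
    (LinearMap.injective_or_eq_zero (G i)).resolve_right h
  have : ∀ m : s, IsSimpleModule (CDual k C) (m : Submodule (CDual k C) V) := by
    rintro ⟨m, i, hi, rfl⟩
    exact IsSimpleModule.congr (R := CDual k C) (LinearEquiv.ofInjective (G i) (hinj i hi)).symm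
  have hle : LinearMap.range F ≤ sSup s := fun x _ => by
    refine (?_ : (⊤ : Submodule k V) ≤ ofDSub (sSup s)) (Submodule.mem_top : x ∈ _)
    rw [← hsum, iSup_le_iff]
    rintro i _ ⟨y, rfl⟩
    by_cases h : G i = 0
    · rw [show g i y = 0 from LinearMap.congr_fun h y]; exact zero_mem _
    · exact (le_sSup (show LinearMap.range (G i) ∈ s from ⟨i, h, rfl⟩)) ⟨y, rfl⟩
  obtain ⟨m, ⟨i, hi, rfl⟩, ⟨e⟩⟩ := (LinearMap.range F).linearEquiv_of_le_sSup s hle
  let E := eF ≪≫ₗ e ≪≫ₗ (LinearEquiv.ofInjective (G i) (hinj i hi)).symm
  exact ⟨i, E.restrictScalars k, isComodHom_ofDHom E.toLinearMap⟩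

end Groth.Agent.S18819
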