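import Groth.Statements.S1882
import Groth.Agent.GrpdField.Uniq
import Groth.Agent.GrpdField.Stalk

set_option autoImplicit false
universe u
open CategoryTheory CategoryTheory.Limits AlgebraicGeometry
open Grpd

namespace Groth.Agent.S1882

/-- Let (U, R, s, t, c) be a groupoid scheme over S with U isomorphic to the spectrum of a field k. Then
every local ring of R has exactly one minimal prime ideal, and exactly one irreducible component of
R passes through the identity point e. (The published statement has a third part, geometric
irreducibility of that component over k, which is not stated here.) (A groupoid scheme carries U, R,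
s, t, c, e, i over S with the groupoid axioms on T-points.) -/
theorem result (S : Scheme.{u}) (G : Grpd.GroupoidScheme S) (k : Type u) [Field k] (eU : G.U ≅ Spec (CommRingCat.of k)) : (∀ r : G.R, (minimalPrimes (G.R.presheaf.stalk r)).Subsingleton) ∧ ∃! Z : Set G.R, Z ∈ irreducibleComponents (G.R : Type u) ∧ G.e (eU.inv (IsLocalRing.closedPoint k)) ∈ Z := by

  have hu := Groth.Agent.GrpdField.uniq_R G eU
  exact ⟨fun r => Groth.Agent.GrpdField.minimalPrimes_subsingleton hu r, irreducibleComponent _,
    ⟨irreducibleComponent_mem_irreducibleComponents _, mem_irreducibleComponent⟩,
    fun Z hZ => hu _ Z hZ.1 hZ.2⟩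

end Groth.Agent.S1882
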