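import Groth.Statements.S18821
import Mathlib

set_option autoImplicit false
universe u
open CategoryTheory MonoidalCategory CartesianMonoidalCategory MonObj AlgebraicGeometry
open AlgGrp

namespace Groth.Agent.S18821

/-- Let k be a commutative ring and M a monoid k-scheme (a monoid object in k-schemes). Then the group
k-functor of units T ↦ M(T)^× is representable by a k-scheme: there are a k-scheme G and a
monomorphism i : G → M such that, for every k-scheme T, a T-valued point of M factors through i if
and only if it is invertible in the monoid M(T). If moreover M is affine then G is affine. -/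
theorem result (k : Type u) [CommRing k]
    (M : Over (Spec (CommRingCat.of k))) [MonObj M] :
    ∃ (G : Over (Spec (CommRingCat.of k))) (i : G ⟶ M), Mono i ∧
      (∀ (T : Over (Spec (CommRingCat.of k))) (m : T ⟶ M), (∃ g : T ⟶ G, g ≫ i = m) ↔ IsUnit m) ∧
      (IsAffine M.left → IsAffine G.left) := by
  let α : M ⊗ M ⟶ M ⊗ M := lift (fst M M * snd M M) (snd M M * fst M M)
  let β : 𝟙_ (Over (Spec (CommRingCat.of k))) ⟶ M ⊗ M := lift (η : 𝟙_ _ ⟶ M) η
  let i : Limits.pullback α β ⟶ M := Limits.pullback.fst α β ≫ fst M M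
  have hone : ∀ T : Over (Spec (CommRingCat.of k)), (1 : T ⟶ M) = toUnit T ≫ η := fun _ => rfl
  have hα : ∀ {T : Over (Spec (CommRingCat.of k))} (a b : T ⟶ M),
      lift a b ≫ α = lift (a * b) (b * a) := by
    intro T a b
    apply CartesianMonoidalCategory.hom_ext <;> simp [α, MonObj.comp_mul]
  have hβ : ∀ T : Over (Spec (CommRingCat.of k)),
      toUnit T ≫ β = lift (1 : T ⟶ M) 1 := by
    intro T
    apply CartesianMonoidalCategory.hom_ext <;> simp [β, hone]
  have hG : ∀ {T : Over (Spec (CommRingCat.of k))} (g : T ⟶ Limits.pullback α β),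
      (g ≫ i) * (g ≫ Limits.pullback.fst α β ≫ snd M M) = 1 ∧
        (g ≫ Limits.pullback.fst α β ≫ snd M M) * (g ≫ i) = 1 := by
    intro T g
    have h := congrArg (g ≫ ·) (Limits.pullback.condition (f := α) (g := β))
    replace h : g ≫ Limits.pullback.fst α β ≫ α = g ≫ Limits.pullback.snd α β ≫ β := h
    rw [← Category.assoc, ← Category.assoc g, toUnit_unique (g ≫ Limits.pullback.snd α β) (toUnit T),
      hβ, show g ≫ Limits.pullback.fst α β = lift (g ≫ i) (g ≫ Limits.pullback.fst α β ≫ snd M M) from
        CartesianMonoidalCategory.hom_ext _ _ (by simp [i]) (by simp), hα] at h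
    exact ⟨by simpa using congrArg (· ≫ fst M M) h, by simpa using congrArg (· ≫ snd M M) h⟩
  refine ⟨Limits.pullback α β, i, ⟨fun {T} g g' h => ?_⟩, fun T m => ⟨?_, ?_⟩, fun hM => ?_⟩
  · obtain ⟨h1, h2⟩ := hG g
    obtain ⟨h1', h2'⟩ := hG g'
    apply Limits.pullback.hom_ext
    · refine CartesianMonoidalCategory.hom_ext _ _ (by simpa [i] using h) ?_
      simp only [Category.assoc]
      rw [h] at h2
      exact left_inv_eq_right_inv h2 h1'
    · exact toUnit_unique _ _
  · rintro ⟨g, rfl⟩
    exact ⟨⟨_, _, (hG g).1, (hG g).2⟩, rfl⟩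
  · rintro ⟨u, rfl⟩
    refine ⟨Limits.pullback.lift (lift (u : T ⟶ M) ((u⁻¹ : (T ⟶ M)ˣ) : T ⟶ M)) (toUnit T) ?_, ?_⟩
    · rw [hα, hβ, Units.mul_inv, Units.inv_mul]
    · show _ ≫ Limits.pullback.fst α β ≫ fst M M = _
      rw [Limits.pullback.lift_fst_assoc, lift_fst]
  · have : IsAffine (M ⊗ M).left :=
      IsAffine.of_isIso (show (M ⊗ M).left ⟶ Limits.pullback M.hom M.hom from 𝟙 _)
    have : IsAffine (𝟙_ (Over (Spec (CommRingCat.of k)))).left :=
      inferInstanceAs (IsAffine (Spec (CommRingCat.of k)))
    have : IsAffine (Limits.pullback α.left β.left) := inferInstance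
    let e : (Limits.pullback α β).left ≅ Limits.pullback α.left β.left :=
      Limits.PreservesPullback.iso (Over.forget _) α β
    exact IsAffine.of_isIso e.hom

end Groth.Agent.S18821
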