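import Groth.Statements.S18822
import Mathlib.CategoryTheory.Sites.SubcanonicalOver
import Mathlib.AlgebraicGeometry.Sites.BigZariski


set_option autoImplicit false
set_option backward.isDefEq.respectTransparency false
universe u
open CategoryTheory MonoidalCategory CartesianMonoidalCategory MonObj AlgebraicGeometry Opposite
open Magnet

namespace Groth.Agent.S18822

/-- Let k be a commutative ring, M a monoid k-scheme and X a k-scheme with an action a of M. Then the
fixed-point subpresheaf X^M of X, whose T-valued points are the k-morphisms x : T → X such that g ·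
(x ∘ t) = x ∘ t for every k-scheme T', every t : T' → T and every T'-valued point g of M, is a sheaf
for the Zariski topology on k-schemes (the topology induced on schemes over Spec k). -/
theorem result (k : Type u) [CommRing k]
    (M X : Over (Spec (CommRingCat.of k))) [MonObj M] (a : Magnet.MonAct M X) :
    Presheaf.IsSheaf (Scheme.zariskiTopology.over (Spec (CommRingCat.of k))) (Magnet.MonAct.fixedPsh a) := by
  rw [isSheaf_iff_isSheaf_of_type]
  intro T s hs
  have hX : Presieve.IsSheaf (Scheme.zariskiTopology.over (Spec (CommRingCat.of k))) (yoneda.obj X) :=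
    GrothendieckTopology.Subcanonical.isSheaf_of_isRepresentable _
  intro fam hfam
  let fam' : Presieve.FamilyOfElements (yoneda.obj X) s.arrows := fun W f hf => (fam f hf).1
  have hfam' : fam'.Compatible := fun _ _ _ g₁ g₂ _ _ h₁ h₂ e => congrArg Subtype.val (hfam g₁ g₂ h₁ h₂ e)
  obtain ⟨x, hx, hxu⟩ := hX s hs fam' hfam'
  refine ⟨⟨x, fun T' t g => ?_⟩, fun W f hf => Subtype.ext (hx f hf),
    fun y hy => Subtype.ext (hxu y.1 fun W f hf => congrArg Subtype.val (hy f hf))⟩
  refine (hX (s.pullback t) (GrothendieckTopology.pullback_stable _ t hs)).isSeparatedFor.ext fun W w hw => ?_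
  have h1 := (fam (w ≫ t) hw).2 W (𝟙 W) (w ≫ g)
  have h2 : (w ≫ t) ≫ x = (fam (w ≫ t) hw).1 := hx (w ≫ t) hw
  show w ≫ lift g (t ≫ x) ≫ a.act = w ≫ t ≫ x
  rw [Category.id_comp] at h1
  rw [comp_lift_assoc, ← Category.assoc w t x, h2]
  exact h1

end Groth.Agent.S18822
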