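import Groth.Statements.S18823
import Groth.Agent.AntiAffRig.Basic
import Groth.Agent.NeronGen.Dense
import Mathlib

set_option autoImplicit false
universe u
open CategoryTheory MonoidalCategory CartesianMonoidalCategory AlgebraicGeometry
open AlgGrp
set_option backward.isDefEq.respectTransparency false

namespace Groth.Agent.S18823

/-- Let k be a field, X a separated k-scheme, M a k-scheme (in the source a monoid k-scheme) acting on X
through a : M ×_k X → X, and i : G → M a morphism of k-schemes which is a scheme-theoretically
dominant open immersion: no nonzero quasi-coherent ideal of O_M restricts to zero on G (for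
quasi-compact i this is the usual schematic density, O_M → i_*O_G injective; in the source G is the
group of units of M, open and schematically dense). For a k-scheme T and a T-valued point x of X, x
is fixed under M, i.e. a ∘ (id_M × x) = x ∘ pr_T on M ×_k T, if and only if x is fixed under G, i.e.
a ∘ (i × x) = x ∘ pr_T on G ×_k T. Thus the fixed-point subpresheaves X^M and X^G of X are equal.
(The published statement has no separatedness assumption on X and reduces to points landing in an
affine open; the step asserting that the equalizer of the two maps M ×_k T → X is closed uses that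
the target is separated, so X is taken separated here, the case the printed argument establishes.
The monoid structure and the action axioms play no role in that argument and are not assumed.) -/
theorem result (k : Type u) [Field k]
    (M G X : Over (Spec (CommRingCat.of k))) [IsSeparated X.hom] (a : M ⊗ X ⟶ X) (i : G ⟶ M)
    [IsOpenImmersion i.left] [IsSchemeTheoreticallyDominant i.left]
    (T : Over (Spec (CommRingCat.of k))) (x : T ⟶ X) :
    (M ◁ x) ≫ a = CartesianMonoidalCategory.snd M T ≫ x ↔
      (G ◁ x) ≫ (i ▷ X) ≫ a = CartesianMonoidalCategory.snd G T ≫ x := by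
  refine ⟨fun h => ?_, fun h => ?_⟩
  · rw [← Category.assoc, whisker_exchange, Category.assoc, h, ← Category.assoc, whiskerRight_snd]
  · let Δ : X ⟶ X ⊗ X := lift (𝟙 X) (𝟙 X)
    haveI : IsClosedImmersion Δ.left := by
      have hΔ : Δ.left = Limits.pullback.diagonal X.hom := by
        apply Limits.pullback.hom_ext <;> simp [Δ]
      rw [hΔ]
      infer_instance
    let f : T ⊗ M ⟶ X ⊗ X := lift ((β_ T M).hom ≫ (M ◁ x) ≫ a) (fst T M ≫ x)
    obtain ⟨W, j, hj, hW⟩ := ClosedRep.exists_closed_preimage_essFree f Δ (AntiAffRig.isEssentiallyFree_field T.hom)
    have key : ∀ (T'' : Over (Spec (CommRingCat.of k))) (m : T'' ⟶ M) (t : T'' ⟶ T),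
        (∃ b, lift t m ≫ f = b ≫ Δ) ↔ lift m (t ≫ x) ≫ a = t ≫ x := by
      intro T'' m t
      have e1 : lift t m ≫ f = lift (lift m (t ≫ x) ≫ a) (t ≫ x) := by
        ext1
        · simp [f]
        · simp [f]
      rw [e1]
      constructor
      · rintro ⟨b, hb⟩
        have h1 := congrArg (· ≫ fst X X) hb
        have h2 := congrArg (· ≫ snd X X) hb
        simp [Δ] at h1 h2
        exact h1.trans h2.symm
      · intro e
        exact ⟨t ≫ x, by rw [e]; ext <;> simp [Δ]⟩
    obtain ⟨l, hl⟩ := (hW G i).mpr fun T'' g t => (key T'' (g ≫ i) t).mpr (by
      have e := congrArg (fun q => lift g t ≫ q) h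
      simp at e
      exact e)
    haveI : IsIso j.left := NeronGen.isIso_of_factors j.left i.left l.left (by rw [← hl]; rfl)
    haveI : IsIso j := by
      haveI : IsIso ((Over.forget _).map j) := ‹IsIso j.left›
      exact isIso_of_reflects_iso j (Over.forget _)
    have h3 := (key (M ⊗ T) (fst M T) (snd M T)).mp (by
      have := (hW M (𝟙 M)).mp ⟨inv j, IsIso.inv_hom_id j⟩ (M ⊗ T) (fst M T) (snd M T)
      simpa using this)
    rw [← h3]
    congr 1

end Groth.Agent.S18823
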