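import Groth.Statements.S18824
import Groth.Agent.GrpAct.Basic
import Groth.Agent.Assoc.Kernel

set_option autoImplicit false
universe u
open CategoryTheory MonoidalCategory CartesianMonoidalCategory MonObj AlgebraicGeometry
open AlgGrp

namespace Groth.Agent.S18824

/-- Let k be a field, G a locally algebraic group over k (a group k-scheme locally of finite type)
acting on a k-scheme X through a : G ×_k X → X, and U an open subset of X. Let G·U ⊆ X be the image
under a of G ×_k U (the preimage of U under the projection). Then G·U is open in X, contains U, is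
G-stable in the sense that a maps G ×_k (G·U) into G·U, and is the smallest such set: every G-stable
open subset of X containing U contains G·U. -/
theorem result (k : Type u) [Field k]
    (G X : Over (Spec (CommRingCat.of k))) [GrpObj G] [LocallyOfFiniteType G.hom] (a : AlgGrp.Action G X)
    (U : Set ↥X.left) (hU : IsOpen U) :
    IsOpen (a.act.left.base '' ((CartesianMonoidalCategory.snd G X).left.base ⁻¹' U)) ∧
      U ⊆ a.act.left.base '' ((CartesianMonoidalCategory.snd G X).left.base ⁻¹' U) ∧
      a.act.left.base '' ((CartesianMonoidalCategory.snd G X).left.base ⁻¹'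
          (a.act.left.base '' ((CartesianMonoidalCategory.snd G X).left.base ⁻¹' U))) ⊆
        a.act.left.base '' ((CartesianMonoidalCategory.snd G X).left.base ⁻¹' U) ∧
      ∀ W : Set ↥X.left, IsOpen W → U ⊆ W →
        a.act.left.base '' ((CartesianMonoidalCategory.snd G X).left.base ⁻¹' W) ⊆ W →
          a.act.left.base '' ((CartesianMonoidalCategory.snd G X).left.base ⁻¹' U) ⊆ W := by
  haveI : IsLocallyNoetherian (Spec (CommRingCat.of k)) := inferInstance
  haveI : LocallyOfFinitePresentation G.hom := (LocallyOfFinitePresentation.iff_locallyOfFiniteType (f := G.hom)).2 inferInstance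
  haveI : UniversallyOpen G.hom := inferInstance
  haveI : UniversallyOpen (snd G X).left := inferInstanceAs (UniversallyOpen (Limits.pullback.snd G.hom X.hom))
  let φ : G ⊗ X ≅ G ⊗ X :=
    { hom := lift (fst G X) a.act
      inv := lift (fst G X) (lift (fst G X)⁻¹ (snd G X) ≫ a.act)
      hom_inv_id := by
        apply CartesianMonoidalCategory.hom_ext
        · simp
        · rw [Category.assoc, lift_snd, GrpAct.comp_smul, GrpObj.comp_inv, lift_fst, lift_snd, Category.id_comp]
          have h : a.act = lift (fst G X) (snd G X) ≫ a.act := by rw [lift_fst_snd, Category.id_comp]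
          rw [show lift (fst G X)⁻¹ a.act = lift (fst G X)⁻¹ (lift (fst G X) (snd G X) ≫ a.act) by rw [← h],
            ← GrpAct.mul_smul, inv_mul_cancel, GrpAct.one_smul']
      inv_hom_id := by
        apply CartesianMonoidalCategory.hom_ext
        · simp
        · rw [Category.assoc, lift_snd, Category.id_comp]
          have h : lift (fst G X) (lift (fst G X)⁻¹ (snd G X) ≫ a.act) ≫ a.act = snd G X := by
            rw [← GrpAct.mul_smul, mul_inv_cancel, GrpAct.one_smul']
          exact h }
  have hact : a.act.left = φ.hom.left ≫ (snd G X).left := by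
    rw [← Over.comp_left, lift_snd]
  haveI : IsIso φ.hom.left := ((Over.forget _).mapIso φ).isIso_hom
  haveI : UniversallyOpen a.act.left := by rw [hact]; infer_instance
  have hone : ∀ x : X.left, ∃ z, (snd G X).left z = x ∧ a.act.left z = x := fun x => by
    refine ⟨(lift (1 : X ⟶ G) (𝟙 X)).left x, ?_, ?_⟩
    · rw [← Scheme.Hom.comp_apply, ← Over.comp_left, lift_snd]; rfl
    · rw [← Scheme.Hom.comp_apply, ← Over.comp_left, GrpAct.one_smul']; rfl
  refine ⟨a.act.left.isOpenMap _ (hU.preimage (snd G X).left.continuous), fun x hx => ?_, ?_, ?_⟩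
  · obtain ⟨z, hz, hz'⟩ := hone x
    exact ⟨z, by rw [Set.mem_preimage, hz]; exact hx, hz'⟩
  · rintro _ ⟨z, ⟨w, hw, hwz⟩, rfl⟩
    have hP : IsPullback (G ◁ a.act).left (snd G (G ⊗ X)).left (snd G X).left a.act.left :=
      (Assoc.isPullback_whiskerLeft (Z := G) a.act).flip
    obtain ⟨q, hq₁, hq₂⟩ := Scheme.Pullback.exists_preimage_pullback (f := (snd G X).left) (g := a.act.left) z w hwz.symm
    obtain ⟨q', rfl⟩ : ∃ q', hP.isoPullback.hom q' = q :=
      ⟨hP.isoPullback.inv q, by rw [← Scheme.Hom.comp_apply, Iso.inv_hom_id]; rfl⟩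
    rw [← Scheme.Hom.comp_apply, hP.isoPullback_hom_fst] at hq₁
    rw [← Scheme.Hom.comp_apply, hP.isoPullback_hom_snd] at hq₂
    let m : G ⊗ (G ⊗ X) ⟶ G ⊗ X :=
      lift (fst G (G ⊗ X) * (snd G (G ⊗ X) ≫ fst G X)) (snd G (G ⊗ X) ≫ snd G X)
    refine ⟨m.left q', ?_, ?_⟩
    · rw [Set.mem_preimage, ← Scheme.Hom.comp_apply, ← Over.comp_left, lift_snd, Over.comp_left,
        Scheme.Hom.comp_apply, hq₂]
      exact hw
    · rw [← hq₁, ← Scheme.Hom.comp_apply, ← Scheme.Hom.comp_apply, ← Over.comp_left, ← Over.comp_left]
      refine congrArg (fun f : G ⊗ (G ⊗ X) ⟶ X => f.left q') ?_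
      rw [GrpAct.mul_smul, ← comp_lift, lift_fst_snd, Category.comp_id]
      congr 1
  · intro W _ hUW hW
    exact (Set.image_mono (Set.preimage_mono hUW)).trans hW

end Groth.Agent.S18824
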