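import Groth.Statements.S18826
import Groth.Agent.GrpAct.OrbitFlat
import Groth.Agent.Blanchard.Main

set_option autoImplicit false
universe u
open CategoryTheory MonoidalCategory CartesianMonoidalCategory MonObj AlgebraicGeometry
open AlgGrp

namespace Groth.Agent.S18826

theorem of_pullback {P : MorphismProperty Scheme.{u}} [P.IsStableUnderBaseChange] {X Y Z A : Scheme.{u}}
    (f : X ⟶ Y) (U : Y.Opens) (hU : P (f ∣_ U)) (g : Z ⟶ Y) (g' : Z ⟶ U.toScheme) (e : g' ≫ U.ι = g)
    {l : A ⟶ X} {p : A ⟶ Z} (h : IsPullback l p f g) : P p := by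
  have sq := (isPullback_morphismRestrict f U).flip
  have h' : IsPullback (sq.lift l (p ≫ g') (by rw [h.w, Category.assoc, e])) p (f ∣_ U) g' := by
    refine IsPullback.of_right ?_ (sq.lift_snd _ _ _) sq
    rw [sq.lift_fst, e]
    exact h
  exact MorphismProperty.of_isPullback h' hU

set_option backward.isDefEq.respectTransparency false in
theorem main (k : Type u) [Field k]
    (G X Y : Over (Spec (CommRingCat.of k))) [GrpObj G] [LocallyOfFiniteType G.hom]
    (aX : AlgGrp.Action G X) (aY : AlgGrp.Action G Y) (f : X ⟶ Y) (hf : (G ◁ f) ≫ aY.act = aX.act ≫ f)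
    (P : MorphismProperty Scheme.{u}) [IsZariskiLocalAtTarget P] [P.IsStableUnderBaseChange]
    [P.DescendsAlong (@Flat ⊓ @Surjective ⊓ @UniversallyOpen)] :
    ∃ V : Y.left.Opens, P (f.left ∣_ V) ∧ (∀ V' : Y.left.Opens, P (f.left ∣_ V') → V' ≤ V) ∧
      (CartesianMonoidalCategory.snd G Y).left ⁻¹ᵁ V ≤ aY.act.left ⁻¹ᵁ V := by
  let J := {V : Y.left.Opens // P (f.left ∣_ V)}
  let V : Y.left.Opens := ⨆ i : J, i.1
  have hV : P (f.left ∣_ V) := by
    refine IsZariskiLocalAtTarget.of_iSup_eq_top (fun i : J => V.ι ⁻¹ᵁ i.1) ?_ fun i => ?_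
    · rw [← Scheme.Hom.preimage_iSup]
      exact Scheme.Opens.ι_preimage_self V
    · exact of_pullback f.left i.1 i.2 _ (V.ι ∣_ i.1) (morphismRestrict_ι V.ι i.1)
        ((isPullback_morphismRestrict (f.left ∣_ V) _).flip.paste_horiz (isPullback_morphismRestrict f.left V).flip)
  refine ⟨V, hV, fun V' h => le_iSup (fun i : J => i.1) ⟨V', h⟩, ?_⟩
  have sq2 : IsPullback (snd G X).left (G ◁ f).left f.left (snd G Y).left :=
    (Groth.Agent.Blanchard.isPullback_whiskerLeft G f).map (Over.forget _)
  have hsX : aX.act = (Groth.Agent.GrpAct.actShear aX).hom ≫ snd G X := by simp [Groth.Agent.GrpAct.actShear]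
  have hsY : aY.act = (Groth.Agent.GrpAct.actShear aY).hom ≫ snd G Y := by simp [Groth.Agent.GrpAct.actShear]
  have hsh : (Groth.Agent.GrpAct.actShear aX).hom ≫ (G ◁ f) = (G ◁ f) ≫ (Groth.Agent.GrpAct.actShear aY).hom := by
    apply CartesianMonoidalCategory.hom_ext <;> simp [Groth.Agent.GrpAct.actShear, hf]
  let eX := (Over.forget _).mapIso (Groth.Agent.GrpAct.actShear aX)
  let eY := (Over.forget _).mapIso (Groth.Agent.GrpAct.actShear aY)
  have sq1 : IsPullback aX.act.left (G ◁ f).left f.left aY.act.left := by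
    rw [hsX, hsY, Over.comp_left, Over.comp_left]
    exact IsPullback.paste_horiz (IsPullback.of_horiz_isIso (fst := eX.hom) (g := eY.hom)
      ⟨congr(($hsh).left)⟩) sq2
  let O : (G ⊗ Y).left.Opens := (snd G Y).left ⁻¹ᵁ V
  have hO : P ((G ◁ f).left ∣_ O) :=
    of_pullback f.left V hV _ ((snd G Y).left ∣_ V) (morphismRestrict_ι _ _)
      ((isPullback_morphismRestrict (G ◁ f).left O).flip.paste_horiz sq2)
  have hflat : Flat aY.act.left := by
    have : Flat (snd G Y).left := MorphismProperty.pullback_snd (P := @Flat) G.hom Y.hom inferInstance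
    have : IsIso (Groth.Agent.GrpAct.actShear aY).hom.left := eY.isIso_hom
    rw [hsY, Over.comp_left]
    infer_instance
  have hopen : UniversallyOpen aY.act.left := by
    have : UniversallyOpen (snd G Y).left := MorphismProperty.pullback_snd (P := @UniversallyOpen) G.hom Y.hom inferInstance
    have : IsIso (Groth.Agent.GrpAct.actShear aY).hom.left := eY.isIso_hom
    rw [hsY, Over.comp_left]
    infer_instance
  let W : Y.left.Opens := ⟨aY.act.left '' O, aY.act.left.isOpenMap _ O.2⟩
  let r := aY.act.left.resLE W O (fun z hz => ⟨z, hz, rfl⟩)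
  have hr : r ≫ W.ι = O.ι ≫ aY.act.left := Scheme.Hom.resLE_comp_ι _ _
  have hrs : Surjective r := ⟨fun w => by
    obtain ⟨z, hz, he⟩ := w.2
    exact ⟨⟨z, hz⟩, W.ι.isOpenEmbedding.injective ((congr($hr ⟨z, hz⟩)).trans he)⟩⟩
  have sqr : IsPullback (𝟙 O.toScheme) r (r ≫ W.ι) W.ι := by
    refine ⟨⟨by simp⟩, ⟨Limits.PullbackCone.IsLimit.mk _ (fun s => s.fst) (fun s => by simp) (fun s => ?_)
      (fun s m h _ => by simpa using h)⟩⟩
    rw [← cancel_mono W.ι, Category.assoc, s.condition]
  have hrf : Flat r := MorphismProperty.of_isPullback (P := @Flat) sqr (by rw [hr]; infer_instance)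
  have hro : UniversallyOpen r := MorphismProperty.of_isPullback (P := @UniversallyOpen) sqr (by rw [hr]; infer_instance)
  have sqW := (isPullback_morphismRestrict f.left W).flip
  have h3 := (isPullback_morphismRestrict (G ◁ f).left O).flip.paste_horiz sq1
  have h4 : IsPullback (sqW.lift ((_ : _ ⟶ _) ≫ aX.act.left) (((G ◁ f).left ∣_ O) ≫ r)
      (by rw [h3.w, Category.assoc, hr])) ((G ◁ f).left ∣_ O) (f.left ∣_ W) r := by
    refine IsPullback.of_right ?_ (sqW.lift_snd _ _ _) sqW
    rw [sqW.lift_fst, hr]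
    exact h3
  have hW : P (f.left ∣_ W) :=
    MorphismProperty.of_isPullback_of_descendsAlong (P := P) (Q := @Flat ⊓ @Surjective ⊓ @UniversallyOpen) h4.flip
      ⟨⟨hrf, hrs⟩, hro⟩ hO
  exact fun z hz => le_iSup (fun i : J => i.1) ⟨W, hW⟩ ⟨z, hz, rfl⟩

/-- Let k be a field, G a locally algebraic group over k (a group k-scheme locally of finite type)
acting on k-schemes X and Y, and f : X → Y a G-equivariant k-morphism. Let P be a property of
morphisms of schemes which is local on the target for the Zariski topology, stable under base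
change, and descends along flat surjective universally open morphisms (the published hypothesis is
descent along fpqc morphisms; the printed argument descends only along the restriction G ×_k U → G·U
of the action, which is flat, surjective and universally open). Then there is a largest open subset
V of Y such that the restriction f⁻¹(V) → V of f has P, and this V is G-stable: the action G ×_k Y →
Y maps G ×_k V into V. -/
theorem result (k : Type u) [Field k]
    (G X Y : Over (Spec (CommRingCat.of k))) [GrpObj G] [LocallyOfFiniteType G.hom]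
    (aX : AlgGrp.Action G X) (aY : AlgGrp.Action G Y) (f : X ⟶ Y) (hf : (G ◁ f) ≫ aY.act = aX.act ≫ f)
    (P : MorphismProperty Scheme.{u}) [IsZariskiLocalAtTarget P] [P.IsStableUnderBaseChange]
    [P.DescendsAlong (@Flat ⊓ @Surjective ⊓ @UniversallyOpen)] :
    ∃ V : Y.left.Opens, P (f.left ∣_ V) ∧ (∀ V' : Y.left.Opens, P (f.left ∣_ V') → V' ≤ V) ∧
      (CartesianMonoidalCategory.snd G Y).left ⁻¹ᵁ V ≤ aY.act.left ⁻¹ᵁ V := by
  exact main k G X Y aX aY f hf P

end Groth.Agent.S18826
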