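import Groth.Statements.S18830


set_option autoImplicit false
universe u
open CategoryTheory MonoidalCategory CartesianMonoidalCategory MonObj AlgebraicGeometry
open AlgGrp

namespace Groth.Agent.S18830

/-- Let k be a field and M an algebraic monoid over k (a monoid k-scheme of finite type). Let i : G → M
be its group of units: a monomorphism of k-schemes through which a T-valued point of M factors if
and only if it is invertible in the monoid M(T). Then G is of finite type over k, i.e. the unit
group is an algebraic group. -/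
theorem result (k : Type u) [Field k]
    (M G : Over (Spec (CommRingCat.of k))) [MonObj M] [LocallyOfFiniteType M.hom] [QuasiCompact M.hom]
    (i : G ⟶ M) [Mono i]
    (hi : ∀ (T : Over (Spec (CommRingCat.of k))) (m : T ⟶ M), (∃ g : T ⟶ G, g ≫ i = m) ↔ IsUnit m) :
    LocallyOfFiniteType G.hom ∧ QuasiCompact G.hom := by
  obtain ⟨u, hu⟩ := (hi G i).1 ⟨𝟙 G, Category.id_comp i⟩
  let v : G ⟶ M := ↑u⁻¹
  have hv₁ : i * v = 1 := by rw [← hu]; exact u.mul_inv
  have hv₂ : v * i = 1 := by rw [← hu]; exact u.inv_mul
  let m : M ⊗ M ⟶ M ⊗ M := lift (fst M M * snd M M) (snd M M * fst M M)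
  let o : 𝟙_ (Over (Spec (CommRingCat.of k))) ⟶ M ⊗ M := lift 1 1
  have hw : lift i v ≫ m = toUnit G ≫ o := by
    simp only [m, o, comp_lift, MonObj.comp_mul, MonObj.comp_one, lift_fst, lift_snd, hv₁, hv₂]
  have hp : IsPullback (lift i v) (toUnit G) m o := by
    have key : ∀ s : Limits.PullbackCone m o, ∃ g : s.pt ⟶ G, g ≫ lift i v = s.fst := by
      intro s
      have h := s.condition
      simp only [m, o, comp_lift, MonObj.comp_mul, MonObj.comp_one] at h
      have h1 := congrArg (· ≫ fst M M) h
      have h2 := congrArg (· ≫ snd M M) h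
      simp only [lift_fst, lift_snd] at h1 h2
      obtain ⟨g, hg⟩ := (hi _ (s.fst ≫ fst M M)).2 ⟨⟨_, _, h1, h2⟩, rfl⟩
      refine ⟨g, ?_⟩
      apply CartesianMonoidalCategory.hom_ext
      · rw [Category.assoc, lift_fst, hg]
      · rw [Category.assoc, lift_snd]
        refine left_inv_eq_right_inv ?_ h1
        rw [← hg, ← MonObj.comp_mul, hv₂, MonObj.comp_one]
    choose g hg using key
    refine ⟨⟨hw⟩, ⟨Limits.PullbackCone.IsLimit.mk _ g hg (fun s => toUnit_unique _ _) fun s t ht _ => ?_⟩⟩
    rw [← cancel_mono i]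
    have h' := congrArg (· ≫ fst M M) ((ht.trans (hg s).symm))
    simpa using h'
  have hp' := hp.map (Over.forget (Spec (CommRingCat.of k)))
  haveI : Subsingleton (𝟙_ (Over (Spec (CommRingCat.of k)))).left :=
    inferInstanceAs (Subsingleton (PrimeSpectrum k))
  haveI : QuasiCompact o.left := ⟨fun U _ _ => (Set.toFinite (α := ↥(𝟙_ (Over (Spec (CommRingCat.of k)))).left) _).isCompact⟩
  haveI : LocallyOfFiniteType o.left := by
    haveI : LocallyOfFiniteType (o.left ≫ (M ⊗ M).hom) := by
      rw [Over.w]
      exact inferInstanceAs (LocallyOfFiniteType (𝟙 (Spec (CommRingCat.of k))))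
    exact locallyOfFiniteType_of_comp o.left (M ⊗ M).hom
  haveI : QuasiCompact (lift i v).left := MorphismProperty.of_isPullback (P := @QuasiCompact) hp'.flip ‹_›
  haveI : LocallyOfFiniteType (lift i v).left := MorphismProperty.of_isPullback (P := @LocallyOfFiniteType) hp'.flip ‹_›
  haveI : LocallyOfFiniteType (M ⊗ M).hom := inferInstanceAs (LocallyOfFiniteType (Limits.pullback.fst M.hom M.hom ≫ M.hom))
  haveI : QuasiCompact (M ⊗ M).hom := inferInstanceAs (QuasiCompact (Limits.pullback.fst M.hom M.hom ≫ M.hom))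
  rw [← Over.w (lift i v)]
  exact ⟨inferInstance, inferInstance⟩

end Groth.Agent.S18830
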