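import Groth.Statements.S18831
import Groth.Agent.W7Slope.H0Bound

set_option autoImplicit false
universe u
open CategoryTheory CategoryTheory.Limits AlgebraicGeometry
open VBCurve

set_option backward.isDefEq.respectTransparency false
set_option backward.isDefEq.respectTransparency.types false

open Groth.Agent Groth.Agent.CurveRR Groth.Agent.CohFinite CategoryTheory.Limits

namespace Groth.Agent.S18831

/-- Let X be a smooth projective integral curve over an algebraically closed field k of characteristic
zero, and G a finite locally free O_X-module of rank r ≥ 1 which is slope-semistable, of slope μ =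
deg G / r (deg G = χ(G) − r χ(O_X)). Then dim_k H^0(X, G) ≤ r · max(⌊μ⌋ + 1, 0); in particular a
slope-semistable bundle of negative slope has no nonzero global section. -/
theorem result (k : Type u) [Field k] [IsAlgClosed k] [CharZero k]
    (X : Scheme.{u}) [X.Over (Spec (CommRingCat.of k))]
    [IsIntegral X] [IsProper (X ↘ Spec (CommRingCat.of k))] [Smooth (X ↘ Spec (CommRingCat.of k))]
    (hdim : topologicalKrullDim X = 1)
    (r : ℕ) (hr : 0 < r) (G : X.Modules) (hG : FlatMod.IsFinLocFreeOfRank r G)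
    (hss : ModFun.IsSlopeSemistable k X G r) :
    (Module.finrank k (Coh.HH X G 0) : ℤ) ≤
      (r : ℤ) * max (⌊(Curv2.deg k X G r : ℚ) / (r : ℚ)⌋ + 1) 0 := by
  haveI := isNoetherian_of_proper k X
  haveI : JacobsonSpace X := LocallyOfFiniteType.jacobsonSpace (X ↘ Spec (CommRingCat.of k))
  have hX : W7Slope.RegCurve X := W7Slope.regCurve_of_smooth (k := k) hdim
  obtain ⟨P, -, hP⟩ := nonempty_inter_closedPoints (Z := (Set.univ : Set X))
    ⟨genericPoint X, trivial⟩ isClosed_univ.isLocallyClosed
  have hI := isInvertible_pointIdeal hX.dim hP (genericPoint_ne_of_closed (k := k) hdim hP) (hX.reg P)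
  have h1 := h0_quotMod_point (k := k) hP
  set q : ℚ := (Curv2.deg k X G r : ℚ) / (r : ℚ) with hq
  obtain ⟨n, hn⟩ := Int.eq_ofNat_of_zero_le (le_max_right (⌊q⌋ + 1) 0)
  have h2 := W7Slope.h0_le_mul_of_no_line (k := k) hX hP hI h1 (r := r) n hG fun L i hi hL => by
    haveI := hi
    have h3 := W7Slope.sub_le k hss i (isFinLocFreeOfRank_one hL)
    have hrq : (0 : ℚ) < r := by exact_mod_cast hr
    have h4 : ((Curv2.deg k X L 1 : ℤ) : ℚ) ≤ q := by
      rw [hq, le_div_iff₀ hrq]
      have h5 : ((Curv2.deg k X L 1 * (r : ℤ) : ℤ) : ℚ) ≤ ((Curv2.deg k X G r * ((1 : ℕ) : ℤ) : ℤ) : ℚ) :=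
        Int.cast_le.2 h3
      push_cast at h5
      linarith
    have h6 : Curv2.deg k X L 1 ≤ ⌊q⌋ := Int.le_floor.2 h4
    have h7 := le_max_left (⌊q⌋ + 1) (0 : ℤ)
    omega
  rw [hn]
  exact_mod_cast h2

end Groth.Agent.S18831
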