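import Groth.Statements.S18832
import Groth.Agent.TanCone.Basic
import Groth.Agent.CotT.PointSmooth
import Mathlib.RingTheory.Jacobson.Ring
open Polynomial

set_option autoImplicit false
universe u
open Polynomial
open DefT

namespace Groth.Agent.S18832

/-- Let k be an algebraically closed field of characteristic zero, A a finitely generated k-algebra and
m a maximal ideal of A. Then A_m is a regular local ring (the pointed scheme (Spec A, m) is smooth
at m) if and only if, for every l ≥ 1, every k-algebra homomorphism φ : A → k[X]/(X^l) mapping m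
into the nilpotent elements extends to a k-algebra homomorphism ψ : A → k[X]/(X^(l+1)) reducing to φ
modulo X^l. Only jets along Spec k[X]/(X^l) are tested, not all local Artinian algebras. -/
theorem result (k : Type u) [Field k] [IsAlgClosed k] [CharZero k]
    (A : Type u) [CommRing A] [Algebra k A] [Algebra.FiniteType k A]
    (m : Ideal A) [m.IsMaximal] :
    IsRegularLocalRing (Localization.AtPrime m) ↔
      ∀ (l : ℕ), 1 ≤ l →
        ∀ (φ : A →ₐ[k] (k[X] ⧸ Ideal.span {(X : k[X]) ^ l})),
          (∀ a ∈ m, IsNilpotent (φ a)) →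
          ∃ ψ : A →ₐ[k] (k[X] ⧸ Ideal.span {(X : k[X]) ^ (l + 1)}),
            (Ideal.Quotient.factorₐ k
                (Ideal.span_singleton_le_span_singleton.mpr (pow_dvd_pow (X : k[X]) (Nat.le_succ l)))).comp ψ = φ := by
  have hres : ∀ a : Localization.AtPrime m, ∃ c : k, a - algebraMap k _ c ∈ IsLocalRing.maximalIdeal _ := by
    haveI : Algebra.FiniteType k (A ⧸ m) := inferInstance
    letI := Ideal.Quotient.field m
    haveI : Module.Finite k (A ⧸ m) := finite_of_finite_type_of_isJacobsonRing k (A ⧸ m)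
    intro a
    obtain ⟨⟨b, s⟩, h⟩ := IsLocalization.surj m.primeCompl a
    obtain ⟨cb, hcb⟩ := (IsAlgClosed.algebraMap_bijective_of_isIntegral (k := k) (K := A ⧸ m)).2 (Ideal.Quotient.mk m b)
    obtain ⟨cs, hcs⟩ := (IsAlgClosed.algebraMap_bijective_of_isIntegral (k := k) (K := A ⧸ m)).2 (Ideal.Quotient.mk m s)
    have hcs0 : cs ≠ 0 := fun h0 => s.2 (Ideal.Quotient.eq_zero_iff_mem.1 (by rw [← hcs, h0, map_zero]))
    have hb : b - algebraMap k A cb ∈ m := Ideal.Quotient.eq.1 hcb.symm
    have hs : (s : A) - algebraMap k A cs ∈ m := Ideal.Quotient.eq.1 hcs.symm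
    refine ⟨cb / cs, ?_⟩
    have hu : IsUnit (algebraMap A (Localization.AtPrime m) s) := IsLocalization.map_units _ s
    rw [← Ideal.mul_unit_mem_iff_mem _ hu, sub_mul, h, IsScalarTower.algebraMap_apply k A (Localization.AtPrime m),
      ← map_mul, ← map_sub]
    refine (IsLocalization.AtPrime.to_map_mem_maximal_iff (Localization.AtPrime m) m _).2 ?_
    have : algebraMap k A (cb / cs) * algebraMap k A cs = algebraMap k A cb := by rw [← map_mul, div_mul_cancel₀ _ hcs0]
    convert sub_mem hb (m.mul_mem_left (algebraMap k A (cb / cs)) hs) using 1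
    rw [mul_sub, this]; ring
  have hunit : ∀ (l : ℕ) (φ : A →ₐ[k] k[X] ⧸ Ideal.span {(X : k[X]) ^ l}), (∀ a ∈ m, IsNilpotent (φ a)) →
      ∀ s : m.primeCompl, IsUnit (φ s) := fun l φ hφ s => by
    obtain ⟨y, z, hz, hyz⟩ := (Ideal.IsMaximal.exists_inv ‹m.IsMaximal› s.2)
    have h1 := congrArg φ hyz
    rw [map_add, map_mul, map_one, ← eq_sub_iff_add_eq] at h1
    exact isUnit_of_mul_isUnit_right (h1 ▸ (hφ z hz).isUnit_one_sub)
  constructor
  · intro hreg l hl φ hφ
    haveI : Algebra.FormallySmooth k (Localization.AtPrime m) := (Groth.Agent.CotT.regular_iff_smoothAt m).1 hreg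
    let φ' : Localization.AtPrime m →ₐ[k] k[X] ⧸ Ideal.span {(X : k[X]) ^ l} :=
      IsLocalization.liftAlgHom (M := m.primeCompl) (f := φ) (hunit l φ hφ)
    let g : (k[X] ⧸ Ideal.span {(X : k[X]) ^ (l + 1)}) →ₐ[k] (k[X] ⧸ Ideal.span {(X : k[X]) ^ l}) :=
      Ideal.Quotient.factorₐ k (Ideal.span_singleton_le_span_singleton.mpr (pow_dvd_pow (X : k[X]) (Nat.le_succ l)))
    have hg : Function.Surjective g := Ideal.Quotient.factor_surjective
      (Ideal.span_singleton_le_span_singleton.mpr (pow_dvd_pow (X : k[X]) (Nat.le_succ l)))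
    have hn : IsNilpotent (RingHom.ker g) := ⟨l + 1, by
      refine le_bot_iff.1 ((Ideal.pow_right_mono (I := RingHom.ker g) (J := Ideal.span {Ideal.Quotient.mk _ (X : k[X])}) ?_ _).trans ?_)
      · intro y hy
        obtain ⟨p, rfl⟩ := Ideal.Quotient.mk_surjective y
        have hp : (X : k[X]) ^ l ∣ p := Ideal.mem_span_singleton.1 (Ideal.Quotient.eq_zero_iff_mem.1 hy)
        obtain ⟨q, rfl⟩ := (dvd_pow_self (X : k[X]) (by omega : l ≠ 0)).trans hp
        exact Ideal.mem_span_singleton'.2 ⟨Ideal.Quotient.mk _ q, by rw [map_mul, mul_comm]⟩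
      · rw [Ideal.span_singleton_pow, ← map_pow, Ideal.Quotient.eq_zero_iff_mem.2 (Ideal.mem_span_singleton_self _),
          Ideal.span_singleton_zero]⟩
    refine ⟨(Algebra.FormallySmooth.liftOfSurjective φ' g hg hn).comp (IsScalarTower.toAlgHom k A _),
      AlgHom.ext fun a => ?_⟩
    show g (Algebra.FormallySmooth.liftOfSurjective φ' g hg hn (algebraMap A _ a)) = φ a
    rw [Algebra.FormallySmooth.liftOfSurjective_apply φ' g hg hn]
    exact IsLocalization.lift_eq _ a
  · intro H
    haveI : IsNoetherianRing A := Algebra.FiniteType.isNoetherianRing k A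
    haveI : Infinite k := inferInstance
    refine Groth.Agent.TanCone.isRegularLocalRing_of_jets hres fun l hl φ => ?_
    let ev : (k[X] ⧸ Ideal.span {(X : k[X]) ^ l}) →+* k := Ideal.Quotient.lift _ (evalRingHom 0) fun x hx => by
      obtain ⟨w, rfl⟩ := Ideal.mem_span_singleton'.1 hx
      simp [zero_pow (by omega : l ≠ 0)]
    have hev : ∀ c : k, ev (φ (algebraMap k _ c)) = c := fun c => by
      rw [φ.commutes]
      exact eval_C
    have hker : RingHom.ker (ev.comp φ.toRingHom) = IsLocalRing.maximalIdeal (Localization.AtPrime m) :=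
      IsLocalRing.eq_maximalIdeal (RingHom.ker_isMaximal_of_surjective _ fun c => ⟨algebraMap k _ c, hev c⟩)
    have hmn : ∀ a ∈ m, IsNilpotent (φ (algebraMap A _ a)) := fun a ha => by
      have hm' : algebraMap A (Localization.AtPrime m) a ∈ RingHom.ker (ev.comp φ.toRingHom) := by
        rw [hker]; exact (IsLocalization.AtPrime.to_map_mem_maximal_iff (Localization.AtPrime m) m a).2 ha
      obtain ⟨p, hp⟩ := Ideal.Quotient.mk_surjective (φ (algebraMap A (Localization.AtPrime m) a))
      have h0 : p.coeff 0 = 0 := by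
        rw [coeff_zero_eq_eval_zero]
        have := RingHom.mem_ker.1 hm'
        rw [RingHom.comp_apply] at this
        exact (congrArg ev hp).trans this
      obtain ⟨q, rfl⟩ := X_dvd_iff.2 h0
      exact ⟨l, by rw [← hp, ← map_pow, mul_pow, map_mul, Ideal.Quotient.eq_zero_iff_mem.2
        (Ideal.mem_span_singleton_self _), zero_mul]⟩
    obtain ⟨ψ, hψ⟩ := H l hl (φ.comp (IsScalarTower.toAlgHom k A _)) hmn
    have hψm : ∀ a ∈ m, IsNilpotent (ψ a) := fun a ha => by
      obtain ⟨n, hn⟩ := hmn a ha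
      rw [show φ (algebraMap A _ a) = _ from (DFunLike.congr_fun hψ a).symm] at hn
      refine ⟨n * (l + 1), ?_⟩
      obtain ⟨p, hp⟩ := Ideal.Quotient.mk_surjective (ψ a)
      rw [AlgHom.comp_apply, ← hp] at hn
      have hdvd : (X : k[X]) ^ l ∣ p ^ n := by
        rw [← Ideal.mem_span_singleton, ← Ideal.Quotient.eq_zero_iff_mem]
        rw [map_pow]; exact hn
      rw [← hp, ← map_pow, Ideal.Quotient.eq_zero_iff_mem, Ideal.mem_span_singleton, pow_mul]
      exact (pow_dvd_pow_of_dvd (dvd_pow_self (X : k[X]) (by omega : l ≠ 0)) _).trans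
        (pow_dvd_pow_of_dvd hdvd (l + 1))
    refine ⟨IsLocalization.liftAlgHom (M := m.primeCompl) (f := ψ) (hunit (l + 1) ψ hψm),
      IsLocalization.algHom_ext m.primeCompl (AlgHom.ext fun a => ?_)⟩
    have := DFunLike.congr_fun hψ a
    refine Eq.trans ?_ this
    show _ = Ideal.Quotient.factorₐ k (Ideal.span_singleton_le_span_singleton.mpr (pow_dvd_pow (X : k[X]) (Nat.le_succ l))) (ψ a)
    exact congrArg _ (IsLocalization.lift_eq _ a)

end Groth.Agent.S18832
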