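import Groth.Statements.S18834
import Groth.Agent.Comod.Reynolds

set_option autoImplicit false
universe u
open TensorProduct
open GIT

namespace Groth.Agent.S18834

open Groth.Agent.Comod TensorProduct Coalgebra

/-- Let k be an algebraically closed field of characteristic zero, G = Spec A a linearly reductive
affine group over k (A a commutative Hopf algebra whose finite-dimensional comodules are semisimple)
acting on an affine k-scheme Spec R of finite type (a multiplicative coaction of A on R), and R^G
the ring of invariants. Then for every ideal I of R^G the ideal I·R of R generated by I satisfies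
(I·R) ∩ R^G = I. (The section also assumes Spec R irreducible; that hypothesis plays no role here
and is not carried.) -/
theorem result (k : Type u) [Field k] [IsAlgClosed k] [CharZero k]
    (A : Type u) [CommRing A] [HopfAlgebra k A] (hG : HopfRep.IsLinearlyReductive k A)
    (R : Type u) [CommRing R] [Algebra k R] [Algebra.FiniteType k R]
    [HopfRep.Comod k A R] [GLin.IsCoactAlg k A R]
    (I : Ideal (GLin.invariants k A R)) :
    Ideal.comap (GLin.invariants k A R).val.toRingHom
        (Ideal.map (GLin.invariants k A R).val.toRingHom I) = I := by
  obtain ⟨r⟩ := nonempty_integral hG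
  refine le_antisymm ?_ Ideal.le_comap_map
  intro f hf
  let g : R → GLin.invariants k A R := fun x => ⟨reynolds R r x, reynolds_mem r x⟩
  have key : ∀ x ∈ Ideal.map (GLin.invariants k A R).val.toRingHom I, ∀ a, g (a * x) ∈ I := by
    intro x hx
    rw [Ideal.map, Ideal.span] at hx
    induction hx using Submodule.span_induction with
    | mem y hy =>
      obtain ⟨i, hi, rfl⟩ := hy
      intro a
      have e : g (a * (i : R)) = i * g a := Subtype.ext (by
        show reynolds R r (a * (i : R)) = (i : R) * reynolds R r a
        rw [mul_comm, reynolds_mul r _ _ (GLin.IsCoactAlg.coact_mul (k := k)) i.2])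
      exact e.symm ▸ I.mul_mem_right _ hi
    | zero =>
      intro a
      exact (show g (a * 0) = 0 from Subtype.ext (by simp [g])).symm ▸ I.zero_mem
    | add y z _ _ ihy ihz =>
      intro a
      exact (show g (a * (y + z)) = g (a * y) + g (a * z) from Subtype.ext (by simp [g, mul_add])).symm ▸
        I.add_mem (ihy a) (ihz a)
    | smul b z _ ih =>
      intro a
      rw [smul_eq_mul, ← mul_assoc]
      exact ih _
  have h := key (f : R) hf 1
  rwa [show g (1 * (f : R)) = f from Subtype.ext (by rw [one_mul]; exact reynolds_of_mem r f.2)] at h

end Groth.Agent.S18834
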