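import Groth.Statements.S18838
import Groth.Agent.TruncDef.Basic

set_option autoImplicit false
set_option maxSynthPendingDepth 3
universe u
open Polynomial TensorProduct
open Deform

namespace Groth.Agent.S18838

/-- Let k be an algebraically closed field of characteristic zero, n ≥ 1, D = k[X]/(X^(n+1)) (given with
a k-algebra isomorphism e identifying the class of X with τ ∈ D), and B a finitely generated
k-algebra which is a flat D-algebra such that B/tB is smooth over k, where t is the image of τ in B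
(an affine open of a flat deformation of a smooth k-scheme over Spec D); put B' = B/t^nB. The map μ
: B → B' × (B' ⊗_B Ω_(B/k)) sending f to (f mod t^n, 1 ⊗ df) is injective, and its image consists
exactly of the pairs (g, α) with dg = r(α) in Ω_(B'/k), r being the canonical map B' ⊗_B Ω_(B/k) →
Ω_(B'/k). Injectivity uses that n is invertible in k. The source works with a flat proper family
over Spec D with smooth central fibre; the statement is local and is given here on an affine open. -/
theorem result (k : Type u) [Field k] [IsAlgClosed k] [CharZero k] (n : ℕ) (hn : 1 ≤ n)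
    (D : Type u) [CommRing D] [Algebra k D] (τ : D)
    (e : (k[X] ⧸ Ideal.span {(X : k[X]) ^ (n + 1)}) ≃ₐ[k] D)
    (he : e (Ideal.Quotient.mk (Ideal.span {(X : k[X]) ^ (n + 1)}) X) = τ)
    (B : Type u) [CommRing B] [Algebra k B] [Algebra D B] [IsScalarTower k D B]
    [Algebra.FiniteType k B] [Module.Flat D B]
    (t : B) (ht : t = algebraMap D B τ) (hsm : Algebra.Smooth k (B ⧸ Ideal.span {t})) :
    Function.Injective (fun f : B =>
      ((Ideal.Quotient.mk (Ideal.span {t ^ n}) f,
        (1 : (B ⧸ Ideal.span {t ^ n})) ⊗ₜ[B] KaehlerDifferential.D k B f) : (B ⧸ Ideal.span {t ^ n}) × ((B ⧸ Ideal.span {t ^ n}) ⊗[B] Ω[B⁄k]))) ∧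
    Set.range (fun f : B =>
      ((Ideal.Quotient.mk (Ideal.span {t ^ n}) f,
        (1 : (B ⧸ Ideal.span {t ^ n})) ⊗ₜ[B] KaehlerDifferential.D k B f) : (B ⧸ Ideal.span {t ^ n}) × ((B ⧸ Ideal.span {t ^ n}) ⊗[B] Ω[B⁄k]))) =
      {p | KaehlerDifferential.D k (B ⧸ Ideal.span {t ^ n}) p.1 = KaehlerDifferential.mapBaseChange k B (B ⧸ Ideal.span {t ^ n}) p.2} := by
  obtain ⟨-, -, -, ht1, ρ0, -, hρ0, -, -⟩ := Groth.Agent.TruncDef.main e he t ht hsm
  set B' := B ⧸ Ideal.span {t ^ n}
  constructor
  · intro f f' hff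
    obtain ⟨h1, h2⟩ := Prod.ext_iff.1 hff
    simp only at h1 h2
    rw [← sub_eq_zero, ← map_sub, Ideal.Quotient.eq_zero_iff_mem] at h1
    obtain ⟨g, hg⟩ := Ideal.mem_span_singleton'.1 h1
    have h3 := congrArg (LinearMap.liftBaseChange B' ρ0) (sub_eq_zero.2 h2)
    rw [← tmul_sub, ← map_sub, ← hg, Derivation.leibniz, Derivation.leibniz_pow, map_zero,
      LinearMap.liftBaseChange_tmul, one_smul] at h3
    simp only [map_add, map_nsmul, LinearMap.map_smul, hρ0] at h3
    have hz : t ^ n • ρ0 (KaehlerDifferential.D k B g) = 0 := by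
      rw [Algebra.smul_def, Ideal.Quotient.algebraMap_eq,
        Ideal.Quotient.eq_zero_iff_mem.2 (Ideal.mem_span_singleton_self _), zero_mul]
    rw [hz, add_zero, smul_comm g n, smul_smul, ← Nat.cast_smul_eq_nsmul k, smul_eq_zero] at h3
    have h4 := h3.resolve_left (Nat.cast_ne_zero.2 (by omega))
    rw [Algebra.smul_def, mul_one, Ideal.Quotient.algebraMap_eq, Ideal.Quotient.eq_zero_iff_mem] at h4
    obtain ⟨h, hh⟩ := Ideal.mem_span_singleton'.1 h4
    rw [← sub_eq_zero, ← hg]
    calc g * t ^ n = t * (g * t ^ (n - 1)) := by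
          rw [mul_left_comm, ← pow_succ', Nat.sub_add_cancel hn]
      _ = h * t ^ (n + 1) := by rw [← hh]; ring
      _ = 0 := by rw [ht1, mul_zero]
  · ext ⟨g, α⟩
    constructor
    · rintro ⟨f, hf⟩
      obtain ⟨rfl, rfl⟩ := Prod.ext_iff.1 hf
      simp
    · intro hp
      obtain ⟨f, rfl⟩ := Ideal.Quotient.mk_surjective g
      have hk : KaehlerDifferential.mapBaseChange k B B' (α - (1 : B') ⊗ₜ[B] KaehlerDifferential.D k B f) = 0 := by
        rw [map_sub, ← (show _ = _ from hp), KaehlerDifferential.mapBaseChange_tmul, one_smul,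
          KaehlerDifferential.map_D, Ideal.Quotient.algebraMap_eq, sub_self]
      obtain ⟨c, hc⟩ := (KaehlerDifferential.exact_kerCotangentToTensor_mapBaseChange k B B'
        Ideal.Quotient.mk_surjective _).1 hk
      obtain ⟨x, rfl⟩ := Ideal.toCotangent_surjective _ c
      rw [KaehlerDifferential.kerCotangentToTensor_toCotangent] at hc
      refine ⟨f + x.1, Prod.ext ?_ ?_⟩
      · change Ideal.Quotient.mk _ (f + x.1) = Ideal.Quotient.mk _ f
        rw [map_add, (show Ideal.Quotient.mk _ x.1 = 0 from x.2), add_zero]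
      · change (1 : B') ⊗ₜ[B] _ = α
        rw [map_add, tmul_add, hc, add_sub_cancel]

end Groth.Agent.S18838
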