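import Groth.Statements.S18839
import Groth.Agent.TruncDef.Basic

set_option autoImplicit false
set_option maxSynthPendingDepth 3
universe u
open Polynomial TensorProduct
open Deform

namespace Groth.Agent.S18839

/-- Let k be an algebraically closed field of characteristic zero, n ≥ 1, D = k[X]/(X^(n+1)) (given with
a k-algebra isomorphism e identifying the class of X with τ ∈ D), and B a finitely generated
k-algebra which is a flat D-algebra such that B/tB is smooth over k, where t is the image of τ in B
(an affine open of a flat deformation of a smooth k-scheme over Spec D); put B' = B/t^nB. The map ν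
: Ω_(B/k) → Ω_(B/D) × (B' ⊗_B Ω_(B/k)), η ↦ (η relative to D, 1 ⊗ η), is injective, and its image
consists exactly of the pairs (α, β) with the same image in Ω_(B'/D) under the canonical maps
Ω_(B/D) → Ω_(B'/D) and B' ⊗_B Ω_(B/k) → Ω_(B'/k) → Ω_(B'/D). Injectivity uses that n + 1 is
invertible in k (so that t^n dt = 0 in Ω_(B/k)). The source works with a flat proper family over
Spec D with smooth central fibre; the statement is local and is given here on an affine open. -/
theorem result (k : Type u) [Field k] [IsAlgClosed k] [CharZero k] (n : ℕ) (hn : 1 ≤ n)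
    (D : Type u) [CommRing D] [Algebra k D] (τ : D)
    (e : (k[X] ⧸ Ideal.span {(X : k[X]) ^ (n + 1)}) ≃ₐ[k] D)
    (he : e (Ideal.Quotient.mk (Ideal.span {(X : k[X]) ^ (n + 1)}) X) = τ)
    (B : Type u) [CommRing B] [Algebra k B] [Algebra D B] [IsScalarTower k D B]
    [Algebra.FiniteType k B] [Module.Flat D B]
    (t : B) (ht : t = algebraMap D B τ) (hsm : Algebra.Smooth k (B ⧸ Ideal.span {t})) :
    Function.Injective (fun η : Ω[B⁄k] =>
      ((KaehlerDifferential.map k D B B η, (1 : (B ⧸ Ideal.span {t ^ n})) ⊗ₜ[B] η) : Ω[B⁄D] × ((B ⧸ Ideal.span {t ^ n}) ⊗[B] Ω[B⁄k]))) ∧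
    Set.range (fun η : Ω[B⁄k] =>
      ((KaehlerDifferential.map k D B B η, (1 : (B ⧸ Ideal.span {t ^ n})) ⊗ₜ[B] η) : Ω[B⁄D] × ((B ⧸ Ideal.span {t ^ n}) ⊗[B] Ω[B⁄k]))) =
      {p | KaehlerDifferential.map D D B (B ⧸ Ideal.span {t ^ n}) p.1 =
        KaehlerDifferential.map k D (B ⧸ Ideal.span {t ^ n}) (B ⧸ Ideal.span {t ^ n}) (KaehlerDifferential.mapBaseChange k B (B ⧸ Ideal.span {t ^ n}) p.2)} := by
  obtain ⟨-, h0, htn, -, ρ0, s, hρ0, hs, -⟩ := Groth.Agent.TruncDef.main e he t ht hsm
  set B' := B ⧸ Ideal.span {t ^ n}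
  constructor
  · intro η η' hη
    obtain ⟨h1, h2⟩ := Prod.ext_iff.1 hη
    simp only at h1 h2
    obtain ⟨b, hb⟩ := Groth.Agent.TruncDef.exists_eq_smul_of_map_eq_zero e he B (η - η')
      (by rw [map_sub, h1, sub_self])
    rw [← ht] at hb
    have h3 := congrArg (LinearMap.liftBaseChange B' ρ0) (sub_eq_zero.2 h2)
    rw [← tmul_sub, hb, LinearMap.liftBaseChange_tmul, one_smul, map_smul, hρ0, map_zero,
      Algebra.smul_def, mul_one, Ideal.Quotient.algebraMap_eq, Ideal.Quotient.eq_zero_iff_mem] at h3
    obtain ⟨c, rfl⟩ := Ideal.mem_span_singleton'.1 h3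
    rw [← sub_eq_zero, hb, mul_smul, htn, smul_zero]
  · have hcomm : ∀ η : Ω[B⁄k], KaehlerDifferential.map D D B B' (KaehlerDifferential.map k D B B η) =
        KaehlerDifferential.map k D B' B' (KaehlerDifferential.mapBaseChange k B B' ((1 : B') ⊗ₜ[B] η)) := by
      intro η
      have h : η ∈ Submodule.span B (Set.range (KaehlerDifferential.D k B)) := by
        rw [KaehlerDifferential.span_range_derivation]; trivial
      rw [KaehlerDifferential.mapBaseChange_tmul, one_smul]
      induction h using Submodule.span_induction with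
      | mem x hx => obtain ⟨y, rfl⟩ := hx; simp
      | zero => simp
      | add x y _ _ hx hy => simp only [map_add, hx, hy]
      | smul a x _ hx => simp only [map_smul, hx, LinearMap.map_smul_of_tower]
    ext ⟨α, β⟩
    constructor
    · rintro ⟨η, hη⟩
      obtain ⟨rfl, rfl⟩ := Prod.ext_iff.1 hη
      exact hcomm η
    · intro hp
      set γ := β - (1 : B') ⊗ₜ[B] s α
      have hγ : KaehlerDifferential.map k D B' B' (KaehlerDifferential.mapBaseChange k B B' γ) = 0 := by
        rw [map_sub, map_sub, ← (show _ = _ from hp), ← hcomm, hs, sub_self]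
      obtain ⟨c, hc⟩ := Groth.Agent.TruncDef.exists_eq_smul_of_map_eq_zero e he B' _ hγ
      obtain ⟨b, rfl⟩ := Ideal.Quotient.mk_surjective c
      rw [IsScalarTower.algebraMap_apply D B B', ← ht, ← KaehlerDifferential.map_D k k B B'] at hc
      have hk : KaehlerDifferential.mapBaseChange k B B'
          (γ - (1 : B') ⊗ₜ[B] (b • KaehlerDifferential.D k B t)) = 0 := by
        rw [map_sub, hc, KaehlerDifferential.mapBaseChange_tmul, one_smul, map_smul,
          ← Ideal.Quotient.algebraMap_eq, algebraMap_smul, sub_self]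
      obtain ⟨z, hz⟩ := (KaehlerDifferential.exact_kerCotangentToTensor_mapBaseChange k B B'
        Ideal.Quotient.mk_surjective _).1 hk
      obtain ⟨x, rfl⟩ := Ideal.toCotangent_surjective _ z
      rw [KaehlerDifferential.kerCotangentToTensor_toCotangent] at hz
      obtain ⟨y, hy⟩ := Ideal.mem_span_singleton'.1
        (Ideal.Quotient.eq_zero_iff_mem.1 (show Ideal.Quotient.mk _ x.1 = 0 from x.2))
      have hx : (1 : B') ⊗ₜ[B] KaehlerDifferential.D k B x.1 =
          (1 : B') ⊗ₜ[B] ((y * (n • t ^ (n - 1))) • KaehlerDifferential.D k B t) := by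
        rw [← hy, Derivation.leibniz, Derivation.leibniz_pow, tmul_add]
        have hz : (1 : B') ⊗ₜ[B] (t ^ n • KaehlerDifferential.D k B y) = 0 := by
          rw [← smul_tmul, Algebra.smul_def, Ideal.Quotient.algebraMap_eq,
            Ideal.Quotient.eq_zero_iff_mem.2 (Ideal.mem_span_singleton_self _), zero_mul, zero_tmul]
        rw [hz, add_zero, mul_smul, smul_assoc]
      rw [hx, eq_sub_iff_add_eq, ← tmul_add, ← add_smul] at hz
      refine ⟨s α + (y * (n • t ^ (n - 1)) + b) • KaehlerDifferential.D k B t, Prod.ext ?_ ?_⟩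
      · change KaehlerDifferential.map k D B B _ = α
        rw [map_add, map_smul, h0, smul_zero, add_zero, hs]
      · change (1 : B') ⊗ₜ[B] _ = β
        rw [tmul_add, hz, add_sub_cancel]

end Groth.Agent.S18839
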