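import Groth.Statements.S1884
-- import your own Groth.Agent.* helpers here
import Groth.Agent.GrpdInvBasic.DimOne

set_option autoImplicit false
universe u
open CategoryTheory CategoryTheory.Limits AlgebraicGeometry
open Grpd

namespace Groth.Agent.S1884

/-- Let (U, R, s, t, c) be a groupoid scheme with s, t finite, U separated and locally Noetherian, and u
a point such that every point u' in the orbit of u (u' = t(r) with s(r) = u) has local ring of
dimension at most 1. Then u lies in an R-invariant affine open of U. (A groupoid scheme carries U,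
R, s, t, c, e, i over S with the groupoid axioms on T-points; 'finite locally free' is finite, flat
and locally of finite presentation; C ⊂ Γ(U) is the ring of functions a with s♯(a) = t♯(a) and M =
Spec C.) -/
theorem result (S : Scheme.{u}) (G : Grpd.GroupoidScheme S) [IsFinite G.s] [IsFinite G.t] [G.U.IsSeparated] [IsLocallyNoetherian G.U] (u : G.U) (hdim : ∀ r : G.R, G.s r = u → ringKrullDim (G.U.presheaf.stalk (G.t r)) ≤ 1) : ∃ W : G.U.Opens, IsAffineOpen W ∧ u ∈ W ∧ G.s ⁻¹ᵁ W = G.t ⁻¹ᵁ W := by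
  haveI : LocallyOfFinitePresentation G.s := LocallyOfFinitePresentation.iff_locallyOfFiniteType.2 inferInstance
  let E : Set G.U := G.t '' (G.s ⁻¹' {u})
  have hE : E.Finite := (G.s.finite_preimage_singleton u).image _
  have hdimE : ∀ e ∈ E, ringKrullDim (G.U.presheaf.stalk e) ≤ 1 := by
    rintro e ⟨r, hr, rfl⟩
    exact hdim r hr
  have hinv : ∀ r : G.R, G.s r ∈ E → G.t r ∈ E := by
    rintro r ⟨r', hr', he⟩
    obtain ⟨r'', h₁, h₂⟩ := Groth.Agent.GrpdLib.exists_comp G (r₁ := r) (r₂ := r') he.symm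
    exact ⟨r'', h₂.trans hr', h₁⟩
  have htrans : ∀ a ∈ E, ∀ b ∈ E, ∃ r : G.R, G.s r = a ∧ G.t r = b := by
    rintro _ ⟨r₁, hr₁, rfl⟩ _ ⟨r₂, hr₂, rfl⟩
    obtain ⟨r₁', h₁, h₁'⟩ := Groth.Agent.GrpdLib.exists_inv G r₁
    obtain ⟨r, h₂, h₂'⟩ := Groth.Agent.GrpdLib.exists_comp G (r₁ := r₂) (r₂ := r₁')
      ((Set.mem_singleton_iff.1 hr₂).trans ((h₁.trans (Set.mem_singleton_iff.1 hr₁)).symm))
    exact ⟨r, h₂'.trans h₁', h₂⟩
  obtain ⟨D, hD, hED⟩ := Groth.Agent.SepAffine.exists_affine_of_dim_le_one hE hdimE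
  let M := Groth.Agent.GrpdLib.core G D
  have hEM : E ⊆ M := fun e he =>
    (Groth.Agent.GrpdLib.mem_core_iff G _ _).2 fun r hr => hED (hinv r (hr.symm ▸ he))
  have hM := Groth.Agent.GrpdLib.core_invariant G D
  let H := Groth.Agent.GrpdLib.restrict G M hM
  have hMN : IsLocallyNoetherian M.toScheme := isLocallyNoetherian_of_isOpenImmersion M.ι
  haveI : IsLocallyNoetherian H.U := hMN
  have hMD : M ≤ D := Groth.Agent.GrpdLib.core_le G D
  let j : H.U ⟶ Spec (CommRingCat.of Γ(G.U, D)) := G.U.homOfLE hMD ≫ hD.isoSpec.hom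
  haveI : IsOpenImmersion j := by
    haveI := IsOpenImmersion.comp (G.U.homOfLE hMD) hD.isoSpec.hom
    exact this
  let C : Set (PrimeSpectrum Γ(G.U, D)) := (Set.range j)ᶜ
  have hz : PrimeSpectrum.zeroLocus (PrimeSpectrum.vanishingIdeal C : Set Γ(G.U, D)) = C := by
    rw [PrimeSpectrum.zeroLocus_vanishingIdeal_eq_closure]
    exact (j.isOpenEmbedding.isOpen_range.isClosed_compl).closure_eq
  have hsι : ∀ r : H.R, M.ι (H.s r) = G.s ((G.s ⁻¹ᵁ M).ι r) := fun r =>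
    congr($(Groth.Agent.GrpdLib.rS_ι G M) r)
  have htι : ∀ r : H.R, M.ι (H.t r) = G.t ((G.s ⁻¹ᵁ M).ι r) := fun r =>
    congr($(Groth.Agent.GrpdLib.rT_ι G M hM) r)
  obtain ⟨W', haff, hsub, heq⟩ := Groth.Agent.GrpdInvBasic.dimOne_aux H (PrimeSpectrum.vanishingIdeal C) j
    (fun x hx => by rw [hz] at hx; exact hx ⟨x, rfl⟩)
    (by rw [hz, Set.compl_union_self]; exact isClosed_univ) (M.ι ⁻¹' E)
    (hE.preimage M.ι.isOpenEmbedding.injective.injOn)
    (fun e he => (ringKrullDim_eq_of_ringEquiv (asIso (M.ι.stalkMap e)).commRingCatIsoToRingEquiv).symm.trans_le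
      (hdimE _ he))
    (fun r hr => by
      show M.ι (H.t r) ∈ E
      rw [htι]
      have h1 : M.ι (H.s r) ∈ E := hr
      rw [hsι] at h1
      exact hinv _ h1)
    (fun a ha b hb => by
      obtain ⟨r, hr₁, hr₂⟩ := htrans _ ha _ hb
      have hrM : G.s r ∈ M := hr₁ ▸ hEM ha
      exact ⟨⟨r, hrM⟩, M.ι.isOpenEmbedding.injective ((hsι ⟨r, hrM⟩).trans hr₁),
        M.ι.isOpenEmbedding.injective ((htι ⟨r, hrM⟩).trans hr₂)⟩)
  let V' : M.toScheme.Opens := W'
  have hu : u ∈ E := ⟨G.e u, congr($(G.e_s) u), congr($(G.e_t) u)⟩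
  refine ⟨M.ι ''ᵁ V', (show IsAffineOpen V' from haff).image_of_isOpenImmersion M.ι,
    ⟨⟨u, hEM hu⟩, hsub (show M.ι ⟨u, hEM hu⟩ ∈ E from hu), rfl⟩, ?_⟩
  refine TopologicalSpace.Opens.ext (Set.ext fun r => ?_)
  constructor
  · rintro ⟨y, hy, hyr⟩
    have hrM : G.s r ∈ M := hyr ▸ y.2
    let r' : H.R := ⟨r, hrM⟩
    have e : y = H.s r' := M.ι.isOpenEmbedding.injective (hyr.trans (hsι r').symm)
    have h1 : r' ∈ H.s ⁻¹ᵁ W' := show H.s r' ∈ W' from e ▸ hy
    rw [heq] at h1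
    exact ⟨H.t r', h1, htι r'⟩
  · rintro ⟨y, hy, hyr⟩
    have hrt : G.t r ∈ M := hyr ▸ y.2
    have hrM : G.s r ∈ M := by
      show r ∈ G.s ⁻¹ᵁ M
      rw [hM]; exact hrt
    let r' : H.R := ⟨r, hrM⟩
    have e : y = H.t r' := M.ι.isOpenEmbedding.injective (hyr.trans (htι r').symm)
    have h1 : r' ∈ H.t ⁻¹ᵁ W' := show H.t r' ∈ W' from e ▸ hy
    rw [← heq] at h1
    exact ⟨H.s r', h1, hsι r'⟩

end Groth.Agent.S1884
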