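import Groth.Statements.S18840
import Groth.Agent.HNSplit.H0Slope
import Groth.Agent.Higgs.Secant

set_option autoImplicit false
universe u
open CategoryTheory CategoryTheory.Limits AlgebraicGeometry Polynomial
open VBCurve

set_option backward.isDefEq.respectTransparency false
set_option backward.isDefEq.respectTransparency.types false

open Groth.Agent

namespace Groth.Agent.S18840

/-- Let k be an algebraically closed field of characteristic zero, X a smooth projective integral curve
over k with an ample invertible sheaf L, N ≥ 0 and P a rational polynomial. There is an integer l,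
depending only on X, L, N and P, such that for every vector bundle F of rank r ≥ 1 on X which is a
quotient of O_X^N with Hilbert polynomial P (with respect to L), F is slope-semistable if and only
if dim H^0(X, F'(l)) / r' ≤ dim H^0(X, F(l)) / r for every sub-bundle (finite locally free
submodule) F' ⊂ F of rank r' ≥ 1; here G(l) = G ⊗ L^(⊗l). The source polarises X by a very ample
O_X(1); only the positivity of its degree enters, so an ample L is taken. -/
theorem result (k : Type u) [Field k] [IsAlgClosed k] [CharZero k]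
    (X : Scheme.{u}) [X.Over (Spec (CommRingCat.of k))]
    [IsIntegral X] [IsProper (X ↘ Spec (CommRingCat.of k))] [Smooth (X ↘ Spec (CommRingCat.of k))]
    (hdim : topologicalKrullDim X = 1)
    (L : X.Modules) (hLi : PicF.IsInvertible L) (hL : CohB1.IsAmple L)
    (N : ℕ) (P : ℚ[X]) :
    ∃ l : ℕ, ∀ (r : ℕ) (F : X.Modules) (q : FlatMod.freeMod X N ⟶ F),
      0 < r → FlatMod.IsFinLocFreeOfRank r F → Epi q → ShStab.IsHilbPoly k X L F P →
        (ModFun.IsSlopeSemistable k X F r ↔
          ∀ (F' : X.Modules) (r' : ℕ) (i : F' ⟶ F), Mono i → 0 < r' → FlatMod.IsFinLocFreeOfRank r' F' →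
            (Module.finrank k (Coh.HH X (ShStab.twist X L F' l) 0) : ℚ) / (r' : ℚ) ≤
              (Module.finrank k (Coh.HH X (ShStab.twist X L F l) 0) : ℚ) / (r : ℚ)) := by
  haveI := CurveRR.isNoetherian_of_proper k X
  have hX := W7Slope.regCurve_of_smooth (k := k) (X := X) hdim
  have h0 := CurveRR.h0_structure k X
  have hℓ := CurveRR.deg_pos_of_isAmple (k := k) hdim hL
  obtain ⟨l, hl⟩ : ∃ l : ℕ, (2 * (Curv2.genus k X : ℚ) + |P.eval 0|) ≤ (l : ℚ) :=
    ⟨_, Nat.le_ceil _⟩
  refine ⟨l, fun r F q hr hF hq hP => ?_⟩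
  have hM := TMul.isInvertible_tensorPow hLi l
  have hdM : (l : ℤ) ≤ Curv2.deg k X (CohB1.tensorPow L l) 1 := by
    rw [CurveRR.deg_tensorPow (k := k) hX.dim hLi]
    nlinarith [Int.natCast_nonneg l]
  set M := CohB1.tensorPow L l with hMdef
  have hE := W7Slope.rank_tensor_inv hF hM
  have hdE := W7Slope.deg_twist (k := k) hX.dim hF hM
  have hχ : Curv2.euler k X (CohB1.tensorMod F M) =
      Curv2.euler k X F + r * Curv2.deg k X M 1 := by
    have h := hdE
    rw [Curv2.deg, Curv2.deg] at h
    linarith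
  have hP0 : (Curv2.euler k X F : ℚ) = P.eval 0 := by
    have h := hP 0
    rw [show ShStab.twist X L F 0 = CohB1.tensorMod F (Coh.structureModule X) from rfl,
      CurveRR.euler_eq_of_iso (SecTwist.unitorR F)] at h
    simpa using h
  have hlo : -|P.eval 0| ≤ (Curv2.euler k X F : ℚ) := by rw [hP0]; exact neg_abs_le _
  have hbigQ : (2 * (Curv2.genus k X : ℤ) * r : ℚ) ≤ ((Curv2.euler k X F + r * Curv2.deg k X M 1 : ℤ) : ℚ) := by
    push_cast
    have h1 : (l : ℚ) ≤ (Curv2.deg k X M 1 : ℚ) := by exact_mod_cast hdM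
    have h2 : (1 : ℚ) ≤ r := by exact_mod_cast hr
    have h3 := mul_le_mul_of_nonneg_left (hl.trans h1) (Nat.cast_nonneg r : (0 : ℚ) ≤ (r : ℚ))
    have h4 := mul_le_mul_of_nonneg_right h2 (abs_nonneg (P.eval 0))
    linarith
  have hbig : 2 * (Curv2.genus k X : ℤ) * r ≤ Curv2.euler k X (CohB1.tensorMod F M) := by
    rw [hχ]; exact_mod_cast hbigQ
  have hgl : 2 * (Curv2.genus k X : ℤ) ≤ Curv2.deg k X M 1 := by
    have : (2 * (Curv2.genus k X : ℤ) : ℚ) ≤ (l : ℚ) := by push_cast; linarith [abs_nonneg (P.eval 0)]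
    have : 2 * (Curv2.genus k X : ℤ) ≤ (l : ℤ) := by exact_mod_cast this
    omega
  have hrq : (0 : ℚ) < r := by exact_mod_cast hr
  constructor
  · intro hss F' r' i hi hr' hF'
    haveI := W7Slope.mono_tmap hM i
    have h := HNSplit.h0_sub_le k hdim hX h0 hE (HNSplit.ss_twist k hX hF hM hss) hbig r' (CohB1.tensorMod F' M)
      (CohFinite.tmap i M) inferInstance (W7Slope.rank_tensor_inv hF' hM)
    have hge : Curv2.euler k X (CohB1.tensorMod F M) ≤ (CurveRR.h k (CohB1.tensorMod F M) 0 : ℤ) := by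
      rw [CurveRR.euler_eq hX.dim]; omega
    have h' : (CurveRR.h k (CohB1.tensorMod F' M) 0 : ℤ) * r ≤ (CurveRR.h k (CohB1.tensorMod F M) 0 : ℤ) * r' :=
      h.trans (mul_le_mul_of_nonneg_right hge (Int.natCast_nonneg r'))
    rw [div_le_div_iff₀ (by exact_mod_cast hr') hrq]
    exact_mod_cast h'
  · intro hcrit G n j hj hn hG
    have h1 : Subsingleton (Coh.HH X (CohB1.tensorMod F M) 1) := by
      by_contra h1
      obtain ⟨Q, p, hQ, hp, hdQ⟩ := HNSplit.exists_hom_deg_le k hdim hX h0 hE h1
      obtain ⟨M', hM', ⟨e⟩⟩ := W7Hull.exists_tensor_inverse hM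
      have hdM' : Curv2.deg k X M' 1 = -Curv2.deg k X M 1 := by
        have h := CurveRR.deg_tensor_inv (k := k) hX.dim hM hM'
        rw [W7Slope.deg_iso (k := k) e, CurveRR.deg_structure] at h
        omega
      let p' : F ⟶ CohB1.tensorMod Q M' := (W7Slope.untw e F).inv ≫ CohFinite.tmap p M'
      have hp' : p' ≠ 0 := fun h => hp (Higgs.tmap_injective hM' (by
        rw [CohFinite.tmap_zero, ← cancel_epi (W7Slope.untw e F).inv, Limits.comp_zero]; exact h))
      have hqp : q ≫ p' ≠ 0 := fun h => hp' ((cancel_epi q).1 (h.trans Limits.comp_zero.symm))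
      obtain ⟨a, ha⟩ : ∃ a, Sigma.ι (fun _ : Fin N => Coh.structureModule X) a ≫ q ≫ p' ≠ 0 := by
        by_contra! h
        exact hqp (Sigma.hom_ext _ _ fun a => by rw [h a, Limits.comp_zero])
      have h2 := CurveRR.Easy.deg_nonneg (k := k) hX.dim (TMul.isInvertible_tensorMod hQ hM') _ ha
      rw [CurveRR.deg_tensor_inv (k := k) hX.dim hQ hM', hdM'] at h2
      omega
    have h := hcrit G n j hj hn hG
    rw [div_le_div_iff₀ (by exact_mod_cast hn) hrq] at h
    have h' : (CurveRR.h k (CohB1.tensorMod G M) 0 : ℤ) * r ≤ (CurveRR.h k (CohB1.tensorMod F M) 0 : ℤ) * n := by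
      exact_mod_cast h
    have hEχ := CurveRR.euler_eq (k := k) hX.dim (CohB1.tensorMod F M)
    rw [show CurveRR.h k (CohB1.tensorMod F M) 1 = 0 from CurveRR.h_eq_zero h1] at hEχ
    push_cast at hEχ
    have hdG := W7Slope.deg_twist (k := k) hX.dim hG hM
    have hGχ := CurveRR.euler_eq (k := k) hX.dim (CohB1.tensorMod G M)
    have hG0 : Curv2.euler k X (CohB1.tensorMod G M) ≤ (CurveRR.h k (CohB1.tensorMod G M) 0 : ℤ) := by omega
    have h3 := (mul_le_mul_of_nonneg_right hG0 (Int.natCast_nonneg r)).trans h'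
    rw [show (CurveRR.h k (CohB1.tensorMod F M) 0 : ℤ) = Curv2.euler k X (CohB1.tensorMod F M) by omega] at h3
    simp only [Curv2.deg] at hdE hdG ⊢
    linear_combination h3 - (r : ℤ) * hdG + (n : ℤ) * hdE

end Groth.Agent.S18840
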