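import Groth.Statements.S18841
import Groth.Agent.MumBound.Closed

set_option autoImplicit false
universe u
open CategoryTheory CategoryTheory.Limits AlgebraicGeometry Polynomial
open Variety

set_option backward.isDefEq.respectTransparency false
set_option backward.isDefEq.respectTransparency.types false

namespace Groth.Agent.S18841

/-- Let k be an algebraically closed field of characteristic zero, X a projective k-scheme embedded in
projective n-space by a closed immersion ι, with L ≅ ι^*O(1), and fix N ≥ 0 and a rational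
polynomial P. There is an integer l_0 such that for every coherent O_X-module F which is a quotient
q : O_X^N → F with Hilbert polynomial P with respect to L, writing G for the kernel of q, one has
for all l ≥ l_0: H^i(X, F(l)) = 0 and H^i(X, G(l)) = 0 for every i > 0, and G(l) is generated by its
global sections (twists M(l) = M ⊗ L^(⊗l)). -/
theorem result
    (k : Type u) [Field k] [IsAlgClosed k] [CharZero k]
    (X : Scheme.{u}) [X.Over (Spec (CommRingCat.of k))] [IsProper (X ↘ Spec (CommRingCat.of k))]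
    (n : ℕ) (ι : X ⟶ CohB1.ProjSpace n k) [IsClosedImmersion ι]
    (hι : ι ≫ CohB1.ProjSpace.toSpec n k = X ↘ Spec (CommRingCat.of k))
    (L : X.Modules) (hL : Nonempty (L ≅ (Scheme.Modules.pullback ι).obj (Twist.twistProjSpace n k 1)))
    (N : ℕ) (P : ℚ[X]) :
    ∃ l₀ : ℕ, ∀ (F : X.Modules) (q : FlatMod.freeMod X N ⟶ F),
      Coh.IsCoh F → Epi q → ShStab.IsHilbPoly k X L F P →
        ∀ l : ℕ, l₀ ≤ l →
          (∀ i : ℕ, 0 < i → Subsingleton (Coh.HH X (ShStab.twist X L F l) i)) ∧
          (∀ i : ℕ, 0 < i → Subsingleton (Coh.HH X (ShStab.twist X L (kernel q) l) i)) ∧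
          Curv2.IsGloballyGenerated (ShStab.twist X L (kernel q) l) := by
  obtain ⟨φ⟩ := hL
  haveI : IsProper ((CohB1.ProjSpace n k) ↘ Spec (CommRingCat.of k)) := MumBound.isProper_projSpace
  obtain ⟨M, hM⟩ := MumBound.exists_reg_closed (k := k) ι N P
  refine ⟨M, fun F q hF hq hP => ?_⟩
  haveI : IsNoetherian (CohB1.ProjSpace n k) := CohFinite.isNoetherian_projSpace n k
  haveI : IsLocallyNoetherian X := LocallyOfFiniteType.isLocallyNoetherian ι
  have hG : Coh.IsCoh (kernel q) := QC.isCoh_kernel (NegFilt.isCoh_freeMod (X := X) N) hF.1 q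
  have hpush : ∀ {G : X.Modules}, Coh.IsCoh G → Coh.IsCoh ((Scheme.Modules.pushforward ι).obj G) :=
    fun hG => by
      haveI := hG.1
      exact QC.isCoh_pushforward_of_isFinite ι hG.2
  have htw : ∀ (E : X.Modules) (l : ℕ), Nonempty (ShStab.twist X L E l ≅
      CohB1.tensorMod E ((Scheme.Modules.pullback ι).obj (PnReg.Ot k n (l : ℤ)))) := fun E l => by
    obtain ⟨a⟩ := TMul.nonempty_powCongr φ l
    obtain ⟨b⟩ := TMul.nonempty_pullPowIso ι (Twist.twistProjSpace n k 1) l
    obtain ⟨c⟩ := GrT.nonempty_iso_tensorPow (𝒜 := CohB1.polyGrading n k) (CohFinite.cov_one n k) l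
    exact ⟨PicGrp.tensorModIso (Iso.refl E) (a ≪≫ b ≪≫ (Scheme.Modules.pullback ι).mapIso c.symm)⟩
  have hhh : ∀ (E : X.Modules), Coh.IsCoh E → ∀ (l i : ℕ), Nonempty (Coh.HH X (ShStab.twist X L E l) i ≃ₗ[k]
      Coh.HH (CohB1.ProjSpace n k) (MumBound.tw ((Scheme.Modules.pushforward ι).obj E) l) i) := fun E hE l i => by
    haveI := hE.1
    obtain ⟨e⟩ := htw E l
    obtain ⟨f⟩ := SerrePn.nonempty_hh_pushTwist k ι hι E (CohFinite.isInvertible_twist n k (l : ℤ)) i
    exact ⟨(CohFinite.hhEquiv k e i).trans f⟩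
  obtain ⟨hF', hG'⟩ := hM F q hF hq fun t => by
    rw [← hP t]
    refine congrArg (fun z : ℤ => (z : ℚ)) (finsum_congr fun i => ?_)
    rw [(hhh F hF t i).some.finrank_eq]
  intro l hl
  refine ⟨fun i hi => ?_, fun i hi => ?_, ?_⟩
  · haveI := MumBound.hh_reg (hpush hF).1 hF' (l : ℤ) i hi (by omega)
    exact (hhh F hF l i).some.toEquiv.subsingleton
  · haveI := MumBound.hh_reg (hpush hG).1 hG' (l : ℤ) i hi (by omega)
    exact (hhh _ hG l i).some.toEquiv.subsingleton
  · have hr : Curv2.IsMRegular k n ((Scheme.Modules.pushforward ι).obj (kernel q)) (l : ℤ) :=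
      fun i hi _ => MumBound.hh_reg (hpush hG).1 hG' _ i hi (by omega)
    obtain ⟨J, p, hp⟩ := SerrePn.isGloballyGenerated_twist _ (hpush hG) _ hr
    obtain ⟨e⟩ := SerrePn.nonempty_pushTwist ι (kernel q) (CohFinite.isInvertible_twist n k (l : ℤ))
    obtain ⟨J', p', hp'⟩ := SerrePn.isGloballyGenerated_of_push ι _
      ⟨J, p ≫ e.hom, epi_comp _ _⟩
    obtain ⟨e'⟩ := htw (kernel q) l
    exact ⟨J', p' ≫ e'.inv, epi_comp _ _⟩

end Groth.Agent.S18841
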