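import Groth.Statements.S18847
import Groth.Agent.TFOneLib.Stable
-- import your own Groth.Agent.* helpers here

set_option autoImplicit false
set_option backward.isDefEq.respectTransparency false
universe u
open CategoryTheory CategoryTheory.Limits AlgebraicGeometry
open TFOne

namespace Groth.Agent.S18847

/-- Let R be a discrete valuation ring with residue field κ, f : X ⟶ Spec R flat and proper, and X_s its
special fibre, assumed reduced of pure dimension one with geometrically integral irreducible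
components over κ. Let I be a coherent R-flat module on X whose restriction I(s) to X_s is
torsion-free rank-1, E a locally free module of rank r > 0 on X with restriction E(s), and d an
integer with χ(I(s)) = d and deg E(s) = -r·d. For a closed subset T of X_s write I(s)_T for the
torsion-free quotient of I(s) on T (pinned by its defining property) and β(T) := r·χ(I(s)_T) +
deg(E(s)|_T) (the source's β cleared of the denominator r). Let Y be a closed subcurve of X_s (a
non-empty union of irreducible components), and let I^Y be the kernel of the composite I ⟶ i_* I(s)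
⟶ i_* I(s)_Y, with restriction I^Y(s) to X_s and quotients I^Y(s)_T and numbers β^Y(T) :=
r·χ(I^Y(s)_T) + deg(E(s)|_T) defined likewise. Assume that Y is the largest closed subcurve of X_s
on which β is minimal: β(Y) ≤ β(T) for every closed subcurve T of X_s, and every closed subcurve T
with β(T) = β(Y) is contained in Y. Then for every closed subcurve Z of X_s one has β(Y) ≤ β^Y(Z),
and β^Y(Z) = β(Y) only if Z ⊆ Y. (The source takes f projective.) -/
theorem result (R : Type u) [CommRing R] [IsDomain R] [IsDiscreteValuationRing R] (X : Scheme.{u}) (f : X ⟶ Spec (CommRingCat.of R)) [Flat f] [IsProper f] (Xs : Scheme.{u}) [Xs.Over (Spec (CommRingCat.of (IsLocalRing.ResidueField R)))] (i : Xs ⟶ X) (hsq : IsPullback i (Xs ↘ Spec (CommRingCat.of (IsLocalRing.ResidueField R))) f (Spec.map (CommRingCat.ofHom (IsLocalRing.residue R)))) [IsReduced Xs] (hpure : ∀ C ∈ irreducibleComponents (Xs : Type u), topologicalKrullDim C = 1) (hgi : ∀ (C : Set Xs) (hC : C ∈ irreducibleComponents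 (Xs : Type u)), GeometricallyIntegral (VecSt.subschι Xs C (isClosed_of_mem_irreducibleComponents C hC) ≫ (Xs ↘ Spec (CommRingCat.of (IsLocalRing.ResidueField R))))) (I : X.Modules) (hIc : Coh.IsCoh I) (hIf : FlatMod.IsFlatOver f I) (hIs : TFOne.IsTF1 Xs ((Scheme.Modules.pullback i).obj I)) (E : X.Modules) (r : ℕ) (hr : 0 < r) (hE : FlatMod.IsFinLocFreeOfRank r E) (d : ℤ) (hχ : Curv2.euler (IsLocalRing.ResidueField R) Xs ((Scheme.Modules.pullback i).obj I) = d) (hEd : Curv2.deg (IsLocalRing.ResidueField R) Xs ((Scheme.Modules.pullback i).obj E) r = -(r : ℤ) * d) (Y : Set Xs) (hY : IsClosed Y) (hYs : VecSt.IsSubcurve Xs Y) (GY : Xs.Modules) (πY : ((Scheme.Modules.pullback i).obj I) ⟶ GY) (hGY : TFOne.IsQuotOn Xs ((Scheme.Modules.pullback i).obj I) Y GY πY) (IY : X.Modules) (hIY : IY = kernel ((Scheme.Modules.pullbackPushforwardAdjunction i).unit.app I ≫ (Scheme.Modules.pushforward i).map πY)) (hmin : ∀ (T : Set Xs) (hT : IsClosed T), VecSt.IsSubcurve Xs T → ∀ (G : Xs.Modules)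 (π : ((Scheme.Modules.pullback i).obj I) ⟶ G), TFOne.IsQuotOn Xs ((Scheme.Modules.pullback i).obj I) T G π → TFOne.rBeta Xs (IsLocalRing.ResidueField R) (Xs ↘ Spec (CommRingCat.of (IsLocalRing.ResidueField R))) Y hY ((Scheme.Modules.pullback i).obj E) r GY ≤ TFOne.rBeta Xs (IsLocalRing.ResidueField R) (Xs ↘ Spec (CommRingCat.of (IsLocalRing.ResidueField R))) T hT ((Scheme.Modules.pullback i).obj E) r G) (hmax : ∀ (T : Set Xs) (hT : IsClosed T), VecSt.IsSubcurve Xs T → ∀ (G : Xs.Modules) (π : ((Scheme.Modules.pullback i).obj I) ⟶ G), TFOne.IsQuotOn Xs ((Scheme.Modules.pullback i).obj I) T G π → TFOne.rBeta Xs (IsLocalRing.ResidueField R) (Xs ↘ Spec (CommRingCat.of (IsLocalRing.ResidueField R))) T hT ((Scheme.Modules.pullback i).obj E) r G = TFOne.rBeta Xs (IsLocalRing.ResidueField R) (Xs ↘ Spec (CommRingCat.of (IsLocalRing.ResidueField R))) Y hY ((Scheme.Modules.pullback i).obj E) r GY → T ⊆ Y) (Z : Set Xs) (hZ : IsClosed Z) (hZs : VecSt.IsSubcurve Xs Z) (GZ1 : Xs.Modules)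 (πZ1 : ((Scheme.Modules.pullback i).obj IY) ⟶ GZ1) (hGZ1 : TFOne.IsQuotOn Xs ((Scheme.Modules.pullback i).obj IY) Z GZ1 πZ1) : TFOne.rBeta Xs (IsLocalRing.ResidueField R) (Xs ↘ Spec (CommRingCat.of (IsLocalRing.ResidueField R))) Y hY ((Scheme.Modules.pullback i).obj E) r GY ≤ TFOne.rBeta Xs (IsLocalRing.ResidueField R) (Xs ↘ Spec (CommRingCat.of (IsLocalRing.ResidueField R))) Z hZ ((Scheme.Modules.pullback i).obj E) r GZ1 ∧ (TFOne.rBeta Xs (IsLocalRing.ResidueField R) (Xs ↘ Spec (CommRingCat.of (IsLocalRing.ResidueField R))) Z hZ ((Scheme.Modules.pullback i).obj E) r GZ1 = TFOne.rBeta Xs (IsLocalRing.ResidueField R) (Xs ↘ Spec (CommRingCat.of (IsLocalRing.ResidueField R))) Y hY ((Scheme.Modules.pullback i).obj E) r GY → Z ⊆ Y) := by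
  haveI : IsProper (Xs ↘ Spec (CommRingCat.of (IsLocalRing.ResidueField R))) :=
    MorphismProperty.of_isPullback (P := @IsProper) hsq inferInstance
  haveI := Groth.Agent.CurveRR.isNoetherian_of_proper (IsLocalRing.ResidueField R) Xs
  haveI := hGY.1
  obtain ⟨α, β, w, hS⟩ := Groth.Agent.TFOneLib.exists_fibre_modification R X f Xs i hsq I hIf GY πY IY hIY
  have hEs := Groth.Agent.CurveRR.Multi.isFinLocFreeOfRank_pullback i hE
  have hN := Groth.Agent.TFOneLib.mod_isTF1 hIs hGY hS
  have hbeta := fun T hT G => Groth.Agent.TFOneLib.rBeta_eq (IsLocalRing.ResidueField R) hpure hEs T hT G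
  have hU : ∀ η ∈ genericPoints Xs, (η ∈ Y ∪ Z ↔ η ∈ Y ∨ η ∈ Z) := fun η _ => Iff.rfl
  have hWm := fun η (hη : η ∈ genericPoints Xs) => Groth.Agent.TFOneLib.mem_unionIn (hY.inter hZ) hη
  obtain ⟨GU, πU, hGU⟩ := Groth.Agent.TFOneLib.exists_quot_sub hIs
    (Or.inl (Groth.Agent.TFOneLib.isSubcurve_union hYs hZs))
  obtain ⟨GW, πW, hGW⟩ := Groth.Agent.TFOneLib.exists_quot_sub hIs
    (T := ⋃₀ {C | C ∈ irreducibleComponents (Xs : Type u) ∧ C ⊆ Y ∩ Z}) Groth.Agent.TFOneLib.isSubcurve_or_empty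
  have hW0c : IsClosed (⋃₀ {C | C ∈ irreducibleComponents (Xs : Type u) ∧ C ⊆ Y ∩ Z}) :=
    Groth.Agent.TFOneLib.isClosed_subcurve
  have h1 := Groth.Agent.TFOneLib.mod_ineq (k := IsLocalRing.ResidueField R) hpure hIs hGY hS hGZ1 hGU hGW hU hWm
  have h2 := Groth.Agent.TFOneLib.dsum_add (IsLocalRing.ResidueField R) (r := r)
    (E := (Scheme.Modules.pullback i).obj E) hU hWm
  have h3 := mul_le_mul_of_nonneg_left h1 (Int.natCast_nonneg r)
  rw [mul_add, mul_add] at h3
  have hUs := Groth.Agent.TFOneLib.isSubcurve_union hYs hZs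
  have hUmin := hmin (Y ∪ Z) (hY.union hZ) hUs GU πU hGU
  have hUmax := hmax (Y ∪ Z) (hY.union hZ) hUs GU πU hGU
  haveI : Nonempty Xs := by
    obtain ⟨𝒮, h𝒮, ⟨C, hC⟩, -⟩ := hYs
    exact ⟨(h𝒮 hC).1.nonempty.some⟩
  obtain ⟨GX, πX, hGX⟩ := Groth.Agent.TFOneLib.exists_quot_sub hIs (Or.inl Groth.Agent.TFOneLib.isSubcurve_univ)
  have hY0 := hmin Set.univ isClosed_univ Groth.Agent.TFOneLib.isSubcurve_univ GX πX hGX
  rw [Groth.Agent.TFOneLib.rBeta_eq_zero_of_univ hpure hEs hIs hχ hEd isClosed_univ (fun η _ => trivial) hGX,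
    hbeta] at hY0
  rw [hbeta, hbeta] at hUmin
  rw [hbeta, hbeta] at hUmax
  rw [hbeta, hbeta]
  rcases Groth.Agent.TFOneLib.isSubcurve_or_empty (X := Xs) (P := fun C => C ⊆ Y ∩ Z) with hWs | hWe
  · have hWmin := hmin _ hW0c hWs GW πW hGW
    rw [hbeta, hbeta] at hWmin
    exact ⟨by linarith, fun he => Set.subset_union_right.trans (hUmax (by linarith))⟩
  · have hWz := Groth.Agent.TFOneLib.rBeta_eq_zero_of_empty (k := IsLocalRing.ResidueField R) hpure hEs hW0c hWe hGW
    rw [hbeta] at hWz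
    exact ⟨by linarith, fun he => Set.subset_union_right.trans (hUmax (by linarith))⟩

end Groth.Agent.S18847
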