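import Groth.Statements.S18848
import Groth.Agent.TFOneLib.Restrict
-- import your own Groth.Agent.* helpers here

set_option autoImplicit false
set_option backward.isDefEq.respectTransparency false
universe u
open CategoryTheory CategoryTheory.Limits AlgebraicGeometry
open TFOne

namespace Groth.Agent.S18848

/-- Let R be a discrete valuation ring with residue field κ, f : X ⟶ Spec R flat and proper, and X_s its
special fibre, assumed reduced of pure dimension one with geometrically integral irreducible
components over κ. Let I be a coherent R-flat module on X whose restriction I(s) to X_s is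
torsion-free rank-1, E a locally free module of rank r > 0 on X with restriction E(s), and d an
integer with χ(I(s)) = d and deg E(s) = -r·d. For a closed subset T of X_s write I(s)_T for the
torsion-free quotient of I(s) on T (pinned by its defining property) and β(T) := r·χ(I(s)_T) +
deg(E(s)|_T) (the source's β cleared of the denominator r). Let Y be a closed subcurve of X_s (a
non-empty union of irreducible components), and let I^Y be the kernel of the composite I ⟶ i_* I(s)
⟶ i_* I(s)_Y, with restriction I^Y(s) to X_s and quotients I^Y(s)_T and numbers β^Y(T) :=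
r·χ(I^Y(s)_T) + deg(E(s)|_T) defined likewise. Assume I(s) is semistable with respect to E(s). Then
I^Y(s) is semistable with respect to E(s) if and only if β(Y) = 0 and I(s)_Y, viewed on the reduced
closed subscheme Y, is semistable with respect to E(s)|_Y. (Here β(Y) = 0 says that E(s)|_Y is a
polarisation for I(s)_Y, the source's implicit requirement for semistability with respect to
E(s)|_Y. The source states the conclusion for semistability of I^Y over Spec R, which it reduces at
once to the special fibre since I^Y and I agree off Y; it also asserts that I^Y(s) and I(s) are then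
Jordan–Hölder equivalent, which is not stated here; it takes f projective.) -/
theorem result (R : Type u) [CommRing R] [IsDomain R] [IsDiscreteValuationRing R] (X : Scheme.{u}) (f : X ⟶ Spec (CommRingCat.of R)) [Flat f] [IsProper f] (Xs : Scheme.{u}) [Xs.Over (Spec (CommRingCat.of (IsLocalRing.ResidueField R)))] (i : Xs ⟶ X) (hsq : IsPullback i (Xs ↘ Spec (CommRingCat.of (IsLocalRing.ResidueField R))) f (Spec.map (CommRingCat.ofHom (IsLocalRing.residue R)))) [IsReduced Xs] (hpure : ∀ C ∈ irreducibleComponents (Xs : Type u), topologicalKrullDim C = 1) (hgi : ∀ (C : Set Xs) (hC : C ∈ irreducibleComponents (Xs : Type u)), GeometricallyIntegral (VecSt.subschι Xs C (isClosed_of_mem_irreducibleComponents C hC) ≫ (Xs ↘ Spec (CommRingCat.of (IsLocalRing.ResidueField R))))) (I : X.Modules) (hIc : Coh.IsCoh I) (hIf : FlatMod.IsFlatOver f I) (hIs : TFOne.IsTF1 Xs ((Scheme.Modules.pullback i).obj I)) (E : X.Modules) (r : ℕ) (hr : 0 < r) (hE : FlatMod.IsFinLocFreeOfRank r E) (d : ℤ) (hχ : Curv2.euler (IsLocalRing.ResidueField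 R) Xs ((Scheme.Modules.pullback i).obj I) = d) (hEd : Curv2.deg (IsLocalRing.ResidueField R) Xs ((Scheme.Modules.pullback i).obj E) r = -(r : ℤ) * d) (hss : TFOne.IsSemistable Xs (IsLocalRing.ResidueField R) (Xs ↘ Spec (CommRingCat.of (IsLocalRing.ResidueField R))) ((Scheme.Modules.pullback i).obj I) ((Scheme.Modules.pullback i).obj E) r) (Y : Set Xs) (hY : IsClosed Y) (hYs : VecSt.IsSubcurve Xs Y) (GY : Xs.Modules) (πY : ((Scheme.Modules.pullback i).obj I) ⟶ GY) (hGY : TFOne.IsQuotOn Xs ((Scheme.Modules.pullback i).obj I) Y GY πY) (IY : X.Modules) (hIY : IY = kernel ((Scheme.Modules.pullbackPushforwardAdjunction i).unit.app I ≫ (Scheme.Modules.pushforward i).map πY)) : TFOne.IsSemistable Xs (IsLocalRing.ResidueField R) (Xs ↘ Spec (CommRingCat.of (IsLocalRing.ResidueField R))) ((Scheme.Modules.pullback i).obj IY) ((Scheme.Modules.pullback i).obj E) r ↔ (TFOne.rBeta Xs (IsLocalRing.ResidueField R) (Xs ↘ Spec (CommRingCat.of (IsLocalRing.ResidueField R))) Y hY ((Scheme.Modules.pullback i).obj E) r GY = 0 ∧ TFOne.IsSemistable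 (VecSt.subsch Xs Y hY) (IsLocalRing.ResidueField R) (VecSt.subschι Xs Y hY ≫ (Xs ↘ Spec (CommRingCat.of (IsLocalRing.ResidueField R)))) ((Scheme.Modules.pullback (VecSt.subschι Xs Y hY)).obj GY) ((Scheme.Modules.pullback (VecSt.subschι Xs Y hY)).obj ((Scheme.Modules.pullback i).obj E)) r) := by
  haveI : IsProper (Xs ↘ Spec (CommRingCat.of (IsLocalRing.ResidueField R))) :=
    MorphismProperty.of_isPullback (P := @IsProper) hsq inferInstance
  haveI := Groth.Agent.CurveRR.isNoetherian_of_proper (IsLocalRing.ResidueField R) Xs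
  haveI := hGY.1
  obtain ⟨α, β, w, hS⟩ := Groth.Agent.TFOneLib.exists_fibre_modification R X f Xs i hsq I hIf GY πY IY hIY
  have hEs := Groth.Agent.CurveRR.Multi.isFinLocFreeOfRank_pullback i hE
  have hN := Groth.Agent.TFOneLib.mod_isTF1 hIs hGY hS
  have hbeta := fun T hT G => Groth.Agent.TFOneLib.rBeta_eq (IsLocalRing.ResidueField R) hpure hEs T hT G
  have hb := Groth.Agent.TFOneLib.rBeta_nonneg (k := IsLocalRing.ResidueField R) hpure hEs hχ hEd hss hY (Or.inl hYs) hGY
  rw [hbeta] at hb
  constructor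
  · intro hN'
    refine ⟨?_, ?_⟩
    · by_cases hYu : Y = Set.univ
      · exact Groth.Agent.TFOneLib.rBeta_eq_zero_of_univ hpure hEs hIs hχ hEd hY (fun η _ => hYu ▸ trivial) hGY
      · let Y' : Set Xs := ⋃₀ {C | C ∈ irreducibleComponents (Xs : Type u) ∧ ¬ C ⊆ Y}
        have hY'm := fun η (hη : η ∈ genericPoints Xs) => Groth.Agent.TFOneLib.mem_unionNotIn hY hη
        obtain ⟨x, hx⟩ := (Set.ne_univ_iff_exists_notMem Y).1 hYu
        have hY's : VecSt.IsSubcurve Xs Y' :=
          ⟨{C | C ∈ irreducibleComponents (Xs : Type u) ∧ ¬ C ⊆ Y}, fun C hC => hC.1, ⟨irreducibleComponent x,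
            irreducibleComponent_mem_irreducibleComponents x, fun h => hx (h mem_irreducibleComponent)⟩, rfl⟩
        have hY'c : IsClosed Y' := Groth.Agent.TFOneLib.isClosed_subcurve
        have hY'u : Y' ≠ Set.univ := by
          obtain ⟨𝒮, h𝒮, ⟨C, hC⟩, hYeq⟩ := hYs
          obtain ⟨θ, hθ⟩ := QuasiSober.sober (h𝒮 hC).1 (isClosed_of_mem_irreducibleComponents C (h𝒮 hC))
          have hθg : θ ∈ genericPoints Xs := by
            change closure {θ} ∈ irreducibleComponents (Xs : Type u)
            rw [hθ.def]; exact h𝒮 hC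
          intro hu
          exact (hY'm θ hθg).1 (hu.ge trivial) (hYeq.ge ⟨C, hC, hθ.mem⟩)
        obtain ⟨G2, π2, hG2⟩ := Groth.Agent.TFOneLib.exists_quot_sub hN (Or.inl hY's)
        obtain ⟨GX, πX, hGX⟩ := Groth.Agent.TFOneLib.exists_quot_generic hIs Set.univ
        have e1 := Groth.Agent.TFOneLib.mod_euler_sub (k := IsLocalRing.ResidueField R) hpure hIs hGY hS hGX.1 hG2
          (fun η hη _ => (hGX.2 η hη).2 trivial)
          (fun η hη => (hY'm η hη).trans ⟨fun h => ⟨(hGX.2 η hη).2 trivial, h⟩, fun h => h.2⟩)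
        have e2 := Groth.Agent.TFOneLib.rBeta_eq_zero_of_univ hpure hEs hIs hχ hEd
          (Groth.Agent.QC.isClosed_support hGX.1.2.1.2) (fun η hη => (hGX.2 η hη).2 trivial) hGX.1
        have e3 := Groth.Agent.TFOneLib.dsum_add (IsLocalRing.ResidueField R) (r := r)
          (E := (Scheme.Modules.pullback i).obj E) (A := Y) (B := Y') (U := CohB1.support GX) (W := ∅)
          (fun η hη => ⟨fun _ => (em (η ∈ Y)).imp_right (hY'm η hη).2, fun _ => (hGX.2 η hη).2 trivial⟩)
          (fun η hη => ⟨False.elim, fun h => (hY'm η hη).1 h.2 h.1⟩)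
        rw [Groth.Agent.TFOneLib.dsum_eq_zero (IsLocalRing.ResidueField R) (T := (∅ : Set Xs))
          (fun η _ => id), add_zero] at e3
        have h2 := hN'.2 Y' hY'c hY's hY'u G2 π2 hG2
        rw [hbeta] at h2 e2
        rw [hbeta]
        rw [e1, mul_add] at e2
        linarith
    · haveI : IsReduced (VecSt.subsch Xs Y hY) :=
        Groth.Agent.DvrDom.isReduced_vanishingIdeal_subscheme _
      haveI := LocallyOfFiniteType.isLocallyNoetherian (VecSt.subschι Xs Y hY)
      haveI : TopologicalSpace.NoetherianSpace (VecSt.subsch Xs Y hY) :=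
        (VecSt.subschι Xs Y hY).isClosedEmbedding.isInducing.noetherianSpace
      exact Groth.Agent.TFOneLib.isSemistable_restrict hY hYs hpure hEs hχ hEd hss hGY
  · rintro ⟨hY0, -⟩
    refine ⟨hN, fun Z hZ hZs _ GZ1 πZ1 hGZ1 => ?_⟩
    have hU : ∀ η ∈ genericPoints Xs, (η ∈ Y ∪ Z ↔ η ∈ Y ∨ η ∈ Z) := fun η _ => Iff.rfl
    have hWm := fun η (hη : η ∈ genericPoints Xs) => Groth.Agent.TFOneLib.mem_unionIn (hY.inter hZ) hη
    obtain ⟨GU, πU, hGU⟩ := Groth.Agent.TFOneLib.exists_quot_sub hIs
      (Or.inl (Groth.Agent.TFOneLib.isSubcurve_union hYs hZs))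
    obtain ⟨GW, πW, hGW⟩ := Groth.Agent.TFOneLib.exists_quot_sub hIs
      (T := ⋃₀ {C | C ∈ irreducibleComponents (Xs : Type u) ∧ C ⊆ Y ∩ Z}) Groth.Agent.TFOneLib.isSubcurve_or_empty
    have hW0c : IsClosed (⋃₀ {C | C ∈ irreducibleComponents (Xs : Type u) ∧ C ⊆ Y ∩ Z}) :=
      Groth.Agent.TFOneLib.isClosed_subcurve
    have h1 := Groth.Agent.TFOneLib.mod_ineq (k := IsLocalRing.ResidueField R) hpure hIs hGY hS hGZ1 hGU hGW hU hWm
    have h2 := Groth.Agent.TFOneLib.dsum_add (IsLocalRing.ResidueField R) (r := r)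
      (E := (Scheme.Modules.pullback i).obj E) hU hWm
    have h3 := mul_le_mul_of_nonneg_left h1 (Int.natCast_nonneg r)
    rw [mul_add, mul_add] at h3
    have hb1 := Groth.Agent.TFOneLib.rBeta_nonneg (k := IsLocalRing.ResidueField R) hpure hEs hχ hEd hss
      (hY.union hZ) (Or.inl (Groth.Agent.TFOneLib.isSubcurve_union hYs hZs)) hGU
    have hb2 := Groth.Agent.TFOneLib.rBeta_nonneg (k := IsLocalRing.ResidueField R) hpure hEs hχ hEd hss
      hW0c Groth.Agent.TFOneLib.isSubcurve_or_empty hGW
    rw [hbeta] at hb1 hb2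
    rw [hbeta] at hY0
    rw [hbeta]
    linarith

end Groth.Agent.S18848
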