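import Groth.Statements.S1885
-- import your own Groth.Agent.* helpers here
import Groth.Agent.GrpdInvBasic.Basic

set_option autoImplicit false
universe u
open CategoryTheory CategoryTheory.Limits AlgebraicGeometry
open Grpd

namespace Groth.Agent.S1885

/-- For a groupoid scheme (U, R, s, t, c) over S whose source and target maps are finite and of finite
presentation, take u₁, …, u_m points of U such that every point in their R-orbits is generic in an
irreducible component of U; j : U → Spec A an immersion; I ⊆ A an ideal with j(U) ∩ V(I) = ∅ and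
V(I) ∪ j(U) closed. Then for some h ∈ I the preimage j⁻¹D(h) is an R-invariant affine open of U
containing u₁, …, u_m. (A groupoid scheme carries U, R, s, t, c, e, i over S with the groupoid
axioms on T-points; 'finite locally free' is finite, flat and locally of finite presentation; C ⊂
Γ(U) is the ring of functions a with s♯(a) = t♯(a) and M = Spec C.) -/
theorem result (S : Scheme.{u}) (G : Grpd.GroupoidScheme S) [IsFinite G.s] [LocallyOfFinitePresentation G.s] [IsFinite G.t] [LocallyOfFinitePresentation G.t] (m : ℕ) (u : Fin m → G.U) (hu : ∀ i (r : G.R), G.s r = u i → ∀ x : G.U, x ⤳ G.t r → x = G.t r) (A : Type u) [CommRing A] (j : G.U ⟶ Spec (CommRingCat.of A)) [IsImmersion j] (I : Ideal A) (hI : ∀ x : G.U, j x ∉ PrimeSpectrum.zeroLocus (I : Set A)) (hcl : IsClosed (PrimeSpectrum.zeroLocus (I : Set A) ∪ Set.range j)) : ∃ h ∈ I, IsAffineOpen (j ⁻¹ᵁ PrimeSpectrum.basicOpen h) ∧ (∀ i, u i ∈ j ⁻¹ᵁ PrimeSpectrum.basicOpen h) ∧ G.s ⁻¹ᵁ (j ⁻¹ᵁ PrimeSpectrum.basicOpen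 h) = G.t ⁻¹ᵁ (j ⁻¹ᵁ PrimeSpectrum.basicOpen h) := by
  let E : Set G.U := G.t '' (G.s ⁻¹' Set.range u)
  have hE : E.Finite := by
    refine Set.Finite.image _ ?_
    rw [← Set.biUnion_preimage_singleton]
    exact (Set.finite_range u).biUnion fun x _ => G.s.finite_preimage_singleton x
  have hmax : ∀ e ∈ E, ∀ y, y ⤳ e → y = e := by
    rintro e ⟨r, ⟨i, hi⟩, rfl⟩ y hy
    exact hu i r hi.symm y hy
  have hinv : ∀ r : G.R, G.s r ∈ E → G.t r ∈ E := by
    rintro r ⟨r', hr', he⟩
    obtain ⟨r'', h₁, h₂⟩ := GrpdLib.exists_comp G (r₁ := r) (r₂ := r') he.symm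
    exact ⟨r'', show G.s r'' ∈ Set.range u from h₂.symm ▸ hr', h₁⟩
  obtain ⟨h, hh, haff, hsub, heq⟩ := GrpdInvBasic.main I G j hI hcl E hE hmax hinv
  refine ⟨h, hh, haff, fun i => hsub ⟨G.e (u i), ⟨i, ?_⟩, ?_⟩, heq⟩
  · rw [← Scheme.Hom.comp_apply, G.e_s]; rfl
  · rw [← Scheme.Hom.comp_apply, G.e_t]; rfl

end Groth.Agent.S1885
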