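import Groth.Statements.S18852
import Groth.Agent.TFOneLib.QuasiAlgo
-- import your own Groth.Agent.* helpers here

set_option autoImplicit false
set_option backward.isDefEq.respectTransparency false
universe u
open CategoryTheory CategoryTheory.Limits AlgebraicGeometry
open TFOne

namespace Groth.Agent.S18852

/-- Let R be a discrete valuation ring with fraction field K and residue field κ, f : X ⟶ Spec R flat
and proper with generic fibre X_K (a cartesian square over Spec K ⟶ Spec R with top arrow j) and
special fibre X_s (a cartesian square over Spec κ ⟶ Spec R), the latter reduced of pure dimension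
one with geometrically integral irreducible components over κ. Let I be a relatively torsion-free
rank-1 module on X over Spec R (R-flat, finitely presented, torsion-free rank-1 on every geometric
fibre), E a locally free module of rank r > 0 on X, and d an integer with χ(I(s)) = d and deg E(s) =
-r·d for the restrictions to X_s. Let σ be a section of f whose image lies in an open subscheme U of
X smooth over Spec R, and σ_K the induced section of X_K (the point of X_K over Spec K mapping to σ
under j). If j^* I is σ_K-quasi-stable with respect to j^* E on every geometric fibre of X_K over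
Spec K (semistable, with the strict inequality on every proper subcurve through the point of the
fibre given by σ_K), then there is a relatively torsion-free rank-1 module I' on X over Spec R with
j^* I' ≅ j^* I which is σ-quasi-stable with respect to E on every geometric fibre of f. (The
source's proof starts from an arbitrary extension, the form stated here; the source takes f
projective.) -/
theorem result (R : Type u) [CommRing R] [IsDomain R] [IsDiscreteValuationRing R] (X : Scheme.{u}) (f : X ⟶ Spec (CommRingCat.of R)) [Flat f] [IsProper f] (Xs : Scheme.{u}) [Xs.Over (Spec (CommRingCat.of (IsLocalRing.ResidueField R)))] (i : Xs ⟶ X) (hsq : IsPullback i (Xs ↘ Spec (CommRingCat.of (IsLocalRing.ResidueField R))) f (Spec.map (CommRingCat.ofHom (IsLocalRing.residue R)))) [IsReduced Xs] (hpure : ∀ C ∈ irreducibleComponents (Xs : Type u), topologicalKrullDim C = 1) (hgi : ∀ (C : Set Xs) (hC : C ∈ irreducibleComponents (Xs : Type u)), GeometricallyIntegral (VecSt.subschι Xs C (isClosed_of_mem_irreducibleComponents C hC) ≫ (Xs ↘ Spec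 (CommRingCat.of (IsLocalRing.ResidueField R))))) (Xg : Scheme.{u}) [Xg.Over (Spec (CommRingCat.of (FractionRing R)))] (j : Xg ⟶ X) (hgen : IsPullback j (Xg ↘ Spec (CommRingCat.of (FractionRing R))) f (Spec.map (CommRingCat.ofHom (algebraMap R (FractionRing R))))) (I : X.Modules) (hI : TFOne.IsRelTF1 f I) (E : X.Modules) (r : ℕ) (hr : 0 < r) (hE : FlatMod.IsFinLocFreeOfRank r E) (d : ℤ) (hχ : Curv2.euler (IsLocalRing.ResidueField R) Xs ((Scheme.Modules.pullback i).obj I) = d) (hEd : Curv2.deg (IsLocalRing.ResidueField R) Xs ((Scheme.Modules.pullback i).obj E) r = -(r : ℤ) * d) (σ : Spec (CommRingCat.of R) ⟶ X) (hσ : σ ≫ f = 𝟙 _) (U : X.Opens) (hσU : Set.range σ.base ⊆ (U : Set X)) [Smooth (U.ι ≫ f)] (σg : Spec (CommRingCat.of (FractionRing R)) ⟶ Xg) (hσg : σg ≫ (Xg ↘ Spec (CommRingCat.of (FractionRing R))) = 𝟙 _) (hσgj : σg ≫ j = Spec.map (CommRingCat.ofHom (algebraMap R (FractionRing R))) ≫ σ) (hIg : TFOne.FibQuasistableAlong (Xg ↘ Spec (CommRingCat.of (FractionRing R))) ((Scheme.Modules.pullback j).obj I) ((Scheme.Modules.pullback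 j).obj E) σg hσg r) : ∃ I' : X.Modules, TFOne.IsRelTF1 f I' ∧ Nonempty ((Scheme.Modules.pullback j).obj I' ≅ ((Scheme.Modules.pullback j).obj I)) ∧ TFOne.FibQuasistableAlong f I' E σ hσ r := by
  haveI : IsProper (Xs ↘ Spec (CommRingCat.of (IsLocalRing.ResidueField R))) :=
    Groth.Agent.TFOneLib.proper_fibre hsq
  obtain ⟨x₀, hx₀⟩ : ∃ x₀ : Xs, i x₀ = σ (IsLocalRing.closedPoint R) := by
    obtain ⟨p, hp, -⟩ := Scheme.Pullback.exists_preimage_pullback (f := f)
      (g := Spec.map (CommRingCat.ofHom (IsLocalRing.residue R))) (σ (IsLocalRing.closedPoint R))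
      (IsLocalRing.closedPoint (IsLocalRing.ResidueField R)) (by
        rw [← Scheme.Hom.comp_apply, hσ]
        refine PrimeSpectrum.ext ?_
        change IsLocalRing.maximalIdeal R =
          Ideal.comap (IsLocalRing.residue R) (IsLocalRing.maximalIdeal (IsLocalRing.ResidueField R))
        rw [Ideal.eq_bot_of_prime (IsLocalRing.maximalIdeal (IsLocalRing.ResidueField R)),
          ← RingHom.ker_eq_comap_bot, IsLocalRing.ker_residue])
    refine ⟨hsq.isoPullback.inv p, ?_⟩
    rw [← Scheme.Hom.comp_apply, IsPullback.isoPullback_inv_fst, hp]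
  haveI : IsDomain (Xs.presheaf.stalk x₀) :=
    Groth.Agent.TFOneLib.isDomain_stalk_of_smooth hsq U x₀ (by rw [hx₀]; exact hσU ⟨_, rfl⟩)
  obtain ⟨η, hη, hηx⟩ := Groth.Agent.TFOneLib.exists_generic x₀
  have hW : closure {η} ∈ irreducibleComponents (Xs : Type u) := hη
  have hxW : x₀ ∈ closure ({η} : Set Xs) := specializes_iff_mem_closure.1 hηx
  have huniq : ∀ θ ∈ genericPoints Xs, θ ⤳ x₀ → θ ∈ closure ({η} : Set Xs) := fun θ hθ hθx =>
    subset_closure (Groth.Agent.TFOneLib.eq_of_isDomain_stalk hθ hη hθx hηx)
  have h0 := Groth.Agent.TFOneLib.good_base (j := j) hsq hgi hI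
  have hIs : TFOne.FibSemistable (Xg ↘ Spec (CommRingCat.of (FractionRing R)))
      ((Scheme.Modules.pullback j).obj I) ((Scheme.Modules.pullback j).obj E) r := fun Ω _ _ t Y g qY sq =>
    (hIg Ω t Y g qY sq (sq.lift (t ≫ σg) (𝟙 _) (by rw [Category.assoc, hσg, Category.comp_id, Category.id_comp]))
      (sq.lift_fst _ _ _) (sq.lift_snd _ _ _)).1
  obtain ⟨J₀, hJ₀, hχ₀, hs₀⟩ := Groth.Agent.TFOneLib.exists_semistable hsq hpure hgi hgen hr hE hEd hIs h0 hχ
  obtain ⟨J, hJ, hq⟩ := Groth.Agent.TFOneLib.exists_quasistable hsq hpure hgi hgen hr hE hEd hW hxW huniq σ hσ σg hσg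
    hσgj hIg hx₀ hJ₀ hχ₀ hs₀
  exact ⟨J, Groth.Agent.TFOneLib.isRelTF1_of_good hsq hgi hgen hJ hI, hJ.gen,
    Groth.Agent.TFOneLib.fibQuasistable_of_good hsq hpure hgi hgen hJ hE σ hσ σg hσg hσgj hIg fun x hx => by
      haveI := Groth.Agent.TFOneLib.isClosedImmersion_fibre hsq
      obtain rfl : x = x₀ := i.isClosedEmbedding.injective (hx.trans hx₀.symm)
      exact hq⟩

end Groth.Agent.S18852
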