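import Groth.Statements.S18853
import Groth.Agent.TFOneLib.Stable
-- import your own Groth.Agent.* helpers here

set_option autoImplicit false
set_option backward.isDefEq.respectTransparency false
universe u
open CategoryTheory CategoryTheory.Limits AlgebraicGeometry
open TFOne

namespace Groth.Agent.S18853

/-- Let R be a discrete valuation ring with residue field κ, f : X ⟶ Spec R flat and proper, and X_s its
special fibre, assumed reduced of pure dimension one with geometrically integral irreducible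
components over κ. Let I be a coherent R-flat module on X whose restriction I(s) to X_s is
torsion-free rank-1, E a locally free module of rank r > 0 on X with restriction E(s), and d an
integer with χ(I(s)) = d and deg E(s) = -r·d. For a closed subset T of X_s write I(s)_T for the
torsion-free quotient of I(s) on T (pinned by its defining property) and β(T) := r·χ(I(s)_T) +
deg(E(s)|_T) (the source's β cleared of the denominator r). Let Y be a closed subcurve of X_s (a
non-empty union of irreducible components), and let I^Y be the kernel of the composite I ⟶ i_* I(s)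
⟶ i_* I(s)_Y, with restriction I^Y(s) to X_s and quotients I^Y(s)_T and numbers β^Y(T) :=
r·χ(I^Y(s)_T) + deg(E(s)|_T) defined likewise. Assume I(s) is semistable with respect to E(s). Let W
be an irreducible component of X_s and suppose that Y is the smallest closed subcurve of X_s
containing W with β(Y) = 0 (it is contained in every closed subcurve T ⊇ W with β(T) = 0). If Z is a
closed subcurve containing W with β^Y(Z) = 0 which is smallest with this property, then Y ⊆ Z. (The
source adds that I^Y is again semistable, which follows from the preceding semistability criterion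
for I^Y, and that Y = Z exactly when I^Y(s) decomposes at Y; neither is stated here. The source
takes f projective.) -/
theorem result (R : Type u) [CommRing R] [IsDomain R] [IsDiscreteValuationRing R] (X : Scheme.{u}) (f : X ⟶ Spec (CommRingCat.of R)) [Flat f] [IsProper f] (Xs : Scheme.{u}) [Xs.Over (Spec (CommRingCat.of (IsLocalRing.ResidueField R)))] (i : Xs ⟶ X) (hsq : IsPullback i (Xs ↘ Spec (CommRingCat.of (IsLocalRing.ResidueField R))) f (Spec.map (CommRingCat.ofHom (IsLocalRing.residue R)))) [IsReduced Xs] (hpure : ∀ C ∈ irreducibleComponents (Xs : Type u), topologicalKrullDim C = 1) (hgi : ∀ (C : Set Xs) (hC : C ∈ irreducibleComponents (Xs : Type u)), GeometricallyIntegral (VecSt.subschι Xs C (isClosed_of_mem_irreducibleComponents C hC) ≫ (Xs ↘ Spec (CommRingCat.of (IsLocalRing.ResidueField R))))) (I : X.Modules) (hIc : Coh.IsCoh I) (hIf : FlatMod.IsFlatOver f I) (hIs : TFOne.IsTF1 Xs ((Scheme.Modules.pullback i).obj I)) (E : X.Modules) (r : ℕ) (hr : 0 < r) (hE : FlatMod.IsFinLocFreeOfRank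 r E) (d : ℤ) (hχ : Curv2.euler (IsLocalRing.ResidueField R) Xs ((Scheme.Modules.pullback i).obj I) = d) (hEd : Curv2.deg (IsLocalRing.ResidueField R) Xs ((Scheme.Modules.pullback i).obj E) r = -(r : ℤ) * d) (hss : TFOne.IsSemistable Xs (IsLocalRing.ResidueField R) (Xs ↘ Spec (CommRingCat.of (IsLocalRing.ResidueField R))) ((Scheme.Modules.pullback i).obj I) ((Scheme.Modules.pullback i).obj E) r) (Y : Set Xs) (hY : IsClosed Y) (hYs : VecSt.IsSubcurve Xs Y) (GY : Xs.Modules) (πY : ((Scheme.Modules.pullback i).obj I) ⟶ GY) (hGY : TFOne.IsQuotOn Xs ((Scheme.Modules.pullback i).obj I) Y GY πY) (IY : X.Modules) (hIY : IY = kernel ((Scheme.Modules.pullbackPushforwardAdjunction i).unit.app I ≫ (Scheme.Modules.pushforward i).map πY)) (W : Set Xs) (hWc : W ∈ irreducibleComponents (Xs : Type u)) (hWY : W ⊆ Y) (hY0 : TFOne.rBeta Xs (IsLocalRing.ResidueField R) (Xs ↘ Spec (CommRingCat.of (IsLocalRing.ResidueField R))) Y hY ((Scheme.Modules.pullback i).obj E) r GY = 0) (hYmin : ∀ (T : Set Xs)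 (hT : IsClosed T), VecSt.IsSubcurve Xs T → W ⊆ T → ∀ (G : Xs.Modules) (π : ((Scheme.Modules.pullback i).obj I) ⟶ G), TFOne.IsQuotOn Xs ((Scheme.Modules.pullback i).obj I) T G π → TFOne.rBeta Xs (IsLocalRing.ResidueField R) (Xs ↘ Spec (CommRingCat.of (IsLocalRing.ResidueField R))) T hT ((Scheme.Modules.pullback i).obj E) r G = 0 → Y ⊆ T) (Z : Set Xs) (hZ : IsClosed Z) (hZs : VecSt.IsSubcurve Xs Z) (hWZ : W ⊆ Z) (GZ1 : Xs.Modules) (πZ1 : ((Scheme.Modules.pullback i).obj IY) ⟶ GZ1) (hGZ1 : TFOne.IsQuotOn Xs ((Scheme.Modules.pullback i).obj IY) Z GZ1 πZ1) (hZ0 : TFOne.rBeta Xs (IsLocalRing.ResidueField R) (Xs ↘ Spec (CommRingCat.of (IsLocalRing.ResidueField R))) Z hZ ((Scheme.Modules.pullback i).obj E) r GZ1 = 0) (hZmin : ∀ (T : Set Xs) (hT : IsClosed T), VecSt.IsSubcurve Xs T → W ⊆ T → ∀ (G : Xs.Modules) (π : ((Scheme.Modules.pullback i).obj IY) ⟶ G), TFOne.IsQuotOn Xs ((Scheme.Modules.pullback i).obj IY) T G π → TFOne.rBeta Xs (IsLocalRing.ResidueField R) (Xs ↘ Spec (CommRingCat.of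 (IsLocalRing.ResidueField R))) T hT ((Scheme.Modules.pullback i).obj E) r G = 0 → Z ⊆ T) : Y ⊆ Z := by
  haveI : IsProper (Xs ↘ Spec (CommRingCat.of (IsLocalRing.ResidueField R))) :=
    MorphismProperty.of_isPullback (P := @IsProper) hsq inferInstance
  haveI := Groth.Agent.CurveRR.isNoetherian_of_proper (IsLocalRing.ResidueField R) Xs
  haveI := hGY.1
  obtain ⟨α, β, w, hS⟩ := Groth.Agent.TFOneLib.exists_fibre_modification R X f Xs i hsq I hIf GY πY IY hIY
  have hEs := Groth.Agent.CurveRR.Multi.isFinLocFreeOfRank_pullback i hE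
  have hN := Groth.Agent.TFOneLib.mod_isTF1 hIs hGY hS
  have hbeta := fun T hT G => Groth.Agent.TFOneLib.rBeta_eq (IsLocalRing.ResidueField R) hpure hEs T hT G
  have hU : ∀ η ∈ genericPoints Xs, (η ∈ Y ∪ Z ↔ η ∈ Y ∨ η ∈ Z) := fun η _ => Iff.rfl
  have hWm := fun η (hη : η ∈ genericPoints Xs) => Groth.Agent.TFOneLib.mem_unionIn (hY.inter hZ) hη
  obtain ⟨GU, πU, hGU⟩ := Groth.Agent.TFOneLib.exists_quot_sub hIs
    (Or.inl (Groth.Agent.TFOneLib.isSubcurve_union hYs hZs))
  obtain ⟨GW, πW, hGW⟩ := Groth.Agent.TFOneLib.exists_quot_sub hIs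
    (T := ⋃₀ {C | C ∈ irreducibleComponents (Xs : Type u) ∧ C ⊆ Y ∩ Z}) Groth.Agent.TFOneLib.isSubcurve_or_empty
  have hW0c : IsClosed (⋃₀ {C | C ∈ irreducibleComponents (Xs : Type u) ∧ C ⊆ Y ∩ Z}) :=
    Groth.Agent.TFOneLib.isClosed_subcurve
  have h1 := Groth.Agent.TFOneLib.mod_ineq (k := IsLocalRing.ResidueField R) hpure hIs hGY hS hGZ1 hGU hGW hU hWm
  have h2 := Groth.Agent.TFOneLib.dsum_add (IsLocalRing.ResidueField R) (r := r)
    (E := (Scheme.Modules.pullback i).obj E) hU hWm
  have h3 := mul_le_mul_of_nonneg_left h1 (Int.natCast_nonneg r)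
  rw [mul_add, mul_add] at h3
  have hWW0 : W ⊆ ⋃₀ {C | C ∈ irreducibleComponents (Xs : Type u) ∧ C ⊆ Y ∩ Z} :=
    Set.subset_sUnion_of_mem ⟨hWc, Set.subset_inter hWY hWZ⟩
  have hW0s : VecSt.IsSubcurve Xs (⋃₀ {C | C ∈ irreducibleComponents (Xs : Type u) ∧ C ⊆ Y ∩ Z}) :=
    ⟨{C | C ∈ irreducibleComponents (Xs : Type u) ∧ C ⊆ Y ∩ Z}, fun C hC => hC.1,
      ⟨W, hWc, Set.subset_inter hWY hWZ⟩, rfl⟩
  have hb1 := Groth.Agent.TFOneLib.rBeta_nonneg (k := IsLocalRing.ResidueField R) hpure hEs hχ hEd hss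
    (hY.union hZ) (Or.inl (Groth.Agent.TFOneLib.isSubcurve_union hYs hZs)) hGU
  have hb2 := Groth.Agent.TFOneLib.rBeta_nonneg (k := IsLocalRing.ResidueField R) hpure hEs hχ hEd hss
    hW0c (Or.inl hW0s) hGW
  rw [hbeta] at hb1 hb2
  rw [hbeta] at hY0 hZ0
  have hYZ : Y ⊆ Z := (hYmin _ hW0c hW0s hWW0 GW πW hGW (by rw [hbeta]; linarith)).trans
    (Set.sUnion_subset fun C hC => hC.2.trans Set.inter_subset_right)
  exact hYZ

end Groth.Agent.S18853
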