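import Groth.Statements.S18857
import Groth.Agent.TFOneLib.Tower
import Groth.Agent.CurveRR.Euler
-- import your own Groth.Agent.* helpers here

set_option autoImplicit false
set_option backward.isDefEq.respectTransparency false
universe u
open CategoryTheory CategoryTheory.Limits AlgebraicGeometry
open TFOne

namespace Groth.Agent.S18857

/-- Let R be a complete discrete valuation ring with residue field κ, f : X ⟶ Spec R flat and proper,
and X_s its special fibre (a cartesian square over Spec κ ⟶ Spec R with top arrow i), assumed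
reduced of pure dimension one with geometrically integral irreducible components over κ. Let Y ≠ X_s
be a closed subcurve of X_s (a non-empty union of irreducible components) and Y' the union of the
components not contained in Y. Let I^0 ⊇ I^1 ⊇ I^2 ⊇ ⋯ be modules on X, I^0 coherent and R-flat with
torsion-free rank-1 restriction to X_s, such that for every n the module I^{n+1} is the kernel of
the composite I^n ⟶ i_* I^n(s) ⟶ i_* I^n(s)_Y, where I^n(s) is the restriction of I^n to X_s and
I^n(s)_Y its torsion-free quotient on Y (pinned by its defining property). Suppose that every I^n(s)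
decomposes at Y: the canonical map I^n(s) ⟶ I^n(s)_Y ⊞ I^n(s)_{Y'} is an isomorphism. Then there are
a module F on X, flat over Spec R, and an epimorphism p : I^0 ⟶ F whose restriction to X_s
identifies F(s), as a quotient of I^0(s), with I^0(s)_Y. (The source takes f projective and allows Y
= X_s, a case excluded here; it is trivial with F = I^0.) -/
theorem result (R : Type u) [CommRing R] [IsDomain R] [IsDiscreteValuationRing R] (X : Scheme.{u}) (f : X ⟶ Spec (CommRingCat.of R)) [Flat f] [IsProper f] (Xs : Scheme.{u}) [Xs.Over (Spec (CommRingCat.of (IsLocalRing.ResidueField R)))] (i : Xs ⟶ X) (hsq : IsPullback i (Xs ↘ Spec (CommRingCat.of (IsLocalRing.ResidueField R))) f (Spec.map (CommRingCat.ofHom (IsLocalRing.residue R)))) [IsReduced Xs] (hpure : ∀ C ∈ irreducibleComponents (Xs : Type u), topologicalKrullDim C = 1) (hgi : ∀ (C : Set Xs) (hC : C ∈ irreducibleComponents (Xs : Type u)), GeometricallyIntegral (VecSt.subschι Xs C (isClosed_of_mem_irreducibleComponents C hC) ≫ (Xs ↘ Spec (CommRingCat.of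 (IsLocalRing.ResidueField R))))) [IsAdicComplete (IsLocalRing.maximalIdeal R) R] (In : ℕ → X.Modules) (hIc : Coh.IsCoh (In 0)) (hIf : FlatMod.IsFlatOver f (In 0)) (hIs : TFOne.IsTF1 Xs ((Scheme.Modules.pullback i).obj (In 0))) (Y : Set Xs) (hY : IsClosed Y) (hYs : VecSt.IsSubcurve Xs Y) (hYne : Y ≠ Set.univ) (Y' : Set Xs) (hY' : Y' = ⋃₀ {C | C ∈ irreducibleComponents (Xs : Type u) ∧ ¬ C ⊆ Y}) (hY'c : IsClosed Y') (G G' : ℕ → Xs.Modules) (π : ∀ n : ℕ, ((Scheme.Modules.pullback i).obj (In n)) ⟶ G n) (π' : ∀ n : ℕ, ((Scheme.Modules.pullback i).obj (In n)) ⟶ G' n) (hG : ∀ n : ℕ, TFOne.IsQuotOn Xs ((Scheme.Modules.pullback i).obj (In n)) Y (G n) (π n)) (hG' : ∀ n : ℕ, TFOne.IsQuotOn Xs ((Scheme.Modules.pullback i).obj (In n)) Y' (G' n) (π' n)) (hstep : ∀ n : ℕ, In (n + 1) = kernel ((Scheme.Modules.pullbackPushforwardAdjunction i).unit.app (In n) ≫ (Scheme.Modules.pushforward i).map (π n))) (hdec : ∀ n : ℕ, IsIso (biprod.lift (π n) (π' n))) : ∃ (F : X.Modules) (p : In 0 ⟶ F), Epi p ∧ FlatMod.IsFlatOver f F ∧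 ∃ e : (Scheme.Modules.pullback i).obj F ≅ G 0, (Scheme.Modules.pullback i).map p ≫ e.hom = π 0 := by
  obtain ⟨t, ht⟩ := IsDiscreteValuationRing.exists_irreducible R
  haveI : IsProper (Xs ↘ Spec (CommRingCat.of (IsLocalRing.ResidueField R))) :=
    MorphismProperty.of_isPullback (P := @IsProper) hsq inferInstance
  haveI := Groth.Agent.CurveRR.isNoetherian_of_proper (IsLocalRing.ResidueField R) Xs
  letI : X.Over (Spec (CommRingCat.of R)) := ⟨f⟩
  haveI : IsProper (X ↘ Spec (CommRingCat.of R)) := ‹IsProper f›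
  haveI : IsLocallyNoetherian X := LocallyOfFiniteType.isLocallyNoetherian f
  haveI : IsClosedImmersion i := MorphismProperty.of_isPullback (P := @IsClosedImmersion) hsq.flip
    (IsClosedImmersion.spec_of_surjective _ (by exact Ideal.Quotient.mk_surjective))
  have hi := Groth.Agent.TFOneLib.ker_fibre f i _ hsq ht.maximalIdeal_eq
  haveI : IsAdicComplete (Ideal.span {RingHom.id R t}) R := by
    rw [RingHom.id_apply, ← ht.maximalIdeal_eq]; infer_instance
  subst hY'
  obtain ⟨hM, C, hC, e0, hM0, he0⟩ := Groth.Agent.TFOneLib.exists_mulChain (t := t) i hi In hIc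
    (Groth.Agent.TFOneLib.mono_smulMod_of_flat f (In 0) hIf ht.ne_zero) hIs Y _
    (fun η hη => Groth.Agent.TFOneLib.mem_unionNotIn hY hη) G G' π π' hG hG' hstep hdec
  obtain ⟨CM, CQ, Cj, Cq, Cm, Cθ, h1, h2, h3, h4, h5, h6, h7⟩ := C
  subst hC
  obtain ⟨F, p, hF, hp, hm, e, he⟩ := Groth.Agent.TFOneLib.exists_limit_quotient (t := t) i (A := R) (RingHom.id R)
    (Xh := X) (𝟙 X) (by simp; rfl) i (Category.comp_id i) hi
    ⟨CM, CQ, Cj, Cq, Cm, Cθ, h1, h2, h3, h4, h5, h6, h7⟩ hM (G 0) e0 (π 0)
    (by simpa using he0)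
  haveI := hp
  let ψ : CM 0 ⟶ (Scheme.Modules.pullback (𝟙 X)).obj (CM 0) := (Scheme.Modules.pullbackId X).inv.app (CM 0)
  refine ⟨F, ψ ≫ p, epi_comp _ _, Groth.Agent.TFOneLib.isFlatOver_of_mono_smulMod f hF.1 ht hm, e, ?_⟩
  rw [Functor.map_comp]
  refine (Category.assoc _ _ _).trans ((congrArg ((Scheme.Modules.pullback i).map ψ ≫ ·) he).trans ?_)
  have hid : (Scheme.Modules.pullback i).map ψ ≫ (Scheme.Modules.pullbackComp i (𝟙 X)).hom.app (CM 0) ≫
      (Scheme.Modules.pullbackCongr (Category.comp_id i)).hom.app (CM 0) = 𝟙 _ := by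
    have h := congrArg (fun (t : _ ⟶ Scheme.Modules.pullback i) => t.app (CM 0))
      (Scheme.Modules.pseudofunctor_left_unitality i)
    simp only [NatTrans.comp_app, Functor.whiskerRight_app, Functor.leftUnitor_hom_app, eqToHom_app] at h
    have h' : (Scheme.Modules.pullback i).map ((Scheme.Modules.pullbackId X).hom.app (CM 0)) =
        (Scheme.Modules.pullbackComp i (𝟙 X)).hom.app (CM 0) ≫
          (Scheme.Modules.pullbackCongr (Category.comp_id i)).hom.app (CM 0) := by
      have h2 := congrArg ((Scheme.Modules.pullbackComp i (𝟙 X)).hom.app (CM 0) ≫ ·) h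
      simp only [Iso.hom_inv_id_app_assoc, Category.comp_id] at h2
      exact h2.trans (congrArg (_ ≫ ·) (by simp [Scheme.Modules.pullbackCongr]))
    rw [← h', ← Functor.map_comp]
    exact (congrArg (Scheme.Modules.pullback i).map ((Scheme.Modules.pullbackId X).inv_hom_id_app (CM 0))).trans
      ((Scheme.Modules.pullback i).map_id _)
  rw [← Category.assoc, ← Category.assoc, Category.assoc ((Scheme.Modules.pullback i).map ψ), hid, Category.id_comp]

end Groth.Agent.S18857
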