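import Groth.Statements.S18864
import Mathlib

set_option linter.style.haveILetI false

set_option autoImplicit false
universe u v w
open HopfRep

namespace Groth.Agent.S18864

/-- Let k be a field and G = lim G_i a pro-algebraic group scheme over k, so that G = Spec A with A the
direct limit of the Hopf algebras A_i of the affine group schemes G_i of finite type; assume
moreover that the maps A_i → A are injective, so that A is the directed union of the A_i, here given
as injective bialgebra maps A_i → A with directed, jointly covering images. Then every homomorphism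
from G to an affine group scheme H = Spec B of finite type over k factors through some projection G
→ G_i: every bialgebra map f : B → A with B finitely generated as a k-algebra is the composite of
A_i → A with a bialgebra map B → A_i for some i. (The published statement allows arbitrary
transition maps in the system; this row assumes each A_i → A injective, the case the printed
argument treats. The source also states the pro-finite variant with H finite, which is the case of
finite-dimensional A_i and B; finite generation of the A_i is not used.) -/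
theorem result (k : Type u) [Field k]
    (A : Type v) [CommRing A] [HopfAlgebra k A] {ι : Type v} (Aι : ι → Type v)
    [∀ i, CommRing (Aι i)] [∀ i, HopfAlgebra k (Aι i)] (emb : ∀ i, Aι i →ₐc[k] A)
    (hinj : ∀ i, Function.Injective (emb i))
    (hdir : ∀ i j, ∃ l, Set.range (emb i) ⊆ Set.range (emb l) ∧ Set.range (emb j) ⊆ Set.range (emb l))
    (hcov : ∀ a : A, ∃ i, a ∈ Set.range (emb i))
    (B : Type w) [CommRing B] [HopfAlgebra k B] [Algebra.FiniteType k B] (f : B →ₐc[k] A) :
    ∃ (i : ι) (g : B →ₐc[k] Aι i), (emb i).comp g = f := by
  classical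
  obtain ⟨s, hs⟩ := (‹Algebra.FiniteType k B›).out
  have : Nonempty ι := ⟨(hcov 0).choose⟩
  have hdir' : Directed (· ⊆ ·) fun i => Set.range (emb i) := fun i j => hdir i j
  obtain ⟨i, hi⟩ := Directed.exists_mem_subset_of_finset_subset_biUnion hdir'
    (s := s.image f) (fun a _ => Set.mem_iUnion.mpr (hcov a))
  have hB : ∀ b : B, ∃ a, emb i a = f b := by
    intro b
    have hb : b ∈ Algebra.adjoin k (s : Set B) := hs ▸ Algebra.mem_top
    induction hb using Algebra.adjoin_induction with
    | mem x hx => exact hi (Finset.mem_coe.mpr (Finset.mem_image_of_mem f hx))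
    | algebraMap r => exact ⟨algebraMap k (Aι i) r, by rw [AlgHomClass.commutes, AlgHomClass.commutes]⟩
    | add x y _ _ hx hy =>
      obtain ⟨a, ha⟩ := hx
      obtain ⟨c, hc⟩ := hy
      exact ⟨a + c, by rw [map_add, map_add, ha, hc]⟩
    | mul x y _ _ hx hy =>
      obtain ⟨a, ha⟩ := hx
      obtain ⟨c, hc⟩ := hy
      exact ⟨a * c, by rw [map_mul, map_mul, ha, hc]⟩
  choose g₀ hg₀ using hB
  let g : B →ₐ[k] Aι i :=
    { toFun := g₀
      map_one' := hinj i (by rw [hg₀, map_one, map_one])
      map_mul' := fun a b => hinj i (by rw [hg₀, map_mul, map_mul, hg₀, hg₀])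
      map_zero' := hinj i (by rw [hg₀, map_zero, map_zero])
      map_add' := fun a b => hinj i (by rw [hg₀, map_add, map_add, hg₀, hg₀])
      commutes' := fun r => hinj i (by rw [hg₀, AlgHomClass.commutes, AlgHomClass.commutes]) }
  have he : (emb i : Aι i →ₐ[k] A).comp g = (f : B →ₐ[k] A) := AlgHom.ext hg₀
  refine ⟨i, BialgHom.ofAlgHom g ?_ ?_, BialgHom.ext hg₀⟩
  · refine AlgHom.ext fun b => ?_
    show CoalgebraStruct.counit (g b) = CoalgebraStruct.counit b
    rw [← CoalgHomClass.counit_comp_apply (emb i) (g b)]
    show CoalgebraStruct.counit (emb i (g₀ b)) = _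
    rw [hg₀, CoalgHomClass.counit_comp_apply f b]
  · have hi2 : Function.Injective (TensorProduct.map (emb i : Aι i →ₐ[k] A).toLinearMap
        (emb i : Aι i →ₐ[k] A).toLinearMap) :=
      TensorProduct.map_injective_of_flat_flat _ _ (hinj i) (hinj i)
    refine AlgHom.ext fun b => hi2 ?_
    show TensorProduct.map (emb i : Aι i →ₐ[k] A).toLinearMap (emb i : Aι i →ₐ[k] A).toLinearMap
        (TensorProduct.map g.toLinearMap g.toLinearMap (CoalgebraStruct.comul b)) =
      TensorProduct.map (emb i : Aι i →ₐ[k] A).toLinearMap (emb i : Aι i →ₐ[k] A).toLinearMap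
        (CoalgebraStruct.comul (g b))
    rw [← LinearMap.comp_apply, ← TensorProduct.map_comp, ← AlgHom.comp_toLinearMap, he]
    refine (CoalgHomClass.map_comp_comul_apply f b).trans ?_
    refine Eq.trans ?_ (CoalgHomClass.map_comp_comul_apply (emb i) (g b)).symm
    show CoalgebraStruct.comul (f b) = CoalgebraStruct.comul (emb i (g₀ b))
    rw [hg₀]

end Groth.Agent.S18864
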