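import Groth.Statements.S18868
import Groth.Agent.Goren.Liaison

set_option autoImplicit false
universe u
open Liaison

namespace Groth.Agent.S18868

/-- Let K be a field, R = K[x_0, …, x_n] graded by degree, c ≥ 2, 𝔠 ⊂ R a homogeneous complete
intersection of codimension c, that is a homogeneous ideal of height c generated by c elements g_1,
…, g_c, and I ⊂ R a homogeneous ideal of height c with R/I Cohen–Macaulay which properly contains 𝔠
and has the form I = 𝔠 + fR for some f (so I is an almost complete intersection). Then the linked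
ideal J = 𝔠 : I has height c and R/J is a Gorenstein ring. (A Gorenstein ideal of the notes, one
whose quotient is Cohen–Macaulay with last graded Betti number 1, is rendered as: the quotient ring
is Gorenstein.) -/
theorem result (K : Type u) [Field K] (n c : ℕ) (hc : 2 ≤ c)
    (g : Fin c → MvPolynomial (Fin (n + 1)) K) (f : MvPolynomial (Fin (n + 1)) K) (𝔠 I : Ideal (MvPolynomial (Fin (n + 1)) K)) (h𝔠g : Ideal.span (Set.range g) = 𝔠)
    (h𝔠 : 𝔠.IsHomogeneous (GrSyz.stdGr K (Fin (n + 1)))) (hI : I.IsHomogeneous (GrSyz.stdGr K (Fin (n + 1))))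
    (h𝔠c : 𝔠.height = c) (hIc : I.height = c) [LocCoh.IsCohenMacaulayRing (MvPolynomial (Fin (n + 1)) K ⧸ I)]
    (hlt : 𝔠 < I) (hIf : I = 𝔠 ⊔ Ideal.span {f}) :
    (𝔠.colon (I : Set (MvPolynomial (Fin (n + 1)) K))).height = c ∧
      LocCoh.IsGorensteinRing (MvPolynomial (Fin (n + 1)) K ⧸ 𝔠.colon (I : Set (MvPolynomial (Fin (n + 1)) K))) := by
  subst h𝔠g
  subst hIf
  haveI : LocCoh.IsGorensteinRing (MvPolynomial (Fin (n + 1)) K) := Groth.Agent.Goren.isGorensteinRing_mvPolynomial_fin K
    (Groth.Agent.Goren.isGorensteinRing_of_regular K inferInstance) (n + 1)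
  have hI' := Groth.Agent.Goren.height_minimal_homogeneous _ hI hIc
  have main := fun (P : Ideal (MvPolynomial (Fin (n + 1)) K)) (_ : P.IsPrime)
      (hP : (Ideal.span (Set.range g)).colon ({f} : Set (MvPolynomial (Fin (n + 1)) K)) ≤ P) =>
    Groth.Agent.Goren.link_aci g f h𝔠c.ge hI' P hP
  rw [Groth.Agent.Goren.colon_sup_singleton]
  refine ⟨Groth.Agent.Goren.height_eq_of_dim _ (fun htop => ?_) (fun P hP hJP => (main P hP hJP).2),
    Groth.Agent.Goren.isGorensteinRing_quot_of_local _ (fun P hP hJP => (main P hP hJP).1)⟩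
  refine hlt.ne (le_antisymm le_sup_left (sup_le le_rfl ((Ideal.span_singleton_le_iff_mem _).2 ?_)))
  have h := (Ideal.eq_top_iff_one _).1 htop
  rwa [Submodule.mem_colon_singleton, one_smul] at h

end Groth.Agent.S18868
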