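import Groth.Statements.S18869
import Groth.Agent.Goren.Liaison

set_option autoImplicit false
universe u
open Liaison

namespace Groth.Agent.S18869

/-- Let K be a field, R = K[x_0, …, x_n] graded by degree, and I₁, I₂ ⊂ R homogeneous ideals of the same
height c such that R/I₁ and R/I₂ are Cohen–Macaulay rings (they define arithmetically Cohen–Macaulay
subschemes of codimension c) and I₁, I₂ have no minimal prime in common (no common component). If
R/(I₁ ∩ I₂) is a Gorenstein ring (the union is arithmetically Gorenstein), then I₁ + I₂ has height c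
+ 1 and R/(I₁ + I₂) is a Gorenstein ring (the intersection is arithmetically Gorenstein of
codimension c + 1). (Arithmetically Gorenstein, in the notes arithmetically Cohen–Macaulay with last
graded Betti number 1, is rendered as: the quotient ring is Gorenstein.) -/
theorem result (K : Type u) [Field K] (n c : ℕ)
    (I₁ I₂ : Ideal (MvPolynomial (Fin (n + 1)) K))
    (hI₁ : I₁.IsHomogeneous (GrSyz.stdGr K (Fin (n + 1)))) (hI₂ : I₂.IsHomogeneous (GrSyz.stdGr K (Fin (n + 1))))
    [LocCoh.IsCohenMacaulayRing (MvPolynomial (Fin (n + 1)) K ⧸ I₁)] [LocCoh.IsCohenMacaulayRing (MvPolynomial (Fin (n + 1)) K ⧸ I₂)]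
    (h₁ : I₁.height = c) (h₂ : I₂.height = c) (hdisj : Disjoint I₁.minimalPrimes I₂.minimalPrimes)
    [LocCoh.IsGorensteinRing (MvPolynomial (Fin (n + 1)) K ⧸ (I₁ ⊓ I₂))] :
    (I₁ ⊔ I₂).height = c + 1 ∧ LocCoh.IsGorensteinRing (MvPolynomial (Fin (n + 1)) K ⧸ (I₁ ⊔ I₂)) := by
  haveI : LocCoh.IsGorensteinRing (MvPolynomial (Fin (n + 1)) K) := Groth.Agent.Goren.isGorensteinRing_mvPolynomial_fin K
    (Groth.Agent.Goren.isGorensteinRing_of_regular K inferInstance) (n + 1)
  have h₁' := Groth.Agent.Goren.height_minimal_homogeneous _ hI₁ h₁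
  have h₂' := Groth.Agent.Goren.height_minimal_homogeneous _ hI₂ h₂
  have main := fun (P : Ideal (MvPolynomial (Fin (n + 1)) K)) (_ : P.IsPrime) (hP : I₁ ⊔ I₂ ≤ P) =>
    Groth.Agent.Goren.link_geom I₁ I₂ h₁' h₂' hdisj P hP
  refine ⟨?_, Groth.Agent.Goren.isGorensteinRing_quot_of_local _ (fun P hP hJP => (main P hP hJP).1)⟩
  refine (Groth.Agent.Goren.height_eq_of_dim _ (ne_top_of_le_ne_top
    (RingHom.ker_ne_top (MvPolynomial.constantCoeff : MvPolynomial (Fin (n + 1)) K →+* K)) (sup_le ?_ ?_))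
    (fun P hP hJP => (main P hP hJP).2)).trans (by push_cast; rfl)
  · intro x hx
    have hne : I₁ ≠ ⊤ := fun h => by
      subst h
      simp at h₁
    obtain ⟨q, hq⟩ := Ideal.nonempty_minimalPrimes hne
    exact Groth.Agent.Goren.minimal_le_irrelevant I₁ hI₁ hq (hq.1.2 hx)
  · intro x hx
    have hne : I₂ ≠ ⊤ := fun h => by
      subst h
      simp at h₂
    obtain ⟨q, hq⟩ := Ideal.nonempty_minimalPrimes hne
    exact Groth.Agent.Goren.minimal_le_irrelevant I₂ hI₂ hq (hq.1.2 hx)

end Groth.Agent.S18869
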