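import Groth.Statements.S18870
import Mathlib

set_option linter.style.haveILetI false

set_option autoImplicit false
universe u
open Liaison

namespace Groth.Agent.S18870

/-- Let K be a field, R = K[x_0, …, x_n] graded by degree, and J ⊆ I ⊂ R homogeneous ideals with J ≠ 0,
height I = height J + 1 = h + 1 and R/J Cohen–Macaulay; let f ∈ R be homogeneous of degree d with J
: f = J, and put Ĩ = J + fI (the basic double link). Then Ĩ has the same height h + 1 as I. -/
theorem result (K : Type u) [Field K] (n h : ℕ)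
    (J I : Ideal (MvPolynomial (Fin (n + 1)) K))
    (hJ : J.IsHomogeneous (GrSyz.stdGr K (Fin (n + 1)))) (hI : I.IsHomogeneous (GrSyz.stdGr K (Fin (n + 1))))
    (hJ0 : J ≠ ⊥) (hJI : J ≤ I) (hJh : J.height = h) (hIh : I.height = h + 1)
    [LocCoh.IsCohenMacaulayRing (MvPolynomial (Fin (n + 1)) K ⧸ J)]
    (f : MvPolynomial (Fin (n + 1)) K) (d : ℕ) (hf : f ∈ GrSyz.stdGr K (Fin (n + 1)) (d : ℤ)) (hJf : J.colon {f} = J) :
    (J ⊔ Ideal.span {f} * I).height = h + 1 := by
  refine le_antisymm ?_ ?_
  · rw [← hIh]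
    exact Ideal.height_mono (sup_le hJI Ideal.mul_le_right)
  · rw [Ideal.height_eq_inf_minimalPrimes (J ⊔ Ideal.span {f} * I)]
    refine le_iInf₂ fun P hP ↦ ?_
    have : P.IsPrime := hP.1.1
    have hle := hP.1.2
    have hJP : J ≤ P := le_sup_left.trans hle
    rcases (Ideal.IsPrime.mul_le this).mp (le_sup_right.trans hle) with hfP | hIP
    · have hnot : P ∉ J.minimalPrimes := fun hmin ↦ by
        obtain ⟨y, hy, hxy⟩ := Ideal.exists_mul_mem_of_mem_minimalPrimes hmin
          (hfP (Ideal.mem_span_singleton_self f))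
        refine hy ?_
        rw [← hJf, Submodule.mem_colon_singleton, smul_eq_mul, mul_comm]
        exact hxy
      obtain ⟨q, hq, hqP⟩ := Ideal.exists_minimalPrimes_le hJP
      have : q.IsPrime := hq.1.1
      have hlt : q < P := lt_of_le_of_ne hqP fun e ↦ hnot (e ▸ hq)
      calc (h : ℕ∞) + 1 ≤ q.height + 1 := by rw [← hJh]; exact add_le_add_left (Ideal.height_mono hq.1.2) 1
        _ ≤ P.height := Ideal.height_add_one_le_of_lt_of_isPrime hlt
    · rw [← hIh]; exact Ideal.height_mono hIP

end Groth.Agent.S18870
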