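import Groth.Statements.S18871
import Groth.Agent.Goren.Liaison
import Groth.Agent.CMFlat.Localization

set_option autoImplicit false
universe u
open Liaison

open Groth.Agent
set_option maxHeartbeats 800000
set_option synthInstance.maxHeartbeats 80000
namespace Groth.Agent.S18871

theorem dim_eq_one_of_socle (M : Type u) [CommRing M] [LocCoh.IsCohenMacaulayLocalRing M] {g : M}
    (hg : g ∈ IsLocalRing.maximalIdeal M) (hreg : IsSMulRegular M g) (y : M) (hy : y ∉ Ideal.span {g})
    (hkill : ∀ z ∈ IsLocalRing.maximalIdeal M, z * y ∈ Ideal.span {g}) : ringKrullDim M = 1 := by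
  obtain ⟨k, hk⟩ := SerreReg.exists_dim_nat M
  haveI : Nontrivial (M ⧸ Ideal.span {g}) := Ideal.Quotient.nontrivial_iff.2 fun he =>
    hy (he ▸ Submodule.mem_top)
  haveI : IsLocalRing (M ⧸ Ideal.span {g}) := IsLocalRing.of_surjective' _ Ideal.Quotient.mk_surjective
  cases k with
  | zero =>
    exfalso
    have h1 := ringKrullDim_quotient_span_singleton_succ_eq_ringKrullDim_of_mem_jacobson hreg
      (by rwa [IsLocalRing.ringJacobson_eq_maximalIdeal])
    obtain ⟨l, hl⟩ := SerreReg.exists_dim_nat (M ⧸ Ideal.span {g})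
    rw [hl, hk] at h1
    have : l + 1 = 0 := by exact_mod_cast h1
    omega
  | succ k =>
    obtain ⟨hS, hSd⟩ := CMFlat.isCohenMacaulayLocalRing_quotient M hg hreg hk
    have hass : IsLocalRing.maximalIdeal (M ⧸ Ideal.span {g}) ∈
        associatedPrimes (M ⧸ Ideal.span {g}) (M ⧸ Ideal.span {g}) := by
      refine Submodule.isAssociatedPrime_iff.2 ⟨inferInstance, Ideal.Quotient.mk _ y, le_antisymm (fun z hz => ?_) ?_⟩
      · rw [← IsLocalRing.map_maximalIdeal_of_surjective _ Ideal.Quotient.mk_surjective,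
          Ideal.mem_map_iff_of_surjective _ Ideal.Quotient.mk_surjective] at hz
        obtain ⟨z, hz, rfl⟩ := hz
        rw [Submodule.mem_colon_singleton, Submodule.mem_bot, smul_eq_mul, ← map_mul, Ideal.Quotient.eq_zero_iff_mem]
        exact hkill z hz
      · refine IsLocalRing.le_maximalIdeal fun he => hy ?_
        have h1 : (1 : M ⧸ Ideal.span {g}) ∈ (⊥ : Submodule (M ⧸ Ideal.span {g}) (M ⧸ Ideal.span {g})).colon
            {Ideal.Quotient.mk _ y} := he ▸ Submodule.mem_top
        rw [Submodule.mem_colon_singleton, Submodule.mem_bot, one_smul] at h1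
        exact Ideal.Quotient.eq_zero_iff_mem.1 h1
    have h0 := CMFlat.associatedPrimes_subset_minimalPrimes _ hass
    have hd0 : ringKrullDim (M ⧸ Ideal.span {g}) ≤ 0 := by
      rw [← IsLocalRing.maximalIdeal_height_eq_ringKrullDim, Ideal.height_eq_zero_iff.2 h0]
      rfl
    rw [hSd] at hd0
    have : k ≤ 0 := by exact_mod_cast hd0
    obtain rfl : k = 0 := by omega
    rw [hk]
    rfl

theorem dim_localized {R : Type u} [CommRing R] (J : Ideal R) (P : Ideal R) [P.IsPrime] (f x : R)
    (hJf : J.colon {f} = J) (hle : J ⊔ Ideal.span {f} ≤ P) (hmemP : ∀ s, s ∈ P ↔ s * x ∈ J ⊔ Ideal.span {f})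
    [LocCoh.IsCohenMacaulayLocalRing (Localization.AtPrime P ⧸ J.map (algebraMap R (Localization.AtPrime P)))] :
    ringKrullDim (Localization.AtPrime P ⧸ J.map (algebraMap R (Localization.AtPrime P))) = 1 := by
  have hg : Ideal.Quotient.mk (J.map (algebraMap (R) (Localization.AtPrime P))) (algebraMap (R) (Localization.AtPrime P) f) ∈ IsLocalRing.maximalIdeal (Localization.AtPrime P ⧸ J.map (algebraMap (R) (Localization.AtPrime P))) := by
    rw [← IsLocalRing.map_maximalIdeal_of_surjective _ Ideal.Quotient.mk_surjective]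
    refine Ideal.mem_map_of_mem _ ?_
    rw [← IsLocalization.AtPrime.map_eq_maximalIdeal P (Localization.AtPrime P)]
    exact Ideal.mem_map_of_mem _ (hle (Ideal.mem_sup_right (Ideal.mem_span_singleton_self f)))
  have hreg : IsSMulRegular (Localization.AtPrime P ⧸ J.map (algebraMap (R) (Localization.AtPrime P))) (Ideal.Quotient.mk (J.map (algebraMap (R) (Localization.AtPrime P))) (algebraMap (R) (Localization.AtPrime P) f)) :=
    isSMulRegular_iff_right_eq_zero_of_smul.2 fun z hz => by
      obtain ⟨z, rfl⟩ := Ideal.Quotient.mk_surjective z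
      obtain ⟨a, s, rfl⟩ := IsLocalization.exists_mk'_eq P.primeCompl z
      rw [smul_eq_mul, ← map_mul, Ideal.Quotient.eq_zero_iff_mem, IsLocalization.mul_mk'_eq_mk'_of_mul,
        IsLocalization.mk'_mem_map_algebraMap_iff] at hz
      obtain ⟨t, ht, hta⟩ := hz
      rw [Ideal.Quotient.eq_zero_iff_mem, IsLocalization.mk'_mem_map_algebraMap_iff]
      refine ⟨t, ht, ?_⟩
      rw [← hJf, Submodule.mem_colon_singleton, smul_eq_mul]
      rwa [mul_assoc, mul_comm a f]
  have hy : Ideal.Quotient.mk (J.map (algebraMap (R) (Localization.AtPrime P))) (algebraMap (R) (Localization.AtPrime P) x) ∉ Ideal.span {Ideal.Quotient.mk (J.map (algebraMap (R) (Localization.AtPrime P))) (algebraMap (R) (Localization.AtPrime P) f)} := by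
    intro hs
    obtain ⟨c, hc⟩ := Ideal.mem_span_singleton'.1 hs
    obtain ⟨c, rfl⟩ := Ideal.Quotient.mk_surjective c
    have h1 : (algebraMap (R) (Localization.AtPrime P)) x ∈ (J ⊔ Ideal.span {f}).map (algebraMap (R) (Localization.AtPrime P)) := by
      rw [Ideal.map_sup, Ideal.map_span, Set.image_singleton]
      refine Submodule.mem_sup.2 ⟨(algebraMap (R) (Localization.AtPrime P)) x - c * (algebraMap (R) (Localization.AtPrime P)) f, ?_, c * (algebraMap (R) (Localization.AtPrime P)) f,
        Ideal.mul_mem_left _ _ (Ideal.mem_span_singleton_self _), sub_add_cancel _ _⟩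
      rw [← Ideal.Quotient.eq_zero_iff_mem, map_sub, map_mul, sub_eq_zero]
      exact hc.symm
    obtain ⟨t, ht, htx⟩ := (IsLocalization.algebraMap_mem_map_algebraMap_iff P.primeCompl _ _ _).1 h1
    exact ht ((hmemP t).2 htx)
  have hkill : ∀ z ∈ IsLocalRing.maximalIdeal (Localization.AtPrime P ⧸ J.map (algebraMap (R) (Localization.AtPrime P))),
      z * Ideal.Quotient.mk (J.map (algebraMap (R) (Localization.AtPrime P))) (algebraMap (R) (Localization.AtPrime P) x) ∈ Ideal.span {Ideal.Quotient.mk (J.map (algebraMap (R) (Localization.AtPrime P))) (algebraMap (R) (Localization.AtPrime P) f)} := by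
    intro z hz
    rw [← IsLocalRing.map_maximalIdeal_of_surjective _ Ideal.Quotient.mk_surjective,
      ← IsLocalization.AtPrime.map_eq_maximalIdeal P (Localization.AtPrime P), Ideal.map_map] at hz
    have h1 : P.map ((Ideal.Quotient.mk (J.map (algebraMap (R) (Localization.AtPrime P)))).comp (algebraMap (R) (Localization.AtPrime P))) ≤
        (Ideal.span {Ideal.Quotient.mk (J.map (algebraMap (R) (Localization.AtPrime P))) (algebraMap (R) (Localization.AtPrime P) f)}).colon {Ideal.Quotient.mk (J.map (algebraMap (R) (Localization.AtPrime P))) (algebraMap (R) (Localization.AtPrime P) x)} := by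
      refine Ideal.map_le_iff_le_comap.2 fun s hs => ?_
      rw [Ideal.mem_comap, Submodule.mem_colon_singleton, smul_eq_mul, RingHom.comp_apply, ← map_mul, ← map_mul]
      obtain ⟨j, hj, w, hw, hjw⟩ := Submodule.mem_sup.1 ((hmemP s).1 hs)
      obtain ⟨c, rfl⟩ := Ideal.mem_span_singleton'.1 hw
      rw [← hjw, map_add, map_add, map_mul, map_mul, Ideal.Quotient.eq_zero_iff_mem.2 (Ideal.mem_map_of_mem (algebraMap (R) (Localization.AtPrime P)) hj), zero_add]
      exact Ideal.mul_mem_left _ _ (Ideal.mem_span_singleton_self _)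
    simpa only [Submodule.mem_colon_singleton, smul_eq_mul] using h1 hz
  exact dim_eq_one_of_socle _ hg hreg _ hy hkill

theorem height_of_mem_associatedPrimes {K : Type u} [Field K] {m h : ℕ} (J : Ideal (MvPolynomial (Fin m) K))
    (hJ : J.IsHomogeneous (GrSyz.stdGr K (Fin m))) (hJh : J.height = h)
    [LocCoh.IsCohenMacaulayRing (MvPolynomial (Fin m) K ⧸ J)] (f : MvPolynomial (Fin m) K) (hJf : J.colon {f} = J)
    {P : Ideal (MvPolynomial (Fin m) K)}
    (hP : P ∈ associatedPrimes (MvPolynomial (Fin m) K) (MvPolynomial (Fin m) K ⧸ (J ⊔ Ideal.span {f}))) :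
    P.height = h + 1 := by
  haveI : LocCoh.IsGorensteinRing (MvPolynomial (Fin m) K) := Goren.isGorensteinRing_mvPolynomial_fin K
    (Goren.isGorensteinRing_of_regular K inferInstance) m
  have hmin := Goren.height_minimal_homogeneous J hJ hJh
  obtain ⟨hPp, x, hx⟩ := Submodule.isAssociatedPrime_iff.1 hP
  haveI := hPp
  obtain ⟨x, rfl⟩ := Ideal.Quotient.mk_surjective x
  have hmemP : ∀ s, s ∈ P ↔ s * x ∈ J ⊔ Ideal.span {f} := fun s => by
    rw [hx, Submodule.mem_colon_singleton, Submodule.mem_bot]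
    exact Ideal.Quotient.eq_zero_iff_mem
  have hle : J ⊔ Ideal.span {f} ≤ P := fun s hs => (hmemP s).2 (Ideal.mul_mem_right _ _ hs)
  have hJP : J ≤ P := le_sup_left.trans hle
  haveI := Goren.cm_quot_localized J P hJP
  have hd := dim_localized J P f x hJf hle hmemP
  have e := Goren.dim_add J hmin P hJP
  rw [hd, IsLocalization.AtPrime.ringKrullDim_eq_height P (Localization.AtPrime P)] at e
  have e' : ((1 : ℕ∞) + h) = P.height := by exact_mod_cast e
  rw [← e', add_comm]

/-- Let K be a field, R = K[x_0, …, x_n] graded by degree, and J ⊆ I ⊂ R homogeneous ideals with J ≠ 0,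
height I = height J + 1 = h + 1 and R/J Cohen–Macaulay; let f ∈ R be homogeneous of degree d with J
: f = J, and put Ĩ = J + fI (the basic double link). Then I is unmixed, meaning that every
associated prime of R/I has height h + 1, if and only if Ĩ is unmixed in the same sense. -/
theorem result (K : Type u) [Field K] (n h : ℕ)
    (J I : Ideal (MvPolynomial (Fin (n + 1)) K))
    (hJ : J.IsHomogeneous (GrSyz.stdGr K (Fin (n + 1)))) (hI : I.IsHomogeneous (GrSyz.stdGr K (Fin (n + 1))))
    (hJ0 : J ≠ ⊥) (hJI : J ≤ I) (hJh : J.height = h) (hIh : I.height = h + 1)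
    [LocCoh.IsCohenMacaulayRing (MvPolynomial (Fin (n + 1)) K ⧸ J)]
    (f : MvPolynomial (Fin (n + 1)) K) (d : ℕ) (hf : f ∈ GrSyz.stdGr K (Fin (n + 1)) (d : ℤ)) (hJf : J.colon {f} = J) :
    (∀ p ∈ associatedPrimes (MvPolynomial (Fin (n + 1)) K) (MvPolynomial (Fin (n + 1)) K ⧸ I), p.height = h + 1) ↔
      ∀ p ∈ associatedPrimes (MvPolynomial (Fin (n + 1)) K) (MvPolynomial (Fin (n + 1)) K ⧸ (J ⊔ Ideal.span {f} * I)), p.height = h + 1 := by
  let R := MvPolynomial (Fin (n + 1)) K
  let I' : Ideal R := J ⊔ Ideal.span {f} * I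
  let φ : (R ⧸ I) →ₗ[R] (R ⧸ I') := Submodule.mapQ I I' (LinearMap.mulLeft R f) fun x hx =>
    Ideal.mem_sup_right (Ideal.mul_mem_mul (Ideal.mem_span_singleton_self f) hx)
  have hle : I' ≤ J ⊔ Ideal.span {f} := sup_le le_sup_left (Ideal.mul_le_left.trans le_sup_right)
  let ψ : (R ⧸ I') →ₗ[R] (R ⧸ (J ⊔ Ideal.span {f})) := Submodule.factor hle
  have hφ : Function.Injective φ := (injective_iff_map_eq_zero φ).2 fun z hz => by
    obtain ⟨x, rfl⟩ := Submodule.mkQ_surjective _ z
    rw [Submodule.mkQ_apply, Submodule.mapQ_apply, Submodule.Quotient.mk_eq_zero] at hz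
    obtain ⟨j, hj, w, hw, hjw⟩ := Submodule.mem_sup.1 hz
    obtain ⟨i, hi, rfl⟩ := Ideal.mem_span_singleton_mul.1 hw
    have h1 : x - i ∈ J := by
      rw [← hJf, Submodule.mem_colon_singleton, smul_eq_mul]
      have : (x - i) * f = j := by
        have hjw' : j + f * i = f * x := hjw
        linear_combination (-1 : R) * hjw'
      rw [this]; exact hj
    rw [Submodule.mkQ_apply, Submodule.Quotient.mk_eq_zero, ← sub_add_cancel x i]
    exact add_mem (hJI h1) hi
  have hex : Function.Exact φ ψ := fun z => by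
    obtain ⟨x, rfl⟩ := Submodule.mkQ_surjective _ z
    constructor
    · intro hz
      have hz' : x ∈ J ⊔ Ideal.span {f} := (Submodule.Quotient.mk_eq_zero _).1 hz
      obtain ⟨j, hj, w, hw, rfl⟩ := Submodule.mem_sup.1 hz'
      obtain ⟨c, rfl⟩ := Ideal.mem_span_singleton'.1 hw
      refine ⟨Submodule.Quotient.mk c, (Submodule.Quotient.eq I').2 ?_⟩
      have : f * c - (j + c * f) = -j := by ring
      show f * c - (j + c * f) ∈ I'
      rw [this]
      exact neg_mem (Ideal.mem_sup_left hj)
    · rintro ⟨w, hw⟩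
      obtain ⟨c, rfl⟩ := Submodule.mkQ_surjective _ w
      rw [← hw]
      exact (Submodule.Quotient.mk_eq_zero _).2 (Ideal.mem_sup_right (Ideal.mul_mem_right _ _ (Ideal.mem_span_singleton_self f)))
  refine ⟨fun H p hp => ?_, fun H p hp => H p (associatedPrimes.subset_of_injective hφ hp)⟩
  rcases associatedPrimes.subset_union_of_exact hφ hex hp with h1 | h1
  · exact H p h1
  · exact height_of_mem_associatedPrimes J hJ hJh f hJf h1

end Groth.Agent.S18871
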