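import Groth.Statements.S18872
import Groth.Agent.Goren.Liaison
import Groth.Agent.LocH.Depth
import Groth.Agent.LocH.Sequence
import Groth.Agent.LocH.ChangeRings
import Groth.Agent.LocH.DepthMisc
import Groth.Agent.DimFormula.Field
import Groth.Agent.GrSyzMin.Grading

set_option autoImplicit false
universe u
open Liaison

open CategoryTheory Groth.Agent
set_option backward.isDefEq.respectTransparency false
set_option maxHeartbeats 800000
namespace Groth.Agent.S18872

theorem height_le_idealDepth_of_cm {T : Type u} [CommRing T] [LocCoh.IsCohenMacaulayRing T] (q : Ideal T) :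
    q.height ≤ LocCoh.idealDepth q T := by
  rw [LocH.idealDepth_eq_iInf]
  refine le_iInf₂ fun x hx => (Ideal.height_mono hx).trans ?_
  let A := Localization.AtPrime x.asIdeal
  haveI := LocCoh.IsCohenMacaulayRing.isCohenMacaulayLocalRing_localization (R := T) x.asIdeal
  let e : LocalizedModule x.asIdeal.primeCompl T ≃ₗ[A] A :=
    (IsLocalizedModule.linearEquiv x.asIdeal.primeCompl (LocalizedModule.mkLinearMap x.asIdeal.primeCompl T)
      (Algebra.linearMap T A)).extendScalarsOfIsLocalization x.asIdeal.primeCompl A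
  refine (?_ : _ ≤ LocCoh.depth A A).trans_eq (LocH.idealDepth_congr e _).symm
  rw [← WithBot.coe_le_coe, ← LocCoh.IsCohenMacaulayLocalRing.supportDim_eq_depth, Module.supportDim_self_eq_ringKrullDim,
    IsLocalization.AtPrime.ringKrullDim_eq_height x.asIdeal A]

theorem height_map_quot {R : Type u} [CommRing R] (J P : Ideal R) [P.IsPrime] (hJP : J ≤ P) :
    ringKrullDim (Localization.AtPrime P ⧸ J.map (algebraMap R (Localization.AtPrime P))) =
      ((P.map (Ideal.Quotient.mk J)).height : WithBot ℕ∞) := by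
  have hker : RingHom.ker (Ideal.Quotient.mk J) ≤ P := by rwa [Ideal.mk_ker]
  haveI : (P.map (Ideal.Quotient.mk J)).IsPrime := Ideal.map_isPrime_of_surjective Ideal.Quotient.mk_surjective hker
  have hcomap : (P.map (Ideal.Quotient.mk J)).comap (Ideal.Quotient.mk J) = P := by
    rw [Ideal.comap_map_of_surjective' _ Ideal.Quotient.mk_surjective, sup_eq_left.2 hker]
  obtain ⟨e⟩ := Goren.quot_localization R J (P.map (Ideal.Quotient.mk J))
  have h := (ringKrullDim_eq_of_ringEquiv e).trans
    (IsLocalization.AtPrime.ringKrullDim_eq_height (P.map (Ideal.Quotient.mk J)) _)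
  revert h
  rw! [hcomap]
  exact id

theorem le_height_irrel {K : Type u} [Field K] {n h : ℕ} (J : Ideal (MvPolynomial (Fin n) K))
    (hJ : J.IsHomogeneous (GrSyz.stdGr K (Fin n))) (hJh : J.height = h)
    [LocCoh.IsCohenMacaulayRing (MvPolynomial (Fin n) K ⧸ J)] (m : Ideal (MvPolynomial (Fin n) K)) [hm : m.IsMaximal]
    (hJm : J ≤ m) : ((n - h : ℕ) : ℕ∞) ≤ (m.map (Ideal.Quotient.mk J)).height := by
  haveI : LocCoh.IsGorensteinRing (MvPolynomial (Fin n) K) := Goren.isGorensteinRing_mvPolynomial_fin K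
    (Goren.isGorensteinRing_of_regular K inferInstance) n
  have hmin := Goren.height_minimal_homogeneous J hJ hJh
  have e1 := Goren.dim_add J hmin m hJm
  rw [height_map_quot J m hJm, IsLocalization.AtPrime.ringKrullDim_eq_height m (Localization.AtPrime m)] at e1
  have e2 : (m.map (Ideal.Quotient.mk J)).height + (h : ℕ∞) = m.height := by
    rw [← WithBot.coe_inj, WithBot.coe_add]
    exact e1
  have e3 : (n : ℕ∞) = m.height := by
    have h1 := DimFormula.height_add_ringKrullDim_quotient K ⟨m, hm.isPrime⟩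
    have h2 : ringKrullDim (MvPolynomial (Fin n) K ⧸ m) = 0 := by
      letI := Ideal.Quotient.field m
      exact ringKrullDim_eq_zero_of_field _
    rw [h2, add_zero, MvPolynomial.ringKrullDim_of_isNoetherianRing, ringKrullDim_eq_zero_of_field, zero_add] at h1
    rw [← WithBot.coe_inj]
    refine Eq.trans ?_ h1.symm
    rw [Nat.card_eq_fintype_card, Fintype.card_fin]
    rfl
  rw [← e3] at e2
  obtain ⟨a, ha⟩ := ENat.ne_top_iff_exists.1 (fun h0 : (m.map (Ideal.Quotient.mk J)).height = ⊤ => by
    rw [h0, top_add] at e2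
    exact ENat.coe_ne_top n e2.symm)
  rw [← ha] at e2 ⊢
  have : a + h = n := by exact_mod_cast e2
  rw [Nat.cast_le]
  omega

theorem subsingleton_H_quot {K : Type u} [Field K] {n h : ℕ} (J : Ideal (MvPolynomial (Fin n) K))
    (hJ : J.IsHomogeneous (GrSyz.stdGr K (Fin n))) (hJh : J.height = h)
    [LocCoh.IsCohenMacaulayRing (MvPolynomial (Fin n) K ⧸ J)] (m : Ideal (MvPolynomial (Fin n) K)) [hm : m.IsMaximal]
    (hJm : J ≤ m) (i : ℕ) (hi : i + h < n) : Subsingleton (LocCoh.H m i (MvPolynomial (Fin n) K ⧸ J)) := by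
  have h1 := (LocH.le_idealDepth_iff _ _ (n - h)).1
    ((le_height_irrel J hJ hJh m hJm).trans (height_le_idealDepth_of_cm (m.map (Ideal.Quotient.mk J)))) i (by omega)
  obtain ⟨φ, -⟩ := LocH.exists_semilinearEquiv (R' := MvPolynomial (Fin n) K ⧸ J) m i (MvPolynomial (Fin n) K ⧸ J)
  exact (φ.toEquiv.subsingleton_congr).1 h1

/-- Let K be a field, R = K[x_0, …, x_n] graded by degree, and J ⊆ I ⊂ R homogeneous ideals with J ≠ 0,
height I = height J + 1 = h + 1 and R/J Cohen–Macaulay; let f ∈ R be homogeneous of degree d with J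
: f = J, and put Ĩ = J + fI (the basic double link). Then for every i < n − h = dim R/I the local
cohomology modules of R/Ĩ and of R/I with support in the irrelevant ideal 𝔪 = (x_0, …, x_n) are
isomorphic in degree i. (The graded statement is H^i_𝔪(R/Ĩ) ≅ H^i_𝔪(R/I)(−d); here only the
existence of an R-linear isomorphism of the underlying modules is asserted, the grading and the
shift by d being dropped.) -/
theorem result (K : Type u) [Field K] (n h : ℕ)
    (J I : Ideal (MvPolynomial (Fin (n + 1)) K))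
    (hJ : J.IsHomogeneous (GrSyz.stdGr K (Fin (n + 1)))) (hI : I.IsHomogeneous (GrSyz.stdGr K (Fin (n + 1))))
    (hJ0 : J ≠ ⊥) (hJI : J ≤ I) (hJh : J.height = h) (hIh : I.height = h + 1)
    [LocCoh.IsCohenMacaulayRing (MvPolynomial (Fin (n + 1)) K ⧸ J)]
    (f : MvPolynomial (Fin (n + 1)) K) (d : ℕ) (hf : f ∈ GrSyz.stdGr K (Fin (n + 1)) (d : ℤ)) (hJf : J.colon {f} = J) (i : ℕ) (hi : i + h < n) :
    Nonempty (LocCoh.H (GrSyz.irrel (GrSyz.stdGr K (Fin (n + 1)))).toIdeal i (MvPolynomial (Fin (n + 1)) K ⧸ (J ⊔ Ideal.span {f} * I)) ≃ₗ[MvPolynomial (Fin (n + 1)) K]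
      LocCoh.H (GrSyz.irrel (GrSyz.stdGr K (Fin (n + 1)))).toIdeal i (MvPolynomial (Fin (n + 1)) K ⧸ I)) := by
  let R := MvPolynomial (Fin (n + 1)) K
  have hirr : (GrSyz.irrel (GrSyz.stdGr K (Fin (n + 1)))).toIdeal =
      RingHom.ker (MvPolynomial.constantCoeff : R →+* K) := Ideal.ext fun p => GrSyzMin.mem_irrel_iff
  rw [hirr]
  haveI : (RingHom.ker (MvPolynomial.constantCoeff : R →+* K)).IsMaximal :=
    RingHom.ker_isMaximal_of_surjective _ fun c => ⟨MvPolynomial.C c, MvPolynomial.constantCoeff_C _ c⟩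
  set m := RingHom.ker (MvPolynomial.constantCoeff : R →+* K) with hm
  have hJm : J ≤ m := fun x hx => by
    have hne : J ≠ ⊤ := fun he => by simp [he] at hJh
    obtain ⟨q, hq⟩ := Ideal.nonempty_minimalPrimes hne
    exact Goren.minimal_le_irrelevant J hJ hq (hq.1.2 hx)
  have hJ0' : ∀ j, j + h < n + 1 → Subsingleton (LocCoh.H m j (R ⧸ J)) := fun j hj =>
    subsingleton_H_quot J hJ hJh m hJm j hj
  -- `R/(J, f)`
  let ρ : (R ⧸ J) →ₗ[R] (R ⧸ (J ⊔ Ideal.span {f})) := Submodule.factor le_sup_left
  let μ : (R ⧸ J) →ₗ[R] (R ⧸ J) := LinearMap.lsmul R (R ⧸ J) f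
  have hμρ : ρ.comp μ = 0 := LinearMap.ext fun z => by
    obtain ⟨x, rfl⟩ := Submodule.mkQ_surjective _ z
    show ρ (f • Submodule.Quotient.mk x) = 0
    rw [← Submodule.Quotient.mk_smul]
    exact (Submodule.Quotient.mk_eq_zero _).2 (Ideal.mem_sup_right (Ideal.mul_mem_right _ _ (Ideal.mem_span_singleton_self f)))
  let S₁ : ShortComplex (ModuleCat.{u} R) := ShortComplex.mk (ModuleCat.ofHom μ) (ModuleCat.ofHom ρ) (by ext1; exact hμρ)
  have hS₁ : S₁.ShortExact :=
    { exact := by
        rw [ShortComplex.moduleCat_exact_iff]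
        intro y hy
        obtain ⟨x, rfl⟩ := Submodule.mkQ_surjective J y
        obtain ⟨j, hj, w, hw, rfl⟩ := Submodule.mem_sup.1 ((Submodule.Quotient.mk_eq_zero _).1 hy)
        obtain ⟨c, rfl⟩ := Ideal.mem_span_singleton'.1 hw
        refine ⟨Submodule.Quotient.mk c, ?_⟩
        show f • (Submodule.Quotient.mk c : R ⧸ J) = Submodule.Quotient.mk (j + c * f)
        rw [← Submodule.Quotient.mk_smul, Submodule.Quotient.eq, smul_eq_mul,
          show f * c - (j + c * f) = -j by ring]
        exact neg_mem hj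
      mono_f := (ModuleCat.mono_iff_injective _).2 ((injective_iff_map_eq_zero μ).2 fun z hz => by
        obtain ⟨x, rfl⟩ := Submodule.mkQ_surjective _ z
        rw [Submodule.mkQ_apply, Submodule.Quotient.mk_eq_zero, ← hJf, Submodule.mem_colon_singleton]
        have hz' : f • (Submodule.Quotient.mk x : R ⧸ J) = 0 := hz
        rwa [← Submodule.Quotient.mk_smul, Submodule.Quotient.mk_eq_zero, smul_eq_mul, mul_comm] at hz')
      epi_g := (ModuleCat.epi_iff_surjective _).2 (Submodule.factor_surjective le_sup_left) }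
  have hJf0 : ∀ j, j + h < n → Subsingleton ↑((localCohomology m j).obj S₁.X₃) := fun j hj =>
    LocH.subsingleton_X₃ hS₁ j (hJ0' j (by omega)) (hJ0' (j + 1) (by omega))
  -- the basic double link sequence
  let I' : Ideal R := J ⊔ Ideal.span {f} * I
  let φ : (R ⧸ I) →ₗ[R] (R ⧸ I') := Submodule.mapQ I I' (LinearMap.mulLeft R f) fun x hx =>
    Ideal.mem_sup_right (Ideal.mul_mem_mul (Ideal.mem_span_singleton_self f) hx)
  have hle : I' ≤ J ⊔ Ideal.span {f} := sup_le le_sup_left (Ideal.mul_le_left.trans le_sup_right)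
  let ψ : (R ⧸ I') →ₗ[R] (R ⧸ (J ⊔ Ideal.span {f})) := Submodule.factor hle
  have hφψ : ψ.comp φ = 0 := LinearMap.ext fun w => by
    obtain ⟨c, rfl⟩ := Submodule.mkQ_surjective _ w
    exact (Submodule.Quotient.mk_eq_zero _).2 (Ideal.mem_sup_right (Ideal.mul_mem_right _ _ (Ideal.mem_span_singleton_self f)))
  let S₂ : ShortComplex (ModuleCat.{u} R) := ShortComplex.mk (ModuleCat.ofHom φ) (ModuleCat.ofHom ψ) (by ext1; exact hφψ)
  have hS₂ : S₂.ShortExact :=
    { exact := by
        rw [ShortComplex.moduleCat_exact_iff]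
        intro y hy
        obtain ⟨x, rfl⟩ := Submodule.mkQ_surjective I' y
        obtain ⟨j, hj, w, hw, rfl⟩ := Submodule.mem_sup.1 ((Submodule.Quotient.mk_eq_zero _).1 hy)
        obtain ⟨c, rfl⟩ := Ideal.mem_span_singleton'.1 hw
        refine ⟨Submodule.Quotient.mk c, (Submodule.Quotient.eq I').2 ?_⟩
        show f * c - (j + c * f) ∈ I'
        rw [show f * c - (j + c * f) = -j by ring]
        exact neg_mem (Ideal.mem_sup_left hj)
      mono_f := (ModuleCat.mono_iff_injective _).2 ((injective_iff_map_eq_zero φ).2 fun z hz => by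
        obtain ⟨x, rfl⟩ := Submodule.mkQ_surjective _ z
        rw [Submodule.mkQ_apply, Submodule.mapQ_apply, Submodule.Quotient.mk_eq_zero] at hz
        obtain ⟨j, hj, w, hw, hjw⟩ := Submodule.mem_sup.1 hz
        obtain ⟨k, hk, rfl⟩ := Ideal.mem_span_singleton_mul.1 hw
        have h1 : x - k ∈ J := by
          rw [← hJf, Submodule.mem_colon_singleton, smul_eq_mul]
          have : (x - k) * f = j := by
            have hjw' : j + f * k = f * x := hjw
            linear_combination (-1 : R) * hjw'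
          rw [this]; exact hj
        rw [Submodule.mkQ_apply, Submodule.Quotient.mk_eq_zero, ← sub_add_cancel x k]
        exact add_mem (hJI h1) hk)
      epi_g := (ModuleCat.epi_iff_surjective _).2 (Submodule.factor_surjective hle) }
  have hinj : Function.Injective ((localCohomology m i).map S₂.f).hom := by
    refine (injective_iff_map_eq_zero _).2 fun x hx => ?_
    cases i with
    | zero =>
      obtain ⟨k, hk⟩ : ∃ k, x = k := ⟨x, rfl⟩
      have hmono : Function.Injective ((DRing.gammaI m).map S₂.f).hom := fun a b hab =>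
        Subtype.ext ((ModuleCat.mono_iff_injective S₂.f).1 hS₂.mono_f (congrArg Subtype.val hab))
      have hnat := congrArg (fun t => t.hom x) ((LocH.zeroIso m).hom.naturality S₂.f)
      simp only [ModuleCat.hom_comp, LinearMap.comp_apply] at hnat
      rw [hx, map_zero] at hnat
      have h2 := hmono (hnat.symm.trans (map_zero _).symm)
      have h3 := congrArg ((LocH.zeroIso m).app S₂.X₁).inv.hom h2
      simpa using h3
    | succ k =>
      obtain ⟨y, rfl⟩ := LocH.exact₁ hS₂ k (x := x) hx
      haveI : Subsingleton ↑((localCohomology m k).obj S₂.X₃) := hJf0 k (by omega)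
      rw [Subsingleton.elim y 0, map_zero]
  have hsurj : Function.Surjective ((localCohomology m i).map S₂.f).hom := fun y => by
    haveI : Subsingleton ↑((localCohomology m i).obj S₂.X₃) := hJf0 i hi
    exact LocH.exact₂ hS₂ i (x := y) (Subsingleton.elim _ _)
  exact ⟨(LinearEquiv.ofBijective ((localCohomology m i).map S₂.f).hom ⟨hinj, hsurj⟩).symm⟩

end Groth.Agent.S18872
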