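import Groth.Statements.S18873
import Groth.Agent.CIHilb.LinkDeg

set_option autoImplicit false
universe u
open Liaison

namespace Groth.Agent.S18873

/-- Let K be a field, R = K[x_0, …, x_n] graded by degree, 2 ≤ c ≤ n, 𝔠 ⊂ R a homogeneous ideal of
height c such that R/𝔠 is a Gorenstein ring, I ⊂ R a homogeneous ideal of height c containing 𝔠, and
J = 𝔠 : I. Write h_𝔞(j) = dim_K [R/𝔞]_j for the Hilbert function of R/𝔞. If p_𝔠, p_I, p_J ∈ ℚ[t] are
polynomials agreeing with h_𝔠, h_I, h_J in all sufficiently large degrees (Hilbert polynomials; R/𝔠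
and R/I have dimension n + 1 − c ≥ 1, and so has R/J unless I = 𝔠, when J = R and p_J = 0), then the
coefficients of t^(n−c) satisfy p_J = p_𝔠 − p_I in that degree; multiplying by (n − c)! this says
deg J = deg 𝔠 − deg I. -/
theorem result (K : Type u) [Field K] (n c : ℕ) (hc : 2 ≤ c) (hcn : c ≤ n)
    (𝔠 I : Ideal (MvPolynomial (Fin (n + 1)) K))
    (h𝔠 : 𝔠.IsHomogeneous (GrSyz.stdGr K (Fin (n + 1)))) (hI : I.IsHomogeneous (GrSyz.stdGr K (Fin (n + 1))))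
    [LocCoh.IsGorensteinRing (MvPolynomial (Fin (n + 1)) K ⧸ 𝔠)] (h𝔠c : 𝔠.height = c) (hIc : I.height = c) (h𝔠I : 𝔠 ≤ I)
    (p𝔠 pI pJ : Polynomial ℚ)
    (hp𝔠 : ∃ j₀ : ℕ, ∀ j : ℕ, j₀ ≤ j → (Module.finrank K ↥(Submodule.map (Ideal.Quotient.mkₐ K (𝔠)).toLinearMap (GrSyz.stdGr K (Fin (n + 1)) (j : ℤ))) : ℚ) = p𝔠.eval (j : ℚ))
    (hpI : ∃ j₀ : ℕ, ∀ j : ℕ, j₀ ≤ j → (Module.finrank K ↥(Submodule.map (Ideal.Quotient.mkₐ K (I)).toLinearMap (GrSyz.stdGr K (Fin (n + 1)) (j : ℤ))) : ℚ) = pI.eval (j : ℚ))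
    (hpJ : ∃ j₀ : ℕ, ∀ j : ℕ, j₀ ≤ j → (Module.finrank K ↥(Submodule.map (Ideal.Quotient.mkₐ K (𝔠.colon (I : Set (MvPolynomial (Fin (n + 1)) K)))).toLinearMap (GrSyz.stdGr K (Fin (n + 1)) (j : ℤ))) : ℚ) = pJ.eval (j : ℚ)) :
    pJ.coeff (n - c) = p𝔠.coeff (n - c) - pI.coeff (n - c) := by
  classical
  have conv : ∀ J : Ideal (MvPolynomial (Fin (n + 1)) K), J.IsHomogeneous (GrSyz.stdGr K (Fin (n + 1))) →
      J.IsHomogeneous (CohB1.polyGrading n K) := fun J hJ =>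
    Groth.Agent.CIHilb.isHomogeneous_of_component fun x hx i => by
      have h := hJ (i : ℤ) hx
      have hy : (DirectSum.decompose (GrSyz.stdGr K (Fin (n + 1))) x (i : ℤ) : MvPolynomial (Fin (n + 1)) K) =
          MvPolynomial.homogeneousComponent i x := by
        refine (MvPolynomial.decompose'_apply K _ x (i : ℤ)).trans (MvPolynomial.ext _ _ fun d => ?_)
        rw [MvPolynomial.coeff_weightedHomogeneousComponent, MvPolynomial.coeff_homogeneousComponent]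
        have hw : Finsupp.weight (fun _ : Fin (n + 1) => (1 : ℤ)) d = ((d.degree : ℕ) : ℤ) := by
          simp [Finsupp.weight_apply, Finsupp.sum, Finsupp.degree]
        simp only [hw, Nat.cast_inj]
      rwa [hy] at h
  exact Groth.Agent.CIHilb.coeff_link (conv _ h𝔠) (conv _ hI) h𝔠I hcn h𝔠c.ge
    (Groth.Agent.CIHilb.isHP_of_finrank_map hp𝔠) (Groth.Agent.CIHilb.isHP_of_finrank_map hpI)
    (Groth.Agent.CIHilb.isHP_of_finrank_map hpJ)

end Groth.Agent.S18873
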