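import Groth.Statements.S18874
import Groth.Agent.LimPoint.Basic
import Groth.Agent.LimProper.Main
import Groth.Agent.S0086
import Mathlib.RingTheory.AdicCompletion.LocalRing
import Mathlib.RingTheory.AdicCompletion.AsTensorProduct
import Mathlib.RingTheory.Flat.FaithfullyFlat.Algebra

set_option autoImplicit false
set_option linter.style.haveILetI false
set_option backward.isDefEq.respectTransparency false
universe u
open Lim

namespace Groth.Agent.S18874

open CategoryTheory CategoryTheory.Limits AlgebraicGeometry

/-- properness over the local ring spreads to a neighbourhood -/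
theorem exists_nhd_of_stalk {S X Y : Scheme.{u}} (f : X ⟶ Y) (g : Y ⟶ S)
    [QuasiCompact g] [QuasiCompact f] [QuasiSeparated f] [LocallyOfFiniteType f] (s : S)
    (h : IsProper (pullback.snd f (pullback.fst g (S.fromSpecStalk s)))) :
    ∃ W : S.Opens, s ∈ W ∧ IsProper (f ∣_ (g ⁻¹ᵁ W)) := by
  obtain ⟨V₀⟩ : Nonempty (LimPoint.AffNbhd s) := inferInstance
  let D := LimPoint.specDiagram s
  let c := Scheme.Spec.mapCone (coneRightOpOfCocone
    ((colimit.cocone ((TopologicalSpace.OpenNhds.inclusion s).op ⋙ S.presheaf)).whisker (LimPoint.nbhdIncl s).op))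
  haveI : ∀ {i j : LimPoint.AffNbhd s} (a : i ⟶ j), IsAffineHom (D.map a) := fun {i j} a => by
    change IsAffineHom (Spec.map _)
    infer_instance
  let iV : D.obj V₀ ⟶ S := V₀.2.1.fromSpec
  let π : c.pt ⟶ D.obj V₀ := c.π.app V₀
  have hπ : π ≫ iV = S.fromSpecStalk s := LimPoint.germ_fromSpec s V₀
  let Y₀ := pullback g iV
  let g₀ : Y₀ ⟶ D.obj V₀ := pullback.snd g iV
  let f₀ : pullback f (pullback.fst g iV) ⟶ Y₀ := pullback.snd f (pullback.fst g iV)
  let qY : pullback g (S.fromSpecStalk s) ⟶ Y₀ :=
    pullback.lift (pullback.fst g (S.fromSpecStalk s)) (pullback.snd g (S.fromSpecStalk s) ≫ π)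
      (by rw [Category.assoc, hπ, pullback.condition])
  have hY : IsPullback qY (pullback.snd g (S.fromSpecStalk s)) g₀ π := by
    refine IsPullback.of_right ?_ (pullback.lift_snd _ _ _) (IsPullback.of_hasPullback g iV)
    rw [pullback.lift_fst, hπ]
    exact IsPullback.of_hasPullback g _
  let qX : pullback f (pullback.fst g (S.fromSpecStalk s)) ⟶ pullback f (pullback.fst g iV) :=
    pullback.lift (pullback.fst f (pullback.fst g (S.fromSpecStalk s)))
      (pullback.snd f (pullback.fst g (S.fromSpecStalk s)) ≫ qY)
      (by rw [Category.assoc, pullback.lift_fst, pullback.condition])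
  have hX : IsPullback qX (pullback.snd f (pullback.fst g (S.fromSpecStalk s))) f₀ qY := by
    refine IsPullback.of_right ?_ (pullback.lift_snd _ _ _) (IsPullback.of_hasPullback f (pullback.fst g iV))
    rw [pullback.lift_fst, show qY ≫ pullback.fst g iV = pullback.fst g (S.fromSpecStalk s) from
      pullback.lift_fst _ _ _]
    exact IsPullback.of_hasPullback f _
  haveI : CompactSpace (D.obj V₀) := by
    change CompactSpace (Spec _)
    infer_instance
  haveI : QuasiCompact g₀ := inferInstanceAs (QuasiCompact (pullback.snd g iV))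
  haveI : CompactSpace Y₀ := QuasiCompact.compactSpace_of_compactSpace g₀
  haveI : IsProper (pullback.snd f (pullback.fst g (S.fromSpecStalk s))) := h
  obtain ⟨j, hj⟩ := LimProper.exists_isProper D c (LimPoint.isLimitSpecDiagram s) f₀ g₀ hY hX
  let V : LimPoint.AffNbhd s := j.left
  let eY : LimDesc.stage D g₀ j ⟶ Y := LimDesc.toBase D g₀ j ≫ pullback.fst g iV
  have hres : D.map j.hom ≫ iV = V.2.1.fromSpec := by
    have hle : V.1 ≤ V₀.1 := leOfHom j.hom
    change Spec.map (S.presheaf.map (homOfLE hle).op) ≫ V₀.2.1.fromSpec = _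
    exact V₀.2.1.map_fromSpec V.2.1 _
  have heY : IsPullback eY (LimDesc.toStage D g₀ j) g (D.map j.hom ≫ iV) :=
    (LimDesc.isPullback_stage D g₀ j).paste_horiz (IsPullback.of_hasPullback g iV)
  rw [hres] at heY
  haveI : IsOpenImmersion eY := MorphismProperty.of_isPullback (P := @IsOpenImmersion) heY.flip inferInstance
  have hrange : eY.opensRange = g ⁻¹ᵁ V.1 := by
    have h1 : eY = heY.isoPullback.hom ≫ pullback.fst g V.2.1.fromSpec := heY.isoPullback_hom_fst.symm
    have h2 : eY.opensRange = (heY.isoPullback.hom ≫ pullback.fst g V.2.1.fromSpec).opensRange := by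
      simp only [← h1]
    rw [h2, Scheme.Hom.opensRange_comp_of_isIso, Scheme.Hom.opensRange_pullbackFst,
      V.2.1.opensRange_fromSpec]
  refine ⟨V.1, V.2.2, ?_⟩
  have hsq : IsPullback (LimDesc.toBase D (f₀ ≫ g₀) j ≫ pullback.fst f (pullback.fst g iV))
      (LimDesc.stageMap D g₀ f₀ j) f eY :=
    (LimDesc.isPullback_stageMap D g₀ f₀ j).paste_horiz (IsPullback.of_hasPullback f (pullback.fst g iV))
  rw [← hrange]
  refine ((MorphismProperty.arrow_mk_iso_iff @IsProper (morphismRestrictOpensRange f eY)).2 ?_)
  rw [← hsq.isoPullback_inv_snd]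
  haveI := hj
  infer_instance

/-- completion is faithfully flat -/
theorem faithfullyFlat_cpl (A : Type u) [CommRing A] [IsLocalRing A] [IsNoetherianRing A] :
    Module.FaithfullyFlat A (EGA4.Cpl A) := by
  haveI : Module.Flat A (EGA4.Cpl A) := AdicCompletion.flat_of_isNoetherian _
  haveI : IsLocalHom (algebraMap A (EGA4.Cpl A)) := by
    refine ((IsLocalRing.local_hom_TFAE _).out 0 2).2 ?_
    exact (AdicCompletion.maximalIdeal_eq_map (R := A)).ge
  exact Module.FaithfullyFlat.of_flat_of_isLocalHom

open CategoryTheory AlgebraicGeometry in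
/-- Let S be a quasi-compact scheme whose affine opens have excellent coordinate rings, let X → S and Y
→ S be quasi-compact, quasi-separated and locally of finite presentation, let f : X → Y be a
morphism over S, let s be a closed point of S and R the completion of the local ring of S at s. If
the base change X ×_S Spec R → Y ×_S Spec R of f is proper, then s has an open neighbourhood W in S
such that X ×_S W → Y ×_S W is proper. (The published statement assumes X and Y only locally of
finite presentation over S; for S the affine line over a field, s the origin, Y = S and X the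
disjoint union of S with one reduced point over each closed point other than s, the base change to
Spec R is an isomorphism while X ×_S W → W is not quasi-compact for any open W ∋ s, so X and Y are
taken of finite presentation over S here, which is what the limit argument of the published proof
uses.) -/
theorem result
    (S : Scheme.{u}) [CompactSpace S] (hS : ∀ U : S.affineOpens, EGA4.IsExcellent Γ(S, U.1))
    {X Y : Scheme.{u}} (f : X ⟶ Y) (g : Y ⟶ S)
    [QuasiCompact g] [QuasiSeparated g] [LocallyOfFinitePresentation g]
    [QuasiCompact (f ≫ g)] [QuasiSeparated (f ≫ g)] [LocallyOfFinitePresentation (f ≫ g)]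
    (s : S) (hs : IsClosed ({s} : Set S))
    (hR : IsProper (Limits.pullback.snd f (Limits.pullback.fst g
      (Spec.map (CommRingCat.ofHom (algebraMap (S.presheaf.stalk s) (EGA4.Cpl (S.presheaf.stalk s)))) ≫
        S.fromSpecStalk s)))) :
    ∃ W : S.Opens, s ∈ W ∧ IsProper (f ∣_ (g ⁻¹ᵁ W)) := by
  haveI : IsLocallyNoetherian S := ⟨fun U => (hS U).1⟩
  haveI : QuasiCompact f := QuasiCompact.of_comp f g
  haveI : QuasiSeparated f := QuasiSeparated.of_comp f g
  haveI : LocallyOfFiniteType f := locallyOfFiniteType_of_comp f g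
  refine exists_nhd_of_stalk f g s ?_
  set ι' : Spec (CommRingCat.of (EGA4.Cpl (S.presheaf.stalk s))) ⟶ Spec (S.presheaf.stalk s) :=
    Spec.map (CommRingCat.ofHom (algebraMap (S.presheaf.stalk s) (EGA4.Cpl (S.presheaf.stalk s)))) with hι
  haveI := faithfullyFlat_cpl (S.presheaf.stalk s)
  haveI : Surjective ι' := ⟨PrimeSpectrum.comap_surjective_of_faithfullyFlat⟩
  haveI : Flat ι' := by
    rw [hι, HasRingHomProperty.Spec_iff (P := @Flat)]
    exact RingHom.flat_algebraMap_iff.2 inferInstance
  let e : Limits.pullback g (ι' ≫ S.fromSpecStalk s) ⟶ Limits.pullback g (S.fromSpecStalk s) :=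
    Limits.pullback.lift (Limits.pullback.fst g (ι' ≫ S.fromSpecStalk s))
      (Limits.pullback.snd g (ι' ≫ S.fromSpecStalk s) ≫ ι') (by rw [Category.assoc, Limits.pullback.condition])
  have he : IsPullback e (Limits.pullback.snd g (ι' ≫ S.fromSpecStalk s))
      (Limits.pullback.snd g (S.fromSpecStalk s)) ι' := by
    refine IsPullback.of_right ?_ (Limits.pullback.lift_snd _ _ _) (IsPullback.of_hasPullback g _)
    rw [Limits.pullback.lift_fst]
    exact IsPullback.of_hasPullback g _
  let l : Limits.pullback f (Limits.pullback.fst g (ι' ≫ S.fromSpecStalk s)) ⟶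
      Limits.pullback f (Limits.pullback.fst g (S.fromSpecStalk s)) :=
    Limits.pullback.lift (Limits.pullback.fst f (Limits.pullback.fst g (ι' ≫ S.fromSpecStalk s)))
      (Limits.pullback.snd f (Limits.pullback.fst g (ι' ≫ S.fromSpecStalk s)) ≫ e)
      (by rw [Category.assoc, Limits.pullback.lift_fst, Limits.pullback.condition])
  have hl : IsPullback l (Limits.pullback.snd f (Limits.pullback.fst g (ι' ≫ S.fromSpecStalk s)))
      (Limits.pullback.snd f (Limits.pullback.fst g (S.fromSpecStalk s))) e := by
    refine IsPullback.of_right ?_ (Limits.pullback.lift_snd _ _ _) (IsPullback.of_hasPullback f _)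
    rw [Limits.pullback.lift_fst, show e ≫ Limits.pullback.fst g (S.fromSpecStalk s) =
      Limits.pullback.fst g (ι' ≫ S.fromSpecStalk s) from Limits.pullback.lift_fst _ _ _]
    exact IsPullback.of_hasPullback f _
  haveI : MorphismProperty.DescendsAlong @IsProper
      (@Surjective ⊓ @Flat ⊓ @QuasiCompact : MorphismProperty Scheme.{u}) := S0086.result
  haveI : Surjective e := MorphismProperty.of_isPullback (P := @Surjective) he.flip inferInstance
  haveI : Flat e := MorphismProperty.of_isPullback (P := @Flat) he.flip inferInstance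
  haveI : QuasiCompact e := MorphismProperty.of_isPullback (P := @QuasiCompact) he.flip inferInstance
  exact MorphismProperty.of_isPullback_of_descendsAlong (P := @IsProper)
    (Q := @Surjective ⊓ @Flat ⊓ @QuasiCompact) hl.flip ⟨⟨‹_›, ‹_›⟩, ‹_›⟩ hR

end Groth.Agent.S18874
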