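import Groth.Statements.S18876
import Groth.Agent.AlgStLib.GerbGeomPt

set_option autoImplicit false
universe u
open Gerb

namespace Groth.Agent.S18876

open CategoryTheory AlgebraicGeometry in
/-- Let S be a scheme and F : 𝒳 → 𝒴 a morphism of algebraic stacks over S which makes 𝒳 an fppf gerbe
over 𝒴 and through which every morphism from 𝒳 to an algebraic space factors, uniquely up to
2-isomorphism. Then 𝒴 admits a coarse moduli space exactly when 𝒳 does, and the two coarse moduli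
spaces coincide: for every coarse moduli map π : 𝒴 → M the composite 𝒳 → 𝒴 → M is a coarse moduli
map of 𝒳. (The published statement is about the rigidification F of 𝒳 along a flat finitely
presented subgroup stack of its inertia; only two of its properties are assumed here, that F is a
gerbe and that maps to algebraic spaces factor through F, which is what the published argument uses;
neither stack is assumed quasi-separated or locally of finite presentation over S, and their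
diagonals are not assumed quasi-compact or separated.) -/
theorem result (S : Scheme.{u}) (𝒳 𝒴 : AlgSt.Cat S)
    (h𝒳 : AlgSt.IsAlgStack Scheme.fppfPrecoverage 𝒳) (h𝒴 : AlgSt.IsAlgStack Scheme.fppfPrecoverage 𝒴)
    (F : 𝒳 ⥤ᵇ 𝒴) (hF : Gerb.IsGerbeOver (QuotSh.J Scheme.fppfPrecoverage S) F)
    (huniv : ∀ (N : AlgSp.Sp S), AlgSp.IsAlgSpace N → ∀ φ : 𝒳 ⥤ᵇ AlgSt.ofSp N,
      ∃ ψ : 𝒴 ⥤ᵇ AlgSt.ofSp N, Nonempty (BasedFunctor.comp F ψ ≅ φ) ∧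
        ∀ ψ' : 𝒴 ⥤ᵇ AlgSt.ofSp N, Nonempty (BasedFunctor.comp F ψ' ≅ φ) → Nonempty (ψ' ≅ ψ)) :
    ((∃ (M : AlgSp.Sp S) (π : 𝒴 ⥤ᵇ AlgSt.ofSp M), AlgSt.IsCoarseModuli π) ↔
        ∃ (M : AlgSp.Sp S) (π : 𝒳 ⥤ᵇ AlgSt.ofSp M), AlgSt.IsCoarseModuli π) ∧
      ∀ (M : AlgSp.Sp S) (π : 𝒴 ⥤ᵇ AlgSt.ofSp M), AlgSt.IsCoarseModuli π →
        AlgSt.IsCoarseModuli (BasedFunctor.comp F π) := by
  have hgX := h𝒳.isStack.1
  have hgY := h𝒴.isStack.1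
  have hbij := fun (M : AlgSp.Sp S) (π : 𝒴 ⥤ᵇ AlgSt.ofSp M) =>
    Groth.Agent.AlgStLib.geomPtBij_comp_iff hgX hgY hF π
  have fwd : ∀ (M : AlgSp.Sp S) (π : 𝒴 ⥤ᵇ AlgSt.ofSp M), AlgSt.IsCoarseModuli π →
      AlgSt.IsCoarseModuli (BasedFunctor.comp F π) := by
    rintro M π ⟨⟨hM, hcat⟩, hgeo⟩
    refine ⟨⟨hM, fun N hN φ => ?_⟩, (hbij M π).2 hgeo⟩
    obtain ⟨ψ, ⟨i⟩, huniq⟩ := huniv N hN φ
    obtain ⟨g, ⟨j⟩, hg⟩ := hcat N hN ψ
    refine ⟨g, ⟨(Stk.restr F _).mapIso j ≪≫ i⟩, ?_⟩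
    rintro g' ⟨k⟩
    exact hg g' (huniq (BasedFunctor.comp π (AlgSt.ofSpMap g')) ⟨k⟩)
  refine ⟨⟨fun ⟨M, π, hπ⟩ => ⟨M, _, fwd M π hπ⟩, ?_⟩, fwd⟩
  rintro ⟨M, π', ⟨hM, hcat⟩, hgeo⟩
  obtain ⟨ψ, ⟨i⟩, -⟩ := huniv M hM π'
  refine ⟨M, ψ, ⟨hM, fun N hN φ => ?_⟩, (hbij M ψ).1 ?_⟩
  · obtain ⟨g, ⟨j⟩, hg⟩ := hcat N hN (BasedFunctor.comp F φ)
    obtain ⟨φ', ⟨i'⟩, huniq⟩ := huniv N hN (BasedFunctor.comp F φ)
    have ei : ∀ g' : M ⟶ N, BasedFunctor.comp F (BasedFunctor.comp ψ (AlgSt.ofSpMap g')) ≅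
        BasedFunctor.comp π' (AlgSt.ofSpMap g') := fun g' =>
      Groth.Agent.AlgStLib.isoOfSec _ _ fun a =>
        ((Groth.Agent.AlgStLib.secOf_comp_ofPshMap (BasedFunctor.comp F ψ) g'.hom a).trans
          ((congrArg _ (Groth.Agent.AlgStLib.secOf_congr i a)).trans
            (Groth.Agent.AlgStLib.secOf_comp_ofPshMap π' g'.hom a).symm))
    obtain ⟨a⟩ := huniq (BasedFunctor.comp ψ (AlgSt.ofSpMap g)) ⟨ei g ≪≫ j⟩
    obtain ⟨b⟩ := huniq φ ⟨Iso.refl _⟩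
    refine ⟨g, ⟨a ≪≫ b.symm⟩, ?_⟩
    rintro g' ⟨k⟩
    exact hg g' ⟨(ei g').symm ≪≫ (Stk.restr F _).mapIso k⟩
  · intro Ω _ _ t
    refine ⟨fun m => ?_, fun x y he => ?_⟩
    · obtain ⟨x, hx⟩ := (hgeo Ω t).1 m
      exact ⟨x, (Groth.Agent.AlgStLib.fibSec_iso i x).trans hx⟩
    · exact (hgeo Ω t).2 x y (((Groth.Agent.AlgStLib.fibSec_iso i x).symm.trans he).trans
        (Groth.Agent.AlgStLib.fibSec_iso i y))

end Groth.Agent.S18876
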