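import Groth.Statements.S18877
import Groth.Agent.S1339
import Groth.Agent.S4787
import Groth.Agent.GeomFib.FieldExt
import Groth.Agent.ConsTop.Maps

set_option autoImplicit false
universe u
open Lim

namespace Groth.Agent.S18877

open CategoryTheory AlgebraicGeometry in
/-- Let S = lim S_i be a cofiltered limit of Noetherian schemes with affine transition morphisms, let X₀
→ S_{i₀} be a scheme of finite type over one stage and X → S its base change to the limit. If all
geometric fibres of X → S are connected, then for some stage S_i → S_{i₀} all geometric fibres of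
the base change X₀ ×_{S_{i₀}} S_i → S_i are connected. (Connected is read so as to allow the empty
fibre: the underlying space of each geometric fibre is preconnected; the geometric fibre of X₀
×_{S_{i₀}} S_i over Spec Ω → S_i is written as the pullback of X₀ → S_{i₀} along Spec Ω → S_i →
S_{i₀}.) -/
theorem result {I : Type u} [SmallCategory I] [IsCofiltered I]
    (D : I ⥤ Scheme.{u}) (c : Limits.Cone D) (hc : Limits.IsLimit c)
    [∀ (i j : I) (a : i ⟶ j), IsAffineHom (D.map a)] [∀ i : I, AlgebraicGeometry.IsNoetherian (D.obj i)]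
    (i₀ : I) {X₀ : Scheme.{u}} (f₀ : X₀ ⟶ D.obj i₀) [QuasiCompact f₀] [LocallyOfFiniteType f₀]
    {X : Scheme.{u}} (f : X ⟶ c.pt) (q : X ⟶ X₀) (hX : IsPullback q f f₀ (c.π.app i₀))
    (hconn : ∀ (Ω : Type u) [Field Ω] [IsAlgClosed Ω] (t : Spec (CommRingCat.of Ω) ⟶ c.pt),
      PreconnectedSpace ↥(Limits.pullback f t)) :
    ∃ (i : I) (a : i ⟶ i₀), ∀ (Ω : Type u) [Field Ω] [IsAlgClosed Ω] (t : Spec (CommRingCat.of Ω) ⟶ D.obj i),
      PreconnectedSpace ↥(Limits.pullback f₀ (t ≫ D.map a)) := by
  classical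
  haveI : LocallyOfFinitePresentation f₀ := inferInstance
  haveI : IsLocallyNoetherian X₀ := LocallyOfFiniteType.isLocallyNoetherian f₀
  haveI : QuasiSeparated f₀ := inferInstance
  let P : Set (D.obj i₀) := {y | MoreMor.nGeomConnComp f₀ y ≤ 1}
  have hP : Topology.IsLocallyConstructible P := by
    have e : P = {y | MoreMor.nGeomConnComp f₀ y = 0} ∪ {y | MoreMor.nGeomConnComp f₀ y = 1} := by
      ext y
      exact ENat.le_one_iff_eq_zero_or_eq_one
    rw [e]
    exact (Groth.Agent.S1339.result f₀ 0).union (Groth.Agent.S1339.result f₀ 1)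
  have key : ∀ {Ω : Type u} [Field Ω] [IsAlgClosed Ω] (v : Spec (CommRingCat.of Ω) ⟶ D.obj i₀),
      PreconnectedSpace ↥(Limits.pullback f₀ v) ↔ v (IsLocalRing.closedPoint Ω) ∈ P := fun {Ω} _ _ v => by
    show _ ↔ MoreMor.nGeomConnComp f₀ _ ≤ 1
    rw [(Groth.Agent.GeomFib.nGeom_eq f₀ v _ rfl).2, ENat.card_le_one_iff_subsingleton,
      ]
    exact ⟨fun _ => inferInstance, fun h => preconnectedSpace_iff_connectedComponent.2 fun x =>
      Set.eq_univ_of_forall fun y => ConnectedComponents.coe_eq_coe'.1 (Subsingleton.elim _ _)⟩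
  let D' : Over i₀ ⥤ Scheme.{u} := Over.forget i₀ ⋙ D
  let hc' : Limits.IsLimit (c.whisker (Over.forget i₀)) :=
    (Functor.Initial.isLimitWhiskerEquiv (Over.forget i₀) c).symm hc
  haveI : ∀ (i j : Over i₀) (a : i ⟶ j), IsAffineHom (D'.map a) := fun i j a => ‹∀ (i j : I) (a : i ⟶ j), IsAffineHom (D.map a)› _ _ _
  haveI : CompactSpace (D'.obj (Over.mk (𝟙 i₀))) := inferInstanceAs (CompactSpace (D.obj i₀))
  have hlim : ∀ x : c.pt, c.π.app i₀ x ∈ P := fun x => by
    let Ω := AlgebraicClosure (c.pt.residueField x)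
    let t : Spec (CommRingCat.of Ω) ⟶ c.pt :=
      Spec.map (CommRingCat.ofHom (algebraMap (c.pt.residueField x) Ω)) ≫ c.pt.fromSpecResidueField x
    have ht : (t ≫ c.π.app i₀) (IsLocalRing.closedPoint Ω) = c.π.app i₀ x := by
      rw [Scheme.Hom.comp_apply, Scheme.Hom.comp_apply, Scheme.fromSpecResidueField_apply]
    rw [← ht, ← key]
    have e := ((IsPullback.of_hasPullback f t).paste_horiz hX).isoPullback
    haveI := hconn Ω t
    exact DenseRange.preconnectedSpace e.hom.homeomorph.surjective.denseRange e.hom.continuous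
  obtain ⟨i, -, hi⟩ := (Groth.Agent.S4787.result D' (c.whisker (Over.forget i₀)) hc' (Over.mk (𝟙 i₀))
    (fun _ => Set.univ) (fun i => D.map i.hom ⁻¹' P)
    (fun _ => Groth.Agent.ConsTop.isProConstructible_univ)
    (fun i x => ⟨Set.univ, isOpen_univ, Set.mem_univ x, {Subtype.val ⁻¹' (D.map i.hom ⁻¹' P)},
      fun T hT => by
        rw [Set.mem_singleton_iff.1 hT]
        exact (((D.map i.hom).isConstructible_preimage hP.isConstructible).preimage_of_isOpenEmbedding
          isOpen_univ.isOpenEmbedding_subtypeVal).isLocallyConstructible, (Set.sUnion_singleton _).symm⟩)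
    (fun _ _ _ => le_rfl)
    (fun i j φ y hy => by
      show D.map i.hom y ∈ P
      rw [← Over.w φ, Functor.map_comp, Scheme.Hom.comp_apply]
      exact hy)).1
    (fun x _ => Set.mem_iUnion.2 ⟨Over.mk (𝟙 i₀), by
      show D.map (𝟙 i₀) _ ∈ P
      rw [D.map_id]
      exact hlim x⟩)
  refine ⟨i.left, i.hom, fun Ω _ _ t => (key _).2 ?_⟩
  rw [Scheme.Hom.comp_apply]
  exact hi i (𝟙 i) (Set.mem_univ _)

end Groth.Agent.S18877
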