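import Groth.Statements.S18879
import Groth.Agent.DimFormula.Dims
import Groth.Agent.Unibranch.ComponentTransfer

set_option autoImplicit false
universe u
open CategoryTheory AlgebraicGeometry
open Resolve

set_option backward.isDefEq.respectTransparency false
set_option backward.isDefEq.respectTransparency.types false

open Groth.Agent Topology

namespace Groth.Agent.S18879

/-- Let f : Y ⟶ X be a morphism locally of finite type between Noetherian separated schemes which is
birational: it maps the maximal points of Y bijectively onto the maximal points of X, and over every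
maximal point of X its fibre is one point with the same residue field. Then for every point y of Y,
the Krull dimension of the local ring of Y at y is at most the Krull dimension of the local ring of
X at f y (the codimension of a point does not increase along f). -/
theorem result {X Y : Scheme.{u}} (f : Y ⟶ X)
    [IsNoetherian X] [X.IsSeparated] [IsNoetherian Y] [Y.IsSeparated] [LocallyOfFiniteType f]
    (hf : RadPt.IsBirational f) (y : Y) :
    ringKrullDim (Y.presheaf.stalk y) ≤ ringKrullDim (X.presheaf.stalk (f.base y)) := by
  obtain ⟨A, hA, -, ξ, hξ, hξy, hgen⟩ := DimFormula.exists_ringKrullDim_stalk y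
  have hη : f ξ ∈ genericPoints X := hf.1.mapsTo hξ.mem_irreducibleComponents
  have hηmax : Unibranch.IsMaxPt (f ξ) := fun z hz =>
    ((hz.antisymm (specializes_iff_closure_subset.2
      (hη.2 isIrreducible_singleton.closure (specializes_iff_closure_subset.1 hz)))).eq)
  obtain ⟨e, he1, ⟨c, hc, hcc⟩, -⟩ := Unibranch.exists_dim_closure_eq f ξ
  have he : e = 0 := by
    by_contra hne
    exact (hcc ⟨0, by omega⟩).2 ((hf.2 _ hη).1 _ _ (hc _).2 (hc _).2)
  obtain ⟨δ, h1, h2, -⟩ := Unibranch.exists_dim_closure_eq f y
  obtain ⟨m, hm1, hm2⟩ := DimFormula.exists_genLE_hasGen (hξy.map f.continuous)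
  have hineq := DimFormula.dimension_inequality f hξy hgen hm1 h2 he1
  obtain ⟨B, hB, hBle, -⟩ := DimFormula.exists_ringKrullDim_stalk (f y)
  have hmB : m ≤ B := ((DimFormula.genChainsLE_iff _).1 hBle _ hηmax (hξy.map f.continuous)).le_of_hasGen hm2
  rw [hA]
  change _ ≤ ringKrullDim (X.presheaf.stalk (f y))
  rw [hB]
  exact_mod_cast (by omega : A ≤ B)

end Groth.Agent.S18879
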