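import Groth.Statements.S1888
import Groth.Agent.Grpd.OverField

set_option autoImplicit false
universe u
open CategoryTheory CategoryTheory.Limits AlgebraicGeometry
open Grpd

namespace Groth.Agent.S1888

/-- Let (U, R, s, t, c) be a groupoid scheme over S with U the spectrum of a field k, and r a point of R
such that both s and t induce isomorphisms from k to κ(r). Then there is an automorphism of the
scheme R carrying the identity point e to r. (The source's automorphism is x ↦ c(r, x); only the
existence of an automorphism moving e to r is stated here.) (A groupoid scheme carries U, R, s, t,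
c, e, i over S with the groupoid axioms on T-points; 'finite locally free' is finite, flat and
locally of finite presentation; C ⊂ Γ(U) is the ring of functions a with s♯(a) = t♯(a) and M = Spec
C.) -/
theorem result (S : Scheme.{u}) (G : Grpd.GroupoidScheme S) (k : Type u) [Field k] (eU : G.U ≅ Spec (CommRingCat.of k)) (r : G.R) (hs : IsIso (G.s.residueFieldMap r)) (ht : IsIso (G.t.residueFieldMap r)) : ∃ φ : G.R ≅ G.R, φ.hom (G.e (eU.inv (IsLocalRing.closedPoint k))) = r := by
  have : Subsingleton (Spec (CommRingCat.of k)) := inferInstanceAs (Subsingleton (PrimeSpectrum k))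
  have : Nonempty G.U := ⟨eU.inv (IsLocalRing.closedPoint k)⟩
  have : Subsingleton G.U := eU.hom.homeomorph.injective.subsingleton
  have : IsIntegral G.U := isIntegral_of_isOpenImmersion eU.hom
  let ρs : Spec (G.R.residueField r) ⟶ G.U := G.R.fromSpecResidueField r ≫ G.s
  let ρt : Spec (G.R.residueField r) ⟶ G.U := G.R.fromSpecResidueField r ≫ G.t
  -- a field valued point of a one point integral scheme with trivial residue extension is an iso
  have hiso : ∀ f : G.R ⟶ G.U, IsIso (f.residueFieldMap r) →
      IsIso (G.R.fromSpecResidueField r ≫ f) := by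
    intro f hf
    rw [← Scheme.Hom.SpecMap_residueFieldMap_fromSpecResidueField]
    have hU : IsIso (G.U.fromSpecResidueField (f r)) := by
      have : IsIso ((Spec (CommRingCat.of k)).fromSpecResidueField (eU.hom (f r))) := by
        have : IsClosedImmersion ((Spec (CommRingCat.of k)).fromSpecResidueField (eU.hom (f r))) :=
          IsClosedImmersion.of_isPreimmersion _ (Set.subsingleton_of_subsingleton.isClosed)
        have : Surjective ((Spec (CommRingCat.of k)).fromSpecResidueField (eU.hom (f r))) :=
          ⟨fun y => ⟨IsLocalRing.closedPoint _, Subsingleton.elim _ _⟩⟩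
        exact isIso_of_isClosedImmersion_of_surjective _
      have e := eU.hom.SpecMap_residueFieldMap_fromSpecResidueField (f r)
      have : IsIso (G.U.fromSpecResidueField (f r) ≫ eU.hom) := by rw [← e]; infer_instance
      exact IsIso.of_isIso_comp_right _ eU.hom
    infer_instance
  have : IsIso ρs := hiso G.s hs
  have : IsIso ρt := hiso G.t ht
  -- the point as a section of the source
  let ρ : G.U ⟶ G.R := inv ρs ≫ G.R.fromSpecResidueField r
  have hρs : ρ ≫ G.s = 𝟙 _ := by simp [ρ, ρs]
  let σ : G.U ⟶ G.U := inv ρs ≫ ρt
  have hρt : ρ ≫ G.t = σ := by simp [ρ, σ, ρt]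
  have hρr : ∀ u, ρ u = r := fun u => by
    rw [Scheme.Hom.comp_apply]; exact G.R.fromSpecResidueField_apply r _
  obtain ⟨φ, he⟩ := Groth.Agent.GrpdLib.exists_auto G ρ hρs σ hρt
  refine ⟨φ, ?_⟩
  rw [← Scheme.Hom.comp_apply, he, hρr]

end Groth.Agent.S1888
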