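import Groth.Statements.S18884
import Mathlib

set_option autoImplicit false
universe v u w
open CategoryTheory CategoryTheory.Limits
open Desc

namespace Groth.Agent.S18884

/-- Let C be a category with pullbacks equipped with a class W of morphisms, the covers, stable under
base change and under composition. An abelian cosheaf is a functor F : C ⥤ Ab such that for every
cover π : Y ⟶ X the map F(π) is surjective and its kernel is the image of F(p₁) − F(p₂), where p₁,
p₂ : Y ×_X Y ⟶ Y are the two projections. If D is a full subcategory of C such that every object of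
C is the target of a cover whose source lies in D, then the restriction functor from the full
subcategory of abelian cosheaves in C ⥤ Ab to D ⥤ Ab is full and faithful. -/
theorem result {C : Type u} [Category.{v} C]
    [HasPullbacks C] (W : MorphismProperty C) [W.IsStableUnderBaseChange] [W.IsStableUnderComposition]
    (D : ObjectProperty C) (hD : ∀ X : C, ∃ (Y : C) (π : Y ⟶ X), W π ∧ D Y) :
    (ObjectProperty.ι (fun F : C ⥤ AddCommGrpCat.{w} =>
        ∀ ⦃Y X : C⦄ (π : Y ⟶ X), W π → Function.Surjective (F.map π).hom ∧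
          (F.map π).hom.ker = ((F.map (pullback.fst π π)).hom - (F.map (pullback.snd π π)).hom).range) ⋙
      (Functor.whiskeringLeft D.FullSubcategory C AddCommGrpCat.{w}).obj D.ι).Full ∧
    (ObjectProperty.ι (fun F : C ⥤ AddCommGrpCat.{w} =>
        ∀ ⦃Y X : C⦄ (π : Y ⟶ X), W π → Function.Surjective (F.map π).hom ∧
          (F.map π).hom.ker = ((F.map (pullback.fst π π)).hom - (F.map (pullback.snd π π)).hom).range) ⋙
      (Functor.whiskeringLeft D.FullSubcategory C AddCommGrpCat.{w}).obj D.ι).Faithful := by
  classical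
  refine ⟨⟨fun {F G} t => ?_⟩, ⟨fun {F G} a b hab => ?_⟩⟩
  · choose Y π hπ hY using hD
    obtain ⟨F, hF⟩ := F
    obtain ⟨G, hG⟩ := G
    let α : ∀ (A : C) (hA : D A), F.obj A →+ G.obj A := fun A hA => (t.app ⟨A, hA⟩).hom
    have hnat : ∀ {A B : C} (hA : D A) (hB : D B) (f : A ⟶ B) (x : F.obj A),
        α B hB ((F.map f).hom x) = (G.map f).hom (α A hA x) := by
      intro A B hA hB f x
      exact congrArg (fun m => m.hom x)
        (t.naturality (X := ⟨A, hA⟩) (Y := ⟨B, hB⟩) (ObjectProperty.homMk f))
    have hcompF : ∀ {A B E : C} (f : A ⟶ B) (g : B ⟶ E) (x : F.obj A),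
        (F.map g).hom ((F.map f).hom x) = (F.map (f ≫ g)).hom x := by
      intro A B E f g x
      rw [Functor.map_comp]
      rfl
    have hcompG : ∀ {A B E : C} (f : A ⟶ B) (g : B ⟶ E) (x : G.obj A),
        (G.map g).hom ((G.map f).hom x) = (G.map (f ≫ g)).hom x := by
      intro A B E f g x
      rw [Functor.map_comp]
      rfl
    have hker : ∀ X : C, ∀ y, (F.map (π X)).hom y = 0 →
        (G.map (π X)).hom (α _ (hY X) y) = 0 := by
      intro X y hy
      have hy' : y ∈ (F.map (π X)).hom.ker := hy
      rw [(hF (π X) (hπ X)).2] at hy'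
      obtain ⟨z, hz⟩ := hy'
      obtain ⟨w, hw⟩ := (hF _ (hπ (pullback (π X) (π X)))).1 z
      rw [← hz, ← hw, AddMonoidHom.sub_apply, hcompF, hcompF, map_sub,
        hnat (hY _) (hY X), hnat (hY _) (hY X), map_sub, hcompG, hcompG]
      simp only [Category.assoc, pullback.condition, sub_self]
    choose s hs using fun (X : C) => (hF (π X) (hπ X)).1
    let β : ∀ X : C, F.obj X → G.obj X := fun X x => (G.map (π X)).hom (α _ (hY X) (s X x))
    have hβ : ∀ (X : C) (y : F.obj (Y X)),
        β X ((F.map (π X)).hom y) = (G.map (π X)).hom (α _ (hY X) y) := by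
      intro X y
      have := hker X (s X ((F.map (π X)).hom y) - y) (by rw [map_sub, hs, sub_self])
      rw [map_sub, map_sub, sub_eq_zero] at this
      exact this
    have hβadd : ∀ (X : C) (x x' : F.obj X), β X (x + x') = β X x + β X x' := by
      intro X x x'
      conv_lhs => rw [← hs X x, ← hs X x', ← map_add, hβ, map_add, map_add]
    have hβnat : ∀ {X X' : C} (f : X ⟶ X') (x : F.obj X),
        β X' ((F.map f).hom x) = (G.map f).hom (β X x) := by
      intro X X' f x
      obtain ⟨y, rfl⟩ := (hF (π X) (hπ X)).1 x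
      let P := pullback (π X ≫ f) (π X')
      have hfst : W (pullback.fst (π X ≫ f) (π X')) :=
        MorphismProperty.pullback_fst _ _ (hπ X')
      let a : Y P ⟶ Y X := π P ≫ pullback.fst _ _
      let b : Y P ⟶ Y X' := π P ≫ pullback.snd _ _
      obtain ⟨w, rfl⟩ := (hF a (W.comp_mem _ _ (hπ P) hfst)).1 y
      have hab : a ≫ π X ≫ f = b ≫ π X' := by
        simp only [a, b, Category.assoc, pullback.condition]
      rw [hβ, hcompF, hcompF, hab, ← hcompF, hβ, hnat (hY P) (hY X'), hnat (hY P) (hY X),
        hcompG, hcompG, hcompG, hab]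
    refine ⟨ObjectProperty.homMk
      { app := fun X => AddCommGrpCat.ofHom (AddMonoidHom.mk' (β X) (hβadd X))
        naturality := fun X X' f => by ext x; exact hβnat f x }, ?_⟩
    ext ⟨A, hA⟩ x
    obtain ⟨y, rfl⟩ := (hF (π A) (hπ A)).1 x
    exact (hβ A y).trans (hnat (hY A) hA (π A) y).symm
  · apply ObjectProperty.hom_ext
    ext X x
    obtain ⟨Y, π, hπ, hY⟩ := hD X
    obtain ⟨y, rfl⟩ := (F.property π hπ).1 x
    have h1 : a.hom.app Y = b.hom.app Y := NatTrans.congr_app hab ⟨Y, hY⟩
    have h2 := congrArg (fun m => m.hom y) (a.hom.naturality π)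
    have h3 := congrArg (fun m => m.hom y) (b.hom.naturality π)
    refine h2.trans (Eq.trans ?_ h3.symm)
    rw [h1]

end Groth.Agent.S18884
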