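import Groth.Statements.S18887
import Mathlib

set_option autoImplicit false
universe u v
open DblCov

namespace Groth.Agent.S18887

/-- Let A be a commutative ring in which 2 is invertible and B a commutative A-algebra which is free of
rank 2 as an A-module and whose trace form tr : B → A has kernel free of rank 1 over A. Then σ(b) =
tr(b) − b defines an A-algebra endomorphism σ of B with σ ≠ id and σ ∘ σ = id, and the elements
fixed by σ are exactly the image of A in B. -/
theorem result {A : Type u} {B : Type v} [CommRing A] [CommRing B]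
    [Algebra A B] (h2 : IsUnit (2 : A)) [Module.Free A B] [Module.Finite A B]
    (hrk : Module.finrank A B = 2)
    [Module.Free A (LinearMap.ker (Algebra.trace A B))]
    (hker : Module.finrank A (LinearMap.ker (Algebra.trace A B)) = 1) :
    ∃ σ : B →ₐ[A] B, (∀ b : B, σ b = algebraMap A B (Algebra.trace A B b) - b) ∧
      σ ≠ AlgHom.id A B ∧ σ.comp σ = AlgHom.id A B ∧
      ∀ b : B, σ b = b ↔ b ∈ Set.range (algebraMap A B) := by
  have : Nontrivial A := by
    by_contra hA
    rw [not_nontrivial_iff_subsingleton] at hA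
    have := Module.subsingleton A B
    simp [Module.finrank_subsingleton] at hrk
  set K := LinearMap.ker (Algebra.trace A B) with hK
  have : Module.Finite A K := Module.finite_of_finrank_pos (by rw [hker]; norm_num)
  let bK := Module.finBasisOfFinrankEq A K hker
  let e : B := (bK 0).1
  have he : Algebra.trace A B e = 0 := (bK 0).2
  have he0 : ∀ a : A, a • e = 0 → a = 0 := fun a ha => by
    have h : a • bK 0 = 0 := Subtype.ext ha
    simpa using congrArg (fun w => bK.repr w 0) h
  obtain ⟨h, hh⟩ := h2.exists_left_inv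
  have htr1 : ∀ a : A, Algebra.trace A B (algebraMap A B a) = 2 * a := fun a => by
    rw [Algebra.trace_algebraMap, hrk, two_nsmul, two_mul]
  have hdec : ∀ b : B, ∃ a t : A, b = algebraMap A B a + t • e ∧ Algebra.trace A B b = 2 * a := by
    intro b
    have hmem : b - algebraMap A B (h * Algebra.trace A B b) ∈ K := by
      rw [hK, LinearMap.mem_ker, map_sub, htr1, ← mul_assoc, mul_comm 2 h, hh, one_mul, sub_self]
    refine ⟨h * Algebra.trace A B b, bK.repr ⟨_, hmem⟩ 0, ?_, by rw [← mul_assoc, mul_comm 2 h, hh, one_mul]⟩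
    have := congrArg Subtype.val (bK.sum_repr ⟨_, hmem⟩)
    simp only [Fin.sum_univ_one, SetLike.val_smul] at this
    rw [this]; ring
  obtain ⟨q, hq⟩ : ∃ q : A, e * e = algebraMap A B q := by
    obtain ⟨a, t, hat, -⟩ := hdec (e * e)
    refine ⟨a, ?_⟩
    let v : Fin 2 → B := ![1, e]
    have hsp : ⊤ ≤ Submodule.span A (Set.range v) := fun b _ => by
      obtain ⟨a', t', rfl, -⟩ := hdec b
      refine Submodule.add_mem _ ?_ (Submodule.smul_mem _ t' (Submodule.subset_span ⟨1, rfl⟩))
      rw [Algebra.algebraMap_eq_smul_one]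
      exact Submodule.smul_mem _ a' (Submodule.subset_span ⟨0, rfl⟩)
    let B2 := basisOfTopLeSpanOfCardEqFinrank v hsp (by simp [hrk])
    have hB2 : ⇑B2 = v := coe_basisOfTopLeSpanOfCardEqFinrank v hsp (by simp [hrk])
    have htre : Algebra.trace A B e = B2.repr (e * B2 0) 0 + B2.repr (e * B2 1) 1 := by
      rw [Algebra.trace_eq_matrix_trace B2, Matrix.trace_fin_two, Algebra.leftMulMatrix_eq_repr_mul,
        Algebra.leftMulMatrix_eq_repr_mul]
    have h00 : B2.repr (e * B2 0) 0 = 0 := by
      rw [hB2, show e * v 0 = v 1 by simp [v], ← hB2, B2.repr_self]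
      simp
    have h11 : B2.repr (e * B2 1) 1 = t := by
      rw [hB2, show e * v 1 = a • v 0 + t • v 1 by simp [v, hat, Algebra.algebraMap_eq_smul_one], ← hB2, map_add,
        map_smul, map_smul, B2.repr_self, B2.repr_self]
      simp
    rw [he, h00, h11, zero_add] at htre
    rw [hat, ← htre, zero_smul, add_zero]
  let s : B →ₗ[A] B := (Algebra.linearMap A B).comp (Algebra.trace A B) - LinearMap.id
  have hs : ∀ a t : A, s (algebraMap A B a + t • e) = algebraMap A B a - t • e := fun a t => by
    show algebraMap A B (Algebra.trace A B (algebraMap A B a + t • e)) - (algebraMap A B a + t • e) = _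
    rw [map_add, map_smul, he, smul_zero, add_zero, htr1, map_mul, map_ofNat]
    ring
  let σ : B →ₐ[A] B := AlgHom.ofLinearMap s (by
      show algebraMap A B (Algebra.trace A B 1) - 1 = 1
      rw [← map_one (algebraMap A B), htr1, map_mul, map_ofNat, map_one]; ring) (fun x y => by
    obtain ⟨a, t, rfl, -⟩ := hdec x
    obtain ⟨a', t', rfl, -⟩ := hdec y
    rw [show (algebraMap A B a + t • e) * (algebraMap A B a' + t' • e) =
      algebraMap A B (a * a' + t * t' * q) + (a * t' + t * a') • e by
        simp only [Algebra.smul_def, map_add, map_mul, ← hq]; ring, hs, hs, hs]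
    simp only [Algebra.smul_def, map_add, map_mul, ← hq]; ring)
  refine ⟨σ, fun b => rfl, fun hid => ?_, AlgHom.ext fun b => ?_, fun b => ⟨fun hb => ?_, ?_⟩⟩
  · have h1 : s e = e := congrArg (fun f : B →ₐ[A] B => f e) hid
    have h2' : s (algebraMap A B 0 + (1 : A) • e) = algebraMap A B 0 - (1 : A) • e := hs 0 1
    simp only [map_zero, one_smul, zero_add, zero_sub] at h2'
    have : (2 : A) • e = 0 := by
      rw [two_smul]
      nth_rewrite 1 [← h1]
      rw [h2', neg_add_cancel]
    exact h2.ne_zero (he0 2 this)
  · obtain ⟨a, t, rfl, -⟩ := hdec b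
    show s (s _) = _
    rw [hs, sub_eq_add_neg, ← neg_smul, hs, neg_smul, sub_neg_eq_add]
    rfl
  · obtain ⟨a, t, rfl, -⟩ := hdec b
    have h1 : s (algebraMap A B a + t • e) = algebraMap A B a + t • e := hb
    rw [hs, sub_eq_add_neg, add_right_inj, neg_eq_iff_add_eq_zero, ← two_smul A, smul_smul] at h1
    have h3 : t = 0 := by
      have := congrArg (h * ·) (he0 _ h1)
      simpa [← mul_assoc, hh] using this
    exact ⟨a, by rw [h3, zero_smul, add_zero]⟩
  · rintro ⟨a, rfl⟩
    have h1 := hs a 0
    simp only [zero_smul, add_zero, sub_zero] at h1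
    exact h1

end Groth.Agent.S18887
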