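import Groth.Statements.S18888
import Mathlib.RingTheory.IntegralClosure.IntegrallyClosed
import Mathlib.RingTheory.Polynomial.GaussLemma
import Mathlib.RingTheory.Polynomial.RationalRoot
import Mathlib.LinearAlgebra.Dimension.FreeAndStrongRankCondition
import Mathlib.LinearAlgebra.FiniteDimensional.Lemmas
import Mathlib.RingTheory.UniqueFactorizationDomain.GCDMonoid

set_option autoImplicit false
universe u v w
open CAlg

namespace Groth.Agent.S18888

/-- Let A be a unique factorisation domain in which 2 is invertible, with fraction field K, and let L ⊇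
K be a quadratic extension field (of degree 2 over K) containing an element y ∉ K whose square is a
squarefree element d of A. Then the integral closure of A in L equals the A-subalgebra A[y]
generated by y. -/
theorem result {A : Type u} {K : Type v} {L : Type w}
    [CommRing A] [IsDomain A] [UniqueFactorizationMonoid A] [Field K] [Algebra A K] [IsFractionRing A K]
    [Field L] [Algebra K L] [Algebra A L] [IsScalarTower A K L]
    (h2 : IsUnit (2 : A)) (hL : Module.finrank K L = 2)
    (d : A) (hd : Squarefree d) (y : L) (hy : y * y = algebraMap A L d)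
    (hyK : y ∉ Set.range (algebraMap K L)) :
    integralClosure A L = Algebra.adjoin A {y} := by
  classical
  haveI : IsIntegrallyClosed A := UniqueFactorizationMonoid.instIsIntegrallyClosed
  have hKA : Function.Injective (algebraMap A K) := IsFractionRing.injective A K
  have hinjKL : Function.Injective (algebraMap K L) := (algebraMap K L).injective
  have hAL : Function.Injective (algebraMap A L) := by
    rw [IsScalarTower.algebraMap_eq A K L]; exact hinjKL.comp hKA
  have hyi : IsIntegral A y := .of_pow (n := 2) (by norm_num) (by rw [pow_two, hy]; exact isIntegral_algebraMap)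
  refine le_antisymm (fun z hz => ?_) (Algebra.adjoin_le (Set.singleton_subset_iff.2 hyi))
  -- write `z = a + b y`
  haveI : FiniteDimensional K L := Module.finite_of_finrank_pos (by omega)
  have hli : LinearIndependent K ![(1 : L), y] := by
    rw [LinearIndependent.pair_iff]
    intro s t hst
    rcases eq_or_ne t 0 with rfl | ht
    · rw [zero_smul, add_zero, smul_eq_zero] at hst
      exact ⟨hst.resolve_right one_ne_zero, rfl⟩
    · exact absurd ⟨-s / t, by
        rw [Algebra.smul_def, mul_one, Algebra.smul_def] at hst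
        rw [map_div₀, map_neg, div_eq_iff ((map_ne_zero_iff _ hinjKL).2 ht)]
        linear_combination -hst⟩ hyK
  have hspan : Submodule.span K (Set.range ![(1 : L), y]) = ⊤ := hli.span_eq_top_of_card_eq_finrank (by rw [Fintype.card_fin, hL])
  obtain ⟨cf, hcf⟩ := (Submodule.mem_span_range_iff_exists_fun K).1 (hspan.ge (Submodule.mem_top (x := z)))
  rw [Fin.sum_univ_two] at hcf
  obtain ⟨a, b, hzab⟩ : ∃ a b : K, z = algebraMap K L a + algebraMap K L b * y :=
    ⟨cf 0, cf 1, by rw [← hcf]; simp [Algebra.smul_def]⟩
  -- the conjugation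
  let σ : L →ₗ[K] L := (Module.Basis.mk hli hspan.ge).constr K ![(1 : L), -y]
  have hσ : ∀ r s : K, σ (algebraMap K L r + algebraMap K L s * y) = algebraMap K L r - algebraMap K L s * y := fun r s => by
    have e0 : σ 1 = 1 := by
      have := (Module.Basis.mk hli hspan.ge).constr_basis K ![(1 : L), -y] 0
      rwa [Module.Basis.mk_apply] at this
    have e1 : σ y = -y := by
      have := (Module.Basis.mk hli hspan.ge).constr_basis K ![(1 : L), -y] 1
      rwa [Module.Basis.mk_apply] at this
    rw [← Algebra.smul_def, Algebra.algebraMap_eq_smul_one r, map_add, map_smul, map_smul, e0, e1, smul_neg, sub_eq_add_neg]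
  have hyy : y * y = algebraMap K L (algebraMap A K d) := by rw [hy, IsScalarTower.algebraMap_apply A K L]
  have hdec : ∀ x : L, ∃ r s : K, x = algebraMap K L r + algebraMap K L s * y := fun x => by
    obtain ⟨c, hc⟩ := (Submodule.mem_span_range_iff_exists_fun K).1 (hspan.ge (Submodule.mem_top (x := x)))
    rw [Fin.sum_univ_two] at hc
    exact ⟨c 0, c 1, by rw [← hc]; simp [Algebra.smul_def]⟩
  let τ : L →ₐ[K] L := AlgHom.ofLinearMap σ (by simpa using hσ 1 0) fun x w => by
    obtain ⟨r, s, rfl⟩ := hdec x
    obtain ⟨r', s', rfl⟩ := hdec w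
    rw [show (algebraMap K L r + algebraMap K L s * y) * (algebraMap K L r' + algebraMap K L s' * y) =
        algebraMap K L (r * r' + s * s' * algebraMap A K d) + algebraMap K L (r * s' + s * r') * y by
      simp only [map_add, map_mul, ← hyy]; ring, hσ, hσ, hσ]
    simp only [map_add, map_mul, ← hyy]; ring
  have hτz : IsIntegral A (τ z) := hz.map (τ.restrictScalars A)
  have htr : IsIntegral A (algebraMap K L (2 * a)) := by
    have e : algebraMap K L (2 * a) = z + τ z := by
      rw [show τ z = σ z from rfl, hzab, hσ, map_mul, map_ofNat]; ring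
    rw [e]; exact hz.add hτz
  have hnm : IsIntegral A (algebraMap K L (a * a - b * b * algebraMap A K d)) := by
    have e : algebraMap K L (a * a - b * b * algebraMap A K d) = z * τ z := by
      rw [show τ z = σ z from rfl, hzab, hσ, map_sub, map_mul, map_mul, map_mul, ← hyy]; ring
    rw [e]; exact hz.mul hτz
  have inA : ∀ c : K, IsIntegral A (algebraMap K L c) → ∃ w, algebraMap A K w = c := fun c hc =>
    IsIntegrallyClosed.isIntegral_iff.1 ((isIntegral_algHom_iff (IsScalarTower.toAlgHom A K L) hinjKL).1 hc)
  obtain ⟨t, ht⟩ := inA _ htr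
  obtain ⟨h, hh⟩ := h2.exists_right_inv
  have ha : a = algebraMap A K (h * t) := by
    rw [map_mul, ht, ← mul_assoc, ← map_ofNat (algebraMap A K) 2, ← map_mul, mul_comm h, hh, map_one, one_mul]
  obtain ⟨n, hn⟩ := inA _ hnm
  obtain ⟨w, hw⟩ : ∃ w, algebraMap A K w = b * b * algebraMap A K d :=
    ⟨(h * t) * (h * t) - n, by rw [map_sub, map_mul, ← ha, hn]; ring⟩
  -- `b` lies in `A`
  obtain ⟨p, q, hq, hpq, hb⟩ : ∃ p q : A, q ≠ 0 ∧ IsRelPrime p q ∧ b = algebraMap A K p / algebraMap A K q :=
    ⟨IsFractionRing.num A b, IsFractionRing.den A b, nonZeroDivisors.ne_zero (IsFractionRing.den A b).2,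
      IsFractionRing.num_den_reduced A b, by rw [← IsFractionRing.mk'_eq_div, IsFractionRing.mk'_num_den]⟩
  have hdiv : q * q ∣ p * p * d := ⟨w, hKA (by
    rw [map_mul (algebraMap A K) (q * q), hw, hb, map_mul, map_mul, map_mul]
    field_simp [(map_ne_zero_iff _ hKA).2 hq])⟩
  have hqu : IsUnit q := hd q (((hpq.symm.mul_right hpq.symm).mul_left (hpq.symm.mul_right hpq.symm)).dvd_of_dvd_mul_left hdiv)
  obtain ⟨b', hb'⟩ : ∃ b', algebraMap A K b' = b := by
    obtain ⟨v, hv⟩ := hqu.exists_right_inv
    refine ⟨p * v, ?_⟩
    rw [hb, eq_div_iff ((map_ne_zero_iff _ hKA).2 hq), ← map_mul, mul_assoc, mul_comm v, hv, mul_one]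
  rw [hzab, ha, ← hb', ← IsScalarTower.algebraMap_apply, ← IsScalarTower.algebraMap_apply]
  exact add_mem (Subalgebra.algebraMap_mem _ _) (mul_mem (Subalgebra.algebraMap_mem _ _) (Algebra.subset_adjoin rfl))

end Groth.Agent.S18888
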