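import Groth.Statements.S18889
import Mathlib.RingTheory.FinitePresentation
import Mathlib.RingTheory.FiniteStability
import Mathlib.RingTheory.TensorProduct.MvPolynomial
import Mathlib.RingTheory.Invariant.Basic
import Mathlib.RingTheory.Adjoin.Tower
import Mathlib.RingTheory.IntegralClosure.IsIntegralClosure.Basic
import Mathlib.RingTheory.Polynomial.Basic
import Mathlib.RingTheory.TensorProduct.Maps

set_option autoImplicit false
universe u v w
open CAlg

namespace Groth.Agent.S18889

open MvPolynomial TensorProduct

section perm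

variable (R : Type u) [CommRing R] (G : Type w) [Group G] (n : ℕ)

/-- The permutation of the variables by an element of the group. -/
noncomputable def σ (g : G) : MvPolynomial (G × Fin n) R →ₐ[R] MvPolynomial (G × Fin n) R :=
  MvPolynomial.rename fun x => (g * x.1, x.2)

theorem σ_mul (g h : G) (p : MvPolynomial (G × Fin n) R) :
    σ R G n (g * h) p = σ R G n g (σ R G n h p) := by
  simp only [σ, MvPolynomial.rename_rename]
  exact congrArg (fun f => MvPolynomial.rename f p) (funext fun x => by simp [mul_assoc])

theorem σ_one (p : MvPolynomial (G × Fin n) R) : σ R G n 1 p = p := by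
  simp only [σ, one_mul]
  exact MvPolynomial.rename_id_apply p

/-- The invariant polynomials. -/
noncomputable def inv' : Subalgebra R (MvPolynomial (G × Fin n) R) :=
  ⨅ g, AlgHom.equalizer (σ R G n g) (AlgHom.id R _)

theorem mem_inv {p : MvPolynomial (G × Fin n) R} : p ∈ inv' R G n ↔ ∀ g, σ R G n g p = p := by
  simp [inv', Algebra.mem_iInf, AlgHom.mem_equalizer]

variable [Fintype G]

/-- The averaging operator attached to an inverse of the order. -/
noncomputable def ρ (u : R) : MvPolynomial (G × Fin n) R →ₗ[R] MvPolynomial (G × Fin n) R :=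
  u • ∑ g : G, (σ R G n g).toLinearMap

theorem ρ_apply (u : R) (p : MvPolynomial (G × Fin n) R) :
    ρ R G n u p = u • ∑ g : G, σ R G n g p := by
  simp [ρ]

theorem ρ_mem (u : R) (p : MvPolynomial (G × Fin n) R) : ρ R G n u p ∈ inv' R G n := by
  rw [mem_inv]
  intro g
  rw [ρ_apply, map_smul, map_sum]
  congr 1
  simp only [← σ_mul]
  exact Fintype.sum_bijective (fun h => g * h) (Group.mulLeft_bijective g) _ _ fun _ => rfl

theorem ρ_of_mem {u : R} (hu : u * (Fintype.card G : R) = 1) {p : MvPolynomial (G × Fin n) R}
    (hp : p ∈ inv' R G n) : ρ R G n u p = p := by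
  rw [ρ_apply]
  simp only [(mem_inv R G n).1 hp]
  rw [Finset.sum_const, Finset.card_univ, ← Nat.cast_smul_eq_nsmul R, smul_smul, hu, one_smul]

theorem isIntegral_inv (p : MvPolynomial (G × Fin n) R) : IsIntegral (inv' R G n) p := by
  classical
  letI φ : G →* (MvPolynomial (G × Fin n) R →+* MvPolynomial (G × Fin n) R) :=
    { toFun := fun g => (σ R G n g).toRingHom
      map_one' := RingHom.ext (σ_one R G n)
      map_mul' := fun g h => RingHom.ext (σ_mul R G n g h) }
  letI : MulSemiringAction G (MvPolynomial (G × Fin n) R) := MulSemiringAction.compHom _ φ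
  have hsmul : ∀ (g : G) (q : MvPolynomial (G × Fin n) R), g • q = σ R G n g q := fun g q => rfl
  haveI : SMulCommClass G (inv' R G n) (MvPolynomial (G × Fin n) R) :=
    ⟨fun g a q => by
      rw [Algebra.smul_def, Algebra.smul_def, hsmul, hsmul, map_mul]
      exact congrArg (· * _) ((mem_inv R G n).1 a.2 g)⟩
  haveI : Algebra.IsInvariant (inv' R G n) (MvPolynomial (G × Fin n) R) G :=
    ⟨fun q hq => ⟨⟨q, (mem_inv R G n).2 hq⟩, rfl⟩⟩
  exact (Algebra.IsInvariant.isIntegral (inv' R G n) (MvPolynomial (G × Fin n) R) G).isIntegral p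

theorem finite_inv : Module.Finite (inv' R G n) (MvPolynomial (G × Fin n) R) := by
  haveI : Algebra.IsIntegral (inv' R G n) (MvPolynomial (G × Fin n) R) := ⟨isIntegral_inv R G n⟩
  haveI : Algebra.FiniteType (inv' R G n) (MvPolynomial (G × Fin n) R) :=
    Algebra.FiniteType.of_restrictScalars_finiteType R _ _
  exact Algebra.IsIntegral.finite

theorem finitePresentation_noetherian [IsNoetherianRing R] :
    Algebra.FinitePresentation R (inv' R G n) :=
  Algebra.FinitePresentation.of_finiteType.1 ⟨fg_of_fg_of_fg R (inv' R G n)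
    (MvPolynomial (G × Fin n) R) (Algebra.FiniteType.out) (finite_inv R G n).fg_top Subtype.val_injective⟩

set_option maxHeartbeats 1000000 in
/-- Invariants of a permutation action commute with base change when the order is invertible. -/
theorem finitePresentation_inv {u : R} (hu : u * (Fintype.card G : R) = 1) :
    Algebra.FinitePresentation R (inv' R G n) := by
  let R₀ := Algebra.adjoin ℤ ({u} : Set R)
  haveI : IsNoetherianRing R₀ := isNoetherianRing_of_fg
    (Subalgebra.fg_def.2 ⟨{u}, Set.finite_singleton u, rfl⟩)
  let u₀ : R₀ := ⟨u, Algebra.subset_adjoin rfl⟩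
  have hu₀ : u₀ * (Fintype.card G : R₀) = 1 := Subtype.ext (by simpa using hu)
  haveI := finitePresentation_noetherian R₀ G n
  let W₀ := MvPolynomial (G × Fin n) R₀
  let E := MvPolynomial.algebraTensorAlgEquiv (σ := G × Fin n) R₀ R
  let f : R ⊗[R₀] (inv' R₀ G n) →ₐ[R] MvPolynomial (G × Fin n) R :=
    E.toAlgHom.comp (Algebra.TensorProduct.map (AlgHom.id R R) (inv' R₀ G n).val)
  let ret : W₀ →ₗ[R₀] (inv' R₀ G n) :=
    (ρ R₀ G n u₀).codRestrict (Subalgebra.toSubmodule (inv' R₀ G n)) (ρ_mem R₀ G n u₀)
  have hret : ret ∘ₗ (inv' R₀ G n).val.toLinearMap = LinearMap.id :=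
    LinearMap.ext fun q => Subtype.ext (ρ_of_mem R₀ G n hu₀ q.2)
  have hf : ∀ z, f z = E ((inv' R₀ G n).val.toLinearMap.lTensor R z) := fun z => by
    induction z with
    | zero => simp
    | tmul a b => rfl
    | add a b ha hb => simp only [map_add, ha, hb]
  have hinj : Function.Injective f := by
    intro x y hxy
    rw [hf, hf] at hxy
    have := congrArg (ret.lTensor R) (E.injective hxy)
    rwa [← LinearMap.comp_apply, ← LinearMap.lTensor_comp, hret, LinearMap.lTensor_id,
      LinearMap.id_apply, ← LinearMap.comp_apply, ← LinearMap.lTensor_comp, hret,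
      LinearMap.lTensor_id, LinearMap.id_apply] at this
  have hE : ∀ (g : G) (z : R ⊗[R₀] W₀), σ R G n g (E z) = E ((σ R₀ G n g).toLinearMap.lTensor R z) := by
    intro g z
    induction z with
    | zero => simp
    | tmul a b =>
      show σ R G n g (E (a ⊗ₜ b)) = E (a ⊗ₜ σ R₀ G n g b)
      rw [show E (a ⊗ₜ b) = a • MvPolynomial.map (algebraMap R₀ R) b from
          MvPolynomial.algebraTensorAlgEquiv_tmul _ _ _ _,
        show E (a ⊗ₜ σ R₀ G n g b) = a • MvPolynomial.map (algebraMap R₀ R) (σ R₀ G n g b) from
          MvPolynomial.algebraTensorAlgEquiv_tmul _ _ _ _, map_smul]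
      congr 1
      simp only [σ, MvPolynomial.map_rename]
    | add a b ha hb => simp only [map_add, ha, hb]
  have hrange : f.range = inv' R G n := by
    apply le_antisymm
    · rintro _ ⟨z, rfl⟩
      rw [mem_inv]
      intro g
      show σ R G n g (f z) = f z
      rw [hf, hE, ← LinearMap.comp_apply, ← LinearMap.lTensor_comp]
      congr 2
      congr 1
      exact LinearMap.ext fun q => (mem_inv R₀ G n).1 q.2 g
    · intro p hp
      obtain ⟨z, rfl⟩ := E.surjective p
      refine ⟨ret.lTensor R z, ?_⟩
      show f (ret.lTensor R z) = E z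
      rw [hf, ← LinearMap.comp_apply, ← LinearMap.lTensor_comp]
      conv_rhs => rw [← ρ_of_mem R G n hu hp]
      rw [show (inv' R₀ G n).val.toLinearMap ∘ₗ ret = ρ R₀ G n u₀ from LinearMap.ext fun q => rfl,
        ρ_apply]
      simp only [hE, ← map_sum, ← map_smul]
      congr 1
      rw [ρ, LinearMap.lTensor_smul, LinearMap.smul_apply]
      refine (IsScalarTower.algebraMap_smul R u₀ _).symm.trans ?_
      congr 1
      rw [← LinearMap.coe_lTensorHom, map_sum, LinearMap.sum_apply]
  haveI : Algebra.FinitePresentation R (R ⊗[R₀] (inv' R₀ G n)) := inferInstance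
  exact Algebra.FinitePresentation.equiv
    ((AlgEquiv.ofInjective f hinj).trans (Subalgebra.equivOfEq _ _ hrange))

end perm

/-- Let R be a commutative ring, A a commutative R-algebra of finite presentation, and G a finite group
acting on A by R-algebra automorphisms such that the order of G is invertible in R. Then the ring of
invariants A^G is an R-algebra of finite presentation. (The source takes G to be a group of
automorphisms of A; here G acts through a possibly non-faithful action, which changes nothing since
the invariants and the invertibility of the order only depend on the image of G.) -/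
theorem result {R : Type u} {A : Type v} [CommRing R] [CommRing A]
    [Algebra R A] [Algebra.FinitePresentation R A]
    {G : Type w} [Group G] [Finite G] [MulSemiringAction G A] [SMulCommClass G R A]
    (hG : IsUnit ((Nat.card G : ℕ) : R)) :
    Algebra.FinitePresentation R (FixedPoints.subalgebra R A G) := by
  classical
  haveI := Fintype.ofFinite G
  obtain ⟨u, hu⟩ := hG.exists_left_inv
  rw [Nat.card_eq_fintype_card] at hu
  obtain ⟨n, π₀, hπ₀⟩ := Algebra.FiniteType.iff_quotient_mvPolynomial''.1
    (Algebra.FiniteType.of_finitePresentation (R := R) (A := A))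
  let π : MvPolynomial (G × Fin n) R →ₐ[R] A := MvPolynomial.aeval fun x => x.1 • π₀ (X x.2)
  have hπs : Function.Surjective π := by
    have e : π.comp (MvPolynomial.rename fun i => ((1 : G), i)) = π₀ := by
      refine MvPolynomial.algHom_ext fun i => ?_
      simp [π]
    intro a
    obtain ⟨p, rfl⟩ := hπ₀ a
    exact ⟨_, DFunLike.congr_fun e p⟩
  have hπσ : ∀ (g : G) p, π (σ R G n g p) = g • π p := by
    intro g p
    have e : π.comp (σ R G n g) = (MulSemiringAction.toAlgHom R A g).comp π := by
      refine MvPolynomial.algHom_ext fun x => ?_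
      simp [π, σ, mul_smul]
    exact DFunLike.congr_fun e p
  let ρA : A → A := fun a => u • ∑ g : G, g • a
  have hπρ : ∀ p, π (ρ R G n u p) = ρA (π p) := fun p => by
    rw [ρ_apply, map_smul, map_sum]; simp only [hπσ, ρA]
  have hmem : ∀ p : inv' R G n, π p.1 ∈ FixedPoints.subalgebra R A G := fun p g => by
    rw [← hπσ, (mem_inv R G n).1 p.2 g]
  let π' : inv' R G n →ₐ[R] FixedPoints.subalgebra R A G :=
    (π.comp (inv' R G n).val).codRestrict _ hmem
  have hπ's : Function.Surjective π' := by
    intro a
    obtain ⟨p, hp⟩ := hπs a.1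
    refine ⟨⟨ρ R G n u p, ρ_mem R G n u p⟩, Subtype.ext ?_⟩
    show π (ρ R G n u p) = a.1
    rw [hπρ, hp]
    show u • ∑ g : G, g • a.1 = a.1
    rw [Finset.sum_congr rfl fun g _ => a.2 g, Finset.sum_const, Finset.card_univ,
      ← Nat.cast_smul_eq_nsmul R, smul_smul, hu, one_smul]
  haveI := finitePresentation_inv R G n hu
  haveI := finite_inv R G n
  refine Algebra.FinitePresentation.of_surjective hπ's ?_
  -- the kernel is the average of the kernel
  let ρ' : MvPolynomial (G × Fin n) R →ₗ[inv' R G n] inv' R G n :=
    { toFun := fun p => ⟨ρ R G n u p, ρ_mem R G n u p⟩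
      map_add' := fun p q => Subtype.ext (map_add _ p q)
      map_smul' := fun c p => Subtype.ext (by
        show ρ R G n u (c.1 * p) = c.1 * ρ R G n u p
        simp only [ρ_apply, map_mul, (mem_inv R G n).1 c.2, ← Finset.mul_sum, mul_smul_comm]) }
  have hK : (RingHom.ker π.toRingHom).FG := Algebra.FinitePresentation.ker_fG_of_surjective π hπs
  have hK' : ((RingHom.ker π.toRingHom).restrictScalars (inv' R G n)).FG := Submodule.FG.restrictScalars hK
  suffices h : RingHom.ker π'.toRingHom =
      ((RingHom.ker π.toRingHom).restrictScalars (inv' R G n)).map ρ' by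
    rw [h]; exact hK'.map ρ'
  ext x
  constructor
  · intro hx
    exact ⟨x.1, congrArg Subtype.val hx, Subtype.ext (ρ_of_mem R G n hu x.2)⟩
  · rintro ⟨p, hp, rfl⟩
    refine Subtype.ext ?_
    show π (ρ R G n u p) = 0
    rw [hπρ, show π p = 0 from hp]
    simp [ρA]

end Groth.Agent.S18889
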