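import Groth.Statements.S18890
import Mathlib.RepresentationTheory.Invariants
import Mathlib.LinearAlgebra.TensorProduct.Basic

set_option autoImplicit false
universe u v w w'
open CAlg
open scoped TensorProduct

namespace Groth.Agent.S18890

/-- Let R be a commutative ring, G a finite group whose order is invertible in R, M an R-module with an
R-linear action ρ of G and N an arbitrary R-module. Then the natural map M^G ⊗_R N → M ⊗_R N induced
by the inclusion of the invariants is injective, and its image is the submodule of invariants of M
⊗_R N under the action ρ ⊗ 1 (G acting on the first factor). (The source lets G be a group of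
R-automorphisms of M; a possibly non-faithful linear action changes nothing.) -/
theorem result {R : Type u} [CommRing R]
    {G : Type v} [Group G] [Finite G] (hG : IsUnit ((Nat.card G : ℕ) : R))
    {M : Type w} {N : Type w'} [AddCommGroup M] [Module R M] [AddCommGroup N] [Module R N]
    (ρ : Representation R G M) :
    Function.Injective (LinearMap.rTensor N ρ.invariants.subtype) ∧
      LinearMap.range (LinearMap.rTensor N ρ.invariants.subtype) =
        (ρ.tprod (Representation.trivial R G N)).invariants := by
  classical
  have := Fintype.ofFinite G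
  have hG' : IsUnit ((Fintype.card G : ℕ) : R) := by rwa [← Nat.card_eq_fintype_card]
  obtain ⟨c, hc⟩ := hG'.exists_left_inv
  let avg : M →ₗ[R] M := c • ∑ g : G, ρ g
  have hmem : ∀ m, avg m ∈ ρ.invariants := fun m g => by
    show ρ g ((c • ∑ x : G, ρ x) m) = _
    simp only [avg, LinearMap.smul_apply, LinearMap.sum_apply, map_smul, map_sum]
    congr 1
    exact (Finset.sum_congr rfl fun x _ => (LinearMap.congr_fun (map_mul ρ g x) m).symm).trans (Equiv.sum_comp (Equiv.mulLeft g) fun x => ρ x m)
  let p : M →ₗ[R] ρ.invariants := avg.codRestrict _ hmem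
  have hp : p.comp ρ.invariants.subtype = LinearMap.id := LinearMap.ext fun x => Subtype.ext <| by
    show c • (∑ g : G, ρ g) (x : M) = (x : M)
    rw [LinearMap.sum_apply, Finset.sum_congr rfl fun g _ => x.2 g, Finset.sum_const, Finset.card_univ, ← Nat.cast_smul_eq_nsmul R, smul_smul, hc, one_smul]
  refine ⟨Function.LeftInverse.injective (g := LinearMap.rTensor N p) fun z => ?_, le_antisymm ?_ fun z hz => ⟨LinearMap.rTensor N p z, ?_⟩⟩
  · rw [← LinearMap.comp_apply, ← LinearMap.rTensor_comp, hp, LinearMap.rTensor_id, LinearMap.id_apply]
  · rintro _ ⟨z, rfl⟩ g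
    induction z with
    | zero => simp
    | add a b ha hb => simp only [map_add, ha, hb]
    | tmul m n =>
      show TensorProduct.map (ρ g) (LinearMap.id : N →ₗ[R] N) ((m : M) ⊗ₜ[R] n) = (m : M) ⊗ₜ[R] n
      rw [TensorProduct.map_tmul, m.2 g, LinearMap.id_apply]
  · have hg : ∀ g : G, LinearMap.rTensor N (ρ g) z = z := fun g => hz g
    rw [← LinearMap.comp_apply, ← LinearMap.rTensor_comp, show ρ.invariants.subtype.comp p = avg from rfl]
    simp only [avg, LinearMap.rTensor_smul]
    rw [show LinearMap.rTensor N (∑ g : G, ρ g) = ∑ g : G, LinearMap.rTensor N (ρ g) from map_sum (LinearMap.rTensorHom N) _ _]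
    rw [LinearMap.smul_apply, LinearMap.sum_apply, Finset.sum_congr rfl fun g _ => hg g, Finset.sum_const, Finset.card_univ, ← Nat.cast_smul_eq_nsmul R, smul_smul, hc, one_smul]

end Groth.Agent.S18890
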