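import Groth.Statements.S18891
import Mathlib
import Groth.Agent.SepSurj.Basic

set_option autoImplicit false
universe u
open CategoryTheory CategoryTheory.Limits AlgebraicGeometry
open Mor

namespace Groth.Agent.S18891

/-- Let f : X → Y be a morphism of schemes which is proper and formally unramified, and such that for
every algebraically closed field Ω the map X(Ω) → Y(Ω), g ↦ g ≫ f, is injective. Then f is a closed
immersion. -/
theorem result {X Y : Scheme.{u}} (f : X ⟶ Y)
    [IsProper f] [FormallyUnramified f]
    (hinj : ∀ (Ω : Type u) [Field Ω] [IsAlgClosed Ω],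
      Function.Injective (fun g : Spec (CommRingCat.of Ω) ⟶ X => g ≫ f)) :
    IsClosedImmersion f := by
  set_option backward.isDefEq.respectTransparency false in
  haveI : UniversallyInjective f := by
    refine ((tfae_universallyInjective f).out 0 1).2 fun (K : Type u) [Field K] g₁ g₂ hg => ?_
    let r := Spec.map (CommRingCat.ofHom (algebraMap K (AlgebraicClosure K)))
    haveI : Surjective r := ⟨fun t => ⟨IsLocalRing.closedPoint _, @Subsingleton.elim (PrimeSpectrum K) inferInstance _ _⟩⟩
    haveI : Flat r := (HasRingHomProperty.Spec_iff (P := @Flat)).2 (RingHom.flat_algebraMap_iff.2 inferInstance)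
    haveI := Flat.epi_of_flat_of_surjective r
    have hg' : g₁ ≫ f = g₂ ≫ f := hg
    exact (cancel_epi r).1 (hinj (AlgebraicClosure K)
      (show (r ≫ g₁) ≫ f = (r ≫ g₂) ≫ f by rw [Category.assoc, Category.assoc, hg']))
  haveI : Surjective (CategoryTheory.Limits.pullback.diagonal f) := (UniversallyInjective.iff_diagonal f).1 ‹_›
  haveI : IsOpenImmersion (CategoryTheory.Limits.pullback.diagonal f) := inferInstance
  haveI : IsIso (CategoryTheory.Limits.pullback.diagonal f) := by
    rw [isIso_iff_isOpenImmersion_and_surjective]; exact ⟨inferInstance, inferInstance⟩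
  haveI : Mono f := ⟨fun {T} g₁ g₂ hg => by
    let l := CategoryTheory.Limits.pullback.lift g₁ g₂ hg ≫ inv (CategoryTheory.Limits.pullback.diagonal f)
    have hl : l ≫ CategoryTheory.Limits.pullback.diagonal f = CategoryTheory.Limits.pullback.lift g₁ g₂ hg := by simp [l]
    have h1 := congrArg (· ≫ CategoryTheory.Limits.pullback.fst f f) hl
    have h2 := congrArg (· ≫ CategoryTheory.Limits.pullback.snd f f) hl
    simp at h1 h2
    exact h1.symm.trans h2⟩
  exact (IsClosedImmersion.iff_isProper_and_mono (f := f)).2 ⟨inferInstance, inferInstance⟩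

end Groth.Agent.S18891
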