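import Groth.Statements.S18893
import Groth.Agent.W7Pencil.Invol

set_option autoImplicit false
universe u
open CategoryTheory CategoryTheory.Limits AlgebraicGeometry
open Curves

set_option backward.isDefEq.respectTransparency false
set_option backward.isDefEq.respectTransparency.types false

open Groth.Agent Groth.Agent.CurveRR Groth.Agent.CohFinite

namespace Groth.Agent.S18893

/-- Let k be an algebraically closed field of characteristic different from 2 and X a hyperelliptic
curve over k (p : X → Spec k smooth and proper, X connected of dimension one, genus dim_k H¹(X, O_X)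
≥ 2, with a double cover h : X → P¹_k, finite and flat of rank 2 everywhere) with hyperelliptic
involution σ (σ ≫ h = h, σ ≠ id). Then σ lies in the centre of the automorphism group of X over k:
it commutes with every k-automorphism τ of X. -/
theorem result (k : Type u) [Field k] [IsAlgClosed k] (h2 : (2 : k) ≠ 0)
    {X : Scheme.{u}} (p : X ⟶ Spec (CommRingCat.of k)) [IsProper p] [Smooth p] [ConnectedSpace ↥X]
    (hX : topologicalKrullDim ↥X = 1) (hg : 2 ≤ @Curv2.genus k _ X ⟨p⟩)
    (h : X ⟶ CohB1.ProjSpace 1 k) (hh : h ≫ CohB1.ProjSpace.toSpec 1 k = p)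
    [IsFinite h] [Flat h] (hr : ∀ y : ↥(CohB1.ProjSpace 1 k), h.finrank y = 2)
    (σ : X ⟶ X) (hσ : σ ≫ h = h) (hσ₁ : σ ≠ 𝟙 X)
    (τ : X ≅ X) (hτ : τ.hom ≫ p = p) :
    τ.hom ≫ σ = σ ≫ τ.hom := by
  letI : X.Over (Spec (CommRingCat.of k)) := ⟨p⟩
  haveI hp : IsProper (X ↘ Spec (CommRingCat.of k)) := ‹IsProper p›
  haveI hsm : Smooth (X ↘ Spec (CommRingCat.of k)) := ‹Smooth p›
  haveI := Easy.isIntegral_of_smooth (k := k) (X := X)
  haveI := isNoetherian_of_proper k X
  haveI := Horrocks.isIntegral_projSpace (k := k) (n := 1)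
  let h' : X ⟶ CohB1.ProjSpace 1 k := τ.hom ≫ h
  have hh' : h' ≫ CohB1.ProjSpace.toSpec 1 k = p := by rw [Category.assoc, hh, hτ]
  have hr' : ∀ y, h'.finrank y = 2 := fun y => by
    rw [Scheme.Hom.finrank_comp_left_of_isIso]; exact hr y
  let σ' : X ⟶ X := τ.hom ≫ σ ≫ τ.inv
  have hσ' : σ' ≫ h' = h' := by simp only [σ', h', Category.assoc, Iso.inv_hom_id_assoc, hσ]
  have hσ'1 : σ' ≠ 𝟙 X := fun hc => hσ₁ (by
    have := congrArg (fun φ => τ.inv ≫ φ ≫ τ.hom) hc
    simpa [σ'] using this)
  have := W7Pencil.deck_unique h hX (h0_structure k X) rfl hg h' hh hh'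
    (W7Pencil.residueDegree_of_finrank h hX hh hr) (W7Pencil.residueDegree_of_finrank h' hX hh' hr')
    σ σ' hσ hσ₁ hσ' hσ'1
  conv_rhs => rw [this]
  simp [σ']

end Groth.Agent.S18893
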