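import Groth.Statements.S18894
import Groth.Agent.AbExt.Main
import Groth.Agent.AbExt.Curve
import Groth.Agent.Castel.NefMinimal
import Groth.Agent.WeilExt.Cor

set_option autoImplicit false
set_option backward.isDefEq.respectTransparency false
set_option backward.isDefEq.respectTransparency.types false
set_option maxHeartbeats 1000000
universe u
open CategoryTheory CategoryTheory.Limits AlgebraicGeometry
open Curves

namespace Groth.Agent.S18894

/-- Together with the accompanying claim: let R be a discrete valuation ring with fraction field K, η :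
Spec K → Spec R the generic point, and f : X → Spec R, g : Y → Spec R two smooth curves of genus n ≥
1 (proper and smooth, with geometrically connected fibres of dimension one and genus n). Then
restriction to the generic fibre is a bijection from R-isomorphisms X ≅ Y onto K-isomorphisms X_η ≅
Y_η: every isomorphism φ of the generic fibres over Spec K is induced by a unique morphism e : X → Y
compatible with the first projections, and this e is an isomorphism over Spec R. -/
theorem result {R : Type u} [CommRing R] [IsDomain R]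
    [IsDiscreteValuationRing R] {X Y : Scheme.{u}}
    (f : X ⟶ Spec (CommRingCat.of R)) (g : Y ⟶ Spec (CommRingCat.of R))
    [IsProper f] [Smooth f] [GeometricallyConnected f] [IsProper g] [Smooth g] [GeometricallyConnected g]
    (hXdim : ∀ s : ↥(Spec (CommRingCat.of R)), topologicalKrullDim ↥(f.fiber s) = 1)
    (hYdim : ∀ s : ↥(Spec (CommRingCat.of R)), topologicalKrullDim ↥(g.fiber s) = 1)
    (n : ℕ) (hn : 1 ≤ n)
    (hXgen : ∀ s : ↥(Spec (CommRingCat.of R)),
      letI : (f.fiber s).Over (Spec ((Spec (CommRingCat.of R)).residueField s)) := ⟨f.fiberToSpecResidueField s⟩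
      Curv2.genus ((Spec (CommRingCat.of R)).residueField s) (f.fiber s) = n)
    (hYgen : ∀ s : ↥(Spec (CommRingCat.of R)),
      letI : (g.fiber s).Over (Spec ((Spec (CommRingCat.of R)).residueField s)) := ⟨g.fiberToSpecResidueField s⟩
      Curv2.genus ((Spec (CommRingCat.of R)).residueField s) (g.fiber s) = n)
    (η : Spec (CommRingCat.of (FractionRing R)) ⟶ Spec (CommRingCat.of R))
    (hη : η = Spec.map (CommRingCat.ofHom (algebraMap R (FractionRing R))))
    (φ : pullback f η ≅ pullback g η) (hφ : φ.hom ≫ pullback.snd g η = pullback.snd f η) :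
    ∃ e : X ≅ Y, e.hom ≫ g = f ∧ pullback.fst f η ≫ e.hom = φ.hom ≫ pullback.fst g η ∧
      ∀ e' : X ⟶ Y, pullback.fst f η ≫ e' = φ.hom ≫ pullback.fst g η → e' = e.hom := by
  haveI : IsOpenImmersion η := hη ▸ Groth.Agent.Castel.isOpenImmersion_genPt
  haveI : IsLocallyNoetherian X := LocallyOfFiniteType.isLocallyNoetherian f
  haveI : IsLocallyNoetherian Y := LocallyOfFiniteType.isLocallyNoetherian g
  have hregX := Groth.Agent.WeilExt.regular_of_smooth (Groth.Agent.WeilExt.regular_spec (R := R)) f
  have hregY := Groth.Agent.WeilExt.regular_of_smooth (Groth.Agent.WeilExt.regular_spec (R := R)) g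
  haveI := Groth.Agent.AbExt.isReduced_of_regular_stalks hregX
  haveI := Groth.Agent.AbExt.isReduced_of_regular_stalks hregY
  have hηd : Dense (Set.range η) := η.isOpenEmbedding.isOpen_range.dense
    ⟨_, (⊥ : PrimeSpectrum (FractionRing R)), rfl⟩
  have hdom : ∀ {Z : Scheme.{u}} (h : Z ⟶ Spec (CommRingCat.of R)) [Smooth h], IsDominant (pullback.fst h η) := fun h _ => ⟨by
    rw [DenseRange, Scheme.Pullback.range_fst]
    exact hηd.preimage h.isOpenMap⟩
  have hA : ∀ (Z W : Scheme.{u}) (h : Z ⟶ Spec (CommRingCat.of R)) (q : W ⟶ Spec (CommRingCat.of R)) [Smooth h]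
      [IsLocallyNoetherian Z] [IsProper q] (_ : Groth.Agent.AbExt.NoP1 q)
      (_ : ∀ z : Z, IsRegularLocalRing (Z.presheaf.stalk z)) (ψ : pullback h η ⟶ W),
      ψ ≫ q = pullback.snd h η ≫ η → ∃ G : Z ⟶ W, G ≫ q = h ∧ pullback.fst h η ≫ G = ψ := by
    intro Z W h q _ _ _ hq hZ ψ hψ
    obtain ⟨G, ⟨hG, hGU⟩, -⟩ := Groth.Agent.AbExt.existsUnique_ext q h hq hZ (pullback.fst h η).opensRange
      (hdom h).1 ((pullback.fst h η).isoOpensRange.inv ≫ ψ)
      (by rw [Category.assoc, hψ, ← pullback.condition, ← Category.assoc, Scheme.Hom.isoOpensRange_inv_comp])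
    refine ⟨G, hG, ?_⟩
    conv_lhs => rw [← Scheme.Hom.isoOpensRange_hom_ι (pullback.fst h η)]
    rw [Category.assoc, hGU, Iso.hom_inv_id_assoc]
  have huniq : ∀ (Z W : Scheme.{u}) (h : Z ⟶ Spec (CommRingCat.of R)) (q : W ⟶ Spec (CommRingCat.of R)) [Smooth h]
      [IsReduced Z] [IsSeparated q] (a b : Z ⟶ W), a ≫ q = b ≫ q →
      pullback.fst h η ≫ a = pullback.fst h η ≫ b → a = b := by
    intro Z W h q _ _ _ a b hab he
    haveI := hdom h
    exact ext_of_isDominant_of_isSeparated q hab (pullback.fst h η) he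
  have hgen1 : ∀ s, letI : (g.fiber s).Over (Spec ((Spec (CommRingCat.of R)).residueField s)) := ⟨g.fiberToSpecResidueField s⟩
      1 ≤ Curv2.genus ((Spec (CommRingCat.of R)).residueField s) (g.fiber s) := fun s => by
    rw [hYgen s]; exact hn
  have hgen2 : ∀ s, letI : (f.fiber s).Over (Spec ((Spec (CommRingCat.of R)).residueField s)) := ⟨f.fiberToSpecResidueField s⟩
      1 ≤ Curv2.genus ((Spec (CommRingCat.of R)).residueField s) (f.fiber s) := fun s => by
    rw [hXgen s]; exact hn
  have hφi : φ.inv ≫ pullback.snd f η = pullback.snd g η := by rw [← hφ, Iso.inv_hom_id_assoc]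
  obtain ⟨F, hF, hFη⟩ := hA X Y f g (Groth.Agent.AbExt.noP1_of_genus_pos g hYdim hgen1) hregX
    (φ.hom ≫ pullback.fst g η) (by rw [Category.assoc, pullback.condition, reassoc_of% hφ])
  obtain ⟨G, hG, hGη⟩ := hA Y X g f (Groth.Agent.AbExt.noP1_of_genus_pos f hXdim hgen2) hregY
    (φ.inv ≫ pullback.fst f η) (by rw [Category.assoc, pullback.condition, reassoc_of% hφi])
  refine ⟨⟨F, G, ?_, ?_⟩, hF, hFη, fun e' he' => ?_⟩
  · refine huniq X X f f _ _ (by rw [Category.assoc, hG, hF, Category.id_comp]) ?_
    rw [reassoc_of% hFη, hGη, Iso.hom_inv_id_assoc, Category.comp_id]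
  · refine huniq Y Y g g _ _ (by rw [Category.assoc, hF, hG, Category.id_comp]) ?_
    rw [reassoc_of% hGη, hFη, Iso.inv_hom_id_assoc, Category.comp_id]
  · refine huniq X Y f g _ _ ?_ (he'.trans hFη.symm)
    haveI := hdom f
    refine ext_of_isDominant_of_isSeparated (specULiftZIsTerminal.from _) (specULiftZIsTerminal.hom_ext _ _) (pullback.fst f η) ?_
    rw [reassoc_of% he', hF, pullback.condition, reassoc_of% hφ, pullback.condition]

end Groth.Agent.S18894
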