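import Groth.Statements.S18896
import Groth.Agent.CurveFam.EpiFibre
import Groth.Agent.S1589
import Groth.Agent.TopDegRep.Basic
import Groth.Agent.CurveRR.Euler
import Groth.Agent.W7Cech.NNStatements
import Groth.Agent.K0Coh.Basic
import Groth.Agent.W7See.Fibre
import Groth.Agent.SchDense.Unit
import Groth.Agent.Rigid.Smooth
import Groth.Agent.CurveRR.Euler

set_option autoImplicit false
universe u
open CategoryTheory CategoryTheory.Limits AlgebraicGeometry
open Curves

set_option backward.isDefEq.respectTransparency false
set_option backward.isDefEq.respectTransparency.types false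

namespace Groth.Agent.S18896

/-- Let f : X → S be a smooth curve of genus g over a scheme S, i.e. f is proper and smooth and its
fibres are geometrically connected of dimension one and genus g (g the dimension of H¹ of the
structure sheaf of each fibre over its residue field). Then R¹f_*(O_X) is a locally free O_S-module
of rank g. -/
theorem result {X S : Scheme.{u}} (f : X ⟶ S)
    [IsProper f] [Smooth f] [GeometricallyConnected f]
    (hdim : ∀ s : S, topologicalKrullDim ↥(f.fiber s) = 1) (g : ℕ)
    (hgen : ∀ s : S, letI : (f.fiber s).Over (Spec (S.residueField s)) := ⟨f.fiberToSpecResidueField s⟩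
      Curv2.genus (S.residueField s) (f.fiber s) = g)
    [HasInjectiveResolutions X.Modules] :
    FlatMod.IsFinLocFreeOfRank g ((Coh.Rpush f 1).obj (Coh.structureModule X)) := by
  have hq : Coh.IsQCoh (Coh.structureModule X) := QC.isQCoh_unit X
  have hF : CohB1.IsFP (Coh.structureModule X) := SchDense.isFP_unit X
  have hfl : FlatMod.IsFlatOver f (Coh.structureModule X) := SchDense.isFlatOver_unit f
  have hvan : ∀ (s : S) (q : ℕ), 2 ≤ q → Subsingleton (CohIII.fiberH f (Coh.structureModule X) s q) := fun s q hq => by
    letI : (f.fiber s).Over (Spec (S.residueField s)) := ⟨f.fiberToSpecResidueField s⟩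
    haveI : IsProper (f.fiber s ↘ Spec (CommRingCat.of (S.residueField s))) :=
      MorphismProperty.pullback_snd _ _ ‹IsProper f›
    exact CurveRR.subsingleton_of_two_le (k := S.residueField s) (hdim s).le _ q hq
  intro y
  haveI : IsProper (f.fiberToSpecResidueField y) := MorphismProperty.pullback_snd _ _ ‹IsProper f›
  haveI : GeometricallyConnected (f.fiberToSpecResidueField y) :=
    MorphismProperty.pullback_snd _ _ ‹GeometricallyConnected f›
  haveI : Smooth (f.fiberToSpecResidueField y) := MorphismProperty.pullback_snd _ _ ‹Smooth f›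
  haveI : GeometricallyReduced (f.fiberToSpecResidueField y) := Rigid.geometricallyReduced_of_smooth _
  obtain ⟨W, hyW, hW⟩ := W7Hull.exists_nhd_epi_of_fibre f y
    (W7See.bijective_global_field (K := S.residueField y) (f.fiberToSpecResidueField y))
  obtain ⟨U, hyU, -, ⟨e⟩⟩ := W7Cech.locFree_of_good_nn f hq hF hfl 1 W (fun V hV hVW m =>
    W7Cech.good_of_exact m.L m.hL 1
      ((W7Cech.T_epi_iff_mono_succ m.L (W7Cech.flatX m.L m.hL) 0).1 (hW V hV hVW m))
      ((W7Cech.T_epi_iff_mono_succ m.L (W7Cech.flatX m.L m.hL) 1).2
        (W7Cech.isZero_T_of_isZero_homology_all m.L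
          (fun M => m.isZero_T f 2 (fun z _ => hvan z 2 le_rfl) M)).1)) y hyW
  have hr : CohIII.fiberRank f (Coh.structureModule X) 1 y = g := by
    letI : (f.fiber y).Over (Spec (S.residueField y)) := ⟨f.fiberToSpecResidueField y⟩
    rw [← hgen y]
    exact CurveRR.h_eq_of_iso (k := S.residueField y) (PicLoc.pullbackStructureIso (f.fiberι y)) 1
  exact ⟨U, hyU, hr ▸ ⟨e⟩⟩

end Groth.Agent.S18896
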