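import Groth.Statements.S18898
import Groth.Agent.CurveDual.Descent

set_option autoImplicit false
set_option linter.style.haveILetI false
universe u
open CategoryTheory CategoryTheory.Limits AlgebraicGeometry
open Curves

set_option backward.isDefEq.respectTransparency false
set_option backward.isDefEq.respectTransparency.types false
set_option maxHeartbeats 800000

namespace Groth.Agent.S18898

/-- Take an affine base S and a smooth genus-g curve f : X → S over it (proper and smooth, with
geometrically connected fibres of dimension one and genus g). Then there exist an affine scheme S₀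
whose ring of global sections is of finite type over ℤ (in particular S₀ is Noetherian), a morphism
u : S → S₀ which is injective on global sections (so that S₀ is the spectrum of a subring of
O_S(S)), and a smooth curve of genus g, f₀ : X₀ → S₀, together with a cartesian square making f the
base change of f₀ along u. -/
theorem result {X S : Scheme.{u}} (f : X ⟶ S) [IsAffine S]
    [IsProper f] [Smooth f] [GeometricallyConnected f]
    (hdim : ∀ s : S, topologicalKrullDim ↥(f.fiber s) = 1) (g : ℕ)
    (hgen : ∀ s : S, letI : (f.fiber s).Over (Spec (S.residueField s)) := ⟨f.fiberToSpecResidueField s⟩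
      Curv2.genus (S.residueField s) (f.fiber s) = g) :
    ∃ (S₀ X₀ : Scheme.{u}) (f₀ : X₀ ⟶ S₀) (u : S ⟶ S₀) (v : X ⟶ X₀),
      IsAffine S₀ ∧ Algebra.FiniteType ℤ Γ(S₀, ⊤) ∧ Function.Injective (u.appTop).hom ∧
      IsPullback v f f₀ u ∧ IsProper f₀ ∧ Smooth f₀ ∧ GeometricallyConnected f₀ ∧
      (∀ s : S₀, topologicalKrullDim ↥(f₀.fiber s) = 1) ∧
      ∀ s : S₀, letI : (f₀.fiber s).Over (Spec (S₀.residueField s)) := ⟨f₀.fiberToSpecResidueField s⟩
        Curv2.genus (S₀.residueField s) (f₀.fiber s) = g := by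
  classical
  haveI := CurveDual.smoothOfRelativeDimension_one f hdim
  haveI := smoothOfRelativeDimension_isStableUnderBaseChange (n := 1)
  let A : Type u := Γ(S, ⊤)
  let fX : X ⟶ Spec (CommRingCat.of A) := f ≫ S.isoSpec.hom
  have sqA : IsPullback (𝟙 X) fX f S.isoSpec.inv :=
    IsPullback.of_horiz_isIso ⟨by simp [fX]⟩
  letI : X.Over (Spec (CommRingCat.of A)) := ⟨fX⟩
  haveI : IsProper (X ↘ Spec (CommRingCat.of A)) := MorphismProperty.of_isPullback (P := @IsProper) sqA ‹_›
  haveI : SmoothOfRelativeDimension 1 (X ↘ Spec (CommRingCat.of A)) :=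
    MorphismProperty.of_isPullback (P := @SmoothOfRelativeDimension 1) sqA ‹_›
  haveI : GeometricallyConnected (X ↘ Spec (CommRingCat.of A)) :=
    MorphismProperty.of_isPullback (P := @GeometricallyConnected) sqA ‹_›
  haveI : Smooth (X ↘ Spec (CommRingCat.of A)) := SmoothOfRelativeDimension.smooth 1 _
  haveI : Surjective (X ↘ Spec (CommRingCat.of A)) := inferInstance
  have hgA : ∀ z, PerfAux.betti fX (Coh.structureModule X) z 1 = g := fun z => by
    rw [CurveDual.betti_structure_bc sqA, ← hgen]
    letI : (f.fiber (S.isoSpec.inv z)).Over (Spec (CommRingCat.of (S.residueField (S.isoSpec.inv z)))) :=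
      ⟨f.fiberToSpecResidueField (S.isoSpec.inv z)⟩
    haveI : IsProper (f.fiber (S.isoSpec.inv z) ↘ Spec (CommRingCat.of (S.residueField (S.isoSpec.inv z)))) :=
      MorphismProperty.pullback_snd _ _ ‹IsProper f›
    exact CurveRR.h_eq_of_iso (PicLoc.pullbackStructureIso _) 1
  obtain ⟨A₁, X₁, f₁, g₁, hA₁, hN, hp₁, hfl₁, hlfp₁, hs₁, hsq₁, hsm₁⟩ :=
    CurveDual.exists_smooth_model_fg (A := A) (X := X) 1
  haveI := hp₁; haveI := hfl₁; haveI := hlfp₁; haveI := hs₁; haveI := hsm₁
  have hI := TMul.isInvertible_structureModule (X := X₁)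
  have hF := W7Hull.isFP_of_isInvertible hI
  have hfl := W7Hull.isFlatOver_of_isInvertible f₁ hI
  let W : Set (Spec (CommRingCat.of A₁)) :=
    {s | PerfAux.betti f₁ (Coh.structureModule X₁) s 0 < 2} ∩
      {s | PerfAux.eulerChar f₁ (Coh.structureModule X₁) s = 1 - (g : ℤ)}
  have hW : IsOpen W := (BettiNN.isOpen_betti_lt f₁ hF hfl 0 2).inter
    ((BettiNN.isLocallyConstant_eulerChar f₁ hF hfl).isOpen_fiber _)
  have himg : ∀ z, Spec.map (CommRingCat.ofHom (algebraMap A₁ A)) z ∈ W := fun z => by
    have h0 : PerfAux.betti fX (Coh.structureModule X) z 0 = 1 := by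
      letI : (Scheme.Hom.fiber fX z).Over (Spec (CommRingCat.of ((Spec (CommRingCat.of A)).residueField z))) :=
        ⟨fX.fiberToSpecResidueField z⟩
      haveI : IsProper fX := ‹IsProper (X ↘ Spec (CommRingCat.of A))›
      haveI : Smooth fX := ‹Smooth (X ↘ Spec (CommRingCat.of A))›
      haveI : GeometricallyConnected fX := ‹GeometricallyConnected (X ↘ Spec (CommRingCat.of A))›
      haveI : IsProper (fX.fiber z ↘ Spec (CommRingCat.of ((Spec (CommRingCat.of A)).residueField z))) :=
        MorphismProperty.pullback_snd _ _ ‹IsProper fX›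
      exact (CurveRR.h_eq_of_iso (PicLoc.pullbackStructureIso _) 0).trans (CurveFam.h0_fiber fX z)
    refine ⟨?_, ?_⟩
    · show _ < 2
      rw [← CurveDual.betti_structure_bc hsq₁]
      exact h0.trans_lt one_lt_two
    · show _ = _
      have hb : ∀ i, PerfAux.betti f₁ (Coh.structureModule X₁) (Spec.map (CommRingCat.ofHom (algebraMap A₁ A)) z) i
          = PerfAux.betti fX (Coh.structureModule X) z i := fun i => (CurveDual.betti_structure_bc hsq₁ z i).symm
      have h := CurveDual.eulerChar_eq (X ↘ Spec (CommRingCat.of A)) z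
      simp only [PerfAux.eulerChar] at h ⊢
      simp only [hb]
      exact h.trans (congrArg (fun n : ℕ => (1 : ℤ) - n) (hgA z))
  obtain ⟨A₂, hle, hA₂, hr⟩ := CurveDual.exists_fg_into_open A₁ hA₁ hW himg
  let r : Spec (CommRingCat.of A₂) ⟶ Spec (CommRingCat.of A₁) :=
    Spec.map (CommRingCat.ofHom (Subalgebra.inclusion hle).toRingHom)
  let q : Spec (CommRingCat.of A) ⟶ Spec (CommRingCat.of A₂) := Spec.map (CommRingCat.ofHom (algebraMap A₂ A))
  have hqr : q ≫ r = Spec.map (CommRingCat.ofHom (algebraMap A₁ A)) := by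
    rw [← Spec.map_comp, ← CommRingCat.ofHom_comp]
    rfl
  let f₂ : pullback f₁ r ⟶ Spec (CommRingCat.of A₂) := pullback.snd f₁ r
  haveI : IsProper f₂ := MorphismProperty.pullback_snd _ _ ‹IsProper f₁›
  haveI : SmoothOfRelativeDimension 1 f₂ := MorphismProperty.pullback_snd _ _ ‹SmoothOfRelativeDimension 1 f₁›
  haveI : Surjective f₂ := MorphismProperty.pullback_snd _ _ ‹Surjective f₁›
  have hb₂ : ∀ t i, PerfAux.betti f₂ (Coh.structureModule (pullback f₁ r)) t i =
      PerfAux.betti f₁ (Coh.structureModule X₁) (r t) i :=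
    fun t i => CurveDual.betti_structure_bc (IsPullback.of_hasPullback f₁ r) t i
  haveI : GeometricallyConnected f₂ :=
    CurveDual.geometricallyConnected_of_betti f₂ fun t => (hb₂ t 0).trans_lt (hr t).1
  let v : X ⟶ pullback f₁ r := pullback.lift g₁ ((X ↘ Spec (CommRingCat.of A)) ≫ q)
    (by rw [Category.assoc, hqr, hsq₁.w])
  have sq₂ : IsPullback v fX f₂ q := by
    refine IsPullback.of_right (h₁₂ := pullback.fst f₁ r) (h₂₂ := r) ?_ (pullback.lift_snd _ _ _)
      (IsPullback.of_hasPullback f₁ r)
    rw [pullback.lift_fst, hqr]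
    exact hsq₁
  refine ⟨Spec (CommRingCat.of A₂), pullback f₁ r, f₂, S.isoSpec.hom ≫ q, v, inferInstance, ?_, ?_, ?_,
    inferInstance, SmoothOfRelativeDimension.smooth 1 f₂, inferInstance, CurveDual.dim_fiber_of_relDim f₂, fun t => ?_⟩
  · haveI : Algebra.FiniteType ℤ A₂ := A₂.fg_iff_finiteType.1 hA₂
    exact Algebra.FiniteType.equiv ‹Algebra.FiniteType ℤ A₂›
      (Scheme.ΓSpecIso (CommRingCat.of A₂)).commRingCatIsoToRingEquiv.symm.toIntAlgEquiv
  · have h1 : Function.Bijective (S.isoSpec.hom.appTop).hom :=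
      (ConcreteCategory.isIso_iff_bijective _).1 inferInstance
    have h2 : Function.Injective q.appTop.hom := by
      intro a b hab
      have hn := Scheme.ΓSpecIso_naturality (CommRingCat.ofHom (algebraMap A₂ A))
      have e : ∀ c, (Scheme.ΓSpecIso (CommRingCat.of A)).hom.hom (q.appTop.hom c) =
          algebraMap A₂ A ((Scheme.ΓSpecIso (CommRingCat.of A₂)).hom.hom c) :=
        fun c => ConcreteCategory.congr_hom hn c
      exact (ConcreteCategory.bijective_of_isIso (Scheme.ΓSpecIso (CommRingCat.of A₂)).hom).1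
        (Subtype.ext ((e a).symm.trans ((congrArg _ hab).trans (e b))))
    rw [Scheme.Hom.comp_appTop]
    exact h1.1.comp h2
  · exact sq₂.of_iso (Iso.refl _) (Iso.refl _) S.isoSpec.symm (Iso.refl _) (by simp) (by simp [fX]) (by simp) (by simp)
  · letI : (f₂.fiber t).Over (Spec (CommRingCat.of ((Spec (CommRingCat.of A₂)).residueField t))) :=
      ⟨f₂.fiberToSpecResidueField t⟩
    haveI : IsProper (f₂.fiber t ↘ Spec (CommRingCat.of ((Spec (CommRingCat.of A₂)).residueField t))) :=
      MorphismProperty.pullback_snd _ _ ‹IsProper f₂›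
    have h : PerfAux.eulerChar f₁ (Coh.structureModule X₁) (r t) = 1 - (g : ℤ) := (hr t).2
    have h' := CurveDual.eulerChar_eq f₂ t
    simp only [PerfAux.eulerChar] at h h'
    simp only [hb₂] at h'
    rw [h] at h'
    have h1 : PerfAux.betti f₁ (Coh.structureModule X₁) (r t) 1 = g := by omega
    exact ((CurveRR.h_eq_of_iso (PicLoc.pullbackStructureIso (f₂.fiberι t)) 1).symm.trans (hb₂ t 1)).trans h1

end Groth.Agent.S18898
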