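import Groth.Statements.S18899
import Mathlib.Algebra.Ring.Action.Basic
import Mathlib.RingTheory.Polynomial.Basic
import Mathlib.Algebra.Polynomial.GroupRingAction
import Mathlib.FieldTheory.RatFunc.Basic
import Mathlib.Algebra.Polynomial.Smeval

set_option autoImplicit false
universe u v w
open CAlg

namespace Groth.Agent.S18899

/-- Let A be a commutative ring on which a finite group G acts by ring automorphisms, with ring of
invariants A^G, and let K be a field. If two ring homomorphisms f₁, f₂ : A → K have the same
restriction to A^G, then f₂ = f₁ ∘ γ for some γ ∈ G. -/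
theorem result {A : Type u} [CommRing A] {G : Type v} [Group G] [Finite G]
    [MulSemiringAction G A] {K : Type w} [Field K] (f₁ f₂ : A →+* K)
    (h : ∀ a : A, (∀ g : G, g • a = a) → f₁ a = f₂ a) :
    ∃ γ : G, ∀ a : A, f₂ a = f₁ (γ • a) := by
  classical
  cases nonempty_fintype G
  -- one element of `A`
  have one : ∀ (B : Type u) [CommRing B] [MulSemiringAction G B] (L : Type w) [Field L] (g₁ g₂ : B →+* L),
      (∀ b : B, (∀ g : G, g • b = b) → g₁ b = g₂ b) → ∀ b : B, ∃ γ : G, g₂ b = g₁ (γ • b) := by
    intro B _ _ L _ g₁ g₂ hg b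
    let P : Polynomial B := ∏ γ : G, (Polynomial.X - Polynomial.C (γ • b))
    have hP : ∀ σ : G, σ • P = P := fun σ => by
      rw [Finset.smul_prod']
      simp only [smul_sub, Polynomial.smul_X, Polynomial.smul_C, smul_smul]
      exact Fintype.prod_equiv (Equiv.mulLeft σ) _ _ (fun γ => rfl)
    have hmap : P.map g₁ = P.map g₂ := Polynomial.ext fun i => by
      rw [Polynomial.coeff_map, Polynomial.coeff_map]
      exact hg _ fun σ => by rw [← Polynomial.coeff_smul, hP σ]
    have h2 : (P.map g₂).eval (g₂ b) = 0 := by
      rw [Polynomial.map_prod, Polynomial.eval_prod]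
      exact Finset.prod_eq_zero (Finset.mem_univ 1) (by simp)
    rw [← hmap, Polynomial.map_prod, Polynomial.eval_prod, Finset.prod_eq_zero_iff] at h2
    obtain ⟨γ, -, hγ⟩ := h2
    exact ⟨γ, sub_eq_zero.1 (by simpa using hγ)⟩
  by_contra! hne
  choose a ha using hne
  -- test on one polynomial with all the counterexamples as coefficients
  let e : G ≃ Fin (Fintype.card G) := Fintype.equivFin G
  let b : Polynomial A := ∑ γ : G, Polynomial.monomial (e γ : ℕ) (a γ)
  let φ : (A →+* K) → (Polynomial A →+* RatFunc K) := fun f =>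
    (algebraMap (Polynomial K) (RatFunc K)).comp (Polynomial.mapRingHom f)
  obtain ⟨γ, hγ⟩ := one (Polynomial A) (RatFunc K) (φ f₁) (φ f₂) (fun q hq => by
    show algebraMap (Polynomial K) (RatFunc K) (q.map f₁) = algebraMap (Polynomial K) (RatFunc K) (q.map f₂)
    congr 1
    ext i
    rw [Polynomial.coeff_map, Polynomial.coeff_map]
    exact h _ fun g => by rw [← Polynomial.coeff_smul, hq g]) b
  have h1 : b.map f₂ = (γ • b).map f₁ := RatFunc.algebraMap_injective K hγ
  have hb : b.coeff (e γ : ℕ) = a γ := by
    rw [Polynomial.finsetSum_coeff, Finset.sum_eq_single γ]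
    · exact Polynomial.coeff_monomial_same _ _
    · intro δ _ hδ
      exact Polynomial.coeff_monomial_of_ne _ (fun he => hδ (e.injective (Fin.ext he.symm)))
    · exact fun h => absurd (Finset.mem_univ _) h
  have := congrArg (fun q : Polynomial K => q.coeff (e γ : ℕ)) h1
  simp only [Polynomial.coeff_map, Polynomial.coeff_smul, hb] at this
  exact ha γ this

end Groth.Agent.S18899
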