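import Groth.Statements.S1890


set_option autoImplicit false
universe u
open CategoryTheory CategoryTheory.Limits AlgebraicGeometry
open Grpd

namespace Groth.Agent.S1890

/-- Take a quasi-compact immersion j : V → Spec A and an element f ∈ A such that j⁻¹(D(f)) is affine and
j(V) ∩ V(f) is closed in Spec A. Then V is affine. -/
theorem result (A : Type u) [CommRing A] (V : Scheme.{u}) (j : V ⟶ Spec (CommRingCat.of A)) [IsImmersion j] [QuasiCompact j] (f : A) (haff : IsAffineOpen (j ⁻¹ᵁ PrimeSpectrum.basicOpen f)) (hcl : IsClosed (Set.range ⇑j ∩ PrimeSpectrum.zeroLocus {f})) : IsAffine V := by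
  suffices IsAffineHom j from isAffine_of_isAffineHom j
  let Df : (Spec (CommRingCat.of A)).Opens := PrimeSpectrum.basicOpen f
  let W : V.Opens := j ⁻¹ᵁ Df
  haveI : IsAffine W.toScheme := haff
  apply isAffineHom_of_forall_exists_isAffineOpen
  intro p
  by_cases hp : p ∈ Set.range ⇑j
  · obtain ⟨U, Z, hU, hZ, e⟩ := j.isLocallyClosed_range
    obtain ⟨_, ⟨g, rfl⟩, hpg, hgU⟩ :=
      PrimeSpectrum.isTopologicalBasis_basic_opens.exists_subset_of_mem_open
        (e ▸ hp : p ∈ U ∩ Z).1 hU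
    let Dg : (Spec (CommRingCat.of A)).Opens := PrimeSpectrum.basicOpen g
    haveI : IsAffine Dg.toScheme := IsAffineOpen.Spec_basicOpen (R := CommRingCat.of A) g
    refine ⟨Dg, hpg, IsAffineOpen.Spec_basicOpen (R := CommRingCat.of A) g, ?_⟩
    have hr : IsClosed (Set.range ⇑(j ∣_ Dg)) := by
      have : Set.range ⇑(j ∣_ Dg) = ⇑Dg.ι ⁻¹' Z := by
        ext y
        constructor
        · rintro ⟨x, rfl⟩
          have h1 : Dg.ι ((j ∣_ Dg) x) = j ((j ⁻¹ᵁ Dg).ι x) :=
            congrArg (fun k : _ ⟶ Spec (CommRingCat.of A) => k x) (morphismRestrict_ι j Dg)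
          show Dg.ι ((j ∣_ Dg) x) ∈ Z
          rw [h1]
          exact (e ▸ Set.mem_range_self _ : j ((j ⁻¹ᵁ Dg).ι x) ∈ U ∩ Z).2
        · intro hy
          have : Dg.ι y ∈ Set.range ⇑j := e.symm ▸ ⟨hgU y.2, hy⟩
          obtain ⟨x, hx⟩ := this
          have hx' : x ∈ j ⁻¹ᵁ Dg := by
            show j x ∈ Dg
            rw [hx]; exact y.2
          let x₀ : ↥(j ⁻¹ᵁ Dg) := ⟨x, hx'⟩
          refine ⟨x₀, Dg.ι.isOpenEmbedding.injective ?_⟩
          exact (congrArg (fun k : _ ⟶ Spec (CommRingCat.of A) => k x₀)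
            (morphismRestrict_ι j Dg)).trans hx
      rw [this]
      exact hZ.preimage Dg.ι.continuous
    haveI : IsImmersion (j ∣_ Dg) := inferInstance
    haveI := isAffineHom_of_isInducing (j ∣_ Dg) (j ∣_ Dg).isEmbedding.isInducing hr
    exact isAffine_of_isAffineHom (j ∣_ Dg)
  · have hp' : p ∈ (Set.range ⇑j ∩ PrimeSpectrum.zeroLocus {f})ᶜ := fun h => hp h.1
    obtain ⟨_, ⟨g, rfl⟩, hpg, hgU⟩ :=
      PrimeSpectrum.isTopologicalBasis_basic_opens.exists_subset_of_mem_open hp' hcl.isOpen_compl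
    let Dg : (Spec (CommRingCat.of A)).Opens := PrimeSpectrum.basicOpen g
    refine ⟨Dg, hpg, IsAffineOpen.Spec_basicOpen (R := CommRingCat.of A) g, ?_⟩
    haveI : IsAffineHom (W.ι ≫ j) := inferInstance
    have h1 : IsAffineOpen ((W.ι ≫ j) ⁻¹ᵁ Dg) :=
      (IsAffineOpen.Spec_basicOpen (R := CommRingCat.of A) g).preimage (W.ι ≫ j)
    have h2 := h1.image_of_isOpenImmersion W.ι
    have he : W.ι ''ᵁ ((W.ι ≫ j) ⁻¹ᵁ Dg) = j ⁻¹ᵁ Dg := by
      rw [Scheme.Hom.comp_preimage, Scheme.Hom.image_preimage_eq_opensRange_inf, Scheme.Opens.opensRange_ι]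
      refine inf_eq_right.mpr fun x hx => ?_
      show j x ∈ PrimeSpectrum.basicOpen f
      by_contra hc
      refine hgU hx ⟨Set.mem_range_self x, ?_⟩
      exact (PrimeSpectrum.mem_zeroLocus (j x) {f}).mpr (Set.singleton_subset_iff.mpr
        (of_not_not fun h => hc ((PrimeSpectrum.mem_basicOpen f (j x)).mpr h)))
    exact he ▸ h2

end Groth.Agent.S1890
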