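import Groth.Statements.S18904
import Groth.Agent.CurveFam.Pluri
import Groth.Agent.SymAlg.FTLocal
import Groth.Agent.S14469
import Groth.Agent.Nagata.Bundles
import Groth.Agent.LocFree.Props

set_option autoImplicit false
universe u
open CategoryTheory CategoryTheory.Limits AlgebraicGeometry
open Curves

set_option backward.isDefEq.respectTransparency false
set_option backward.isDefEq.respectTransparency.types false

namespace Groth.Agent.S18904

/-- A smooth curve of genus g ≥ 2, i.e. a proper smooth morphism f : X → S whose fibres are
geometrically connected of dimension one and genus g, is a projective morphism: X is isomorphic over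
S to the homogeneous spectrum of a quasi-coherent graded O_S-algebra generated by its degree-one
part, the latter of finite type. -/
theorem result {X S : Scheme.{u}} (f : X ⟶ S)
    [IsProper f] [Smooth f] [GeometricallyConnected f]
    (hdim : ∀ s : S, topologicalKrullDim ↥(f.fiber s) = 1) (g : ℕ) (hg : 2 ≤ g)
    (hgen : ∀ s : S, letI : (f.fiber s).Over (Spec (S.residueField s)) := ⟨f.fiberToSpecResidueField s⟩
      Curv2.genus (S.residueField s) (f.fiber s) = g) :
    RelProj.IsProjective f := by
  haveI : HasInjectiveResolutions X.Modules := inferInstance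
  have hL := TMul.isInvertible_tensorPow (CurveFam.isInvertible_omega f hdim) 3
  have hlf : FlatMod.IsFinLocFree ((Scheme.Modules.pushforward f).obj (CohB1.tensorPow (Omega.sheaf f) 3)) :=
    Nagata.isFinLocFree_of_rank' (S14469.result f hdim g hg hgen 3 (by omega)).1
  refine SymAlg.isProjective_of_ftData f
    (SymAlg.ftData_of_local f hL (fun y => ?_) (LocFree.isFT_of_isFinLocFree hlf))
  obtain ⟨U, hyU, hU, hva⟩ := CurveFam.exists_nhd_pluri f hdim hg hgen (le_refl 3) y
  haveI : IsAffine U.toScheme := hU
  exact ⟨U, hyU, hU, SymAlg.isRelVeryAmple_of_pn_affine (f ∣_ U) (TMul.isInvertible_restrict _ hL) hva⟩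

end Groth.Agent.S18904
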