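import Groth.Statements.S18905
import Mathlib
-- import your own Groth.Agent.* helpers here

set_option autoImplicit false
universe u
open CategoryTheory CategoryTheory.Limits AlgebraicGeometry
open Mor


namespace Groth.Agent.S18905

open IsLocalRing in
/-- A finitely generated algebra over an algebraically closed field without nonzero tangent vectors at
rational points is formally unramified. -/
lemma formallyUnramified_of_points (k A : Type u) [Field k] [IsAlgClosed k] [CommRing A] [Algebra k A]
    [Algebra.FiniteType k A]
    (h : ∀ φ₁ φ₂ : A →ₐ[k] DualNumber k,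
      (∀ a, TrivSqZeroExt.fst (φ₁ a) = TrivSqZeroExt.fst (φ₂ a)) → φ₁ = φ₂) :
    Algebra.FormallyUnramified k A := by
  refine ⟨?_⟩
  have hmax : ∀ m : Ideal A, m.IsMaximal → m • (⊤ : Submodule A Ω[A⁄k]) = ⊤ := by
    intro m hm
    letI := Ideal.Quotient.field m
    haveI : Module.Finite k (A ⧸ m) := finite_of_finite_type_of_isJacobsonRing k (A ⧸ m)
    haveI : Algebra.IsIntegral k (A ⧸ m) := Algebra.IsIntegral.of_finite k _
    let e : k ≃ₐ[k] A ⧸ m :=
      AlgEquiv.ofBijective (Algebra.ofId k (A ⧸ m)) IsAlgClosed.algebraMap_bijective_of_isIntegral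
    let χ : A →ₐ[k] k := e.symm.toAlgHom.comp (Ideal.Quotient.mkₐ k m)
    letI : Module A k := Module.compHom k χ.toRingHom
    haveI : IsScalarTower k A k := IsScalarTower.of_algebraMap_smul fun r x => by
      show χ (algebraMap k A r) * x = r * x
      rw [χ.commutes, Algebra.algebraMap_self, RingHom.id_apply]
    have hd : ∀ D : Derivation k A k, D = 0 := by
      intro D
      let mk : ∀ (d : A → k), (∀ a b, d (a + b) = d a + d b) →
          (∀ a b, d (a * b) = χ a * d b + d a * χ b) → (∀ r, d (algebraMap k A r) = 0) →
          (A →ₐ[k] DualNumber k) := fun d hadd hmul halg =>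
        { toFun := fun a => TrivSqZeroExt.inl (χ a) + TrivSqZeroExt.inr (d a)
          map_one' := by
            apply TrivSqZeroExt.ext
            · simp
            · simpa using halg 1
          map_zero' := by
            apply TrivSqZeroExt.ext
            · simp
            · simpa using halg 0
          map_add' := fun a b => by
            apply TrivSqZeroExt.ext <;> simp [hadd]
          map_mul' := fun a b => by
            apply TrivSqZeroExt.ext
            · simp
            · simp [hmul, MulOpposite.smul_eq_mul_unop]
          commutes' := fun r => by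
            apply TrivSqZeroExt.ext
            · simp [TrivSqZeroExt.algebraMap_eq_inl]
            · simp [TrivSqZeroExt.algebraMap_eq_inl, halg] }
      have h0 := h (mk D (fun a b => map_add D a b)
          (fun a b => by
            rw [D.leibniz]
            show χ a * D b + χ b * D a = _
            ring)
          D.map_algebraMap)
        (mk (fun _ => 0) (by simp) (by simp) (by simp))
        (fun a => by simp [mk])
      ext a
      have := congrArg (fun φ : A →ₐ[k] DualNumber k => TrivSqZeroExt.snd (φ a)) h0
      simpa [mk] using this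
    by_contra hne
    let N := Ω[A⁄k] ⧸ (m • (⊤ : Submodule A Ω[A⁄k]))
    letI : Module (A ⧸ m) N := Module.IsTorsionBySet.module (Module.isTorsionBySet_quotient_ideal_smul _ m)
    haveI : Nontrivial N := Submodule.Quotient.nontrivial_iff.mpr hne
    obtain ⟨x, hx⟩ := exists_ne (0 : N)
    obtain ⟨ψ, hψ⟩ : ∃ ψ : N →ₗ[A ⧸ m] A ⧸ m, ψ x ≠ 0 := by
      by_contra h'
      push_neg at h'
      exact hx ((Module.forall_dual_apply_eq_zero_iff (A ⧸ m) x).mp h')
    let l : Ω[A⁄k] →ₗ[A] k :=
      { toFun := fun w => e.symm (ψ (Submodule.Quotient.mk w))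
        map_add' := fun a b => by rw [Submodule.Quotient.mk_add, map_add, map_add]
        map_smul' := fun a w => by
          show _ = χ a * e.symm (ψ (Submodule.Quotient.mk w))
          rw [Submodule.Quotient.mk_smul]
          have : ψ (a • (Submodule.Quotient.mk w : N)) =
              Ideal.Quotient.mk m a * ψ (Submodule.Quotient.mk w) := by
            rw [← smul_eq_mul, ← map_smul]
            rfl
          rw [this, map_mul]
          rfl }
    have hl : l = 0 := (KaehlerDifferential.linearMapEquivDerivation k A).injective
      ((hd _).trans (map_zero _).symm)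
    obtain ⟨w, rfl⟩ := Submodule.Quotient.mk_surjective _ x
    apply hψ
    apply e.symm.injective
    rw [map_zero]
    exact LinearMap.congr_fun hl w
  refine subsingleton_of_forall_eq 0 fun w => ?_
  by_contra hw
  have hne : Submodule.annihilator (⊤ : Submodule A Ω[A⁄k]) ≠ ⊤ := fun htop => hw (by
    have := Submodule.mem_annihilator.mp ((Ideal.eq_top_iff_one _).mp htop) w trivial
    simpa using this)
  obtain ⟨m, hm, hle⟩ := Ideal.exists_le_maximal _ hne
  obtain ⟨r, hr1, hr⟩ := Submodule.exists_sub_one_mem_and_smul_eq_zero_of_fg_of_le_smul m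
    (⊤ : Submodule A Ω[A⁄k]) Module.Finite.fg_top (hmax m hm).ge
  have hrm : r ∈ m := hle (Submodule.mem_annihilator.mpr hr)
  exact hm.ne_top ((Ideal.eq_top_iff_one m).mpr (by simpa using m.sub_mem hrm hr1))

end Groth.Agent.S18905

namespace Groth.Agent.S18905

/-- Let k be an algebraically closed field and X a scheme locally of finite type over k. Then X → Spec k
is formally unramified if and only if the map Hom_k(Spec k[ε], X) → Hom_k(Spec k, X) given by
restricting along the closed immersion of Spec k into Spec k[ε] (k[ε] the ring of dual numbers, ε ↦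
0), is bijective; since that map is always surjective, the condition is stated as injectivity: two
k-morphisms from Spec k[ε] to X which agree on Spec k are equal. -/
theorem result (k : Type u) [Field k] [IsAlgClosed k]
    {X : Scheme.{u}} (p : X ⟶ Spec (CommRingCat.of k)) [LocallyOfFiniteType p] :
    FormallyUnramified p ↔
      ∀ v₁ v₂ : Spec (CommRingCat.of (DualNumber k)) ⟶ X,
        v₁ ≫ p = Spec.map (CommRingCat.ofHom (algebraMap k (DualNumber k))) →
        v₂ ≫ p = Spec.map (CommRingCat.ofHom (algebraMap k (DualNumber k))) →
        Spec.map (CommRingCat.ofHom (TrivSqZeroExt.fstHom k k k).toRingHom) ≫ v₁ =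
          Spec.map (CommRingCat.ofHom (TrivSqZeroExt.fstHom k k k).toRingHom) ≫ v₂ →
        v₁ = v₂ := by
  let j := Spec.map (CommRingCat.ofHom (TrivSqZeroExt.fstHom k k k).toRingHom)
  have hj : Function.Surjective j := by
    intro P
    obtain ⟨Q, hQ⟩ : ∃ Q : PrimeSpectrum k, True := ⟨⟨⊥, Ideal.isPrime_bot⟩, trivial⟩
    refine ⟨Q, PrimeSpectrum.ext ?_⟩
    let f : DualNumber k →+* k := (TrivSqZeroExt.fstHom k k k).toRingHom
    show Q.asIdeal.comap f = P.asIdeal
    have hQ0 : Q.asIdeal = ⊥ := (Ideal.eq_bot_or_top _).resolve_right Q.isPrime.ne_top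
    rw [hQ0, ← RingHom.ker_eq_comap_bot]
    refine (RingHom.ker_isMaximal_of_surjective f (fun a => ⟨TrivSqZeroExt.inl a, rfl⟩)).eq_of_le
      P.isPrime.ne_top fun x hx => P.isPrime.mem_of_pow_mem 2 ?_
    have : x ^ 2 = 0 := by
      have hx' : TrivSqZeroExt.fst x = 0 := hx
      apply TrivSqZeroExt.ext <;> simp [sq, hx']
    rw [this]
    exact P.asIdeal.zero_mem
  constructor
  · intro hf v₁ v₂ h1 h2 h12
    let u := Limits.pullback.lift v₁ v₂ (h1.trans h2.symm)
    let Δ := Limits.pullback.diagonal p
    have hr : Set.range u ⊆ Set.range Δ := by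
      rintro _ ⟨P, rfl⟩
      obtain ⟨Q, rfl⟩ := hj P
      refine ⟨(j ≫ v₁) Q, ?_⟩
      have : j ≫ u = (j ≫ v₁) ≫ Δ := by
        apply Limits.pullback.hom_ext
        · simp only [u, Δ, Category.assoc, Limits.pullback.lift_fst, Limits.pullback.diagonal_fst]
          exact (Category.comp_id _).symm
        · simp only [u, Δ, Category.assoc, Limits.pullback.lift_snd, Limits.pullback.diagonal_snd,
            Category.comp_id]
          exact h12.symm
      exact (congrArg (fun g => g Q) this).symm
    have e := IsOpenImmersion.lift_fac Δ u hr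
    have e1 := congrArg (· ≫ Limits.pullback.fst p p) e
    have e2 := congrArg (· ≫ Limits.pullback.snd p p) e
    simp only [Category.assoc, u, Δ, Limits.pullback.diagonal_fst, Limits.pullback.diagonal_snd,
      Category.comp_id, Limits.pullback.lift_fst, Limits.pullback.lift_snd] at e1 e2
    exact e1.symm.trans e2
  · intro H
    suffices main : ∀ (R : CommRingCat.{u}) (c : Spec R ⟶ X) [IsOpenImmersion c],
        FormallyUnramified (c ≫ p) from
      HasRingHomProperty.of_source_openCover (P := (@FormallyUnramified : MorphismProperty Scheme.{u}))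
        X.affineCover fun i => (HasRingHomProperty.iff_of_isAffine
          (P := (@FormallyUnramified : MorphismProperty Scheme.{u}))).mp (@main _ (X.affineCover.f i) (X.affineCover.map_prop i))
    intro R c _
    obtain ⟨φ, hφ⟩ := Spec.map_surjective (c ≫ p)
    letI : Algebra k _ := φ.hom.toAlgebra
    haveI hft : LocallyOfFiniteType (c ≫ p) := inferInstance
    show FormallyUnramified (c ≫ p)
    refine (congrArg (fun g => FormallyUnramified g) hφ).mp ?_
    replace hft : LocallyOfFiniteType (Spec.map φ) := (congrArg (fun g => LocallyOfFiniteType g) hφ).mpr hft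
    rw [HasRingHomProperty.Spec_iff (P := @LocallyOfFiniteType)] at hft
    rw [HasRingHomProperty.Spec_iff (P := (@FormallyUnramified : MorphismProperty Scheme.{u}))]
    haveI : Algebra.FiniteType k _ := hft
    show Algebra.FormallyUnramified k _
    refine formallyUnramified_of_points k _ fun φ₁ φ₂ h12 => ?_
    have key := H (Spec.map (CommRingCat.ofHom φ₁.toRingHom) ≫ c)
      (Spec.map (CommRingCat.ofHom φ₂.toRingHom) ≫ c) ?_ ?_ ?_
    · rw [cancel_mono] at key
      exact AlgHom.coe_ringHom_injective (congrArg CommRingCat.Hom.hom (Spec.map_injective key))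
    · rw [Category.assoc, ← hφ, ← Spec.map_comp]
      exact congrArg Spec.map (CommRingCat.hom_ext φ₁.comp_algebraMap)
    · rw [Category.assoc, ← hφ, ← Spec.map_comp]
      exact congrArg Spec.map (CommRingCat.hom_ext φ₂.comp_algebraMap)
    · rw [← Category.assoc, ← Category.assoc, ← Spec.map_comp, ← Spec.map_comp]
      congr 2
      ext a
      exact h12 a

end Groth.Agent.S18905
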