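import Groth.Statements.S18906
import Groth.Agent.AutCurve.Main

set_option autoImplicit false
universe u
open CategoryTheory MonoidalCategory CartesianMonoidalCategory MonObj GrpObj AlgebraicGeometry
open Curves

namespace Groth.Agent.S18906

/-- Let S be a locally Noetherian scheme and X → S a smooth curve of genus g ≥ 2 (proper and smooth,
with geometrically connected fibres of dimension one and genus g) and let the S-group scheme G, with
its action a, be the automorphism group scheme Aut_S(X): every family of S-automorphisms of X
parametrised by an S-scheme T comes from exactly one T-point of G. Assume, as the source obtains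
from the theory of Hilbert schemes, that G → S is quasi-compact, separated and locally of finite
presentation. Then G → S is finite and formally unramified. (The published statement says that
Aut_S(X) is finite, of finite presentation and formally unramified, taking its representability by a
quasi-projective S-scheme and its finite presentation from the literature; here those are hypotheses
on G and the conclusion is finiteness and unramifiedness. The published statement also allows any
base; this row assumes S locally Noetherian, the case its valuative-criterion argument with discrete
valuation rings covers.) -/
theorem result {S : Scheme.{u}} [IsLocallyNoetherian S] (X : Over S)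
    [IsProper X.hom] [Smooth X.hom] [GeometricallyConnected X.hom]
    (hdim : ∀ s : S, topologicalKrullDim ↥(X.hom.fiber s) = 1) (g : ℕ) (hg : 2 ≤ g)
    (hgen : ∀ s : S, letI : (X.hom.fiber s).Over (Spec (S.residueField s)) := ⟨X.hom.fiberToSpecResidueField s⟩
      Curv2.genus (S.residueField s) (X.hom.fiber s) = g)
    (G : Over S) [GrpObj G] [QuasiCompact G.hom] [IsSeparated G.hom] [LocallyOfFinitePresentation G.hom]
    (a : AlgGrp.Action G X) (hG : AutSch.Represents X G a) :
    IsFinite G.hom ∧ FormallyUnramified G.hom := by
  have hgen2 : ∀ s : S, letI : (X.hom.fiber s).Over (Spec (S.residueField s)) := ⟨X.hom.fiberToSpecResidueField s⟩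
      2 ≤ Curv2.genus (S.residueField s) (X.hom.fiber s) := fun s => by rw [hgen s]; exact hg
  have hU := Groth.Agent.AutCurve.formallyUnramified a hdim hgen2 hG
  have hP : Groth.Agent.AbExt.NoP1 X.hom := Groth.Agent.AbExt.noP1_of_genus_pos X.hom hdim fun s => by
    rw [hgen s]; omega
  haveI := Groth.Agent.AutCurve.isProper a hP hG
  haveI := Groth.Agent.EtaleSections.locallyQuasiFinite_of_unramified G.hom
  exact ⟨IsFinite.of_isProper_of_locallyQuasiFinite G.hom, hU⟩

end Groth.Agent.S18906
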