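import Groth.Statements.S18908
import Mathlib.FieldTheory.SeparableDegree
import Mathlib.FieldTheory.IsAlgClosed.Basic
import Mathlib.LinearAlgebra.TensorProduct.Tower
import Mathlib.RingTheory.TensorProduct.Basic
import Mathlib.LinearAlgebra.Dual.Lemmas
import Mathlib.FieldTheory.PrimitiveElement
import Mathlib.LinearAlgebra.Dimension.Constructions

set_option autoImplicit false
universe u v w
open scoped TensorProduct
open CAlg

namespace Groth.Agent.S18908

/-- Let K ⊇ k be a finite field extension of degree n and Ω ⊇ k an algebraically closed extension. Then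
K is separable over k if and only if Ω ⊗_k K is isomorphic, as an Ω-algebra, to the product of n
copies of Ω. (The source says 'for every (some) algebraically closed extension Ω'; the equivalence
is stated for each fixed Ω, which gives both readings.) -/
theorem result (k : Type u) (K : Type v) (Ω : Type w)
    [Field k] [Field K] [Algebra k K] [FiniteDimensional k K]
    [Field Ω] [Algebra k Ω] [IsAlgClosed Ω] :
    Algebra.IsSeparable k K ↔ Nonempty ((Ω ⊗[k] K) ≃ₐ[Ω] (Fin (Module.finrank k K) → Ω)) := by
  classical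
  set n := Module.finrank k K with hn
  have hle : Fintype.card (K →ₐ[k] Ω) ≤ n := by rw [← Nat.card_eq_fintype_card]; exact card_algHom_le_finrank k K Ω
  constructor
  · intro hsep
    let ev : Ω ⊗[k] K →ₐ[Ω] ((K →ₐ[k] Ω) → Ω) :=
      Algebra.TensorProduct.lift (Algebra.ofId Ω _) (Pi.algHom k _ fun σ : K →ₐ[k] Ω => σ) fun _ _ => Commute.all _ _
    have hev : ∀ (σ : K →ₐ[k] Ω) (x : K), ev (1 ⊗ₜ x) σ = σ x := fun σ x => by simp [ev]
    have hsur : Function.Surjective ev := by
      rw [← AlgHom.coe_toLinearMap, ← LinearMap.range_eq_top]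
      by_contra hne
      obtain ⟨φ, hφ0, hφ⟩ := Submodule.exists_dual_map_eq_bot_of_lt_top (lt_top_iff_ne_top.2 hne) inferInstance
      have hli := linearIndependent_algHom_toLinearMap k K Ω
      rw [Fintype.linearIndependent_iff] at hli
      have h0 := hli (fun σ => φ (Pi.single σ 1)) (LinearMap.ext fun x => by
        have h1 : φ (ev (1 ⊗ₜ x)) = 0 := by
          have h2 : φ (ev (1 ⊗ₜ x)) ∈ Submodule.map φ (LinearMap.range ev.toLinearMap) := Submodule.mem_map_of_mem ⟨1 ⊗ₜ x, rfl⟩
          rwa [hφ, Submodule.mem_bot] at h2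
        have h3 : ev (1 ⊗ₜ x) = ∑ σ, σ x • Pi.single σ (1 : Ω) := by
          funext τ
          simp [hev, Finset.sum_apply, Pi.single_apply]
        rw [h3, map_sum] at h1
        simpa [mul_comm] using h1)
      refine hφ0 (LinearMap.pi_ext fun σ a => ?_)
      rw [show Pi.single σ a = a • Pi.single σ (1 : Ω) by rw [← Pi.single_smul', smul_eq_mul, mul_one], map_smul, h0, smul_zero, LinearMap.zero_apply]
    have hcard : Fintype.card (K →ₐ[k] Ω) = n := AlgHom.card k K Ω
    have hdim : Module.finrank Ω (Ω ⊗[k] K) = Module.finrank Ω ((K →ₐ[k] Ω) → Ω) := by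
      rw [Module.finrank_baseChange, Module.finrank_pi, hcard]
    have hbij : Function.Bijective ev := ⟨(LinearMap.injective_iff_surjective_of_finrank_eq_finrank (f := ev.toLinearMap) hdim).2 hsur, hsur⟩
    exact ⟨(AlgEquiv.ofBijective ev hbij).trans (AlgEquiv.piCongrLeft' Ω (fun _ : K →ₐ[k] Ω => Ω) (Fintype.equivFinOfCardEq hcard))⟩
  · rintro ⟨e⟩
    have hge : n ≤ Fintype.card (K →ₐ[k] Ω) := by
      let g : Fin n → (K →ₐ[k] Ω) := fun i => ((Pi.evalAlgHom Ω (fun _ : Fin n => Ω) i).comp e.toAlgHom).restrictScalars k |>.comp Algebra.TensorProduct.includeRight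
      refine (Fintype.card_fin n).ge.trans (Fintype.card_le_of_injective g fun i j hij => ?_)
      by_contra hne
      have h1 : (Pi.evalAlgHom Ω (fun _ : Fin n => Ω) i).comp e.toAlgHom = (Pi.evalAlgHom Ω (fun _ : Fin n => Ω) j).comp e.toAlgHom := by
        refine Algebra.TensorProduct.ext (by ext) ?_
        exact hij
      obtain ⟨y, hy⟩ := e.surjective (Pi.single i 1)
      have h2 := DFunLike.congr_fun h1 y
      simp [hy, Ne.symm hne] at h2
    have h2 : Field.finSepDegree k K = Module.finrank k K := by
      rw [Field.finSepDegree_eq_of_isAlgClosed k K Ω, Nat.card_eq_fintype_card]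
      exact le_antisymm hle hge
    exact (Field.finSepDegree_eq_finrank_iff k K).1 h2

end Groth.Agent.S18908
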