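import Groth.Statements.S18912
import Mathlib

set_option autoImplicit false
set_option backward.isDefEq.respectTransparency false
set_option backward.isDefEq.respectTransparency.types false
universe u
open CategoryTheory CategoryTheory.Limits AlgebraicGeometry
open TFNodal

namespace Groth.Agent.S18912

/-- Let k be an algebraically closed field of characteristic zero, X a reduced scheme locally of finite
type over k, F an O_X-module, d ≥ 1 an integer and τ, τ' : F → O_X two O_X-linear maps whose d-th
symmetric powers agree, in the sense that for every open U and all sections a_1, …, a_d of F over U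
the products τ(a_1)⋯τ(a_d) and τ'(a_1)⋯τ'(a_d) coincide in Γ(U, O_X). Then for every point η of X
whose local ring is a field (a generic point of an irreducible component) there is a d-th root of
unity ξ in k such that, for every section a of F over an open containing η, the germ of τ'(a) at η
is ξ times the germ of τ(a). The published statement is for a coherent module on a projective nodal
curve and concludes that τ' = ξ τ with one root of unity ξ on each connected component; that form
fails for the union of two lines meeting at a node, F the ideal of the node, τ the inclusion and τ'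
equal to τ on one line and to −τ on the other (d = 2), so the conclusion is stated here at each
generic point, i.e. per irreducible component, which is what the stalkwise argument yields. -/
theorem result
    (k : Type u) [Field k] [IsAlgClosed k] [CharZero k]
    (X : Scheme.{u}) [X.Over (Spec (CommRingCat.of k))]
    [LocallyOfFiniteType (X ↘ Spec (CommRingCat.of k))] [AlgebraicGeometry.IsReduced X]
    (F : X.Modules) (τ τ' : F ⟶ Coh.structureModule X) (d : ℕ) (hd : 1 ≤ d)
    (hS : ∀ (U : X.Opens) (a : Fin d → Γ(F, U)),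
      (∏ i, (τ.app U (a i) : Γ(X, U)) : Γ(X, U)) = (∏ i, (τ'.app U (a i) : Γ(X, U)) : Γ(X, U)))
    (η : X) (hη : IsField (X.presheaf.stalk η)) :
    ∃ ξ : k, ξ ^ d = 1 ∧ ∀ (U : X.Opens) (hU : η ∈ U) (a : Γ(F, U)),
      (X.presheaf.germ U η hU (τ'.app U a : Γ(X, U)) : X.presheaf.stalk η) =
        Curv2.stalkMap k X η ξ * X.presheaf.germ U η hU (τ.app U a : Γ(X, U)) := by
  letI : Field (X.presheaf.stalk η) := hη.toField
  have hmul : ∀ (U : X.Opens) (hU : η ∈ U) (V : X.Opens) (hV : η ∈ V) (a : Γ(F, U)) (b : Γ(F, V)),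
      (X.presheaf.germ U η hU).hom (τ.app U a) * (X.presheaf.germ V η hV).hom (τ.app V b) ^ (d - 1) =
      (X.presheaf.germ U η hU).hom (τ'.app U a) * (X.presheaf.germ V η hV).hom (τ'.app V b) ^ (d - 1) := by
    intro U hU V hV a b
    obtain ⟨e, rfl⟩ : ∃ e, d = e + 1 := ⟨d - 1, by omega⟩
    let iU : U ⊓ V ⟶ U := homOfLE inf_le_left
    let iV : U ⊓ V ⟶ V := homOfLE inf_le_right
    have hS' := congrArg (X.presheaf.germ (U ⊓ V) η ⟨hU, hV⟩).hom
      (hS (U ⊓ V) (Fin.cons (F.presheaf.map iU.op a) fun _ => F.presheaf.map iV.op b))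
    have hnat : ∀ (σ : F ⟶ Coh.structureModule X) (W : X.Opens) (i : U ⊓ V ⟶ W) (hW : η ∈ W) (c : Γ(F, W)),
        (X.presheaf.germ (U ⊓ V) η ⟨hU, hV⟩).hom (σ.app (U ⊓ V) (F.presheaf.map i.op c)) =
          (X.presheaf.germ W η hW).hom (σ.app W c) := by
      intro σ W i hW c
      rw [← TopCat.Presheaf.germ_res_apply X.presheaf i η ⟨hU, hV⟩]
      refine congrArg (X.presheaf.germ (U ⊓ V) η ⟨hU, hV⟩).hom ?_
      exact ConcreteCategory.congr_hom (σ.mapPresheaf.naturality i.op) c
    simp only [Fin.prod_univ_succ, Fin.cons_zero, Fin.cons_succ, Finset.prod_const, Finset.card_univ, Fintype.card_fin,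
      map_mul, map_pow] at hS'
    rw [hnat τ U iU hU a, hnat τ V iV hV b, hnat τ' U iU hU a, hnat τ' V iV hV b] at hS'
    simpa using hS'
  by_cases h0 : ∀ (U : X.Opens) (hU : η ∈ U) (a : Γ(F, U)), (X.presheaf.germ U η hU).hom (τ.app U a) = 0
  · refine ⟨1, one_pow d, fun U hU a => ?_⟩
    have h := hmul U hU U hU a a
    rw [h0, zero_mul, ← pow_succ', eq_comm, pow_eq_zero_iff (by omega)] at h
    exact h.trans (by rw [h0, mul_zero])
  push Not at h0
  obtain ⟨V, hV, b, hb⟩ := h0
  haveI : NeZero d := ⟨by omega⟩
  obtain ⟨ζ, hζ⟩ := IsAlgClosed.exists_root (Polynomial.cyclotomic d k) (by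
    rw [Polynomial.degree_cyclotomic]
    exact_mod_cast (Nat.totient_pos.2 (by omega : 0 < d)).ne')
  rw [Polynomial.isRoot_cyclotomic_iff] at hζ
  have hbb := hmul V hV V hV b b
  rw [← pow_succ', ← pow_succ', Nat.sub_add_cancel hd] at hbb
  generalize hs : (X.presheaf.germ V η hV).hom (τ.app V b) = s at hb hbb
  generalize hs' : (X.presheaf.germ V η hV).hom (τ'.app V b) = s' at hbb
  have hc : (s' / s) ^ d = 1 := by
    rw [div_pow, ← hbb, div_self (pow_ne_zero _ hb)]
  obtain ⟨i, -, hi⟩ := (hζ.map_of_injective (f := Curv2.stalkMap k X η) (RingHom.injective _)).eq_pow_of_pow_eq_one hc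
  refine ⟨ζ ^ i, by rw [← pow_mul, mul_comm, pow_mul, hζ.pow_eq_one, one_pow], fun U hU a => ?_⟩
  have hs0 : s' ≠ 0 := by
    rintro rfl
    rw [zero_div, zero_pow (by omega)] at hc
    exact zero_ne_one hc
  rw [map_pow, hi]
  have h := hmul U hU V hV a b
  rw [hs, hs'] at h
  refine mul_right_cancel₀ (pow_ne_zero (d - 1) hs0) (h.symm.trans ?_)
  generalize (X.presheaf.germ U η hU).hom (τ.app U a) = A
  have h2 : s' ^ (d - 1) * s' = s ^ (d - 1) * s := by
    rw [← pow_succ, ← pow_succ, Nat.sub_add_cancel hd]; exact hbb.symm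
  field_simp
  linear_combination -A * h2

end Groth.Agent.S18912
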