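import Groth.Statements.S18914
import Groth.Agent.TFGerm.Dense

set_option autoImplicit false
set_option backward.isDefEq.respectTransparency false
set_option backward.isDefEq.respectTransparency.types false
universe u
open CategoryTheory CategoryTheory.Limits AlgebraicGeometry
open TFNodal

namespace Groth.Agent.S18914

/-- Let k be an algebraically closed field of characteristic zero, X a reduced proper curve over k (a
proper k-scheme of dimension one), and E, F₁, F₂ coherent O_X-modules that are torsion free (every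
stalk is a torsion free module over the local ring: no nonzero element is killed by a
non-zero-divisor). Let q₁ : E → F₁ and q₂ : E → F₂ be epimorphisms, U a dense open subset of X and φ
: F₁|_U ≅ F₂|_U an isomorphism of the restricted quotients, q₁|_U ≫ φ = q₂|_U. Then there is an
isomorphism of quotients ψ : F₁ ≅ F₂, q₁ ≫ ψ = q₂, whose restriction to U is φ. -/
theorem result
    (k : Type u) [Field k] [IsAlgClosed k] [CharZero k]
    (X : Scheme.{u}) [X.Over (Spec (CommRingCat.of k))] [IsProper (X ↘ Spec (CommRingCat.of k))]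
    [AlgebraicGeometry.IsReduced X] (hdim : topologicalKrullDim X = 1)
    (E F₁ F₂ : X.Modules) (hE : Coh.IsCoh E) (hF₁ : Coh.IsCoh F₁) (hF₂ : Coh.IsCoh F₂)
    (htE : TorSh.IsTorsionFree E) (ht₁ : TorSh.IsTorsionFree F₁) (ht₂ : TorSh.IsTorsionFree F₂)
    (q₁ : E ⟶ F₁) (q₂ : E ⟶ F₂) [Epi q₁] [Epi q₂]
    (U : X.Opens) (hU : Dense (U : Set X))
    (φ : F₁.restrict U.ι ≅ F₂.restrict U.ι)
    (hφ : (Scheme.Modules.restrictFunctor U.ι).map q₁ ≫ φ.hom = (Scheme.Modules.restrictFunctor U.ι).map q₂) :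
    ∃ ψ : F₁ ≅ F₂, q₁ ≫ ψ.hom = q₂ ∧ (Scheme.Modules.restrictFunctor U.ι).map ψ.hom = φ.hom := by
  haveI := LocallyOfFiniteType.isLocallyNoetherian (X ↘ Spec (CommRingCat.of k))
  haveI := hF₁.1
  haveI := hF₂.1
  let R := Scheme.Modules.restrictFunctor U.ι
  have hk : ∀ (F F' : X.Modules) [F'.IsQuasicoherent] (_ : TorSh.IsTorsionFree F') (q : E ⟶ F) (q' : E ⟶ F')
      (θ : R.obj F ⟶ R.obj F'), R.map q ≫ θ = R.map q' → kernel.ι q ≫ q' = 0 := by
    intro F F' _ ht q q' θ hθ
    refine Groth.Agent.TFGerm.hom_eq_zero ht U hU _ ?_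
    rw [Functor.map_comp, ← hθ, ← Category.assoc, ← Functor.map_comp, kernel.condition, Functor.map_zero, zero_comp]
  have h12 := hk F₁ F₂ ht₂ q₁ q₂ φ.hom hφ
  have h21 := hk F₂ F₁ ht₁ q₂ q₁ φ.inv (by rw [← hφ, Category.assoc, φ.hom_inv_id, Category.comp_id])
  have hc₁ := Abelian.epiIsCokernelOfKernel _ (kernelIsKernel q₁)
  have hc₂ := Abelian.epiIsCokernelOfKernel _ (kernelIsKernel q₂)
  obtain ⟨f, hf⟩ := CokernelCofork.IsColimit.desc' hc₁ q₂ h12
  obtain ⟨g, hg⟩ := CokernelCofork.IsColimit.desc' hc₂ q₁ h21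
  replace hf : q₁ ≫ f = q₂ := hf
  replace hg : q₂ ≫ g = q₁ := hg
  refine ⟨⟨f, g, ?_, ?_⟩, hf, ?_⟩
  · rw [← cancel_epi q₁, ← Category.assoc, hf, hg, Category.comp_id]
  · rw [← cancel_epi q₂, ← Category.assoc, hg, hf, Category.comp_id]
  · rw [← cancel_epi (R.map q₁)]
    exact (R.map_comp q₁ f).symm.trans ((congrArg R.map hf).trans hφ.symm)

end Groth.Agent.S18914
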