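import Groth.Statements.S18916
import Groth.Agent.GenComp.Isolated
import Groth.Agent.RefStalk.Eval
import Groth.Agent.RefStalk.Refl

set_option autoImplicit false
set_option backward.isDefEq.respectTransparency false
set_option backward.isDefEq.respectTransparency.types false
universe u
open CategoryTheory CategoryTheory.Limits AlgebraicGeometry
open TFNodal

namespace Groth.Agent.S18916

/-- Let k be an algebraically closed field of characteristic zero, X a reduced proper curve over k (a
proper k-scheme of dimension one) without isolated points (no closed point is open, i.e. X is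
one-dimensional at every point) and F a coherent O_X-module. Then the dual 𝓗om(F, O_X) is torsion
free: no closed point of X is an associated point of it. -/
theorem result
    (k : Type u) [Field k] [IsAlgClosed k] [CharZero k]
    (X : Scheme.{u}) [X.Over (Spec (CommRingCat.of k))] [IsProper (X ↘ Spec (CommRingCat.of k))]
    [AlgebraicGeometry.IsReduced X] (hdim : topologicalKrullDim X = 1)
    (hpure : ∀ x : X, IsClosed ({x} : Set X) → ¬ IsOpen ({x} : Set X))
    (F : X.Modules) (hF : Coh.IsCoh F) (x : X) (hx : IsClosed ({x} : Set X)) :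
    ¬ Curv2.IsAssPoint (RefHull.dual F) x := by
  haveI := LocallyOfFiniteType.isLocallyNoetherian (X ↘ Spec (CommRingCat.of k))
  haveI : IsNoetherianRing (X.presheaf.stalk x) := inferInstance
  intro hass
  obtain ⟨hprime, θ, hθ⟩ := isAssociatedPrime_iff.1 hass
  -- a regular element in the maximal ideal
  have hex : ∃ t ∈ IsLocalRing.maximalIdeal (X.presheaf.stalk x), t ∈ nonZeroDivisors (X.presheaf.stalk x) := by
    by_contra hno
    push Not at hno
    have hfin := minimalPrimes.finite_of_isNoetherianRing (X.presheaf.stalk x)
    obtain ⟨P, hP, hle⟩ := (Ideal.subset_union_prime (s := hfin.toFinset) (f := fun P => P) ⊥ ⊥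
      (fun P hP _ _ => (hfin.mem_toFinset.1 hP).1.1) (I := IsLocalRing.maximalIdeal (X.presheaf.stalk x))).1
      (fun a ha => by
        have h1 := hno a ha
        by_contra hc
        refine h1 (mem_nonZeroDivisors_iff_right.2 fun b hb => ?_)
        have hnil : b ∈ nilradical (X.presheaf.stalk x) := by
          rw [nilradical, Ideal.zero_eq_bot, ← Ideal.sInf_minimalPrimes]
          refine Ideal.mem_sInf.2 fun {P} hP => (hP.1.1.mem_or_mem (?_ : b * a ∈ P)).resolve_right
            fun h => hc (Set.mem_biUnion (hfin.mem_toFinset.2 hP) h)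
          rw [hb]; exact P.zero_mem
        rwa [nilradical_eq_zero, Ideal.zero_eq_bot, Ideal.mem_bot] at hnil)
    replace hP := hfin.mem_toFinset.1 hP
    refine hpure x hx (Groth.Agent.GenComp.isOpen_singleton_of_isLocallyNoetherian hx fun x' hx' => ?_)
    obtain ⟨q, hq⟩ : x' ∈ Set.range (X.fromSpecStalk x) := by
      rw [Scheme.range_fromSpecStalk]; exact hx'
    haveI : q.asIdeal.IsPrime := q.isPrime
    have h1 : q.asIdeal ≤ IsLocalRing.maximalIdeal (X.presheaf.stalk x) := IsLocalRing.le_maximalIdeal q.isPrime.ne_top
    have hPm : P = IsLocalRing.maximalIdeal (X.presheaf.stalk x) :=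
      le_antisymm (IsLocalRing.le_maximalIdeal hP.1.1.ne_top) hle
    have hqm : q = IsLocalRing.closedPoint _ :=
      PrimeSpectrum.ext (le_antisymm h1 (hPm.symm.le.trans (hP.2 ⟨q.isPrime, bot_le⟩ (h1.trans hPm.symm.le))))
    rw [← hq, hqm, Scheme.fromSpecStalk_closedPoint]
  obtain ⟨t, htm, ht⟩ := hex
  obtain ⟨e, -⟩ := Groth.Agent.RefStalk.exists_structStalk (X := X) x
  -- the element with annihilator the maximal ideal
  have htθ : t • θ = 0 := by
    have := hθ ▸ htm
    simpa [Submodule.mem_colon_singleton] using this
  have hev : t • RefHull.evalStalk F (Coh.structureModule X) x θ = 0 := by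
    rw [← map_smul, htθ, map_zero]
  have hzero : RefHull.evalStalk F (Coh.structureModule X) x θ = 0 := by
    refine LinearMap.ext fun m => e.symm.injective ?_
    have h1 : t * e.symm (RefHull.evalStalk F (Coh.structureModule X) x θ m) = 0 := by
      rw [← smul_eq_mul, ← map_smul, ← LinearMap.smul_apply, hev, LinearMap.zero_apply, map_zero]
    rw [LinearMap.zero_apply, map_zero]
    exact (mul_left_mem_nonZeroDivisors_eq_zero_iff ht).1 h1
  have hθ0 : θ = 0 := Groth.Agent.RefStalk.evalStalk_injective hF.2 x (hzero.trans (map_zero _).symm)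
  exact hprime.ne_top (hθ.trans (by rw [hθ0]; ext; simp [Submodule.mem_colon_singleton]))

end Groth.Agent.S18916
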