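import Groth.Statements.S18921
import Groth.Agent.ClopenSplit.Glue
import Groth.Agent.K0Coh.Basic

set_option autoImplicit false
universe u
open CategoryTheory CategoryTheory.Limits AlgebraicGeometry
open VBCurve

namespace Groth.Agent.S18921

/-- Let k be an algebraically closed field of characteristic zero, Y a smooth proper k-scheme of
dimension one, possibly disconnected but with no isolated points (every connected component is a
curve), and L an ample invertible O_Y-module. Say (Y, L) has property P when for any two finite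
locally free O_Y-modules E, F with nowhere-zero stalks (support equal to Y) that are semistable of
dimension one with respect to L, the tensor product E ⊗ F is again semistable. If (Y, L) has
property P then for every connected component U of Y, with j : U → Y the inclusion, O_U =
j_*(O_Y|_U) and L_U = j_*(L|_U), the Euler characteristics over k satisfy χ(O_U) · (χ(L) − χ(O_Y)) =
χ(O_Y) · (χ(L_U) − χ(O_U)); in words, χ(O_U)/deg(L|_U) is the same for all components and equals
χ(O_Y)/deg L. -/
theorem result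
    (k : Type u) [Field k] [IsAlgClosed k] [CharZero k]
    (Y : Scheme.{u}) [Y.Over (Spec (CommRingCat.of k))] [IsProper (Y ↘ Spec (CommRingCat.of k))]
    [Smooth (Y ↘ Spec (CommRingCat.of k))] (hdim : topologicalKrullDim Y = 1)
    (hpure : ∀ y : Y, ¬ IsOpen ({y} : Set Y))
    (L : Y.Modules) (hL : CohB1.IsAmple L)
    (hP : ∀ E F : Y.Modules, FlatMod.IsFinLocFree E → FlatMod.IsFinLocFree F →
      (∀ y : Y, ¬ Subsingleton (E.presheaf.stalk y)) → (∀ y : Y, ¬ Subsingleton (F.presheaf.stalk y)) →
      ShStab.IsSemistable k Y L E 1 → ShStab.IsSemistable k Y L F 1 →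
      ShStab.IsSemistable k Y L (CohB1.tensorMod E F) 1)
    (U : Y.Opens) (hUc : IsClopen (U : Set Y)) (hUconn : _root_.IsConnected (U : Set Y)) :
    Curv2.euler k Y ((Scheme.Modules.pushforward U.ι).obj ((Coh.structureModule Y).restrict U.ι)) *
        (Curv2.euler k Y L - Curv2.euler k Y (Coh.structureModule Y)) =
      Curv2.euler k Y (Coh.structureModule Y) *
        (Curv2.euler k Y ((Scheme.Modules.pushforward U.ι).obj (L.restrict U.ι)) -
          Curv2.euler k Y ((Scheme.Modules.pushforward U.ι).obj ((Coh.structureModule Y).restrict U.ι))) := by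
  classical
  obtain ⟨n, Us, hcov, hdis, hcc⟩ := Groth.Agent.ClopenSplit.exists_components (k := k) (X := Y)
  haveI := Groth.Agent.CurveRR.isNoetherian_of_proper k Y
  obtain ⟨E, hE, hE0, hEs, hχE⟩ := Groth.Agent.ClopenSplit.exists_bundle k hdim hpure hL Us hcov hdis hcc
  have hTs := hP E E hE hE hE0 hE0 hEs hEs
  obtain ⟨x, hx⟩ := hUconn.nonempty
  obtain ⟨i₀, hi₀⟩ := hcov x
  obtain rfl : U = Us i₀ := TopologicalSpace.Opens.ext (Set.Subset.antisymm
    (hUconn.isPreconnected.subset_isClopen (hcc i₀).1 ⟨x, hx, hi₀⟩)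
    ((hcc i₀).2.isPreconnected.subset_isClopen hUc ⟨x, hi₀, hx⟩))
  have hEc := Groth.Agent.K0Coh.isCoh_of_isFinLocFree hE
  have hOc := Groth.Agent.K0Coh.isCoh_of_isFinLocFree (Groth.Agent.ResDesc.isFinLocFree_structureModule Y)
  have kE := (Groth.Agent.ClopenSplit.semistable_iff k hL hdim Us hcov hdis hEc hEs.2.1).1 hEs
  have kT := (Groth.Agent.ClopenSplit.semistable_iff k hL hdim Us hcov hdis hTs.1 hTs.2.1).1 hTs
  have aT := Groth.Agent.ClopenSplit.mult_pos hL hdim.le hTs
  choose r s ℓ hO hLO hEi hFi hTi hχ using fun i =>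
    Groth.Agent.ClopenSplit.part_formulas (k := k) (X := Y) hdim.le (Us i) (hcc i).1.1 (hcc i).2 hL.1 hE hE
  have hpos : ∀ i, (0 : ℚ) < r i * s i ∧ (0 : ℚ) < ℓ i := fun i => by
    obtain ⟨x, hx⟩ := (hcc i).2.nonempty
    have h1 := Groth.Agent.ClopenSplit.mult_pos hL hdim.le
      (kE i (Groth.Agent.ClopenSplit.not_isZero_part (Us i) hx (hE0 x))).1
    have h2 := h1
    rw [hEi, Int.cast_mul, Int.cast_natCast] at h1
    rw [hFi, Int.cast_mul, Int.cast_natCast] at h2
    have hr : (0 : ℚ) < r i := (pos_and_pos_or_neg_and_neg_of_mul_pos h1).elim (·.1)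
      fun h => absurd h.1 (Nat.cast_nonneg (r i)).not_gt
    have hl : (0 : ℚ) < ℓ i := (pos_iff_pos_of_mul_pos h1).1 hr
    exact ⟨mul_pos hr ((pos_iff_pos_of_mul_pos h2).2 hl), hl⟩
  set aT' := (Groth.Agent.ClopenSplit.mult k L (CohB1.tensorMod E E) : ℚ) with haT
  set T := (Curv2.euler k Y (CohB1.tensorMod E E) : ℚ) with hT
  let χO := fun i => (Curv2.euler k Y (Groth.Agent.ClopenSplit.part (Us i) (Coh.structureModule Y)) : ℚ)
  have key : ∀ i, -χO i * aT' = T * ℓ i := by
    intro i
    have hne : ¬ IsZero (Groth.Agent.ClopenSplit.part (Us i) (CohB1.tensorMod E E)) := by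
      intro hz
      have h0 : Groth.Agent.StabLib.Sh.hp k L (Groth.Agent.ClopenSplit.part (Us i) (CohB1.tensorMod E E)) = 0 :=
        (Groth.Agent.StabLib.Sh.inv k hL).hp_zero hz (by
          obtain ⟨e, he, -, -⟩ := Groth.Agent.ClopenSplit.exists_split Us hcov hdis (CohB1.tensorMod E E)
          exact Groth.Agent.ClopenSplit.isCoh_part _ hTs.1 (he i))
      obtain ⟨e, he, -, -⟩ := Groth.Agent.ClopenSplit.exists_split Us hcov hdis (CohB1.tensorMod E E)
      rw [Groth.Agent.ClopenSplit.hp_eq hL hdim.le (Groth.Agent.ClopenSplit.isCoh_part _ hTs.1 (he i))] at h0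
      have h1 := congrArg (fun P => P.coeff 1) h0
      simp only [Groth.Agent.ClopenSplit.coeff_one_lin, Polynomial.coeff_zero, hTi, Int.cast_mul, Int.cast_natCast] at h1
      exact (mul_pos (hpos i).1 (hpos i).2).ne' h1
    have h := congrArg (fun z : ℤ => (z : ℚ)) (kT i hne).2
    simp only [hTi, hχ, hχE, Int.cast_mul, Int.cast_natCast, mul_zero, add_zero, zero_sub, Int.cast_neg] at h
    exact mul_left_cancel₀ (hpos i).1.ne' (by linear_combination h)
  have hsum := Groth.Agent.ClopenSplit.sums (k := k) hL hdim.le Us hcov hdis hOc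
  have eL : Curv2.euler k Y (CohB1.tensorMod (Coh.structureModule Y) L) = Curv2.euler k Y L :=
    Groth.Agent.CurveRR.euler_eq_of_iso (TMul.leftUnitIso L)
  have tot : -(Curv2.euler k Y (Coh.structureModule Y) : ℚ) * aT' =
      T * (Groth.Agent.ClopenSplit.mult k L (Coh.structureModule Y) : ℚ) := by
    rw [hsum.1, hsum.2, ← Finset.sum_neg_distrib, Finset.sum_mul, Finset.mul_sum]
    exact Finset.sum_congr rfl fun i _ => by rw [hO]; exact key i
  rw [Groth.Agent.ClopenSplit.mult, eL] at tot
  have k0 := key i₀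
  have goalQ : χO i₀ * ((Curv2.euler k Y L - Curv2.euler k Y (Coh.structureModule Y) : ℤ) : ℚ) =
      (Curv2.euler k Y (Coh.structureModule Y) : ℚ) * ℓ i₀ := mul_left_cancel₀ aT.ne' (by
    linear_combination (ℓ i₀ : ℚ) * tot - ((Curv2.euler k Y L - Curv2.euler k Y (Coh.structureModule Y) : ℤ) : ℚ) * k0)
  change _ = _ * _
  rw [hLO i₀]
  simp only [χO] at goalQ
  exact_mod_cast goalQ

end Groth.Agent.S18921
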