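import Groth.Statements.S18923
import Groth.Agent.ClopenSplit.Rank
import Groth.Agent.K0Coh.Basic

set_option autoImplicit false
universe u
open CategoryTheory CategoryTheory.Limits AlgebraicGeometry
open VBCurve

namespace Groth.Agent.S18923

/-- Let k be an algebraically closed field of characteristic zero, Y a smooth proper k-scheme of
dimension one, possibly disconnected but with no isolated points, and L an ample invertible
O_Y-module such that for every connected component U of Y, with j : U → Y, O_U = j_*(O_Y|_U) and L_U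
= j_*(L|_U), one has χ(O_U) · (χ(L) − χ(O_Y)) = χ(O_Y) · (χ(L_U) − χ(O_U)) (all correction terms of
the components vanish). Let E and F be finite locally free O_Y-modules with nowhere-zero stalks,
both semistable of dimension one with respect to L, and write α(M) = χ(M ⊗ L) − χ(M). Then χ(E ⊗
F)/α(E ⊗ F) = χ(E)/α(E) + χ(F)/α(F) − χ(O_Y)/(χ(L) − χ(O_Y)) as rational numbers; equivalently the
slope of E ⊗ F is the sum of the slopes of E and F. The published statement speaks of any two
semistable locally free sheaves; this row takes E and F with nowhere-zero stalks (support all of Y),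
without which E ⊗ F can be zero and the slopes undefined. -/
theorem result
    (k : Type u) [Field k] [IsAlgClosed k] [CharZero k]
    (Y : Scheme.{u}) [Y.Over (Spec (CommRingCat.of k))] [IsProper (Y ↘ Spec (CommRingCat.of k))]
    [Smooth (Y ↘ Spec (CommRingCat.of k))] (hdim : topologicalKrullDim Y = 1)
    (hpure : ∀ y : Y, ¬ IsOpen ({y} : Set Y))
    (L : Y.Modules) (hL : CohB1.IsAmple L)
    (hB : ∀ U : Y.Opens, IsClopen (U : Set Y) → _root_.IsConnected (U : Set Y) →
      Curv2.euler k Y ((Scheme.Modules.pushforward U.ι).obj ((Coh.structureModule Y).restrict U.ι)) * (Curv2.euler k Y L - Curv2.euler k Y (Coh.structureModule Y)) =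
        Curv2.euler k Y (Coh.structureModule Y) * (Curv2.euler k Y ((Scheme.Modules.pushforward U.ι).obj (L.restrict U.ι)) - Curv2.euler k Y ((Scheme.Modules.pushforward U.ι).obj ((Coh.structureModule Y).restrict U.ι))))
    (E F : Y.Modules) (hE : FlatMod.IsFinLocFree E) (hF : FlatMod.IsFinLocFree F)
    (hE0 : ∀ y : Y, ¬ Subsingleton (E.presheaf.stalk y)) (hF0 : ∀ y : Y, ¬ Subsingleton (F.presheaf.stalk y))
    (hEs : ShStab.IsSemistable k Y L E 1) (hFs : ShStab.IsSemistable k Y L F 1) :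
    ((Curv2.euler k Y (CohB1.tensorMod E F) : ℚ) /
        ((Curv2.euler k Y (CohB1.tensorMod (CohB1.tensorMod E F) L) - Curv2.euler k Y (CohB1.tensorMod E F) : ℤ) : ℚ)) =
      (Curv2.euler k Y E : ℚ) / ((Curv2.euler k Y (CohB1.tensorMod E L) - Curv2.euler k Y E : ℤ) : ℚ) +
        (Curv2.euler k Y F : ℚ) / ((Curv2.euler k Y (CohB1.tensorMod F L) - Curv2.euler k Y F : ℤ) : ℚ) -
        (Curv2.euler k Y (Coh.structureModule Y) : ℚ) /
          ((Curv2.euler k Y L - Curv2.euler k Y (Coh.structureModule Y) : ℤ) : ℚ) := by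
  classical
  obtain ⟨n, Us, hcov, hdis, hcc⟩ := Groth.Agent.ClopenSplit.exists_components (k := k) (X := Y)
  haveI := Groth.Agent.CurveRR.isNoetherian_of_proper k Y
  obtain ⟨y₀, -⟩ := Groth.Agent.StabLib.Sh.support_nonempty hEs.2.1
  obtain ⟨i₀, hi₀⟩ := hcov y₀
  have hEc := Groth.Agent.K0Coh.isCoh_of_isFinLocFree hE
  have hFc := Groth.Agent.K0Coh.isCoh_of_isFinLocFree hF
  have hTc : Coh.IsCoh (CohB1.tensorMod E F) := Groth.Agent.K0Coh.isCoh_of_isFinLocFree (Groth.Agent.DerPerf.isFinLocFree_tensor hE hF)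
  have hOc := Groth.Agent.K0Coh.isCoh_of_isFinLocFree (Groth.Agent.ResDesc.isFinLocFree_structureModule Y)
  have kE := (Groth.Agent.ClopenSplit.semistable_iff k hL hdim Us hcov hdis hEc hEs.2.1).1 hEs
  have kF := (Groth.Agent.ClopenSplit.semistable_iff k hL hdim Us hcov hdis hFc hFs.2.1).1 hFs
  have aE : (0 : ℚ) < _ := Groth.Agent.ClopenSplit.mult_pos hL hdim.le hEs
  have aF : (0 : ℚ) < _ := Groth.Agent.ClopenSplit.mult_pos hL hdim.le hFs
  choose r s ℓ hO hLO hEi hFi hTi hχ using fun i =>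
    Groth.Agent.ClopenSplit.part_formulas (k := k) (X := Y) hdim.le (Us i) (hcc i).1.1 (hcc i).2 hL.1 hE hF
  have hpos : ∀ i, (0 : ℚ) < r i ∧ (0 : ℚ) < s i ∧ (0 : ℚ) < ℓ i := fun i => by
    obtain ⟨x, hx⟩ := (hcc i).2.nonempty
    have h1 := Groth.Agent.ClopenSplit.mult_pos hL hdim.le
      (kE i (Groth.Agent.ClopenSplit.not_isZero_part (Us i) hx (hE0 x))).1
    have h2 := Groth.Agent.ClopenSplit.mult_pos hL hdim.le
      (kF i (Groth.Agent.ClopenSplit.not_isZero_part (Us i) hx (hF0 x))).1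
    rw [hEi, Int.cast_mul, Int.cast_natCast] at h1
    rw [hFi, Int.cast_mul, Int.cast_natCast] at h2
    have hr : (0 : ℚ) < r i := (pos_and_pos_or_neg_and_neg_of_mul_pos h1).elim (·.1)
      fun h => absurd h.1 (Nat.cast_nonneg (r i)).not_gt
    have hl : (0 : ℚ) < ℓ i := (pos_iff_pos_of_mul_pos h1).1 hr
    exact ⟨hr, (pos_iff_pos_of_mul_pos h2).2 hl, hl⟩
  have eL : Curv2.euler k Y (CohB1.tensorMod (Coh.structureModule Y) L) = Curv2.euler k Y L :=
    Groth.Agent.CurveRR.euler_eq_of_iso (TMul.leftUnitIso L)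
  have aO : (Groth.Agent.ClopenSplit.mult k L (Coh.structureModule Y) : ℚ) = ∑ i, (ℓ i : ℚ) := by
    rw [(Groth.Agent.ClopenSplit.sums hL hdim.le Us hcov hdis hOc).1]
    exact Finset.sum_congr rfl fun i _ => by rw [hO]
  have aOpos : (0 : ℚ) < Groth.Agent.ClopenSplit.mult k L (Coh.structureModule Y) := by
    rw [aO]
    exact Finset.sum_pos (fun i _ => (hpos i).2.2) ⟨i₀, Finset.mem_univ _⟩
  have aT : (Groth.Agent.ClopenSplit.mult k L (CohB1.tensorMod E F) : ℚ) = ∑ i, (r i : ℚ) * s i * ℓ i := by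
    rw [(Groth.Agent.ClopenSplit.sums hL hdim.le Us hcov hdis hTc).1]
    exact Finset.sum_congr rfl fun i _ => by rw [hTi]; push_cast; ring
  have aTpos : (0 : ℚ) < Groth.Agent.ClopenSplit.mult k L (CohB1.tensorMod E F) := by
    rw [aT]
    exact Finset.sum_pos (fun i _ => mul_pos (mul_pos (hpos i).1 (hpos i).2.1) (hpos i).2.2) ⟨i₀, Finset.mem_univ _⟩
  have eOdef : ((Curv2.euler k Y L - Curv2.euler k Y (Coh.structureModule Y) : ℤ) : ℚ) =
      Groth.Agent.ClopenSplit.mult k L (Coh.structureModule Y) := by rw [Groth.Agent.ClopenSplit.mult, eL]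
  rw [eOdef]
  change (_ : ℚ) / (Groth.Agent.ClopenSplit.mult k L (CohB1.tensorMod E F) : ℚ) =
    _ / (Groth.Agent.ClopenSplit.mult k L E : ℚ) + _ / (Groth.Agent.ClopenSplit.mult k L F : ℚ) - _
  set μE := (Curv2.euler k Y E : ℚ) / Groth.Agent.ClopenSplit.mult k L E with hμE
  set μF := (Curv2.euler k Y F : ℚ) / Groth.Agent.ClopenSplit.mult k L F with hμF
  set c := (Curv2.euler k Y (Coh.structureModule Y) : ℚ) / Groth.Agent.ClopenSplit.mult k L (Coh.structureModule Y) with hc
  rw [div_eq_iff aTpos.ne', aT, Finset.mul_sum, (Groth.Agent.ClopenSplit.sums hL hdim.le Us hcov hdis hTc).2]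
  refine Finset.sum_congr rfl fun i _ => ?_
  obtain ⟨x, hx⟩ := (hcc i).2.nonempty
  have e1 : (Curv2.euler k Y (Groth.Agent.ClopenSplit.part (Us i) E) : ℚ) = μE * (r i * ℓ i) := by
    have h := congrArg (fun z : ℤ => (z : ℚ)) (kE i (Groth.Agent.ClopenSplit.not_isZero_part (Us i) hx (hE0 x))).2
    simp only [hEi, Int.cast_mul, Int.cast_natCast] at h
    rw [hμE, div_mul_eq_mul_div, eq_div_iff aE.ne', h]
  have e2 : (Curv2.euler k Y (Groth.Agent.ClopenSplit.part (Us i) F) : ℚ) = μF * (s i * ℓ i) := by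
    have h := congrArg (fun z : ℤ => (z : ℚ)) (kF i (Groth.Agent.ClopenSplit.not_isZero_part (Us i) hx (hF0 x))).2
    simp only [hFi, Int.cast_mul, Int.cast_natCast] at h
    rw [hμF, div_mul_eq_mul_div, eq_div_iff aF.ne', h]
  have e3 : (Curv2.euler k Y (Groth.Agent.ClopenSplit.part (Us i) (Coh.structureModule Y)) : ℚ) = c * ℓ i := by
    have h := congrArg (fun z : ℤ => (z : ℚ)) (hB (Us i) (hcc i).1 (hcc i).2)
    simp only [hLO, Int.cast_mul] at h
    rw [eOdef] at h
    rw [hc, div_mul_eq_mul_div, eq_div_iff aOpos.ne', h]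
  rw [hχ]
  push_cast
  rw [e1, e2, e3]
  ring

end Groth.Agent.S18923
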