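import Groth.Statements.S18925
import Mathlib
import Groth.Agent.ResCount.Basic

set_option autoImplicit false
universe u
open ResHyp

namespace Groth.Agent.S18925

/-- Let F be a finite field with q elements and let n ≥ 2. Count the pairs (f, g) where f is a binary
quadratic form and g a binary form of degree n over F, recorded by their coefficient vectors of
lengths 3 and n + 1 (leading coefficients may vanish), whose resultant — the Sylvester determinant
of the two coefficient vectors with size parameters 2 and n — is nonzero, i.e. f and g have no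
common zero on the projective line. The number of such pairs is q ^ (n + 4) - q ^ (n + 3) - q ^ (n +
2) + q ^ (n + 1). (The source's result is the compactly supported ℓ-adic cohomology of this locus:
one-dimensional of Tate weights n + 4, n + 3, n + 2, n + 1 in degrees 2n + 8, 2n + 7, 2n + 5, 2n + 4
and zero elsewhere; this row keeps only the resulting point count.) -/
theorem result (F : Type u) [Field F] [Fintype F] (n : ℕ) (h2 : 2 ≤ n) :
    Nat.card {p : (Fin 3 → F) × (Fin (n + 1) → F) //
      Polynomial.resultant (∑ i : Fin 3, Polynomial.C (p.1 i) * Polynomial.X ^ (i : ℕ))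
        (∑ j : Fin (n + 1), Polynomial.C (p.2 j) * Polynomial.X ^ (j : ℕ)) 2 n ≠ 0} =
      Fintype.card F ^ (n + 4) - Fintype.card F ^ (n + 3) - Fintype.card F ^ (n + 2) + Fintype.card F ^ (n + 1) := by
  classical
  have h := ResCount.count (F := F) n h2 (fun x => x ≠ 0) (fun h => h rfl)
    (fun u hu => ⟨1, one_ne_zero, fun x => by simp [pow_ne_zero _ hu]⟩)
  have hc : Nat.card {x : F // x ≠ 0} = Fintype.card F - 1 := by
    rw [Nat.card_eq_fintype_card, Fintype.card_subtype_compl, Fintype.card_subtype_eq]
  rw [hc, Nat.card_eq_fintype_card (α := F)] at h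
  refine h.trans ?_
  have hq : 1 < Fintype.card F := Fintype.one_lt_card
  set q := Fintype.card F
  obtain ⟨k, rfl⟩ : ∃ k, n = k + 1 := ⟨n - 1, by omega⟩
  rw [Nat.add_sub_cancel]
  have h1 : q ^ (k + 1 + 3) + q ^ (k + 1 + 2) ≤ q ^ (k + 1 + 4) := by
    have : q ^ (k + 1 + 2) * (q + 1) ≤ q ^ (k + 1 + 2) * q ^ 2 := Nat.mul_le_mul_left _ (by nlinarith)
    calc q ^ (k + 1 + 3) + q ^ (k + 1 + 2) = q ^ (k + 1 + 2) * (q + 1) := by ring
      _ ≤ q ^ (k + 1 + 2) * q ^ 2 := this
      _ = q ^ (k + 1 + 4) := by ring
  have h2' : q ^ (k + 1 + 3) ≤ q ^ (k + 1 + 4) := le_trans (Nat.le_add_right _ _) h1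
  have h3 : q ^ (k + 1 + 2) ≤ q ^ (k + 1 + 4) - q ^ (k + 1 + 3) := by omega
  have h4 : 1 ≤ q ^ 2 := Nat.one_le_pow _ _ (by omega)
  zify [h2', h3, h4, hq.le]
  ring

end Groth.Agent.S18925
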