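import Groth.Statements.S18926
import Groth.Agent.CurveRR.Series
import Groth.Agent.SteinGen.GeomConn
import Groth.Agent.W7See.Fibre

set_option backward.isDefEq.respectTransparency false
set_option maxHeartbeats 800000
set_option synthInstance.maxHeartbeats 400000

set_option autoImplicit false
set_option linter.style.haveILetI false
universe u
open FinCov

namespace Groth.Agent.S18926

open CategoryTheory CategoryTheory.Limits AlgebraicGeometry

/-- A surjection onto a reduced scheme is injective on sections. -/
theorem app_inj {X Y : Scheme.{u}} (ρ : X ⟶ Y) [Surjective ρ] [IsReduced Y] (V : Y.Opens) :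
    Function.Injective (ρ.app V) := by
  refine (injective_iff_map_eq_zero (ρ.app V).hom).mpr fun a (ha : ρ.app V a = 0) => ?_
  rw [← basicOpen_eq_bot_iff]
  refine le_bot_iff.mp fun x hx => ?_
  obtain ⟨y, rfl⟩ := ρ.surjective x
  have : y ∈ ρ ⁻¹ᵁ Y.basicOpen a := hx
  rw [Scheme.preimage_basicOpen, ha, Scheme.basicOpen_zero] at this
  exact this

open CategoryTheory CategoryTheory.Limits AlgebraicGeometry in
/-- Let k be a field, Y a proper, geometrically connected and geometrically reduced scheme over k, and ρ
: X ⟶ Y a finite, flat and surjective morphism. If the zeroth cohomology group of the cokernel of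
the O_Y-module map O_Y ⟶ ρ_* O_X has at most one element, then X is geometrically connected over k.
(The published statement assumes Y projective and takes for X one of the finite locally free
Gorenstein covers of degree 3, 4 or 5 that it constructs, with the cokernel identified with a dual
vector bundle; this row assumes only that ρ is finite, flat and surjective and that Y is proper.) -/
theorem result
    (k : Type u) [Field k] (X Y : Scheme.{u}) (g : Y ⟶ Spec (CommRingCat.of k)) (ρ : X ⟶ Y)
    [IsProper g] [GeometricallyConnected g] [GeometricallyReduced g]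
    [IsFinite ρ] [Flat ρ] [Surjective ρ]
    (h0 : Subsingleton (Coh.HH Y (cokernel (ClSub.unitToPush ρ)) 0)) :
    GeometricallyConnected (ρ ≫ g) := by
  letI : Y.Over (Spec (CommRingCat.of k)) := ⟨g⟩
  haveI : IsProper (Y ↘ Spec (CommRingCat.of k)) := inferInstanceAs (IsProper g)
  haveI : IsReduced Y := GeometricallyReduced.isReduced_of_flat_of_isLocallyNoetherian g
  haveI : Mono (ClSub.unitToPush ρ) := Preadditive.mono_of_cancel_zero _ fun {Z} a ha =>
    Scheme.Modules.hom_ext _ _ fun V => by
      ext s
      exact app_inj ρ V (Eq.trans (congrArg (fun ψ : Z ⟶ _ => ψ.app V s) ha) (map_zero (ρ.app V).hom).symm)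
  let S : ShortComplex Y.Modules :=
    ShortComplex.mk (ClSub.unitToPush ρ) (cokernel.π _) (cokernel.condition _)
  have hS : S.ShortExact :=
    { exact := ShortComplex.exact_of_g_is_cokernel _ (cokernelIsCokernel _)
      mono_f := inferInstanceAs (Mono (ClSub.unitToPush ρ))
      epi_g := inferInstanceAs (Epi (cokernel.π _)) }
  have hsur : Function.Surjective (ρ.app ⊤) := by
    refine (CurveRR.surjective_hh0_iff (k := k) S.f).1 fun y => ?_
    haveI := h0
    have hy : y ∈ LinearMap.ker (CohFinite.hhMap k S.g 0) :=
      LinearMap.mem_ker.2 (@Subsingleton.elim _ h0 _ _)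
    rw [← CurveRR.range_f_eq_ker_g hS 0] at hy
    exact hy
  haveI : IsProper (ρ ≫ g) := inferInstance
  have hg : Function.Bijective g.appTop := by
    have h := W7See.bijective_global_field g
    exact (Function.Bijective.of_comp_iff _
      ((Scheme.ΓSpecIso (CommRingCat.of k)).commRingCatIsoToRingEquiv.symm.bijective)).1 h
  have htop : IsIso ((ρ ≫ g).app ⊤) := by
    rw [ConcreteCategory.isIso_iff_bijective, Scheme.Hom.comp_app]
    show Function.Bijective ((ρ.app ⊤).hom ∘ g.appTop.hom)
    exact (Function.Bijective.comp (g := (ρ.app ⊤).hom) ⟨app_inj ρ ⊤, hsur⟩ hg)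
  refine SteinGen.geometricallyConnected_of_isIso_app (ρ ≫ g) fun U => ?_
  haveI : Subsingleton (Spec (CommRingCat.of k)) := inferInstanceAs (Subsingleton (PrimeSpectrum k))
  rcases eq_or_ne U ⊥ with rfl | hU
  · have h1 : (ρ ≫ g) ⁻¹ᵁ (⊥ : (Spec (CommRingCat.of k)).Opens) = ⊥ := by ext; simp
    haveI : Subsingleton Γ(X, (ρ ≫ g) ⁻¹ᵁ ⊥) := h1 ▸ inferInstance
    rw [ConcreteCategory.isIso_iff_bijective]
    exact ⟨fun a b _ => Subsingleton.elim _ _, fun b => ⟨0, Subsingleton.elim _ _⟩⟩
  · have : U = ⊤ := by
      ext x
      simp only [TopologicalSpace.Opens.coe_top, Set.mem_univ, iff_true]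
      obtain ⟨y, hy⟩ := (TopologicalSpace.Opens.ne_bot_iff_nonempty U).1 hU
      exact Subsingleton.elim y x ▸ hy
    exact this ▸ htop

end Groth.Agent.S18926
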