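import Groth.Statements.S18927
import Mathlib
-- import your own Groth.Agent.* helpers here

set_option autoImplicit false
universe u v
open W4c6secantcecovers

namespace Groth.Agent.S18927

open ExteriorAlgebra in
theorem contr_mul (R : Type u) [CommRing R] (r : ℕ) (j : Fin r) :
    ∀ (k : ℕ) (e : Fin k → (Fin r → R)) (η : SSLam R r),
      ssContr R r j (ιMulti R k e * η) =
        ssContr R r j (ιMulti R k e) * η + (-1 : R) ^ k • (ιMulti R k e * ssContr R r j η)
  | 0, e, η => by
    rw [ιMulti_zero_apply, one_mul, one_mul, pow_zero, one_smul,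
      show ssContr R r j (1 : SSLam R r) = 0 from CliffordAlgebra.contractLeft_one _ _, zero_mul, zero_add]
  | k + 1, e, η => by
    have hι : ∀ (a : Fin r → R) (b : SSLam R r), ssContr R r j (ι R a * b) = a j • b - ι R a * ssContr R r j b :=
      fun a b => CliffordAlgebra.contractLeft_ι_mul _ a b
    rw [ιMulti_succ_apply, mul_assoc, hι, hι, contr_mul R r j k _ η, sub_mul, smul_mul_assoc, mul_assoc,
      mul_add, mul_smul_comm, pow_succ, mul_neg_one, neg_smul, mul_assoc]
    abel

open ExteriorAlgebra in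
theorem mul_eq_zero_of_lt (R : Type u) [CommRing R] (r : ℕ) {k l : ℕ} (h : r < k + l)
    (e : Fin k → (Fin r → R)) (f : Fin l → (Fin r → R)) : ιMulti R k e * ιMulti R l f = 0 := by
  have h1 : ιMulti R k e * ιMulti R l f = ιMulti R (k + l) (Fin.append e f) := by
    simp only [ιMulti_apply]
    rw [← List.prod_append, ← List.ofFn_fin_append]
    congr 2
    funext i
    induction i using Fin.addCases <;> simp
  rw [h1]
  have h2 : (ιMulti R (k + l) : (Fin r → R) [⋀^Fin (k + l)]→ₗ[R] SSLam R r) = 0 := by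
    refine Module.Basis.ext_alternating (Pi.basisFun R (Fin r)) fun v hv => ?_
    have := Fintype.card_le_of_injective v hv
    rw [Fintype.card_fin, Fintype.card_fin] at this
    omega
  rw [h2]
  rfl

theorem contr_swap (R : Type u) [CommRing R] (r k : ℕ) (hk : k < r) (e : Fin (k + 1) → (Fin r → R))
    (f : Fin (r - k) → (Fin r → R)) (j : Fin r) :
    ssContr R r j (ExteriorAlgebra.ιMulti R (k + 1) e) * ExteriorAlgebra.ιMulti R (r - k) f =
      (-1 : R) ^ k • (ExteriorAlgebra.ιMulti R (k + 1) e * ssContr R r j (ExteriorAlgebra.ιMulti R (r - k) f)) := by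
  have h := contr_mul R r j (k + 1) e (ExteriorAlgebra.ιMulti R (r - k) f)
  rw [mul_eq_zero_of_lt R r (by omega) e f, map_zero, pow_succ, mul_neg_one, neg_smul] at h
  rw [← sub_eq_zero, sub_eq_add_neg]
  exact h.symm

open TensorProduct in
/-- Let R be a commutative ring, E = R^r the free module with its coordinate basis, S = R[X_1, …, X_r]
(the symmetric algebra of E), and N an R-module carrying R-linear operators φ_j (the action of the
j-th basis vector of E) and an R-bilinear form β with β(φ_j n, m) = β(n, φ_j m) for every j. On (ΛE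
⊗ S) ⊗ N — all terms Λ^k(S ⊗ E) ⊗ N of the Scheja–Storch complex at once — let δ be the differential
sending (e_1 ∧ ⋯ ∧ e_k) ⊗ s ⊗ n to Σ_i (-1)^(i-1) (e_1 ∧ ⋯ ê_i ⋯ ∧ e_k) ⊗ x(e_i) s ⊗ n + Σ_i (-1)^i
(e_1 ∧ ⋯ ê_i ⋯ ∧ e_k) ⊗ s ⊗ e_i · n, and pair a term u = ω ⊗ s ⊗ n of degree k with v = η ⊗ t ⊗ m by
⟨u, v⟩_k = (-1)^(k choose 2) β(n, m) · (ω ∧ η) ⊗ s t. Then the differential is adjoint to itself for
this pairing in complementary degrees: for u = (e_0 ∧ ⋯ ∧ e_k) ⊗ s ⊗ n of degree k + 1 ≤ r and v =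
(f_1 ∧ ⋯ ∧ f_(r-k)) ⊗ t ⊗ m of degree r - k, ⟨δ u, v⟩_k = ⟨u, δ v⟩_(k+1). (The source takes E
finitely generated projective and N a module over the ambient algebra with a pairing satisfying ⟨f,
g h⟩ = ⟨g f, h⟩; the proof runs on a basis, which is the form stated here, with the action of E
recorded by the operators φ_j.) -/
theorem result
    (R : Type u) [CommRing R] (r : ℕ) (N : Type v) [AddCommGroup N] [Module R N]
    (φ : Fin r → (N →ₗ[R] N)) (β : N →ₗ[R] N →ₗ[R] R)
    (hβ : ∀ (j : Fin r) (n m : N), β (φ j n) m = β n (φ j m))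
    (k : ℕ) (hk : k < r)
    (e : Fin (k + 1) → (Fin r → R)) (f : Fin (r - k) → (Fin r → R))
    (s t : MvPolynomial (Fin r) R) (n m : N) :
    W4c6secantcecovers.ssPair R r N β k
        (W4c6secantcecovers.ssDelta R r N φ ((ExteriorAlgebra.ιMulti R (k + 1) e ⊗ₜ[R] s) ⊗ₜ[R] n))
        ((ExteriorAlgebra.ιMulti R (r - k) f ⊗ₜ[R] t) ⊗ₜ[R] m) =
      W4c6secantcecovers.ssPair R r N β (k + 1)
        ((ExteriorAlgebra.ιMulti R (k + 1) e ⊗ₜ[R] s) ⊗ₜ[R] n)
        (W4c6secantcecovers.ssDelta R r N φ ((ExteriorAlgebra.ιMulti R (r - k) f ⊗ₜ[R] t) ⊗ₜ[R] m)) := by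
  have key := contr_swap R r k hk e f
  simp only [ssDelta, LinearMap.coe_sum, Finset.sum_apply, map_sum, LinearMap.sum_apply]
  refine Finset.sum_congr rfl fun j _ => ?_
  have hC : (k + 1).choose 2 = k.choose 2 + k := by
    rw [Nat.choose_succ_succ', Nat.choose_one_right, add_comm]
  simp only [ssDKoszul, ssDAct, LinearMap.add_apply, LinearMap.smul_apply, map_add, map_smul,
    TensorProduct.map_tmul, LinearMap.id_apply, LinearMap.mulLeft_apply, LinearMap.id_coe, id_eq, smul_mul_assoc, mul_smul_comm,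
    ssPair, TensorProduct.curry_apply, ssPairAux, LinearMap.coe_comp, LinearEquiv.coe_coe,
    Function.comp_apply, TensorProduct.tensorTensorTensorComm_tmul, LinearMap.mul'_apply,
    TensorProduct.lift.tmul, TensorProduct.rid_tmul, Algebra.TensorProduct.tmul_mul_tmul, hβ, key j,
    hC, pow_add, smul_smul, smul_tmul', smul_add]
  rw [mul_assoc (MvPolynomial.X j) s t, mul_left_comm s (MvPolynomial.X j) t]
  congr 2 <;> ring

end Groth.Agent.S18927
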