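import Groth.Statements.S18928
import Mathlib.Tactic.LinearCombination
import Mathlib.Data.Nat.Choose.Sum
-- import your own Groth.Agent.* helpers here

set_option autoImplicit false
universe u
open DPow

namespace Groth.Agent.S18928

/-- Let B be a commutative ring, I an ideal of B with a divided power structure, p a prime, r a natural
number, b an element of B and δ an element of I. Then (b + δ)^(p^r) − b^(p^r) lies in the ideal p^r
I. (The source states this for a divided power thickening over the Witt vectors of length n and 0 ≤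
r ≤ n; neither restriction is used.) -/
theorem result {B : Type u} [CommRing B] {I : Ideal B}
    (hI : DividedPowers I) (p : ℕ) [Fact p.Prime] (r : ℕ) (b δ : B) (hδ : δ ∈ I) :
    (b + δ) ^ (p ^ r) - b ^ (p ^ r) ∈ Ideal.span {((p : B) ^ r)} * I := by
  rw [add_comm, add_pow, Finset.sum_range_succ', sub_eq_add_neg, add_assoc]
  simp only [pow_zero, tsub_zero, one_mul, Nat.choose_zero_right, Nat.cast_one, mul_one, add_neg_cancel, add_zero]
  refine Submodule.sum_mem _ fun i hi => ?_
  obtain ⟨c, hc⟩ : p ^ r ∣ (p ^ r).descFactorial (i + 1) :=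
    ⟨(p ^ r - 1).descFactorial i, by
      conv_lhs => rw [← Nat.sub_add_cancel (Nat.one_le_pow r p (Fact.out : p.Prime).pos)]
      rw [Nat.succ_descFactorial_succ, Nat.sub_add_cancel (Nat.one_le_pow r p (Fact.out : p.Prime).pos)]⟩
  have e : δ ^ (i + 1) * b ^ (p ^ r - (i + 1)) * ((p ^ r).choose (i + 1) : B)
      = (p : B) ^ r * ((c : B) * b ^ (p ^ r - (i + 1)) * hI.dpow (i + 1) δ) := by
    have h2 : (((i + 1).factorial : ℕ) : B) * ((p ^ r).choose (i + 1) : B) = (p : B) ^ r * (c : B) := by
      rw [← Nat.cast_mul, ← Nat.descFactorial_eq_factorial_mul_choose, hc, Nat.cast_mul, Nat.cast_pow]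
    rw [← hI.factorial_mul_dpow_eq_pow hδ]
    linear_combination (hI.dpow (i + 1) δ * b ^ (p ^ r - (i + 1))) * h2
  rw [e]
  exact Ideal.mul_mem_mul (Ideal.mem_span_singleton_self _)
    (Ideal.mul_mem_left _ _ (hI.dpow_mem (by omega) hδ))

end Groth.Agent.S18928
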