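import Groth.Statements.S18929
import Mathlib
-- import your own Groth.Agent.* helpers here

set_option autoImplicit false
universe u
open DPow

namespace Groth.Agent.S18929

/-- Let p be a prime, n a natural number, B a commutative ring in which p^n = 0, and I an ideal of B
equipped with divided powers. There is a ring homomorphism θ from the truncated Witt vectors
W_n(B/I) to B such that, for every Witt vector x over B, θ applied to the truncation of the image of
x in W_n(B/I) equals Σ_{i<n} p^i x_i^(p^(n−i)); in particular this sum depends only on the residues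
of x_0, …, x_{n−1} modulo I. (The source works with a divided power thickening of an algebra over a
perfect field and also checks linearity over the Witt vectors of that field; only the ring
homomorphism is asserted here. θ is unique, the truncation-of-reduction map being surjective.) -/
theorem result (p : ℕ) [Fact p.Prime] (n : ℕ)
    {B : Type u} [CommRing B] (hp : (p : B) ^ n = 0) {I : Ideal B} (hI : DividedPowers I) :
    ∃ θ : TruncatedWittVector p n (B ⧸ I) →+* B, ∀ x : WittVector p B, θ (WittVector.truncate n (WittVector.map (Ideal.Quotient.mk I) x)) =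
        ∑ i : Fin n, (p : B) ^ (i : ℕ) * (x.coeff i) ^ (p ^ (n - i)) := by
  classical
  let π : WittVector p B →+* TruncatedWittVector p n (B ⧸ I) :=
    (WittVector.truncate n).comp (WittVector.map (Ideal.Quotient.mk I))
  have hgh : ∀ x : WittVector p B,
      WittVector.ghostComponent n x = ∑ i : Fin n, (p : B) ^ (i : ℕ) * (x.coeff i) ^ (p ^ (n - i)) := by
    intro x
    rw [WittVector.ghostComponent_apply, wittPolynomial_eq_sum_C_mul_X_pow, map_sum, Finset.sum_range_succ,
      Finset.sum_range (fun i => MvPolynomial.aeval x.coeff
        (MvPolynomial.C ((p : ℤ) ^ i) * MvPolynomial.X i ^ p ^ (n - i)))]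
    simp only [map_mul, map_pow, MvPolynomial.aeval_X, MvPolynomial.aeval_C, map_natCast, hp, zero_mul, add_zero]
  have hker : RingHom.ker π ≤ RingHom.ker (WittVector.ghostComponent (p := p) (R := B) n) := by
    intro x hx
    rw [RingHom.mem_ker, hgh]
    refine Finset.sum_eq_zero fun i _ => ?_
    have hxi : x.coeff i ∈ I := by
      have h := (WittVector.mem_ker_truncate n (WittVector.map (Ideal.Quotient.mk I) x)).mp hx i i.2
      rwa [WittVector.map_coeff, Ideal.Quotient.eq_zero_iff_mem] at h
    have h2 : p ^ n ∣ p ^ (i : ℕ) * (p ^ (n - (i : ℕ))).factorial := by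
      conv_lhs => rw [show n = (i : ℕ) + (n - i) by omega, pow_add]
      exact Nat.mul_dvd_mul_left _ (Nat.dvd_factorial (Nat.pow_pos (Nat.Prime.pos Fact.out)) le_rfl)
    obtain ⟨c, hc⟩ := h2
    rw [← hI.factorial_mul_dpow_eq_pow hxi, ← mul_assoc, ← Nat.cast_pow, ← Nat.cast_mul, hc, Nat.cast_mul,
      Nat.cast_pow, hp, zero_mul, zero_mul]
  have hπ : Function.Surjective π :=
    (WittVector.truncate_surjective p n (B ⧸ I)).comp (WittVector.map_surjective _ Ideal.Quotient.mk_surjective)
  refine ⟨RingHom.liftOfSurjective π hπ ⟨_, hker⟩, fun x => ?_⟩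
  rw [← hgh x]
  exact RingHom.liftOfRightInverse_comp_apply π _ _ ⟨_, hker⟩ x

end Groth.Agent.S18929
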