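import Groth.Statements.S1893
import Mathlib.AlgebraicGeometry.Morphisms.UniversallyOpen

set_option autoImplicit false
universe u
open CategoryTheory CategoryTheory.Limits AlgebraicGeometry
open Grpd

namespace Groth.Agent.S1893

/-- Let (U, R, s, t, c) be a groupoid scheme over S with s, t quasi-compact and flat and U
quasi-separated, and W ⊆ U a quasi-compact open. Then the saturation t(s⁻¹(W)) can be written as an
intersection of quasi-compact opens of U, indexed by a nonempty set. (A groupoid scheme carries U,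
R, s, t, c, e, i over S with the groupoid axioms on T-points; 'finite locally free' is finite, flat
and locally of finite presentation; C ⊂ Γ(U) is the ring of functions a with s♯(a) = t♯(a) and M =
Spec C.) -/
theorem result (S : Scheme.{u}) (G : Grpd.GroupoidScheme S) [QuasiCompact G.s] [Flat G.s] [QuasiCompact G.t] [Flat G.t] [QuasiSeparatedSpace G.U] (W : G.U.Opens) (hW : IsCompact (W : Set G.U)) : ∃ (ι : Type u) (_ : Nonempty ι) (V : ι → G.U.Opens), (∀ i, IsCompact (V i : Set G.U)) ∧ ⇑G.t '' (⇑G.s ⁻¹' (W : Set G.U)) = ⋂ i, (V i : Set G.U) := by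
  classical
  set Z := ⇑G.t '' (⇑G.s ⁻¹' (W : Set G.U)) with hZ
  have hsW : IsCompact (⇑G.s ⁻¹' (W : Set G.U)) := G.s.isCompact_preimage hW
  have hZc : IsCompact Z := hsW.image G.t.continuous
  have hgen : StableUnderGeneralization Z := by
    have h1 : GeneralizingMap ⇑G.t := Flat.generalizingMap G.t
    exact h1.stableUnderGeneralization_image
      (W.2.preimage G.s.continuous).stableUnderGeneralization
  let ι : Type u := {V : G.U.Opens // IsCompact (V : Set G.U) ∧ Z ⊆ V}
  have key : ∀ y : G.U, y ∉ Z → ∃ V : ι, y ∉ (V.1 : Set G.U) := by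
    intro y hy
    have : ∀ z ∈ Z, ∃ V : G.U.Opens, z ∈ V ∧ IsAffineOpen V ∧ y ∉ V := by
      intro z hz
      have : z ∈ (closure {y} : Set G.U)ᶜ := fun h =>
        hy (hgen (specializes_iff_mem_closure.mpr h) hz)
      obtain ⟨_, ⟨V, hV, rfl⟩, hzV, hVs⟩ :=
        G.U.isBasis_affineOpens.exists_subset_of_mem_open this isClosed_closure.isOpen_compl
      exact ⟨V, hzV, hV, fun h => hVs h (subset_closure rfl)⟩
    choose V hzV hV hyV using this
    obtain ⟨T, hT⟩ := hZc.elim_finite_subcover (fun z : Z => (V z z.2 : Set G.U))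
      (fun z => (V z z.2).2) (fun z hz => Set.mem_iUnion.mpr ⟨⟨z, hz⟩, hzV z hz⟩)
    refine ⟨⟨⨆ z : T, V z.1 z.1.2, ?_, ?_⟩, ?_⟩
    · rw [TopologicalSpace.Opens.coe_iSup]
      exact isCompact_iUnion fun z => (hV z.1 z.1.2).isCompact
    · intro z hz
      obtain ⟨i, hi, hzi⟩ := Set.mem_iUnion₂.mp (hT hz)
      exact TopologicalSpace.Opens.mem_iSup.mpr ⟨⟨i, hi⟩, hzi⟩
    · intro h
      obtain ⟨i, hi⟩ := TopologicalSpace.Opens.mem_iSup.mp h
      exact hyV i.1 i.1.2 hi
  have hne : Nonempty ι := by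
    choose V hV hxV _ using fun x : G.U =>
      G.U.isBasis_affineOpens.exists_subset_of_mem_open (Set.mem_univ x) isOpen_univ
    choose V' hV' e using hV
    obtain ⟨T, hT⟩ := hZc.elim_finite_subcover (fun x : G.U => (V' x : Set G.U))
      (fun x => (V' x).2) (fun z _ => Set.mem_iUnion.mpr ⟨z, (e z).symm ▸ hxV z⟩)
    refine ⟨⟨⨆ z : T, V' z.1, ?_, ?_⟩⟩
    · rw [TopologicalSpace.Opens.coe_iSup]
      exact isCompact_iUnion fun z => (hV' z.1).isCompact
    · intro z hz
      obtain ⟨i, hi, hzi⟩ := Set.mem_iUnion₂.mp (hT hz)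
      exact TopologicalSpace.Opens.mem_iSup.mpr ⟨⟨i, hi⟩, hzi⟩
  refine ⟨ι, hne, fun V => V.1, fun V => V.2.1, ?_⟩
  refine Set.Subset.antisymm (Set.subset_iInter fun V => V.2.2) fun y hy => ?_
  by_contra h
  obtain ⟨V, hV⟩ := key y h
  exact hV (Set.mem_iInter.mp hy V)

end Groth.Agent.S1893
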