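import Groth.Statements.S18930


set_option autoImplicit false
universe u
open DPow

namespace Groth.Agent.S18930

/-- Let p be a prime, n ≥ 1, B a commutative ring with p^n = 0 and A = B/pB. Let θ : W_n(A) → B be the
ring homomorphism which sends the reduction of a Witt vector (x_0, …, x_{n−1}) over B to Σ_{i<n} p^i
x_i^(p^(n−i)), let J_n be its kernel and let I_n be the set of a in W_n(A) whose zeroth component
satisfies a_0^(p^n) = 0. Then J_n + (p) ⊆ I_n. (In the source B is the ring of global sections of a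
scheme over the Witt vectors of length n of a perfect field.) -/
theorem result (p : ℕ) [Fact p.Prime] (n : ℕ) (hn : 0 < n)
    {B : Type u} [CommRing B] (hp : (p : B) ^ n = 0)
    (θ : TruncatedWittVector p n (B ⧸ (Ideal.span {(p : B)})) →+* B)
    (hθ : ∀ x : WittVector p B, θ (WittVector.truncate n (WittVector.map (Ideal.Quotient.mk (Ideal.span {(p : B)})) x)) =
        ∑ i : Fin n, (p : B) ^ (i : ℕ) * (x.coeff i) ^ (p ^ (n - i)))
    (a : TruncatedWittVector p n (B ⧸ (Ideal.span {(p : B)})))
    (ha : a ∈ RingHom.ker θ ⊔ Ideal.span {(p : TruncatedWittVector p n (B ⧸ (Ideal.span {(p : B)})))}) :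
    (TruncatedWittVector.coeff ⟨0, hn⟩ a) ^ (p ^ n) = 0 := by
  classical
  obtain ⟨j, hj, w, hw, rfl⟩ := Submodule.mem_sup.mp ha
  obtain ⟨c, rfl⟩ := Ideal.mem_span_singleton'.mp hw
  obtain ⟨y, hy⟩ := WittVector.truncate_surjective p n (B ⧸ (Ideal.span {(p : B)}))
    (j + c * (p : TruncatedWittVector p n (B ⧸ (Ideal.span {(p : B)}))))
  obtain ⟨x, rfl⟩ := WittVector.map_surjective (Ideal.Quotient.mk (Ideal.span {(p : B)}))
    Ideal.Quotient.mk_surjective y
  have h1 := hθ x
  rw [hy, map_add, map_mul, RingHom.mem_ker.mp hj, zero_add, map_natCast] at h1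
  have h2 := congrArg (Ideal.Quotient.mk (Ideal.span {(p : B)})) h1
  rw [map_mul, Ideal.Quotient.eq_zero_iff_mem.mpr (Ideal.mem_span_singleton_self _), mul_zero,
    map_sum, Finset.sum_eq_single (⟨0, hn⟩ : Fin n)] at h2
  · rw [← hy, WittVector.coeff_truncate, WittVector.map_coeff]
    simpa using h2.symm
  · intro i _ hi
    rw [map_mul, map_pow, Ideal.Quotient.eq_zero_iff_mem.mpr (Ideal.mem_span_singleton_self _),
      zero_pow (fun h => hi (Fin.ext h)), zero_mul]
  · exact fun h => absurd (Finset.mem_univ _) h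

end Groth.Agent.S18930
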