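import Groth.Statements.S18931
import Mathlib.RingTheory.WittVector.Identities
import Mathlib.RingTheory.WittVector.Truncated
import Mathlib.RingTheory.Ideal.Quotient.Operations
import Mathlib.Algebra.CharP.Quotient
import Mathlib.Algebra.BigOperators.Intervals
import Mathlib.Tactic.LinearCombination

set_option autoImplicit false
universe u
open DPow

namespace Groth.Agent.S18931

/-- Let p be a prime, n ≥ 1, B a commutative ring with p^n = 0 and A = B/pB, and assume that the p-th
power map of A is surjective. Let θ : W_n(A) → B be the ring homomorphism which sends the reduction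
of a Witt vector (x_0, …, x_{n−1}) over B to Σ_{i<n} p^i x_i^(p^(n−i)). Then every a in W_n(A) with
a_0^(p^n) = 0 lies in ker θ + (p); together with the reverse inclusion, ker θ + (p) is exactly the
set of such a. (In the source B is the ring of global sections of a scheme over the Witt vectors of
length n of a perfect field. The printed argument subtracts a single correction term, which suffices
for n ≤ 2; in general one corrects the components one at a time.) -/
theorem result (p : ℕ) [Fact p.Prime]
    (n : ℕ) (hn : 0 < n) {B : Type u} [CommRing B] (hp : (p : B) ^ n = 0)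
    (hF : Function.Surjective (fun y : B ⧸ (Ideal.span {(p : B)}) => y ^ p))
    (θ : TruncatedWittVector p n (B ⧸ (Ideal.span {(p : B)})) →+* B)
    (hθ : ∀ x : WittVector p B, θ (WittVector.truncate n (WittVector.map (Ideal.Quotient.mk (Ideal.span {(p : B)})) x)) =
        ∑ i : Fin n, (p : B) ^ (i : ℕ) * (x.coeff i) ^ (p ^ (n - i)))
    (a : TruncatedWittVector p n (B ⧸ (Ideal.span {(p : B)}))) (ha : (TruncatedWittVector.coeff ⟨0, hn⟩ a) ^ (p ^ n) = 0) :
    a ∈ RingHom.ker θ ⊔ Ideal.span {(p : TruncatedWittVector p n (B ⧸ (Ideal.span {(p : B)})))} := by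
  classical
  rcases subsingleton_or_nontrivial B with hB | hB
  · haveI : Subsingleton (B ⧸ (Ideal.span {(p : B)})) := inferInstance
    have : a = 0 := TruncatedWittVector.ext fun i => Subsingleton.elim _ _
    rw [this]; exact zero_mem _
  haveI : CharP (B ⧸ (Ideal.span {(p : B)})) p := CharP.quotient B p (fun hu => (IsNilpotent.not_isUnit ⟨n, hp⟩) hu)
  have hFk : ∀ (k : ℕ) (e : B), ∃ x e' : B, e = x ^ p ^ k + p * e' := by
    intro k e
    have hs : ∀ k, Function.Surjective fun y : B ⧸ (Ideal.span {(p : B)}) => y ^ p ^ k := by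
      intro k
      induction k with
      | zero => intro y; exact ⟨y, by simp⟩
      | succ k ih =>
        intro y
        obtain ⟨z, hz⟩ := hF y
        obtain ⟨w, hw⟩ := ih z
        exact ⟨w, by simp only at hz hw ⊢; rw [pow_succ, pow_mul, hw, hz]⟩
    obtain ⟨y, hy⟩ := hs k ((Ideal.Quotient.mk (Ideal.span {(p : B)})) e)
    obtain ⟨x, rfl⟩ := Ideal.Quotient.mk_surjective y
    have : e - x ^ p ^ k ∈ (Ideal.span {(p : B)}) := by
      rw [← Ideal.Quotient.eq, map_pow]; exact hy.symm
    obtain ⟨e', he'⟩ := Ideal.mem_span_singleton'.mp this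
    exact ⟨x, e', by linear_combination -he'⟩
  have key : ∀ j i, i + j = n → ∀ e : B, ∃ x : ℕ → B,
      (p : B) ^ i * e = ∑ l ∈ Finset.Ico i n, (p : B) ^ l * x l ^ p ^ (n - l) := by
    intro j
    induction j with
    | zero => intro i hi e; exact ⟨0, by rw [show i = n by omega, Finset.Ico_self, Finset.sum_empty, hp, zero_mul]⟩
    | succ j ih =>
      intro i hi e
      obtain ⟨y, e', rfl⟩ := hFk (n - i) e
      obtain ⟨x, hx⟩ := ih (i + 1) (by omega) e'
      refine ⟨Function.update x i y, ?_⟩
      rw [Finset.sum_eq_sum_Ico_succ_bot (by omega : i < n), Function.update_self]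
      rw [Finset.sum_congr rfl fun l hl => by
        rw [Function.update_of_ne (by have := (Finset.mem_Ico.mp hl).1; omega)]]
      rw [← hx]; ring
  obtain ⟨c, hc⟩ := Ideal.Quotient.mk_surjective (TruncatedWittVector.coeff ⟨0, hn⟩ a)
  have hcJ : c ^ p ^ n ∈ (Ideal.span {(p : B)}) := Ideal.Quotient.eq_zero_iff_mem.mp (by rw [map_pow, hc]; exact ha)
  obtain ⟨e, he⟩ := Ideal.mem_span_singleton'.mp hcJ
  obtain ⟨x, hx⟩ := key (n - 1) 1 (by omega) (-e)
  let X : WittVector p B := WittVector.mk p (Function.update x 0 c)
  set z := WittVector.truncate n (WittVector.map (Ideal.Quotient.mk (Ideal.span {(p : B)})) X) with hz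
  have hz0 : θ z = 0 := by
    rw [hz, hθ, Fin.sum_univ_eq_sum_range (fun i => (p : B) ^ i * (X.coeff i) ^ p ^ (n - i)) n,
      Finset.range_eq_Ico, Finset.sum_eq_sum_Ico_succ_bot hn]
    rw [Finset.sum_congr rfl fun l hl => by
      simp only [X, WittVector.coeff_mk]
      rw [Function.update_of_ne (by have := (Finset.mem_Ico.mp hl).1; omega)]]
    rw [← hx]
    simp only [X, WittVector.coeff_mk, Function.update_self, pow_zero, one_mul, pow_one, Nat.sub_zero]
    rw [← he]; ring
  obtain ⟨A', hA'⟩ := WittVector.truncate_surjective p n (B ⧸ (Ideal.span {(p : B)})) a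
  have hp' : ∀ w : WittVector p (B ⧸ (Ideal.span {(p : B)})), w.coeff 0 = 0 → ∃ y, w = y * (p : WittVector p (B ⧸ (Ideal.span {(p : B)}))) := by
    intro w hw
    choose r hr using fun i => hF (w.coeff (i + 1))
    refine ⟨WittVector.mk p r, WittVector.ext fun i => ?_⟩
    cases i with
    | zero => rw [hw, WittVector.mul_charP_coeff_zero]
    | succ i => rw [WittVector.mul_charP_coeff_succ, WittVector.coeff_mk]; exact (hr i).symm
  obtain ⟨y, hy⟩ := hp' (A' - WittVector.map (Ideal.Quotient.mk (Ideal.span {(p : B)})) X) (by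
    rw [show (A' - WittVector.map (Ideal.Quotient.mk (Ideal.span {(p : B)})) X).coeff 0 = WittVector.constantCoeff (A' - WittVector.map (Ideal.Quotient.mk (Ideal.span {(p : B)})) X) from rfl,
      map_sub, WittVector.constantCoeff_apply, WittVector.constantCoeff_apply, WittVector.map_coeff]
    simp only [X, WittVector.coeff_mk, Function.update_self]
    rw [hc, ← hA', WittVector.coeff_truncate, sub_self])
  rw [← hA', show A' = (A' - WittVector.map (Ideal.Quotient.mk (Ideal.span {(p : B)})) X) + WittVector.map (Ideal.Quotient.mk (Ideal.span {(p : B)})) X by abel, hy, map_add, map_mul, map_natCast,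
    add_comm]
  exact Submodule.add_mem_sup (RingHom.mem_ker.mpr hz0) (Ideal.mem_span_singleton'.mpr ⟨_, rfl⟩)

end Groth.Agent.S18931
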