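import Groth.Statements.S18932
import Mathlib
-- import your own Groth.Agent.* helpers here

set_option autoImplicit false
universe u
open DPow

namespace Groth.Agent.S18932

/-- Let p be a prime, k a perfect field of characteristic p, n a natural number and A a commutative
W_n(k)-algebra, W_n(k) the truncated Witt vectors, which is flat over W_n(k) and whose reduction
A/pA has surjective p-th power map. Let θ : W_n(A/pA) → A be the ring homomorphism which sends the
reduction of a Witt vector (x_0, …, x_{n−1}) over A to Σ_{i<n} p^i x_i^(p^(n−i)). Then θ is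
surjective, so A is the quotient of W_n(A/pA) by the kernel of θ. (This is the step of the source's
proposition establishing that Spec of the divided power envelope of that kernel is a thickening of
Spec A; the assertion that it is a final object of the crystalline site is not stated here.) -/
theorem result (p : ℕ) [Fact p.Prime]
    (k : Type u) [Field k] [CharP k p] [PerfectRing k p] (n : ℕ)
    (A : Type u) [CommRing A] [Algebra (TruncatedWittVector p n k) A] [Module.Flat (TruncatedWittVector p n k) A]
    (hF : Function.Surjective (fun y : A ⧸ (Ideal.span {(p : A)}) => y ^ p))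
    (θ : TruncatedWittVector p n (A ⧸ (Ideal.span {(p : A)})) →+* A)
    (hθ : ∀ x : WittVector p A, θ (WittVector.truncate n (WittVector.map (Ideal.Quotient.mk (Ideal.span {(p : A)})) x)) =
        ∑ i : Fin n, (p : A) ^ (i : ℕ) * (x.coeff i) ^ (p ^ (n - i))) :
    Function.Surjective θ := by
  classical
  have hp : (p : A) ^ n = 0 := by
    have h : ((p : TruncatedWittVector p n k)) ^ n = 0 := by
      have h1 : WittVector.truncate n ((p : WittVector p k) ^ n) = 0 := by
        rw [← RingHom.mem_ker, WittVector.mem_ker_truncate]
        intro i hi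
        exact WittVector.coeff_p_pow_eq_zero p k (by omega)
      rwa [map_pow, map_natCast] at h1
    rw [← map_natCast (algebraMap (TruncatedWittVector p n k) A), ← map_pow, h, map_zero]
  let J : Ideal A := Ideal.span {(p : A)}
  have hgen : ∀ y : A, ∃ z, y - θ z ∈ J := by
    intro y
    have hit : ∀ m, Function.Surjective (fun y : A ⧸ J => y ^ p ^ m) := by
      intro m
      induction m with
      | zero => exact fun y => ⟨y, by simp⟩
      | succ m ih =>
        intro y
        obtain ⟨a, ha⟩ := hF y
        obtain ⟨b, hb⟩ := ih a
        exact ⟨b, by simp only at ha hb ⊢; rw [pow_succ, pow_mul, hb, ha]⟩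
    rcases Nat.eq_zero_or_pos n with rfl | hn
    · exact ⟨0, by simp [show y = 0 from (mul_one y).symm.trans (by rw [show (1 : A) = 0 by simpa using hp, mul_zero])]⟩
    obtain ⟨a, ha⟩ := hit n (Ideal.Quotient.mk J y)
    obtain ⟨a, rfl⟩ := Ideal.Quotient.mk_surjective a
    refine ⟨WittVector.truncate n (WittVector.map (Ideal.Quotient.mk J) (WittVector.teichmuller p a)), ?_⟩
    rw [hθ, Finset.sum_eq_single (⟨0, hn⟩ : Fin n) (fun b _ hb => by
      rw [WittVector.teichmuller_coeff_pos _ _ b (Nat.pos_of_ne_zero fun h => hb (Fin.ext h)),
        zero_pow (pow_ne_zero _ (Nat.Prime.ne_zero Fact.out)), mul_zero])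
      (fun h => (h (Finset.mem_univ _)).elim)]
    rw [WittVector.teichmuller_coeff_zero, pow_zero, one_mul, Nat.sub_zero, ← Ideal.Quotient.eq, map_pow]
    exact ha.symm
  have key : ∀ m, ∀ y : A, ∃ z, ∃ c, y = θ z + (p : A) ^ m * c := by
    intro m
    induction m with
    | zero => exact fun y => ⟨0, y, by simp⟩
    | succ m ih =>
      intro y
      obtain ⟨z, c, rfl⟩ := ih y
      obtain ⟨w, hw⟩ := hgen c
      obtain ⟨d, hd⟩ := Ideal.mem_span_singleton'.mp hw
      refine ⟨z + (p : TruncatedWittVector p n (A ⧸ J)) ^ m * w, d, ?_⟩
      rw [map_add, map_mul, map_pow, map_natCast]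
      linear_combination (-(p : A) ^ m) * hd
  intro y
  obtain ⟨z, c, h⟩ := key n y
  exact ⟨z, by rw [h, hp, zero_mul, add_zero]⟩

end Groth.Agent.S18932
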