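import Groth.Statements.S18933
import Groth.Agent.SyntLib.Square
import Mathlib.RingTheory.RingHom.FaithfullyFlat

set_option autoImplicit false
universe u
open Synt

namespace Groth.Agent.S18933

/-- Let p be a prime, A a Noetherian commutative ring and m a natural number, and let φ be the A-algebra
endomorphism of the polynomial ring A[T_1, …, T_m] with φ(T_i) = T_i^p. Then φ is syntomic and
faithfully flat (so Spec φ is a covering for the syntomic topology). -/
theorem result (p : ℕ) [Fact p.Prime]
    (A : Type u) [CommRing A] [IsNoetherianRing A] (m : ℕ)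
    (φ : MvPolynomial (Fin m) A →ₐ[A] MvPolynomial (Fin m) A)
    (hφ : ∀ i : Fin m, φ (MvPolynomial.X i) = MvPolynomial.X i ^ p) :
    @Synt.IsSyntomic (MvPolynomial (Fin m) A) _ (MvPolynomial (Fin m) A) _ φ.toRingHom.toAlgebra ∧
      φ.toRingHom.FaithfullyFlat := by
  let B := MvPolynomial (Fin m) A
  letI alg : Algebra B B := φ.toRingHom.toAlgebra
  haveI ht : @IsScalarTower A B B _ alg.toSMul _ := IsScalarTower.of_algebraMap_eq fun a => (φ.commutes a).symm
  have hp : 0 < p := (Fact.out : p.Prime).pos
  have hX : (MvPolynomial.aeval (MvPolynomial.X : Fin m → B) : MvPolynomial (Fin m) A →ₐ[A] B) = AlgHom.id A B :=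
    MvPolynomial.algHom_ext fun i => MvPolynomial.aeval_X _ i
  obtain ⟨hsyn, hfin⟩ := @SyntLib.isSyntomic_of_pow_eq p m hp A B B _ _ _ _ _ alg ht
    MvPolynomial.X MvPolynomial.X (by rw [hX]; exact Function.surjective_id)
    (by rw [hX]; exact Function.bijective_id) (fun i => (hφ i).symm)
  refine ⟨hsyn, ?_⟩
  refine RingHom.FaithfullyFlat.iff_flat_and_comap_surjective.mpr ⟨hsyn.1, ?_⟩
  haveI := hsyn.1
  haveI := hfin
  refine (@PrimeSpectrum.comap_surjective_iff_injective_of_finite B B _ _ alg _ _).mpr ?_
  show Function.Injective φ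
  rw [show φ = MvPolynomial.expand p from MvPolynomial.algHom_ext fun i => by rw [hφ, MvPolynomial.expand_X]]
  exact MvPolynomial.expand_injective hp

end Groth.Agent.S18933
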