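import Groth.Statements.S18934
import Groth.Agent.SyntLib.Square

set_option autoImplicit false
universe u
open Synt

namespace Groth.Agent.S18934

open Polynomial in
/-- Let p be a prime, A a commutative ring and a an element of A. Then the A-algebra A[T]/(T^p − a) is
syntomic and faithfully flat over A. This is the step of the source's proof showing that adjoining a
p-th root of any element is a covering for the syntomic topology. -/
theorem result (p : ℕ) [Fact p.Prime]
    (A : Type u) [CommRing A] (a : A) :
    Synt.IsSyntomic A (AdjoinRoot (X ^ p - C a)) ∧ Module.FaithfullyFlat A (AdjoinRoot (X ^ p - C a)) := by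
  have hp : p ≠ 0 := (Fact.out : p.Prime).ne_zero
  have hm : (Polynomial.X ^ p - Polynomial.C a).Monic := Polynomial.monic_X_pow_sub_C a hp
  haveI := hm.finite_adjoinRoot
  refine ⟨SyntLib.isSyntomic_of_hasSquarePres (SyntLib.hasSquarePres_adjoinRoot (SyntLib.hasSquarePres_self A) _), ?_⟩
  haveI := hm.free_adjoinRoot
  by_cases hA : Subsingleton A
  · exact { submodule_ne_top := fun m hm => absurd (Subsingleton.elim m ⊤) hm.ne_top }
  haveI := not_subsingleton_iff_nontrivial.mp hA
  exact SyntLib.faithfullyFlat_adjoinRoot hm (by rw [Polynomial.natDegree_X_pow_sub_C]; exact Nat.pos_of_ne_zero hp)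

end Groth.Agent.S18934
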