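import Groth.Statements.S18935
import Groth.Agent.KoszulLib.Change
import Groth.Agent.KoszulLib.Iff

set_option autoImplicit false
universe u
open LCI

namespace Groth.Agent.S18935

/-- Let R be a commutative ring and I a proper ideal of R which is generated by some Koszul-regular
sequence. A finite sequence f of generators of I is Koszul-regular if and only if f has the smallest
possible length among all finite generating sequences of I. (Properness of I is needed: the
sequences (1) and (1, 1) are both Koszul-regular and generate the unit ideal.) -/
theorem result {R : Type u} [CommRing R] {I : Ideal R} (hI : I ≠ ⊤)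
    (g : List R) (hg : LCI.IsKoszulRegularSeq R g) (hgI : Ideal.ofList g = I)
    (f : List R) (hfI : Ideal.ofList f = I) :
    LCI.IsKoszulRegularSeq R f ↔ ∀ h : List R, Ideal.ofList h = I → f.length ≤ h.length := by
  have hspan : ∀ l : List R, Ideal.span (Set.range l.get) = Ideal.ofList l := fun l => by
    rw [Ideal.ofList]
    congr 1
    ext x
    simp [List.mem_iff_get]
  have hg' : Wiebe.Acyclic g.get := KoszulLib.isKoszulRegularSeq_iff_acyclic.mp (by rw [List.ofFn_get]; exact hg)
  constructor
  · intro hf h hhI
    have hf' : Wiebe.Acyclic f.get := KoszulLib.isKoszulRegularSeq_iff_acyclic.mp (by rw [List.ofFn_get]; exact hf)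
    exact KoszulLib.length_le (g := h.get) (KoszulLib.isH1Regular_of_acyclic hf') (by rw [hspan, hspan, hfI, hhI])
      (by rw [hspan, hfI]; exact hI)
  · intro hmin
    have := KoszulLib.isKoszulRegularSeq_iff_acyclic.mpr (KoszulLib.acyclic_of_length_le (g := f.get) hg'
      (by rw [hspan, hspan, hgI, hfI]) (hmin g hgI))
    rwa [List.ofFn_get] at this

end Groth.Agent.S18935
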