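import Groth.Statements.S18936
import Mathlib.RingTheory.Localization.AtPrime.Basic
import Mathlib.RingTheory.Localization.Away.Basic
import Mathlib.RingTheory.Noetherian.Basic

set_option autoImplicit false
universe u
open CAlg

namespace Groth.Agent.S18936

/-- Let A be a Noetherian commutative ring, q a prime ideal of A and f an element of A whose image in
the localization A_q is a non-zero-divisor. Then there is an element b of A not in q such that the
image of f in A[1/b] is a non-zero-divisor. -/
theorem result {A : Type u} [CommRing A] [IsNoetherianRing A]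
    (q : Ideal A) [q.IsPrime] (f : A)
    (hf : algebraMap A (Localization.AtPrime q) f ∈ nonZeroDivisors (Localization.AtPrime q)) :
    ∃ b : A, b ∉ q ∧ algebraMap A (Localization.Away b) f ∈ nonZeroDivisors (Localization.Away b) := by
  classical
  obtain ⟨S, hS⟩ := (IsNoetherian.noetherian (LinearMap.ker (LinearMap.mulLeft A f)) : (LinearMap.ker (LinearMap.mulLeft A f)).FG)
  have hkill : ∀ z ∈ LinearMap.ker (LinearMap.mulLeft A f), ∃ s : A, s ∉ q ∧ s * z = 0 := fun z hz => by
    have h0 : algebraMap A (Localization.AtPrime q) z = 0 := by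
      refine mem_nonZeroDivisors_iff_right.1 hf _ ?_
      rw [← map_mul, mul_comm, show f * z = 0 from hz, map_zero]
    obtain ⟨s, hs⟩ := (IsLocalization.map_eq_zero_iff q.primeCompl _ z).1 h0
    exact ⟨s, s.2, hs⟩
  choose! t ht1 ht2 using fun z (hz : z ∈ S) => hkill z (hS ▸ Submodule.subset_span hz)
  let b := ∏ z ∈ S, t z
  have hb : b ∉ q := fun h => by
    obtain ⟨z, hz, hzq⟩ := Ideal.IsPrime.prod_mem_iff.1 h
    exact ht1 z hz hzq
  have hann : ∀ z ∈ LinearMap.ker (LinearMap.mulLeft A f), b * z = 0 := by
    rw [← hS]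
    intro z hz
    induction hz using Submodule.span_induction with
    | mem z hz =>
      obtain ⟨d, hd⟩ := Finset.dvd_prod_of_mem t hz
      rw [show b = d * t z from hd.trans (mul_comm _ _), mul_assoc, ht2 z hz, mul_zero]
    | zero => rw [mul_zero]
    | add x y _ _ hx hy => rw [mul_add, hx, hy, add_zero]
    | smul a x _ hx => rw [smul_eq_mul, mul_left_comm, hx, mul_zero]
  refine ⟨b, hb, mem_nonZeroDivisors_iff_right.2 fun z hz => ?_⟩
  obtain ⟨⟨a, s⟩, ha⟩ := IsLocalization.surj (Submonoid.powers b) z
  have h1 : algebraMap A (Localization.Away b) (f * a) = 0 := by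
    rw [map_mul, ← ha, ← mul_assoc, mul_comm (algebraMap A _ f), hz, zero_mul]
  obtain ⟨c, hc⟩ := (IsLocalization.map_eq_zero_iff (Submonoid.powers b) _ _).1 h1
  have h2 : b * ((c : A) * a) = 0 := hann _ (show f * ((c : A) * a) = 0 by rw [mul_left_comm]; exact hc)
  have h3 : algebraMap A (Localization.Away b) a = 0 := by
    rw [IsLocalization.map_eq_zero_iff (Submonoid.powers b)]
    exact ⟨⟨b, Submonoid.mem_powers b⟩ * c, by show (b * (c : A)) * a = 0; rw [mul_assoc, h2]⟩
  rw [h3] at ha
  exact (IsLocalization.map_units _ s).mul_left_eq_zero.1 ha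

end Groth.Agent.S18936
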