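import Groth.Statements.S18937
import Groth.Agent.KoszulLib.SchLCI
import Groth.Agent.KoszulLib.NoethQuasi
import Groth.Agent.KoszulLib.Kinds
import Groth.Agent.SyntLib.Regular

set_option autoImplicit false
universe u
open CategoryTheory AlgebraicGeometry
open RegImm

namespace Groth.Agent.S18937

/-- Let A be a Noetherian commutative ring, n a natural number, I an ideal of the polynomial ring A[X_1,
…, X_n] and B = A[X_1, …, X_n]/I, and assume that the closed immersion Spec B → Spec A[X_1, …, X_n]
is a regular immersion (kind: successive non-zero-divisors). Then Spec B is covered by basic opens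
D(g) with B[1/g] isomorphic, as an A-algebra, to a quotient A[X_0, …, X_n]/(P_1, …, P_d) of the
polynomial ring in one more variable by a regular sequence P_1, …, P_d. -/
theorem result
    (A : Type u) [CommRing A] [IsNoetherianRing A] (n : ℕ) (I : Ideal (MvPolynomial (Fin n) A))
    (h : RegImm.IsRegularImmersion RegImm.Kind.regular
      (Spec.map (CommRingCat.ofHom (Ideal.Quotient.mk I))))
    (q : PrimeSpectrum (MvPolynomial (Fin n) A ⧸ I)) :
    ∃ g : MvPolynomial (Fin n) A ⧸ I, g ∉ q.asIdeal ∧
      ∃ (d : ℕ) (P : Fin d → MvPolynomial (Fin (n + 1)) A),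
        RingTheory.Sequence.IsRegular (MvPolynomial (Fin (n + 1)) A) (List.ofFn P) ∧
        Nonempty (Localization.Away g ≃ₐ[A] (MvPolynomial (Fin (n + 1)) A ⧸ Ideal.ofList (List.ofFn P))) := by
  classical
  let T₀ := MvPolynomial (Fin n) A
  have hk : ∀ Q : PrimeSpectrum T₀, KoszulLib.KAt I Q.asIdeal := by
    have h1 := KoszulLib.isRegularImmersion_mono (k' := .koszul) (fun _ _ _ hs => KoszulLib.koszul_seq_of_regular hs) h
    have h2 := (KoszulLib.spec_isRegularImmersion_iff (Iso.refl _) (CommRingCat.ofHom (Ideal.Quotient.mk I))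
      Ideal.Quotient.mk_surjective).mp (by simpa using h1)
    intro Q
    have h3 := h2 Q
    rwa [show RingHom.ker (CommRingCat.ofHom (Ideal.Quotient.mk I)).hom = I from Ideal.mk_ker] at h3
  let P : PrimeSpectrum T₀ := PrimeSpectrum.comap (Ideal.Quotient.mk I) q
  have hIP : I ≤ P.asIdeal := fun x hx => by
    show Ideal.Quotient.mk I x ∈ q.asIdeal
    rw [Ideal.Quotient.eq_zero_iff_mem.mpr hx]
    exact zero_mem _
  obtain ⟨g, hg, c, f, hk⟩ := hk P
  let L := Localization.Away g
  haveI : IsNoetherianRing L := IsLocalization.isNoetherianRing (Submonoid.powers g) L inferInstance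
  have hdisj : Disjoint (Submonoid.powers g : Set T₀) P.asIdeal := by
    rw [Set.disjoint_left]
    rintro _ ⟨k, rfl⟩ hm
    exact hg (P.isPrime.mem_of_pow_mem k hm)
  haveI hP' := IsLocalization.isPrime_of_isPrime_disjoint (Submonoid.powers g) L P.asIdeal P.isPrime hdisj
  obtain ⟨g', hg', hreg⟩ := KoszulLib.exists_wReg_away (P.asIdeal.map (algebraMap T₀ L)) (algebraMap T₀ L ∘ f)
    (fun i => Ideal.mem_map_of_mem _ (hIP (hk.1 i)))
    (KoszulLib.isQuasiRegular_of_h1 (KoszulLib.isH1Regular_of_acyclic hk.2.2))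
  obtain ⟨⟨b, ⟨_, k, rfl⟩⟩, hb⟩ := IsLocalization.surj (Submonoid.powers g) g'
  simp only at hb
  have hu : IsUnit (algebraMap T₀ L (g ^ k)) := by rw [map_pow]; exact (IsLocalization.Away.algebraMap_isUnit g).pow k
  have hbP : b ∉ P.asIdeal := fun hm => hg' (by
    rw [← Ideal.mul_unit_mem_iff_mem _ hu, hb]
    exact Ideal.mem_map_of_mem _ hm)
  let W := Localization.Away (algebraMap T₀ L b)
  let a := g * b
  haveI : IsLocalization.Away a W := IsLocalization.Away.mul' L W g b
  haveI : IsLocalization.Away g' W := by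
    refine IsLocalization.Away.of_associated (r := algebraMap T₀ L b) ?_
    rw [← hb]
    exact ⟨hu.unit⁻¹, by rw [mul_assoc, hu.mul_val_inv, mul_one]⟩
  have hregW := hreg W
  let e : W ≃ₐ[T₀] Localization.Away a := IsLocalization.algEquiv (Submonoid.powers a) _ _
  have hrega : RingTheory.Sequence.IsWeaklyRegular (Localization.Away a)
      (List.ofFn (algebraMap T₀ (Localization.Away a) ∘ f)) := by
    letI : Algebra W (Localization.Away a) := e.toRingEquiv.toRingHom.toAlgebra
    haveI : Module.Flat W (Localization.Away a) := RingHom.Flat.of_bijective (f := e.toRingEquiv.toRingHom) e.bijective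
    have h1 := hregW.of_flat (S := Localization.Away a)
    rw [List.map_ofFn] at h1
    have hfe : algebraMap W (Localization.Away a) ∘ algebraMap L W ∘ (algebraMap T₀ L ∘ f) = algebraMap T₀ (Localization.Away a) ∘ f := by
      funext i
      simp only [Function.comp_apply, ← IsScalarTower.algebraMap_apply T₀ L W]
      exact e.commutes (f i)
    rw [hfe] at h1
    exact h1
  have hspan : SyntLib.awayIdeal I a = SyntLib.awayIdeal (Ideal.span (Set.range f)) a := by
    refine le_antisymm (sup_le (Ideal.map_le_iff_le_comap.mpr fun x hx => ?_) le_sup_right)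
      (sup_le_sup_right (Ideal.map_mono (Ideal.span_le.mpr (by rintro _ ⟨i, rfl⟩; exact hk.1 i))) _)
    obtain ⟨m, hm⟩ := hk.mul_mem hx
    let u : MvPolynomial (Fin (n + 1)) A := MvPolynomial.rename Fin.castSucc a * MvPolynomial.X (Fin.last n)
    have h1 : u ^ m * MvPolynomial.rename Fin.castSucc x ∈ SyntLib.awayIdeal (Ideal.span (Set.range f)) a := by
      refine Submodule.mem_sup_left ?_
      have : u ^ m * MvPolynomial.rename Fin.castSucc x = (MvPolynomial.rename Fin.castSucc b * MvPolynomial.X (Fin.last n)) ^ m *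
          MvPolynomial.rename Fin.castSucc (g ^ m * x) := by
        simp only [u, a, map_mul, map_pow]; ring
      rw [this]
      exact Ideal.mul_mem_left _ _ (Ideal.mem_map_of_mem _ hm)
    have h2 : (1 - u ^ m) * MvPolynomial.rename Fin.castSucc x ∈ SyntLib.awayIdeal (Ideal.span (Set.range f)) a := by
      refine Ideal.mul_mem_right _ _ (Submodule.mem_sup_right (Ideal.mem_span_singleton.mpr ?_))
      have h3 : u - 1 ∣ u ^ m - 1 := sub_one_dvd_pow_sub_one u m
      rw [← neg_sub (u ^ m) 1]
      exact h3.neg_right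
    show MvPolynomial.rename Fin.castSucc x ∈ SyntLib.awayIdeal (Ideal.span (Set.range f)) a
    have h3 := add_mem h1 h2
    rwa [← add_mul, add_sub_cancel, one_mul] at h3
  let G : Fin (c + 1) → MvPolynomial (Fin (n + 1)) A :=
    Fin.cons (MvPolynomial.rename Fin.castSucc a * MvPolynomial.X (Fin.last n) - 1) (fun i => MvPolynomial.rename Fin.castSucc (f i))
  have hG : Ideal.ofList (List.ofFn G) = RingHom.ker (SyntLib.awayPres I a).toRingHom := by
    rw [SyntLib.ker_awayPres, hspan, SyntLib.awayIdeal_span, Fin.range_snoc, Ideal.ofList]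
    congr 1
    ext y
    simp [List.mem_ofFn, G, Fin.range_cons]
  have hgq : Ideal.Quotient.mk I a ∉ q.asIdeal := fun hm => (P.isPrime.mem_or_mem hm).elim hg hbP
  have e' : (MvPolynomial (Fin (n + 1)) A ⧸ Ideal.ofList (List.ofFn G)) ≃ₐ[A] Localization.Away (Ideal.Quotient.mk I a) :=
    (Ideal.quotientEquivAlgOfEq A hG).trans
      (Ideal.quotientKerAlgEquivOfSurjective (SyntLib.awayPres_surjective I a))
  refine ⟨Ideal.Quotient.mk I a, hgq, c + 1, G, ⟨SyntLib.isWeaklyRegular_cons_away f a hrega, fun htop => ?_⟩, ⟨e'.symm⟩⟩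
  haveI : Subsingleton (MvPolynomial (Fin (n + 1)) A ⧸ Ideal.ofList (List.ofFn G)) := by
    simp only [smul_eq_mul, Ideal.mul_top] at htop
    rw [Ideal.Quotient.subsingleton_iff]
    exact htop.symm
  haveI : Subsingleton (Localization.Away (Ideal.Quotient.mk I a)) := e'.symm.toEquiv.subsingleton
  obtain ⟨m, hm⟩ := (IsLocalization.map_eq_zero_iff (Submonoid.powers (Ideal.Quotient.mk I a)) (Localization.Away (Ideal.Quotient.mk I a)) 1).mp
    (Subsingleton.elim _ _)
  obtain ⟨j, hj⟩ := m.2
  rw [mul_one, ← hj] at hm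
  simp only at hm
  exact hgq (q.isPrime.mem_of_pow_mem j (by rw [hm]; exact zero_mem _))

end Groth.Agent.S18937
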