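import Groth.Statements.S18938
import Groth.Agent.SyntLib.Regular

set_option autoImplicit false
universe u
open Synt

namespace Groth.Agent.S18938

/-- Let A be a Noetherian commutative ring and B a syntomic A-algebra. Then Spec B is covered by basic
opens D(g) with B[1/g] isomorphic, as an A-algebra, to A[T_1, …, T_n]/(P_1, …, P_d) for a regular
sequence P_1, …, P_d (successive non-zero-divisors with nonzero last quotient) in the polynomial
ring A[T_1, …, T_n]. (The source states this for a syntomic scheme over Spec A, syntomic meaning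
flat, locally of finite presentation and locally a Koszul-regular immersion into a smooth scheme;
here syntomic is the ring-map notion with local complete intersection fibres, which agrees with it.) -/
theorem result
    (A : Type u) [CommRing A] [IsNoetherianRing A] (B : Type u) [CommRing B] [Algebra A B]
    (h : Synt.IsSyntomic A B) (q : PrimeSpectrum B) :
    ∃ g : B, g ∉ q.asIdeal ∧
      ∃ (n d : ℕ) (P : Fin d → MvPolynomial (Fin n) A),
        RingTheory.Sequence.IsRegular (MvPolynomial (Fin n) A) (List.ofFn P) ∧
        Nonempty (Localization.Away g ≃ₐ[A] (MvPolynomial (Fin n) A ⧸ Ideal.ofList (List.ofFn P))) := by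
  haveI := h.2.1
  obtain ⟨n, φ, hφ, hker⟩ := (Algebra.FinitePresentation.out (R := A) (A := B))
  obtain ⟨c, F, a, hcn, haq, hI, hreg, -, hFI, hkill⟩ := SyntLib.exists_regular_away φ hφ h q.asIdeal
  let T := Localization.Away a
  obtain ⟨e⟩ := SyntLib.exists_pres_away φ hφ F a hFI hkill
  let L : Fin (c + 1) → MvPolynomial (Fin (n + 1)) A :=
    Fin.cons (MvPolynomial.rename Fin.castSucc a * MvPolynomial.X (Fin.last n) - 1)
      (fun i => MvPolynomial.rename Fin.castSucc (F i))
  have hspan : Ideal.span (Set.range (SyntLib.snocPres F a)) = Ideal.ofList (List.ofFn L) := by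
    rw [Ideal.ofList]
    congr 1
    ext y
    simp [List.mem_ofFn, L, SyntLib.snocPres, Fin.range_snoc, Fin.range_cons]
  let e' := e.trans (Ideal.quotientEquivAlgOfEq A hspan)
  refine ⟨φ a, haq, n + 1, c + 1, L, ⟨SyntLib.isWeaklyRegular_cons_away F a hreg, fun htop => ?_⟩, ⟨e'⟩⟩
  rw [smul_eq_mul, Ideal.mul_top] at htop
  haveI : Subsingleton (MvPolynomial (Fin (n + 1)) A ⧸ Ideal.ofList (List.ofFn L)) :=
    Ideal.Quotient.subsingleton_iff.mpr htop.symm
  haveI : Subsingleton (Localization.Away (φ a)) := e'.toEquiv.subsingleton
  have h0 := (IsLocalization.subsingleton_iff (S := Localization.Away (φ a)) (M := Submonoid.powers (φ a))).mp inferInstance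
  obtain ⟨k, hk⟩ := h0
  exact haq (q.isPrime.mem_of_pow_mem k (by rw [show φ a ^ k = 0 from hk]; exact zero_mem _))

end Groth.Agent.S18938
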