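import Groth.Statements.S18939
import Groth.Agent.KoszulLib.Iff
import Groth.Agent.SyntLib.Rel

set_option autoImplicit false
universe u
open LCI

namespace Groth.Agent.S18939

/-- Let R be a commutative ring, I a proper ideal of R and f_1, …, f_r a Koszul-regular sequence of
elements of I generating I. Then I/I² is a free R/I-module of rank r, with basis the classes of f_1,
…, f_r. -/
theorem result {R : Type u} [CommRing R] {I : Ideal R} (hI : I ≠ ⊤)
    (r : ℕ) (f : Fin r → I) (hf : LCI.IsKoszulRegularSeq R (List.ofFn (fun i => (f i : R))))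
    (hfI : Ideal.span (Set.range (fun i => (f i : R))) = I) :
    ∃ b : Module.Basis (Fin r) (R ⧸ I) I.Cotangent, ∀ i, b i = I.toCotangent (f i) := by
  let F : Fin r → R := fun i => (f i : R)
  have hF : CAlgX.IsH1Regular F :=
    KoszulLib.isH1Regular_of_acyclic (KoszulLib.isKoszulRegularSeq_iff_acyclic.mp hf)
  let v : Fin r → I.Cotangent := fun i => I.toCotangent (f i)
  have hsum : ∀ a : Fin r → R, ∑ i, Ideal.Quotient.mk I (a i) • v i =
      I.toCotangent (∑ i, a i • f i) := by
    intro a
    rw [map_sum]
    exact Finset.sum_congr rfl fun i _ => by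
      rw [map_smul, ← Ideal.Quotient.algebraMap_eq, algebraMap_smul]
  have hval : ∀ a : Fin r → R, ((∑ i, a i • f i : I) : R) = ∑ i, a i * F i := by
    intro a; simp [F]
  have hli : LinearIndependent (R ⧸ I) v := by
    refine Fintype.linearIndependent_iff.mpr fun g hg i => ?_
    choose a ha using fun j => Ideal.Quotient.mk_surjective (g j)
    have hg' : ∑ j, Ideal.Quotient.mk I (a j) • v j = 0 := by
      rw [← hg]; exact Finset.sum_congr rfl fun j _ => by rw [ha]
    rw [hsum, Ideal.toCotangent_eq_zero, hval] at hg'
    obtain ⟨b, hb, hab⟩ := SyntLib.exists_coeff_of_mem_sq F (by rw [show Set.range F = Set.range (fun i => (f i : R)) from rfl, hfI]; exact hg')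
    have hrel := hF (fun j => a j - b j) (by simp [sub_mul, Finset.sum_sub_distrib, hab])
    have hmem : ∀ x ∈ KoszulLib.trivRel F, ∀ k, x k ∈ I := by
      intro x hx
      induction hx using Submodule.span_induction with
      | mem x hx =>
        obtain ⟨p, q, rfl⟩ := hx
        intro k
        simp only [Pi.sub_apply, Pi.single_apply]
        refine sub_mem ?_ ?_ <;> split_ifs <;> first | exact (f _).2 | exact zero_mem _
      | zero => intro k; simp
      | add x y _ _ h1 h2 => intro k; simpa using add_mem (h1 k) (h2 k)
      | smul c x _ h1 => intro k; simpa using Ideal.mul_mem_left _ c (h1 k)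
    have h3 := hmem _ hrel i
    rw [← ha i, Ideal.Quotient.eq_zero_iff_mem]
    have h4 : b i ∈ I := by
      have := hb i; rwa [show Set.range F = Set.range (fun i => (f i : R)) from rfl, hfI] at this
    simpa using add_mem h3 h4
  have hsp : ⊤ ≤ Submodule.span (R ⧸ I) (Set.range v) := by
    intro y _
    obtain ⟨⟨x, hx⟩, rfl⟩ := Ideal.toCotangent_surjective I y
    have hx' : x ∈ Ideal.span (Set.range F) := by rw [show Ideal.span (Set.range F) = I from hfI]; exact hx
    obtain ⟨e, he⟩ := Ideal.mem_span_range_iff_exists_fun.mp hx'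
    have : (⟨x, hx⟩ : I) = ∑ i, e i • f i := Subtype.ext (by rw [hval, he])
    rw [this, ← hsum]
    exact Submodule.sum_mem _ fun i _ => Submodule.smul_mem _ _ (Submodule.subset_span ⟨i, rfl⟩)
  exact ⟨Module.Basis.mk hli hsp, fun i => Module.Basis.mk_apply hli hsp i⟩

end Groth.Agent.S18939
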