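import Groth.Statements.S1894
import Groth.Agent.FpqcDescent.Immersion
import Groth.Agent.S1893
import Mathlib.AlgebraicGeometry.Morphisms.UniversallyOpen

set_option autoImplicit false
universe u
open CategoryTheory CategoryTheory.Limits AlgebraicGeometry
open Grpd

namespace Groth.Agent.S1894

/-- Let (U, R, s, t, c) be a groupoid scheme over S with s, t quasi-compact and flat and U
quasi-separated, and W ⊆ U a quasi-compact open. Then there are an R-invariant open V (s⁻¹V = t⁻¹V)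
and a quasi-compact open W' with W ⊆ V ⊆ W'. (A groupoid scheme carries U, R, s, t, c, e, i over S
with the groupoid axioms on T-points; 'finite locally free' is finite, flat and locally of finite
presentation; C ⊂ Γ(U) is the ring of functions a with s♯(a) = t♯(a) and M = Spec C.) -/
theorem result (S : Scheme.{u}) (G : Grpd.GroupoidScheme S) [QuasiCompact G.s] [Flat G.s] [QuasiCompact G.t] [Flat G.t] [QuasiSeparatedSpace G.U] (W : G.U.Opens) (hW : IsCompact (W : Set G.U)) : ∃ V W' : G.U.Opens, G.s ⁻¹ᵁ V = G.t ⁻¹ᵁ V ∧ IsCompact (W' : Set G.U) ∧ W ≤ V ∧ V ≤ W' := by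
  classical
  obtain ⟨ι, ⟨i₀⟩, Vq, hVq, heq⟩ := Groth.Agent.S1893.result S G W hW
  let C : Set G.U := ((Vq i₀ : Set G.U))ᶜ
  let D : TopologicalSpace.Closeds G.R := ⟨⇑G.s ⁻¹' C, (Vq i₀).2.isClosed_compl.preimage G.s.continuous⟩
  let I := Scheme.IdealSheafData.vanishingIdeal (X := G.R) D
  let g := I.subschemeι ≫ G.t
  have hI : Set.range I.subschemeι = ⇑G.s ⁻¹' C := by
    rw [I.range_subschemeι]
    exact Scheme.IdealSheafData.coe_support_vanishingIdeal _
  let Z : Set G.U := ⇑G.t '' (⇑G.s ⁻¹' C)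
  have hg : Set.range g = Z := by
    show Set.range (⇑(I.subschemeι ≫ G.t)) = _
    rw [Scheme.Hom.comp_base]
    simp only [TopCat.hom_comp, ContinuousMap.coe_comp, Set.range_comp, hI]
    rfl
  have hinv : ∀ r, G.s r ∈ Z → G.t r ∈ Z := by
    rintro r ⟨r₀, h₀, e⟩
    obtain ⟨p, hp₁, hp₂⟩ := Scheme.Pullback.exists_preimage_pullback (f := G.s) (g := G.t) r r₀ e.symm
    have hl : pullback.lift (pullback.fst G.s G.t) (pullback.snd G.s G.t) pullback.condition
        = 𝟙 _ := pullback.hom_ext (by simp) (by simp)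
    have h1 := G.comp_s (pullback.fst G.s G.t) (pullback.snd G.s G.t) pullback.condition
    have h2 := G.comp_t (pullback.fst G.s G.t) (pullback.snd G.s G.t) pullback.condition
    rw [hl, Category.id_comp] at h1 h2
    refine ⟨G.c p, ?_, ?_⟩
    · show G.s (G.c p) ∈ C
      rw [← Scheme.Hom.comp_apply, h1, Scheme.Hom.comp_apply, hp₂]
      exact h₀
    · rw [← Scheme.Hom.comp_apply, h2, Scheme.Hom.comp_apply, hp₁]
  have hstep : ∀ r, G.s r ∈ closure Z → G.t r ∈ closure Z := by
    intro r hr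
    rw [← hg] at hr
    obtain ⟨y, hy⟩ := Groth.Agent.FpqcDescent.exists_specializes_of_mem_closure g hr
    have hy' : g y ∈ Z := hg ▸ Set.mem_range_self y
    obtain ⟨r', hr', e'⟩ := (Flat.generalizingMap G.s) hy
    exact ((hr'.map G.t.continuous).mem_closed isClosed_closure
      (subset_closure (hinv r' (e' ▸ hy'))))
  have hsymm : ∀ r, G.t r ∈ closure Z → G.s r ∈ closure Z := by
    intro r hr
    have h1 : G.s (G.i r) = G.t r := by rw [← Scheme.Hom.comp_apply, G.i_s]
    have h2 : G.t (G.i r) = G.s r := by rw [← Scheme.Hom.comp_apply, G.i_t]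
    exact h2 ▸ hstep _ (h1 ▸ hr)
  let V : G.U.Opens := ⟨(closure Z)ᶜ, isClosed_closure.isOpen_compl⟩
  refine ⟨V, Vq i₀, ?_, hVq i₀, ?_, ?_⟩
  · ext r
    exact ⟨fun h h' => h (hsymm r h'), fun h h' => h (hstep r h')⟩
  · intro w hw hc
    obtain ⟨z, hzW, hzZ⟩ := mem_closure_iff.mp hc (W : Set G.U) W.2 hw
    obtain ⟨r, hr, rfl⟩ := hzZ
    have h1 : G.s (G.i r) = G.t r := by rw [← Scheme.Hom.comp_apply, G.i_s]
    have h2 : G.t (G.i r) = G.s r := by rw [← Scheme.Hom.comp_apply, G.i_t]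
    have h3 : G.t (G.i r) ∈ ⇑G.t '' (⇑G.s ⁻¹' (W : Set G.U)) :=
      ⟨G.i r, by show G.s (G.i r) ∈ W; rw [h1]; exact hzW, rfl⟩
    rw [heq] at h3
    have h4 := Set.mem_iInter.mp h3 i₀
    rw [h2] at h4
    exact hr h4
  · intro v hv
    by_contra hc
    refine hv (subset_closure ⟨G.e v, ?_, ?_⟩)
    · show G.s (G.e v) ∈ C
      rw [← Scheme.Hom.comp_apply, G.e_s]
      exact hc
    · rw [← Scheme.Hom.comp_apply, G.e_t]; rfl

end Groth.Agent.S1894
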