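import Groth.Statements.S18942
import Mathlib.RingTheory.WittVector.TeichmullerSeries
import Mathlib.RingTheory.WittVector.Truncated
import Mathlib.RingTheory.WittVector.Complete
import Mathlib.NumberTheory.Basic
import Mathlib.Algebra.BigOperators.Fin
-- import your own Groth.Agent.* helpers here

set_option autoImplicit false
universe u
open DPow

namespace Groth.Agent.S18942

/-- Let p be a prime, k a perfect field of characteristic p, n a natural number and x an element of
W_n(k), written here as the truncation of a Witt vector x over k. For any Witt vectors y_0, …,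
y_{n−1} over k lifting the components of x under the map y ↦ (y_0)^(p^n) (that is, (y_i)_0^(p^n) =
x_i), one has x = Σ_{i<n} p^i y_i^(p^(n−i)) in W_n(k). -/
theorem result (p : ℕ) [Fact p.Prime]
    (k : Type u) [Field k] [CharP k p] [PerfectRing k p] (n : ℕ) (x : WittVector p k)
    (y : Fin n → WittVector p k) (hy : ∀ i : Fin n, ((y i).coeff 0) ^ (p ^ n) = x.coeff i) :
    WittVector.truncate n x =
      WittVector.truncate n (∑ i : Fin n, (p : WittVector p k) ^ (i : ℕ) * (y i) ^ (p ^ (n - i))) := by
  rcases n with _ | n
  · exact TruncatedWittVector.ext fun i => i.elim0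
  rw [← sub_eq_zero, ← map_sub]
  change _ ∈ RingHom.ker _
  rw [WittVector.mem_ker_truncate, ← WittVector.mem_span_p_pow_iff_le_coeff_eq_zero, Ideal.mem_span_singleton]
  have hterm : ∀ i : Fin (n + 1), (p : WittVector p k) ^ (n + 1) ∣
      WittVector.teichmuller p (((frobeniusEquiv k p).symm ^ (i : ℕ)) (x.coeff i)) * (p : WittVector p k) ^ (i : ℕ)
        - (p : WittVector p k) ^ (i : ℕ) * (y i) ^ (p ^ (n + 1 - i)) := by
    intro i
    have hroot : ((frobeniusEquiv k p).symm ^ (i : ℕ)) (x.coeff i) = ((y i).coeff 0) ^ p ^ (n + 1 - i) := by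
      have hfix : ∀ (j : ℕ) (b : k), ((frobeniusEquiv k p).symm ^ j) (b ^ p ^ j) = b := by
        intro j
        induction j with
        | zero => intro b; simp
        | succ j ih =>
          intro b
          rw [pow_succ (frobeniusEquiv k p).symm j, RingAut.mul_apply, show p ^ (j + 1) = p ^ j * p from pow_succ p j, pow_mul,
            show (frobeniusEquiv k p).symm ((b ^ p ^ j) ^ p) = b ^ p ^ j from
              (frobeniusEquiv k p).symm_apply_apply _, ih]
      rw [← hfix i (((y i).coeff 0) ^ p ^ (n + 1 - i)), ← pow_mul, ← pow_add,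
        Nat.sub_add_cancel i.2.le, hy]
    rw [hroot, map_pow, mul_comm (WittVector.teichmuller p _ ^ _), ← mul_sub]
    have h0 : (p : WittVector p k) ∣ WittVector.teichmuller p ((y i).coeff 0) - y i := by
      rw [← Ideal.mem_span_singleton, ← WittVector.ker_constantCoeff, RingHom.mem_ker, map_sub, sub_eq_zero]
      rfl
    have h1 := dvd_sub_pow_of_dvd_sub (R := WittVector p k) h0 (n + 1 - i)
    refine dvd_trans ?_ (mul_dvd_mul_left _ h1)
    rw [← pow_add]
    exact pow_dvd_pow _ (by omega)
  have h2 := WittVector.dvd_sub_sum_teichmuller_iterateFrobeniusEquiv_coeff x n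
  rw [show Finset.Iic n = Finset.range (n + 1) by ext; simp,
    ← Fin.sum_univ_eq_sum_range (fun i => WittVector.teichmuller p (((frobeniusEquiv k p).symm ^ i)
      (x.coeff i)) * (p : WittVector p k) ^ i) (n + 1)] at h2
  have h3 := Finset.dvd_sum (s := Finset.univ) fun i _ => hterm i
  rw [Finset.sum_sub_distrib] at h3
  have := dvd_add h2 h3
  rwa [sub_add_sub_cancel] at this

end Groth.Agent.S18942
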