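import Groth.Statements.S18943
import Mathlib.Analysis.Calculus.ParametricIntervalIntegral
import Mathlib.Analysis.Calculus.ContDiff.Deriv
import Mathlib.MeasureTheory.Integral.IntervalIntegral.FundThmCalculus
import Mathlib.Tactic

set_option autoImplicit false
set_option linter.style.haveILetI false

open scoped ContDiff
open CInfGerm

namespace Groth.Agent.S18943

/-- Let f be an infinitely differentiable real-valued function on the real line with f(0) = 0. Then f(x)
= x·g(x) for an infinitely differentiable function g. (The source phrases this for germs at 0: the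
maximal ideal of the local ring of germs of smooth functions at the origin is generated by the
coordinate t; the global form stated here is what its argument, smooth extension of f(x)/x across 0,
gives.) -/
theorem result (f : ℝ → ℝ) (hf : ContDiff ℝ ∞ f) (h0 : f 0 = 0) :
    ∃ g : ℝ → ℝ, ContDiff ℝ ∞ g ∧ ∀ x : ℝ, f x = x * g x := by
  have hd : ∀ (k : ℕ) (φ : ℝ → ℝ), ContDiff ℝ ∞ φ → ∀ x,
      HasDerivAt (fun x => ∫ t in (0 : ℝ)..1, t ^ k * φ (t * x))
        (∫ t in (0 : ℝ)..1, t ^ (k + 1) * deriv φ (t * x)) x := by
    intro k φ hφ x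
    have hφ' : Continuous (deriv φ) := hφ.continuous_deriv (by simp)
    obtain ⟨M, hM⟩ := (isCompact_Icc (a := -(|x| + 1)) (b := |x| + 1)).exists_bound_of_continuousOn
      hφ'.continuousOn
    refine (intervalIntegral.hasDerivAt_integral_of_dominated_loc_of_deriv_le
      (F := fun x t => t ^ k * φ (t * x)) (F' := fun x t => t ^ (k + 1) * deriv φ (t * x))
      (bound := fun _ => M) (s := Metric.ball x 1) (Metric.ball_mem_nhds x one_pos) ?_ ?_ ?_ ?_
      intervalIntegrable_const ?_).2
    · exact Filter.Eventually.of_forall fun y =>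
        ((continuous_pow k).mul (hφ.continuous.comp (continuous_id.mul continuous_const))).aestronglyMeasurable
    · exact ((continuous_pow k).mul
        (hφ.continuous.comp (continuous_id.mul continuous_const))).intervalIntegrable _ _
    · exact ((continuous_pow (k + 1)).mul
        (hφ'.comp (continuous_id.mul continuous_const))).aestronglyMeasurable
    · refine Filter.Eventually.of_forall fun t ht y hy => ?_
      rw [Set.uIoc_of_le zero_le_one] at ht
      rw [Metric.mem_ball, Real.dist_eq] at hy
      have hy' : |t * y| ≤ |x| + 1 := by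
        rw [abs_mul, abs_of_pos ht.1]
        have := abs_sub_abs_le_abs_sub y x
        calc t * |y| ≤ 1 * |y| := mul_le_mul_of_nonneg_right ht.2 (abs_nonneg y)
          _ ≤ |x| + 1 := by linarith
      have hb := hM (t * y) (abs_le.1 hy')
      rw [norm_mul, norm_pow, Real.norm_eq_abs, abs_of_pos ht.1]
      calc t ^ (k + 1) * ‖deriv φ (t * y)‖ ≤ 1 * ‖deriv φ (t * y)‖ :=
            mul_le_mul_of_nonneg_right (pow_le_one₀ ht.1.le ht.2) (norm_nonneg _)
        _ ≤ M := by rw [one_mul]; exact hb
    · refine Filter.Eventually.of_forall fun t _ y _ => ?_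
      have h1 : HasDerivAt φ (deriv φ (t * y)) (t * y) :=
        ((hφ.differentiable (by simp)) _).hasDerivAt
      have h2 := (h1.comp y ((hasDerivAt_id y).const_mul t)).const_mul (t ^ k)
      simp only [mul_one, Function.comp_def, id] at h2
      exact h2.congr_deriv (by ring)
  have hs : ∀ (m k : ℕ) (φ : ℝ → ℝ), ContDiff ℝ ∞ φ →
      ContDiff ℝ m (fun x => ∫ t in (0 : ℝ)..1, t ^ k * φ (t * x)) := by
    intro m
    induction m with
    | zero =>
      intro k φ hφ
      exact contDiff_zero.2 (continuous_iff_continuousAt.2 fun x => (hd k φ hφ x).continuousAt)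
    | succ m ih =>
      intro k φ hφ
      rw [show ((m + 1 : ℕ) : WithTop ℕ∞) = (m : WithTop ℕ∞) + 1 by push_cast; rfl,
        contDiff_succ_iff_deriv]
      refine ⟨fun x => (hd k φ hφ x).differentiableAt, by simp, ?_⟩
      rw [funext fun x => (hd k φ hφ x).deriv]
      exact ih (k + 1) (deriv φ) (contDiff_infty_iff_deriv.1 hφ).2
  have hf' : ContDiff ℝ ∞ (deriv f) := (contDiff_infty_iff_deriv.1 hf).2
  refine ⟨fun x => ∫ t in (0 : ℝ)..1, t ^ 0 * deriv f (t * x),
    contDiff_infty.2 fun m => hs m 0 _ hf', fun x => ?_⟩
  have hder : ∀ t, HasDerivAt (fun t => f (t * x)) (x * deriv f (t * x)) t := by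
    intro t
    have h1 : HasDerivAt f (deriv f (t * x)) (t * x) := ((hf.differentiable (by simp)) _).hasDerivAt
    have h2 := h1.comp t ((hasDerivAt_id t).mul_const x)
    simp only [one_mul, Function.comp_def, id] at h2
    rwa [mul_comm]
  have h := intervalIntegral.integral_eq_sub_of_hasDerivAt (a := 0) (b := 1) (fun t _ => hder t)
    ((continuous_const.mul (hf'.continuous.comp (continuous_id.mul continuous_const))).intervalIntegrable _ _)
  simp only [intervalIntegral.integral_const_mul, zero_mul, one_mul, h0, sub_zero] at h
  simp [h]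

end Groth.Agent.S18943
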