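import Groth.Statements.S18944
import Groth.Agent.KoszulLib.SchStalk
import Mathlib.RingTheory.Regular.Flat

set_option autoImplicit false
universe u
open CategoryTheory AlgebraicGeometry
open RegImm

namespace Groth.Agent.S18944

/-- Let i : Z → X be a regular immersion of schemes (kind: successive non-zero-divisors). Then for every
point z of Z the kernel of the induced map of local rings O_{X, i(z)} → O_{Z, z} is generated by a
regular sequence of O_{X, i(z)}. (No Noetherian hypothesis; over a locally Noetherian X the converse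
also holds.) -/
theorem result {Z X : Scheme.{u}} (i : Z ⟶ X)
    (h : RegImm.IsRegularImmersion RegImm.Kind.regular i) (z : Z) :
    ∃ rs : List (X.presheaf.stalk (i z)),
      RingTheory.Sequence.IsRegular (X.presheaf.stalk (i z)) rs ∧
        RingHom.ker (i.stalkMap z).hom = Ideal.ofList rs := by
  obtain ⟨U, hU, hc, rs, hrs, hker⟩ := h.2 z
  letI := (X.presheaf.germ U.1 (i z) hU).hom.toAlgebra
  haveI := U.2.isLocalization_stalk ⟨i z, hU⟩
  haveI : Module.Flat Γ(X, U.1) (X.presheaf.stalk (i z)) :=
    IsLocalization.flat _ (U.2.primeIdealOf ⟨i z, hU⟩).asIdeal.primeCompl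
  have hK : RingHom.ker (i.stalkMap z).hom =
      Ideal.ofList (rs.map (algebraMap Γ(X, U.1) (X.presheaf.stalk (i z)))) := by
    rw [KoszulLib.ker_stalkMap_eq i z U hc hU, hker, Ideal.map_ofList]
    rfl
  refine ⟨_, ⟨hrs.toIsWeaklyRegular.of_flat, ?_⟩, hK⟩
  intro htop
  exact RingHom.ker_ne_top (i.stalkMap z).hom (hK.trans (by simpa using htop.symm))

end Groth.Agent.S18944
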