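import Groth.Statements.S18945
import Groth.Agent.S18934
import Groth.Agent.SyntLib.Comp
import Groth.Agent.SyntLib.Mor

set_option autoImplicit false
universe u
open CategoryTheory AlgebraicGeometry
open Synt

namespace Groth.Agent.S18945

theorem pow_aux (p : ℕ) {R A C : CommRingCat.{u}} (r : R ⟶ A) (e : A ⟶ C) (φ : R ⟶ C) (h : φ = r ≫ e)
    (a : R) (b : A) (hb : b ^ p = r a) : (e b) ^ p = φ a := by
  subst h
  rw [← map_pow, hb]
  rfl

/-- Let p be a prime, X a scheme and a a global section of the structure sheaf of X. There is a covering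
of X for the syntomic topology, that is a jointly surjective family of syntomic morphisms X_i → X,
such that the restriction of a to each X_i is a p-th power. (The source states the surjectivity of
the p-th power map of the structure sheaf on the small syntomic site of a syntomic scheme over a
perfect field of characteristic p; the covering it uses elsewhere, adjoining a p-th root T^p = a
over affine pieces, gives the statement for every scheme, which is the form given here.) -/
theorem result (p : ℕ) [Fact p.Prime] (X : Scheme.{u}) (a : Γ(X, ⊤)) :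
    ∃ 𝒰 : Scheme.Cover.{u} (Scheme.precoverage @Synt.IsSyntomicMor) X,
      ∀ i : 𝒰.I₀, ∃ b : Γ(𝒰.X i, ⊤), b ^ p = (𝒰.f i).appTop a := by
  classical
  have hp : p ≠ 0 := (Fact.out : p.Prime).ne_zero
  let r : (U : X.affineOpens) → Γ(X, U.1) := fun U => X.presheaf.map (homOfLE le_top).op a
  let B : X.affineOpens → Type u := fun U => AdjoinRoot (Polynomial.X ^ p - Polynomial.C (r U))
  let g : (U : X.affineOpens) → (CommRingCat.of Γ(X, U.1) ⟶ CommRingCat.of (B U)) := fun U =>
    CommRingCat.ofHom (algebraMap Γ(X, U.1) (AdjoinRoot (Polynomial.X ^ p - Polynomial.C (r U))))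
  let f : (U : X.affineOpens) → (Spec (CommRingCat.of (B U)) ⟶ X) := fun U => Spec.map (g U) ≫ U.2.fromSpec
  have hid : RingHom.ContainsIdentities @SyntLib.Syn := fun R _ =>
    SyntLib.syn_of_smooth (RingHom.id R) (RingHom.Smooth.id R)
  haveI : MorphismProperty.ContainsIdentities SyntLib.SynMor.{u} :=
    HasRingHomProperty.containsIdentities hid
  have hsyn : ∀ U, Synt.IsSyntomicMor (f U) := by
    intro U
    rw [SyntLib.isSyntomicMor_iff]
    refine SyntLib.synMor_comp ?_ (IsZariskiLocalAtSource.of_isOpenImmersion U.2.fromSpec)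
    rw [HasRingHomProperty.Spec_iff (P := SyntLib.SynMor.{u})]
    show SyntLib.Syn (algebraMap Γ(X, U.1) (AdjoinRoot (Polynomial.X ^ p - Polynomial.C (r U))))
    rw [SyntLib.syn_algebraMap]
    exact (S18934.result p _ _).1
  have hsurj : ∀ (U : X.affineOpens) (x : X), x ∈ U.1 → ∃ y, f U y = x := by
    intro U x hx
    obtain ⟨z, hz⟩ : x ∈ Set.range U.2.fromSpec := by rw [U.2.range_fromSpec]; exact hx
    haveI := (S18934.result p Γ(X, U.1) (r U)).2
    obtain ⟨y, hy⟩ := PrimeSpectrum.comap_surjective_of_faithfullyFlat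
      (B := AdjoinRoot (Polynomial.X ^ p - Polynomial.C (r U))) z
    exact ⟨y, (congrArg U.2.fromSpec hy).trans hz⟩
  refine ⟨Scheme.Cover.mkOfCovers X.affineOpens (fun U => Spec (CommRingCat.of (B U))) f
    (fun x => ?_) hsyn, fun U => ?_⟩
  · obtain ⟨U, hU, hx, -⟩ := exists_isAffineOpen_mem_and_subset (x := x) (U := ⊤) trivial
    exact ⟨⟨U, hU⟩, hsurj ⟨U, hU⟩ x hx⟩
  · have h1 : (f U).appTop = U.2.fromSpec.appTop ≫ (Spec.map (g U)).appTop := Scheme.Hom.comp_appTop _ _
    have h2 : U.2.fromSpec.appTop = X.presheaf.map (homOfLE le_top).op ≫ (Scheme.ΓSpecIso Γ(X, U.1)).inv := by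
      rw [Scheme.Hom.appTop, U.2.fromSpec_app_of_le ⊤ le_top]
      simp
    have h3 : (f U).appTop = X.presheaf.map (homOfLE le_top).op ≫ g U ≫ (Scheme.ΓSpecIso (CommRingCat.of (B U))).inv := by
      rw [h1, h2, Category.assoc]
      congr 1
      exact (Scheme.ΓSpecIso_inv_naturality (g U)).symm
    have h4 : (AdjoinRoot.root (Polynomial.X ^ p - Polynomial.C (r U))) ^ p =
        algebraMap Γ(X, U.1) (AdjoinRoot (Polynomial.X ^ p - Polynomial.C (r U))) (r U) := by
      have h := AdjoinRoot.eval₂_root (Polynomial.X ^ p - Polynomial.C (r U))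
      rw [Polynomial.eval₂_sub, Polynomial.eval₂_X_pow, Polynomial.eval₂_C, sub_eq_zero] at h
      exact h
    exact ⟨_, pow_aux p (X.presheaf.map (homOfLE le_top).op ≫ g U)
      (Scheme.ΓSpecIso (CommRingCat.of (B U))).inv (f U).appTop (h3.trans (Category.assoc _ _ _).symm) a
      (AdjoinRoot.root (Polynomial.X ^ p - Polynomial.C (r U))) h4⟩

end Groth.Agent.S18945
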