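import Groth.Statements.S18946
import Mathlib

set_option autoImplicit false
universe u
open scoped BigOperators
open InvQ

namespace Groth.Agent.S18946

/-- Let k be an algebraically closed field of characteristic zero and n a natural number, and let the
torus of (n+1)-tuples of units of k with product 1 act on the polynomial ring k[t_0, ..., t_n] by
rescaling each variable t_i by the i-th unit. A polynomial is fixed by every such rescaling if and
only if it lies in the k-subalgebra generated by the product t_0 t_1 ... t_n. (This is the
computation of the ring of functions on affine (n+1)-space invariant under the maximal diagonal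
torus of the special linear group, identified with the polynomial ring in the single coordinate t =
t_0 ... t_n of the line it maps to by the product map; invariance is tested on k-valued points of
the torus, which over an infinite field is the same as invariance under the group scheme.) -/
theorem result
    (k : Type u) [Field k] [IsAlgClosed k] [CharZero k] (n : ℕ)
    (f : MvPolynomial (Fin (n + 1)) k) :
    (∀ σ : Fin (n + 1) → kˣ, ∏ i, (σ i : k) = 1 →
        MvPolynomial.aeval (fun i => MvPolynomial.C (σ i : k) * MvPolynomial.X i) f = f) ↔
      f ∈ Algebra.adjoin k ({∏ i : Fin (n + 1), MvPolynomial.X i} : Set (MvPolynomial (Fin (n + 1)) k)) := by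
  classical
  have hscale : ∀ σ : Fin (n + 1) → kˣ, ∀ (g : MvPolynomial (Fin (n + 1)) k) (m : Fin (n + 1) →₀ ℕ),
      (MvPolynomial.aeval (fun i => MvPolynomial.C (σ i : k) * MvPolynomial.X i) g).coeff m = (∏ i, (σ i : k) ^ m i) * g.coeff m := by
    intro σ g m
    induction g using MvPolynomial.induction_on' with
    | add a b ha hb => rw [map_add, MvPolynomial.coeff_add, MvPolynomial.coeff_add, ha, hb, mul_add]
    | monomial d c =>
      have : MvPolynomial.aeval (fun i => MvPolynomial.C (σ i : k) * MvPolynomial.X i) (MvPolynomial.monomial d c) =
          MvPolynomial.monomial d ((∏ i, (σ i : k) ^ d i) * c) := by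
        rw [MvPolynomial.aeval_monomial, Finsupp.prod_fintype _ _ (fun i => pow_zero _)]
        simp only [mul_pow, Finset.prod_mul_distrib, ← map_pow, ← map_prod]
        rw [MvPolynomial.monomial_eq, Finsupp.prod_fintype _ _ (fun i => pow_zero _), MvPolynomial.algebraMap_eq, map_mul]
        ring
      rw [this, MvPolynomial.coeff_monomial, MvPolynomial.coeff_monomial]
      split_ifs with h
      · rw [h]
      · rw [mul_zero]
  refine ⟨fun h => ?_, fun h σ hσ => ?_⟩
  · rw [f.as_sum]
    refine Subalgebra.sum_mem _ fun m hm => ?_
    have heq : ∀ i j, m i = m j := by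
      intro i j
      by_contra hne
      have hij : i ≠ j := fun e => hne (e ▸ rfl)
      let t : kˣ := Units.mk0 (2 : k) two_ne_zero
      let σ : Fin (n + 1) → kˣ := fun l => if l = i then t else if l = j then t⁻¹ else 1
      have hprod : ∀ e : Fin (n + 1) → ℕ, ∏ l, (σ l : k) ^ e l = (2 : k) ^ e i * ((2 : k)⁻¹) ^ e j := fun e => by
        rw [Fintype.prod_eq_mul i j hij]
        · simp [σ, t, hij.symm]
        · intro l hl; simp [σ, hl.1, hl.2]
      have hσ1 : ∏ l, (σ l : k) = 1 := by
        have e1 := hprod fun _ => 1
        rw [pow_one, pow_one, mul_inv_cancel₀ (two_ne_zero : (2 : k) ≠ 0)] at e1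
        rw [← e1]
        exact Finset.prod_congr rfl fun l _ => (pow_one _).symm
      have h1 : (MvPolynomial.aeval (fun i => MvPolynomial.C (σ i : k) * MvPolynomial.X i) f).coeff m = f.coeff m :=
        congrArg (fun q => MvPolynomial.coeff m q) (h σ hσ1)
      rw [hscale σ f m, hprod fun l => m l] at h1
      have h2 : (2 : k) ^ m i * ((2 : k)⁻¹) ^ m j = 1 :=
        mul_right_cancel₀ (MvPolynomial.mem_support_iff.1 hm) (h1.trans (one_mul _).symm)
      rw [inv_pow, mul_inv_eq_one₀ (pow_ne_zero _ two_ne_zero)] at h2
      have : ((2 ^ m i : ℕ) : k) = ((2 ^ m j : ℕ) : k) := by push_cast; exact h2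
      exact hne (Nat.pow_right_injective le_rfl (Nat.cast_injective this))
    have : MvPolynomial.monomial m (f.coeff m) = MvPolynomial.C (f.coeff m) * (∏ i : Fin (n + 1), MvPolynomial.X i) ^ m 0 := by
      rw [MvPolynomial.monomial_eq, Finsupp.prod_fintype _ _ (fun i => pow_zero _), ← Finset.prod_pow]
      exact congrArg _ (Finset.prod_congr rfl fun i _ => by rw [heq i 0])
    rw [this]
    refine Subalgebra.mul_mem _ ?_ (Subalgebra.pow_mem _ (Algebra.subset_adjoin (Set.mem_singleton _)) _)
    rw [← MvPolynomial.algebraMap_eq]
    exact Subalgebra.algebraMap_mem _ _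
  · induction h using Algebra.adjoin_induction with
    | mem a ha =>
      obtain rfl := ha
      rw [map_prod]
      simp only [MvPolynomial.aeval_X, Finset.prod_mul_distrib, ← map_prod, hσ, map_one, one_mul]
    | algebraMap c => simp
    | add a b _ _ ha hb => rw [map_add, ha, hb]
    | mul a b _ _ ha hb => rw [map_mul, ha, hb]

end Groth.Agent.S18946
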