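import Groth.Statements.S18947
import Mathlib

set_option autoImplicit false
universe u v
open GalTw

namespace Groth.Agent.S18947

/-- Let a group Γ act on a group A by group automorphisms and let z be a 1-cocycle of Γ with values in
A. The underlying set of A with the twisted action σ • a = z(σ) · σ(a) is a transitive Γ-set if and
only if the map z : Γ → A is surjective. (In the source Γ is the absolute Galois group of a field k,
A the geometric points of a finite étale group scheme G, the twisted set is the set of geometric
points of the G-torsor attached to z, and transitivity is connectedness of that torsor; the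
equivalence is stated here for an arbitrary action, with no finiteness or continuity hypothesis.) -/
theorem result {Γ : Type u} {A : Type v} [Group Γ] [Group A]
    [MulDistribMulAction Γ A] (z : GpH1.OneCocycle Γ A) :
    MulAction.IsPretransitive Γ (GalTw.Tw z A) ↔ Function.Surjective z.1 := by
  constructor
  · intro h a
    obtain ⟨σ, hσ⟩ := MulAction.exists_smul_eq Γ (GalTw.Tw.mk z (1 : A)) (GalTw.Tw.mk z a)
    rw [GalTw.Tw.smul_def] at hσ
    refine ⟨σ, ?_⟩
    have := (GalTw.Tw.mk z).injective hσ
    rwa [smul_one, smul_eq_mul, mul_one] at this
  · intro h
    refine (MulAction.isPretransitive_iff_base (GalTw.Tw.mk z (1 : A))).2 fun m => ?_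
    obtain ⟨σ, hσ⟩ := h ((GalTw.Tw.mk z).symm m)
    refine ⟨σ, ?_⟩
    rw [GalTw.Tw.smul_def, smul_one, smul_eq_mul, mul_one, hσ, Equiv.apply_symm_apply]

end Groth.Agent.S18947
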