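import Groth.Statements.S18948
import Mathlib

set_option autoImplicit false
universe u v
open CExt

namespace Groth.Agent.S18948

/-- Let f : E → G be a surjective homomorphism of groups whose kernel is central in E, and let x ∈ E.
Then f maps the conjugacy class of x bijectively onto the conjugacy class of f(x) if and only if
every element of G commuting with f(x) is the image of some element of E commuting with x. (In the
source E → G is the central extension, with kernel the roots of unity, attached to a Brauer class of
the classifying stack of a finite tame étale group scheme, and a conjugacy class of E mapping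
bijectively onto a given class of G is a marking; the equivalence is stated here for an arbitrary
central extension of abstract groups.) -/
theorem result {E : Type u} {G : Type v} [Group E] [Group G]
    (f : E →* G) (hf : Function.Surjective f) (hker : f.ker ≤ Subgroup.center E) (x : E) :
    Set.BijOn f (MulAction.orbit (ConjAct E) x) (MulAction.orbit (ConjAct G) (f x)) ↔
      ∀ g : G, g * f x = f x * g → ∃ e : E, f e = g ∧ e * x = x * e := by
  constructor
  · intro h g hg
    obtain ⟨e, rfl⟩ := hf g
    refine ⟨e, rfl, ?_⟩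
    have hm : e * x * e⁻¹ ∈ MulAction.orbit (ConjAct E) x := ⟨ConjAct.toConjAct e, rfl⟩
    have := h.injOn hm (MulAction.mem_orbit_self x) (by rw [map_mul, map_mul, map_inv, hg, mul_inv_cancel_right])
    rwa [mul_inv_eq_iff_eq_mul] at this
  · intro h
    refine ⟨?_, ?_, ?_⟩
    · rintro _ ⟨c, rfl⟩
      refine ⟨ConjAct.toConjAct (f (ConjAct.ofConjAct c)), ?_⟩
      simp [ConjAct.smul_def]
    · rintro _ ⟨c, rfl⟩ _ ⟨d, rfl⟩ hcd
      simp only [ConjAct.smul_def] at hcd ⊢
      set a := ConjAct.ofConjAct c
      set b := ConjAct.ofConjAct d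
      rw [map_mul, map_mul, map_mul, map_mul, map_inv, map_inv] at hcd
      obtain ⟨e, he, hex⟩ := h ((f b)⁻¹ * f a) (by
        calc (f b)⁻¹ * f a * f x = (f b)⁻¹ * (f a * f x * (f a)⁻¹) * f a := by group
          _ = f x * ((f b)⁻¹ * f a) := by rw [hcd]; group)
      have hk : (b⁻¹ * a) * e⁻¹ ∈ f.ker := by simp [MonoidHom.mem_ker, he]
      have hc := Subgroup.mem_center_iff.1 (hker hk) x
      have h3 : b⁻¹ * a * x = x * (b⁻¹ * a) := by
        calc b⁻¹ * a * x = (b⁻¹ * a * e⁻¹) * (e * x) := by group
          _ = (b⁻¹ * a * e⁻¹) * (x * e) := by rw [hex]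
          _ = ((b⁻¹ * a * e⁻¹) * x) * e := by group
          _ = (x * (b⁻¹ * a * e⁻¹)) * e := by rw [hc]
          _ = x * (b⁻¹ * a) := by group
      calc a * x * a⁻¹ = b * (b⁻¹ * a * x) * a⁻¹ := by group
        _ = b * x * b⁻¹ := by rw [h3]; group
    · rintro _ ⟨c, rfl⟩
      obtain ⟨a, ha⟩ := hf (ConjAct.ofConjAct c)
      refine ⟨a * x * a⁻¹, ⟨ConjAct.toConjAct a, rfl⟩, ?_⟩
      simp [ConjAct.smul_def, ha]

end Groth.Agent.S18948
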