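import Groth.Statements.S18951
import Mathlib

set_option autoImplicit false
universe u
open OrbPic

namespace Groth.Agent.S18951

/-- Let G be a group and C ⊆ G a subset that generates G. Then the projection (χ, w) ↦ w from the group
of geometric partial orbifold line bundles with respect to C to functions G → ℚ is injective, its
image contains every conjugation-invariant integer-valued function vanishing at 1 and outside C, and
the group is torsion-free. (The source works with the geometric points of a tame finite étale group
scheme, characters with values in roots of unity and weights on conjugacy classes of the Tate twist;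
here these are identified with a group, homomorphisms to ℚ/ℤ and class functions as the source does
after choosing roots of unity. The case C = G ∖ {1} is the statement for full orbifold line
bundles.) -/
theorem result (G : Type u) [Group G] (C : Set G)
    (hC : Subgroup.closure C = ⊤) :
    Set.InjOn (fun p : (Additive G →+ W4c6brauerbgmalle.QmodZ) × (G → ℚ) => p.2) (W4c6brauerbgmalle.picOrb G C) ∧
      (∀ w ∈ W4c6brauerbgmalle.intWeights G C, ((0 : Additive G →+ W4c6brauerbgmalle.QmodZ), w) ∈ W4c6brauerbgmalle.picOrb G C) ∧
      ∀ (n : ℕ) (p : (Additive G →+ W4c6brauerbgmalle.QmodZ) × (G → ℚ)), p ∈ W4c6brauerbgmalle.picOrb G C → n ≠ 0 →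
        n • p = 0 → p = 0 := by
  have hext : ∀ χ χ' : Additive G →+ W4c6brauerbgmalle.QmodZ,
      (∀ g ∈ C, χ (Additive.ofMul g) = χ' (Additive.ofMul g)) → χ = χ' := by
    intro χ χ' h
    refine AddMonoidHom.ext fun x => ?_
    suffices key : ∀ a : G, a ∈ Subgroup.closure C → χ (Additive.ofMul a) = χ' (Additive.ofMul a) from
      key x.toMul (by rw [hC]; trivial)
    intro a hx
    induction hx using Subgroup.closure_induction with
    | mem g hg => exact h g hg
    | one => exact (map_zero χ).trans (map_zero χ').symm
    | mul a b _ _ ha hb =>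
      show χ (Additive.ofMul a + Additive.ofMul b) = χ' (Additive.ofMul a + Additive.ofMul b)
      rw [map_add, map_add]
      exact congrArg₂ (· + ·) ha hb
    | inv a _ ha =>
      show χ (-Additive.ofMul a) = χ' (-Additive.ofMul a)
      rw [map_neg, map_neg]
      exact congrArg Neg.neg ha
  have hinj : Set.InjOn (fun p : (Additive G →+ W4c6brauerbgmalle.QmodZ) × (G → ℚ) => p.2)
      (W4c6brauerbgmalle.picOrb G C) := by
    rintro ⟨χ, w⟩ hp ⟨χ', w'⟩ hq (rfl : w = w')
    exact Prod.ext (hext χ χ' fun g hg => (hp.2.2.2 g hg).symm.trans (hq.2.2.2 g hg)) rfl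
  refine ⟨hinj, fun w hw => ⟨hw.1, hw.2.1, hw.2.2.1, fun g _ => ?_⟩, fun n p hp hn h => ?_⟩
  · obtain ⟨k, hk⟩ := hw.2.2.2 g
    show W4c6brauerbgmalle.toQmodZ (w g) = 0
    refine (QuotientAddGroup.eq_zero_iff _).2 (AddSubgroup.mem_zmultiples_iff.2 ⟨k, ?_⟩)
    rw [hk, zsmul_one]
  · refine hinj hp (AddSubgroup.zero_mem _) (funext fun g => ?_)
    have h2 : n • p.2 g = 0 := congrArg (fun q : (Additive G →+ W4c6brauerbgmalle.QmodZ) × (G → ℚ) => q.2 g) h
    exact (smul_eq_zero.1 h2).resolve_left hn

end Groth.Agent.S18951
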