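import Groth.Statements.S18952
import Mathlib

set_option autoImplicit false
universe u
open OrbPic

namespace Groth.Agent.S18952

/-- Let G be a group and C ⊆ G a subset stable under conjugation. Then (χ, w) ↦ χ maps the group of
geometric partial orbifold line bundles with respect to C onto all characters G → ℚ/ℤ, and a pair in
its kernel (χ trivial) has w a conjugation-invariant integer-valued function vanishing at 1 and
outside C: with the inclusion of such functions this is the exact sequence 0 → Hom(C/conj, ℤ) → Pic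
→ Hom(G, ℚ/ℤ) → 0 over a separably closed field. (As in the source after a choice of roots of unity,
the group G stands for the geometric points of a tame finite étale group scheme, characters are
homomorphisms to ℚ/ℤ and weights are class functions on G.) -/
theorem result (G : Type u) [Group G] (C : Set G)
    (hC : ∀ g h : G, g ∈ C → h * g * h⁻¹ ∈ C) :
    (∀ χ : Additive G →+ W4c6brauerbgmalle.QmodZ, ∃ w : G → ℚ, (χ, w) ∈ W4c6brauerbgmalle.picOrb G C) ∧
      (∀ p : (Additive G →+ W4c6brauerbgmalle.QmodZ) × (G → ℚ), p ∈ W4c6brauerbgmalle.picOrb G C → p.1 = 0 →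
        p.2 ∈ W4c6brauerbgmalle.intWeights G C) := by
  classical
  refine ⟨fun χ => ?_, fun p hp h0 => ⟨hp.1, hp.2.1, hp.2.2.1, fun g => ?_⟩⟩
  · have hconj : ∀ g h : G, χ (Additive.ofMul (h * g * h⁻¹)) = χ (Additive.ofMul g) := fun g h => by
      rw [ofMul_mul, ofMul_mul, ofMul_inv, map_add, map_add, map_neg]
      abel
    have hmem : ∀ g h : G, h * g * h⁻¹ ∈ C ↔ g ∈ C := fun g h => ⟨fun hg => by
      have e := hC _ h⁻¹ hg
      have e2 : h⁻¹ * (h * g * h⁻¹) * h⁻¹⁻¹ = g := by group
      rwa [e2] at e, hC g h⟩
    refine ⟨fun g => if g ∈ C ∧ χ (Additive.ofMul g) ≠ 0 then (χ (Additive.ofMul g)).out else 0, ?_,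
      fun g hg => if_neg fun h => hg h.1, fun g h => ?_, fun g hg => ?_⟩
    · exact if_neg fun h => h.2 (map_zero χ)
    · show (if _ then _ else _) = (if _ then _ else _)
      simp only [hconj, hmem]
    · show W4c6brauerbgmalle.toQmodZ (if _ then _ else _) = χ (Additive.ofMul g)
      split_ifs with hc
      · exact QuotientAddGroup.out_eq' _
      · rw [map_zero]
        exact (not_not.1 fun hne => hc ⟨hg, hne⟩).symm
  · by_cases hg : g ∈ C
    · have e := hp.2.2.2 g hg
      rw [h0] at e
      obtain ⟨k, hk⟩ := AddSubgroup.mem_zmultiples_iff.1 ((QuotientAddGroup.eq_zero_iff _).1 e)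
      exact ⟨k, by rw [← hk, zsmul_one]⟩
    · exact ⟨0, by rw [hp.2.1 g hg, Int.cast_zero]⟩

end Groth.Agent.S18952
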