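import Groth.Statements.S18953
import Mathlib

set_option autoImplicit false
universe u v
open OrbPic

namespace Groth.Agent.S18953

/-- Let G₁ and G₂ be groups with subsets C₁ ⊆ G₁ and C₂ ⊆ G₂, and let C ⊆ G₁ × G₂ be the union of C₁ ×
{1} and {1} × C₂. Restricting the character and the weight along the two inclusions G₁ → G₁ × G₂ and
G₂ → G₁ × G₂ is a bijection from the geometric partial orbifold line bundles of G₁ × G₂ with respect
to C onto pairs of geometric partial orbifold line bundles of G₁ with respect to C₁ and of G₂ with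
respect to C₂. (As in the source after a choice of roots of unity, each group stands for the
geometric points of a tame finite étale group scheme, characters are homomorphisms to ℚ/ℤ and
weights are class functions; the source states the Galois-equivariant version, which follows by
taking invariants.) -/
theorem result (G₁ : Type u) (G₂ : Type v) [Group G₁] [Group G₂] (C₁ : Set G₁) (C₂ : Set G₂) :
    Set.BijOn
      (fun p : (Additive (G₁ × G₂) →+ W4c6brauerbgmalle.QmodZ) × (G₁ × G₂ → ℚ) =>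
        ((p.1.comp (MonoidHom.toAdditive (MonoidHom.inl G₁ G₂)), fun g => p.2 (g, 1)),
          (p.1.comp (MonoidHom.toAdditive (MonoidHom.inr G₁ G₂)), fun g => p.2 (1, g))))
      (W4c6brauerbgmalle.picOrb (G₁ × G₂) ((fun g => (g, (1 : G₂))) '' C₁ ∪ (fun g => ((1 : G₁), g)) '' C₂))
      ((W4c6brauerbgmalle.picOrb G₁ C₁ : Set _) ×ˢ (W4c6brauerbgmalle.picOrb G₂ C₂ : Set _)) := by
  classical
  let C := (fun g => (g, (1 : G₂))) '' C₁ ∪ (fun g => ((1 : G₁), g)) '' C₂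
  have hC : ∀ (a : G₁) (b : G₂), (a, b) ∈ C ↔ a ∈ C₁ ∧ b = 1 ∨ a = 1 ∧ b ∈ C₂ := fun a b => by
    constructor
    · rintro (⟨x, hx, e⟩ | ⟨x, hx, e⟩) <;> obtain ⟨rfl, rfl⟩ := Prod.mk.inj e
      · exact Or.inl ⟨hx, rfl⟩
      · exact Or.inr ⟨rfl, hx⟩
    · rintro (⟨ha, rfl⟩ | ⟨rfl, hb⟩)
      · exact Or.inl ⟨a, ha, rfl⟩
      · exact Or.inr ⟨b, hb, rfl⟩
  have hsplit : ∀ (χ : Additive (G₁ × G₂) →+ W4c6brauerbgmalle.QmodZ) (a : G₁) (b : G₂),
      χ (Additive.ofMul (a, b)) = χ (Additive.ofMul (a, 1)) + χ (Additive.ofMul (1, b)) := fun χ a b => by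
    rw [← map_add, ← ofMul_mul]
    simp
  refine ⟨fun p hp => ⟨?_, ?_⟩, fun p hp q hq h => ?_, fun r hr => ?_⟩
  · refine ⟨hp.1, fun a ha => ?_, fun a b => ?_, fun a ha => hp.2.2.2 (a, 1) ((hC a 1).2 (Or.inl ⟨ha, rfl⟩))⟩
    · by_cases h1 : a = 1
      · subst h1; exact hp.1
      · exact hp.2.1 (a, 1) fun hm => ((hC a 1).1 hm).elim (fun h => ha h.1) fun h => h1 h.1
    · simpa using hp.2.2.1 (a, 1) (b, 1)
  · refine ⟨hp.1, fun a ha => ?_, fun a b => ?_, fun a ha => hp.2.2.2 (1, a) ((hC 1 a).2 (Or.inr ⟨rfl, ha⟩))⟩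
    · by_cases h1 : a = 1
      · subst h1; exact hp.1
      · exact hp.2.1 (1, a) fun hm => ((hC 1 a).1 hm).elim (fun h => h1 h.2) fun h => ha h.2
    · simpa using hp.2.2.1 (1, a) (1, b)
  · obtain ⟨hl, hr⟩ := Prod.mk.inj h
    obtain ⟨hl1, hl2⟩ := Prod.mk.inj hl
    obtain ⟨hr1, hr2⟩ := Prod.mk.inj hr
    refine Prod.ext (AddMonoidHom.ext fun x => ?_) (funext fun ⟨a, b⟩ => ?_)
    · have ea : p.1 (Additive.ofMul (x.toMul.1, 1)) = q.1 (Additive.ofMul (x.toMul.1, 1)) :=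
        DFunLike.congr_fun hl1 (Additive.ofMul x.toMul.1)
      have eb : p.1 (Additive.ofMul (1, x.toMul.2)) = q.1 (Additive.ofMul (1, x.toMul.2)) :=
        DFunLike.congr_fun hr1 (Additive.ofMul x.toMul.2)
      show p.1 (Additive.ofMul (x.toMul.1, x.toMul.2)) = q.1 (Additive.ofMul (x.toMul.1, x.toMul.2))
      exact (hsplit p.1 _ _).trans ((congrArg₂ (· + ·) ea eb).trans (hsplit q.1 _ _).symm)
    · by_cases hm : (a, b) ∈ C
      · rcases (hC a b).1 hm with ⟨-, rfl⟩ | ⟨rfl, -⟩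
        · exact congrFun hl2 a
        · exact congrFun hr2 b
      · exact (hp.2.1 _ hm).trans (hq.2.1 _ hm).symm
  · obtain ⟨⟨χ₁, w₁⟩, χ₂, w₂⟩ := r
    obtain ⟨h1, h2⟩ := hr
    let χ : Additive (G₁ × G₂) →+ W4c6brauerbgmalle.QmodZ :=
      χ₁.comp (MonoidHom.toAdditive (MonoidHom.fst G₁ G₂)) + χ₂.comp (MonoidHom.toAdditive (MonoidHom.snd G₁ G₂))
    let w : G₁ × G₂ → ℚ := fun g => if g.2 = 1 then w₁ g.1 else if g.1 = 1 then w₂ g.2 else 0
    have h11 : w₁ 1 = 0 := h1.1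
    have h21 : w₂ 1 = 0 := h2.1
    have hwl : ∀ a, w (a, 1) = w₁ a := fun a => if_pos rfl
    have hwr : ∀ b, w (1, b) = w₂ b := fun b => by
      by_cases hb : b = 1
      · subst hb; rw [hwl, h11, h21]
      · exact (if_neg hb).trans (if_pos rfl)
    refine ⟨(χ, w), ⟨(hwl 1).trans h11, ?_, ?_, ?_⟩, ?_⟩
    · rintro ⟨a, b⟩ hg
      show (if b = 1 then w₁ a else if a = 1 then w₂ b else 0) = 0
      split_ifs with hb ha
      · exact h1.2.1 a fun ha => hg ((hC a b).2 (Or.inl ⟨ha, hb⟩))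
      · exact h2.2.1 b fun hb' => hg ((hC a b).2 (Or.inr ⟨ha, hb'⟩))
      · rfl
    · rintro ⟨a, b⟩ ⟨a', b'⟩
      show (if b' * b * b'⁻¹ = 1 then w₁ (a' * a * a'⁻¹) else if a' * a * a'⁻¹ = 1 then w₂ (b' * b * b'⁻¹) else 0) =
        (if b = 1 then w₁ a else if a = 1 then w₂ b else 0)
      simp only [conj_eq_one_iff, show w₁ (a' * a * a'⁻¹) = w₁ a from h1.2.2.1 a a',
        show w₂ (b' * b * b'⁻¹) = w₂ b from h2.2.2.1 b b']
    · rintro ⟨a, b⟩ hg
      show W4c6brauerbgmalle.toQmodZ (w (a, b)) = χ₁ (Additive.ofMul a) + χ₂ (Additive.ofMul b)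
      rcases (hC a b).1 hg with ⟨ha, rfl⟩ | ⟨rfl, hb⟩
      · rw [hwl, ofMul_one, map_zero, add_zero]
        exact h1.2.2.2 a ha
      · rw [hwr, ofMul_one, map_zero, zero_add]
        exact h2.2.2.2 b hb
    · refine Prod.ext (Prod.ext (AddMonoidHom.ext fun x => ?_) (funext hwl))
        (Prod.ext (AddMonoidHom.ext fun x => ?_) (funext hwr))
      · show χ₁ x + χ₂ (Additive.ofMul (1 : G₂)) = χ₁ x
        rw [ofMul_one, map_zero, add_zero]
      · show χ₁ (Additive.ofMul (1 : G₁)) + χ₂ x = χ₂ x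
        rw [ofMul_one, map_zero, zero_add]

end Groth.Agent.S18953
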