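import Groth.Statements.S18954
import Mathlib

set_option autoImplicit false
universe u v w
open Classical
open BGCount

namespace Groth.Agent.S18954

/-- Let a finite group G act on a finite set X, let W be a finite set of orbits and f a function on
orbits with values in a field of characteristic zero. Then Σ_{O ∈ W} f(O)/|Stab(x_O)|, with x_O any
point of O, equals |G|⁻¹ · Σ f(orbit(x)) over the points x of X whose orbit lies in W. (In the
source X is the set of 1-cocycles of the absolute Galois group of a field in a finite étale group
scheme G, acted on by the geometric points of G, the orbits are the isomorphism classes of G-torsors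
and the stabilisers their automorphism groups; stated here for an arbitrary action of a finite group
on a finite set, the representative x_O being chosen by Quotient.out.) -/
theorem result {G : Type u} {X : Type v} (𝕜 : Type w)
    [Group G] [Fintype G] [MulAction G X] [Fintype X] [Field 𝕜] [CharZero 𝕜]
    (W : Finset (MulAction.orbitRel.Quotient G X)) (f : MulAction.orbitRel.Quotient G X → 𝕜) :
    (∑ O ∈ W, f O / (Nat.card (MulAction.stabilizer G O.out) : 𝕜)) =
      (Fintype.card G : 𝕜)⁻¹ *
        ∑ x ∈ Finset.univ.filter (fun x : X => (Quotient.mk (MulAction.orbitRel G X) x) ∈ W),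
          f (Quotient.mk (MulAction.orbitRel G X) x) := by
  classical
  rw [← Finset.sum_fiberwise_of_maps_to (s := Finset.univ.filter fun x : X =>
      (Quotient.mk (MulAction.orbitRel G X) x) ∈ W) (t := W)
      (g := fun x => Quotient.mk (MulAction.orbitRel G X) x) (fun x hx => (Finset.mem_filter.1 hx).2),
    Finset.mul_sum]
  refine Finset.sum_congr rfl fun O hO => ?_
  rw [Finset.filter_filter]
  rw [Finset.sum_congr rfl (g := fun _ => f O) fun x hx => by rw [(Finset.mem_filter.1 hx).2.2],
    Finset.sum_const, nsmul_eq_mul]
  have hset : (↑(Finset.univ.filter fun x : X => Quotient.mk (MulAction.orbitRel G X) x ∈ W ∧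
      Quotient.mk (MulAction.orbitRel G X) x = O) : Set X) = MulAction.orbit G O.out := by
    ext x
    rw [Finset.coe_filter]
    simp only [Finset.mem_univ, true_and, Set.mem_setOf_eq]
    rw [← MulAction.orbitRel.Quotient.orbit_eq_orbit_out O Quotient.out_eq',
      MulAction.orbitRel.Quotient.mem_orbit]
    refine ⟨fun h => h.2, fun h => ⟨?_, h⟩⟩
    rw [show Quotient.mk (MulAction.orbitRel G X) x = O from h]; exact hO
  have hc := Nat.card_congr (MulAction.orbitProdStabilizerEquivGroup G O.out)
  rw [Nat.card_prod, ← hset, Nat.card_coe_set_eq, Set.ncard_coe_finset, Nat.card_eq_fintype_card (α := G)] at hc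
  have hs : (Nat.card (MulAction.stabilizer G O.out) : 𝕜) ≠ 0 := Nat.cast_ne_zero.2 Nat.card_pos.ne'
  rw [← hc, Nat.cast_mul]
  have hn : ((Finset.univ.filter fun x : X => Quotient.mk (MulAction.orbitRel G X) x ∈ W ∧
      Quotient.mk (MulAction.orbitRel G X) x = O).card : 𝕜) ≠ 0 :=
    Nat.cast_ne_zero.2 fun h0 => by rw [h0, zero_mul] at hc; exact Fintype.card_ne_zero hc.symm
  field_simp

end Groth.Agent.S18954
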