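import Groth.Statements.S18973
import Groth.Agent.StabLib.EllLast

set_option autoImplicit false
open CategoryTheory CategoryTheory.Limits AlgebraicGeometry Polynomial
universe u
open ShStab

namespace Groth.Agent.S18973

/-- Let k be a field and X an integral scheme, smooth and proper over k, with a closed immersion ι into
projective N-space over k compatible with the structure maps, polarised by the ample O_X(1) =
ι^*O(1); let 1 ≤ ℓ ≤ d. Let E be a nonzero coherent O_X-module, pure of dimension d, with an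
ℓ-Harder–Narasimhan filtration 0 = E_0 ⊂ E_1 ⊂ ⋯ ⊂ E_m = E (factors ℓ-semistable of dimension d,
reduced ℓ-truncated Hilbert polynomials of consecutive factors strictly decreasing), and let F =
E/E_(m−1) be its last factor, the minimal ℓ-destabilising quotient of E. If E → G is another
quotient with G nonzero, coherent and pure of dimension d, such that the Hilbert polynomials of F
and G have the same multiplicity α_d and the same reduced ℓ-truncation p_ℓ, then G and F are
isomorphic as quotients of E: there is an isomorphism F ≅ G carrying the quotient map of F to that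
of G. Here a sheaf is ℓ-semistable of dimension d when it is coherent, nonzero, pure of dimension d,
and p_ℓ(F') ≤ p_ℓ for every coherent submodule F' of multiplicity strictly between 0 and its own,
p_ℓ denoting the reduced truncation of the Hilbert polynomial (with respect to O_X(1)) to the
degrees d − ℓ, …, d. -/
theorem result (k : Type u) [Field k]
    (X : Scheme.{u}) [X.Over (Spec (CommRingCat.of k))] [IsIntegral X]
    [Smooth (X ↘ Spec (CommRingCat.of k))] [IsProper (X ↘ Spec (CommRingCat.of k))]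
    (N : ℕ) (ι : X ⟶ CohB1.ProjSpace N k) [IsClosedImmersion ι]
    (hι : ι ≫ CohB1.ProjSpace.toSpec N k = X ↘ Spec (CommRingCat.of k))
    (hL : CohB1.IsAmple ((Scheme.Modules.pullback ι).obj (Twist.twistProjSpace N k 1)))
    (d ℓ : ℕ) (hℓ : 1 ≤ ℓ) (hℓd : ℓ ≤ d)
    (E : X.Modules) (hE : Coh.IsCoh E) (h0 : ¬ IsZero E) (hp : ShStab.IsPure X E d)
    (s : LTSeries (Subobject E))
    (hs : StabCat.IsHNWith (fun G => ShStab.IsEllSemistable k X ((Scheme.Modules.pullback ι).obj (Twist.twistProjSpace N k 1)) G d ℓ)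
      (fun G P => ∃ Q : Polynomial ℚ, ShStab.IsHilbPoly k X ((Scheme.Modules.pullback ι).obj (Twist.twistProjSpace N k 1)) G Q ∧ P = StabCat.topPart ℓ d Q) d E s)
    (G : X.Modules) (q : E ⟶ G) [Epi q] (hG : Coh.IsCoh G) (hG0 : ¬ IsZero G) (hGp : ShStab.IsPure X G d)
    (pF pG : ℚ[X]) (hpF : ShStab.IsHilbPoly k X ((Scheme.Modules.pullback ι).obj (Twist.twistProjSpace N k 1)) (cokernel s.eraseLast.last.arrow) pF)
    (hpG : ShStab.IsHilbPoly k X ((Scheme.Modules.pullback ι).obj (Twist.twistProjSpace N k 1)) G pG)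
    (hα : StabCat.alpha d pF = StabCat.alpha d pG)
    (hred : StabCat.RedEq d (StabCat.topPart ℓ d pF) (StabCat.topPart ℓ d pG)) :
    ∃ φ : (cokernel s.eraseLast.last.arrow) ≅ G, cokernel.π s.eraseLast.last.arrow ≫ φ.hom = q := by
  let L := (Scheme.Modules.pullback ι).obj (Twist.twistProjSpace N k 1)
  let I := StabLib.Sh.inv k hL
  obtain ⟨h1, h2, h3, h4⟩ := hs
  have hn0 : s.length ≠ 0 := fun h => h0 (by
    have e : (⊥ : Subobject E) = ⊤ :=
      h1.symm.trans ((congrArg s (Fin.ext (by simpa using h.symm))).trans h2)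
    exact (isZero_zero _).of_iso ((asIso (⊤ : Subobject E).arrow).symm ≪≫
      Subobject.isoOfEq _ ⊥ e.symm ≪≫ Subobject.botCoeIsoZero))
  obtain ⟨n, hn⟩ := Nat.exists_eq_succ_of_ne_zero hn0
  let l₀ : Fin s.length := ⟨n, by omega⟩
  have hne : ∀ i : Fin s.length, ∃ Q, ShStab.IsHilbPoly k X L (StabCat.factor s i) Q := fun i =>
    ⟨_, StabLib.Sh.isHilbPoly_hp k hL.1 (h3 i).1⟩
  have hP : ∀ i : Fin s.length, StabLib.Inv.Pure I d (StabCat.factor s i) := fun i =>
    (StabLib.Sh.isPure_iff k hL _ d).1 (h3 i).2.2.1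
  have hss : ∀ i : Fin s.length, StabLib.Inv.LSo I d ℓ (StabCat.factor s i) := fun i =>
    ⟨(h3 i).1, (h3 i).2.1, hP i, fun F j hj hF ha hlt => (StabLib.redLE_iff d).1 ((h3 i).2.2.2 F j hj hF _ _
      (StabLib.Sh.isHilbPoly_hp k hL.1 hF) (StabLib.Sh.isHilbPoly_hp k hL.1 (h3 i).1) ha hlt)⟩
  have hdec : ∀ i j : Fin s.length, i.val + 1 = j.val → StabLib.Pos (StabLib.DL d ℓ
      (StabLib.Inv.hp I (StabCat.factor s j)) (StabLib.Inv.hp I (StabCat.factor s i))) := fun i j hij =>
    (StabLib.redLT_iff d).1 (h4 i j hij _ _ ⟨_, StabLib.Sh.isHilbPoly_hp k hL.1 (h3 i).1, rfl⟩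
      ⟨_, StabLib.Sh.isHilbPoly_hp k hL.1 (h3 j).1, rfl⟩)
  have epen : s.eraseLast.last = s l₀.castSucc :=
    (RelSeries.last_eraseLast s).trans (congrArg s (Fin.ext (by show s.length.pred = n; rw [hn]; rfl)))
  have etop : s l₀.succ = ⊤ := (congrArg s (Fin.ext (show n + 1 = s.length by omega))).trans h2
  haveI : IsIso (s l₀.succ).arrow := (Subobject.isIso_arrow_iff_eq_top _).2 etop
  let c : StabCat.factor s l₀ ≅ cokernel s.eraseLast.last.arrow :=
    cokernel.mapIso _ _ (Subobject.isoOfEq _ _ epen.symm) (asIso (s l₀.succ).arrow) (by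
      simp [Subobject.ofLE_arrow, Subobject.isoOfEq_hom])
  have hC : StabLib.Inv.ok I (cokernel s.eraseLast.last.arrow) := StabLib.Inv.ok_iso I c (h3 l₀).1
  have eF : pF = StabLib.Inv.hp I (StabCat.factor s l₀) :=
    ((StabLib.Sh.hilb_iff k hL.1 hC pF).1 hpF).trans (StabLib.Inv.hp_iso I c (h3 l₀).1).symm
  have eG : pG = StabLib.Inv.hp I G := (StabLib.Sh.hilb_iff k hL.1 hG pG).1 hpG
  have hk := StabLib.Inv.kills_of_DL (I := I) hE hG ((StabLib.Sh.isPure_iff k hL G d).1 hGp) q s n hn h1 h2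
    hss hdec (by rw [← eG, ← eF]; exact (StabLib.redEq_iff d).1 hred)
  have hk' : s.eraseLast.last.arrow ≫ q = 0 := by
    rw [← Subobject.ofLE_arrow epen.le, Category.assoc,
      show (s l₀.castSucc).arrow ≫ q = 0 from hk, Limits.comp_zero]
  let ψ := cokernel.desc _ q hk'
  haveI : Epi ψ := by
    have : Epi (cokernel.π s.eraseLast.last.arrow ≫ ψ) := by simp only [ψ, cokernel.π_desc]; infer_instance
    exact epi_of_epi (cokernel.π _) ψ
  have hK : IsZero (kernel ψ) := by
    by_contra hz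
    have hKok := StabLib.Inv.ok_kernel I ψ hC hG
    have ha := ((hP l₀).of_mono c.inv).alpha_pos (kernel.ι ψ) hKok hz
    have e := StabLib.Inv.hp_kernel I ψ hC hG
    rw [show StabLib.Inv.hp I (cokernel s.eraseLast.last.arrow) = pF from
      ((StabLib.Sh.hilb_iff k hL.1 hC pF).1 hpF).symm, ← eG] at e
    rw [e, StabLib.alpha_add] at hα
    linarith
  haveI : Mono ψ := Abelian.mono_of_kernel_ι_eq_zero ψ (hK.eq_of_src _ _)
  haveI : IsIso ψ := isIso_of_mono_of_epi ψ
  exact ⟨asIso ψ, cokernel.π_desc _ _ _⟩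

end Groth.Agent.S18973
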