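import Groth.Statements.S18974
import Mathlib.RingTheory.Derivation.Basic
import Mathlib.Data.Nat.Choose.Sum
import Mathlib.Algebra.Polynomial.Derivative
import Mathlib.Tactic.LinearCombination
import Mathlib.Tactic.FieldSimp
import Mathlib.Tactic.Positivity

set_option autoImplicit false
universe u
open CAlg

namespace Groth.Agent.S18974

/-- Let A be a commutative algebra over the rationals, D a locally nilpotent derivation of A and a an
element with D a = 1; write A' for the quotient of A by the ideal generated by a. Then there is a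
ring isomorphism from A onto the polynomial ring A'[Y] which sends every x to the (finite) sum over
n of (1/n!) (class of D^n x) Y^n; its inverse sends Y to a and the constant polynomial on the class
of x to the sum over n of ((-1)^n/n!) (D^n x) a^n, and under it D corresponds to the derivative
d/dY. (The source says only that A is a ring, in a setting over a field of characteristic zero; the
rational coefficients 1/n! require an algebra over the rationals, which is the hypothesis taken
here. Both sums are written over any range beyond which the iterates of D vanish at x.) -/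
theorem result
    (A : Type u) [CommRing A] [Algebra ℚ A] (D : Derivation ℚ A A)
    (hnil : ∀ x : A, ∃ n : ℕ, ((D : A →ₗ[ℚ] A) ^ n) x = 0) (a : A) (ha : D a = 1) :
    ∃ χ : A ≃+* Polynomial (A ⧸ Ideal.span ({a} : Set A)),
      (∀ (x : A) (N : ℕ), ((D : A →ₗ[ℚ] A) ^ N) x = 0 →
        χ x = ∑ n ∈ Finset.range N,
          ((n.factorial : ℚ)⁻¹ • Polynomial.C (Ideal.Quotient.mk (Ideal.span ({a} : Set A)) (((D : A →ₗ[ℚ] A) ^ n) x))) *
            Polynomial.X ^ n) ∧
      χ.symm Polynomial.X = a ∧
      (∀ (x : A) (N : ℕ), ((D : A →ₗ[ℚ] A) ^ N) x = 0 →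
        χ.symm (Polynomial.C (Ideal.Quotient.mk (Ideal.span ({a} : Set A)) x)) =
          ∑ n ∈ Finset.range N, (((-1 : ℚ) ^ n * (n.factorial : ℚ)⁻¹) • ((((D : A →ₗ[ℚ] A) ^ n) x) * a ^ n))) ∧
      ∀ p : Polynomial (A ⧸ Ideal.span ({a} : Set A)), χ (D (χ.symm p)) = Polynomial.derivative p := by
  classical
  let P : ℕ → A →ₗ[ℚ] A := fun n => (D : A →ₗ[ℚ] A) ^ n
  have hP0 : ∀ x, P 0 x = x := fun x => rfl
  have hPs : ∀ n x, P (n + 1) x = D (P n x) := fun n x => by
    show ((D : A →ₗ[ℚ] A) ^ (n + 1)) x = D (((D : A →ₗ[ℚ] A) ^ n) x)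
    rw [pow_succ']; rfl
  have hPs' : ∀ n x, P (n + 1) x = P n (D x) := fun n x => by
    show ((D : A →ₗ[ℚ] A) ^ (n + 1)) x = _
    rw [pow_succ]; rfl
  have hPge : ∀ (n : ℕ) x, P n x = 0 → ∀ m, n ≤ m → P m x = 0 := fun n x h m hm => by
    induction m, hm using Nat.le_induction with
    | base => exact h
    | succ m _ ih => rw [hPs, ih, map_zero]
  have leib : ∀ (n : ℕ) (x y : A), P n (x * y) = ∑ ij ∈ Finset.antidiagonal n, (n.choose ij.1) • (P ij.1 x * P ij.2 y) := fun n x y => by
    induction n with
    | zero => simp [hP0]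
    | succ n ih =>
      rw [Finset.sum_antidiagonal_choose_succ_nsmul (fun i j => P i x * P j y) n]
      simp only [hPs, ih, map_sum, map_nsmul, Derivation.leibniz, smul_eq_mul, smul_add, Finset.sum_add_distrib]
      refine congrArg₂ (· + ·) rfl (Finset.sum_congr rfl fun ⟨i, j⟩ hij => ?_)
      rw [n.choose_symm_of_eq_add (Finset.mem_antidiagonal.1 hij).symm, mul_comm]
  let I : Ideal A := Ideal.span ({a} : Set A)
  let π : A →ₐ[ℚ] A ⧸ I := Ideal.Quotient.mkₐ ℚ I
  let e : ℕ → A → A ⧸ I := fun n x => (n.factorial : ℚ)⁻¹ • π (P n x)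
  have emul : ∀ n x y, e n (x * y) = ∑ ij ∈ Finset.antidiagonal n, e ij.1 x * e ij.2 y := fun n x y => by
    simp only [e, leib, map_sum, map_nsmul, map_mul, Finset.smul_sum]
    refine Finset.sum_congr rfl fun ⟨i, j⟩ hij => ?_
    rw [smul_mul_smul_comm, ← Nat.cast_smul_eq_nsmul ℚ, smul_smul]
    congr 1
    rw [Finset.mem_antidiagonal] at hij
    have := Nat.add_choose_mul_factorial_mul_factorial i j
    subst hij
    rw [← Nat.choose_symm_add] at this
    have h2 : ((i + j).choose i : ℚ) * i.factorial * j.factorial = (i + j).factorial := by exact_mod_cast this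
    field_simp
    linear_combination h2
  have e1 : ∀ n, e n 1 = if n = 0 then 1 else 0 := fun n => by
    cases n with
    | zero => simp [e, hP0]
    | succ n =>
      have : P (n + 1) 1 = 0 := by rw [hPs', Derivation.map_one_eq_zero, map_zero]
      simp [e, this]
  choose deg hdeg using hnil
  let f : A → Polynomial (A ⧸ I) := fun x => ∑ n ∈ Finset.range (deg x), Polynomial.C (e n x) * Polynomial.X ^ n
  have hf : ∀ x n, (f x).coeff n = e n x := fun x n => by
    simp only [f, Polynomial.finset_sum_coeff, Polynomial.coeff_C_mul_X_pow]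
    rw [Finset.sum_ite_eq]
    split_ifs with h
    · rfl
    · simp [e, hPge _ _ (hdeg x) n (by simpa using h)]
  let g : A →+* Polynomial (A ⧸ I) :=
    { toFun := f
      map_one' := Polynomial.ext fun n => by rw [hf, e1, Polynomial.coeff_one]
      map_zero' := Polynomial.ext fun n => by simp [hf, e]
      map_add' := fun x y => Polynomial.ext fun n => by simp [hf, e]
      map_mul' := fun x y => Polynomial.ext fun n => by simp [hf, emul, Polynomial.coeff_mul] }
  have hg : ∀ x n, (g x).coeff n = e n x := hf
  have hfac : ∀ n : ℕ, (n.factorial : ℚ) ≠ 0 := fun n => by exact_mod_cast n.factorial_ne_zero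
  have hinj : Function.Injective g := by
    rw [injective_iff_map_eq_zero]
    intro x hx
    have h : ∀ n, π (P n x) = 0 := fun n => by
      have h1 := hg x n
      rw [hx, Polynomial.coeff_zero] at h1
      have h2 := congrArg (fun z : A ⧸ I => (n.factorial : ℚ) • z) h1.symm
      simpa only [e, smul_smul, mul_inv_cancel₀ (hfac n), one_smul, smul_zero] using h2
    suffices H : ∀ N x, P N x = 0 → (∀ n, π (P n x) = 0) → x = 0 from H _ x (hdeg x) h
    intro N
    induction N with
    | zero => exact fun x h _ => h
    | succ N ih =>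
      intro x hN h
      have hD : D x = 0 := ih (D x) (by rw [← hPs']; exact hN) fun n => by rw [← hPs']; exact h (n + 1)
      obtain ⟨y, rfl⟩ := Ideal.mem_span_singleton'.mp (Ideal.Quotient.eq_zero_iff_mem.mp (show π x = 0 from hP0 x ▸ h 0))
      have hk : ∀ k, a * P (k + 1) y + (k + 1) • P k y = 0 := fun k => by
        induction k with
        | zero =>
          rw [Derivation.leibniz, ha, smul_eq_mul, smul_eq_mul, mul_one] at hD
          simp only [hPs, hP0, zero_add, one_smul]
          linear_combination hD
        | succ k ihk =>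
          have := congrArg D ihk
          rw [map_add, map_nsmul, map_zero, Derivation.leibniz, ha, smul_eq_mul, smul_eq_mul, mul_one, ← hPs, ← hPs] at this
          rw [succ_nsmul]
          linear_combination this
      have hdown : ∀ M, P M y = 0 → y = 0 := fun M => by
        induction M with
        | zero => exact fun h => h
        | succ M ihM =>
          intro h1
          refine ihM ?_
          have := hk M
          rw [h1, mul_zero, zero_add, ← Nat.cast_smul_eq_nsmul ℚ] at this
          exact (smul_eq_zero.mp this).resolve_left (by positivity)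
      rw [hdown _ (hdeg y), zero_mul]
  let ps : ℕ → A → A := fun N x => ∑ n ∈ Finset.range N, ((-1 : ℚ) ^ n * (n.factorial : ℚ)⁻¹) • (P n x * a ^ n)
  have hps : ∀ N x, P N x = 0 → g (ps N x) = Polynomial.C (π x) := fun N x hN => by
    have hD : ∀ M, D (ps M x) = if M = 0 then 0 else ((-1 : ℚ) ^ (M - 1) * ((M - 1).factorial : ℚ)⁻¹) • (P M x * a ^ (M - 1)) := fun M => by
      induction M with
      | zero => simp [ps]
      | succ M ihM =>
        simp only [ps, Finset.sum_range_succ, map_add] at ihM ⊢
        rw [ihM, D.map_smul, Derivation.leibniz, Derivation.leibniz_pow, ha, ← hPs, if_neg (Nat.succ_ne_zero M), Nat.add_sub_cancel, smul_eq_mul, smul_eq_mul]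
        cases M with
        | zero => simp
        | succ k =>
          rw [if_neg (Nat.succ_ne_zero k)]
          simp only [Nat.add_sub_cancel, smul_eq_mul, nsmul_eq_mul, mul_one, smul_add, Algebra.smul_def]
          have h3 : algebraMap ℚ A ((-1 : ℚ) ^ (k + 1) * ((k + 1).factorial : ℚ)⁻¹) * ((k + 1 : ℕ) : A) = - algebraMap ℚ A ((-1 : ℚ) ^ k * (k.factorial : ℚ)⁻¹) := by
            rw [← map_natCast (algebraMap ℚ A), ← map_mul, ← map_neg]
            congr 1
            rw [Nat.factorial_succ, Nat.cast_mul, pow_succ]
            have := hfac k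
            field_simp
          linear_combination (P (k + 1) x * a ^ k) * h3
    have hD0 : D (ps N x) = 0 := by rw [hD N, hN]; split_ifs <;> simp
    have hπ : π (ps N x) = π x := by
      cases N with
      | zero =>
        rw [hP0] at hN
        simp [ps, hN]
      | succ k =>
        have hπa : π a = 0 := Ideal.Quotient.eq_zero_iff_mem.mpr (Ideal.mem_span_singleton_self a)
        simp [ps, Finset.sum_range_succ', hπa, hP0]
    refine Polynomial.ext fun n => ?_
    rw [hg, Polynomial.coeff_C]
    cases n with
    | zero => simp [e, hP0, hπ]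
    | succ n =>
      have : P (n + 1) (ps N x) = 0 := by rw [hPs', hD0, map_zero]
      simp [e, this]
  have hga : g a = Polynomial.X := Polynomial.ext fun n => by
    rw [hg, Polynomial.coeff_X]
    have hπa : π a = 0 := Ideal.Quotient.eq_zero_iff_mem.mpr (Ideal.mem_span_singleton_self a)
    rcases n with _ | _ | n
    · simp [e, hP0, hπa]
    · simp [e, hPs, hP0, ha]
    · have : P (n + 2) a = 0 := by rw [hPs', ha, hPs', Derivation.map_one_eq_zero, map_zero]
      simp [e, this]
  have hsurj : Function.Surjective g := fun p => by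
    induction p using Polynomial.induction_on with
    | C q =>
      obtain ⟨x, rfl⟩ := Ideal.Quotient.mk_surjective q
      exact ⟨_, hps _ x (hdeg x)⟩
    | add p q hp hq =>
      obtain ⟨x, rfl⟩ := hp
      obtain ⟨y, rfl⟩ := hq
      exact ⟨x + y, map_add g x y⟩
    | monomial n q hq =>
      obtain ⟨x, hx⟩ := hq
      exact ⟨x * a, by rw [map_mul, hx, hga, pow_succ, mul_assoc]⟩
  let χ : A ≃+* Polynomial (A ⧸ I) := RingEquiv.ofBijective g ⟨hinj, hsurj⟩
  refine ⟨χ, fun x N hN => ?_, ?_, fun x N hN => ?_, fun p => ?_⟩
  · refine Polynomial.ext fun n => ?_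
    show (g x).coeff n = _
    rw [hg, Polynomial.finset_sum_coeff]
    simp only [smul_mul_assoc, Polynomial.coeff_smul, Polynomial.coeff_C_mul_X_pow, smul_ite, smul_zero]
    rw [Finset.sum_ite_eq]
    split_ifs with h
    · rfl
    · simp [e, hPge N x hN n (by simpa using h)]
  · exact χ.symm_apply_eq.mpr hga.symm
  · exact χ.symm_apply_eq.mpr (hps N x hN).symm
  · obtain ⟨y, rfl⟩ := χ.surjective p
    rw [χ.symm_apply_apply]
    refine Polynomial.ext fun n => ?_
    show (g (D y)).coeff n = (Polynomial.derivative (g y)).coeff n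
    rw [Polynomial.coeff_derivative, hg, hg]
    simp only [e, ← hPs']
    rw [Nat.factorial_succ, Nat.cast_mul, smul_mul_assoc, ← Nat.cast_add_one, show π (P (n + 1) y) * ((n + 1 : ℕ) : A ⧸ I) = ((n + 1 : ℕ) : ℚ) • π (P (n + 1) y) by rw [Nat.cast_smul_eq_nsmul ℚ, nsmul_eq_mul, mul_comm], smul_smul]
    congr 1
    have := hfac n
    field_simp

end Groth.Agent.S18974
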