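import Groth.Statements.S18977
import Groth.Agent.Torsor.SingleCover
import Groth.Agent.HMu.Translate

set_option backward.isDefEq.respectTransparency false
set_option linter.style.haveILetI false

set_option autoImplicit false
universe u
open CategoryTheory MonoidalCategory CartesianMonoidalCategory MonObj AlgebraicGeometry
open GIT

namespace Groth.Agent.S18977
open CategoryTheory.Limits

theorem point_torsor {S : Scheme.{u}} {G X Y : Over S} [GrpObj G] {act : G ⊗ X ⟶ X} {φ : X ⟶ Y}
    (h : IsPullback act (snd G X) φ φ) {T : Over S} (x x' : T ⟶ X) (he : x' ≫ φ = x ≫ φ) :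
    ∃ g : T ⟶ G, lift g x ≫ act = x' ∧ ∀ g' : T ⟶ G, lift g' x ≫ act = x' → g' = g := by
  obtain ⟨w, h1, h2⟩ := h.exists_lift x' x he
  have hw : w = lift (w ≫ fst G X) x := CartesianMonoidalCategory.hom_ext _ _ (by simp) (by simp [h2])
  refine ⟨w ≫ fst G X, by rw [← hw, h1], fun g' hg' => ?_⟩
  have : lift g' x = w := h.hom_ext (hg'.trans h1.symm) ((lift_snd _ _).trans h2.symm)
  rw [← this, lift_fst]

theorem locallyTrivial_comp {X Y Z : Scheme.{u}} (p : X ⟶ Y) (q : Y ⟶ Z)
    (hp : NonAbH1.IsLocallyTrivialFor Scheme.fpqcPrecoverage (Over.mk p))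
    (hq : NonAbH1.IsLocallyTrivialFor Scheme.fpqcPrecoverage (Over.mk q)) :
    NonAbH1.IsLocallyTrivialFor Scheme.fpqcPrecoverage (Over.mk (p ≫ q)) := by
  obtain ⟨Y', e, he, σ, hσ⟩ := Torsor.exists_single_cover hp
  obtain ⟨Z', d, hd, τ, hτ⟩ := Torsor.exists_single_cover hq
  have he' : Presieve.ofArrows (fun _ : PUnit.{u+1} => Y') (fun _ => e) ∈ Scheme.fpqcPrecoverage Y := by
    rwa [Presieve.ofArrows_pUnit]
  have hd' : Presieve.ofArrows (fun _ : PUnit.{u+1} => Z') (fun _ => d) ∈ Scheme.fpqcPrecoverage Z := by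
    rwa [Presieve.ofArrows_pUnit]
  have h1 : Presieve.ofArrows (fun _ : PUnit.{u+1} => pullback τ e) (fun _ => pullback.fst τ e) ∈
      Scheme.fpqcPrecoverage Z' :=
    Precoverage.mem_coverings_of_isPullback _ he' τ _ (fun _ => pullback.snd τ e)
      fun _ => IsPullback.of_hasPullback τ e
  refine ⟨_, Precoverage.comp_mem_coverings (fun _ : PUnit.{u+1} => d) hd' (fun _ (_ : PUnit.{u+1}) => pullback.fst τ e)
    (fun _ => h1), ?_⟩
  rintro _ _ ⟨i⟩
  refine ⟨pullback.snd τ e ≫ σ, ?_⟩
  change _ ≫ p ≫ q = pullback.fst τ e ≫ d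
  rw [Category.assoc, ← Category.assoc σ, show σ ≫ p = e from hσ, ← Category.assoc, ← pullback.condition,
    Category.assoc, show τ ≫ q = d from hτ]

theorem isPullback_of_unique {C : Type*} [Category C] [CartesianMonoidalCategory C] {G X Y : C}
    {act : G ⊗ X ⟶ X} {φ : X ⟶ Y} (w : act ≫ φ = snd G X ≫ φ)
    (h : ∀ (T : C) (x x' : T ⟶ X), x' ≫ φ = x ≫ φ →
      ∃ g : T ⟶ G, lift g x ≫ act = x' ∧ ∀ g' : T ⟶ G, lift g' x ≫ act = x' → g' = g) :
    IsPullback act (snd G X) φ φ := by
  choose g hg hu using h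
  refine IsPullback.of_isLimit' ⟨w⟩ (PullbackCone.IsLimit.mk _
    (fun s => lift (g _ s.snd s.fst s.condition) s.snd) (fun s => hg _ _ _ s.condition) (fun s => by simp)
    (fun s m h1 h2 => ?_))
  have hm : m = lift (m ≫ fst G X) s.snd := CartesianMonoidalCategory.hom_ext _ _ (by simp) (by simp [← h2])
  rw [hm, hu _ _ _ s.condition (m ≫ fst G X) (by rw [← hm]; exact h1)]

/-- Composition of torsors. Over an algebraically closed field k of characteristic zero, let G be an
affine group scheme of finite type over k, N a closed normal subgroup scheme which is the kernel of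
a homomorphism q : G → Q, and H a closed subgroup scheme of G which q maps isomorphically onto Q (so
G is the inner semidirect product N H). Let G act on a k-scheme X and let φ₁ : X → Y be a torsor
over Y under the restricted action of N (the square formed by the N-action, the second projection
and φ₁ twice is cartesian, and φ₁ acquires sections on the members of some fpqc covering family of
Y); let Q act on Y so that φ₁ is equivariant along q, and let φ₂ : Y → Z be a Q-torsor over Z in the
same sense. Then φ₂ ∘ φ₁ is a G-torsor over Z: the square formed by the G-action, the second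
projection and φ₂ ∘ φ₁ twice is cartesian, and φ₂ ∘ φ₁ acquires sections fpqc-locally on Z. (The
induced action of the factor group on Y is taken as a datum together with the equivariance of φ₁;
the source's second assertion, that the composite of trivial torsors is trivial, amounts to
composing sections and is not restated.) -/
theorem result
    (k : Type u) [Field k] [IsAlgClosed k] [CharZero k]
    (G N Q H X Y Z : Over (Spec (CommRingCat.of k))) [GrpObj G] [GrpObj N] [GrpObj Q] [GrpObj H]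
    [IsAffine G.left] [LocallyOfFiniteType G.hom]
    (iN : N ⟶ G) [IsMonHom iN] [IsClosedImmersion iN.left] (hnorm : AlgGrp.IsNormalHom iN)
    (q : G ⟶ Q) [IsMonHom q] (hker : AlgGrp.IsKernel iN q)
    (iH : H ⟶ G) [IsMonHom iH] [IsClosedImmersion iH.left] [IsIso (iH ≫ q)]
    (a : AlgGrp.Action G X) (φ₁ : X ⟶ Y)
    (h₁ : IsPullback (a.restrict iN).act (snd N X) φ₁ φ₁)
    (h₁loc : NonAbH1.IsLocallyTrivialFor Scheme.fpqcPrecoverage (Over.mk φ₁.left : Over Y.left))
    (aY : AlgGrp.Action Q Y) (hequiv : (q ⊗ₘ φ₁) ≫ aY.act = a.act ≫ φ₁)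
    (φ₂ : Y ⟶ Z) (h₂ : IsPullback aY.act (snd Q Y) φ₂ φ₂)
    (h₂loc : NonAbH1.IsLocallyTrivialFor Scheme.fpqcPrecoverage (Over.mk φ₂.left : Over Z.left)) :
    IsPullback a.act (snd G X) (φ₁ ≫ φ₂) (φ₁ ≫ φ₂) ∧
      NonAbH1.IsLocallyTrivialFor Scheme.fpqcPrecoverage (Over.mk (φ₁ ≫ φ₂).left : Over Z.left) := by
  refine ⟨?_, locallyTrivial_comp φ₁.left φ₂.left h₁loc h₂loc⟩
  have heq : ∀ {T : Over (Spec (CommRingCat.of k))} (g : T ⟶ G) (x : T ⟶ X),
      (lift g x ≫ a.act) ≫ φ₁ = lift (g ≫ q) (x ≫ φ₁) ≫ aY.act := fun g x => by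
    rw [Category.assoc, ← hequiv, lift_map_assoc]
  refine isPullback_of_unique ?_ fun T x x' he => ?_
  · have h := heq (fst G X) (snd G X)
    rw [lift_fst_snd, Category.id_comp] at h
    rw [← Category.assoc, h, Category.assoc, h₂.w, lift_snd_assoc, Category.assoc]
  obtain ⟨b, hb, hbu⟩ := point_torsor h₂ (x ≫ φ₁) (x' ≫ φ₁) (by simpa only [Category.assoc] using he)
  let h0 : T ⟶ G := b ≫ inv (iH ≫ q) ≫ iH
  have hh0 : h0 ≫ q = b := by simp [h0]
  obtain ⟨n, hn, hnu⟩ := point_torsor h₁ (lift h0 x ≫ a.act) x' (by rw [heq, hh0, hb])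
  rw [AlgGrp.Action.lift_restrict_act, HMu.act_act] at hn
  refine ⟨(n ≫ iN) * h0, hn, fun g' hg' => ?_⟩
  have hgq : g' ≫ q = b := hbu _ (by rw [← heq, hg'])
  have hk : (g' * h0⁻¹) ≫ q = toUnit T ≫ η[Q] := by
    rw [← Hom.one_def, MonObj.mul_comp, GrpObj.inv_comp, hgq, hh0, mul_inv_cancel]
  obtain ⟨n', hn', -⟩ := hker.exists_lift (g' * h0⁻¹) (toUnit T) hk
  have : n' = n := hnu n' (by
    rw [AlgGrp.Action.lift_restrict_act, hn', HMu.act_act, inv_mul_cancel_right, hg'])
  rw [← this, hn', inv_mul_cancel_right]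

end Groth.Agent.S18977
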