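import Groth.Statements.S18978
import Groth.Agent.OrbitTorsor.Basic

set_option backward.isDefEq.respectTransparency false
set_option linter.style.haveILetI false
open CategoryTheory.Limits

set_option autoImplicit false
universe u
open CategoryTheory MonoidalCategory CartesianMonoidalCategory MonObj AlgebraicGeometry
open GIT

namespace Groth.Agent.S18978

/-- Over an algebraically closed field k of characteristic zero, let G be an affine group scheme of
finite type over k with a closed normal subgroup scheme N, the kernel of a surjective homomorphism q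
: G → H onto an affine group scheme H of finite type over k (the factor group G/N). Let G act on a
separated k-scheme X of finite type, let φ : X → Y be a torsor over Y under the restricted action of
N (cartesian action square, sections on the members of some fpqc covering family of Y), and let H
act on Y so that φ is equivariant along q. Then for every geometric point x of X (a point with
values in an algebraically closed field Ω) with image y in Y: the G-orbit of x is closed in X_Ω and
the stabiliser of x in G is finite if and only if the H-orbit of y is closed in Y_Ω and the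
stabiliser of y in H is finite. (The induced action of the factor group on Y is taken as a datum
together with the equivariance of φ; the points of the published statement are rendered as geometric
points.) -/
theorem result
    (k : Type u) [Field k] [IsAlgClosed k] [CharZero k]
    (G N H X Y : Over (Spec (CommRingCat.of k))) [GrpObj G] [GrpObj N] [GrpObj H]
    [IsAffine G.left] [LocallyOfFiniteType G.hom]
    (iN : N ⟶ G) [IsMonHom iN] [IsClosedImmersion iN.left] (hnorm : AlgGrp.IsNormalHom iN)
    (q : G ⟶ H) [IsMonHom q] [Surjective q.left] [IsAffine H.left] [LocallyOfFiniteType H.hom]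
    (hker : AlgGrp.IsKernel iN q)
    [LocallyOfFiniteType X.hom] [QuasiCompact X.hom] [IsSeparated X.hom]
    (a : AlgGrp.Action G X) (φ : X ⟶ Y)
    (hcart : IsPullback (a.restrict iN).act (snd N X) φ φ)
    (hloc : NonAbH1.IsLocallyTrivialFor Scheme.fpqcPrecoverage (Over.mk φ.left : Over Y.left))
    (aY : AlgGrp.Action H Y) (hequiv : (q ⊗ₘ φ) ≫ aY.act = a.act ≫ φ)
    (Ω : Type u) [Field Ω] [IsAlgClosed Ω] (P : Over (Spec (CommRingCat.of k)))
    (e : P.left ≅ Spec (CommRingCat.of Ω)) (x : P ⟶ X) :
    (IsClosed (Set.range (GIT.psi a x).left.base) ∧ IsFinite (GLinSh.stabTo a x)) ↔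
      (IsClosed (Set.range (GIT.psi aY (x ≫ φ)).left.base) ∧ IsFinite (GLinSh.stabTo aY (x ≫ φ))) := by
  obtain ⟨hφa, hφf, hφs⟩ := haveI : IsAffine N.left := (IsClosedImmersion.isAffine_surjective_of_isAffine iN.left).1
    TorsorMap.props (a.restrict iN) φ hcart hloc
  have hφP := Assoc.isPullback_whiskerRight (Z := P) φ
  haveI : Flat (φ ▷ P).left := MorphismProperty.of_isPullback hφP hφf
  haveI : Surjective (φ ▷ P).left := MorphismProperty.of_isPullback hφP hφs
  haveI : IsAffineHom (φ ▷ P).left := MorphismProperty.of_isPullback hφP hφa
  haveI : Surjective (q ▷ P).left :=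
    MorphismProperty.of_isPullback (Assoc.isPullback_whiskerRight (Z := P) q) ‹Surjective q.left›
  have hclosed : IsClosed (Set.range (GIT.psi a x).left.base) ↔ IsClosed (Set.range (GIT.psi aY (x ≫ φ)).left.base) := by
    rw [OrbitTorsor.range_psi a aY q iN φ x hcart hequiv]
    exact (Flat.isQuotientMap_of_surjective (φ ▷ P).left).isClosed_preimage
  haveI : IsAffine P.left := IsAffine.of_isIso e.hom
  haveI : QuasiCompact G.hom := (HasAffineProperty.iff_of_isAffine (P := @QuasiCompact)).mpr inferInstance
  have hlft : ∀ {K Z : Over (Spec (CommRingCat.of k))} [GrpObj K] [LocallyOfFiniteType K.hom]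
      (b : AlgGrp.Action K Z) (z : P ⟶ Z), LocallyOfFiniteType (GLinSh.stabTo b z) := by
    intro K Z _ _ b z
    haveI : LocallyOfFiniteType (snd K P).left := MorphismProperty.pullback_snd _ _ inferInstance
    haveI : LocallyOfFiniteType (lift z (𝟙 P)).left := by
      haveI : LocallyOfFiniteType ((lift z (𝟙 P)).left ≫ (snd Z P).left) := by
        rw [← Over.comp_left, lift_snd]; exact inferInstanceAs (LocallyOfFiniteType (𝟙 P.left))
      exact locallyOfFiniteType_of_comp _ (snd Z P).left
    haveI : LocallyOfFiniteType (pullback.fst (GIT.psi b z).left (lift z (𝟙 P)).left) :=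
      MorphismProperty.pullback_fst _ _ inferInstance
    have h1 : GLinSh.stabTo b z = pullback.fst (GIT.psi b z).left (lift z (𝟙 P)).left ≫ (snd K P).left := by
      have : GIT.psi b z ≫ snd Z P = snd K P := lift_snd _ _
      rw [← this, Over.comp_left, pullback.condition_assoc, ← Over.comp_left, lift_snd]
      exact (Category.comp_id _).symm
    rw [h1]; infer_instance
  haveI := hlft a x
  haveI := hlft aY (x ≫ φ)
  rw [OrbitTorsor.isFinite_iff_finite_sections (GLinSh.stabTo a x) e,
    OrbitTorsor.isFinite_iff_finite_sections (GLinSh.stabTo aY (x ≫ φ)) e,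
    Equiv.finite_iff (OrbitTorsor.sectionsEquiv a x), Equiv.finite_iff (OrbitTorsor.sectionsEquiv aY (x ≫ φ)), hclosed]
  refine and_congr_right fun _ => Equiv.finite_iff (Equiv.ofBijective (OrbitTorsor.fixMap a aY q φ x hequiv)
    ⟨OrbitTorsor.fixMap_injective a aY q iN φ x hcart hker hequiv,
      OrbitTorsor.fixMap_surjective a aY q iN φ x hcart hker hequiv fun h => ?_⟩)
  -- lift a point through the surjection
  haveI : LocallyOfFiniteType q.left := by
    haveI : LocallyOfFiniteType (q.left ≫ H.hom) := by rw [Over.w]; infer_instance
    exact locallyOfFiniteType_of_comp q.left H.hom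
  let π : pullback q.left h.left ⟶ Spec (CommRingCat.of Ω) := pullback.snd q.left h.left ≫ e.hom
  haveI : LocallyOfFiniteType (pullback.snd q.left h.left) := MorphismProperty.pullback_snd _ _ inferInstance
  haveI : Surjective (pullback.snd q.left h.left) := MorphismProperty.pullback_snd _ _ ‹_›
  haveI : JacobsonSpace ↥(pullback q.left h.left) := LocallyOfFiniteType.jacobsonSpace π
  obtain ⟨p₀, -⟩ := (pullback.snd q.left h.left).surjective (e.inv (IsLocalRing.closedPoint Ω))
  obtain ⟨z, -, hz⟩ := nonempty_inter_closedPoints (Z := (Set.univ : Set ↥(pullback q.left h.left)))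
    ⟨p₀, trivial⟩ isClosed_univ.isLocallyClosed
  have hs : (e.hom ≫ pointOfClosedPoint π z hz) ≫ pullback.snd q.left h.left = 𝟙 _ := by
    rw [← cancel_mono e.hom, Category.assoc, Category.assoc]
    exact (e.hom ≫= pointOfClosedPoint_comp π z hz).trans (by simp)
  refine ⟨Over.homMk (e.hom ≫ pointOfClosedPoint π z hz ≫ pullback.fst q.left h.left) ?_, ?_⟩
  · rw [← Over.w q, Category.assoc, Category.assoc, pullback.condition_assoc, Over.w h, ← Category.assoc,
      ← Category.assoc, hs, Category.id_comp]
  · apply Over.OverMorphism.ext
    show (e.hom ≫ pointOfClosedPoint π z hz ≫ pullback.fst q.left h.left) ≫ q.left = h.left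
    rw [Category.assoc, Category.assoc, pullback.condition, ← Category.assoc, ← Category.assoc, hs, Category.id_comp]

end Groth.Agent.S18978
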