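import Groth.Statements.S18983
import Mathlib.Algebra.DirectSum.Decomposition
import Mathlib.LinearAlgebra.Dimension.OrzechProperty
import Mathlib.LinearAlgebra.FiniteDimensional.Lemmas

set_option autoImplicit false
universe u v w
open CAlg

namespace Groth.Agent.S18983

/-- Let k be a field, Λ an additive commutative group, V a finite-dimensional k-vector space which is
the internal direct sum of subspaces V_μ indexed by Λ (a representation of a torus with character
group Λ), and A a nilpotent endomorphism of V mapping each V_μ into V_{μ+χ} for a fixed χ (the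
infinitesimal generator of an action of the additive group on which the torus acts through the
character χ). Then V has a basis consisting of homogeneous vectors e_{i,l}, 0 ≤ l ≤ n_i, with A
e_{i,0} = 0 and A e_{i,l+1} = e_{i,l}: a weight basis bringing A into Jordan normal form. (The
source states this, over an algebraically closed field of characteristic zero, as a decomposition of
every representation of the semidirect product of the additive group with a torus into twists of
symmetric powers of the standard two-dimensional representation by characters; the first line of its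
proof reduces that to the present statement, which is what is proved, and which holds over any
field.) -/
theorem result
    (k : Type u) [Field k] (Λ : Type v) [AddCommGroup Λ] [DecidableEq Λ]
    (V : Type w) [AddCommGroup V] [Module k V] [FiniteDimensional k V]
    (𝒱 : Λ → Submodule k V) (h𝒱 : DirectSum.IsInternal 𝒱)
    (A : Module.End k V) (hA : IsNilpotent A) (χ : Λ)
    (hhom : ∀ (μ : Λ) (v : V), v ∈ 𝒱 μ → A v ∈ 𝒱 (μ + χ)) :
    ∃ (ι : Type w) (_ : Finite ι) (n : ι → ℕ) (b : Module.Basis (Σ i : ι, Fin (n i + 1)) k V),
      (∀ (i : ι) (l : Fin (n i + 1)), ∃ μ : Λ, b ⟨i, l⟩ ∈ 𝒱 μ) ∧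
      (∀ i : ι, A (b ⟨i, 0⟩) = 0) ∧
      ∀ (i : ι) (l : Fin (n i)), A (b ⟨i, l.succ⟩) = b ⟨i, l.castSucc⟩ := by
  classical
  letI := DirectSum.IsInternal.chooseDecomposition 𝒱 h𝒱
  let p : Λ → Module.End k V := fun μ =>
    (𝒱 μ).subtype ∘ₗ DirectSum.component k Λ (fun i => 𝒱 i) μ ∘ₗ
      (DirectSum.decomposeLinearEquiv 𝒱).toLinearMap
  have hp_apply : ∀ μ v, p μ v = (DirectSum.decompose 𝒱 v μ : V) := fun μ v => rfl
  have hp_mem : ∀ μ v, p μ v ∈ 𝒱 μ := fun μ v => (DirectSum.decompose 𝒱 v μ).2
  have hp_same : ∀ μ v, v ∈ 𝒱 μ → p μ v = v := fun μ v hv => by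
    rw [hp_apply, DirectSum.decompose_of_mem_same 𝒱 hv]
  have hp_ne : ∀ μ ν v, v ∈ 𝒱 ν → ν ≠ μ → p μ v = 0 := fun μ ν v hv hne => by
    rw [hp_apply, DirectSum.decompose_of_mem_ne 𝒱 hv hne]
  have hcomm : ∀ v μ, p (μ + χ) (A v) = A (p μ v) := by
    intro v
    refine DirectSum.Decomposition.inductionOn 𝒱 (motive := fun v => ∀ μ, p (μ + χ) (A v) = A (p μ v))
      ?_ ?_ ?_ v
    · intro μ; simp
    · intro ν m μ
      by_cases hν : ν = μ
      · subst hν
        rw [hp_same _ _ (hhom ν m m.2), hp_same _ _ m.2]
      · rw [hp_ne _ _ _ (hhom ν m m.2) (fun h => hν (add_right_cancel h)),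
          hp_ne _ _ _ m.2 hν, map_zero]
    · intro a b ha hb μ
      simp only [map_add, ha μ, hb μ]
  have hspanp : ∀ v, v ∈ Submodule.span k (Set.range (fun μ => p μ v)) := by
    intro v
    have h' := Submodule.sum_mem (t := (DirectSum.decompose 𝒱 v).support) (Submodule.span k (Set.range (fun μ => p μ v)))
      (f := fun μ => (DirectSum.decompose 𝒱 v μ : V)) fun μ _ => Submodule.subset_span ⟨μ, hp_apply μ v⟩
    rwa [DirectSum.sum_support_decompose 𝒱 v] at h'
  have main : ∀ (d : ℕ) (W : Submodule k V), Module.finrank k W ≤ d → (∀ v ∈ W, A v ∈ W) →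
      (∀ v ∈ W, ∀ μ, p μ v ∈ W) →
      ∃ (ι : Type w) (_ : Fintype ι) (n : ι → ℕ) (e : (Σ i : ι, Fin (n i + 1)) → V),
        LinearIndependent k e ∧ Submodule.span k (Set.range e) = W ∧
        (∀ x, ∃ μ, e x ∈ 𝒱 μ) ∧ (∀ i, A (e ⟨i, 0⟩) = 0) ∧
        (∀ (i : ι) (l : Fin (n i)), A (e ⟨i, l.succ⟩) = e ⟨i, l.castSucc⟩) := by
    intro d
    induction d with
    | zero =>
      intro W hW _ _
      have hW0 : W = ⊥ := Submodule.finrank_eq_zero.mp (Nat.le_zero.mp hW)
      refine ⟨PEmpty, inferInstance, PEmpty.elim, fun x => x.1.elim, linearIndependent_empty_type,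
        ?_, fun x => x.1.elim, fun i => i.elim, fun i => i.elim⟩
      rw [Set.range_eq_empty, Submodule.span_empty, hW0]
    | succ d ih =>
      intro W hW hAW hpW
      by_cases hW0 : W = ⊥
      · exact ih W (by rw [hW0, finrank_bot]; exact Nat.zero_le _) hAW hpW
      let W' : Submodule k V := W.map A
      have hle : W' ≤ W := by rintro _ ⟨v, hv, rfl⟩; exact hAW v hv
      have hlt : W' < W := by
        refine lt_of_le_of_ne hle fun heq => hW0 ?_
        obtain ⟨N, hN⟩ := hA
        have : ∀ m : ℕ, W.map (A ^ m) = W := by
          intro m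
          induction m with
          | zero => rw [pow_zero, Module.End.one_eq_id, Submodule.map_id]
          | succ m ihm => rw [pow_succ', Module.End.mul_eq_comp, Submodule.map_comp, ihm]; exact heq
        have := this N
        rw [hN, Submodule.map_zero] at this
        exact this.symm
      have hpW' : ∀ v ∈ W', ∀ μ, p μ v ∈ W' := by
        rintro _ ⟨x, hx, rfl⟩ μ
        refine ⟨p (μ - χ) x, hpW x hx _, ?_⟩
        rw [← hcomm x (μ - χ), sub_add_cancel]
      obtain ⟨ι, _, n, e, he_li, he_span, he_hom, he0, hestep⟩ := ih W'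
        (by have := Submodule.finrank_lt_finrank_of_lt hlt; omega)
        (fun v hv => ⟨v, hle hv, rfl⟩) hpW'
      have heW' : ∀ x, e x ∈ W' := fun x => he_span ▸ Submodule.subset_span ⟨x, rfl⟩
      -- new top vectors
      have htop : ∀ i, ∃ t ∈ W, (∃ μ, t ∈ 𝒱 μ) ∧ A t = e ⟨i, Fin.last (n i)⟩ := by
        intro i
        obtain ⟨x, hx, hxe⟩ := heW' ⟨i, Fin.last (n i)⟩
        obtain ⟨ν, hν⟩ := he_hom ⟨i, Fin.last (n i)⟩
        refine ⟨p (ν - χ) x, hpW x hx _, ⟨_, hp_mem _ _⟩, ?_⟩
        rw [← hcomm x (ν - χ), sub_add_cancel, hxe, hp_same _ _ hν]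
      choose top htopW htophom htopA using htop
      -- bottom vectors and a homogeneous basis of the kernel extending them
      let H : Set V := {v | v ∈ W ∧ A v = 0 ∧ ∃ μ, v ∈ 𝒱 μ}
      let bot : ι → V := fun i => e ⟨i, 0⟩
      have hbot_li : LinearIndependent k bot :=
        he_li.comp (fun i => (⟨i, 0⟩ : Σ i : ι, Fin (n i + 1))) (fun i j h => congrArg Sigma.fst h)
      have hbotH : Set.range bot ⊆ H := by
        rintro _ ⟨i, rfl⟩; exact ⟨hle (heW' _), he0 i, he_hom _⟩
      obtain ⟨b, hbH, hbotb, hHb, hb_li⟩ := exists_linearIndepOn_id_extension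
        (K := k) ((linearIndepOn_id_range_iff hbot_li.injective).mpr hbot_li) hbotH
      haveI : Finite b := hb_li.finite
      have hbspan : Submodule.span k b = W ⊓ LinearMap.ker A := by
        apply le_antisymm
        · rw [Submodule.span_le]; exact fun v hv => ⟨(hbH hv).1, (hbH hv).2.1⟩
        · rintro v ⟨hvW, hvA⟩
          refine Submodule.span_le.mpr ?_ (hspanp v)
          rintro _ ⟨μ, rfl⟩
          refine hHb ⟨hpW v hvW μ, ?_, μ, hp_mem μ v⟩
          have hvA' : A v = 0 := hvA
          rw [← hcomm v μ, hvA', map_zero]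
      let J : Type w := ↥(b \ Set.range bot)
      haveI : Fintype J := Fintype.ofFinite J
      let n' : ι ⊕ J → ℕ := Sum.elim (fun i => n i + 1) (fun _ => 0)
      let e' : (Σ x : ι ⊕ J, Fin (n' x + 1)) → V := fun x => match x with
        | ⟨.inl i, l⟩ => (Fin.snoc (fun l : Fin (n i + 1) => e ⟨i, l⟩) (top i) : Fin (n i + 1 + 1) → V) l
        | ⟨.inr j, _⟩ => j.1
      have he'cast : ∀ i (l : Fin (n i + 1)), e' ⟨.inl i, l.castSucc⟩ = e ⟨i, l⟩ := fun i l =>
        Fin.snoc_castSucc (α := fun _ => V) _ _ _
      have he'last : ∀ i, e' ⟨.inl i, Fin.last (n i + 1)⟩ = top i := fun i =>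
        Fin.snoc_last (α := fun _ => V) _ _
      have he'step : ∀ (x : ι ⊕ J) (l : Fin (n' x)), A (e' ⟨x, l.succ⟩) = e' ⟨x, l.castSucc⟩ := by
        rintro (i | j) l
        · change Fin (n i + 1) at l
          refine (?_ : A (e' ⟨.inl i, l.succ⟩) = e' ⟨.inl i, l.castSucc⟩)
          rw [he'cast]
          induction l using Fin.lastCases with
          | last => rw [Fin.succ_last, he'last, htopA]
          | cast l => rw [Fin.succ_castSucc, he'cast]; exact hestep i l
        · exact l.elim0
      have hspan' : Submodule.span k (Set.range e') = W := by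
        apply le_antisymm
        · rw [Submodule.span_le]
          rintro _ ⟨⟨x, l⟩, rfl⟩
          rcases x with i | j
          · change Fin (n i + 1 + 1) at l
            induction l using Fin.lastCases with
            | last => rw [he'last]; exact htopW i
            | cast l => rw [he'cast]; exact hle (heW' _)
          · exact (hbH j.2.1).1
        · intro v hv
          have hW'le : W' ≤ (Submodule.span k (Set.range e')).map A := by
            rw [← he_span, Submodule.span_le]
            rintro _ ⟨⟨i, l⟩, rfl⟩
            exact ⟨_, Submodule.subset_span ⟨⟨.inl i, l.succ⟩, rfl⟩,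
              (he'step (.inl i) l).trans (he'cast i l)⟩
          obtain ⟨u, hu, hAu⟩ := hW'le ⟨v, hv, rfl⟩
          have huW : u ∈ W := by
            refine Submodule.span_le.mpr ?_ hu
            rintro _ ⟨⟨x, l⟩, rfl⟩
            rcases x with i | j
            · change Fin (n i + 1 + 1) at l
              induction l using Fin.lastCases with
              | last => rw [he'last]; exact htopW i
              | cast l => rw [he'cast]; exact hle (heW' _)
            · exact (hbH j.2.1).1
          have hk : v - u ∈ Submodule.span k b := by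
            rw [hbspan]
            exact ⟨W.sub_mem hv huW, by simp [LinearMap.mem_ker, hAu]⟩
          have : Submodule.span k b ≤ Submodule.span k (Set.range e') := by
            rw [Submodule.span_le]
            intro y hy
            by_cases hyb : y ∈ Set.range bot
            · obtain ⟨i, rfl⟩ := hyb
              exact Submodule.subset_span ⟨⟨.inl i, (0 : Fin (n i + 1)).castSucc⟩, he'cast i 0⟩
            · exact Submodule.subset_span ⟨⟨.inr ⟨y, hy, hyb⟩, 0⟩, rfl⟩
          simpa using Submodule.add_mem _ (this hk) hu
      refine ⟨ι ⊕ J, inferInstance, n', e', ?_, hspan', ?_, ?_, he'step⟩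
      · rw [linearIndependent_iff_card_eq_finrank_span, Set.finrank, hspan']
        have h1 : Module.finrank k W' + Module.finrank k (W ⊓ LinearMap.ker A : Submodule k V) =
            Module.finrank k W := by
          have := LinearMap.finrank_range_add_finrank_ker (A.domRestrict W)
          rw [LinearMap.range_domRestrict] at this
          rw [← this]
          refine congrArg _ ?_
          rw [LinearMap.ker_domRestrict]
          have e1 : Submodule.comap W.subtype (LinearMap.ker A) =
              Submodule.comap W.subtype (W ⊓ LinearMap.ker A) := by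
            rw [Submodule.comap_inf, Submodule.comap_subtype_self, top_inf_eq]
          rw [e1]
          exact (LinearEquiv.finrank_eq (Submodule.comapSubtypeEquivOfLe inf_le_left)).symm
        have h2 : Module.finrank k W' = ∑ i, (n i + 1) := by
          rw [← he_span]
          have := finrank_span_eq_card he_li
          rw [this]; simp
        have h3 : Module.finrank k (W ⊓ LinearMap.ker A : Submodule k V) =
            Fintype.card ι + Fintype.card J := by
          rw [← hbspan]
          haveI : Fintype b := Fintype.ofFinite b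
          rw [finrank_span_set_eq_card hb_li, Set.toFinset_card, ← Nat.card_eq_fintype_card,
            ← Nat.card_eq_fintype_card, ← Nat.card_eq_fintype_card, Nat.card_coe_set_eq,
            Nat.card_coe_set_eq, ← Nat.card_range_of_injective hbot_li.injective, Nat.card_coe_set_eq,
            add_comm, Set.ncard_sdiff_add_ncard_of_subset hbotb (Set.toFinite b)]
        rw [← h1, h2, h3]
        simp [n', Fintype.card_sigma, Fintype.sum_sum_type, Finset.sum_add_distrib, add_assoc]
      · rintro ⟨x, l⟩
        rcases x with i | j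
        · change Fin (n i + 1 + 1) at l
          induction l using Fin.lastCases with
          | last => rw [he'last]; exact htophom i
          | cast l => rw [he'cast]; exact he_hom _
        · exact (hbH j.2.1).2.2
      · rintro (i | j)
        · exact (congrArg A (he'cast i 0)).trans (he0 i)
        · exact (hbH j.2.1).2.1
  obtain ⟨ι, _, n, e, he_li, he_span, he_hom, he0, hestep⟩ := main (Module.finrank k V) ⊤
    (Submodule.finrank_le _) (fun _ _ => trivial) (fun _ _ _ => trivial)
  refine ⟨ι, inferInstance, n, Module.Basis.mk he_li he_span.ge, fun i l => ?_, fun i => ?_,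
    fun i l => ?_⟩
  · obtain ⟨μ, hμ⟩ := he_hom ⟨i, l⟩
    exact ⟨μ, by rwa [Module.Basis.mk_apply]⟩
  · rw [Module.Basis.mk_apply]; exact he0 i
  · rw [Module.Basis.mk_apply, Module.Basis.mk_apply]; exact hestep i l

end Groth.Agent.S18983
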