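import Groth.Statements.S18988
import Groth.Agent.UnipFilt.LieStable

set_option autoImplicit false
universe u
open TensorProduct
open HopfRep

namespace Groth.Agent.S18988

open TensorProduct
open scoped Groth.Agent.Comod
set_option backward.isDefEq.respectTransparency false

/-- In Hopf-algebra form, over an algebraically closed field k of characteristic zero, let A be a
finitely generated commutative Hopf algebra which is unipotent in the fixed-vector sense (the
coordinate ring of a unipotent group U), coacting multiplicatively on a finitely generated
commutative k-algebra R. Then a k-subspace V of R is a subcomodule (is invariant under U) if and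
only if it is stable under the infinitesimal action of every ε-derivation ξ : A → k: for every v in
V, applying ξ to the A-factor of the coaction of v gives an element of the image of V ⊗ k in R ⊗ k. -/
theorem result
    (k : Type u) [Field k] [IsAlgClosed k] [CharZero k]
    (A : Type u) [CommRing A] [HopfAlgebra k A] [Algebra.FiniteType k A] (hU : HopfRep.IsUnipotent k A)
    (R : Type u) [CommRing R] [Algebra k R] [Algebra.FiniteType k R]
    [HopfRep.Comod k A R] [GLin.IsCoactAlg k A R] (V : Submodule k R) :
    HopfRep.IsSubcomod (k := k) (A := A) V ↔
      ∀ (ξ : LieHopf.Lie k A) (v : R), v ∈ V →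
        LinearMap.lTensor R (ξ.toLinearMap.restrictScalars k) (HopfRep.Comod.coact (k := k) (A := A) v) ∈
          LinearMap.range (LinearMap.rTensor (LieHopf.K k A) V.subtype) := by
  constructor
  · intro hV ξ v hv
    obtain ⟨z, hz⟩ := hV v hv
    refine ⟨LinearMap.lTensor V (ξ.toLinearMap.restrictScalars k) z, ?_⟩
    rw [← hz, ← LinearMap.comp_apply, ← LinearMap.comp_apply, LinearMap.rTensor_comp_lTensor,
      LinearMap.lTensor_comp_rTensor]
  · intro h
    refine Groth.Agent.UnipFilt.isSubcomod_of_lie_stable hU V fun d hd v hv => ?_
    let D : A →ₗ[k] LieHopf.K k A := d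
    let ξ : LieHopf.Lie k A :=
      { toLinearMap := D
        map_one_eq_zero' := (show d 1 = 0 from Groth.Agent.UnipFilt.IsEpsDer.one hd)
        leibniz' := fun a b => hd a b }
    obtain ⟨z, hz⟩ := h ξ v hv
    show (TensorProduct.rid k R) (LinearMap.lTensor R d (HopfRep.Comod.coact (k := k) (A := A) v)) ∈ V
    rw [show LinearMap.lTensor R d (HopfRep.Comod.coact (k := k) (A := A) v) =
      LinearMap.rTensor k V.subtype z from hz.symm]
    clear hz
    induction z using TensorProduct.induction_on with
    | zero => simp
    | tmul a b =>
      rw [LinearMap.rTensor_tmul, TensorProduct.rid_tmul]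
      exact V.smul_mem _ a.2
    | add a b ha hb => rw [map_add, map_add]; exact add_mem ha hb

end Groth.Agent.S18988
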