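import Groth.Statements.S18987
import Groth.Agent.UnipFilt.LieStable
import Groth.Agent.S18988
import Groth.Prelude.Def_ComodSub

set_option autoImplicit false
universe u
open TensorProduct
open HopfRep

namespace Groth.Agent.S18987

open TensorProduct
open scoped Groth.Agent.Comod
set_option backward.isDefEq.respectTransparency false

/-- In Hopf-algebra form, over an algebraically closed field k of characteristic zero, let A be a
finitely generated commutative Hopf algebra which is unipotent in the fixed-vector sense (the
coordinate ring of a unipotent group U), coacting multiplicatively on a finitely generated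
commutative k-algebra R (an action of U on the affine scheme Spec R). Then an element f of R is
invariant if and only if, for every ε-derivation ξ : A → k (every element of the Lie algebra of U),
applying ξ to the A-factor of the coaction of f gives zero (the infinitesimal action of ξ kills f). -/
theorem result
    (k : Type u) [Field k] [IsAlgClosed k] [CharZero k]
    (A : Type u) [CommRing A] [HopfAlgebra k A] [Algebra.FiniteType k A] (hU : HopfRep.IsUnipotent k A)
    (R : Type u) [CommRing R] [Algebra k R] [Algebra.FiniteType k R]
    [HopfRep.Comod k A R] [GLin.IsCoactAlg k A R] (f : R) :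
    f ∈ GLin.invariants k A R ↔
      ∀ ξ : LieHopf.Lie k A,
        LinearMap.lTensor R (ξ.toLinearMap.restrictScalars k) (HopfRep.Comod.coact (k := k) (A := A) f) = 0 := by
  constructor
  · intro hf ξ
    rw [show HopfRep.Comod.coact (k := k) (A := A) f = f ⊗ₜ[k] (1 : A) from hf, LinearMap.lTensor_tmul]
    simp
  · intro h
    show HopfRep.Comod.coact (k := k) (A := A) f = f ⊗ₜ[k] (1 : A)
    rcases eq_or_ne f 0 with rfl | hf
    · simp
    let V : Submodule k R := k ∙ f
    have hV : HopfRep.IsSubcomod (k := k) (A := A) V := (Groth.Agent.S18988.result k A hU R V).2 fun ξ v hv => by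
      obtain ⟨c, rfl⟩ := Submodule.mem_span_singleton.1 hv
      rw [map_smul, map_smul, h ξ, smul_zero]
      exact zero_mem _
    letI cV := ComodSub.Comod.restr (inferInstance : HopfRep.Comod k A R) V hV
    haveI : Nontrivial V := ⟨⟨⟨f, Submodule.mem_span_singleton_self f⟩, 0, fun e => hf (congrArg Subtype.val e)⟩⟩
    obtain ⟨⟨w, hw⟩, hwfix, hwne⟩ := Submodule.exists_mem_ne_zero_of_ne_bot
      (hU V (inferInstanceAs (Module.Finite k (k ∙ f))) inferInstance)
    obtain ⟨c, rfl⟩ := Submodule.mem_span_singleton.1 hw
    have hc : c ≠ 0 := fun h0 => hwne (Subtype.ext (by simp [h0]))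
    have h1 := ComodSub.restr_coact_coe (inferInstance : HopfRep.Comod k A R) V hV ⟨c • f, hw⟩
    rw [show cV.coact ⟨c • f, hw⟩ = _ from hwfix, LinearMap.rTensor_tmul, map_smul] at h1
    refine (smul_right_injective _ hc) ?_
    show c • _ = c • _
    rw [← h1, TensorProduct.smul_tmul']
    rfl

end Groth.Agent.S18987
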