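import Groth.Statements.S18989
import Groth.Agent.UnipFilt.LieStable
import Groth.Prelude.Def_ComodTens

set_option autoImplicit false
universe u
open TensorProduct
open HopfRep

namespace Groth.Agent.S18989

open TensorProduct
open scoped Groth.Agent.Comod
set_option backward.isDefEq.respectTransparency false

/-- An action of a unipotent group on an affine scheme is determined by its infinitesimal action. Over
an algebraically closed field k of characteristic zero, let A be a finitely generated commutative
Hopf algebra, unipotent in the fixed-vector sense, coacting multiplicatively on two finitely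
generated commutative k-algebras R₁ and R₂, and let e : R₁ → R₂ be an algebra isomorphism which
intertwines the two infinitesimal actions: for every ε-derivation ξ : A → k and every f in R₁,
applying ξ to the A-factor of the coaction of e(f) equals e ⊗ id applied to the same for f. Then e
intertwines the coactions: the coaction of e(f) is (e ⊗ id) of the coaction of f for all f. (With R₁
= R₂ and e the identity this says that two actions with the same infinitesimal action coincide,
which is the printed assertion.) -/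
theorem result
    (k : Type u) [Field k] [IsAlgClosed k] [CharZero k]
    (A : Type u) [CommRing A] [HopfAlgebra k A] [Algebra.FiniteType k A] (hU : HopfRep.IsUnipotent k A)
    (R₁ R₂ : Type u) [CommRing R₁] [Algebra k R₁] [Algebra.FiniteType k R₁]
    [HopfRep.Comod k A R₁] [GLin.IsCoactAlg k A R₁]
    [CommRing R₂] [Algebra k R₂] [Algebra.FiniteType k R₂]
    [HopfRep.Comod k A R₂] [GLin.IsCoactAlg k A R₂]
    (e : R₁ ≃ₐ[k] R₂)
    (h : ∀ (ξ : LieHopf.Lie k A) (f : R₁),
      LinearMap.lTensor R₂ (ξ.toLinearMap.restrictScalars k) (HopfRep.Comod.coact (k := k) (A := A) (e f)) =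
        LinearMap.rTensor (LieHopf.K k A) e.toLinearMap
          (LinearMap.lTensor R₁ (ξ.toLinearMap.restrictScalars k) (HopfRep.Comod.coact (k := k) (A := A) f))) :
    ∀ f : R₁, HopfRep.Comod.coact (k := k) (A := A) (e f) =
      LinearMap.rTensor A e.toLinearMap (HopfRep.Comod.coact (k := k) (A := A) f) := by
  intro f
  let c₁ : HopfRep.Comod k A R₁ := inferInstance
  let c₂ : HopfRep.Comod k A R₂ := inferInstance
  letI cP : HopfRep.Comod k A (R₁ × R₂) := ComodTens.Comod.prod c₁ c₂
  let E : R₁ →ₗ[k] R₁ × R₂ := LinearMap.id.prod e.toLinearMap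
  let V : Submodule k (R₁ × R₂) := LinearMap.range E
  have hρ : ∀ x, cP.coact (E x) = (LinearMap.inl k R₁ R₂).rTensor A (c₁.coact x) +
      (LinearMap.inr k R₁ R₂).rTensor A (c₂.coact (e x)) := fun x => rfl
  have hp₁ : ∀ z : (R₁ ⊗[k] A) × (R₂ ⊗[k] A), (LinearMap.fst k R₁ R₂).rTensor A
      ((LinearMap.inl k R₁ R₂).rTensor A z.1 + (LinearMap.inr k R₁ R₂).rTensor A z.2) = z.1 := by
    intro z
    rw [map_add, ← LinearMap.comp_apply, ← LinearMap.comp_apply, ← LinearMap.rTensor_comp, ← LinearMap.rTensor_comp]
    simp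
  have hp₂ : ∀ z : (R₁ ⊗[k] A) × (R₂ ⊗[k] A), (LinearMap.snd k R₁ R₂).rTensor A
      ((LinearMap.inl k R₁ R₂).rTensor A z.1 + (LinearMap.inr k R₁ R₂).rTensor A z.2) = z.2 := by
    intro z
    rw [map_add, ← LinearMap.comp_apply, ← LinearMap.comp_apply, ← LinearMap.rTensor_comp, ← LinearMap.rTensor_comp]
    simp
  have hV : HopfRep.IsSubcomod (k := k) (A := A) V := by
    refine Groth.Agent.UnipFilt.isSubcomod_of_lie_stable hU V fun d hd v hv => ?_
    obtain ⟨x, rfl⟩ := hv
    let D : A →ₗ[k] LieHopf.K k A := d
    let ξ : LieHopf.Lie k A :=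
      { toLinearMap := D
        map_one_eq_zero' := (show d 1 = 0 from Groth.Agent.UnipFilt.IsEpsDer.one hd)
        leibniz' := fun a b => hd a b }
    have hx : Groth.Agent.Comod.cR d (c₂.coact (e x)) = e (Groth.Agent.Comod.cR d (c₁.coact x)) := by
      refine (congrArg (TensorProduct.rid k R₂) (h ξ x)).trans ?_
      show (TensorProduct.rid k R₂) (e.toLinearMap.rTensor k (d.lTensor R₁ (c₁.coact x))) = _
      rw [← LinearMap.comp_apply (e.toLinearMap.rTensor k), LinearMap.rTensor_comp_lTensor,
        ← LinearMap.lTensor_comp_rTensor, LinearMap.comp_apply]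
      exact Groth.Agent.Comod.cR_rTensor e.toLinearMap d (c₁.coact x)
    refine ⟨Groth.Agent.Comod.cR d (c₁.coact x), ?_⟩
    show E _ = Groth.Agent.Comod.cR d (cP.coact (E x))
    rw [hρ, map_add, Groth.Agent.Comod.cR_rTensor, Groth.Agent.Comod.cR_rTensor, hx]
    simp [E]
  obtain ⟨z, hz⟩ := hV (E f) ⟨f, rfl⟩
  rw [hρ] at hz
  have h1 := (congrArg ((LinearMap.fst k R₁ R₂).rTensor A) hz).trans (hp₁ (c₁.coact f, c₂.coact (e f)))
  have h2 := (congrArg ((LinearMap.snd k R₁ R₂).rTensor A) hz).trans (hp₂ (c₁.coact f, c₂.coact (e f)))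
  show c₂.coact (e f) = e.toLinearMap.rTensor A (c₁.coact f)
  rw [← show _ = c₁.coact f from h1, ← show _ = c₂.coact (e f) from h2, ← LinearMap.comp_apply, ← LinearMap.comp_apply,
    ← LinearMap.comp_apply, ← LinearMap.rTensor_comp, ← LinearMap.rTensor_comp, ← LinearMap.rTensor_comp]
  congr 2
  ext ⟨w, x, rfl⟩
  rfl

end Groth.Agent.S18989
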