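import Groth.Statements.S18994
import Mathlib.RingTheory.MvPolynomial.Homogeneous
import Mathlib.LinearAlgebra.Finsupp.LinearCombination
import Mathlib.Tactic.LinearCombination

set_option autoImplicit false
set_option backward.isDefEq.respectTransparency false
set_option linter.style.haveILetI false
universe u
open TernForm

namespace Groth.Agent.S18994

/-- Let R be a commutative ring, j ∈ {0, 1, 2}, q a homogeneous polynomial of degree 2 in R[X_0, X_1,
X_2] whose coefficient of X_j^2 is a unit, and n a natural number. Then the family consisting of the
monomials of degree n not divisible by X_j^2 (exponent of X_j at most 1) together with the products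
q · m, m running over the monomials of degree n − 2 (indexed by exponents m with |m| + 2 = n), is
linearly independent over R and spans exactly the homogeneous polynomials of degree n; in particular
it is a basis of that module and the two parts are disjoint. (The published lemma is stated over a
field with the coefficient nonzero, the special case of a field R here; the version over a ring with
the coefficient invertible is what its change-of-basis argument gives — ordering monomials by
decreasing exponent of X_j makes the matrix triangular with diagonal entries 1 and that coefficient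
— and is the form used to trivialise the bundle of degree-n forms modulo multiples of q over the
locus where the coefficient is invertible. The published lemma also allows an arbitrary monomial of
degree 2 in place of X_j^2; for the mixed monomial X_1X_2, the form q = X_1^2 + X_1X_2 + X_2^2 and n
= 3 give the linear relation q·X_1 − q·X_2 = X_1^3 − X_2^3 among members of the family, so the claim
fails there and is stated here for the square of a variable.) -/
theorem result
    (R : Type u) [CommRing R] (j : Fin 3) (q : MvPolynomial (Fin 3) R)
    (hq : q.IsHomogeneous 2) (hqj : IsUnit (q.coeff (Finsupp.single j 2))) (n : ℕ) :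
    LinearIndependent R (Sum.elim (fun m : {m : Fin 3 →₀ ℕ // m.degree = n ∧ m j < 2} => MvPolynomial.monomial m.1 (1 : R)) (fun m : {m : Fin 3 →₀ ℕ // m.degree + 2 = n} => q * MvPolynomial.monomial m.1 (1 : R))) ∧
      Submodule.span R (Set.range (Sum.elim (fun m : {m : Fin 3 →₀ ℕ // m.degree = n ∧ m j < 2} => MvPolynomial.monomial m.1 (1 : R)) (fun m : {m : Fin 3 →₀ ℕ // m.degree + 2 = n} => q * MvPolynomial.monomial m.1 (1 : R)))) = MvPolynomial.homogeneousSubmodule (Fin 3) R n := by
  classical
  set u₀ := Finsupp.single j 2 with hu₀
  obtain ⟨v, hv⟩ := hqj.exists_left_inv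
  have hqd : ∀ d, q.coeff d ≠ 0 → d.degree = 2 := fun d hd => (hq.degree_eq_sum_deg_support (MvPolynomial.mem_support_iff.mpr hd)).symm
  have hlow : ∀ d, q.coeff d ≠ 0 → d ≠ u₀ → d j < 2 := by
    intro d hd hne
    have h2 := hqd d hd
    by_contra hlt
    refine hne ?_
    have h3 : d j ≤ d.degree := Finsupp.le_degree j d
    ext i
    rcases eq_or_ne i j with rfl | hi
    · simp [hu₀]; omega
    · have h4 : d j + d i ≤ d.degree := by
        rw [Finsupp.degree_eq_sum, ← Finset.sum_pair hi.symm]
        exact Finset.sum_le_sum_of_subset (Finset.subset_univ _)
      simp [hu₀, hi]; omega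
  set fam := Sum.elim (fun m : {m : Fin 3 →₀ ℕ // m.degree = n ∧ m j < 2} => MvPolynomial.monomial m.1 (1 : R))
    (fun m : {m : Fin 3 →₀ ℕ // m.degree + 2 = n} => q * MvPolynomial.monomial m.1 (1 : R)) with hfam
  set L := Submodule.span R (Set.range fam)
  refine ⟨?_, le_antisymm (Submodule.span_le.mpr ?_) ?_⟩
  · rw [linearIndependent_iff]
    intro l hl
    let la := l.comapDomain Sum.inl Sum.inl_injective.injOn
    let lb := l.comapDomain Sum.inr Sum.inr_injective.injOn
    rw [Finsupp.linearCombination_apply] at hl
    have coefEq : ∀ t, (l.sum fun i c => c • fam i).coeff t = 0 := fun t => by rw [hl]; simp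
    have hB : ∀ m : {m : Fin 3 →₀ ℕ // m.degree + 2 = n}, l (Sum.inr m) = 0 := by
      by_contra! hcon
      obtain ⟨m₁, hm₁⟩ := hcon
      obtain ⟨m, hm, hmax⟩ := Finset.exists_max_image lb.support (fun m => m.1 j) ⟨m₁, by simpa [lb] using hm₁⟩
      have hm' : l (Sum.inr m) ≠ 0 := by simpa [lb] using hm
      have := coefEq (u₀ + m.1)
      rw [Finsupp.sum, MvPolynomial.coeff_sum, Finset.sum_eq_single (Sum.inr m)] at this
      · rw [MvPolynomial.coeff_smul, smul_eq_mul] at this
        simp only [hfam, Sum.elim_inr, MvPolynomial.coeff_mul_monomial, mul_one] at this
        exact hm' (by linear_combination v * this - l (Sum.inr m) * hv)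
      · rintro (a | b) hb hne
        · rw [MvPolynomial.coeff_smul]
          simp only [hfam, Sum.elim_inl, MvPolynomial.coeff_monomial]
          rw [if_neg, smul_zero]
          intro h
          have := congrArg (fun t => t j) h
          have := a.2.2
          simp [hu₀] at *
          omega
        · rw [MvPolynomial.coeff_smul]
          simp only [hfam, Sum.elim_inr, MvPolynomial.coeff_mul_monomial', mul_one]
          split_ifs with hle
          · suffices q.coeff (u₀ + m.1 - b.1) = 0 by rw [this, smul_zero]
            by_contra hc
            rcases eq_or_ne (u₀ + m.1 - b.1) u₀ with he | he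
            · refine hne (congrArg Sum.inr (Subtype.ext (Finsupp.ext fun i => ?_)))
              have h1 := congrArg (fun t => t i) he
              have h2 := hle i
              simp at h1 h2
              omega
            · have h1 := hlow _ hc he
              have h2 := hmax b (by simpa [lb] using hb)
              simp [hu₀] at h1 h2
              omega
          · rw [smul_zero]
      · simp [hm']
    ext i
    rcases i with a | b
    · have := coefEq a.1
      rw [Finsupp.sum, MvPolynomial.coeff_sum, Finset.sum_eq_single (Sum.inl a)] at this
      · simpa [hfam] using this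
      · rintro (a' | b) hb hne
        · rw [MvPolynomial.coeff_smul]
          simp only [hfam, Sum.elim_inl, MvPolynomial.coeff_monomial]
          rw [if_neg (fun h => hne (congrArg Sum.inl (Subtype.ext h))), smul_zero]
        · exact absurd (hB b) (by simpa using hb)
      · intro h
        rw [MvPolynomial.coeff_smul, Finsupp.notMem_support_iff.mp h, zero_smul]
    · exact hB b
  · rintro _ ⟨(a | b), rfl⟩
    · exact MvPolynomial.isHomogeneous_monomial 1 a.2.1
    · have := hq.mul (MvPolynomial.isHomogeneous_monomial (n := b.1.degree) (1 : R) rfl)
      have h3 : 2 + b.1.degree = n := by have := b.2; omega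
      rw [h3] at this
      exact this
  · have key : ∀ (e : ℕ) (m : Fin 3 →₀ ℕ), m j = e → m.degree = n → MvPolynomial.monomial m (1 : R) ∈ L := by
      intro e
      induction e using Nat.strong_induction_on with
      | _ e ih =>
        intro m hme hmn
        by_cases he : e < 2
        · exact Submodule.subset_span ⟨Sum.inl ⟨m, hmn, hme ▸ he⟩, rfl⟩
        · let m' := m - u₀
          have hm' : u₀ + m' = m := by
            refine add_tsub_cancel_of_le ?_
            rw [hu₀, Finsupp.single_le_iff]; omega
          have hdeg : m'.degree + 2 = n := by
            rw [← hmn, ← hm', map_add, hu₀, Finsupp.degree_single]; ring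
          have hmem : q * MvPolynomial.monomial m' (1 : R) ∈ L := Submodule.subset_span ⟨Sum.inr ⟨m', hdeg⟩, rfl⟩
          rw [q.as_sum, Finset.sum_mul] at hmem
          by_cases h0 : q.coeff u₀ = 0
          · haveI : Subsingleton R := subsingleton_of_zero_eq_one (by rw [← hv, h0, mul_zero])
            rw [Subsingleton.elim (1 : R) 0, MvPolynomial.monomial_zero]
            exact zero_mem _
          have hs : u₀ ∈ q.support := MvPolynomial.mem_support_iff.mpr h0
          rw [← Finset.add_sum_erase _ _ hs] at hmem
          have hrest : ∑ d ∈ q.support.erase u₀, MvPolynomial.monomial d (q.coeff d) * MvPolynomial.monomial m' (1 : R) ∈ L := by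
            refine Submodule.sum_mem _ fun d hd => ?_
            obtain ⟨hne, hd⟩ := Finset.mem_erase.mp hd
            have hc := MvPolynomial.mem_support_iff.mp hd
            rw [MvPolynomial.monomial_mul, mul_one, ← mul_one (q.coeff d), ← smul_eq_mul, ← MvPolynomial.smul_monomial]
            refine L.smul_mem _ (ih ((d + m') j) ?_ _ rfl ?_)
            · have h1 := hlow d hc hne
              simp [m', hu₀]; omega
            · rw [map_add, hqd d hc]; omega
          have h1 := L.smul_mem v ((Submodule.add_mem_iff_left _ hrest).mp hmem)
          rw [MvPolynomial.monomial_mul, hm', MvPolynomial.smul_monomial, smul_eq_mul, mul_one, hv] at h1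
          exact h1
    intro p hp
    rw [p.as_sum]
    refine Submodule.sum_mem _ fun m hm => ?_
    rw [← mul_one (p.coeff m), ← smul_eq_mul, ← MvPolynomial.smul_monomial]
    exact L.smul_mem _ (key _ m rfl (MvPolynomial.IsHomogeneous.degree_eq_sum_deg_support hp hm).symm)

end Groth.Agent.S18994
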