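import Groth.Statements.S18995
import Groth.Agent.PBundle.Basic
import Groth.Agent.TMul.RelAmple

set_option autoImplicit false
set_option backward.isDefEq.respectTransparency false
set_option backward.isDefEq.respectTransparency.types false
universe u
open CategoryTheory AlgebraicGeometry
open ProjBd

namespace Groth.Agent.S18995

open CategoryTheory.Limits TopologicalSpace Opposite
open Groth.Agent.QC (res res_res app_res)

/-- a rank one quotient that does not see a local generator vanishes on the point -/
theorem zero_or_gen {X P : Scheme.{u}} {π : P ⟶ X} {A : X.Modules} {O : P.Modules} (hO : PicF.IsInvertible O)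
    (ψ : (Scheme.Modules.pullback π).obj A ⟶ O) (p : P) :
    (∃ D : P.Opens, p ∈ D ∧ ∀ (V : P.Opens) (_ : V ≤ D) (t : Γ(O, V)), ∃ a, ψ.app V a = t) ∨
      PBundle.bc ψ (P.fromSpecResidueField p) rfl (𝟙 _) = 0 := by
  refine or_iff_not_imp_left.2 fun hG => PBundle.ext_sec' _ fun U t => ?_
  let j := P.fromSpecResidueField p
  rw [PBundle.sec'_bc]
  change OmegaSh.pullSect j O (π ⁻¹ᵁ U) (PBundle.sec' π ψ U t) = 0
  refine Groth.Agent.QC.section_eq_of_locally fun z hz => ?_
  have hjz : j z = p := P.fromSpecResidueField_apply p z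
  have hpU : p ∈ π ⁻¹ᵁ U := hjz ▸ hz
  obtain ⟨V₀, e₀, hpV₀, he₀⟩ := TMul.exists_isGen hO p
  let V := V₀ ⊓ π ⁻¹ᵁ U
  have hpV : p ∈ V := ⟨hpV₀, hpU⟩
  obtain ⟨c, hc⟩ := (he₀ V inf_le_left).2 (res O inf_le_right (PBundle.sec' π ψ U t))
  have hnot : p ∉ P.basicOpen c := fun hp => hG ⟨P.basicOpen c, hp, fun W hW s => by
    obtain ⟨d, hd⟩ := (he₀ W (hW.trans ((P.basicOpen_le c).trans inf_le_left))).2 s
    have hu : IsUnit (Groth.Agent.QC.resO P (hW.trans (P.basicOpen_le c)) c) := by
      rw [← Groth.Agent.QC.resO_resO hW (P.basicOpen_le c)]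
      exact (RingedSpace.isUnit_res_basicOpen _ c).map _
    obtain ⟨v, hv⟩ := hu
    refine ⟨(d * (↑v⁻¹ : Γ(P, W))) • res _ (hW.trans ((P.basicOpen_le c).trans inf_le_right))
      (OmegaSh.pullSect π A U t), ?_⟩
    rw [TMul.app_smul, ← app_res]
    have h2 := congrArg (res O (hW.trans (P.basicOpen_le c))) hc
    have h2' : Groth.Agent.QC.resO P (hW.trans (P.basicOpen_le c)) c •
        res O (hW.trans ((P.basicOpen_le c).trans inf_le_left)) e₀ =
        res O (hW.trans ((P.basicOpen_le c).trans inf_le_right)) (PBundle.sec' π ψ U t) := by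
      refine Eq.trans ?_ (h2.trans (res_res O _ _ _))
      exact ((Groth.Agent.QC.res_smul O _ _ _).trans (congrArg _ (res_res O _ _ _))).symm
    change (d * (↑v⁻¹ : Γ(P, W))) • res O _ (PBundle.sec' π ψ U t) = s
    rw [← h2', ← hv, smul_smul, mul_assoc, v.inv_mul, mul_one]
    exact hd⟩
  refine ⟨j ⁻¹ᵁ V, fun a ha => (ha : j a ∈ V).2, (show j z ∈ V by rw [hjz]; exact hpV), ?_⟩
  have h0 : j.app V c = 0 := by
    rw [← AlgebraicGeometry.basicOpen_eq_bot_iff, ← Scheme.preimage_basicOpen]
    refine le_bot_iff.1 fun a ha => hnot ?_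
    have ha' : j a ∈ P.basicOpen c := ha
    rwa [P.fromSpecResidueField_apply p a] at ha'
  have h1 : OmegaSh.pullSect j O V (res O inf_le_right (PBundle.sec' π ψ U t)) = 0 := by
    rw [← hc]
    refine (TMul.app_smul ((Scheme.Modules.pullbackPushforwardAdjunction j).unit.app O) c _).trans ?_
    change j.app V c • _ = (0 : Γ((Scheme.Modules.pullback j).obj O, j ⁻¹ᵁ V))
    rw [h0, zero_smul]
  rw [map_zero]
  exact (app_res ((Scheme.Modules.pullbackPushforwardAdjunction j).unit.app O) _ _).trans h1

theorem bc_map {X P T : Scheme.{u}} {π : P ⟶ X} {A E : X.Modules} {O : P.Modules}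
    (q : (Scheme.Modules.pullback π).obj E ⟶ O) (θ : A ⟶ E) (h : T ⟶ P) {g : T ⟶ X} (hg : h ≫ π = g)
    {L : T.Modules} (e : (Scheme.Modules.pullback h).obj O ⟶ L) :
    PBundle.bc ((Scheme.Modules.pullback π).map θ ≫ q) h hg e =
      (Scheme.Modules.pullback g).map θ ≫ PBundle.bc q h hg e := by
  subst hg
  refine PBundle.ext_sec' _ fun U t => ?_
  rw [PBundle.sec'_bc, PBundle.sec'_map, PBundle.sec'_map, PBundle.sec'_bc]

end Groth.Agent.S18995

namespace Groth.Agent.S18995

/-- Let X be a scheme and 0 → A → E → B → 0 a short exact sequence of finite locally free O_X-modules.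
Let (π : P → X, O(1), q) be the projective bundle of rank-one quotients of E and (π_B : P_B → X,
O_B(1), q_B) that of B, each given through its universal property, and let c : P_B → P be the
morphism over X together with an isomorphism c^*O(1) ≅ O_B(1) identifying c^*q with π_B^*E → π_B^*B
→ O_B(1); thus c is the closed sub-bundle P(B) ⊂ P(E). Then for every open subset W of P that does
not meet the image of c, the restriction to W of the composite π^*A → π^*E → O(1) is an epimorphism
of O_W-modules. Consequently W carries an invertible quotient of the pull-back of A and hence a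
morphism to P(A) over X, the projection away from the sub-bundle. (In the convention where a
projective bundle parametrises lines rather than rank-one quotients, this is the statement that for
an exact sequence 0 → F → E → G → 0 of locally free sheaves the tautological line sub-bundle of E
restricted to the complement of P(F) in P(E) maps isomorphically onto a line sub-bundle of the
pull-back of G, giving the canonical morphism from that complement to P(G); A, E, B here are the
duals of G, E, F there. The published statement takes X of finite type over a field; the row is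
stated for an arbitrary scheme X, which the argument allows.) -/
theorem result
    (X P PB : Scheme.{u}) (S : ShortComplex X.Modules) (hS : S.ShortExact)
    (hA : FlatMod.IsFinLocFree S.X₁) (hE : FlatMod.IsFinLocFree S.X₂) (hB : FlatMod.IsFinLocFree S.X₃)
    (π : P ⟶ X) (O1 : P.Modules) (q : (Scheme.Modules.pullback π).obj S.X₂ ⟶ O1)
    (hP : KRR.IsProjBundle π S.X₂ O1 q)
    (πB : PB ⟶ X) (O1B : PB.Modules) (qB : (Scheme.Modules.pullback πB).obj S.X₃ ⟶ O1B)
    (hPB : KRR.IsProjBundle πB S.X₃ O1B qB)
    (c : PB ⟶ P) (hc : c ≫ π = πB) (ec : (Scheme.Modules.pullback c).obj O1 ≅ O1B)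
    (hcq : (Scheme.Modules.pullbackCongr hc).inv.app S.X₂ ≫ (Scheme.Modules.pullbackComp c π).inv.app S.X₂ ≫
      (Scheme.Modules.pullback c).map q ≫ ec.hom = (Scheme.Modules.pullback πB).map S.g ≫ qB)
    (W : P.Opens) (hW : Disjoint (W : Set P) (Set.range c.base)) :
    Epi ((Scheme.Modules.pullback W.ι).map ((Scheme.Modules.pullback π).map S.f ≫ q)) := by
  let ψ := (Scheme.Modules.pullback π).map S.f ≫ q
  have key : ∀ p : P, p ∈ W → ∃ D : P.Opens, p ∈ D ∧
      ∀ (V : P.Opens) (_ : V ≤ D) (t : Γ(O1, V)), ∃ a, ψ.app V a = t := by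
    intro p hp
    refine (zero_or_gen (PBundle.isInvertible hP) ψ p).resolve_right fun h0 => ?_
    let j := P.fromSpecResidueField p
    let L := (Scheme.Modules.pullback j).obj O1
    have hL : FlatMod.IsFinLocFreeOfRank 1 L :=
      CurveRR.isFinLocFreeOfRank_one (PicLoc.isInvertible_pullback j (PBundle.isInvertible hP))
    let sE := PBundle.bc q j rfl (𝟙 L)
    haveI : Epi sE := by
      haveI := hP.epi
      haveI : (Scheme.Modules.pullback j).PreservesEpimorphisms :=
        CategoryTheory.Functor.preservesEpimorphisms_of_adjunction (Scheme.Modules.pullbackPushforwardAdjunction j)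
      dsimp only [sE, PBundle.bc]
      infer_instance
    haveI : Limits.PreservesColimitsOfSize.{0, 0} (Scheme.Modules.pullback (j ≫ π)) :=
      (Scheme.Modules.pullbackPushforwardAdjunction (j ≫ π)).leftAdjoint_preservesColimits
    haveI := hS.epi_g
    let hcok := Limits.CokernelCofork.mapIsColimit _ hS.gIsCokernel (Scheme.Modules.pullback (j ≫ π))
    obtain ⟨sB, hsB⟩ := Limits.CokernelCofork.IsColimit.desc' hcok sE ((bc_map q S.f j rfl (𝟙 L)).symm.trans h0)
    replace hsB : (Scheme.Modules.pullback (j ≫ π)).map S.g ≫ sB = sE := hsB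
    haveI : Epi ((Scheme.Modules.pullback (j ≫ π)).map S.g ≫ sB) := by rw [hsB]; infer_instance
    haveI : Epi sB := epi_of_epi ((Scheme.Modules.pullback (j ≫ π)).map S.g) sB
    obtain ⟨h, hh, e, he⟩ := PBundle.exists_hom hPB (j ≫ π) hL sB
    have hgc : (h ≫ c) ≫ π = j ≫ π := by rw [Category.assoc, hc, hh]
    have h1 : h ≫ c = j := PBundle.hom_unique hP hL sE hgc rfl
      (((Scheme.Modules.pullbackComp h c).app O1).symm ≪≫ (Scheme.Modules.pullback h).mapIso ec ≪≫ e)
      (Iso.refl _) (((PBundle.bc_comp' q c hc h hh ec.hom e.hom).symm.trans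
        ((congrArg (fun w => PBundle.bc w h hh e.hom) hcq).trans
          ((bc_map qB S.g h hh e.hom).trans (by rw [he]; exact hsB))))) rfl
    obtain ⟨z⟩ : Nonempty (Spec (P.residueField p)) := inferInstance
    exact Set.disjoint_left.1 hW hp ⟨h z, by
      rw [← Scheme.Hom.comp_apply, h1]
      exact P.fromSpecResidueField_apply p z⟩
  haveI : Epi ((Scheme.Modules.restrictFunctor W.ι).map ψ) := by
    refine InvGen.epi_of_locally _ fun U t x hx => ?_
    obtain ⟨D, hxD, hD⟩ := key (W.ι x) x.2
    refine ⟨U ⊓ W.ι ⁻¹ᵁ D, inf_le_left, ⟨hx, hxD⟩, ?_⟩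
    obtain ⟨a, ha⟩ := hD (W.ι ''ᵁ (U ⊓ W.ι ⁻¹ᵁ D))
      (((W.ι.image_mono inf_le_right)).trans (W.ι.image_preimage_le D)) _
    exact ⟨a, ha⟩
  exact ((NatTrans.naturality (Scheme.Modules.restrictFunctorIsoPullback W.ι).inv ψ) ▸
    (inferInstance : Epi ((Scheme.Modules.restrictFunctorIsoPullback W.ι).inv.app _ ≫
      (Scheme.Modules.restrictFunctor W.ι).map ψ)) |> fun hh => (epi_comp_iff_of_isIso _ _).1 hh)

end Groth.Agent.S18995
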