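import Groth.Statements.S1900
import Groth.Agent.P1Div.Push

set_option autoImplicit false
universe u
open CategoryTheory AlgebraicGeometry
open CategoryTheory.Limits
open Cyc

namespace Groth.Agent.S1900

open Groth.Agent in

/-- Let W → P^1_X be a closed immersion with W integral of δ-dimension k + 1 (for the dimension function
on P^1_X induced from δ on X), whose generic point lies neither over the zero section nor over the
section at infinity. Let W_0, W_∞ → X be the pullbacks of W along the two sections X → P^1_X (closed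
subschemes of X). Then [W_0]_k ∼_rat [W_∞]_k on X. A pair (X, δ) with Cyc.IsSetup plays the role of
a scheme locally of finite type over a fixed base with a dimension function (X locally Noetherian
with universally catenary local rings, δ a dimension function), and Cyc.DeltaCompat records that the
dimension function upstairs is the induced one. -/
theorem result (X : Scheme.{u}) (δ : X → ℤ) (hX : Cyc.IsSetup X δ) (δP : ↥(CohB1.ProjSpaceOver 1 X) → ℤ) (hP : Cyc.DeltaCompat (CohB1.ProjSpaceOver.toBase 1 X) δP δ) (k : ℤ) (W : Scheme.{u}) [IsIntegral W] (ι : W ⟶ CohB1.ProjSpaceOver 1 X) [IsClosedImmersion ι] (hW : δP (ι (genericPoint W)) = k + 1) (h0 : ι (genericPoint W) ∉ Set.range ⇑(P1.sect X 0)) (h1 : ι (genericPoint W) ∉ Set.range ⇑(P1.sect X 1)) (α β : AlgebraicCycle X ℤ) (hα : ⇑α = Cyc.subschemeFun δ k (pullback.snd ι (P1.sect X 0))) (hβ : ⇑β = Cyc.subschemeFun δ k (pullback.snd ι (P1.sect X 1))) : Cyc.RatEquiv δ k α β := by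
  classical
  haveI := hX.1
  haveI := Groth.Agent.P1Div.isLocallyNoetherian_over (X := X)
  have hD := Groth.Agent.P1Div.isDimFun_over hX hP
  have hω := Groth.Agent.P1Div.mem_dom_of_not_range h0 h1
  refine Groth.Agent.CycPush.ratEquivZero_map (CohB1.ProjSpaceOver.toBase 1 X) hD hX.2.2 hP k
    (CycLim.mkCycle (Cyc.divFun δP _ (Groth.Agent.P1Div.tVal _ hω.1)) fun {U} hU =>
      CycDiv.finite_divFun hD _ (Groth.Agent.P1Div.tVal_ne_zero hω.1 h0) hU)
    ⟨PUnit, fun _ => _, fun _ => Groth.Agent.P1Div.tVal _ hω.1, fun _ => hW,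
      fun _ => Groth.Agent.P1Div.tVal_ne_zero hω.1 h0, fun _ => ⟨Set.univ, isOpen_univ, trivial, Set.toFinite _⟩,
      fun x => (finsum_unique (fun _ : PUnit.{u + 1} => Cyc.divFun δP _ (Groth.Agent.P1Div.tVal _ hω.1) x)).symm⟩
    _ fun x => ?_
  show α x - β x = _
  rw [hα, hβ]
  exact (Groth.Agent.P1Div.push_divFun_tVal hP hD ι rfl hW hω.1 h0 h1 x).symm

end Groth.Agent.S1900
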