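import Groth.Statements.S19004
import Mathlib

set_option autoImplicit false
open GIT

namespace Groth.Agent.S19004

/-- For the group PGL(n) acting on the space of n × n matrices the T-quotient is (P^{n−1})^n with Chow
ring ℚ[t_1,…,t_n]/(t_1^n,…,t_n^n), the class c_top(g/t) is the product of all roots t_i − t_j (i ≠
j), and the computation in the proof shows that this product equals n!·t_1^{n−1}⋯t_n^{n−1} in that
ring. Stated here as the equivalent coefficient identity in ℤ[t_1,…,t_n]: the coefficient of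
t_1^{n−1}⋯t_n^{n−1} in the product over ordered pairs i ≠ j of (t_i − t_j) is n!. -/
theorem result (n : ℕ) :
    MvPolynomial.coeff (Finsupp.equivFunOnFinite.symm (fun _ : Fin n => n - 1))
      (∏ i : Fin n, ∏ j ∈ Finset.univ.erase i, (MvPolynomial.X i - MvPolynomial.X j : MvPolynomial (Fin n) ℤ)) = (n.factorial : ℤ) := by
  classical
  let t : Fin n → MvPolynomial (Fin n) ℤ := MvPolynomial.X
  have hlow : ∀ s : Fin n → MvPolynomial (Fin n) ℤ,
      ∏ i, ∏ j ∈ Finset.Iio i, (s i - s j) = (Matrix.vandermonde s).det := fun s => by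
    rw [Matrix.det_vandermonde]
    exact Finset.prod_comm' (by simp)
  have hsplit : ∏ i, ∏ j ∈ Finset.univ.erase i, (t i - t j) =
      (Matrix.vandermonde t).det * (Matrix.vandermonde (t ∘ Fin.rev)).det := by
    rw [← hlow, ← hlow]
    rw [← Equiv.prod_comp Fin.revPerm (fun i => ∏ j ∈ Finset.Iio i, ((t ∘ Fin.rev) i - (t ∘ Fin.rev) j)), ← Finset.prod_mul_distrib]
    refine Finset.prod_congr rfl fun i _ => ?_
    have h2 : ∏ j ∈ Finset.Iio (Fin.revPerm i), ((t ∘ Fin.rev) (Fin.revPerm i) - (t ∘ Fin.rev) j) =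
        ∏ j ∈ Finset.Ioi i, (t i - t j) := by
      refine Finset.prod_nbij' Fin.rev Fin.rev ?_ ?_ ?_ ?_ ?_ <;> simp [Fin.lt_rev_iff, Fin.rev_lt_iff]
    rw [h2, ← Finset.prod_union (Finset.disjoint_left.2 fun a h1 h2 => by simp at h1 h2; omega)]
    refine Finset.prod_congr ?_ fun _ _ => rfl
    ext j; simp [lt_or_lt_iff_ne]
  have hdet : ∀ e : Equiv.Perm (Fin n), (Matrix.vandermonde (t ∘ e)).det = ∑ σ : Equiv.Perm (Fin n),
      MvPolynomial.monomial (Finsupp.equivFunOnFinite.symm fun x => ((σ⁻¹ (e⁻¹ x) : Fin n) : ℕ))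
        ((Equiv.Perm.sign σ : ℤ)) := by
    intro e
    rw [Matrix.det_apply']
    refine Finset.sum_congr rfl fun σ _ => ?_
    rw [MvPolynomial.monomial_eq, Finsupp.prod_fintype _ _ (fun i => pow_zero _)]
    rw [← Equiv.prod_comp (σ.trans e) (fun x => MvPolynomial.X (R := ℤ) x ^ _)]
    simp [t, Matrix.vandermonde_apply]
  rw [show (∏ i : Fin n, ∏ j ∈ Finset.univ.erase i, (MvPolynomial.X i - MvPolynomial.X j : MvPolynomial (Fin n) ℤ)) = _ from hsplit]
  rw [show Matrix.vandermonde t = Matrix.vandermonde (t ∘ ⇑(1 : Equiv.Perm (Fin n))) from rfl,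
    show t ∘ Fin.rev = t ∘ ⇑Fin.revPerm from rfl, hdet, hdet, Finset.sum_mul_sum]
  simp only [MvPolynomial.monomial_mul, MvPolynomial.coeff_sum, MvPolynomial.coeff_monomial]
  let τ : Equiv.Perm (Fin n) → Equiv.Perm (Fin n) := fun σ => Fin.revPerm * σ * Fin.revPerm
  have key : ∀ σ ρ : Equiv.Perm (Fin n),
      ((Finsupp.equivFunOnFinite.symm fun x => ((σ⁻¹ ((1 : Equiv.Perm (Fin n))⁻¹ x) : Fin n) : ℕ)) +
        (Finsupp.equivFunOnFinite.symm fun x => ((ρ⁻¹ (Fin.revPerm⁻¹ x) : Fin n) : ℕ)) =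
        Finsupp.equivFunOnFinite.symm fun _ : Fin n => n - 1) ↔ ρ = τ σ := by
    intro σ ρ
    rw [← inv_inj (a := ρ), Equiv.ext_iff, DFunLike.ext_iff, ← Fin.revPerm.forall_congr_right]
    refine forall_congr' fun x => ?_
    simp [τ, Fin.ext_iff, Fin.val_rev, Equiv.Perm.inv_def, Fin.revPerm_symm, mul_inv_rev]
    omega
  simp only [key, Finset.sum_ite_eq', Finset.mem_univ, if_true]
  have : ∀ σ : Equiv.Perm (Fin n), (Equiv.Perm.sign σ : ℤ) * (Equiv.Perm.sign (τ σ) : ℤ) = 1 := fun σ => by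
    rcases Int.units_eq_one_or (Equiv.Perm.sign σ) with h | h <;>
      rcases Int.units_eq_one_or (Equiv.Perm.sign (Fin.revPerm : Equiv.Perm (Fin n))) with h' | h' <;>
      simp [τ, h, h']
  simp [this, Fintype.card_perm]

end Groth.Agent.S19004
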