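import Groth.Statements.S19005
import Mathlib

set_option autoImplicit false
open scoped TensorProduct
open K2Cent

namespace Groth.Agent.S19005

/-- For abelian groups X and M and ε in M with 2ε = 0 (in the source X is the character group of a split
torus and ε is the class of −1 among the units), the map x ↦ (x ⊗ x, −(x ⊗ ε)) into (X ⊗ X) × (X ⊗
M) is quadratic over ℤ, i.e. it underlies an integer quadratic map with exactly these values. -/
theorem result (X M : Type*) [AddCommGroup X]
    [AddCommGroup M] (ε : M) (hε : 2 • ε = 0) :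
    ∃ R : QuadraticMap ℤ X (TensorProduct ℤ X X × TensorProduct ℤ X M),
      ∀ x : X, R x = (x ⊗ₜ[ℤ] x, -(x ⊗ₜ[ℤ] ε)) := by
  let R : X → TensorProduct ℤ X X × TensorProduct ℤ X M := fun x => (x ⊗ₜ[ℤ] x, -(x ⊗ₜ[ℤ] ε))
  let B : LinearMap.BilinMap ℤ X (TensorProduct ℤ X X × TensorProduct ℤ X M) :=
    (TensorProduct.mk ℤ X X + (TensorProduct.mk ℤ X X).flip).compr₂ (LinearMap.inl ℤ _ _)
  refine ⟨{ toFun := R, toFun_smul := fun a x => ?_, exists_companion' := ⟨B, fun x y => ?_⟩ }, fun x => rfl⟩
  · refine Prod.ext ?_ ?_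
    · simp [R, TensorProduct.smul_tmul', TensorProduct.tmul_smul, smul_smul]
    · show -((a • x) ⊗ₜ[ℤ] ε) = (a * a) • -(x ⊗ₜ[ℤ] ε)
      obtain ⟨m, hm⟩ := Int.even_mul_pred_self a
      have h2 : (2 : ℤ) • ε = 0 := by simpa [two_nsmul, two_zsmul] using hε
      have h3 : (a * a - a) • (x ⊗ₜ[ℤ] ε) = 0 := by
        rw [← TensorProduct.tmul_smul, show a * a - a = m * 2 by linarith [hm, mul_sub a a 1], ← smul_smul, h2,
          smul_zero, TensorProduct.tmul_zero]
      rw [sub_smul, sub_eq_zero] at h3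
      rw [smul_neg, h3, TensorProduct.smul_tmul']
  · refine Prod.ext ?_ ?_
    · simp [R, B, TensorProduct.add_tmul, TensorProduct.tmul_add]; abel
    · simp [R, B, TensorProduct.add_tmul]; abel

end Groth.Agent.S19005
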