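import Groth.Statements.S19007
import Mathlib.Tactic

set_option autoImplicit false
set_option linter.style.haveILetI false

universe u v w x
open RootD

namespace Groth.Agent.S19007

lemma polar_eq {ι : Type u} {R : Type v} {M : Type w} {N : Type x} [CommRing R] [IsDomain R] [CharZero R]
    [AddCommGroup M] [Module R M] [AddCommGroup N] [Module R N] (P : RootPairing ι R M N)
    (Q : QuadraticMap R N R) (i j : ι)
    (h : ∀ y ∈ Submodule.span R (Set.range P.coroot), Q (P.coreflection j y) = Q y) :
    QuadraticMap.polar Q (P.coroot i) (P.coroot j) = P.pairing j i * Q (P.coroot j) := by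
  have hf : ∀ y ∈ Submodule.span R (Set.range P.coroot),
      P.root' j y * (P.root' j y * Q (P.coroot j) - QuadraticMap.polar Q y (P.coroot j)) = 0 := by
    intro y hy
    have h1 := h y hy
    rw [RootPairing.coreflection_apply, sub_eq_add_neg, ← neg_smul, QuadraticMap.map_add Q,
      QuadraticMap.map_smul, QuadraticMap.polar_smul_right, smul_eq_mul, smul_eq_mul] at h1
    linear_combination h1
  have hi : P.coroot i ∈ Submodule.span R (Set.range P.coroot) := Submodule.subset_span ⟨i, rfl⟩
  have hj : P.coroot j ∈ Submodule.span R (Set.range P.coroot) := Submodule.subset_span ⟨j, rfl⟩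
  by_cases hc : P.pairing j i = 0
  · have h2 := hf (P.coroot i + P.coroot j) (add_mem hi hj)
    have e1 : P.root' j (P.coroot i + P.coroot j) = 2 := by
      rw [map_add]
      change P.pairing j i + P.pairing j j = 2
      rw [hc, P.pairing_same, zero_add]
    rw [e1, QuadraticMap.polar_add_left, QuadraticMap.polar_self, two_nsmul] at h2
    have h3 := (mul_eq_zero.mp h2).resolve_left two_ne_zero
    linear_combination -h3 - Q (P.coroot j) * hc
  · have h2 := (mul_eq_zero.mp (hf _ hi)).resolve_left hc
    change P.pairing j i * _ - _ = 0 at h2
    linear_combination -h2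


/-- Let P be a finite reduced crystallographic root pairing over an integral domain of characteristic
zero, b a base of P (a system of simple roots) and Q a quadratic form on the coweight module with
polar form B. Then Q is invariant under all root reflections (equivalently under the Weyl group) on
the span of the coroots if and only if for all pairs of distinct simple roots α_i ≠ α_j one has
B(α_i^∨, α_j^∨) = ⟨α_j, α_i^∨⟩ Q(α_j^∨). (In the source the form is integer-valued on the lattice
spanned by the coroots and the condition says that the bilinear form lies in the kernel of the last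
map of a three-term complex built from the Bruhat cells of codimension at most two; here the form
takes values in the base ring.) -/
theorem result {ι : Type u} {R : Type v} {M : Type w} {N : Type x} [CommRing R] [IsDomain R] [CharZero R]
    [AddCommGroup M] [Module R M] [AddCommGroup N] [Module R N] (P : RootPairing ι R M N)
    [Finite ι] [P.IsCrystallographic] [P.IsReduced] (b : P.Base) (Q : QuadraticMap R N R) :
    (∀ i : ι, ∀ y ∈ Submodule.span R (Set.range P.coroot), Q (P.coreflection i y) = Q y) ↔
      ∀ i ∈ b.support, ∀ j ∈ b.support, i ≠ j →
        QuadraticMap.polar Q (P.coroot i) (P.coroot j) = P.pairing j i * Q (P.coroot j) := by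
  refine ⟨fun h i _ j _ _ => polar_eq P Q i j (h j), fun h => ?_⟩
  have hs : ∀ j ∈ b.support, ∀ y ∈ Submodule.span R (Set.range P.coroot), Q (P.coreflection j y) = Q y := by
    intro j hj y hy
    have key : QuadraticMap.polar Q y (P.coroot j) = P.root' j y * Q (P.coroot j) := by
      rw [show Submodule.span R (Set.range P.coroot) = P.corootSpan R from rfl, ← b.span_coroot_support] at hy
      induction hy using Submodule.span_induction with
      | mem z hz =>
        obtain ⟨i, hi, rfl⟩ := hz
        by_cases hij : i = j
        · subst hij
          change _ = P.pairing i i * _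
          rw [QuadraticMap.polar_self, P.pairing_same, two_nsmul, two_mul]
        · exact h i hi j hj hij
      | zero => simp
      | add a c _ _ ha hc => rw [QuadraticMap.polar_add_left, ha, hc, map_add]; ring
      | smul r a _ ha =>
        rw [QuadraticMap.polar_smul_left, ha, map_smul, smul_eq_mul, smul_eq_mul, mul_assoc]
    rw [RootPairing.coreflection_apply, sub_eq_add_neg, ← neg_smul, QuadraticMap.map_add Q,
      QuadraticMap.map_smul, QuadraticMap.polar_smul_right, smul_eq_mul, smul_eq_mul, key]
    ring
  have hstab : ∀ (j : ι), ∀ y ∈ Submodule.span R (Set.range P.coroot),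
      P.coreflection j y ∈ Submodule.span R (Set.range P.coroot) := fun j y hy => by
    rw [RootPairing.coreflection_apply]
    exact sub_mem hy (Submodule.smul_mem _ _ (Submodule.subset_span ⟨j, rfl⟩))
  have hconj : ∀ (i j : ι) (y : N), P.coreflection (P.reflectionPerm j i) y =
      P.coreflection j (P.coreflection i (P.coreflection j y)) := fun i j y =>
    LinearEquiv.congr_fun (P.flip.reflection_reflectionPerm (i := i) (j := j)) y
  intro i
  refine b.induction_reflect i (fun i hi y hy => ?_) hs (fun i j hi hj y hy => ?_)
  · rw [hconj i i, P.coreflection_same]
    exact hi y hy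
  · rw [hconj i j, hs j hj _ (hstab i _ (hstab j y hy)), hi _ (hstab j y hy), hs j hj y hy]

end Groth.Agent.S19007
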