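import Groth.Statements.S19008
import Mathlib

set_option autoImplicit false
universe u v w x
open RootD

namespace Groth.Agent.S19008
section Aux

variable {ι R M N : Type*} [CommRing R] [IsDomain R] [CharZero R] [AddCommGroup M] [Module R M]
  [AddCommGroup N] [Module R N] {P : RootPairing ι R M N} [Finite ι] [P.IsCrystallographic] [P.IsReduced]
  (b : P.Base)

/-- A nonempty set of simple roots has a vertex with at most one neighbour, the edge to which has unit
coefficient (otherwise half-weighting the ends gives a null vector of the positive form). -/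
lemma exists_good [DecidableEq ι] (S : Finset ι) (hS : S ⊆ b.support) (hne : S.Nonempty) :
    ∃ j ∈ S, (∀ i ∈ S, i ≠ j → P.pairingIn ℤ j i = 0) ∨
      ∃ i ∈ S, i ≠ j ∧ P.pairingIn ℤ j i = -1 ∧ ∀ l ∈ S, l ≠ j → l ≠ i → P.pairingIn ℤ j l = 0 := by
  haveI := Fintype.ofFinite ι
  haveI : Module.IsReflexive R M := .of_isPerfPair P.toLinearMap
  haveI : Module.IsTorsionFree R M := inferInstance
  by_contra hno
  push Not at hno
  let B := P.posRootForm ℤ
  let r : ι → Submodule.span ℤ (Set.range P.root) := fun i => P.rootSpanMem ℤ i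
  let L : ι → ℤ := fun i => B.rootLength i
  let W : ι → ι → ℤ := fun i j => 2 * B.posForm (r i) (r j)
  let nb : ι → Finset ι := fun i => S.filter fun j => j ≠ i ∧ P.pairingIn ℤ i j ≠ 0
  have hW : ∀ i j, W i j = P.pairingIn ℤ i j * L j := fun i j => by
    apply FaithfulSMul.algebraMap_injective ℤ R
    simp only [W, L, r, map_mul, RootPairing.algebraMap_pairingIn, RootPairing.RootPositiveForm.algebraMap_rootLength,
      RootPairing.RootPositiveForm.algebraMap_posForm, map_ofNat]
    exact B.two_mul_apply_root_root i j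
  have hWs : ∀ i j, W i j = W j i := fun i j => by
    show 2 * _ = 2 * _
    rw [← B.isSymm_posForm.eq, RingHom.id_apply]
  have hL : ∀ i, 0 < L i := fun i => B.rootLength_pos i
  have hneg : ∀ i ∈ S, ∀ j ∈ nb i, P.pairingIn ℤ i j ≤ -1 ∧ P.pairingIn ℤ j i ≤ -1 ∧ i ∈ nb j ∧ j ∈ S := by
    intro i hi j hj
    obtain ⟨hjS, hji, h0⟩ := Finset.mem_filter.mp hj
    have h0' : P.pairingIn ℤ j i ≠ 0 := fun h => h0 ((P.pairingIn_eq_zero_iff).mp h)
    have h1 := b.pairingIn_le_zero_of_ne hji.symm (hS hi) (hS hjS)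
    have h2 := b.pairingIn_le_zero_of_ne hji (hS hjS) (hS hi)
    exact ⟨by omega, by omega, Finset.mem_filter.mpr ⟨hi, hji.symm, h0'⟩, hjS⟩
  have hdeg : ∀ i ∈ S, 1 ≤ (nb i).card := fun i hi => by
    obtain ⟨j, hj, hji, h0⟩ := (hno i hi).1
    exact Finset.card_pos.mpr ⟨j, Finset.mem_filter.mpr ⟨hj, hji, h0⟩⟩
  have hleaf : ∀ i ∈ S, ∀ j ∈ nb i, (nb i).card = 1 → P.pairingIn ℤ i j ≤ -2 := fun i hi j hj h1 => by
    obtain ⟨hjS, hji, -⟩ := Finset.mem_filter.mp hj
    have := (hneg i hi j hj).1
    by_contra h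
    obtain ⟨l, hl, hli, hlj, h0⟩ := (hno i hi).2 j hjS hji (by omega)
    exact hlj (Finset.card_le_one.mp h1.le l (Finset.mem_filter.mpr ⟨hl, hli, h0⟩) j hj)
  let c : ι → ℤ := fun i => if (nb i).card = 1 then 1 else 2
  let s : ι → ℤ := fun i => if (nb i).card = 1 then 2 else 4
  have hedge : ∀ i ∈ S, ∀ j ∈ nb i, 2 * (c i * c j * W i j) ≤ -(s i * L i) - s j * L j := by
    intro i hi j hj
    obtain ⟨hij1, hji1, hij', hjS⟩ := hneg i hi j hj
    have e1 := hW i j
    have e2 : W i j = P.pairingIn ℤ j i * L i := (hWs i j).trans (hW j i)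
    have b1 : W i j ≤ -L j := by rw [e1]; nlinarith [hL j]
    have b2 : W i j ≤ -L i := by rw [e2]; nlinarith [hL i]
    have b3 : (nb i).card = 1 → W i j ≤ -(2 * L j) := fun h => by
      rw [e1]; nlinarith [hL j, hleaf i hi j hj h]
    have b4 : (nb j).card = 1 → W i j ≤ -(2 * L i) := fun h => by
      rw [e2]; nlinarith [hL i, hleaf j hjS i hij' h]
    simp only [c, s]
    by_cases hci : (nb i).card = 1 <;> by_cases hcj : (nb j).card = 1 <;> simp only [hci, hcj, if_true, if_false]
    · linarith [b3 hci, b4 hcj]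
    · linarith [b3 hci]
    · linarith [b4 hcj]
    · linarith
  have hsum : ∑ i ∈ S, ∑ j ∈ nb i, c i * c j * W i j ≤ -∑ i ∈ S, ((nb i).card : ℤ) * (s i * L i) := by
    have h1 := Finset.sum_le_sum fun i hi => Finset.sum_le_sum fun j hj => hedge i hi j hj
    simp only [Finset.sum_sub_distrib, ← Finset.mul_sum, Finset.sum_neg_distrib, Finset.sum_const,
      nsmul_eq_mul] at h1
    have h2 : ∑ i ∈ S, ∑ j ∈ nb i, s j * L j = ∑ i ∈ S, ((nb i).card : ℤ) * (s i * L i) := by
      rw [Finset.sum_comm' (t' := S) (s' := nb) (fun i j => ?_)]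
      · simp
      · constructor
        · intro h; exact ⟨(hneg i h.1 j h.2).2.2.1, (hneg i h.1 j h.2).2.2.2⟩
        · intro h; exact ⟨(hneg j h.2 i h.1).2.2.2, (hneg j h.2 i h.1).2.2.1⟩
    rw [h2] at h1
    have e3 : ∑ x ∈ S, s x * (((nb x).card : ℤ) * L x) = ∑ i ∈ S, ((nb i).card : ℤ) * (s i * L i) :=
      Finset.sum_congr rfl fun x _ => by ring
    linarith
  let v : Submodule.span ℤ (Set.range P.root) := ∑ i ∈ S, c i • r i
  have hv : v ≠ 0 := fun h => by
    have h' : ∑ i ∈ S, c i • P.root i = 0 := by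
      have e := congrArg Subtype.val h
      simpa [v, r, RootPairing.rootSpanMem] using e
    have hli : LinearIndepOn ℤ P.root (S : Set ι) :=
      LinearIndepOn.mono (b.linearIndepOn_root.restrict_scalars' ℤ) (by exact_mod_cast hS)
    obtain ⟨i, hi⟩ := hne
    have := linearIndepOn_finset_iff.mp hli c h' i hi
    simp only [c] at this
    split at this <;> omega
  have hpos : 0 < B.posForm v v := by
    have := P.posRootForm_rootFormIn_posDef ℤ v hv
    simpa [B] using this
  have hQ : 2 * B.posForm v v = ∑ i ∈ S, (2 * (c i * c i) * L i + ∑ j ∈ nb i, c i * c j * W i j) := by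
    simp only [v, map_sum, map_smul, LinearMap.coe_sum, Finset.sum_apply, LinearMap.smul_apply, smul_eq_mul,
      Finset.mul_sum]
    rw [Finset.sum_comm]
    refine Finset.sum_congr rfl fun i hi => ?_
    rw [← Finset.add_sum_erase S _ hi]
    refine congrArg₂ (· + ·) ?_ ((Finset.sum_subset ?_ ?_).symm.trans (Finset.sum_congr rfl fun j _ => ?_))
    · simp only [L, r, RootPairing.RootPositiveForm.rootLength]; ring
    · intro j hj
      obtain ⟨hjS, hji, -⟩ := Finset.mem_filter.mp hj
      exact Finset.mem_erase.mpr ⟨hji, hjS⟩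
    · intro j hj hj'
      obtain ⟨hji, hjS⟩ := Finset.mem_erase.mp hj
      have h0 : P.pairingIn ℤ i j = 0 := by
        by_contra h
        exact hj' (Finset.mem_filter.mpr ⟨hjS, hji, h⟩)
      have e : W i j = 0 := by rw [hW, h0, zero_mul]
      linear_combination (c i * c j) * e
    · simp only [W]; ring
  have hvert : ∀ i ∈ S, 2 * (c i * c i) * L i ≤ ((nb i).card : ℤ) * (s i * L i) := fun i hi => by
    have h1 := hdeg i hi
    simp only [c, s]
    split_ifs with h
    · rw [h]; push_cast; linarith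
    · have : (2 : ℤ) ≤ (nb i).card := by exact_mod_cast (show 2 ≤ (nb i).card by omega)
      nlinarith [hL i]
  rw [Finset.sum_add_distrib] at hQ
  linarith [Finset.sum_le_sum hvert]

lemma exists_solution (δ : ι → ι → ℤ) (hanti : ∀ i j, δ j i = -δ i j) (S : Finset ι) :
    S ⊆ b.support → (∀ i ∈ S, ∀ j ∈ S, i ≠ j → P.pairingIn ℤ i j = 0 → δ i j = 0) →
    ∃ x : ι → ℤ, ∀ i ∈ S, ∀ j ∈ S, i ≠ j → P.pairingIn ℤ j i * x j - P.pairingIn ℤ i j * x i = δ i j := by
  classical
  induction S using Finset.strongInduction with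
  | _ S ih =>
  intro hS hzero
  haveI : Module.IsReflexive R M := .of_isPerfPair P.toLinearMap
  haveI : Module.IsTorsionFree R M := inferInstance
  rcases S.eq_empty_or_nonempty with rfl | hne
  · exact ⟨0, by simp⟩
  obtain ⟨j, hj, hcase⟩ := exists_good b S hS hne
  obtain ⟨x, hx⟩ := ih (S.erase j) (Finset.erase_ssubset hj) ((Finset.erase_subset _ _).trans hS)
    (fun i hi l hl => hzero i (Finset.mem_of_mem_erase hi) l (Finset.mem_of_mem_erase hl))
  suffices ∃ t : ℤ, ∀ i ∈ S, i ≠ j → P.pairingIn ℤ j i * t - P.pairingIn ℤ i j * x i = δ i j by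
    obtain ⟨t, ht⟩ := this
    refine ⟨Function.update x j t, fun a ha c hc hac => ?_⟩
    by_cases haj : a = j
    · subst haj
      rw [Function.update_self, Function.update_of_ne hac.symm]
      linarith [ht c hc hac.symm, hanti c a]
    by_cases hcj : c = j
    · subst hcj
      rw [Function.update_self, Function.update_of_ne hac]
      exact ht a ha hac
    rw [Function.update_of_ne haj, Function.update_of_ne hcj]
    exact hx a (Finset.mem_erase.mpr ⟨haj, ha⟩) c (Finset.mem_erase.mpr ⟨hcj, hc⟩) hac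
  have hz : ∀ i ∈ S, i ≠ j → P.pairingIn ℤ j i = 0 → P.pairingIn ℤ i j = 0 ∧ δ i j = 0 := fun i hi hij h => by
    have h' : P.pairingIn ℤ i j = 0 := P.pairingIn_eq_zero_iff.mp h
    exact ⟨h', hzero i hi j hj hij h'⟩
  rcases hcase with h | ⟨i₀, hi₀, hne₀, h1, h⟩
  · exact ⟨0, fun i hi hij => by rw [(hz i hi hij (h i hi hij)).1, (hz i hi hij (h i hi hij)).2]; ring⟩
  · refine ⟨-(P.pairingIn ℤ i₀ j * x i₀) - δ i₀ j, fun i hi hij => ?_⟩
    by_cases hii : i = i₀
    · subst hii; rw [h1]; ring
    · have h0 := h i hi hij hii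
      rw [h0, (hz i hi hij h0).1, (hz i hi hij h0).2]; ring

end Aux

/-- Let P be a finite reduced crystallographic root pairing over an integral domain of characteristic
zero and b a base (simple roots α_i, i in the support of b), with Cartan integers a_ij = ⟨α_i,
α_j^∨⟩. An integer-valued bilinear form C on the lattice with basis the simple coroots is an integer
matrix C_ij = C(α_i^∨, α_j^∨), and the component of the last map of the complex at the pair (i, j),
i ≠ j, is C ↦ C(α_i^∨, α_j^∨) + C(α_j^∨, s_j(α_i^∨)) = C_ij + C_ji − a_ji C_jj; the pairs (i, j) and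
(j, i) index the same component exactly when α_i and α_j are orthogonal. This map is surjective: for
every family of integers d_ij (i ≠ j in the support) with d_ij = d_ji whenever a_ij = 0 there is an
integer matrix C with C_ij + C_ji − a_ji C_jj = d_ij for all i ≠ j in the support. -/
theorem result {ι : Type u} {R : Type v} {M : Type w} {N : Type x} [CommRing R] [IsDomain R] [CharZero R]
    [AddCommGroup M] [Module R M] [AddCommGroup N] [Module R N] (P : RootPairing ι R M N)
    [Finite ι] [P.IsCrystallographic] [P.IsReduced] (b : P.Base) (d : ι → ι → ℤ)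
    (hd : ∀ i ∈ b.support, ∀ j ∈ b.support, i ≠ j → P.pairingIn ℤ i j = 0 → d i j = d j i) :
    ∃ C : ι → ι → ℤ, ∀ i ∈ b.support, ∀ j ∈ b.support, i ≠ j →
      C i j + C j i - P.pairingIn ℤ j i * C j j = d i j := by
  classical
  haveI := Fintype.ofFinite ι
  obtain ⟨x, hx⟩ := exists_solution b (fun i j => d j i - d i j) (fun i j => by ring) b.support
    (fun i hi => hi) (fun i hi j hj hij h => by simp [hd i hi j hj hij h])
  let e := Fintype.equivFin ι
  refine ⟨fun i j => if i = j then x i else if e i < e j then d i j + P.pairingIn ℤ j i * x j else 0,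
    fun i hi j hj hij => ?_⟩
  have hne : e i ≠ e j := fun h => hij (e.injective h)
  rcases lt_or_gt_of_ne hne with h | h
  · simp [hij, hij.symm, h, not_lt.mpr h.le]
  · simp [hij, hij.symm, h, not_lt.mpr h.le]
    linarith [hx i hi j hj hij]


end Groth.Agent.S19008
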