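import Groth.Statements.S19009
import Mathlib
import Groth.Agent.RootQuad.Basic

set_option autoImplicit false
universe u v w x
open RootD

namespace Groth.Agent.S19009

/-- Let P be a root pairing over an integral domain R of characteristic zero (roots α acting on the
coweight module N through reflections y ↦ y − ⟨α, y⟩ α^∨), D ⊆ N a submodule containing every coroot
and such that every element of D has a positive integer multiple in the span of the coroots (the
derived part), and Y₀ a complement of D in N. Let Q_d be a quadratic form on N whose restriction to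
D is invariant under all root reflections. Then there is a quadratic form on N, invariant under all
root reflections and agreeing with Q_d on D, if and only if there is an R-bilinear form Φ on N with
Φ(y₀, α^∨) = ⟨α, y₀⟩ Q_d(α^∨) for all y₀ in Y₀ and all roots α. (In the source R = ℤ, N = Y₀ ⊕ Y_der
is the cocharacter lattice of a split reductive group, and the condition is phrased as integrality
on Y₀ × Y_der of the pairing y₀, y ↦ B(q(y₀), y) deduced from the polar form B of Q_d; that pairing
is characterised by the displayed values on coroots, only the values of Φ on Y₀ × D matter, and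
forms take values in R here.) -/
theorem result {ι : Type u} {R : Type v} {M : Type w} {N : Type x} [CommRing R] [IsDomain R] [CharZero R]
    [AddCommGroup M] [Module R M] [AddCommGroup N] [Module R N] (P : RootPairing ι R M N)
    (D Y₀ : Submodule R N) (hD : ∀ i : ι, P.coroot i ∈ D)
    (hDsat : ∀ y ∈ D, ∃ n : ℕ, 0 < n ∧ n • y ∈ Submodule.span R (Set.range P.coroot))
    (hc : IsCompl Y₀ D)
    (Qd : QuadraticMap R N R) (hQd : ∀ i : ι, ∀ y ∈ D, Qd (P.coreflection i y) = Qd y) :
    (∃ Q : QuadraticMap R N R, (∀ (i : ι) (y : N), Q (P.coreflection i y) = Q y) ∧ ∀ y ∈ D, Q y = Qd y) ↔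
      ∃ Φ : N →ₗ[R] N →ₗ[R] R, ∀ y₀ ∈ Y₀, ∀ i : ι,
        Φ y₀ (P.coroot i) = P.root' i y₀ * Qd (P.coroot i) := by
  constructor
  · rintro ⟨Q, hinv, hag⟩
    refine ⟨QuadraticMap.polarBilin Q, fun y₀ _ i => ?_⟩
    rw [QuadraticMap.polarBilin_apply_apply, (RootQuad.invariant_iff' P Q i).1 (hinv i), hag _ (hD i)]
  · rintro ⟨Φ, hΦ⟩
    let a : N →ₗ[R] N := Y₀.subtype ∘ₗ Submodule.projectionOnto Y₀ D hc
    let b : N →ₗ[R] N := D.subtype ∘ₗ Submodule.projectionOnto D Y₀ hc.symm
    have hb : ∀ d ∈ D, b d = d := fun d hd => by simp [b, Submodule.projectionOnto_apply_of_mem_left hc.symm hd]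
    have ha : ∀ d ∈ D, a d = 0 := fun d hd => by simp [a, Submodule.projectionOnto_apply_of_mem_right hc hd]
    have hab : ∀ z, a z + b z = z := fun z => Submodule.projection_add_projection_eq_self hc z
    refine ⟨Qd.comp b + LinearMap.BilinMap.toQuadraticMap (Φ.compl₁₂ a b), fun i => ?_, fun y hy => ?_⟩
    · rw [RootQuad.invariant_iff']
      intro z
      have h1 : QuadraticMap.polar Qd (b z) (P.coroot i) = P.root' i (b z) * Qd (P.coroot i) :=
        (RootQuad.invariant_iff P Qd i D (hD i)).1 (hQd i) _ (Submodule.coe_mem _)
      have h2 := hΦ (a z) (Submodule.coe_mem _) i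
      simp only [QuadraticMap.polar, QuadraticMap.add_apply, QuadraticMap.comp_apply,
        LinearMap.BilinMap.toQuadraticMap_apply, LinearMap.compl₁₂_apply, map_add, LinearMap.add_apply,
        hb _ (hD i), ha _ (hD i), map_zero, LinearMap.zero_apply, add_zero]
      rw [QuadraticMap.polar] at h1
      conv_rhs => rw [show P.root' i z = P.root' i (a z) + P.root' i (b z) by rw [← map_add, hab]]
      linear_combination h1 + h2
    · simp [hb y hy, ha y hy]

end Groth.Agent.S19009
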