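import Groth.Statements.S19010
import Mathlib
import Groth.Agent.RootQuad.Basic

set_option autoImplicit false
universe u v w x
open RootD

namespace Groth.Agent.S19010

/-- Let P be a root pairing over an integral domain R of characteristic zero (roots α acting on the
coweight module N through reflections y ↦ y − ⟨α, y⟩ α^∨), D ⊆ N a submodule containing every coroot
and such that every element of D has a positive integer multiple in the span of the coroots (the
derived part), and Y₀ a complement of D in N. Let Q' be a quadratic form on N invariant under all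
root reflections. Then restriction to Y₀ is a bijection from the set of quadratic forms on N that
are invariant under all root reflections and agree with Q' on D onto the set of all quadratic forms
on Y₀. (In the source R = ℤ and N = Y₀ ⊕ Y_der is the cocharacter lattice of a split reductive
group; forms take values in R here.) -/
theorem result {ι : Type u} {R : Type v} {M : Type w} {N : Type x} [CommRing R] [IsDomain R] [CharZero R]
    [AddCommGroup M] [Module R M] [AddCommGroup N] [Module R N] (P : RootPairing ι R M N)
    (D Y₀ : Submodule R N) (hD : ∀ i : ι, P.coroot i ∈ D)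
    (hDsat : ∀ y ∈ D, ∃ n : ℕ, 0 < n ∧ n • y ∈ Submodule.span R (Set.range P.coroot))
    (hc : IsCompl Y₀ D)
    (Q' : QuadraticMap R N R) (hQ' : ∀ (i : ι) (y : N), Q' (P.coreflection i y) = Q' y) :
    Set.BijOn (fun Q : QuadraticMap R N R => Q.comp Y₀.subtype)
      {Q | (∀ (i : ι) (y : N), Q (P.coreflection i y) = Q y) ∧ ∀ y ∈ D, Q y = Q' y} Set.univ := by
  refine ⟨fun _ _ => trivial, fun Q₁ h₁ Q₂ h₂ h => ?_, fun q _ => ?_⟩
  · refine sub_eq_zero.1 (RootQuad.eq_zero_of_invariant P hD hDsat hc (Q₁ - Q₂) (fun i y => ?_) (fun y hy => ?_)
      fun y hy => ?_)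
    · rw [QuadraticMap.sub_apply, QuadraticMap.sub_apply, h₁.1, h₂.1]
    · rw [QuadraticMap.sub_apply, h₁.2 y hy, h₂.2 y hy, sub_self]
    · rw [QuadraticMap.sub_apply]
      exact sub_eq_zero.2 (congrArg (fun F : QuadraticMap R Y₀ R => F ⟨y, hy⟩) h)
  · let π := Submodule.projectionOnto Y₀ D hc
    have hπD : ∀ d ∈ D, π d = 0 := fun d hd => Submodule.projectionOnto_apply_of_mem_right hc hd
    refine ⟨Q' + (q - Q'.comp Y₀.subtype).comp π, ⟨fun i y => ?_, fun y hy => ?_⟩, ?_⟩
    · have : π (P.coreflection i y) = π y := by
        rw [RootQuad.coreflection_apply', map_sub, map_smul, hπD _ (hD i), smul_zero, sub_zero]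
      simp only [QuadraticMap.add_apply, QuadraticMap.comp_apply, this, hQ']
    · simp only [QuadraticMap.add_apply, QuadraticMap.comp_apply, hπD y hy, map_zero, add_zero]
    · refine QuadraticMap.ext fun y => ?_
      simp [π, Submodule.projectionOnto_apply_left]

end Groth.Agent.S19010
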