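import Groth.Statements.S19011
import Mathlib

set_option autoImplicit false
universe u v w x
open RootD

namespace Groth.Agent.S19011
section Aux

lemma exists_dual_int {L ι : Type*} [AddCommGroup L] [Module.Free ℤ L] [Module.Finite ℤ L] [Finite ι]
    (v : ι → L) (hv : ∀ i, v i ≠ 0) : ∃ f : L →ₗ[ℤ] ℤ, ∀ i, f (v i) ≠ 0 := by
  classical
  haveI := Fintype.ofFinite ι
  let n := Module.finrank ℤ L
  let b : Module.Basis (Fin n) ℤ L := Module.finBasis ℤ L
  let p : ι → Polynomial ℤ := fun i => ∑ k : Fin n, Polynomial.monomial (k : ℕ) (b.repr (v i) k)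
  have hp : ∀ i, p i ≠ 0 := fun i h => hv i (b.repr.injective (by
    ext k
    have e := congrArg (fun q : Polynomial ℤ => q.coeff (k : ℕ)) h
    simp only [p, Polynomial.finsetSum_coeff, Polynomial.coeff_monomial, Polynomial.coeff_zero] at e
    rw [map_zero, Finsupp.coe_zero, Pi.zero_apply, ← e,
      Finset.sum_eq_single_of_mem k (Finset.mem_univ k)
        (fun l _ hl => if_neg (fun h' => hl (Fin.ext h'))), if_pos rfl]))
  have hprod : ∏ i, p i ≠ 0 := Finset.prod_ne_zero_iff.mpr fun i _ => hp i
  obtain ⟨t, ht⟩ : ∃ t : ℤ, (∏ i, p i).eval t ≠ 0 := by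
    by_contra h
    push Not at h
    exact hprod (Polynomial.funext (by simpa using h))
  refine ⟨∑ k : Fin n, t ^ (k : ℕ) • b.coord k, fun i h => ?_⟩
  refine (Finset.prod_ne_zero_iff.mp (by rwa [Polynomial.eval_prod] at ht) i (Finset.mem_univ i)) ?_
  rw [← h]
  simp [p, Polynomial.eval_finsetSum, mul_comm]

lemma exists_nonneg_comb {L ι : Type*} [AddCommGroup L] (v : ι → L) (Δ : Set ι) {x : L}
    (hx : x ∈ AddSubmonoid.closure (v '' Δ)) :
    ∃ c : ι →₀ ℤ, c ∈ Finsupp.supported ℤ ℤ Δ ∧ (∀ a, 0 ≤ c a) ∧ Finsupp.linearCombination ℤ v c = x := by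
  classical
  induction hx using AddSubmonoid.closure_induction with
  | mem y hy =>
    obtain ⟨a, ha, rfl⟩ := hy
    refine ⟨Finsupp.single a 1, Finsupp.single_mem_supported ℤ 1 ha, fun b => ?_, by simp⟩
    rw [Finsupp.single_apply]
    split <;> norm_num
  | zero => exact ⟨0, Submodule.zero_mem _, fun _ => le_rfl, map_zero _⟩
  | add y z _ _ hy hz =>
    obtain ⟨c, hc, hc', rfl⟩ := hy
    obtain ⟨d, hd, hd', rfl⟩ := hz
    exact ⟨c + d, Submodule.add_mem _ hc hd, fun a => add_nonneg (hc' a) (hd' a), map_add _ _ _⟩

variable {ι R M N : Type*} [CommRing R] [IsDomain R] [CharZero R] [AddCommGroup M] [Module R M]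
  [AddCommGroup N] [Module R N] (Q : RootPairing ι R M N) [Finite ι] [Q.IsCrystallographic] [Q.IsReduced]

/-- The defining relations of the reflections generate the relations between the roots. -/
lemma ker_le_relations : LinearMap.ker (Finsupp.linearCombination ℤ (fun i : ι => (Q.root i : M))) ≤
    Submodule.span ℤ (Set.range fun p : ι × ι =>
      Finsupp.single (Q.reflectionPerm p.1 p.2) (1 : ℤ) - Finsupp.single p.2 1 +
        Q.pairingIn ℤ p.2 p.1 • Finsupp.single p.1 1) := by
  classical
  haveI := Fintype.ofFinite ι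
  haveI : Module.IsReflexive R M := .of_isPerfPair Q.toLinearMap
  haveI : IsAddTorsionFree M := .of_isTorsionFree R M
  let L := Submodule.span ℤ (Set.range Q.root)
  haveI : Module.Finite ℤ L := Module.Finite.span_of_finite ℤ (Set.finite_range _)
  haveI : IsAddTorsionFree L := Function.Injective.isAddTorsionFree L.subtype.toAddMonoidHom L.injective_subtype
  haveI : Module.Free ℤ L := inferInstance
  let v : ι → L := fun i => Q.rootSpanMem ℤ i
  have hv : ∀ i, (v i : M) = Q.root i := fun i => rfl
  obtain ⟨f, hf⟩ := exists_dual_int v (fun i h => Q.ne_zero i (by rw [← hv, h]; rfl))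
  letI := Q.indexNeg
  have hneg : ∀ i, v (-i) = -v i := fun i => Subtype.ext (by
    show Q.root (-i) = -Q.root i
    simp)
  let Δ : Set ι := IsAddIndecomposable.baseOf v (f : L →+ ℤ)
  have hΔpos : ∀ j ∈ Δ, 0 < f (v j) := fun j hj => IsAddIndecomposable.baseOf_subset_pos v _ hj
  have hpair : ∀ i ∈ Δ, ∀ j ∈ Δ, i ≠ j → Q.pairingIn ℤ i j ≤ 0 := fun i hi j hj hij => by
    by_contra h
    obtain ⟨k, hk⟩ := Q.root_sub_root_mem_of_pairingIn_pos (not_le.mp h) hij
    exact IsAddIndecomposable.pairwise_baseOf_sub_notMem v hneg (f : L →+ ℤ) hf hi hj hij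
      ⟨k, Subtype.ext (by simpa [hv] using hk)⟩
  have hindep : LinearIndependent ℤ (fun i : Δ => v i) := by
    refine LinearMap.BilinForm.linearIndependent_of_pairwise_le_zero (Q.posRootForm ℤ).posForm
      (by simpa using Q.posRootForm_rootFormIn_posDef ℤ) f _ (fun i => hΔpos i i.2) ?_
    rintro ⟨i, hi⟩ ⟨j, hj⟩ hij
    show (Q.posRootForm ℤ).posForm (Q.rootSpanMem ℤ i) (Q.rootSpanMem ℤ j) ≤ 0
    rw [RootPairing.RootPositiveForm.posForm_apply_root_root_le_zero_iff]
    exact hpair i hi j hj (fun e => hij (Subtype.ext e))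
  have hcomb : ∀ i, 0 < f (v i) → ∃ c : ι →₀ ℤ, c ∈ Finsupp.supported ℤ ℤ Δ ∧ (∀ a, 0 ≤ c a) ∧
      Finsupp.linearCombination ℤ v c = v i := fun i hi => exists_nonneg_comb v Δ (by
    rw [AddSubmonoid.closure_image_isAddIndecomposable_baseOf v (f : L →+ ℤ)]
    exact AddSubmonoid.subset_closure ⟨i, hi, rfl⟩)
  set Rel := Submodule.span ℤ (Set.range fun p : ι × ι =>
      Finsupp.single (Q.reflectionPerm p.1 p.2) (1 : ℤ) - Finsupp.single p.2 1 +
        Q.pairingIn ℤ p.2 p.1 • Finsupp.single p.1 1)
  set G := Rel ⊔ Finsupp.supported ℤ ℤ Δ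
  have hrel : ∀ j i, Finsupp.single (Q.reflectionPerm j i) (1 : ℤ) - Finsupp.single i 1 +
      Q.pairingIn ℤ i j • Finsupp.single j 1 ∈ G := fun j i =>
    Submodule.mem_sup_left (Submodule.subset_span ⟨(j, i), rfl⟩)
  have hrefl : ∀ j i, (v (Q.reflectionPerm j i)) = v i - Q.pairingIn ℤ i j • v j := fun j i => Subtype.ext (by
    show Q.root (Q.reflectionPerm j i) = Q.root i - Q.pairingIn ℤ i j • Q.root j
    rw [Q.root_reflectionPerm, RootPairing.reflection_apply_root' ℤ])
  have hpos : ∀ (n : ℕ) (i : ι), 0 < f (v i) → (f (v i)).toNat = n → Finsupp.single i 1 ∈ G := by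
    intro n
    induction n using Nat.strong_induction_on with
    | _ n ih =>
    intro i hi hn
    obtain ⟨c, hc, hc0, hci⟩ := hcomb i hi
    obtain ⟨j, hj, hjpos⟩ : ∃ j ∈ Δ, 0 < Q.pairingIn ℤ j i := by
      by_contra h
      push Not at h
      have e : Q.pairingIn ℤ i i = ∑ j ∈ c.support, c j * Q.pairingIn ℤ j i :=
        FaithfulSMul.algebraMap_injective ℤ R (by
          have e1 : Q.root i = ∑ j ∈ c.support, c j • Q.root j := by
            rw [← hv, ← hci, Finsupp.linearCombination_apply, Finsupp.sum, Submodule.coe_sum]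
            simp [hv]
          simp_rw [RootPairing.algebraMap_pairingIn, map_sum, map_mul, RootPairing.algebraMap_pairingIn,
            ← Q.root_coroot_eq_pairing, e1, map_sum, map_zsmul, LinearMap.coe_sum, Finset.sum_apply,
            LinearMap.smul_apply, zsmul_eq_mul, algebraMap_int_eq, Int.coe_castRingHom])
      have : Q.pairingIn ℤ i i ≤ 0 := e ▸ Finset.sum_nonpos fun j hj =>
        mul_nonpos_of_nonneg_of_nonpos (hc0 j) (h j (hc hj))
      simp at this
    rw [Q.zero_lt_pairingIn_iff'] at hjpos
    by_cases hij : i = j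
    · subst hij
      exact Submodule.mem_sup_right (Finsupp.single_mem_supported ℤ 1 hj)
    have hk : 0 < f (v (Q.reflectionPerm j i)) := by
      by_contra h
      have hlt : f (v (Q.reflectionPerm j i)) < 0 := lt_of_le_of_ne (not_lt.mp h) (hf _)
      obtain ⟨d, hd, hd0, hdi⟩ := hcomb (-Q.reflectionPerm j i) (by rw [hneg, map_neg]; omega)
      have h0 : Finsupp.linearCombination ℤ v (c + d - Q.pairingIn ℤ i j • Finsupp.single j 1) = 0 := by
        simp only [map_sub, map_add, map_zsmul, Finsupp.linearCombination_single, one_smul, hci, hdi,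
          hneg, hrefl]
        abel
      have hz : c + d - Q.pairingIn ℤ i j • Finsupp.single j 1 = 0 :=
        linearIndepOn_iff.mp hindep _ (Submodule.sub_mem _ (Submodule.add_mem _ hc hd)
          (Submodule.smul_mem _ _ (Finsupp.single_mem_supported ℤ 1 hj))) h0
      have hc1 : c = Finsupp.single j (c j) := by
        ext l
        rcases eq_or_ne l j with rfl | hl
        · simp
        · have e := DFunLike.congr_fun hz l
          simp [hl] at e
          have := hc0 l
          have := hd0 l
          simp [hl]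
          omega
      have hij' : Q.root i = c j • Q.root j := by
        rw [← hv i, ← hci, hc1, Finsupp.linearCombination_single]
        simp [hv]
      rcases RootPairing.IsReduced.eq_or_eq_neg (P := Q) i j (by
        rw [LinearIndependent.pair_iff]
        intro hli
        exact one_ne_zero (α := R) (hli 1 (-(c j : R)) (by
          rw [one_smul, neg_smul, Int.cast_smul_eq_zsmul, ← hij', add_neg_cancel])).1) with e | e
      · exact hij (Q.root.injective e)
      · have e' : v i = -v j := Subtype.ext e
        have := hΔpos j hj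
        rw [e', map_neg] at hi
        omega
    have hsmaller : (f (v (Q.reflectionPerm j i))).toNat < n := by
      have e : f (v (Q.reflectionPerm j i)) = f (v i) - Q.pairingIn ℤ i j * f (v j) := by
        rw [hrefl, map_sub, map_zsmul, smul_eq_mul]
      have := hΔpos j hj
      have : 0 < Q.pairingIn ℤ i j * f (v j) := mul_pos hjpos this
      omega
    have h1 := ih _ hsmaller _ hk rfl
    have h2 : Finsupp.single j (1 : ℤ) ∈ G := Submodule.mem_sup_right (Finsupp.single_mem_supported ℤ 1 hj)
    have h3 := G.sub_mem (G.add_mem h1 (G.smul_mem (Q.pairingIn ℤ i j) h2)) (hrel j i)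
    convert h3 using 1
    abel
  have hall : ∀ i, Finsupp.single i (1 : ℤ) ∈ G := fun i => by
    rcases lt_or_gt_of_ne (hf i) with h | h
    · have h1 : Finsupp.single (Q.reflectionPerm i i) (1 : ℤ) ∈ G :=
        hpos _ _ (show 0 < f (v (-i)) by rw [hneg, map_neg]; omega) rfl
      have h2 := G.sub_mem (hrel i i) h1
      convert h2 using 1
      rw [Q.pairingIn_same ℤ i, two_smul]
      abel
    · exact hpos _ i h rfl
  intro z hz
  have hzG : z ∈ G := by
    rw [← Finsupp.sum_single z]
    exact Submodule.sum_mem _ fun i _ => by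
      rw [← mul_one (z i), ← smul_eq_mul, ← Finsupp.smul_single]
      exact G.smul_mem _ (hall i)
  obtain ⟨r, hr, x, hx, rfl⟩ := Submodule.mem_sup.mp hzG
  have hr0 : Finsupp.linearCombination ℤ (fun i : ι => (Q.root i : M)) r = 0 := by
    refine LinearMap.mem_ker.mp (Submodule.span_le.mpr ?_ hr)
    rintro _ ⟨⟨a, c⟩, rfl⟩
    simp only [SetLike.mem_coe, LinearMap.mem_ker, map_add, map_sub, map_zsmul, Finsupp.linearCombination_single,
      one_smul, Q.root_reflectionPerm, RootPairing.reflection_apply_root' ℤ]
    abel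
  have hx0 : Finsupp.linearCombination ℤ (fun i : ι => (Q.root i : M)) x = 0 := by
    simpa [hr0] using hz
  have : x = 0 := linearIndepOn_iff.mp hindep x hx (Subtype.ext (by
    rw [← L.subtype_apply, Finsupp.apply_linearCombination]
    exact hx0))
  rwa [this, add_zero]

end Aux

/-- For a finite reduced crystallographic root pairing over an integral domain of characteristic zero,
the additive group generated by the coroots admits the presentation with one generator [β] for each
root β and the relations [s_α(β)] = [β] − ⟨α, β^∨⟩ [α] for all roots α, β, where ⟨α, β^∨⟩ is the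
Cartan integer. Concretely: the kernel of the ℤ-linear map from the free abelian group on the index
type of the roots to the coweight module sending the generator of index β to the coroot β^∨ is the
subgroup generated by the elements [s_α(β)] − [β] + ⟨α, β^∨⟩ [α]. (The source states this for the
cocharacter lattice of a split semi-simple simply connected group, which is the group generated by
the coroots.) -/
theorem result {ι : Type u} {R : Type v} {M : Type w} {N : Type x} [CommRing R] [IsDomain R] [CharZero R]
    [AddCommGroup M] [Module R M] [AddCommGroup N] [Module R N] (P : RootPairing ι R M N)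
    [Finite ι] [P.IsCrystallographic] [P.IsReduced] :
    LinearMap.ker (Finsupp.linearCombination ℤ (fun i : ι => (P.coroot i : N))) =
      Submodule.span ℤ (Set.range fun p : ι × ι =>
        Finsupp.single (P.reflectionPerm p.1 p.2) (1 : ℤ) - Finsupp.single p.2 1 +
          P.pairingIn ℤ p.1 p.2 • Finsupp.single p.1 1) := by
  classical
  haveI : Module.IsReflexive R N := .of_isPerfPair P.flip.toLinearMap
  haveI : Module.IsReflexive R M := .of_isPerfPair P.toLinearMap
  haveI : Module.IsTorsionFree R N := inferInstance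
  haveI : Module.IsTorsionFree R M := inferInstance
  haveI : P.flip.IsReduced := RootPairing.instFlipIsReduced P
  have key := ker_le_relations P.flip
  apply le_antisymm
  · refine le_trans key (Submodule.span_le.mpr ?_)
    rintro _ ⟨⟨a, c⟩, rfl⟩
    refine Submodule.subset_span ⟨(a, c), ?_⟩
    have e : P.pairingIn ℤ a c = P.flip.pairingIn ℤ c a :=
      FaithfulSMul.algebraMap_injective ℤ R (by simp only [RootPairing.algebraMap_pairingIn]; rfl)
    simp only [e]
    rfl
  · refine Submodule.span_le.mpr ?_
    rintro _ ⟨⟨a, c⟩, rfl⟩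
    simp only [SetLike.mem_coe, LinearMap.mem_ker, map_add, map_sub, map_zsmul,
      Finsupp.linearCombination_single, one_smul, P.coroot_reflectionPerm, P.coreflection_apply_coroot]
    rw [← P.algebraMap_pairingIn ℤ, algebraMap_int_eq, Int.coe_castRingHom, Int.cast_smul_eq_zsmul]
    abel


end Groth.Agent.S19011
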