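import Groth.Statements.S19012
import Mathlib.LinearAlgebra.RootSystem.CartanMatrix
import Mathlib.Tactic

set_option autoImplicit false
set_option linter.style.haveILetI false

universe u v w x
open RootD

namespace Groth.Agent.S19012

lemma polar_eq {ι : Type u} {R : Type v} {M : Type w} {N : Type x} [CommRing R] [IsDomain R] [CharZero R]
    [AddCommGroup M] [Module R M] [AddCommGroup N] [Module R N] (P : RootPairing ι R M N)
    (Q : QuadraticMap R N R) (i j : ι)
    (h : ∀ y ∈ Submodule.span R (Set.range P.coroot), Q (P.coreflection j y) = Q y) :
    QuadraticMap.polar Q (P.coroot i) (P.coroot j) = P.pairing j i * Q (P.coroot j) := by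
  have hf : ∀ y ∈ Submodule.span R (Set.range P.coroot),
      P.root' j y * (P.root' j y * Q (P.coroot j) - QuadraticMap.polar Q y (P.coroot j)) = 0 := by
    intro y hy
    have h1 := h y hy
    rw [RootPairing.coreflection_apply, sub_eq_add_neg, ← neg_smul, QuadraticMap.map_add Q,
      QuadraticMap.map_smul, QuadraticMap.polar_smul_right, smul_eq_mul, smul_eq_mul] at h1
    linear_combination h1
  have hi : P.coroot i ∈ Submodule.span R (Set.range P.coroot) := Submodule.subset_span ⟨i, rfl⟩
  have hj : P.coroot j ∈ Submodule.span R (Set.range P.coroot) := Submodule.subset_span ⟨j, rfl⟩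
  by_cases hc : P.pairing j i = 0
  · have h2 := hf (P.coroot i + P.coroot j) (add_mem hi hj)
    have e1 : P.root' j (P.coroot i + P.coroot j) = 2 := by
      rw [map_add]
      change P.pairing j i + P.pairing j j = 2
      rw [hc, P.pairing_same, zero_add]
    rw [e1, QuadraticMap.polar_add_left, QuadraticMap.polar_self, two_nsmul] at h2
    have h3 := (mul_eq_zero.mp h2).resolve_left two_ne_zero
    linear_combination -h3 - Q (P.coroot j) * hc
  · have h2 := (mul_eq_zero.mp (hf _ hi)).resolve_left hc
    change P.pairing j i * _ - _ = 0 at h2
    linear_combination -h2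


/-- Let P be a finite reduced crystallographic root pairing over a field of characteristic zero which is
irreducible, and b a base. A quadratic form on the coweight module that is invariant under all root
reflections and vanishes on some simple coroot is zero; in other words an invariant form is
determined by its value on a single simple coroot. (The source proves, component by component of the
Dynkin diagram, that an invariant integer-valued form on the coroot lattice with prescribed value on
the first simple coroot of each component is unique; here the system is irreducible, the coroots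
span the coweight module, and forms take values in the base field.) -/
theorem result {ι : Type u} {K : Type v} {M : Type w} {N : Type x} [Field K] [CharZero K]
    [AddCommGroup M] [Module K M] [AddCommGroup N] [Module K N] (P : RootPairing ι K M N)
    [Finite ι] [P.IsCrystallographic] [P.IsReduced] [P.IsIrreducible] (b : P.Base)
    (Q : QuadraticMap K N K) (hQ : ∀ (i : ι) (y : N), Q (P.coreflection i y) = Q y)
    (i₀ : ι) (hi₀ : i₀ ∈ b.support) (h0 : Q (P.coroot i₀) = 0) : Q = 0 := by
  have hpol : ∀ i j : ι, QuadraticMap.polar Q (P.coroot i) (P.coroot j) = P.pairing j i * Q (P.coroot j) :=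
    fun i j => polar_eq P Q i j (fun y _ => hQ j y)
  have hall : ∀ j : b.support, Q (P.coroot j) = 0 := by
    intro j
    refine b.induction_on_cartanMatrix (fun l : b.support => Q (P.coroot l) = 0) (i := ⟨i₀, hi₀⟩) h0 ?_
    intro a c ha hca
    rw [ne_eq, RootPairing.Base.cartanMatrix_apply_eq_zero_iff_pairing] at hca
    have e1 := hpol a c
    rw [QuadraticMap.polar_comm, hpol c a, ha, mul_zero] at e1
    exact (mul_eq_zero.mp e1.symm).resolve_left hca
  set S := Submodule.span K (P.coroot '' b.support) with hS
  have hB0 : ∀ x ∈ S, ∀ y ∈ S, QuadraticMap.polar Q x y = 0 := by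
    intro x hx y hy
    induction hx using Submodule.span_induction with
    | zero => simp
    | add a c _ _ ha hc => rw [QuadraticMap.polar_add_left, ha, hc, add_zero]
    | smul r a _ ha => rw [QuadraticMap.polar_smul_left, ha, smul_zero]
    | mem z hz =>
      induction hy using Submodule.span_induction with
      | zero => simp
      | add a c _ _ ha hc => rw [QuadraticMap.polar_add_right, ha, hc, add_zero]
      | smul r a _ ha => rw [QuadraticMap.polar_smul_right, ha, smul_zero]
      | mem w hw =>
        obtain ⟨i, _, rfl⟩ := hz
        obtain ⟨j, hj, rfl⟩ := hw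
        rw [hpol, hall ⟨j, hj⟩, mul_zero]
  have hQ0 : ∀ x ∈ S, Q x = 0 := by
    intro x hx
    induction hx using Submodule.span_induction with
    | zero => simp
    | add a c ha' hc' ha hc => rw [QuadraticMap.map_add Q, ha, hc, hB0 a ha' c hc', add_zero, add_zero]
    | smul r a _ ha => rw [QuadraticMap.map_smul, ha, smul_zero]
    | mem z hz =>
      obtain ⟨j, hj, rfl⟩ := hz
      exact hall ⟨j, hj⟩
  have htop : S = ⊤ := by
    rw [hS, b.span_coroot_support]
    refine RootPairing.IsIrreducible.eq_top_of_invtSubmodule_coreflection (P := P)
      (P.corootSpan K) (fun i => ?_) ?_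
    · rw [Module.End.mem_invtSubmodule]
      intro y hy
      rw [Submodule.mem_comap]
      change P.coreflection i y ∈ P.corootSpan K
      rw [RootPairing.coreflection_apply]
      exact sub_mem hy (Submodule.smul_mem _ _ (Submodule.subset_span ⟨i, rfl⟩))
    · exact (Submodule.ne_bot_iff _).mpr ⟨P.coroot i₀, Submodule.subset_span ⟨i₀, rfl⟩, P.flip.ne_zero i₀⟩
  ext x
  exact hQ0 x (htop ▸ Submodule.mem_top)

end Groth.Agent.S19012
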