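import Groth.Statements.S19013
import Groth.Agent.MilnorK.DVRStructure

set_option autoImplicit false
universe u v
open MilnorK

namespace Groth.Agent.S19013

/-- Let A ⊆ B be discrete valuation rings, the inclusion being a local homomorphism, with fraction
fields E ⊆ F compatibly, with the induced homomorphism of residue fields κ(A) → κ(B), and with
ramification index e, the natural number such that the maximal ideal of A generates the e-th power
of the maximal ideal of B. Let ∂_A : K_{n+1}(E) → K_n(κ(A)) and ∂_B : K_{n+1}(F) → K_n(κ(B)) be the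
residue maps (tame symbols) on Milnor K-groups. Then for every x in K_{n+1}(E) one has ∂_B(x_F) = e
· (∂_A x)_{κ(B)}, where the subscripts denote the change-of-fields maps along E → F and κ(A) → κ(B).
(The published statement concerns discrete valuations of geometric type on fields finitely generated
over a base field; it is stated here for an arbitrary pair of discrete valuation rings, which is all
the printed computation uses.) -/
theorem result
    (A B : Type u) [CommRing A] [IsDomain A] [IsDiscreteValuationRing A]
    [CommRing B] [IsDomain B] [IsDiscreteValuationRing B] [Algebra A B] [IsLocalHom (algebraMap A B)]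
    (E F : Type v) [Field E] [Field F] [Algebra A E] [IsFractionRing A E] [Algebra B F] [IsFractionRing B F]
    [Algebra E F] [Algebra A F] [IsScalarTower A E F] [IsScalarTower A B F]
    (e : ℕ) (he : Ideal.map (algebraMap A B) (IsLocalRing.maximalIdeal A) = IsLocalRing.maximalIdeal B ^ e)
    (n : ℕ) (dA : MilK.K E (n + 1) →+ MilK.K (IsLocalRing.ResidueField A) n) (hdA : MilK.IsTameSymbol A E n dA)
    (dB : MilK.K F (n + 1) →+ MilK.K (IsLocalRing.ResidueField B) n) (hdB : MilK.IsTameSymbol B F n dB)
    (x : MilK.K E (n + 1)) :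
    dB (MilK.map (algebraMap E F) (n + 1) x) =
      e • MilK.map (IsLocalRing.ResidueField.map (algebraMap A B)) n (dA x) := by
  open Groth.Agent.MilnorK in
  obtain ⟨ϖ, hϖ⟩ := IsDiscreteValuationRing.exists_irreducible A
  obtain ⟨ϖ', hϖ'⟩ := IsDiscreteValuationRing.exists_irreducible B
  obtain ⟨w, hw⟩ : ∃ w : Bˣ, algebraMap A B ϖ = ϖ' ^ e * w := by
    rw [(IsDiscreteValuationRing.irreducible_iff_uniformizer ϖ).1 hϖ,
      (IsDiscreteValuationRing.irreducible_iff_uniformizer ϖ').1 hϖ', Ideal.map_span,
      Set.image_singleton, Ideal.span_singleton_pow, Ideal.span_singleton_eq_span_singleton] at he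
    obtain ⟨u, hu⟩ := he.symm
    exact ⟨u, hu.symm⟩
  have hunit : ∀ u : Aˣ, Units.map (algebraMap E F : E →* F) (MilK.unitToFrac A E u)
      = MilK.unitToFrac B F (Units.map (algebraMap A B : A →* B) u) := by
    intro u
    apply Units.ext
    simp only [MilK.unitToFrac, Units.coe_map, MonoidHom.coe_coe]
    rw [← IsScalarTower.algebraMap_apply A E F, ← IsScalarTower.algebraMap_apply A B F]
  have hmap : ∀ {l : ℕ} (z : MilK.K E l), z ∈ unitsK A E l →
      MilK.map (algebraMap E F) l z ∈ unitsK B F l ∧
      spec hϖ' l (MilK.map (algebraMap E F) l z)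
        = MilK.map (IsLocalRing.ResidueField.map (algebraMap A B)) l (spec hϖ l z) := by
    intro l z hz
    refine unitsK_induction hz (fun u => ?_) ⟨by simp, by simp⟩
      (fun p q hp hq => ⟨by rw [map_add]; exact add_mem hp.1 hq.1, by
        simp only [map_add, hp.2, hq.2]⟩)
      (fun p hp => ⟨by rw [map_neg]; exact neg_mem hp.1, by simp only [map_neg, hp.2]⟩)
    have : MilK.map (algebraMap E F) l (usym A E u)
        = usym B F fun i => Units.map (algebraMap A B : A →* B) (u i) := by
      rw [usym, usym, MilK.map_symbol]; congr 1; funext i; exact hunit (u i)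
    refine ⟨this ▸ usym_mem _, ?_⟩
    rw [this, spec_usym, spec_usym, MilK.map_symbol]
    congr 1
  obtain ⟨a, ha, b, hb, rfl⟩ := exists_split hϖ x
  rw [eq_tame hϖ hdA, (spec_tame_split hϖ ha hb).2, eq_tame hϖ' hdB, map_add, map_add,
    tame_unitsK hϖ' (hmap b hb).1, add_zero, map_cons, tame_cons_units hϖ' _ (hmap a ha).1,
    (hmap a ha).2]
  have hπ : Units.map (algebraMap E F : E →* F) (MilK.unitFrac A E ϖ hϖ.ne_zero)
      = MilK.unitFrac B F ϖ' hϖ'.ne_zero ^ (e : ℤ) * MilK.unitToFrac B F w := by
    apply Units.ext
    simp only [MilK.unitToFrac, Units.coe_map, MonoidHom.coe_coe, MilK.coe_unitFrac, zpow_natCast,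
      Units.val_mul, Units.val_pow_eq_pow_val]
    rw [← IsScalarTower.algebraMap_apply A E F, IsScalarTower.algebraMap_apply A B F, hw, map_mul,
      map_pow]
  rw [hπ, ord_apply, natCast_zsmul]

end Groth.Agent.S19013
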