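import Groth.Statements.S19014
import Groth.Agent.MilnorK.DVRStructure
import Mathlib.Tactic
import Mathlib.RingTheory.Henselian
import Mathlib.GroupTheory.Perm.Fin
import Mathlib.FieldTheory.Finite.Basic

set_option autoImplicit false
universe u v
open MilnorK

namespace Groth.Agent.S19014

/-- Let B be a discrete valuation ring with fraction field F and residue field κ, and let E be a field
equipped with a ring homomorphism into B, hence into F, so that the valuation of F is trivial on E.
If ∂ : K_{n+1}(F) → K_n(κ) is the residue map (tame symbol) on Milnor K-groups, then ∂(x_F) = 0 for
every x in K_{n+1}(E). (The published statement concerns discrete valuations of geometric type on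
fields finitely generated over a base field; it is stated here for an arbitrary discrete valuation
ring, which is all the printed computation uses.) -/
theorem result
    (B : Type u) [CommRing B] [IsDomain B] [IsDiscreteValuationRing B]
    (E F : Type v) [Field E] [Field F] [Algebra B F] [IsFractionRing B F]
    [Algebra E B] [Algebra E F] [IsScalarTower E B F]
    (n : ℕ) (d : MilK.K F (n + 1) →+ MilK.K (IsLocalRing.ResidueField B) n) (hd : MilK.IsTameSymbol B F n d)
    (x : MilK.K E (n + 1)) :
    d (MilK.map (algebraMap E F) (n + 1) x) = 0 := by
  open Groth.Agent.MilnorK in
  obtain ⟨ϖ, hϖ⟩ := IsDiscreteValuationRing.exists_irreducible B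
  rw [eq_tame hϖ hd]
  induction x using K_induction with
  | h0 => simp
  | hadd p q hp hq => simp only [map_add, hp, hq, add_zero]
  | hneg p hp => simp only [map_neg, hp, neg_zero]
  | hs v =>
    rw [MilK.map_symbol]
    have : (MilK.symbol fun i => Units.map (algebraMap E F : E →* F) (v i) : MilK.K F (n + 1))
        = usym B F fun i => Units.map (algebraMap E B : E →* B) (v i) := by
      rw [usym]; congr 1; funext i; apply Units.ext
      exact IsScalarTower.algebraMap_apply E B F _
    exact (congrArg _ this).trans (tame_usym hϖ _)

end Groth.Agent.S19014
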