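import Groth.Statements.S19017
import Groth.Agent.S1918
import Groth.Agent.CycDim.DegBase

set_option autoImplicit false
universe u
open CategoryTheory AlgebraicGeometry
open IntTh

namespace Groth.Agent.S19017

open CategoryTheory.Limits

/-- Let k be an arbitrary field and X a scheme separated and of finite type over k, with the dimension
function δ induced from Spec k. Let i_1 : X_1 → X and i_2 : X_2 → X be closed subschemes whose
images cover X, and let Y be their intersection: closed immersions j_1 : Y → X_1, j_2 : Y → X_2 with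
i_1 ∘ j_1 = i_2 ∘ j_2 whose image in X is the intersection of the images of X_1 and X_2. Then the
sequence CH_n(Y) → CH_n(X_1) ⊕ CH_n(X_2) → CH_n(X) → 0, with first map γ ↦ (j_{1*}γ, −j_{2*}γ) and
second map the sum of the push-forwards, is exact for every integer n: every n-cycle on X is a sum
i_{1*}α_1 + i_{2*}α_2 of n-cycles on X_1 and X_2, and whenever such a sum is rationally equivalent
to zero on X there is an n-cycle γ on Y with α_1 rationally equivalent to j_{1*}γ on X_1 and α_2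
rationally equivalent to −j_{2*}γ on X_2. (The published statement does not require the two closed
subschemes to cover X; without that requirement the surjectivity fails already for two empty closed
subschemes of a point, and the printed argument uses the covering, so it is assumed here. The
published statement also calls the sequence one of rings graded by codimension; stated here is the
additive sequence graded by dimension, which is what the printed argument gives.) -/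
theorem result (k : Type u) [Field k]
    (X : Scheme.{u}) [X.Over (Spec (CommRingCat.of k))]
    [IsSeparated (X ↘ Spec (CommRingCat.of k))] [LocallyOfFiniteType (X ↘ Spec (CommRingCat.of k))]
    [QuasiCompact (X ↘ Spec (CommRingCat.of k))]
    (δ : X → ℤ) (hδ : Cyc.DeltaCompat (X ↘ Spec (CommRingCat.of k)) δ (fun _ => 0))
    {X₁ X₂ Y : Scheme.{u}} (i₁ : X₁ ⟶ X) (i₂ : X₂ ⟶ X) [IsClosedImmersion i₁] [IsClosedImmersion i₂]
    (hcov : Set.range i₁ ∪ Set.range i₂ = Set.univ)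
    (j₁ : Y ⟶ X₁) (j₂ : Y ⟶ X₂) [IsClosedImmersion j₁] [IsClosedImmersion j₂]
    (hcomm : j₁ ≫ i₁ = j₂ ≫ i₂) (hY : Set.range (j₁ ≫ i₁) = Set.range i₁ ∩ Set.range i₂) (n : ℤ) :
    (∀ α : AlgebraicCycle X ℤ, α ∈ Cyc.Zk X δ n →
      ∃ (α₁ : AlgebraicCycle X₁ ℤ) (α₂ : AlgebraicCycle X₂ ℤ),
        α₁ ∈ Cyc.Zk X₁ (fun x => δ (i₁ x)) n ∧ α₂ ∈ Cyc.Zk X₂ (fun x => δ (i₂ x)) n ∧
        α = AlgebraicCycle.map i₁ (fun x => δ (i₁ x)) δ α₁ + AlgebraicCycle.map i₂ (fun x => δ (i₂ x)) δ α₂) ∧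
    (∀ (α₁ : AlgebraicCycle X₁ ℤ) (α₂ : AlgebraicCycle X₂ ℤ),
      α₁ ∈ Cyc.Zk X₁ (fun x => δ (i₁ x)) n → α₂ ∈ Cyc.Zk X₂ (fun x => δ (i₂ x)) n →
      Cyc.RatEquivZero δ n
        (AlgebraicCycle.map i₁ (fun x => δ (i₁ x)) δ α₁ + AlgebraicCycle.map i₂ (fun x => δ (i₂ x)) δ α₂) →
      ∃ γ : AlgebraicCycle Y ℤ, γ ∈ Cyc.Zk Y (fun y => δ (i₁ (j₁ y))) n ∧
        Cyc.RatEquiv (fun x => δ (i₁ x)) n α₁
          (AlgebraicCycle.map j₁ (fun y => δ (i₁ (j₁ y))) (fun x => δ (i₁ x)) γ) ∧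
        Cyc.RatEquiv (fun x => δ (i₂ x)) n α₂
          (-AlgebraicCycle.map j₂ (fun y => δ (i₁ (j₁ y))) (fun x => δ (i₂ x)) γ)) := by
  classical
  haveI : IsLocallyNoetherian X := LocallyOfFiniteType.isLocallyNoetherian (X ↘ Spec (CommRingCat.of k))
  have hS := Groth.Agent.CycDeg.isSetup_field k
  have hX : Cyc.IsSetup X δ := by
    refine ⟨inferInstance, fun x => ?_, Groth.Agent.S9684.result (X ↘ Spec (CommRingCat.of k)) _ hS δ hδ⟩
    obtain ⟨U, hU, hxU, -⟩ := exists_isAffineOpen_mem_and_subset (U := (⊤ : X.Opens)) (x := x) trivial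
    refine Groth.Agent.Catenary.isUniversallyCatenary_stalk hU x hxU ?_
    have hft := HasRingHomProperty.appLE @LocallyOfFiniteType (X ↘ Spec (CommRingCat.of k)) inferInstance
      ⟨⊤, isAffineOpen_top _⟩ ⟨U, hU⟩ (show U ≤ (X ↘ Spec (CommRingCat.of k)) ⁻¹ᵁ ⊤ from fun _ _ => trivial)
    letI := ((X ↘ Spec (CommRingCat.of k)).appLE ⊤ U (fun _ _ => trivial)).hom.toAlgebra
    haveI : Algebra.FiniteType Γ(Spec (CommRingCat.of k), ⊤) Γ(X, U) := hft
    exact Groth.Agent.Catenary.isUniversallyCatenary_of_finiteType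
      (Groth.Agent.Catenary.isUniversallyCatenary_of_stalks (isAffineOpen_top _) fun y _ => hS.2.1 y)
  refine ⟨fun α hα => ?_, fun α₁ α₂ h₁ h₂ h => ?_⟩
  · let α₁ : AlgebraicCycle X₁ ℤ := Groth.Agent.CycLim.mkCycle (fun z => α (i₁ z)) fun {V} hV =>
      ((α.locallyFiniteSupport.finite_inter_support_of_isCompact (hV.isCompact.image i₁.continuous)).preimage
        i₁.isClosedEmbedding.injective.injOn).subset fun z hz => ⟨⟨z, hz.1, rfl⟩, hz.2⟩
    let α₂ : AlgebraicCycle X₂ ℤ := Groth.Agent.CycLim.mkCycle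
      (fun z => if i₂ z ∈ Set.range i₁ then 0 else α (i₂ z)) fun {V} hV =>
      ((α.locallyFiniteSupport.finite_inter_support_of_isCompact (hV.isCompact.image i₂.continuous)).preimage
        i₂.isClosedEmbedding.injective.injOn).subset fun z hz => ⟨⟨z, hz.1, rfl⟩, fun h0 => hz.2 (by
          show (if i₂ z ∈ Set.range i₁ then (0 : ℤ) else α (i₂ z)) = 0
          split_ifs
          · rfl
          · exact h0)⟩
    have e2 : ∀ z, α₂ z = if i₂ z ∈ Set.range i₁ then 0 else α (i₂ z) := fun z => rfl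
    refine ⟨α₁, α₂, fun z hz => hα _ hz, fun z hz => ?_, ?_⟩
    · rw [e2]
      split_ifs
      · rfl
      · exact hα _ hz
    ext x
    show α x = AlgebraicCycle.map i₁ (fun x => δ (i₁ x)) δ α₁ x + AlgebraicCycle.map i₂ (fun x => δ (i₂ x)) δ α₂ x
    by_cases hx : x ∈ Set.range i₁
    · obtain ⟨z, rfl⟩ := hx
      rw [Groth.Agent.S1918.map_closed i₁ δ α₁ z]
      by_cases hy : i₁ z ∈ Set.range i₂
      · obtain ⟨w, hw⟩ := hy
        rw [← hw, Groth.Agent.S1918.map_closed i₂ δ α₂ w, e2, if_pos ⟨z, hw.symm⟩, add_zero, hw]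
        rfl
      · rw [Groth.Agent.S1918.map_closed_of_notMem i₂ δ α₂ hy, add_zero]
        rfl
    · have hx2 : x ∈ Set.range i₂ := (show x ∈ Set.range i₁ ∪ Set.range i₂ from hcov ▸ trivial).resolve_left hx
      obtain ⟨w, rfl⟩ := hx2
      rw [Groth.Agent.S1918.map_closed i₂ δ α₂ w, Groth.Agent.S1918.map_closed_of_notMem i₁ δ α₁ hx, e2,
        if_neg hx, zero_add]
  have hneg : AlgebraicCycle.map i₂ (fun x => δ (i₂ x)) δ (-α₂) = -AlgebraicCycle.map i₂ (fun x => δ (i₂ x)) δ α₂ := by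
    ext x
    show AlgebraicCycle.map i₂ (fun x => δ (i₂ x)) δ (-α₂) x = -(AlgebraicCycle.map i₂ (fun x => δ (i₂ x)) δ α₂ x)
    by_cases hx : x ∈ Set.range i₂
    · obtain ⟨w, rfl⟩ := hx
      rw [Groth.Agent.S1918.map_closed i₂ δ α₂ w, Groth.Agent.S1918.map_closed i₂ δ (-α₂) w]
      rfl
    · rw [Groth.Agent.S1918.map_closed_of_notMem i₂ δ α₂ hx, Groth.Agent.S1918.map_closed_of_notMem i₂ δ (-α₂) hx, neg_zero]
  obtain ⟨β, hβ, hr₁, hr₂⟩ := Groth.Agent.S1918.result X δ hX X₁ X₂ i₁ i₂ hcov n α₁ (-α₂) h₁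
    (fun z hz => show -(α₂ z) = 0 by rw [h₂ z hz, neg_zero]) (by rw [Cyc.RatEquiv, hneg, sub_neg_eq_add]; exact h)
  let j := pullback.lift j₁ j₂ hcomm
  have hj₁ : j ≫ pullback.fst i₁ i₂ = j₁ := pullback.lift_fst _ _ _
  have hj₂ : j ≫ pullback.snd i₁ i₂ = j₂ := pullback.lift_snd _ _ _
  haveI : IsClosedImmersion (j ≫ pullback.fst i₁ i₂) := by rw [hj₁]; infer_instance
  haveI : IsClosedImmersion j := IsClosedImmersion.of_comp j (pullback.fst i₁ i₂)
  have hv₁ : ∀ y, pullback.fst i₁ i₂ (j y) = j₁ y := fun y => by rw [← Scheme.Hom.comp_apply, hj₁]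
  have hv₂ : ∀ y, pullback.snd i₁ i₂ (j y) = j₂ y := fun y => by rw [← Scheme.Hom.comp_apply, hj₂]
  have hsurj : Function.Surjective j := fun w => by
    have hw : i₁ (pullback.fst i₁ i₂ w) ∈ Set.range i₁ ∩ Set.range i₂ :=
      ⟨⟨_, rfl⟩, pullback.snd i₁ i₂ w, by rw [← Scheme.Hom.comp_apply, ← Scheme.Hom.comp_apply, pullback.condition]⟩
    rw [← hY] at hw
    obtain ⟨y, hy⟩ := hw
    refine ⟨y, (pullback.fst i₁ i₂).isClosedEmbedding.injective (i₁.isClosedEmbedding.injective ?_)⟩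
    rw [hv₁, ← hy, Scheme.Hom.comp_apply]
  let γ : AlgebraicCycle Y ℤ := Groth.Agent.CycLim.mkCycle (fun y => β (j y)) fun {V} hV =>
    ((β.locallyFiniteSupport.finite_inter_support_of_isCompact (hV.isCompact.image j.continuous)).preimage
      j.isClosedEmbedding.injective.injOn).subset fun z hz => ⟨⟨z, hz.1, rfl⟩, hz.2⟩
  have hk₁ : AlgebraicCycle.map j₁ (fun y => δ (i₁ (j₁ y))) (fun x => δ (i₁ x)) γ =
      AlgebraicCycle.map (pullback.fst i₁ i₂) (fun z => δ (i₁ (pullback.fst i₁ i₂ z))) (fun x => δ (i₁ x)) β := by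
    ext x
    by_cases hx : x ∈ Set.range j₁
    · obtain ⟨y, rfl⟩ := hx
      rw [Groth.Agent.S1918.map_closed j₁ (fun x => δ (i₁ x)) γ y, ← hv₁ y,
        Groth.Agent.S1918.map_closed (pullback.fst i₁ i₂) (fun x => δ (i₁ x)) β (j y)]
      rfl
    · rw [Groth.Agent.S1918.map_closed_of_notMem j₁ (fun x => δ (i₁ x)) γ hx,
        Groth.Agent.S1918.map_closed_of_notMem (pullback.fst i₁ i₂) (fun x => δ (i₁ x)) β fun ⟨w, hw⟩ => hx (by
          obtain ⟨y, rfl⟩ := hsurj w
          exact ⟨y, (hv₁ y).symm.trans hw⟩)]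
  have hk₂ : AlgebraicCycle.map j₂ (fun y => δ (i₁ (j₁ y))) (fun x => δ (i₂ x)) γ =
      AlgebraicCycle.map (pullback.snd i₁ i₂) (fun z => δ (i₁ (pullback.fst i₁ i₂ z))) (fun x => δ (i₂ x)) β := by
    rw [show (fun y => δ (i₁ (j₁ y))) = fun y => δ (i₂ (j₂ y)) from funext fun y => by
        rw [← Scheme.Hom.comp_apply, hcomm, Scheme.Hom.comp_apply],
      show (fun z => δ (i₁ (pullback.fst i₁ i₂ z))) = fun z => δ (i₂ (pullback.snd i₁ i₂ z)) from funext fun z => by
        rw [← Scheme.Hom.comp_apply, pullback.condition, Scheme.Hom.comp_apply]]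
    ext x
    by_cases hx : x ∈ Set.range j₂
    · obtain ⟨y, rfl⟩ := hx
      rw [Groth.Agent.S1918.map_closed j₂ (fun x => δ (i₂ x)) γ y, ← hv₂ y,
        Groth.Agent.S1918.map_closed (pullback.snd i₁ i₂) (fun x => δ (i₂ x)) β (j y)]
      rfl
    · rw [Groth.Agent.S1918.map_closed_of_notMem j₂ (fun x => δ (i₂ x)) γ hx,
        Groth.Agent.S1918.map_closed_of_notMem (pullback.snd i₁ i₂) (fun x => δ (i₂ x)) β fun ⟨w, hw⟩ => hx (by
          obtain ⟨y, rfl⟩ := hsurj w
          exact ⟨y, (hv₂ y).symm.trans hw⟩)]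
  refine ⟨γ, fun y hy => hβ (j y) (show δ (i₁ (pullback.fst i₁ i₂ (j y))) ≠ n by rw [hv₁]; exact hy), ?_, ?_⟩
  · rw [hk₁]; exact hr₁
  · rw [hk₂, Cyc.RatEquiv, sub_neg_eq_add]
    have e := Groth.Agent.S1918.ratEquivZero_neg hr₂
    rw [neg_sub, sub_neg_eq_add, add_comm] at e
    exact e

end Groth.Agent.S19017
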