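import Groth.Statements.S19018


set_option autoImplicit false
universe u
open TensorProduct
open SymTen

open scoped Pointwise

namespace Groth.Agent.S19018

/-- Suppose k is a field in which 2 ≠ 0 and R is a commutative k-algebra. Write I for the ideal of the
diagonal, i.e. the kernel of multiplication R ⊗_k R → R, and write S for the subalgebra of R ⊗_k R
consisting of elements invariant under interchanging the two tensor factors. Then, viewed as ideals
of S, the swap-invariant elements of I^4 form precisely the square of the ideal of swap-invariant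
elements of I^2. (The source is stated over the complex numbers; the proof needs only that 2 is
invertible.) -/
theorem result
    (k R : Type u) [Field k] [NeZero (2 : k)] [CommRing R] [Algebra k R] :
    Ideal.comap
        (AlgHom.equalizer ((Algebra.TensorProduct.comm k R R : R ⊗[k] R ≃ₐ[k] R ⊗[k] R) : R ⊗[k] R →ₐ[k] R ⊗[k] R)
          (AlgHom.id k (R ⊗[k] R))).val
        (KaehlerDifferential.ideal k R ^ 4) =
      (Ideal.comap
        (AlgHom.equalizer ((Algebra.TensorProduct.comm k R R : R ⊗[k] R ≃ₐ[k] R ⊗[k] R) : R ⊗[k] R →ₐ[k] R ⊗[k] R)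
          (AlgHom.id k (R ⊗[k] R))).val
        (KaehlerDifferential.ideal k R ^ 2)) ^ 2 := by
  set τ : R ⊗[k] R →ₐ[k] R ⊗[k] R :=
    ((Algebra.TensorProduct.comm k R R : R ⊗[k] R ≃ₐ[k] R ⊗[k] R) : R ⊗[k] R →ₐ[k] R ⊗[k] R) with hτ
  set S := AlgHom.equalizer τ (AlgHom.id k (R ⊗[k] R)) with hS
  set I := KaehlerDifferential.ideal k R with hI
  refine le_antisymm ?_ ?_
  · intro s hs
    have hττ : ∀ t, τ (τ t) = t := fun t => by
      induction t using TensorProduct.induction_on with
      | zero => rw [map_zero, map_zero]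
      | tmul a b => rfl
      | add a b ha hb => rw [map_add, map_add, ha, hb]
    have hmem : ∀ t, t + τ t ∈ S := fun t => by
      show τ (t + τ t) = t + τ t
      rw [map_add, hττ, add_comm]
    set J := Ideal.comap S.val (I ^ 2) with hJ
    let D : Set (R ⊗[k] R) := Set.range fun a : R => (1 : R) ⊗ₜ[k] a - a ⊗ₜ[k] (1 : R)
    have hD : Ideal.span D = I := KaehlerDifferential.span_range_eq_ideal k R
    have hτD : ∀ z ∈ D, τ z = -z := by
      rintro _ ⟨a, rfl⟩
      rw [map_sub, neg_sub]
      rfl
    have hI2 : I ^ 2 = Ideal.span (D * D) := by rw [pow_two, ← hD, Ideal.span_mul_span']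
    have hgen : ∀ z ∈ D * D, τ z = z ∧ z ∈ I ^ 2 := by
      rintro z hz
      refine ⟨?_, hI2 ▸ Ideal.subset_span hz⟩
      obtain ⟨a, ha, b, hb, rfl⟩ := Set.mem_mul.1 hz
      rw [map_mul, hτD a ha, hτD b hb, neg_mul_neg]
    have key : ∀ t ∈ I ^ 4, ∀ c, (⟨c * t + τ (c * t), hmem _⟩ : S) ∈ J ^ 2 := by
      intro t ht
      rw [show I ^ 4 = Ideal.span ((D * D) * (D * D)) by
        rw [← Ideal.span_mul_span', ← hI2, ← pow_add]] at ht
      induction ht using Submodule.span_induction with
      | mem z hz =>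
        intro c
        obtain ⟨p, hp, q, hq, rfl⟩ := Set.mem_mul.1 hz
        obtain ⟨hp1, hp2⟩ := hgen p hp
        obtain ⟨hq1, hq2⟩ := hgen q hq
        have hp' : (c + τ c) * p ∈ S := by
          show τ ((c + τ c) * p) = _
          rw [map_mul, map_add, hττ, hp1, AlgHom.id_apply, add_comm (τ c)]
        have e : (⟨c * (p * q) + τ (c * (p * q)), hmem _⟩ : S) = ⟨(c + τ c) * p, hp'⟩ * ⟨q, hq1⟩ :=
          Subtype.ext (by
            show c * (p * q) + τ (c * (p * q)) = (c + τ c) * p * q
            rw [map_mul, map_mul, hp1, hq1]; ring)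
        rw [e, pow_two]
        exact Ideal.mul_mem_mul (show (c + τ c) * p ∈ I ^ 2 from Ideal.mul_mem_left _ _ hp2) hq2
      | zero =>
        intro c
        have e : (⟨c * 0 + τ (c * 0), hmem _⟩ : S) = 0 := Subtype.ext (by simp)
        rw [e]; exact zero_mem _
      | add a b _ _ ha hb =>
        intro c
        have e : (⟨c * (a + b) + τ (c * (a + b)), hmem _⟩ : S) =
            ⟨c * a + τ (c * a), hmem _⟩ + ⟨c * b + τ (c * b), hmem _⟩ := Subtype.ext (by
          show c * (a + b) + τ (c * (a + b)) = c * a + τ (c * a) + (c * b + τ (c * b))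
          rw [mul_add, map_add]; ring)
        rw [e]; exact add_mem (ha c) (hb c)
      | smul r a _ ha =>
        intro c
        have e : (⟨c * (r • a) + τ (c * (r • a)), hmem _⟩ : S) = ⟨c * r * a + τ (c * r * a), hmem _⟩ :=
          Subtype.ext (by simp only [smul_eq_mul, mul_assoc])
        rw [e]; exact ha (c * r)
    have h2 : s = algebraMap k S (2⁻¹ : k) * ⟨1 * (s : R ⊗[k] R) + τ (1 * (s : R ⊗[k] R)), hmem _⟩ := by
      refine Subtype.ext ?_
      show (s : R ⊗[k] R) = algebraMap k (R ⊗[k] R) 2⁻¹ * (1 * _ + τ (1 * _))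
      rw [one_mul, show τ (s : R ⊗[k] R) = s from s.2, ← two_mul, ← mul_assoc,
        show (2 : R ⊗[k] R) = algebraMap k (R ⊗[k] R) 2 from (map_ofNat _ 2).symm, ← map_mul,
        inv_mul_cancel₀ (NeZero.ne (2 : k)), map_one, one_mul]
    rw [h2]
    exact Ideal.mul_mem_left _ _ (key _ hs 1)
  · rw [pow_two, Ideal.mul_le]
    intro a ha b hb
    show S.val (a * b) ∈ I ^ 4
    rw [map_mul, show I ^ 4 = I ^ 2 * I ^ 2 by rw [← pow_add]]
    exact Ideal.mul_mem_mul ha hb

end Groth.Agent.S19018
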