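import Groth.Statements.S19019
import Mathlib.Analysis.SpecialFunctions.Integrals.Basic
import Mathlib.Analysis.Matrix.Hermitian
import Mathlib.Topology.Algebra.Module.Cardinality
import Mathlib.Topology.Instances.Real.Lemmas
import Mathlib.Analysis.Real.Cardinality
import Mathlib.Tactic

set_option autoImplicit false
open scoped ComplexOrder
open Toeplitz

namespace Groth.Agent.S19019

open Finset Complex intervalIntegral

theorem integral_exp (k : ℤ) :
    ∫ y in (0 : ℝ)..(2 * Real.pi), Complex.exp (Complex.I * (k : ℂ) * (y : ℂ)) =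
      if k = 0 then (2 * Real.pi : ℂ) else 0 := by
  split_ifs with h
  · simp [h]
  · rw [integral_exp_mul_complex (mul_ne_zero Complex.I_ne_zero (Int.cast_ne_zero.mpr h))]
    have h1 : Complex.exp (Complex.I * (k : ℂ) * ((2 * Real.pi : ℝ) : ℂ)) = 1 := by
      rw [Complex.exp_eq_one_iff]
      exact ⟨k, by push_cast; ring⟩
    simp only [Complex.ofReal_zero, mul_zero, Complex.exp_zero, h1, sub_self, zero_div]

/-- the trigonometric polynomial of a vector -/
noncomputable def trig {m : ℕ} (x : Fin m → ℂ) (y : ℝ) : ℂ :=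
  ∑ j : Fin m, x j * Complex.exp (Complex.I * ((-(j : ℤ) : ℤ) : ℂ) * (y : ℂ))

theorem conj_trig {m : ℕ} (x : Fin m → ℂ) (y : ℝ) :
    (starRingEnd ℂ) (trig x y) = ∑ i : Fin m, (starRingEnd ℂ) (x i) * Complex.exp (Complex.I * ((i : ℤ) : ℂ) * (y : ℂ)) := by
  simp [trig, map_sum, ← Complex.exp_conj]

/-- Let A be an m × m complex Hermitian Toeplitz matrix, with entries A i j = t (j - i) constant along
diagonals, and let f(y) = Σ_{-m < k < m} t k · exp(i k y) be the trigonometric polynomial attached
to it. If f has positive real part at every real y outside a countable set, then A is positive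
definite (hence nondegenerate). (The source also states the mirror case: f negative off a countable
set gives A negative definite, which is this statement for -A.) -/
theorem result
    (m : ℕ) (t : ℤ → ℂ) (A : Matrix (Fin m) (Fin m) ℂ)
    (hA : ∀ i j : Fin m, A i j = t ((j : ℤ) - (i : ℤ))) (hH : A.IsHermitian)
    (hpos : Set.Countable {y : ℝ | ¬ 0 < (∑ k ∈ Finset.Ioo (-(m : ℤ)) (m : ℤ),
        t k * Complex.exp (Complex.I * (k : ℂ) * (y : ℂ))).re}) :
    A.PosDef := by
  classical
  set f : ℝ → ℂ := fun y => ∑ k ∈ Finset.Ioo (-(m : ℤ)) (m : ℤ),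
      t k * Complex.exp (Complex.I * (k : ℂ) * (y : ℂ)) with hf
  have hfc : Continuous f := by fun_prop
  have hdense : Dense {y : ℝ | 0 < (f y).re} := by
    have := Set.Countable.dense_compl (𝕜 := ℝ) hpos
    simpa [Set.compl_setOf, hf] using this
  have hf0 : ∀ y, 0 ≤ (f y).re := fun y => by
    have hcl : IsClosed {y : ℝ | 0 ≤ (f y).re} := isClosed_le continuous_const (Complex.continuous_re.comp hfc)
    exact hcl.closure_subset_iff.mpr (fun z (hz : 0 < (f z).re) => hz.le) (hdense y)
  rw [Matrix.posDef_iff_dotProduct_mulVec]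
  refine ⟨hH, fun x hx => ?_⟩
  have him := hH.im_star_dotProduct_mulVec_self x
  have hgc : Continuous (trig x) := by unfold trig; fun_prop
  have key : ∫ y in (0 : ℝ)..(2 * Real.pi), ((Complex.normSq (trig x y) : ℂ) * f y) =
      2 * Real.pi * (star x ⬝ᵥ A.mulVec x) := by
    have hexp : ∀ y : ℝ, (Complex.normSq (trig x y) : ℂ) * f y =
        ∑ i : Fin m, ∑ j : Fin m, ∑ k ∈ Finset.Ioo (-(m : ℤ)) (m : ℤ),
          ((starRingEnd ℂ) (x i) * x j * t k) *
            Complex.exp (Complex.I * (((i : ℤ) - (j : ℤ) + k : ℤ) : ℂ) * (y : ℂ)) := by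
      intro y
      rw [Complex.normSq_eq_conj_mul_self, conj_trig, trig, hf, Finset.sum_mul_sum, Finset.sum_mul]
      refine Finset.sum_congr rfl fun i _ => ?_
      rw [Finset.sum_mul]
      refine Finset.sum_congr rfl fun j _ => ?_
      rw [Finset.mul_sum]
      refine Finset.sum_congr rfl fun k _ => ?_
      rw [show Complex.I * (((i : ℤ) - (j : ℤ) + k : ℤ) : ℂ) * (y : ℂ) = Complex.I * ((i : ℤ) : ℂ) * (y : ℂ)
        + Complex.I * ((-(j : ℤ) : ℤ) : ℂ) * (y : ℂ) + Complex.I * (k : ℂ) * (y : ℂ) by push_cast; ring,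
        Complex.exp_add, Complex.exp_add]
      ring
    simp only [hexp]
    rw [integral_finsetSum fun i _ => Continuous.intervalIntegrable (by fun_prop) _ _,
      dotProduct, Finset.mul_sum]
    refine Finset.sum_congr rfl fun i _ => ?_
    rw [integral_finsetSum fun i _ => Continuous.intervalIntegrable (by fun_prop) _ _,
      Matrix.mulVec, dotProduct, Finset.mul_sum, Finset.mul_sum]
    refine Finset.sum_congr rfl fun j _ => ?_
    rw [integral_finsetSum fun i _ => Continuous.intervalIntegrable (by fun_prop) _ _]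
    simp only [intervalIntegral.integral_const_mul, integral_exp]
    rw [Finset.sum_eq_single ((j : ℤ) - (i : ℤ))]
    · rw [if_pos (by ring), hA, Pi.star_apply, ← starRingEnd_apply]
      ring
    · intro k _ hk
      rw [if_neg (by omega), mul_zero]
    · intro hk
      exact absurd (Finset.mem_Ioo.mpr ⟨by omega, by omega⟩) hk
  have hre : ∫ y in (0 : ℝ)..(2 * Real.pi), Complex.normSq (trig x y) * (f y).re =
      2 * Real.pi * (star x ⬝ᵥ A.mulVec x).re := by
    have hint : IntervalIntegrable (fun y => (Complex.normSq (trig x y) : ℂ) * f y) MeasureTheory.volume 0 (2 * Real.pi) :=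
      Continuous.intervalIntegrable (by fun_prop) _ _
    have h2 := Complex.reCLM.intervalIntegral_comp_comm hint
    simp only [Complex.reCLM_apply, Complex.re_ofReal_mul] at h2
    rw [h2, key]
    simp
  have hposI : 0 < ∫ y in (0 : ℝ)..(2 * Real.pi), Complex.normSq (trig x y) * (f y).re := by
    refine intervalIntegral.integral_pos (by positivity) (Continuous.continuousOn (by fun_prop))
      (fun y _ => mul_nonneg (Complex.normSq_nonneg _) (hf0 y)) ?_
    by_contra hc
    push Not at hc
    have hz : ∀ y ∈ Set.Icc (0 : ℝ) (2 * Real.pi), trig x y = 0 := by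
      have hsub : closure (Set.Ioo (0 : ℝ) (2 * Real.pi) ∩ {y : ℝ | 0 < (f y).re}) ⊆ {y | trig x y = 0} := by
        refine (isClosed_eq hgc continuous_const).closure_subset_iff.mpr ?_
        rintro y ⟨hy, hy'⟩
        by_contra hne
        exact absurd (hc y (Set.Ioo_subset_Icc_self hy))
          (not_le.mpr (mul_pos (Complex.normSq_pos.mpr hne) hy'))
      intro y hy
      refine hsub ?_
      rw [← closure_Ioo (by positivity : (0 : ℝ) ≠ 2 * Real.pi)] at hy
      exact closure_minimal (hdense.open_subset_closure_inter isOpen_Ioo) isClosed_closure hy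
    apply hx
    funext l
    have h0 : ∫ y in (0 : ℝ)..(2 * Real.pi), Complex.exp (Complex.I * ((l : ℤ) : ℂ) * (y : ℂ)) * trig x y = 0 := by
      rw [intervalIntegral.integral_congr (g := fun _ => (0 : ℂ))]
      · simp
      · intro y hy
        rw [Set.uIcc_of_le (by positivity)] at hy
        simp [hz y hy]
    have hexp : ∀ y : ℝ, Complex.exp (Complex.I * ((l : ℤ) : ℂ) * (y : ℂ)) * trig x y =
        ∑ j : Fin m, x j * Complex.exp (Complex.I * (((l : ℤ) - (j : ℤ) : ℤ) : ℂ) * (y : ℂ)) := by
      intro y
      rw [trig, Finset.mul_sum]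
      refine Finset.sum_congr rfl fun j _ => ?_
      rw [mul_left_comm, ← Complex.exp_add]
      push_cast
      ring_nf
    simp only [hexp] at h0
    rw [integral_finsetSum fun i _ => Continuous.intervalIntegrable (by fun_prop) _ _] at h0
    simp only [intervalIntegral.integral_const_mul, integral_exp] at h0
    rw [Finset.sum_eq_single l] at h0
    · simpa using h0
    · intro j _ hj
      have : (l : ℤ) - (j : ℤ) ≠ 0 := by
        have := Fin.val_ne_of_ne hj
        omega
      simp [this]
    · simp
  rw [hre] at hposI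
  rw [Complex.lt_def]
  exact ⟨by simpa using pos_of_mul_pos_right hposI (by positivity), by simpa using him.symm⟩

end Groth.Agent.S19019
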