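import Groth.Statements.S19020
import Mathlib.Data.Nat.Choose.Vandermonde
import Mathlib.Algebra.Order.Star.Real
import Mathlib.Tactic

set_option autoImplicit false
open Toeplitz

namespace Groth.Agent.S19020

open Finset in
/-- the signed binomial coefficient column -/
noncomputable def col (n i a : ℕ) : ℝ := if i ≤ a then (-1) ^ (a - i) * (n.choose (a - i) : ℝ) else 0

open Finset in
theorem vander (n d : ℕ) :
    ∑ b ∈ range (n + 1), n.choose (d + b) * n.choose b = (2 * n).choose (n + d) := by
  rw [two_mul, Nat.add_choose_eq, Finset.Nat.sum_antidiagonal_eq_sum_range_succ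
    (fun x y => n.choose x * n.choose y), Nat.succ_eq_add_one, show n + d + 1 = d + (n + 1) by omega,
    sum_range_add (fun k => n.choose k * n.choose (n + d - k))]
  rw [sum_eq_zero (s := range d), zero_add]
  · refine sum_congr rfl fun b hb => ?_
    have := mem_range.mp hb
    rw [show n + d - (d + b) = n - b by omega, Nat.choose_symm (by omega)]
  · intro x hx
    have := mem_range.mp hx
    rw [Nat.choose_eq_zero_of_lt (show n < n + d - x by omega), mul_zero]

open Finset in
theorem sum_col (n m i j : ℕ) (hij : i ≤ j) (hj : j < m) :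
    ∑ a ∈ range (n + m), col n i a * col n j a
      = (-1) ^ (i + j) * ((2 * n).choose (n + (j - i)) : ℝ) := by
  obtain ⟨d, rfl⟩ := Nat.exists_eq_add_of_le hij
  rw [show n + m = (i + d) + (n + (m - (i + d))) by omega, sum_range_add,
    sum_eq_zero (s := range (i + d)), zero_add, Nat.add_sub_cancel_left, ← vander n d]
  · rw [Nat.cast_sum, mul_sum, ← sum_subset (s₁ := range (n + 1))]
    · refine sum_congr rfl fun b hb => ?_
      have h1 : i + d + b - i = d + b := by omega
      simp only [col, if_pos (show i ≤ i + d + b by omega), h1, if_pos (show i + d ≤ i + d + b by omega),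
        Nat.add_sub_cancel_left]
      rw [show i + (i + d) = 2 * i + d by omega, pow_add, pow_add, pow_mul]
      have : ((-1 : ℝ) ^ b) * (-1 : ℝ) ^ b = 1 := by rw [← mul_pow]; simp
      push_cast
      simp only [neg_one_sq, one_pow, one_mul]
      linear_combination ((-1 : ℝ) ^ d * (n.choose (d + b) : ℝ) * (n.choose b : ℝ)) * this
    · intro b hb; rw [mem_range] at hb ⊢; omega
    · intro b _ hb
      rw [mem_range] at hb
      simp [col, Nat.choose_eq_zero_of_lt (show n < b by omega)]
  · intro a ha
    have := mem_range.mp ha
    simp [col, show ¬ i + d ≤ a by omega]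

/-- For natural numbers n and m, the m × m real Toeplitz matrix with (i, j) entry (-1)^(i+j) · C(2n, n +
|i - j|), i.e. with t_k = (-1)^k C(2n, n + k) on the k-th diagonal for |k| ≤ n and zero beyond, is
positive definite; in particular it is nondegenerate, which is the printed assertion (positive
definiteness is what the printed proof establishes; m = 0 is the empty matrix). -/
theorem result (n m : ℕ) :
    (Matrix.of fun i j : Fin m =>
        (-1 : ℝ) ^ ((i : ℕ) + (j : ℕ)) * (Nat.choose (2 * n) (n + Nat.dist i j) : ℝ)).PosDef := by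
  let W : Matrix (Fin (n + m)) (Fin m) ℝ := Matrix.of fun a i => col n i a
  have hW : (Matrix.of fun i j : Fin m =>
      (-1 : ℝ) ^ ((i : ℕ) + (j : ℕ)) * (Nat.choose (2 * n) (n + Nat.dist i j) : ℝ)) =
      W.conjTranspose * W := by
    ext i j
    simp only [Matrix.of_apply, Matrix.mul_apply, Matrix.conjTranspose_apply, star_trivial, W]
    rw [Fin.sum_univ_eq_sum_range (fun a => col n i a * col n j a)]
    rcases le_total (i : ℕ) (j : ℕ) with h | h
    · rw [sum_col n m i j h j.2, Nat.dist_eq_sub_of_le h]
    · rw [Nat.dist_comm, Nat.dist_eq_sub_of_le h, add_comm (i : ℕ) (j : ℕ), ← sum_col n m j i h i.2]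
      exact Finset.sum_congr rfl fun _ _ => mul_comm _ _
  rw [hW]
  refine Matrix.PosDef.conjTranspose_mul_self W ?_
  intro v w hvw
  funext i
  induction i using WellFoundedLT.induction with
  | _ i ih =>
    have h := congrFun hvw ⟨i, by omega⟩
    simp only [Matrix.mulVec, dotProduct, W, Matrix.of_apply] at h
    rw [← sub_eq_zero] at h ⊢
    rw [← Finset.sum_sub_distrib, Finset.sum_eq_single i] at h
    · simpa [col] using h
    · intro j _ hji
      rcases lt_or_gt_of_ne hji with hlt | hlt
      · rw [ih j hlt, sub_self]
      · have : ¬ (j : ℕ) ≤ (i : ℕ) := not_le.mpr hlt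
        simp [col, this]
    · simp

end Groth.Agent.S19020
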