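import Groth.Statements.S19021
import Mathlib.LinearAlgebra.Matrix.ToLinearEquiv
import Mathlib.Data.Nat.Choose.Vandermonde

set_option autoImplicit false
open Toeplitz

namespace Groth.Agent.S19021

open Finset Matrix

/-- The symmetrisation of the Toeplitz matrix is a Gram matrix of shifted binomial rows. -/
theorem gram (n m i j : ℕ) (hji : j ≤ i) (him : i < m) :
    ∑ a ∈ range (m + n + 2),
      (if i ≤ a then ((n + 1).choose (a - i) : ℤ) else 0) *
        (if j ≤ a then ((n + 1).choose (a - j) : ℤ) else 0) =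
      ((2 * n + 2).choose (n + 1 + (i - j)) : ℤ) := by
  classical
  have h1 : ∑ a ∈ range (m + n + 2),
      (if i ≤ a then ((n + 1).choose (a - i) : ℤ) else 0) *
        (if j ≤ a then ((n + 1).choose (a - j) : ℤ) else 0) =
      ∑ b ∈ range (n + 2), ((n + 1).choose b : ℤ) * (n + 1).choose (b + (i - j)) := by
    symm
    calc ∑ b ∈ range (n + 2), ((n + 1).choose b : ℤ) * (n + 1).choose (b + (i - j))
        = ∑ a ∈ (range (n + 2)).map (addRightEmbedding i),
            (if i ≤ a then ((n + 1).choose (a - i) : ℤ) else 0) *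
            (if j ≤ a then ((n + 1).choose (a - j) : ℤ) else 0) := by
          rw [Finset.sum_map]
          refine Finset.sum_congr rfl fun b _ ↦ ?_
          simp only [addRightEmbedding_apply]
          rw [if_pos (Nat.le_add_left i b), if_pos (by omega), Nat.add_sub_cancel,
            show b + i - j = b + (i - j) by omega]
      _ = _ := by
          refine Finset.sum_subset (fun a ha ↦ ?_) fun a ha hna ↦ ?_
          · simp only [Finset.mem_map, mem_range, addRightEmbedding_apply] at ha ⊢
            omega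
          · simp only [Finset.mem_map, mem_range, addRightEmbedding_apply, not_exists,
              not_and] at hna
            by_cases hia : i ≤ a
            · rw [if_pos hia, Nat.choose_eq_zero_of_lt (by
                by_contra h
                exact hna (a - i) (by omega) (by omega))]
              simp
            · rw [if_neg hia, zero_mul]
  rw [h1]
  have hd : ∀ d : ℕ, ∑ b ∈ range (n + 2), ((n + 1).choose b : ℤ) * (n + 1).choose (b + d) =
      ((2 * n + 2).choose (n + 1 + d) : ℤ) := by
    intro d
    rw [show (2 * n + 2) = (n + 1) + (n + 1) by omega, Nat.add_choose_eq,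
      Finset.Nat.sum_antidiagonal_eq_sum_range_succ_mk]
    push_cast
    -- reflect the first index and discard the terms beyond `n + 1`
    rw [← Finset.sum_subset (s₁ := range (n + 2)) (s₂ := range ((n + 1 + d).succ))
      (f := fun k ↦ ((n + 1).choose k : ℤ) * (n + 1).choose (n + 1 + d - k))
      (fun a ha ↦ by simp only [mem_range] at ha ⊢; omega)
      (fun a _ ha ↦ by
        simp only [mem_range, not_lt] at ha
        rw [Nat.choose_eq_zero_of_lt (by omega : n + 1 < a)]; simp)]
    rw [← Finset.sum_range_reflect (fun k ↦ ((n + 1).choose k : ℤ) *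
      (n + 1).choose (n + 1 + d - k)) (n + 2)]
    refine Finset.sum_congr rfl fun b hb ↦ ?_
    simp only [mem_range] at hb
    rw [show n + 2 - 1 - b = n + 1 - b by omega, Nat.choose_symm (by omega : b ≤ n + 1),
      show n + 1 + d - (n + 1 - b) = b + d by omega]
  exact hd _

/-- For natural numbers n and m, the m × m integer Toeplitz matrix with (i, j) entry (-1)^(i+j) ·
C(2n+1, n+1+i-j) (the binomial coefficient being 0 outside the range 0 ≤ n+1+i-j ≤ 2n+1;
equivalently s_k = (-1)^k C(2n+1, n+k+1) on the diagonal i - j = k for -n-1 ≤ k ≤ n and zero beyond)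
is nondegenerate: its determinant is nonzero (m = 0 is the empty matrix, of determinant 1). -/
theorem result (n m : ℕ) :
    (Matrix.of fun i j : Fin m =>
        (-1 : ℤ) ^ ((i : ℕ) + (j : ℕ)) *
          (if (j : ℕ) ≤ (i : ℕ) then (Nat.choose (2 * n + 1) (n + 1 + ((i : ℕ) - (j : ℕ))) : ℤ)
            else (Nat.choose (2 * n + 1) (n + ((j : ℕ) - (i : ℕ))) : ℤ))).det ≠ 0 := by
  classical
  set M : Matrix (Fin m) (Fin m) ℤ := Matrix.of fun i j : Fin m =>
    (-1 : ℤ) ^ ((i : ℕ) + (j : ℕ)) *
      (if (j : ℕ) ≤ (i : ℕ) then (Nat.choose (2 * n + 1) (n + 1 + ((i : ℕ) - (j : ℕ))) : ℤ)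
        else (Nat.choose (2 * n + 1) (n + ((j : ℕ) - (i : ℕ))) : ℤ)) with hM
  let c : ℕ → Fin m → ℤ := fun a i ↦
    (-1) ^ (i : ℕ) * (if (i : ℕ) ≤ a then ((n + 1).choose (a - (i : ℕ)) : ℤ) else 0)
  have hsym : ∀ i j : Fin m, M i j + M j i = ∑ a ∈ range (m + n + 2), c a i * c a j := by
    have key : ∀ i j : Fin m, (j : ℕ) ≤ i →
        M i j + M j i = ∑ a ∈ range (m + n + 2), c a i * c a j := by
      intro i j h
      have := gram n m i j h i.2
      simp only [c, mul_mul_mul_comm _ (ite _ _ _), ← pow_add]
      rw [← Finset.mul_sum, this]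
      simp only [hM, Matrix.of_apply, add_comm (j : ℕ) i, ← mul_add]
      congr 1
      rcases h.lt_or_eq with hlt | heq
      · rw [if_pos h, if_neg (by omega), ← Nat.cast_add, Nat.cast_inj,
          show n + 1 + ((i : ℕ) - j) = (n + ((i : ℕ) - j)) + 1 by omega,
          Nat.choose_succ_succ' (2 * n + 1), add_comm]
      · rw [if_pos h, if_pos (le_of_eq heq.symm), heq, Nat.sub_self, Nat.add_zero, ← Nat.cast_add,
          Nat.cast_inj, Nat.choose_succ_succ' (2 * n + 1) n,
          ← Nat.choose_symm_of_eq_add (show 2 * n + 1 = (n + 1) + n by omega)]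
    intro i j
    rcases le_total (j : ℕ) i with h | h
    · exact key i j h
    · rw [add_comm, key j i h]; simp only [mul_comm]
  intro hdet
  obtain ⟨v, hv0, hv⟩ := Matrix.exists_mulVec_eq_zero_iff.2 hdet
  have hq : ∑ a ∈ range (m + n + 2), (∑ i, c a i * v i) ^ 2 = 0 := by
    have h1 : ∑ i, ∑ j, v i * M i j * v j = 0 := by
      refine Finset.sum_eq_zero fun i _ ↦ ?_
      simp only [mul_assoc, ← Finset.mul_sum]
      rw [show ∑ j, M i j * v j = (M *ᵥ v) i from rfl, hv, Pi.zero_apply, mul_zero]
    have h2 : ∑ i, ∑ j, v i * M j i * v j = 0 := by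
      rw [Finset.sum_comm, ← h1]
      exact Finset.sum_congr rfl fun i _ ↦ Finset.sum_congr rfl fun j _ ↦ by ring
    calc ∑ a ∈ range (m + n + 2), (∑ i, c a i * v i) ^ 2
        = ∑ i, ∑ j, v i * (∑ a ∈ range (m + n + 2), c a i * c a j) * v j := by
          simp only [sq, Finset.sum_mul_sum, Finset.mul_sum, Finset.sum_mul]
          rw [Finset.sum_comm]
          refine Finset.sum_congr rfl fun i _ ↦ ?_
          rw [Finset.sum_comm]
          exact Finset.sum_congr rfl fun j _ ↦ Finset.sum_congr rfl fun a _ ↦ by ring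
      _ = 0 := by
          simp only [← hsym, mul_add, add_mul, Finset.sum_add_distrib, h1, h2, add_zero]
  have hz : ∀ a ∈ range (m + n + 2), ∑ i, c a i * v i = 0 := fun a ha ↦
    (sq_eq_zero_iff).1 ((Finset.sum_eq_zero_iff_of_nonneg fun a _ ↦ sq_nonneg _).1 hq a ha)
  refine hv0 (funext fun i ↦ ?_)
  induction hi : (i : ℕ) using Nat.strong_induction_on generalizing i with
  | _ r ih =>
    have h := hz i (mem_range.2 (by omega))
    rw [Finset.sum_eq_single i] at h
    · simpa [c] using h
    · intro j _ hj
      by_cases hji : (j : ℕ) ≤ i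
      · have hlt : (j : ℕ) < i := lt_of_le_of_ne hji (fun e ↦ hj (Fin.ext e))
        rw [show v j = 0 from ih j (hi ▸ hlt) j rfl, mul_zero]
      · simp [c, hji]
    · simp

end Groth.Agent.S19021
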