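import Groth.Statements.S19025
import Mathlib

set_option autoImplicit false
universe u
open HigherRestr

namespace Groth.Agent.S19025

/-- In abstract form, the estimate its proof establishes. Let S be a commutative ring, I an ideal of S,
g₀ and g₁ elements with g₁ - g₀ ∈ I, N a natural number and y a sequence in S such that, for 1 ≤ i ≤
N, the (N-i)-fold unit-step forward difference of y taken at i lies in I^(N-i). Then g₀^N times the
N-fold forward difference of y at 0, minus the N-fold forward difference at 0 of the twisted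
sequence j ↦ g₀^(N-j) g₁^j y_j, lies in I^N. (In the source S is the ring of functions on an affine
chart of X^n, I the ideal of a pairwise diagonal, g₀ and g₁ the two pullbacks of a transition unit
of L, and y_j the components x_λ along the compositions a₀^(N-j) a₁^j μ; the estimate is what makes
the higher order restrictions D^l_L well defined on ker D^(l-1)_L independently of the
trivialisation.) -/
theorem result
    (S : Type u) [CommRing S] (I : Ideal S) (g₀ g₁ : S) (hg : g₁ - g₀ ∈ I)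
    (N : ℕ) (y : ℕ → S)
    (hy : ∀ i : ℕ, 1 ≤ i → i ≤ N → (fwdDiff (1 : ℕ))^[N - i] y i ∈ I ^ (N - i)) :
    g₀ ^ N * (fwdDiff (1 : ℕ))^[N] y 0 -
        (fwdDiff (1 : ℕ))^[N] (fun j : ℕ => g₀ ^ (N - j) * g₁ ^ j * y j) 0 ∈ I ^ N := by
  suffices H : ∀ (N e : ℕ) (y : ℕ → S), (∀ i : ℕ, 1 ≤ i → i ≤ N → (fwdDiff (1 : ℕ))^[N - i] y i ∈ I ^ (N - i + e)) →
      g₀ ^ N * (fwdDiff (1 : ℕ))^[N] y 0 -
        (fwdDiff (1 : ℕ))^[N] (fun j : ℕ => g₀ ^ (N - j) * g₁ ^ j * y j) 0 ∈ I ^ (N + e) from by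
    simpa using H N 0 y (by simpa using hy)
  intro N
  induction N with
  | zero => intro e y _; simp
  | succ N ih =>
    intro e y hy
    let tw : ℕ → (ℕ → S) → ℕ → S := fun n z j => g₀ ^ (n - j) * g₁ ^ j * z j
    let T : (ℕ → S) → S := fun z => (fwdDiff (1 : ℕ))^[N] (tw N z) 0
    let y' : ℕ → S := fun j => y (j + 1)
    let dy : ℕ → S := fun j => y (j + 1) - y j
    have hdy : fwdDiff (1 : ℕ) y = dy := rfl
    have hshift : ∀ (n i : ℕ), (fwdDiff (1 : ℕ))^[n] y' i = (fwdDiff (1 : ℕ))^[n] y (i + 1) := fun n i =>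
      fwdDiff_iter_comp_add 1 y 1 n i
    have h1 := ih (e + 1) dy fun i hi hiN => by
      rw [← hdy, ← Function.iterate_succ_apply, show (N - i).succ = N + 1 - i by omega]
      exact Ideal.pow_le_pow_right (by omega) (hy i hi (by omega))
    have h2 := ih e y' fun i hi hiN => by
      rw [hshift]
      have := hy (i + 1) (by omega) (by omega)
      rwa [Nat.succ_sub_succ] at this
    have hT : T dy = T y' - T y := by
      show (fwdDiff (1 : ℕ))^[N] _ 0 = (fwdDiff (1 : ℕ))^[N] _ 0 - (fwdDiff (1 : ℕ))^[N] _ 0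
      simp only [fwdDiff_iter_eq_sum_shift, tw, y', dy, ← Finset.sum_sub_distrib, ← smul_sub, mul_sub]
    have hrec : (fwdDiff (1 : ℕ))^[N + 1] (tw (N + 1) y) 0 = g₁ * T y' - g₀ * T y := by
      rw [Function.iterate_succ_apply]
      show (fwdDiff (1 : ℕ))^[N] _ 0 = g₁ * (fwdDiff (1 : ℕ))^[N] _ 0 - g₀ * (fwdDiff (1 : ℕ))^[N] _ 0
      simp only [fwdDiff_iter_eq_sum_shift, Finset.mul_sum, ← Finset.sum_sub_distrib, fwdDiff, tw, y', zero_add,
        smul_eq_mul, mul_one, zsmul_eq_mul]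
      refine Finset.sum_congr rfl fun j hj => ?_
      have hj' : j ≤ N := Finset.mem_range_succ_iff.1 hj
      rw [Nat.succ_sub_succ, Nat.succ_sub hj', pow_succ, pow_succ]
      ring
    have h3 : (fwdDiff (1 : ℕ))^[N] y 1 ∈ I ^ (N + e) := by
      simpa using hy 1 le_rfl (by omega)
    have h4 : T y' ∈ I ^ (N + e) := by
      have h2' : g₀ ^ N * (fwdDiff (1 : ℕ))^[N] y' 0 - T y' ∈ I ^ (N + e) := h2
      rw [hshift] at h2'
      have := Ideal.sub_mem _ (Ideal.mul_mem_left _ (g₀ ^ N) h3) h2'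
      simpa using this
    have key : g₀ ^ (N + 1) * (fwdDiff (1 : ℕ))^[N + 1] y 0 -
        (fwdDiff (1 : ℕ))^[N + 1] (tw (N + 1) y) 0 =
        g₀ * (g₀ ^ N * (fwdDiff (1 : ℕ))^[N] dy 0 - T dy) - (g₁ - g₀) * T y' := by
      rw [hrec, hT, Function.iterate_succ_apply, hdy, pow_succ]
      ring
    show _ - (fwdDiff (1 : ℕ))^[N + 1] (tw (N + 1) y) 0 ∈ _
    rw [key]
    refine Ideal.sub_mem _ ?_ ?_
    · refine Ideal.mul_mem_left _ _ ?_
      rw [show N + 1 + e = N + (e + 1) by omega]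
      exact h1
    · rw [show N + 1 + e = (N + e) + 1 by omega, pow_succ']
      exact Ideal.mul_mem_mul hg h4

end Groth.Agent.S19025
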