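import Groth.Statements.S19026
import Groth.Agent.DualGeneric.SubJ
-- import your own Groth.Agent.* helpers here

set_option autoImplicit false
set_option backward.isDefEq.respectTransparency false
set_option backward.isDefEq.respectTransparency.types false
set_option maxHeartbeats 1000000
universe u
open CategoryTheory CategoryTheory.Limits AlgebraicGeometry
attribute [local instance] HasDerivedCategory.standard
open Curves

namespace Groth.Agent.S19026

/-- Let k be an algebraically closed field and X a connected reduced Gorenstein curve over k of genus g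
≥ 2: X is proper over k, reduced, connected, of dimension one, and its dualizing module ω_X (the
degree −1 cohomology sheaf of f^! O for the structure morphism f, for any choice of the data Rf_* on
D_QCoh with its right adjoint) is invertible; g = dim_k H^1(X, O_X). A connected subcurve Z of X is
a reduced connected closed subscheme of dimension one, deg_Z of a module means the degree of its
pullback to Z, g_Z = dim_k H^1(Z, O_Z), and k_Z is the length (k-dimension of global sections of the
structure sheaf) of the scheme-theoretic intersection of Z with the reduced closed subscheme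
supported on the closure of X ∖ Z. Let L be an invertible module of degree d which is balanced: for
every connected subcurve Z, |deg_Z L − (d/(2g−2)) deg_Z ω_X| ≤ k_Z/2 (written cleared of
denominators). Assume d > g − 1. Then L is nef (deg_Z L ≥ 0 for every connected subcurve Z) if and
only if X is G-semistable (deg_Z ω_X ≥ 0 for every connected subcurve Z) and every exceptional
subcurve Z (connected, with deg_Z ω_X = 0) has deg_Z L = 0 or 1. -/
theorem result (k : Type u) [Field k] [IsAlgClosed k] (X : Scheme.{u}) [X.Over (Spec (CommRingCat.of k))]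
    [IsProper (X ↘ (Spec (CommRingCat.of k)))] [AlgebraicGeometry.IsReduced X] [ConnectedSpace X] (hdim : topologicalKrullDim X = 1)
    [DCoh.HasRpush (X ↘ (Spec (CommRingCat.of k)))] (h : DCoh.RpushPreservesQCoh (X ↘ (Spec (CommRingCat.of k)))) [DCoh.HasShriek (X ↘ (Spec (CommRingCat.of k))) h]
    (OY : DCoh.DQCoh (Spec (CommRingCat.of k)))
    (hOY : Nonempty (OY.obj ≅ DCoh.inD (Spec (CommRingCat.of k)) (Coh.structureModule (Spec (CommRingCat.of k)))))
    (hGor : PicF.IsInvertible (DCoh.dualizingMod (X ↘ (Spec (CommRingCat.of k))) h OY 1)) (hg : 2 ≤ Curv2.genus k X)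
    (L : X.Modules) (hL : PicF.IsInvertible L)
    (hbal : ∀ J : X.IdealSheafData, AlgebraicGeometry.IsReduced J.subscheme → ConnectedSpace J.subscheme →
      topologicalKrullDim J.subscheme = 1 →
      |2 * (2 * (Curv2.genus k X : ℤ) - 2) * @Curv2.deg k _ J.subscheme ⟨J.subschemeι ≫ (X ↘ (Spec (CommRingCat.of k)))⟩ ((Scheme.Modules.pullback J.subschemeι).obj L) 1
          - 2 * Curv2.deg k X L 1 * @Curv2.deg k _ J.subscheme ⟨J.subschemeι ≫ (X ↘ (Spec (CommRingCat.of k)))⟩ ((Scheme.Modules.pullback J.subschemeι).obj (DCoh.dualizingMod (X ↘ (Spec (CommRingCat.of k))) h OY 1)) 1|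
        ≤ (2 * (Curv2.genus k X : ℤ) - 2) * (Module.finrank k (Coh.HH X (ClSub.quotMod (J ⊔ (Scheme.IdealSheafData.vanishingIdeal ⟨closure ((J.support : Set X)ᶜ), isClosed_closure⟩))) 0) : ℤ))
    (hd : (Curv2.genus k X : ℤ) - 1 < Curv2.deg k X L 1) :
    (∀ J : X.IdealSheafData, AlgebraicGeometry.IsReduced J.subscheme → ConnectedSpace J.subscheme →
      topologicalKrullDim J.subscheme = 1 →
      0 ≤ @Curv2.deg k _ J.subscheme ⟨J.subschemeι ≫ (X ↘ (Spec (CommRingCat.of k)))⟩ ((Scheme.Modules.pullback J.subschemeι).obj L) 1) ↔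
      ((∀ J : X.IdealSheafData, AlgebraicGeometry.IsReduced J.subscheme → ConnectedSpace J.subscheme →
      topologicalKrullDim J.subscheme = 1 →
        0 ≤ @Curv2.deg k _ J.subscheme ⟨J.subschemeι ≫ (X ↘ (Spec (CommRingCat.of k)))⟩ ((Scheme.Modules.pullback J.subschemeι).obj (DCoh.dualizingMod (X ↘ (Spec (CommRingCat.of k))) h OY 1)) 1) ∧
      (∀ J : X.IdealSheafData, AlgebraicGeometry.IsReduced J.subscheme → ConnectedSpace J.subscheme →
      topologicalKrullDim J.subscheme = 1 →
        @Curv2.deg k _ J.subscheme ⟨J.subschemeι ≫ (X ↘ (Spec (CommRingCat.of k)))⟩ ((Scheme.Modules.pullback J.subschemeι).obj (DCoh.dualizingMod (X ↘ (Spec (CommRingCat.of k))) h OY 1)) 1 = 0 →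
        (@Curv2.deg k _ J.subscheme ⟨J.subschemeι ≫ (X ↘ (Spec (CommRingCat.of k)))⟩ ((Scheme.Modules.pullback J.subschemeι).obj L) 1 = 0 ∨ @Curv2.deg k _ J.subscheme ⟨J.subschemeι ≫ (X ↘ (Spec (CommRingCat.of k)))⟩ ((Scheme.Modules.pullback J.subschemeι).obj L) 1 = 1))) := by
  constructor
  · intro hnef
    have key : ∀ J : X.IdealSheafData, AlgebraicGeometry.IsReduced J.subscheme → ConnectedSpace J.subscheme →
        topologicalKrullDim J.subscheme = 1 →
        0 ≤ DualGeneric.Sub.degJ k (DCoh.dualizingMod (X ↘ (Spec (CommRingCat.of k))) h OY 1) J ∧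
        (DualGeneric.Sub.degJ k (DCoh.dualizingMod (X ↘ (Spec (CommRingCat.of k))) h OY 1) J = 0 →
          DualGeneric.Sub.degJ k L J = 0 ∨ DualGeneric.Sub.degJ k L J = 1) := by
      intro J hr hc hJ
      have he := DualGeneric.Sub.degJ_omega k h OY hOY hGor hdim J hJ
      haveI := hc
      have hcase := DualGeneric.Sub.kJ_cases k h OY hOY hGor hdim J hJ
      obtain ⟨hb1, hb2⟩ := abs_le.1 (hbal J hr hc hJ)
      have ha := hnef J hr hc hJ
      rcases hcase with hk | ⟨hk, hgg, hew, hLd⟩
      swap
      · simp only [DualGeneric.Sub.degJ, DualGeneric.Sub.kJ] at *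
        omega
      simp only [DualGeneric.Sub.degJ, DualGeneric.Sub.genJ, DualGeneric.Sub.kJ] at *
      generalize @Curv2.deg k _ J.subscheme ⟨J.subschemeι ≫ (X ↘ (Spec (CommRingCat.of k)))⟩ ((Scheme.Modules.pullback J.subschemeι).obj L) 1 = a at *
      generalize @Curv2.deg k _ J.subscheme ⟨J.subschemeι ≫ (X ↘ (Spec (CommRingCat.of k)))⟩ ((Scheme.Modules.pullback J.subschemeι).obj (DCoh.dualizingMod (X ↘ (Spec (CommRingCat.of k))) h OY 1)) 1 = e at *
      generalize @Curv2.genus k _ J.subscheme ⟨J.subschemeι ≫ (X ↘ (Spec (CommRingCat.of k)))⟩ = γ at *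
      generalize (Module.finrank k (Coh.HH X (ClSub.quotMod (J ⊔ (Scheme.IdealSheafData.vanishingIdeal ⟨closure ((J.support : Set X)ᶜ), isClosed_closure⟩))) 0)) = κ at *
      generalize hG : (Curv2.genus k X : ℤ) = g at *
      have hg' : (2 : ℤ) ≤ g := by omega
      generalize Curv2.deg k X L 1 = d at *
      have hk' : (1 : ℤ) ≤ κ := by exact_mod_cast hk
      have he0 : 0 ≤ e := by
        by_contra hne
        obtain rfl : e = -1 := by omega
        obtain hκ : (κ:ℤ) = 1 := by omega
        rw [hκ] at hb2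
        nlinarith
      refine ⟨he0, fun h0 => ?_⟩
      subst h0
      have hκ : (κ:ℤ) ≤ 2 := by omega
      have : a ≤ 1 := by nlinarith [mul_le_mul_of_nonneg_left hκ (by linarith : (0:ℤ) ≤ 2 * g - 2)]
      omega
    exact ⟨fun J hr hc hJ => (key J hr hc hJ).1, fun J hr hc hJ => (key J hr hc hJ).2⟩
  · rintro ⟨hss, hexc⟩ J hr hc hJ
    have he := DualGeneric.Sub.degJ_omega k h OY hOY hGor hdim J hJ
    haveI := hc
    have hcase := DualGeneric.Sub.kJ_cases k h OY hOY hGor hdim J hJ
    obtain ⟨hb1, hb2⟩ := abs_le.1 (hbal J hr hc hJ)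
    have hs := hss J hr hc hJ
    have hx := hexc J hr hc hJ
    rcases hcase with hk | ⟨hk, hgg, hew, hLd⟩
    swap
    · have := hLd hL
      simp only [DualGeneric.Sub.degJ, DualGeneric.Sub.kJ] at *
      omega
    simp only [DualGeneric.Sub.degJ, DualGeneric.Sub.genJ, DualGeneric.Sub.kJ] at *
    generalize @Curv2.deg k _ J.subscheme ⟨J.subschemeι ≫ (X ↘ (Spec (CommRingCat.of k)))⟩ ((Scheme.Modules.pullback J.subschemeι).obj L) 1 = a at *
    generalize @Curv2.deg k _ J.subscheme ⟨J.subschemeι ≫ (X ↘ (Spec (CommRingCat.of k)))⟩ ((Scheme.Modules.pullback J.subschemeι).obj (DCoh.dualizingMod (X ↘ (Spec (CommRingCat.of k))) h OY 1)) 1 = e at *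
    generalize @Curv2.genus k _ J.subscheme ⟨J.subschemeι ≫ (X ↘ (Spec (CommRingCat.of k)))⟩ = γ at *
    generalize (Module.finrank k (Coh.HH X (ClSub.quotMod (J ⊔ (Scheme.IdealSheafData.vanishingIdeal ⟨closure ((J.support : Set X)ᶜ), isClosed_closure⟩))) 0)) = κ at *
    generalize hG : (Curv2.genus k X : ℤ) = g at *
    have hg' : (2 : ℤ) ≤ g := by omega
    generalize Curv2.deg k X L 1 = d at *
    by_contra hne
    have he1 : 1 ≤ e := by
      by_contra hne'
      obtain rfl : e = 0 := by omega
      have := hx rfl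
      omega
    nlinarith [mul_le_mul_of_nonneg_left he1 (by linarith : (0:ℤ) ≤ 2 * d - (2 * g - 2) - 1),
      mul_nonneg (by linarith : (0:ℤ) ≤ 2 * g - 2) (by omega : (0:ℤ) ≤ -1 - a),
      mul_nonneg (by linarith : (0:ℤ) ≤ 2 * g - 2) (by omega : (0:ℤ) ≤ e + 2 - (κ:ℤ))]

end Groth.Agent.S19026
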