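import Groth.Statements.S19027
import Groth.Agent.DualGeneric.SubJ
import Groth.Agent.S20028
-- import your own Groth.Agent.* helpers here

set_option autoImplicit false
set_option backward.isDefEq.respectTransparency false
set_option backward.isDefEq.respectTransparency.types false
set_option maxHeartbeats 1000000
universe u
open CategoryTheory CategoryTheory.Limits AlgebraicGeometry
attribute [local instance] HasDerivedCategory.standard
open Curves

namespace Groth.Agent.S19027

/-- Let k be an algebraically closed field and X a connected reduced Gorenstein curve over k of genus g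
≥ 2: X is proper over k, reduced, connected, of dimension one, and its dualizing module ω_X (the
degree −1 cohomology sheaf of f^! O for the structure morphism f, for any choice of the data Rf_* on
D_QCoh with its right adjoint) is invertible; g = dim_k H^1(X, O_X). A connected subcurve Z of X is
a reduced connected closed subscheme of dimension one, deg_Z of a module means the degree of its
pullback to Z, g_Z = dim_k H^1(Z, O_Z), and k_Z is the length (k-dimension of global sections of the
structure sheaf) of the scheme-theoretic intersection of Z with the reduced closed subscheme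
supported on the closure of X ∖ Z. Let L be an invertible module of degree d which is balanced: for
every connected subcurve Z, |deg_Z L − (d/(2g−2)) deg_Z ω_X| ≤ k_Z/2 (written cleared of
denominators). Assume d > 3(g − 1). Under this bound, ampleness of L is equivalent to X being
G-quasistable together with deg_Z L = 1 on each exceptional subcurve Z; here G-quasistable means
that deg_Z ω_X ≥ 0 for every connected subcurve Z and that every exceptional subcurve Z (connected,
with deg_Z ω_X = 0) is irreducible (for an exceptional subcurve, irreducibility is equivalent to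
being a projective line, since such a subcurve has genus zero and meets the rest of X in a scheme of
length two). -/
theorem result (k : Type u) [Field k] [IsAlgClosed k] (X : Scheme.{u}) [X.Over (Spec (CommRingCat.of k))]
    [IsProper (X ↘ (Spec (CommRingCat.of k)))] [AlgebraicGeometry.IsReduced X] [ConnectedSpace X] (hdim : topologicalKrullDim X = 1)
    [DCoh.HasRpush (X ↘ (Spec (CommRingCat.of k)))] (h : DCoh.RpushPreservesQCoh (X ↘ (Spec (CommRingCat.of k)))) [DCoh.HasShriek (X ↘ (Spec (CommRingCat.of k))) h]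
    (OY : DCoh.DQCoh (Spec (CommRingCat.of k)))
    (hOY : Nonempty (OY.obj ≅ DCoh.inD (Spec (CommRingCat.of k)) (Coh.structureModule (Spec (CommRingCat.of k)))))
    (hGor : PicF.IsInvertible (DCoh.dualizingMod (X ↘ (Spec (CommRingCat.of k))) h OY 1)) (hg : 2 ≤ Curv2.genus k X)
    (L : X.Modules) (hL : PicF.IsInvertible L)
    (hbal : ∀ J : X.IdealSheafData, AlgebraicGeometry.IsReduced J.subscheme → ConnectedSpace J.subscheme →
      topologicalKrullDim J.subscheme = 1 →
      |2 * (2 * (Curv2.genus k X : ℤ) - 2) * @Curv2.deg k _ J.subscheme ⟨J.subschemeι ≫ (X ↘ (Spec (CommRingCat.of k)))⟩ ((Scheme.Modules.pullback J.subschemeι).obj L) 1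
          - 2 * Curv2.deg k X L 1 * @Curv2.deg k _ J.subscheme ⟨J.subschemeι ≫ (X ↘ (Spec (CommRingCat.of k)))⟩ ((Scheme.Modules.pullback J.subschemeι).obj (DCoh.dualizingMod (X ↘ (Spec (CommRingCat.of k))) h OY 1)) 1|
        ≤ (2 * (Curv2.genus k X : ℤ) - 2) * (Module.finrank k (Coh.HH X (ClSub.quotMod (J ⊔ (Scheme.IdealSheafData.vanishingIdeal ⟨closure ((J.support : Set X)ᶜ), isClosed_closure⟩))) 0) : ℤ))
    (hd : 3 * ((Curv2.genus k X : ℤ) - 1) < Curv2.deg k X L 1) :
    CohB1.IsAmple L ↔
      ((∀ J : X.IdealSheafData, AlgebraicGeometry.IsReduced J.subscheme → ConnectedSpace J.subscheme →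
      topologicalKrullDim J.subscheme = 1 →
        0 ≤ @Curv2.deg k _ J.subscheme ⟨J.subschemeι ≫ (X ↘ (Spec (CommRingCat.of k)))⟩ ((Scheme.Modules.pullback J.subschemeι).obj (DCoh.dualizingMod (X ↘ (Spec (CommRingCat.of k))) h OY 1)) 1) ∧
      (∀ J : X.IdealSheafData, AlgebraicGeometry.IsReduced J.subscheme → ConnectedSpace J.subscheme →
      topologicalKrullDim J.subscheme = 1 →
        @Curv2.deg k _ J.subscheme ⟨J.subschemeι ≫ (X ↘ (Spec (CommRingCat.of k)))⟩ ((Scheme.Modules.pullback J.subschemeι).obj (DCoh.dualizingMod (X ↘ (Spec (CommRingCat.of k))) h OY 1)) 1 = 0 → IrreducibleSpace J.subscheme) ∧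
      (∀ J : X.IdealSheafData, AlgebraicGeometry.IsReduced J.subscheme → ConnectedSpace J.subscheme →
      topologicalKrullDim J.subscheme = 1 →
        @Curv2.deg k _ J.subscheme ⟨J.subschemeι ≫ (X ↘ (Spec (CommRingCat.of k)))⟩ ((Scheme.Modules.pullback J.subschemeι).obj (DCoh.dualizingMod (X ↘ (Spec (CommRingCat.of k))) h OY 1)) 1 = 0 → @Curv2.deg k _ J.subscheme ⟨J.subschemeι ≫ (X ↘ (Spec (CommRingCat.of k)))⟩ ((Scheme.Modules.pullback J.subschemeι).obj L) 1 = 1)) := by
  constructor
  · intro hamp
    exact Groth.Agent.S20028.result k X hdim h OY hOY hGor hg L hL hbal (by omega) hamp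
  rintro ⟨hss, -, hone⟩
  haveI := CurveRR.isNoetherian_of_proper k X
  refine (CurveRR.Multi.isAmple_iff k hdim.le hL).2 fun C hC hCd => ?_
  have hr0 : (X.irreducibleComponentIdeal C hC).radical =
      Scheme.IdealSheafData.vanishingIdeal ⟨C, isClosed_of_mem_irreducibleComponents C hC⟩ :=
    (CurveRR.Multi.radical_component ⟨C, hC⟩).trans (congrArg _ (TopologicalSpace.Closeds.ext
      (hC.1.isGenericPoint_genericPoint (isClosed_of_mem_irreducibleComponents C hC)).def))
  rw [hr0]
  let J : X.IdealSheafData := Scheme.IdealSheafData.vanishingIdeal ⟨C, isClosed_of_mem_irreducibleComponents C hC⟩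
  show 0 < DualGeneric.Sub.degJ k L J
  have hr : AlgebraicGeometry.IsReduced J.subscheme := DvrDom.isReduced_vanishingIdeal_subscheme _
  have hrange : Set.range J.subschemeι = C := DvrDom.range_vanishingIdeal_subschemeι _
  have hc : ConnectedSpace J.subscheme := DualGeneric.Sub.connected_subscheme _ hC.1.isConnected
  have hJ : topologicalKrullDim J.subscheme = 1 := by
    rw [J.subschemeι.isClosedEmbedding.isEmbedding.toHomeomorph.isHomeomorph.topologicalKrullDim_eq, hrange]
    exact hCd
  have he := DualGeneric.Sub.degJ_omega k h OY hOY hGor hdim J hJ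
  haveI := hc
  have hcase := DualGeneric.Sub.kJ_cases k h OY hOY hGor hdim J hJ
  obtain ⟨hb1, hb2⟩ := abs_le.1 (hbal J hr hc hJ)
  have hs := hss J hr hc hJ
  have hx := hone J hr hc hJ
  rcases hcase with hk | ⟨hk, hgg, hew, hLd⟩
  swap
  · have := hLd hL
    simp only [DualGeneric.Sub.degJ, DualGeneric.Sub.kJ] at *
    omega
  simp only [DualGeneric.Sub.degJ, DualGeneric.Sub.genJ, DualGeneric.Sub.kJ] at *
  generalize @Curv2.deg k _ J.subscheme ⟨J.subschemeι ≫ (X ↘ (Spec (CommRingCat.of k)))⟩ ((Scheme.Modules.pullback J.subschemeι).obj L) 1 = a at *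
  generalize @Curv2.deg k _ J.subscheme ⟨J.subschemeι ≫ (X ↘ (Spec (CommRingCat.of k)))⟩ ((Scheme.Modules.pullback J.subschemeι).obj (DCoh.dualizingMod (X ↘ (Spec (CommRingCat.of k))) h OY 1)) 1 = e at *
  generalize @Curv2.genus k _ J.subscheme ⟨J.subschemeι ≫ (X ↘ (Spec (CommRingCat.of k)))⟩ = γ at *
  generalize (Module.finrank k (Coh.HH X (ClSub.quotMod (J ⊔ (Scheme.IdealSheafData.vanishingIdeal ⟨closure ((J.support : Set X)ᶜ), isClosed_closure⟩))) 0)) = κ at *
  generalize hG : (Curv2.genus k X : ℤ) = g at *
  have hg' : (2 : ℤ) ≤ g := by omega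
  generalize Curv2.deg k X L 1 = d at *
  have hk' : (1 : ℤ) ≤ κ := by exact_mod_cast hk
  rcases eq_or_lt_of_le hs with h0 | h0
  · rw [hx h0.symm]; norm_num
  by_contra hne
  push Not at hne
  nlinarith [mul_le_mul_of_nonneg_left (show (1:ℤ) ≤ e from h0) (by linarith : (0:ℤ) ≤ 2 * d - 3 * (2 * g - 2) - 1),
    mul_nonneg (by linarith : (0:ℤ) ≤ 2 * g - 2) (by omega : (0:ℤ) ≤ -a),
    mul_nonneg (by linarith : (0:ℤ) ≤ 2 * g - 2) (by omega : (0:ℤ) ≤ e + 2 - (κ:ℤ)),
    mul_le_mul_of_nonneg_left (show (1:ℤ) ≤ e from h0) (by linarith : (0:ℤ) ≤ 2 * g - 2)]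

end Groth.Agent.S19027
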