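import Groth.Statements.S19029
import Groth.Agent.DualGeneric.SubJ
-- import your own Groth.Agent.* helpers here

set_option autoImplicit false
set_option backward.isDefEq.respectTransparency false
set_option backward.isDefEq.respectTransparency.types false
set_option maxHeartbeats 1000000
universe u
open CategoryTheory CategoryTheory.Limits AlgebraicGeometry
attribute [local instance] HasDerivedCategory.standard
open Curves

namespace Groth.Agent.S19029

/-- Let k be an algebraically closed field and X a connected reduced Gorenstein curve over k of genus g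
≥ 2: X is proper over k, reduced, connected, of dimension one, and its dualizing module ω_X (the
degree −1 cohomology sheaf of f^! O for the structure morphism f, for any choice of the data Rf_* on
D_QCoh with its right adjoint) is invertible; g = dim_k H^1(X, O_X). A connected subcurve Z of X is
a reduced connected closed subscheme of dimension one, deg_Z of a module means the degree of its
pullback to Z, g_Z = dim_k H^1(Z, O_Z), and k_Z is the length (k-dimension of global sections of the
structure sheaf) of the scheme-theoretic intersection of Z with the reduced closed subscheme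
supported on the closure of X ∖ Z. Let L be an invertible module of degree d which is balanced: for
every connected subcurve Z, |deg_Z L − (d/(2g−2)) deg_Z ω_X| ≤ k_Z/2 (written cleared of
denominators). If L is nef (deg_Z L ≥ 0 for every connected subcurve Z) and d > 3(g − 1), then L is
globally generated. -/
theorem result (k : Type u) [Field k] [IsAlgClosed k] (X : Scheme.{u}) [X.Over (Spec (CommRingCat.of k))]
    [IsProper (X ↘ (Spec (CommRingCat.of k)))] [AlgebraicGeometry.IsReduced X] [ConnectedSpace X] (hdim : topologicalKrullDim X = 1)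
    [DCoh.HasRpush (X ↘ (Spec (CommRingCat.of k)))] (h : DCoh.RpushPreservesQCoh (X ↘ (Spec (CommRingCat.of k)))) [DCoh.HasShriek (X ↘ (Spec (CommRingCat.of k))) h]
    (OY : DCoh.DQCoh (Spec (CommRingCat.of k)))
    (hOY : Nonempty (OY.obj ≅ DCoh.inD (Spec (CommRingCat.of k)) (Coh.structureModule (Spec (CommRingCat.of k)))))
    (hGor : PicF.IsInvertible (DCoh.dualizingMod (X ↘ (Spec (CommRingCat.of k))) h OY 1)) (hg : 2 ≤ Curv2.genus k X)
    (L : X.Modules) (hL : PicF.IsInvertible L)
    (hbal : ∀ J : X.IdealSheafData, AlgebraicGeometry.IsReduced J.subscheme → ConnectedSpace J.subscheme →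
      topologicalKrullDim J.subscheme = 1 →
      |2 * (2 * (Curv2.genus k X : ℤ) - 2) * @Curv2.deg k _ J.subscheme ⟨J.subschemeι ≫ (X ↘ (Spec (CommRingCat.of k)))⟩ ((Scheme.Modules.pullback J.subschemeι).obj L) 1
          - 2 * Curv2.deg k X L 1 * @Curv2.deg k _ J.subscheme ⟨J.subschemeι ≫ (X ↘ (Spec (CommRingCat.of k)))⟩ ((Scheme.Modules.pullback J.subschemeι).obj (DCoh.dualizingMod (X ↘ (Spec (CommRingCat.of k))) h OY 1)) 1|
        ≤ (2 * (Curv2.genus k X : ℤ) - 2) * (Module.finrank k (Coh.HH X (ClSub.quotMod (J ⊔ (Scheme.IdealSheafData.vanishingIdeal ⟨closure ((J.support : Set X)ᶜ), isClosed_closure⟩))) 0) : ℤ))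
    (hnef : ∀ J : X.IdealSheafData, AlgebraicGeometry.IsReduced J.subscheme → ConnectedSpace J.subscheme →
      topologicalKrullDim J.subscheme = 1 →
      0 ≤ @Curv2.deg k _ J.subscheme ⟨J.subschemeι ≫ (X ↘ (Spec (CommRingCat.of k)))⟩ ((Scheme.Modules.pullback J.subschemeι).obj L) 1)
    (hd : 3 * ((Curv2.genus k X : ℤ) - 1) < Curv2.deg k X L 1) :
    Curv2.IsGloballyGenerated L := by
  refine DualGeneric.Sub.gg_of_subsingleton k hdim.le hL fun P hP => ?_
  by_contra h1
  obtain ⟨J, hr, hc, hJ, hle⟩ := DualGeneric.Sub.exists_bad_point k h OY hOY hGor hdim hL hP h1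
  have he := DualGeneric.Sub.degJ_omega k h OY hOY hGor hdim J hJ
  haveI := hc
  have hcase := DualGeneric.Sub.kJ_cases k h OY hOY hGor hdim J hJ
  obtain ⟨hb1, hb2⟩ := abs_le.1 (hbal J hr hc hJ)
  have ha := hnef J hr hc hJ
  rcases hcase with hk | ⟨hk, hgg, hew, hLd⟩
  swap
  · have := hLd hL
    simp only [DualGeneric.Sub.degJ, DualGeneric.Sub.kJ] at *
    omega
  simp only [DualGeneric.Sub.degJ, DualGeneric.Sub.genJ, DualGeneric.Sub.kJ] at *
  generalize @Curv2.deg k _ J.subscheme ⟨J.subschemeι ≫ (X ↘ (Spec (CommRingCat.of k)))⟩ ((Scheme.Modules.pullback J.subschemeι).obj L) 1 = a at *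
  generalize @Curv2.deg k _ J.subscheme ⟨J.subschemeι ≫ (X ↘ (Spec (CommRingCat.of k)))⟩ ((Scheme.Modules.pullback J.subschemeι).obj (DCoh.dualizingMod (X ↘ (Spec (CommRingCat.of k))) h OY 1)) 1 = e at *
  generalize @Curv2.genus k _ J.subscheme ⟨J.subschemeι ≫ (X ↘ (Spec (CommRingCat.of k)))⟩ = γ at *
  generalize (Module.finrank k (Coh.HH X (ClSub.quotMod (J ⊔ (Scheme.IdealSheafData.vanishingIdeal ⟨closure ((J.support : Set X)ᶜ), isClosed_closure⟩))) 0)) = κ at *
  generalize hG : (Curv2.genus k X : ℤ) = g at *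
  have hg' : (2 : ℤ) ≤ g := by omega
  generalize Curv2.deg k X L 1 = d at *
  have hk' : (1 : ℤ) ≤ κ := by exact_mod_cast hk
  have he1 : 1 ≤ e := by
    by_contra hne
    rcases Nat.eq_zero_or_pos γ with h0 | h0
    · subst h0
      push_cast at he
      have : e = -1 ∨ e = 0 := by omega
      rcases this with rfl | rfl
      · obtain hκ : (κ:ℤ) = 1 := by omega
        rw [hκ] at hb2
        nlinarith
      · omega
    · omega
  nlinarith [mul_le_mul_of_nonneg_left he1 (by linarith : (0:ℤ) ≤ 2 * d - 3 * (2 * g - 2)),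
    mul_nonneg (by linarith : (0:ℤ) ≤ 2 * g - 2) (by linarith : (0:ℤ) ≤ e - (κ:ℤ) + 1 - a),
    mul_le_mul_of_nonneg_left he1 (by linarith : (0:ℤ) ≤ 2 * g - 2),
    mul_le_mul_of_nonneg_left hk' (by linarith : (0:ℤ) ≤ 2 * g - 2)]

end Groth.Agent.S19029
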