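import Groth.Statements.S19032
import Groth.Agent.DualGeneric.SubJ
-- import your own Groth.Agent.* helpers here

set_option autoImplicit false
set_option backward.isDefEq.respectTransparency false
set_option backward.isDefEq.respectTransparency.types false
set_option maxHeartbeats 1000000
universe u
open CategoryTheory CategoryTheory.Limits AlgebraicGeometry
attribute [local instance] HasDerivedCategory.standard
open Curves

namespace Groth.Agent.S19032

/-- Let k be an algebraically closed field and X a connected reduced Gorenstein curve over k of genus g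
≥ 2: X is proper over k, reduced, connected, of dimension one, and its dualizing module ω_X (the
degree −1 cohomology sheaf of f^! O for the structure morphism f, for any choice of the data Rf_* on
D_QCoh with its right adjoint) is invertible; g = dim_k H^1(X, O_X). If X is G-semistable, i.e. the
pullback of ω_X to every reduced connected closed subscheme of dimension one has non-negative
degree, then for every i ≥ 2 the tensor power ω_X^{⊗ i} is non-special (H^1(X, ω_X^{⊗ i}) = 0) and
globally generated. -/
theorem result (k : Type u) [Field k] [IsAlgClosed k] (X : Scheme.{u}) [X.Over (Spec (CommRingCat.of k))]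
    [IsProper (X ↘ (Spec (CommRingCat.of k)))] [AlgebraicGeometry.IsReduced X] [ConnectedSpace X] (hdim : topologicalKrullDim X = 1)
    [DCoh.HasRpush (X ↘ (Spec (CommRingCat.of k)))] (h : DCoh.RpushPreservesQCoh (X ↘ (Spec (CommRingCat.of k)))) [DCoh.HasShriek (X ↘ (Spec (CommRingCat.of k))) h]
    (OY : DCoh.DQCoh (Spec (CommRingCat.of k)))
    (hOY : Nonempty (OY.obj ≅ DCoh.inD (Spec (CommRingCat.of k)) (Coh.structureModule (Spec (CommRingCat.of k)))))
    (hGor : PicF.IsInvertible (DCoh.dualizingMod (X ↘ (Spec (CommRingCat.of k))) h OY 1)) (hg : 2 ≤ Curv2.genus k X)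
    (hss : ∀ J : X.IdealSheafData, AlgebraicGeometry.IsReduced J.subscheme → ConnectedSpace J.subscheme →
      topologicalKrullDim J.subscheme = 1 →
      0 ≤ @Curv2.deg k _ J.subscheme ⟨J.subschemeι ≫ (X ↘ (Spec (CommRingCat.of k)))⟩ ((Scheme.Modules.pullback J.subschemeι).obj (DCoh.dualizingMod (X ↘ (Spec (CommRingCat.of k))) h OY 1)) 1)
    (i : ℕ) (hi : 2 ≤ i) :
    Subsingleton (Coh.HH X (CohB1.tensorPow (DCoh.dualizingMod (X ↘ (Spec (CommRingCat.of k))) h OY 1) i) 1) ∧ Curv2.IsGloballyGenerated (CohB1.tensorPow (DCoh.dualizingMod (X ↘ (Spec (CommRingCat.of k))) h OY 1) i) := by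
  have hd1 := hdim.le
  refine ⟨?_, DualGeneric.Sub.gg_of_subsingleton k hd1 (TMul.isInvertible_tensorPow hGor i) fun P hP => ?_⟩
  · by_contra h1
    obtain ⟨J, hr, hc, hJ, hle⟩ := DualGeneric.Sub.exists_bad_h1 k h OY hOY hGor hdim (TMul.isInvertible_tensorPow hGor i) h1
    have he := DualGeneric.Sub.degJ_omega k h OY hOY hGor hdim J hJ
    have hcase := DualGeneric.Sub.kJ_cases k h OY hOY hGor hdim J hJ
    rw [DualGeneric.Sub.degJ_pow k hGor i J hJ] at hle
    have hs : 0 ≤ DualGeneric.Sub.degJ k _ J := hss J hr hc hJ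
    have hi' : (2 : ℤ) ≤ (i : ℤ) := by exact_mod_cast hi
    rcases hcase with hk | ⟨hk, -, hew, -⟩
    · have hk' : (1 : ℤ) ≤ DualGeneric.Sub.kJ k J := by exact_mod_cast hk
      nlinarith [mul_nonneg (by linarith : (0:ℤ) ≤ (i:ℤ) - 1) hs]
    · rw [hk, hew] at hle
      have hg' : (2 : ℤ) ≤ Curv2.genus k X := by exact_mod_cast hg
      push_cast at hle
      nlinarith
  · by_contra h1
    obtain ⟨J, hr, hc, hJ, hle⟩ := DualGeneric.Sub.exists_bad_point k h OY hOY hGor hdim (TMul.isInvertible_tensorPow hGor i) hP h1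
    have he := DualGeneric.Sub.degJ_omega k h OY hOY hGor hdim J hJ
    have hcase := DualGeneric.Sub.kJ_cases k h OY hOY hGor hdim J hJ
    rw [DualGeneric.Sub.degJ_pow k hGor i J hJ] at hle
    have hs : 0 ≤ DualGeneric.Sub.degJ k _ J := hss J hr hc hJ
    have hi' : (2 : ℤ) ≤ (i : ℤ) := by exact_mod_cast hi
    rcases hcase with hk | ⟨hk, -, hew, -⟩
    · have hk' : (1 : ℤ) ≤ DualGeneric.Sub.kJ k J := by exact_mod_cast hk
      rcases eq_or_lt_of_le hs with h0 | h0
      · rw [← h0] at hle he
        simp at hle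
        omega
      · nlinarith [mul_le_mul_of_nonneg_left (show (1:ℤ) ≤ DualGeneric.Sub.degJ k _ J from h0) (by linarith : (0:ℤ) ≤ (i:ℤ) - 1)]
    · rw [hk, hew] at hle
      have hg' : (2 : ℤ) ≤ Curv2.genus k X := by exact_mod_cast hg
      push_cast at hle
      nlinarith

end Groth.Agent.S19032
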