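import Groth.Statements.S19035
import Mathlib

set_option autoImplicit false
universe u v w x
open CAlg

namespace Groth.Agent.S19035

/-- Let p be a prime and k a perfect field of characteristic p. Let (A_i) be a directed system of
finitely generated commutative k-algebras, indexed by a nonempty directed preorder, with compatible
k-algebra transition maps, and let B be a finitely generated k-algebra with compatible k-algebra
maps A_i → B which present B as the direct limit of the system (every element of B is the image of
an element of some A_i, and two elements of some A_i with the same image in B have the same image in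
some A_j). Then the p-typical Witt vectors commute with this direct limit: every Witt vector over B
is the image of a Witt vector over some A_i, and two Witt vectors over some A_i with the same image
over B already have the same image over some A_j. (Both finiteness hypotheses matter: for an
arbitrary filtered direct limit of commutative rings either assertion can fail.) -/
theorem result
    (p : ℕ) [Fact p.Prime] (k : Type u) [Field k] [CharP k p] [PerfectRing k p]
    {ι : Type v} [Preorder ι] [IsDirected ι (· ≤ ·)] [Nonempty ι]
    (A : ι → Type w) [∀ i, CommRing (A i)] [∀ i, Algebra k (A i)]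
    [∀ i, Algebra.FiniteType k (A i)]
    (f : ∀ i j, i ≤ j → (A i →ₐ[k] A j))
    (hf : ∀ i j l (hij : i ≤ j) (hjl : j ≤ l) (x : A i),
      f j l hjl (f i j hij x) = f i l (hij.trans hjl) x)
    (B : Type x) [CommRing B] [Algebra k B] [Algebra.FiniteType k B]
    (g : ∀ i, A i →ₐ[k] B)
    (hfg : ∀ i j (hij : i ≤ j) (x : A i), g j (f i j hij x) = g i x)
    (hsurj : ∀ b : B, ∃ i, ∃ x : A i, g i x = b)
    (hinj : ∀ i (x y : A i), g i x = g i y → ∃ j, ∃ hij : i ≤ j, f i j hij x = f i j hij y) :
    (∀ w : WittVector p B, ∃ i, ∃ v : WittVector p (A i),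
        WittVector.map (g i).toRingHom v = w) ∧
    (∀ i (v v' : WittVector p (A i)),
        WittVector.map (g i).toRingHom v = WittVector.map (g i).toRingHom v' →
        ∃ j, ∃ hij : i ≤ j,
          WittVector.map (f i j hij).toRingHom v = WittVector.map (f i j hij).toRingHom v') := by
  classical
  have up : ∀ T : Finset ι, ∃ j, ∀ i ∈ T, i ≤ j := fun T => Directed.finset_le (f := id) directed_id T |>.imp fun j h i hi => h i hi
  refine ⟨fun w => ?_, fun i v v' h => ?_⟩
  · obtain ⟨S, hS⟩ := (Algebra.FiniteType.out : (⊤ : Subalgebra k B).FG)
    choose idx a ha using hsurj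
    obtain ⟨j, hj⟩ := up (S.image idx)
    have hle : (⊤ : Subalgebra k B) ≤ (g j).range := hS ▸ Algebra.adjoin_le fun b hb =>
      ⟨f _ _ (hj _ (Finset.mem_image_of_mem _ hb)) (a b), (hfg _ _ _ _).trans (ha b)⟩
    refine ⟨j, WittVector.map_surjective _ (fun b => hle (Algebra.mem_top : b ∈ (⊤ : Subalgebra k B))) w⟩
  · haveI : IsNoetherianRing (A i) := Algebra.FiniteType.isNoetherianRing k (A i)
    obtain ⟨G, hG⟩ := IsNoetherian.noetherian (RingHom.ker (g i))
    have hd : ∀ x : G, ∃ j, ∃ hij : i ≤ j, f i j hij x.1 = 0 := fun x => by
      have hx : x.1 ∈ RingHom.ker (g i) := hG ▸ Submodule.subset_span x.2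
      obtain ⟨j, hij, he⟩ := hinj i x.1 0 (by rw [map_zero]; exact hx)
      exact ⟨j, hij, he.trans (map_zero _)⟩
    choose jx hjx hx0 using hd
    obtain ⟨j, hj⟩ := up (insert i (Finset.univ.image jx))
    have hij := hj i (Finset.mem_insert_self _ _)
    have hker : RingHom.ker (g i) ≤ RingHom.ker (f i j hij) := hG ▸ Submodule.span_le.2 fun x hx => by
      have hle := hj (jx ⟨x, hx⟩) (Finset.mem_insert_of_mem (Finset.mem_image_of_mem _ (Finset.mem_univ _)))
      simp only [SetLike.mem_coe, RingHom.mem_ker]
      rw [← hf i (jx ⟨x, hx⟩) j (hjx _) hle x, hx0, map_zero]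
    refine ⟨j, hij, WittVector.ext fun n => ?_⟩
    simp only [WittVector.map_coeff]
    have hn := congrArg (fun z => WittVector.coeff z n) h
    simp only [WittVector.map_coeff] at hn
    have : v.coeff n - v'.coeff n ∈ RingHom.ker (g i) := by
      rw [RingHom.mem_ker, map_sub]
      exact sub_eq_zero.2 hn
    exact sub_eq_zero.1 (by rw [← map_sub]; exact hker this)

end Groth.Agent.S19035
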