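import Groth.Statements.S19036
import Mathlib.AlgebraicGeometry.ValuativeCriterion
import Mathlib.AlgebraicGeometry.Morphisms.FiniteType
import Mathlib.AlgebraicGeometry.Morphisms.FinitePresentation
import Mathlib.Topology.Compactness.Compact

set_option autoImplicit false
universe u
open Instab

open CategoryTheory Limits AlgebraicGeometry
set_option backward.isDefEq.respectTransparency false
namespace Groth.Agent.S19036

open CategoryTheory AlgebraicGeometry in
/-- Let f : X → Y be a morphism of schemes which is locally of finite presentation, and for which the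
valuative criterion holds (every valuative square over a valuation ring has exactly one lift). When
X has only finitely many irreducible components, the morphism f is quasi-compact. (The source states
this for algebraic spaces and adds that f is then proper; universal closedness follows from
quasi-compactness and the existence part by the standard criterion, and separatedness from the
uniqueness part once f is quasi-separated. Only the scheme case and the quasi-compactness conclusion
are stated here.) -/
theorem result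
    {X Y : Scheme.{u}} (f : X ⟶ Y) [LocallyOfFinitePresentation f]
    (hf : ValuativeCriterion f) (hX : (irreducibleComponents ↥X).Finite) :
    QuasiCompact f := by
  rw [quasiCompact_iff_forall_isAffineOpen]
  intro V hV
  have key : ∀ ξ : X, f ξ ∈ V → IsCompact (closure {ξ} ∩ (f ⁻¹ᵁ V : Set X)) := by
    intro ξ hξ
    classical
    let K := X.residueField ξ
    let j : Spec K ⟶ X := X.fromSpecResidueField ξ
    let φc : Γ(Y, V) ⟶ K := Y.presheaf.germ V (f ξ) hξ ≫ f.stalkMap ξ ≫ X.residue ξ
    have hj : j ≫ f = Spec.map φc ≫ hV.fromSpec := by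
      simp only [j, φc, Scheme.fromSpecResidueField, Category.assoc, Spec.map_comp,
        ← Scheme.SpecMap_stalkMap_fromSpecStalk]
      rw [← hV.fromSpecStalk_eq_fromSpecStalk hξ]
      rfl
    have hsq : ∀ (A : ValuationSubring K) (hA : ∀ r, φc.hom r ∈ A),
        j ≫ f = Spec.map (CommRingCat.ofHom (algebraMap A K)) ≫
          Spec.map (CommRingCat.ofHom (φc.hom.codRestrict A.toSubring hA)) ≫ hV.fromSpec := by
      intro A hA
      rw [hj, ← Category.assoc, ← Spec.map_comp]
      rfl
    let S : (A : ValuationSubring K) → (∀ r, φc.hom r ∈ A) → ValuativeCommSq f := fun A hA =>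
      { R := A, K := K, i₁ := j,
        i₂ := Spec.map (CommRingCat.ofHom (φc.hom.codRestrict A.toSubring hA)) ≫ hV.fromSpec,
        commSq := ⟨hsq A hA⟩ }
    let l : (A : ValuationSubring K) → (hA : ∀ r, φc.hom r ∈ A) → (Spec (.of A) ⟶ X) := fun A hA =>
      ((hf (S A hA)).some.default).l
    have hl : ∀ (A : ValuationSubring K) (hA : ∀ r, φc.hom r ∈ A), Spec.map (CommRingCat.ofHom (algebraMap A K)) ≫ l A hA = j ∧
        l A hA ≫ f = Spec.map (CommRingCat.ofHom (φc.hom.codRestrict A.toSubring hA)) ≫ hV.fromSpec :=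
      fun A hA => ⟨((hf (S A hA)).some.default).fac_left, ((hf (S A hA)).some.default).fac_right⟩
    have huniq : ∀ (A : ValuationSubring K) (hA : ∀ r, φc.hom r ∈ A) (m : Spec (.of A) ⟶ X),
        Spec.map (CommRingCat.ofHom (algebraMap A K)) ≫ m = j →
        m ≫ f = Spec.map (CommRingCat.ofHom (φc.hom.codRestrict A.toSubring hA)) ≫ hV.fromSpec →
        m = l A hA := fun A hA m h1 h2 =>
      congrArg CommSq.LiftStruct.l ((hf (S A hA)).some.uniq ⟨m, h1, h2⟩)
    let c : (A : ValuationSubring K) → (hA : ∀ r, φc.hom r ∈ A) → X := fun A hA =>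
      l A hA (IsLocalRing.closedPoint A)
    have hc : ∀ (A : ValuationSubring K) (hA : ∀ r, φc.hom r ∈ A), ξ ⤳ c A hA ∧ f (c A hA) ∈ V := by
      intro A hA
      refine ⟨?_, ?_⟩
      · rw [← Scheme.fromSpecResidueField_apply ξ (IsLocalRing.closedPoint K)]
        show j (IsLocalRing.closedPoint K) ⤳ _
        rw [← (hl A hA).1]
        exact (IsLocalRing.specializes_closedPoint (R := A) _).map (l A hA).continuous
      · show (l A hA ≫ f) (IsLocalRing.closedPoint A) ∈ V
        rw [(hl A hA).2, ← SetLike.mem_coe, ← hV.range_fromSpec]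
        exact ⟨_, rfl⟩
    have hcont : ∀ (A : ValuationSubring K) (hA : ∀ r, φc.hom r ∈ A) (W : X.Opens), c A hA ∈ W → ∃ T : Finset K, (∀ t ∈ T, t ∈ A) ∧
        ∀ (B : ValuationSubring K) (hB : ∀ r, φc.hom r ∈ B), (∀ t ∈ T, t ∈ B) → c B hB ∈ W := by
      intro A hA W hW
      obtain ⟨U, hU, hxU, hUW⟩ := exists_isAffineOpen_mem_and_subset (U := W ⊓ f ⁻¹ᵁ V) (x := c A hA) ⟨hW, (hc A hA).2⟩
      have hξU : ξ ∈ U := (hc A hA).1.mem_open U.2 hxU
      have e : U ≤ f ⁻¹ᵁ V := fun z hz => (hUW hz).2
      let ψc : Γ(X, U) ⟶ K := X.presheaf.germ U ξ hξU ≫ X.residue ξ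
      have hψj : Spec.map ψc ≫ hU.fromSpec = j := by
        simp only [ψc, j, Scheme.fromSpecResidueField, Spec.map_comp, Category.assoc]
        rw [← hU.fromSpecStalk_eq_fromSpecStalk hξU]
        rfl
      have hψφ : f.appLE V U e ≫ ψc = φc := by
        simp only [ψc, φc, Scheme.Hom.appLE, Category.assoc, TopCat.Presheaf.germ_res_assoc,
          Scheme.Hom.germ_stalkMap_assoc]
      have hft : (f.appLE V U e).hom.FiniteType :=
        HasRingHomProperty.appLE (P := @LocallyOfFiniteType) f inferInstance ⟨V, hV⟩ ⟨U, hU⟩ e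
      obtain ⟨t, ht⟩ := (hft : @Algebra.FiniteType _ _ _ _ (f.appLE V U e).hom.toAlgebra).out
      have hsub : Set.range (l A hA) ⊆ Set.range hU.fromSpec := by
        rw [hU.range_fromSpec]
        rintro _ ⟨z, rfl⟩
        exact ((IsLocalRing.specializes_closedPoint (R := A) z).map (l A hA).continuous).mem_open U.2 hxU
      let m := IsOpenImmersion.lift hU.fromSpec (l A hA) hsub
      have hμ : Spec.preimage m ≫ CommRingCat.ofHom (algebraMap A K) = ψc := by
        apply Spec.map_injective
        rw [← cancel_mono hU.fromSpec, Spec.map_comp, Spec.map_preimage, Category.assoc,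
          IsOpenImmersion.lift_fac, (hl A hA).1, hψj]
      refine ⟨t.image ψc.hom, fun z hz => ?_, fun B hB hT => ?_⟩
      · obtain ⟨b, -, rfl⟩ := Finset.mem_image.1 hz
        rw [← hμ]
        exact ((Spec.preimage m).hom b : A).2
      · have hBψ : ∀ b, ψc.hom b ∈ B.toSubring := by
          intro b
          letI := (f.appLE V U e).hom.toAlgebra
          have hb : b ∈ Algebra.adjoin Γ(Y, V) (t : Set Γ(X, U)) := ht ▸ Algebra.mem_top
          induction hb using Algebra.adjoin_induction with
          | mem x hx => exact hT _ (Finset.mem_image_of_mem _ hx)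
          | algebraMap r =>
            have : ψc.hom (algebraMap Γ(Y, V) Γ(X, U) r) = φc.hom r := congr($(hψφ).hom r)
            rw [this]; exact hB r
          | add x y _ _ hx hy => rw [map_add]; exact add_mem hx hy
          | mul x y _ _ hx hy => rw [map_mul]; exact mul_mem hx hy
        let m' : Spec (.of B) ⟶ X := Spec.map (CommRingCat.ofHom (ψc.hom.codRestrict B.toSubring hBψ)) ≫ hU.fromSpec
        have hm' : m' = l B hB := by
          refine huniq B hB m' ?_ ?_
          · rw [← hψj, ← Category.assoc, ← Spec.map_comp]; rfl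
          · rw [Category.assoc, ← hV.SpecMap_appLE_fromSpec f hU e, ← Category.assoc, ← Spec.map_comp]
            congr 2
            refine CommRingCat.hom_ext (RingHom.ext fun r => Subtype.ext ?_)
            exact RingHom.congr_fun (congrArg CommRingCat.Hom.hom hψφ) r
        apply (hUW _).1
        show l B hB (IsLocalRing.closedPoint B) ∈ U
        rw [← hm', ← SetLike.mem_coe, ← hU.range_fromSpec]
        exact ⟨_, rfl⟩
    have hsurj : ∀ x : X, ξ ⤳ x → f x ∈ V → ∃ (A : ValuationSubring K) (hA : ∀ r, φc.hom r ∈ A), c A hA = x := by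
      intro x hx hxV
      let χ : X.presheaf.stalk x ⟶ K := X.presheaf.stalkSpecializes hx ≫ X.residue ξ
      obtain ⟨A, hχA, hloc⟩ := IsLocalRing.exists_factor_valuationRing χ.hom
      have e1 : Y.presheaf.germ V (f x) hxV ≫ f.stalkMap x ≫ χ = φc := by
        simp only [χ, φc, Scheme.Hom.germ_stalkMap_assoc, TopCat.Presheaf.germ_stalkSpecializes_assoc]
      have hA : ∀ r, φc.hom r ∈ A := fun r => by rw [← e1]; exact hχA _
      let a : X.presheaf.stalk x ⟶ CommRingCat.of A := CommRingCat.ofHom (χ.hom.codRestrict A.toSubring hχA)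
      have hm : Spec.map a ≫ X.fromSpecStalk x = l A hA := by
        refine huniq A hA _ ?_ ?_
        · rw [← Category.assoc, ← Spec.map_comp]
          show Spec.map χ ≫ _ = _
          simp only [χ, j, Scheme.fromSpecResidueField, Spec.map_comp, Category.assoc,
            Scheme.SpecMap_stalkSpecializes_fromSpecStalk]
        · rw [Category.assoc, ← Scheme.SpecMap_stalkMap_fromSpecStalk, ← hV.fromSpecStalk_eq_fromSpecStalk hxV]
          show Spec.map a ≫ Spec.map (f.stalkMap x) ≫ Spec.map (Y.presheaf.germ V (f x) hxV) ≫ hV.fromSpec = _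
          rw [← Category.assoc, ← Spec.map_comp, ← Category.assoc, ← Spec.map_comp]
          congr 2
          refine CommRingCat.hom_ext (RingHom.ext fun r => Subtype.ext ?_)
          exact RingHom.congr_fun (congrArg CommRingCat.Hom.hom e1) r
      refine ⟨A, hA, ?_⟩
      show l A hA (IsLocalRing.closedPoint A) = x
      rw [← hm, Scheme.Hom.comp_apply]
      have : Spec.map a (IsLocalRing.closedPoint A) = IsLocalRing.closedPoint (X.presheaf.stalk x) :=
        IsLocalRing.comap_closedPoint (S := A) (χ.hom.codRestrict A.toSubring hχA)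
      rw [this, X.fromSpecStalk_closedPoint]
    let C : Set (↑K → Bool) := {s | ∀ p : ↑K × ↑K × Γ(Y, V), s (φc.hom p.2.2) = true ∧
      (s p.1 = true → s p.2.1 = true → s (p.1 + p.2.1) = true) ∧
      (s p.1 = true → s p.2.1 = true → s (p.1 * p.2.1) = true) ∧
      (s p.1 = true → s (-p.1) = true) ∧ (s p.1 = true ∨ s p.1⁻¹ = true)}
    have hC : IsCompact C := by
      refine IsClosed.isCompact ?_
      simp only [C, Set.setOf_forall]
      refine isClosed_iInter fun p => ?_
      exact (isClosed_discrete {q : Bool × Bool × Bool × Bool × Bool × Bool × Bool | q.1 = true ∧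
        (q.2.1 = true → q.2.2.1 = true → q.2.2.2.1 = true) ∧
        (q.2.1 = true → q.2.2.1 = true → q.2.2.2.2.1 = true) ∧
        (q.2.1 = true → q.2.2.2.2.2.1 = true) ∧ (q.2.1 = true ∨ q.2.2.2.2.2.2 = true)}).preimage
        (f := fun s : ↑K → Bool => (s (φc.hom p.2.2), s p.1, s p.2.1, s (p.1 + p.2.1), s (p.1 * p.2.1), s (-p.1), s p.1⁻¹))
        (by fun_prop)
    let toV : C → ValuationSubring K := fun s =>
      { carrier := {a | s.1 a = true}
        one_mem' := by
          rcases (s.2 (1, 1, 0)).2.2.2.2 with h | h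
          · exact h
          · simpa using h
        zero_mem' := by
          rcases (s.2 (0, 0, 0)).2.2.2.2 with h | h
          · exact h
          · simpa using h
        add_mem' := fun {a b} ha hb => (s.2 (a, b, 0)).2.1 ha hb
        mul_mem' := fun {a b} ha hb => (s.2 (a, b, 0)).2.2.1 ha hb
        neg_mem' := fun {a} ha => (s.2 (a, a, 0)).2.2.2.1 ha
        mem_or_inv_mem' := fun a => (s.2 (a, a, 0)).2.2.2.2 }
    have htoV : ∀ s r, φc.hom r ∈ toV s := fun s r => (s.2 (0, 0, r)).1
    let g : C → X := fun s => c (toV s) (htoV s)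
    have hg : Continuous g := by
      refine continuous_def.2 fun W hW => isOpen_iff_mem_nhds.2 fun s hs => ?_
      obtain ⟨T, hTA, hT⟩ := hcont (toV s) (htoV s) ⟨W, hW⟩ hs
      refine Filter.mem_of_superset ?_ (fun s' (hs' : ∀ t ∈ T, s'.1 t = true) => hT (toV s') (htoV s') hs')
      refine IsOpen.mem_nhds ?_ hTA
      show IsOpen {s' : C | ∀ t ∈ T, s'.1 t = true}
      rw [show {s' : C | ∀ t ∈ T, s'.1 t = true} = ⋂ t ∈ T, (fun s' : C => s'.1 t) ⁻¹' {true} by ext; simp]
      exact isOpen_biInter_finset fun t _ => (isOpen_discrete _).preimage ((continuous_apply t).comp continuous_subtype_val)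
    have hrange : closure {ξ} ∩ (f ⁻¹ᵁ V : Set X) = Set.range g := by
      refine Set.Subset.antisymm (fun x hx => ?_) ?_
      · obtain ⟨A, hA, rfl⟩ := hsurj x (specializes_iff_mem_closure.2 hx.1) hx.2
        let s : C := ⟨fun a => decide (a ∈ A), fun p => by
          refine ⟨by simpa using hA _, ?_, ?_, ?_, ?_⟩
          · simpa using fun h1 h2 => add_mem h1 h2
          · simpa using fun h1 h2 => mul_mem h1 h2
          · simpa using fun h1 => neg_mem h1
          · simpa using A.mem_or_inv_mem p.1⟩
        refine ⟨s, ?_⟩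
        have hs : toV s = A := by
          ext a; show decide (a ∈ A) = true ↔ _; simp
        show c (toV s) (htoV s) = c A hA
        congr 1
      · rintro _ ⟨s, rfl⟩
        exact ⟨specializes_iff_mem_closure.1 (hc _ _).1, (hc _ _).2⟩
    rw [hrange]
    haveI : CompactSpace C := isCompact_iff_compactSpace.1 hC
    exact isCompact_range hg
  have hcover : (f ⁻¹ᵁ V : Set X) = ⋃ Z ∈ irreducibleComponents ↥X, Z ∩ (f ⁻¹ᵁ V : Set X) := by
    rw [← Set.iUnion₂_inter, ← Set.sUnion_eq_biUnion, sUnion_irreducibleComponents, Set.univ_inter]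
  show IsCompact (f ⁻¹ᵁ V : Set X)
  rw [hcover]
  refine hX.isCompact_biUnion fun Z hZ => ?_
  obtain ⟨ξ, hξ⟩ := QuasiSober.sober (IsIrreducible.closure hZ.1) isClosed_closure
  have hZc : closure Z = Z := (isClosed_of_mem_irreducibleComponents Z hZ).closure_eq
  have hξZ : closure {ξ} = Z := hξ.trans hZc
  by_cases h : f ξ ∈ V
  · rw [← hξZ]; exact key ξ h
  · convert isCompact_empty
    rw [Set.eq_empty_iff_forall_notMem]
    rintro x ⟨hxZ, hxV⟩
    rw [← hξZ] at hxZ
    exact h ((specializes_iff_mem_closure.2 hxZ).mem_open (f ⁻¹ᵁ V).isOpen hxV)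

end Groth.Agent.S19036
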