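import Groth.Statements.S19037
import Mathlib

set_option autoImplicit false
universe u v
open scoped Polynomial LaurentPolynomial
open Instab

namespace Groth.Agent.S19037

/-- Affine form over a ring R. Let A be a commutative ℤ-graded R-algebra and t an element of degree −1
(so A is a graded algebra over R[t] with t in degree −1), and let ψ : A[1/t] → R[T, T⁻¹] be an
R-algebra map sending t to T which is graded, in the sense that each homogeneous element of degree n
of A goes to an element of R times T^(−n). Then ψ is obtained by inverting t from an R-algebra map χ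
: A → R[T] (compared through the inclusion of R[T] in R[T, T⁻¹]) if and only if ψ kills t·a for
every homogeneous a of degree 1; such a χ is unique. (The source states this for quasi-coherent
graded algebras over an arbitrary base scheme; the statement is local on the base and is given here
over an affine base.) -/
theorem result
    {R : Type u} {A : Type v} [CommRing R] [CommRing A] [Algebra R A]
    (𝒜 : ℤ → Submodule R A) [GradedAlgebra 𝒜] (t : A) (ht : t ∈ 𝒜 (-1))
    (ψ : Localization.Away t →ₐ[R] R[T;T⁻¹])
    (hψt : ψ (algebraMap A (Localization.Away t) t) = LaurentPolynomial.T 1)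
    (hψ : ∀ (n : ℤ) (a : A), a ∈ 𝒜 n →
      ∃ r : R, ψ (algebraMap A (Localization.Away t) a) = LaurentPolynomial.C r * LaurentPolynomial.T (-n)) :
    (∃! χ : A →ₐ[R] R[X], ∀ a : A,
        ψ (algebraMap A (Localization.Away t) a) = Polynomial.toLaurentAlg (χ a)) ↔
      ∀ a ∈ 𝒜 1, ψ (algebraMap A (Localization.Away t) (t * a)) = 0 := by
  classical
  set φ : A →ₐ[R] R[T;T⁻¹] := ψ.comp (IsScalarTower.toAlgHom R A (Localization.Away t)) with hφdef
  have hφ : ∀ a, φ a = ψ (algebraMap A (Localization.Away t) a) := fun a => rfl
  have hinj : Function.Injective (Polynomial.toLaurentAlg : R[X] →ₐ[R] R[T;T⁻¹]) := Polynomial.toLaurent_injective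
  constructor
  · rintro ⟨χ, hχ, -⟩ a ha
    obtain ⟨r, hr⟩ := hψ 1 a ha
    have h1 : Polynomial.toLaurent (χ a * Polynomial.X) = Polynomial.toLaurent (Polynomial.C r) := by
      rw [map_mul, Polynomial.toLaurent_X, Polynomial.toLaurent_C, ← Polynomial.toLaurentAlg_apply, ← hχ a, hr,
        LaurentPolynomial.mul_T_assoc, show (-(1 : ℤ) + 1) = 0 from rfl, LaurentPolynomial.T_zero, mul_one]
    have h2 := congrArg (fun q => Polynomial.coeff q 0) (Polynomial.toLaurent_injective h1)
    simp only [Polynomial.mul_coeff_zero, Polynomial.coeff_X_zero, mul_zero, Polynomial.coeff_C_zero] at h2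
    rw [map_mul, map_mul, hr, ← h2, map_zero, zero_mul, mul_zero]
  · intro h
    have hpos : ∀ n : ℕ, ∀ a ∈ 𝒜 ((n : ℤ) + 1), φ a = 0 := by
      intro n
      induction n with
      | zero =>
        intro a ha
        have h1 : φ (t * a) = 0 := h a (by simpa using ha)
        rw [map_mul, hφ t, hψt] at h1
        have h3 := congrArg (LaurentPolynomial.T (-1) * ·) h1
        simpa [← mul_assoc, ← LaurentPolynomial.T_add] using h3
      | succ n ih =>
        intro a ha
        have hta : t * a ∈ 𝒜 ((n : ℤ) + 1) := by
          have := SetLike.mul_mem_graded ht ha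
          convert this using 2
          push_cast
          ring
        have h1 := ih _ hta
        rw [map_mul, hφ t, hψt] at h1
        have h3 := congrArg (LaurentPolynomial.T (-1) * ·) h1
        simpa [← mul_assoc, ← LaurentPolynomial.T_add] using h3
    have hrange : ∀ a, φ a ∈ (Polynomial.toLaurentAlg : R[X] →ₐ[R] R[T;T⁻¹]).range := by
      intro a
      rw [← DirectSum.sum_support_decompose 𝒜 a, map_sum]
      refine Subalgebra.sum_mem _ fun i _ => ?_
      rcases le_or_gt i 0 with hi | hi
      · obtain ⟨r, hr⟩ := hψ i _ (DirectSum.decompose 𝒜 a i).2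
        refine ⟨Polynomial.C r * Polynomial.X ^ (-i).toNat, ?_⟩
        show Polynomial.toLaurent _ = _
        rw [hφ, hr, map_mul, Polynomial.toLaurent_C, Polynomial.toLaurent_X_pow,
          Int.toNat_of_nonneg (by omega)]
      · rw [hpos (i - 1).toNat _ (by
          rw [show (((i - 1).toNat : ℕ) : ℤ) + 1 = i by omega]; exact (DirectSum.decompose 𝒜 a i).2)]
        exact Subalgebra.zero_mem _
    let e := AlgEquiv.ofInjective (Polynomial.toLaurentAlg : R[X] →ₐ[R] R[T;T⁻¹]) hinj
    refine ⟨e.symm.toAlgHom.comp (φ.codRestrict _ hrange), fun a => ?_, fun χ hχ => ?_⟩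
    · exact (congrArg Subtype.val (e.apply_symm_apply ⟨φ a, hrange a⟩)).symm
    · refine AlgHom.ext fun a => hinj ?_
      rw [← hχ a]
      exact (congrArg Subtype.val (e.apply_symm_apply ⟨φ a, hrange a⟩)).symm

end Groth.Agent.S19037
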