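import Groth.Statements.S1904
import Groth.Agent.P1Div.Graph
import Groth.Agent.P1Div.Delta
import Groth.Agent.S2266

set_option autoImplicit false
universe u
open CategoryTheory AlgebraicGeometry
open CategoryTheory.Limits
open Cyc

namespace Groth.Agent.S1904

open Groth.Agent
open CategoryTheory.Limits
open ProjMor (pz)

theorem chartMap_comp {B B' : Type u} [CommRing B] [CommRing B'] (φ : B →+* B') (c : B) :
    φ.comp (P1.chartMap.{u} 0 B c) = P1.chartMap.{u} 0 B' (φ c) := by
  unfold P1.chartMap
  rw [← RingHom.comp_assoc]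
  congr 1
  refine IsLocalization.ringHom_ext (Submonoid.powers (P1.T.{u} 0)) ?_
  rw [RingHom.comp_assoc]
  simp only [IsLocalization.Away.lift_comp]
  refine MvPolynomial.ringHom_ext (fun a => ?_) (fun j => ?_)
  · simp
  · fin_cases j <;> simp [Function.update]

theorem eval_ι {X : Scheme.{u}} (U : X.Opens) (t : (↑U : Scheme.{u})) (f : Γ(X, U)) :
    (U.ι.residueFieldMap t).hom (X.evaluation U (U.ι t) t.2 f) =
      (↑U : Scheme.{u}).evaluation ⊤ t trivial (U.topIso.inv f) := by
  refine (Scheme.evaluation_naturality_apply U.ι t t.2 f).trans ?_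
  have e : (↑U : Scheme.{u}).presheaf.map (homOfLE (le_top : U.ι ⁻¹ᵁ U ≤ ⊤)).op (U.topIso.inv f) = U.ι.app U f := by
    simp [Scheme.Opens.topIso]
    show (X.presheaf.map _ ≫ X.presheaf.map _) f = _
    erw [← Functor.map_comp]
    rfl
  rw [← e]
  exact congrArg ((↑U : Scheme.{u}).residue t).hom
    (TopCat.Presheaf.germ_res_apply (↑U : Scheme.{u}).presheaf (homOfLE (le_top : U.ι ⁻¹ᵁ U ≤ ⊤)) t t.2 (U.topIso.inv f))

theorem divFun_congr {X : Scheme.{u}} (δ : X → ℤ) {y y' : X} (e : y = y') (r : X.residueField y) (r' : X.residueField y')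
    (h : HEq r r') (x : X) : Cyc.divFun δ y r x = Cyc.divFun δ y' r' x := by
  subst e
  rw [eq_of_heq h]

theorem exists_r {X P : Scheme.{u}} (U : X.Opens) {y : X} (hy : y ∈ U) (f : Γ(X, U)) (g : (↑U : Scheme.{u}) ⟶ P)
    (π : P ⟶ X) (hgπ : g ≫ π = U.ι) :
    ∃ r : X.residueField (π (g ⟨y, hy⟩)), ((g ≫ π).residueFieldMap ⟨y, hy⟩).hom r =
      (↑U : Scheme.{u}).evaluation ⊤ ⟨y, hy⟩ trivial (U.topIso.inv f) ∧ HEq r (X.evaluation U y hy f) := by
  have H : ∀ (j : (↑U : Scheme.{u}) ⟶ X) (_ : j = U.ι), ∃ r : X.residueField (j ⟨y, hy⟩),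
      (j.residueFieldMap ⟨y, hy⟩).hom r = (↑U : Scheme.{u}).evaluation ⊤ ⟨y, hy⟩ trivial (U.topIso.inv f) ∧
        HEq r (X.evaluation U y hy f) := by
    rintro j rfl
    exact ⟨_, eval_ι U ⟨y, hy⟩ f, HEq.rfl⟩
  obtain ⟨r, h1, h2⟩ := H _ hgπ
  refine ⟨r, ?_, ?_⟩
  · exact h1
  · exact h2


/-- Let X be integral with δ(η) = n, U ⊆ X a nonempty open and f an invertible function on U, viewed as
a rational function on X. Let Y ⊆ P^1_X be the scheme-theoretic closure of the graph of f and Y_0,
Y_∞ → X its pullbacks along the sections at 0 and ∞. Then div_X(f) = [Y_0]_{n−1} − [Y_∞]_{n−1}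
coefficientwise. A pair (X, δ) with Cyc.IsSetup plays the role of a scheme locally of finite type
over a fixed base with a dimension function (X locally Noetherian with universally catenary local
rings, δ a dimension function), and Cyc.DeltaCompat records that the dimension function upstairs is
the induced one. The published statement has further parts, which are not stated here. -/
theorem result (X : Scheme.{u}) [IsIntegral X] (δ : X → ℤ) (hX : Cyc.IsSetup X δ) (n : ℤ) (hn : δ (genericPoint X) = n) (U : X.Opens) (hη : genericPoint X ∈ U) (f : Γ(X, U)) (hf : IsUnit f) : Cyc.divFun δ (genericPoint X) (X.evaluation U (genericPoint X) hη f) = fun x => Cyc.subschemeFun δ (n - 1) (pullback.snd (P1.graphClosureι X U f) (P1.sect X 0)) x - Cyc.subschemeFun δ (n - 1) (pullback.snd (P1.graphClosureι X U f) (P1.sect X 1)) x := by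
  classical
  haveI := hX.1
  haveI := Groth.Agent.P1Div.isLocallyNoetherian_over (X := X)
  let π := CohB1.ProjSpaceOver.toBase 1 X
  obtain ⟨δP, hP⟩ : ∃ δP, Cyc.DeltaCompat π δP δ := P1Div.exists_deltaCompat π δ
  have hD := Groth.Agent.P1Div.isDimFun_over hX hP
  let g : (↑U : Scheme.{u}) ⟶ CohB1.ProjSpaceOver 1 X := P1.graph X U f
  let b : Γ((↑U : Scheme.{u}), ⊤) := U.topIso.inv f
  have hcoord : P1Div.HasCoord g b := by
    show P1.graph X U f ≫ pullback.fst _ _ = _
    rw [P1.graph]
    erw [pullback.lift_fst]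
    rw [Scheme.Opens.toSpecΓ, Category.assoc, ← Spec.map_comp_assoc]
    congr 3
    exact CommRingCat.hom_ext (chartMap_comp U.topIso.inv.hom f)
  have hgπ : g ≫ π = U.ι := pullback.lift_snd _ _ _
  haveI : IsPreimmersion (g ≫ π) := by rw [hgπ]; infer_instance
  haveI : Nonempty (↑U : Scheme.{u}) := ⟨⟨genericPoint X, hη⟩⟩
  haveI : IsIntegral (↑U : Scheme.{u}) := isIntegral_of_isOpenImmersion U.ι
  let t : (↑U : Scheme.{u}) := ⟨genericPoint X, hη⟩
  have hbu : IsUnit b := hf.map _
  have hb : IsUnit ((↑U : Scheme.{u}).presheaf.germ ⊤ t trivial b) := hbu.map _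
  let W := (P1.graph X U f).ker.subscheme
  haveI : QuasiCompact (g ≫ π) := by
    rw [hgπ]; infer_instance
  haveI : QuasiCompact g := QuasiCompact.of_comp g π
  haveI : IsReduced W := (S2266.result g).1
  haveI : IrreducibleSpace W := (S2266.result g).2 inferInstance inferInstance
  haveI : IsIntegral W := isIntegral_of_irreducibleSpace_of_isReduced _
  haveI : IsClosedImmersion (P1.graphClosureι X U f) :=
    inferInstanceAs (IsClosedImmersion (P1.graph X U f).ker.subschemeι)
  have hι : P1.graphClosureι X U f (genericPoint W) = g t := by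
    have ht : genericPoint (↑U : Scheme.{u}) = t :=
      U.ι.isOpenEmbedding.injective (genericPoint_eq_of_isOpenImmersion U.ι)
    have hgen : genericPoint W = g.toImage (genericPoint (↑U : Scheme.{u})) := by
      refine (genericPoint_spec W).eq ?_
      have h := ((genericPoint_spec (↑U : Scheme.{u})).image g.toImage.continuous)
      rw [Set.image_univ, g.toImage.denseRange.closure_range] at h
      exact h
    rw [hgen, ht]
    exact congrArg (fun m => m t) (g.toImage_imageι)
  obtain ⟨r, hr1, hr2⟩ := exists_r U hη f g π hgπ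
  have hπt : π (g t) = genericPoint X := by
    rw [← Scheme.Hom.comp_apply, hgπ]; rfl
  funext x
  rw [← divFun_congr δ hπt r _ hr2 x]
  exact hcoord.push hX.2.2 hP hD t hb (P1.graphClosureι X U f) hι r hr1
    (show δ (π (g t)) = (n - 1) + 1 by rw [hπt, hn]; ring) x

end Groth.Agent.S1904
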