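import Groth.Statements.S19040
import Groth.Agent.ProjNoether.Tower
import Groth.Agent.HQProj.Basic
import Groth.Agent.ConsEngine.Fiber
import Groth.Agent.Unibranch.FibreDims
import Groth.Agent.GeomRedAt.DimZero
import Groth.Agent.DimFormula.Scheme
import Groth.Agent.GrpField.Dimension
import Groth.Agent.PicFam.Pn
import Groth.Agent.S10829

set_option autoImplicit false
universe u
open CategoryTheory CategoryTheory.Limits AlgebraicGeometry
open Cyc

set_option backward.isDefEq.respectTransparency false
set_option backward.isDefEq.respectTransparency.types false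

namespace Groth.Agent.S19040

/-- Let X be an integral Noetherian scheme and n a natural number, let P be the n-fold fibre product
over X of copies of the projective line over X, with structure map to X, and let W be an integral
closed subscheme of P of codimension n, in the sense that the local ring of P at the generic point
of W has Krull dimension n. If the induced morphism f : W → X is dominant and flat, then f is finite
and surjective, so finite and faithfully flat. (The source works with a Noetherian separated scheme
X of finite dimension over a field k, takes W to be the closure in X ×_k (P^1_k)^n of an integral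
closed subscheme Z of codimension n of X × (P^1 minus the point 1)^n, and assumes the closure
dominant and flat over X; such a closure is an integral closed subscheme of codimension n of the
n-fold product of projective lines over X, which is the form stated here, and the field k plays no
role.) -/
theorem result
    (X : Scheme.{u}) [IsIntegral X] [IsNoetherian X] (n : ℕ)
    (W : Scheme.{u}) [IsIntegral W]
    (i : W ⟶ widePullback X (fun _ : Fin n => CohB1.ProjSpaceOver 1 X)
      (fun _ => CohB1.ProjSpaceOver.toBase 1 X))
    [IsClosedImmersion i]
    (hcodim : ringKrullDim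
      ((widePullback X (fun _ : Fin n => CohB1.ProjSpaceOver 1 X)
        (fun _ => CohB1.ProjSpaceOver.toBase 1 X)).presheaf.stalk (i.base (genericPoint W))) = n)
    (f : W ⟶ X)
    (hf : i ≫ WidePullback.base (fun _ : Fin n => CohB1.ProjSpaceOver.toBase 1 X) = f)
    [IsDominant f] [Flat f] :
    IsFinite f ∧ Surjective f := by
  obtain ⟨φ, hφfin, hφsurj, hφ⟩ := Groth.Agent.ProjNoether.exists_tower X n
  have hPX : IsProper (CohB1.ProjSpaceOver.toBase n X) := Groth.Agent.HQProj.isProper_toBase n X
  have hfac : f = i ≫ φ ≫ CohB1.ProjSpaceOver.toBase n X := by rw [hφ, hf]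
  haveI : IsProper f := by rw [hfac]; infer_instance
  haveI : LocallyOfFinitePresentation f := Groth.Agent.ConsEngine.lfp_of_lft f
  have hopen : IsOpenMap f.base := f.isOpenMap
  have hη : ∀ y : X, genericPoint X ⤳ y := fun y => genericPoint_specializes y
  have hgen : f (genericPoint W) = genericPoint X :=
    ((genericPoint_spec W).image f.continuous).eq (by rw [Set.image_univ, f.denseRange.closure_range]; exact genericPoint_spec X)
  have hsurj : Surjective f := by
    refine ⟨fun y => ?_⟩
    have hc : IsClosed (Set.range f) := f.isClosedMap.isClosed_range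
    exact (hη y).mem_closed hc ⟨genericPoint W, hgen⟩
  refine ⟨Groth.Agent.DimZero.isFinite_of_dim f fun y => ?_, hsurj⟩
  refine (Groth.Agent.Unibranch.dim_le_of_isOpenAt f (hη y)
    fun x _ U hU => hopen.image_mem_nhds hU).trans ?_
  rw [← Nat.cast_zero]
  refine (Groth.Agent.Unibranch.topologicalKrullDim_le_iff f (S := Set.univ)
    (f.fiberι (genericPoint X)).isEmbedding
    (by rw [Scheme.Hom.range_fiberι, Set.univ_inter])).mpr fun k c hc hch => ?_
  rcases k with _ | k
  · exact le_rfl
  exfalso
  -- the generic point and a strict specialisation in the generic fibre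
  set w := genericPoint W
  set z := c (Fin.last (k + 1))
  have hz : f z = genericPoint X := (hc _).2
  have hne : w ≠ z := by
    intro e
    have h1 := Groth.Agent.DimFormula.specializes_last hch (Fin.castSucc (Fin.last k))
    have h2 : w ⤳ c (Fin.castSucc (Fin.last k)) := genericPoint_specializes _
    have h3 : c (Fin.castSucc (Fin.last k)) = z :=
      (h1.antisymm (show z ⤳ _ from e ▸ h2)).eq
    exact (hch (Fin.last k)).2 (by rw [Fin.succ_last]; exact h3)
  obtain ⟨m, d, hd, hdw, hm⟩ : ∃ (m : ℕ) (d : Fin (m + 1) → _),
      Groth.Agent.Unibranch.IsChain' d ∧ d (Fin.last m) = i.base w ∧ n ≤ m := by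
    rcases n with _ | n'
    · exact ⟨0, fun _ => i.base w, fun j => j.elim0, rfl, le_rfl⟩
    · by_contra hcon
      push Not at hcon
      have h := (Groth.Agent.DimFormula.ringKrullDim_stalk_le_iff (i.base w) (k := n')).mpr
        fun m d hd hdw => Nat.lt_succ_iff.mp (hcon m d hd hdw)
      rw [hcodim] at h
      have : n' + 1 ≤ n' := by exact_mod_cast h
      omega
  let b := WidePullback.base (fun _ : Fin n => CohB1.ProjSpaceOver.toBase 1 X)
  have hb : ∀ v : W, b (i v) = f v := fun v => by
    rw [← Scheme.Hom.comp_apply, hf]
  have hchain : Groth.Agent.Unibranch.HasChain (CohB1.ProjSpaceOver.toBase n X) Set.univ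
      (genericPoint X) (m + 1) := by
    let e : Fin (m + 1 + 1) → _ := Fin.snoc d (i z)
    have he : Groth.Agent.Unibranch.IsChain' e := by
      intro j
      refine Fin.lastCases ?_ (fun j => ?_) j
      · rw [Fin.succ_last]
        simp only [e, Fin.snoc_castSucc, Fin.snoc_last, hdw]
        refine ⟨(genericPoint_specializes z).map i.continuous, fun h => hne ?_⟩
        exact i.isClosedEmbedding.injective h
      · rw [Fin.succ_castSucc]
        simp only [e, Fin.snoc_castSucc]
        exact hd j
    have hover : ∀ j, b (e j) = genericPoint X := by
      intro j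
      refine Fin.lastCases ?_ (fun j => ?_) j
      · simp only [e, Fin.snoc_last]
        rw [hb, hz]
      · simp only [e, Fin.snoc_castSucc]
        have h1 := (Groth.Agent.DimFormula.specializes_last hd j).map b.continuous
        rw [hdw, hb, hgen] at h1
        exact (h1.antisymm (hη _)).eq
    refine ⟨fun j => φ (e j), fun j => ⟨trivial, ?_⟩, fun j => ⟨(he j).1.map φ.continuous, fun h =>
      (he j).2 ?_⟩⟩
    · rw [← Scheme.Hom.comp_apply, hφ]
      exact hover j
    · exact Groth.Agent.GrpField.eq_of_specializes_of_isIntegralHom φ (he j).1 h
  obtain ⟨ε, -, -⟩ := Groth.Agent.PicFam.exists_fiber_iso n X (genericPoint X)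
  have hle := (Groth.Agent.Unibranch.natCast_le_topologicalKrullDim_iff _ (S := Set.univ)
    ((CohB1.ProjSpaceOver.toBase n X).fiberι (genericPoint X)).isEmbedding
    (by rw [Scheme.Hom.range_fiberι, Set.univ_inter])).mpr hchain
  rw [← IsHomeomorph.topologicalKrullDim_eq _ ε.schemeIsoToHomeo.isHomeomorph,
    Groth.Agent.S10829.result] at hle
  have : m + 1 ≤ n := by exact_mod_cast hle
  omega

end Groth.Agent.S19040
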