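import Groth.Statements.S19048
import Mathlib
-- import your own Groth.Agent.* helpers here

set_option autoImplicit false
universe u
open Dieu

namespace Groth.Agent.S19048

open W4c6eohyperellchar2

theorem mem_Nfil {c : ℕ} {k : Type u} [Field k] {i : ℕ} {v : GcMod c k} :
    v ∈ Nfil c k i ↔ (∀ j : Fin c, j.val + 1 ≤ 2 * c - i → v.1 j = 0) ∧
      (∀ x : Fin c, i ≤ x.val → v.2 x = 0) := by
  constructor
  · intro hv
    induction hv using Submodule.span_induction with
    | mem u hu =>
      rcases hu with ⟨n, hn, rfl⟩ | ⟨n, hn, rfl⟩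
      · refine ⟨fun j _ => rfl, fun x hx => ?_⟩
        have := hn.2
        exact if_neg (by omega)
      · refine ⟨fun j hj => ?_, fun x _ => rfl⟩
        have := hn.1
        exact if_neg (by omega)
    | zero => exact ⟨fun _ _ => rfl, fun _ _ => rfl⟩
    | add u w _ _ hu hw =>
      exact ⟨fun j hj => by simp [hu.1 j hj, hw.1 j hj], fun x hx => by simp [hu.2 x hx, hw.2 x hx]⟩
    | smul r u _ hu => exact ⟨fun j hj => by simp [hu.1 j hj], fun x hx => by simp [hu.2 x hx]⟩
  · rintro ⟨h1, h2⟩
    have hv : v = (∑ j : Fin c, v.1 j • X c k (j.val + 1)) + ∑ x : Fin c, v.2 x • Y c k (x.val + 1) := by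
      ext s <;>
      simp [Prod.fst_sum, Prod.snd_sum, X, Y, Fin.val_inj, Finset.sum_apply]
    rw [hv]
    refine add_mem (Submodule.sum_mem _ fun j _ => ?_) (Submodule.sum_mem _ fun x _ => ?_)
    · by_cases hj : j.val + 1 ≤ 2 * c - i
      · rw [h1 j hj, zero_smul]; exact zero_mem _
      · exact Submodule.smul_mem _ _ (Submodule.subset_span (Or.inr ⟨j.val + 1, ⟨by omega, by omega⟩, rfl⟩))
    · by_cases hx : i ≤ x.val
      · rw [h2 x hx, zero_smul]; exact zero_mem _
      · exact Submodule.smul_mem _ _ (Submodule.subset_span (Or.inl ⟨x.val + 1, ⟨by omega, by omega⟩, rfl⟩))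

theorem finrank_Nfil (c : ℕ) (k : Type u) [Field k] (i : ℕ) (hi : i ≤ 2 * c) :
    Module.finrank k (Nfil c k i) = i := by
  classical
  let f : Fin i → GcMod c k := fun t => if t.val < c then Y c k (t.val + 1) else X c k (2 * c - t.val)
  have hrange : (fun n => Y c k n) '' Set.Icc 1 (min i c) ∪ (fun n => X c k n) '' Set.Ioc (2 * c - i) c = Set.range f := by
    ext u
    constructor
    · rintro (⟨n, ⟨hn1, hn2⟩, rfl⟩ | ⟨n, ⟨hn1, hn2⟩, rfl⟩)
      · refine ⟨⟨n - 1, by omega⟩, ?_⟩
        simp only [f]
        rw [if_pos (by omega), Nat.sub_add_cancel hn1]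
      · refine ⟨⟨2 * c - n, by omega⟩, ?_⟩
        simp only [f]
        rw [if_neg (by omega), Nat.sub_sub_self (by omega)]
    · rintro ⟨⟨t, ht⟩, rfl⟩
      simp only [f]
      split
      next h => exact Or.inl ⟨t + 1, ⟨by omega, by omega⟩, rfl⟩
      next h => exact Or.inr ⟨2 * c - t, ⟨by omega, by omega⟩, rfl⟩
  have hf : LinearIndependent k f := by
    let g : Fin i → Fin c ⊕ Fin c := fun t =>
      if h : t.val < c then Sum.inr ⟨t.val, h⟩ else Sum.inl ⟨2 * c - t.val - 1, by omega⟩
    have hg : Function.Injective g := by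
      intro s t h
      have := s.2
      have := t.2
      simp only [g] at h
      split at h <;> split at h <;> simp [Fin.ext_iff] at h ⊢ <;> omega
    have hfg : f = ((Pi.basisFun k (Fin c)).prod (Pi.basisFun k (Fin c))) ∘ g := by
      funext t
      have := t.2
      simp only [f, g, Function.comp_apply]
      split
      next h => ext s <;> simp [Y, Module.Basis.prod_apply, Pi.single_apply, Fin.ext_iff]
      next h => ext s <;> simp [X, Module.Basis.prod_apply, Pi.single_apply, Fin.ext_iff] ; congr 1 ; simp ; omega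
    rw [hfg]
    exact ((Pi.basisFun k (Fin c)).prod (Pi.basisFun k (Fin c))).linearIndependent.comp g hg
  rw [Nfil, hrange, finrank_span_eq_card hf, Fintype.card_fin]

variable (c : ℕ) (k : Type u) [Field k] [CharP k 2] [PerfectRing k 2] (a : ℕ → k)

theorem NV_add (u v : GcMod c k) : NV c k a (u + v) = NV c k a u + NV c k a v := by
  have hY : ∀ n, coefY (u + v) n = coefY u n + coefY v n := fun n => by
    simp only [coefY]
    split <;> simp
  refine Prod.ext (by simp [NV]) (funext fun x => ?_)
  simp only [NV, hY, map_add, Prod.fst_add, Prod.snd_add, Pi.add_apply, add_mul]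
  rw [add_add_add_comm, ← Finset.sum_add_distrib]
  congr 1
  refine Finset.sum_congr rfl fun j _ => ?_
  split <;> simp

theorem NV_zero : NV c k a 0 = 0 := by
  have hY : ∀ n, coefY (0 : GcMod c k) n = 0 := fun n => by
    simp only [coefY]
    split <;> rfl
  refine Prod.ext rfl (funext fun x => ?_)
  simp [NV, hY]

theorem NV_smul (r : k) (v : GcMod c k) : NV c k a (r ^ 2 • v) = r • NV c k a v := by
  have hr : (frobeniusEquiv k 2).symm (r ^ 2) = r := by
    rw [← frobeniusEquiv_def k 2 r, RingEquiv.symm_apply_apply]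
  have hY : ∀ n, coefY (r ^ 2 • v) n = r ^ 2 * coefY v n := fun n => by
    simp only [coefY]
    split <;> simp
  refine Prod.ext (by simp [NV]) (funext fun x => ?_)
  simp only [NV, hY, map_mul, hr, Prod.smul_fst, Prod.smul_snd, Pi.smul_apply, smul_eq_mul, mul_add,
    Finset.mul_sum, mul_assoc]
  congr 1
  refine Finset.sum_congr rfl fun j _ => ?_
  split <;> simp

theorem NV_Y (n : ℕ) (hn : 1 ≤ n) (h : 2 * n ≤ c) : NV c k a (Y c k (2 * n)) = Y c k n := by
  refine Prod.ext rfl (funext fun x => ?_)
  change (frobeniusEquiv k 2).symm (coefY (Y c k (2 * n)) (2 * (x.val + 1))) + _ = _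
  rw [Finset.sum_eq_zero, add_zero]
  · simp only [coefY, Y]
    split
    next hh =>
      by_cases hx : x.val + 1 = n
      · rw [if_pos hx, if_pos (by omega), map_one]
      · rw [if_neg hx, if_neg (by omega), map_zero]
    next hh => rw [if_neg (by omega), map_zero]
  · intro j _
    simp [Y]

theorem NV_X (n : ℕ) (hn : 1 ≤ n) (h : c < 2 * n) (hnc : n ≤ c) :
    NV c k a (X c k (2 * (c - n) + 1)) =
      ∑ d ∈ Finset.range (n - 1 + 1), (frobeniusEquiv k 2).symm (a (c - d)) • Y c k (n - d) := by
  refine Prod.ext (by simp [NV, Y, Prod.fst_sum]) (funext fun x => ?_)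
  change (frobeniusEquiv k 2).symm (coefY (X c k (2 * (c - n) + 1)) (2 * (x.val + 1))) + _ = _
  rw [show coefY (X c k (2 * (c - n) + 1)) (2 * (x.val + 1)) = 0 by simp [coefY, X], map_zero, zero_add]
  simp only [Prod.snd_sum, Finset.sum_apply, Prod.smul_snd, Pi.smul_apply, Y, smul_eq_mul]
  rw [Finset.sum_eq_single (⟨2 * (c - n), by omega⟩ : Fin c)]
  · by_cases hx : x.val + 1 ≤ n
    · rw [if_pos (by simp only; omega), Finset.sum_eq_single (n - (x.val + 1))]
      · rw [if_pos (by omega), mul_one]
        simp only [X, if_pos]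
        rw [one_mul]
        congr 2
        omega
      · intro d hd hne
        rw [if_neg (by have := Finset.mem_range.mp hd; omega), mul_zero]
      · intro hd
        exact absurd (Finset.mem_range.mpr (by omega)) hd
    · rw [if_neg (by simp only; omega), Finset.sum_eq_zero]
      intro d _
      rw [if_neg (by omega), mul_zero]
  · intro j _ hj
    have hne : ¬ j.val + 1 = 2 * (c - n) + 1 := fun hh => hj (Fin.ext (show j.val = 2 * (c - n) by omega))
    simp [X, hne]
    intros
    omega
  · simp


/-- Let `k` be a perfect field of characteristic `2`, `c` a natural number and `a_1, …, a_c ∈ k` with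
`a_c ≠ 0`. On the `2c`-dimensional `k`-space with basis `λ_1, …, λ_c, σ_1, …, σ_c` let `F` be
Frobenius-semilinear with `F λ_j = 0`, `F σ_j = σ_{2j}` for `2j ≤ c`, `F σ_j = Σ_{i=j}^{c} a_i
λ_{2i-2j+1}` for `2j > c`, and `V` inverse-Frobenius-semilinear with `V λ_j = λ_{j/2}` (`j` even),
`0` (`j` odd), `V σ_j = 0` (`j` even), `V σ_j = Σ_{i=(j+1)/2}^{c} a_i^{1/2} λ_{i-(j-1)/2}` (`j` odd)
— the shape of `F` and `V` on the block of the first de Rham cohomology of `y² − y = f(x)` belonging
to a branch point with invariant `d = 2c + 1`, `a_i` the coefficients of the odd polynomial `f_α`.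
Put `N_i = ⟨λ_1, …, λ_i⟩` for `i ≤ c` and `N_i = ⟨λ_1, …, λ_c, σ_{2c-i+1}, …, σ_c⟩` for `c ≤ i ≤
2c`. Then for `0 ≤ i ≤ 2c`: `dim N_i = i`, `V(N_i) = N_{⌊i/2⌋}` and `F⁻¹(N_i) = N_{c+⌈i/2⌉}`; so
`(N_i)` is a final filtration with `dim V(N_i) = ⌊i/2⌋`. (The published statement adjoins the `σ_j`
starting from `σ_1`; then `V(N_{c+1})` contains `V σ_1`, whose `λ_c`-coefficient is a square root of
`a_c ≠ 0`, so it is not `N_{⌊(c+1)/2⌋}` once `c ≥ 2`; adjoining them from `σ_c` downward, as here,
makes both identities hold.) -/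
theorem result (c : ℕ) (k : Type u) [Field k] [CharP k 2] [PerfectRing k 2]
    (a : ℕ → k) (ha : a c ≠ 0) (i : ℕ) (hi : i ≤ 2 * c) :
    Module.finrank k (W4c6eohyperellchar2.Nfil c k i) = i ∧
      W4c6eohyperellchar2.NV c k a '' (W4c6eohyperellchar2.Nfil c k i : Set (W4c6eohyperellchar2.GcMod c k)) = (W4c6eohyperellchar2.Nfil c k (i / 2) : Set (W4c6eohyperellchar2.GcMod c k)) ∧
      W4c6eohyperellchar2.NF c k a ⁻¹' (W4c6eohyperellchar2.Nfil c k i : Set (W4c6eohyperellchar2.GcMod c k)) = (W4c6eohyperellchar2.Nfil c k (c + (i + 1) / 2) : Set (W4c6eohyperellchar2.GcMod c k)) := by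
  classical
  have hsq : ∀ y : k, (frobeniusEquiv k 2).symm y ^ 2 = y := fun y =>
    (frobeniusEquiv_def k 2 _).symm.trans ((frobeniusEquiv k 2).apply_symm_apply y)
  refine ⟨?_, ?_, ?_⟩
  · exact finrank_Nfil c k i hi
  · refine Set.Subset.antisymm ?_ ?_
    · rintro _ ⟨v, hv, rfl⟩
      rw [SetLike.mem_coe, mem_Nfil] at hv ⊢
      refine ⟨fun x _ => rfl, fun x hx => ?_⟩
      have h1 : coefY v (2 * (x.val + 1)) = 0 := by
        rw [coefY]
        split
        · exact hv.2 _ (by simp only; omega)
        · rfl
      change (frobeniusEquiv k 2).symm (coefY v (2 * (x.val + 1))) + _ = 0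
      rw [h1, map_zero, zero_add]
      refine Finset.sum_eq_zero fun j _ => ?_
      split
      next hj => rw [hv.1 j (by omega), zero_mul, map_zero]
      next => rfl
    · intro w hw
      obtain ⟨S, hS⟩ : ∃ S : Submodule k (GcMod c k), (S : Set (GcMod c k)) = NV c k a '' (Nfil c k i : Set (GcMod c k)) := by
        refine ⟨{ carrier := NV c k a '' (Nfil c k i : Set (GcMod c k)), add_mem' := ?_, zero_mem' := ?_, smul_mem' := ?_ }, rfl⟩
        · rintro _ _ ⟨u, hu, rfl⟩ ⟨v, hv, rfl⟩
          exact ⟨u + v, add_mem hu hv, NV_add c k a u v⟩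
        · exact ⟨0, zero_mem _, NV_zero c k a⟩
        · rintro r _ ⟨v, hv, rfl⟩
          exact ⟨r ^ 2 • v, Submodule.smul_mem _ _ hv, NV_smul c k a r v⟩
      rw [← hS]
      refine (Submodule.span_le.mpr ?_) hw
      rintro _ (⟨n, hn, rfl⟩ | ⟨n, hn, rfl⟩)
      · change Y c k n ∈ S
        induction n using Nat.strong_induction_on with
        | _ n ih =>
          obtain ⟨hn1, hn2⟩ := hn
          rw [← SetLike.mem_coe, hS]
          by_cases h2 : 2 * n ≤ c
          · exact ⟨Y c k (2 * n), Submodule.subset_span (Or.inl ⟨2 * n, ⟨by omega, by omega⟩, rfl⟩),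
              NV_Y c k a n hn1 h2⟩
          · rw [← hS, SetLike.mem_coe]
            have hX : X c k (2 * (c - n) + 1) ∈ Nfil c k i :=
              Submodule.subset_span (Or.inr ⟨2 * (c - n) + 1, ⟨by omega, by omega⟩, rfl⟩)
            have hV : NV c k a (X c k (2 * (c - n) + 1)) ∈ S := by
              rw [← SetLike.mem_coe, hS]; exact ⟨_, hX, rfl⟩
            rw [NV_X c k a n hn1 (by omega) (by omega),
              Finset.sum_range_succ', Nat.sub_zero, Nat.sub_zero] at hV
            have hlow : (∑ d ∈ Finset.range (n - 1), (frobeniusEquiv k 2).symm (a (c - (d + 1))) • Y c k (n - (d + 1))) ∈ S :=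
              Submodule.sum_mem _ fun d hd => Submodule.smul_mem _ _
                (ih _ (by omega) ⟨by have := Finset.mem_range.mp hd; omega, by omega⟩)
            have h := S.sub_mem hV hlow
            rw [add_sub_cancel_left] at h
            exact (Submodule.smul_mem_iff S (fun h0 => ha (by rw [← hsq (a c), h0]; simp))).mp h
      · have := hn.1
        have := hn.2
        omega
  · ext v
    rw [Set.mem_preimage, SetLike.mem_coe, SetLike.mem_coe, mem_Nfil, mem_Nfil]
    constructor
    · rintro ⟨h1, h2⟩
      refine ⟨fun j hj => ?_, fun x hx => absurd x.2 (by omega)⟩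
      obtain ⟨j, hjc⟩ := j
      induction j using Nat.strong_induction_on with
      | _ j ih =>
        simp only at hj
        by_cases h2j : 2 * (j + 1) ≤ c
        · have h := h1 ⟨2 * j + 1, by omega⟩ (by simp only; omega)
          change (if (2 * j + 1 + 1) % 2 = 0 then coefX v ((2 * j + 1 + 1) / 2) ^ 2 else 0) = 0 at h
          rw [if_pos (by omega), coefX, dif_pos (by omega)] at h
          have h' := pow_eq_zero_iff (n := 2) two_ne_zero |>.mp h
          convert h' using 3
          omega
        · have h := h2 ⟨2 * (c - (j + 1)), by omega⟩ (by simp only; omega)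
          change (if (2 * (c - (j + 1)) + 1) % 2 = 1 then _ else 0) = 0 at h
          rw [if_pos (by omega), Finset.sum_eq_single (⟨j, hjc⟩ : Fin c)] at h
          · rw [if_pos (by simp only; omega)] at h
            simp only at h
            rw [show j + 1 + 2 * (c - (j + 1)) / 2 = c by omega] at h
            exact (pow_eq_zero_iff (n := 2) two_ne_zero).mp ((mul_eq_zero.mp h).resolve_right ha)
          · intro b _ hb
            simp only
            split
            next hh =>
              have hbj : b.val < j := by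
                rcases lt_trichotomy b.val j with h' | h' | h'
                · exact h'
                · exact absurd (Fin.ext h') hb
                · omega
              rw [ih b.val hbj b.2 (by simp only; omega)]
              simp
            next => rfl
          · simp
    · rintro ⟨h1, -⟩
      refine ⟨fun x hx => ?_, fun x hx => ?_⟩
      · change (if (x.val + 1) % 2 = 0 then coefX v ((x.val + 1) / 2) ^ 2 else 0) = 0
        split
        next =>
          rw [coefX]
          split
          next hh => rw [h1 _ (by simp only; omega)]; simp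
          next => simp
        next => rfl
      · change (if (x.val + 1) % 2 = 1 then _ else 0) = 0
        split
        next =>
          refine Finset.sum_eq_zero fun j _ => ?_
          split
          next hh => rw [h1 j (by omega)]; simp
          next => rfl
        next => rfl

end Groth.Agent.S19048
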