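import Groth.Statements.S1905
import Groth.Agent.CycDim.FlatLen

set_option autoImplicit false
universe u
open CategoryTheory AlgebraicGeometry
open Cyc

namespace Groth.Agent.S1905

open CategoryTheory AlgebraicGeometry
open Groth.Agent
open Groth.Agent.CDivNormal (genPrime mem_genPrime exists_genPrime_eq genPrime_mono)
open Groth.Agent.C1Cap (rdu)
open Groth.Agent.CycDim (spz isLocalization_genPrime mem_genPrime_iff ordAt_spz length_quot_map residueFieldMap_rdu_spz)
set_option backward.isDefEq.respectTransparency false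

/-- Let f : X → Y be a flat morphism, locally of finite type, of relative dimension r between integral
schemes, and g a nonzero rational function on Y, taken in the residue field at f(η_X) (the generic
point of Y). Then f^*(div_Y g) = div_X(g ∘ f) coefficientwise, where g ∘ f is the image of g in
κ(η_X). A pair (X, δ) with Cyc.IsSetup plays the role of a scheme locally of finite type over a
fixed base with a dimension function (X locally Noetherian with universally catenary local rings, δ
a dimension function), and Cyc.DeltaCompat records that the dimension function upstairs is the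
induced one. -/
theorem result (X Y : Scheme.{u}) [IsIntegral X] [IsIntegral Y] (δX : X → ℤ) (δY : Y → ℤ) (hX : Cyc.IsSetup X δX) (hY : Cyc.IsSetup Y δY) (f : X ⟶ Y) [Flat f] [LocallyOfFiniteType f] (r : ℕ) (hr : Cyc.HasRelDim f r) (hδ : Cyc.DeltaCompat f δX δY) (g : Y.residueField (f (genericPoint X))) (hg : g ≠ 0) : Cyc.pullFun f δX δY r (Cyc.divFun δY (f (genericPoint X)) g) = Cyc.divFun δX (genericPoint X) (f.residueFieldMap (genericPoint X) g) := by

  classical
  haveI := hX.1; haveI := hY.1
  let η := genericPoint X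
  funext x
  have hh : η ⤳ x := genericPoint_specializes x
  have hs : f η ⤳ f x := hh.map f.continuous
  have hη : ∀ z : Y, f η ⤳ z := by
    obtain ⟨x', hx', hfx'⟩ := Flat.generalizingMap f (genericPoint_specializes (f η))
    have : x' = η := (hx'.antisymm (genericPoint_specializes x')).eq
    intro z
    rw [← this, hfx']
    exact genericPoint_specializes z
  obtain ⟨hle, -⟩ := Groth.Agent.CycDim.delta_le f hδ hr x
  have hδη : δX η = δY (f η) + r :=
    (Groth.Agent.CycDim.delta_le f hδ hr η).2.2 fun w _ hw => (hw.antisymm (genericPoint_specializes w)).eq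
  have hleY : δY (f x) ≤ δY (f η) ∧ (δY (f x) = δY (f η) → f x = f η) := by
    by_cases he : f η = f x
    · exact ⟨by rw [he], fun _ => he.symm⟩
    · have := (hY.2.2 _ _ hs he).1
      exact ⟨by omega, fun h => by omega⟩
  unfold Cyc.pullFun Cyc.divFun
  by_cases hA : δY (f x) + 1 = δY (f η) ∧ δX x = δY (f x) + (r : ℤ)
  · rw [if_pos hA.2, dif_pos ⟨hs, hA.1⟩, dif_pos (show η ⤳ x ∧ δX x + 1 = δX η from ⟨hh, by omega⟩)]
    have hbotY : genPrime hs = ⊥ := by
      obtain ⟨z, hz, hzb⟩ := exists_genPrime_eq (f x) (⊥ : Ideal (Y.presheaf.stalk (f x)))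
      exact eq_bot_iff.2 (hzb ▸ genPrime_mono (hη z) hz)
    have hbotX : genPrime hh = ⊥ := by
      obtain ⟨z, hz, hzb⟩ := exists_genPrime_eq x (⊥ : Ideal (X.presheaf.stalk x))
      exact eq_bot_iff.2 (hzb ▸ genPrime_mono (genericPoint_specializes z) hz)
    have hdimY : Ring.KrullDimLE 1 (Y.presheaf.stalk (f x)) := by
      obtain ⟨h1, -⟩ := Groth.Agent.CycDim.ringKrullDim_stalk_eq_delta hY.2.2 (f x)
      refine Ring.krullDimLE_iff.2 (h1.le.trans ?_)
      have : δY (genericPoint Y) = δY (f η) := by
        rw [((genericPoint_specializes (f η)).antisymm (hη (genericPoint Y))).eq]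
      exact_mod_cast (show (δY (genericPoint Y) - δY (f x)).toNat ≤ 1 by omega)
    have hdimX : Ring.KrullDimLE 1 (X.presheaf.stalk x) := by
      obtain ⟨h1, -⟩ := Groth.Agent.CycDim.ringKrullDim_stalk_eq_delta hX.2.2 x
      refine Ring.krullDimLE_iff.2 (h1.le.trans ?_)
      exact_mod_cast (show (δX (genericPoint X) - δX x).toNat ≤ 1 by have : δX η = δX (genericPoint X) := rfl; omega)
    let L : ℕ∞ := Module.length (X.presheaf.stalk x) (X.presheaf.stalk x ⧸
      Ideal.map (f.stalkMap x).hom (IsLocalRing.maximalIdeal (Y.presheaf.stalk (f x))))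
    have key : ∀ a : Y.presheaf.stalk (f x), a ∉ genPrime hs →
        Cyc.ordAt x η hh ((f.residueFieldMap η).hom (rdu (f η) (spz hs a))) =
          Cyc.ordAt (f x) (f η) hs (rdu (f η) (spz hs a)) * (L.toNat : ℤ) := by
      intro a ha
      have hb : (f.stalkMap x).hom a ∉ genPrime hh := by
        rw [mem_genPrime, not_not] at ha ⊢
        rw [← Scheme.Hom.stalkSpecializes_stalkMap_apply f η x hh a]
        exact ha.map (f.stalkMap η).hom
      have hfin : ∀ {R : Type u} [CommRing R] [IsNoetherianRing R] [IsLocalRing R] [IsDomain R], Ring.KrullDimLE 1 R →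
          ∀ (P : Ideal R) (c : R), c ∉ P → Module.length R (R ⧸ (P ⊔ Ideal.span {c})) < ⊤ := by
        intro R _ _ _ _ hR P c hc
        refine Groth.Agent.CycDim.length_lt_top_of_killed hR (a := c) (fun p hp => ?_) _ fun m => ?_
        · rw [IsDomain.minimalPrimes_eq_singleton_bot, Set.mem_singleton_iff] at hp
          rw [hp, Submodule.mem_bot]
          exact fun h0 => hc (h0 ▸ P.zero_mem)
        · obtain ⟨m, rfl⟩ := Submodule.Quotient.mk_surjective _ m
          rw [← Submodule.Quotient.mk_smul, Submodule.Quotient.mk_eq_zero]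
          exact Ideal.mem_sup_right (Ideal.mul_mem_right m _ (Ideal.mem_span_singleton_self c))
      rw [residueFieldMap_rdu_spz f hh a, ordAt_spz hh hdimX hb (hfin hdimX _ _ hb),
        ordAt_spz hs hdimY ha (hfin hdimY _ _ ha), ← Nat.cast_mul, ← ENat.toNat_mul, hbotX, hbotY, bot_sup_eq,
        bot_sup_eq, length_quot_map, Ideal.map_span, Set.image_singleton]
    obtain ⟨w, hw⟩ : ∃ w, rdu (f η) w = g := Ideal.Quotient.mk_surjective g
    letI := (spz hs).toAlgebra
    haveI := isLocalization_genPrime hs
    obtain ⟨⟨a, b⟩, hab⟩ := IsLocalization.surj (genPrime hs).primeCompl w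
    have hb0 : rdu (f η) (spz hs b) ≠ 0 :=
      fun h0 => b.2 ((mem_genPrime_iff hs b.1).2 (RingHom.mem_ker.2 h0))
    have hab' : g * rdu (f η) (spz hs b) = rdu (f η) (spz hs a) := by
      rw [← hw, ← map_mul]
      exact congrArg (rdu (f η)) hab
    have ha : a ∉ genPrime hs := fun h0 => by
      have : rdu (f η) (spz hs a) = 0 := RingHom.mem_ker.1 ((mem_genPrime_iff hs a).1 h0)
      rw [← hab'] at this
      exact mul_ne_zero hg hb0 this
    have h1 := Groth.Agent.C1Cap.ordAt_mul hs hg hb0
    have h2 := Groth.Agent.C1Cap.ordAt_mul hh ((map_ne_zero (f.residueFieldMap η).hom).2 hg)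
      ((map_ne_zero (f.residueFieldMap η).hom).2 hb0)
    rw [← map_mul, hab', key a ha, key b b.2] at h2
    rw [hab'] at h1
    rw [h1, add_mul] at h2
    show Cyc.ordAt (f x) (f η) hs g * (L.toNat : ℤ) = Cyc.ordAt x η hh ((f.residueFieldMap η).hom g)
    omega
  · have hL : (if δX x = δY (f x) + (r : ℤ) then
        (if h : f η ⤳ f x ∧ δY (f x) + 1 = δY (f η) then Cyc.ordAt (f x) (f η) h.1 g else 0) *
        ((Module.length (X.presheaf.stalk x) (X.presheaf.stalk x ⧸ Ideal.map (f.stalkMap x).hom
          (IsLocalRing.maximalIdeal (Y.presheaf.stalk (f x))))).toNat : ℤ) else 0) = 0 := by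
      split
      · next h1 => rw [dif_neg fun h2 => hA ⟨h2.2, h1⟩, zero_mul]
      · rfl
    refine hL.trans ?_
    split
    swap
    · rfl
    next hB =>
    have hBc : δX x + 1 = δX η := hB.2
    have he : f x = f η := hleY.2 (by by_contra hne; exact hA ⟨by omega, by omega⟩)
    obtain ⟨w, hw⟩ : ∃ w, rdu (f η) w = g := Ideal.Quotient.mk_surjective g
    have hwu : IsUnit w := by
      by_contra hn
      exact hg (hw ▸ Ideal.Quotient.eq_zero_iff_mem.2 hn)
    let w' := (Y.presheaf.stalkSpecializes (specializes_of_eq he : f x ⤳ f η)).hom w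
    have hw' : spz hs w' = w := by
      show (Y.presheaf.stalkSpecializes _ ≫ Y.presheaf.stalkSpecializes _).hom w = w
      rw [TopCat.Presheaf.stalkSpecializes_comp, TopCat.Presheaf.stalkSpecializes_refl]
      rfl
    rw [← hw, ← hw']
    refine (Eq.trans ?_ (C1Cap.ordAt_unit hh ((hwu.map _ : IsUnit w').map (f.stalkMap x).hom))).symm
    exact congrArg (Cyc.ordAt x η hh) (residueFieldMap_rdu_spz f hh w')

end Groth.Agent.S1905
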