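import Groth.Statements.S19059
import Groth.Agent.NormGen.Apps

set_option autoImplicit false
universe u
open CategoryTheory CategoryTheory.Limits AlgebraicGeometry Opposite
open Curves

namespace Groth.Agent.S19059

/-- Let R be a Noetherian ring and f : X ⟶ Spec R a relative curve (proper and smooth, with
geometrically connected fibres of dimension one). Let L be an ample invertible O_X-module which is
normally generated, i.e. for every n ≥ 1 the global sections of L^(n+1) = L^n ⊗ L are additively
generated by the products m ⊗ s of a global section m of L^n and a global section s of L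
(equivalently, the n-fold tensor powers of the global sections of L map onto the global sections of
L^n for all n ≥ 1). Then L is very ample relative to f: there is an immersion i : X ⟶ P^N over Spec
R with L ≅ i^*O(1). (The projectivity of X over Spec R assumed in the source follows here from the
ampleness of L.) -/
theorem result (R : Type u) [CommRing R] [IsNoetherianRing R]
    {X : Scheme.{u}} (f : X ⟶ Spec (CommRingCat.of R)) [IsProper f] [Smooth f] [GeometricallyConnected f]
    (hdim : ∀ s : Spec (CommRingCat.of R), topologicalKrullDim ↥(f.fiber s) = 1)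
    (L : X.Modules) (hL : PicF.IsInvertible L) (hLa : CohB1.IsAmple L)
    (hng : ∀ n : ℕ, 1 ≤ n → AddSubgroup.closure {t | ∃ (m : (CohB1.tensorPow L n).val.obj (op ⊤)) (s : L.val.obj (op ⊤)), t = SecTwist.tmul (CohB1.tensorPow L n) L ⊤ m s} = ⊤) :
    RelAmple.IsRelVeryAmplePn f L := by
  letI : X.Over (Spec (CommRingCat.of R)) := ⟨f⟩
  haveI : IsProper (X ↘ Spec (CommRingCat.of R)) := ‹IsProper f›
  haveI := Groth.Agent.H1Triv.isNoetherian_of_proper_ring R (X := X)
  obtain ⟨r, s, hs⟩ := Groth.Agent.NormGen.exists_span (A := R) (Groth.Agent.CurveRR.isCoh_of_inv hL)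
  refine Groth.Agent.NormGen.isRelVeryAmplePn_of_span f s hs (fun n hn t => ?_) hLa
  let Good : Γ(CohB1.tensorPow L (n + 1), ⊤) → Prop :=
    fun t => ∃ m : Fin r → Γ(CohB1.tensorPow L n, ⊤), t = ∑ j, TMul.tm (m j) (s j)
  have h0 : Good 0 := ⟨fun _ => 0, by simp only [TMul.zero_tm]; exact Finset.sum_const_zero.symm⟩
  have hadd : ∀ a b, Good a → Good b → Good (a + b) := fun a b ⟨ma, ha⟩ ⟨mb, hb⟩ => ⟨ma + mb, by
    rw [ha, hb]
    refine Finset.sum_add_distrib.symm.trans (Finset.sum_congr rfl fun j _ => ?_)
    exact (TMul.tm_add _ _ _).symm⟩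
  have hneg : ∀ a, Good a → Good (-a) := fun a ⟨ma, ha⟩ => ⟨fun j => (-1 : Γ(X, ⊤)) • ma j, by
    subst ha
    refine (Finset.sum_neg_distrib _).symm.trans (Finset.sum_congr rfl fun j _ => ?_)
    exact ((TMul.smul_tm _ _ _).trans (neg_one_smul _ _)).symm⟩
  suffices key : ∀ u, u ∈ AddSubgroup.closure {t | ∃ (m : (CohB1.tensorPow L n).val.obj (op ⊤)) (σ : L.val.obj (op ⊤)), t = SecTwist.tmul (CohB1.tensorPow L n) L ⊤ m σ} → Good u from key t (by rw [hng n hn]; trivial)
  intro u hu
  induction hu using AddSubgroup.closure_induction with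
  | mem u hu =>
    obtain ⟨m, σ, rfl⟩ := hu
    obtain ⟨a, ha⟩ := hs σ
    refine ⟨fun j => f.appTop.hom (a j) • (show Γ(CohB1.tensorPow L n, ⊤) from m), ?_⟩
    let g : Γ(L, ⊤) →+ Γ(CohB1.tensorPow L (n + 1), ⊤) :=
      AddMonoidHom.mk' (fun l => TMul.tm (show Γ(CohB1.tensorPow L n, ⊤) from m) l) fun x y => TMul.add_tm _ _ _
    refine ((congrArg g ha).trans (map_sum g _ _)).trans (Finset.sum_congr rfl fun j _ => ?_)
    exact (TMul.tm_smul _ _ _).trans (TMul.smul_tm _ _ _).symm
  | zero => exact h0
  | add a b _ _ ha hb => exact hadd a b ha hb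
  | neg a _ ha => exact hneg a ha

end Groth.Agent.S19059
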