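import Groth.Statements.S19060
import Groth.Agent.W7Cech.NNGrauert
import Groth.Agent.FreeJ.Grothendieck

set_option autoImplicit false
universe u
open CategoryTheory CategoryTheory.Limits AlgebraicGeometry Opposite
open Curves

set_option backward.isDefEq.respectTransparency false
set_option backward.isDefEq.respectTransparency.types false
open Groth.Agent Groth.Agent.W7Cech Groth.Agent.FlatCx Groth.Agent.SiteCoh
namespace Groth.Agent.S19060

/-- Let R be a Noetherian ring and X a relative curve over Spec R (proper and smooth, with geometrically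
connected fibres of dimension one, and projective: X carries an ample invertible module). Let F be a
coherent O_X-module which is flat over Spec R (every stalk is a flat module over the local ring of
the base). If H^1(X, F) is a projective R-module, then H^0(X, F) is a projective R-module. (The
source says only that F is an O_X-module flat over the base; F is taken coherent here, as the
finiteness of its cohomology over R used there requires.) -/
theorem result (R : Type u) [CommRing R] [IsNoetherianRing R]
    (X : Scheme.{u}) [X.Over (Spec (CommRingCat.of R))] [IsProper (X ↘ Spec (CommRingCat.of R))]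
    [Smooth (X ↘ Spec (CommRingCat.of R))] [GeometricallyConnected (X ↘ Spec (CommRingCat.of R))]
    (hdim : ∀ s : Spec (CommRingCat.of R), topologicalKrullDim ↥((X ↘ Spec (CommRingCat.of R)).fiber s) = 1)
    (hproj : ∃ M : X.Modules, CohB1.IsAmple M)
    (F : X.Modules) (hF : Coh.IsCoh F) (hfl : FlatMod.IsFlatOver (X ↘ Spec (CommRingCat.of R)) F)
    (h1 : Module.Projective R (Coh.HH X F 1)) :
    Module.Projective R (Coh.HH X F 0) := by
  haveI : CompactSpace X := QuasiCompact.compactSpace_of_compactSpace (X ↘ Spec (CommRingCat.of R))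
  haveI : X.IsSeparated := by
    constructor
    rw [← CategoryTheory.Limits.terminal.comp_from (X ↘ Spec (CommRingCat.of R))]
    infer_instance
  obtain ⟨L, b, hL, hb, hneg, hT, -, hsub⟩ := exists_fibre_model R F hF hfl
  have hLf := flatX L hL
  obtain ⟨ι, hι, W, hW, hcov⟩ := exists_cover X
  haveI := hι
  have e : ∀ p : ℕ, Nonempty (Hm L (p : ℤ) ≃ₗ[R] Coh.HH X F p) := fun p => by
    obtain ⟨e, -⟩ := hT p
    obtain ⟨e', -⟩ := exists_TEquiv R W hW hcov F hF.1 p
    obtain ⟨eH, -⟩ := exists_hhEquiv R W hW hcov p
    exact ⟨HmEquivT L hLf (p : ℤ) ≪≫ₗ e _ ≪≫ₗ (e' _).symm ≪≫ₗ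
      (HomologicalComplex.homologyMapIso (ridIso R ((CC R W).obj F)) p).toLinearEquiv ≪≫ₗ eH F hF.1⟩
  have hzero : ∀ q : ℕ, 2 ≤ q → ∀ M, CategoryTheory.Limits.IsZero (CohIII.T L (q : ℤ) M) := by
    refine fun q hq => W7Cech.isZero_T_of_dRank L hL q fun y => (hsub q y).1 ?_
    let Z := (X ↘ Spec (CommRingCat.of R)).fiber y
    haveI : IsProper ((X ↘ Spec (CommRingCat.of R)).fiberToSpecResidueField y) :=
      inferInstanceAs (IsProper (CategoryTheory.Limits.pullback.snd _ _))
    haveI : IsLocallyNoetherian Z :=
      LocallyOfFiniteType.isLocallyNoetherian ((X ↘ Spec (CommRingCat.of R)).fiberToSpecResidueField y)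
    haveI : CompactSpace Z :=
      QuasiCompact.compactSpace_of_compactSpace ((X ↘ Spec (CommRingCat.of R)).fiberToSpecResidueField y)
    haveI : IsNoetherian Z := {}
    exact FreeJ.vanishes 2 (TopCat.of Z) ((hdim y).trans_lt (WithBot.coe_lt_coe.2 (WithTop.coe_lt_coe.2 one_lt_two)))
      (Coh.toAb (CohIII.fiberMod (X ↘ Spec (CommRingCat.of R)) F y)) q hq
  haveI hh1 : Module.Flat R (Coh.HH X F 1) := @Module.Flat.of_projective R (Coh.HH X F 1) _ _ _ h1
  have hH : ∀ n : ℤ, 0 < n → Module.Flat R (Hm L n) := by
    intro n hn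
    obtain ⟨q, rfl⟩ : ∃ q : ℕ, n = q := ⟨n.toNat, by omega⟩
    rcases (show q = 1 ∨ 2 ≤ q by omega) with rfl | hq
    · exact @Module.Flat.of_linearEquiv R (Coh.HH X F 1) (Hm L ((1 : ℕ) : ℤ)) _ _ _ _ _ hh1 (e 1).some
    · haveI : Subsingleton (CohIII.T L (q : ℤ) (ModuleCat.of R R)) :=
        ModuleCat.subsingleton_of_isZero (hzero q hq _)
      haveI : Subsingleton (Hm L (q : ℤ)) := (HmEquivT L hLf (q : ℤ)).injective.subsingleton
      infer_instance
  have he := exact_of_flat_Hm L hL b 0 hb hH 0 le_rfl
  have hm : (CohIII.TFun L 0).PreservesMonomorphisms := by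
    have h := (T_epi_iff_mono_succ L hLf (-1)).1
      (isZero_T_of_isZero_homology_all L (hneg (-1) (by omega))).2
    simpa using h
  obtain ⟨hf, hfp, -⟩ := good_of_exact L hL 0 hm he
  haveI : Module.Projective R (Hm L 0) := (haveI := hf; haveI := hfp; Module.Flat.projective_of_finitePresentation)
  exact Module.Projective.of_equiv (e 0).some

end Groth.Agent.S19060
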