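import Groth.Statements.S19061
import Groth.Agent.CurveFam.Pluri
import Groth.Agent.S18911
import Groth.Agent.S9707

set_option autoImplicit false
universe u
open CategoryTheory CategoryTheory.Limits AlgebraicGeometry Opposite
open Curves

set_option backward.isDefEq.respectTransparency false
set_option backward.isDefEq.respectTransparency.types false

namespace Groth.Agent.S19061

/-- Let R be a Noetherian ring and f : X ⟶ Spec R a relative curve of genus g (proper and smooth, with
geometrically connected fibres of dimension one and genus g, and projective: X carries an ample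
invertible module). Let L be an invertible O_X-module such that for every point s of Spec R the
restriction L_s of L to the fibre X_s has degree at least 2g + 1. Then L is very ample relative to
f: there is an immersion i : X ⟶ P^N over Spec R with L ≅ i^*O(1). -/
theorem result (R : Type u) [CommRing R] [IsNoetherianRing R]
    {X : Scheme.{u}} (f : X ⟶ Spec (CommRingCat.of R)) [IsProper f] [Smooth f] [GeometricallyConnected f]
    (hdim : ∀ s : Spec (CommRingCat.of R), topologicalKrullDim ↥(f.fiber s) = 1)
    (hproj : ∃ M : X.Modules, CohB1.IsAmple M)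
    (g : ℕ) (hgen : ∀ s : Spec (CommRingCat.of R), letI : (f.fiber s).Over (Spec ((Spec (CommRingCat.of R)).residueField s)) := ⟨f.fiberToSpecResidueField s⟩
      Curv2.genus ((Spec (CommRingCat.of R)).residueField s) (f.fiber s) = g)
    (L : X.Modules) (hL : PicF.IsInvertible L)
    (hdeg : ∀ s : Spec (CommRingCat.of R), letI : (f.fiber s).Over (Spec ((Spec (CommRingCat.of R)).residueField s)) := ⟨f.fiberToSpecResidueField s⟩
      2 * (g : ℤ) + 1 ≤ Curv2.deg ((Spec (CommRingCat.of R)).residueField s) (f.fiber s) (CohIII.fiberMod f L s) 1) :
    RelAmple.IsRelVeryAmplePn f L := by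
  haveI : IsLocallyNoetherian (Spec (CommRingCat.of R)) := inferInstance
  have key : ∀ s : Spec (CommRingCat.of R), RelAmple.IsRelVeryAmplePn (f.fiberToSpecResidueField s)
      ((Scheme.Modules.pullback (f.fiberι s)).obj L) ∧
      Subsingleton (Coh.HH (f.fiber s) ((Scheme.Modules.pullback (f.fiberι s)).obj L) 1) := by
    intro s
    letI : (f.fiber s).Over (Spec ((Spec (CommRingCat.of R)).residueField s)) := ⟨f.fiberToSpecResidueField s⟩
    haveI : IsProper (f.fiber s ↘ Spec (CommRingCat.of ((Spec (CommRingCat.of R)).residueField s))) :=
      MorphismProperty.pullback_snd _ _ ‹IsProper f›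
    haveI : Smooth (f.fiber s ↘ Spec (CommRingCat.of ((Spec (CommRingCat.of R)).residueField s))) :=
      MorphismProperty.pullback_snd _ _ ‹Smooth f›
    haveI : GeometricallyConnected (f.fiber s ↘ Spec (CommRingCat.of ((Spec (CommRingCat.of R)).residueField s))) :=
      MorphismProperty.pullback_snd _ _ ‹GeometricallyConnected f›
    haveI := ClosedRep.GeomIntegral.geometricallyIntegral_of_smooth
      (f.fiber s ↘ Spec (CommRingCat.of ((Spec (CommRingCat.of R)).residueField s)))
    haveI := CurveFam.isIntegral_fiber f hdim s
    have hM := PicLoc.isInvertible_pullback (f.fiberι s) hL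
    have h0 := CurveFam.h0_fiber f s
    have hd : 2 * (Curv2.genus ((Spec (CommRingCat.of R)).residueField s) (f.fiber s) : ℤ) + 1 ≤
        Curv2.deg ((Spec (CommRingCat.of R)).residueField s) (f.fiber s) ((Scheme.Modules.pullback (f.fiberι s)).obj L) 1 := by
      rw [hgen s]
      exact hdeg s
    obtain ⟨N, i, hi, hif, ⟨τ⟩⟩ := CurveVA.exists_closedImmersion (k := (Spec (CommRingCat.of R)).residueField s)
      (hdim s) h0 hM hd
    haveI := hi
    exact ⟨CurveFam.isRelVeryAmplePn_of_projSpace i hif τ, CurveRR.subsingleton_h1 (hdim s).le h0 hM (by omega)⟩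
  exact Groth.Agent.S9707.result f L hL
    (Groth.Agent.S18911.result f L hL (fun s => (key s).1) fun s => (key s).2)

end Groth.Agent.S19061
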