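import Groth.Statements.S19075
import Groth.Agent.CurveSq.Diag
-- import your own Groth.Agent.* helpers here

set_option autoImplicit false
set_option backward.isDefEq.respectTransparency false
set_option maxHeartbeats 1000000
universe u
open CategoryTheory CategoryTheory.Limits AlgebraicGeometry Opposite
open HypSq

namespace Groth.Agent.S19075

attribute [local instance] Nakai.clMonoid

/-- Let k be an algebraically closed field of characteristic ≠ 2 and C a hyperelliptic curve of genus g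
≥ 2 over k: C ⟶ Spec k proper and smooth, C connected of dimension one with dim_k H^1(C, O_C) = g,
with a double cover κ : C ⟶ P^1_k over k (finite, flat, of rank 2 everywhere) and hyperelliptic
involution σ (σ ≫ κ = κ, σ ≠ id). On X = C ×_k C let N be an invertible O_X-module inverse to the
ideal sheaf of the graph Γ_σ = (id, σ) : C ⟶ X, and N_Δ an invertible O_X-module inverse to the
ideal sheaf of the diagonal Δ : C ⟶ X. Then (N·N_Δ) = 2g + 2 (the graph of σ meets the diagonal
transversally in the 2g + 2 fixed points of σ), (L·M) = χ(O_X) − χ(L) − χ(M) + χ(L ⊗ M) denoting the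
intersection number of invertible modules on the surface X. -/
theorem result (k : Type u) [Field k] [IsAlgClosed k] (h2 : (2 : k) ≠ 0)
    (C : Scheme.{u}) [C.Over (Spec (CommRingCat.of k))] [IsProper (C ↘ Spec (CommRingCat.of k))] [Smooth (C ↘ Spec (CommRingCat.of k))] [ConnectedSpace ↥C]
    (hdim : topologicalKrullDim ↥C = 1) (g : ℕ) (hg : 2 ≤ g) (hgen : Curv2.genus k C = g)
    (κ : C ⟶ CohB1.ProjSpace 1 k) (hκ : κ ≫ CohB1.ProjSpace.toSpec 1 k = (C ↘ Spec (CommRingCat.of k)))
    [IsFinite κ] [Flat κ] (hκ2 : ∀ y : ↥(CohB1.ProjSpace 1 k), κ.finrank y = 2)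
    (σ : C ⟶ C) (hσ : σ ≫ κ = κ) (hσ1 : σ ≠ 𝟙 C) (hσp : σ ≫ (C ↘ Spec (CommRingCat.of k)) = (C ↘ Spec (CommRingCat.of k)))
    (N : (pullback (C ↘ Spec (CommRingCat.of k)) (C ↘ Spec (CommRingCat.of k))).Modules) (hN : PicF.IsInvertible N)
    (hNinv : ClSub.IsInverseOf N (ClSub.idealMod (pullback.lift (𝟙 C) σ ((Category.id_comp (C ↘ Spec (CommRingCat.of k))).trans hσp.symm)).ker))
    (ND : (pullback (C ↘ Spec (CommRingCat.of k)) (C ↘ Spec (CommRingCat.of k))).Modules) (hND : PicF.IsInvertible ND)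
    (hNDinv : ClSub.IsInverseOf ND (ClSub.idealMod (pullback.diagonal (C ↘ Spec (CommRingCat.of k))).ker)) :
    letI : (pullback (C ↘ Spec (CommRingCat.of k)) (C ↘ Spec (CommRingCat.of k))).Over (Spec (CommRingCat.of k)) := ⟨pullback.fst (C ↘ Spec (CommRingCat.of k)) (C ↘ Spec (CommRingCat.of k)) ≫ (C ↘ Spec (CommRingCat.of k))⟩
    FGA.intNum k (pullback (C ↘ Spec (CommRingCat.of k)) (C ↘ Spec (CommRingCat.of k))) 2 ![N, ND] (Coh.structureModule (pullback (C ↘ Spec (CommRingCat.of k)) (C ↘ Spec (CommRingCat.of k)))) = 2 * (g : ℤ) + 2 := by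
  have hg1 : 1 ≤ g := by omega
  have hid : (𝟙 C) ≫ (C ↘ Spec (CommRingCat.of k)) = C ↘ Spec (CommRingCat.of k) := Category.id_comp _
  have hdiag : pullback.diagonal (C ↘ Spec (CommRingCat.of k)) = CurveSq.graph hid := by
    apply pullback.hom_ext <;> simp [CurveSq.graph]
  have hO := PicLoc.isInvertible_structureModule C
  have hI := CurveSq.isInvertible_Lb_pow (κ := κ) 1
  have hNDinv' : ClSub.IsInverseOf ND (ClSub.idealMod (CurveSq.graph hid).ker) := hdiag ▸ hNDinv
  have h1 := CurveSq.known_tw hdim hgen hg1 hκ hκ2 hσp hσ hN hNinv hO hO 1 CurveSq.deg_one CurveSq.deg_one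
  have h2 := CurveSq.known_tw hdim hgen hg1 hκ hκ2 hid (Category.id_comp κ) hND hNDinv' hO hO 1 CurveSq.deg_one
    CurveSq.deg_one
  have h3 := CurveSq.known_box hdim hgen hI hI
  refine (CurveSq.intNum_of_known (CurveSq.known_one hdim hgen)
    (CurveSq.known_of_cl (M' := CurveSq.tw _ _ N 1)
      (by rw [Nakai.cl_tensor, CurveSq.cl_box_one, one_mul, Nakai.cl_pow, pow_one]) h1)
    (CurveSq.known_of_cl (M' := CurveSq.tw _ _ ND 1)
      (by rw [Nakai.cl_tensor, CurveSq.cl_box_one, one_mul, Nakai.cl_pow, pow_one]) h2)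
    (CurveSq.known_of_cl (M' := CurveSq.box k C _ _) (by
      rw [Nakai.cl_tensor, mul_comm]
      exact CurveSq.cl_ND_mul_N hdim hκ hκ2 hσ hσ1 hσp hNinv hNDinv) h3)).trans ?_
  rw [CurveSq.deg_Lb_pow hdim hκ hκ2]
  push_cast
  ring

end Groth.Agent.S19075
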