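import Groth.Statements.S19079
import Groth.Agent.PicTheta.ThetaPowers
-- import your own Groth.Agent.* helpers here

set_option autoImplicit false
set_option backward.isDefEq.respectTransparency false
set_option backward.isDefEq.respectTransparency.types false
set_option maxHeartbeats 1000000
universe u
open CategoryTheory CategoryTheory.Limits AlgebraicGeometry MonoidalCategory CartesianMonoidalCategory MonObj
open JacVar

attribute [local instance] Groth.Agent.W7Cube.law

namespace Groth.Agent.S19079

/-- Let k be an algebraically closed field, C a smooth proper connected curve of genus g ≥ 1 over k, and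
(J, ψ) its Jacobian: a commutative group scheme over k, proper and smooth, which is a coarse moduli
scheme on all k-schemes for line bundles of degree 0 on C modulo twisting from the base, with group
law induced by the tensor product. Let N be an invertible O_C-module of degree g − 1 and Θ the theta
line bundle on J attached to N (an invertible module inverse to the ideal of the reduced closure of
the locus of classes ξ with H^0(ξ ⊗ N) ≠ 0 — a translate of the image W^{g−1} of the (g−1)-st
symmetric power of C, the source's theta divisor). Then for every m ≥ 1 the module Θ^m has a nonzero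
global section and no higher cohomology: H^0(J, Θ^m) ≠ 0 and H^i(J, Θ^m) = 0 for all i ≥ 1. -/
theorem result (k : Type u) [Field k] [IsAlgClosed k]
    (C : Scheme.{u}) [C.Over (Spec (CommRingCat.of k))]
    [IsProper (C ↘ Spec (CommRingCat.of k))] [Smooth (C ↘ Spec (CommRingCat.of k))] [GeometricallyConnected (C ↘ Spec (CommRingCat.of k))]
    (hdim : topologicalKrullDim ↥C = 1)
    (g : ℕ) (hg : Curv2.genus k C = g) (hg1 : 1 ≤ g)
    (J : Over (Spec (CommRingCat.of k))) [GrpObj J] [IsCommMonObj J] [IsProper J.hom] [Smooth J.hom]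
    (ψ : (ModFun.PicDeg (C ↘ Spec (CommRingCat.of k)) 0).Hom ⊤ J) (hJ : Jac.IsJacobian (C ↘ Spec (CommRingCat.of k)) ⊤ J ψ)
    (N : C.Modules) (hN : PicF.IsInvertible N) (hNdeg : Curv2.deg k C N 1 = (g : ℤ) - 1)
    (ΘJ : J.left.Modules) (hΘJ : Jac.IsThetaLB (C ↘ Spec (CommRingCat.of k)) 0 ψ N ΘJ)
    (m : ℕ) (hm : 1 ≤ m) :
    Nontrivial (Coh.HH J.left (CohB1.tensorPow ΘJ m) 0) ∧ ∀ i : ℕ, 1 ≤ i → Subsingleton (Coh.HH J.left (CohB1.tensorPow ΘJ m) i) := by
  haveI := ClosedRep.GeomIntegral.geometricallyIntegral_of_smooth (C ↘ Spec (CommRingCat.of k))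
  haveI : IsIntegral C := GeometricallyIntegral.isIntegral_of_subsingleton (C ↘ Spec (CommRingCat.of k))
  haveI := AlgEquivCurve.smoothOfRelativeDimension_one (C ↘ Spec (CommRingCat.of k)) hdim
  obtain ⟨M, hM, hMc⟩ := PicGrp.exists_eq_cls (PicGrp.cls ΘJ hΘJ.1)⁻¹
  obtain ⟨-, hpow⟩ := PicTheta.theta_powers hdim hg hg1 ψ hJ hN hNdeg hΘJ hM (by
    have h : PicGrp.cls _ (TMul.isInvertible_tensorMod hM hΘJ.1) = 1 := by
      show PicGrp.cls M hM * PicGrp.cls ΘJ hΘJ.1 = 1
      rw [← hMc, inv_mul_cancel]
    exact PicFam.nonempty_iso_of_cl_eq (congrArg Subtype.val h))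
  obtain ⟨hv, -, h0, -⟩ := hpow m hm
  refine ⟨?_, hv⟩
  letI : J.left.Over (Spec (CommRingCat.of k)) := ⟨J.hom⟩
  refine not_subsingleton_iff_nontrivial.1 fun hs => ?_
  rw [CurveRR.h_eq_zero hs] at h0
  exact absurd h0 (pow_pos hm g).ne

end Groth.Agent.S19079
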