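import Groth.Statements.S19091
import Groth.Agent.SymSqLib.Weier
import Groth.Agent.SymSqLib.Table

set_option autoImplicit false
universe u
open CategoryTheory CategoryTheory.Limits AlgebraicGeometry Opposite
open SymSq

namespace Groth.Agent.S19091
attribute [local instance] Groth.Agent.Nakai.clMonoid

/-- Let k be an algebraically closed field of characteristic ≠ 2 and C a hyperelliptic curve of genus g
≥ 2 over k: C ⟶ Spec k proper and smooth, C connected of dimension one with dim_k H^1(C, O_C) = g,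
with a double cover κ : C ⟶ P^1_k over k (finite, flat, of rank 2 everywhere) and hyperelliptic
involution σ (σ ≫ κ = κ, σ ≠ id). On X = C ×_k C let L = κ^*O(1), F_m = p_1^*L^m ⊗ p_2^*L^m and N an
invertible O_X-module inverse to the ideal sheaf of the graph Γ_σ = (id, σ) : C ⟶ X. Let S = Sym²(C)
be the symmetric square: π : X ⟶ S is a quotient (affine, invariant, sections of S = invariant
sections) for the action of the symmetric group on two letters in which the transposition acts by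
the swap of the two factors, and q : S ⟶ Spec k its structure morphism with π over Spec k; let N_Δ
be an invertible module on X inverse to the ideal sheaf of the diagonal, x : Spec k ⟶ C a k-point
with A = O_C(x), and MΘ, MΔ, M∇ invertible O_S-modules with π^*MΘ ≅ p_1^*A ⊗ p_2^*A, π^*MΔ ≅ N_Δ ⊗
N_Δ and π^*M∇ ≅ N (the classes Θ_S = π({x} × C), Δ_S = π(Δ) with π^*Δ_S = 2Δ, and ∇_S = π(Γ_σ)).
Assume moreover that x is a Weierstrass point: σ fixes x. Then 4Θ_S ~ Δ_S + 2∇_S in Pic S: MΘ^4 ≅ MΔ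
⊗ M∇^2 (existence of an isomorphism). -/
theorem result (k : Type u) [Field k] [IsAlgClosed k] (h2 : (2 : k) ≠ 0)
    (C : Scheme.{u}) [C.Over (Spec (CommRingCat.of k))] [IsProper (C ↘ Spec (CommRingCat.of k))] [Smooth (C ↘ Spec (CommRingCat.of k))] [ConnectedSpace ↥C]
    (hdim : topologicalKrullDim ↥C = 1) (g : ℕ) (hg : 2 ≤ g) (hgen : Curv2.genus k C = g)
    (κ : C ⟶ CohB1.ProjSpace 1 k) (hκ : κ ≫ CohB1.ProjSpace.toSpec 1 k = (C ↘ Spec (CommRingCat.of k)))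
    [IsFinite κ] [Flat κ] (hκ2 : ∀ y : ↥(CohB1.ProjSpace 1 k), κ.finrank y = 2)
    (σ : C ⟶ C) (hσ : σ ≫ κ = κ) (hσ1 : σ ≠ 𝟙 C) (hσp : σ ≫ (C ↘ Spec (CommRingCat.of k)) = (C ↘ Spec (CommRingCat.of k)))
    (N : (pullback (C ↘ Spec (CommRingCat.of k)) (C ↘ Spec (CommRingCat.of k))).Modules) (hN : PicF.IsInvertible N)
    (hNinv : ClSub.IsInverseOf N (ClSub.idealMod (pullback.lift (𝟙 C) σ ((Category.id_comp (C ↘ Spec (CommRingCat.of k))).trans hσp.symm)).ker))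
    (ND : (pullback (C ↘ Spec (CommRingCat.of k)) (C ↘ Spec (CommRingCat.of k))).Modules) (hND : PicF.IsInvertible ND)
    (hNDinv : ClSub.IsInverseOf ND (ClSub.idealMod (pullback.diagonal (C ↘ Spec (CommRingCat.of k))).ker))
    (x : Spec (CommRingCat.of k) ⟶ C) (hx : x ≫ (C ↘ Spec (CommRingCat.of k)) = 𝟙 (Spec (CommRingCat.of k)))
    (A : C.Modules) (hA : PicF.IsInvertible A) (hAinv : ClSub.IsInverseOf A (ClSub.idealMod x.ker))
    (ρ : ULift.{u} (Equiv.Perm (Fin 2)) →* Aut (pullback (C ↘ Spec (CommRingCat.of k)) (C ↘ Spec (CommRingCat.of k)))) (hρ : (ρ (ULift.up (Equiv.swap 0 1))).hom = (pullbackSymmetry (C ↘ Spec (CommRingCat.of k)) (C ↘ Spec (CommRingCat.of k))).hom)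
    (Sq : Scheme.{u}) (π : (pullback (C ↘ Spec (CommRingCat.of k)) (C ↘ Spec (CommRingCat.of k))) ⟶ Sq) (hπ : SGA1.IsQuot ρ π) (q : Sq ⟶ Spec (CommRingCat.of k)) (hq : π ≫ q = pullback.fst (C ↘ Spec (CommRingCat.of k)) (C ↘ Spec (CommRingCat.of k)) ≫ (C ↘ Spec (CommRingCat.of k)))
    (hxW : x ≫ σ = x)
    (MΘ MΔ MV : Sq.Modules) (hMΘ : PicF.IsInvertible MΘ) (hMΔ : PicF.IsInvertible MΔ) (hMV : PicF.IsInvertible MV)
    (hΘ : Nonempty ((Scheme.Modules.pullback π).obj MΘ ≅ CohB1.tensorMod ((Scheme.Modules.pullback (pullback.fst (C ↘ Spec (CommRingCat.of k)) (C ↘ Spec (CommRingCat.of k)))).obj A) ((Scheme.Modules.pullback (pullback.snd (C ↘ Spec (CommRingCat.of k)) (C ↘ Spec (CommRingCat.of k)))).obj A)))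
    (hΔ : Nonempty ((Scheme.Modules.pullback π).obj MΔ ≅ CohB1.tensorMod ND ND))
    (hV : Nonempty ((Scheme.Modules.pullback π).obj MV ≅ N)) :
    Nonempty (CohB1.tensorPow MΘ 4 ≅ CohB1.tensorMod MΔ (CohB1.tensorPow MV 2)) := by
  letI : Sq.Over (Spec (CommRingCat.of k)) := ⟨q⟩
  obtain ⟨eΘ⟩ := hΘ
  obtain ⟨eΔ⟩ := hΔ
  obtain ⟨eV⟩ := hV
  haveI := CurveRR.Easy.isIntegral_of_smooth (k := k) (X := C)
  haveI : IsIntegral (CurveSq.sq k C) := Groth.Agent.S1582.result k C C _ _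
  have hAA : PicF.cl A * PicF.cl A = PicF.cl (CurveSq.Lb κ) :=
    SymSqLib.cl_sq_eq_Lb hx hdim hκ hκ2 hσ hσ1 hσp hxW hN hND hNinv hNDinv hA hAinv
  have hDN := CurveSq.cl_ND_mul_N hdim hκ hκ2 hσ hσ1 hσp (N := N) (ND := ND) hNinv hNDinv
  obtain ⟨eAA⟩ := Nakai.iso_of_cl ((Nakai.cl_tensor A A).trans hAA)
  have hbox : ∀ (p : CurveSq.sq k C ⟶ C), PicF.cl ((Scheme.Modules.pullback p).obj (CurveSq.Lb κ)) =
      PicF.cl ((Scheme.Modules.pullback p).obj A) * PicF.cl ((Scheme.Modules.pullback p).obj A) := fun p => by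
    rw [← CurveSq.cl_pullback_tensor]
    exact (PicGrp.cl_eq_cl_iff _ _).2 ⟨(Scheme.Modules.pullback p).mapIso eAA.symm⟩
  rw [Nakai.cl_tensor, CurveSq.cl_pullback_pow, CurveSq.cl_pullback_pow, pow_one, pow_one, hbox, hbox] at hDN
  have hR : PicF.IsInvertible (CohB1.tensorMod MΔ (CohB1.tensorPow MV 2)) :=
    TMul.isInvertible_tensorMod hMΔ (CurveSq.isInvertible_tensorPow' hMV 2)
  obtain ⟨R, hR', ⟨eR⟩⟩ := W7Hull.exists_tensor_inverse hR
  have h1 : PicF.cl ((Scheme.Modules.pullback π).obj (CohB1.tensorMod (CohB1.tensorPow MΘ 4) R)) = 1 := by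
    have h2 := (PicGrp.cl_eq_cl_iff _ _).2 ⟨(Scheme.Modules.pullback π).mapIso eR⟩
    rw [CurveSq.cl_pullback_one, CurveSq.cl_pullback_tensor, CurveSq.cl_pullback_tensor,
      CurveSq.cl_pullback_pow, (PicGrp.cl_eq_cl_iff _ _).2 ⟨eΔ⟩, (PicGrp.cl_eq_cl_iff _ _).2 ⟨eV⟩,
      Nakai.cl_tensor] at h2
    rw [CurveSq.cl_pullback_tensor, CurveSq.cl_pullback_pow, (PicGrp.cl_eq_cl_iff _ _).2 ⟨eΘ⟩, Nakai.cl_tensor,
      ← h2]
    congr 1
    rw [show PicF.cl ND * PicF.cl ND * PicF.cl N ^ 2 = (PicF.cl ND * PicF.cl N) ^ 2 by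
      rw [mul_pow, pow_two (PicF.cl ND)], hDN]
    generalize PicF.cl ((Scheme.Modules.pullback (pullback.fst (C ↘ Spec (CommRingCat.of k)) (C ↘ Spec (CommRingCat.of k)))).obj A) = a
    generalize PicF.cl ((Scheme.Modules.pullback (pullback.snd (C ↘ Spec (CommRingCat.of k)) (C ↘ Spec (CommRingCat.of k)))).obj A) = b
    simp only [pow_succ, pow_zero, one_mul, mul_comm, mul_left_comm, mul_assoc]
  obtain ⟨φ⟩ := Nakai.iso_of_cl h1
  have hδ : ∀ γ : ULift.{u} (Equiv.Perm (Fin 2)),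
      pullback.diagonal (C ↘ Spec (CommRingCat.of k)) ≫ (ρ γ).hom = pullback.diagonal (C ↘ Spec (CommRingCat.of k)) := by
    rintro ⟨p⟩
    rcases SymSqLib.perm_two p with rfl | rfl
    · rw [show ρ (ULift.up 1) = 1 from map_one ρ]; exact Category.comp_id _
    · rw [hρ]; apply pullback.hom_ext <;> simp
  have hinj : Function.Injective (pullback.diagonal (C ↘ Spec (CommRingCat.of k))).appTop.hom := by
    letI := (isField_of_universallyClosed k (CurveSq.sq k C ↘ Spec (CommRingCat.of k))).toField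
    exact RingHom.injective _
  obtain ⟨ψ⟩ := SymSqLib.trivial_of_pullback_trivial hπ _ hδ hinj
    (TMul.isInvertible_tensorMod (CurveSq.isInvertible_tensorPow' hMΘ 4) hR') φ.symm
  refine Nakai.iso_of_cl ?_
  have a1 : PicF.cl (CohB1.tensorMod MΔ (CohB1.tensorPow MV 2)) * PicF.cl R = 1 :=
    (Nakai.cl_tensor _ _).symm.trans ((PicGrp.cl_eq_cl_iff _ _).2 ⟨eR⟩)
  have a2 : PicF.cl (CohB1.tensorPow MΘ 4) * PicF.cl R = 1 :=
    (Nakai.cl_tensor _ _).symm.trans ((PicGrp.cl_eq_cl_iff _ _).2 ⟨ψ.symm⟩)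
  rw [← mul_one (PicF.cl (CohB1.tensorPow MΘ 4)), ← a1, mul_left_comm, a2, mul_one]

end Groth.Agent.S19091
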