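import Groth.Statements.S19092
import Mathlib

set_option autoImplicit false
universe u
open FrobAlg

namespace Groth.Agent.S19092

theorem exists_gens {A B : Type u} [CommRing A] [CommRing B] (f : A →+* B) (hf : f.Finite) :
    ∃ T : Finset B, ∀ b : B, ∃ c : B → A, b = ∑ t ∈ T, f (c t) * t := by
  let : Algebra A B := f.toAlgebra
  have hfin : Module.Finite A B := hf
  obtain ⟨T, hT⟩ := hfin.fg_top
  refine ⟨T, fun b => ?_⟩
  obtain ⟨c, -, hc⟩ := Submodule.mem_span_finset.1 (hT ▸ Submodule.mem_top : b ∈ Submodule.span A (T : Set B))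
  exact ⟨c, hc.symm.trans (Finset.sum_congr rfl fun t _ => Algebra.smul_def _ _)⟩

theorem finite_of_gens {A B : Type u} [CommRing A] [CommRing B] (f : A →+* B) (T : Finset B)
    (h : ∀ b : B, ∃ c : B → A, b = ∑ t ∈ T, f (c t) * t) : f.Finite := by
  let : Algebra A B := f.toAlgebra
  refine ⟨⟨T, eq_top_iff.2 fun b _ => ?_⟩⟩
  obtain ⟨c, rfl⟩ := h b
  refine Submodule.sum_mem _ fun t ht => ?_
  rw [show f (c t) * t = c t • t from (Algebra.smul_def _ _).symm]
  exact Submodule.smul_mem _ _ (Submodule.subset_span ht)

/-- Let p be a prime and A a commutative ring of characteristic p whose absolute Frobenius a ↦ a^p is a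
finite ring homomorphism. Then the same holds for every quotient and every localization of A: for
every ideal I of A such that A ⧸ I has characteristic p (every proper ideal) the absolute Frobenius
of A ⧸ I is finite, and for every submonoid S of A and every localization B of A at S of
characteristic p (every nonzero localization) the absolute Frobenius of B is finite. -/
theorem result (p : ℕ) [Fact p.Prime]
    (A : Type u) [CommRing A] [CharP A p] (hF : (frobenius A p).Finite) :
    (∀ (I : Ideal A) [CharP (A ⧸ I) p], (frobenius (A ⧸ I) p).Finite) ∧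
      ∀ (S : Submonoid A) (B : Type u) [CommRing B] [Algebra A B] [IsLocalization S B] [CharP B p],
        (frobenius B p).Finite := by
  refine ⟨fun I _ => ?_, fun S B _ _ _ _ => ?_⟩
  · have h : ((frobenius (A ⧸ I) p).comp (Ideal.Quotient.mk I)).Finite := by
      rw [← (Ideal.Quotient.mk I).frobenius_comm p]
      exact RingHom.Finite.comp (RingHom.Finite.of_surjective _ Ideal.Quotient.mk_surjective) hF
    exact RingHom.Finite.of_comp_finite h
  · obtain ⟨T, hT⟩ := exists_gens (frobenius A p) hF
    classical
    refine finite_of_gens _ (T.image (algebraMap A B)) fun b => ?_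
    obtain ⟨a, s, rfl⟩ := IsLocalization.exists_mk'_eq S b
    obtain ⟨c, hc⟩ := hT (a * (s : A) ^ (p - 1))
    have key : IsLocalization.mk' B a s = ∑ t ∈ T, (IsLocalization.mk' B (c t) s) ^ p * algebraMap A B t := by
      have hp0 : p ≠ 0 := (Fact.out : p.Prime).ne_zero
      refine (IsLocalization.map_units B (s ^ p)).mul_left_injective ?_
      show IsLocalization.mk' B a s * _ = (∑ t ∈ T, _) * _
      rw [Finset.sum_mul, SubmonoidClass.coe_pow, map_pow]
      conv_lhs => rw [show p = p - 1 + 1 from (Nat.succ_pred hp0).symm, pow_succ', ← mul_assoc,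
        IsLocalization.mk'_spec, ← map_pow, ← map_mul, hc, map_sum]
      refine Finset.sum_congr rfl fun t _ => ?_
      rw [mul_right_comm, ← mul_pow, IsLocalization.mk'_spec, map_mul, frobenius_def, map_pow]
    refine ⟨fun u => ∑ t ∈ T.filter (fun t => algebraMap A B t = u), IsLocalization.mk' B (c t) s, ?_⟩
    rw [key]
    simp only [map_sum, Finset.sum_mul, frobenius_def]
    rw [← Finset.sum_fiberwise_of_maps_to (t := T.image (algebraMap A B)) (g := algebraMap A B)
      (fun x hx => Finset.mem_image_of_mem _ hx)]
    exact Finset.sum_congr rfl fun u _ => Finset.sum_congr rfl fun t ht => by rw [(Finset.mem_filter.1 ht).2]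

end Groth.Agent.S19092
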