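import Groth.Statements.S19094
import Mathlib
import Groth.Agent.PDeg.Basic

set_option autoImplicit false
universe u
open FrobAlg

namespace Groth.Agent.S19094

/-- Let p be a prime, k a finite field of characteristic p and K a finitely generated field extension of
the Laurent series field k((t)) of finite transcendence degree d. Then [K : K^p] = p^(d+1), where
K^p ⊆ K is the subfield of p-th powers (the image of the Frobenius). The case of interest is the
residue field of a generic point of a projective strictly semistable scheme of relative dimension d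
over k[[t]], which is such an extension. -/
theorem result (p : ℕ) [Fact p.Prime]
    (k : Type u) [Field k] [Finite k] [CharP k p]
    (K : Type u) [Field K] [Algebra (LaurentSeries k) K] [CharP K p]
    (hfg : (⊤ : IntermediateField (LaurentSeries k) K).FG)
    (d : ℕ) (hd : Algebra.trdeg (LaurentSeries k) K = d) :
    Module.finrank (↥(frobenius K p).fieldRange) K = p ^ (d + 1) := by
  classical
  haveI hp : Fact p.Prime := inferInstance
  haveI : CharP (LaurentSeries k) p := (RingHom.charP_iff_charP (algebraMap (LaurentSeries k) K) p).mpr inferInstance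
  haveI : Algebra.EssFiniteType (LaurentSeries k) K := IntermediateField.fg_top_iff.mp hfg
  let L := LaurentSeries k
  let F := (frobenius L p).fieldRange
  let T : L := HahnSeries.single 1 1
  have hTp : T ^ p ∈ F := ⟨T, frobenius_def p T⟩
  let a : F := ⟨T ^ p, hTp⟩
  have hirr : Irreducible (Polynomial.X ^ p - Polynomial.C a) := by
    refine X_pow_sub_C_irreducible_of_prime hp.out fun b hb => ?_
    obtain ⟨c, hc⟩ := b.2
    have h1 : (c ^ p) ^ p = T ^ p := by rw [← frobenius_def p c, hc]; exact congrArg Subtype.val hb
    have h2 : c ^ p = T := frobenius_inj L p h1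
    have hc0 : c ≠ 0 := fun h => by
      rw [h, zero_pow hp.out.ne_zero] at h2
      exact (one_ne_zero : (1 : k) ≠ 0) (HahnSeries.single_eq_zero_iff.mp h2.symm)
    have h3 := congrArg HahnSeries.order h2
    rw [HahnSeries.order_pow, HahnSeries.order_single one_ne_zero, nsmul_eq_mul] at h3
    exact hp.out.not_dvd_one (Int.natCast_dvd_natCast.mp ⟨c.order, h3.symm⟩)
  have hmin : minpoly F T = Polynomial.X ^ p - Polynomial.C a := by
    refine (minpoly.eq_of_irreducible_of_monic hirr ?_ (Polynomial.monic_X_pow_sub_C _ hp.out.ne_zero)).symm
    simp [a]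
    exact sub_self _
  have hint : IsIntegral F T := ⟨_, Polynomial.monic_X_pow_sub_C a hp.out.ne_zero, by simp [a]; exact sub_self _⟩
  let E := IntermediateField.adjoin F ({T} : Set L)
  have hTE : T ∈ E := IntermediateField.mem_adjoin_simple_self F T
  have hfr : ∀ c : k, ∃ d : k, d ^ p = c := fun c => by
    haveI : CharP k p := inferInstance
    exact (bijective_frobenius k p).2 c
  have hps : ∀ P : PowerSeries k, HahnSeries.ofPowerSeries ℤ k P ∈ E := by
    intro P
    choose g hg using fun (i : ℕ) (m : ℕ) => hfr (PowerSeries.coeff (p * m + i) P)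
    have hmfe : ∀ Q : PowerSeries k, Q ^ p = PowerSeries.map (frobenius k p) (PowerSeries.expand p hp.out.ne_zero Q) := fun Q =>
      (MvPowerSeries.map_frobenius_expand (σ := Unit) (f := Q) p hp.out.ne_zero).symm
    have hP : P = ∑ i ∈ Finset.range p, (PowerSeries.mk (g i)) ^ p * PowerSeries.X ^ i := by
      ext N
      rw [map_sum, Finset.sum_eq_single (N % p)]
      · rw [PowerSeries.coeff_mul_X_pow', if_pos (Nat.mod_le N p), hmfe, PowerSeries.coeff_map,
          show N - N % p = p * (N / p) by have := Nat.div_add_mod N p; omega, PowerSeries.coeff_expand_mul, PowerSeries.coeff_mk,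
          frobenius_def, hg, Nat.div_add_mod]
      · intro i hi hne
        rw [PowerSeries.coeff_mul_X_pow']
        split_ifs with h
        · rw [hmfe, PowerSeries.coeff_map, PowerSeries.coeff_expand_of_not_dvd, map_zero]
          rintro ⟨m, hm⟩
          refine hne ?_
          have : N = p * m + i := by omega
          rw [this, Nat.mul_add_mod, Nat.mod_eq_of_lt (Finset.mem_range.mp hi)]
        · rfl
      · exact fun h => absurd (Finset.mem_range.mpr (Nat.mod_lt _ hp.out.pos)) h
    rw [hP, map_sum]
    refine sum_mem fun i _ => ?_
    rw [map_mul, map_pow, map_pow, HahnSeries.ofPowerSeries_X]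
    exact mul_mem (E.algebraMap_mem ⟨_, ⟨_, frobenius_def p _⟩⟩) (pow_mem hTE i)
  have htop : E = ⊤ := by
    refine eq_top_iff.mpr fun f _ => ?_
    rw [← LaurentSeries.single_order_mul_powerSeriesPart f]
    refine mul_mem ?_ (hps _)
    have hz : (HahnSeries.single f.order (1 : k) : L) = T ^ f.order := by
      rw [show T = HahnSeries.single 1 1 from rfl, ← RatFunc.single_zpow]
    rw [hz]
    exact zpow_mem hTE _
  have hfin : Module.finrank F L = p := by
    rw [← IntermediateField.finrank_top', ← htop, IntermediateField.adjoin.finrank hint, hmin, Polynomial.natDegree_X_pow_sub_C]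
  haveI : Module.Finite F L := Module.finite_of_finrank_pos (by rw [hfin]; exact hp.out.pos)
  have := Groth.Agent.PDeg.finrank_powers p L K (J := ULift.{u} (Fin (Module.finrank F L)))
    ((Module.finBasis F L).reindex Equiv.ulift.symm) hd
  rw [this, Fintype.card_ulift, Fintype.card_fin, hfin, pow_succ']

end Groth.Agent.S19094
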