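import Groth.Statements.S19098
import Mathlib

set_option autoImplicit false
universe u
open CategoryTheory MonoidalCategory CartesianMonoidalCategory MonObj AlgebraicGeometry
open ChGrp CategoryTheory.Limits

namespace Groth.Agent.S19098

/-- Let S be a scheme, G an S-group scheme acting on an S-scheme X through a, and h an S-point of G. Let
i : Z → G be a homomorphism and ψ : Ψ → G a monomorphism with a G-action on Ψ under which ψ
intertwines with conjugation, and o an S-point of Ψ over h, such that (Ψ, o) is the homogeneous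
space G/Z for the fppf topology through the orbit map g ↦ g h g⁻¹ (so Z is the centralizer of h and
Ψ its conjugacy class). Let incl : X^h → X be a monomorphism whose points are the points of X fixed
by h, with the Z-action restricted from a; let σ : S_Ψ → G ×_S X be a monomorphism whose points are
the pairs (g, x) with g a point of Ψ and g x = x (the part of the global stabilizer over Ψ), with
the G-action by conjugation on the first entry and by a on the second; and let Φ : G ×_S X^h → S_Ψ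
be the morphism (g, x) ↦ (g h g⁻¹, g x). Then Φ makes S_Ψ, with its G-action, the balanced product G
×^Z X^h for the fppf topology: Φ is G-equivariant, it is a Z-torsor for the action z (g, x) = (g
z⁻¹, z x), and it has sections fppf-locally on S_Ψ. (The source works with algebraic spaces of
finite type over the complex numbers and a semisimple conjugacy class Ψ, where the identification of
Ψ with G/Z comes from the theory of algebraic groups; here that identification is the hypothesis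
hhom, the base is arbitrary and X is a scheme.) -/
theorem result
    {S : Scheme.{u}} {G X Z Ψ Xh SΨ : Over S} [GrpObj G] [GrpObj Z]
    (a : AlgGrp.Action G X) (h : 𝟙_ (Over S) ⟶ G)
    (i : Z ⟶ G) [IsMonHom i]
    (ψ : Ψ ⟶ G) [Mono ψ] (aΨ : AlgGrp.Action G Ψ)
    (hψ : aΨ.act ≫ ψ = fst G Ψ * (snd G Ψ ≫ ψ) * (fst G Ψ)⁻¹)
    (o : 𝟙_ (Over S) ⟶ Ψ) (ho : o ≫ ψ = h)
    (hhom : ChGrp.IsHomog Scheme.fppfPrecoverage i aΨ o)
    (incl : Xh ⟶ X) [Mono incl]
    (hXh : ∀ (T : Over S) (x : T ⟶ X), (∃ y : T ⟶ Xh, y ≫ incl = x) ↔ lift (toUnit T ≫ h) x ≫ a.act = x)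
    (aXh : AlgGrp.Action Z Xh) (hincl : AlgGrp.Action.IsEquivariant aXh (a.restrict i) incl)
    (σ : SΨ ⟶ G ⊗ X) [Mono σ]
    (hSΨ : ∀ (T : Over S) (g : T ⟶ G) (x : T ⟶ X),
      (∃ q : T ⟶ SΨ, q ≫ σ = lift g x) ↔ ((∃ y : T ⟶ Ψ, y ≫ ψ = g) ∧ lift g x ≫ a.act = x))
    (aS : AlgGrp.Action G SΨ)
    (hσ : aS.act ≫ σ = lift (fst G SΨ * (snd G SΨ ≫ σ ≫ fst G X) * (fst G SΨ)⁻¹)
      (lift (fst G SΨ) (snd G SΨ ≫ σ ≫ snd G X) ≫ a.act))
    (Φ : G ⊗ Xh ⟶ SΨ)
    (hΦ : Φ ≫ σ = lift (fst G Xh * (toUnit (G ⊗ Xh) ≫ h) * (fst G Xh)⁻¹)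
      (lift (fst G Xh) (snd G Xh ≫ incl) ≫ a.act)) :
    ChGrp.IsBalProd Scheme.fppfPrecoverage i aXh aS Φ := by
  haveI : IsMonHom i := inferInstance
  obtain ⟨-, hsq, hloc⟩ := hhom
  -- points forms of the hypotheses
  have pψ : ∀ {T : Over S} (g : T ⟶ G) (y : T ⟶ Ψ),
      (lift g y ≫ aΨ.act) ≫ ψ = g * (y ≫ ψ) * g⁻¹ := fun g y => by
    rw [Category.assoc, hψ, comp_mul, comp_mul, GrpObj.comp_inv, lift_fst, lift_snd_assoc]
  have porb : ∀ {T : Over S} (g : T ⟶ G),
      (g ≫ aΨ.orbitMap o) ≫ ψ = g * (toUnit T ≫ h) * g⁻¹ := fun g => by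
    rw [AlgGrp.Action.comp_orbitMap, pψ, Category.assoc, ho]
  have pincl : ∀ {T : Over S} (z : T ⟶ Z) (x : T ⟶ Xh),
      (lift z x ≫ aXh.act) ≫ incl = lift (z ≫ i) (x ≫ incl) ≫ a.act := fun z x => by
    rw [Category.assoc, hincl, lift_whiskerLeft_assoc, AlgGrp.Action.lift_restrict_act]
  have pfix : ∀ {T : Over S} (x : T ⟶ Xh), lift (toUnit T ≫ h) (x ≫ incl) ≫ a.act = x ≫ incl :=
    fun x => (hXh _ _).1 ⟨x, rfl⟩
  have pΦ : ∀ {T : Over S} (g : T ⟶ G) (x : T ⟶ Xh),
      (lift g x ≫ Φ) ≫ σ = lift (g * (toUnit T ≫ h) * g⁻¹) (lift g (x ≫ incl) ≫ a.act) := fun g x => by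
    rw [Category.assoc, hΦ, comp_lift, comp_mul, comp_mul, GrpObj.comp_inv, lift_fst, comp_lift_assoc, lift_fst,
      lift_snd_assoc, ← Category.assoc, toUnit_unique (lift g x ≫ toUnit _) (toUnit _)]
  have pσ : ∀ {T : Over S} (g : T ⟶ G) (q : T ⟶ SΨ),
      (lift g q ≫ aS.act) ≫ σ = lift (g * (q ≫ σ ≫ fst G X) * g⁻¹) (lift g (q ≫ σ ≫ snd G X) ≫ a.act) :=
    fun g q => by
    rw [Category.assoc, hσ, comp_lift, comp_mul, comp_mul, GrpObj.comp_inv, lift_fst, comp_lift_assoc, lift_fst,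
      lift_snd_assoc, lift_snd_assoc]
  have pr1 : ∀ {T : Over S} (g : T ⟶ G) (x : T ⟶ Xh),
      (lift g x ≫ Φ) ≫ σ ≫ fst G X = g * (toUnit T ≫ h) * g⁻¹ := fun g x => by
    rw [← Category.assoc, pΦ, lift_fst]
  have pr2 : ∀ {T : Over S} (g : T ⟶ G) (x : T ⟶ Xh),
      (lift g x ≫ Φ) ≫ σ ≫ snd G X = lift g (x ≫ incl) ≫ a.act := fun g x => by
    rw [← Category.assoc, pΦ, lift_snd]
  have pair : ∀ {T : Over S} (p : T ⟶ G ⊗ Xh), p = lift (p ≫ fst G Xh) (p ≫ snd G Xh) := fun p => by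
    rw [← comp_lift, lift_fst_snd, Category.comp_id]
  have pair' : ∀ {T : Over S} (p : T ⟶ G ⊗ Z), p = lift (p ≫ fst G Z) (p ≫ snd G Z) := fun p => by
    rw [← comp_lift, lift_fst_snd, Category.comp_id]
  have key : ∀ {T : Over S} (g g' : T ⟶ G), g ≫ aΨ.orbitMap o = g' ≫ aΨ.orbitMap o →
      ∃ w : T ⟶ Z, g * (w ≫ i) = g' := fun g g' e => by
    refine ⟨hsq.lift g g' e ≫ snd G Z, ?_⟩
    have h2 := hsq.lift_snd g g' e
    have h1 := hsq.lift_fst g g' e
    rw [pair' (hsq.lift g g' e), h1, lift_whiskerLeft_assoc, ← Hom.mul_def] at h2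
    exact h2
  have keyu : ∀ {T : Over S} (g : T ⟶ G) (w w' : T ⟶ Z), g * (w ≫ i) = g * (w' ≫ i) → w = w' :=
    fun g w w' e => by
    have : lift g w = lift g w' := hsq.hom_ext (by rw [lift_fst, lift_fst]) (by
      rw [lift_whiskerLeft_assoc, lift_whiskerLeft_assoc, ← Hom.mul_def, ← Hom.mul_def]; exact e)
    simpa using congrArg (· ≫ snd G Z) this
  refine ⟨?_, ?_, ?_⟩
  · -- equivariance
    refine AlgGrp.Action.hom_ext_lift₂ fun T g p => ?_
    rw [pair p]
    set g' := p ≫ fst G Xh with hg'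
    set x := p ≫ snd G Xh with hx
    clear_value g' x
    rw [← cancel_mono σ, ← Category.assoc, AlgGrp.Action.lift_prod_act, lift_whiskerLeft_assoc, pσ, pr1, pr2,
      AlgGrp.Action.lift_trivial_act, pΦ]
    have : lift g g' ≫ (NonAbH1.trivialAction G).act = g * g' := by
      rw [Hom.mul_def]; rfl
    rw [this, _root_.mul_inv_rev, AlgGrp.Action.lift_mul_act]
    simp only [_root_.mul_assoc]
  · -- the cartesian square
    have hcomm : ∀ {T : Over S} (z : T ⟶ Z) (g : T ⟶ G) (x : T ⟶ Xh),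
        (lift z (lift g x) ≫ (ChGrp.twist i aXh).act) ≫ Φ = lift g x ≫ Φ := fun z g x => by
      rw [ChGrp.lift_twist_act, ← cancel_mono σ, pΦ, pΦ, pincl]
      have hz : (toUnit _ ≫ h) * (z ≫ i) = (z ≫ i) * (toUnit _ ≫ h) := by
        have he : (z ≫ i) ≫ aΨ.orbitMap o = (1 : _ ⟶ G) ≫ aΨ.orbitMap o := by
          have hw := hsq.w
          have := congrArg (lift (1 : _ ⟶ G) z ≫ ·) hw
          simp only [lift_fst_assoc, Category.assoc, lift_whiskerLeft_assoc] at this
          rw [← Category.assoc, ← Hom.mul_def, _root_.one_mul] at this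
          exact this.symm
        have := congrArg (· ≫ ψ) he
        rw [porb, porb, _root_.one_mul, inv_one, _root_.mul_one, mul_inv_eq_iff_eq_mul] at this
        exact this.symm
      congr 1
      · rw [_root_.mul_inv_rev, inv_inv]
        simp only [_root_.mul_assoc, mul_right_inj]
        rw [← _root_.mul_assoc (toUnit _ ≫ h), hz]
        simp [_root_.mul_assoc]
      · rw [← AlgGrp.Action.lift_mul_act, inv_mul_cancel_right]
    have sq : (ChGrp.twist i aXh).act ≫ Φ = snd Z (G ⊗ Xh) ≫ Φ := by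
      refine AlgGrp.Action.hom_ext_lift₂ fun T z p => ?_
      rw [pair p, ← Category.assoc, hcomm, lift_snd_assoc]
    have ex : ∀ (s : PullbackCone Φ Φ), ∃ w : s.pt ⟶ Z,
        lift w s.snd ≫ (ChGrp.twist i aXh).act = s.fst := fun s => by
      have hc := s.condition
      rw [pair s.fst, pair s.snd] at hc ⊢
      set g₁ := s.fst ≫ fst G Xh
      set x₁ := s.fst ≫ snd G Xh
      set g₂ := s.snd ≫ fst G Xh
      set x₂ := s.snd ≫ snd G Xh
      clear_value g₁ x₁ g₂ x₂
      have e1 : g₁ * (toUnit _ ≫ h) * g₁⁻¹ = g₂ * (toUnit _ ≫ h) * g₂⁻¹ := by rw [← pr1 g₁ x₁, ← pr1 g₂ x₂, hc]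
      have e2 : lift g₁ (x₁ ≫ incl) ≫ a.act = lift g₂ (x₂ ≫ incl) ≫ a.act := by rw [← pr2 g₁ x₁, ← pr2 g₂ x₂, hc]
      rw [← porb, ← porb, cancel_mono] at e1
      obtain ⟨w, hw⟩ := key g₁ g₂ e1
      refine ⟨w, ?_⟩
      rw [ChGrp.lift_twist_act]
      congr 1
      · rw [← hw, mul_inv_cancel_right]
      · rw [← cancel_mono incl, pincl]
        rw [← hw, AlgGrp.Action.lift_mul_act] at e2
        have := congrArg (fun t => lift g₁⁻¹ t ≫ a.act) e2
        simpa [← AlgGrp.Action.lift_mul_act, AlgGrp.Action.lift_one_act] using this.symm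
    choose w hw using ex
    refine IsPullback.of_isLimit' ⟨sq⟩
      (PullbackCone.IsLimit.mk sq (fun s => lift (w s) s.snd) hw (fun s => lift_snd _ _) fun s m h1 h2 => ?_)
    apply CartesianMonoidalCategory.hom_ext
    · rw [lift_fst]
      have hm : m = lift (m ≫ fst Z (G ⊗ Xh)) s.snd := by
        conv_lhs => rw [← Category.comp_id m, ← lift_fst_snd, comp_lift, h2]
      have h3 := hw s
      rw [hm] at h1
      rw [pair s.snd, ChGrp.lift_twist_act] at h1 h3
      have h4 := congrArg (· ≫ fst G Xh) (h1.trans h3.symm)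
      simp only [lift_fst, mul_right_inj, inv_inj] at h4
      exact keyu 1 _ _ (by rw [h4])
    · rw [lift_snd]; exact h2
  · -- local sections
    obtain ⟨π, hπ⟩ : ∃ π : SΨ ⟶ Ψ, π ≫ ψ = σ ≫ fst G X := by
      obtain ⟨⟨y, hy⟩, -⟩ := (hSΨ SΨ (σ ≫ fst G X) (σ ≫ snd G X)).1
        ⟨𝟙 _, by rw [Category.id_comp, ← comp_lift, lift_fst_snd, Category.comp_id]⟩
      exact ⟨y, hy⟩
    obtain ⟨R, hR, hsec⟩ := hloc
    refine ⟨R.pullbackArrows π.left, Precoverage.pullbackArrows_mem π.left hR, ?_⟩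
    rintro W g ⟨V, u, hu⟩
    obtain ⟨s, hs⟩ := hsec u hu
    replace hs : s ≫ (aΨ.orbitMap o).left = u := hs
    let T : Over S := Over.mk (pullback.snd u π.left ≫ SΨ.hom)
    let q : T ⟶ SΨ := Over.homMk (pullback.snd u π.left) rfl
    let g₀ : T ⟶ G := Over.homMk (pullback.fst u π.left ≫ s) (by
      show (_ ≫ s) ≫ G.hom = pullback.snd u π.left ≫ SΨ.hom
      rw [← Over.w (aΨ.orbitMap o), Category.assoc, reassoc_of% hs, pullback.condition_assoc, Over.w π])
    have hq : g₀ ≫ aΨ.orbitMap o = q ≫ π := by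
      refine Over.OverMorphism.ext ?_
      show (pullback.fst u π.left ≫ s) ≫ _ = pullback.snd u π.left ≫ π.left
      rw [Category.assoc, hs, pullback.condition]
    have e1 : q ≫ σ ≫ fst G X = g₀ * (toUnit T ≫ h) * g₀⁻¹ := by
      rw [← hπ, ← Category.assoc, ← hq, porb]
    obtain ⟨-, e2⟩ := (hSΨ T (q ≫ σ ≫ fst G X) (q ≫ σ ≫ snd G X)).1
      ⟨q, by rw [← comp_lift, ← comp_lift, lift_fst_snd, Category.comp_id]⟩
    rw [e1] at e2
    set x := q ≫ σ ≫ snd G X with hx
    obtain ⟨y, hy⟩ := (hXh T (lift g₀⁻¹ x ≫ a.act)).2 (by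
      conv_rhs => rw [← e2]
      rw [← AlgGrp.Action.lift_mul_act, ← AlgGrp.Action.lift_mul_act]
      simp [_root_.mul_assoc])
    have hf : lift g₀ y ≫ Φ = q := by
      rw [← cancel_mono σ, pΦ, hy, ← AlgGrp.Action.lift_mul_act, mul_inv_cancel, AlgGrp.Action.lift_one_act,
        ← e1, hx, ← comp_lift, ← comp_lift, lift_fst_snd, Category.comp_id]
    exact ⟨(lift g₀ y).left, congrArg CommaMorphism.left hf⟩

end Groth.Agent.S19098
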