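import Groth.Statements.S19099
import Mathlib
import Groth.Agent.CentralExt.Desc
import Groth.Agent.FpqcDescent.Sep
import Groth.Agent.FpqcDescent.Affine

set_option autoImplicit false
universe u
open CategoryTheory MonoidalCategory CartesianMonoidalCategory MonObj AlgebraicGeometry
open ChGrp CategoryTheory.Limits
set_option backward.isDefEq.respectTransparency false

namespace Groth.Agent.S19099

/-- Let S be a scheme, i : G → Q a monomorphic homomorphism of S-group schemes (a closed subgroup), h an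
S-point of G whose image in Q is central, and X an S-scheme with a G-action a. Let incl : X^h → X be
a monomorphism whose points are the points of X fixed by h, with a G-action making incl equivariant
(X^h is G-stable since h is central in G). Let Y with its Q-action and j : Q ×_S X → Y be the
balanced product Q ×^G X for the fppf topology, Y' with j' : Q ×_S X^h → Y' the balanced product Q
×^G X^h, and m : Y' → Y the morphism under which j' followed by m is Q × incl followed by j. Then m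
is a monomorphism, a point of Y factors through m exactly when it is fixed by h acting on Y through
the Q-action, and m is a closed immersion if incl is one: Q ×^G X^h is the fixed locus of h in Q ×^G
X. (The source states this for a smooth algebraic space X of finite type over the complex numbers,
as an equality of closed subspaces, and argues on closed points; the form here is the one its
computation gives for the fppf quotients over any base, with X a scheme.) -/
theorem result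
    {S : Scheme.{u}} {Q G X Xh Y Y' : Over S} [GrpObj Q] [GrpObj G]
    (i : G ⟶ Q) [IsMonHom i] [Mono i]
    (h : 𝟙_ (Over S) ⟶ G)
    (hcent : ∀ (T : Over S) (q : T ⟶ Q), q * (toUnit T ≫ h ≫ i) = (toUnit T ≫ h ≫ i) * q)
    (a : AlgGrp.Action G X)
    (incl : Xh ⟶ X) [Mono incl]
    (hXh : ∀ (T : Over S) (x : T ⟶ X), (∃ y : T ⟶ Xh, y ≫ incl = x) ↔ lift (toUnit T ≫ h) x ≫ a.act = x)
    (aXh : AlgGrp.Action G Xh) (hincl : AlgGrp.Action.IsEquivariant aXh a incl)
    (aY : AlgGrp.Action Q Y) (j : Q ⊗ X ⟶ Y) (hY : ChGrp.IsBalProd Scheme.fppfPrecoverage i a aY j)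
    (aY' : AlgGrp.Action Q Y') (j' : Q ⊗ Xh ⟶ Y') (hY' : ChGrp.IsBalProd Scheme.fppfPrecoverage i aXh aY' j')
    (m : Y' ⟶ Y) (hm : j' ≫ m = (Q ◁ incl) ≫ j) :
    Mono m ∧
      (∀ (T : Over S) (y : T ⟶ Y), (∃ y' : T ⟶ Y', y' ≫ m = y) ↔ lift (toUnit T ≫ h ≫ i) y ≫ aY.act = y) ∧
      (IsClosedImmersion incl.left → IsClosedImmersion m.left) := by
  obtain ⟨heY, hpY, hlY⟩ := hY
  obtain ⟨-, hpY', hlY'⟩ := hY'
  have hsj := CentralExt.hasLocSec_of_isLocallyTrivial j hlY
  have hsj' := CentralExt.hasLocSec_of_isLocallyTrivial j' hlY'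
  have pair : ∀ {T A B : Over S} (p : T ⟶ A ⊗ B), p = lift (p ≫ fst A B) (p ≫ snd A B) := fun p => by
    rw [← comp_lift, lift_fst_snd, Category.comp_id]
  have pm : ∀ {T : Over S} (q : T ⟶ Q) (x : T ⟶ Xh), (lift q x ≫ j') ≫ m = lift q (x ≫ incl) ≫ j :=
    fun q x => by rw [Category.assoc, hm, lift_whiskerLeft_assoc]
  have pincl : ∀ {T : Over S} (g : T ⟶ G) (x : T ⟶ Xh),
      (lift g x ≫ aXh.act) ≫ incl = lift g (x ≫ incl) ≫ a.act := fun g x => by
    rw [Category.assoc, hincl, lift_whiskerLeft_assoc]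
  have pfix : ∀ {T : Over S} (x : T ⟶ Xh), lift (toUnit T ≫ h) (x ≫ incl) ≫ a.act = x ≫ incl :=
    fun x => (hXh _ _).1 ⟨x, rfl⟩
  have pj : ∀ {T : Over S} (g : T ⟶ G) (q : T ⟶ Q) (x : T ⟶ X),
      lift (q * (g ≫ i)⁻¹) (lift g x ≫ a.act) ≫ j = lift q x ≫ j := fun g q x => by
    have := congrArg (lift g (lift q x) ≫ ·) hpY.w
    simp only [lift_snd_assoc] at this
    rwa [← Category.assoc, ChGrp.lift_twist_act] at this
  have pj' : ∀ {T : Over S} (g : T ⟶ G) (q : T ⟶ Q) (x : T ⟶ Xh),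
      lift (q * (g ≫ i)⁻¹) (lift g x ≫ aXh.act) ≫ j' = lift q x ≫ j' := fun g q x => by
    have := congrArg (lift g (lift q x) ≫ ·) hpY'.w
    simp only [lift_snd_assoc] at this
    rwa [← Category.assoc, ChGrp.lift_twist_act] at this
  have kj : ∀ {T : Over S} (q₁ q₂ : T ⟶ Q) (x₁ x₂ : T ⟶ X), lift q₁ x₁ ≫ j = lift q₂ x₂ ≫ j →
      ∃ g : T ⟶ G, q₂ * (g ≫ i)⁻¹ = q₁ ∧ lift g x₂ ≫ a.act = x₁ := fun q₁ q₂ x₁ x₂ e => by
    refine ⟨hpY.lift _ _ e ≫ fst G (Q ⊗ X), ?_⟩
    have h1 := hpY.lift_fst _ _ e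
    have h2 := hpY.lift_snd _ _ e
    rw [pair (hpY.lift _ _ e), h2, ChGrp.lift_twist_act] at h1
    exact ⟨by simpa using congrArg (· ≫ fst Q X) h1, by simpa using congrArg (· ≫ snd Q X) h1⟩
  have pact : ∀ {T : Over S} (q q' : T ⟶ Q) (x : T ⟶ X),
      lift q (lift q' x ≫ j) ≫ aY.act = lift (q * q') x ≫ j := fun q q' x => by
    have := congrArg (lift q (lift q' x) ≫ ·) heY
    simp only [lift_whiskerLeft_assoc] at this
    rw [← this, ← Category.assoc, AlgGrp.Action.lift_prod_act, AlgGrp.Action.lift_trivial_act]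
    rw [Hom.mul_def]; rfl
  have hM : Mono m := ⟨fun {T} y₁ y₂ e => by
    obtain ⟨R, hR, hs⟩ := hsj' T y₁
    refine CentralExt.hom_ext hR fun W f hf => ?_
    obtain ⟨e₁, he₁⟩ := hs f hf
    obtain ⟨R', hR', hs'⟩ := hsj' _ (CentralExt.inc T f ≫ y₂)
    refine CentralExt.hom_ext hR' fun W' f' hf' => ?_
    obtain ⟨e₂, he₂⟩ := hs' f' hf'
    rw [← he₂, ← he₁]
    set e₁' := CentralExt.inc _ f' ≫ e₁ with he₁'
    rw [← Category.assoc, ← he₁']
    have hee : (e₁' ≫ j') ≫ m = (e₂ ≫ j') ≫ m := by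
      rw [he₁', Category.assoc, Category.assoc, he₂, ← Category.assoc e₁, he₁]
      simp only [Category.assoc, e]
    clear_value e₁'
    rw [pair e₁', pair e₂] at hee ⊢
    rw [pm, pm] at hee
    obtain ⟨g, hg1, hg2⟩ := kj _ _ _ _ hee
    rw [← pincl, cancel_mono] at hg2
    rw [← hg1, ← hg2, pj']⟩
  have key : ∀ {T : Over S} (q : T ⟶ Q) (x : T ⟶ X),
      lift (toUnit T ≫ h ≫ i) (lift q x ≫ j) ≫ aY.act = lift q x ≫ j →
        lift (toUnit T ≫ h) x ≫ a.act = x := fun {T} q x e => by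
    rw [pact, ← hcent] at e
    obtain ⟨g, hg1, hg2⟩ := kj _ _ _ _ e
    rw [mul_right_inj, ← GrpObj.inv_comp, ← Category.assoc, cancel_mono] at hg1
    have := congrArg (fun t => lift g⁻¹ t ≫ a.act) hg2
    simp only [← AlgGrp.Action.lift_mul_act, inv_mul_cancel, AlgGrp.Action.lift_one_act] at this
    rw [← hg1]
    exact this.symm
  have fwd : ∀ {T : Over S} (y' : T ⟶ Y'), lift (toUnit T ≫ h ≫ i) (y' ≫ m) ≫ aY.act = y' ≫ m := fun {T} y' => by
    obtain ⟨R, hR, hs⟩ := hsj' T y'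
    refine CentralExt.hom_ext hR fun W f hf => ?_
    obtain ⟨e, he⟩ := hs f hf
    rw [comp_lift_assoc, ← Category.assoc, toUnit_unique (_ ≫ toUnit T) (toUnit _),
      ← Category.assoc (CentralExt.inc T f) y' m, ← he, pair e, pm, pact, ← hcent]
    have := pj (toUnit _ ≫ h) ((e ≫ fst Q Xh) * (toUnit _ ≫ h ≫ i)) ((e ≫ snd Q Xh) ≫ incl)
    rw [Category.assoc, mul_inv_cancel_right, pfix] at this
    exact this.symm
  have hiff : ∀ (T : Over S) (y : T ⟶ Y),
      (∃ y' : T ⟶ Y', y' ≫ m = y) ↔ lift (toUnit T ≫ h ≫ i) y ≫ aY.act = y := fun T y => by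
    refine ⟨fun ⟨y', hy⟩ => hy ▸ fwd y', fun e => ?_⟩
    obtain ⟨R, hR, hs⟩ := hsj T y
    have hloc : ∀ ⦃W : Scheme.{u}⦄ (f : W ⟶ T.left), R f →
        ∃ t : CentralExt.mem T f ⟶ Y', t ≫ m = CentralExt.inc T f ≫ y := fun W f hf => by
      obtain ⟨s, hs⟩ := hs f hf
      rw [pair s] at hs
      have e' := congrArg (CentralExt.inc T f ≫ ·) e
      rw [comp_lift_assoc, ← Category.assoc, toUnit_unique (_ ≫ toUnit T) (toUnit _), ← hs] at e'
      obtain ⟨x', hx'⟩ := (hXh _ _).2 (key _ _ e')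
      exact ⟨lift (s ≫ fst Q X) x' ≫ j', by rw [pm, hx', hs]⟩
    choose t ht using hloc
    have hml : Mono m.left := inferInstance
    obtain ⟨t₀, ht₀, -⟩ := CentralExt.isSheafFor_fppf hR Y'.left (fun W f hf => (t f hf).left)
      (fun W₁ W₂ V g₁ g₂ f₁ f₂ h₁ h₂ eq => by
        show g₁ ≫ (t f₁ h₁).left = g₂ ≫ (t f₂ h₂).left
        rw [← cancel_mono m.left, Category.assoc, Category.assoc, ← Over.comp_left, ← Over.comp_left, ht, ht,
          Over.comp_left, Over.comp_left]
        show g₁ ≫ f₁ ≫ y.left = g₂ ≫ f₂ ≫ y.left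
        rw [← Category.assoc, eq, Category.assoc])
    have hfac : t₀ ≫ m.left = y.left := (CentralExt.isSheafFor_fppf hR Y.left).isSeparatedFor.ext fun W f hf => by
      show f ≫ t₀ ≫ m.left = f ≫ y.left
      rw [← Category.assoc, show f ≫ t₀ = (t f hf).left from ht₀ f hf, ← Over.comp_left, ht]
      rfl
    exact ⟨Over.homMk t₀ (by rw [← Over.w m, ← Category.assoc, hfac, Over.w y]), Over.OverMorphism.ext hfac⟩
  refine ⟨hM, hiff, fun hc => ?_⟩
  have sqW : IsPullback (Q ◁ incl) (snd Q Xh) (snd Q X) incl := by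
    refine IsPullback.of_isLimit' ⟨whiskerLeft_snd _ _⟩ (PullbackCone.IsLimit.mk _
      (fun s => lift (s.fst ≫ fst Q X) s.snd) (fun s => ?_) (fun s => lift_snd _ _) fun s w h1 h2 => ?_)
    · rw [lift_whiskerLeft, ← s.condition, ← pair]
    · rw [pair w, h2]
      congr 1
      rw [← h1, Category.assoc, whiskerLeft_fst]
  have sqM : IsPullback (Q ◁ incl) j' j m := by
    have : Mono (Q ◁ incl) := ⟨fun p q e => sqW.hom_ext e (by
      rw [← cancel_mono incl, Category.assoc, Category.assoc, ← sqW.w, reassoc_of% e])⟩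
    have ex : ∀ s : PullbackCone j m, ∃ x : s.pt ⟶ Xh, x ≫ incl = s.fst ≫ snd Q X := fun s => by
      have e : lift (toUnit s.pt ≫ h ≫ i) (s.fst ≫ j) ≫ aY.act = s.fst ≫ j := s.condition ▸ fwd s.snd
      rw [pair s.fst] at e
      exact (hXh _ _).2 (key _ _ e)
    choose x hx using ex
    have hl : ∀ s : PullbackCone j m, lift (s.fst ≫ fst Q X) (x s) ≫ (Q ◁ incl) = s.fst := fun s => by
      rw [lift_whiskerLeft, hx, ← pair]
    refine IsPullback.of_isLimit' ⟨hm.symm⟩ (PullbackCone.IsLimit.mk _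
      (fun s => lift (s.fst ≫ fst Q X) (x s)) hl (fun s => ?_) fun s w h1 h2 => ?_)
    · rw [← cancel_mono m, pm, hx, ← pair, s.condition]
    · rw [← cancel_mono (Q ◁ incl), h1, hl]
  have hQi : IsClosedImmersion (Q ◁ incl).left :=
    MorphismProperty.of_isPullback (P := @IsClosedImmersion) (sqW.map (Over.forget S)).flip hc
  obtain ⟨R, hR, hs⟩ := hlY
  refine FpqcDescent.of_fpqcPrecoverage @IsClosedImmersion m.left
    (Scheme.fppfPrecoverage_le_fpqcPrecoverage _ hR) fun W f hf => ?_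
  obtain ⟨s, hs⟩ := hs f hf
  replace hs : s ≫ j.left = f := hs
  have h1 : IsClosedImmersion (pullback.fst s (Q ◁ incl).left) :=
    MorphismProperty.pullback_fst (P := @IsClosedImmersion) _ _ hQi
  have sq' : IsPullback (pullback.snd s (Q ◁ incl).left ≫ j'.left) (pullback.fst s (Q ◁ incl).left) m.left f :=
    hs ▸ ((IsPullback.of_hasPullback s (Q ◁ incl).left).flip.paste_horiz (sqM.map (Over.forget S)).flip)
  rw [← sq'.isoPullback_inv_snd]
  exact (MorphismProperty.cancel_left_of_respectsIso @IsClosedImmersion _ _).2 h1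

end Groth.Agent.S19099
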