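import Groth.Statements.S19101
import Groth.Agent.Conormal.BaseChange

set_option autoImplicit false
set_option linter.style.haveILetI false
set_option backward.isDefEq.respectTransparency false
open Groth.Agent
open CategoryTheory MonoidalCategory CartesianMonoidalCategory MonObj AlgebraicGeometry Limits
open Omega

namespace Groth.Agent.S19101

/-- Over S = Spec ℂ let G be an affine group scheme of finite type, Y a scheme over ℂ, and X a scheme
over Y carrying an action, over Y, of the base change G_Y of G to Y which makes X an fppf torsor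
under G over Y. Let g : X ×_Y X → G be the morphism determined by g(h x, x) = h, i.e. the composite
of the inverse of the isomorphism G_Y ×_Y X → X ×_Y X, (h, x) ↦ (h x, x), with the projection to G;
the diagonal X → X ×_Y X and the unit section Spec ℂ → G then form a commutative (indeed cartesian)
square with g and X → Spec ℂ. Then there is a map of conormal sheaves for this square, from the
pullback to X of the conormal sheaf m_e/m_e² of the unit section (the trivial bundle with fibre the
dual of the Lie algebra 𝔤) to the conormal sheaf of the diagonal, which is the sheaf of relative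
differentials Ω_{X/Y}, characterised by sending the class of a local equation of the unit section to
the class of its pullback under g, and this map is an isomorphism: Ω_{X/Y} ≅ O_X ⊗ 𝔤^∨ canonically.
(The source states the dual form T_f = X × 𝔤 for algebraic spaces and moreover as G-equivariant
bundles for the adjoint action; the equivariance is not expressed here, and X, Y are schemes.) -/
theorem result
    {G Y : Over (Spec (CommRingCat.of ℂ))} [GrpObj G] [IsAffine G.left] [LocallyOfFiniteType G.hom]
    {X : Over Y.left} (a : AlgGrp.Action (Red.bc Y.hom G) X)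
    (hX : NonAbH1.IsTorsorFor Scheme.fppfPrecoverage a)
    (g : pullback X.hom X.hom ⟶ G.left)
    (hg : (lift a.act (snd (Red.bc Y.hom G) X)).left ≫ g =
      (fst (Red.bc Y.hom G) X).left ≫ pullback.fst G.hom Y.hom) :
    ∃ φ : (Scheme.Modules.pullback (toUnit (Over.mk (X.hom ≫ Y.hom) : Over (Spec (CommRingCat.of ℂ)))).left).obj
        (Omega.conormal (η[G]).left) ⟶ Omega.conormal (pullback.diagonal X.hom),
      OmegaSh.IsConormalMap (pullback.diagonal X.hom) (η[G]).left g
        (toUnit (Over.mk (X.hom ≫ Y.hom) : Over (Spec (CommRingCat.of ℂ)))).left φ ∧ IsIso φ := by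
  classical
  let π := Y.hom
  let GY := Red.bc π G
  have hunit : (η[GY]).left ≫ pullback.fst G.hom π = π ≫ (η[G]).left := by
    rw [Functor.obj.η_def, Over.comp_left, Category.assoc]
    have h1 : ((Over.pullback π).map η[G]).left ≫ pullback.fst G.hom π =
        pullback.fst (𝟙_ (Over (Spec (CommRingCat.of ℂ)))).hom π ≫ (η[G]).left := by
      simp [Over.pullback]
    have h2 : (Functor.LaxMonoidal.ε (Over.pullback π)).left ≫
        pullback.fst (𝟙_ (Over (Spec (CommRingCat.of ℂ)))).hom π = π := by
      have hc := pullback.condition (f := (𝟙_ (Over (Spec (CommRingCat.of ℂ)))).hom) (g := π)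
      have hw := Over.w (Functor.LaxMonoidal.ε (Over.pullback π))
      have h3 : (Functor.LaxMonoidal.ε (Over.pullback π)).left ≫
          pullback.snd (𝟙_ (Over (Spec (CommRingCat.of ℂ)))).hom π = 𝟙 _ := hw
      have hc' : pullback.fst (𝟙_ (Over (Spec (CommRingCat.of ℂ)))).hom π =
          pullback.snd (𝟙_ (Over (Spec (CommRingCat.of ℂ)))).hom π ≫ π := (Category.comp_id _).symm.trans hc
      rw [hc', ← Category.assoc]
      exact (congrArg (· ≫ π) h3).trans (Category.id_comp π)
    rw [h1, ← Category.assoc, h2]
  let q : pullback GY.hom X.hom ⟶ G.left := pullback.fst GY.hom X.hom ≫ pullback.fst G.hom π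
  have hq : IsPullback q (pullback.snd GY.hom X.hom) G.hom (X.hom ≫ π) :=
    (IsPullback.of_hasPullback GY.hom X.hom).paste_horiz (IsPullback.of_hasPullback G.hom π)
  haveI hflatS : Flat (X.hom ≫ π) := by
    refine Flat.of_stalkMap _ fun z => RingHom.Flat.of_isField ?_ _
    generalize (X.hom ≫ π) z = p
    let R : CommRingCat := CommRingCat.of ℂ
    letI : Algebra R ((Spec R).presheaf.stalk p) := (StructureSheaf.toStalk R p).hom.toAlgebra
    haveI : IsLocalization p.asIdeal.primeCompl ((Spec R).presheaf.stalk p) :=
      inferInstanceAs (IsLocalization.AtPrime ((AlgebraicGeometry.structurePresheafInCommRingCat R).stalk p) p.asIdeal)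
    letI : Field R := inferInstanceAs (Field ℂ)
    have hu : p.asIdeal.primeCompl ≤ IsUnit.submonoid R := fun r hr =>
      Ne.isUnit (fun h0 => hr (by rw [h0]; exact p.asIdeal.zero_mem))
    exact MulEquiv.isField (Field.toIsField R)
      (IsLocalization.atUnits R p.asIdeal.primeCompl hu).symm.toMulEquiv
  have hqflat : Flat q := MorphismProperty.of_isPullback hq.flip hflatS
  let eX : X.left ⟶ pullback GY.hom X.hom := pullback.lift (X.hom ≫ (η[GY]).left) (𝟙 _)
    (by rw [Category.assoc, Over.w η[GY]]; exact (Category.comp_id _).trans (Category.id_comp _).symm)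
  have heq : eX ≫ q = (X.hom ≫ π) ≫ (η[G]).left := by
    show eX ≫ pullback.fst GY.hom X.hom ≫ pullback.fst G.hom π = _
    rw [pullback.lift_fst_assoc, Category.assoc, Category.assoc, hunit]
  have hsq0 : IsPullback eX (X.hom ≫ π) q (η[G]).left := by
    refine (IsPullback.of_right ?_ heq hq.flip).flip.flip
    rw [pullback.lift_snd, show (η[G]).left ≫ G.hom = 𝟙 _ from Over.w η[G]]
    haveI : IsIso (𝟙 X.left) := inferInstance
    exact @IsPullback.of_horiz_isIso _ _ _ _ _ _ _ _ _ _ (IsIso.id X.left) (IsIso.id _) ⟨by simp⟩
  haveI : IsIso (lift a.act (snd GY X)).left := by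
    haveI : IsIso (lift a.act (snd GY X)) := hX.1
    exact inferInstanceAs (IsIso ((Over.forget Y.left).map (lift a.act (snd GY X))))
  let Φ : pullback GY.hom X.hom ≅ pullback X.hom X.hom := asIso (lift a.act (snd GY X)).left
  have hΦg : Φ.hom ≫ g = q := hg
  have hdiag : eX ≫ Φ.hom = pullback.diagonal X.hom := by
    have h1 : eX = (lift (toUnit X ≫ η[GY]) (𝟙 X)).left := by
      rw [Over.lift_left]
      rfl
    have h2 : lift (toUnit X ≫ η[GY]) (𝟙 X) ≫ lift a.act (snd GY X) = lift (𝟙 X) (𝟙 X) := by
      apply CartesianMonoidalCategory.hom_ext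
      · have h3 := lift (toUnit X) (𝟙 X) ≫= a.one_act
        rw [lift_whiskerRight_assoc, lift_leftUnitor_hom] at h3
        simpa using h3
      · simp
    show eX ≫ (lift a.act (snd GY X)).left = _
    rw [h1, ← Over.comp_left, h2, Over.lift_left]
    rfl
  have hflat : Flat g := by
    have h : g = Φ.inv ≫ q := by rw [← hΦg, Iso.inv_hom_id_assoc]
    rw [h]
    exact MorphismProperty.comp_mem _ _ _ inferInstance hqflat
  have hsq : IsPullback (pullback.diagonal X.hom) (X.hom ≫ π) g (η[G]).left :=
    hsq0.of_iso (Iso.refl _) Φ (Iso.refl _) (Iso.refl _) (by simp [hdiag]) (by simp) (by simp [hΦg]) (by simp)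
  have hgZ : (toUnit (Over.mk (X.hom ≫ Y.hom) : Over (Spec (CommRingCat.of ℂ)))).left = X.hom ≫ π :=
    Over.toUnit_left
  haveI : QuasiCompact (pullback.diagonal X.hom) :=
    MorphismProperty.of_isPullback (P := @QuasiCompact) hsq.flip inferInstance
  haveI : IsImmersion (pullback.diagonal X.hom) := inferInstance
  obtain ⟨φ, hφ, -⟩ := Conormal.existsUnique_conormalMap (pullback.diagonal X.hom) (η[G]).left g
    (toUnit (Over.mk (X.hom ≫ Y.hom) : Over (Spec (CommRingCat.of ℂ)))).left (by rw [hgZ]; exact hsq.w.symm)
  exact ⟨φ, hφ, (Conormal.epi_isIso_of_isPullback (hsq := by rw [hgZ]; exact hsq) hφ).2 hflat⟩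

end Groth.Agent.S19101
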