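import Groth.Statements.S19102
import Groth.Agent.ClassFn.Trace
import Groth.Agent.ClassFn.Points
import Groth.Agent.Comod.Coeff
import Groth.Agent.S14851

set_option autoImplicit false
open CategoryTheory MonoidalCategory CartesianMonoidalCategory MonObj AlgebraicGeometry
open scoped TensorProduct
open HopfRep

namespace Groth.Agent.S19102

open scoped TensorProduct Groth.Agent.Comod

theorem amap_trace {A B : Type} [CommRing A] [Algebra ℂ A] [CommRing B] [Algebra ℂ B] (f : A →ₐ[ℂ] B)
    {m : Type} [Fintype m] (X : Matrix m m A) : f X.trace = (X.map f).trace := by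
  simp [Matrix.trace]

/-- The character of a comodule on a coordinate space. -/
noncomputable def chi {A : Type} [CommRing A] [HopfAlgebra ℂ A]
    (p : Σ d : ℕ, HopfRep.Comod ℂ A (Fin d → ℂ)) : A :=
  ∑ i : Fin p.1, TensorProduct.lid ℂ A (LinearMap.rTensor A (LinearMap.proj i)
    (@HopfRep.Comod.coact ℂ A _ _ _ _ (Fin p.1 → ℂ) _ _ p.2 (Pi.single i 1)))


/-- Let A be a finitely generated commutative Hopf algebra over the complex numbers all of whose
finite-dimensional comodules are semisimple (a linearly reductive complex linear algebraic group G =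
Spec A, connected or not; over the complex numbers these are the groups whose identity component has
a torus as radical, the reductive groups of the source). For a comodule structure on the coordinate
space ℂ^d with coaction e_i ↦ Σ_j e_j ⊗ a_ji, its character is the element Σ_i a_ii of A. Then (1)
an element f of A is a class function, meaning f(x g x⁻¹) = f(g) for all points x, g of G with
values in any ℂ-scheme, if and only if f is a ℂ-linear combination of characters; and (2) the
characters of finitely many simple comodule structures on coordinate spaces, pairwise non-isomorphic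
(no linear isomorphism intertwines the coactions), are linearly independent over ℂ. In other words
the character map from the complexified representation ring of G to the ring of class functions on G
is bijective. (The source's further assertion that R(G) is a finitely generated algebra for every G
is not restated.) -/
theorem result
    (A : Type) [CommRing A] [HopfAlgebra ℂ A] [Algebra.FiniteType ℂ A]
    (hred : HopfRep.IsLinearlyReductive ℂ A) :
    (∀ f : A,
      (∀ (T : Over (Spec (CommRingCat.of ℂ))) (x g : T ⟶ CoactBr.sp ℂ A),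
          (x * g * x⁻¹).left.appTop ((Scheme.ΓSpecIso (CommRingCat.of A)).inv f) =
            g.left.appTop ((Scheme.ΓSpecIso (CommRingCat.of A)).inv f)) ↔
        f ∈ Submodule.span ℂ (Set.range fun p : (Σ d : ℕ, HopfRep.Comod ℂ A (Fin d → ℂ)) =>
          ∑ i : Fin p.1, TensorProduct.lid ℂ A (LinearMap.rTensor A (LinearMap.proj i)
            (@HopfRep.Comod.coact ℂ A _ _ _ _ (Fin p.1 → ℂ) _ _ p.2 (Pi.single i 1))))) ∧
    (∀ (n : ℕ) (d : Fin n → ℕ) (c : (i : Fin n) → HopfRep.Comod ℂ A (Fin (d i) → ℂ)),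
      (∀ i, @HopfRep.IsSimpleComod ℂ A _ _ _ _ (Fin (d i) → ℂ) _ _ (c i)) →
      (∀ i j, i ≠ j → ∀ P : (Fin (d i) → ℂ) ≃ₗ[ℂ] (Fin (d j) → ℂ),
          LinearMap.rTensor A P.toLinearMap ∘ₗ @HopfRep.Comod.coact ℂ A _ _ _ _ (Fin (d i) → ℂ) _ _ (c i) ≠
            (@HopfRep.Comod.coact ℂ A _ _ _ _ (Fin (d j) → ℂ) _ _ (c j)) ∘ₗ P.toLinearMap) →
      LinearIndependent ℂ (fun i : Fin n => ∑ t : Fin (d i), TensorProduct.lid ℂ A (LinearMap.rTensor A (LinearMap.proj t)
            (@HopfRep.Comod.coact ℂ A _ _ _ _ (Fin (d i) → ℂ) _ _ (c i) (Pi.single t 1))))) := by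
  classical
  have hchi : ∀ p : (Σ d : ℕ, HopfRep.Comod ℂ A (Fin d → ℂ)), ∃ w : Matrix (Fin p.1) (Fin p.1) A,
      Comod.IsCorep (k := ℂ) w ∧ chi p = w.trace := fun p => CharRing.exists_corep_trace_eq p
  refine ⟨fun f => (ClassFn.class_iff (k := ℂ) f).trans ⟨fun hf => ?_, fun hf => ?_⟩, ?_⟩
  · -- averaging
    obtain ⟨n, M, hM, hmem⟩ := Comod.exists_corep_of_finset ℂ ({f} : Finset A)
    obtain ⟨c, hc⟩ := (Submodule.mem_span_range_iff_exists_fun ℂ).mp (hmem f (Finset.mem_singleton_self f))
    let P : Matrix (Fin n) (Fin n) ℂ := Matrix.of fun j i => c (i, j)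
    have hfP : f = (Comod.sc P * M).trace := by
      rw [← hc, Fintype.sum_prod_type_right]
      simp [Matrix.trace, Matrix.mul_apply, Comod.sc, P, Algebra.smul_def]
    obtain ⟨l, hl1, hl⟩ := Comod.exists_integral hred
    let L : A ⊗[ℂ] A →ₗ[ℂ] A := Comod.cL l
    let j₁ : A →ₐ[ℂ] A ⊗[ℂ] A := Algebra.TensorProduct.includeLeft
    let j₂ : A →ₐ[ℂ] A ⊗[ℂ] A := Algebra.TensorProduct.includeRight
    let Y : Matrix (Fin n) (Fin n) A := M.map (HopfAlgebra.antipodeAlgHom ℂ A) * Comod.sc P * M
    let Q : Matrix (Fin n) (Fin n) ℂ := Comod.avgL l M P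
    have hQ : Comod.sc Q * M = M * Comod.sc Q := Comod.avgL_comm hM fun i j => hl _
    have h1 : ClassFn.conjHom (k := ℂ) f = (Y.map j₁ * M.map j₂).trace := by
      rw [hfP, amap_trace, Matrix.map_mul, Comod.sc_map, ClassFn.map_conjHom hM]
      simp only [Y, Matrix.map_mul, Comod.sc_map]
      rw [← Matrix.mul_assoc, ← Matrix.mul_assoc, Matrix.trace_mul_comm]
      simp only [Matrix.mul_assoc]
      rfl
    have hLm : ∀ (y m : A), L (j₁ y * j₂ m) = l y • m := fun y m => by simp [L, j₁, j₂]
    have h2 : L (ClassFn.conjHom (k := ℂ) f) = (Comod.sc Q * M).trace := by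
      rw [h1]
      simp only [Matrix.trace, Matrix.diag, map_sum, Matrix.mul_apply, Matrix.map_apply, hLm]
      simp [Q, Y, Comod.avgL, Comod.sc, Algebra.smul_def]
    have h3 : L (ClassFn.conjHom (k := ℂ) f) = f := by rw [hf]; simp [L, hl1]
    rw [← h3, h2]
    refine ClassFn.trace_mem_span (fun m _ _ N hN => ?_) _ rfl hM hQ
    obtain ⟨p, hp⟩ := CharRing.exists_chi_eq_trace hN
    exact Submodule.subset_span ⟨p, hp⟩
  · induction hf using Submodule.span_induction with
    | mem x hx =>
      obtain ⟨p, rfl⟩ := hx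
      obtain ⟨w, hw, hwp⟩ := hchi p
      show ClassFn.conjHom (k := ℂ) (chi p) = (1 : A) ⊗ₜ[ℂ] chi p
      rw [hwp, amap_trace, ClassFn.map_conjHom hw, Matrix.trace_mul_comm, ← Matrix.mul_assoc,
        ← Matrix.map_mul, hw.antipode_mul, Matrix.map_one _ (map_zero _) (map_one _), Matrix.one_mul]
      exact (amap_trace (Algebra.TensorProduct.includeRight : A →ₐ[ℂ] A ⊗[ℂ] A) w).symm
    | zero => simp
    | add x y _ _ hx hy => rw [map_add, hx, hy, TensorProduct.tmul_add]
    | smul a x _ hx => rw [map_smul, hx, TensorProduct.tmul_smul]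
  · intro n d c hsimple hne
    let D : Fin n → Submodule ℂ A := fun i =>
      @Comod.cf ℂ _ A _ _ _ (Fin (d i) → ℂ) _ _ (c i) ⊤
    have hD : ∀ i, Comod.IsSimpleSubcoalg ℂ A (D i) := fun i => by
      letI := c i
      have hs := (Comod.isSimpleComod_iff ℂ A (Fin (d i) → ℂ)).mp (hsimple i)
      haveI : IsSimpleModule (Comod.CDual ℂ A) (⊤ : Submodule (Comod.CDual ℂ A) (Fin (d i) → ℂ)) :=
        IsSimpleModule.congr (R := Comod.CDual ℂ A) Submodule.topEquiv
      have h := Comod.isSimpleSubcoalg_cf (⊤ : Submodule (Comod.CDual ℂ A) (Fin (d i) → ℂ))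
      rwa [show Comod.ofDSub (⊤ : Submodule (Comod.CDual ℂ A) (Fin (d i) → ℂ)) = ⊤ from
        Comod.ofDSub_eq_top.mpr rfl] at h
    have hinj : Function.Injective D := by
      intro i j hij
      by_contra hne'
      obtain ⟨e, he⟩ := @S14851.result ℂ A _ _ _ _ (Fin (d i) → ℂ) _ _ (c i) (Fin (d j) → ℂ) _ _ (c j)
        (hsimple i) (hsimple j) (D i) (@Comod.isLeast_cf ℂ _ A _ _ _ (Fin (d i) → ℂ) _ _ (c i))
        (hij ▸ @Comod.isLeast_cf ℂ _ A _ _ _ (Fin (d j) → ℂ) _ _ (c j))
      exact hne i j hne' e he.symm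
    have hind : iSupIndep D :=
      ((sSupIndep_iff _).mp (Comod.sSupIndep_simpleSubcoalg (K := ℂ) (C := A))).comp
        (f := fun i => (⟨D i, hD i⟩ : {D : Submodule ℂ A | Comod.IsSimpleSubcoalg ℂ A D}))
        fun i j h => hinj (congrArg Subtype.val h)
    refine hind.linearIndependent D (fun i => ?_) (fun i => ?_)
    · refine sum_mem fun t _ => ?_
      have h := @Comod.mem_cf_of_mem ℂ _ A _ _ _ (Fin (d i) → ℂ) _ _ (c i) ⊤ (LinearMap.proj t)
        (Pi.single t (1 : ℂ)) trivial
      simp only [Comod.cL, LinearMap.coe_comp, LinearEquiv.coe_coe, Function.comp_apply] at h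
      exact h
    · obtain ⟨w, hw, hwp⟩ := hchi ⟨d i, c i⟩
      intro h0
      have h1 : w.trace = 0 := hwp.symm.trans h0
      have h2 := congrArg (Bialgebra.counitAlgHom ℂ A) h1
      rw [amap_trace, hw.map_counit, map_zero, Matrix.trace_one, Fintype.card_fin,
        Nat.cast_eq_zero] at h2
      have hnt : Nontrivial (Fin (d i) → ℂ) := (hsimple i).1
      have : IsEmpty (Fin (d i)) := Fintype.card_eq_zero_iff.mp (by simpa using h2)
      exact not_subsingleton (Fin (d i) → ℂ) inferInstance

end Groth.Agent.S19102
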