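import Groth.Statements.S19106
-- import your own Groth.Agent.* helpers here
import Mathlib

set_option autoImplicit false
open HilbD

namespace Groth.Agent.S19106

/-- Let μ be a non-empty Young diagram, V the number of its cells, E the number of unordered pairs of
cells sharing a side (a cell together with the cell immediately below it, or immediately to its
right, both in μ) and Q the number of 2 × 2 blocks of cells of μ (cells c such that the cell
diagonally below-right of c is in μ, the other two corners being in μ automatically). Then V − E + Q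
− 1 = 0, stated as V + Q = E + 1 in the naturals. (The empty diagram, for which the count reads 0 −
0 + 0 − 1, is excluded.) -/
theorem result (μ : YoungDiagram) (hμ : μ ≠ ⊥) :
    μ.cells.card + (μ.cells.filter (fun c => (c.1 + 1, c.2 + 1) ∈ μ)).card =
      (μ.cells.filter (fun c => (c.1 + 1, c.2) ∈ μ)).card + (μ.cells.filter (fun c => (c.1, c.2 + 1) ∈ μ)).card + 1 := by
  classical
  have h00 : ((0, 0) : ℕ × ℕ) ∈ μ := by
    obtain ⟨c, hc⟩ := Finset.nonempty_iff_ne_empty.mpr (fun h => hμ (YoungDiagram.ext (by simpa using h)))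
    exact μ.up_left_mem (Nat.zero_le _) (Nat.zero_le _) hc
  have key : ∀ a b : ℕ, (μ.cells.filter fun c => (c.1 + a, c.2 + b) ∈ μ).card =
      (μ.cells.filter fun c => a ≤ c.1 ∧ b ≤ c.2).card := by
    intro a b
    refine Finset.card_nbij' (fun c => (c.1 + a, c.2 + b)) (fun c => (c.1 - a, c.2 - b)) ?_ ?_ ?_ ?_
    · intro c hc
      simp only [Finset.mem_coe, Finset.mem_filter, YoungDiagram.mem_cells] at hc ⊢
      exact ⟨hc.2, by omega, by omega⟩
    · intro c hc
      simp only [Finset.mem_coe, Finset.mem_filter, YoungDiagram.mem_cells] at hc ⊢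
      refine ⟨μ.up_left_mem (Nat.sub_le _ _) (Nat.sub_le _ _) hc.1, ?_⟩
      rw [Nat.sub_add_cancel hc.2.1, Nat.sub_add_cancel hc.2.2]
      exact hc.1
    · intro c _; exact Prod.ext (Nat.add_sub_cancel ..) (Nat.add_sub_cancel ..)
    · intro c hc
      simp only [Finset.mem_coe, Finset.mem_filter] at hc
      exact Prod.ext (Nat.sub_add_cancel hc.2.1) (Nat.sub_add_cancel hc.2.2)
  have k10 := key 1 0
  have k01 := key 0 1
  simp only [add_zero] at k10 k01
  rw [key 1 1, k10, k01]
  have hu := Finset.card_union_add_card_inter (μ.cells.filter fun c => 1 ≤ c.1 ∧ 0 ≤ c.2)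
    (μ.cells.filter fun c => 0 ≤ c.1 ∧ 1 ≤ c.2)
  rw [← Finset.filter_or, ← Finset.filter_and] at hu
  have hand : (μ.cells.filter fun c => (1 ≤ c.1 ∧ 0 ≤ c.2) ∧ (0 ≤ c.1 ∧ 1 ≤ c.2)) =
      μ.cells.filter fun c => 1 ≤ c.1 ∧ 1 ≤ c.2 := Finset.filter_congr fun c _ => by omega
  have hor : (μ.cells.filter fun c => (1 ≤ c.1 ∧ 0 ≤ c.2) ∨ (0 ≤ c.1 ∧ 1 ≤ c.2)) =
      μ.cells.erase (0, 0) := by
    ext c
    simp only [Finset.mem_filter, Finset.mem_erase, ne_eq, Prod.ext_iff]
    exact ⟨fun h => ⟨fun h2 => by omega, h.1⟩, fun h => ⟨h.2, by by_contra h3; exact h.1 (by omega)⟩⟩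
  rw [hand, hor, Finset.card_erase_of_mem ((YoungDiagram.mem_cells _).mpr h00)] at hu
  have : 0 < μ.cells.card := Finset.card_pos.mpr ⟨_, (YoungDiagram.mem_cells _).mpr h00⟩
  omega

end Groth.Agent.S19106
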