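import Groth.Statements.S19107
import Groth.Agent.RelGen.GMUnivClosed
import Groth.Agent.AlgStLib.AlgClosedLift
import Groth.Agent.AlgStLib.DiagSurj

set_option autoImplicit false
set_option backward.isDefEq.respectTransparency false
set_option backward.isDefEq.respectTransparency.types false
universe u
open CategoryTheory AlgebraicGeometry
open StMod

namespace Groth.Agent.S19107

theorem secAtBase_eq {S : Scheme.{u}} {M : AlgSp.Sp S} {o₁ o₂ : (AlgSt.ofSp M).obj} {T : Over S} (β : o₁ ⟶ o₂)
    (e₁ : o₁.base = T) (e₂ : o₂.base = T) (hβ : β.hom = eqToHom (e₁.trans e₂.symm)) :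
    M.obj.map (eqToHom e₁.symm).op o₁.sec = M.obj.map (eqToHom e₂.symm).op o₂.sec := by
  obtain ⟨B₁, s₁⟩ := o₁
  obtain ⟨B₂, s₂⟩ := o₂
  dsimp only at e₁ e₂
  subst e₁
  subst e₂
  have h := β.map_sec
  rw [hβ] at h
  simp at h ⊢
  exact h.symm

/-- Let `S` be a quasi-separated scheme, `𝒳` an algebraic stack over `(Sch/S)` for the fppf topology,
`M` an algebraic space over `S` that is quasi-separated over `S`, and `π : 𝒳 ⟶ M` a quasi-compact
quasi-separated good moduli space which is a tame moduli space: for every algebraically closed field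
`Ω` and every `Spec Ω ⟶ S`, `π` induces a bijection between isomorphism classes of objects of `𝒳`
over `Spec Ω` and sections of `M` over `Spec Ω`. Then `π` is a universal homeomorphism (every base
change of `π` to an algebraic stack is a homeomorphism on points). Here a good moduli space is a
quasi-compact quasi-separated morphism to an algebraic space along which pushforward takes
surjections of quasi-coherent modules to maps surjective on sections over every affine scheme etale
over the target (cohomological affineness), and for which the canonical map from the functions on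
any scheme etale over the target to the sections of the pushforward of the structure sheaf is
bijective. (Standing conventions of the source: all schemes and algebraic spaces are quasi-separated
and all stacks have quasi-compact separated diagonal; this row carries instead the
quasi-separatedness of `M` over a quasi-separated base scheme and of `π`, which is what the
arguments use.) -/
theorem result
    (S : Scheme.{u}) [QuasiSeparatedSpace S]
    (𝒳 : AlgSt.Cat S) (h𝒳 : AlgSt.IsAlgStack Scheme.fppfPrecoverage 𝒳)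
    (M : AlgSp.Space S) (hM : AlgSp.IsQuasiSeparatedSp M.obj) (π : 𝒳 ⥤ᵇ AlgSt.ofSp M.obj)
    (hqc : AlgSt.IsQuasiCompactMor Scheme.fppfPrecoverage π) (hqs : AlgSt.IsQuasiSeparatedMor π)
    (h : StMod.IsGoodModuli π)
    (ht : AlgSt.GeomPtBij π) :
    AlgSt.IsUnivHomeo Scheme.fppfPrecoverage π := by
  have hMs := Groth.Agent.AlgStLib.isAlgStack_ofSp M
  have hd : AlgSt.IsSurjective (FibCat.diag π) := by
    refine Groth.Agent.AlgStLib.diag_surjective_of_liftHom h𝒳.isStack.1 hMs.isStack.1 fun k _ _ s a₁ a₂ h₁ h₂ β hβ => ?_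
    haveI := hβ
    obtain ⟨e⟩ := (ht k s).2 ⟨a₁, h₁⟩ ⟨a₂, h₂⟩ (by
      exact secAtBase_eq β ((π.w_obj a₁).trans h₁) ((π.w_obj a₂).trans h₂) (by
        refine (CategoryTheory.IsHomLift.fac' (AlgSt.ofSp M.obj).p (𝟙 (Over.mk s)) β).trans ?_
        simp))
    have ha : 𝒳.p.IsHomLift (𝟙 (Over.mk s)) e.hom.1 := e.hom.2
    refine ⟨e.hom.1, ha, ?_⟩
    refine Groth.Agent.RelGen.elt_hom_ext ?_
    haveI := ha
    haveI : (AlgSt.ofSp M.obj).p.IsHomLift (𝟙 (Over.mk s)) (π.map e.hom.1) := π.preserves_isHomLift _ _
    have e3 := CategoryTheory.IsHomLift.fac' (AlgSt.ofSp M.obj).p (𝟙 (Over.mk s)) β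
    have e4 := CategoryTheory.IsHomLift.fac' (AlgSt.ofSp M.obj).p (𝟙 (Over.mk s)) (π.map e.hom.1)
    exact e4.trans e3.symm
  have hinj := Groth.Agent.AlgStLib.isUnivInjective_of_diag_surjective h𝒳.isStack.1 hMs.isStack.1 hd
  intro 𝒵 h𝒵 g
  have hW := Groth.Agent.AlgStLib.algFp hMs h𝒵 h𝒳 g π
  refine isHomeomorph_iff_continuous_isClosedMap_bijective.2
    ⟨Groth.Agent.AlgStLib.continuous_map h𝒵 _, Groth.Agent.RelGen.isUnivClosed_goodModuli h𝒳 hM π hqc hqs h 𝒵 h𝒵 g,
      hinj 𝒵 h𝒵 g, ?_⟩
  exact Groth.Agent.AlgStLib.isSurjective_fpFst h𝒳.isStack.1 hMs.isStack.1 h𝒵.isStack.1 π g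
    (Groth.Agent.RelGen.isSurjective_goodModuli h𝒳 hM π hqc hqs h)

end Groth.Agent.S19107
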