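import Groth.Statements.S19112
import Groth.Agent.RelGen.AffDiag

set_option autoImplicit false
set_option backward.isDefEq.respectTransparency false
set_option backward.isDefEq.respectTransparency.types false
universe u
open CategoryTheory AlgebraicGeometry
open StMod

namespace Groth.Agent.S19112

/-- In the case where the targets are algebraic spaces, let `S` be a quasi-separated scheme, `𝒳` an
algebraic stack over `(Sch/S)` for the fppf topology, `M` and `N` algebraic spaces over `S` that are
quasi-separated over `S`, with the diagonal of `N` over `S` quasi-affine, `f : 𝒳 ⟶ M` a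
quasi-separated morphism and `g : M ⟶ N` a morphism of algebraic spaces with affine diagonal. If the
composite `𝒳 ⟶ N` is quasi-compact, quasi-separated and cohomologically affine, then `f` is
cohomologically affine and quasi-compact. Here a quasi-compact quasi-separated morphism to an
algebraic space is cohomologically affine when pushforward along it takes surjections of
quasi-coherent modules to maps surjective on sections over every affine scheme etale over the
target. (The printed statement allows arbitrary algebraic stacks as targets, with either `g`
quasi-affine or the final target with quasi-affine diagonal; here both targets are algebraic spaces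
and the second alternative is assumed. Standing conventions of the source: all algebraic spaces and
morphisms are quasi-separated.) -/
theorem result
    (S : Scheme.{u}) [QuasiSeparatedSpace S]
    (𝒳 : AlgSt.Cat S) (h𝒳 : AlgSt.IsAlgStack Scheme.fppfPrecoverage 𝒳)
    (M N : AlgSp.Space S) (hM : AlgSp.IsQuasiSeparatedSp M.obj) (hN : AlgSp.IsQuasiSeparatedSp N.obj)
    (hNd : AlgSp.IsQuasiAffineMor (Limits.diag N.obj))
    (f : 𝒳 ⥤ᵇ AlgSt.ofSp M.obj) (hfqs : AlgSt.IsQuasiSeparatedMor f)
    (g : M.obj ⟶ N.obj) (hg : AlgSp.IsAffineMor (Limits.pullback.diagonal g))
    (hqc : AlgSt.IsQuasiCompactMor Scheme.fppfPrecoverage (BasedFunctor.comp f (AlgSt.ofSpMap g)))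
    (hqs : AlgSt.IsQuasiSeparatedMor (BasedFunctor.comp f (AlgSt.ofSpMap g)))
    (h : StMod.IsCohAffine (BasedFunctor.comp f (AlgSt.ofSpMap g))) :
    StMod.IsCohAffine f ∧ AlgSt.IsQuasiCompactMor Scheme.fppfPrecoverage f := by
  exact Groth.Agent.RelGen.isCohAffine_of_comp h𝒳 hM hN f hfqs g hg hqc hqs h

end Groth.Agent.S19112
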