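import Groth.Statements.S19128
import Groth.Agent.EtPunctCM.Main

set_option autoImplicit false
universe u
open CategoryTheory CategoryTheory.Limits AlgebraicGeometry Opposite
open EtDual

namespace Groth.Agent.S19128

/-- Let p be a prime and R a Noetherian local ring of characteristic p which is strictly henselian
(henselian with separably closed residue field) and Cohen–Macaulay, of Krull dimension d; let Y =
Spec R with closed point y and punctured spectrum U = Y - {y}. Then the local cohomology groups
H^i_y(Y_et, Z/p) of the constant étale sheaf Z/p with support in the closed point (right derived
functors of sections vanishing on U) are zero for every i < d. -/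
theorem result
    (p : ℕ) [Fact p.Prime] (R : Type u) [CommRing R] [LocCoh.IsCohenMacaulayLocalRing R]
    [HenselianLocalRing R] [IsSepClosed (IsLocalRing.ResidueField R)] [CharP R p]
    (i : ℕ) (hi : (i : WithBot ℕ∞) < ringKrullDim R) :
    IsZero ((EtDual.HY (FEt.puncturedSpec R).ι i).obj (EtCoh.const (Spec (CommRingCat.of R)) (ZMod p))) := by
  exact Groth.Agent.EtPunctCM.main p R i hi

end Groth.Agent.S19128
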