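import Groth.Statements.S1913
import Groth.Agent.DiagTor.Scheme
-- import your own Groth.Agent.* helpers here

set_option autoImplicit false
set_option backward.isDefEq.respectTransparency false
universe u
open CategoryTheory AlgebraicGeometry
attribute [local instance] HasDerivedCategory.standard
open CategoryTheory.Limits
open IntMult
open scoped TensorProduct

namespace Groth.Agent.S1913

/-- Reduction to the diagonal for intersection multiplicities, coefficientwise: e(X, V·W, Z) = e(X × X,
Δ·(V × W), Δ(Z)), where X × X is the product over K, Δ its diagonal (a closed immersion, X being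
separated) and V × W ⊆ X × X the product closed subscheme. Here X is a nonsingular variety over an
algebraically closed field K (smooth, separated, of finite type, integral), V and W are closed
subvarieties given by quasi-coherent ideal sheaves with integral subschemes, of dimensions r and s
with dim X = n, intersecting properly, and ξ is the generic point of an irreducible component Z of V
∩ W; e(X, V·W, Z) is the alternating sum of lengths of Tor over 𝒪_{X,ξ}. -/
theorem result (K : Type u) [Field K] [IsAlgClosed K] (X : Scheme.{u}) (f : X ⟶ Spec (CommRingCat.of K)) [Smooth f] [IsSeparated f] [QuasiCompact f] [IsIntegral X] (IV IW : X.IdealSheafData) [IsIntegral IV.subscheme] [IsIntegral IW.subscheme] (n r s : ℕ) (hn : topologicalKrullDim X = n) (hr : topologicalKrullDim IV.support = r) (hs : topologicalKrullDim IW.support = s) (hprop : IntMult.ProperInt (IV.support : Set X) (IW.support : Set X) n r s) (ξ : X) (hξV : ξ ∈ IV.support) (hξW : ξ ∈ IW.support) (hmax : ∀ ξ' : X, ξ' ∈ IV.support → ξ' ∈ IW.support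 → ξ' ⤳ ξ → ξ' = ξ) : IntMult.mult IV IW ξ = IntMult.mult (pullback.map (IV.subschemeι ≫ f) (IW.subschemeι ≫ f) f f IV.subschemeι IW.subschemeι (𝟙 _) (Category.comp_id _) (Category.comp_id _)).ker (pullback.diagonal f).ker (pullback.diagonal f ξ) := by
  obtain ⟨U, hU, hxU, -⟩ := exists_isAffineOpen_mem_and_subset (x := ξ) (U := ⊤) trivial
  haveI : Nonempty U := ⟨⟨ξ, hxU⟩⟩
  letI : Algebra K Γ(X, U) := ((Scheme.ΓSpecIso (CommRingCat.of K)).inv ≫ f.appLE ⊤ U le_top).hom.toAlgebra
  letI : Algebra Γ(X, U) (X.presheaf.stalk ξ) := (X.presheaf.germ U ξ hxU).hom.toAlgebra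
  set p := (hU.primeIdealOf ⟨ξ, hxU⟩).asIdeal with hp
  haveI : IsLocalization.AtPrime (X.presheaf.stalk ξ) p := hU.isLocalization_stalk ⟨ξ, hxU⟩
  obtain ⟨h₁, h₂, alg, hloc, halg⟩ := DiagTor.exists_diag_algebra f U hU (DiagTor.specMap_secAlg f hU) ξ hxU
  letI := alg
  haveI : IsLocalization (p.comap (DiagTor.mu K Γ(X, U))).primeCompl ((pullback f f).presheaf.stalk (pullback.diagonal f ξ)) := hloc
  set π := pullback.map (IV.subschemeι ≫ f) (IW.subschemeι ≫ f) f f IV.subschemeι IW.subschemeι (𝟙 _)
    (Category.comp_id _) (Category.comp_id _) with hπ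
  haveI : IsClosedImmersion π :=
    MorphismProperty.pullbackMap (P := @IsClosedImmersion) inferInstance inferInstance rfl rfl
  have hz1 : pullback.fst f f (pullback.diagonal f ξ) = ξ := by rw [← Scheme.Hom.comp_apply, pullback.diagonal_fst]; rfl
  have hz2 : pullback.snd f f (pullback.diagonal f ξ) = ξ := by rw [← Scheme.Hom.comp_apply, pullback.diagonal_snd]; rfl
  have hV' : pullback.fst f f (pullback.diagonal f ξ) ∈ IV.support := by rw [hz1]; exact hξV
  have hW' : pullback.snd f f (pullback.diagonal f ξ) ∈ IW.support := by rw [hz2]; exact hξW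
  have eπ : IntMult.stalkIdeal π.ker (pullback.diagonal f ξ) = (DiagTor.leftIdeal K Γ(X, U) (IV.ideal ⟨U, hU⟩) ⊔
      DiagTor.rightIdeal K Γ(X, U) (IW.ideal ⟨U, hU⟩)).map (algebraMap (TensorProduct K Γ(X, U) Γ(X, U)) ((pullback f f).presheaf.stalk (pullback.diagonal f ξ))) := by
    rw [DiagTor.ker_prodMap, DiagTor.stalkIdeal_sup _ _ (by rw [Scheme.IdealSheafData.support_comap]; exact hV')
      (by rw [Scheme.IdealSheafData.support_comap]; exact hW'),
      DiagTor.stalkIdeal_comap _ _ hV', DiagTor.stalkIdeal_comap _ _ hW',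
      DiagTor.stalkIdeal_chart IV hV' ⟨U, hU⟩ h₁, DiagTor.stalkIdeal_chart IW hW' ⟨U, hU⟩ h₂, Ideal.map_sup,
      Ideal.map_map, Ideal.map_map]
    congr 1
    · show _ = ((IV.ideal ⟨U, hU⟩).map
        (Algebra.TensorProduct.includeLeft : Γ(X, U) →ₐ[K] (TensorProduct K Γ(X, U) Γ(X, U))).toRingHom).map (algebraMap (TensorProduct K Γ(X, U) Γ(X, U)) ((pullback f f).presheaf.stalk (pullback.diagonal f ξ)))
      rw [Ideal.map_map]
      congr 1
      refine RingHom.ext fun a => ?_
      show _ = algebraMap (TensorProduct K Γ(X, U) Γ(X, U)) ((pullback f f).presheaf.stalk (pullback.diagonal f ξ)) (a ⊗ₜ 1)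
      rw [halg, map_one, map_one, mul_one]
      rfl
    · show _ = ((IW.ideal ⟨U, hU⟩).map
        (Algebra.TensorProduct.includeRight : Γ(X, U) →ₐ[K] (TensorProduct K Γ(X, U) Γ(X, U))).toRingHom).map (algebraMap (TensorProduct K Γ(X, U) Γ(X, U)) ((pullback f f).presheaf.stalk (pullback.diagonal f ξ)))
      rw [Ideal.map_map]
      congr 1
      refine RingHom.ext fun a => ?_
      show _ = algebraMap (TensorProduct K Γ(X, U) Γ(X, U)) ((pullback f f).presheaf.stalk (pullback.diagonal f ξ)) (1 ⊗ₜ a)
      rw [halg, map_one, map_one, one_mul]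
      rfl
  let σ : ((pullback f f).presheaf.stalk (pullback.diagonal f ξ)) →+* X.presheaf.stalk ξ := ((pullback.diagonal f).stalkMap ξ).hom
  have hσ : σ.comp (algebraMap (TensorProduct K Γ(X, U) Γ(X, U)) ((pullback f f).presheaf.stalk (pullback.diagonal f ξ))) = (algebraMap Γ(X, U) (X.presheaf.stalk ξ)).comp (DiagTor.mu K Γ(X, U)).toRingHom := by
    refine RingHom.ext fun t => ?_
    induction t using TensorProduct.induction_on with
    | zero => simp
    | add x y hx hy => simp only [map_add, hx, hy]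
    | tmul a b =>
      rw [RingHom.comp_apply, halg, map_mul]
      have key : ∀ (g : pullback f f ⟶ X) (hg : pullback.diagonal f ≫ g = 𝟙 X) (h : g (pullback.diagonal f ξ) ∈ U) (c : Γ(X, U)),
          σ ((g.stalkMap (pullback.diagonal f ξ)).hom ((X.presheaf.germ U (g (pullback.diagonal f ξ)) h).hom c)) = algebraMap Γ(X, U) (X.presheaf.stalk ξ) c := by
        intro g hg h c
        show ((pullback.diagonal f).stalkMap ξ).hom ((g.stalkMap (pullback.diagonal f ξ)).hom _) = _
        have e := Scheme.Hom.germ_stalkMap_apply (pullback.diagonal f ≫ g) U ξ h c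
        rw [Scheme.Hom.stalkMap_comp] at e
        exact e.trans (DiagTor.germ_app_id _ hg ξ hxU _ c)
      rw [key _ (pullback.diagonal_fst f) h₁, key _ (pullback.diagonal_snd f) h₂, ← map_mul]
      show _ = algebraMap Γ(X, U) (X.presheaf.stalk ξ) (DiagTor.mu K Γ(X, U) (a ⊗ₜ b))
      simp [DiagTor.mu]
  haveI : IsDomain Γ(X, U) := inferInstance
  have eΔ : IntMult.stalkIdeal (pullback.diagonal f).ker (pullback.diagonal f ξ) =
      (RingHom.ker (DiagTor.mu K Γ(X, U))).map (algebraMap (TensorProduct K Γ(X, U) Γ(X, U)) ((pullback f f).presheaf.stalk (pullback.diagonal f ξ))) := by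
    rw [DiagTor.stalkIdeal_ker (pullback.diagonal f) ξ]
    refine le_antisymm (fun w hw => ?_) (Ideal.map_le_iff_le_comap.2 fun t ht => ?_)
    · obtain ⟨t, s, rfl⟩ := IsLocalization.exists_mk'_eq (p.comap (DiagTor.mu K Γ(X, U))).primeCompl w
      have h0 : algebraMap Γ(X, U) (X.presheaf.stalk ξ) (DiagTor.mu K Γ(X, U) t) = 0 := by
        have e : σ (algebraMap (TensorProduct K Γ(X, U) Γ(X, U)) ((pullback f f).presheaf.stalk (pullback.diagonal f ξ)) t) =
            algebraMap Γ(X, U) (X.presheaf.stalk ξ) (DiagTor.mu K Γ(X, U) t) := congr($hσ t)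
        rw [← e, ← IsLocalization.mk'_spec ((pullback f f).presheaf.stalk (pullback.diagonal f ξ)) t s, map_mul]
        exact mul_eq_zero_of_left (RingHom.mem_ker.1 hw) _
      have h1 : DiagTor.mu K Γ(X, U) t = 0 :=
        IsLocalization.injective (X.presheaf.stalk ξ) p.primeCompl_le_nonZeroDivisors (h0.trans (map_zero _).symm)
      exact IsLocalization.mk'_mem_iff.2 (Ideal.mem_map_of_mem _ h1)
    · rw [Ideal.mem_comap, RingHom.mem_ker]
      have e : σ (algebraMap (TensorProduct K Γ(X, U) Γ(X, U)) ((pullback f f).presheaf.stalk (pullback.diagonal f ξ)) t) =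
          algebraMap Γ(X, U) (X.presheaf.stalk ξ) (DiagTor.mu K Γ(X, U) t) := congr($hσ t)
      exact e.trans (by rw [RingHom.mem_ker.1 ht, map_zero])
  rw [IntMult.mult, IntMult.mult, eπ, eΔ, DiagTor.stalkIdeal_chart IV hξV ⟨U, hU⟩ hxU,
    DiagTor.stalkIdeal_chart IW hξW ⟨U, hU⟩ hxU]
  exact (DiagTor.chi_eq_diag K Γ(X, U) p (IW.ideal ⟨U, hU⟩) (IV.ideal ⟨U, hU⟩) (X.presheaf.stalk ξ) ((pullback f f).presheaf.stalk (pullback.diagonal f ξ))).symm

end Groth.Agent.S1913
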