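import Groth.Statements.S19136
import Mathlib

set_option autoImplicit false
universe u
open Instab

namespace Groth.Agent.S19136

/-- Let p be a seminorm and ℓ a linear form on a real vector space, let y₀ and y₁ be vectors at which p
is positive and ℓ is non-negative, and let y = t y₀ + (1 - t) y₁ with 0 < t < 1 be a point of the
open segment at which p is positive. Then ℓ(y)/p(y) is at least the smaller of ℓ(y₀)/p(y₀) and
ℓ(y₁)/p(y₁), and if it equals that smaller value then ℓ(y₀)/p(y₀) = ℓ(y₁)/p(y₁). (The published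
lemma concerns the numerical invariant attached to a degree-two cohomology class and a semi-norm on
graded points of a stack; restricted to one rational simplex that invariant is the quotient of a
linear form by a semi-norm on the non-negative orthant of a real coordinate space, and local
quasi-concavity there amounts to this inequality with its equality clause, the set where the linear
form is non-negative being automatically convex; the lemma's further assertion, that the invariant
is positive at no pair of antipodal points, is not stated here. The vector space is arbitrary here.) -/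
theorem result {E : Type u} [AddCommGroup E] [Module ℝ E]
    (p : Seminorm ℝ E) (ℓ : E →ₗ[ℝ] ℝ) (y₀ y₁ : E) (h₀ : 0 < p y₀) (h₁ : 0 < p y₁)
    (hℓ₀ : 0 ≤ ℓ y₀) (hℓ₁ : 0 ≤ ℓ y₁) (t : ℝ) (ht₀ : 0 < t) (ht₁ : t < 1)
    (hy : 0 < p (t • y₀ + (1 - t) • y₁)) :
    min (ℓ y₀ / p y₀) (ℓ y₁ / p y₁) ≤ ℓ (t • y₀ + (1 - t) • y₁) / p (t • y₀ + (1 - t) • y₁) ∧
      (ℓ (t • y₀ + (1 - t) • y₁) / p (t • y₀ + (1 - t) • y₁) = min (ℓ y₀ / p y₀) (ℓ y₁ / p y₁) →
        ℓ y₀ / p y₀ = ℓ y₁ / p y₁) := by
  set y := t • y₀ + (1 - t) • y₁ with hy'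
  have hl : ℓ y = t * ℓ y₀ + (1 - t) * ℓ y₁ := by simp [hy']
  have hp' : p y ≤ t * p y₀ + (1 - t) * p y₁ := by
    refine le_trans (map_add_le_add p _ _) (le_of_eq ?_)
    rw [map_smul_eq_mul, map_smul_eq_mul, Real.norm_of_nonneg ht₀.le, Real.norm_of_nonneg (by linarith)]
  set a := ℓ y₀ / p y₀ with ha'
  set b := ℓ y₁ / p y₁ with hb'
  have ha : ℓ y₀ = a * p y₀ := (div_mul_cancel₀ _ h₀.ne').symm
  have hb : ℓ y₁ = b * p y₁ := (div_mul_cancel₀ _ h₁.ne').symm
  have ha0 : 0 ≤ a := by positivity
  have hb0 : 0 ≤ b := by positivity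
  set c := min a b
  have hc0 : 0 ≤ c := le_min ha0 hb0
  have hca : c ≤ a := min_le_left _ _
  have hcb : c ≤ b := min_le_right _ _
  have e1 : 0 ≤ t * (a - c) * p y₀ := by have := sub_nonneg.2 hca; positivity
  have e2 : 0 ≤ (1 - t) * (b - c) * p y₁ := by have := sub_nonneg.2 hcb; have : 0 ≤ 1 - t := by linarith
                                               positivity
  have key : c * p y ≤ ℓ y := by nlinarith [mul_le_mul_of_nonneg_left hp' hc0]
  refine ⟨(le_div_iff₀ hy).2 key, fun h => ?_⟩
  rw [div_eq_iff hy.ne'] at h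
  have e3 : t * (a - c) * p y₀ + (1 - t) * (b - c) * p y₁ ≤ 0 := by nlinarith [mul_le_mul_of_nonneg_left hp' hc0]
  have a1 : t * (a - c) * p y₀ = 0 := by linarith
  have b1 : (1 - t) * (b - c) * p y₁ = 0 := by linarith
  have ht' : (1 - t) ≠ 0 := by linarith
  simp only [mul_eq_zero, ht₀.ne', h₀.ne', h₁.ne', ht', false_or, or_false, sub_eq_zero] at a1 b1
  rw [a1, b1]

end Groth.Agent.S19136
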