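import Groth.Statements.S1914
import Groth.Agent.KChi.TorKoszul
-- import your own Groth.Agent.* helpers here

set_option autoImplicit false
universe u
open CategoryTheory
attribute [local instance] HasDerivedCategory.standard
open IntMult

namespace Groth.Agent.S1914

/-- Let A be a Noetherian local ring, I = (g₁, …, g_c) an ideal generated by a regular sequence and M a
finite A-module with Supp(M/IM) of dimension ≤ 0. Then c! · length_A(M/I^t M)/t^c tends, as t → ∞,
to Σ_i (−1)^i length_A Tor_i^A(A/I, M); that is, e_I(M, c) equals this alternating sum. -/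
theorem result (A : Type u) [CommRing A] [IsNoetherianRing A] [IsLocalRing A] (c : ℕ) (g : Fin c → A) (hreg : RingTheory.Sequence.IsRegular A (List.ofFn g)) (M : Type u) [AddCommGroup M] [Module A M] [Module.Finite A M] (h0 : Module.supportDim A (M ⧸ (Ideal.span (Set.range g) • (⊤ : Submodule A M))) ≤ 0) : Filter.Tendsto (fun t : ℕ => (c.factorial : ℝ) * ((Module.length A (M ⧸ (Ideal.span (Set.range g) ^ t • (⊤ : Submodule A M)))).toNat : ℝ) / (t : ℝ) ^ c) Filter.atTop (nhds (IntMult.chi A (A ⧸ Ideal.span (Set.range g)) M : ℝ)) := by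
  have hfl : IsFiniteLength A (M ⧸ (Ideal.span (Set.range g) • (⊤ : Submodule A M))) := by
    refine Groth.Agent.KChi.isFiniteLength_of_radical ?_
    intro a ha
    rw [Ideal.radical_eq_sInf, Submodule.mem_sInf]
    rintro P ⟨hP, hPp⟩
    let p : PrimeSpectrum A := ⟨P, hPp⟩
    have hp : p ∈ Module.support A (M ⧸ (Ideal.span (Set.range g) • (⊤ : Submodule A M))) :=
      Module.mem_support_iff_of_finite.2 hP
    have hmem : IsLocalRing.closedPoint A ∈ Module.support A (M ⧸ (Ideal.span (Set.range g) • (⊤ : Submodule A M))) :=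
      Module.mem_support_mono (show p ≤ IsLocalRing.closedPoint A from IsLocalRing.le_maximalIdeal hPp.ne_top) hp
    rcases (IsLocalRing.le_maximalIdeal hPp.ne_top).eq_or_lt with h | h
    · exact h.symm ▸ ha
    · exfalso
      have h1 : 0 < Module.supportDim A (M ⧸ (Ideal.span (Set.range g) • (⊤ : Submodule A M))) := by
        rw [Module.supportDim, Order.krullDim_pos_iff]
        exact ⟨⟨p, hp⟩, ⟨IsLocalRing.closedPoint A, hmem⟩, h⟩
      exact absurd h0 (not_le.2 h1)
  have key := Groth.Agent.KChi.intMult_chi_eq (List.ofFn g) hreg.toIsWeaklyRegular M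
  rw [Groth.Agent.KChi.ofList_ofFn] at key
  rw [key]
  exact Groth.Agent.KChi.tendsto_samuel g hfl

end Groth.Agent.S1914
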