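import Mathlib

/-! Smoothness of a closed subscheme along a section from a split conormal condition. -/

set_option autoImplicit false
set_option linter.style.haveILetI false
universe u

open TensorProduct KaehlerDifferential

noncomputable section

namespace Groth.Agent.SectSmooth

variable {R A : Type u} [CommRing R] [CommRing A] [Algebra R A] (ε : A →ₐ[R] R)

theorem sub_mem (a : A) : a - algebraMap R A (ε a) ∈ RingHom.ker ε := by simp

theorem smul_quot {M : Type u} [AddCommGroup M] [Module A M] [Module R M] [IsScalarTower R A M]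
    (N : Submodule A M) (hN : RingHom.ker ε • (⊤ : Submodule A M) ≤ N) (a : A) (x : M ⧸ N) : a • x = ε a • x := by
  induction x using Submodule.Quotient.induction_on with
  | _ m =>
    rw [← Submodule.Quotient.mk_smul, ← Submodule.Quotient.mk_smul, Submodule.Quotient.eq, ← algebraMap_smul A (ε a) m,
      ← sub_smul]
    exact hN (Submodule.smul_mem_smul (sub_mem ε a) Submodule.mem_top)

variable (J : Ideal A)

/-- `IJ` inside `J`. -/
abbrev conJ : Submodule A ↥J := RingHom.ker ε • (⊤ : Submodule A ↥J)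

theorem mem_conJ_of_mem (x : ↥J) (hx : (x : A) ∈ RingHom.ker ε * J) : x ∈ conJ ε J := by
  have h1 : Submodule.map (Submodule.subtype J) (conJ ε J) = RingHom.ker ε * J := by
    rw [conJ, Submodule.map_smul'', Submodule.map_top, Submodule.range_subtype, smul_eq_mul]
  rw [← h1] at hx
  obtain ⟨y, hy, hyx⟩ := hx
  rwa [Subtype.ext hyx] at hy

theorem exists_theta (hJI : J ≤ RingHom.ker ε) (h2 : J ⊓ RingHom.ker ε ^ 2 = RingHom.ker ε * J)
    [Module.Projective R (↥(RingHom.ker ε) ⧸ Submodule.comap (RingHom.ker ε).subtype (J ⊔ RingHom.ker ε ^ 2))] :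
    ∃ Θ : Ω[A⁄R] →ₗ[A] (↥J ⧸ conJ ε J), ∀ j : ↥J, Θ (D R A (j : A)) = Submodule.Quotient.mk j := by
  let I := RingHom.ker ε
  let W : Submodule A ↥I := Submodule.comap I.subtype (I ^ 2)
  let W' : Submodule A ↥I := Submodule.comap I.subtype (J ⊔ I ^ 2)
  have hW : I • (⊤ : Submodule A ↥I) ≤ W := Submodule.smul_le.2 fun a ha m _ => by
    show a * (m : A) ∈ I ^ 2
    rw [pow_two]; exact Ideal.mul_mem_mul ha m.2
  let i : (↥J ⧸ conJ ε J) →ₗ[A] (↥I ⧸ W) := Submodule.mapQ _ _ (Submodule.inclusion hJI)
    (Submodule.smul_le.2 fun a ha m _ => by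
      show a * (m : A) ∈ I ^ 2
      rw [pow_two]; exact Ideal.mul_mem_mul ha (hJI m.2))
  have hi : Function.Injective i := (injective_iff_map_eq_zero i).2 fun x hx => by
    induction x using Submodule.Quotient.induction_on with
    | _ j =>
      rw [Submodule.mapQ_apply, Submodule.Quotient.mk_eq_zero] at hx
      rw [Submodule.Quotient.mk_eq_zero]
      exact mem_conJ_of_mem ε J j (h2 ▸ ⟨j.2, hx⟩)
  let p : (↥I ⧸ W) →ₗ[A] (↥I ⧸ W') := Submodule.mapQ _ _ LinearMap.id fun x hx => Ideal.mem_sup_right hx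
  have hp : Function.Surjective (p.restrictScalars R) := fun y => by
    obtain ⟨y, rfl⟩ := Submodule.Quotient.mk_surjective _ y
    exact ⟨Submodule.Quotient.mk y, rfl⟩
  haveI : Module.Projective R (↥I ⧸ W') := ‹_›
  obtain ⟨t, ht⟩ := Module.projective_lifting_property (p.restrictScalars R) LinearMap.id hp
  have htp : ∀ x, p (x - t (p x)) = 0 := fun x => by
    have h1 : p (t (p x)) = p x := LinearMap.congr_fun ht (p x)
    rw [map_sub, h1, sub_self]
  have hrange : ∀ x, p x = 0 → ∃ z, i z = x := fun x hx => by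
    obtain ⟨x, rfl⟩ := Submodule.Quotient.mk_surjective _ x
    rw [Submodule.mapQ_apply, LinearMap.id_apply, Submodule.Quotient.mk_eq_zero] at hx
    obtain ⟨j, hj, w, hw, hjw⟩ := Submodule.mem_sup.1 hx
    refine ⟨Submodule.Quotient.mk ⟨j, hj⟩, ?_⟩
    rw [Submodule.mapQ_apply, Submodule.Quotient.eq]
    show j - (x : A) ∈ I ^ 2
    have hjw' : j + w = (x : A) := hjw
    rw [← hjw', sub_add_cancel_left]
    exact neg_mem hw
  choose r hr using fun x => hrange _ (htp x)
  let rl : (↥I ⧸ W) →ₗ[A] (↥J ⧸ conJ ε J) :=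
    { toFun := r
      map_add' := fun x y => hi (by rw [hr, map_add i, hr, hr, map_add p, map_add t]; abel)
      map_smul' := fun a x => hi (by
        rw [hr, RingHom.id_apply, map_smul i, hr, smul_sub, map_smul p, smul_quot ε W' (Submodule.smul_le.2 fun b hb m _ =>
          Ideal.mem_sup_right (by show b * (m : A) ∈ I ^ 2; rw [pow_two]; exact Ideal.mul_mem_mul hb m.2)) a (p x),
          map_smul t, ← smul_quot ε W hW a (t (p x))]) }
  have hri : ∀ z, rl (i z) = z := fun z => hi (by
    show i (r (i z)) = i z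
    rw [hr]
    have h0 : p (i z) = 0 := by
      induction z using Submodule.Quotient.induction_on with
      | _ j =>
        rw [Submodule.mapQ_apply, Submodule.mapQ_apply, LinearMap.id_apply, Submodule.Quotient.mk_eq_zero]
        exact Ideal.mem_sup_left (show ((Submodule.inclusion hJI j : ↥I) : A) ∈ J from j.2)
    rw [h0, map_zero, sub_zero])
  let e : A →ₗ[R] (↥I ⧸ W) :=
    ((W.mkQ).restrictScalars R).comp
      (LinearMap.codRestrict (I.restrictScalars R) (LinearMap.id - (Algebra.linearMap R A).comp ε.toLinearMap) (sub_mem ε))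
  let δ : Derivation R A (↥J ⧸ conJ ε J) :=
    { toLinearMap := (rl.restrictScalars R).comp e
      map_one_eq_zero' := by
        show rl (W.mkQ ⟨(1 : A) - algebraMap R A (ε 1), sub_mem ε 1⟩) = 0
        rw [show (⟨(1 : A) - algebraMap R A (ε 1), sub_mem ε 1⟩ : ↥I) = 0 from Subtype.ext (by simp)]
        simp
      leibniz' := fun a b => by
        show rl (W.mkQ ⟨a * b - algebraMap R A (ε (a * b)), sub_mem ε _⟩) =
          a • rl (W.mkQ ⟨b - algebraMap R A (ε b), sub_mem ε _⟩) + b • rl (W.mkQ ⟨a - algebraMap R A (ε a), sub_mem ε _⟩)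
        rw [← map_smul, ← map_smul, ← map_smul, ← map_smul, ← map_add, ← map_add]
        refine congrArg rl ((Submodule.Quotient.eq W).2 ?_)
        show a * b - algebraMap R A (ε (a * b)) - (a * (b - algebraMap R A (ε b)) + b * (a - algebraMap R A (ε a))) ∈ I ^ 2
        rw [map_mul, map_mul, show a * b - algebraMap R A (ε a) * algebraMap R A (ε b) -
          (a * (b - algebraMap R A (ε b)) + b * (a - algebraMap R A (ε a))) =
          -((a - algebraMap R A (ε a)) * (b - algebraMap R A (ε b))) by ring, pow_two]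
        exact neg_mem (Ideal.mul_mem_mul (sub_mem ε a) (sub_mem ε b)) }
  refine ⟨δ.liftKaehlerDifferential, fun j => ?_⟩
  rw [Derivation.liftKaehlerDifferential_comp_D]
  refine Eq.trans ?_ (hri (Submodule.Quotient.mk j))
  show rl (W.mkQ ⟨(j : A) - algebraMap R A (ε (j : A)), sub_mem ε _⟩) = rl (W.mkQ ⟨(j : A), hJI j.2⟩)
  congr 2
  exact Subtype.ext (by simp [show ε (j : A) = 0 from hJI j.2])

theorem main [Algebra.Smooth R A] (hJI : J ≤ RingHom.ker ε) (h1 : J.FG)
    (h2 : J ⊓ RingHom.ker ε ^ 2 = RingHom.ker ε * J)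
    [Module.Projective R (↥(RingHom.ker ε) ⧸ Submodule.comap (RingHom.ker ε).subtype (J ⊔ RingHom.ker ε ^ 2))]
    (P : Ideal (A ⧸ J)) [P.IsPrime] (hP : (RingHom.ker ε).map (Ideal.Quotient.mk J) ≤ P) :
    Algebra.IsSmoothAt R P := by
  obtain ⟨Θ, hΘ⟩ := exists_theta ε J hJI h2
  let Q : Ideal A := P.comap (Ideal.Quotient.mk J)
  let AQ := Localization.AtPrime Q
  let S := Localization.AtPrime P
  let ρ : AQ →+* S := Localization.localRingHom Q P (Ideal.Quotient.mk J) rfl
  letI : Algebra AQ S := ρ.toAlgebra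
  haveI : IsScalarTower A AQ S := IsScalarTower.of_algebraMap_eq fun a => by
    rw [RingHom.algebraMap_toAlgebra, Localization.localRingHom_to_map, IsScalarTower.algebraMap_apply A (A ⧸ J) S,
      Ideal.Quotient.algebraMap_eq]
  haveI : IsScalarTower R AQ S := IsScalarTower.of_algebraMap_eq fun c => by
    rw [IsScalarTower.algebraMap_apply R A AQ, ← IsScalarTower.algebraMap_apply A AQ S,
      ← IsScalarTower.algebraMap_apply R A S]
  haveI : Algebra.FormallySmooth A AQ := Algebra.FormallySmooth.of_isLocalization Q.primeCompl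
  haveI : Algebra.FormallySmooth R AQ := Algebra.FormallySmooth.comp R A AQ
  have hloc : IsLocalizedModule Q.primeCompl (KaehlerDifferential.map R R A AQ) := inferInstance
  haveI : Module.Finite AQ Ω[AQ⁄R] := Module.Finite.of_isLocalizedModule Q.primeCompl (KaehlerDifferential.map R R A AQ)
  haveI : Module.Projective AQ Ω[AQ⁄R] := Algebra.FormallySmooth.projective_kaehlerDifferential
  haveI : Module.Free AQ Ω[AQ⁄R] := Module.free_of_flat_of_isLocalRing
  have hker : RingHom.ker (algebraMap AQ S) = J.map (algebraMap A AQ) := by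
    refine le_antisymm (fun x hx => ?_) (Ideal.map_le_iff_le_comap.2 fun a ha => ?_)
    · obtain ⟨a, s, rfl⟩ := IsLocalization.exists_mk'_eq Q.primeCompl x
      have h0 : algebraMap A S a = 0 := by
        rw [IsScalarTower.algebraMap_apply A AQ S, ← IsLocalization.mk'_spec AQ a s, map_mul, RingHom.mem_ker.1 hx, zero_mul]
      rw [IsScalarTower.algebraMap_apply A (A ⧸ J) S, IsLocalization.map_eq_zero_iff P.primeCompl] at h0
      obtain ⟨⟨m, hm⟩, hma⟩ := h0
      obtain ⟨t, rfl⟩ := Ideal.Quotient.mk_surjective m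
      rw [Ideal.Quotient.algebraMap_eq, ← map_mul, Ideal.Quotient.eq_zero_iff_mem] at hma
      rw [← IsLocalization.mk'_cancel (S := AQ) a s ⟨t, hm⟩]
      rw [IsLocalization.mk'_eq_mul_mk'_one]
      refine Ideal.mul_mem_right _ _ (Ideal.mem_map_of_mem _ ?_)
      rw [mul_comm]; exact hma
    · show algebraMap AQ S (algebraMap A AQ a) = 0
      rw [← IsScalarTower.algebraMap_apply, IsScalarTower.algebraMap_apply A (A ⧸ J) S, Ideal.Quotient.algebraMap_eq,
        Ideal.Quotient.eq_zero_iff_mem.2 ha, map_zero]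
  have hsurj : Function.Surjective (algebraMap AQ S) :=
    RingHom.surjective_localRingHom_of_surjective (Ideal.Quotient.mk J) Ideal.Quotient.mk_surjective P
  refine (Algebra.FormallySmooth.iff_injective_cotangentComplexBaseChange_residueField AQ hsurj
    (hker ▸ h1.map _)).2 ?_
  let K := IsLocalRing.ResidueField S
  have hIK : ∀ a ∈ RingHom.ker ε, algebraMap A K a = 0 := fun a ha => by
    rw [IsScalarTower.algebraMap_apply A S K, IsLocalRing.ResidueField.algebraMap_eq, IsLocalRing.residue_eq_zero_iff,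
      IsScalarTower.algebraMap_apply A (A ⧸ J) S, IsLocalization.AtPrime.to_map_mem_maximal_iff S P]
    exact hP (Ideal.mem_map_of_mem _ ha)
  let T := K ⊗[A] (↥J ⧸ conJ ε J)
  let g0 : Ω[A⁄R] →ₗ[A] T := (TensorProduct.mk A K (↥J ⧸ conJ ε J) 1).comp Θ
  let L : Ω[AQ⁄R] →ₗ[A] T := IsLocalizedModule.lift Q.primeCompl (KaehlerDifferential.map R R A AQ) g0 fun s => by
    rw [Module.End.isUnit_iff]
    have hu : IsUnit (algebraMap A K (s : A)) := by
      rw [IsScalarTower.algebraMap_apply A AQ K]
      exact (IsLocalization.map_units AQ s).map _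
    have he : ⇑(algebraMap A (Module.End A T) (s : A)) = fun x : T => algebraMap A K (s : A) • x := funext fun x => by
      rw [Module.algebraMap_end_apply, algebraMap_smul]
    rw [he]
    exact MulAction.bijective (α := Kˣ) (β := T) hu.unit
  have hL : ∀ a : A, L (D R AQ (algebraMap A AQ a)) = (1 : K) ⊗ₜ[A] Θ (D R A a) := fun a => by
    have h := LinearMap.congr_fun (IsLocalizedModule.lift_comp Q.primeCompl (KaehlerDifferential.map R R A AQ) g0
      (fun s => by
        rw [Module.End.isUnit_iff]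
        have hu : IsUnit (algebraMap A K (s : A)) := by
          rw [IsScalarTower.algebraMap_apply A AQ K]
          exact (IsLocalization.map_units AQ s).map _
        have he : ⇑(algebraMap A (Module.End A T) (s : A)) = fun x : T => algebraMap A K (s : A) • x := funext fun x => by
          rw [Module.algebraMap_end_apply, algebraMap_smul]
        rw [he]
        exact MulAction.bijective (α := Kˣ) (β := T) hu.unit)) (D R A a)
    rw [LinearMap.comp_apply, KaehlerDifferential.map_D] at h
    exact h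
  let Ψ : K ⊗[AQ] Ω[AQ⁄R] →ₗ[K] T :=
    (LinearMap.extendScalarsOfIsLocalization Q.primeCompl AQ L).liftBaseChange K
  rw [injective_iff_map_eq_zero]
  intro x hx
  let jmap : ↥J →ₗ[A] ↥(RingHom.ker (algebraMap AQ S)) := LinearMap.codRestrict ((RingHom.ker (algebraMap AQ S)).restrictScalars A)
    ((Algebra.linearMap A AQ).comp J.subtype) fun j => hker ▸ Ideal.mem_map_of_mem _ j.2
  let γ : K ⊗[A] ↥J →ₗ[A] K ⊗[AQ] ↥(RingHom.ker (algebraMap AQ S)) :=
    (TensorProduct.mapOfCompatibleSMul AQ A A K ↥(RingHom.ker (algebraMap AQ S))).comp (LinearMap.lTensor K jmap)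
  have hγ : ∀ (c : K) (j : ↥J), γ (c ⊗ₜ[A] j) = c ⊗ₜ[AQ] jmap j := fun c j => rfl
  have hγsurj : ∀ z, ∃ y, γ y = z := fun z => by
    induction z using TensorProduct.induction_on with
    | zero => exact ⟨0, map_zero _⟩
    | add a b ha hb => obtain ⟨p, rfl⟩ := ha; obtain ⟨q, rfl⟩ := hb; exact ⟨p + q, map_add _ _ _⟩
    | tmul c k =>
      obtain ⟨k, hk⟩ := k
      rw [hker] at hk
      obtain ⟨⟨⟨a, ha⟩, s⟩, hs⟩ := (IsLocalization.mem_map_algebraMap_iff Q.primeCompl AQ).1 hk
      refine ⟨(algebraMap AQ K (IsLocalization.mk' AQ 1 s) * c) ⊗ₜ[A] ⟨a, ha⟩, ?_⟩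
      rw [hγ, ← Algebra.smul_def, smul_tmul]
      congr 1
      refine Subtype.ext ?_
      show IsLocalization.mk' AQ 1 s * algebraMap A AQ a = k
      rw [← hs, mul_left_comm, IsLocalization.mk'_spec, map_one, mul_one]
  obtain ⟨y, rfl⟩ := hγsurj x
  have hkey : ∀ y, Ψ (cotangentComplexBaseChange R S AQ K (γ y)) = LinearMap.lTensor K (conJ ε J).mkQ y := fun y => by
    induction y using TensorProduct.induction_on with
    | zero => simp
    | add a b ha hb => simp only [map_add, ha, hb]
    | tmul c j =>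
      rw [hγ, cotangentComplexBaseChange_tmul, map_smul, kerToTensor_apply]
      simp only [Ψ, LinearMap.liftBaseChange_tmul]
      show c • ((1 : K) • L (D R AQ (algebraMap A AQ (j : A)))) = _
      rw [hL, hΘ, one_smul, TensorProduct.smul_tmul', smul_eq_mul, mul_one, LinearMap.lTensor_tmul]
      rfl
  have hy : LinearMap.lTensor K (conJ ε J).mkQ y = 0 := by rw [← hkey, hx, map_zero]
  obtain ⟨w, rfl⟩ := (lTensor_exact K (LinearMap.exact_subtype_mkQ (conJ ε J)) (conJ ε J).mkQ_surjective y).1 hy
  have h0 : LinearMap.lTensor K (conJ ε J).subtype = 0 := by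
    refine TensorProduct.ext' fun c v => ?_
    obtain ⟨v, hv⟩ := v
    show c ⊗ₜ[A] v = 0
    refine Submodule.smul_induction_on hv (fun a ha m _ => ?_) fun p q hp hq => by rw [tmul_add, hp, hq, add_zero]
    rw [← smul_tmul, Algebra.smul_def, hIK a ha, zero_mul, zero_tmul]
  rw [h0, LinearMap.zero_apply, map_zero]

end Groth.Agent.SectSmooth
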