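import Groth.Statements.S19151
import Groth.Agent.HensPar.Main

set_option autoImplicit false
open CategoryTheory MonoidalCategory CartesianMonoidalCategory MonObj GrpObj AlgebraicGeometry
universe u
open Par
open Groth.Agent
open scoped CategoryTheory.Obj

namespace Groth.Agent.S19151

/-- Let O be a henselian local ring with residue field k and closed point i : Spec k ⟶ S = Spec O, G a
reductive S-group and P₀ a parabolic subgroup of the closed fibre G_k. Then there is a parabolic
subgroup P of G whose closed fibre is P₀: P ×_S Spec k and P₀ are isomorphic over G_k. -/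
theorem result (O : Type u) [CommRing O] [HenselianLocalRing O]
    (G : Over (Spec (CommRingCat.of O))) [GrpObj G] (hG : Red.IsReductive G)
    (P₀ : Over (Spec (CommRingCat.of (IsLocalRing.ResidueField O)))) [GrpObj P₀]
    (p₀ : P₀ ⟶ Red.bc (Spec.map (CommRingCat.ofHom (IsLocalRing.residue O))) G) (hp₀ : Red.IsParabolic p₀) :
    ∃ (P : Over (Spec (CommRingCat.of O))) (_ : GrpObj P) (p : P ⟶ G), Red.IsParabolic p ∧
      ∃ e : Red.bc (Spec.map (CommRingCat.ofHom (IsLocalRing.residue O))) P ≅ P₀,
        e.hom ≫ p₀ = (Over.pullback (Spec.map (CommRingCat.ofHom (IsLocalRing.residue O)))).map p := by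
  exact HensPar.exists_parabolic_lift hG P₀ p₀ hp₀

end Groth.Agent.S19151
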