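import Groth.Statements.S19155
import Groth.Agent.RootSys.Dominant

set_option autoImplicit false
open RootPairing
open RootD

namespace Groth.Agent.S19155

open Groth.Agent.RootSys

/-- Let P be a root datum (root pairing over ℤ with finitely many roots, roots in M), S a system of
positive roots, Γ a non-trivial totally ordered commutative group and f : M → Γ additive. Call f
dominant when f(α) ≥ 0 for every positive root α. Then the dominant maps form a fundamental domain
for the Weyl group W acting on Hom(M, Γ) through M: there is w ∈ W with f ∘ w dominant, and if f and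
f ∘ w are both dominant (w ∈ W) then f ∘ w = f. -/
theorem result {ι M N : Type*} [AddCommGroup M] [AddCommGroup N]
    (P : RootPairing ι ℤ M N) [Finite ι] (S : Set ι) (hS : RootD.IsPosSys P S)
    {Γ : Type*} [AddCommGroup Γ] [LinearOrder Γ] [IsOrderedAddMonoid Γ] [Nontrivial Γ] (f : M →+ Γ) :
    (∃ g : P.Aut, g ∈ P.weylGroup ∧ ∀ i ∈ S, 0 ≤ f (RootPairing.Equiv.weightHom P g (P.root i))) ∧
    (∀ g : P.Aut, g ∈ P.weylGroup → (∀ i ∈ S, 0 ≤ f (P.root i)) →
      (∀ i ∈ S, 0 ≤ f (RootPairing.Equiv.weightHom P g (P.root i))) →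
      ∀ m : M, f (RootPairing.Equiv.weightHom P g m) = f m) := by
  refine ⟨?_, fun g hg h1 h2 => ?_⟩
  · obtain ⟨g, hg, he⟩ := exists_image_eq hS (isPosSys_ties f hS)
    refine ⟨g, hg, fun i hi => ?_⟩
    show 0 ≤ f (g • P.root i)
    rw [← root_smul]
    rcases he.le ⟨i, hi, rfl⟩ with h | h
    · exact h.le
    · exact h.1.ge
  · have hΔ := isSimpleSys_simpleOf hS
    rw [← closure_eq_weylGroup hΔ] at hg
    have key : (∀ i ∈ S, 0 ≤ f (g • P.root i)) → ∀ m, f (g • m) = f m := by
      refine (reflData hΔ).induction_desc (p := fun g => (∀ i ∈ S, 0 ≤ f (g • P.root i)) → ∀ m, f (g • m) = f m)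
        (fun _ m => by rw [one_smul]) (fun g hg j hj hneg ih h m => ?_) hg
      rw [smul_smul_self_reflection, opp_mem_posOf_iff hΔ, not_not, posOf_simpleOf hS] at hneg
      have e1 := h j hj.1
      rw [smul_reflection, P.root_coroot'_eq_pairing, P.pairing_same, ← root_smul, map_sub, map_zsmul] at e1
      have e2 := h1 _ hneg
      have hzero : f (P.root (g • j)) = 0 := by
        refine le_antisymm ?_ e2
        rw [two_zsmul, sub_add_cancel_left, neg_nonneg] at e1
        exact e1
      have hsame : ∀ y, f ((g * refl P j) • y) = f (g • y) := fun y => by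
        rw [smul_reflection, map_sub, map_zsmul, hzero, smul_zero, sub_zero]
      rw [hsame]
      exact ih (fun i hi => hsame (P.root i) ▸ h i hi) m
    exact fun m => key h2 m

end Groth.Agent.S19155
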