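import Groth.Statements.S19156
import Groth.Agent.RootSys.Dominant

set_option autoImplicit false
open RootPairing
open RootD

namespace Groth.Agent.S19156

open Groth.Agent.RootSys

/-- Let P be a root datum (root pairing over ℤ with finitely many roots indexed by ι), S a system of
positive roots, Γ a non-trivial totally ordered commutative group and f : M → Γ additive. Then f is
dominant (non-negative on the positive roots) if and only if, for every w in the Weyl group, f − f ∘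
w is a combination m ↦ Σ_{α ∈ S} ⟨m, α∨⟩ c_α of the positive coroots with coefficients c_α ≥ 0 in Γ
(f ∘ w is strongly dominated by f); and f is dominant if and only if f(w m) ≤ f(m) for every w ∈ W
and every dominant weight m (weak dominance). -/
theorem result {ι M N : Type*} [AddCommGroup M] [AddCommGroup N]
    (P : RootPairing ι ℤ M N) [Fintype ι] (S : Set ι) (hS : RootD.IsPosSys P S)
    {Γ : Type*} [AddCommGroup Γ] [LinearOrder Γ] [IsOrderedAddMonoid Γ] [Nontrivial Γ] (f : M →+ Γ) :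
    ((∀ i ∈ S, 0 ≤ f (P.root i)) ↔
      ∀ g : P.Aut, g ∈ P.weylGroup → ∃ c : ι → Γ, (∀ i, 0 ≤ c i) ∧ (∀ i, i ∉ S → c i = 0) ∧
        ∀ m : M, f m - f (RootPairing.Equiv.weightHom P g m) = ∑ i, (P.coroot' i m) • c i) ∧
    ((∀ i ∈ S, 0 ≤ f (P.root i)) ↔
      ∀ g : P.Aut, g ∈ P.weylGroup → ∀ m : M, (∀ i ∈ S, 0 ≤ P.coroot' i m) →
        f (RootPairing.Equiv.weightHom P g m) ≤ f m) := by
  classical
  have hΔ := isSimpleSys_simpleOf hS
  obtain ⟨ρ, hρ⟩ := exists_strictly_dominant hS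
  have hA : (∀ i ∈ S, 0 ≤ f (P.root i)) → ∀ g : P.Aut, g ∈ P.weylGroup → ∃ c : ι → Γ,
      (∀ i, 0 ≤ c i) ∧ (∀ i, i ∉ S → c i = 0) ∧ ∀ m : M, f m - f (g • m) = ∑ i, (P.coroot' i m) • c i := by
    intro hf g hg
    rw [← closure_eq_weylGroup hΔ] at hg
    refine (reflData hΔ).induction_desc (p := fun g => ∃ c : ι → Γ, (∀ i, 0 ≤ c i) ∧ (∀ i, i ∉ S → c i = 0) ∧
      ∀ m : M, f m - f (g • m) = ∑ i, (P.coroot' i m) • c i)
      ⟨0, fun _ => le_rfl, fun _ _ => rfl, fun m => by simp⟩ (fun g hg j hj hneg ih => ?_) hg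
    obtain ⟨c, hc1, hc2, hc3⟩ := ih
    rw [smul_smul_self_reflection, opp_mem_posOf_iff hΔ, not_not, posOf_simpleOf hS] at hneg
    refine ⟨c + Pi.single j (f (P.root (g • j))), fun i => ?_, fun i hi => ?_, fun m => ?_⟩
    · rw [Pi.add_apply]
      rcases eq_or_ne i j with rfl | hne
      · rw [Pi.single_eq_same]; exact add_nonneg (hc1 _) (hf _ hneg)
      · rw [Pi.single_eq_of_ne hne, add_zero]; exact hc1 i
    · rw [Pi.add_apply, hc2 i hi, zero_add, Pi.single_eq_of_ne fun h => hi (by rw [h]; exact hj.1)]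
    · rw [smul_reflection, map_sub, map_zsmul, ← sub_add, hc3]
      simp only [Pi.add_apply, smul_add, Finset.sum_add_distrib]
      congr 1
      rw [Finset.sum_eq_single j (fun b _ hb => by rw [Pi.single_eq_of_ne hb, smul_zero])
        (fun h => absurd (Finset.mem_univ j) h), Pi.single_eq_same]
  have hB : (∀ i ∈ S, 0 ≤ f (P.root i)) → ∀ g : P.Aut, g ∈ P.weylGroup → ∀ m : M,
      (∀ i ∈ S, 0 ≤ P.coroot' i m) → f (g • m) ≤ f m := by
    intro hf g hg m hm
    obtain ⟨c, hc1, hc2, hc3⟩ := hA hf g hg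
    rw [← sub_nonneg, hc3]
    refine Finset.sum_nonneg fun i _ => ?_
    by_cases hi : i ∈ S
    · exact zsmul_nonneg (hc1 i) (hm i hi)
    · rw [hc2 i hi, smul_zero]
  have hC : (∀ g : P.Aut, g ∈ P.weylGroup → f (g • ρ) ≤ f ρ) → ∀ i ∈ S, 0 ≤ f (P.root i) := by
    intro h i hi
    have e := h _ (P.reflection_mem_weylGroup i)
    rw [RootPairing.Equiv.reflection_smul, P.reflection_apply, map_sub, map_zsmul, sub_le_self_iff] at e
    by_contra! hneg
    obtain ⟨n, hn⟩ := Int.eq_ofNat_of_zero_le (hρ i hi).le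
    rw [hn, natCast_zsmul] at e
    have := hρ i hi
    exact (nsmul_neg hneg (by omega)).not_ge e
  refine ⟨⟨hA, fun h => hC fun g hg => ?_⟩, ⟨hB, fun h => hC fun g hg => h g hg ρ fun i hi => (hρ i hi).le⟩⟩
  obtain ⟨c, hc1, hc2, hc3⟩ := h g hg
  rw [← sub_nonneg]
  show 0 ≤ f ρ - f (RootPairing.Equiv.weightHom P g ρ)
  rw [hc3]
  refine Finset.sum_nonneg fun i _ => ?_
  by_cases hi : i ∈ S
  · exact zsmul_nonneg (hc1 i) (hρ i hi).le
  · rw [hc2 i hi, smul_zero]

end Groth.Agent.S19156
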