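import Groth.Statements.S19161
import Groth.Agent.RootSys.Dominant
import Groth.Agent.S19156
import Groth.Agent.S5452

set_option autoImplicit false
open RootPairing
open RootD

namespace Groth.Agent.S19161

open Groth.Agent.RootSys

/-- Let P be a root datum (root pairing over ℤ, finitely many roots), S a system of positive roots, W
the Weyl group, Γ a non-trivial totally ordered commutative group and f₁, f₂ : M → Γ additive maps
which are dominant (f_i(α) ≥ 0 for α ∈ S). Then f₁ ≤ f₂ in the weak dominance order (f₁(m) ≤ f₂(m)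
for every dominant weight m, i.e. every m with ⟨m, α∨⟩ ≥ 0 for all α ∈ S) if and only if, for every
non-empty finite W-stable subset X ⊆ M, the maximum of f₁ on X is at most the maximum of f₂ on X.
(The source phrases the right-hand side through W-invariant elements x of ℕ[M] and the largest
element of the support of f_i(x) in ℤ[Γ]; for ℕ-coefficients that largest element is the maximum of
f_i over the support of x.) -/
theorem result {ι M N : Type*} [AddCommGroup M] [AddCommGroup N]
    (P : RootPairing ι ℤ M N) [Finite ι] (S : Set ι) (hS : RootD.IsPosSys P S)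
    {Γ : Type*} [AddCommGroup Γ] [LinearOrder Γ] [IsOrderedAddMonoid Γ] [Nontrivial Γ] (f₁ f₂ : M →+ Γ)
    (hf₁ : ∀ i ∈ S, 0 ≤ f₁ (P.root i)) (hf₂ : ∀ i ∈ S, 0 ≤ f₂ (P.root i)) :
    (∀ m : M, (∀ i ∈ S, 0 ≤ P.coroot' i m) → f₁ m ≤ f₂ m) ↔
    ∀ (X : Finset M) (hX : X.Nonempty), (∀ g : P.Aut, g ∈ P.weylGroup → ∀ m ∈ X, RootPairing.Equiv.weightHom P g m ∈ X) →
      X.sup' hX f₁ ≤ X.sup' hX f₂ := by
  classical
  haveI := Fintype.ofFinite ι
  have hmax : ∀ (f : M →+ Γ), (∀ i ∈ S, 0 ≤ f (P.root i)) → ∀ g ∈ P.weylGroup, ∀ m : M,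
      (∀ i ∈ S, 0 ≤ P.coroot' i m) → f (g • m) ≤ f m :=
    fun f hf g hg m hm => (Groth.Agent.S19156.result P S hS f).2.mp hf g hg m hm
  haveI : Finite P.weylGroup := Finite.of_injective _ (Groth.Agent.S5452.result P)
  haveI := Fintype.ofFinite P.weylGroup
  constructor
  · intro h X hX hWX
    refine Finset.sup'_le _ _ fun x hx => ?_
    let φ : M →+ ℤ := (P.RootForm x).toAddMonoidHom
    obtain ⟨g, hg, he⟩ := exists_image_eq hS (isPosSys_ties φ hS)
    have hdom : ∀ i ∈ S, 0 ≤ P.coroot' i (g⁻¹ • x) := by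
      intro i hi
      have e1 : P.coroot' (g • i) (g • (g⁻¹ • x)) = P.coroot' i (g⁻¹ • x) := coroot'_smul g i _
      rw [smul_inv_smul] at e1
      rw [← e1]
      have e2 : P.RootForm (P.root (g • i)) (P.root (g • i)) * P.coroot' (g • i) x =
          2 * P.RootForm (P.root (g • i)) x := by
        show _ * P.toLinearMap x (P.coroot (g • i)) = _
        rw [← smul_eq_mul, ← map_zsmul, P.rootForm_self_smul_coroot, map_nsmul,
          P.toLinearMap_apply_apply_Polarization, nsmul_eq_mul]
        rfl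
      have e3 : 0 ≤ φ (P.root (g • i)) := by
        rcases he.le ⟨i, hi, rfl⟩ with hh | hh
        · exact hh.le
        · exact hh.1.ge
      have e4 : P.RootForm (P.root (g • i)) x = φ (P.root (g • i)) := by
        show _ = P.RootForm x (P.root (g • i))
        simp only [RootPairing.rootForm_apply_apply, mul_comm]
      have hpos := rootForm_pos (P := P) (g • i)
      nlinarith
    calc f₁ x = f₁ (g • g⁻¹ • x) := by rw [smul_inv_smul]
      _ ≤ f₁ (g⁻¹ • x) := hmax f₁ hf₁ g hg _ hdom
      _ ≤ f₂ (g⁻¹ • x) := h _ hdom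
      _ ≤ _ := Finset.le_sup' f₂ (hWX g⁻¹ (inv_mem hg) x hx)
  · intro h m hm
    let X : Finset M := Finset.univ.image fun g : P.weylGroup => (g : P.Aut) • m
    have hmX : m ∈ X := Finset.mem_image.mpr ⟨1, Finset.mem_univ _, one_smul _ _⟩
    have e := h X ⟨m, hmX⟩ (fun g hg x hx => by
      obtain ⟨w, -, rfl⟩ := Finset.mem_image.mp hx
      have hc : ((((⟨g, hg⟩ : P.weylGroup) * w : P.weylGroup)) : P.Aut) = g * (w : P.Aut) := rfl
      show g • ((w : P.Aut) • m) ∈ X
      rw [← mul_smul, ← hc]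
      exact Finset.mem_image_of_mem (fun g : P.weylGroup => (g : P.Aut) • m) (Finset.mem_univ _))
    have hsup : ∀ f : M →+ Γ, (∀ i ∈ S, 0 ≤ f (P.root i)) → X.sup' ⟨m, hmX⟩ f = f m := fun f hf =>
      le_antisymm (Finset.sup'_le _ _ fun x hx => by
        obtain ⟨w, -, rfl⟩ := Finset.mem_image.mp hx
        exact hmax f hf w w.2 m hm) (Finset.le_sup' f hmX)
    rwa [hsup f₁ hf₁, hsup f₂ hf₂] at e

end Groth.Agent.S19161
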