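import Groth.Statements.S19162
import Groth.Agent.HensPar.Tori

set_option autoImplicit false
open CategoryTheory MonoidalCategory CartesianMonoidalCategory MonObj GrpObj AlgebraicGeometry
universe u
set_option backward.isDefEq.respectTransparency false
set_option backward.isDefEq.respectTransparency.types false
set_option maxHeartbeats 1000000
set_option synthInstance.maxHeartbeats 400000
open RedSub
open Groth.Agent
open scoped CategoryTheory.Obj

namespace Groth.Agent.S19162

/-- Let O be a henselian local ring with residue field k, i : Spec k ⟶ Spec O the closed point, and G a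
reductive group over Spec O. A maximal split torus of G is a subgroup scheme which is a torus
isomorphic to some D(ℤ^r) and which equals every split subtorus of G containing it. Then (i) if T is
a maximal split torus of G, its closed fibre T_k ⟶ G_k is a maximal split torus of G_k; (ii) every
maximal split torus T₀ of G_k is, up to isomorphism over G_k, the closed fibre of a maximal split
torus of G. -/
theorem result (O : Type u) [CommRing O] [HenselianLocalRing O]
    (G : Over (Spec (CommRingCat.of O))) [GrpObj G] (hG : Red.IsReductive G) :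
    (∀ (T : Over (Spec (CommRingCat.of O))) [GrpObj T] (σ : T ⟶ G) [IsMonHom σ] [Mono σ],
      (Red.IsTorus (T) ∧ (∃ r : ℕ, Red.IsSplitTorusWith (Fin r → ℤ) (T)) ∧
      (∀ (T' : Over (Spec (CommRingCat.of O))) [GrpObj T'] (σ' : T' ⟶ G) [IsMonHom σ'] [Mono σ'] (f : T ⟶ T'),
        Red.IsTorus T' → (∃ r : ℕ, Red.IsSplitTorusWith (Fin r → ℤ) T') → f ≫ σ' = σ → IsIso f)) →
      IsMonHom ((Over.pullback (Spec.map (CommRingCat.ofHom (IsLocalRing.residue O)))).map σ) ∧ Mono ((Over.pullback (Spec.map (CommRingCat.ofHom (IsLocalRing.residue O)))).map σ) ∧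
      (Red.IsTorus (Red.bc (Spec.map (CommRingCat.ofHom (IsLocalRing.residue O))) T) ∧ (∃ r : ℕ, Red.IsSplitTorusWith (Fin r → ℤ) (Red.bc (Spec.map (CommRingCat.ofHom (IsLocalRing.residue O))) T)) ∧
      (∀ (T' : Over (Spec (CommRingCat.of (IsLocalRing.ResidueField O)))) [GrpObj T'] (σ' : T' ⟶ Red.bc (Spec.map (CommRingCat.ofHom (IsLocalRing.residue O))) G) [IsMonHom σ'] [Mono σ'] (f : Red.bc (Spec.map (CommRingCat.ofHom (IsLocalRing.residue O))) T ⟶ T'),
        Red.IsTorus T' → (∃ r : ℕ, Red.IsSplitTorusWith (Fin r → ℤ) T') → f ≫ σ' = (Over.pullback (Spec.map (CommRingCat.ofHom (IsLocalRing.residue O)))).map σ → IsIso f))) ∧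
    (∀ (T₀ : Over (Spec (CommRingCat.of (IsLocalRing.ResidueField O)))) [GrpObj T₀] (σ₀ : T₀ ⟶ Red.bc (Spec.map (CommRingCat.ofHom (IsLocalRing.residue O))) G) [IsMonHom σ₀] [Mono σ₀],
      (Red.IsTorus (T₀) ∧ (∃ r : ℕ, Red.IsSplitTorusWith (Fin r → ℤ) (T₀)) ∧
      (∀ (T' : Over (Spec (CommRingCat.of (IsLocalRing.ResidueField O)))) [GrpObj T'] (σ' : T' ⟶ Red.bc (Spec.map (CommRingCat.ofHom (IsLocalRing.residue O))) G) [IsMonHom σ'] [Mono σ'] (f : T₀ ⟶ T'),
        Red.IsTorus T' → (∃ r : ℕ, Red.IsSplitTorusWith (Fin r → ℤ) T') → f ≫ σ' = σ₀ → IsIso f)) →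
      ∃ (T : Over (Spec (CommRingCat.of O))) (_ : GrpObj T) (σ : T ⟶ G) (_ : IsMonHom σ) (_ : Mono σ),
        (Red.IsTorus (T) ∧ (∃ r : ℕ, Red.IsSplitTorusWith (Fin r → ℤ) (T)) ∧
      (∀ (T' : Over (Spec (CommRingCat.of O))) [GrpObj T'] (σ' : T' ⟶ G) [IsMonHom σ'] [Mono σ'] (f : T ⟶ T'),
        Red.IsTorus T' → (∃ r : ℕ, Red.IsSplitTorusWith (Fin r → ℤ) T') → f ≫ σ' = σ → IsIso f)) ∧
        ∃ e : Red.bc (Spec.map (CommRingCat.ofHom (IsLocalRing.residue O))) T ≅ T₀, e.hom ≫ σ₀ = (Over.pullback (Spec.map (CommRingCat.ofHom (IsLocalRing.residue O)))).map σ) := by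
  exact ⟨fun T _ σ _ _ h => HensPar.closed_maxSplit hG σ h, fun T₀ _ σ₀ _ _ h => HensPar.exists_maxSplit_lift hG σ₀ h⟩

end Groth.Agent.S19162
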