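import Groth.Statements.S19164
import Groth.Agent.HensPar.Opposed

set_option autoImplicit false
open CategoryTheory MonoidalCategory CartesianMonoidalCategory MonObj GrpObj AlgebraicGeometry
universe u
set_option backward.isDefEq.respectTransparency false
set_option backward.isDefEq.respectTransparency.types false
set_option maxHeartbeats 1000000
open Par
open Groth.Agent
open scoped CategoryTheory.Obj

namespace Groth.Agent.S19164

/-- Let O be a henselian local ring with residue field k, G a reductive group over Spec O and (P₀, P₀')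
a pair of opposed parabolic subgroups of the closed fibre G_k (P₀ ∩ P₀' is a Levi subgroup of P₀ and
of P₀'). Then there are opposed parabolic subgroups P, P' of G whose closed fibres are P₀ and P₀'
(isomorphic to them over G_k). -/
theorem result (O : Type u) [CommRing O] [HenselianLocalRing O]
    (G : Over (Spec (CommRingCat.of O))) [GrpObj G] (hG : Red.IsReductive G)
    (P₀ P₀' : Over (Spec (CommRingCat.of (IsLocalRing.ResidueField O)))) [GrpObj P₀] [GrpObj P₀']
    (p₀ : P₀ ⟶ Red.bc (Spec.map (CommRingCat.ofHom (IsLocalRing.residue O))) G) (p₀' : P₀' ⟶ Red.bc (Spec.map (CommRingCat.ofHom (IsLocalRing.residue O))) G) (hp₀ : Red.IsParabolic p₀) (hp₀' : Red.IsParabolic p₀')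
    (hopp : (∃ (L : Over (Spec (CommRingCat.of (IsLocalRing.ResidueField O)))) (_ : GrpObj L) (l : L ⟶ P₀) (m : L ⟶ P₀'), IsPullback l m p₀ p₀' ∧ Par.IsLevi l ∧ Par.IsLevi m)) :
    ∃ (P P' : Over (Spec (CommRingCat.of O))) (_ : GrpObj P) (_ : GrpObj P') (p : P ⟶ G) (p' : P' ⟶ G),
      Red.IsParabolic p ∧ Red.IsParabolic p' ∧ (∃ (L : Over (Spec (CommRingCat.of O))) (_ : GrpObj L) (l : L ⟶ P) (m : L ⟶ P'), IsPullback l m p p' ∧ Par.IsLevi l ∧ Par.IsLevi m) ∧
      (∃ e : Red.bc (Spec.map (CommRingCat.ofHom (IsLocalRing.residue O))) P ≅ P₀, e.hom ≫ p₀ = (Over.pullback (Spec.map (CommRingCat.ofHom (IsLocalRing.residue O)))).map p) ∧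
      (∃ e' : Red.bc (Spec.map (CommRingCat.ofHom (IsLocalRing.residue O))) P' ≅ P₀', e'.hom ≫ p₀' = (Over.pullback (Spec.map (CommRingCat.ofHom (IsLocalRing.residue O)))).map p') := by
  obtain ⟨L, _, l, m, hsq, hl, -⟩ := hopp
  exact HensPar.exists_opposed_lift hG p₀ p₀' hp₀ hp₀' l m hsq hl

end Groth.Agent.S19164
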