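import Groth.Statements.S19166
import Groth.Agent.DynPar.LieIso
-- import your own Groth.Agent.* helpers here

set_option autoImplicit false
open CategoryTheory MonoidalCategory CartesianMonoidalCategory MonObj GrpObj AlgebraicGeometry
universe u
open Par

set_option backward.isDefEq.respectTransparency false

namespace Groth.Agent.S19166

/-- Over an affine base S = Spec R, let Γ be a non-trivial totally ordered commutative group, G a
reductive S-group, f : D_S(Γ) ⟶ G a homomorphism, L_f its centralizer in G, and g_γ ⊆ Lie(G) the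
weight space of the character γ for the adjoint action of D_S(Γ) through f (on every affine test
scheme Spec B). Then there is a parabolic subgroup P_f of G containing L_f whose Lie algebra is ⊕_{γ
≥ 0} g_γ, i.e. for every R-algebra B the image of Lie(P_f)(B) in Lie(G)(B) is generated by the
g_γ(B) with γ ≥ 0; such a parabolic subgroup is unique up to isomorphism over G; and L_f is a Levi
subgroup of P_f. (The source works over an arbitrary base; the statement is local on the base. Its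
further clauses on P_{−f}, opposed to P_f with P_f ∩ P_{−f} = L_f, and on Lie(U_f), are not stated.) -/
theorem result (R : Type u) [CommRing R]
    (Γ : Type) [AddCommGroup Γ] [LinearOrder Γ] [IsOrderedAddMonoid Γ] [Nontrivial Γ]
    (G : Over (Spec (CommRingCat.of R))) [GrpObj G] (hG : Red.IsReductive G)
    (f : Red.DS (Spec (CommRingCat.of R)) Γ ⟶ G) [IsMonHom f]
    (Z : Over (Spec (CommRingCat.of R))) [GrpObj Z] (z : Z ⟶ G) [IsMonHom z] (hZ : Red.IsCentralizerOf f z) :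
    (∃ (P : Over (Spec (CommRingCat.of R))) (_ : GrpObj P) (p : P ⟶ G) (_ : IsMonHom p) (zP : Z ⟶ P),
      Red.IsParabolic p ∧ zP ≫ p = z ∧ Par.IsLevi zP ∧
      ∀ (B : Type u) [CommRing B] [Algebra R B],
        Subgroup.map (LieS.map B (Spec.map (CommRingCat.ofHom (algebraMap R B))) p) ⊤ =
          ⨆ c ∈ {c : Γ | 0 ≤ c}, LieWt.weightSpOf f (Red.chi (Spec (CommRingCat.of R)) c) B) ∧
    (∀ (P₁ P₂ : Over (Spec (CommRingCat.of R))) [GrpObj P₁] [GrpObj P₂] (p₁ : P₁ ⟶ G) (p₂ : P₂ ⟶ G) [IsMonHom p₁] [IsMonHom p₂]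
      (z₁ : Z ⟶ P₁) (z₂ : Z ⟶ P₂),
      Red.IsParabolic p₁ → Red.IsParabolic p₂ → z₁ ≫ p₁ = z → z₂ ≫ p₂ = z →
      (∀ (B : Type u) [CommRing B] [Algebra R B],
        Subgroup.map (LieS.map B (Spec.map (CommRingCat.ofHom (algebraMap R B))) p₁) ⊤ =
          ⨆ c ∈ {c : Γ | 0 ≤ c}, LieWt.weightSpOf f (Red.chi (Spec (CommRingCat.of R)) c) B) →
      (∀ (B : Type u) [CommRing B] [Algebra R B],
        Subgroup.map (LieS.map B (Spec.map (CommRingCat.ofHom (algebraMap R B))) p₂) ⊤ =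
          ⨆ c ∈ {c : Γ | 0 ≤ c}, LieWt.weightSpOf f (Red.chi (Spec (CommRingCat.of R)) c) B) →
      ∃ e : P₁ ≅ P₂, e.hom ≫ p₂ = p₁) := by
  haveI := hG.1
  haveI := hG.2.1
  haveI : IsAffine G.left := isAffine_of_isAffineHom G.hom
  obtain ⟨P, _, p, zP, hp, hpar, hzP, hlevi⟩ := Groth.Agent.DynPar.exists_parabolic (c := f) hG hZ
  haveI := hp.1
  refine ⟨⟨P, inferInstance, p, inferInstance, zP, hpar, hzP, hlevi,
    fun B _ _ => Groth.Agent.DynPar.map_top_eq f hp⟩, ?_⟩
  intro P₁ P₂ _ _ p₁ p₂ _ _ z₁ z₂ h₁ h₂ hz₁ hz₂ l₁ l₂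
  obtain ⟨e₁, he₁⟩ := Groth.Agent.DynPar.exists_iso_of_lie hG hZ hp h₁ z₁ hz₁ l₁
  obtain ⟨e₂, he₂⟩ := Groth.Agent.DynPar.exists_iso_of_lie hG hZ hp h₂ z₂ hz₂ l₂
  exact ⟨e₁ ≪≫ e₂.symm, by
    rw [Iso.trans_hom, Iso.symm_hom, Category.assoc, ← he₂, e₂.inv_hom_id_assoc, he₁]⟩

end Groth.Agent.S19166
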