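import Groth.Statements.S1917
import Groth.Agent.BivarOps.ExtRat
-- import your own Groth.Agent.* helpers here

set_option autoImplicit false
set_option backward.isDefEq.respectTransparency false
set_option backward.isDefEq.respectTransparency.types false
universe u
open CategoryTheory CategoryTheory.Limits AlgebraicGeometry
open IntMult

namespace Groth.Agent.S1917

/-- Let X, Y be varieties over an algebraically closed field K (integral, separated, of finite type), α
an r-cycle on X and β an s-cycle on Y. If α or β is rationally equivalent to zero then so is the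
exterior product α × β, an (r + s)-cycle on X ×_K Y (any cycle with the exterior-product
coefficients). Dimension functions are transcendence degrees of residue fields over K. -/
theorem result (K : Type u) [Field K] [IsAlgClosed K] (X Y : Scheme.{u}) (f : X ⟶ Spec (CommRingCat.of K)) (g : Y ⟶ Spec (CommRingCat.of K)) [IsIntegral X] [IsIntegral Y] [IsSeparated f] [IsSeparated g] [LocallyOfFiniteType f] [LocallyOfFiniteType g] [QuasiCompact f] [QuasiCompact g] (δX : X → ℤ) (δY : Y → ℤ) (δ : ↥(pullback f g) → ℤ) (hX : Cyc.DeltaCompat f δX (fun _ => 0)) (hY : Cyc.DeltaCompat g δY (fun _ => 0)) (hXY : Cyc.DeltaCompat (pullback.fst f g ≫ f) δ (fun _ => 0)) (r s : ℤ) (α : AlgebraicCycle X ℤ) (β : AlgebraicCycle Y ℤ) (hα : α ∈ Cyc.Zk X δX r) (hβ : β ∈ Cyc.Zk Y δY s) (h0 : Cyc.RatEquivZero δX r α ∨ Cyc.RatEquivZero δY s β) (γ : AlgebraicCycle (pullback f g) ℤ) (hγ : ⇑γ = IntMult.extProd f g δX δY δ ⇑α ⇑β) : Cyc.RatEquivZero δ (r + s) γ := by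
  have sX := BivarOps.setup_of_compat f hX
  have sY := BivarOps.setup_of_compat g hY
  haveI : CompactSpace X := QuasiCompact.compactSpace_of_compactSpace f
  haveI : CompactSpace Y := QuasiCompact.compactSpace_of_compactSpace g
  have sP := BivarOps.setup_of_compat (Limits.pullback.fst f g ≫ f) hXY
  have sq := IsPullback.of_hasPullback f g
  have c₁ : Cyc.DeltaCompat (Limits.pullback.fst f g) δ δX := BivarOps.deltaCompat_of_comp rfl hX hXY
  have c₂ : Cyc.DeltaCompat (Limits.pullback.snd f g) δ δY :=
    BivarOps.deltaCompat_of_comp sq.w.symm hY hXY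
  have hα' : CycPB.Cy δX r ⇑α := CycPB.Cy.mk hα
  have hβ' : CycPB.Cy δY s ⇑β := CycPB.Cy.mk hβ
  have key : CycPB.RZ δ (r + s)
      (BivarOps.extF (Limits.pullback.fst f g) (Limits.pullback.snd f g) δX δY δ ⇑α ⇑β) := by
    rcases h0 with h | h
    · exact BivarOps.ext_rz sq sX sY sP hY c₁ ⟨α, rfl, hα, h⟩ hβ'
    · rw [BivarOps.extF_symm, add_comm r s]
      exact BivarOps.ext_rz sq.flip sY sX sP hX c₂ ⟨β, rfl, hβ, h⟩ hα'
  obtain ⟨A, hA, -, hA0⟩ := key
  have : γ = A := DFunLike.ext' (hγ.trans hA.symm)
  exact this ▸ hA0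

end Groth.Agent.S1917
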