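import Groth.Statements.S19170
import Groth.Agent.FIAb.Top

set_option autoImplicit false
universe u
open ProCompl

namespace Groth.Agent.S19170

/-- Let B be a topological abelian group generated as a group by a compact subset. Then every character
χ : B → ℚ/ℤ with open kernel (a continuous character for discrete ℚ/ℤ) has kernel of finite index;
consequently each such character factors through B^∧, the completion of B taken along its
finite-index open subgroups, i.e. (B^∧)^D = B^D. (The published statement assumes moreover that B is
Hausdorff, locally compact and totally disconnected; only compact generation is needed for this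
assertion, so those assumptions are dropped here.) -/
theorem result
    {B : Type u} [AddCommGroup B] [TopologicalSpace B] [IsTopologicalAddGroup B]
    (hcg : ∃ K : Set B, IsCompact K ∧ AddSubgroup.closure K = ⊤)
    (χ : B →+ ℚ ⧸ AddSubgroup.zmultiples (1 : ℚ)) (hχ : IsOpen (χ.ker : Set B)) : χ.ker.FiniteIndex := by
  haveI := FIAb.fg_quotient hcg χ.ker hχ
  haveI : Finite (B ⧸ χ.ker) := AddCommGroup.finite_of_fg_torsion _ fun q => by
    obtain ⟨b, rfl⟩ := QuotientAddGroup.mk_surjective q
    obtain ⟨r, hr⟩ := QuotientAddGroup.mk_surjective (χ b)
    refine isOfFinAddOrder_iff_nsmul_eq_zero.2 ⟨r.den, r.pos, ?_⟩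
    rw [← QuotientAddGroup.mk_nsmul, QuotientAddGroup.eq_zero_iff, AddMonoidHom.mem_ker, map_nsmul, ← hr,
      ← QuotientAddGroup.mk_nsmul, QuotientAddGroup.eq_zero_iff, AddSubgroup.mem_zmultiples_iff]
    exact ⟨r.num, by simp⟩
  exact AddSubgroup.finiteIndex_of_finite_quotient

end Groth.Agent.S19170
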