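import Groth.Statements.S19172
import Groth.Agent.FIAb.Top

set_option autoImplicit false
universe u v w
open ProCompl

namespace Groth.Agent.S19172

open W4c61motalbduality in
/-- Let i : A → B and p : B → C be continuous homomorphisms of topological abelian groups with p
surjective and open and with the kernel of p equal to the image of i. Then the induced sequence of
completions with respect to open subgroups of finite index, A^∧ → B^∧ → C^∧ → 0, is exact: the map
B^∧ → C^∧ is surjective and its kernel is the image of A^∧. The completion is the group of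
compatible families of residues modulo all open subgroups of finite index. (The published statement
takes i injective, as the first map of an exact sequence 0 → A → B → C → 0 of topological abelian
groups; here it is only assumed that the image of i is the kernel of p, which is all the proof
uses.) -/
theorem result
    {A : Type u} {B : Type v} {C : Type w}
    [AddCommGroup A] [TopologicalSpace A] [IsTopologicalAddGroup A]
    [AddCommGroup B] [TopologicalSpace B] [IsTopologicalAddGroup B]
    [AddCommGroup C] [TopologicalSpace C] [IsTopologicalAddGroup C]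
    (i : A →+ B) (hi : Continuous i) (p : B →+ C) (hp : Continuous p)
    (hpo : IsOpenMap p) (hps : Function.Surjective p) (hex : p.ker = i.range) :
    Function.Surjective (FICompl.map p hp) ∧ (FICompl.map p hp).ker = (FICompl.map i hi).range := by
  classical
  have hfiA : ∀ V : OpenFI B, IsOpen ((V.toAddSubgroup.map p : AddSubgroup C) : Set C) ∧ (V.toAddSubgroup.map p).FiniteIndex :=
    fun V => ⟨hpo _ V.isOpen', ⟨fun e => V.finiteIndex'.index_ne_zero (Nat.eq_zero_of_zero_dvd (e ▸ AddSubgroup.index_map_dvd V.toAddSubgroup hps))⟩⟩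
  let img : OpenFI B → OpenFI C := fun V => ⟨V.toAddSubgroup.map p, (hfiA V).1, (hfiA V).2⟩
  have hle : ∀ V, V.toAddSubgroup ≤ ((img V).comap p hp).toAddSubgroup := fun V => AddSubgroup.le_comap_map _ _
  have hinf : ∀ u : Finset (OpenFI B), ∃ W : OpenFI B, ∀ V ∈ u, W.toAddSubgroup ≤ V.toAddSubgroup := fun u => by
    induction u using Finset.induction_on with
    | empty => exact ⟨⟨⊤, isOpen_univ, inferInstance⟩, by simp⟩
    | insert a u _ ih =>
      obtain ⟨W, hW⟩ := ih
      haveI := a.finiteIndex'
      haveI := W.finiteIndex'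
      refine ⟨⟨a.toAddSubgroup ⊓ W.toAddSubgroup, a.isOpen'.inter W.isOpen', inferInstance⟩, fun V hV => ?_⟩
      rcases Finset.mem_insert.1 hV with rfl | hV
      · exact inf_le_left
      · exact inf_le_right.trans (hW V hV)
  constructor
  · intro c
    obtain ⟨x, hx⟩ := FIAb.exists_of_fip (A := B) (fun V : OpenFI B => V)
      (fun V => {q | QuotientAddGroup.map V.toAddSubgroup (img V).toAddSubgroup p (hle V) q = c.1 (img V)})
      fun u => by
        obtain ⟨W, hW⟩ := hinf u
        obtain ⟨γ, hγ⟩ := QuotientAddGroup.mk_surjective (c.1 (img W))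
        obtain ⟨b, rfl⟩ := hps γ
        refine ⟨b, fun V hV => ?_⟩
        show _ = c.1 (img V)
        rw [← c.2 (img W) (img V) (AddSubgroup.map_mono (hW V hV)), ← hγ]
        rfl
    refine ⟨x, Subtype.ext (funext fun V => ?_)⟩
    obtain ⟨b, hb⟩ := QuotientAddGroup.mk_surjective (x.1 (V.comap p hp))
    have h2 : QuotientAddGroup.map _ (img (V.comap p hp)).toAddSubgroup p (hle _) (x.1 (V.comap p hp)) = c.1 (img (V.comap p hp)) := hx (V.comap p hp)
    rw [← hb] at h2
    have hsub : (img (V.comap p hp)).toAddSubgroup ≤ V.toAddSubgroup := AddSubgroup.map_comap_le _ _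
    show QuotientAddGroup.map _ V.toAddSubgroup p (V.comap_le p) (x.1 (V.comap p hp)) = c.1 V
    rw [← c.2 _ V hsub, ← h2, ← hb]
    rfl
  · ext x
    constructor
    · intro hx
      have hker : ∀ V : OpenFI B, ∃ a : A, (i a : B ⧸ V.toAddSubgroup) = x.1 V := by
        intro V
        obtain ⟨b, hb⟩ := QuotientAddGroup.mk_surjective (x.1 V)
        have h2 : QuotientAddGroup.map _ (img V).toAddSubgroup p ((img V).comap_le p) (x.1 ((img V).comap p hp)) = 0 :=
          congrFun (congrArg Subtype.val (AddMonoidHom.mem_ker.1 hx)) (img V)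
        rw [← x.2 V ((img V).comap p hp) (hle V), ← hb] at h2
        obtain ⟨w, hw, e⟩ := (QuotientAddGroup.eq_zero_iff (p b)).1 h2
        obtain ⟨a, ha⟩ : b - w ∈ i.range := hex ▸ (show p (b - w) = 0 by rw [map_sub, e, sub_self])
        exact ⟨a, by rw [ha, ← hb, QuotientAddGroup.eq]; simpa using hw⟩
      obtain ⟨y, hy⟩ := FIAb.exists_of_fip (A := A) (fun V : OpenFI B => V.comap i hi)
        (fun V => {q | QuotientAddGroup.map _ V.toAddSubgroup i (V.comap_le i) q = x.1 V})
        fun u => by
          obtain ⟨W, hW⟩ := hinf u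
          obtain ⟨a, ha⟩ := hker W
          refine ⟨a, fun V hV => ?_⟩
          show _ = x.1 V
          rw [← x.2 W V (hW V hV), ← ha]
          rfl
      exact ⟨y, Subtype.ext (funext hy)⟩
    · rintro ⟨y, rfl⟩
      refine AddMonoidHom.mem_ker.2 (Subtype.ext (funext fun V => ?_))
      obtain ⟨a, ha⟩ := QuotientAddGroup.mk_surjective (y.1 ((V.comap p hp).comap i hi))
      show QuotientAddGroup.map _ V.toAddSubgroup p (V.comap_le p)
        (QuotientAddGroup.map _ (V.comap p hp).toAddSubgroup i ((V.comap p hp).comap_le i) (y.1 ((V.comap p hp).comap i hi))) = 0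
      rw [← ha]
      refine (QuotientAddGroup.eq_zero_iff (p (i a))).2 ?_
      rw [show p (i a) = 0 from (hex.symm ▸ ⟨a, rfl⟩ : i a ∈ p.ker)]
      exact zero_mem _

end Groth.Agent.S19172
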