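import Groth.Statements.S19173
import Groth.Agent.FIAb.Top

set_option autoImplicit false
universe u v
open ProCompl

namespace Groth.Agent.S19173

open W4c61motalbduality Topology in
/-- Let B be a Hausdorff, locally compact, totally disconnected topological abelian group generated as a
group by a compact subset, and let i : A → B be an injective continuous homomorphism inducing the
topology of A from that of B (a strict injection) with closed image. Then the map induced by i on
completions with respect to open subgroups of finite index is injective; together with right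
exactness for open surjections this makes 0 → A^∧ → B^∧ → C^∧ → 0 exact for a topological exact
sequence 0 → A → B → C → 0 with such B, strict closed i and open p. -/
theorem result
    {A : Type u} {B : Type v} [AddCommGroup A] [TopologicalSpace A] [IsTopologicalAddGroup A]
    [AddCommGroup B] [TopologicalSpace B] [IsTopologicalAddGroup B]
    [T2Space B] [LocallyCompactSpace B] [TotallyDisconnectedSpace B]
    (hcg : ∃ K : Set B, IsCompact K ∧ AddSubgroup.closure K = ⊤)
    (i : A →+ B) (hi : Continuous i) (hinj : Function.Injective i) (hind : IsInducing i)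
    (hcl : IsClosed (Set.range i)) :
    Function.Injective (FICompl.map i hi) := by
  rw [injective_iff_map_eq_zero]
  intro x hx
  refine Subtype.ext (funext fun A₀ => ?_)
  obtain ⟨N, hN, hpre⟩ := hind.isOpen_iff.1 A₀.isOpen'
  have h0 : (0 : B) ∈ N := by
    have h1 : (0 : A) ∈ i ⁻¹' N := hpre.symm ▸ A₀.toAddSubgroup.zero_mem
    simpa using h1
  obtain ⟨U, hU, hUN⟩ := FIAb.exists_openSubgroup_subset (hN.mem_nhds h0)
  have hUA : ∀ a, i a ∈ U → a ∈ A₀.toAddSubgroup := fun a ha =>
    (hpre ▸ (hUN ha : a ∈ i ⁻¹' N) : a ∈ (A₀.toAddSubgroup : Set A))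
  have hH : ∀ a : A, a ∉ A₀.toAddSubgroup → i a ∉ A₀.toAddSubgroup.map i ⊔ U := fun a ha hm => by
    obtain ⟨_, ⟨a', ha', rfl⟩, w, hw, e⟩ := AddSubgroup.mem_sup.1 hm
    refine ha ?_
    have := A₀.toAddSubgroup.add_mem ha' (hUA (a - a') (by rw [map_sub, ← e]; simpa using hw))
    simpa using this
  haveI := A₀.finiteIndex'
  haveI : AddGroup.FG (B ⧸ (A₀.toAddSubgroup.map i ⊔ U)) :=
    FIAb.fg_quotient hcg _ (AddSubgroup.isOpen_mono le_sup_right hU)
  obtain ⟨M, hM, hfi, hMA⟩ : ∃ M : AddSubgroup B, U ≤ M ∧ M.FiniteIndex ∧ M.comap i ≤ A₀.toAddSubgroup := by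
    haveI : Finite (A ⧸ A₀.toAddSubgroup) := AddSubgroup.finite_quotient_of_finiteIndex
    have hfin : (Set.range fun q : {q : A ⧸ A₀.toAddSubgroup // q ≠ 0} => i q.1.out).Finite := Set.finite_range _
    choose Mq hMq hfq hxq using fun q : {q : A ⧸ A₀.toAddSubgroup // q ≠ 0} =>
      FIAb.avoid_of_fg (A₀.toAddSubgroup.map i ⊔ U) (x := i q.1.out) (hH _ fun hm =>
        q.2 (by rw [← Quotient.out_eq q.1]; exact (QuotientAddGroup.eq_zero_iff _).2 hm))
    refine ⟨(A₀.toAddSubgroup.map i ⊔ U) ⊔ ⨅ q, Mq q, le_sup_right.trans le_sup_left, ?_, fun a ha => ?_⟩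
    · haveI := AddSubgroup.finiteIndex_iInf hfq
      exact AddSubgroup.finiteIndex_of_le (le_sup_right : (⨅ q, Mq q) ≤ _)
    by_contra hn
    let q : {q : A ⧸ A₀.toAddSubgroup // q ≠ 0} := ⟨(a : A ⧸ A₀.toAddSubgroup), fun e => hn ((QuotientAddGroup.eq_zero_iff a).1 e)⟩
    have hle : (A₀.toAddSubgroup.map i ⊔ U) ⊔ ⨅ q, Mq q ≤ Mq q := sup_le (hMq q) (iInf_le _ q)
    refine hxq q ?_
    obtain ⟨a', ha'⟩ := QuotientAddGroup.mk_out_eq_mul A₀.toAddSubgroup a
    change i (Quotient.out (a : A ⧸ A₀.toAddSubgroup)) ∈ Mq q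
    rw [ha', map_add]
    exact (Mq q).add_mem (hle ha) (hMq q (AddSubgroup.mem_sup_left ⟨a', a'.2, rfl⟩))
  let V : OpenFI B := ⟨M, AddSubgroup.isOpen_mono hM hU, hfi⟩
  have h1 : QuotientAddGroup.map _ V.toAddSubgroup i (V.comap_le i) (x.1 (V.comap i hi)) = 0 :=
    congrFun (congrArg Subtype.val hx) V
  obtain ⟨a, ha⟩ := QuotientAddGroup.mk_surjective (x.1 (V.comap i hi))
  rw [← ha] at h1
  rw [← x.2 (V.comap i hi) A₀ hMA, ← ha]
  exact (QuotientAddGroup.eq_zero_iff a).2 (hMA ((QuotientAddGroup.eq_zero_iff (i a)).1 h1))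

end Groth.Agent.S19173
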