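import Groth.Statements.S19176
import Mathlib.RingTheory.MvPolynomial.Basic
import Mathlib.RingTheory.MvPolynomial.Ideal
import Mathlib.LinearAlgebra.Projection
import Mathlib.Tactic

set_option autoImplicit false
set_option linter.style.haveILetI false

universe u
open PlaneCurve

namespace Groth.Agent.S19176

open MvPolynomial in
/-- Let k be a field of characteristic p (p = 0 allowed) and F = y² − x³ in k[x, y] (x the variable of
index 0, y of index 1). The singular subscheme of the plane curve F = 0, cut out by F and its two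
partial derivatives, is finite over k of degree 4 when p = 2, of degree 3 when p = 3, and of degree
2 otherwise: the k-dimension of k[x, y]/(F, ∂F/∂x, ∂F/∂y) is that number. (The source phrases this
through the complete local ring of a cusp; the row is the computation for the standard cusp y² =
x³.) -/
theorem result (k : Type u) [Field k] (p : ℕ) [CharP k p] :
    Module.finrank k (MvPolynomial (Fin 2) k ⧸ Ideal.span
      ({X 1 ^ 2 - X 0 ^ 3, pderiv 0 (X 1 ^ 2 - X 0 ^ 3), pderiv 1 (X 1 ^ 2 - X 0 ^ 3)} :
        Set (MvPolynomial (Fin 2) k))) = (if p = 2 then 4 else if p = 3 then 3 else 2) := by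
  classical
  have hmon : ∀ a b : ℕ, Module.finrank k (MvPolynomial (Fin 2) k ⧸
      Ideal.span ({X 0 ^ a, X 1 ^ b} : Set (MvPolynomial (Fin 2) k))) = a * b := by
    intro a b
    let I := Ideal.span ({X 0 ^ a, X 1 ^ b} : Set (MvPolynomial (Fin 2) k))
    let S : Set (Fin 2 →₀ ℕ) := {n | a ≤ n 0 ∨ b ≤ n 1}
    have hI : Submodule.restrictScalars k I = restrictSupport k S := by
      ext x
      rw [Submodule.restrictScalars_mem, mem_restrictSupport_iff]
      have : I = Ideal.span ((fun s => monomial s (1 : k)) '' {Finsupp.single 0 a, Finsupp.single 1 b}) := by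
        simp only [I, Set.image_insert_eq, Set.image_singleton, X_pow_eq_monomial]
      rw [this, mem_ideal_span_monomial_image]
      simp [S, Set.subset_def, Finsupp.single_le_iff]
    have hcompl : IsCompl (restrictSupport k S) (restrictSupport k Sᶜ) := by
      constructor
      · rw [Submodule.disjoint_def]
        intro x h1 h2
        rw [mem_restrictSupport_iff] at h1 h2
        rw [← support_eq_empty]
        refine Finset.eq_empty_of_forall_notMem fun n hn => h2 hn (h1 hn)
      · rw [codisjoint_iff, _root_.eq_top_iff]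
        intro x _
        rw [← x.support_sum_monomial_coeff]
        refine Submodule.sum_mem _ fun n _ => ?_
        by_cases hn : n ∈ S
        · exact Submodule.mem_sup_left (by simp [hn])
        · exact Submodule.mem_sup_right (by simp [hn])
    let e : ↥Sᶜ ≃ Fin a × Fin b :=
      { toFun := fun n => (⟨n.1 0, by have h : ¬ (a ≤ n.1 0 ∨ b ≤ n.1 1) := n.2; omega⟩,
          ⟨n.1 1, by have h : ¬ (a ≤ n.1 0 ∨ b ≤ n.1 1) := n.2; omega⟩)
        invFun := fun ij => ⟨Finsupp.single 0 ij.1.1 + Finsupp.single 1 ij.2.1, by simp [S]⟩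
        left_inv := fun n => by
          apply Subtype.ext
          ext i
          fin_cases i <;> simp
        right_inv := fun ij => by ext <;> simp }
    have h1 : Module.finrank k (MvPolynomial (Fin 2) k ⧸ I) =
        Module.finrank k (MvPolynomial (Fin 2) k ⧸ Submodule.restrictScalars k I) :=
      (Submodule.Quotient.restrictScalarsEquiv k I).symm.finrank_eq
    refine h1.trans ?_
    rw [hI, (Submodule.quotientEquivOfIsCompl _ _ hcompl).finrank_eq,
      Module.finrank_eq_card_basis ((basisRestrictSupport k Sᶜ).reindex e)]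
    simp
  have d0 : pderiv (0 : Fin 2) (X 1 ^ 2 - X 0 ^ 3 : MvPolynomial (Fin 2) k) = -(3 * X 0 ^ 2) := by
    simp [pderiv_X, Derivation.leibniz_pow]
  have d1 : pderiv (1 : Fin 2) (X 1 ^ 2 - X 0 ^ 3 : MvPolynomial (Fin 2) k) = 2 * X 1 := by
    simp [pderiv_X, Derivation.leibniz_pow]
  rw [d0, d1]
  have hC : ∀ n : ℕ, [n.AtLeastTwo] → (OfNat.ofNat n : MvPolynomial (Fin 2) k) = C (OfNat.ofNat n : k) :=
    fun n _ => (map_ofNat C n).symm
  set I := Ideal.span ({X 1 ^ 2 - X 0 ^ 3, -(3 * X 0 ^ 2), 2 * X 1} : Set (MvPolynomial (Fin 2) k)) with hI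
  have mF : X 1 ^ 2 - X 0 ^ 3 ∈ I := Ideal.subset_span (by simp)
  have m0 : (3 : MvPolynomial (Fin 2) k) * X 0 ^ 2 ∈ I :=
    neg_mem_iff.1 (Ideal.subset_span (by simp))
  have m1 : (2 : MvPolynomial (Fin 2) k) * X 1 ∈ I := Ideal.subset_span (by simp)
  have cancelC : ∀ (c : k), c ≠ 0 → ∀ {J : Ideal (MvPolynomial (Fin 2) k)} {x}, C c * x ∈ J → x ∈ J := by
    intro c hc J x hx
    have := Ideal.mul_mem_left J (C c⁻¹) hx
    rwa [← mul_assoc, ← map_mul, inv_mul_cancel₀ hc, map_one, one_mul] at this
  split_ifs with hp2 hp3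
  · subst hp2
    have h20 : (2 : k) = 0 := by simpa using CharP.cast_eq_zero k 2
    have h3 : (3 : k) ≠ 0 := by
      rw [show (3 : k) = 2 + 1 by norm_num, h20, zero_add]; exact one_ne_zero
    have hx : X 0 ^ 2 ∈ I := cancelC 3 h3 (by rwa [← hC 3])
    have hy : X 1 ^ 2 ∈ I := by
      have := add_mem mF (Ideal.mul_mem_left I (X 0) hx)
      ring_nf at this ⊢
      exact this
    have : I = Ideal.span {X 0 ^ 2, X 1 ^ 2} := by
      refine le_antisymm (Ideal.span_le.2 ?_) (Ideal.span_le.2 ?_)
      · rintro _ (rfl | rfl | rfl)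
        · exact Ideal.mem_span_pair.2 ⟨-X 0, 1, by ring⟩
        · exact Ideal.mem_span_pair.2 ⟨-3, 0, by ring⟩
        · rw [hC 2, h20]; simp
      · rintro _ (rfl | rfl) <;> assumption
    rw [this, hmon]
  · subst hp3
    have h30 : (3 : k) = 0 := by simpa using CharP.cast_eq_zero k 3
    have h2 : (2 : k) ≠ 0 := by
      intro h
      apply one_ne_zero (α := k)
      linear_combination h30 - h
    have hy : X 1 ∈ I := cancelC 2 h2 (by rwa [← hC 2])
    have hy1 : (X 1 : MvPolynomial (Fin 2) k) ^ 1 ∈ I := by rwa [pow_one]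
    have hx : X 0 ^ 3 ∈ I := by
      have := sub_mem (Ideal.mul_mem_left I (X 1) hy) mF
      ring_nf at this ⊢
      exact this
    have : I = Ideal.span {X 0 ^ 3, X 1 ^ 1} := by
      refine le_antisymm (Ideal.span_le.2 ?_) (Ideal.span_le.2 ?_)
      · rintro _ (rfl | rfl | rfl)
        · exact Ideal.mem_span_pair.2 ⟨-1, X 1, by ring⟩
        · rw [hC 3, h30]; simp
        · exact Ideal.mem_span_pair.2 ⟨0, 2, by ring⟩
      · rintro _ (rfl | rfl) <;> assumption
    rw [this, hmon]
  · have h2 : (2 : k) ≠ 0 := by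
      intro h
      exact hp2 (((Nat.prime_dvd_prime_iff_eq (CharP.char_is_prime_or_zero k p |>.resolve_right (by
        rintro rfl
        exact absurd ((CharP.cast_eq_zero_iff k 0 2).1 (by exact_mod_cast h)) (by norm_num))) Nat.prime_two).1
        ((CharP.cast_eq_zero_iff k p 2).1 (by exact_mod_cast h))))
    have h3 : (3 : k) ≠ 0 := by
      intro h
      exact hp3 (((Nat.prime_dvd_prime_iff_eq (CharP.char_is_prime_or_zero k p |>.resolve_right (by
        rintro rfl
        exact absurd ((CharP.cast_eq_zero_iff k 0 3).1 (by exact_mod_cast h)) (by norm_num))) Nat.prime_three).1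
        ((CharP.cast_eq_zero_iff k p 3).1 (by exact_mod_cast h))))
    have hx : X 0 ^ 2 ∈ I := cancelC 3 h3 (by rwa [← hC 3])
    have hy : X 1 ∈ I := cancelC 2 h2 (by rwa [← hC 2])
    have hy1 : (X 1 : MvPolynomial (Fin 2) k) ^ 1 ∈ I := by rwa [pow_one]
    have : I = Ideal.span {X 0 ^ 2, X 1 ^ 1} := by
      refine le_antisymm (Ideal.span_le.2 ?_) (Ideal.span_le.2 ?_)
      · rintro _ (rfl | rfl | rfl)
        · exact Ideal.mem_span_pair.2 ⟨-X 0, X 1, by ring⟩
        · exact Ideal.mem_span_pair.2 ⟨-3, 0, by ring⟩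
        · exact Ideal.mem_span_pair.2 ⟨0, 2, by ring⟩
      · rintro _ (rfl | rfl) <;> assumption
    rw [this, hmon]

end Groth.Agent.S19176
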