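import Groth.Statements.S19177
import Mathlib.RingTheory.Finiteness.Projective
import Mathlib.RingTheory.TensorProduct.Basic
import Mathlib.RingTheory.LocalRing.ResidueField.Ideal
import Mathlib.Tactic.NormNum

set_option autoImplicit false
universe u
open CAlg
open scoped TensorProduct

namespace Groth.Agent.S19177

/-- Let S → R be a homomorphism of commutative rings making R a finitely generated projective S-module
of rank 2 at every prime of S (the affine form of a finite locally free morphism of degree 2). Then
the cokernel of the (injective) structure map S → R, the S-module R/S, is a projective S-module of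
rank 1 at every prime of S (locally free of rank 1). -/
theorem result
    (S R : Type u) [CommRing S] [CommRing R] [Algebra S R] [Module.Finite S R] [Module.Projective S R]
    (h2 : ∀ p : PrimeSpectrum S, Module.rankAtStalk (R := S) R p = 2) :
    Module.Projective S (R ⧸ LinearMap.range (Algebra.linearMap S R)) ∧
      ∀ p : PrimeSpectrum S,
        Module.rankAtStalk (R := S) (R ⧸ LinearMap.range (Algebra.linearMap S R)) p = 1 := by
  obtain ⟨n, f, g, -, -, hfg⟩ := Module.Finite.exists_comp_eq_id_of_projective S R
  let I : Ideal S := Ideal.span (Set.range (g 1))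
  have hI : I = ⊤ := by
    by_contra hne
    obtain ⟨m, hm, hle⟩ := Ideal.exists_le_maximal I hne
    let k := m.ResidueField
    haveI := hm.isPrime
    have h1 : (1 : k) ⊗ₜ[S] (1 : R) = 0 := by
      conv_lhs => rw [show (1 : R) = f (g 1) from (LinearMap.congr_fun hfg 1).symm, pi_eq_sum_univ (g 1), map_sum, TensorProduct.tmul_sum]
      refine Finset.sum_eq_zero fun i _ => ?_
      rw [map_smul, TensorProduct.tmul_smul, TensorProduct.smul_tmul', Algebra.smul_def, mul_one,
        Ideal.algebraMap_residueField_eq_zero.2 (hle (Ideal.subset_span ⟨i, rfl⟩)), TensorProduct.zero_tmul]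
    haveI : Subsingleton (k ⊗[S] R) := subsingleton_of_zero_eq_one (M₀ := k ⊗[S] R) h1.symm
    have := h2 ⟨m, hm.isPrime⟩
    rw [Module.rankAtStalk_eq] at this
    rw [Module.finrank_zero_of_subsingleton] at this
    exact absurd this (by norm_num)
  obtain ⟨c, hc⟩ := Ideal.mem_span_range_iff_exists_fun.1 (show (1 : S) ∈ I by rw [hI]; trivial)
  let φ : R →ₗ[S] S := (∑ i, c i • LinearMap.proj i) ∘ₗ g
  have hφ : φ 1 = 1 := by simpa [φ] using hc
  let ι := Algebra.linearMap S R
  let p : R →ₗ[S] LinearMap.ker φ := (LinearMap.id - ι ∘ₗ φ).codRestrict _ fun r => by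
    show φ (r - ι (φ r)) = 0
    rw [map_sub, show ι (φ r) = φ r • (1 : R) from Algebra.algebraMap_eq_smul_one _, map_smul, hφ, smul_eq_mul, mul_one, sub_self]
  let e : R ≃ₗ[S] S × LinearMap.ker φ := LinearEquiv.ofLinear (φ.prod p) (ι.coprod (LinearMap.ker φ).subtype)
    (by
      refine LinearMap.ext fun ⟨s, x⟩ => Prod.ext ?_ (Subtype.ext ?_)
      · simp [ι, Algebra.algebraMap_eq_smul_one, hφ, LinearMap.mem_ker.1 x.2]
      · simp [p, ι, Algebra.algebraMap_eq_smul_one, hφ, LinearMap.mem_ker.1 x.2])
    (by refine LinearMap.ext fun r => ?_; simp [p])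
  haveI : Module.Projective S (LinearMap.ker φ) := Module.Projective.of_split (LinearMap.ker φ).subtype p
    (LinearMap.ext fun x => Subtype.ext (by simp [p, LinearMap.mem_ker.1 x.2]))
  haveI : Module.Finite S (LinearMap.ker φ) := Module.Finite.of_surjective p fun x => ⟨x, Subtype.ext (by simp [p, LinearMap.mem_ker.1 x.2])⟩
  have hker : LinearMap.ker p = LinearMap.range ι := by
    ext r
    rw [LinearMap.mem_ker, LinearMap.mem_range]
    constructor
    · intro h
      exact ⟨φ r, (sub_eq_zero.1 (congrArg Subtype.val h)).symm⟩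
    · rintro ⟨s, rfl⟩
      exact Subtype.ext (by simp [p, ι, Algebra.algebraMap_eq_smul_one, hφ])
  let q : (R ⧸ LinearMap.range ι) ≃ₗ[S] LinearMap.ker φ :=
    (Submodule.quotEquivOfEq _ _ hker.symm).trans (p.quotKerEquivOfSurjective fun x => ⟨x, Subtype.ext (by simp [p, LinearMap.mem_ker.1 x.2])⟩)
  refine ⟨Module.Projective.of_equiv q.symm, fun x => ?_⟩
  haveI : Nontrivial S := (algebraMap S x.asIdeal.ResidueField).domain_nontrivial
  have h3 := h2 x
  rw [Module.rankAtStalk_eq_of_equiv e, Module.rankAtStalk_prod] at h3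
  simp only [Pi.add_apply] at h3
  rw [Module.rankAtStalk_self, Pi.one_apply] at h3
  rw [Module.rankAtStalk_eq_of_equiv q]
  omega

end Groth.Agent.S19177
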