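import Groth.Statements.S19178
import Mathlib

set_option linter.style.haveILetI false

set_option autoImplicit false
universe u
open Curves

namespace Groth.Agent.S19178

lemma exists_linear {k : Type u} [Field k] (p : MvPolynomial (Fin 3) k) (hp : p.totalDegree ≤ 1) :
    ∃ α β γ δ : k, p = MvPolynomial.C α * MvPolynomial.X 0 + MvPolynomial.C β * MvPolynomial.X 1 +
      MvPolynomial.C γ * MvPolynomial.X 2 + MvPolynomial.C δ := by
  classical
  refine ⟨p.coeff (Finsupp.single 0 1), p.coeff (Finsupp.single 1 1), p.coeff (Finsupp.single 2 1), p.coeff 0, ?_⟩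
  refine MvPolynomial.ext _ _ fun m => ?_
  simp only [MvPolynomial.coeff_add, MvPolynomial.coeff_C_mul, MvPolynomial.coeff_X', MvPolynomial.coeff_C]
  by_cases hm : p.coeff m = 0
  · rw [hm]
    split_ifs <;> simp_all
  · have hd : m 0 + m 1 + m 2 ≤ 1 := by
      refine le_trans ?_ ((MvPolynomial.le_totalDegree (MvPolynomial.mem_support_iff.mpr hm)).trans hp)
      rw [Finsupp.sum_fintype _ _ (fun _ => rfl), Fin.sum_univ_three]
    have hcase : m = 0 ∨ m = Finsupp.single 0 1 ∨ m = Finsupp.single 1 1 ∨ m = Finsupp.single 2 1 := by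
      rcases (show (m 0 = 0 ∧ m 1 = 0 ∧ m 2 = 0) ∨ (m 0 = 1 ∧ m 1 = 0 ∧ m 2 = 0) ∨ (m 0 = 0 ∧ m 1 = 1 ∧ m 2 = 0) ∨ (m 0 = 0 ∧ m 1 = 0 ∧ m 2 = 1) by omega) with h | h | h | h
      · exact Or.inl (Finsupp.ext fun i => by fin_cases i <;> simp [h])
      · exact Or.inr (Or.inl (Finsupp.ext fun i => by fin_cases i <;> simp [h]))
      · exact Or.inr (Or.inr (Or.inl (Finsupp.ext fun i => by fin_cases i <;> simp [h])))
      · exact Or.inr (Or.inr (Or.inr (Finsupp.ext fun i => by fin_cases i <;> simp [h])))
    rcases hcase with rfl | rfl | rfl | rfl <;>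
      simp [Finsupp.single_eq_single_iff, eq_comm (a := (0 : Fin 3 →₀ ℕ))]


/-- For every field k and every choice of coefficients a₁, a₂, a₃, a₄, a₆ in k, the homogeneous
Weierstrass cubic Y²Z + a₁XYZ + a₃YZ² − (X³ + a₂X²Z + a₄XZ² + a₆Z³) is an irreducible polynomial in
k[X, Y, Z]. Applied to all fields, this says every fibre of the Weierstrass family over the affine
space of coefficients is geometrically integral. -/
theorem result (k : Type u) [Field k]
    (W : WeierstrassCurve k) :
    Irreducible (WeierstrassCurve.Projective.polynomial W) := by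
  have hP0 : WeierstrassCurve.Projective.polynomial W ≠ 0 := by
    intro h
    have := congrArg (MvPolynomial.aeval (R := k) ![(Polynomial.X : Polynomial k), 0, 0]) h
    simp [WeierstrassCurve.Projective.polynomial] at this
  have hdeg : (WeierstrassCurve.Projective.polynomial W).totalDegree ≤ 3 := by
    refine MvPolynomial.IsHomogeneous.totalDegree_le ?_
    unfold WeierstrassCurve.Projective.polynomial
    have hX : ∀ i : Fin 3, (MvPolynomial.X i : MvPolynomial (Fin 3) k).IsHomogeneous 1 :=
      fun i => MvPolynomial.isHomogeneous_X _ i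
    have hC : ∀ r : k, (MvPolynomial.C r : MvPolynomial (Fin 3) k).IsHomogeneous 0 :=
      fun r => MvPolynomial.isHomogeneous_C _ r
    exact ((((hX 1).pow 2).mul (hX 2)).add ((((hC _).mul (hX 0)).mul (hX 1)).mul (hX 2))
      |>.add (((hC _).mul (hX 1)).mul ((hX 2).pow 2))).sub
      (((((hX 0).pow 3).add (((hC _).mul ((hX 0).pow 2)).mul (hX 2))).add
        (((hC _).mul (hX 0)).mul ((hX 2).pow 2))).add ((hC _).mul ((hX 2).pow 3)))
  refine irreducible_iff.mpr ⟨?_, fun f g hfg => ?_⟩
  · intro hu
    rw [MvPolynomial.isUnit_iff_totalDegree_of_isReduced, MvPolynomial.totalDegree_eq_zero_iff_eq_C] at hu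
    have e1 := congrArg (MvPolynomial.eval ![(1 : k), 0, 0]) hu.2
    have e0 := congrArg (MvPolynomial.eval ![(0 : k), 0, 0]) hu.2
    simp only [WeierstrassCurve.Projective.eval_polynomial, MvPolynomial.eval_C] at e1 e0
    rw [← e0] at e1
    simp at e1
  · have hf : f ≠ 0 := fun h => hP0 (by rw [hfg, h, zero_mul])
    have hg : g ≠ 0 := fun h => hP0 (by rw [hfg, h, mul_zero])
    have hsum : f.totalDegree + g.totalDegree ≤ 3 := by
      rw [← MvPolynomial.totalDegree_mul_of_isDomain hf hg, ← hfg]
      exact hdeg
    have key : ∀ p q : MvPolynomial (Fin 3) k, p * q = WeierstrassCurve.Projective.polynomial W →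
        p.totalDegree ≤ 1 → IsUnit p := by
      intro p q hpq hp
      obtain ⟨α, β, γ, δ, rfl⟩ := exists_linear p hp
      by_contra hnu
      by_cases h0 : α = 0 ∧ β = 0 ∧ γ = 0
      · obtain ⟨rfl, rfl, rfl⟩ := h0
        by_cases hδ : δ = 0
        · exact hP0 (by rw [← hpq, hδ]; simp)
        · exact hnu (by simpa using (isUnit_iff_ne_zero.mpr hδ).map (MvPolynomial.C (σ := Fin 3)))
      have hev : ∀ v : Fin 3 → Polynomial k, Polynomial.C α * v 0 + Polynomial.C β * v 1 + Polynomial.C γ * v 2 +
          Polynomial.C δ = 0 → MvPolynomial.aeval v (WeierstrassCurve.Projective.polynomial W) = 0 := by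
        intro v hv
        rw [← hpq, map_mul]
        have : MvPolynomial.aeval v (MvPolynomial.C α * MvPolynomial.X 0 + MvPolynomial.C β * MvPolynomial.X 1 +
            MvPolynomial.C γ * MvPolynomial.X 2 + MvPolynomial.C δ) = 0 := by
          simpa [Polynomial.algebraMap_eq] using hv
        rw [this, zero_mul]
      by_cases hα : α = 0
      · subst hα
        obtain ⟨y, z, hyz⟩ : ∃ y z : k, β * y + γ * z + δ = 0 := by
          by_cases hβ : β = 0
          · subst hβ
            have hγ : γ ≠ 0 := fun e => h0 ⟨rfl, rfl, e⟩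
            exact ⟨0, -δ / γ, by field_simp; ring⟩
          · exact ⟨-δ / β, 0, by field_simp; ring⟩
        have h := hev ![Polynomial.X, Polynomial.C y, Polynomial.C z] (by
          simp only [Matrix.cons_val_zero, Matrix.cons_val_one, Matrix.cons_val_two, Matrix.tail_cons,
            Matrix.head_cons, map_zero, zero_mul, zero_add]
          rw [← map_mul, ← map_mul, ← map_add, ← map_add, hyz, map_zero])
        simp only [WeierstrassCurve.Projective.polynomial, map_sub, map_add, map_mul, map_pow,
          MvPolynomial.aeval_X, MvPolynomial.aeval_C, Matrix.cons_val_zero, Matrix.cons_val_one,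
          Matrix.cons_val_two, Matrix.tail_cons, Matrix.head_cons, Polynomial.algebraMap_eq] at h
        have h' : Polynomial.C (-1 : k) * Polynomial.X ^ 3 + Polynomial.C (-(W.a₂ * z)) * Polynomial.X ^ 2 +
            Polynomial.C (W.a₁ * y * z - W.a₄ * z ^ 2) * Polynomial.X +
            Polynomial.C (y ^ 2 * z + W.a₃ * y * z ^ 2 - W.a₆ * z ^ 3) = 0 := by
          rw [← h]
          simp only [map_add, map_sub, map_neg, map_mul, map_pow, map_one]
          ring
        have h3 := congrArg (fun r => Polynomial.coeff r 3) h'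
        simp only [Polynomial.coeff_add, Polynomial.coeff_C_mul, Polynomial.coeff_X_pow, Polynomial.coeff_X,
          Polynomial.coeff_C, Polynomial.coeff_zero] at h3
        norm_num at h3
      · have h := hev ![Polynomial.C (-β / α) * Polynomial.X + Polynomial.C (-(γ + δ) / α), Polynomial.X, Polynomial.C 1] (by
          simp only [Matrix.cons_val_zero, Matrix.cons_val_one, Matrix.cons_val_two, Matrix.tail_cons,
            Matrix.head_cons, mul_add, ← mul_assoc, ← map_mul, mul_one]
          rw [show α * (-β / α) = -β by field_simp, show α * (-(γ + δ) / α) = -(γ + δ) by field_simp,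
            map_neg, map_neg, map_add]
          ring)
        simp only [WeierstrassCurve.Projective.polynomial, map_sub, map_add, map_mul, map_pow,
          MvPolynomial.aeval_X, MvPolynomial.aeval_C, Matrix.cons_val_zero, Matrix.cons_val_one,
          Matrix.cons_val_two, Matrix.tail_cons, Matrix.head_cons, map_one, mul_one, one_pow,
          Polynomial.algebraMap_eq] at h
        set b := -β / α
        set c := -(γ + δ) / α
        have h' : Polynomial.C (-b ^ 3) * Polynomial.X ^ 3 +
            Polynomial.C (1 + W.a₁ * b - 3 * b ^ 2 * c - W.a₂ * b ^ 2) * Polynomial.X ^ 2 +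
            Polynomial.C (W.a₁ * c + W.a₃ - 3 * b * c ^ 2 - 2 * W.a₂ * b * c - W.a₄ * b) * Polynomial.X +
            Polynomial.C (-c ^ 3 - W.a₂ * c ^ 2 - W.a₄ * c - W.a₆) = 0 := by
          rw [← h]
          simp only [map_add, map_sub, map_neg, map_mul, map_pow, map_one, map_ofNat]
          ring
        have h3 := congrArg (fun r => Polynomial.coeff r 3) h'
        have h2 := congrArg (fun r => Polynomial.coeff r 2) h'
        simp only [Polynomial.coeff_add, Polynomial.coeff_C_mul, Polynomial.coeff_X_pow, Polynomial.coeff_X,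
          Polynomial.coeff_C, Polynomial.coeff_zero] at h3 h2
        norm_num at h3 h2
        simp [h3] at h2
    by_cases hf1 : f.totalDegree ≤ 1
    · exact Or.inl (key f g hfg.symm hf1)
    · exact Or.inr (key g f (by rw [mul_comm]; exact hfg.symm) (by omega))

end Groth.Agent.S19178
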