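import Groth.Statements.S19180
import Groth.Agent.ProjCech.Main
import Groth.Agent.W7Cech.GlobSec
import Groth.Agent.CohFinite.Linear
import Groth.Agent.TMul.AmpleBasis
import Groth.Agent.TMul.Pullback

set_option autoImplicit false
universe u
open Coherent

set_option backward.isDefEq.respectTransparency false
set_option backward.isDefEq.respectTransparency.types false

set_option backward.isDefEq.respectTransparency false
set_option backward.isDefEq.respectTransparency.types false
open Opposite Groth.Agent

namespace Groth.Agent.S19180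

open CategoryTheory AlgebraicGeometry in
/-- Let R be a local ring and m ≥ 1, and consider the projective line P¹_R with its structure sheaf O
and twisting sheaf O(m). For every O-module F and every short exact sequence 0 → O(m) → F → O → 0 of
O-modules, the surjection F → O admits a section; consequently F is isomorphic to O(m) ⊕ O. -/
theorem result (R : Type u) [CommRing R] [IsLocalRing R]
    (m : ℕ) (hm : 1 ≤ m) (F : (CohB1.ProjSpace 1 R).Modules)
    (i : Twist.twistProjSpace 1 R (m : ℤ) ⟶ F) (p : F ⟶ Coh.structureModule (CohB1.ProjSpace 1 R))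
    (w : i ≫ p = 0) (hex : (ShortComplex.mk i p w).ShortExact) :
    ∃ s : Coh.structureModule (CohB1.ProjSpace 1 R) ⟶ F, s ≫ p = 𝟙 _ := by
  haveI := ProjCech.twist_vanish (R := R) 1 (m : ℤ) 1 (by omega) (by omega)
  obtain ⟨x, hx⟩ := (CohFinite.δH_eq_zero_iff (CohFinite.shortExact_toAb hex) 0
    (W7Cech.gsH0 R (Coh.structureModule (CohB1.ProjSpace 1 R)) (1 : Γ(CohB1.ProjSpace 1 R, ⊤)))).1
      (Subsingleton.elim (α := Coh.HH (CohB1.ProjSpace 1 R) (Twist.twistProjSpace 1 R (m : ℤ)) 1) _ _)
  obtain ⟨v, rfl⟩ := (W7Cech.gsH0 R F).surjective x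
  have hv := (W7Cech.gsH0 R (Coh.structureModule (CohB1.ProjSpace 1 R))).injective
    ((W7Cech.gsH0_natural R p v).trans hx)
  refine ⟨TMul.homOf v, TMul.hom_ext_val ?_⟩
  rw [TMul.val_comp, TMul.val_homOf, Groth.Agent.QC.res_self]
  exact hv

end Groth.Agent.S19180
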