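import Groth.Statements.S19181
import Mathlib.Algebra.MvPolynomial.Funext
import Mathlib.RingTheory.Polynomial.Nilpotent
import Mathlib.Algebra.MvPolynomial.Equiv
import Mathlib.Algebra.Polynomial.AlgebraMap
import Mathlib.RingTheory.MvPolynomial.Basic

set_option autoImplicit false
universe u
open CAlg

namespace Groth.Agent.S19181

open MvPolynomial in
/-- Let R be a commutative ring, a₁, a₂ ∈ R, and C ⊂ A²_R the curve y² + a₁xy = x³ + a₂x², blown up at
the section x = y = 0. In the chart where x = yα (variables y = X 0, α = X 1) the equation of C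
becomes y²·g₁ with g₁ = 1 + a₁α − yα³ − a₂α², and the y-saturation of the ideal (y²g₁) is (g₁): for
s ∈ R[y, α], some yⁿs lies in (y²g₁) if and only if s ∈ (g₁). In the chart where y = xβ (variables x
= X 0, β = X 1) the equation becomes x²·g₂ with g₂ = β² + a₁β − x − a₂, and some xⁿs lies in (x²g₂)
if and only if s ∈ (g₂). In other words the strict transform of C is cut out by g₁, resp. g₂, in the
two charts. -/
theorem result (R : Type u) [CommRing R] (a₁ a₂ : R) :
    (∀ s : MvPolynomial (Fin 2) R,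
      (∃ n : ℕ, X 0 ^ n * s ∈ Ideal.span ({X 0 ^ 2 * (1 + C a₁ * X 1 - X 0 * X 1 ^ 3 - C a₂ * X 1 ^ 2)} :
        Set (MvPolynomial (Fin 2) R))) ↔
      s ∈ Ideal.span ({1 + C a₁ * X 1 - X 0 * X 1 ^ 3 - C a₂ * X 1 ^ 2} : Set (MvPolynomial (Fin 2) R))) ∧
    (∀ s : MvPolynomial (Fin 2) R,
      (∃ n : ℕ, X 0 ^ n * s ∈ Ideal.span ({X 0 ^ 2 * (X 1 ^ 2 + C a₁ * X 1 - X 0 - C a₂)} :
        Set (MvPolynomial (Fin 2) R))) ↔
      s ∈ Ideal.span ({X 1 ^ 2 + C a₁ * X 1 - X 0 - C a₂} : Set (MvPolynomial (Fin 2) R))) := by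
  classical
  have key : ∀ g : MvPolynomial (Fin 2) R, ∀ G : Polynomial R, MvPolynomial.aeval ![0, Polynomial.X] g = G →
      (∀ H : Polynomial R, G * H = 0 → H = 0) → ∀ s : MvPolynomial (Fin 2) R,
      (∃ n : ℕ, X 0 ^ n * s ∈ Ideal.span ({X 0 ^ 2 * g} : Set (MvPolynomial (Fin 2) R))) ↔ s ∈ Ideal.span ({g} : Set (MvPolynomial (Fin 2) R)) := by
    intro g G hG hnzd s
    have hX : ∀ t : MvPolynomial (Fin 2) R, MvPolynomial.aeval ![(0 : Polynomial R), Polynomial.X] t = 0 → ∃ t', t = X 0 * t' := by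
      intro t ht
      let σ : MvPolynomial (Fin 2) R →ₐ[R] MvPolynomial (Fin 2) R := MvPolynomial.aeval ![0, X 1]
      have h1 : ∀ q : MvPolynomial (Fin 2) R, ∃ q', q - σ q = X 0 * q' := by
        intro q
        induction q using MvPolynomial.induction_on with
        | C r => exact ⟨0, by simp [σ]⟩
        | add p q hp hq =>
          obtain ⟨a, ha⟩ := hp
          obtain ⟨b, hb⟩ := hq
          exact ⟨a + b, by rw [map_add, mul_add, ← ha, ← hb]; ring⟩
        | mul_X p i hp =>
          obtain ⟨a, ha⟩ := hp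
          fin_cases i
          · exact ⟨p, by simp [σ, mul_comm]⟩
          · refine ⟨a * X 1, ?_⟩
            rw [map_mul, ← mul_assoc, ← ha]
            simp [σ, sub_mul]
      obtain ⟨t', ht'⟩ := h1 t
      refine ⟨t', ?_⟩
      have h2 : σ t = (Polynomial.aeval (X 1 : MvPolynomial (Fin 2) R)) (MvPolynomial.aeval ![(0 : Polynomial R), Polynomial.X] t) := by
        rw [MvPolynomial.comp_aeval_apply]
        show MvPolynomial.aeval _ t = MvPolynomial.aeval _ t
        congr 2
        funext i
        fin_cases i <;> simp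
      rw [ht, map_zero] at h2
      rw [← ht', h2, sub_zero]
    have hcancel : ∀ t : MvPolynomial (Fin 2) R, X 0 * t ∈ Ideal.span ({g} : Set (MvPolynomial (Fin 2) R)) → t ∈ Ideal.span ({g} : Set (MvPolynomial (Fin 2) R)) := by
      intro t ht
      obtain ⟨c, hc⟩ := Ideal.mem_span_singleton'.1 ht
      have h1 := congrArg (MvPolynomial.aeval ![(0 : Polynomial R), Polynomial.X]) hc
      rw [map_mul, map_mul, hG] at h1
      simp only [MvPolynomial.aeval_X, Matrix.cons_val_zero, zero_mul] at h1
      obtain ⟨c', rfl⟩ := hX c (hnzd _ (by rw [mul_comm]; exact h1))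
      refine Ideal.mem_span_singleton'.2 ⟨c', ?_⟩
      rw [mul_assoc] at hc
      exact (isRegular_X (R := R) (n := (0 : Fin 2))).left hc
    constructor
    · rintro ⟨n, hn⟩
      have h1 : X 0 ^ n * s ∈ Ideal.span ({g} : Set (MvPolynomial (Fin 2) R)) := by
        refine (Ideal.span_singleton_le_iff_mem _).2 ?_ hn
        exact Ideal.mul_mem_left _ _ (Ideal.mem_span_singleton_self g)
      clear hn
      induction n with
      | zero => simpa using h1
      | succ n ih => exact ih (hcancel _ (by rwa [← mul_assoc, ← pow_succ']))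
    · intro hs
      obtain ⟨c, rfl⟩ := Ideal.mem_span_singleton'.1 hs
      exact ⟨2, Ideal.mem_span_singleton'.2 ⟨c, by ring⟩⟩
  refine ⟨key _ (1 + Polynomial.C a₁ * Polynomial.X - Polynomial.C a₂ * Polynomial.X ^ 2) (by simp) ?_,
    key _ (Polynomial.X ^ 2 + Polynomial.C a₁ * Polynomial.X - Polynomial.C a₂) (by simp) ?_⟩
  · intro H hH
    by_contra h0
    have h1 := congrArg (fun q => Polynomial.coeff q H.natTrailingDegree) hH
    have hlow : ∀ m < H.natTrailingDegree, H.coeff m = 0 := fun m hm => Polynomial.coeff_eq_zero_of_lt_natTrailingDegree hm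
    simp only [sub_mul, add_mul, one_mul, mul_assoc, Polynomial.coeff_sub, Polynomial.coeff_add, Polynomial.coeff_C_mul, Polynomial.coeff_zero] at h1
    rcases hk : H.natTrailingDegree with _ | _ | k <;> rw [hk] at h1 hlow <;>
      simp [Polynomial.coeff_X_pow_mul', Polynomial.coeff_X_mul, hlow] at h1 <;>
      exact Polynomial.trailingCoeff_eq_zero.not.2 h0 (by rw [Polynomial.trailingCoeff, hk]; exact h1)
  · intro H hH
    have hm : (Polynomial.X ^ 2 + Polynomial.C a₁ * Polynomial.X - Polynomial.C a₂ : Polynomial R).Monic := by monicity!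
    exact hm.mul_right_eq_zero_iff.1 hH

end Groth.Agent.S19181
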