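import Groth.Statements.S19182
import Mathlib.RingTheory.Smooth.Basic
import Mathlib.RingTheory.Localization.Away.Basic
import Mathlib.Tactic.LinearCombination
import Mathlib.Tactic.FinCases
import Mathlib.RingTheory.Polynomial.Basic
import Mathlib.RingTheory.FinitePresentation
import Mathlib.RingTheory.Ideal.Quotient.Operations

set_option autoImplicit false
universe u
open CAlg

namespace Groth.Agent.S19182

open MvPolynomial in
/-- Let R be a commutative ring and a₁, a₂ ∈ R. The two affine charts of the blow-up of the plane curve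
y² + a₁xy = x³ + a₂x² at the section x = y = 0, with coordinate rings R[y, α]/(1 + a₁α − yα³ − a₂α²)
and R[x, β]/(β² + a₁β − x − a₂) (variables indexed 0 and 1 in this order), are smooth R-algebras
(formally smooth of finite presentation). This is the local computation behind the statement that
the blow-up of a Weierstrass curve along a section through its singular locus is a smooth proper
curve of genus 0. -/
theorem result (R : Type u) [CommRing R] (a₁ a₂ : R) :
    Algebra.Smooth R (MvPolynomial (Fin 2) R ⧸
      Ideal.span ({1 + C a₁ * X 1 - X 0 * X 1 ^ 3 - C a₂ * X 1 ^ 2} : Set (MvPolynomial (Fin 2) R))) ∧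
    Algebra.Smooth R (MvPolynomial (Fin 2) R ⧸
      Ideal.span ({X 1 ^ 2 + C a₁ * X 1 - X 0 - C a₂} : Set (MvPolynomial (Fin 2) R))) := by
  classical
  have : Algebra.Smooth R (Polynomial R) := ⟨inferInstance, inferInstance⟩
  constructor
  · let g : MvPolynomial (Fin 2) R := 1 + C a₁ * X 1 - X 0 * X 1 ^ 3 - C a₂ * X 1 ^ 2
    let Q := MvPolynomial (Fin 2) R ⧸ Ideal.span ({g} : Set (MvPolynomial (Fin 2) R))
    let L := Localization.Away (Polynomial.X : Polynomial R)
    let α : L := algebraMap (Polynomial R) L Polynomial.X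
    let β : L := IsLocalization.Away.invSelf (Polynomial.X : Polynomial R)
    have hαβ : α * β = 1 := IsLocalization.Away.mul_invSelf (S := L) (Polynomial.X : Polynomial R)
    let φ₀ : MvPolynomial (Fin 2) R →ₐ[R] L :=
      MvPolynomial.aeval ![(1 + algebraMap R L a₁ * α - algebraMap R L a₂ * α ^ 2) * β ^ 3, α]
    have hφ₀ : φ₀ g = 0 := by
      simp only [g, φ₀, map_sub, map_add, map_one, map_mul, map_pow, aeval_X, algebraMap_eq, aeval_C,
        Matrix.cons_val_zero, Matrix.cons_val_one]
      have h3 : (α * β) ^ 3 = 1 := by rw [hαβ, one_pow]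
      linear_combination -(1 + algebraMap R L a₁ * α - algebraMap R L a₂ * α ^ 2) * h3
    let φ : Q →ₐ[R] L := Ideal.Quotient.liftₐ _ φ₀ (fun x hx => by
      obtain ⟨c, rfl⟩ := Ideal.mem_span_singleton'.mp hx
      rw [map_mul, hφ₀, mul_zero])
    let a : Q := Ideal.Quotient.mk _ (X 1)
    let y : Q := Ideal.Quotient.mk _ (X 0)
    have hg : 1 + algebraMap R Q a₁ * a - y * a ^ 3 - algebraMap R Q a₂ * a ^ 2 = 0 := by
      have : Ideal.Quotient.mk (Ideal.span {g}) g = 0 := Ideal.Quotient.eq_zero_iff_mem.mpr (Ideal.mem_span_singleton_self g)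
      simp only [g, map_add, map_sub, map_mul, map_pow, map_one] at this
      exact this
    have hu : IsUnit (Polynomial.aeval a (Polynomial.X : Polynomial R)) := by
      rw [Polynomial.aeval_X]
      exact IsUnit.of_mul_eq_one (y * a ^ 2 + algebraMap R Q a₂ * a - algebraMap R Q a₁) (by linear_combination -hg)
    have hpow : ∀ z : Submonoid.powers (Polynomial.X : Polynomial R), IsUnit (Polynomial.aeval a (z : Polynomial R)) := by
      rintro ⟨_, n, rfl⟩
      simpa using hu.pow n
    let ψ : L →ₐ[R] Q := IsLocalization.liftAlgHom (M := Submonoid.powers (Polynomial.X : Polynomial R)) (f := Polynomial.aeval a) hpow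
    have hψα : ψ α = a := by
      show IsLocalization.lift _ (algebraMap _ L Polynomial.X) = a
      rw [IsLocalization.lift_eq]; exact Polynomial.aeval_X a
    have hψβ : a * ψ β = 1 := by rw [← hψα, ← map_mul, hαβ, map_one]
    have e1 : φ.comp ψ = AlgHom.id R L := by
      refine IsLocalization.algHom_ext (Submonoid.powers (Polynomial.X : Polynomial R)) (Polynomial.algHom_ext ?_)
      show φ (ψ α) = α
      rw [hψα]
      exact (MvPolynomial.aeval_X _ 1).trans (by simp)
    have e2 : ψ.comp φ = AlgHom.id R Q := by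
      refine Ideal.Quotient.algHom_ext R (MvPolynomial.algHom_ext fun i => ?_)
      show ψ (φ₀ (X i)) = Ideal.Quotient.mk _ (X i)
      fin_cases i
      · simp only [φ₀, aeval_X, Fin.zero_eta, Matrix.cons_val_zero, map_mul, map_sub, map_add, map_one, map_pow, AlgHom.commutes, hψα]
        have h3 : (a * ψ β) ^ 3 = 1 := by rw [hψβ, one_pow]
        linear_combination y * h3 + (ψ β) ^ 3 * hg
      · simpa [φ₀] using hψα
    have : Algebra.Smooth (Polynomial R) L := Algebra.Smooth.of_isLocalization_Away (Polynomial.X : Polynomial R)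
    have : Algebra.Smooth R L := Algebra.Smooth.comp R (Polynomial R) L
    exact Algebra.Smooth.of_equiv (AlgEquiv.ofAlgHom ψ φ e2 e1)
  · let g : MvPolynomial (Fin 2) R := X 1 ^ 2 + C a₁ * X 1 - X 0 - C a₂
    let Q := MvPolynomial (Fin 2) R ⧸ Ideal.span ({g} : Set (MvPolynomial (Fin 2) R))
    let φ₀ : MvPolynomial (Fin 2) R →ₐ[R] Polynomial R :=
      MvPolynomial.aeval ![Polynomial.X ^ 2 + Polynomial.C a₁ * Polynomial.X - Polynomial.C a₂, Polynomial.X]
    have hφ₀ : φ₀ g = 0 := by
      simp only [g, φ₀, map_sub, map_add, map_mul, map_pow, aeval_X, aeval_C, Matrix.cons_val_zero, Matrix.cons_val_one, Polynomial.algebraMap_eq]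
      ring
    let φ : Q →ₐ[R] Polynomial R := Ideal.Quotient.liftₐ _ φ₀ (fun x hx => by
      obtain ⟨c, rfl⟩ := Ideal.mem_span_singleton'.mp hx
      rw [map_mul, hφ₀, mul_zero])
    let b : Q := Ideal.Quotient.mk _ (X 1)
    let ψ : Polynomial R →ₐ[R] Q := Polynomial.aeval b
    have e1 : φ.comp ψ = AlgHom.id R _ := Polynomial.algHom_ext (by
      show φ (Polynomial.aeval b Polynomial.X) = _
      rw [Polynomial.aeval_X]
      exact (MvPolynomial.aeval_X _ 1).trans (by simp))
    have e2 : ψ.comp φ = AlgHom.id R Q := by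
      refine Ideal.Quotient.algHom_ext R (MvPolynomial.algHom_ext fun i => ?_)
      show ψ (φ₀ (X i)) = Ideal.Quotient.mk _ (X i)
      fin_cases i
      · simp only [φ₀, ψ, aeval_X, Fin.zero_eta, Matrix.cons_val_zero, map_mul, map_sub, map_add, map_pow, Polynomial.aeval_X, Polynomial.aeval_C, b]
        rw [← Ideal.Quotient.mk_algebraMap, ← Ideal.Quotient.mk_algebraMap, ← map_pow, ← map_mul, ← map_add, ← map_sub, Ideal.Quotient.eq, Ideal.mem_span_singleton]
        exact ⟨1, by simp [g, algebraMap_eq]; ring⟩
      · simp [φ₀, ψ, b]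
    exact Algebra.Smooth.of_equiv (AlgEquiv.ofAlgHom ψ φ e2 e1)

end Groth.Agent.S19182
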