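import Groth.Statements.S19183
import Mathlib.LinearAlgebra.Dimension.StrongRankCondition
import Mathlib.RingTheory.Ideal.Span
import Mathlib.LinearAlgebra.Prod
import Mathlib.LinearAlgebra.Basis.Prod
import Mathlib.RingTheory.FiniteType
import Mathlib.LinearAlgebra.Dimension.Constructions

set_option autoImplicit false
universe u
open CAlg

namespace Groth.Agent.S19183

/-- Let A be a non-zero commutative ring and f ∈ A a non-zero-divisor. The fibre product A ×_{A/(f)} A
of two copies of A over A/(f) — the A-submodule of A × A of pairs (x, y) with x − y ∈ (f), which is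
the coordinate ring of two copies of Spec A glued along the Cartier divisor f = 0 — is a free
A-module of rank 2. (This is what makes the gluing of two copies of a curve along an effective
Cartier divisor finite locally free of degree 2 over the curve.) -/
theorem result (A : Type u) [CommRing A] [Nontrivial A]
    (f : A) (hf : f ∈ nonZeroDivisors A) :
    Module.Free A (Submodule.comap (LinearMap.fst A A A - LinearMap.snd A A A) (Ideal.span ({f} : Set A))) ∧
      Module.finrank A (Submodule.comap (LinearMap.fst A A A - LinearMap.snd A A A) (Ideal.span ({f} : Set A))) = 2 := by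
  let S := Submodule.comap (LinearMap.fst A A A - LinearMap.snd A A A) (Ideal.span ({f} : Set A))
  let φ : A × A →ₗ[A] S := LinearMap.codRestrict S
    { toFun := fun q => (q.1 + f * q.2, q.1)
      map_add' := fun x y => by ext <;> simp [mul_add, add_add_add_comm]
      map_smul' := fun c x => by ext <;> simp [mul_add, mul_left_comm] }
    fun q => by simp [S, Ideal.mem_span_singleton]
  have hφ : Function.Bijective φ := by
    refine ⟨(injective_iff_map_eq_zero φ).2 fun q hq => ?_, fun y => ?_⟩
    · have h := congrArg Subtype.val hq
      have h2 : q.1 = 0 := congrArg Prod.snd h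
      have h1 : q.1 + f * q.2 = 0 := congrArg Prod.fst h
      rw [h2, zero_add, mul_comm] at h1
      exact Prod.ext h2 (mem_nonZeroDivisors_iff_right.1 hf _ h1)
    · obtain ⟨c, hc⟩ := Ideal.mem_span_singleton.1 (show y.1.1 - y.1.2 ∈ Ideal.span ({f} : Set A) from y.2)
      exact ⟨(y.1.2, c), Subtype.ext (Prod.ext (show y.1.2 + f * c = y.1.1 by rw [← hc]; ring) rfl)⟩
  let e := LinearEquiv.ofBijective φ hφ
  exact ⟨Module.Free.of_equiv e, by rw [← e.finrank_eq, Module.finrank_prod, Module.finrank_self]⟩

end Groth.Agent.S19183
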