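import Groth.Statements.S19184
import Mathlib.Algebra.Polynomial.Div
import Mathlib.Tactic.ComputeDegree
import Mathlib.RingTheory.Ideal.Quotient.Operations
import Mathlib.LinearAlgebra.FreeModule.Basic
import Mathlib.LinearAlgebra.Basis.Prod
import Mathlib.Algebra.Polynomial.Basis
import Mathlib.RingTheory.Polynomial.Basic
import Mathlib.Tactic.Ring
import Mathlib.LinearAlgebra.Finsupp.VectorSpace
import Mathlib.Algebra.Polynomial.Module.Basic

set_option autoImplicit false
universe u
open CAlg

namespace Groth.Agent.S19184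

open Polynomial in
/-- Let S be a commutative ring, a, b ∈ S, f = x² + ax + b ∈ S[x] and R = S[x]/(f), a free S-algebra of
rank 2. Let A ⊂ S[x] be the S-subalgebra of polynomials whose class in R lies in the image of S → R;
it is the fibre product S[x] ×_R S, the coordinate ring of the affine line over S with the degree-2
subscheme Spec R collapsed onto Spec S. Then A is a free S-module and S[x] is a finitely generated
A-module. -/
theorem result (S : Type u) [CommRing S] (a b : S) :
    Module.Free S ((⊥ : Subalgebra S (S[X] ⧸ Ideal.span ({X ^ 2 + C a * X + C b} : Set S[X]))).comap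
        (Ideal.Quotient.mkₐ S (Ideal.span ({X ^ 2 + C a * X + C b} : Set S[X])))) ∧
      Module.Finite ((⊥ : Subalgebra S (S[X] ⧸ Ideal.span ({X ^ 2 + C a * X + C b} : Set S[X]))).comap
        (Ideal.Quotient.mkₐ S (Ideal.span ({X ^ 2 + C a * X + C b} : Set S[X])))) S[X] := by
  classical
  let f : Polynomial S := Polynomial.X ^ 2 + Polynomial.C a * Polynomial.X + Polynomial.C b
  let 𝔸 := ((⊥ : Subalgebra S (Polynomial S ⧸ Ideal.span ({f} : Set (Polynomial S)))).comap (Ideal.Quotient.mkₐ S (Ideal.span ({f} : Set (Polynomial S)))))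
  show Module.Free S 𝔸 ∧ Module.Finite 𝔸 (Polynomial S)
  rcases subsingleton_or_nontrivial S with h | h
  · exact ⟨Module.Free.of_subsingleton S _, inferInstance⟩
  have hf : f.Monic := by
    show (Polynomial.X ^ 2 + Polynomial.C a * Polynomial.X + Polynomial.C b).Monic
    monicity!
  have hdeg : f.natDegree = 2 := by
    show (Polynomial.X ^ 2 + Polynomial.C a * Polynomial.X + Polynomial.C b).natDegree = 2
    compute_degree!
  have hmem : ∀ (c : S) (q : Polynomial S), Polynomial.C c + f * q ∈ 𝔸 := fun c q => by
    rw [Subalgebra.mem_comap, Algebra.mem_bot]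
    refine ⟨c, ?_⟩
    rw [map_add, map_mul]
    show algebraMap S _ c = Ideal.Quotient.mk _ (Polynomial.C c) + Ideal.Quotient.mk _ f * _
    rw [Ideal.Quotient.eq_zero_iff_mem.mpr (Ideal.mem_span_singleton_self f), zero_mul, add_zero]
    rfl
  constructor
  · let L : (S × Polynomial S) →ₗ[S] 𝔸 :=
      { toFun := fun cq => ⟨Polynomial.C cq.1 + f * cq.2, hmem _ _⟩
        map_add' := fun x y => Subtype.ext (by simp [mul_add]; ring)
        map_smul' := fun s x => Subtype.ext (by simp [Polynomial.smul_eq_C_mul, smul_add, map_mul, mul_add]; ring) }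
    have hinj : Function.Injective L := by
      rw [injective_iff_map_eq_zero]
      rintro ⟨c, q⟩ hx
      have h0 : Polynomial.C c + f * q = 0 := congrArg Subtype.val hx
      by_cases hq : q = 0
      · simpa [hq] using h0
      · exfalso
        have h1 := congrArg Polynomial.natDegree (eq_neg_of_add_eq_zero_right h0)
        rw [Polynomial.natDegree_neg, Polynomial.natDegree_C, hf.natDegree_mul' hq, hdeg] at h1
        omega
    have hsur : Function.Surjective L := by
      rintro ⟨g, hg⟩
      obtain ⟨c, hc⟩ := Algebra.mem_bot.mp hg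
      have hmem' : g - Polynomial.C c ∈ Ideal.span ({f} : Set (Polynomial S)) :=
        Ideal.Quotient.eq.mp hc.symm
      obtain ⟨q, hq⟩ := Ideal.mem_span_singleton'.mp hmem'
      exact ⟨(c, q), Subtype.ext (show Polynomial.C c + f * q = g by rw [mul_comm, hq]; ring)⟩
    exact Module.Free.of_equiv (LinearEquiv.ofBijective L ⟨hinj, hsur⟩)
  · refine ⟨⟨{1, Polynomial.X}, eq_top_iff.mpr fun g _ => ?_⟩⟩
    have hr : (g %ₘ f).natDegree ≤ 1 := by
      have := Polynomial.natDegree_modByMonic_lt g hf (fun h1 => by rw [h1, Polynomial.natDegree_one] at hdeg; omega)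
      omega
    obtain ⟨c₁, c₀, hc⟩ := Polynomial.exists_eq_X_add_C_of_natDegree_le_one hr
    have hg : g = (⟨_, hmem c₀ (g /ₘ f)⟩ : 𝔸) • (1 : Polynomial S) + (⟨_, hmem c₁ 0⟩ : 𝔸) • Polynomial.X := by
      conv_lhs => rw [← Polynomial.modByMonic_add_div g f, hc]
      show _ = (Polynomial.C c₀ + f * (g /ₘ f)) * 1 + (Polynomial.C c₁ + f * 0) * Polynomial.X
      ring
    rw [hg]
    exact add_mem (Submodule.smul_mem _ _ (Submodule.subset_span (by simp))) (Submodule.smul_mem _ _ (Submodule.subset_span (by simp)))

end Groth.Agent.S19184
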