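import Groth.Statements.S19185
import Groth.Agent.ChartSm.Basic

set_option autoImplicit false
universe u
open Curves

set_option backward.isDefEq.respectTransparency false
set_option backward.isDefEq.respectTransparency.types false

namespace Groth.Agent.S19185

/-- Let k be a field, n ≥ 3, q a binary quadratic form and ξ a binary form of degree n over k, given by
coefficient vectors (q_i the coefficient of x^i y^(2−i), ξ_j that of x^j y^(n−j)), not both zero.
The pair (q, ξ) is a global section of O(2) ⊕ O(n) on P¹_k, i.e. of the line bundle of class e + nf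
on the Hirzebruch surface F_{n−2} = P(O ⊕ O(n−2)) → P¹_k, and cuts out the curve W : q·u + ξ·v = 0
there ([u : v] the fibre coordinates). Over the two standard opens of P¹ (t = x/y, s = y/x) and the
two opens u ≠ 0, v ≠ 0 of the fibres, W is covered by four affine charts with coordinate rings k[t,
w]/(q(t,1) + ξ(t,1)·w), k[t, w]/(q(t,1)·w + ξ(t,1)), k[s, w]/(q(1,s) + ξ(1,s)·w) and k[s,
w]/(q(1,s)·w + ξ(1,s)) (variables indexed 0 for t or s and 1 for w). Then W is smooth over k — all
four chart algebras are smooth k-algebras — if and only if the resultant of q and ξ (the Sylvester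
determinant of the two coefficient vectors with size parameters 2 and n) is nonzero. (The published
statement is over a general base scheme B, for a section (q, ξ) vanishing on no fibre, with 'the
resultant is a unit on B' in place of 'nonzero'; its proof reduces at once to the statement over a
field given here, which is the case B = Spec k.) -/
theorem result (k : Type u) [Field k] (n : ℕ) (hn : 3 ≤ n)
    (q : Fin 3 → k) (ξ : Fin (n + 1) → k) (hqξ : q ≠ 0 ∨ ξ ≠ 0) :
    (Algebra.Smooth k (MvPolynomial (Fin 2) k ⧸ Ideal.span ({(∑ i : Fin 3, MvPolynomial.C (q i) * MvPolynomial.X 0 ^ (i : ℕ)) + (∑ j : Fin (n + 1), MvPolynomial.C (ξ j) * MvPolynomial.X 0 ^ (j : ℕ)) * MvPolynomial.X 1} : Set (MvPolynomial (Fin 2) k))) ∧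
      Algebra.Smooth k (MvPolynomial (Fin 2) k ⧸ Ideal.span ({(∑ i : Fin 3, MvPolynomial.C (q i) * MvPolynomial.X 0 ^ (i : ℕ)) * MvPolynomial.X 1 + (∑ j : Fin (n + 1), MvPolynomial.C (ξ j) * MvPolynomial.X 0 ^ (j : ℕ))} : Set (MvPolynomial (Fin 2) k))) ∧
      Algebra.Smooth k (MvPolynomial (Fin 2) k ⧸ Ideal.span ({(∑ i : Fin 3, MvPolynomial.C (q i) * MvPolynomial.X 0 ^ (2 - (i : ℕ))) + (∑ j : Fin (n + 1), MvPolynomial.C (ξ j) * MvPolynomial.X 0 ^ (n - (j : ℕ))) * MvPolynomial.X 1} : Set (MvPolynomial (Fin 2) k))) ∧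
      Algebra.Smooth k (MvPolynomial (Fin 2) k ⧸ Ideal.span ({(∑ i : Fin 3, MvPolynomial.C (q i) * MvPolynomial.X 0 ^ (2 - (i : ℕ))) * MvPolynomial.X 1 + (∑ j : Fin (n + 1), MvPolynomial.C (ξ j) * MvPolynomial.X 0 ^ (n - (j : ℕ)))} : Set (MvPolynomial (Fin 2) k)))) ↔
    Polynomial.resultant (∑ i : Fin 3, Polynomial.C (q i) * Polynomial.X ^ (i : ℕ))
      (∑ j : Fin (n + 1), Polynomial.C (ξ j) * Polynomial.X ^ (j : ℕ)) 2 n ≠ 0 := by
  have key : ∀ {m : ℕ} (e : Fin (m + 1) → ℕ) (c : Fin (m + 1) → k),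
      Polynomial.aeval (MvPolynomial.X 0 : MvPolynomial (Fin 2) k) (∑ i, Polynomial.C (c i) * Polynomial.X ^ e i) =
        ∑ i, MvPolynomial.C (c i) * MvPolynomial.X 0 ^ e i := fun e c => by
    simp [MvPolynomial.algebraMap_eq]
  have h1 := key (fun i : Fin 3 => (i : ℕ)) q
  have h2 := key (fun j : Fin (n + 1) => (j : ℕ)) ξ
  have h3 := key (fun i : Fin 3 => 2 - (i : ℕ)) q
  have h4 := key (fun j : Fin (n + 1) => n - (j : ℕ)) ξ
  have comm : ∀ x y : MvPolynomial (Fin 2) k, x * MvPolynomial.X 1 + y = y + x * MvPolynomial.X 1 := fun x y => add_comm _ _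
  rw [← h1, ← h2, ← h3, ← h4, comm, comm]
  have hne : Groth.Agent.ChartSm.poly q ≠ 0 ∨ Groth.Agent.ChartSm.poly ξ ≠ 0 := by
    refine hqξ.imp (fun h h0 => h ?_) (fun h h0 => h ?_) <;> funext i
    · have := Groth.Agent.ChartSm.poly_coeff q i; rw [h0] at this; simpa using this.symm
    · have := Groth.Agent.ChartSm.poly_coeff ξ i; rw [h0] at this; simpa using this.symm
  have hne' : Groth.Agent.ChartSm.rpoly q ≠ 0 ∨ Groth.Agent.ChartSm.rpoly ξ ≠ 0 := by
    have key' : ∀ {m : ℕ} (c : Fin (m + 1) → k), Groth.Agent.ChartSm.rpoly c = 0 → c = 0 := fun {m} c h0 => by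
      funext i
      have := congrArg (fun p => Polynomial.coeff p (m - (i : ℕ))) h0
      simp [Groth.Agent.ChartSm.rpoly, Polynomial.finsetSum_coeff, Polynomial.coeff_C_mul, Polynomial.coeff_X_pow] at this
      rw [Finset.sum_eq_single i (fun j _ hne => if_neg fun h => hne (Fin.ext (by omega)))
        (fun h => absurd (Finset.mem_univ i) h), if_pos rfl] at this
      exact this
    exact hqξ.imp (fun h h0 => h (key' q h0)) (fun h h0 => h (key' ξ h0))
  have hpq := Groth.Agent.ChartSm.resultant_ne_zero_iff (two_ne_zero) q ξ (by omega : n ≠ 0)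
  constructor
  · rintro ⟨s1, s2, s3, s4⟩
    exact hpq.2 ⟨(Groth.Agent.ChartSm.smooth_pair_iff hne).1 ⟨s1, s2⟩, (Groth.Agent.ChartSm.smooth_pair_iff hne').1 ⟨s3, s4⟩⟩
  · intro h
    obtain ⟨c1, c2⟩ := hpq.1 h
    exact ⟨Groth.Agent.ChartSm.smooth_lin_of_isCoprime c1, Groth.Agent.ChartSm.smooth_lin_of_isCoprime c1.symm,
      Groth.Agent.ChartSm.smooth_lin_of_isCoprime c2, Groth.Agent.ChartSm.smooth_lin_of_isCoprime c2.symm⟩

end Groth.Agent.S19185
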