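import Groth.Statements.S19186
import Mathlib

set_option autoImplicit false
universe u
open OneMot

namespace Groth.Agent.S19186

/-- Let p and ℓ be distinct prime numbers, r and n natural numbers, and f : A → B a homomorphism of
abelian groups whose kernel and cokernel are annihilated by p^r (f a = 0 implies p^r • a = 0, and
every p^r • b lies in the image of f). Then f induces a bijection between the ℓ^n-torsion subgroups
of A and B and a bijection A/ℓ^n A → B/ℓ^n B. Spelled out without quotients: every ℓ^n-torsion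
element of B has exactly one ℓ^n-torsion preimage; an element of A whose image is an ℓ^n-multiple is
itself an ℓ^n-multiple; and every element of B is the sum of an image and an ℓ^n-multiple. -/
theorem result {A B : Type u} [AddCommGroup A] [AddCommGroup B] (f : A →+ B) (p ℓ r n : ℕ) (hp : p.Prime) (hl : ℓ.Prime) (hne : ℓ ≠ p) (hker : ∀ a : A, f a = 0 → p ^ r • a = 0) (hcoker : ∀ b : B, ∃ a : A, f a = p ^ r • b) : (∀ b : B, ℓ ^ n • b = 0 → ∃! a : A, ℓ ^ n • a = 0 ∧ f a = b) ∧ (∀ a : A, (∃ b' : B, f a = ℓ ^ n • b') → ∃ a' : A, a = ℓ ^ n • a') ∧ (∀ b : B, ∃ (a : A) (b' : B), b = f a + ℓ ^ n • b') := by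
  have hcop : ∀ s : ℕ, IsCoprime ((p : ℤ) ^ s) ((ℓ : ℤ) ^ n) := fun s => by
    have h : Nat.Coprime (p ^ s) (ℓ ^ n) := ((Nat.coprime_primes hp hl).2 (Ne.symm hne)).pow s n
    exact_mod_cast Nat.isCoprime_iff_coprime.2 h
  refine ⟨fun b hb => ?_, fun a ⟨b', hb'⟩ => ?_, fun b => ?_⟩
  · obtain ⟨u, v, huv⟩ := hcop r
    obtain ⟨a0, ha0⟩ := hcoker b
    have h1 : p ^ r • (ℓ ^ n • a0) = 0 := hker _ (by rw [map_nsmul, ha0, smul_comm, hb, smul_zero])
    have hb1 : b = (u * (p : ℤ) ^ r) • b := by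
      conv_lhs => rw [← one_zsmul b, ← huv, add_zsmul]
      rw [mul_zsmul b v, show ((ℓ : ℤ) ^ n) • b = 0 by exact_mod_cast hb, zsmul_zero, add_zero]
    refine ⟨(u * u) • (p ^ r • a0), ⟨?_, ?_⟩, ?_⟩
    · rw [smul_comm, smul_comm (ℓ ^ n) (p ^ r) a0, h1, zsmul_zero]
    · rw [map_zsmul, map_nsmul, ha0]
      conv_rhs => rw [hb1, hb1]
      simp only [← natCast_zsmul, smul_smul, Nat.cast_pow]
      ring_nf
    · rintro a ⟨ha, hfa⟩
      let d := a - (u * u) • (p ^ r • a0)
      have hd1 : ℓ ^ n • d = 0 := by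
        simp only [d, smul_sub, ha]
        rw [smul_comm, smul_comm (ℓ ^ n) (p ^ r) a0, h1, zsmul_zero, sub_zero]
      have hd2 : p ^ r • d = 0 := hker _ (by
        simp only [d, map_sub, hfa, map_zsmul, map_nsmul, ha0]
        conv_lhs => lhs; rw [hb1, hb1]
        simp only [← natCast_zsmul, smul_smul, Nat.cast_pow]
        ring_nf
        simp)
      have : d = 0 := by
        rw [← one_zsmul d, ← huv, add_zsmul, mul_zsmul d u, mul_zsmul d v,
          show ((ℓ : ℤ) ^ n) • d = 0 by exact_mod_cast hd1, show ((p : ℤ) ^ r) • d = 0 by exact_mod_cast hd2]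
        simp
      exact sub_eq_zero.1 this
  · obtain ⟨u, v, huv⟩ := hcop (r + r)
    obtain ⟨a0, ha0⟩ := hcoker b'
    have h1 : p ^ r • (p ^ r • a - ℓ ^ n • a0) = 0 :=
      hker _ (by rw [map_sub, map_nsmul, map_nsmul, hb', ha0, smul_comm, sub_self])
    rw [smul_sub, sub_eq_zero, smul_smul, ← pow_add, smul_comm (p ^ r) (ℓ ^ n) a0] at h1
    refine ⟨v • a + u • (p ^ r • a0), ?_⟩
    conv_lhs => rw [← one_zsmul a, ← huv, add_zsmul]
    rw [mul_zsmul a u, mul_zsmul a v, show ((p : ℤ) ^ (r + r)) • a = ℓ ^ n • (p ^ r • a0) by exact_mod_cast h1,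
      smul_add, smul_comm (ℓ ^ n) u, add_comm, smul_comm (ℓ ^ n) v]
    congr 2
    exact_mod_cast rfl
  · obtain ⟨u, v, huv⟩ := hcop r
    obtain ⟨a0, ha0⟩ := hcoker b
    refine ⟨u • a0, v • b, ?_⟩
    conv_lhs => rw [← one_zsmul b, ← huv, add_zsmul]
    rw [mul_zsmul b u, mul_zsmul b v, map_zsmul, ha0, smul_comm (ℓ ^ n) v]
    simp [← natCast_zsmul]

end Groth.Agent.S19186
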