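import Groth.Statements.S19189
import Mathlib

set_option autoImplicit false
set_option backward.isDefEq.respectTransparency false
set_option backward.isDefEq.respectTransparency.types false
set_option linter.style.haveILetI false
universe v u
open CategoryTheory CategoryTheory.Limits CategoryTheory.Pretriangulated CategoryTheory.Triangulated
open CohDer

namespace Groth.Agent.S19189

section

variable {C : Type u} [Category.{v} C] [Preadditive C]

/-- the idempotent splits -/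
def Splits {X : C} (p : X ⟶ X) : Prop := ∃ (Y : C) (i : Y ⟶ X) (e : X ⟶ Y), i ≫ e = 𝟙 Y ∧ e ≫ i = p

lemma splits_of_near {X : C} (p q : X ⟶ X) (hp : p ≫ p = p) (hq : q ≫ q = q) (h : (p - q) ≫ (p - q) = 0)
    (hs : Splits q) : Splits p := by
  obtain ⟨Y, i, e, hie, hei⟩ := hs
  let u := p ≫ q + (𝟙 X - p) ≫ (𝟙 X - q)
  let w := q ≫ p + (𝟙 X - q) ≫ (𝟙 X - p)
  have hw : u ≫ w = 𝟙 X := by
    have : u ≫ w = 𝟙 X - (p - q) ≫ (p - q) := by
      simp only [u, w, Preadditive.add_comp, Preadditive.comp_add, Preadditive.sub_comp, Preadditive.comp_sub,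
        Category.assoc, Category.id_comp, Category.comp_id, hp, hq, reassoc_of% hp, reassoc_of% hq]
      abel
    rw [this, h, sub_zero]
  have hw' : w ≫ u = 𝟙 X := by
    have : w ≫ u = 𝟙 X - (p - q) ≫ (p - q) := by
      simp only [u, w, Preadditive.add_comp, Preadditive.comp_add, Preadditive.sub_comp, Preadditive.comp_sub,
        Category.assoc, Category.id_comp, Category.comp_id, hp, hq, reassoc_of% hp, reassoc_of% hq]
      abel
    rw [this, h, sub_zero]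
  have hu : u ≫ q = p ≫ u := by
    simp only [u, Preadditive.add_comp, Preadditive.comp_add, Preadditive.sub_comp, Preadditive.comp_sub,
      Category.assoc, Category.id_comp, Category.comp_id, hp, hq, reassoc_of% hp]
    abel
  refine ⟨Y, i ≫ w, u ≫ e, ?_, ?_⟩
  · rw [Category.assoc, reassoc_of% hw', hie]
  · rw [Category.assoc, reassoc_of% hei, reassoc_of% hu, hw, Category.comp_id]

variable [HasZeroObject C] [HasShift C ℤ] [∀ n : ℤ, (shiftFunctor C n).Additive] [Pretriangulated C]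

lemma splits_glue {A X B : C} (f : A ⟶ X) (g : X ⟶ B) (δ : B ⟶ A⟦(1 : ℤ)⟧)
    (hT : Triangle.mk f g δ ∈ distTriang C) (pA : A ⟶ A) (p : X ⟶ X)
    (pB : B ⟶ B) (hp : p ≫ p = p) (h1 : pA ≫ f = f ≫ p) (h2 : p ≫ g = g ≫ pB)
    (h3 : pB ≫ δ = δ ≫ pA⟦(1 : ℤ)⟧') (hzero : ∀ φ : A⟦(1 : ℤ)⟧ ⟶ B, φ = 0)
    (hA : Splits pA) (hB : Splits pB) : Splits p := by
  obtain ⟨A₁, iA, eA, hAie, hAei⟩ := hA
  obtain ⟨B₁, iB, eB, hBie, hBei⟩ := hB
  let δ₁ : B₁ ⟶ A₁⟦(1 : ℤ)⟧ := iB ≫ δ ≫ eA⟦(1 : ℤ)⟧'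
  obtain ⟨X₁, f₁, g₁, hT₁⟩ := distinguished_cocone_triangle₂ δ₁
  have ci : δ₁ ≫ iA⟦(1 : ℤ)⟧' = iB ≫ δ := by
    simp only [δ₁, Category.assoc, ← Functor.map_comp, hAei]
    rw [← h3, ← hBei, Category.assoc, reassoc_of% hBie]
  have ce : δ ≫ eA⟦(1 : ℤ)⟧' = eB ≫ δ₁ := by
    calc δ ≫ eA⟦(1 : ℤ)⟧' = δ ≫ (pA⟦(1 : ℤ)⟧' ≫ eA⟦(1 : ℤ)⟧') := by
          rw [← Functor.map_comp, ← hAei, Category.assoc, hAie, Category.comp_id]
      _ = pB ≫ δ ≫ eA⟦(1 : ℤ)⟧' := by rw [← Category.assoc, ← h3, Category.assoc]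
      _ = eB ≫ δ₁ := by rw [← hBei, Category.assoc]
  obtain ⟨i, i1, i2⟩ : ∃ i : X₁ ⟶ X, f₁ ≫ i = iA ≫ f ∧ g₁ ≫ iB = i ≫ g :=
    complete_distinguished_triangle_morphism₂ (Triangle.mk f₁ g₁ δ₁) (Triangle.mk f g δ) hT₁ hT iA iB ci
  obtain ⟨e, e1, e2⟩ : ∃ e : X ⟶ X₁, f ≫ e = eA ≫ f₁ ∧ g ≫ eB = e ≫ g₁ :=
    complete_distinguished_triangle_morphism₂ (Triangle.mk f g δ) (Triangle.mk f₁ g₁ δ₁) hT hT₁ eA eB ce
  let ie : X₁ ⟶ X₁ := i ≫ e
  have c1 : f₁ ≫ ie = f₁ := by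
    change f₁ ≫ i ≫ e = f₁
    rw [reassoc_of% i1, e1, reassoc_of% hAie]
  have c2 : ie ≫ g₁ = g₁ := by
    change (i ≫ e) ≫ g₁ = g₁
    rw [Category.assoc, ← e2, ← reassoc_of% i2, hBie, Category.comp_id]
  let φ : Triangle.mk f₁ g₁ δ₁ ⟶ Triangle.mk f₁ g₁ δ₁ :=
    { hom₁ := 𝟙 A₁
      hom₂ := ie
      hom₃ := 𝟙 B₁
      comm₁ := c1.trans (Category.id_comp f₁).symm
      comm₂ := (Category.comp_id g₁).trans c2.symm
      comm₃ := by
        change δ₁ ≫ (𝟙 A₁)⟦(1 : ℤ)⟧' = 𝟙 B₁ ≫ δ₁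
        rw [CategoryTheory.Functor.map_id, Category.comp_id, Category.id_comp] }
  haveI hI1 : IsIso φ.hom₁ := inferInstanceAs (IsIso (𝟙 A₁))
  haveI hI3 : IsIso φ.hom₃ := inferInstanceAs (IsIso (𝟙 B₁))
  haveI : IsIso ie := isIso₂_of_isIso₁₃ φ hT₁ hT₁ hI1 hI3
  have d1 : f₁ ≫ inv ie = f₁ := by rw [IsIso.comp_inv_eq, c1]
  have d2 : inv ie ≫ g₁ = g₁ := by rw [IsIso.inv_comp_eq, c2]
  let e' := e ≫ inv ie
  let q := e' ≫ i
  have hie' : i ≫ e' = 𝟙 _ := by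
    change i ≫ e ≫ inv ie = _
    rw [← Category.assoc]
    exact IsIso.hom_inv_id ie
  have hq : q ≫ q = q := by simp only [q, Category.assoc, reassoc_of% hie']
  have q1 : f ≫ q = pA ≫ f := by
    simp only [q, e', Category.assoc]
    rw [reassoc_of% e1, reassoc_of% d1, i1, reassoc_of% hAei]
  have q2 : q ≫ g = g ≫ pB := by
    simp only [q, e', Category.assoc]
    rw [← i2, reassoc_of% d2, ← reassoc_of% e2, hBei]
  refine splits_of_near p q hp hq ?_ ⟨X₁, i, e', hie', rfl⟩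
  obtain ⟨β, hβ⟩ : ∃ β : B ⟶ X, p - q = g ≫ β := Triangle.yoneda_exact₂ (Triangle.mk f g δ) hT (p - q)
    (show f ≫ (p - q) = 0 by rw [Preadditive.comp_sub, ← h1, q1, sub_self])
  obtain ⟨γ, hγ⟩ : ∃ γ : A⟦(1 : ℤ)⟧ ⟶ B, β ≫ g = δ ≫ γ := Triangle.yoneda_exact₃ (Triangle.mk f g δ) hT (β ≫ g)
    (show g ≫ β ≫ g = 0 by rw [← Category.assoc, ← hβ, Preadditive.sub_comp, h2, q2, sub_self])
  have h0 : β ≫ g = 0 := by rw [hγ, hzero γ, comp_zero]
  rw [hβ, Category.assoc, reassoc_of% h0]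
  simp

lemma splits_of_heart (t : TStructure C) (n : ℤ) {X : C} [t.IsLE X n] [t.IsGE X n] (p : X ⟶ X)
    (hp : p ≫ p = p) : Splits p := by
  let u := 𝟙 X - p
  obtain ⟨Z, f₂, f₃, hT⟩ := distinguished_cocone_triangle u
  let K := (t.truncLE (n - 1)).obj Z
  let α : K ⟶ Z := (t.truncLEι (n - 1)).app Z
  haveI : t.IsLE (X⟦(1 : ℤ)⟧) (n - 1) := t.isLE_shift X n 1 (n - 1) (by lia)
  let i : K ⟶ X⟦(1 : ℤ)⟧ := α ≫ f₃
  have hu : p⟦(1 : ℤ)⟧' ≫ u⟦(1 : ℤ)⟧' = 0 := by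
    rw [← Functor.map_comp]
    simp [u, Preadditive.comp_sub, hp]
  obtain ⟨s, hs⟩ := Triangle.coyoneda_exact₁ _ hT (p⟦(1 : ℤ)⟧') hu
  let e : X⟦(1 : ℤ)⟧ ⟶ K := t.liftTruncLE s (n - 1)
  have hei : e ≫ i = p⟦(1 : ℤ)⟧' := by
    change t.liftTruncLE s (n - 1) ≫ (t.truncLEι (n - 1)).app Z ≫ f₃ = _
    exact (t.liftTruncLE_ι_assoc s (n - 1) f₃).trans hs.symm
  have hcancel : ∀ w : K ⟶ K, w ≫ i = 0 → w = 0 := fun w hw => by
    obtain ⟨v', hv'⟩ := Triangle.coyoneda_exact₃ _ hT (w ≫ α) ((Category.assoc _ _ _).trans hw)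
    let v : K ⟶ X := v'
    have hv : w ≫ α = v ≫ f₂ := hv'
    have hv0 : v = 0 := t.zero_of_isLE_of_isGE v (n - 1) n (by lia) inferInstance inferInstance
    have hwa : w ≫ α = 0 := by rw [hv, hv0, zero_comp]
    obtain ⟨x', hx'⟩ := Triangle.coyoneda_exact₂ _ (inv_rot_of_distTriang _ (t.triangleLEGT_distinguished (n - 1) Z))
      w hwa
    let x : K ⟶ ((t.truncGT (n - 1)).obj Z)⟦(-1 : ℤ)⟧ := x'
    let m : ((t.truncGT (n - 1)).obj Z)⟦(-1 : ℤ)⟧ ⟶ K := ((t.triangleLEGT (n - 1)).obj Z).invRotate.mor₁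
    have hx : w = x ≫ m := hx' 
    haveI : t.IsGE (((t.truncGT (n - 1)).obj Z)⟦(-1 : ℤ)⟧) (n + 1) :=
      t.isGE_shift _ n (-1) (n + 1) (by lia)
    have hx0 : x = 0 := t.zero_of_isLE_of_isGE x (n - 1) (n + 1) (by lia) inferInstance inferInstance
    rw [hx, hx0, zero_comp]
  have hip : i ≫ p⟦(1 : ℤ)⟧' = i := by
    have h : i ≫ u⟦(1 : ℤ)⟧' = 0 := by
      have h' : f₃ ≫ u⟦(1 : ℤ)⟧' = 0 := comp_distTriang_mor_zero₃₁ _ hT
      simp only [i, Category.assoc, h', comp_zero]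
    simp only [u, Functor.map_sub, CategoryTheory.Functor.map_id, Preadditive.comp_sub, Category.comp_id] at h
    exact (sub_eq_zero.1 h).symm
  have hie : i ≫ e = 𝟙 K := by
    rw [← sub_eq_zero]
    refine hcancel _ ?_
    rw [Preadditive.sub_comp, Category.assoc, hei, hip, Category.id_comp, sub_self]
  let η : (𝟭 C) ≅ shiftFunctor C (1 : ℤ) ⋙ shiftFunctor C (-1 : ℤ) := (shiftEquiv C (1 : ℤ)).unitIso
  refine ⟨K⟦(-1 : ℤ)⟧, i⟦(-1 : ℤ)⟧' ≫ η.inv.app X, η.hom.app X ≫ e⟦(-1 : ℤ)⟧', ?_, ?_⟩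
  · rw [Category.assoc, Iso.inv_hom_id_app_assoc, ← Functor.map_comp, hie, CategoryTheory.Functor.map_id]
  · rw [Category.assoc, ← Functor.map_comp_assoc, hei]
    have := η.inv.naturality p
    rw [show (p⟦(1 : ℤ)⟧')⟦(-1 : ℤ)⟧' ≫ η.inv.app X = η.inv.app X ≫ p from this, Iso.hom_inv_id_app_assoc]

lemma splits_of_bounded [IsTriangulated C] (t : TStructure C) : ∀ (k : ℕ) (a : ℤ) (X : C) (p : X ⟶ X),
    t.IsGE X a → t.IsLE X (a + k) → p ≫ p = p → Splits p := by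
  intro k
  induction k with
  | zero =>
    intro a X p h1 h2 hp
    haveI : t.IsLE X a := by simpa using h2
    exact splits_of_heart t a p hp
  | succ k ih =>
    intro a X p h1 h2 hp
    let n := a + k
    haveI := h1
    haveI : t.IsLE X (n + 1) := by simpa [n, add_assoc] using h2
    have hB : t.IsGE ((t.truncGT n).obj X) (n + 1) := inferInstance
    haveI : t.IsLE ((t.truncLE n).obj X⟦(1 : ℤ)⟧) (n - 1) := t.isLE_shift _ n 1 (n - 1) (by lia)
    refine splits_glue ((t.truncLEι n).app X) ((t.truncGTπ n).app X) ((t.truncGTδLE n).app X)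
      (t.triangleLEGT_distinguished n X) ((t.truncLE n).map p) p ((t.truncGT n).map p) hp
      ((t.truncLEι n).naturality p) ((t.truncGTπ n).naturality p)
      ((t.truncGTδLE n).naturality p) (fun f => t.zero_of_isLE_of_isGE f (n - 1) (n + 1) (by lia) inferInstance hB) ?_ ?_
    · exact ih a _ _ inferInstance inferInstance (by rw [← Functor.map_comp, hp])
    · exact splits_of_heart t (n + 1) _ (by rw [← Functor.map_comp, hp])

end


/-- Let `C` be a triangulated category (octahedron axiom included) and `t` a t-structure on `C` which is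
bounded, i.e. every object of `C` is both `≥ a` and `≤ b` for some integers `a`, `b`. Then `C` is
idempotent complete (Karoubian): every idempotent endomorphism `p = p ≫ p` of an object splits as `p
= e ≫ i` with `i ≫ e = 𝟙`. -/
theorem result {C : Type u} [Category.{v} C] [Preadditive C]
    [HasZeroObject C] [HasShift C ℤ] [∀ n : ℤ, (shiftFunctor C n).Additive] [Pretriangulated C]
    [IsTriangulated C] (t : TStructure C) (hb : ∀ X : C, t.bounded X) :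
    IsIdempotentComplete C := by
  refine ⟨fun X p hp => ?_⟩
  obtain ⟨⟨a, ha⟩, b, hb'⟩ := hb X
  haveI := ha
  haveI := hb'
  exact splits_of_bounded t (b - a).toNat a X p ha (t.isLE_of_le X b _ (by lia)) hp

end Groth.Agent.S19189
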