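import Groth.Statements.S19194
import Groth.Prelude

set_option autoImplicit false
universe u
open CategoryTheory Opposite TopologicalSpace
open CohTop

namespace Groth.Agent.S19194

open W4c6blochformula0cyc in
/-- Let `X` be a topological space, `U` a family of opens of `X` indexed by a finite type, `A y` an
abelian group for every point `y` of `X`, and `F` the presheaf `V ↦ ∏_{y ∈ V} A y` with the
projections as restriction maps. Let `S α ⊆ U_α` be subsets such that every point of `X` lies in
exactly one `S α`. For an open `V` and an index `β` let `E V β : F(V ∩ U_β) → F(V)` keep the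
components at the points of `S β` and put `0` at all other points. Then: (i) `∑_α E V α (f|_{V ∩
U_α}) = f` for every open `V` and every `f ∈ F(V)`; and (ii) `(E V α g)|_{V ∩ U_β} = E (V ∩ U_β) α
(g|_{V ∩ U_β ∩ U_α})` for every open `V`, all indices `α, β` and every `g ∈ F(V ∩ U_α)`. (These are
exactly the hypotheses (i) and (ii) of the algebraic partition-of-unity statement, here for every
open `V` rather than only for finite intersections of members of the family. The published statement
takes the presheaf of direct sums `⊕_{y ∈ V} A y`; the product presheaf used here contains it, these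
maps and the restrictions preserve it, and both identities restrict to it.) -/
theorem result {X : Type u} [TopologicalSpace X]
    {ι : Type u} [Fintype ι] (A : X → AddCommGrpCat.{u}) (U : ι → Opens X) (S : ι → Set X)
    (hSU : ∀ α, S α ⊆ (U α : Set X)) (hS : ∀ x : X, ∃! α, x ∈ S α) :
    (∀ (V : Opens X) (f : (prodPresheaf A).obj (op V)),
        ∑ α, switchExt A U S V α (res (prodPresheaf A) inf_le_left f) = f) ∧
      ∀ (V : Opens X) (α β : ι) (g : (prodPresheaf A).obj (op (V ⊓ U α))),
        res (prodPresheaf A) inf_le_left (switchExt A U S V α g) =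
          switchExt A U S (V ⊓ U β) α (res (prodPresheaf A) (inf_le_inf_right (U α) inf_le_left) g) := by
  classical
  have app : ∀ (V : TopologicalSpace.Opens X) (β : ι) (g : (prodPresheaf A).obj (Opposite.op (V ⊓ U β))) (y : V),
      switchExt A U S V β g y = if h : y.1 ∈ U β ∧ y.1 ∈ S β then g ⟨y.1, ⟨y.2, h.1⟩⟩ else 0 := fun V β g y => by
    change (if h : y.1 ∈ U β ∧ y.1 ∈ S β then
      (Pi.evalAddMonoidHom (fun z : (V ⊓ U β : TopologicalSpace.Opens X) => (A z.1 : Type u)) ⟨y.1, ⟨y.2, h.1⟩⟩ :
        (prodPresheaf A).obj (Opposite.op (V ⊓ U β)) →+ A y.1) else 0 : _ →+ A y.1) g = _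
    split_ifs with h
    · rfl
    · rfl
  refine ⟨fun V f => funext fun (y : V) => ?_, fun V α β g => funext fun (y : (V ⊓ U β : TopologicalSpace.Opens X)) => ?_⟩
  · obtain ⟨a, ha, hu⟩ := hS y.1
    refine ((map_sum (Pi.evalAddMonoidHom (fun z : V => (A z.1 : Type u)) y :
      (prodPresheaf A).obj (Opposite.op V) →+ A y.1) _ _).trans
        (Finset.sum_eq_single_of_mem a (Finset.mem_univ a) fun b _ hb => ?_)).trans ?_
    · exact (app V b _ y).trans (dif_neg fun h => hb (hu b h.2))
    · exact (app V a _ y).trans (dif_pos ⟨hSU a ha, ha⟩)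
  · change switchExt A U S V α g ⟨y.1, y.2.1⟩ = _
    rw [app, app]
    by_cases h : y.1 ∈ U α ∧ y.1 ∈ S α
    · rw [dif_pos h, dif_pos h]
      rfl
    · rw [dif_neg h, dif_neg h]

end Groth.Agent.S19194
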