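import Groth.Statements.S19195
import Groth.Agent.QGorD.FibBridge
import Groth.Agent.InjFibre.RegSeq
import Groth.Agent.LocalCrit.Basic
import Mathlib.RingTheory.LocalRing.ResidueField.Ideal

set_option autoImplicit false
universe u
open TensorProduct
open RelS1

namespace Groth.Agent.S19195

attribute [local instance] Algebra.TensorProduct.rightAlgebra

open IsLocalRing in
/-- An element of `M/pM` that dies in the fibre is killed outside `p`. -/
theorem exists_smul_mem_of_fibre_eq_zero (A M : Type u) [CommRing A] [AddCommGroup M] [Module A M] (p : Ideal A) [p.IsPrime]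
    (m : M) (h : (1 : p.ResidueField) ⊗ₜ[A] m = 0) : ∃ s ∉ p, s • m ∈ p • (⊤ : Submodule A M) := by
  haveI : IsLocalization (Algebra.algebraMapSubmonoid (A ⧸ p) p.primeCompl) p.ResidueField := by
    have : Algebra.algebraMapSubmonoid (A ⧸ p) p.primeCompl = nonZeroDivisors (A ⧸ p) := by
      ext z
      obtain ⟨z, rfl⟩ := Ideal.Quotient.mk_surjective z
      rw [mem_nonZeroDivisors_iff_ne_zero, Ne, Ideal.Quotient.eq_zero_iff_mem]
      constructor
      · rintro ⟨w, hw, hwz⟩ hz
        exact hw (Ideal.Quotient.eq_zero_iff_mem.1 ((Ideal.Quotient.algebraMap_eq p ▸ hwz).trans (Ideal.Quotient.eq_zero_iff_mem.2 hz)))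
      · exact fun hz => ⟨z, hz, rfl⟩
    rw [this]
    infer_instance
  let g : (A ⧸ p) →ₗ[A] p.ResidueField := (IsScalarTower.toAlgHom A (A ⧸ p) p.ResidueField).toLinearMap
  haveI : IsLocalizedModule (Algebra.algebraMapSubmonoid (A ⧸ p) p.primeCompl) (Algebra.linearMap (A ⧸ p) p.ResidueField) :=
    inferInstance
  haveI : IsLocalizedModule p.primeCompl g := IsLocalizedModule.restrictScalars p.primeCompl (Algebra.linearMap (A ⧸ p) p.ResidueField)
  have h1 : AlgebraTensorModule.rTensor A M g ((1 : A ⧸ p) ⊗ₜ[A] m) = AlgebraTensorModule.rTensor A M g 0 := by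
    rw [map_zero, AlgebraTensorModule.rTensor_tmul]
    convert h using 2
    exact map_one (IsScalarTower.toAlgHom A (A ⧸ p) p.ResidueField)
  obtain ⟨s, hs⟩ := IsLocalizedModule.exists_of_eq (S := p.primeCompl) h1
  refine ⟨s, s.2, ?_⟩
  rw [smul_zero, Submonoid.smul_def, ← TensorProduct.tmul_smul] at hs
  exact (LocalCrit.one_tmul_eq_zero_iff _ _).1 hs

/-- On a fibre without embedded primes, `a` is regular on `M/pM` at primes over `p`. -/
theorem exists_smul_mem (A B M : Type u) [CommRing A] [CommRing B] [Algebra A B]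
    [Algebra.FinitePresentation A B] [AddCommGroup M] [Module B M] [Module A M]
    [IsScalarTower A B M] [Module.FinitePresentation B M] (p : Ideal A) [p.IsPrime]
    (hS1 : associatedPrimes (B ⊗[A] p.ResidueField) ((B ⊗[A] p.ResidueField) ⊗[B] M) ⊆
        (Module.annihilator (B ⊗[A] p.ResidueField) ((B ⊗[A] p.ResidueField) ⊗[B] M)).minimalPrimes)
    (a : B) (ha : ∀ P ∈ (Module.annihilator (B ⊗[A] p.ResidueField) ((B ⊗[A] p.ResidueField) ⊗[B] M)).minimalPrimes,
        a ⊗ₜ[A] (1 : p.ResidueField) ∉ P) {m : M}
    (hm : a • m ∈ p.map (algebraMap A B) • (⊤ : Submodule B M)) :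
    ∃ s ∉ p, algebraMap A B s • m ∈ p.map (algebraMap A B) • (⊤ : Submodule B M) := by
  haveI : IsNoetherianRing (p.ResidueField ⊗[A] B) := Algebra.FiniteType.isNoetherianRing p.ResidueField _
  haveI : IsNoetherianRing (B ⊗[A] p.ResidueField) :=
    isNoetherianRing_of_ringEquiv _ (Algebra.TensorProduct.comm A p.ResidueField B).toRingEquiv
  haveI : Algebra.IsPushout A p.ResidueField B (B ⊗[A] p.ResidueField) := Algebra.IsPushout.symm inferInstance
  let e := Algebra.IsPushout.cancelBaseChange A p.ResidueField B (B ⊗[A] p.ResidueField) M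
  have he : ∀ x : M, e.symm ((1 : p.ResidueField) ⊗ₜ[A] x) = (1 : B ⊗[A] p.ResidueField) ⊗ₜ[B] x := fun x => by
    rw [Algebra.IsPushout.cancelBaseChange_symm_tmul, map_one]
  have hreg : IsSMulRegular ((B ⊗[A] p.ResidueField) ⊗[B] M) (algebraMap B (B ⊗[A] p.ResidueField) a) :=
    (QGorD.isSMulRegular_iff_not_mem _).2 fun h => by
      obtain ⟨P, hP, haP⟩ := Set.mem_iUnion₂.1 h
      exact ha P (hS1 hP) haP
  have h0 : (1 : B ⊗[A] p.ResidueField) ⊗ₜ[B] m = 0 := by
    refine hreg ?_
    change algebraMap B (B ⊗[A] p.ResidueField) a • ((1 : B ⊗[A] p.ResidueField) ⊗ₜ[B] m) = algebraMap B (B ⊗[A] p.ResidueField) a • 0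
    rw [smul_zero, algebraMap_smul, ← TensorProduct.tmul_smul]
    have hk := (InjFibre.mem_smul_top_iff p _).1 hm
    refine Submodule.smul_induction_on (p := fun w => (1 : B ⊗[A] p.ResidueField) ⊗ₜ[B] w = 0) hk
      (fun r hr w _ => ?_) fun v w hv hw => by rw [TensorProduct.tmul_add, hv, hw, add_zero]
    rw [← he, TensorProduct.tmul_smul, TensorProduct.smul_tmul', Algebra.smul_def,
      Ideal.algebraMap_residueField_eq_zero.2 hr, zero_mul, TensorProduct.zero_tmul, map_zero]
  obtain ⟨s, hs, hsm⟩ := exists_smul_mem_of_fibre_eq_zero A M p m (e.symm.injective (by rw [he, h0, map_zero]))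
  exact ⟨s, hs, by rw [algebraMap_smul]; exact (InjFibre.mem_smul_top_iff p _).2 hsm⟩

/-- Let A be a commutative ring, B a finitely presented A-algebra and M a finitely presented B-module
which is flat over A. Suppose that for every prime p of A, with residue field κ(p), the fibre module
(B ⊗_A κ(p)) ⊗_B M over the fibre ring B ⊗_A κ(p) satisfies Serre's condition (S_1) in the form:
each of its associated primes is a minimal prime of its annihilator. Let a be an element of B whose
image a ⊗ 1 in every fibre ring B ⊗_A κ(p) lies in no minimal prime of the annihilator of the fibre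
module. Then a is a non-zero-divisor on M. (Since all hypotheses are preserved by base change of A
and by passing to affine opens, this expresses that a flat finitely presented sheaf with (S_1)
fibres is pure relative to the base after every base change. The published statement is an
equivalence for sheaves on a locally finitely presented morphism, quantified over all base changes;
this row states its direct implication in affine form.) -/
theorem result (A B M : Type u) [CommRing A] [CommRing B] [Algebra A B]
    [Algebra.FinitePresentation A B] [AddCommGroup M] [Module B M] [Module A M]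
    [IsScalarTower A B M] [Module.FinitePresentation B M] [Module.Flat A M]
    (hS1 : ∀ (p : Ideal A) [p.IsPrime],
      associatedPrimes (B ⊗[A] p.ResidueField) ((B ⊗[A] p.ResidueField) ⊗[B] M) ⊆
        (Module.annihilator (B ⊗[A] p.ResidueField) ((B ⊗[A] p.ResidueField) ⊗[B] M)).minimalPrimes)
    (a : B)
    (ha : ∀ (p : Ideal A) [p.IsPrime],
      ∀ P ∈ (Module.annihilator (B ⊗[A] p.ResidueField) ((B ⊗[A] p.ResidueField) ⊗[B] M)).minimalPrimes,
        a ⊗ₜ[A] (1 : p.ResidueField) ∉ P) :
    IsSMulRegular M a := by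
  refine isSMulRegular_iff_right_eq_zero_of_smul.2 fun x hx => ?_
  refine Module.eq_zero_of_localization_maximal (R := B) (fun P _ => LocalizedModule P.primeCompl M)
    (fun P _ => LocalizedModule.mkLinearMap P.primeCompl M) x fun q hq => ?_
  let p := q.comap (algebraMap A B)
  let mk := LocalizedModule.mkLinearMap q.primeCompl M
  haveI : Module.Flat A (LocalizedModule q.primeCompl M) := InjFibre.flat_localized q.primeCompl mk
  obtain ⟨f, hf⟩ := QGorD.exists_fibQ (A := A) M q.primeCompl p
  have hreg : IsSMulRegular (LocalizedModule q.primeCompl M ⧸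
      p.map (algebraMap A (Localization.AtPrime q)) • (⊤ : Submodule (Localization.AtPrime q) (LocalizedModule q.primeCompl M)))
      (algebraMap B (Localization.AtPrime q) a) := by
    refine isSMulRegular_iff_right_eq_zero_of_smul.2 fun z hz => ?_
    rw [algebraMap_smul] at hz
    obtain ⟨⟨m, s⟩, hms⟩ := IsLocalizedModule.surj q.primeCompl f z
    obtain ⟨m, rfl⟩ := Submodule.Quotient.mk_surjective _ m
    have h1 : f (Submodule.Quotient.mk (a • m)) = f 0 := by
      rw [map_zero, Submodule.Quotient.mk_smul, map_smul, ← hms, Submonoid.smul_def, smul_comm, hz, smul_zero]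
    obtain ⟨t, ht⟩ := IsLocalizedModule.exists_of_eq (S := q.primeCompl) h1
    rw [smul_zero, Submonoid.smul_def, ← Submodule.Quotient.mk_smul, Submodule.Quotient.mk_eq_zero, smul_comm] at ht
    obtain ⟨w, hw, hwm⟩ := exists_smul_mem A B M p (hS1 p) a (ha p) ht
    have h2 : f ((algebraMap A B w * t) • Submodule.Quotient.mk m) = 0 := by
      rw [← Submodule.Quotient.mk_smul, mul_smul, (Submodule.Quotient.mk_eq_zero _).2 hwm, map_zero]
    rw [map_smul, ← hms, Submonoid.smul_def, smul_smul] at h2
    have hu : (algebraMap A B w * t) * s ∈ q.primeCompl :=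
      q.primeCompl.mul_mem (q.primeCompl.mul_mem hw t.2) s.2
    exact ((Module.End.isUnit_iff _).1 (IsLocalizedModule.map_units f ⟨_, hu⟩)).1 (h2.trans (map_zero _).symm)
  obtain ⟨hr, -⟩ := InjFibre.regSeq_atPrime (R := A) (S' := Localization.AtPrime q) q (LocalizedModule q.primeCompl M)
    [algebraMap B (Localization.AtPrime q) a]
    ((RingTheory.Sequence.isWeaklyRegular_cons_iff _ _ []).2 ⟨hreg, RingTheory.Sequence.IsWeaklyRegular.nil _ _⟩)
  rw [RingTheory.Sequence.isWeaklyRegular_cons_iff] at hr
  refine hr.1 ?_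
  change algebraMap B (Localization.AtPrime q) a • mk x = algebraMap B (Localization.AtPrime q) a • 0
  rw [smul_zero, algebraMap_smul, ← map_smul, hx, map_zero]

end Groth.Agent.S19195
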