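import Groth.Statements.S19196
import Mathlib

set_option autoImplicit false
universe u
open RelS1

namespace Groth.Agent.S19196

/-- Let R be a Noetherian commutative ring and N a finitely generated R-module which fails Serre's
condition (S_1), in the sense that some associated prime of N is not a minimal prime of the
annihilator of N. Then there exist an element a of R lying in no minimal prime of the annihilator of
N and a nonzero element b of N with a • b = 0; thus the basic open set D(a) meets the support of N
densely while restriction to it is not injective on N. -/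
theorem result (R N : Type u) [CommRing R] [IsNoetherianRing R]
    [AddCommGroup N] [Module R N] [Module.Finite R N]
    (h : ¬ associatedPrimes R N ⊆ (Module.annihilator R N).minimalPrimes) :
    ∃ (a : R) (b : N), (∀ P ∈ (Module.annihilator R N).minimalPrimes, a ∉ P) ∧ b ≠ 0 ∧ a • b = 0 := by
  classical
  obtain ⟨P, hP, hnot⟩ := Set.not_subset.1 h
  obtain ⟨hPp, x, hx⟩ := (isAssociatedPrime_iff (I := P)).1 (AssociatedPrimes.mem_iff.1 hP)
  have hfin := Ideal.finite_minimalPrimes_of_isNoetherianRing R (Module.annihilator R N)
  have hnsub : ¬ ((P : Set R) ⊆ ⋃ Q ∈ hfin.toFinset, (Q : Set R)) := by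
    rw [← Finset.set_biUnion_coe, Ideal.subset_union_prime ⊥ ⊥ (fun Q hQ _ _ => (hfin.mem_toFinset.1 hQ).1.1)]
    rintro ⟨Q, hQ, hle⟩
    have hQ' := hfin.mem_toFinset.1 hQ
    apply hnot
    have hann : Module.annihilator R N ≤ P := Submodule.annihilator_top (R := R) (M := N) ▸ IsAssociatedPrime.annihilator_le (AssociatedPrimes.mem_iff.1 hP)
    rwa [le_antisymm hle (hQ'.2 ⟨hPp, hann⟩ hle)]
  obtain ⟨a, haP, ha⟩ := Set.not_subset.1 hnsub
  refine ⟨a, x, fun Q hQ haQ => ha (Set.mem_biUnion (Finset.mem_coe.2 (hfin.mem_toFinset.2 hQ)) haQ), ?_, ?_⟩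
  · rintro rfl
    refine hPp.ne_top ((Ideal.eq_top_iff_one _).2 ?_)
    rw [hx]; simp
  · rw [hx] at haP
    simpa using haP

end Groth.Agent.S19196
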