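import Groth.Statements.S19197
import Groth.Agent.FibPdOpen.Main
-- import your own Groth.Agent.* helpers here

set_option autoImplicit false
universe u
open TensorProduct CategoryTheory
open RelS1

namespace Groth.Agent.S19197

/-- In affine form, let A be a commutative ring, B a finitely presented A-algebra which is flat over A,
and M a finitely presented B-module which is flat over A. For a prime P of B lying over the prime p
of A, let B_P/pB_P be the local ring of the fibre at P and M_P/pM_P = (B_P/pB_P) ⊗_B M the fibre
stalk module. Then the function sending P to the projective dimension of M_P/pM_P over B_P/pB_P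
(valued in WithBot ℕ∞, the zero module having dimension ⊥) is upper semicontinuous on Spec B: for
every bound, the set of P where the fibre projective dimension is below the bound is open. -/
theorem result (A B M : Type u) [CommRing A] [CommRing B] [Algebra A B]
    [Algebra.FinitePresentation A B] [Module.Flat A B] [AddCommGroup M] [Module B M] [Module A M]
    [IsScalarTower A B M] [Module.FinitePresentation B M] [Module.Flat A M] :
    UpperSemicontinuous fun P : PrimeSpectrum B => projectiveDimension (ModuleCat.of
      (Localization.AtPrime P.asIdeal ⧸ (P.asIdeal.under A).map (algebraMap A (Localization.AtPrime P.asIdeal)))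
      ((Localization.AtPrime P.asIdeal ⧸ (P.asIdeal.under A).map (algebraMap A (Localization.AtPrime P.asIdeal))) ⊗[B] M)) := by
  have hG : Groth.Agent.S5929.Good A (ModuleCat.of B M) :=
    ⟨inferInstanceAs (Module.FinitePresentation B M), inferInstanceAs (Module A M),
      inferInstanceAs (IsScalarTower A B M), inferInstanceAs (Module.Flat A M)⟩
  have hop := fun n => Groth.Agent.FibPdOpen.isOpen_lt (A := A) n (ModuleCat.of B M) hG
  let f := fun P : PrimeSpectrum B => CategoryTheory.projectiveDimension (Groth.Agent.FibPdOpen.fibSt A P (ModuleCat.of B M))
  rw [upperSemicontinuous_iff_isOpen_preimage]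
  intro y
  change IsOpen {P | f P < y}
  induction y with
  | bot => simp
  | coe y =>
    induction y with
    | top =>
      convert isOpen_iUnion hop using 1
      ext P
      simp only [Set.mem_iUnion, Set.mem_ofPred_eq]
      refine lt_top_iff_ne_top.trans ((CategoryTheory.projectiveDimension_ne_top_iff _).trans ⟨fun ⟨i, h⟩ => ⟨i + 1, h⟩, fun ⟨i, h⟩ => ⟨i, haveI := h; hasProjectiveDimensionLT_of_ge _ i (i + 1) i.le_succ⟩⟩)
    | coe n =>
      convert hop n using 1
      ext P
      simp only [Set.mem_ofPred_eq]
      exact CategoryTheory.projectiveDimension_lt_iff

end Groth.Agent.S19197
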