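import Groth.Statements.S19198
import Groth.Agent.CodimOneIso.Basic
import Groth.Agent.CodimOneIso.DvrFlat
import Groth.Agent.SectionExt.Basic
import Groth.Agent.ThickSys.Near

set_option autoImplicit false
universe u
open CategoryTheory AlgebraicGeometry
open Models

namespace Groth.Agent.S19198

/-- Form over the valuation ring: let R be a discrete valuation ring with a uniformizer ϖ, let C → Spec
R be flat and locally of finite type, f : X → C proper, and Z → X a closed immersion with Z flat
over R such that the composite Z → C restricts to an isomorphism over the generic fibre, the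
preimage of the open set D(ϖ) of Spec R. Then for every point c of C whose local ring is an
integrally closed domain of Krull dimension one (a codimension-one point at which C is normal, for
instance a generic point of the closed fibre lying in the smooth locus), there is an open
neighbourhood V of c over which Z → C is an isomorphism. (The published statement, that the closed
fibre of such a Z maps isomorphically onto the closed fibre of C over every generic point of its
smooth locus, also after a finite extension of R, follows by restriction to the closed fibre and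
flat descent.) -/
theorem result (R : Type u) [CommRing R] [IsDomain R]
    [IsDiscreteValuationRing R] {C X Z : Scheme.{u}} (πC : C ⟶ Spec (CommRingCat.of R)) [Flat πC]
    [LocallyOfFiniteType πC] (f : X ⟶ C) [IsProper f] (i : Z ⟶ X) [IsClosedImmersion i]
    [Flat ((i ≫ f) ≫ πC)] (ϖ : R) (hϖ : Irreducible ϖ)
    (hgen : IsIso ((i ≫ f) ∣_ (πC ⁻¹ᵁ (PrimeSpectrum.basicOpen ϖ))))
    (c : C) (hdom : IsDomain (C.presheaf.stalk c)) (hnorm : IsIntegrallyClosed (C.presheaf.stalk c))
    (hdim : ringKrullDim (C.presheaf.stalk c) = 1) :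
    ∃ V : C.Opens, c ∈ V ∧ IsIso ((i ≫ f) ∣_ V) := by
  classical
  haveI : IsLocallyNoetherian C := LocallyOfFiniteType.isLocallyNoetherian πC
  let g := i ≫ f
  haveI : IsProper g := inferInstance
  let q := g ≫ πC
  haveI : Flat q := ‹Flat ((i ≫ f) ≫ πC)›
  haveI := hdom
  obtain ⟨U, hcU, -, hU, -⟩ := Groth.Agent.SectionExt.exists_integral_nhd c ⊤ trivial
  let G : C.Opens := πC ⁻¹ᵁ PrimeSpectrum.basicOpen ϖ
  have hne : ((U ⊓ G : C.Opens) : Set C).Nonempty :=
    Groth.Agent.CodimOneIso.nonempty_inter_basicOpen πC ϖ hϖ.ne_zero U ⟨c, hcU⟩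
  haveI : IsIso (g ∣_ G) := hgen
  haveI hiso : IsIso (g ∣_ (U ⊓ G)) :=
    Groth.Agent.ThickSys.restrict_mono (Q := MorphismProperty.isomorphisms Scheme.{u})
      (f := g) inf_le_right hgen
  haveI : IsIntegral U.toScheme := hU
  haveI : Nonempty (U ⊓ G : C.Opens).toScheme := ⟨⟨hne.choose, hne.choose_spec⟩⟩
  haveI : IsIntegral (U ⊓ G : C.Opens).toScheme :=
    isIntegral_of_isOpenImmersion (C.homOfLE (inf_le_left : U ⊓ G ≤ U))
  haveI : Nonempty (g ⁻¹ᵁ (U ⊓ G)).toScheme :=
    ⟨(inv (g ∣_ (U ⊓ G))) (Classical.arbitrary _)⟩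
  haveI : IsIntegral (g ⁻¹ᵁ U ⊓ q ⁻¹ᵁ PrimeSpectrum.basicOpen ϖ : Z.Opens).toScheme :=
    show IsIntegral (g ⁻¹ᵁ (U ⊓ G)).toScheme from isIntegral_of_isOpenImmersion (g ∣_ (U ⊓ G))
  haveI : IsIntegral (g ⁻¹ᵁ U).toScheme := by
    obtain ⟨z⟩ := (inferInstance : Nonempty (g ⁻¹ᵁ (U ⊓ G)).toScheme)
    exact Groth.Agent.CodimOneIso.isIntegral_of_inter_basicOpen q ϖ hϖ.ne_zero (g ⁻¹ᵁ U) ⟨z.1, z.2.1⟩
  haveI : IsLocallyNoetherian U.toScheme := LocallyOfFiniteType.isLocallyNoetherian U.ι
  haveI : IsProper (g ∣_ U) := MorphismProperty.of_isPullback (P := @IsProper)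
    (isPullback_morphismRestrict g U).flip inferInstance
  let W : U.toScheme.Opens := U.ι ⁻¹ᵁ G
  have hWne : (W : Set U).Nonempty := ⟨⟨hne.choose, hne.choose_spec.1⟩, hne.choose_spec.2⟩
  haveI : IsIso ((g ∣_ U) ∣_ W) := by
    have himg : U.ι ''ᵁ W = U ⊓ G := by
      simp [W, Scheme.Hom.image_preimage_eq_opensRange_inf]
    refine ((MorphismProperty.isomorphisms Scheme.{u}).arrow_mk_iso_iff (morphismRestrictRestrict g U W)).2 ?_
    rw [himg]
    exact hiso
  let c' : U := ⟨c, hcU⟩
  have hn' : IsIntegrallyClosed (U.toScheme.presheaf.stalk c') := by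
    haveI := hnorm
    exact IsIntegrallyClosed.of_equiv (U.stalkIso c').symm.commRingCatIsoToRingEquiv
  have hd' : ringKrullDim (U.toScheme.presheaf.stalk c') ≤ 1 :=
    ((ringKrullDim_eq_of_ringEquiv (U.stalkIso c').commRingCatIsoToRingEquiv).trans hdim).le
  haveI := Groth.Agent.BiratGen.isIso_stalkMap_genericPoint (g ∣_ U) W hWne
  obtain ⟨V, hcV, hV⟩ := Groth.Agent.CodimOneIso.exists_nhd_isIso (g ∣_ U)
    (Groth.Agent.BiratGen.map_genericPoint (g ∣_ U) W hWne) (ConcreteCategory.bijective_of_isIso _) c' hn' hd'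
  exact ⟨U.ι ''ᵁ V, ⟨c', hcV, rfl⟩,
    ((MorphismProperty.isomorphisms Scheme.{u}).arrow_mk_iso_iff (morphismRestrictRestrict g U V)).1 hV⟩

end Groth.Agent.S19198
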