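import Groth.Statements.S1920
import Groth.Agent.CycK0.Comm

set_option autoImplicit false
universe u
open CategoryTheory AlgebraicGeometry
open Cyc

set_option backward.isDefEq.respectTransparency false
set_option backward.isDefEq.respectTransparency.types false

namespace Groth.Agent.S1920

/-- Let X be integral with δ(η) = n, L and N invertible O_X-modules with nonzero rational sections s ∈
L(η), t ∈ N(η), α = div_L(s), β = div_N(t). Then c_1(N) ∩ α ∼_rat c_1(L) ∩ β as (n − 2)-cycles, for
any choices of nonzero rational sections used to compute the two sides. Here L(ξ) = L_ξ/𝔪_ξ L_ξ is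
the space of rational sections of L on the closure of ξ, div_{L|W}(s) and c_1(L) ∩ α are computed as
coefficient functions from chosen nonzero rational sections (Cyc.secDivFun, Cyc.c1CapFun), and
results are compared up to rational equivalence for any cycles with those coefficients. A pair (X,
δ) with Cyc.IsSetup plays the role of a scheme locally of finite type over a fixed base with a
dimension function (X locally Noetherian with universally catenary local rings, δ a dimension
function), and Cyc.DeltaCompat records that the dimension function upstairs is the induced one. -/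
theorem result (X : Scheme.{u}) [IsIntegral X] (δ : X → ℤ) (hX : Cyc.IsSetup X δ) (n : ℤ) (hn : δ (genericPoint X) = n) (L N : X.Modules) (hL : PicF.IsInvertible L) (hN : PicF.IsInvertible N) (s : Cyc.secFibre L (genericPoint X)) (hs : s ≠ 0) (t : Cyc.secFibre N (genericPoint X)) (ht : t ≠ 0) (u : (ξ : X) → Cyc.secFibre N ξ) (hu : ∀ ξ, u ξ ≠ 0) (v : (ξ : X) → Cyc.secFibre L ξ) (hv : ∀ ξ, v ξ ≠ 0) (γ₁ γ₂ : AlgebraicCycle X ℤ) (h₁ : ⇑γ₁ = Cyc.c1CapFun δ N (Cyc.secDivFun δ L (genericPoint X) s) u) (h₂ : ⇑γ₂ = Cyc.c1CapFun δ L (Cyc.secDivFun δ N (genericPoint X) t) v) : Cyc.RatEquiv δ (n - 2) γ₁ γ₂ := by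
  classical
  haveI := hX.1
  let η := genericPoint X
  obtain ⟨α, hα⟩ := Groth.Agent.CycK0.exists_cycle_affine (fun x : X => if x = η then (1 : ℤ) else 0)
    fun {U} _ => (Set.finite_singleton η).subset fun x hx => by
      by_contra h
      exact hx.2 (if_neg h)
  have hk : α ∈ Cyc.Zk X δ ((n - 2) + 2) := fun x hx => by
    rw [hα]
    exact if_neg fun h => hx (by rw [h]; show δ (genericPoint X) = _; omega)
  have hcap : ∀ {M : X.Modules} (w : (x : X) → Cyc.secFibre M x),
      Cyc.c1CapFun δ M ⇑α w = Cyc.secDivFun δ M η (w η) := fun w => funext fun x => by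
    rw [Cyc.c1CapFun, finsum_eq_single _ η fun y hy => by simp [hα, hy], hα]
    simp
  let sL := Function.update v η s
  let sN := Function.update u η t
  have hsL : ∀ x, sL x ≠ 0 := fun x => by
    by_cases h : x = η
    · subst h; simpa [sL] using hs
    · simpa [sL, h] using hv x
  have hsN : ∀ x, sN x ≠ 0 := fun x => by
    by_cases h : x = η
    · subst h; simpa [sN] using ht
    · simpa [sN, h] using hu x
  refine Groth.Agent.CycK0.c1Cap_comm (k := n - 2) hX hN hL α hk u sN sL v hu hsN hsL hv γ₁ γ₂ ?_ ?_
  · rw [h₁, hcap, show sL η = s from Function.update_self η s v]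
  · rw [h₂, hcap, show sN η = t from Function.update_self η t u]

end Groth.Agent.S1920
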