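import Groth.Statements.S19203
import Groth.Agent.AsympCoh.BaseLocus
import Groth.Agent.AsympCoh.Uniform
import Groth.Agent.GGDesc.Basic
import Groth.Agent.S4642
import Groth.Agent.CurveOmega.General

set_option autoImplicit false
universe u
open CategoryTheory AlgebraicGeometry
open Coh

set_option backward.isDefEq.respectTransparency false
set_option backward.isDefEq.respectTransparency.types false

namespace Groth.Agent.S19203

/-- Let X be a scheme proper over a field k with dim X = r, and L an invertible O_X-module generated by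
its global sections. Then for each i ≥ 1 the dimensions dim_k H^i(X, L^{⊗n}) are O(n^{r-1}): there
is a real constant C with dim_k H^i(X, L^{⊗n}) ≤ C·n^{r-1} for every n ≥ 1. (For r = 0 the exponent
r − 1 is read as 0; k is any field.) -/
theorem result (k : Type u) [Field k] (X : Scheme.{u})
    [X.Over (Spec (CommRingCat.of k))] [IsProper (X ↘ (Spec (CommRingCat.of k)))]
    (r : ℕ) (hdim : topologicalKrullDim X = r)
    (L : X.Modules) (hL : PicF.IsInvertible L) (hgen : Curv2.IsGloballyGenerated L)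
    (i : ℕ) (hi : 1 ≤ i) :
    ∃ C : ℝ, ∀ n : ℕ, 1 ≤ n →
      (Module.finrank k (Coh.HH X (CohB1.tensorPow L n) i) : ℝ) ≤ C * (n : ℝ) ^ (r - 1) := by
  haveI : LocallyOfFiniteType (X ↘ Spec (CommRingCat.of k)) := inferInstance
  let K := AlgebraicClosure k
  let Y := CurveOmega.bar k X
  haveI : IsProper (Y ↘ Spec (CommRingCat.of K)) :=
    MorphismProperty.of_isPullback (P := @IsProper) (CurveOmega.isPullback_bar k X) ‹_›
  haveI := CurveRR.isNoetherian_of_proper K Y
  let L' := (Scheme.Modules.pullback (CurveOmega.barFst k X)).obj L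
  have hL' : PicF.IsInvertible L' := PicLoc.isInvertible_pullback _ hL
  have hY : topologicalKrullDim ↥Y ≤ (r : WithBot ℕ∞) :=
    ((Groth.Agent.S4642.result (K := K) (X ↘ Spec (CommRingCat.of k))).trans hdim).le
  obtain ⟨N, t, ht⟩ := AsympCoh.exists_finite_sections hL' (GGDesc.isGloballyGenerated_pullback _ hgen)
  haveI : IsEmpty (↑(∅ : Set ↥Y)) := Set.isEmpty_coe_sort.2 rfl
  obtain ⟨C, hC⟩ := AsympCoh.bdd_above_base K hL' (B := (∅ : Set ↥Y)) isClosed_empty (d := 0)
    (by haveI : IsEmpty (TopologicalSpace.IrreducibleCloseds ↥(∅ : Set ↥Y)) := ⟨fun s => isEmptyElim s.isIrreducible.1.some⟩; rw [topologicalKrullDim, Order.krullDim_eq_bot]; exact bot_le) t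
    (fun x _ => ht x) r (Coh.structureModule Y) RefStalk.isCoh_structureModule (AsympCoh.noCh_top K hY _) i hi
  refine ⟨(C * (r * 2 ^ (r - 1)) : ℕ), fun n hn => ?_⟩
  have key : Module.finrank k (Coh.HH X (CohB1.tensorPow L n) i) ≤ C * (r * 2 ^ (r - 1) * n ^ (r - 1)) := by
    have h1 := CurveOmega.h_bar k X (TMul.isQCoh_of_isInvertible (TMul.isInvertible_tensorPow hL n)) i
    obtain ⟨e⟩ := TMul.nonempty_pullPowIso (CurveOmega.barFst k X) L n
    have h2 := hC n
    rw [CurveRR.h_eq_of_iso (TMul.leftUnitIso _) i, CurveRR.h_eq_of_iso e i, h1] at h2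
    refine h2.trans (Nat.mul_le_mul_left _ ?_)
    rw [AsympCoh.poly, mul_assoc, ← mul_pow]
    exact Nat.mul_le_mul_left _ (Nat.pow_le_pow_left (by omega) _)
  calc ((Module.finrank k (Coh.HH X (CohB1.tensorPow L n) i) : ℕ) : ℝ)
      ≤ ((C * (r * 2 ^ (r - 1) * n ^ (r - 1)) : ℕ) : ℝ) := by exact_mod_cast key
    _ = _ := by push_cast; ring

end Groth.Agent.S19203
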