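import Groth.Statements.S19208
import Groth.Agent.S3405
import Mathlib

set_option autoImplicit false
universe u
open Filter
open LocAlg

namespace Groth.Agent.S19208

/-- Let O be a Noetherian local ring of Krull dimension r containing a field, with maximal ideal m. The
zeroth flat multiplicity e_0(O), the supremum over m-primary ideals I of e(I)/(r!·length(O/I)) with
e(I) the Samuel multiplicity, is at least 1: for every ε > 0 there is an m-primary ideal I (I ⊆ m,
m^N ⊆ I for some N) whose multiplicity e(I), the limit of r!·length(O/I^n)/n^r, satisfies e(I) ≥ (1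
− ε)·r!·length(O/I). (The same statement for the power-series rings O[[t_1, …, t_k]] is the bound
e_k(O) ≥ 1 for the k-th flat multiplicity.) -/
theorem result (O : Type u) [CommRing O] [IsNoetherianRing O]
    [IsLocalRing O] (K : Type u) [Field K] [Algebra K O] (r : ℕ) (hr : ringKrullDim O = r)
    (ε : ℝ) (hε : 0 < ε) :
    ∃ (I : Ideal O) (e : ℝ), I ≤ IsLocalRing.maximalIdeal O ∧
      (∃ N : ℕ, IsLocalRing.maximalIdeal O ^ N ≤ I) ∧
      Tendsto (fun n : ℕ => (r.factorial : ℝ) * ((Module.length O (O ⧸ I ^ n)).toNat : ℝ) / (n : ℝ) ^ r)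
        atTop (nhds e) ∧
      (1 - ε) * ((r.factorial : ℝ) * ((Module.length O (O ⧸ I)).toNat : ℝ)) ≤ e := by
  obtain ⟨P, ⟨N₀, hN₀⟩, hdeg⟩ := Groth.Agent.S3405.result O O
  rw [Module.supportDim_self_eq_ringKrullDim, hr] at hdeg
  have hdeg' : P.natDegree = r := by exact_mod_cast hdeg
  let m := IsLocalRing.maximalIdeal O
  let f : ℕ → ℝ := fun n => ((Module.length O (O ⧸ m ^ n)).toNat : ℝ)
  have hf : ∀ n, N₀ ≤ n → f n = (P.map (algebraMap ℚ ℝ)).eval (n : ℝ) := by
    intro n hn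
    obtain ⟨ℓ, hℓ, hℓP⟩ := hN₀ n hn
    have hT : (Ring.jacobson O ^ n • (⊤ : Submodule O O)) = m ^ n := by
      rw [IsLocalRing.ringJacobson_eq_maximalIdeal, smul_eq_mul, Ideal.mul_top]
    have hℓ' : Module.length O (O ⧸ m ^ n) = ℓ :=
      ((Submodule.quotEquivOfEq _ _ hT).length_eq).symm.trans hℓ
    show ((Module.length O (O ⧸ m ^ n)).toNat : ℝ) = _
    rw [hℓ', ENat.toNat_coe, Polynomial.eval_map_algebraMap,
      show ((n : ℝ)) = algebraMap ℚ ℝ (n : ℚ) by simp, Polynomial.aeval_algebraMap_apply,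
      Polynomial.coe_aeval_eq_eval, ← hℓP]
    simp
  have hpos : ∀ n, 1 ≤ n → N₀ ≤ n → 0 < f n := by
    intro n hn hn'
    obtain ⟨ℓ, hℓ, -⟩ := hN₀ n hn'
    have hT : (Ring.jacobson O ^ n • (⊤ : Submodule O O)) = m ^ n := by
      rw [IsLocalRing.ringJacobson_eq_maximalIdeal, smul_eq_mul, Ideal.mul_top]
    have hℓ' : Module.length O (O ⧸ m ^ n) = ℓ :=
      ((Submodule.quotEquivOfEq _ _ hT).length_eq).symm.trans hℓ
    haveI : Nontrivial (O ⧸ m ^ n) := Ideal.Quotient.nontrivial_iff.2 fun h =>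
      (IsLocalRing.maximalIdeal.isMaximal O).ne_top (top_le_iff.1 (h ▸ Ideal.pow_le_self (by omega)))
    show (0 : ℝ) < ((Module.length O (O ⧸ m ^ n)).toNat : ℝ)
    rw [hℓ', ENat.toNat_coe, Nat.cast_pos, Nat.pos_iff_ne_zero]
    intro h0
    rw [h0, Nat.cast_zero] at hℓ'
    exact (Module.length_pos (R := O) (M := O ⧸ m ^ n)).ne' hℓ'
  let Q := P.map (algebraMap ℚ ℝ)
  have hP0 : P ≠ 0 := by
    intro h
    have h1 := hpos (N₀ + 1) (by omega) (by omega)
    rw [hf _ (by omega), h] at h1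
    simp at h1
  have hQdeg : Q.degree = (Polynomial.X ^ r : Polynomial ℝ).degree := by
    rw [Polynomial.degree_X_pow, Polynomial.degree_map, Polynomial.degree_eq_natDegree hP0, hdeg']
  let c := Q.leadingCoeff
  have hlim : Tendsto (fun n : ℕ => f n / (n : ℝ) ^ r) atTop (nhds c) := by
    have h1 := (Polynomial.div_tendsto_leadingCoeff_div_of_degree_eq Q (Polynomial.X ^ r) hQdeg).comp
      (tendsto_natCast_atTop_atTop (R := ℝ))
    rw [Polynomial.leadingCoeff_X_pow, div_one] at h1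
    refine h1.congr' ((eventually_ge_atTop N₀).mono fun n hn => ?_)
    simp [Function.comp, hf n hn, Q]
  have hc : 0 < c := by
    refine lt_of_le_of_ne (ge_of_tendsto' hlim fun n => by positivity) ?_
    exact (Polynomial.leadingCoeff_ne_zero.2 (Polynomial.map_ne_zero hP0)).symm
  obtain ⟨k, hk1, hk⟩ : ∃ k : ℕ, 1 ≤ k ∧ (1 - ε) * (f k / (k : ℝ) ^ r) ≤ c := by
    rcases le_or_gt 1 ε with h | h
    · refine ⟨1, le_rfl, le_trans ?_ hc.le⟩
      exact mul_nonpos_of_nonpos_of_nonneg (by linarith) (by positivity)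
    · have h1 : c < c / (1 - ε) := by
        rw [lt_div_iff₀ (by linarith)]
        nlinarith
      obtain ⟨k, hk, hk1⟩ := ((hlim.eventually_lt_const h1).and (eventually_ge_atTop 1)).exists
      refine ⟨k, hk1, ?_⟩
      rw [lt_div_iff₀ (by linarith)] at hk
      linarith
  refine ⟨m ^ k, (r.factorial : ℝ) * ((k : ℝ) ^ r * c), Ideal.pow_le_self (by omega), ⟨k, le_rfl⟩, ?_, ?_⟩
  · have hkn : Tendsto (fun n : ℕ => k * n) atTop atTop :=
      tendsto_atTop_mono (fun n => Nat.le_mul_of_pos_left n hk1) tendsto_id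
    refine Tendsto.congr' ?_ (((hlim.comp hkn).const_mul ((k : ℝ) ^ r)).const_mul (r.factorial : ℝ))
    refine (eventually_ge_atTop 1).mono fun n hn => ?_
    have hkR : (k : ℝ) ^ r ≠ 0 := pow_ne_zero _ (by exact_mod_cast (by omega : k ≠ 0))
    show (r.factorial : ℝ) * ((k : ℝ) ^ r * (f (k * n) / ((k * n : ℕ) : ℝ) ^ r)) =
      (r.factorial : ℝ) * ((Module.length O (O ⧸ (m ^ k) ^ n)).toNat : ℝ) / (n : ℝ) ^ r
    rw [← pow_mul, Nat.cast_mul, mul_pow]
    show (r.factorial : ℝ) * ((k : ℝ) ^ r * (f (k * n) / _)) = (r.factorial : ℝ) * f (k * n) / _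
    field_simp
  · have hkR : (0 : ℝ) < (k : ℝ) ^ r := pow_pos (by exact_mod_cast (by omega : 0 < k)) _
    rw [← mul_assoc (1 - ε), mul_comm (1 - ε) (r.factorial : ℝ), mul_assoc]
    refine mul_le_mul_of_nonneg_left ?_ (by positivity)
    rw [← mul_div_assoc, div_le_iff₀ hkR] at hk
    show (1 - ε) * f k ≤ _
    linarith

end Groth.Agent.S19208
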