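import Groth.Statements.S19210
import Mathlib.Algebra.Ring.GeomSum
import Mathlib.Tactic

set_option autoImplicit false
set_option linter.style.haveILetI false

universe u
open LocAlg

namespace Groth.Agent.S19210

/-- For natural numbers j ≤ r, the sums Σ_{i=0}^{n−1} (n − i)^{r−j} i^j equal n^{r+1}·(r − j)!·j!/(r +
1)! up to O(n^r): there is a real constant C with |Σ_{i<n} (n − i)^{r−j} i^j − ((r − j)!·j!/(r +
1)!)·n^{r+1}| ≤ C·n^r for all n ≥ 1. -/
theorem result (r j : ℕ) (hj : j ≤ r) :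
    ∃ C : ℝ, ∀ n : ℕ, 1 ≤ n →
      |(∑ i ∈ Finset.range n, ((n : ℝ) - (i : ℝ)) ^ (r - j) * (i : ℝ) ^ j) -
          ((r - j).factorial : ℝ) * (j.factorial : ℝ) / ((r + 1).factorial : ℝ) * (n : ℝ) ^ (r + 1)| ≤
        C * (n : ℝ) ^ r := by
  have base : ∀ j : ℕ, ∀ n : ℕ, 1 ≤ n →
      |(∑ i ∈ Finset.range n, (i : ℝ) ^ j) - (n : ℝ) ^ (j + 1) / (j + 1)| ≤ (n : ℝ) ^ j := by
    intro j n _
    have step : ∀ i : ℕ, ((j : ℝ) + 1) * (i : ℝ) ^ j ≤ ((i : ℝ) + 1) ^ (j + 1) - (i : ℝ) ^ (j + 1) ∧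
        ((i : ℝ) + 1) ^ (j + 1) - (i : ℝ) ^ (j + 1) ≤ ((j : ℝ) + 1) * ((i : ℝ) + 1) ^ j := by
      intro i
      have hi : (0 : ℝ) ≤ (i : ℝ) := Nat.cast_nonneg i
      rw [← geom_sum₂_mul, show (i : ℝ) + 1 - i = 1 by ring, mul_one]
      have hc : ((Finset.range (j + 1)).card : ℝ) = (j : ℝ) + 1 := by simp
      constructor
      · calc ((j : ℝ) + 1) * (i : ℝ) ^ j = ∑ l ∈ Finset.range (j + 1), (i : ℝ) ^ j := by simp
          _ ≤ _ := by
            refine Finset.sum_le_sum fun l hl => ?_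
            have hl' : l + (j + 1 - 1 - l) = j := by have := Finset.mem_range.mp hl; omega
            calc (i : ℝ) ^ j = (i : ℝ) ^ l * (i : ℝ) ^ (j + 1 - 1 - l) := by rw [← pow_add, hl']
              _ ≤ _ := mul_le_mul_of_nonneg_right (pow_le_pow_left₀ hi (by linarith) l) (by positivity)
      · calc _ ≤ ∑ l ∈ Finset.range (j + 1), ((i : ℝ) + 1) ^ j := by
              refine Finset.sum_le_sum fun l hl => ?_
              have hl' : l + (j + 1 - 1 - l) = j := by have := Finset.mem_range.mp hl; omega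
              calc ((i : ℝ) + 1) ^ l * (i : ℝ) ^ (j + 1 - 1 - l) ≤ ((i : ℝ) + 1) ^ l * ((i : ℝ) + 1) ^ (j + 1 - 1 - l) :=
                    mul_le_mul_of_nonneg_left (pow_le_pow_left₀ hi (by linarith) _) (by positivity)
                _ = _ := by rw [← pow_add, hl']
          _ = _ := by simp
    have h1 := Finset.sum_le_sum (fun i (_ : i ∈ Finset.range n) => (step i).1)
    have h2 := Finset.sum_le_sum (fun i (_ : i ∈ Finset.range n) => (step i).2)
    have htel : ∑ i ∈ Finset.range n, (((i : ℝ) + 1) ^ (j + 1) - (i : ℝ) ^ (j + 1)) = (n : ℝ) ^ (j + 1) := by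
      have := Finset.sum_range_sub (fun i : ℕ => (i : ℝ) ^ (j + 1)) n
      push_cast at this
      rw [this]
      simp
    have hshift : ∑ i ∈ Finset.range n, ((i : ℝ) + 1) ^ j + (0 : ℝ) ^ j = ∑ i ∈ Finset.range n, (i : ℝ) ^ j + (n : ℝ) ^ j := by
      have e1 := Finset.sum_range_succ' (fun i : ℕ => (i : ℝ) ^ j) n
      have e2 := Finset.sum_range_succ (fun i : ℕ => (i : ℝ) ^ j) n
      push_cast at e1
      linarith
    have h0 : (0 : ℝ) ≤ (0 : ℝ) ^ j := by positivity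
    have hn0 : (0 : ℝ) ≤ (n : ℝ) ^ j := by positivity
    rw [htel, ← Finset.mul_sum] at h1 h2
    have hj1 : (0 : ℝ) < (j : ℝ) + 1 := by positivity
    have e : (n : ℝ) ^ (j + 1) = ((j : ℝ) + 1) * ((n : ℝ) ^ (j + 1) / (j + 1)) := by field_simp
    rw [e] at h1 h2
    have := le_of_mul_le_mul_left h1 hj1
    have := le_of_mul_le_mul_left h2 hj1
    rw [abs_le]
    constructor <;> linarith
  obtain ⟨a, rfl⟩ : ∃ a, r = a + j := ⟨r - j, by omega⟩
  rw [Nat.add_sub_cancel]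
  clear hj
  induction a generalizing j with
  | zero =>
    refine ⟨1, fun n hn => ?_⟩
    have h := base j n hn
    simp only [pow_zero, one_mul, Nat.factorial_zero, Nat.cast_one, zero_add, Nat.factorial_succ,
      Nat.cast_mul, Nat.cast_add]
    have hne : ((j.factorial : ℕ) : ℝ) ≠ 0 := by positivity
    convert h using 2
    field_simp
  | succ a ih =>
    obtain ⟨C₁, h₁⟩ := ih j
    obtain ⟨C₂, h₂⟩ := ih (j + 1)
    refine ⟨C₁ + C₂, fun n hn => ?_⟩
    have g₁ := h₁ n hn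
    have g₂ := h₂ n hn
    have hsum : ∑ i ∈ Finset.range n, ((n : ℝ) - (i : ℝ)) ^ (a + 1) * (i : ℝ) ^ j =
        (n : ℝ) * ∑ i ∈ Finset.range n, ((n : ℝ) - (i : ℝ)) ^ a * (i : ℝ) ^ j -
          ∑ i ∈ Finset.range n, ((n : ℝ) - (i : ℝ)) ^ a * (i : ℝ) ^ (j + 1) := by
      rw [Finset.mul_sum, ← Finset.sum_sub_distrib]
      exact Finset.sum_congr rfl fun i _ => by ring
    have hc : ((a + 1).factorial : ℝ) * (j.factorial : ℝ) / ((a + 1 + j + 1).factorial : ℝ) =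
        (a.factorial : ℝ) * (j.factorial : ℝ) / ((a + j + 1).factorial : ℝ) -
          (a.factorial : ℝ) * ((j + 1).factorial : ℝ) / ((a + (j + 1) + 1).factorial : ℝ) := by
      rw [show a + 1 + j + 1 = (a + j + 1) + 1 by omega, show a + (j + 1) + 1 = (a + j + 1) + 1 by omega,
        Nat.factorial_succ (a + j + 1), Nat.factorial_succ a, Nat.factorial_succ j]
      push_cast
      field_simp
      ring
    rw [hsum, hc]
    rw [show a + (j + 1) = a + j + 1 by omega] at g₂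
    rw [show a + (j + 1) + 1 = a + j + 1 + 1 by omega, show a + 1 + j = a + j + 1 by omega]
    set S₁ := ∑ i ∈ Finset.range n, ((n : ℝ) - (i : ℝ)) ^ a * (i : ℝ) ^ j
    set S₂ := ∑ i ∈ Finset.range n, ((n : ℝ) - (i : ℝ)) ^ a * (i : ℝ) ^ (j + 1)
    set c₁ := (a.factorial : ℝ) * (j.factorial : ℝ) / ((a + j + 1).factorial : ℝ)
    set c₂ := (a.factorial : ℝ) * ((j + 1).factorial : ℝ) / ((a + j + 1 + 1).factorial : ℝ)
    have hn' : (0 : ℝ) ≤ (n : ℝ) := Nat.cast_nonneg n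
    calc |(n : ℝ) * S₁ - S₂ - (c₁ - c₂) * (n : ℝ) ^ (a + j + 1 + 1)|
        = |(n : ℝ) * (S₁ - c₁ * (n : ℝ) ^ (a + j + 1)) - (S₂ - c₂ * (n : ℝ) ^ (a + j + 1 + 1))| := by
          congr 1; ring
      _ ≤ |(n : ℝ) * (S₁ - c₁ * (n : ℝ) ^ (a + j + 1))| + |S₂ - c₂ * (n : ℝ) ^ (a + j + 1 + 1)| := abs_sub _ _
      _ ≤ (n : ℝ) * (C₁ * (n : ℝ) ^ (a + j)) + C₂ * (n : ℝ) ^ (a + j + 1) := by
          rw [abs_mul, abs_of_nonneg hn']
          exact add_le_add (mul_le_mul_of_nonneg_left g₁ hn') g₂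
      _ = _ := by ring

end Groth.Agent.S19210
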