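import Groth.Statements.S19216
import Mathlib.Tactic.LinearCombination
import Mathlib.Tactic.FieldSimp
import Mathlib.Tactic.Ring

set_option autoImplicit false
set_option backward.isDefEq.respectTransparency false
set_option linter.style.haveILetI false
universe u
open SymRep

namespace Groth.Agent.S19216

/-- Let k be a field of characteristic zero and r, s ≥ 1. Realise the standard representation of the
symmetric group on a finite set T as the hyperplane of functions T → k with sum zero, the group
acting by precomposition with the inverse. Then the standard representation of the symmetric group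
of Fin r ⊕ Fin s, restricted to the subgroup S_r × S_s, is isomorphic to the direct sum of the
standard representations of S_r and of S_s and of a one-dimensional trivial representation: there is
a k-linear map E from functions on Fin r ⊕ Fin s to triples (function on Fin r, function on Fin s,
scalar), compatible with the actions of S_r × S_s (trivial on the scalar), which maps the sum-zero
hyperplane bijectively onto the product of the two sum-zero hyperplanes and k. (The published
statement is over the complex numbers; a field of characteristic zero is used here. The published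
statement also gives the analogous decomposition for any number of blocks, which follows by
induction; only the two-block case is stated here.) -/
theorem result (k : Type u) [Field k] [CharZero k]
    (r s : ℕ) (hr : 1 ≤ r) (hs : 1 ≤ s) :
    ∃ E : (Fin r ⊕ Fin s → k) →ₗ[k] (Fin r → k) × (Fin s → k) × k,
      (∀ (σ : Equiv.Perm (Fin r)) (τ : Equiv.Perm (Fin s)) (f : Fin r ⊕ Fin s → k),
        E (f ∘ ⇑(Equiv.sumCongr σ τ).symm) = ((E f).1 ∘ ⇑σ.symm, (E f).2.1 ∘ ⇑τ.symm, (E f).2.2)) ∧
      Set.BijOn E {f | ∑ i, f i = 0}
        ({g : Fin r → k | ∑ i, g i = 0} ×ˢ ({h : Fin s → k | ∑ i, h i = 0} ×ˢ Set.univ)) := by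
  classical
  have hr0 : (r : k) ≠ 0 := Nat.cast_ne_zero.mpr (by omega)
  have hs0 : (s : k) ≠ 0 := Nat.cast_ne_zero.mpr (by omega)
  let E : (Fin r ⊕ Fin s → k) →ₗ[k] (Fin r → k) × (Fin s → k) × k :=
    { toFun := fun f => (fun i => f (.inl i) - (∑ a, f (.inl a)) / r,
        fun i => f (.inr i) - (∑ a, f (.inr a)) / s, ∑ a, f (.inl a))
      map_add' := fun f g => by
        simp only [Pi.add_apply, Finset.sum_add_distrib, Prod.mk_add_mk]
        congr 1
        · funext i; simp; ring
        · congr 1; funext i; simp; ring
      map_smul' := fun c f => by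
        simp only [Pi.smul_apply, smul_eq_mul, ← Finset.mul_sum, RingHom.id_apply, Prod.smul_mk]
        congr 1
        · funext i; simp; ring
        · congr 1; funext i; simp; ring }
  refine ⟨E, fun σ τ f => ?_, ?_, ?_, ?_⟩
  · have e1 : ∑ a, f (.inl (σ.symm a)) = ∑ a, f (.inl a) := Equiv.sum_comp σ.symm fun a => f (.inl a)
    have e2 : ∑ a, f (.inr (τ.symm a)) = ∑ a, f (.inr a) := Equiv.sum_comp τ.symm fun a => f (.inr a)
    simp [E, e1, e2, Function.comp_def]
  · intro f (hf : ∑ i, f i = 0)
    refine ⟨?_, ?_, trivial⟩
    · show ∑ i, (f (.inl i) - (∑ a, f (.inl a)) / (r : k)) = 0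
      rw [Finset.sum_sub_distrib, Finset.sum_const, Finset.card_univ, Fintype.card_fin, nsmul_eq_mul]
      field_simp
      ring
    · show ∑ i, (f (.inr i) - (∑ a, f (.inr a)) / (s : k)) = 0
      rw [Finset.sum_sub_distrib, Finset.sum_const, Finset.card_univ, Fintype.card_fin, nsmul_eq_mul]
      field_simp
      ring
  · intro f (hf : ∑ i, f i = 0) g (hg : ∑ i, g i = 0) h
    rw [Fintype.sum_sum_type] at hf hg
    have h3 : ∑ a, f (.inl a) = ∑ a, g (.inl a) := congrArg (fun p => p.2.2) h
    have h4 : ∑ a, f (.inr a) = ∑ a, g (.inr a) := by linear_combination hf - hg - h3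
    funext x
    rcases x with i | i
    · have h1 : f (.inl i) - (∑ a, f (.inl a)) / r = g (.inl i) - (∑ a, g (.inl a)) / r :=
        congrArg (fun p => p.1 i) h
      rw [h3] at h1
      exact sub_left_inj.mp h1
    · have h1 : f (.inr i) - (∑ a, f (.inr a)) / s = g (.inr i) - (∑ a, g (.inr a)) / s :=
        congrArg (fun p => p.2.1 i) h
      rw [h4] at h1
      exact sub_left_inj.mp h1
  · rintro ⟨g, h, c⟩ ⟨hg : ∑ i, g i = 0, hh : ∑ i, h i = 0, -⟩
    refine ⟨Sum.elim (fun i => g i + c / r) (fun i => h i - c / s), ?_, ?_⟩
    · show ∑ i, _ = (0 : k)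
      rw [Fintype.sum_sum_type]
      simp [Finset.sum_add_distrib, Finset.sum_sub_distrib, hg, hh]
      field_simp
      ring
    · have e1 : ∑ a, (g a + c / r) = c := by
        simp [Finset.sum_add_distrib, hg]; field_simp
      have e2 : ∑ a, (h a - c / s) = -c := by
        simp [Finset.sum_sub_distrib, hh]; field_simp
      simp [E, e1, e2, neg_div]

end Groth.Agent.S19216
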