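import Groth.Statements.S19217
import Groth.Agent.DiagIdeal.Pure
import Groth.Agent.LocH.Sequence

set_option autoImplicit false
universe u
open TensorProduct CategoryTheory CategoryTheory.Limits
open DiagIdeal

namespace Groth.Agent.S19217

/-- Let k be an algebraically closed field of characteristic zero and A a smooth k-algebra which is a
domain of Krull dimension 2 (an affine piece of a smooth surface). In the n-fold tensor power R of A
over k, indexed by Fin n, let I_p (p = (i, j), i < j) be the ideal generated by the a_i − a_j, a ∈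
A, the ideal of the diagonal of factors i and j; let M be the intersection of the powers I_p ^ ℓ(p)
over all p with i < j, for arbitrary exponents ℓ; and let 𝔞 be the intersection, over all pairs of
distinct index pairs p ≠ q, of I_p + I_q (an ideal cutting out the locus W where two distinct
pairwise diagonals meet, of codimension 4). Then the local cohomology modules of M with support in 𝔞
vanish in degrees 0 and 1; equivalently M, as a sheaf on Spec R, coincides with the direct image of
its restriction to the complement of W. (The source states this for the product of copies of a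
smooth quasi-projective complex surface, as the equality of the direct image from the complement of
W of the restricted product of the powers of the diagonal ideals with the intersection of those
powers; the two sheaves agree away from W, where the diagonals are pairwise disjoint.) -/
theorem result (k : Type u) [Field k] [IsAlgClosed k] [CharZero k]
    (A : Type u) [CommRing A] [Algebra k A] [Algebra.Smooth k A] [IsDomain A]
    (hdim : ringKrullDim A = 2) (n : ℕ) (ℓ : Fin n × Fin n → ℕ)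
    (I : Fin n × Fin n → Ideal (⨂[k] _ : Fin n, A))
    (hI : ∀ p, I p = Ideal.span (Set.range fun a : A =>
        PiTensorProduct.singleAlgHom (R := k) (A := fun _ : Fin n => A) p.1 a -
        PiTensorProduct.singleAlgHom (R := k) (A := fun _ : Fin n => A) p.2 a))
    (𝔞 : Ideal (⨂[k] _ : Fin n, A))
    (h𝔞 : 𝔞 = ⨅ pq ∈ Finset.univ.filter (fun pq : (Fin n × Fin n) × (Fin n × Fin n) =>
        pq.1.1 < pq.1.2 ∧ pq.2.1 < pq.2.2 ∧ pq.1 ≠ pq.2), I pq.1 ⊔ I pq.2)
    (M : Submodule (⨂[k] _ : Fin n, A) (⨂[k] _ : Fin n, A))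
    (hM : M = ⨅ p ∈ Finset.univ.filter (fun p : Fin n × Fin n => p.1 < p.2), (I p) ^ (ℓ p)) :
    IsZero ((localCohomology 𝔞 0).obj (ModuleCat.of (⨂[k] _ : Fin n, A) M)) ∧
    IsZero ((localCohomology 𝔞 1).obj (ModuleCat.of (⨂[k] _ : Fin n, A) M)) := by
  classical
  haveI : IsDomain (⨂[k] _ : Fin n, A) := Groth.Agent.DiagIdeal.isDomain_pow n
  haveI : IsRegularRing (⨂[k] _ : Fin n, A) :=
    Groth.Agent.DiagIdeal.isRegularRing_of_smooth' (k := k) (⨂[k] _ : Fin n, A)
  haveI : IsNoetherianRing (⨂[k] _ : Fin n, A) :=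
    Algebra.FiniteType.isNoetherianRing k (⨂[k] _ : Fin n, A)
  obtain ⟨a, ha⟩ := Groth.Agent.DiagIdeal.exists_notMem_range (k := k) (A := A) (by rw [hdim]; decide)
  let S := Finset.univ.filter fun p : Fin n × Fin n => p.1 < p.2
  let T := Finset.univ.filter fun pq : (Fin n × Fin n) × (Fin n × Fin n) =>
    pq.1.1 < pq.1.2 ∧ pq.2.1 < pq.2.2 ∧ pq.1 ≠ pq.2
  have hI' : ∀ p, I p = Groth.Agent.DiagIdeal.diag k A p.1 p.2 := hI
  have hprime : ∀ p, (I p).IsPrime := fun p => hI' p ▸ Groth.Agent.DiagIdeal.isPrime_diag p.1 p.2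
  have hinj : ∀ {p q : Fin n × Fin n}, p.1 < p.2 → q.1 < q.2 → I q ≤ I p → q = p := fun hp hq h =>
    Groth.Agent.DiagIdeal.eq_of_diag_le ha hp hq (by rwa [hI', hI'] at h)
  have hbot : ∀ {p : Fin n × Fin n}, p.1 < p.2 → I p ≠ ⊥ := fun {p} hp h => by
    have := Groth.Agent.DiagIdeal.sub_mem_diag (k := k) (A := A) p.1 p.2 a
    rw [← hI', h, Submodule.mem_bot, sub_eq_zero] at this
    exact Groth.Agent.DiagIdeal.sgl_ne ha hp.ne this
  have hover : ∀ P : Ideal (⨂[k] _ : Fin n, A), P.IsPrime → 𝔞 ≤ P → ∃ pq ∈ T, I pq.1 ⊔ I pq.2 ≤ P :=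
    fun P hP h => (Ideal.IsPrime.inf_le' hP).1 (by rw [Finset.inf_eq_iInf, ← h𝔞]; exact h)
  have hnotle : ∀ p ∈ S, ¬ 𝔞 ≤ I p := fun p hp h => by
    obtain ⟨pq, hpq, hle⟩ := hover _ (hprime p) h
    simp only [T, Finset.mem_filter] at hpq
    have hp' : p.1 < p.2 := (Finset.mem_filter.1 hp).2
    exact hpq.2.2.2 ((hinj hp' hpq.2.1 (le_sup_left.trans hle)).trans
      (hinj hp' hpq.2.2.1 (le_sup_right.trans hle)).symm)
  have hneBot : ¬ 𝔞 ≤ ⊥ := fun h => by
    obtain ⟨pq, hpq, hle⟩ := hover ⊥ Ideal.isPrime_bot h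
    simp only [T, Finset.mem_filter] at hpq
    exact hbot hpq.2.1 (le_bot_iff.1 (le_sup_left.trans hle))
  obtain ⟨r, hra, hr⟩ : ∃ r ∈ 𝔞, ∀ P ∈ insert ⊥ (S.image I), r ∉ P := by
    by_contra hc
    simp only [not_exists, not_and, not_forall, not_not] at hc
    obtain ⟨P, hP, hle⟩ := (Ideal.subset_union_prime (f := id) (s := insert ⊥ (S.image I)) ⊥ ⊥
      (fun P hP hne _ => by
        obtain ⟨p, -, rfl⟩ := Finset.mem_image.1 ((Finset.mem_insert.1 hP).resolve_left hne)
        exact hprime p)).1 (fun x hx => by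
        obtain ⟨P, hP, hxP⟩ := hc x hx
        exact Set.mem_biUnion (Finset.mem_coe.2 hP) hxP)
    rcases Finset.mem_insert.1 hP with rfl | hP
    · exact hneBot hle
    · obtain ⟨p, hp, rfl⟩ := Finset.mem_image.1 hP
      exact hnotle p hp hle
  have hr0 : r ≠ 0 := hr ⊥ (Finset.mem_insert_self _ _)
  have hht : (2 : ℕ∞) ≤ 𝔞.height := by
    rw [Ideal.height_eq_inf_minimalPrimes]
    refine le_iInf₂ fun P hP => ?_
    haveI : P.IsPrime := hP.1.1
    obtain ⟨pq, hpq, hle⟩ := hover P inferInstance hP.1.2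
    simp only [T, Finset.mem_filter] at hpq
    haveI := hprime pq.1
    haveI : (⊥ : Ideal (⨂[k] _ : Fin n, A)).IsPrime := Ideal.isPrime_bot
    have h1 := Ideal.height_add_one_le_of_lt_of_isPrime (bot_lt_iff_ne_bot.2 (hbot hpq.2.1))
    have h2 : I pq.1 < P := lt_of_le_of_ne (le_sup_left.trans hle) fun he =>
      hpq.2.2.2 (hinj hpq.2.1 hpq.2.2.1 ((le_sup_right.trans hle).trans_eq he.symm)).symm
    refine le_trans ?_ (Ideal.height_add_one_le_of_lt_of_isPrime h2)
    rw [show (2 : ℕ∞) = 1 + 1 from one_add_one_eq_two.symm]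
    exact add_le_add (le_add_self.trans h1) le_rfl
  have hR := (Groth.Agent.LocH.le_idealDepth_iff 𝔞 (⨂[k] _ : Fin n, A) 2).1
    (hht.trans (Groth.Agent.LocH.height_le_idealDepth_self 𝔞))
  have hM0 : Subsingleton (LocCoh.H 𝔞 0 M) := Groth.Agent.LocH.subsingleton_of_isWeaklyRegular 𝔞 [r] M
    (by
      rw [RingTheory.Sequence.isWeaklyRegular_cons_iff]
      exact ⟨fun x y h => Subtype.ext (mul_left_cancel₀ hr0 (congrArg Subtype.val h)),
        RingTheory.Sequence.IsWeaklyRegular.nil _ _⟩)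
    (by simpa using hra) 0 Nat.zero_lt_one
  have hregM : ∀ x, r * x ∈ M → x ∈ M := fun x hx => by
    rw [hM] at hx ⊢
    simp only [Submodule.mem_iInf] at hx ⊢
    intro p hp
    haveI := hprime p
    haveI : IsRegularRing ((⨂[k] _ : Fin n, A) ⧸ I p) := by
      rw [hI' p]
      haveI := Groth.Agent.DiagIdeal.smooth_quotient (k := k) (A := A) p.1 p.2
      haveI : (Groth.Agent.DiagIdeal.diag k A p.1 p.2).IsPrime := Groth.Agent.DiagIdeal.isPrime_diag p.1 p.2
      exact Groth.Agent.DiagIdeal.isRegularRing_of_smooth' (k := k) _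
    exact Groth.Agent.DiagIdeal.mem_pow_of_mul_mem (I p)
      (hr _ (Finset.mem_insert_of_mem (Finset.mem_image_of_mem I hp))) (hx p hp)
  have hQ0 : Subsingleton (LocCoh.H 𝔞 0 ((⨂[k] _ : Fin n, A) ⧸ M)) :=
    Groth.Agent.LocH.subsingleton_of_isWeaklyRegular 𝔞 [r] _ (by
      rw [RingTheory.Sequence.isWeaklyRegular_cons_iff]
      exact ⟨(isSMulRegular_quotient_iff_mem_of_smul_mem M r).2 hregM,
        RingTheory.Sequence.IsWeaklyRegular.nil _ _⟩)
      (by simpa using hra) 0 Nat.zero_lt_one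
  let S' : ShortComplex (ModuleCat.{u} (⨂[k] _ : Fin n, A)) :=
    ShortComplex.mk (X₁ := ModuleCat.of _ M) (X₂ := ModuleCat.of _ (⨂[k] _ : Fin n, A))
      (X₃ := ModuleCat.of _ ((⨂[k] _ : Fin n, A) ⧸ M)) (ModuleCat.ofHom M.subtype) (ModuleCat.ofHom M.mkQ)
      (by ext x; exact (Submodule.Quotient.mk_eq_zero _).2 x.2)
  have hS : S'.ShortExact :=
    { exact := by
        rw [ShortComplex.moduleCat_exact_iff]
        intro y hy
        exact ⟨⟨y, (Submodule.Quotient.mk_eq_zero _).1 hy⟩, rfl⟩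
      mono_f := (ModuleCat.mono_iff_injective _).2 Subtype.val_injective
      epi_g := (ModuleCat.epi_iff_surjective _).2 (Submodule.mkQ_surjective _) }
  exact ⟨ModuleCat.isZero_iff_subsingleton.2 hM0,
    ModuleCat.isZero_iff_subsingleton.2 (Groth.Agent.LocH.subsingleton_X₁ hS 0 (hR 1 Nat.one_lt_two) hQ0)⟩

end Groth.Agent.S19217
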