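import Groth.Statements.S19218
import Groth.Agent.DiagIdeal.Three

set_option autoImplicit false
universe u v
open TensorProduct
open DiagIdeal

namespace Groth.Agent.S19218

/-- Let k be an algebraically closed field of characteristic zero and A a smooth k-algebra which is a
domain of Krull dimension 2. In the n-fold tensor power R of A over k, indexed by Fin n, let I_p (p
= (i, j), i < j) be the ideal generated by the a_i − a_j, a ∈ A, and let I be the intersection of
the I_p, the ideal of the big diagonal. Assume that for every s ≥ 0 the power I ^ s is the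
intersection of the powers I_p ^ s (a property of the big diagonal of a smooth surface that the
source takes from the literature). Then for m ≥ 1 every element of R fixed by all permutations of
the n factors and lying in I ^ (2m − 1) lies in I ^ (2m): on the symmetric product the invariants of
the odd power and of the next even power of the ideal of the big diagonal coincide. (The source
states the sheaf version for a smooth quasi-projective complex surface, using the displayed property
of the powers without restating it as a hypothesis.) -/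
theorem result (k : Type u) [Field k] [IsAlgClosed k] [CharZero k]
    (A : Type v) [CommRing A] [Algebra k A] [Algebra.Smooth k A] [IsDomain A]
    (hdim : ringKrullDim A = 2) (n : ℕ)
    (I : Fin n × Fin n → Ideal (⨂[k] _ : Fin n, A))
    (hI : ∀ p, I p = Ideal.span (Set.range fun a : A =>
        PiTensorProduct.singleAlgHom (R := k) (A := fun _ : Fin n => A) p.1 a -
        PiTensorProduct.singleAlgHom (R := k) (A := fun _ : Fin n => A) p.2 a))
    (IΔ : Ideal (⨂[k] _ : Fin n, A))
    (hIΔ : IΔ = ⨅ p ∈ Finset.univ.filter (fun p : Fin n × Fin n => p.1 < p.2), I p)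
    (hpow : ∀ s : ℕ, IΔ ^ s = ⨅ p ∈ Finset.univ.filter (fun p : Fin n × Fin n => p.1 < p.2), (I p) ^ s)
    (m : ℕ) (hm : 1 ≤ m) (x : ⨂[k] _ : Fin n, A)
    (hx : ∀ σ : Equiv.Perm (Fin n), PiTensorProduct.reindex k (fun _ : Fin n => A) σ x = x)
    (hmem : x ∈ IΔ ^ (2 * m - 1)) :
    x ∈ IΔ ^ (2 * m) := by
  classical
  let _ := hdim
  rw [hpow, Submodule.mem_iInf]
  intro p
  rw [Submodule.mem_iInf]
  intro hp
  have hmem' : x ∈ I p ^ (2 * m - 1) := by
    rw [hpow] at hmem
    exact (Submodule.mem_iInf _).1 ((Submodule.mem_iInf _).1 hmem p) hp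
  let σ : (⨂[k] _ : Fin n, A) →ₐ[k] ⨂[k] _ : Fin n, A :=
    Groth.Agent.DiagIdeal.piLift fun l => Groth.Agent.DiagIdeal.sgl k A (Equiv.swap p.1 p.2 l)
  have hσx : σ x = x := (Groth.Agent.DiagIdeal.reindex_eq_piLift _ x).symm.trans (hx _)
  have hI' : I p = Groth.Agent.DiagIdeal.diag k A p.1 p.2 := hI p
  have hsub : ∀ r, r - σ r ∈ I p := fun r => hI' ▸ Groth.Agent.DiagIdeal.sub_mem_diag_of_congr p.1 p.2 _
    (fun l => by
      by_cases h1 : l = p.1
      · exact Or.inr (Or.inl ⟨h1, by rw [h1, Equiv.swap_apply_left]⟩)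
      by_cases h2 : l = p.2
      · exact Or.inr (Or.inr ⟨h2, by rw [h2, Equiv.swap_apply_right]⟩)
      exact Or.inl (Equiv.swap_apply_of_ne_of_ne h1 h2)) r
  have hone : ∀ d ∈ I p, σ d ∈ I p ∧ σ d + d ∈ I p ^ 2 := by
    intro d hd
    rw [hI'] at hd
    refine Submodule.span_induction ?_ (by simp) ?_ ?_ hd
    · rintro _ ⟨a, rfl⟩
      have e : σ (Groth.Agent.DiagIdeal.sgl k A p.1 a - Groth.Agent.DiagIdeal.sgl k A p.2 a) =
          Groth.Agent.DiagIdeal.sgl k A p.2 a - Groth.Agent.DiagIdeal.sgl k A p.1 a := by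
        rw [map_sub, Groth.Agent.DiagIdeal.piLift_sgl, Groth.Agent.DiagIdeal.piLift_sgl,
          Equiv.swap_apply_left, Equiv.swap_apply_right]
      rw [e]
      refine ⟨?_, by simp⟩
      rw [hI', Groth.Agent.DiagIdeal.diag_comm]
      exact Groth.Agent.DiagIdeal.sub_mem_diag _ _ a
    · rintro a b - - ⟨ha, ha'⟩ ⟨hb, hb'⟩
      rw [map_add, add_add_add_comm]
      exact ⟨add_mem ha hb, add_mem ha' hb'⟩
    · rintro r a ha0 ⟨ha, ha'⟩
      rw [smul_eq_mul, map_mul]
      refine ⟨Ideal.mul_mem_left _ _ ha, ?_⟩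
      rw [show σ r * σ a + r * a = σ r * (σ a + a) + (r - σ r) * a by ring, pow_two]
      exact add_mem (Ideal.mul_mem_left _ _ (pow_two (I p) ▸ ha')) (Ideal.mul_mem_mul (hsub r) (hI' ▸ ha0))
  have hpw : ∀ s : ℕ, ∀ d ∈ I p ^ s, σ d ∈ I p ^ s ∧ σ d - (-1) ^ s * d ∈ I p ^ (s + 1) := by
    intro s
    induction s with
    | zero => exact fun d _ => ⟨by simp, by simpa using neg_sub d (σ d) ▸ neg_mem (hsub d)⟩
    | succ s ih =>
      intro d hd
      rw [pow_succ] at hd
      refine Submodule.mul_induction_on hd ?_ ?_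
      · intro a ha b hb
        obtain ⟨h1, h2⟩ := ih a ha
        obtain ⟨h3, h4⟩ := hone b hb
        rw [map_mul]
        refine ⟨pow_succ (I p) s ▸ Ideal.mul_mem_mul h1 h3, ?_⟩
        rw [show σ a * σ b - (-1) ^ (s + 1) * (a * b) = σ a * (σ b + b) - (σ a - (-1) ^ s * a) * b by ring,
          show s + 1 + 1 = s + 2 from rfl]
        refine sub_mem ?_ ?_
        · rw [pow_add]
          exact Ideal.mul_mem_mul h1 h4
        · rw [pow_succ (I p) (s + 1)]
          exact Ideal.mul_mem_mul h2 hb
      · rintro a b ⟨ha, ha'⟩ ⟨hb, hb'⟩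
        rw [map_add, mul_add, add_sub_add_comm]
        exact ⟨add_mem ha hb, add_mem ha' hb'⟩
  have h := (hpw _ x hmem').2
  rw [hσx, Odd.neg_one_pow ⟨m - 1, by omega⟩, show 2 * m - 1 + 1 = 2 * m by omega] at h
  have h2 : IsUnit (2 : ⨂[k] _ : Fin n, A) := by
    rw [← map_ofNat (algebraMap k (⨂[k] _ : Fin n, A)) 2]
    exact (Ne.isUnit two_ne_zero).map _
  refine (Ideal.unit_mul_mem_iff_mem _ h2).1 ?_
  rwa [show x - -1 * x = 2 * x by ring] at h

end Groth.Agent.S19218
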