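import Groth.Statements.S19219
import Groth.Agent.TorExcess.Main
import Groth.Agent.TorExcess.Derived
import Groth.Agent.GeomProp.SmoothReg

set_option autoImplicit false
universe u
open CategoryTheory CategoryTheory.Limits MonoidalCategory TensorProduct
attribute [local instance] HasDerivedCategory.standard
open DTen

namespace Groth.Agent.S19219

open Groth.Agent

/-- Let k be an algebraically closed field of characteristic zero, A a smooth k-algebra which is a
domain, and J₁, J₂, J₃ ideals of A such that each A/Jᵢ is smooth over k and A/J is smooth over k,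
where J = J₁ + J₂ + J₃ (three smooth closed subschemes of Spec A whose scheme-theoretic intersection
Z is smooth). Let S : J₁ × J₂ × J₃ → J be the sum map and K the kernel of its base change to A/J,
i.e. of (A/J) ⊗_A (J₁ ⊕ J₂ ⊕ J₃) → (A/J) ⊗_A J = J/J², the dual of the quotient of the sum of the
restricted normal bundles by the normal bundle of Z. Assume the jointly derived triple tensor
product on D(A) exists (binder). Then for every q ≥ 0 and every prime ideal 𝔭 of A, the localization
at 𝔭 of the cohomology module in degree −q of A/J₁ ⊗^L A/J₂ ⊗^L A/J₃ (the triple Tor_q of the three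
quotients) is carried by a bijective A-linear map onto the localization at 𝔭 of the q-th exterior
power of K over A/J, regarded as an A-module (existence of such a bijection only, prime by prime).
(The published statement is the sheaf isomorphism, for any finite number of smooth subvarieties of a
smooth complex variety; the published proof constructs the isomorphism on a sufficiently small
affine neighbourhood of each point and leaves the gluing of these local isomorphisms to the reader,
so this row states the local form, isomorphic localizations at every prime, in the case of three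
subvarieties on an affine piece, over an algebraically closed field of characteristic zero.) -/
theorem result (k : Type u) [Field k] [IsAlgClosed k] [CharZero k]
    (A : Type u) [CommRing A] [Algebra k A] [Algebra.Smooth k A] [IsDomain A] [DTen.HasLTen₃ A]
    (J₁ J₂ J₃ J : Ideal A) (hJ : J = J₁ ⊔ J₂ ⊔ J₃)
    [Algebra.Smooth k (A ⧸ J₁)] [Algebra.Smooth k (A ⧸ J₂)] [Algebra.Smooth k (A ⧸ J₃)] [Algebra.Smooth k (A ⧸ J)]
    (S : (↥J₁ × (↥J₂ × ↥J₃)) →ₗ[A] ↥J) (hS : ∀ x, (S x : A) = (x.1 : A) + (x.2.1 : A) + (x.2.2 : A))
    (q : ℕ) (p : Ideal A) [p.IsPrime] :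
    ∃ f : LocalizedModule p.primeCompl
          (Dual.HD A ((DTen.LTen₃ A).obj (Dual.inD A (A ⧸ J₁), (Dual.inD A (A ⧸ J₂), Dual.inD A (A ⧸ J₃)))) (-(q : ℤ)))
        →ₗ[A] LocalizedModule p.primeCompl
          (RestrictScalars A (A ⧸ J)
            ↥(ExteriorAlgebra.exteriorPower (A ⧸ J) q ↥(LinearMap.ker (S.baseChange (A ⧸ J))))),
      Function.Bijective f := by
  haveI : IsRegularRing A := GeomProp.isRegularRing_of_smooth k A
  haveI := GeomProp.isRegularRing_of_smooth k (A ⧸ J₁)
  haveI := GeomProp.isRegularRing_of_smooth k (A ⧸ J₂)
  haveI := GeomProp.isRegularRing_of_smooth k (A ⧸ J₃)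
  haveI := GeomProp.isRegularRing_of_smooth k (A ⧸ J)
  haveI : IsRegularLocalRing (Localization.AtPrime p) := IsRegularRing.isRegularLocalRing_localization p
  exact (TorExcess.nonempty_localized_equiv (C := Localization.AtPrime p) p J₁ J₂ J₃ J hJ S hS q _
    (fun g₁ g₂ g₃ h₁ h₂ h₃ e₁ e₂ e₃ => TorExcess.nonempty_localized_iso J₁ J₂ J₃ h₁ h₂ h₃ e₁ e₂ e₃ (-(q : ℤ)))).elim
    fun e => ⟨e.toLinearMap, e.bijective⟩

end Groth.Agent.S19219
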