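import Groth.Statements.S19221
import Mathlib

set_option autoImplicit false
universe u
open SymRep

namespace Groth.Agent.S19221

/-- Let k be a field of characteristic zero and F the k-space of functions Fin 2 → Fin 4 → Fin 4 → k,
with the symmetric group of Fin 4 acting through P σ f c a b = f c (σ⁻¹ a) (σ⁻¹ b). The signed edge
vectors of the complete graph on four vertices live in F as the functions antisymmetric in the two
vertex arguments, and for a colour c and an oriented 3-cycle i → j → l → i the cycle vector z c i j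
l is the function equal, in colour c, to +1 at (i,j), (j,l), (l,i), to −1 at (j,i), (l,j), (i,l) and
to 0 elsewhere (and 0 in the other colour); these cycle vectors span k² ⊗ (cycle space), the
representation written C² ⊗ q in the published text. Let Γ be the graph with edges 01, 02, 03, 12,
23 (a 4-cycle with one chord), whose cycle space is spanned by the cycles (0,1,2) and (0,2,3), and
let ω be the product in the exterior algebra of F of the four vectors z 0 0 1 2, z 1 0 1 2, z 0 0 2
3, z 1 0 2 3 (a generator of the top exterior power of k² ⊗ q_Γ). Then ω is fixed by the stabiliser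
of Γ in the symmetric group (generated by the transpositions (0 2) and (1 3)), and the sum over all
24 permutations σ of the images of ω under the maps induced by P σ is nonzero: the projection of ω
to the invariants of the fourth exterior power of k² ⊗ q_{K₄} does not vanish. (The published
statement is over the complex numbers; a field of characteristic zero is used here. The published
statement also asserts that this map is an isomorphism onto the one-dimensional space of
S₄-invariants of the fourth exterior power of k² ⊗ q_{K₄}; only its non-vanishing is stated here.) -/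
theorem result (k : Type u) [Field k] [CharZero k]
    (P : Equiv.Perm (Fin 4) → ((Fin 2 → Fin 4 → Fin 4 → k) →ₗ[k] (Fin 2 → Fin 4 → Fin 4 → k)))
    (hP : ∀ (σ : Equiv.Perm (Fin 4)) (f : Fin 2 → Fin 4 → Fin 4 → k) (c : Fin 2) (a b : Fin 4),
      P σ f c a b = f c (σ.symm a) (σ.symm b))
    (z : Fin 2 → Fin 4 → Fin 4 → Fin 4 → (Fin 2 → Fin 4 → Fin 4 → k))
    (hz : ∀ (c : Fin 2) (i j l : Fin 4) (c' : Fin 2) (a b : Fin 4), z c i j l c' a b =
      if c' = c then
        ((if a = i ∧ b = j then 1 else 0) + (if a = j ∧ b = l then 1 else 0) + (if a = l ∧ b = i then 1 else 0)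
          - (if a = j ∧ b = i then 1 else 0) - (if a = l ∧ b = j then 1 else 0) - (if a = i ∧ b = l then 1 else 0))
      else 0)
    (ω : ExteriorAlgebra k (Fin 2 → Fin 4 → Fin 4 → k))
    (hω : ω = ExteriorAlgebra.ι k (z 0 0 1 2) * ExteriorAlgebra.ι k (z 1 0 1 2) *
      ExteriorAlgebra.ι k (z 0 0 2 3) * ExteriorAlgebra.ι k (z 1 0 2 3)) :
    ExteriorAlgebra.map (P (Equiv.swap 0 2)) ω = ω ∧
    ExteriorAlgebra.map (P (Equiv.swap 1 3)) ω = ω ∧
    (∑ σ : Equiv.Perm (Fin 4), ExteriorAlgebra.map (P σ) ω) ≠ 0 := by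
  classical
  let zz : Fin 4 → Fin 4 → Fin 4 → Fin 4 → Fin 4 → ℤ := fun i j l a b =>
    (if a = i ∧ b = j then 1 else 0) + (if a = j ∧ b = l then 1 else 0) + (if a = l ∧ b = i then 1 else 0)
      - (if a = j ∧ b = i then 1 else 0) - (if a = l ∧ b = j then 1 else 0) - (if a = i ∧ b = l then 1 else 0)
  have hzz : ∀ c i j l c' a b, z c i j l c' a b = if c' = c then (zz i j l a b : k) else 0 := by
    intro c i j l c' a b
    rw [hz]
    simp only [zz]
    push_cast
    rfl
  have hPz : ∀ (σ : Equiv.Perm (Fin 4)) c i j l, P σ (z c i j l) = z c (σ i) (σ j) (σ l) := by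
    intro σ c i j l
    ext c' a b
    simp only [hP, hz, Equiv.symm_apply_eq]
  have hneg : ∀ c i j l, z c l j i = -z c i j l := by
    intro c i j l
    ext c' a b
    simp only [Pi.neg_apply, hz]
    split_ifs <;> ring
  have hrot : ∀ c i j l, z c j l i = z c i j l := by
    intro c i j l
    ext c' a b
    simp only [hz]
    split_ifs <;> ring
  have hω' : ω = ExteriorAlgebra.ιMulti k 4 ![z 0 0 1 2, z 1 0 1 2, z 0 0 2 3, z 1 0 2 3] := by
    rw [hω, ExteriorAlgebra.ιMulti_apply]
    simp [List.ofFn_succ, mul_assoc]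
  have hmapω : ∀ σ : Equiv.Perm (Fin 4), ExteriorAlgebra.map (P σ) ω = ExteriorAlgebra.ιMulti k 4
      ![z 0 (σ 0) (σ 1) (σ 2), z 1 (σ 0) (σ 1) (σ 2), z 0 (σ 0) (σ 2) (σ 3), z 1 (σ 0) (σ 2) (σ 3)] := by
    intro σ
    rw [hω', ExteriorAlgebra.map_apply_ιMulti]
    congr 1
    funext i
    fin_cases i <;> exact hPz σ _ _ _ _
  refine ⟨?_, ?_, ?_⟩
  · rw [hω, map_mul, map_mul, map_mul, ExteriorAlgebra.map_apply_ι, ExteriorAlgebra.map_apply_ι,
      ExteriorAlgebra.map_apply_ι, ExteriorAlgebra.map_apply_ι, hPz, hPz, hPz, hPz]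
    simp only [Equiv.swap_apply_left, Equiv.swap_apply_right,
      Equiv.swap_apply_of_ne_of_ne (show (1 : Fin 4) ≠ 0 by decide) (show (1 : Fin 4) ≠ 2 by decide),
      Equiv.swap_apply_of_ne_of_ne (show (3 : Fin 4) ≠ 0 by decide) (show (3 : Fin 4) ≠ 2 by decide)]
    rw [hneg 0 0 1 2, hneg 1 0 1 2, show z 0 2 0 3 = -z 0 0 2 3 by rw [← hneg, hrot 0 3 2 0],
      show z 1 2 0 3 = -z 1 0 2 3 by rw [← hneg, hrot 1 3 2 0]]
    simp only [map_neg, neg_mul, mul_neg, neg_neg]
  · rw [hmapω, hω']
    simp only [Equiv.swap_apply_left, Equiv.swap_apply_right,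
      Equiv.swap_apply_of_ne_of_ne (show (0 : Fin 4) ≠ 1 by decide) (show (0 : Fin 4) ≠ 3 by decide),
      Equiv.swap_apply_of_ne_of_ne (show (2 : Fin 4) ≠ 1 by decide) (show (2 : Fin 4) ≠ 3 by decide)]
    have h1 : ∀ c, z c 0 3 2 = -z c 0 2 3 := fun c => by rw [← hrot c 0 2 3, hneg c 0 3 2, neg_neg]
    have h2 : ∀ c, z c 0 2 1 = -z c 0 1 2 := fun c => by rw [← hrot c 0 1 2, hneg c 0 2 1, neg_neg]
    rw [h1, h1, h2, h2]
    have hv : (![-z 0 0 2 3, -z 1 0 2 3, -z 0 0 1 2, -z 1 0 1 2] : Fin 4 → _) =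
        fun i => (-1 : k) • (![z 0 0 1 2, z 1 0 1 2, z 0 0 2 3, z 1 0 2 3] ∘ (Equiv.swap 0 2 * Equiv.swap 1 3 : Equiv.Perm (Fin 4))) i := by
      funext i
      rw [neg_one_smul]
      fin_cases i <;> rfl
    rw [hv, AlternatingMap.map_smul_univ, AlternatingMap.map_perm,
      show Equiv.Perm.sign (Equiv.swap 0 2 * Equiv.swap 1 3 : Equiv.Perm (Fin 4)) = 1 by decide, one_smul,
      Finset.prod_const, Finset.card_univ, Fintype.card_fin, show (-1 : k) ^ 4 = 1 by ring, one_smul]
  · intro hsum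
    let Φ : (Fin 2 → Fin 4 → Fin 4 → k) →ₗ[k] (Fin 4 → k) :=
      { toFun := fun v => ![v 0 0 1, v 0 2 3, v 1 0 1, v 1 2 3]
        map_add' := fun v w => by funext i; fin_cases i <;> simp
        map_smul' := fun a v => by funext i; fin_cases i <;> simp }
    let fam : ∀ i, (Fin 4 → k) [⋀^Fin i]→ₗ[k] k := fun i =>
      match i with
      | 4 => Matrix.detRowAlternating
      | _ => 0
    let Λ : ExteriorAlgebra k (Fin 4 → k) →ₗ[k] k := ExteriorAlgebra.liftAlternating fam
    let Dm : Equiv.Perm (Fin 4) → ℤ := fun σ =>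
      zz (σ 0) (σ 1) (σ 2) 0 1 * zz (σ 0) (σ 2) (σ 3) 2 3 - zz (σ 0) (σ 1) (σ 2) 2 3 * zz (σ 0) (σ 2) (σ 3) 0 1
    have hval : ∀ σ, Λ (ExteriorAlgebra.map Φ (ExteriorAlgebra.map (P σ) ω)) = ((-(Dm σ ^ 2) : ℤ) : k) := by
      intro σ
      rw [hmapω, ExteriorAlgebra.map_apply_ιMulti, ExteriorAlgebra.liftAlternating_apply_ιMulti]
      show Matrix.det (Matrix.of (Φ ∘ ![z 0 (σ 0) (σ 1) (σ 2), z 1 (σ 0) (σ 1) (σ 2), z 0 (σ 0) (σ 2) (σ 3), z 1 (σ 0) (σ 2) (σ 3)])) = _
      rw [Matrix.det_succ_row_zero]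
      simp [Fin.sum_univ_succ, Matrix.det_fin_three, Φ, hzz, Fin.succAbove, Dm]
      ring
    have h := congrArg (fun x => Λ (ExteriorAlgebra.map Φ x)) hsum
    simp only [map_sum, map_zero, hval, ← Int.cast_sum, Int.cast_eq_zero] at h
    revert h
    simp only [Dm, zz]
    decide +kernel

end Groth.Agent.S19221
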