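import Groth.Agent.BigSiteLib.Compare
import Groth.Agent.EtIntegral.Push
import Groth.Agent.EtPullExact.Basic
import Groth.Agent.EtHens.Basic
import Groth.Agent.S0073
import Groth.Prelude.Def_EtBase
import Mathlib.AlgebraicGeometry.Morphisms.Finite
import Mathlib.RingTheory.Henselian
import Mathlib.FieldTheory.IsSepClosed
set_option autoImplicit false
set_option backward.isDefEq.respectTransparency false
universe u
open CategoryTheory AlgebraicGeometry
namespace EtBase
end EtBase
open EtBase

namespace Groth.Agent.S19222

/-- Let R be a strictly henselian local ring (henselian, with separably closed residue field), let X be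
a scheme finite over Spec R and let F be an abelian étale sheaf on X. Then H^j(X_et, F) = 0 for
every j ≥ 1. (The source states this vanishing for the schemes X ×_R Y ×_R ⋯ ×_R Y with Y a further
finite R-scheme; these are again finite over R, so the present form is the whole content.) -/
theorem result (R : Type u) [CommRing R] [HenselianLocalRing R]
    [IsSepClosed (IsLocalRing.ResidueField R)] (X : Scheme.{u}) (f : X ⟶ Spec (CommRingCat.of R)) [IsFinite f]
    (F : EtCoh.Ab X) (j : ℕ) (hj : 1 ≤ j) : Subsingleton (EtCoh.H X F j) := by
  let Y := Spec (CommRingCat.of R)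
  haveI := Groth.Agent.EtIntegral.push_preservesEpimorphisms f
  haveI : (EtCoh.push f).IsRightAdjoint := (EtCoh.pullPushAdj f).isRightAdjoint
  haveI : (EtCoh.push f).PreservesHomology := Functor.preservesHomology_of_preservesEpis_and_kernels _
  haveI : Limits.PreservesFiniteColimits (EtCoh.push f) := (EtCoh.push f).preservesFiniteColimits_of_preservesHomology
  haveI := Groth.Agent.EtPullExact.bc_preservesFiniteLimits f
  obtain ⟨e⟩ := BigSiteLib.nonempty_H_equiv (J := Y.smallEtaleTopology) (K := X.smallEtaleTopology) (EtCoh.bc f)
    (EtHens.isTerminalTop Y) (Limits.IsTerminal.isTerminalObj (EtCoh.bc f) _ (EtHens.isTerminalTop Y))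
    (fun I hI => haveI := hI; Groth.Agent.EtPullExact.push_injective f I) F j
  haveI := Groth.Agent.S0073.result R ((EtCoh.push f).obj F) j hj
  exact e.toEquiv.symm.subsingleton

end Groth.Agent.S19222
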