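import Groth.Statements.S19223
import Mathlib
import Groth.Agent.S7725

set_option autoImplicit false
attribute [local instance] Units.mulDistribMulActionRight
open GalCoh
open CategoryTheory

namespace Groth.Agent.S19223

universe w v u

theorem exact_of_forget {k : Type u} {H : Type v} [CommRing k] [Group H] (S : ShortComplex (Rep.{w} k H))
    (h : ∀ x : S.X₂, S.g.hom x = 0 → ∃ y : S.X₁, S.f.hom y = x) : S.Exact := by
  refine (ShortComplex.exact_map_iff_of_faithful S (forget₂ (Rep.{w} k H) (ModuleCat.{w} k))).1 ?_
  rw [ShortComplex.moduleCat_exact_iff]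
  exact h

/-- For a strictly henselian local ring R whose residue field k has characteristic p ≥ 0, and a finite
group G of order prime to p acting on R by ring automorphisms (hence on the unit groups R^× and
k^×), consider the homomorphism H^n(G, R^×) → H^n(G, k^×) induced by the reduction map. It is
bijective for every n ≥ 2; it is also bijective for n = 1 provided that p = 0 or the only p-power
root of unity in R is 1. (The reduction map on cohomology is pinned by its values on units; groups,
rings and modules are taken in the lowest universe, as integral coefficients in the group-cohomology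
library require.) -/
theorem result (R : Type) [CommRing R]
    [HenselianLocalRing R] [IsSepClosed (IsLocalRing.ResidueField R)] (p : ℕ) [CharP (IsLocalRing.ResidueField R) p]
    (G : Type) [Group G] [Finite G] [MulSemiringAction G R] (hp : ¬ p ∣ Nat.card G)
    (φ : Rep.ofMulDistribMulAction G Rˣ ⟶ Rep.ofMulDistribMulAction G (IsLocalRing.ResidueField R)ˣ)
    (hφ : ∀ x : Rˣ, Additive.toMul (φ.hom (Additive.ofMul x)) = Units.map (IsLocalRing.residue R).toMonoidHom x)
    (n : ℕ) (hn : 1 ≤ n) (h1 : n = 1 → p ≠ 0 → ∀ (ζ : Rˣ) (m : ℕ), ζ ^ p ^ m = 1 → ζ = 1) :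
    Function.Bijective ((groupCohomology.functor ℤ G n).map φ).hom := by
  set k := IsLocalRing.ResidueField R
  set N := Nat.card G with hN
  have hNk : (N : k) ≠ 0 := fun e => hp ((CharP.cast_eq_zero_iff k p N).1 e)
  let X₂ := Rep.ofMulDistribMulAction G Rˣ
  let W : Submodule ℤ X₂ := LinearMap.ker φ.hom.toLinearMap
  have hW : ∀ g, W ≤ W.comap (X₂.ρ g) := fun g x hx => by
    show φ.hom (X₂.ρ g x) = 0
    rw [Rep.hom_comm_apply, show φ.hom x = 0 from hx, map_zero]
  have hker : ∀ x : X₂, x ∈ W ↔ ((Additive.toMul x : Rˣ) : R) - 1 ∈ IsLocalRing.maximalIdeal R := fun x => by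
    obtain ⟨u, rfl⟩ := (Additive.ofMul (α := Rˣ)).surjective x
    show φ.hom (Additive.ofMul u) = 0 ↔ _
    refine ((Additive.toMul (α := kˣ)).injective.eq_iff.symm).trans ?_
    erw [hφ u]
    show Units.map (IsLocalRing.residue R).toMonoidHom u = 1 ↔ _
    rw [Units.ext_iff,
      ← IsLocalRing.residue_eq_zero_iff, map_sub, map_one, sub_eq_zero]
    rfl
  let S : ShortComplex (Rep ℤ G) := ShortComplex.mk (Rep.subtype X₂ W hW) φ (by
    refine Rep.hom_ext ?_
    ext x
    exact x.2)
  have hS : S.ShortExact := by
    refine { exact := ?_, mono_f := ?_, epi_g := ?_ }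
    · exact exact_of_forget S fun x hx => ⟨⟨x, hx⟩, rfl⟩
    · exact (Rep.mono_iff_injective _).2 Subtype.val_injective
    · refine (Rep.epi_iff_surjective _).2 fun y => ?_
      obtain ⟨v, rfl⟩ := (Additive.ofMul (α := kˣ)).surjective y
      obtain ⟨a, ha⟩ := IsLocalRing.residue_surjective (v : k)
      have hua : IsUnit a := by
        by_contra h
        exact v.ne_zero (ha.symm.trans ((IsLocalRing.residue_eq_zero_iff a).2 h))
      refine ⟨Additive.ofMul hua.unit, (Additive.toMul (α := kˣ)).injective (Units.ext ?_)⟩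
      exact (congrArg Units.val (hφ hua.unit)).trans ha
  have hgeom : ∀ a : R, a - 1 ∈ IsLocalRing.maximalIdeal R →
      IsUnit (∑ i ∈ Finset.range N, a ^ i) := fun a ha => by
    refine IsLocalRing.notMem_maximalIdeal.1 fun h => hNk ?_
    rw [← IsLocalRing.residue_eq_zero_iff, map_sum] at h
    rw [← IsLocalRing.residue_eq_zero_iff, map_sub, map_one, sub_eq_zero] at ha
    simpa [map_pow, ha] using h
  have hdiv : Function.Bijective fun a : Rep.subrepresentation X₂ W hW => N • a := by
    have hval : ∀ a : Rep.subrepresentation X₂ W hW,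
        (Additive.toMul (α := Rˣ) ((N • a : Rep.subrepresentation X₂ W hW) : W).1 : Rˣ) = (Additive.toMul (α := Rˣ) a.1) ^ N :=
      fun a => rfl
    constructor
    · intro a b hab
      have h : (Additive.toMul (α := Rˣ) a.1 : Rˣ) ^ N = (Additive.toMul (α := Rˣ) b.1) ^ N := by
        rw [← hval, ← hval]; exact congrArg (fun z : Rep.subrepresentation X₂ W hW => Additive.toMul (α := Rˣ) z.1) hab
      have hd : (Additive.toMul (α := Rˣ) (a - b : Rep.subrepresentation X₂ W hW).1 : Rˣ) ^ N = 1 := by
        show ((Additive.toMul (α := Rˣ) a.1 : Rˣ) / Additive.toMul (α := Rˣ) b.1) ^ N = 1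
        rw [div_pow, h, div_self']
      set c := (Additive.toMul (α := Rˣ) (a - b : Rep.subrepresentation X₂ W hW).1 : Rˣ) with hc
      have hc1 : (c : R) - 1 ∈ IsLocalRing.maximalIdeal R := (hker _).1 (a - b : Rep.subrepresentation X₂ W hW).2
      have h0 : (∑ i ∈ Finset.range N, (c : R) ^ i) * ((c : R) - 1) = 0 := by
        rw [geom_sum_mul, ← Units.val_pow_eq_pow_val, hd, Units.val_one, sub_self]
      have hc' : c = 1 := Units.ext (sub_eq_zero.1 ((hgeom _ hc1).mul_right_eq_zero.1 h0))
      refine sub_eq_zero.1 (Subtype.ext ?_)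
      exact (Additive.toMul (α := Rˣ)).injective hc'
    · intro a
      set c := (Additive.toMul (α := Rˣ) a.1 : Rˣ)
      have hc1 : (c : R) - 1 ∈ IsLocalRing.maximalIdeal R := (hker _).1 a.2
      have hN0 : N ≠ 0 := fun e => hNk (by rw [e, Nat.cast_zero])
      obtain ⟨b, hb, hb1⟩ := HenselianLocalRing.is_henselian (Polynomial.X ^ N - Polynomial.C (c : R))
        (Polynomial.monic_X_pow_sub_C _ hN0) 1 (by
          rw [Polynomial.eval_sub, Polynomial.eval_pow, Polynomial.eval_X, Polynomial.eval_C, one_pow,
            ← neg_sub]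
          exact neg_mem hc1) (by
          rw [Polynomial.derivative_sub, Polynomial.derivative_C, sub_zero, Polynomial.derivative_X_pow,
            Polynomial.eval_mul, Polynomial.eval_C, Polynomial.eval_pow, Polynomial.eval_X, one_pow, mul_one]
          refine IsLocalRing.notMem_maximalIdeal.1 fun h => hNk ?_
          rw [← IsLocalRing.residue_eq_zero_iff, map_natCast] at h
          exact h)
      rw [Polynomial.IsRoot, Polynomial.eval_sub, Polynomial.eval_pow, Polynomial.eval_X,
        Polynomial.eval_C, sub_eq_zero] at hb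
      have hbu : IsUnit b := (isUnit_pow_iff hN0).1 (hb ▸ c.isUnit)
      refine ⟨⟨Additive.ofMul hbu.unit, (hker _).2 hb1⟩, Subtype.ext ?_⟩
      exact (Additive.toMul (α := Rˣ)).injective (Units.ext ((Units.val_pow_eq_pow_val _ _).trans hb))
  have hz : ∀ i, 0 < i → Limits.IsZero (groupCohomology S.X₁ i) := fun i hi =>
    haveI := Groth.Agent.S7725.result ℤ G S.X₁ hdiv i hi
    ModuleCat.isZero_of_subsingleton _
  refine ⟨?_, ?_⟩
  · haveI : Mono ((groupCohomology.functor ℤ G n).map φ) :=
      ShortComplex.Exact.mono_g (groupCohomology.mapShortComplex₂_exact hS n) ((hz n (by omega)).eq_of_src _ _)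
    exact (ModuleCat.mono_iff_injective ((groupCohomology.functor ℤ G n).map φ)).1 inferInstance
  · haveI : Epi ((groupCohomology.functor ℤ G n).map φ) :=
      ShortComplex.Exact.epi_f (groupCohomology.mapShortComplex₃_exact hS (i := n) (j := n + 1) rfl)
        ((hz (n + 1) (by omega)).eq_of_tgt _ _)
    exact (ModuleCat.epi_iff_surjective ((groupCohomology.functor ℤ G n).map φ)).1 inferInstance

end Groth.Agent.S19223
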