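import Groth.Statements.S19225
import Groth.Agent.EtBrCurve.Descent
import Groth.Agent.EtPBC.ClosedFibre
import Groth.Agent.EtPBC.ProperAll
import Groth.Agent.EtPBC.AllBC
import Groth.Agent.LAcyc.Line
import Groth.Agent.ExtFund.SmoothPn

set_option autoImplicit false
set_option backward.isDefEq.respectTransparency false
set_option backward.isDefEq.respectTransparency.types false
set_option linter.auxLemma false
set_option maxHeartbeats 1000000
universe u
open CategoryTheory AlgebraicGeometry
open Dix

namespace Groth.Agent.S19225

attribute [local instance 100000] EtCoh.H._proof_1 Groth.Agent.EtMV.hext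
attribute [local instance 200000] Groth.Agent.EtMV.hextAb

open IsLocalRing Groth.Agent.EtPBC CategoryTheory.Limits in
theorem eq_zero_of_prime_nsmul {R : Type u} [CommRing R] [HenselianLocalRing R] [IsSepClosed (IsLocalRing.ResidueField R)]
    {X : Scheme.{u}} (f : X ⟶ Spec (CommRingCat.of R)) [IsProper f] [SmoothOfRelativeDimension 1 f]
    (p : ℕ) [Fact p.Prime] (hp : (p : IsLocalRing.ResidueField R) ≠ 0) (x : EtCoh.H X (EtCoh.Gm X) 2)
    (hx : p • x = 0) : x = 0 := by
  let e := Spec.map (CommRingCat.ofHom (residue R))
  let i := pullback.fst f e
  let c := pullback.snd f e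
  have sq : IsPullback i c f e := IsPullback.of_hasPullback f e
  haveI : IsClosedImmersion i := MorphismProperty.of_isPullback (P := @IsClosedImmersion) sq.flip
    (IsClosedImmersion.spec_of_surjective _ residue_surjective)
  haveI : SmoothOfRelativeDimension 1 c :=
    @MorphismProperty.of_isPullback _ _ (@SmoothOfRelativeDimension 1) (smoothOfRelativeDimension_isStableUnderBaseChange 1) _ _ _ _ _ _ _ _ sq ‹_›
  haveI : IsProper c := MorphismProperty.of_isPullback (P := @IsProper) sq ‹_›
  haveI : IsLocallyNoetherian (pullback f e) := LocallyOfFiniteType.isLocallyNoetherian c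
  haveI : CompactSpace ↥(pullback f e) := QuasiCompact.compactSpace_of_compactSpace c
  haveI : IsNoetherian (pullback f e) := ⟨⟩
  haveI := Groth.Agent.EtPullExact.pull_preservesFiniteLimits i
  have hdim : topologicalKrullDim ↥(pullback f e) ≤ 1 := ExtFund.topologicalKrullDim_le_of_smooth c 1
  have hsep := isSepClosed_of_isClosed c
  have hk : ∀ z : ↥(pullback f e), IsMaxPt z → KilledVan p ((pullback f e).residueField z) := fun z _ => by
    have := killedVan_of_cohDimLEAt _ (cohDimLEAt_residueField c hdim z p) 1
    rwa [pow_one] at this
  have hinv : Dix.InvertibleOn (pullback f e) p := fun z => by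
    let ψ : ResidueField R →+* (pullback f e).residueField z :=
      ((Scheme.ΓSpecIso (CommRingCat.of (ResidueField R))).inv ≫ c.appTop ≫
        (pullback f e).evaluation ⊤ z trivial).hom
    have := ψ.injective.ne hp
    rwa [map_natCast, map_zero] at this
  let φ : R →+* Γ(X, ⊤) := ((Scheme.ΓSpecIso (CommRingCat.of R)).inv ≫ f.appTop).hom
  have hu : IsUnit ((p : ℕ) : Γ(X, ⊤)) := by
    have := ((residue_ne_zero_iff_isUnit _).1 (by rwa [map_natCast]) : IsUnit ((p : ℕ) : R)).map φ
    rwa [map_natCast] at this
  obtain ⟨z, hz⟩ := exists_cyclotomic_root p (Fact.out : p.Prime).one_lt.le hp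
  have hζ : Polynomial.aeval (φ z) (Polynomial.cyclotomic p ℤ) = 0 := by
    rw [show φ z = φ.toIntAlgHom z from rfl, Polynomial.aeval_algHom_apply, hz, map_zero]
  have hi : Set.range i = f ⁻¹' {closedPoint R} := by
    rw [← range_specMap_residue R, ← Scheme.Pullback.range_fst]
  have hbc := pb_proper f R (𝟙 _) (𝟙 X) f IsPullback.of_id_fst i c sq 2 (EtCoh.const X (ZMod p))
    (isLTorsion_univ_of_isTorsion (LAcyc.isTorsion_const X (Fact.out : p.Prime).pos))
  exact eq_zero_of_nsmul_H2_Gm i p (Fact.out : p.Prime).one_lt.le hu (φ z) hζ (gmH_surjective f i hi hdim)
    (fun y hy => nsmul_torsion_H2_Gm hdim hsep hk hinv y hy) (hbc.1 2 le_rfl).1 x hx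

/-- Let R be a noetherian strictly henselian local ring with residue field k, and let X → Spec R be a
proper smooth morphism of relative dimension 1 with geometrically connected fibres (a smooth proper
curve over R). Then H²(X_et, G_m) has no non-zero torsion of order invertible in R: if n is a
natural number whose image in k is non-zero and x ∈ H²(X_et, G_m) satisfies n·x = 0, then x = 0.
(The published statement asserts that H²(X_et, G_m) is torsion-free, i.e. that the cohomological
Brauer group of X is zero. Its argument compares, by proper base change, the cohomology of the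
two-term complex G_m → G_m given by the n-th power map on X with that on the closed fibre X_k; this
comparison is valid when n is invertible in R, but not in general when the residue characteristic
divides n: for an elliptic curve over the ring of Witt vectors of an algebraic closure of the field
with three elements and n = 3, the degree-2 cohomology of that complex is infinite on X and finite
on X_k. So this row states the part of the assertion that the argument establishes, the vanishing of
the torsion of order prime to the residue characteristic. The source works with a projective curve;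
the argument uses properness, the fibre dimension and the surjectivity of Pic X → Pic X_k, so proper
is assumed here.) -/
theorem result (R : Type u) [CommRing R] [IsNoetherianRing R]
    [HenselianLocalRing R] [IsSepClosed (IsLocalRing.ResidueField R)] (X : Scheme.{u})
    (f : X ⟶ Spec (CommRingCat.of R)) [IsProper f] [SmoothOfRelativeDimension 1 f] [GeometricallyConnected f]
    (n : ℕ) (hn : (n : IsLocalRing.ResidueField R) ≠ 0) (x : Dix.BrCoh X) (hx : n • x = 0) : x = 0 := by
  induction n using induction_on_primes generalizing x with
  | zero => exact absurd Nat.cast_zero hn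
  | one => rwa [one_smul] at hx
  | prime_mul p m hp ih =>
    haveI := Fact.mk hp
    rw [Nat.cast_mul, mul_ne_zero_iff] at hn
    refine ih hn.2 x (eq_zero_of_prime_nsmul f p hn.1 (m • x) ?_)
    rw [← mul_smul]; exact hx

end Groth.Agent.S19225
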