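import Groth.Statements.S1923
import Groth.Agent.RefDiv.Inv

set_option autoImplicit false
universe u
open CategoryTheory AlgebraicGeometry
open Cyc

namespace Groth.Agent.S1923

open Groth.Agent.RefDiv

theorem coheight_genericPoint' {X : Scheme.{u}} [IsIntegral X] : Order.coheight (genericPoint X) = 0 :=
  Order.coheight_eq_zero.2 fun y _ => RefStalk.toGen y

/-- Let X be integral with δ(η) = n, L an invertible O_X-module and s a global section of L whose germ
at η is nonzero. Then div_L(s) = [Z(s)]_{n−1} as (n − 1)-cycles, where s is viewed as a rational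
section through its image in L(η). Here L(ξ) = L_ξ/𝔪_ξ L_ξ is the space of rational sections of L on
the closure of ξ, div_{L|W}(s) and c_1(L) ∩ α are computed as coefficient functions from chosen
nonzero rational sections (Cyc.secDivFun, Cyc.c1CapFun), and results are compared up to rational
equivalence for any cycles with those coefficients. A pair (X, δ) with Cyc.IsSetup plays the role of
a scheme locally of finite type over a fixed base with a dimension function (X locally Noetherian
with universally catenary local rings, δ a dimension function), and Cyc.DeltaCompat records that the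
dimension function upstairs is the induced one. -/
theorem result (X : Scheme.{u}) [IsIntegral X] (δ : X → ℤ) (hX : Cyc.IsSetup X δ) (n : ℤ) (hn : δ (genericPoint X) = n) (L : X.Modules) (hL : PicF.IsInvertible L) (s : L.presheaf.obj (Opposite.op ⊤)) (hs : (L.presheaf.germ ⊤ (genericPoint X) trivial) s ≠ 0) : Cyc.secDivFun δ L (genericPoint X) (Submodule.Quotient.mk ((L.presheaf.germ ⊤ (genericPoint X) trivial) s)) = Cyc.zeroSectionFun δ (n - 1) L s := by

  classical
  haveI : IsLocallyNoetherian X := hX.1
  have lL := lat_of_isInvertible hL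
  funext x
  have hη : genericPoint X ⤳ x := RefStalk.toGen x
  unfold Cyc.secDivFun Cyc.zeroSectionFun
  by_cases hx : δ x = n - 1
  swap
  · rw [dif_neg (fun h => hx (by rw [hn] at h; omega)), if_neg hx]
  rw [dif_pos ⟨hη, by rw [hn]; omega⟩, if_pos hx]
  have hxη : x ≠ genericPoint X := fun e => by rw [e, hn] at hx; omega
  have h1 : Order.coheight x = 1 := by
    refine le_antisymm (Order.coheight_le_coe_iff.2 fun z hz => ?_) ?_
    · have hz' : z = genericPoint X := by
        by_contra hne
        have hzx : z ⤳ x := hz.le
        have h2 := (hX.2.2 (genericPoint X) z (RefStalk.toGen z) (Ne.symm hne)).1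
        have h3 := (hX.2.2 z x hzx fun e => hz.ne e.symm).1
        omega
      rw [hz', coheight_genericPoint']
      exact zero_lt_one
    · have hlt : x < genericPoint X :=
        lt_iff_le_not_ge.2 ⟨hη, fun h' => hxη ((show x ⤳ genericPoint X from h').antisymm hη).eq⟩
      have h2 := Order.coheight_add_one_le hlt
      rw [coheight_genericPoint', zero_add] at h2
      exact h2
  obtain ⟨m, hm⟩ := exists_gen_of_isInvertible hL x
  have ht : ∃ t : L.presheaf.stalk x, Submodule.span (X.presheaf.stalk x) {t} = ⊤ :=
    ⟨m, span_eq_top_of_surjective hm.2⟩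
  have hf : ∃ f : X.presheaf.stalk x, (L.presheaf.germ ⊤ x trivial) s = f • Classical.choose ht := by
    obtain ⟨f, hf⟩ := exists_smul_of_span (Classical.choose_spec ht) ((L.presheaf.germ ⊤ x trivial) s)
    exact ⟨f, hf.symm⟩
  rw [dif_pos ht, dif_pos hf]
  have heq : sp x (Classical.choose hf) • RefStalk.msp L (RefStalk.toGen x) (Classical.choose ht) =
      (L.presheaf.germ ⊤ (genericPoint X) trivial) s :=
    (RefStalk.msp_smul L _ _ _).symm.trans
      ((congrArg _ (Classical.choose_spec hf).symm).trans (RefStalk.msp_germ L _ _ s))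
  have hf0 : Classical.choose hf ≠ 0 := fun e => hs (by rw [← heq, e, map_zero]; exact zero_smul _ _)
  rw [lL.secOrdAt_mk h1 (Classical.choose_spec ht) (sp_ne_zero hf0) heq]
  haveI : Ring.KrullDimLE 1 (X.presheaf.stalk x) := krullDimLE_of_coheight_le h1.le
  refine (Scheme.ord_eq_iff h1 (sp_ne_zero hf0)).2 ?_
  refine (Ring.ordFrac_eq_ord (X.presheaf.stalk x) (K := X.functionField) hf0).trans ?_
  rw [Ring.ordMonoidWithZeroHom_eq_ord (mem_nonZeroDivisors_of_ne_zero hf0)]
  have hlt : Ring.ord (X.presheaf.stalk x) (Classical.choose hf) < ⊤ :=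
    Ring.ord_lt_top (mem_nonZeroDivisors_of_ne_zero hf0)
  obtain ⟨k, hk⟩ := ENat.ne_top_iff_exists.1 hlt.ne
  change _ = ((Multiplicative.ofAdd (((Ring.ord (X.presheaf.stalk x) (Classical.choose hf)).toNat : ℕ) : ℤ) : Multiplicative ℤ) : WithZero (Multiplicative ℤ))
  rw [← hk]
  rfl

end Groth.Agent.S1923
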