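import Groth.Statements.S1924
import Groth.Agent.C1Cap.ZeroSection

set_option autoImplicit false
universe u
open CategoryTheory AlgebraicGeometry
open Cyc

set_option backward.isDefEq.respectTransparency false
namespace Groth.Agent.S1924

/-- Let L be invertible on X, ι : Y → X a closed immersion with δ ≤ k + 1 on Y, and s a global section
of L|_Y = ι^*L such that the points of its zero locus have δ ≤ k and, at every such point ξ with
δ(ξ) = k, multiplication by the germ of s is injective on O_{Y,ξ}. Then c_1(L) ∩ [Y]_{k+1} ∼_rat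
ι_*[Z(s)]_k as k-cycles on X (for any nonzero rational sections used to compute the left side and
any cycle on Y with the coefficients of [Z(s)]_k). Here L(ξ) = L_ξ/𝔪_ξ L_ξ is the space of rational
sections of L on the closure of ξ, div_{L|W}(s) and c_1(L) ∩ α are computed as coefficient functions
from chosen nonzero rational sections (Cyc.secDivFun, Cyc.c1CapFun), and results are compared up to
rational equivalence for any cycles with those coefficients. A pair (X, δ) with Cyc.IsSetup plays
the role of a scheme locally of finite type over a fixed base with a dimension function (X locally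
Noetherian with universally catenary local rings, δ a dimension function), and Cyc.DeltaCompat
records that the dimension function upstairs is the induced one. -/
theorem result (X Y : Scheme.{u}) (δ : X → ℤ) (hX : Cyc.IsSetup X δ) (L : X.Modules) (hL : PicF.IsInvertible L) (ι : Y ⟶ X) [IsClosedImmersion ι] (k : ℤ) (hY : ∀ y : Y, δ (ι y) ≤ k + 1) (s : ((Scheme.Modules.pullback ι).obj L).presheaf.obj (Opposite.op ⊤)) (hZ : ∀ y : Y, (((Scheme.Modules.pullback ι).obj L).presheaf.germ ⊤ y trivial) s ∈ IsLocalRing.maximalIdeal (Y.presheaf.stalk y) • (⊤ : Submodule (Y.presheaf.stalk y) (((Scheme.Modules.pullback ι).obj L).presheaf.stalk y)) → δ (ι y) ≤ k) (hreg : ∀ y : Y, δ (ι y) = k → Function.Injective (fun a : Y.presheaf.stalk y => a • (((Scheme.Modules.pullback ι).obj L).presheaf.germ ⊤ y trivial) s)) (v : (ξ : X) → Cyc.secFibre L ξ) (hv : ∀ ξ, v ξ ≠ 0) (γ : AlgebraicCycle X ℤ) (hγ : ⇑γ = Cyc.c1CapFun δ L (Cyc.subschemeFun δ (k + 1) ι) v) (ζ : AlgebraicCycle Y ℤ) (hζ : ⇑ζ = Cyc.zeroSectionFun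 (fun y => δ (ι y)) k ((Scheme.Modules.pullback ι).obj L) s) : Cyc.RatEquiv δ k γ (AlgebraicCycle.map ι (fun y => δ (ι y)) δ ζ) := by
  classical
  haveI := hX.1
  haveI : IsLocallyNoetherian Y := LocallyOfFiniteType.isLocallyNoetherian ι
  have H : ∀ ξ : X, ∃ a : Cyc.secFibre L ξ, a ≠ 0 ∧ ∀ η (h : ι η = ξ), δ (ι η) = k + 1 →
      ∃ m : L.presheaf.stalk (ι η), HEq a (Submodule.Quotient.mk m : Cyc.secFibre L (ι η)) ∧
        Groth.Agent.KFlat.kap ι η L m = (((Scheme.Modules.pullback ι).obj L).presheaf.germ ⊤ η trivial) s := by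
    intro ξ
    by_cases hη : ∃ η, ι η = ξ ∧ δ (ι η) = k + 1
    · obtain ⟨η, rfl, hηk⟩ := hη
      obtain ⟨A, e, hx, he⟩ := TMul.exists_isGen hL (ι η)
      obtain ⟨c, hc⟩ := C1Cap.exists_kap_eq ι he hx ((((Scheme.Modules.pullback ι).obj L).presheaf.germ ⊤ η trivial) s)
      refine ⟨Submodule.Quotient.mk (c • Groth.Agent.WeakAssLib.mgerm L hx e), fun h0 => ?_, fun η' h hk' => ?_⟩
      · have hc' : c ∈ IsLocalRing.maximalIdeal (X.presheaf.stalk (ι η)) := by
          by_contra hu
          rw [IsLocalRing.notMem_maximalIdeal] at hu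
          exact C1Cap.mk_gen_ne_zero he hx hu h0
        have := hZ η (by
          rw [← hc, Groth.Agent.KFlat.kap_smul]
          exact Submodule.smul_mem_smul ((IsLocalRing.mem_maximalIdeal _).2 fun hu =>
            hc' ((isUnit_map_iff (ι.stalkMap η).hom c).1 hu)) Submodule.mem_top)
        omega
      · obtain rfl := ι.isClosedEmbedding.injective h
        exact ⟨_, HEq.rfl, hc⟩
    · exact ⟨v ξ, hv ξ, fun η h hk' => absurd ⟨η, h, hk'⟩ hη⟩
  choose v' hv'0 hv' using H
  have hv1 : ∀ η : Y, δ (ι η) = k + 1 → v' (ι η) ≠ 0 ∧ ∃ m : L.presheaf.stalk (ι η),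
      v' (ι η) = Submodule.Quotient.mk m ∧
        Groth.Agent.KFlat.kap ι η L m = (((Scheme.Modules.pullback ι).obj L).presheaf.germ ⊤ η trivial) s := by
    intro η hη
    obtain ⟨m, hm, hkm⟩ := hv' (ι η) η rfl hη
    exact ⟨hv'0 _, m, eq_of_heq hm, hkm⟩
  obtain ⟨hin, hout⟩ := C1Cap.cap_subscheme_eq hX.2.2 hX hL ι k hY s hreg v' hv1
  have hcoh : Coh.IsCoh ((Coh.push ι).obj (Coh.structureModule Y)) := by
    haveI := (Groth.Agent.RefStalk.isCoh_structureModule (X := Y)).1
    exact Groth.Agent.QC.isCoh_pushforward_of_isFinite ι (Groth.Agent.RefStalk.isCoh_structureModule (X := Y)).2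
  haveI := hcoh.1
  obtain ⟨α, hα, hαk⟩ := CycDim.exists_sheafCycle hX.2.2 (k + 1) ((Coh.push ι).obj (Coh.structureModule Y)) hcoh.2
    fun p hp => by
      by_contra hlt
      refine not_subsingleton_iff_nontrivial.2 hp (Groth.Agent.KFlat.subsingleton_stalk_push ι (Coh.structureModule Y) ?_)
      rintro ⟨z, rfl⟩
      exact hlt (hY z)
  rw [← S1899.result X Y δ hX ι (k + 1) hY] at hα
  refine C1Cap.ratEquiv_cap δ hL k α hαk v v' (fun ξ _ => hv ξ) (fun ξ _ => hv'0 ξ) _ _ (by rw [hα, hγ]) ?_
  rw [hα]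
  funext x
  by_cases hx : x ∈ Set.range ι.base
  · obtain ⟨y, rfl⟩ := hx
    refine (S1918.map_closed ι δ ζ y).trans ?_
    rw [hζ]
    exact (hin y).symm
  · exact (S1918.map_closed_of_notMem ι δ ζ hx).trans (hout x hx).symm

end Groth.Agent.S1924
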