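import Groth.Statements.S19240
import Groth.Agent.InsepFactor19240.Glue

set_option linter.style.haveILetI false
set_option backward.isDefEq.respectTransparency false

set_option autoImplicit false
universe u
open FrobSch

namespace Groth.Agent.S19240

open AlgebraicGeometry CategoryTheory CategoryTheory.Limits

theorem iterate_eq {Z : Scheme.{u}} (p : ℕ) [Fact p.Prime] [FrobSch.IsCharP Z p] (n : ℕ) :
    (fun g : Z ⟶ Z => g ≫ FrobSch.frob Z p)^[n] (𝟙 Z) = WeilLib.frobPow p Z n := by
  induction n with
  | zero => rfl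
  | succ n ih => rw [Function.iterate_succ_apply', ih]; rfl

theorem frobPow_univHomeo {Z : Scheme.{u}} (p : ℕ) [Fact p.Prime] [FrobSch.IsCharP Z p] (n : ℕ) :
    FlatMor.IsUnivHomeo (WeilLib.frobPow p Z n) := by
  induction n with
  | zero => exact WeakNorm.isUnivHomeo_of_isIso (𝟙 Z)
  | succ n ih => exact WeakNorm.isUnivHomeo_comp ih (FrobRadicial.isUnivHomeo _)

theorem isSeparated_over {Z : Scheme.{u}} {k : Type u} [Field k] (f : Z ⟶ Spec (CommRingCat.of k))
    [IsSeparated f] : Z.IsSeparated := ⟨by rw [← terminal.comp_from f]; infer_instance⟩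

theorem univHomeo_cancel {A B C : Scheme.{u}} (f : A ⟶ B) (g : B ⟶ C) (hfg : FlatMor.IsUnivHomeo (f ≫ g))
    (hf : FlatMor.IsUnivHomeo f) : FlatMor.IsUnivHomeo g := by
  intro B' C' i₁ i₂ g' h
  have h' : IsPullback i₁ g' g i₂ := h.flip
  have hp : IsPullback (pullback.fst f i₁) (pullback.snd f i₁) f i₁ := IsPullback.of_hasPullback _ _
  have h1 : IsHomeomorph (pullback.snd f i₁) := hf _ _ _ hp.flip
  have h2 : IsHomeomorph (pullback.snd f i₁ ≫ g') := hfg _ _ _ (hp.paste_vert h').flip
  show IsHomeomorph g'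
  refine isHomeomorph_iff_continuous_isClosedMap_bijective.mpr ⟨g'.continuous, fun S hS => ?_, ?_, ?_⟩
  · have := h2.isClosedMap _ (hS.preimage (pullback.snd f i₁).continuous)
    rwa [Scheme.Hom.comp_base, TopCat.coe_comp, Set.image_comp, Set.image_preimage_eq _ h1.surjective] at this
  · intro a b hab
    obtain ⟨a', rfl⟩ := h1.surjective a
    obtain ⟨b', rfl⟩ := h1.surjective b
    have : a' = b' := h2.injective (by rw [Scheme.Hom.comp_apply, Scheme.Hom.comp_apply]; exact hab)
    rw [this]
  · intro c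
    obtain ⟨a, ha⟩ := h2.surjective c
    exact ⟨_, (Scheme.Hom.comp_apply _ _ _).symm.trans ha⟩

open CategoryTheory CategoryTheory.Limits AlgebraicGeometry in
/-- Let k be a perfect field of characteristic p > 0 and let u : X ⟶ Y be a k-morphism between integral
k-schemes (separated, of finite type and quasi-projective over k) which is a universal
homeomorphism, and assume Y is normal. Then the degree of the function field of X over that of Y is
p ^ n for some natural number n, and for this n there is a universal homeomorphism v : Y ⟶ X^{(n)},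
where X^{(n)} is the base change of X along the n-th power of the Frobenius of Spec k, such that v
is a k-morphism, u followed by v is the n-th relative Frobenius of X over k (its composite with the
projection X^{(n)} ⟶ X is the n-th power of the absolute Frobenius of X) and v followed by the base
change of u is the n-th relative Frobenius of Y over k (the composite of v with the projection to X
and with u is the n-th power of the absolute Frobenius of Y). -/
theorem result
    (p : ℕ) [Fact p.Prime] (k : Type u) [Field k] [CharP k p] [PerfectField k]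
    {X Y : Scheme.{u}} (fX : X ⟶ Spec (CommRingCat.of k)) (fY : Y ⟶ Spec (CommRingCat.of k))
    [IsIntegral X] [IsIntegral Y] [FrobSch.IsCharP X p] [FrobSch.IsCharP Y p]
    [IsSeparated fX] [IsSeparated fY] [LocallyOfFiniteType fX] [LocallyOfFiniteType fY]
    (hqX : ∃ (N : ℕ) (i : X ⟶ CohB1.ProjSpace N k), IsImmersion i ∧ i ≫ CohB1.ProjSpace.toSpec N k = fX)
    (hqY : ∃ (N : ℕ) (i : Y ⟶ CohB1.ProjSpace N k), IsImmersion i ∧ i ≫ CohB1.ProjSpace.toSpec N k = fY)
    (hY : Pi1.IsNormalScheme Y)
    (u : X ⟶ Y) (hu : u ≫ fY = fX) (huniv : FlatMor.IsUnivHomeo u)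
    (e : u (genericPoint X) = genericPoint Y) :
    ∃ n : ℕ,
      @Module.finrank Y.functionField X.functionField _ _
          (Y.presheaf.stalkSpecializes (specializes_of_eq e) ≫ u.stalkMap (genericPoint X)).hom.toAlgebra.toModule = p ^ n ∧
      ∃ v : Y ⟶ pullback fX ((fun g : Spec (CommRingCat.of k) ⟶ Spec (CommRingCat.of k) => g ≫ FrobSch.frob (Spec (CommRingCat.of k)) p)^[n] (𝟙 (Spec (CommRingCat.of k)))),
        FlatMor.IsUnivHomeo v ∧
        v ≫ pullback.snd fX ((fun g : Spec (CommRingCat.of k) ⟶ Spec (CommRingCat.of k) => g ≫ FrobSch.frob (Spec (CommRingCat.of k)) p)^[n] (𝟙 (Spec (CommRingCat.of k)))) = fY ∧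
        u ≫ v ≫ pullback.fst fX ((fun g : Spec (CommRingCat.of k) ⟶ Spec (CommRingCat.of k) => g ≫ FrobSch.frob (Spec (CommRingCat.of k)) p)^[n] (𝟙 (Spec (CommRingCat.of k)))) =
          (fun g : X ⟶ X => g ≫ FrobSch.frob X p)^[n] (𝟙 X) ∧
        v ≫ pullback.fst fX ((fun g : Spec (CommRingCat.of k) ⟶ Spec (CommRingCat.of k) => g ≫ FrobSch.frob (Spec (CommRingCat.of k)) p)^[n] (𝟙 (Spec (CommRingCat.of k)))) ≫ u =
          (fun g : Y ⟶ Y => g ≫ FrobSch.frob Y p)^[n] (𝟙 Y) := by
  haveI := isSeparated_over fX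
  haveI := isSeparated_over fY
  obtain ⟨h1, h2, h3⟩ := (WeakNorm.isUnivHomeo_iff u).1 huniv
  haveI : LocallyOfFiniteType (u ≫ fY) := by rw [hu]; infer_instance
  haveI : LocallyOfFiniteType u := locallyOfFiniteType_of_comp u fY
  haveI : IsFinite u := (IsFinite.iff_isIntegralHom_and_locallyOfFiniteType u).2 ⟨h1, inferInstance⟩
  have hp : (p : Y.functionField) = 0 := by
    have h := congrArg (Y.presheaf.germ ⊤ (genericPoint Y) trivial).hom (FrobSch.natCast_eq_zero_app Y p ⊤)
    rw [map_natCast, map_zero] at h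
    exact h
  obtain ⟨n, hdeg, hn⟩ := InsepFactor19240.exists_degree u e p hp
  obtain ⟨w, hw⟩ := InsepFactor19240.exists_factor u p e hY n hn
  refine ⟨n, hdeg, ?_⟩
  suffices key : ∀ F : Spec (CommRingCat.of k) ⟶ Spec (CommRingCat.of k),
      F = WeilLib.frobPow p (Spec (CommRingCat.of k)) n → ∃ v : Y ⟶ pullback fX F,
        FlatMor.IsUnivHomeo v ∧ v ≫ pullback.snd fX F = fY ∧
        u ≫ v ≫ pullback.fst fX F = WeilLib.frobPow p X n ∧
        v ≫ pullback.fst fX F ≫ u = WeilLib.frobPow p Y n by
    rw [iterate_eq p n (Z := X), iterate_eq p n (Z := Y)]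
    exact key _ (iterate_eq p n)
  rintro _ rfl
  have hwu : w ≫ u = WeilLib.frobPow p Y n := InsepFactor19240.eq_of_comp u (by
    rw [← Category.assoc, hw, WeilLib.frobPow_comp])
  have hwf : w ≫ fX = fY ≫ WeilLib.frobPow p (Spec (CommRingCat.of k)) n := InsepFactor19240.eq_of_comp u (by
    rw [← Category.assoc, hw, WeilLib.frobPow_comp, ← Category.assoc, hu])
  haveI : PerfectRing k p := PerfectField.toPerfectRing p
  haveI : ExpChar k p := ExpChar.prime Fact.out
  haveI : IsIso (WeilLib.frobPow p (Spec (CommRingCat.of k)) n) := by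
    rw [WeilLib.frobPow_Spec]
    haveI : IsIso (CommRingCat.ofHom (iterateFrobenius k p n)) :=
      (ConcreteCategory.isIso_iff_bijective _).mpr (bijective_iterateFrobenius k p n)
    infer_instance
  have hwh : FlatMor.IsUnivHomeo w :=
    univHomeo_cancel u w (by rw [hw]; exact frobPow_univHomeo p n) huniv
  let v : Y ⟶ pullback fX (WeilLib.frobPow p (Spec (CommRingCat.of k)) n) := pullback.lift w fY hwf
  have hv : v = w ≫ inv (pullback.fst fX (WeilLib.frobPow p (Spec (CommRingCat.of k)) n)) := by
    rw [IsIso.eq_comp_inv, pullback.lift_fst]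
  refine ⟨v, ?_, pullback.lift_snd _ _ _, ?_, ?_⟩
  · rw [hv]; exact WeakNorm.isUnivHomeo_comp hwh (WeakNorm.isUnivHomeo_of_isIso _)
  · rw [pullback.lift_fst, hw]
  · rw [← Category.assoc, pullback.lift_fst, hwu]

end Groth.Agent.S19240
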