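import Groth.Statements.S19244
import Mathlib.CategoryTheory.Abelian.SerreClass.Localization
-- import your own Groth.Agent.* helpers here

set_option autoImplicit false
set_option linter.style.haveILetI false
set_option linter.unusedSimpArgs false
universe v v' u u'
open HomAlg3

namespace Groth.Agent.S19244

open CategoryTheory in
/-- Let A be an abelian category and let P be the class of bounded-torsion objects of A, those X with n
• 𝟙_X = 0 for some nonzero integer n; assume P is a Serre class. Let L : A ⥤ D be an additive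
functor to a preadditive category exhibiting D as the localization of A at the morphisms whose
kernel and cokernel are in P (so D is the quotient category A_ℚ = A ⧸ A_{b-tor}; the source assumes
A well-powered, which guarantees that this quotient exists). Then for all objects X, Y of A: (1) for
every nonzero integer n, multiplication by n is bijective on Hom_D(L X, L Y), so that this group is
naturally a ℚ-vector space; (2) a morphism f : X ⟶ Y satisfies L f = 0 if and only if n • f = 0 for
some nonzero integer n; (3) for every g : L X ⟶ L Y there are a nonzero integer n and f : X ⟶ Y with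
n • g = L f. Equivalently, the natural map Hom_A(X, Y) ⊗_ℤ ℚ → Hom_D(L X, L Y) is an isomorphism. -/
theorem result
    {A : Type u} [Category.{v} A] [Abelian A] {D : Type u'} [Category.{v'} D] [Preadditive D]
    (P : ObjectProperty A) (hP : ∀ X : A, P X ↔ ∃ n : ℤ, n ≠ 0 ∧ n • (𝟙 X) = 0) [P.IsSerreClass]
    (L : A ⥤ D) [L.Additive] [L.IsLocalization P.isoModSerre] (X Y : A) :
    (∀ n : ℤ, n ≠ 0 → Function.Bijective (fun g : L.obj X ⟶ L.obj Y => n • g)) ∧
    (∀ f : X ⟶ Y, L.map f = 0 ↔ ∃ n : ℤ, n ≠ 0 ∧ n • f = 0) ∧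
    (∀ g : L.obj X ⟶ L.obj Y, ∃ (n : ℤ) (f : X ⟶ Y), n ≠ 0 ∧ n • g = L.map f) := by
  have hW : ∀ (n : ℤ), n ≠ 0 → ∀ (Z : A), P.isoModSerre (n • 𝟙 Z) := by
    intro n hn Z
    refine ⟨(hP _).2 ⟨n, hn, ?_⟩, (hP _).2 ⟨n, hn, ?_⟩⟩
    · rw [← cancel_mono (Limits.kernel.ι (n • 𝟙 Z))]
      simpa [Preadditive.zsmul_comp, Preadditive.comp_zsmul] using Limits.kernel.condition (n • 𝟙 Z)
    · rw [← cancel_epi (Limits.cokernel.π (n • 𝟙 Z)), Preadditive.comp_zsmul, Category.comp_id,
        Limits.comp_zero, ← Category.id_comp (Limits.cokernel.π (n • 𝟙 Z)), ← Preadditive.zsmul_comp]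
      exact Limits.cokernel.condition (n • 𝟙 Z)
  refine ⟨fun n hn => ?_, fun f => ?_, fun g => ?_⟩
  · haveI : IsIso (L.map (n • 𝟙 Y)) := Localization.inverts L P.isoModSerre _ (hW n hn Y)
    have e : (fun g : L.obj X ⟶ L.obj Y => n • g) = fun g => g ≫ L.map (n • 𝟙 Y) := by
      funext g
      rw [L.map_zsmul, L.map_id, Preadditive.comp_zsmul, Category.comp_id]
    rw [e]
    exact ⟨fun g g' h => (cancel_mono (L.map (n • 𝟙 Y))).1 h,
      fun g => ⟨g ≫ inv (L.map (n • 𝟙 Y)), by simp⟩⟩
  · rw [ObjectProperty.SerreClassLocalization.map_eq_zero_iff L P f, hP]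
    refine exists_congr fun n => and_congr_right fun _ => ?_
    constructor
    · intro h
      have h' := congrArg (fun t => Abelian.factorThruImage f ≫ t ≫ Abelian.image.ι f) h
      simpa [Preadditive.zsmul_comp, Preadditive.comp_zsmul] using h'
    · intro h
      rw [← cancel_epi (Abelian.factorThruImage f), ← cancel_mono (Abelian.image.ι f)]
      simpa [Preadditive.zsmul_comp, Preadditive.comp_zsmul] using h
  · obtain ⟨φ, hφ⟩ := Localization.exists_leftFraction L P.isoModSerre g
    obtain ⟨⟨a, ha, hK⟩, ⟨b, hb, hQ⟩⟩ :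
        (∃ n : ℤ, n ≠ 0 ∧ n • 𝟙 (Limits.kernel φ.s) = 0) ∧
          (∃ n : ℤ, n ≠ 0 ∧ n • 𝟙 (Limits.cokernel φ.s) = 0) :=
      ⟨(hP _).1 φ.hs.1, (hP _).1 φ.hs.2⟩
    have hka : Limits.kernel.ι φ.s ≫ (a • 𝟙 Y) = 0 := by
      rw [Preadditive.comp_zsmul, Category.comp_id, ← Category.id_comp (Limits.kernel.ι φ.s),
        ← Preadditive.zsmul_comp, hK, Limits.zero_comp]
    let m : Abelian.image φ.s ⟶ Y := inv (Abelian.coimageImageComparison φ.s) ≫
      Limits.cokernel.desc _ (a • 𝟙 Y) hka
    have hm : Abelian.factorThruImage φ.s ≫ m = a • 𝟙 Y := by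
      have e : Abelian.factorThruImage φ.s =
          Abelian.coimage.π φ.s ≫ Abelian.coimageImageComparison φ.s := by
        rw [← cancel_mono (Abelian.image.ι φ.s)]
        simp [Abelian.coimage_image_factorisation]
      simp [m, e]
    have hQb : (b • 𝟙 φ.Y') ≫ Limits.cokernel.π φ.s = 0 := by
      rw [Preadditive.zsmul_comp, Category.id_comp, ← Category.comp_id (Limits.cokernel.π φ.s),
        ← Preadditive.comp_zsmul, hQ, Limits.comp_zero]
    let r : φ.Y' ⟶ Abelian.image φ.s := Limits.kernel.lift _ (b • 𝟙 φ.Y') hQb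
    have hr : φ.s ≫ r = b • Abelian.factorThruImage φ.s := by
      rw [← cancel_mono (Abelian.image.ι φ.s)]
      simp [r, Preadditive.zsmul_comp, Preadditive.comp_zsmul]
    have hst : φ.s ≫ r ≫ m = (b * a) • 𝟙 Y := by
      rw [reassoc_of% hr, Preadditive.zsmul_comp, hm, smul_smul]
    haveI : IsIso (L.map φ.s) := Localization.inverts L P.isoModSerre _ φ.hs
    refine ⟨b * a, φ.f ≫ r ≫ m, mul_ne_zero hb ha, ?_⟩
    have e2 : g ≫ L.map φ.s = L.map φ.f := by
      rw [hφ, MorphismProperty.LeftFraction.map_comp_map_s]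
    rw [L.map_comp, ← e2, Category.assoc, ← L.map_comp, hst, L.map_zsmul, L.map_id,
      Preadditive.comp_zsmul, Category.comp_id]

end Groth.Agent.S19244
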