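import Groth.Statements.S19246
import Mathlib

set_option autoImplicit false
universe u
open CohTop

set_option backward.isDefEq.respectTransparency false
namespace Groth.Agent.S19246

section
open CategoryTheory CategoryTheory.Limits Opposite TopologicalSpace

variable {X : TopCat.{u}}

/-- sections over an open -/
noncomputable abbrev sec (U : (Opens X)ᵒᵖ) : CohTop.Ab X ⥤ AddCommGrpCat.{u} :=
  sheafToPresheaf _ _ ⋙ (evaluation _ _).obj U

theorem isFlasque_limit (M : ℕᵒᵖ ⥤ CohTop.Ab X) (hF : ∀ n : ℕ, TopCat.Sheaf.IsFlasque (M.obj (op n)))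
    (hepi : ∀ n : ℕ, Epi (M.map (homOfLE (Nat.le_succ n)).op))
    (hker : ∀ n : ℕ, TopCat.Sheaf.IsFlasque (kernel (M.map (homOfLE (Nat.le_succ n)).op) : CohTop.Ab X)) :
    TopCat.Sheaf.IsFlasque (limit M : CohTop.Ab X) := by
  refine ⟨fun {V U} i => (AddCommGrpCat.epi_iff_surjective _).2 fun s => ?_⟩
  let res : ∀ F : CohTop.Ab X, (sec V).obj F →+ (sec U).obj F := fun F => (F.obj.map i).hom
  let π := fun (W : (Opens X)ᵒᵖ) (n : ℕᵒᵖ) (a : (sec W).obj (limit M)) => (sec W).map (limit.π M n) a
  have hlift : ∀ n : ℕ, ∀ a : (sec V).obj (M.obj (op n)),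
      res _ a = π U (op n) s →
      ∃ b : (sec V).obj (M.obj (op (n + 1))), (sec V).map (M.map (homOfLE (Nat.le_succ n)).op) b = a ∧
        res _ b = π U (op (n + 1)) s := by
    intro n a ha
    let g := M.map (homOfLE (Nat.le_succ n)).op
    let S : ShortComplex (CohTop.Ab X) := ShortComplex.mk (kernel.ι g) g (kernel.condition g)
    haveI : Epi g := hepi n
    have hS : S.ShortExact := { exact := ShortComplex.exact_kernel g, mono_f := inferInstanceAs (Mono (kernel.ι g)), epi_g := inferInstanceAs (Epi g) }
    haveI : TopCat.Sheaf.IsFlasque S.X₁ := hker n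
    obtain ⟨b₀, hb₀⟩ : ∃ b₀ : (sec V).obj (M.obj (op (n + 1))), (sec V).map g b₀ = a :=
      (AddCommGrpCat.epi_iff_surjective _).1 (TopCat.Sheaf.IsFlasque.epi_of_shortExact (U := V.unop) hS) a
    let d : (sec U).obj (M.obj (op (n + 1))) := res _ b₀ - π U (op (n + 1)) s
    have hnat : (sec U).map g (res _ b₀) = π U (op n) s := by
      have := ConcreteCategory.congr_hom (g.hom.naturality i) b₀
      refine this.trans ?_
      rw [← ha, ← hb₀]
      rfl
    have hcone : (sec U).map g (π U (op (n + 1)) s) = π U (op n) s := by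
      show ((sec U).map (limit.π M (op (n + 1))) ≫ (sec U).map g) s = _
      rw [← Functor.map_comp, limit.w]
    have hd : (sec U).map g d = 0 := by
      show (sec U).map g _ = 0
      rw [map_sub, hnat, hcone, sub_self]
    haveI : PreservesLimit (parallelPair g 0) (sec U) := inferInstance
    have hex : Function.Exact ((sec U).map (kernel.ι g)) ((sec U).map g) := by
      have h1 := ((Functor.preservesFiniteLimits_tfae (sec U)).out 3 0 :
        PreservesFiniteLimits (sec U) ↔ ∀ (S : ShortComplex (CohTop.Ab X)), S.ShortExact → (S.map (sec U)).Exact ∧ Mono ((sec U).map S.f)).1 inferInstance S hS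
      exact (ShortComplex.ab_exact_iff_function_exact _).1 h1.1
    obtain ⟨k, hk⟩ := (hex d).1 hd
    haveI := hker n
    obtain ⟨k', hk'⟩ := (AddCommGrpCat.epi_iff_surjective _).1
      (TopCat.Presheaf.IsFlasque.epi (F := (kernel g : CohTop.Ab X).obj) i) k
    refine ⟨b₀ - (sec V).map (kernel.ι g) k', ?_, ?_⟩
    · rw [map_sub]
      have h0 : (sec V).map g ((sec V).map (kernel.ι g) k') = 0 := by
        show ((sec V).map (kernel.ι g) ≫ (sec V).map g) k' = 0
        rw [← Functor.map_comp, kernel.condition, Functor.map_zero]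
        rfl
      rw [h0, sub_zero]
      exact hb₀
    · have h2 : res _ ((sec V).map (kernel.ι g) k') = d := by
        rw [← hk, ← hk']
        exact (ConcreteCategory.congr_hom ((kernel.ι g).hom.naturality i) k').symm
      rw [map_sub]
      refine (congrArg (_ - ·) h2).trans (sub_sub_cancel _ _)
  haveI := hF 0
  obtain ⟨t0, ht0⟩ := (AddCommGrpCat.epi_iff_surjective _).1 (TopCat.Presheaf.IsFlasque.epi (F := (M.obj (op 0)).obj) i)
    (π U (op 0) s)
  choose nxt hn1 hn2 using hlift
  let t : ∀ n : ℕ, {a : (sec V).obj (M.obj (op n)) // res _ a = π U (op n) s} :=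
    fun n => Nat.rec ⟨t0, ht0⟩ (fun n a => ⟨nxt n a.1 a.2, hn2 n a.1 a.2⟩) n
  let Fun : (Opens X)ᵒᵖ → CohTop.Ab X ⥤ Type u := fun W => sec W ⋙ forget AddCommGrpCat.{u}
  have hlim : ∀ W, IsLimit ((Fun W).mapCone (limit.cone M)) := fun W => isLimitOfPreserves (Fun W) (limit.isLimit M)
  have hsec : ∀ {a b : ℕᵒᵖ} (f : a ⟶ b), (sec V).map (M.map f) (t a.unop).1 = (t b.unop).1 := by
    suffices ∀ (m j : ℕ), (sec V).map (M.map (homOfLE (Nat.le_add_right m j)).op) (t (m + j)).1 = (t m).1 by
      intro a b f
      obtain ⟨j, hj⟩ := Nat.exists_eq_add_of_le (leOfHom f.unop)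
      obtain ⟨a⟩ := a
      obtain ⟨b⟩ := b
      simp only at hj
      subst hj
      rw [show f = (homOfLE (Nat.le_add_right b j)).op from Quiver.Hom.unop_inj (Subsingleton.elim _ _)]
      exact this b j
    intro m j
    induction j with
    | zero =>
      show (sec V).map (M.map (𝟙 (op m))) (t m).1 = (t m).1
      rw [CategoryTheory.Functor.map_id, CategoryTheory.Functor.map_id]
      rfl
    | succ j ih =>
      rw [show (homOfLE (Nat.le_add_right m (j + 1))).op = (homOfLE (Nat.le_succ (m + j))).op ≫ (homOfLE (Nat.le_add_right m j)).op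
        from Quiver.Hom.unop_inj (Subsingleton.elim _ _), Functor.map_comp, Functor.map_comp, ConcreteCategory.comp_apply]
      refine (congrArg _ ?_).trans ih
      exact hn1 (m + j) (t (m + j)).1 (t (m + j)).2
  obtain ⟨x, hx, -⟩ := (Types.isLimit_iff _).1 ⟨hlim V⟩ (fun n => (t n.unop).1) (fun f => hsec f)
  refine ⟨x, ?_⟩
  refine (Types.isLimitEquivSections (hlim U)).injective (Subtype.ext (funext fun n => ?_))
  show (sec U).map (limit.π M n) ((limit M : CohTop.Ab X).obj.map i x) = (sec U).map (limit.π M n) s
  refine ((ConcreteCategory.congr_hom ((limit.π M n).hom.naturality i) x)).trans ?_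
  refine (congrArg _ (hx n)).trans ?_
  exact (t n.unop).2

end


open CategoryTheory CategoryTheory.Limits TopologicalSpace Opposite in
/-- Let X be a topological space and (M_n)_{n ≥ 0} an inverse system of abelian sheaves on X indexed by
the natural numbers, such that every M_n is flasque and every transition map M_{n+1} ⟶ M_n is an
epimorphism of sheaves with flasque kernel. Then the limit sheaf lim_n M_n is flasque. (The source's
statement is about flasque de Rham–Witt systems on a scheme, whose definition is exactly this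
condition on the underlying tower of abelian sheaves; the additional structure plays no role in the
assertion or its proof, so the row is stated for towers of abelian sheaves on any space.) -/
theorem result {X : TopCat.{u}} (M : ℕᵒᵖ ⥤ CohTop.Ab X) :
    (∀ n : ℕ, TopCat.Sheaf.IsFlasque (M.obj (op n))) →
      (∀ n : ℕ, Epi (M.map (homOfLE (Nat.le_succ n)).op)) →
      (∀ n : ℕ, TopCat.Sheaf.IsFlasque (kernel (M.map (homOfLE (Nat.le_succ n)).op) : CohTop.Ab X)) →
      TopCat.Sheaf.IsFlasque (limit M : CohTop.Ab X) := by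
  intro hF hepi hker
  exact isFlasque_limit M hF hepi hker

end Groth.Agent.S19246
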