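import Groth.Statements.S19247
import Mathlib

set_option autoImplicit false
universe u
open CohTop

set_option backward.isDefEq.respectTransparency false
set_option backward.isDefEq.respectTransparency.types false

namespace Groth.Agent.S19247

open CategoryTheory CategoryTheory.Limits TopologicalSpace Opposite in
/-- Let X be a topological space and S : 0 ⟶ M' ⟶ M ⟶ M'' ⟶ 0 a short exact sequence of ℕ-indexed
inverse systems of abelian sheaves on X (short exact in the abelian category of such systems, i.e.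
levelwise), such that each of M', M, M'' is a flasque tower: every term is flasque and every
transition map is an epimorphism of sheaves with flasque kernel. Then the induced map lim M ⟶ lim
M'' is an epimorphism of sheaves, so that, lim being left exact, the sequence 0 ⟶ lim M' ⟶ lim M ⟶
lim M'' ⟶ 0 is exact. (The source's statement is the exactness of lim on flasque de Rham–Witt
systems on a scheme; the de Rham–Witt structure plays no role, so the row is stated for towers of
abelian sheaves on any space.) -/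
theorem result {X : TopCat.{u}}
    (S : ShortComplex (ℕᵒᵖ ⥤ CohTop.Ab X)) (hS : S.ShortExact) :
    (∀ n : ℕ, TopCat.Sheaf.IsFlasque (S.X₁.obj (op n))) →
      (∀ n : ℕ, Epi (S.X₁.map (homOfLE (Nat.le_succ n)).op)) →
      (∀ n : ℕ, TopCat.Sheaf.IsFlasque (kernel (S.X₁.map (homOfLE (Nat.le_succ n)).op) : CohTop.Ab X)) →
    (∀ n : ℕ, TopCat.Sheaf.IsFlasque (S.X₂.obj (op n))) →
      (∀ n : ℕ, Epi (S.X₂.map (homOfLE (Nat.le_succ n)).op)) →
      (∀ n : ℕ, TopCat.Sheaf.IsFlasque (kernel (S.X₂.map (homOfLE (Nat.le_succ n)).op) : CohTop.Ab X)) →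
    (∀ n : ℕ, TopCat.Sheaf.IsFlasque (S.X₃.obj (op n))) →
      (∀ n : ℕ, Epi (S.X₃.map (homOfLE (Nat.le_succ n)).op)) →
      (∀ n : ℕ, TopCat.Sheaf.IsFlasque (kernel (S.X₃.map (homOfLE (Nat.le_succ n)).op) : CohTop.Ab X)) →
      Epi (limMap S.g) := by
  intro h11 h12 h13 _ _ _ _ _ _
  rw [← TopCat.Sheaf.isLocallySurjective_iff_epi (limMap S.g)]
  refine (TopCat.Presheaf.isLocallySurjective_iff _).mpr fun U t x hx => ⟨U, le_rfl, ?_, hx⟩
  let E : CohTop.Ab X ⥤ Type u :=
    sheafToPresheaf _ AddCommGrpCat.{u} ⋙ (evaluation _ _).obj (op U) ⋙ forget AddCommGrpCat.{u}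
  have hlev : ∀ n, (S.map ((evaluation ℕᵒᵖ (CohTop.Ab X)).obj (op n))).ShortExact := fun n =>
    hS.map_of_exact _
  -- surjectivity of sections levelwise
  have hsurj : ∀ n, Function.Surjective ((S.g.app (op n)).hom.app (op U)) := fun n => by
    haveI : TopCat.Sheaf.IsFlasque (S.map ((evaluation ℕᵒᵖ (CohTop.Ab X)).obj (op n))).X₁ := h11 n
    exact (AddCommGrpCat.epi_iff_surjective _).mp (TopCat.Sheaf.IsFlasque.epi_of_shortExact (hlev n))
  have hsucc : ∀ n : ℕ, Function.Surjective ((S.X₁.map (homOfLE (Nat.le_succ n)).op).hom.app (op U)) := fun n => by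
    let φ := S.X₁.map (homOfLE (Nat.le_succ n)).op
    haveI := h12 n
    have hK : (ShortComplex.mk (kernel.ι φ) φ (kernel.condition φ)).ShortExact :=
      { exact := ShortComplex.exact_of_f_is_kernel _ (kernelIsKernel φ) }
    haveI : TopCat.Sheaf.IsFlasque (ShortComplex.mk (kernel.ι φ) φ (kernel.condition φ)).X₁ := h13 n
    exact (AddCommGrpCat.epi_iff_surjective _).mp (TopCat.Sheaf.IsFlasque.epi_of_shortExact hK)
  let tt : ∀ n, (S.X₃.obj (op n)).obj.obj (op U) := fun n => (limit.π S.X₃ (op n)).hom.app (op U) t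
  have htt : ∀ n, (S.X₃.map (homOfLE (Nat.le_succ n)).op).hom.app (op U) (tt (n + 1)) = tt n := fun n =>
    ConcreteCategory.congr_hom (congrArg (fun φ => φ.hom.app (op U)) (limit.w S.X₃ (homOfLE (Nat.le_succ n)).op)) t
  have step : ∀ n, ∀ y : (S.X₂.obj (op n)).obj.obj (op U), (S.g.app (op n)).hom.app (op U) y = tt n →
      ∃ y' : (S.X₂.obj (op (n + 1))).obj.obj (op U), (S.g.app (op (n + 1))).hom.app (op U) y' = tt (n + 1) ∧
        (S.X₂.map (homOfLE (Nat.le_succ n)).op).hom.app (op U) y' = y := by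
    intro n y hy
    obtain ⟨z, hz⟩ := hsurj (n + 1) (tt (n + 1))
    have hnatg : (S.g.app (op n)).hom.app (op U) ((S.X₂.map (homOfLE (Nat.le_succ n)).op).hom.app (op U) z) =
        (S.X₃.map (homOfLE (Nat.le_succ n)).op).hom.app (op U) ((S.g.app (op (n + 1))).hom.app (op U) z) :=
      ConcreteCategory.congr_hom (congrArg (fun φ => φ.hom.app (op U)) (S.g.naturality (homOfLE (Nat.le_succ n)).op)) z
    have h0 : (S.g.app (op n)).hom.app (op U)
        ((S.X₂.map (homOfLE (Nat.le_succ n)).op).hom.app (op U) z - y) = 0 := by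
      rw [map_sub, hnatg, hz, htt, hy, sub_self]
    obtain ⟨a, ha⟩ := TopCat.Sheaf.sections_exact_of_left_exact (hlev n).1 (hlev n).2 _ h0
    obtain ⟨b, rfl⟩ := hsucc n a
    refine ⟨z - (S.f.app (op (n + 1))).hom.app (op U) b, ?_, ?_⟩
    · have h1 : (S.g.app (op (n + 1))).hom.app (op U) ((S.f.app (op (n + 1))).hom.app (op U) b) = 0 :=
        ConcreteCategory.congr_hom (congrArg (fun φ => φ.hom.app (op U)) (congrArg (fun φ => φ.app (op (n + 1))) S.zero)) b
      rw [map_sub, hz, h1, sub_zero]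
    · have hnatf : (S.X₂.map (homOfLE (Nat.le_succ n)).op).hom.app (op U) ((S.f.app (op (n + 1))).hom.app (op U) b) =
          (S.f.app (op n)).hom.app (op U) ((S.X₁.map (homOfLE (Nat.le_succ n)).op).hom.app (op U) b) :=
        (ConcreteCategory.congr_hom (congrArg (fun φ => φ.hom.app (op U)) (S.f.naturality (homOfLE (Nat.le_succ n)).op)) b).symm
      rw [map_sub, hnatf]
      refine sub_eq_iff_eq_add'.mpr ?_
      exact sub_eq_iff_eq_add.mp ha.symm
  obtain ⟨y0, hy0⟩ := hsurj 0 (tt 0)
  choose F hF using step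
  let ys : ∀ n, {y : (S.X₂.obj (op n)).obj.obj (op U) // (S.g.app (op n)).hom.app (op U) y = tt n} := fun n =>
    Nat.rec ⟨y0, hy0⟩ (fun n p => ⟨F n p.1 p.2, (hF n p.1 p.2).1⟩) n
  have hys : ∀ n, (S.X₂.map (homOfLE (Nat.le_succ n)).op).hom.app (op U) (ys (n + 1)).1 = (ys n).1 := fun n =>
    (hF n (ys n).1 (ys n).2).2
  have hcomp : ∀ (m n : ℕ) (h : m ≤ n), (S.X₂.map (homOfLE h).op).hom.app (op U) (ys n).1 = (ys m).1 := by
    intro m n h
    induction h with
    | refl =>
      rw [show (homOfLE (le_refl m)).op = 𝟙 (op m) from rfl, S.X₂.map_id]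
      rfl
    | @step n h ih =>
      rw [← ih, ← hys n, show (homOfLE (h.step : m ≤ n + 1)).op = (homOfLE (Nat.le_succ n)).op ≫ (homOfLE h).op from rfl,
        S.X₂.map_comp]
      rfl
  let hl := isLimitOfPreserves E (limit.isLimit S.X₂)
  let s : (S.X₂ ⋙ E).sections := ⟨fun j => (ys j.unop).1, fun {j j'} f => hcomp j'.unop j.unop (leOfHom f.unop)⟩
  obtain ⟨w, hw⟩ : ∃ w : (limit S.X₂).obj.obj (op U), ∀ n, (limit.π S.X₂ (op n)).hom.app (op U) w = (ys n).1 :=
    ⟨(Types.isLimitEquivSections hl).symm s, fun n => Types.isLimitEquivSections_symm_apply hl s (op n)⟩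
  refine ⟨w, ?_⟩
  have hfin : (limMap S.g).hom.app (op U) w = t := by
    refine (Types.isLimitEquivSections (isLimitOfPreserves E (limit.isLimit S.X₃))).injective (Subtype.ext (funext fun j => ?_))
    show (limit.π S.X₃ j).hom.app (op U) ((limMap S.g).hom.app (op U) w) = (limit.π S.X₃ j).hom.app (op U) t
    refine (ConcreteCategory.congr_hom (congrArg (fun φ => φ.hom.app (op U)) (limMap_π S.g j)) w).trans ?_
    show (S.g.app j).hom.app (op U) ((limit.π S.X₂ j).hom.app (op U) w) = _
    obtain ⟨n⟩ := j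
    rw [hw n, (ys n).2]
  rw [hfin]
  simp

end Groth.Agent.S19247
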